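import Groth.Statements.S1925
import Groth.Agent.CycDim.Fund

set_option autoImplicit false
universe u
open CategoryTheory AlgebraicGeometry
open Cyc

namespace Groth.Agent.S1925

open Groth.Agent.RefDiv (bijective_germ_of_isGen span_eq_top_of_surjective exists_smul_of_span)
open Groth.Agent.WeakAssLib (mgerm)
open Groth.Agent.RefStalk (msp msp_germ msp_smul)
open Groth.Agent.C1Cap (rdu)
open AlgebraicGeometry CategoryTheory
set_option backward.isDefEq.respectTransparency false

/-- Let L be an invertible O_Y-module and s a global section of L; assume δ ≤ k + 1 on Y, δ ≤ k on the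
zero locus of s, and multiplication by the germ of s injective on O_{Y,ξ} at the points ξ of
δ-dimension k. Writing [Y]_{k+1} = Σ n_i[Y_i] over the irreducible components of δ-dimension k + 1,
one has [Z(s)]_k = Σ n_i [Z(s|_{Y_i})]_k as k-cycles on Y; here the right side is computed as c_1(L)
∩ [Y]_{k+1} with the rational sections induced by s. Here L(ξ) = L_ξ/𝔪_ξ L_ξ is the space of
rational sections of L on the closure of ξ, div_{L|W}(s) and c_1(L) ∩ α are computed as coefficient
functions from chosen nonzero rational sections (Cyc.secDivFun, Cyc.c1CapFun), and results are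
compared up to rational equivalence for any cycles with those coefficients. A pair (X, δ) with
Cyc.IsSetup plays the role of a scheme locally of finite type over a fixed base with a dimension
function (X locally Noetherian with universally catenary local rings, δ a dimension function), and
Cyc.DeltaCompat records that the dimension function upstairs is the induced one. -/
theorem result (Y : Scheme.{u}) (δ : Y → ℤ) (hY : Cyc.IsSetup Y δ) (L : Y.Modules) (hL : PicF.IsInvertible L) (k : ℤ) (hdim : ∀ y : Y, δ y ≤ k + 1) (s : L.presheaf.obj (Opposite.op ⊤)) (hZ : ∀ y : Y, (L.presheaf.germ ⊤ y trivial) s ∈ IsLocalRing.maximalIdeal (Y.presheaf.stalk y) • (⊤ : Submodule (Y.presheaf.stalk y) (L.presheaf.stalk y)) → δ y ≤ k) (hreg : ∀ y : Y, δ y = k → Function.Injective (fun a : Y.presheaf.stalk y => a • (L.presheaf.germ ⊤ y trivial) s)) : Cyc.zeroSectionFun δ k L s = Cyc.c1CapFun δ L (Cyc.subschemeFun δ (k + 1) (𝟙 Y)) (fun ξ => Submodule.Quotient.mk ((L.presheaf.germ ⊤ ξ trivial) s)) := by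

  haveI := hY.1
  classical
  have hfund : ∀ ξ : Y, Cyc.subschemeFun δ (k + 1) (𝟙 Y) ξ =
      if δ ξ = k + 1 then ((Module.length (Y.presheaf.stalk ξ) (Y.presheaf.stalk ξ)).toNat : ℤ) else 0 := by
    intro ξ
    unfold Cyc.subschemeFun
    split
    · rw [show {z : Y | (𝟙 Y : Y ⟶ Y) z = ξ} = {ξ} from Set.ext fun z => Iff.rfl, finsum_mem_singleton]
    · rfl
  funext x
  unfold Cyc.c1CapFun
  simp only [hfund]
  by_cases hx : δ x = k
  · obtain ⟨A, e, hxA, he⟩ := TMul.exists_isGen hL x
    obtain ⟨f, hf⟩ := (bijective_germ_of_isGen he hxA).2 (mgerm L (show x ∈ (⊤ : Y.Opens) from trivial) s)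
    change f • mgerm L hxA e = _ at hf
    have hf0 : f ∈ nonZeroDivisors (Y.presheaf.stalk x) := by
      rw [mem_nonZeroDivisors_iff_right]
      intro c hc
      refine hreg x hx (show c • (L.presheaf.germ ⊤ x trivial) s = (0 : Y.presheaf.stalk x) • _ from ?_)
      rw [zero_smul]
      show c • mgerm L (show x ∈ (⊤ : Y.Opens) from trivial) s = 0
      rw [← hf, smul_smul, hc, zero_smul]
    have hLHS : Cyc.zeroSectionFun δ k L s x =
        ((Module.length (Y.presheaf.stalk x) (Y.presheaf.stalk x ⧸ Ideal.span {f})).toNat : ℤ) := by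
      have ht : ∃ t : L.presheaf.stalk x, Submodule.span (Y.presheaf.stalk x) {t} = ⊤ :=
        ⟨_, span_eq_top_of_surjective (bijective_germ_of_isGen he hxA).2⟩
      obtain ⟨v, hv⟩ := (bijective_germ_of_isGen he hxA).2 (Classical.choose ht)
      change v • mgerm L hxA e = Classical.choose ht at hv
      obtain ⟨w, hw⟩ := exists_smul_of_span (Classical.choose_spec ht) (mgerm L hxA e)
      have hwv : w * v = 1 := (bijective_germ_of_isGen he hxA).1
        (show (w * v) • mgerm L hxA e = (1 : Y.presheaf.stalk x) • mgerm L hxA e by rw [mul_smul, hv, hw, one_smul])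
      have hex : ∃ g : Y.presheaf.stalk x, (L.presheaf.germ ⊤ x trivial) s = g • Classical.choose ht := by
        refine ⟨f * w, ?_⟩
        show mgerm L (show x ∈ (⊤ : Y.Opens) from trivial) s = _
        rw [mul_smul, hw, hf]
      unfold Cyc.zeroSectionFun
      simp only [if_pos hx, dif_pos ht, dif_pos hex]
      have hg : Classical.choose hex * v = f := by
        refine (bijective_germ_of_isGen he hxA).1 ?_
        show (Classical.choose hex * v) • mgerm L hxA e = f • mgerm L hxA e
        rw [mul_smul, hv, ← Classical.choose_spec hex, hf]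
      rw [← hg, Ideal.span_singleton_mul_right_unit (IsUnit.of_mul_eq_one_right w hwv)]
    rw [hLHS, Groth.Agent.CycDim.length_quot_eq_sum hY.2.2 hdim hx hf0]
    let G : Y → ℤ := fun ξ => (if δ ξ = k + 1 then ((Module.length (Y.presheaf.stalk ξ) (Y.presheaf.stalk ξ)).toNat : ℤ)
      else 0) * Cyc.secDivFun δ L ξ (Submodule.Quotient.mk ((L.presheaf.germ ⊤ ξ trivial) s)) x
    refine ((finsum_congr fun ξ => ?_).trans
      (finsum_subtype_eq_finsum_cond (f := G) (fun ξ => ξ ⤳ x ∧ δ ξ = k + 1))).trans (finsum_congr fun ξ => ?_)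
    · have h := ξ.2.1
      have hs : (Submodule.Quotient.mk ((L.presheaf.germ ⊤ ξ.1 trivial) s) : Cyc.secFibre L ξ.1) =
          (Y.presheaf.stalkSpecializes h).hom f • Submodule.Quotient.mk (mgerm L (h.mem_open A.2 hxA) e) := by
        refine (congrArg (fun z => (Submodule.Quotient.mk z : Cyc.secFibre L ξ.1)) ?_).trans
          (Submodule.Quotient.mk_smul _ _ _)
        show mgerm L (show ξ.1 ∈ (⊤ : Y.Opens) from trivial) s = _
        rw [← msp_germ L h (show x ∈ (⊤ : Y.Opens) from trivial) s, ← hf, msp_smul, msp_germ L h hxA e]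
      show _ = G ξ.1
      simp only [G, if_pos ξ.2.2, Cyc.secDivFun]
      rw [dif_pos ⟨h, by have := ξ.2.2; omega⟩, Groth.Agent.C1Cap.secOrdAt_eq he h hxA hs]
    · rw [finsum_eq_if]
      split
      · rfl
      · next hn =>
        show (0 : ℤ) = G ξ
        simp only [G]
        split
        · next hk =>
          rw [Cyc.secDivFun, dif_neg (fun h' => hn ⟨h'.1, hk⟩), mul_zero]
        · rw [zero_mul]
  · rw [Cyc.zeroSectionFun, if_neg hx]
    refine (finsum_eq_zero_of_forall_eq_zero fun ξ => ?_).symm
    split_ifs with h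
    · rw [Cyc.secDivFun, dif_neg (fun h' => hx (by omega)), mul_zero]
    · rw [zero_mul]

end Groth.Agent.S1925
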