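import Groth.Statements.S19253
import Groth.Agent.AcycDef.SumPreserve

set_option autoImplicit false
universe w w' v u
open CategoryTheory CategoryTheory.Limits
open CohDer

namespace Groth.Agent.S19253

/-- (iii) ⇒ (iv): let A be a Grothendieck abelian category and F : A ⥤ Ab an additive left exact functor
such that every right derived functor RⁿF, n ≥ 0, preserves small filtered colimits; let RF : D(A) ⥤
D(Ab) be the total right derived functor of F on unbounded derived categories (its existence is an
instance hypothesis). If RF preserves countable direct sums (countable direct sums in D(A) being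
assumed to exist), then for every cochain complex K all of whose terms are F-acyclic (RⁱF(Kᵐ) = 0
for i > 0 and all m) the canonical map F(K) ⟶ RF(K) is an isomorphism in D(Ab). -/
theorem result
    {A : Type u} [Category.{v} A] [Abelian A] [IsGrothendieckAbelian.{v} A] [HasDerivedCategory.{w} A]
    [HasDerivedCategory.{w'} AddCommGrpCat.{v}]
    (F : A ⥤ AddCommGrpCat.{v}) [F.Additive] [PreservesFiniteLimits F]
    (hcolim : ∀ (n : ℕ) (J : Type v) [SmallCategory J] [IsFiltered J], PreservesColimitsOfShape J (F.rightDerived n))
    [(F.mapHomotopyCategory (ComplexShape.up ℤ) ⋙ DerivedCategory.Qh).HasRightDerivedFunctor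
      (HomotopyCategory.quasiIso A (ComplexShape.up ℤ))]
    [HasColimitsOfShape (Discrete ℕ) (DerivedCategory A)]
    [PreservesColimitsOfShape (Discrete ℕ) ((F.mapHomotopyCategory (ComplexShape.up ℤ) ⋙ DerivedCategory.Qh).totalRightDerived
      DerivedCategory.Qh (HomotopyCategory.quasiIso A (ComplexShape.up ℤ)))]
    (K : CochainComplex A ℤ) (hK : ∀ (m : ℤ) (i : ℕ), 0 < i → IsZero ((F.rightDerived i).obj (K.X m))) :
    IsIso (((F.mapHomotopyCategory (ComplexShape.up ℤ) ⋙ DerivedCategory.Qh).totalRightDerivedUnit DerivedCategory.Qh
      (HomotopyCategory.quasiIso A (ComplexShape.up ℤ))).app ((HomotopyCategory.quotient A (ComplexShape.up ℤ)).obj K)) := by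
  have hF : ∀ (J : Type v) [SmallCategory J] [IsFiltered J], PreservesColimitsOfShape J F := fun J _ _ =>
    haveI := hcolim 0 J
    preservesColimitsOfShape_of_natIso F.rightDerivedZeroIsoSelf
  haveI := hF (AsSmall.{v} ℕ)
  haveI : PreservesColimitsOfShape ℕ F :=
    preservesColimitsOfShape_of_equiv (AsSmall.equiv.{0, 0, v} (C := ℕ)).symm F
  haveI : PreservesFiniteCoproducts F := F.preservesFiniteCoproductsOfAdditive
  haveI := Groth.Agent.AcycDef.preservesCoproducts_of_filtered F hF (ULift.{v} ℕ)
  haveI : PreservesColimitsOfShape (Discrete ℕ) F :=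
    preservesColimitsOfShape_of_equiv (Discrete.equivalence (Equiv.ulift.{v} (α := ℕ))) F
  exact Groth.Agent.AcycDef.isIso_unit_of_acyc F _ _ K hK

end Groth.Agent.S19253
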