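import Groth.Statements.S19255
import Groth.Agent.EtPBC.RatDim
import Mathlib

set_option autoImplicit false
set_option backward.isDefEq.respectTransparency false
set_option backward.isDefEq.respectTransparency.types false
universe u
open CategoryTheory CategoryTheory.Limits AlgebraicGeometry Opposite
open EtCd

namespace Groth.Agent.S19255

/-- Let X be a Noetherian scheme of Krull dimension at most d and F an abelian sheaf on the small etale
site of X which is a sheaf of ℚ-vector spaces, i.e. multiplication by every positive integer is
bijective on the sections of F over every etale X-scheme. Then Hⁱ(X_et, F) = 0 for every i > d. -/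
theorem result (X : Scheme.{u}) [IsNoetherian X] (d : ℕ)
    (hd : topologicalKrullDim ↥X ≤ d) (F : EtCoh.Ab X)
    (hF : ∀ (U : X.Etale) (m : ℕ), 0 < m → Function.Bijective (fun s : EtCoh.sect F U => m • s))
    (i : ℕ) (hi : d < i) : Subsingleton (EtCoh.H X F i) := by
  refine Groth.Agent.EtPBC.RatDim.subsingleton_H_of_divisible hd F (fun m hm => ?_) i hi
  haveI : ∀ U, IsIso ((m • 𝟙 F).hom.app U) := fun U => by
    rw [ConcreteCategory.isIso_iff_bijective]
    exact hF U.unop m hm
  haveI : IsIso (m • 𝟙 F).hom := NatIso.isIso_of_isIso_app _
  haveI : IsIso ((sheafToPresheaf _ _).map (m • 𝟙 F)) := this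
  exact isIso_of_reflects_iso _ (sheafToPresheaf _ _)

end Groth.Agent.S19255
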