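import Groth.Statements.S19258
import Mathlib.Topology.Instances.AddCircle.Defs
import Mathlib.Topology.Order
import Mathlib.GroupTheory.Archimedean
-- import your own Groth.Agent.* helpers here

set_option autoImplicit false
set_option linter.style.haveILetI false
set_option linter.unusedSimpArgs false
universe u
open PontDual

namespace Groth.Agent.S19258

/-- Let G and G' be abelian groups such that every element of G' has finite order, and let β : G' →
Hom(G, ℚ/ℤ) be an injective homomorphism (equivalently a pairing G' × G → ℚ/ℤ with no left kernel).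
Endow G with the weak topology defined by G': the coarsest topology for which every character β(f),
f ∈ G', is continuous when ℚ/ℤ carries the discrete topology. Then every homomorphism χ : G → ℚ/ℤ
that is continuous for this topology on G and the discrete topology on ℚ/ℤ equals β(f) for some f ∈
G', so that β is a bijection from G' onto the group of continuous characters of G. -/
theorem result
    (G : Type u) (G' : Type u) [AddCommGroup G] [AddCommGroup G'] (hG' : IsAddTorsion G')
    (β : G' →+ (G →+ AddCircle (1 : ℚ))) (hβ : Function.Injective β)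
    (χ : G →+ AddCircle (1 : ℚ))
    (hχ : @Continuous G (AddCircle (1 : ℚ)) (⨅ f' : G', TopologicalSpace.induced (fun x : G => β f' x) ⊥) ⊥ χ) :
    ∃ f' : G', β f' = χ := by
  classical
  have key : ∀ (s : Finset G') (ψ : G →+ AddCircle (1 : ℚ)),
      (∀ x, (∀ f ∈ s, β f x = 0) → ψ x = 0) → ∃ f' : G', β f' = ψ := by
    intro s
    induction s using Finset.induction with
    | empty =>
      intro ψ hψ
      exact ⟨0, AddMonoidHom.ext fun x => by simp [hψ x (by simp)]⟩
    | @insert a s ha ih =>
      intro ψ hψ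
      let K : AddSubgroup G := ⨅ f ∈ s, (β f).ker
      have hK : ∀ x, x ∈ K ↔ ∀ f ∈ s, β f x = 0 := fun x => by simp [K, AddSubgroup.mem_iInf]
      obtain ⟨N, hN, hNa⟩ : ∃ N : ℕ, 0 < N ∧ N • a = 0 :=
        ⟨addOrderOf a, (hG' a).addOrderOf_pos, addOrderOf_nsmul_eq_zero a⟩
      let u : AddCircle (1 : ℚ) := (((1 : ℚ) / N : ℚ) : AddCircle (1 : ℚ))
      have hlat : ∀ x : G, ∃ i : ℤ, β a x = i • u := by
        intro x
        have h0 : N • β a x = 0 := by
          rw [← AddMonoidHom.nsmul_apply, ← map_nsmul, hNa, map_zero, AddMonoidHom.zero_apply]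
        obtain ⟨q, hq⟩ := QuotientAddGroup.mk_surjective (β a x)
        rw [← hq, ← QuotientAddGroup.mk_nsmul, QuotientAddGroup.eq_zero_iff] at h0
        obtain ⟨i, hi⟩ := AddSubgroup.mem_zmultiples_iff.1 h0
        refine ⟨i, ?_⟩
        rw [← hq]
        change _ = i • (((1 : ℚ) / N : ℚ) : AddCircle (1 : ℚ))
        rw [← QuotientAddGroup.mk_zsmul]
        congr 1
        have hN' : (N : ℚ) ≠ 0 := Nat.cast_ne_zero.2 hN.ne'
        simp only [nsmul_eq_mul, zsmul_eq_mul, mul_one] at hi ⊢
        rw [hi]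
        field_simp
      -- the subgroup of `ℤ` of achieved multiples
      let I : AddSubgroup ℤ :=
        { carrier := {i | ∃ x ∈ K, β a x = i • u}
          zero_mem' := ⟨0, zero_mem K, by simp⟩
          add_mem' := fun {i j} ⟨x, hx, hi⟩ ⟨y, hy, hj⟩ =>
            ⟨x + y, add_mem hx hy, by rw [map_add, hi, hj, add_smul]⟩
          neg_mem' := fun {i} ⟨x, hx, hi⟩ => ⟨-x, neg_mem hx, by rw [map_neg, hi, neg_smul]⟩ }
      obtain ⟨d, hd⟩ := Int.subgroup_cyclic I
      rw [← AddSubgroup.zmultiples_eq_closure] at hd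
      have hdI : d ∈ I := hd ▸ AddSubgroup.mem_zmultiples d
      obtain ⟨x₀, hx₀, hgx₀⟩ := hdI
      have hNI : (N : ℤ) ∈ I := ⟨0, zero_mem K, by
        rw [map_zero]
        change (0 : AddCircle (1 : ℚ)) = (N : ℤ) • (((1 : ℚ) / N : ℚ) : AddCircle (1 : ℚ))
        rw [← QuotientAddGroup.mk_zsmul, eq_comm, QuotientAddGroup.eq_zero_iff]
        refine AddSubgroup.mem_zmultiples_iff.2 ⟨1, ?_⟩
        have hN' : (N : ℚ) ≠ 0 := Nat.cast_ne_zero.2 hN.ne'
        simp only [zsmul_eq_mul, mul_one]
        push_cast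
        field_simp⟩
      rw [hd, AddSubgroup.mem_zmultiples_iff] at hNI
      obtain ⟨e, he⟩ := hNI
      rw [smul_eq_mul] at he
      have hd0 : d ≠ 0 := fun h => by rw [h, mul_zero] at he; omega
      have he0 : e ≠ 0 := fun h => by rw [h, zero_mul] at he; omega
      -- `e • x₀` is killed by `β a`, hence by `ψ`
      have hkill : ψ (e • x₀) = 0 := by
        refine hψ _ ?_
        intro f hf
        rcases Finset.mem_insert.1 hf with rfl | hf
        · rw [map_zsmul, hgx₀, smul_smul, he]
          change (N : ℤ) • (((1 : ℚ) / N : ℚ) : AddCircle (1 : ℚ)) = 0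
          rw [← QuotientAddGroup.mk_zsmul, QuotientAddGroup.eq_zero_iff]
          refine AddSubgroup.mem_zmultiples_iff.2 ⟨1, ?_⟩
          have hN' : (N : ℚ) ≠ 0 := Nat.cast_ne_zero.2 hN.ne'
          simp only [zsmul_eq_mul, mul_one]
          push_cast
          field_simp
        · exact (hK _).1 (K.zsmul_mem hx₀ e) f hf
      obtain ⟨m, hm⟩ : ∃ m : ℤ, ψ x₀ = m • β a x₀ := by
        obtain ⟨q, hq⟩ := QuotientAddGroup.mk_surjective (ψ x₀)
        rw [map_zsmul, ← hq, ← QuotientAddGroup.mk_zsmul, QuotientAddGroup.eq_zero_iff] at hkill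
        obtain ⟨i, hi⟩ := AddSubgroup.mem_zmultiples_iff.1 hkill
        refine ⟨i, ?_⟩
        rw [← hq, hgx₀]
        change _ = i • d • (((1 : ℚ) / N : ℚ) : AddCircle (1 : ℚ))
        rw [← QuotientAddGroup.mk_zsmul, ← QuotientAddGroup.mk_zsmul]
        congr 1
        simp only [zsmul_eq_mul, mul_one] at hi ⊢
        have he' : ((e : ℚ)) * d = N := by exact_mod_cast he
        have hN' : (N : ℚ) ≠ 0 := Nat.cast_ne_zero.2 hN.ne'
        rw [mul_one_div, mul_div_assoc', eq_div_iff hN', ← he', hi]
        ring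
      obtain ⟨f', hf'⟩ := ih (ψ - m • β a) (fun x hx => by
        have hxK : x ∈ K := (hK x).2 hx
        obtain ⟨i, hi⟩ := hlat x
        have hiI : i ∈ I := ⟨x, hxK, hi⟩
        rw [hd, AddSubgroup.mem_zmultiples_iff] at hiI
        obtain ⟨t, ht⟩ := hiI
        rw [smul_eq_mul] at ht
        have hz : ψ (x - t • x₀) = 0 := by
          refine hψ _ fun f hf => ?_
          rcases Finset.mem_insert.1 hf with rfl | hf
          · rw [map_sub, map_zsmul, hgx₀, hi, smul_smul, ht, sub_self]
          · rw [map_sub, map_zsmul, hx f hf, (hK x₀).1 hx₀ f hf, smul_zero, sub_zero]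
        rw [map_sub, map_zsmul, sub_eq_zero] at hz
        rw [AddMonoidHom.sub_apply, AddMonoidHom.zsmul_apply, hz, hm, hi, hgx₀, ← ht,
          smul_smul, smul_smul, smul_smul, sub_eq_zero]
        congr 1
        ring)
      exact ⟨f' + m • a, by rw [map_add, map_zsmul, hf', sub_add_cancel]⟩
  -- continuity gives finitely many characters
  letI : TopologicalSpace G := ⨅ f' : G', TopologicalSpace.induced (fun x : G => β f' x) ⊥
  have hopen : IsOpen (χ ⁻¹' {0}) := @IsOpen.preimage _ _ _ ⊥ _ hχ _ (by trivial)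
  have hmem : χ ⁻¹' {0} ∈ nhds (0 : G) := hopen.mem_nhds (by simp)
  rw [nhds_iInf, Filter.mem_iInf] at hmem
  obtain ⟨I, hIfin, V, hV, hVU⟩ := hmem
  refine key hIfin.toFinset χ fun x hx => ?_
  have : x ∈ ⋂ i : I, V i := by
    refine Set.mem_iInter.2 fun i => ?_
    obtain ⟨W, hW, hWV⟩ := (@mem_nhds_induced _ _ ⊥ (fun x : G => β i.1 x) 0 (V i)).1 (hV i)
    refine hWV ?_
    have h0 : β i.1 x = 0 := hx i.1 (hIfin.mem_toFinset.2 i.2)
    simp only [Set.mem_preimage, h0]
    simpa using @mem_of_mem_nhds _ ⊥ _ _ hW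
  rw [← hVU] at this
  simpa using this

end Groth.Agent.S19258
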