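import Groth.Statements.S19261
import Groth.Agent.EtASLef.Main
import Groth.Agent.EtPBC.CdPGaCompare
import Groth.Agent.HodgeCI.CIFacts
import Groth.Agent.ProjCech.Main

set_option autoImplicit false
set_option backward.isDefEq.respectTransparency false
set_option backward.isDefEq.respectTransparency.types false
set_option linter.auxLemma false
universe u
open CategoryTheory CategoryTheory.Limits AlgebraicGeometry
open EtCoh

namespace Groth.Agent.S19261

attribute [local instance 100000] EtCoh.H._proof_1 Groth.Agent.EtMV.hext
attribute [local instance 200000] Groth.Agent.EtMV.hextAb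

/-- In the case q = 0 (constant p-torsion coefficients), let k be a field of characteristic p > 0 whose
Frobenius endomorphism is finite, c ≤ N, and G_1, …, G_c homogeneous forms of positive degrees in
the homogeneous coordinates of P = P^N_k such that for every s ≤ c the common zero scheme V(G_1, …,
G_s) is smooth over k of relative dimension N - s (a flag of smooth complete intersections ending in
Y = V(G_1, …, G_c), of dimension d = N - c). Then for every m ≥ 1 the restriction map H^i_et(P,
Z/p^m) → H^i_et(Y, Z/p^m) along Y → P is bijective for all i ≤ d - 1. (The logarithmic Hodge–Witt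
sheaf of degree zero is the constant sheaf Z/p^m; the source speaks of a smooth complete
intersection and argues through such a flag. Exactness of pullback of abelian étale sheaves is
carried as an instance hypothesis.) -/
theorem result
    (k : Type u) [Field k] (p : ℕ) [Fact p.Prime] [CharP k p] (hF : (frobenius k p).Finite)
    (N c : ℕ) (hc : c ≤ N) (a : Fin c → ℕ) (ha : ∀ j, 1 ≤ a j) (G : ∀ j : Fin c, LefPen.Form N k (a j))
    (hflag : ∀ (s : ℕ) (hs : s ≤ c), SmoothOfRelativeDimension (N - s)
      ((LefPen.ciIdeal (fun j : Fin s => G (Fin.castLE hs j))).subschemeι ≫ CohB1.ProjSpace.toSpec N k))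
    (m : ℕ) (hm : 1 ≤ m) [PreservesFiniteLimits (EtCoh.pull (LefPen.ciIdeal G).subschemeι)]
    (i : ℕ) (hi : i + c + 1 ≤ N) :
    Function.Bijective (EtCore.Hpull (LefPen.ciIdeal G).subschemeι (EtCoh.const (CohB1.ProjSpace N k) (ZMod (p ^ m))) i) := by
  have hci : CompInt.IsCI G := by
    haveI := HodgeCI.nonempty_ciIdeal hc ha G
    haveI : SmoothOfRelativeDimension (N - c) ((LefPen.ciIdeal G).subschemeι ≫ CohB1.ProjSpace.toSpec N k) :=
      hflag c le_rfl
    exact CompInt.isCI_of_dim G ha hc
      (ExtFund.topologicalKrullDim_eq_of_smooth ((LefPen.ciIdeal G).subschemeι ≫ CohB1.ProjSpace.toSpec N k) (N - c))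
  have hgood := CompInt.good hci
  haveI := hci.nonempty
  set ι := (LefPen.ciIdeal G).subschemeι
  haveI : IsIso (CohB1.ProjSpace.toSpec N k).appTop := Groth.Agent.S0024.result N k
  have hbij : Function.Bijective ι.appTop := by
    have h := HodgeCI.bijective_appTop_comp ι hgood (by omega)
    rw [Scheme.Hom.comp_appTop] at h
    exact (Function.Bijective.of_comp_iff _
      (ConcreteCategory.bijective_of_isIso (CohB1.ProjSpace.toSpec N k).appTop)).1 h
  have hP : (p : Γ(CohB1.ProjSpace N k, ⊤)) = 0 := by
    rw [← map_natCast (Coh.toGlobal (CohB1.ProjSpace.toSpec N k)) p, CharP.cast_eq_zero, map_zero]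
  have hY : (p : Γ((LefPen.ciIdeal G).subscheme, ⊤)) = 0 := by
    rw [← map_natCast ι.appTop.hom p, hP, map_zero]
  refine ((EtASLef.bij_and_inj_zmod_pow ι p hP hY hbij (N - c) (fun q hq hqD => ?_) (fun q hq hqD => ?_) m hm i).1
    (by omega))
  · obtain ⟨E, -⟩ := EtPBC.exists_gaEquiv (CohB1.ProjSpace N k) q
    obtain ⟨o⟩ : Nonempty (Twist.twistProjSpace N k 0 ≅ Coh.structureModule (CohB1.ProjSpace N k)) :=
      GrT.nonempty_twist_zero_iso (𝒜 := CohB1.polyGrading N k)
    haveI := CohQC.hh_subsingleton_of_iso o q (ProjCech.twist_vanish (R := k) N 0 q (by omega) (by omega))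
    exact E.toEquiv.subsingleton
  · obtain ⟨E, -⟩ := EtPBC.exists_gaEquiv (LefPen.ciIdeal G).subscheme q
    haveI := HodgeCI.subsingleton_structure ι hgood hq hqD
    exact E.toEquiv.subsingleton

end Groth.Agent.S19261
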