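import Groth.Statements.S19264
-- import your own Groth.Agent.* helpers here
import Groth.Agent.WittFilUFD.Basic

set_option autoImplicit false
universe u
open WittFil

namespace Groth.Agent.S19264

/-- Let A be a unique factorisation domain of characteristic p, x_1, …, x_r pairwise non-associate prime
elements of A, B = A[1/(x_1⋯x_r)] with u_i the unit of B defined by x_i, n ∈ ℤ^r and m ≥ 0. The
restriction map from truncated p-typical Witt vectors of length m+1 to those of length m over B
(forgetting the last coordinate) maps the filtered piece cut out by ∏ u_i ^ n_i onto the filtered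
piece cut out by ∏ u_i ^ ⌊n_i / p⌋; that is, the image is exactly that piece. (The other parts of
the exact sequence, injectivity of the (m-fold) Verschiebung from the fractional ideal generated by
(∏ u_i ^ n_i)⁻¹ and exactness in the middle, are immediate from the definition and are not restated.
The published setting is a regular local ring; only unique factorisation is used.) -/
theorem result (p : ℕ) [Fact p.Prime] {A B : Type u} [CommRing A] [IsDomain A]
    [UniqueFactorizationMonoid A] [CharP A p] [CommRing B] [Algebra A B] {r : ℕ} (x : Fin r → A)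
    (hx : ∀ i, Prime (x i)) (hxa : ∀ i j, Associated (x i) (x j) → i = j)
    [IsLocalization.Away (∏ i, x i) B] (u : Fin r → Bˣ)
    (hu : ∀ i, (u i : B) = algebraMap A B (x i)) (n : Fin r → ℤ) (m : ℕ) :
    (TruncatedWittVector.truncate (Nat.le_succ m)) '' WittFil.fil p (m + 1) (A := A) (WittFil.zmon u n) =
      WittFil.fil p m (A := A) (WittFil.zmon u (fun i => n i / (p : ℤ))) := by
  have hp := (Fact.out : p.Prime)
  have key : ∀ (j : ℕ), j < m → ∀ y : B,
      (y ^ p ^ (m - j) * WittFil.zmon u n ∈ (algebraMap A B).range ↔
        y ^ p ^ (m - 1 - j) * WittFil.zmon u (fun i => n i / (p : ℤ)) ∈ (algebraMap A B).range) := by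
    intro j hj y
    rw [Groth.Agent.WittFilUFD.mem_iff x hx hxa u hu y _ (pow_pos hp.pos _) n,
      Groth.Agent.WittFilUFD.mem_iff x hx hxa u hu y _ (pow_pos hp.pos _)]
    have : (fun i => n i / ((p ^ (m - j) : ℕ) : ℤ)) = fun i => n i / (p : ℤ) / ((p ^ (m - 1 - j) : ℕ) : ℤ) := by
      funext i
      rw [Int.ediv_ediv, if_neg (fun h => absurd h.1 (Int.natCast_nonneg p).not_gt), sub_zero]
      congr 1
      rw [← Nat.cast_mul, ← pow_succ', show m - 1 - j + 1 = m - j by omega]
    rw [this]
  refine Set.Subset.antisymm ?_ fun y hy => ?_
  · rintro _ ⟨y, hy, rfl⟩ j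
    rw [TruncatedWittVector.coeff_truncate]
    refine (key j j.2 _).mp ?_
    have := hy (Fin.castLE (Nat.le_succ m) j)
    simpa using this
  · let z : TruncatedWittVector p (m + 1) B :=
      TruncatedWittVector.mk p fun j => if h : (j : ℕ) < m then y.coeff ⟨j, h⟩ else 0
    refine ⟨z, fun j => ?_, ?_⟩
    · simp only [z, TruncatedWittVector.coeff_mk]
      split_ifs with h
      · simpa using (key j h _).mpr (hy ⟨j, h⟩)
      · rw [zero_pow (pow_pos hp.pos _).ne', zero_mul]; exact zero_mem _
    · refine TruncatedWittVector.ext fun j => ?_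
      rw [TruncatedWittVector.coeff_truncate]
      simp [z, j.2]

end Groth.Agent.S19264
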