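import Groth.Statements.S19267
-- import your own Groth.Agent.* helpers here
import Groth.Agent.WittFilUFD.Basic

set_option autoImplicit false
universe u
open WittFil

namespace Groth.Agent.S19267

/-- Let A → B be a homomorphism of commutative rings, u a unit of B, m ≥ 0 and n, l integers. For an
element c of B call the filtered piece cut out by c the set of truncated p-typical Witt vectors of
length m over B whose j-th coordinate y_j satisfies: y_j ^ (p ^ (m-1-j)) · c lies in the image of A,
for every j < m. Then the piece cut out by u ^ (n − p^(m−1)·l) is exactly the image of the piece cut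
out by u ^ n under multiplication by the truncated Teichmüller representative [u ^ l]. (The
published case is B = S[[π]][1/π] over A = S[[π]] with u = π; the computation is the same in
general.) -/
theorem result (p : ℕ) [Fact p.Prime] {A B : Type u}
    [CommRing A] [CommRing B] [Algebra A B] (m : ℕ) (u : Bˣ) (n l : ℤ) :
    WittFil.fil p m (A := A) ((u ^ (n - (p : ℤ) ^ (m - 1) * l) : Bˣ) : B) =
      (fun a => WittVector.truncate m (WittVector.teichmuller p ((u ^ l : Bˣ) : B)) * a) ''
        WittFil.fil p m (A := A) ((u ^ n : Bˣ) : B) := by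
  have key : ∀ (l n : ℤ) (y : TruncatedWittVector p m B), y ∈ WittFil.fil p m (A := A) ((u ^ n : Bˣ) : B) →
      WittVector.truncate m (WittVector.teichmuller p ((u ^ l : Bˣ) : B)) * y ∈
        WittFil.fil p m (A := A) ((u ^ (n - (p : ℤ) ^ (m - 1) * l) : Bˣ) : B) := by
    intro l n y hy j
    obtain ⟨y', rfl⟩ := WittVector.truncate_surjective p m B y
    have h := hy j
    rw [← map_mul, WittVector.coeff_truncate, Groth.Agent.WittFilUFD.teichmuller_mul_coeff, mul_pow,
      ← pow_mul, ← pow_add, show (j : ℕ) + (m - 1 - j) = m - 1 by have := j.2; omega]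
    rw [WittVector.coeff_truncate] at h
    convert h using 1
    have hexp : ((u ^ l : Bˣ) : B) ^ p ^ (m - 1) * ((u ^ (n - (p : ℤ) ^ (m - 1) * l) : Bˣ) : B) =
        ((u ^ n : Bˣ) : B) := by
      rw [← Units.val_pow_eq_pow_val, ← Units.val_mul, ← zpow_natCast, ← zpow_mul, ← zpow_add]
      congr 2
      push_cast
      ring
    rw [← hexp]
    ring
  refine Set.Subset.antisymm (fun y hy => ?_) ?_
  · refine ⟨WittVector.truncate m (WittVector.teichmuller p ((u ^ (-l) : Bˣ) : B)) * y, ?_, ?_⟩
    · have := key (-l) _ y hy
      rwa [show n - (p : ℤ) ^ (m - 1) * l - (p : ℤ) ^ (m - 1) * -l = n by ring] at this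
    · simp only
      rw [← mul_assoc, ← map_mul (WittVector.truncate m), ← map_mul (WittVector.teichmuller p),
        ← Units.val_mul, ← zpow_add, add_neg_cancel, zpow_zero, Units.val_one, map_one, map_one, one_mul]
  · rintro _ ⟨y, hy, rfl⟩
    exact key l n y hy

end Groth.Agent.S19267
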