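import Groth.Statements.S19268
-- import your own Groth.Agent.* helpers here
import Groth.Agent.WittFilUFD.Basic

set_option autoImplicit false
universe u
open WittFil

namespace Groth.Agent.S19268

/-- Let S be an integral domain of characteristic p, A = S[[π]] the power series ring, B = A[1/π] with u
the unit of B given by π, and let m > s ≥ 0 and i be an integer with s = 0 or p ∤ i; put n = p ^
(m−1−s) · i. For e in B write fil(e) for the set of truncated p-typical Witt vectors of length m
over B whose j-th coordinate y_j satisfies y_j ^ (p ^ (m−1−j)) · e ∈ A for all j, and for a Witt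
vector c over S let Φ(c) ∈ W_m(B) be the length-m truncation of V^s(c · [u ^ i]) (V the
Verschiebung, [ ] the Teichmüller map, c mapped to B). Then Φ induces a bijection from the
length-(m−s) truncated Witt vectors of S onto the graded piece fil(u^(−n)) / fil(u^(−n−1)): (1) Φ(c)
lies in fil(u^(−n)) for every c; (2) Φ(c) lies in fil(u^(−n−1)) exactly when the length-(m−s)
truncation of c is zero; (3) every element of fil(u^(−n)) is congruent to some Φ(c) modulo
fil(u^(−n−1)). (Published for S a regular local Noetherian F-finite F_p-algebra; the argument uses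
only that S is a domain.) -/
theorem result (p : ℕ) [Fact p.Prime] {S B : Type u} [CommRing S]
    [IsDomain S] [CharP S p] [CommRing B] [Algebra (PowerSeries S) B] [Algebra S B]
    [IsScalarTower S (PowerSeries S) B] [IsLocalization.Away (PowerSeries.X : PowerSeries S) B]
    (u : Bˣ) (hu : (u : B) = algebraMap (PowerSeries S) B PowerSeries.X) (m s : ℕ) (hs : s < m)
    (i : ℤ) (hsi : s = 0 ∨ ¬ ((p : ℤ) ∣ i)) :
    (∀ c : WittVector p S,
        WittFil.vShiftTeich p m s ((u ^ i : Bˣ) : B) c ∈
          WittFil.fil p m (A := PowerSeries S) ((u ^ (-((p : ℤ) ^ (m - 1 - s) * i)) : Bˣ) : B)) ∧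
      (∀ c : WittVector p S,
        WittFil.vShiftTeich p m s ((u ^ i : Bˣ) : B) c ∈
            WittFil.fil p m (A := PowerSeries S) ((u ^ (-((p : ℤ) ^ (m - 1 - s) * i) - 1) : Bˣ) : B) ↔
          WittVector.truncate (m - s) c = 0) ∧
      (∀ y ∈ WittFil.fil p m (A := PowerSeries S) ((u ^ (-((p : ℤ) ^ (m - 1 - s) * i)) : Bˣ) : B),
        ∃ c : WittVector p S,
          y - WittFil.vShiftTeich p m s ((u ^ i : Bˣ) : B) c ∈
            WittFil.fil p m (A := PowerSeries S)
              ((u ^ (-((p : ℤ) ^ (m - 1 - s) * i) - 1) : Bˣ) : B)) := by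
  classical
  have hp := (Fact.out : p.Prime)
  set k := m - 1 with hk
  have hks : s ≤ k := by omega
  let X : Fin 1 → PowerSeries S := fun _ => PowerSeries.X
  let U : Fin 1 → Bˣ := fun _ => u
  have hX : ∀ i : Fin 1, Prime (X i) := fun _ => PowerSeries.X_prime
  have hXa : ∀ i j : Fin 1, Associated (X i) (X j) → i = j := fun i j _ => Subsingleton.elim i j
  have hU : ∀ i, (U i : B) = algebraMap (PowerSeries S) B (X i) := fun _ => hu
  haveI : IsLocalization.Away (∏ i, X i) B := by
    rw [Fin.prod_univ_one]
    exact (inferInstance : IsLocalization.Away (PowerSeries.X : PowerSeries S) B)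
  have hinj : Function.Injective (algebraMap (PowerSeries S) B) :=
    IsLocalization.injective B (powers_le_nonZeroDivisors_of_noZeroDivisors (x := ∏ i, X i)
      (Finset.prod_ne_zero_iff.mpr fun i _ => PowerSeries.X_ne_zero))
  have hz : ∀ e : ℤ, WittFil.zmon U (fun _ => e) = ((u ^ e : Bˣ) : B) := fun e => by simp [WittFil.zmon, U]
  have hmem : ∀ (e : ℤ) (j : ℕ) (y : B),
      y ^ p ^ (k - j) * ((u ^ e : Bˣ) : B) ∈ (algebraMap (PowerSeries S) B).range ↔
        y * ((u ^ (e / ((p : ℤ) ^ (k - j))) : Bˣ) : B) ∈ (algebraMap (PowerSeries S) B).range := by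
    intro e j y
    rw [← hz, Groth.Agent.WittFilUFD.mem_iff X hX hXa U hU y _ (pow_pos hp.pos _), hz]
    push_cast
    rfl
  set n := (p : ℤ) ^ (k - s) * i with hn
  have hlow : ∀ j, j < s → (-n - 1) / (p : ℤ) ^ (k - j) = (-n) / (p : ℤ) ^ (k - j) := by
    intro j hj
    have hP : (0 : ℤ) < (p : ℤ) ^ (k - j) := pow_pos (by exact_mod_cast hp.pos) _
    have hne : ¬ (p : ℤ) ^ (k - j) ∣ n := by
      intro hdvd
      have h1 : (p : ℤ) ^ (k - s) * (p : ℤ) ^ 1 ∣ (p : ℤ) ^ (k - s) * i := by
        rw [← pow_add]
        exact dvd_trans (pow_dvd_pow _ (by omega)) hdvd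
      rw [pow_one] at h1
      exact (hsi.resolve_left (by omega)) ((mul_dvd_mul_iff_left (pow_ne_zero _ (by exact_mod_cast hp.pos.ne'))).mp h1)
    have h1 := Int.mul_ediv_add_emod (-n) ((p : ℤ) ^ (k - j))
    have h2 := Int.emod_lt_of_pos (-n) hP
    have h3 := Int.emod_nonneg (-n) hP.ne'
    have h4 : (-n) % (p : ℤ) ^ (k - j) ≠ 0 := fun h => hne (Int.dvd_neg.mp (Int.dvd_of_emod_eq_zero h))
    conv_lhs => rw [show -n - 1 = ((-n) % (p : ℤ) ^ (k - j) - 1) +
      (p : ℤ) ^ (k - j) * ((-n) / (p : ℤ) ^ (k - j)) by linarith]
    rw [Int.add_mul_ediv_left _ _ hP.ne', Int.ediv_eq_zero_of_lt (by omega) (by omega), zero_add]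
  have hhigh : ∀ t, s + t ≤ k → (-n) / (p : ℤ) ^ (k - (s + t)) = -(i * (p : ℤ) ^ t) ∧
      (-n - 1) / (p : ℤ) ^ (k - (s + t)) = -(i * (p : ℤ) ^ t) - 1 := by
    intro t ht
    have hP : (0 : ℤ) < (p : ℤ) ^ (k - (s + t)) := pow_pos (by exact_mod_cast hp.pos) _
    have e1 : -n = (p : ℤ) ^ (k - (s + t)) * -(i * (p : ℤ) ^ t) := by
      rw [hn, show k - s = (k - (s + t)) + t by omega, pow_add]; ring
    refine ⟨by rw [e1, Int.mul_ediv_cancel_left _ hP.ne'], ?_⟩
    have hP1 : (1 : ℤ) ≤ (p : ℤ) ^ (k - (s + t)) := hP
    rw [show -n - 1 = ((p : ℤ) ^ (k - (s + t)) - 1) + (p : ℤ) ^ (k - (s + t)) * (-(i * (p : ℤ) ^ t) - 1) by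
      rw [e1]; ring,
      Int.add_mul_ediv_left _ _ hP.ne', Int.ediv_eq_zero_of_lt (by omega) (by omega), zero_add]
  let φ : S →+* B := algebraMap S B
  let V : WittVector p S → WittVector p B := fun c =>
    (WittVector.verschiebung)^[s] (WittVector.map φ c * WittVector.teichmuller p ((u ^ i : Bˣ) : B))
  have hVlow : ∀ c j, j < s → (V c).coeff j = 0 := fun c j hj =>
    WittVector.iterate_verschiebung_coeff_eq_zero _ hj
  have hVhigh : ∀ c t, (V c).coeff (s + t) = φ (c.coeff t) * ((u ^ (i * (p : ℤ) ^ t) : Bˣ) : B) := by
    intro c t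
    simp only [V]
    rw [add_comm s t, WittVector.iterate_verschiebung_coeff, mul_comm (WittVector.map φ c),
      Groth.Agent.WittFilUFD.teichmuller_mul_coeff, WittVector.map_coeff, mul_comm,
      ← Units.val_pow_eq_pow_val, ← zpow_natCast, ← zpow_mul]
    push_cast
    rfl
  have hcanc : ∀ (a : B) (e : ℤ), a * ((u ^ e : Bˣ) : B) * ((u ^ (-e) : Bˣ) : B) = a := fun a e => by
    rw [mul_assoc, ← Units.val_mul, ← zpow_add, add_neg_cancel, zpow_zero, Units.val_one, mul_one]
  have hφ : ∀ a, φ a = algebraMap (PowerSeries S) B (PowerSeries.C a) := fun a => by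
    rw [← PowerSeries.algebraMap_eq]
    exact IsScalarTower.algebraMap_apply S (PowerSeries S) B a
  have hfirst : ∀ c, WittVector.truncate m (V c) ∈ WittFil.fil p m (A := PowerSeries S) ((u ^ (-n) : Bˣ) : B) := by
    intro c j
    rw [WittVector.coeff_truncate, ← hk, hmem]
    rcases Nat.lt_or_ge (j : ℕ) s with hj | hj
    · rw [hVlow c j hj, zero_mul]; exact zero_mem _
    · obtain ⟨t, ht⟩ := Nat.exists_eq_add_of_le hj
      rw [ht, (hhigh t (by have := j.2; omega)).1, hVhigh, hcanc, hφ]
      exact ⟨_, rfl⟩
  refine ⟨hfirst, fun c => ⟨fun h => ?_, fun h j => ?_⟩, fun y hy => ?_⟩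
  · refine TruncatedWittVector.ext fun t => ?_
    rw [TruncatedWittVector.coeff_zero, WittVector.coeff_truncate]
    have h1 : (V c).coeff (s + (t : ℕ)) ^ p ^ (k - (s + (t : ℕ))) * ((u ^ (-n - 1) : Bˣ) : B) ∈
        (algebraMap (PowerSeries S) B).range := by
      have := h ⟨s + (t : ℕ), by have := t.2; omega⟩
      simpa only [WittFil.vShiftTeich, WittVector.coeff_truncate, ← hk] using this
    rw [hmem, (hhigh t (by have := t.2; omega)).2, hVhigh, sub_eq_add_neg, zpow_add, Units.val_mul,
      ← mul_assoc, hcanc, hφ] at h1
    obtain ⟨a, ha⟩ := h1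
    have h2 : algebraMap (PowerSeries S) B (a * PowerSeries.X) = algebraMap _ B (PowerSeries.C (c.coeff t)) := by
      rw [map_mul, ha, ← hu, mul_assoc, ← Units.val_mul, zpow_neg_one, inv_mul_cancel, Units.val_one, mul_one]
    have h3 := congrArg PowerSeries.constantCoeff (hinj h2)
    simpa using h3.symm
  · unfold WittFil.vShiftTeich
    rw [WittVector.coeff_truncate, ← hk]
    change (V c).coeff j ^ p ^ (k - (j : ℕ)) * _ ∈ _
    rcases Nat.lt_or_ge (j : ℕ) s with hj | hj
    · rw [hVlow c j hj, zero_pow (pow_pos hp.pos _).ne', zero_mul]; exact zero_mem _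
    · obtain ⟨t, ht⟩ := Nat.exists_eq_add_of_le hj
      have : c.coeff t = 0 := by
        have := congrArg (TruncatedWittVector.coeff ⟨t, by have := j.2; omega⟩) h
        simpa [WittVector.coeff_truncate] using this
      rw [ht, hVhigh, this, map_zero, zero_mul, zero_pow (pow_pos hp.pos _).ne', zero_mul]
      exact zero_mem _
  · obtain ⟨y', rfl⟩ := WittVector.truncate_surjective p m B y
    change ∀ j : Fin m, _ at hy
    let good : B → ℕ → Prop := fun z j =>
      z ^ p ^ (k - j) * ((u ^ (-n - 1) : Bˣ) : B) ∈ (algebraMap (PowerSeries S) B).range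
    have hind : ∀ t, s + t ≤ m → ∃ c : WittVector p S,
        WittVector.truncate m (y' - V c) ∈ WittFil.fil p m (A := PowerSeries S) ((u ^ (-n) : Bˣ) : B) ∧
          ∀ j, j < s + t → good ((y' - V c).coeff j) j := by
      intro t
      induction t with
      | zero =>
        intro _
        have hV0 : V 0 = 0 := by
          simp only [V, map_zero, zero_mul]
          exact Function.iterate_fixed (map_zero _) s
        refine ⟨0, by rw [hV0, sub_zero]; exact hy, fun j hj => ?_⟩
        rw [hV0, sub_zero]
        show y'.coeff j ^ p ^ (k - j) * _ ∈ _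
        rw [hmem, hlow j (by omega), ← hmem]
        have := hy ⟨j, by omega⟩
        simpa only [WittVector.coeff_truncate, ← hk] using this
      | succ t ih =>
        intro ht
        obtain ⟨c, hc1, hc2⟩ := ih (by omega)
        set z := y' - V c with hzdef
        obtain ⟨a, ha⟩ : z.coeff (s + t) * ((u ^ (-(i * (p : ℤ) ^ t)) : Bˣ) : B) ∈
            (algebraMap (PowerSeries S) B).range := by
          have h1 : z.coeff (s + t) ^ p ^ (k - (s + t)) * ((u ^ (-n) : Bˣ) : B) ∈
              (algebraMap (PowerSeries S) B).range := by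
            have := hc1 ⟨s + t, by omega⟩
            simpa only [WittVector.coeff_truncate, ← hk] using this
          rwa [hmem, (hhigh t (by omega)).1] at h1
        let d : WittVector p S := (WittVector.verschiebung)^[t] (WittVector.teichmuller p (PowerSeries.constantCoeff a))
        have hadd : V (c + d) = V c + V d := by
          simp only [V, map_add, add_mul]
          clear_value d
          induction s with
          | zero => simp
          | succ s ih' => simp [Function.iterate_succ_apply']
        refine ⟨c + d, ?_, ?_⟩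
        · rw [hadd, show y' - (V c + V d) = z - V d by rw [hzdef]; abel]
          rw [← hz] at hc1 ⊢
          exact Groth.Agent.WittFilUFD.sub_mem_fil p X hX hXa U hU _ m z (V d) hc1 (by rw [hz]; exact hfirst d)
        rw [hadd, show y' - (V c + V d) = z - V d by rw [hzdef]; abel]
        have hd0 : ∀ j, j < t → d.coeff j = 0 := fun j hj => WittVector.iterate_verschiebung_coeff_eq_zero _ hj
        have hdlow : ∀ j, j < s + t → (V d).coeff j = 0 := by
          intro j hj
          rcases Nat.lt_or_ge j s with h | h
          · exact hVlow d j h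
          · obtain ⟨r, rfl⟩ := Nat.exists_eq_add_of_le h
            rw [hVhigh, hd0 r (by omega), map_zero, zero_mul]
        have hdt : (V d).coeff (s + t) =
            φ (PowerSeries.constantCoeff a) * ((u ^ (i * (p : ℤ) ^ t) : Bˣ) : B) := by
          rw [hVhigh]
          congr 2
          have := WittVector.iterate_verschiebung_coeff (WittVector.teichmuller p (PowerSeries.constantCoeff a)) t 0
          rw [zero_add] at this
          simp only [d, this, WittVector.teichmuller_coeff_zero]
        let T : WittVector p B := (WittVector.verschiebung)^[s + t] (z.shift (s + t) - (V d).shift (s + t))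
        have hsplit : z - V d = WittVector.init (s + t) z + T := by
          have htail : WittVector.tail (s + t) z = (WittVector.verschiebung)^[s + t] (z.shift (s + t)) := by
            rw [WittVector.eq_iterate_verschiebung (x := WittVector.tail (s + t) z) (n := s + t) fun j hj => by
              simp [WittVector.tail, WittVector.select, WittVector.coeff_mk]; omega]
            congr 1
            refine WittVector.ext fun j => ?_
            simp [WittVector.shift_coeff, WittVector.tail, WittVector.select, WittVector.coeff_mk]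
          have hsub : ∀ (r : ℕ) (a b : WittVector p B), (WittVector.verschiebung)^[r] (a - b) =
              (WittVector.verschiebung)^[r] a - (WittVector.verschiebung)^[r] b := by
            intro r
            induction r with
            | zero => simp
            | succ r ihr => intro a b; simp [Function.iterate_succ_apply', ihr]
          simp only [T]
          rw [hsub, ← WittVector.eq_iterate_verschiebung hdlow, ← htail, add_sub, WittVector.init_add_tail]
        have hdis : ∀ j, (WittVector.init (s + t) z).coeff j = 0 ∨ T.coeff j = 0 := by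
          intro j
          rcases Nat.lt_or_ge j (s + t) with h | h
          · exact Or.inr (WittVector.iterate_verschiebung_coeff_eq_zero _ h)
          · left; simp [WittVector.init, WittVector.select, WittVector.coeff_mk]; omega
        intro j hj
        rw [hsplit, WittVector.coeff_add_of_disjoint j _ _ hdis]
        rcases Nat.lt_succ_iff_lt_or_eq.mp (show j < (s + t) + 1 by omega) with h | h
        · rw [show T.coeff j = 0 from WittVector.iterate_verschiebung_coeff_eq_zero _ h, add_zero]
          simpa [WittVector.init, WittVector.select, WittVector.coeff_mk, h] using hc2 j h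
        · subst h
          have hT := WittVector.iterate_verschiebung_coeff (z.shift (s + t) - (V d).shift (s + t)) (s + t) 0
          rw [zero_add] at hT
          simp only [T]
          rw [hT, show (WittVector.init (s + t) z).coeff (s + t) = 0 by simp [WittVector.init, WittVector.select, WittVector.coeff_mk],
            zero_add]
          have h0 : (z.shift (s + t) - (V d).shift (s + t)).coeff 0 = z.coeff (s + t) - (V d).coeff (s + t) := by
            change WittVector.constantCoeff (z.shift (s + t) - (V d).shift (s + t)) = _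
            rw [map_sub]
            simp [WittVector.shift_coeff]
          show _ ^ p ^ (k - (s + t)) * _ ∈ _
          rw [h0, hdt, hmem, (hhigh t (by omega)).2, sub_eq_add_neg (-(i * (p : ℤ) ^ t)), zpow_add, Units.val_mul,
            ← mul_assoc, sub_mul, hcanc, ← ha, hφ, ← map_sub]
          obtain ⟨q, hq⟩ : PowerSeries.X ∣ a - PowerSeries.C (PowerSeries.constantCoeff a) := by
            rw [PowerSeries.X_dvd_iff]; simp
          rw [hq, map_mul, ← hu, mul_comm (u : B), mul_assoc, ← Units.val_mul, zpow_neg_one, mul_inv_cancel,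
            Units.val_one, mul_one]
          exact ⟨_, rfl⟩
    obtain ⟨c, -, hc⟩ := hind (m - s) (by omega)
    refine ⟨c, fun j => ?_⟩
    have := hc j (by have := j.2; omega)
    unfold WittFil.vShiftTeich
    rw [← map_sub, WittVector.coeff_truncate, ← hk]
    exact this

end Groth.Agent.S19268
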