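import Groth.Statements.S19269
import Mathlib.RingTheory.AdicCompletion.Exactness
import Mathlib.RingTheory.AdicCompletion.AsTensorProduct
import Mathlib.RingTheory.AdicCompletion.Noetherian

set_option autoImplicit false
universe u
open CAlg

namespace Groth.Agent.S19269

open IsLocalRing

open IsLocalRing in
/-- Let R be a Noetherian local ring with maximal ideal 𝔪, M a finitely generated R-module and M^ its
𝔪-adic completion, a module over the 𝔪-adic completion R^ of R. Let N' be an R^-submodule of M^ and
N an R-submodule of M whose image in M^ is contained in N' and is dense in N' for the 𝔪-adic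
topology, in the sense that for every y in N' and every k there is x in N with y ≡ x modulo the
kernel of M^ → M/𝔪^k M. Then N' equals the image of the completion of N under the map induced by the
inclusion N → M (so N' is the completion of N), and N is the set of elements of M whose image in M^
lies in N'. -/
theorem result {R : Type u} [CommRing R]
    [IsNoetherianRing R] [IsLocalRing R] {M : Type u} [AddCommGroup M] [Module R M]
    [Module.Finite R M] (N : Submodule R M)
    (N' : Submodule (AdicCompletion (maximalIdeal R) R) (AdicCompletion (maximalIdeal R) M))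
    (hle : ∀ x ∈ N, AdicCompletion.of (maximalIdeal R) M x ∈ N')
    (hdense : ∀ y ∈ N', ∀ k : ℕ, ∃ x ∈ N,
      AdicCompletion.eval (maximalIdeal R) M k y = Submodule.Quotient.mk x) :
    (N'.restrictScalars R =
        (LinearMap.range (AdicCompletion.map (maximalIdeal R) N.subtype)).restrictScalars R) ∧
      (∀ x : M, x ∈ N ↔ AdicCompletion.of (maximalIdeal R) M x ∈ N') := by
  let I := IsLocalRing.maximalIdeal R
  have hker : ∀ y ∈ N', AdicCompletion.map I N.mkQ y = 0 := fun y hy => by
    refine AdicCompletion.ext fun k => ?_
    obtain ⟨x, hx, hxk⟩ := hdense y hy k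
    rw [AdicCompletion.map_val_apply]
    change N.mkQ.reduceModIdeal (I ^ k) (AdicCompletion.eval I M k y) = 0
    rw [hxk]
    change Submodule.Quotient.mk (N.mkQ x) = 0
    rw [Submodule.mkQ_apply, (Submodule.Quotient.mk_eq_zero N).2 hx, Submodule.Quotient.mk_zero]
  have hexact : Function.Exact (AdicCompletion.map I N.subtype) (AdicCompletion.map I N.mkQ) :=
    AdicCompletion.map_exact N.injective_subtype (LinearMap.exact_subtype_mkQ N) N.mkQ_surjective
  refine ⟨?_, fun x => ⟨hle x, fun hx => ?_⟩⟩
  · refine congrArg (Submodule.restrictScalars R) (le_antisymm (fun y hy => ?_) ?_)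
    · exact (hexact y).1 (hker y hy)
    · rintro _ ⟨z, rfl⟩
      obtain ⟨t, rfl⟩ := AdicCompletion.ofTensorProduct_surjective_of_finite I N z
      induction t using TensorProduct.induction_on with
      | zero => simp
      | tmul r n =>
        rw [AdicCompletion.ofTensorProduct_tmul, map_smul, AdicCompletion.map_of]
        exact N'.smul_mem r (hle _ n.2)
      | add a b ha hb => rw [map_add, map_add]; exact N'.add_mem ha hb
  · have h := hker _ hx
    rw [AdicCompletion.map_of] at h
    exact (Submodule.Quotient.mk_eq_zero N).1 (AdicCompletion.of_injective I (M ⧸ N) (h.trans (map_zero _).symm))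

end Groth.Agent.S19269
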