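import Groth.Statements.S19270
import Groth.Agent.S2451
import Mathlib.RingTheory.Smooth.Field
import Mathlib.RingTheory.LocalRing.Module
import Mathlib.RingTheory.RegularLocalRing.Defs
import Mathlib.Algebra.Algebra.ZMod

set_option autoImplicit false
universe u
open CAlg Groth.Agent IsLocalRing
open scoped TensorProduct

namespace Groth.Agent.S19270

open IsLocalRing in
theorem formallySmooth_of_perfect (k K : Type u) [Field k] [PerfectField k] [Field K] [Algebra k K] :
    Algebra.FormallySmooth k K := by
  refine S2451.result.2 (Algebra.IsGeometricallyReduced.of_forall_fg fun B hB => ?_)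
  obtain ⟨t, rfl⟩ := hB
  let E := IntermediateField.adjoin k (t : Set K)
  haveI : Algebra.EssFiniteType k E :=
    IntermediateField.essFiniteType_iff.2 (IntermediateField.fg_adjoin_of_finite t.finite_toSet)
  haveI : Algebra.IsGeometricallyReduced k E := S2451.result.1 inferInstance
  exact Algebra.IsGeometricallyReduced.of_injective (Subalgebra.inclusion
    (IntermediateField.algebra_adjoin_le_adjoin k (t : Set K)) : _ →ₐ[k] E.toSubalgebra) (Subalgebra.inclusion_injective _)

theorem coeff_mem {A : Type*} [CommRing A] [IsRegularLocalRing A] {N : ℕ} (x : Fin N → A)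
    (hx : Ideal.span (Set.range x) = maximalIdeal A) (hN : ringKrullDim A = (N : WithBot ℕ∞)) (a : Fin N → A)
    (h : ∑ i, a i * x i ∈ maximalIdeal A ^ 2) (i : Fin N) : a i ∈ maximalIdeal A := by
  have hxm : ∀ i, x i ∈ maximalIdeal A := fun i => hx ▸ Ideal.subset_span ⟨i, rfl⟩
  let v : Fin N → CotangentSpace A := fun i => (maximalIdeal A).toCotangent ⟨x i, hxm i⟩
  have hsp : Submodule.span (ResidueField A) (Set.range v) = ⊤ := by
    rw [show v = (maximalIdeal A).toCotangent ∘ fun i => (⟨x i, hxm i⟩ : maximalIdeal A) from rfl, Set.range_comp,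
      CotangentSpace.span_image_eq_top_iff, ← (Submodule.map_injective_of_injective
        (Submodule.injective_subtype (maximalIdeal A))).eq_iff, Submodule.map_span, ← Set.range_comp,
      Submodule.map_top, Submodule.range_subtype]
    exact hx
  have hfin : Module.finrank (ResidueField A) (CotangentSpace A) = N := by
    have := (IsRegularLocalRing.iff_finrank_cotangentSpace A).1 inferInstance
    rw [hN] at this
    exact_mod_cast this
  have hli : LinearIndependent (ResidueField A) v :=
    linearIndependent_of_top_le_span_of_card_eq_finrank hsp.ge (by rw [hfin, Fintype.card_fin])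
  rw [← IsLocalRing.residue_eq_zero_iff]
  refine Fintype.linearIndependent_iff.1 hli (fun i => residue A (a i)) ?_ i
  have hy : ∑ i, a i * x i ∈ maximalIdeal A := Ideal.sum_mem _ fun i _ => Ideal.mul_mem_left _ _ (hxm i)
  have h0 : (maximalIdeal A).toCotangent ⟨_, hy⟩ = 0 := ((maximalIdeal A).toCotangent_eq_zero _).2 h
  rw [← h0, show (⟨_, hy⟩ : maximalIdeal A) = ∑ i, a i • ⟨x i, hxm i⟩ from Subtype.ext (by simp), map_sum]
  refine Finset.sum_congr rfl fun i _ => ?_
  rw [map_smul, ← algebraMap_smul (ResidueField A) (a i)]
  rfl

/-- Let A be a regular local ring of prime characteristic p, of Krull dimension N, with maximal ideal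
generated by x_1, …, x_N, and assume that the module Ω_A of absolute Kähler differentials of A
(differentials relative to ℤ, equivalently relative to the prime field) is a free A-module of finite
rank. Then dx_1, …, dx_N are part of a basis of Ω_A: there exist a basis b of Ω_A and an injection e
of the indices 1, …, N into the index type of b with b (e i) = d(x_i) for all i. (In the published
statement A is a regular local F-finite algebra over the prime field and the freeness and finiteness
of Ω_A form the first assertion, taken there from the literature; here they are hypotheses.) -/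
theorem result (p : ℕ) [Fact p.Prime]
    {A : Type u} [CommRing A] [IsRegularLocalRing A] [CharP A p]
    [Module.Free A (KaehlerDifferential ℤ A)] [Module.Finite A (KaehlerDifferential ℤ A)]
    {N : ℕ} (x : Fin N → A) (hx : Ideal.span (Set.range x) = maximalIdeal A)
    (hN : ringKrullDim A = (N : WithBot ℕ∞)) :
    ∃ (ι : Type u) (b : Module.Basis ι A (KaehlerDifferential ℤ A)) (e : Fin N ↪ ι),
      ∀ i : Fin N, b (e i) = KaehlerDifferential.D ℤ A (x i) := by
  classical
  letI : Algebra (ULift.{u} (ZMod p)) A :=
    ((ZMod.castHom dvd_rfl A).comp (ULift.ringEquiv : ULift.{u} (ZMod p) ≃+* ZMod p).toRingHom).toAlgebra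
  haveI : Algebra.FormallySmooth (ULift.{u} (ZMod p)) (ResidueField A) := formallySmooth_of_perfect (ULift.{u} (ZMod p)) (ResidueField A)
  let I := RingHom.ker (algebraMap A (ResidueField A))
  have hI : I = maximalIdeal A := IsLocalRing.ker_residue
  have hsurj : Function.Surjective (algebraMap A (ResidueField A)) := IsLocalRing.residue_surjective
  -- the conormal map is injective
  obtain ⟨l, hl⟩ : ∃ l, l ∘ₗ KaehlerDifferential.kerCotangentToTensor (ULift.{u} (ZMod p)) A (ResidueField A) = LinearMap.id := by
    let π := (IsScalarTower.toAlgHom (ULift.{u} (ZMod p)) A (ResidueField A)).kerSquareLift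
    have hπ : Function.Surjective π := fun y => by
      obtain ⟨a, rfl⟩ := hsurj y
      exact ⟨Ideal.Quotient.mk _ a, rfl⟩
    have hnil : IsNilpotent (RingHom.ker π) := ⟨2, by
      rw [show RingHom.ker π = RingHom.ker π.toRingHom from rfl, AlgHom.ker_kerSquareLift, Ideal.cotangentIdeal_square]; rfl⟩
    exact ⟨_, ((retractionKerCotangentToTensorEquivSection (R := ULift.{u} (ZMod p)) hsurj).symm
      ⟨Algebra.FormallySmooth.liftOfSurjective (AlgHom.id _ _) π hπ hnil,
        AlgHom.ext fun y => Algebra.FormallySmooth.liftOfSurjective_apply (AlgHom.id _ _) π hπ hnil y⟩).2⟩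
  have hxm : ∀ i, x i ∈ maximalIdeal A := fun i => hx ▸ Ideal.subset_span ⟨i, rfl⟩
  have hli : LinearIndependent (ResidueField A)
      fun i => ((1 : ResidueField A) ⊗ₜ[A] KaehlerDifferential.D (ULift.{u} (ZMod p)) A (x i)) := by
    rw [Fintype.linearIndependent_iff]
    intro c hc
    choose a ha using fun i => hsurj (c i)
    have hy : ∑ i, a i * x i ∈ I := by
      rw [hI]; exact Ideal.sum_mem _ fun i _ => Ideal.mul_mem_left _ _ (hxm i)
    have hz : KaehlerDifferential.kerCotangentToTensor (ULift.{u} (ZMod p)) A (ResidueField A) (I.toCotangent ⟨_, hy⟩) = 0 := by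
      rw [KaehlerDifferential.kerCotangentToTensor_toCotangent, map_sum, TensorProduct.tmul_sum, ← hc]
      refine Finset.sum_congr rfl fun i _ => ?_
      rw [Derivation.leibniz, TensorProduct.tmul_add, TensorProduct.tmul_smul, TensorProduct.tmul_smul, ← ha i,
        algebraMap_smul, algebra_compatible_smul (ResidueField A) (x i),
        show algebraMap A (ResidueField A) (x i) = 0 from (IsLocalRing.residue_eq_zero_iff _).2 (hxm i), zero_smul,
        add_zero]
    have h0 : I.toCotangent ⟨_, hy⟩ = 0 := by
      have := LinearMap.congr_fun hl (I.toCotangent ⟨_, hy⟩)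
      rwa [LinearMap.comp_apply, hz, map_zero, LinearMap.id_apply, eq_comm] at this
    rw [Ideal.toCotangent_eq_zero] at h0
    have h2 : ∑ i, a i * x i ∈ maximalIdeal A ^ 2 := by rw [← hI]; exact h0
    intro i
    rw [← ha i]
    exact (IsLocalRing.residue_eq_zero_iff _).2 (coeff_mem x hx hN a h2 i)
  have hli' : LinearIndependent (ResidueField A)
      fun i => ((1 : ResidueField A) ⊗ₜ[A] KaehlerDifferential.D ℤ A (x i)) := by
    refine LinearIndependent.of_comp
      ((KaehlerDifferential.map ℤ (ULift.{u} (ZMod p)) A A).baseChange (ResidueField A)) ?_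
    convert! hli with i
    simp
  let w := fun i => ((1 : ResidueField A) ⊗ₜ[A] KaehlerDifferential.D ℤ A (x i))
  let bk := Module.Basis.extend hli'.linearIndepOn_id
  let v : LinearIndepOn.extend hli'.linearIndepOn_id (Set.subset_univ (Set.range w)) → KaehlerDifferential ℤ A := fun s =>
    if h : ∃ i, w i = s.1 then KaehlerDifferential.D ℤ A (x h.choose)
    else Function.surjInv (TensorProduct.mk_surjective A _ (ResidueField A) hsurj) s.1
  have hv : TensorProduct.mk A (ResidueField A) _ 1 ∘ v = bk := funext fun s => by
    rw [Module.Basis.extend_apply_self, Function.comp_apply]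
    by_cases h : ∃ i, w i = s.1
    · simp only [v, dif_pos h]; exact h.choose_spec
    · simp only [v, dif_neg h]
      exact Function.surjInv_eq (TensorProduct.mk_surjective A _ (ResidueField A) hsurj) _
  haveI : Module.FinitePresentation A (KaehlerDifferential ℤ A) := Module.finitePresentation_of_projective A _
  obtain ⟨b, hb⟩ := Module.exists_basis_of_basis_baseChange v (hv ▸ bk.linearIndependent) (hv ▸ bk.span_eq)
    (Module.Flat.rTensor_preserves_injective_linearMap (maximalIdeal A).subtype Subtype.val_injective)
  refine ⟨_, b, ⟨fun i => ⟨w i, hli'.linearIndepOn_id.subset_extend _ ⟨i, rfl⟩⟩,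
    fun i j e => hli'.injective (congrArg Subtype.val e)⟩, fun i => ?_⟩
  rw [hb]
  have h : ∃ j, w j = w i := ⟨i, rfl⟩
  show v ⟨w i, _⟩ = _
  simp only [v, dif_pos h]
  rw [hli'.injective h.choose_spec]

end Groth.Agent.S19270
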