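import Groth.Statements.S19272
-- import your own Groth.Agent.* helpers here
import Groth.Agent.WittFilUFD.Basic

set_option autoImplicit false
universe u
open WittFil

namespace Groth.Agent.S19272

/-- Let A be a unique factorisation domain of characteristic p, x_1, …, x_r pairwise non-associate prime
elements of A, B = A[1/(x_1⋯x_r)] with u_i the unit of B defined by x_i, m ≥ 0, and n ∈ ℤ^r with n_i
< 0 for every i. Then every truncated p-typical Witt vector of length m over B lying in the filtered
piece cut out by ∏ u_i ^ n_i (every coordinate y_j has y_j ^ (p ^ (m−1−j)) · ∏ u_i ^ n_i in the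
image of A) has all its coordinates in the image of the ideal (x_1⋯x_r)·A. (The published item,
stated for the filtered de Rham–Witt pieces in all degrees over a regular local ring, says only that
such vectors have all coordinates in A; this row states the divisibility of every coordinate by
x_1⋯x_r that its proof establishes, in degree zero, for a unique factorisation domain in place of a
regular local ring.) -/
theorem result (p : ℕ) [Fact p.Prime] {A B : Type u} [CommRing A] [IsDomain A]
    [UniqueFactorizationMonoid A] [CharP A p] [CommRing B] [Algebra A B] {r : ℕ} (x : Fin r → A)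
    (hx : ∀ i, Prime (x i)) (hxa : ∀ i j, Associated (x i) (x j) → i = j)
    [IsLocalization.Away (∏ i, x i) B] (u : Fin r → Bˣ)
    (hu : ∀ i, (u i : B) = algebraMap A B (x i)) (m : ℕ) (n : Fin r → ℤ) (hn : ∀ i, n i < 0)
    (a : TruncatedWittVector p m B) (ha : a ∈ WittFil.fil p m (A := A) (WittFil.zmon u n))
    (j : Fin m) :
    ∃ b : A, TruncatedWittVector.coeff j a = algebraMap A B ((∏ i, x i) * b) := by
  have hp := (Fact.out : p.Prime)
  have h := (Groth.Agent.WittFilUFD.mem_iff x hx hxa u hu _ _ (pow_pos hp.pos _) n).mp (ha j)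
  have h2 := Groth.Agent.WittFilUFD.mem_of_le u x hu (e' := fun _ => -1) h fun i => by
    have hq : (0 : ℤ) < ((p ^ (m - 1 - (j : ℕ)) : ℕ) : ℤ) := by exact_mod_cast pow_pos hp.pos _
    have h3 : n i / ((p ^ (m - 1 - (j : ℕ)) : ℕ) : ℤ) < 0 := Int.ediv_neg_of_neg_of_pos (hn i) hq
    omega
  obtain ⟨b, hb⟩ := h2
  refine ⟨b, ?_⟩
  have he := Groth.Agent.WittFilUFD.zmon_natCast u x hu (fun _ => 1)
  simp only [pow_one, Nat.cast_one] at he
  rw [map_mul, hb, ← he, mul_comm (TruncatedWittVector.coeff j a), ← mul_assoc,
    ← Groth.Agent.WittFilUFD.zmon_add]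
  rw [show (fun _ : Fin r => (1 : ℤ)) + (fun _ => -1) = 0 from funext fun _ => by simp,
    Groth.Agent.WittFilUFD.zmon_zero, one_mul]

end Groth.Agent.S19272
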