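import Groth.Statements.S19273
import Mathlib.RingTheory.Etale.Kaehler
import Mathlib.RingTheory.Localization.Module

set_option autoImplicit false
universe u
open CAlg

namespace Groth.Agent.S19273

open KaehlerDifferential in
/-- Let A be an integral domain of prime characteristic p, x_1, …, x_N elements of A, r ≤ N, B =
A[1/(x_1⋯x_r)] with u_i the unit of B defined by x_i for i ≤ r, and suppose that the module Ω_A of
absolute Kähler differentials of A is free with a basis b indexed by {1, …, N} ⊔ ι whose i-th vector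
is d(x_i) for i ≤ N. Then the module of logarithmic 1-forms — the A-submodule of Ω_B spanned by the
image of Ω_A and the forms u_i⁻¹ · d(x_i), i ≤ r — is a free A-module: it has a basis indexed by {1,
…, N} ⊔ ι whose vector at i ≤ r is u_i⁻¹ · d(x_i), at r < i ≤ N is d(x_i), and at k ∈ ι is the image
of b_k. (In the published statement A is a regular local F-finite algebra over the prime field with
maximal ideal (x_1, …, x_N), the basis of Ω_A comes from the preceding lemma, and the assertion
covers the logarithmic q-forms for all q together with their identification with the log de Rham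
complex of the log ring; only the degree-one freeness is stated here, from the properties of A
actually used.) -/
theorem result (p : ℕ) [Fact p.Prime]
    {A B : Type u} [CommRing A] [IsDomain A] [CharP A p] [CommRing B] [Algebra A B] {r N : ℕ}
    (hr : r ≤ N) (x : Fin N → A) [IsLocalization.Away (∏ i : Fin r, x (Fin.castLE hr i)) B]
    (u : Fin r → Bˣ) (hu : ∀ i, (u i : B) = algebraMap A B (x (Fin.castLE hr i)))
    {ι : Type u} (b : Module.Basis (Fin N ⊕ ι) A (Ω[A⁄ℤ])) (hb : ∀ i, b (Sum.inl i) = D ℤ A (x i)) :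
    ∃ e : Module.Basis (Fin N ⊕ ι) A
        (W4c6katofilta.logForms1 (fun i : Fin r => x (Fin.castLE hr i)) u),
      (∀ i : Fin r, (e (Sum.inl (Fin.castLE hr i)) : Ω[B⁄ℤ]) =
          ((u i)⁻¹ : Bˣ) • KaehlerDifferential.map ℤ ℤ A B (D ℤ A (x (Fin.castLE hr i)))) ∧
      (∀ i : Fin N, r ≤ (i : ℕ) →
          (e (Sum.inl i) : Ω[B⁄ℤ]) = KaehlerDifferential.map ℤ ℤ A B (D ℤ A (x i))) ∧
      (∀ k : ι, (e (Sum.inr k) : Ω[B⁄ℤ]) = KaehlerDifferential.map ℤ ℤ A B (b (Sum.inr k))) := by
  classical
  set g : A := ∏ i : Fin r, x (Fin.castLE hr i) with hg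
  have hxne : ∀ i : Fin N, x i ≠ 0 := fun i h => by
    apply b.ne_zero (Sum.inl i)
    rw [hb, h, map_zero]
  have hg0 : g ≠ 0 := Finset.prod_ne_zero_iff.mpr fun i _ => hxne _
  have hinj : Function.Injective (algebraMap A B) := IsLocalization.injective B
    (powers_le_nonZeroDivisors_of_noZeroDivisors hg0 : Submonoid.powers g ≤ nonZeroDivisors A)
  let eB := b.ofIsLocalizedModule B (Submonoid.powers g) (KaehlerDifferential.map ℤ ℤ A B)
  let c : Fin N ⊕ ι → Bˣ := Sum.elim (fun i => if h : (i : ℕ) < r then (u ⟨i, h⟩)⁻¹ else 1) (fun _ => 1)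
  let w := eB.unitsSMul c
  have hw : ∀ j, w j = c j • KaehlerDifferential.map ℤ ℤ A B (b j) := fun j => by
    simp [w, eB, Module.Basis.unitsSMul_apply]
  have hw1 : ∀ i : Fin r, w (Sum.inl (Fin.castLE hr i)) =
      ((u i)⁻¹ : Bˣ) • KaehlerDifferential.map ℤ ℤ A B (D ℤ A (x (Fin.castLE hr i))) := fun i => by
    rw [hw, ← hb]
    simp [c]
  have hw2 : ∀ i : Fin N, r ≤ (i : ℕ) → w (Sum.inl i) = KaehlerDifferential.map ℤ ℤ A B (D ℤ A (x i)) :=
    fun i hi => by
    rw [hw, ← hb]
    simp [c, Nat.not_lt.mpr hi]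
  have hw3 : ∀ k : ι, w (Sum.inr k) = KaehlerDifferential.map ℤ ℤ A B (b (Sum.inr k)) := fun k => by
    rw [hw]; simp [c]
  have hli : LinearIndependent A w :=
    w.linearIndependent.restrict_scalars (fun a a' h => hinj (by
      rwa [Algebra.algebraMap_eq_smul_one, Algebra.algebraMap_eq_smul_one]))
  have hspan : Submodule.span A (Set.range w) =
      W4c6katofilta.logForms1 (fun i : Fin r => x (Fin.castLE hr i)) u := by
    refine le_antisymm (Submodule.span_le.mpr ?_) ?_
    · rintro _ ⟨j, rfl⟩
      rcases j with i | k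
      · by_cases hi : (i : ℕ) < r
        · obtain ⟨i, rfl⟩ : ∃ i' : Fin r, i = Fin.castLE hr i' := ⟨⟨i, hi⟩, Fin.ext rfl⟩
          rw [hw1]
          exact Submodule.subset_span (Or.inr ⟨i, rfl⟩)
        · rw [hw2 i (Nat.not_lt.mp hi)]
          exact Submodule.subset_span (Or.inl ⟨_, rfl⟩)
      · rw [hw3]
        exact Submodule.subset_span (Or.inl ⟨_, rfl⟩)
    · refine Submodule.span_le.mpr (Set.union_subset ?_ ?_)
      · rintro _ ⟨m, rfl⟩
        have hm : m ∈ Submodule.span A (Set.range b) := by rw [b.span_eq]; trivial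
        have hmap := Submodule.mem_map_of_mem (f := KaehlerDifferential.map ℤ ℤ A B) hm 
        rw [Submodule.map_span] at hmap
        refine (Submodule.span_le.mpr ?_) hmap
        rintro _ ⟨_, ⟨j, rfl⟩, rfl⟩
        rcases j with i | k
        · by_cases hi : (i : ℕ) < r
          · obtain ⟨i, rfl⟩ : ∃ i' : Fin r, i = Fin.castLE hr i' := ⟨⟨i, hi⟩, Fin.ext rfl⟩
            have : x (Fin.castLE hr i) • w (Sum.inl (Fin.castLE hr i)) =
                KaehlerDifferential.map ℤ ℤ A B (b (Sum.inl (Fin.castLE hr i))) := by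
              rw [hw1, hb, ← algebraMap_smul B (x (Fin.castLE hr i)), ← hu i, Units.smul_def, smul_smul,
                Units.mul_inv, one_smul]
            rw [← this]
            exact Submodule.smul_mem _ _ (Submodule.subset_span ⟨_, rfl⟩)
          · rw [hb, ← hw2 i (Nat.not_lt.mp hi)]
            exact Submodule.subset_span ⟨_, rfl⟩
        · rw [← hw3]
          exact Submodule.subset_span ⟨_, rfl⟩
      · rintro _ ⟨i, rfl⟩
        exact Submodule.subset_span ⟨Sum.inl (Fin.castLE hr i), hw1 i⟩
  let e := (Module.Basis.span hli).map (LinearEquiv.ofEq _ _ hspan)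
  have he : ∀ j, (e j : Ω[B⁄ℤ]) = w j := fun j => by
    simp [e, Module.Basis.span_apply]
  exact ⟨e, fun i => (he _).trans (hw1 i), fun i hi => (he _).trans (hw2 i hi), fun k => (he _).trans (hw3 k)⟩

end Groth.Agent.S19273
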