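import Groth.Statements.S19274
-- import your own Groth.Agent.* helpers here
import Groth.Agent.WittFilUFD.Basic

set_option autoImplicit false
universe u
open WittFil

namespace Groth.Agent.S19274

/-- Let A be a unique factorisation domain of characteristic p, x a prime element of A, B = A[1/x] with
u the unit of B defined by x, m ≥ 1, and n an integer NOT divisible by p^m. For e in B and k ≥ 0
write fil_k(e) for the set of truncated p-typical Witt vectors of length k over B whose j-th
coordinate y_j satisfies y_j ^ (p ^ (k−1−j)) · e ∈ A for all j < k (the filtered piece; fil_k(u^n)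
is the piece of index n). Then fil_{m+1}(u^n) is contained in fil_{m+1}(u^(n−1)) + V(fil_m(u^n))
(the reverse inclusion is immediate): every a in fil_{m+1}(u^n) can be written a = b + V(y) with b
in fil_{m+1}(u^(n−1)) and y a Witt vector over B whose length-m truncation lies in fil_m(u^n), V(y)
being truncated to length m+1. (In the source A is a henselian discrete valuation ring, n = p^r·l >
1 with p not dividing l, and the condition reads m ≥ r + 1.) -/
theorem result (p : ℕ) [Fact p.Prime]
    {A B : Type u} [CommRing A] [IsDomain A] [UniqueFactorizationMonoid A] [CharP A p]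
    [CommRing B] [Algebra A B] (x : A) (hx : Prime x) [IsLocalization.Away x B] (u : Bˣ)
    (hu : (u : B) = algebraMap A B x) (m : ℕ) (hm : 0 < m) (n : ℤ) (hn : ¬ ((p : ℤ) ^ m ∣ n)) :
    ∀ a ∈ WittFil.fil p (m + 1) (A := A) ((u ^ n : Bˣ) : B),
      ∃ b ∈ WittFil.fil p (m + 1) (A := A) ((u ^ (n - 1) : Bˣ) : B),
        ∃ y : WittVector p B,
          WittVector.truncate m y ∈ WittFil.fil p m (A := A) ((u ^ n : Bˣ) : B) ∧
            a = b + WittVector.truncate (m + 1) (WittVector.verschiebung y) := by
  intro a ha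
  have hp := (Fact.out : p.Prime)
  obtain ⟨a', rfl⟩ := WittVector.truncate_surjective p (m + 1) B a
  haveI : IsLocalization.Away (∏ _i : Fin 1, x) B := by rw [Fin.prod_univ_one]; infer_instance
  have hz : ∀ e : ℤ, WittFil.zmon (fun _ : Fin 1 => u) (fun _ => e) = ((u ^ e : Bˣ) : B) := fun e => by
    simp [WittFil.zmon]
  have hxa : ∀ i j : Fin 1, Associated x x → i = j := fun i j _ => Subsingleton.elim i j
  let t := WittVector.teichmuller p (a'.coeff 0)
  have ht : ∀ e : ℤ, (a'.coeff 0) ^ p ^ m * ((u ^ e : Bˣ) : B) ∈ (algebraMap A B).range →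
      WittVector.truncate (m + 1) t ∈ WittFil.fil p (m + 1) (A := A) ((u ^ e : Bˣ) : B) := by
    intro e he j
    obtain ⟨j, hj⟩ := j
    rw [WittVector.coeff_truncate]
    rcases j with _ | j
    · simpa [t] using he
    · rw [show t.coeff (j + 1) = 0 from WittVector.teichmuller_coeff_pos _ _ _ j.succ_pos,
        zero_pow (pow_pos hp.pos _).ne', zero_mul]
      exact zero_mem _
  have h0 : (a'.coeff 0) ^ p ^ m * ((u ^ n : Bˣ) : B) ∈ (algebraMap A B).range := by
    simpa [WittVector.coeff_truncate] using ha 0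
  have h0' : (a'.coeff 0) ^ p ^ m * ((u ^ (n - 1) : Bˣ) : B) ∈ (algebraMap A B).range := by
    rw [← hz, Groth.Agent.WittFilUFD.mem_iff (fun _ : Fin 1 => x) (fun _ => hx) hxa _ (fun _ => hu) _ _
      (pow_pos hp.pos m)] at h0 ⊢
    have hdiv : (n - 1) / ((p ^ m : ℕ) : ℤ) = n / ((p ^ m : ℕ) : ℤ) := by
      have hP : (0 : ℤ) < ((p ^ m : ℕ) : ℤ) := by exact_mod_cast pow_pos hp.pos m
      have h1 := Int.mul_ediv_add_emod n ((p ^ m : ℕ) : ℤ)
      have h2 := Int.emod_lt_of_pos n hP
      have h3 := Int.emod_nonneg n hP.ne'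
      have h4 : n % ((p ^ m : ℕ) : ℤ) ≠ 0 := fun h => hn (by exact_mod_cast Int.dvd_of_emod_eq_zero h)
      conv_lhs => rw [show n - 1 = (n % ((p ^ m : ℕ) : ℤ) - 1) + ((p ^ m : ℕ) : ℤ) * (n / ((p ^ m : ℕ) : ℤ)) by linarith]
      rw [Int.add_mul_ediv_left _ _ hP.ne', Int.ediv_eq_zero_of_lt (by omega) (by omega), zero_add]
    rw [hdiv]
    exact h0
  let y : WittVector p B := WittVector.mk p fun j => (a' - t).coeff (j + 1)
  have hV : a' - t = WittVector.verschiebung y := by
    refine WittVector.ext fun j => ?_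
    rcases j with _ | j
    · rw [WittVector.verschiebung_coeff_zero]
      change WittVector.constantCoeff (a' - t) = 0
      rw [map_sub, sub_eq_zero]
      simp [t]
    · rw [WittVector.verschiebung_coeff_succ]
      rfl
  refine ⟨_, ht (n - 1) h0', y, fun j => ?_, ?_⟩
  · have h := Groth.Agent.WittFilUFD.sub_mem_fil p (fun _ : Fin 1 => x) (fun _ => hx) hxa (fun _ => u)
      (fun _ => hu) (fun _ => n) (m + 1) a' t (by rw [hz]; exact ha) (by rw [hz]; exact ht n h0)
      ⟨(j : ℕ) + 1, by omega⟩
    rw [hz, WittVector.coeff_truncate] at h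
    rw [WittVector.coeff_truncate]
    simp only [show m + 1 - 1 - ((j : ℕ) + 1) = m - 1 - j by have := j.2; omega] at h
    exact h
  · rw [← hV, map_sub, add_sub_cancel]

end Groth.Agent.S19274
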