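import Groth.Statements.S19284
import Groth.Agent.NormPlace.Affine
-- import your own Groth.Agent.* helpers here

set_option autoImplicit false
universe u
open NumberField

namespace Groth.Agent.S19284

/-- Let L/K be a finite extension of number fields and Ω an algebraic closure of K. Suppose that L/K is
almost abelian in the non-abelian way: for some prime number p there is a bijection between the set
of K-embeddings L → Ω and Z/p under which every K-automorphism of Ω acts by an affine transformation
x ↦ a x + b with a ≠ 0, and L/K is not an abelian extension (it is not Galois with commutative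
automorphism group). Then there is an intermediate extension K ⊂ E ⊂ Ω contained in the normal
closure of L, Galois over K with nontrivial cyclic group, such that for every finite place w of K
which is unramified in L (every prime of the integers of L above w has ramification index 1), either
E admits a K-algebra embedding into the completion K_w (since E/K is Galois: w splits completely in
E) or L admits a K-algebra embedding into K_w (L has a place of degree 1 over w). (Only finite
places are treated here.) -/
theorem result (K L Ω : Type u) [Field K] [NumberField K]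
    [Field L] [NumberField L] [Algebra K L] [Field Ω] [Algebra K Ω] [IsAlgClosure K Ω]
    (p : ℕ) (hp : p.Prime) (e : (L →ₐ[K] Ω) ≃ ZMod p)
    (haff : ∀ σ : Ω ≃ₐ[K] Ω, ∃ a b : ZMod p, a ≠ 0 ∧
      ∀ φ : L →ₐ[K] Ω, e (σ.toAlgHom.comp φ) = a * e φ + b)
    (hnab : IsGalois K L → ∃ σ τ : L ≃ₐ[K] L, σ * τ ≠ τ * σ) :
    ∃ E : IntermediateField K Ω, E ≤ IntermediateField.normalClosure K L Ω ∧
      FiniteDimensional K E ∧ IsGalois K E ∧ IsCyclic (E ≃ₐ[K] E) ∧ 1 < Module.finrank K E ∧
      ∀ w : IsDedekindDomain.HeightOneSpectrum (NumberField.RingOfIntegers K),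
        (∀ P : Ideal (NumberField.RingOfIntegers L), P.IsPrime → P.LiesOver w.asIdeal →
          P.ramificationIdx (NumberField.RingOfIntegers K) = 1) →
        Nonempty (E →ₐ[K] w.adicCompletion K) ∨ Nonempty (L →ₐ[K] w.adicCompletion K) := by
  classical
  have : Fact p.Prime := ⟨hp⟩
  have : IsAlgClosed Ω := IsAlgClosure.isAlgClosed K
  have : Algebra.IsAlgebraic K Ω := IsAlgClosure.isAlgebraic
  have : Normal K Ω := IsAlgClosure.normal K Ω
  have : FiniteDimensional K L := Module.Finite.of_restrictScalars_finite ℚ K L
  let N := IntermediateField.normalClosure K L Ω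
  have : CharZero N := charZero_of_injective_algebraMap (algebraMap K N).injective
  have : NumberField N := { to_finiteDimensional := Module.Finite.trans K N }
  have : IsGalois K N := { }
  let inc : (L →ₐ[K] N) ≃ (L →ₐ[K] Ω) :=
    { toFun := fun φ => N.val.comp φ
      invFun := fun φ => φ.codRestrict N.toSubalgebra fun x => φ.fieldRange_le_normalClosure ⟨x, rfl⟩
      left_inv := fun φ => AlgHom.ext fun x => Subtype.ext rfl
      right_inv := fun φ => AlgHom.ext fun x => rfl }
  have haff' : ∀ h : N ≃ₐ[K] N, ∃ a b : ZMod p, a ≠ 0 ∧ ∀ φ : L →ₐ[K] N,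
      (inc.trans e) (h.toAlgHom.comp φ) = a * (inc.trans e) φ + b := fun h => by
    obtain ⟨a, b, ha, hab⟩ := haff (h.liftNormal Ω)
    refine ⟨a, b, ha, fun φ => ?_⟩
    rw [Equiv.trans_apply, Equiv.trans_apply, ← hab]
    congr 1
    exact AlgHom.ext fun x => (h.liftNormal_commutes Ω (φ x)).symm
  have hfaith : ∀ h : N ≃ₐ[K] N, (∀ φ : L →ₐ[K] N, h.toAlgHom.comp φ = φ) → h = 1 := fun h hh => by
    have hle : N ≤ IntermediateField.lift (IntermediateField.fixedField (Subgroup.zpowers h)) := by
      show IntermediateField.normalClosure K L Ω ≤ _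
      rw [normalClosure_def]
      refine iSup_le fun φ => ?_
      rintro _ ⟨x, rfl⟩
      refine ⟨inc.symm φ x, ?_, rfl⟩
      intro g
      obtain ⟨g, hg⟩ := g
      have hfix : h (inc.symm φ x) = inc.symm φ x := AlgHom.congr_fun (hh (inc.symm φ)) x
      refine (?_ : g (inc.symm φ x) = inc.symm φ x)
      have hmem : g ∈ MulAction.stabilizer (N ≃ₐ[K] N) (inc.symm φ x) :=
        Subgroup.zpowers_le.2 (MulAction.mem_stabilizer_iff.2 hfix) hg
      exact MulAction.mem_stabilizer_iff.1 hmem
    refine AlgEquiv.ext fun x => ?_
    obtain ⟨y, hy, hyx⟩ := hle x.2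
    have hyx' : y = x := Subtype.ext hyx
    exact hyx' ▸ hy ⟨h, Subgroup.mem_zpowers h⟩
  obtain ⟨E, hgal, hcyc, hrank, hw⟩ := NormPlace.exists_translation_field p (inc.trans e) haff' hfaith hnab
  let eE : E ≃ₐ[K] IntermediateField.lift E := IntermediateField.liftAlgEquiv E
  refine ⟨IntermediateField.lift E, IntermediateField.lift_le E, eE.toLinearEquiv.finiteDimensional,
    IsGalois.of_algEquiv eE, isCyclic_of_injective eE.autCongr.symm.toMonoidHom eE.autCongr.symm.injective,
    eE.toLinearEquiv.finrank_eq ▸ hrank, fun w hram => ?_⟩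
  refine (hw w fun Q hQ => hram Q.asIdeal Q.isPrime ((NormPlace.liesOver_iff Q w).2 hQ)).imp ?_ id
  rintro ⟨f⟩
  exact ⟨f.comp eE.symm.toAlgHom⟩

end Groth.Agent.S19284
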