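import Groth.Statements.S19288
import Groth.Agent.Rigid.Smooth
import Groth.Agent.EtaleSections.Basic

set_option autoImplicit false
universe u
open CategoryTheory CategoryTheory.Limits MonoidalCategory CartesianMonoidalCategory MonObj AlgebraicGeometry
open AbSch

namespace Groth.Agent.S19288

/-- Let S be a scheme, X a commutative S-group scheme which is etale and separated over S (hence locally
of finite presentation), and P a commutative S-group scheme of finite presentation over S all of
whose fibres are connected. Then every homomorphism of S-group schemes from P to X is trivial (it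
factors through the unit section). -/
theorem result {S : Scheme.{u}} (P X : Over S)
    [GrpObj P] [IsCommMonObj P] [GrpObj X] [IsCommMonObj X]
    [Etale X.hom] [IsSeparated X.hom]
    [QuasiCompact P.hom] [QuasiSeparated P.hom] [LocallyOfFinitePresentation P.hom]
    (hP : ∀ s : S, ConnectedSpace ↥(P.hom.fiber s))
    (f : P ⟶ X) [IsMonHom f] : f = 1 := by

  have hid : η[X].left ≫ X.hom = 𝟙 S := Over.w η[X]
  have hci : IsClosedImmersion η[X].left := by
    have h : IsClosedImmersion (η[X].left ≫ X.hom) := by rw [hid]; exact inferInstanceAs (IsClosedImmersion (𝟙 S))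
    exact IsClosedImmersion.of_comp η[X].left X.hom
  have e : IsOpenImmersion η[X].left := by
    have h : Etale (η[X].left ≫ X.hom) := by rw [hid]; exact inferInstanceAs (Etale (𝟙 S))
    have h' : Etale η[X].left := Etale.of_comp η[X].left X.hom
    exact Groth.Agent.EtaleSections.isOpenImmersion_of_etale_universallyInjective η[X].left
  have hcl : IsClosed (Set.range η[X].left) := η[X].left.isClosedEmbedding.isClosed_range
  have hclopen : IsClopen (f.left ⁻¹' Set.range η[X].left) :=
    IsClopen.preimage ⟨hcl, η[X].left.isOpenEmbedding.isOpen_range⟩ f.left.continuous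
  have hrange : Set.range f.left ⊆ Set.range η[X].left := by
    rintro _ ⟨p, rfl⟩
    have hc : _root_.IsPreconnected (P.hom ⁻¹' {P.hom p}) := by
      have := hP (P.hom p)
      rw [← P.hom.range_fiberι]
      exact isPreconnected_range (P.hom.fiberι (P.hom p)).continuous
    refine hc.subset_isClopen hclopen ⟨η[P].left (P.hom p), ?_, ?_⟩ (rfl : p ∈ P.hom ⁻¹' {P.hom p})
    · rw [Set.mem_preimage, Set.mem_singleton_iff, ← Scheme.Hom.comp_apply, Over.w η[P]]
      try rfl
    · refine ⟨P.hom p, ?_⟩
      change η[X].left (P.hom p) = (η[P].left ≫ f.left) (P.hom p)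
      rw [← Over.comp_left, IsMonHom.one_hom]
  let l := IsOpenImmersion.lift η[X].left f.left hrange
  have hl : l ≫ η[X].left = f.left := IsOpenImmersion.lift_fac _ _ _
  have hl' : l = P.hom := by
    rw [← Over.w f, ← hl, Category.assoc, show η[X].left ≫ X.hom = 𝟙 S from Over.w η[X]]
    exact (Category.comp_id _).symm
  rw [Hom.one_def]
  apply Over.OverMorphism.ext
  rw [← hl, hl']
  rfl


end Groth.Agent.S19288
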