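import Groth.Statements.S1930
import Groth.Agent.CycK0.GysComm
import Groth.Agent.S1899

set_option autoImplicit false
universe u
open CategoryTheory AlgebraicGeometry
open Cyc

set_option backward.isDefEq.respectTransparency false
set_option backward.isDefEq.respectTransparency.types false

namespace Groth.Agent.S1930

/-- Let X be integral with generic point η and δ(η) = n, i : D → X an effective Cartier divisor given as
the zero scheme of a global section s of an invertible module L which is a nonzerodivisor at every
point, N an invertible O_X-module and t ∈ N(η) a nonzero rational section. Then i^*(div_N t) ∼_rat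
c_1(N|_D) ∩ [D]_{n−1} as (n − 2)-cycles on D, the right side computed with any nonzero rational
sections of i^*N on D. Here i : D → X is the zero scheme of a global section s of the invertible
module L (Cyc.IsZeroSchemeOf), the Gysin map i^* : Z_{k+1}(X) → CH_k(D) is computed on coefficient
functions as c_1(L) ∩ − with the rational sections taken to be s where it is nonzero
(Cyc.gysinChoice) and restricted to the points of D, and classes on D are compared up to rational
equivalence on D for the restricted dimension function. Here a pair (X, δ) satisfying Cyc.IsSetup (X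
locally Noetherian with universally catenary local rings, δ a dimension function) plays the role of
a scheme locally of finite type over a fixed base equipped with a dimension function. -/
theorem result (X D : Scheme.{u}) [IsIntegral X] (δ : X → ℤ) (hX : Cyc.IsSetup X δ) (n : ℤ) (hn : δ (genericPoint X) = n) (L : X.Modules) (hL : PicF.IsInvertible L) (s : L.presheaf.obj (Opposite.op ⊤)) (hreg : ∀ x : X, Function.Injective (fun a : X.presheaf.stalk x => a • (L.presheaf.germ ⊤ x trivial) s)) (i : D ⟶ X) [IsClosedImmersion i] (hD : Cyc.IsZeroSchemeOf i L s) (N : X.Modules) (hN : PicF.IsInvertible N) (t : Cyc.secFibre N (genericPoint X)) (ht : t ≠ 0) (w : (ξ : X) → Cyc.secFibre L ξ) (hw : ∀ ξ, w ξ ≠ 0) (u : (d : D) → Cyc.secFibre ((Scheme.Modules.pullback i).obj N) d) (hu : ∀ d, u d ≠ 0) (γ₁ γ₂ : AlgebraicCycle D ℤ) (h₁ : ∀ d : D, γ₁ d = Cyc.c1CapFun δ L (Cyc.secDivFun δ N (genericPoint X) t) (Cyc.gysinChoice L s w) (i d)) (h₂ : ⇑γ₂ = Cyc.c1CapFun (fun d => δ (i d)) ((Scheme.Modules.pullback i).obj N) (Cyc.subschemeFun (fun d => δ (i d)) (n - 1) (𝟙 D)) u) : Cyc.RatEquiv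 (fun d => δ (i d)) (n - 2) γ₁ γ₂ := by
  classical
  haveI := hX.1
  haveI : IsLocallyNoetherian D := LocallyOfFiniteType.isLocallyNoetherian i
  have hδ := hX.2.2
  let η := genericPoint X
  have hle : ∀ x : X, δ x ≤ n ∧ (δ x = n → x = η) := fun x => by
    have h : η ⤳ x := genericPoint_specializes x
    by_cases he : η = x
    · exact ⟨le_of_eq (by rw [← he]; exact hn), fun _ => he.symm⟩
    · have h1 : δ x < δ (genericPoint X) := (hδ η x h he).1
      exact ⟨by omega, fun h2 => by omega⟩
  let O := Coh.structureModule X
  have hO : Coh.IsCoh O := Groth.Agent.Devissage.isCoh_unit X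
  haveI := hO.1
  have hO1 : Cyc.sheafFun δ n O = fun x => if x = η then (1 : ℤ) else 0 := by
    funext x
    by_cases hx : δ x = n
    · obtain rfl := (hle x).2 hx
      obtain ⟨e, -⟩ := Groth.Agent.RefStalk.exists_structStalk (X := X) η
      haveI : IsSimpleModule (X.presheaf.stalk η) (X.presheaf.stalk η) := by
        rw [isSimpleModule_iff]
        haveI : IsField (X.presheaf.stalk η) := Field.toIsField X.functionField
        letI := this.toField
        exact inferInstanceAs (IsSimpleOrder (Ideal (X.presheaf.stalk η)))
      rw [Cyc.sheafFun, if_pos hx, if_pos rfl, ← e.length_eq, Module.length_eq_one]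
      rfl
    · rw [Cyc.sheafFun, if_neg hx, if_neg fun h => hx (by rw [h]; exact hn)]
  obtain ⟨α, hα⟩ := Groth.Agent.CycK0.exists_cycle_affine (fun x : X => if x = η then (1 : ℤ) else 0)
    fun {U} _ => (Set.finite_singleton η).subset fun x hx => by
      by_contra h
      exact hx.2 (if_neg h)
  have hk : α ∈ Cyc.Zk X δ ((n - 2) + 2) := fun x hx => by
    rw [hα]
    exact if_neg fun h => hx (by rw [h]; show δ (genericPoint X) = _; omega)
  have hcap : ∀ {M : X.Modules} (v : (x : X) → Cyc.secFibre M x),
      Cyc.c1CapFun δ M ⇑α v = Cyc.secDivFun δ M η (v η) := fun v => funext fun x => by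
    rw [Cyc.c1CapFun, finsum_eq_single _ η fun y hy => by simp [hα, hy], hα]
    simp
  have hN0 : ∀ x : X, ∃ m : Cyc.secFibre N x, m ≠ 0 := fun x => by
    obtain ⟨A, e, hx, he⟩ := TMul.exists_isGen hN x
    exact ⟨_, Groth.Agent.C1Cap.mk_gen_ne_zero he hx (isUnit_one (M := X.presheaf.stalk x))⟩
  let v : (x : X) → Cyc.secFibre N x := Function.update (fun x => (hN0 x).choose) η t
  have hv : ∀ x, v x ≠ 0 := fun x => by
    by_cases h : x = η
    · subst h
      show Function.update (fun x => (hN0 x).choose) η t η ≠ 0
      rw [Function.update_self]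
      exact ht
    · show Function.update (fun x => (hN0 x).choose) η t x ≠ 0
      rw [Function.update_of_ne h]
      exact (hN0 x).choose_spec
  refine Groth.Agent.CycK0.gysin_cap_comm (k := n - 2) hX hL hD hN α hk w hw v hv u hu γ₁ γ₂ (fun d => ?_) ?_
  · rw [h₁ d, hcap v, show v η = t from Function.update_self η t _]
  · rw [h₂]
    refine congrArg (fun a => Cyc.c1CapFun (fun d => δ (i d)) ((Scheme.Modules.pullback i).obj N) a u) (funext fun d => ?_)
    have hreg' : ∀ (x : X) (t' : L.presheaf.stalk x) (f : X.presheaf.stalk x),
        Submodule.span (X.presheaf.stalk x) {t'} = ⊤ → (L.presheaf.germ ⊤ x trivial) s = f • t' →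
          Function.Injective (fun m : O.presheaf.stalk x => f • m) := fun x t' f _ hs a b hab => by
      obtain ⟨e, -⟩ := Groth.Agent.RefStalk.exists_structStalk (X := X) x
      refine e.symm.injective (hreg x ?_)
      show e.symm a • (L.presheaf.germ ⊤ x trivial) s = e.symm b • (L.presheaf.germ ⊤ x trivial) s
      have h2 : f • e.symm a = f • e.symm b := by rw [← map_smul, ← map_smul]; exact congrArg e.symm hab
      simp only [smul_eq_mul] at h2
      rw [hs, smul_smul, smul_smul, mul_comm (e.symm a), mul_comm (e.symm b), h2]
    have h := Groth.Agent.C1Cap.gysin_sheafFun (k := n - 1) hδ hL s i hD O hO.2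
      (fun x _ => by rw [sub_add_cancel]; exact (hle x).1) hreg' w d
    rw [sub_add_cancel, hO1, ← hα] at h
    rw [h]
    simp only [Cyc.subschemeFun, Cyc.sheafFun]
    split
    · obtain ⟨e, -⟩ := Groth.Agent.RefStalk.exists_structStalk (X := D) d
      rw [show {z : D | (𝟙 D : D ⟶ D) z = d} = {d} from Set.ext fun z => Iff.rfl, finsum_mem_singleton]
      refine congrArg (fun m : ℕ∞ => ((m.toNat : ℕ) : ℤ)) (e.length_eq.trans ?_)
      exact (((Groth.Agent.K0Dev.St d).mapIso (PicLoc.pullbackStructureIso i)).toLinearEquiv).length_eq.symm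
    · rfl

end Groth.Agent.S1930
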