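import Groth.Statements.S19306
import Mathlib

set_option autoImplicit false
universe u
open PowerSeries
open CAlg
open scoped TensorProduct

namespace Groth.Agent.S19306

open PowerSeries in
theorem flat_quotient_of_inf {R : Type u} [CommRing R] {P : Type u} [AddCommGroup P] [Module R P]
    [Module.Flat R P] (N : Submodule R P)
    (h : ∀ I : Ideal R, ∀ p ∈ N, p ∈ I • (⊤ : Submodule R P) → p ∈ I • N) :
    Module.Flat R (P ⧸ N) := by
  rw [Module.Flat.iff_rTensor_injective]
  intro I _
  rw [injective_iff_map_eq_zero]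
  intro z hz
  obtain ⟨w, rfl⟩ := LinearMap.lTensor_surjective I N.mkQ_surjective z
  let m : I ⊗[R] P →ₗ[R] P := (TensorProduct.lid R P).toLinearMap ∘ₗ I.subtype.rTensor P
  have hm : Function.Injective m := (TensorProduct.lid R P).injective.comp
    (Module.Flat.rTensor_preserves_injective_linearMap _ I.injective_subtype)
  have hcomm : ∀ y : I ⊗[R] P, TensorProduct.lid R (P ⧸ N) (I.subtype.rTensor (P ⧸ N)
      (N.mkQ.lTensor I y)) = N.mkQ (m y) := by
    intro y
    induction y using TensorProduct.induction_on with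
    | zero => simp
    | tmul a p => simp [m]
    | add a b ha hb => simp only [map_add, ha, hb]
  have hN : m w ∈ N := by
    rw [← Submodule.Quotient.mk_eq_zero, ← Submodule.mkQ_apply, ← hcomm, hz, map_zero]
  have hI : ∀ y : I ⊗[R] P, m y ∈ I • (⊤ : Submodule R P) := by
    intro y
    induction y using TensorProduct.induction_on with
    | zero => simp
    | tmul a p => simpa [m] using Submodule.smul_mem_smul a.2 (Submodule.mem_top (x := p))
    | add a b ha hb => rw [map_add]; exact add_mem ha hb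
  have hmem : m w ∈ Submodule.map (m ∘ₗ N.subtype.lTensor I) ⊤ := by
    refine Submodule.smul_induction_on (h I _ hN (hI w)) (fun a ha p hp => ?_) fun x y hx hy =>
      add_mem hx hy
    exact ⟨(⟨a, ha⟩ : I) ⊗ₜ[R] (⟨p, hp⟩ : N), trivial, by simp [m]⟩
  obtain ⟨w', -, hw'⟩ := hmem
  rw [← hm hw', ← LinearMap.comp_apply, ← LinearMap.lTensor_comp,
    show N.mkQ ∘ₗ N.subtype = 0 from LinearMap.ext fun x => by simp]
  simp

section
open PowerSeries
variable {R : Type u} [CommRing R] (n M : ℕ) (Λ : Submodule R⟦X⟧ (Fin n → R⟦X⟧))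

/-- truncated coefficients -/
noncomputable def tr : (Fin n → R⟦X⟧) →ₗ[R] (Fin n → Fin M → R) :=
  LinearMap.pi fun i => LinearMap.pi fun j => (coeff (R := R) (j : ℕ)) ∘ₗ LinearMap.proj i

/-- section of `tr` -/
noncomputable def emb : (Fin n → Fin M → R) →ₗ[R] (Fin n → R⟦X⟧) :=
  LinearMap.pi fun i => ∑ j : Fin M, (monomial (R := R) (j : ℕ)) ∘ₗ LinearMap.proj j ∘ₗ LinearMap.proj i

theorem tr_emb (p : Fin n → Fin M → R) : tr n M (emb n M p) = p := by
  funext i j
  simp [tr, emb, coeff_monomial, Fin.val_inj]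

theorem exists_sub_emb (v : Fin n → R⟦X⟧) :
    ∃ w : Fin n → R⟦X⟧, v - emb n M (tr n M v) = (PowerSeries.X : R⟦X⟧) ^ M • w := by
  have h : ∀ i, (PowerSeries.X : R⟦X⟧) ^ M ∣ (v - emb n M (tr n M v)) i := fun i => by
    rw [PowerSeries.X_pow_dvd_iff]
    intro j hj
    simp only [Pi.sub_apply, map_sub, emb, tr, LinearMap.pi_apply, LinearMap.coe_sum,
      Finset.sum_apply, LinearMap.comp_apply, LinearMap.proj_apply, map_sum, coeff_monomial]
    rw [Finset.sum_eq_single ⟨j, hj⟩ (fun b _ hb => if_neg fun h => hb (Fin.ext h.symm))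
      (by simp)]
    simp
  choose w hw using h
  exact ⟨w, funext fun i => hw i⟩

variable {n M Λ} (hΛ : ∀ v : Fin n → R⟦X⟧, ((PowerSeries.X : R⟦X⟧) ^ M) • v ∈ Λ)
include hΛ

theorem sub_emb_mem (v : Fin n → R⟦X⟧) : v - emb n M (tr n M v) ∈ Λ := by
  obtain ⟨w, hw⟩ := exists_sub_emb n M v
  rw [hw]; exact hΛ w

theorem emb_tr_mem {v : Fin n → R⟦X⟧} (hv : v ∈ Λ) : emb n M (tr n M v) ∈ Λ := by
  simpa using sub_mem hv (sub_emb_mem hΛ v)

omit hΛ in
/-- presentation of the quotient -/
theorem quot_ker (p : Fin n → Fin M → R) :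
    Submodule.Quotient.mk (p := Λ) (emb n M p) = 0 ↔ p ∈ (Λ.restrictScalars R).comap (emb n M) :=
  Submodule.Quotient.mk_eq_zero _

theorem quotient_equiv :
    Nonempty (((Fin n → Fin M → R) ⧸ (Λ.restrictScalars R).comap (emb n M)) ≃ₗ[R]
      ((Fin n → R⟦X⟧) ⧸ Λ)) := by
  let f : (Fin n → Fin M → R) →ₗ[R] ((Fin n → R⟦X⟧) ⧸ Λ) := (Λ.mkQ.restrictScalars R) ∘ₗ emb n M
  have hf : Function.Surjective f := fun q => by
    obtain ⟨v, rfl⟩ := Submodule.Quotient.mk_surjective Λ q
    exact ⟨tr n M v, ((Submodule.Quotient.eq Λ).2 (by simpa using neg_mem (sub_emb_mem hΛ v)))⟩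
  have hker : LinearMap.ker f = (Λ.restrictScalars R).comap (emb n M) := by
    ext p
    exact quot_ker p
  exact ⟨(Submodule.quotEquivOfEq _ _ hker.symm).trans (f.quotKerEquivOfSurjective hf)⟩

omit hΛ in
theorem divX_mem {I : Ideal R} {z : R⟦X⟧} (hz : z ∈ I.map (C (R := R))) :
    constantCoeff z ∈ I ∧ ∃ d ∈ I.map (C (R := R)), z = C (constantCoeff z) + X * d := by
  have key : ∀ y : R⟦X⟧, ∃ d, y = C (constantCoeff y) + X * d := fun y => by
    obtain ⟨d, hd⟩ := X_dvd_iff.2 (show constantCoeff (y - C (constantCoeff y)) = 0 by simp)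
    exact ⟨d, by rw [← hd]; ring⟩
  induction hz using Submodule.span_induction with
  | mem y hy =>
    obtain ⟨a, ha, rfl⟩ := hy
    exact ⟨by simpa using ha, 0, Ideal.zero_mem _, by simp⟩
  | zero => exact ⟨by simp, 0, Ideal.zero_mem _, by simp⟩
  | add y y' _ _ hy hy' =>
    obtain ⟨h1, d, hd, e⟩ := hy
    obtain ⟨h1', d', hd', e'⟩ := hy'
    refine ⟨by simpa using add_mem h1 h1', d + d', add_mem hd hd', ?_⟩
    conv_lhs => rw [e, e']
    simp; ring
  | smul r y _ hy =>
    obtain ⟨h1, d, hd, e⟩ := hy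
    obtain ⟨d', e'⟩ := key r
    refine ⟨by simpa using Ideal.mul_mem_left _ (constantCoeff r) h1,
      d' * C (constantCoeff y) + r * d,
      add_mem (Ideal.mul_mem_left _ _ (Ideal.mem_map_of_mem _ h1)) (Ideal.mul_mem_left _ _ hd), ?_⟩
    simp only [smul_eq_mul, map_mul]
    conv_lhs => rw [e, mul_add, e']
    conv_rhs => rw [e']
    simp; ring

omit hΛ in
theorem of_X_mul_mem {I : Ideal R} {z : R⟦X⟧} (hz : X * z ∈ I.map (C (R := R))) :
    z ∈ I.map (C (R := R)) := by
  obtain ⟨-, d, hd, e⟩ := divX_mem hz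
  rw [map_mul, constantCoeff_X, zero_mul, map_zero, zero_add] at e
  have : z = d := X_mul_inj.1 e
  rwa [this]

theorem projective_quotient [Module.Finite R⟦X⟧ Λ] [Module.Projective R⟦X⟧ Λ] :
    Module.Projective R ((Fin n → R⟦X⟧) ⧸ Λ) := by
  classical
  set N := (Λ.restrictScalars R).comap (emb n M) with hN
  have htr : ∀ v ∈ Λ, tr n M v ∈ N := fun v hv => emb_tr_mem hΛ hv
  have hflat : Module.Flat R ((Fin n → Fin M → R) ⧸ N) := by
    refine flat_quotient_of_inf N fun I p hp hpI => ?_
    set J := I.map (C (R := R))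
    have h1 : emb n M p ∈ J • (⊤ : Submodule R⟦X⟧ (Fin n → R⟦X⟧)) := by
      refine Submodule.smul_induction_on hpI (fun a ha q _ => ?_) fun x y hx hy => by
        rw [map_add]; exact add_mem hx hy
      rw [map_smul, ← algebraMap_smul R⟦X⟧ a]
      exact Submodule.smul_mem_smul (Ideal.mem_map_of_mem _ ha) Submodule.mem_top
    let v : Λ := ⟨emb n M p, hp⟩
    -- `X ^ M • v ∈ J • Λ`
    let ψ : (Fin n → R⟦X⟧) →ₗ[R⟦X⟧] Λ :=
      LinearMap.codRestrict Λ (LinearMap.lsmul R⟦X⟧ _ ((X : R⟦X⟧) ^ M)) hΛ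
    have h2 : ∀ j : ℕ, ∀ z : Λ, (X : R⟦X⟧) ^ j • z ∈ J • (⊤ : Submodule R⟦X⟧ Λ) →
        z ∈ J • (⊤ : Submodule R⟦X⟧ Λ) := by
      intro j
      induction j with
      | zero => intro z hz; simpa using hz
      | succ j ih =>
        intro z hz
        refine ih z ?_
        obtain ⟨s, hs⟩ := Module.projective_def.1 (inferInstance : Module.Projective R⟦X⟧ Λ)
        have hcoef : ∀ b, s ((X : R⟦X⟧) ^ j • z) b ∈ J := fun b => of_X_mul_mem (by
          have : ∀ y ∈ J • (⊤ : Submodule R⟦X⟧ Λ), s y b ∈ J := fun y hy => by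
            refine Submodule.smul_induction_on hy (fun a ha q _ => ?_) fun x y hx hy => by
              rw [map_add, Finsupp.add_apply]; exact add_mem hx hy
            rw [map_smul, Finsupp.smul_apply, smul_eq_mul]
            exact Ideal.mul_mem_right _ _ ha
          have h := this _ hz
          rwa [pow_succ', mul_smul, map_smul, Finsupp.smul_apply, smul_eq_mul] at h)
        rw [← hs ((X : R⟦X⟧) ^ j • z), Finsupp.linearCombination_apply]
        exact Submodule.sum_mem _ fun b _ => Submodule.smul_mem_smul (hcoef b) Submodule.mem_top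
    have h3 : v ∈ J • (⊤ : Submodule R⟦X⟧ Λ) := h2 M v (by
      have : (X : R⟦X⟧) ^ M • v = ψ (emb n M p) := Subtype.ext rfl
      rw [this]
      exact Submodule.smul_top_le_comap_smul_top J ψ h1)
    have h4 : ∀ z : Λ, z ∈ J • (⊤ : Submodule R⟦X⟧ Λ) →
        ∀ r : R⟦X⟧, tr n M (r • (z : Fin n → R⟦X⟧)) ∈ I • N := by
      intro z hz
      refine Submodule.smul_induction_on hz (fun a ha q _ => ?_) fun x y hx hy r => by
        rw [Submodule.coe_add, smul_add, map_add]; exact add_mem (hx r) (hy r)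
      induction ha using Submodule.span_induction generalizing q with
      | mem y hy =>
        obtain ⟨c, hc, rfl⟩ := hy
        intro r
        rw [Submodule.coe_smul, smul_smul, mul_comm, mul_smul,
          show C c = algebraMap R R⟦X⟧ c from rfl, algebraMap_smul, map_smul]
        exact Submodule.smul_mem_smul hc (htr _ (Λ.smul_mem r q.2))
      | zero => intro r; simp
      | add y y' _ _ hy hy' =>
        intro r
        rw [add_smul, Submodule.coe_add, smul_add, map_add]
        exact add_mem (hy q trivial r) (hy' q trivial r)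
      | smul c y _ hy =>
        intro r
        have := hy q trivial (r * c)
        rw [Submodule.coe_smul, smul_smul] at this
        rw [Submodule.coe_smul, smul_eq_mul, smul_smul, ← mul_assoc]
        exact this
    have := h4 v h3 1
    rwa [one_smul, show ((v : Fin n → R⟦X⟧)) = emb n M p from rfl, tr_emb] at this
  have hNfg : N.FG := by
    obtain ⟨s, hs⟩ := (inferInstance : Module.Finite R⟦X⟧ Λ).fg_top
    let G : Finset (Fin n → Fin M → R) := (s ×ˢ (Finset.univ : Finset (Fin M))).image
      fun x => tr n M ((X : R⟦X⟧) ^ (x.2 : ℕ) • (x.1 : Fin n → R⟦X⟧))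
    refine ⟨G, le_antisymm (Submodule.span_le.2 fun g hg => ?_) fun p hp => ?_⟩
    · obtain ⟨x, -, rfl⟩ := Finset.mem_image.1 hg
      exact htr _ (Λ.smul_mem _ x.1.2)
    · have hall : ∀ z : Λ, ∀ r : R⟦X⟧, tr n M (r • (z : Fin n → R⟦X⟧)) ∈ Submodule.span R (G : Set _) := by
        intro z
        have hz : z ∈ Submodule.span R⟦X⟧ (s : Set Λ) := hs.ge trivial
        induction hz using Submodule.span_induction with
        | mem y hy =>
          intro r
          obtain ⟨w, hw⟩ := exists_sub_emb 1 M (fun _ => r)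
          have hr : r = (∑ j : Fin M, monomial (j : ℕ) (coeff (j : ℕ) r)) + X ^ M * w 0 := by
            have := congrFun hw 0
            simp only [Pi.sub_apply, Pi.smul_apply, smul_eq_mul, sub_eq_iff_eq_add] at this
            conv_lhs => rw [this, add_comm]
            simp [emb, tr]
          have h0 : tr n M ((X : R⟦X⟧) ^ M • (w 0 • (y : Fin n → R⟦X⟧))) = 0 := by
            funext i j
            simp [tr, coeff_X_pow_mul', j.2.not_ge]
          rw [hr, add_smul, mul_smul, map_add, h0, add_zero, Finset.sum_smul, map_sum]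
          refine Submodule.sum_mem _ fun j _ => ?_
          rw [show monomial (j : ℕ) (coeff (j : ℕ) r) = (coeff (j : ℕ) r) • (X : R⟦X⟧) ^ (j : ℕ) by
            rw [X_pow_eq, ← map_smul, smul_eq_mul, mul_one], smul_assoc, map_smul]
          exact Submodule.smul_mem _ _ (Submodule.subset_span
            (Finset.mem_image.2 ⟨(y, j), Finset.mem_product.2 ⟨hy, Finset.mem_univ _⟩, rfl⟩))
        | zero => intro r; simp
        | add a b _ _ ha hb => intro r; rw [Submodule.coe_add, smul_add, map_add]; exact add_mem (ha r) (hb r)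
        | smul c a _ ha => intro r; rw [Submodule.coe_smul, smul_smul]; exact ha _
      have := hall ⟨emb n M p, hp⟩ 1
      rwa [one_smul, tr_emb] at this
  haveI : Module.FinitePresentation R ((Fin n → Fin M → R) ⧸ N) :=
    Module.finitePresentation_of_surjective N.mkQ N.mkQ_surjective (by rwa [Submodule.ker_mkQ])
  haveI := hflat
  haveI : Module.Projective R ((Fin n → Fin M → R) ⧸ N) := Module.Flat.projective_of_finitePresentation
  obtain ⟨e⟩ := quotient_equiv hΛ
  exact Module.Projective.of_equiv e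

theorem lattice_projective [Module.Projective R ((Fin n → R⟦X⟧) ⧸ Λ)] :
    Module.Finite R⟦X⟧ Λ ∧ Module.Projective R⟦X⟧ Λ := by
  classical
  set N := (Λ.restrictScalars R).comap (emb n M) with hN
  obtain ⟨e⟩ := quotient_equiv hΛ
  haveI : Module.Projective R ((Fin n → Fin M → R) ⧸ N) := Module.Projective.of_equiv e.symm
  haveI : Module.FinitePresentation R ((Fin n → Fin M → R) ⧸ N) :=
    Module.finitePresentation_of_projective R _
  have hNfg : N.FG := by
    simpa using Module.FinitePresentation.fg_ker N.mkQ N.mkQ_surjective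
  constructor
  · obtain ⟨G, hG⟩ := hNfg
    refine Module.Finite.iff_fg.2 ⟨G.image (emb n M) ∪
      Finset.univ.image (fun i : Fin n => (X : R⟦X⟧) ^ M • (Pi.single i 1 : Fin n → R⟦X⟧)), ?_⟩
    refine le_antisymm (Submodule.span_le.2 fun v hv => ?_) fun v hv => ?_
    · rcases Finset.mem_union.1 hv with h | h
      · obtain ⟨p, hp, rfl⟩ := Finset.mem_image.1 h
        exact hG.le (Submodule.subset_span hp)
      · obtain ⟨i, -, rfl⟩ := Finset.mem_image.1 h
        exact hΛ _
    · obtain ⟨w, hw⟩ := exists_sub_emb n M v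
      rw [← sub_add_cancel v (emb n M (tr n M v)), hw]
      refine add_mem ?_ ?_
      · rw [pi_eq_sum_univ' w, Finset.smul_sum]
        refine Submodule.sum_mem _ fun i _ => ?_
        rw [smul_comm]
        exact Submodule.smul_mem _ _ (Submodule.subset_span
          (Finset.mem_union_right _ (Finset.mem_image_of_mem _ (Finset.mem_univ i))))
      · have h1 : tr n M v ∈ Submodule.span R (G : Set _) := by rw [hG]; exact emb_tr_mem hΛ hv
        have h2 : emb n M (tr n M v) ∈ (Submodule.span R⟦X⟧ ((G.image (emb n M) ∪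
            Finset.univ.image (fun i : Fin n => (X : R⟦X⟧) ^ M • (Pi.single i 1 : Fin n → R⟦X⟧)) :
              Finset _) : Set (Fin n → R⟦X⟧))).restrictScalars R := by
          refine Submodule.mem_comap.1 ((Submodule.span_le (p := Submodule.comap (emb n M) _)).2 (fun g hg => ?_) h1)
          exact Submodule.subset_span (Finset.mem_union_left _ (Finset.mem_image_of_mem _ hg))
        exact h2
  · let Q := (Fin n → R⟦X⟧) ⧸ Λ
    let π : R⟦X⟧ ⊗[R] Q →ₗ[R⟦X⟧] Q := LinearMap.liftBaseChange R⟦X⟧ (LinearMap.id : Q →ₗ[R] Q)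
    let T : Q →ₗ[R] Q := (LinearMap.lsmul R⟦X⟧ Q (X : R⟦X⟧)).restrictScalars R
    let D : R⟦X⟧ ⊗[R] Q →ₗ[R⟦X⟧] R⟦X⟧ ⊗[R] Q :=
      (X : R⟦X⟧) • LinearMap.id - T.baseChange R⟦X⟧
    have hXM : ∀ q : Q, (X : R⟦X⟧) ^ M • q = 0 := fun q => by
      obtain ⟨v, rfl⟩ := Submodule.Quotient.mk_surjective Λ q
      exact (Submodule.Quotient.mk_eq_zero _).2 (hΛ v)
    have hD : ∀ f q, D (f ⊗ₜ[R] q) = (X * f) ⊗ₜ[R] q - f ⊗ₜ[R] ((X : R⟦X⟧) • q) := fun f q => rfl
    have hTpow : ∀ j f q, ((T.baseChange R⟦X⟧)^[j]) (f ⊗ₜ[R] q) = f ⊗ₜ[R] ((X : R⟦X⟧) ^ j • q) := by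
      intro j f q
      induction j with
      | zero => simp
      | succ j ih =>
        rw [Function.iterate_succ_apply', ih, LinearMap.baseChange_tmul, pow_succ', mul_smul]
        rfl
    have hDinj : Function.Injective D := by
      rw [injective_iff_map_eq_zero]
      intro u hu
      have hu' : T.baseChange R⟦X⟧ u = (X : R⟦X⟧) • u := (sub_eq_zero.1 hu).symm
      have hpow : ∀ j, ((T.baseChange R⟦X⟧)^[j]) u = (X : R⟦X⟧) ^ j • u := by
        intro j
        induction j with
        | zero => simp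
        | succ j ih => rw [Function.iterate_succ_apply', ih, map_smul, hu', smul_smul, pow_succ]
      have h0 : ∀ z, ((T.baseChange R⟦X⟧)^[M]) z = 0 := fun z => by
        induction z using TensorProduct.induction_on with
        | zero => exact iterate_map_zero _ _
        | tmul f q => rw [hTpow, hXM, TensorProduct.tmul_zero]
        | add a b ha hb => rw [iterate_map_add, ha, hb, add_zero]
      have h1 := (hpow M).symm.trans (h0 u)
      haveI : Module.Projective R⟦X⟧ (R⟦X⟧ ⊗[R] Q) := inferInstance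
      obtain ⟨s, hs⟩ := Module.projective_def.1 this
      rw [← hs u]
      have : s u = 0 := Finsupp.ext fun b => by
        have h2 := congrArg (fun w => s w b) h1
        simp only [map_smul, map_zero, Finsupp.smul_apply, smul_eq_mul, Finsupp.zero_apply] at h2
        exact (X_pow_mul_injective (k := M) (h2.trans (mul_zero _).symm) :)
      rw [this, map_zero]
    have hπD : ∀ z, π (D z) = 0 := fun z => by
      induction z using TensorProduct.induction_on with
      | zero => simp
      | tmul f q => simp [π, hD, smul_smul, mul_comm]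
      | add a b ha hb => simp [map_add, ha, hb]
    have hrange : ∀ z, z - (1 : R⟦X⟧) ⊗ₜ[R] π z ∈ LinearMap.range D := by
      intro z
      induction z using TensorProduct.induction_on with
      | zero => simp
      | add a b ha hb =>
        rw [map_add, TensorProduct.tmul_add, add_sub_add_comm]; exact add_mem ha hb
      | tmul f q =>
        simp only [π, LinearMap.liftBaseChange_tmul, LinearMap.id_coe, id_eq]
        obtain ⟨w, hw⟩ := exists_sub_emb 1 M (fun _ => f)
        have hf : f = (∑ j : Fin M, (coeff (j : ℕ) f) • (X : R⟦X⟧) ^ (j : ℕ)) + X ^ M * w 0 := by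
          have := congrFun hw 0
          simp only [Pi.sub_apply, Pi.smul_apply, smul_eq_mul, sub_eq_iff_eq_add] at this
          conv_lhs => rw [this, add_comm]
          simp [emb, tr, X_pow_eq, ← map_smul]
        have hstep : ∀ j g, ((X : R⟦X⟧) ^ j * g) ⊗ₜ[R] q - g ⊗ₜ[R] ((X : R⟦X⟧) ^ j • q) ∈
            LinearMap.range D := by
          intro j
          induction j with
          | zero => intro g; simp
          | succ j ih =>
            intro g
            have h1 : (((X : R⟦X⟧) ^ (j + 1) * g) ⊗ₜ[R] q - g ⊗ₜ[R] ((X : R⟦X⟧) ^ (j + 1) • q)) =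
                (((X : R⟦X⟧) ^ j * (X * g)) ⊗ₜ[R] q - (X * g) ⊗ₜ[R] ((X : R⟦X⟧) ^ j • q)) +
                  D (g ⊗ₜ[R] ((X : R⟦X⟧) ^ j • q)) := by
              rw [hD, pow_succ, mul_assoc, smul_smul, mul_comm X ((X : R⟦X⟧) ^ j)]
              abel
            rw [h1]
            exact add_mem (ih _) ⟨_, rfl⟩
        rw [hf, add_smul, TensorProduct.add_tmul, TensorProduct.tmul_add, add_sub_add_comm,
          Finset.sum_smul, TensorProduct.sum_tmul, TensorProduct.tmul_sum, ← Finset.sum_sub_distrib]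
        refine add_mem (Submodule.sum_mem _ fun j _ => ?_) ?_
        · rw [smul_assoc, TensorProduct.tmul_smul, ← TensorProduct.smul_tmul']
          have := hstep j 1
          rw [mul_one] at this
          have h2 := Submodule.smul_of_tower_mem (LinearMap.range D) (coeff (j : ℕ) f) this
          rw [smul_sub] at h2
          exact h2
        · rw [mul_smul, hXM, TensorProduct.tmul_zero, sub_zero]
          have := hstep M (w 0)
          rwa [hXM, TensorProduct.tmul_zero, sub_zero] at this
    -- `Λ` is a retract of `F × (R⟦X⟧ ⊗ Q)`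
    obtain ⟨a, ha⟩ := Module.projective_lifting_property π Λ.mkQ fun q =>
      ⟨(1 : R⟦X⟧) ⊗ₜ[R] q, by simp [π]⟩
    obtain ⟨b, hb⟩ := Module.projective_lifting_property Λ.mkQ π Λ.mkQ_surjective
    let Deq := LinearEquiv.ofInjective D hDinj
    have haΛ : ∀ v : Λ, a v ∈ LinearMap.range D := fun v => by
      have h1 : π (a v) = 0 := by
        rw [← LinearMap.comp_apply, ha]
        exact (Submodule.Quotient.mk_eq_zero _).2 v.2
      have := hrange (a v)
      rwa [h1, TensorProduct.tmul_zero, sub_zero] at this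
    let i : Λ →ₗ[R⟦X⟧] (Fin n → R⟦X⟧) × (R⟦X⟧ ⊗[R] Q) :=
      Λ.subtype.prod (Deq.symm.toLinearMap ∘ₗ LinearMap.codRestrict _ (a ∘ₗ Λ.subtype) haΛ)
    have hret : ∀ x, (LinearMap.id - b ∘ₗ a).coprod (b ∘ₗ D) x ∈ Λ := fun x => by
      rw [← Submodule.Quotient.mk_eq_zero, ← Submodule.mkQ_apply]
      have e1 : ∀ y, Λ.mkQ (b y) = π y := fun y => congr($hb y)
      have e2 : ∀ y, π (a y) = Λ.mkQ y := fun y => congr($ha y)
      simp [map_add, map_sub, e1, e2, hπD, -Submodule.mkQ_apply]
    refine Module.Projective.of_split i (LinearMap.codRestrict Λ _ hret) ?_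
    refine LinearMap.ext fun v => Subtype.ext ?_
    have hd : D (Deq.symm ⟨a v, haΛ v⟩) = a v :=
      congrArg Subtype.val (Deq.apply_symm_apply ⟨a v, haΛ v⟩)
    change ((LinearMap.id - b ∘ₗ a : (Fin n → R⟦X⟧) →ₗ[R⟦X⟧] _) v) +
      b (D (Deq.symm ⟨a v, haΛ v⟩)) = v
    rw [hd]
    simp

end


/-- Let k be a field, R a commutative k-algebra, n, M natural numbers and Λ an R⟦X⟧-submodule of the
free module R⟦X⟧^n with X^M · R⟦X⟧^n ⊆ Λ. Then Λ is a finitely generated projective R⟦X⟧-module if
and only if the quotient R⟦X⟧^n / Λ is projective as an R-module. (The published statement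
identifies, functorially in R, the families of lattices between t^N Λ₀ and t^{-N} Λ₀ in R((t))^n, Λ₀
the standard lattice, with the R⟦t⟧-submodules in that range whose quotient t^{-N} Λ₀ / Λ is
R-projective; after multiplying by t^N this is the pointwise statement here, with 2N replaced by any
exponent M; a submodule containing X^M · R⟦X⟧^n automatically spans R((X))^n.) -/
theorem result
    (k : Type u) [Field k] (R : Type u) [CommRing R] [Algebra k R] (n M : ℕ)
    (Λ : Submodule R⟦X⟧ (Fin n → R⟦X⟧))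
    (hΛ : ∀ v : Fin n → R⟦X⟧, ((PowerSeries.X : R⟦X⟧) ^ M) • v ∈ Λ) :
    (Module.Finite R⟦X⟧ Λ ∧ Module.Projective R⟦X⟧ Λ) ↔
      Module.Projective R ((Fin n → R⟦X⟧) ⧸ Λ) := by
  refine ⟨fun ⟨_, _⟩ => projective_quotient hΛ, fun h => ?_⟩
  haveI := h
  exact lattice_projective hΛ

end Groth.Agent.S19306
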