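import Groth.Statements.S19308
import Groth.Agent.ContentReg.Inj
-- import your own Groth.Agent.* helpers here

set_option autoImplicit false
universe u
open TensorProduct
open CAlg
set_option linter.style.haveILetI false

namespace Groth.Agent.S19308

/-- Let k be an algebraically closed field, A a finitely generated k-algebra which is an integral domain
(an affine variety X = Spec A), Z a finite (possibly empty) set of k-points of A, R a commutative
k-algebra and U an open dense subset of Spec (R ⊗_k A) = X_R containing every point of Z_R and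
meeting every fibre of X_R → Spec R. Then locally on Spec R there is a principal relative effective
Cartier divisor missing Z_R whose complement lies in U: for every prime p of R there are r ∉ p and f
∈ R[1/r] ⊗_k A such that f is a non-zero-divisor, (R[1/r] ⊗_k A)/(f) is flat over R[1/r], f maps to
a unit under every point of Z, and the basic open set D(f) of X_{R[1/r]} maps into U. (The published
statement is for a quasi-projective variety X and asks for relative Cartier divisors D_i over an
open cover of Spec R; this row is the affine case, to which the published proof reduces, where the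
divisors produced are principal.) -/
theorem result
    (k : Type u) [Field k] [IsAlgClosed k]
    (A : Type u) [CommRing A] [Algebra k A] [IsDomain A] [Algebra.FiniteType k A]
    (Z : Finset (A →ₐ[k] k))
    (R : Type u) [CommRing R] [Algebra k R]
    (U : TopologicalSpace.Opens (PrimeSpectrum (TensorProduct k R A)))
    (hU : Dense (U : Set (PrimeSpectrum (TensorProduct k R A))))
    (hZ : ∀ z ∈ Z, ∀ q : PrimeSpectrum R,
      PrimeSpectrum.comap (Algebra.TensorProduct.lift (AlgHom.id k R) ((Algebra.ofId k R).comp z)
        (fun _ _ => Commute.all _ _)).toRingHom q ∈ U)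
    (hsurj : ∀ q : PrimeSpectrum R, ∃ P ∈ U,
      PrimeSpectrum.comap (Algebra.TensorProduct.includeLeftRingHom : R →+* TensorProduct k R A) P = q)
    (p : PrimeSpectrum R) :
    ∃ r : R, r ∉ p.asIdeal ∧
      ∃ f : TensorProduct k (Localization.Away r) A,
        f ∈ nonZeroDivisors (TensorProduct k (Localization.Away r) A) ∧
        Module.Flat (Localization.Away r)
          (TensorProduct k (Localization.Away r) A ⧸ Ideal.span {f}) ∧
        (∀ z ∈ Z, IsUnit (Algebra.TensorProduct.lift (AlgHom.id k (Localization.Away r))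
          ((Algebra.ofId k (Localization.Away r)).comp z) (fun _ _ => Commute.all _ _) f)) ∧
        (∀ P : PrimeSpectrum (TensorProduct k (Localization.Away r) A), f ∉ P.asIdeal →
          PrimeSpectrum.comap (Algebra.TensorProduct.map
            (IsScalarTower.toAlgHom k R (Localization.Away r)) (AlgHom.id k A)).toRingHom P ∈ U) := by
  classical
  obtain ⟨I, hI⟩ := (PrimeSpectrum.isClosed_iff_zeroLocus_ideal _).1 U.isOpen.isClosed_compl
  have hU' : ∀ P : PrimeSpectrum (R ⊗[k] A), P ∈ U ↔ ¬ I ≤ P.asIdeal := by
    intro P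
    have := Set.ext_iff.1 hI P
    simp only [Set.mem_compl_iff, SetLike.mem_coe, PrimeSpectrum.mem_zeroLocus,
      SetLike.coe_subset_coe] at this
    rw [← this, not_not]
  haveI hD := ContentReg.isDomain_quotient_tensor (k := k) (A := A) p.asIdeal
  let Φ := Algebra.TensorProduct.map (Ideal.Quotient.mkₐ k p.asIdeal) (AlgHom.id k A)
  let ev : (A →ₐ[k] k) → (R ⊗[k] A →ₐ[k] R) := fun z =>
    Algebra.TensorProduct.lift (AlgHom.id k R) ((Algebra.ofId k R).comp z) (fun _ _ => Commute.all _ _)
  let J : Option (A →ₐ[k] k) → Ideal (R ⊗[k] A) := fun o =>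
    o.elim (RingHom.ker Φ) (fun z => p.asIdeal.comap (ev z))
  have hpr : ∀ o, (J o).IsPrime := by
    rintro (_ | z)
    · exact RingHom.ker_isPrime Φ
    · exact Ideal.IsPrime.comap _
  have hnot : ∀ o ∈ insert none (Z.image some), ¬ I ≤ J o := by
    intro o ho
    rcases Finset.mem_insert.1 ho with rfl | ho
    · obtain ⟨P, hPU, hP⟩ := hsurj p
      intro hIJ
      refine (hU' P).1 hPU (hIJ.trans ?_)
      show RingHom.ker Φ ≤ _
      rw [Algebra.TensorProduct.rTensor_ker _ (Ideal.Quotient.mkₐ_surjective _ _), Ideal.map_le_iff_le_comap]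
      intro x hx
      change x ∈ RingHom.ker (Ideal.Quotient.mk p.asIdeal) at hx
      rw [Ideal.mk_ker, ← hP] at hx
      exact hx
    · obtain ⟨z, hz, rfl⟩ := Finset.mem_image.1 ho
      exact (hU' _).1 (hZ z hz p)
  obtain ⟨f₀, hf₀I, hf₀⟩ : ∃ f₀ ∈ I, ∀ o ∈ insert none (Z.image some), f₀ ∉ J o := by
    by_contra hcon
    push Not at hcon
    have hsub : (I : Set (R ⊗[k] A)) ⊆ ⋃ o ∈ (↑(insert none (Z.image some)) : Set _), (J o : Set _) := by
      intro x hx
      obtain ⟨o, ho, hxo⟩ := hcon x hx
      exact Set.mem_iUnion₂.2 ⟨o, ho, hxo⟩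
    obtain ⟨o, ho, hle⟩ := (Ideal.subset_union_prime none none (fun o _ _ _ => hpr o)).1 hsub
    exact hnot o ho hle
  obtain ⟨l, hl⟩ : ∃ l : A →ₗ[k] k, ContentReg.cf R l f₀ ∉ p.asIdeal := by
    by_contra hcon
    push Not at hcon
    refine hf₀ none (Finset.mem_insert_self _ _) (ContentReg.eq_zero_of_cf _ fun l => ?_)
    rw [ContentReg.cf_map]
    exact Ideal.Quotient.eq_zero_iff_mem.2 (hcon l)
  let r : R := ContentReg.cf R l f₀ * ∏ z ∈ Z, ev z f₀
  refine ⟨r, ?_, Algebra.TensorProduct.map (IsScalarTower.toAlgHom k R (Localization.Away r))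
    (AlgHom.id k A) f₀, ?_⟩
  · intro hr
    rcases p.isPrime.mem_or_mem hr with h | h
    · exact hl h
    · obtain ⟨z, hz, hzp⟩ := (p.isPrime.prod_mem_iff).1 h
      exact hf₀ (some z) (Finset.mem_insert_of_mem (Finset.mem_image_of_mem _ hz)) hzp
  have hu : IsUnit (algebraMap R (Localization.Away r) r) :=
    IsLocalization.Away.algebraMap_isUnit r
  have hc : IsUnit (ContentReg.cf (Localization.Away r) l (Algebra.TensorProduct.map
      (IsScalarTower.toAlgHom k R (Localization.Away r)) (AlgHom.id k A) f₀)) := by
    rw [ContentReg.cf_map]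
    exact isUnit_of_dvd_unit (map_dvd _ (dvd_mul_right _ _)) hu
  refine ⟨ContentReg.mem_nonZeroDivisors hc, ContentReg.flat_quotient hc, fun z hz => ?_,
    fun P hP => (hU' _).2 fun hle => hP (hle hf₀I)⟩
  rw [ContentReg.lift_eq_cf, ContentReg.cf_map]
  refine isUnit_of_dvd_unit (map_dvd _ (dvd_mul_of_dvd_right ?_ _)) hu
  rw [← ContentReg.lift_eq_cf]
  exact Finset.dvd_prod_of_mem _ hz

end Groth.Agent.S19308
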