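import Groth.Statements.S19309


set_option autoImplicit false
universe u
open PowerSeries LaurentSeries
open CAlg

namespace Groth.Agent.S19309

/-- Let k be a field, R a commutative k-algebra, B a finitely presented R⟦X⟧-algebra (an affine scheme V
= Spec B of finite presentation over the disc D_R = Spec R⟦X⟧) and s : B → R((X)) an R⟦X⟧-algebra
map (a section of V over the punctured disc). Then there is an ideal I of R such that for every ring
map φ : R → R', writing θ : R((X)) → R'((X)) for the ring map compatible with R⟦X⟧ → R'⟦X⟧, the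
section s extends to a section over D_{R'} — an R⟦X⟧-algebra map s' : B → R'⟦X⟧ whose composite with
R'⟦X⟧ → R'((X)) is θ ∘ s — if and only if φ kills I. In other words the sub-presheaf of Spec R where
s extends over the disc is the closed subscheme defined by I. -/
theorem result
    (k : Type u) [Field k] (R : Type u) [CommRing R] [Algebra k R]
    (B : Type u) [CommRing B] [Algebra R⟦X⟧ B] [Algebra.FinitePresentation R⟦X⟧ B]
    (s : B →ₐ[R⟦X⟧] R⸨X⸩) :
    ∃ I : Ideal R, ∀ (R' : Type u) [CommRing R'] (φ : R →+* R') (θ : R⸨X⸩ →+* R'⸨X⸩),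
      θ.comp (algebraMap R⟦X⟧ R⸨X⸩) = (algebraMap R'⟦X⟧ R'⸨X⸩).comp (PowerSeries.map φ) →
      ((∃ s' : B →+* R'⟦X⟧, s'.comp (algebraMap R⟦X⟧ B) = PowerSeries.map φ ∧
          (algebraMap R'⟦X⟧ R'⸨X⸩).comp s' = θ.comp s.toRingHom) ↔ I ≤ RingHom.ker φ) := by
  classical
  obtain ⟨G, hG⟩ := (inferInstance : Algebra.FiniteType R⟦X⟧ B).out
  refine ⟨Ideal.span {c | ∃ g ∈ G, ∃ m : ℤ, m < 0 ∧ c = (s g).coeff m}, fun R' _ φ θ hθ => ?_⟩
  have hXn : ∀ {T : Type u} [CommRing T] (n : ℕ),
      algebraMap T⟦X⟧ T⸨X⸩ (PowerSeries.X ^ n) = HahnSeries.single (n : ℤ) 1 := by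
    intro T _ n
    rw [LaurentSeries.coe_algebraMap, HahnSeries.ofPowerSeries_X_pow]
  have hθcoeff : ∀ (f : R⸨X⸩) (m : ℤ), (θ f).coeff m = φ (f.coeff m) := by
    intro f m
    obtain ⟨⟨p, ⟨_, n, rfl⟩⟩, hp⟩ := IsLocalization.surj (Submonoid.powers (PowerSeries.X : R⟦X⟧)) f
    dsimp only at hp
    have h1 : θ f * algebraMap R'⟦X⟧ R'⸨X⸩ (PowerSeries.X ^ n) =
        algebraMap R'⟦X⟧ R'⸨X⸩ (PowerSeries.map φ p) := by
      have := congrArg θ hp
      rw [map_mul, ← RingHom.comp_apply, ← RingHom.comp_apply, hθ, RingHom.comp_apply,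
        RingHom.comp_apply, map_pow, PowerSeries.map_X] at this
      exact this
    rw [hXn] at h1 hp
    have h2 := congrArg (fun g : R'⸨X⸩ => g.coeff (m + n)) h1
    have h3 := congrArg (fun g : R⸨X⸩ => g.coeff (m + n)) hp
    simp only [HahnSeries.coeff_mul_single_add, mul_one] at h2 h3
    rw [h2, h3]
    rw [LaurentSeries.coe_algebraMap, LaurentSeries.coe_algebraMap]
    show ((PowerSeries.map φ p : R'⟦X⟧) : R'⸨X⸩).coeff (m + n) = φ ((p : R⸨X⸩).coeff (m + n))
    rw [PowerSeries.coeff_coe, PowerSeries.coeff_coe]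
    split_ifs
    · rw [map_zero]
    · rw [PowerSeries.coeff_map]
  have hrange : ∀ g : R'⸨X⸩, g ∈ (algebraMap R'⟦X⟧ R'⸨X⸩).range ↔ ∀ m : ℤ, m < 0 → g.coeff m = 0 := by
    intro g
    constructor
    · rintro ⟨q, rfl⟩ m hm
      rw [LaurentSeries.coe_algebraMap]
      show ((q : R'⟦X⟧) : R'⸨X⸩).coeff m = 0
      rw [PowerSeries.coeff_coe, if_pos hm]
    · intro hg
      refine ⟨PowerSeries.mk fun i => g.coeff (i : ℤ), ?_⟩
      ext m
      rw [LaurentSeries.coe_algebraMap]
      show ((PowerSeries.mk fun i => g.coeff (i : ℤ) : R'⟦X⟧) : R'⸨X⸩).coeff m = g.coeff m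
      rw [PowerSeries.coeff_coe]
      split_ifs with hm
      · exact (hg m hm).symm
      · rw [PowerSeries.coeff_mk, Int.natAbs_of_nonneg (not_lt.mp hm)]
  constructor
  · rintro ⟨s', -, hs'⟩
    rw [Ideal.span_le]
    rintro c ⟨g, -, m, hm, rfl⟩
    show φ ((s g).coeff m) = 0
    rw [← hθcoeff]
    exact (hrange _).mp ⟨s' g, RingHom.congr_fun hs' g⟩ m hm
  · intro hI
    have hsub : ∀ b : B, θ (s b) ∈ (algebraMap R'⟦X⟧ R'⸨X⸩).range := by
      intro b
      have hb : b ∈ Algebra.adjoin R⟦X⟧ (G : Set B) := hG ▸ Algebra.mem_top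
      induction hb using Algebra.adjoin_induction with
      | mem g hg =>
        refine (hrange _).mpr fun m hm => ?_
        rw [hθcoeff]
        exact RingHom.mem_ker.mp (hI (Ideal.subset_span ⟨g, hg, m, hm, rfl⟩))
      | algebraMap p =>
        rw [AlgHom.commutes, ← RingHom.comp_apply, hθ]
        exact ⟨_, rfl⟩
      | add a b _ _ ha hb => rw [map_add, map_add]; exact Subring.add_mem _ ha hb
      | mul a b _ _ ha hb => rw [map_mul, map_mul]; exact Subring.mul_mem _ ha hb
    have hinj : Function.Injective (algebraMap R'⟦X⟧ R'⸨X⸩) := by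
      rw [LaurentSeries.coe_algebraMap]; exact HahnSeries.ofPowerSeries_injective
    choose s'' hs'' using fun b => RingHom.mem_range.mp (hsub b)
    let s' : B →+* R'⟦X⟧ :=
      { toFun := s''
        map_one' := hinj (by rw [hs'', map_one, map_one, map_one])
        map_mul' := fun a b => hinj (by rw [map_mul (algebraMap _ _), hs'', hs'', hs'', map_mul, map_mul])
        map_zero' := hinj (by rw [hs'', map_zero, map_zero, map_zero])
        map_add' := fun a b => hinj (by rw [map_add (algebraMap _ _), hs'', hs'', hs'', map_add, map_add]) }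
    refine ⟨s', ?_, RingHom.ext hs''⟩
    refine RingHom.ext fun p => hinj ?_
    show algebraMap R'⟦X⟧ R'⸨X⸩ (s'' (algebraMap R⟦X⟧ B p)) = _
    rw [hs'', AlgHom.commutes, ← RingHom.comp_apply, hθ]
    rfl

end Groth.Agent.S19309
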