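import Groth.Statements.S19314
import Groth.Agent.DecShLib.Regular
import Groth.Agent.DecShLib.Bound

set_option autoImplicit false
universe u
open CategoryTheory CategoryTheory.Limits AlgebraicGeometry
open DecSh

set_option backward.isDefEq.respectTransparency false
set_option backward.isDefEq.respectTransparency.types false

namespace Groth.Agent.S19314

/-- Let k be an algebraically closed field of characteristic zero, X a reduced proper k-scheme of
dimension one without isolated points, L an ample invertible O_X-module, χ the Euler characteristic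
over k and α(M) = χ(M ⊗ L) − χ(M) the multiplicity. Fix δ > 0, integers α and e, natural numbers a
and b and an O_X-module D. Then the family of coherent O_X-modules F with torsion free stalks, α(F)
= α and χ(F) = e (fixed Hilbert polynomial) for which there is a δ-semistable tensor field of type
(a, b) on F with values in D is bounded: there are a k-scheme T of finite type and a coherent module
on X ×_k T among whose fibres at k-points every member occurs up to isomorphism. (The published
corollary is for a reduced projective curve with D locally free, in a section whose polarisation is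
very ample. The bound on the maximal slope that drives the proof uses none of these, and boundedness
for an ample L follows from the very ample case by passing to a power of L, which rescales all
multiplicities.) -/
theorem result
    (k : Type u) [Field k] [IsAlgClosed k] [CharZero k]
    (X : Scheme.{u}) [X.Over (Spec (CommRingCat.of k))] [IsProper (X ↘ Spec (CommRingCat.of k))]
    [AlgebraicGeometry.IsReduced X] (hdim : topologicalKrullDim X = 1)
    (hpure : ∀ x : X, ¬ IsOpen ({x} : Set X))
    (L : X.Modules) (hL : CohB1.IsAmple L)
    (δ : ℚ) (hδ : 0 < δ) (α e : ℤ) (a b : ℕ) (D : X.Modules) :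
    Pic13.IsBounded k X (fun F => Coh.IsCoh F ∧ TorSh.IsTorsionFree F ∧ DecSh.mult k X L F = α ∧
      Curv2.euler k X F = e ∧ ∃ T : DecSh.TF F a b D, T.IsSemistable k L δ) := by
  haveI : Infinite k := IsAlgClosed.instInfinite
  obtain ⟨T, q, hq, hqc, U, hU, hfam⟩ := DecShLib.isBounded_slope (k := k) hL hdim.le α e
    (|(e : ℚ) / (α : ℚ)| + δ * (a : ℚ))
  refine ⟨T, q, hq, hqc, U, hU, fun F ⟨hF, htf, hα, he, S, hS⟩ => hfam F ⟨hF, hα, he, ?_⟩⟩
  intro G j hj hG h0
  haveI := hj
  obtain ⟨h1, h2⟩ := DecShLib.mult_mem (k := k) hL hdim.le hpure hF htf j hG h0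
  have q1 : (1 : ℚ) ≤ (DecSh.mult k X L G : ℚ) := by exact_mod_cast h1
  have q2 : (DecSh.mult k X L G : ℚ) ≤ (α : ℚ) := by rw [← hα]; exact_mod_cast h2
  have hx : (e : ℚ) / (α : ℚ) ≤ |(e : ℚ) / (α : ℚ)| := le_abs_self _
  have hδa : 0 ≤ δ * (a : ℚ) := by positivity
  by_cases hi : IsIso j
  · rw [CurveRR.euler_eq_of_iso (asIso j), he, DecShLib.mult_iso hL (asIso j), hα]
    have hαpos : (0 : ℚ) < (α : ℚ) := by linarith
    have h3 := mul_le_mul_of_nonneg_right hx hαpos.le
    rw [div_mul_cancel₀ _ hαpos.ne'] at h3
    nlinarith
  · have h := DecShLib.linear_le (k := k) hL hdim.le hpure hF htf S hδ hS j hG h0 hi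
    simp only [CurveRR.euler_eq_of_iso (Subobject.underlyingIso j)] at h
    rw [hα, he] at h
    have hαpos : (0 : ℚ) < (α : ℚ) := by linarith
    have h3 : (e : ℚ) ≤ |(e : ℚ) / (α : ℚ)| * (α : ℚ) := by
      have := mul_le_mul_of_nonneg_right hx hαpos.le
      rwa [div_mul_cancel₀ _ hαpos.ne'] at this
    refine le_of_mul_le_mul_left ?_ hαpos
    have h4 := mul_le_mul_of_nonneg_left h3 (show (0 : ℚ) ≤ (DecSh.mult k X L G : ℚ) by linarith)
    have h5 := mul_le_mul_of_nonneg_left q1 (mul_nonneg hδa hαpos.le)
    nlinarith

end Groth.Agent.S19314
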