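import Groth.Statements.S19315
import Groth.Agent.DecShLib.Bound
import Groth.Agent.SmLocalST.SmoothField
import Groth.Agent.S0558
-- import your own Groth.Agent.* helpers here

set_option autoImplicit false
set_option backward.isDefEq.respectTransparency false
universe u
open CategoryTheory CategoryTheory.Limits AlgebraicGeometry
open DecSh

namespace Groth.Agent.S19315

/-- Let k be an algebraically closed field of characteristic zero, Y a smooth proper k-scheme of
dimension one without isolated points (possibly disconnected), L an ample invertible O_Y-module, χ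
the Euler characteristic over k and α(M) = χ(M ⊗ L) − χ(M) the multiplicity. Let E be a locally free
O_Y-module of rank r with a generalized parabolic structure: finitely many effective Cartier ideal
sheaves I_1, …, I_ν (the divisors D_i) and, for each i, a k-subspace K_i of H⁰(E ⊗ O_{D_i}) whose
quotient has dimension r (K_i is the kernel of the parabolic quotient q_i). Fix rational weights κ_i
with 0 < κ_i < 1, δ > 0, and a tensor field T of type (a, b) on E with values in a module D such
that (E, K, T) is (κ, δ)-semistable with respect to L. Then every nonzero proper coherent subsheaf F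
⊂ E satisfies χ(F)/α(F) ≤ χ(E)/α(E) + (a·δ + r·ν). (The source states the bound for the slopes deg/α
with deg as the constant term of the Hilbert polynomial corrected by the rank; these differ from χ/α
by the same constant on both sides. The published target of the tensor field is det(E)^{⊗c} ⊗ L' and
the D_i are the pairs of points over the nodes; the bound uses neither.) -/
theorem result
    (k : Type u) [Field k] [IsAlgClosed k] [CharZero k]
    (Y : Scheme.{u}) [Y.Over (Spec (CommRingCat.of k))] [IsProper (Y ↘ Spec (CommRingCat.of k))]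
    [Smooth (Y ↘ Spec (CommRingCat.of k))] (hdim : topologicalKrullDim Y = 1)
    (hpure : ∀ y : Y, ¬ IsOpen ({y} : Set Y))
    (L : Y.Modules) (hL : CohB1.IsAmple L)
    (E : Y.Modules) (r : ℕ) (hE : FlatMod.IsFinLocFreeOfRank r E)
    {ν : ℕ} (I : Fin ν → Y.IdealSheafData) (hI : ∀ i, FGA.IsEffCartier (I i))
    (K : ∀ i, Submodule k (ParSh.fibD Y (I i) E))
    (hK : ∀ i, Module.finrank k (ParSh.fibD Y (I i) E ⧸ K i) = r)
    (κ : Fin ν → ℚ) (hκ : ∀ i, 0 < κ i ∧ κ i < 1)
    {D : Y.Modules} {a b : ℕ} (T : DecSh.TF E a b D)
    (δ : ℚ) (hδ : 0 < δ) (hT : T.IsParSemistable k I K κ L δ)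
    (F : Y.Modules) (ι : F ⟶ E) [Mono ι] (hF : Coh.IsCoh F) (hF0 : ¬ IsZero F) (hι : ¬ IsIso ι) :
    (Curv2.euler k Y F : ℚ) / (DecSh.mult k Y L F : ℚ) ≤
      (Curv2.euler k Y E : ℚ) / (DecSh.mult k Y L E : ℚ) + ((a : ℚ) * δ + (r : ℚ) * (ν : ℚ)) := by
  haveI : AlgebraicGeometry.IsReduced Y := by
    haveI : ∀ y : Y, _root_.IsReduced (Y.presheaf.stalk y) := fun y => by
      haveI := Groth.Agent.SmLocalST.isRegularLocalRing_stalk_of_smooth_field (Y ↘ Spec (CommRingCat.of k)) y
      haveI := Groth.Agent.S0558.result (Y.presheaf.stalk y)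
      infer_instance
    exact AlgebraicGeometry.isReduced_of_isReduced_stalk Y
  haveI := Groth.Agent.CurveRR.isNoetherian_of_proper k Y
  rcases Nat.eq_zero_or_pos r with rfl | hr
  · refine absurd ?_ hF0
    have hEz : IsZero E := Groth.Agent.KFlat.isZero_of_stalks E fun y => by
      obtain ⟨U, hy, ⟨e⟩⟩ := hE y
      obtain ⟨b⟩ := Groth.Agent.LocFree.exists_basis_stalk e (Groth.Agent.CurveRR.isCoh_of_rank hE).1 hy
      exact @ModuleCat.isZero_of_subsingleton _ _ _ b.repr.toEquiv.subsingleton
    exact IsZero.of_mono ι hEz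
  exact Groth.Agent.DecShLib.slope_le_par hL hdim.le hpure (Groth.Agent.CurveRR.isCoh_of_rank hE)
    (fun y => by
      haveI := Groth.Agent.LocFree.free_stalk_of_isFinLocFree (fun z => let ⟨U, hU⟩ := hE z; ⟨U, r, hU⟩) y
      infer_instance)
    hr I K hK κ hκ T hδ hT ι hF hF0 hι

end Groth.Agent.S19315
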