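import Groth.Statements.S19316
import Groth.Agent.DecShLib.Regular
import Groth.Agent.DecShLib.Bound
import Groth.Agent.SmLocalST.SmoothField
import Groth.Agent.S0558
import Groth.Agent.LocFree.SemiLocal
import Groth.Agent.BivarOps.P1Inter

set_option autoImplicit false
universe u
open CategoryTheory CategoryTheory.Limits AlgebraicGeometry
open DecSh

set_option backward.isDefEq.respectTransparency false
set_option backward.isDefEq.respectTransparency.types false

namespace Groth.Agent.S19316

/-- Let k be an algebraically closed field of characteristic zero, Y a smooth proper k-scheme of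
dimension one without isolated points (possibly disconnected) and L an ample invertible O_Y-module.
Fix finitely many effective Cartier ideal sheaves I_1, …, I_ν on Y (the divisors D_i), rational
weights κ_i with 0 < κ_i < 1, δ > 0, natural numbers r, a, b and an integer d. Consider the locally
free O_Y-modules E of rank r and degree d (χ(E) − r·χ(O_Y) = d) for which there exist k-subspaces
K_i ⊂ H⁰(E ⊗ O_{D_i}) with quotients of dimension r and a tensor field of type (a, b) on E with
values in some O_Y-module, (κ, δ)-semistable with respect to L. This family is bounded: there is n₀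
such that for every such E and every n ≥ n₀, H¹(Y, E ⊗ L^{⊗n}) = 0 and E ⊗ L^{⊗n} is globally
generated. (The published statement fixes the target det(E)^{⊗c} ⊗ L' of the tensor field and takes
the D_i to be the pairs of points over the nodes; allowing any target and any effective divisors
gives a larger family, bounded by the same argument.) -/
theorem result
    (k : Type u) [Field k] [IsAlgClosed k] [CharZero k]
    (Y : Scheme.{u}) [Y.Over (Spec (CommRingCat.of k))] [IsProper (Y ↘ Spec (CommRingCat.of k))]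
    [Smooth (Y ↘ Spec (CommRingCat.of k))] (hdim : topologicalKrullDim Y = 1)
    (hpure : ∀ y : Y, ¬ IsOpen ({y} : Set Y))
    (L : Y.Modules) (hL : CohB1.IsAmple L)
    {ν : ℕ} (I : Fin ν → Y.IdealSheafData) (hI : ∀ i, FGA.IsEffCartier (I i))
    (κ : Fin ν → ℚ) (hκ : ∀ i, 0 < κ i ∧ κ i < 1) (δ : ℚ) (hδ : 0 < δ)
    (r a b : ℕ) (d : ℤ) :
    ∃ n₀ : ℕ, ∀ n : ℕ, n₀ ≤ n → ∀ E : Y.Modules,
      (FlatMod.IsFinLocFreeOfRank r E ∧ Curv2.deg k Y E r = d ∧
        ∃ (K : ∀ i, Submodule k (ParSh.fibD Y (I i) E)),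
          (∀ i, Module.finrank k (ParSh.fibD Y (I i) E ⧸ K i) = r) ∧
          ∃ (D : Y.Modules) (T : DecSh.TF E a b D), T.IsParSemistable k I K κ L δ) →
      Subsingleton (Coh.HH Y (CohB1.tensorMod E (CohB1.tensorPow L n)) 1) ∧
        Curv2.IsGloballyGenerated (CohB1.tensorMod E (CohB1.tensorPow L n)) := by
  haveI : Infinite k := IsAlgClosed.instInfinite
  haveI : AlgebraicGeometry.IsReduced Y := by
    haveI : ∀ y : Y, _root_.IsReduced (Y.presheaf.stalk y) := fun y => by
      haveI := SmLocalST.isRegularLocalRing_stalk_of_smooth_field (Y ↘ Spec (CommRingCat.of k)) y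
      haveI := Groth.Agent.S0558.result (Y.presheaf.stalk y)
      infer_instance
    exact AlgebraicGeometry.isReduced_of_isReduced_stalk Y
  haveI := CurveRR.isNoetherian_of_proper k Y
  have hbasis : ∀ {M : Y.Modules}, FlatMod.IsFinLocFreeOfRank r M → ∀ y : Y,
      Nonempty (Module.Basis (ULift.{u} (Fin r)) (Y.presheaf.stalk y) (M.presheaf.stalk y)) := fun {M} hM y => by
    obtain ⟨U, hy, ⟨e⟩⟩ := hM y
    exact LocFree.exists_basis_stalk e (CurveRR.isCoh_of_rank hM).1 hy
  let α := DecSh.mult k Y L (FlatMod.freeMod Y r)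
  let e := d + r * Curv2.euler k Y (Coh.structureModule Y)
  obtain ⟨n₀, hn₀⟩ := DecShLib.exists_vanish (k := k) hL hdim.le α e
    (|(e : ℚ) / (α : ℚ)| + ((a : ℚ) * δ + (r : ℚ) * (ν : ℚ)))
  refine ⟨n₀, fun n hn E ⟨hE, hdeg, K, hK, D, T, hT⟩ => ?_⟩
  have hEc := CurveRR.isCoh_of_rank hE
  have htf : TorSh.IsTorsionFree E := fun y => by
    haveI := LocFree.free_stalk_of_isFinLocFree (fun z => let ⟨U, hU⟩ := hE z; ⟨U, r, hU⟩) y
    infer_instance
  have hfree : FlatMod.IsFinLocFreeOfRank r (FlatMod.freeMod Y r) := BivarOps.isFinLocFreeOfRank_free r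
  have hα : DecSh.mult k Y L E = α := by
    haveI := (TopologicalSpace.NoetherianSpace.finite_irreducibleComponents (α := Y)).fintype
    show _ = DecSh.mult k Y L (FlatMod.freeMod Y r)
    rw [DecShLib.mult_eq hL hdim.le hEc, DecShLib.mult_eq hL hdim.le (CurveRR.isCoh_of_rank hfree)]
    refine Finset.sum_congr rfl fun Z _ => ?_
    have hlen : CurveRR.Multi.lenAt E Z.2.1.genericPoint =
        CurveRR.Multi.lenAt (FlatMod.freeMod Y r) Z.2.1.genericPoint := by
      obtain ⟨b₁⟩ := hbasis hE Z.2.1.genericPoint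
      obtain ⟨b₂⟩ := hbasis hfree Z.2.1.genericPoint
      simp only [CurveRR.Multi.lenAt]
      rw [(b₁.equiv b₂ (Equiv.refl _)).length_eq]
    rw [hlen]
  have he : Curv2.euler k Y E = e := by
    rw [Curv2.deg] at hdeg
    show _ = d + r * Curv2.euler k Y (Coh.structureModule Y)
    linarith
  refine (fun hS => ⟨(hn₀ n hn E hEc hα he hS).1 1 le_rfl, (hn₀ n hn E hEc hα he hS).2⟩) fun G j hj hG h0 => ?_
  haveI := hj
  obtain ⟨h1, h2⟩ := DecShLib.mult_mem (k := k) hL hdim.le hpure hEc htf j hG h0
  have q1 : (1 : ℚ) ≤ (DecSh.mult k Y L G : ℚ) := by exact_mod_cast h1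
  have hr : 0 < r := by
    rcases Nat.eq_zero_or_pos r with hr0 | hr
    · refine absurd ?_ h0
      have hEz : IsZero E := KFlat.isZero_of_stalks E fun y => by
        obtain ⟨b⟩ := hbasis hE y
        subst hr0
        exact @ModuleCat.isZero_of_subsingleton _ _ _ b.repr.toEquiv.subsingleton
      exact IsZero.of_mono j hEz
    · exact hr
  have hc0 : 0 ≤ (a : ℚ) * δ + (r : ℚ) * (ν : ℚ) := by positivity
  have hx : (e : ℚ) / (α : ℚ) ≤ |(e : ℚ) / (α : ℚ)| := le_abs_self _
  by_cases hi : IsIso j
  · rw [CurveRR.euler_eq_of_iso (asIso j), he, DecShLib.mult_iso hL (asIso j), hα]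
    have hαpos : (0 : ℚ) < (α : ℚ) := by
      rw [DecShLib.mult_iso hL (asIso j), hα] at q1
      linarith
    have h3 := mul_le_mul_of_nonneg_right hx hαpos.le
    rw [div_mul_cancel₀ _ hαpos.ne'] at h3
    nlinarith [mul_nonneg hc0 hαpos.le]
  · have h := DecShLib.slope_le_par (k := k) hL hdim.le hpure hEc htf hr I K hK κ hκ T hδ hT j hG h0 hi
    rw [hα, he, div_le_iff₀ (by linarith)] at h
    refine h.trans ?_
    refine mul_le_mul_of_nonneg_right ?_ (by linarith)
    linarith

end Groth.Agent.S19316
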