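import Groth.Statements.S19317
import Groth.Agent.DecShLib.SectCore

set_option autoImplicit false
universe u
open CategoryTheory CategoryTheory.Limits AlgebraicGeometry
open DecSh

set_option backward.isDefEq.respectTransparency false
set_option backward.isDefEq.respectTransparency.types false

namespace Groth.Agent.S19317

/-- Let k be an algebraically closed field of characteristic zero, X a reduced proper k-scheme of
dimension one without isolated points, and L an ample invertible O_X-module which is moreover very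
ample relative to some projective space over k (the pull-back of O(1) along an immersion). Write χ
for the Euler characteristic over k, M(m) = M ⊗ L^{⊗m}, h⁰(M) = dim_k H⁰(X, M) and α(M) = χ(M ⊗ L) −
χ(M). Fix δ > 0, integers α and e, natural numbers a, b and a finite locally free O_X-module D. Then
there is N₀ such that for every m ≥ N₀, every coherent O_X-module E with torsion free stalks, α(E) =
α and χ(E) = e, and every tensor field T of type (a, b) on E with values in D, the following hold,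
all weighted filtrations (F•, m•) being by coherent subsheaves F_i with weights m_i and μ denoting
μ(F•, m•, φ): (1) T is δ-semistable with respect to L if and only if Σ_i m_i (α · h⁰(F_i(m)) −
α(F_i) · χ(E(m))) + δ μ ≤ 0 for every weighted filtration; (2) T is δ-semistable if and only if Σ_i
m_i (α(E/F_i) · χ(E(m)) − α · h⁰((E/F_i)(m))) + δ μ ≤ 0 for every weighted filtration; (3) if T is
δ-semistable then H¹(X, E(m)) = 0. (Only the semistable version of the published equivalence is
stated; the published setting is a reduced projective curve with a very ample polarisation and a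
locally free D, as here.) -/
theorem result
    (k : Type u) [Field k] [IsAlgClosed k] [CharZero k]
    (X : Scheme.{u}) [X.Over (Spec (CommRingCat.of k))] [IsProper (X ↘ Spec (CommRingCat.of k))]
    [AlgebraicGeometry.IsReduced X] (hdim : topologicalKrullDim X = 1)
    (hpure : ∀ x : X, ¬ IsOpen ({x} : Set X))
    (L : X.Modules) (hL : CohB1.IsAmple L) (hva : RelAmple.IsRelVeryAmplePn (X ↘ Spec (CommRingCat.of k)) L)
    (δ : ℚ) (hδ : 0 < δ) (α e : ℤ) (a b : ℕ) (D : X.Modules) (hD : FlatMod.IsFinLocFree D) :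
    ∃ N₀ : ℕ, ∀ m : ℕ, N₀ ≤ m → ∀ (E : X.Modules), Coh.IsCoh E → TorSh.IsTorsionFree E →
      DecSh.mult k X L E = α → Curv2.euler k X E = e → ∀ T : DecSh.TF E a b D,
        (T.IsSemistable k L δ ↔
          ∀ 𝓕 : DecSh.WFilt E, (∀ i, Coh.IsCoh ((𝓕.piece i : Subobject E) : X.Modules)) →
            (∑ i, 𝓕.wt i * ((α : ℚ) *
                (Module.finrank k (Coh.HH X (ShStab.twist X L ((𝓕.piece i : Subobject E) : X.Modules) m) 0) : ℚ) -
              (DecSh.mult k X L ((𝓕.piece i : Subobject E) : X.Modules) : ℚ) *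
                (Curv2.euler k X (ShStab.twist X L E m) : ℚ))) + δ * T.mu k L 𝓕 ≤ 0) ∧
        (T.IsSemistable k L δ ↔
          ∀ 𝓕 : DecSh.WFilt E, (∀ i, Coh.IsCoh ((𝓕.piece i : Subobject E) : X.Modules)) →
            (∑ i, 𝓕.wt i * ((DecSh.mult k X L (cokernel (𝓕.piece i).arrow) : ℚ) *
                (Curv2.euler k X (ShStab.twist X L E m) : ℚ) -
              (α : ℚ) * (Module.finrank k (Coh.HH X (ShStab.twist X L (cokernel (𝓕.piece i).arrow) m) 0) : ℚ))) +
              δ * T.mu k L 𝓕 ≤ 0) ∧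
        (T.IsSemistable k L δ → Subsingleton (Coh.HH X (ShStab.twist X L E m) 1)) := by
  haveI : Infinite k := inferInstance
  obtain ⟨N₁, B, hB⟩ := DecShLib.exists_slope_of_ss_or_sectional (k := k) hL hdim.le hpure δ hδ α e a
  obtain ⟨N₂, hN₂⟩ := DecShLib.exists_vanish (k := k) hL hdim.le α e B
  obtain ⟨N₃, hN₃⟩ := DecShLib.exists_split (k := k) hL hdim.le hpure α e B (δ * (a : ℚ) * ((α : ℚ) - 1))
  refine ⟨max N₁ (max N₂ N₃), fun m hm E hE htf hα he T => ?_⟩
  simp only [max_le_iff] at hm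
  obtain ⟨hm₁, hm₂, hm₃⟩ := hm
  have hlinE : (Curv2.euler k X (ShStab.twist X L E m) : ℚ) = (e : ℚ) + (α : ℚ) * (m : ℚ) := by
    rw [DecShLib.euler_linear hL hdim.le hE, hα, he]
  let lin : Subobject E → ℚ := fun P => (DecSh.mult k X L E : ℚ) * (Curv2.euler k X (P : X.Modules) : ℚ) -
    (DecSh.mult k X L (P : X.Modules) : ℚ) * (Curv2.euler k X E : ℚ)
  have hvan : ∀ (_ : DecShLib.SlopeLE k X L E B),
      Subsingleton (Coh.HH X (ShStab.twist X L E m) 1) := fun hs => (hN₂ m hm₂ E hE hα he hs).1 1 le_rfl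
  refine ⟨⟨fun hS 𝓕 hcoh => ?_, fun hc => ?_⟩, ⟨fun hS 𝓕 hcoh => ?_, fun hc => ?_⟩,
    fun hS => hvan (hB E hE htf hα he b D T (Or.inl hS))⟩
  · have hs := hB E hE htf hα he b D T (Or.inl hS)
    refine (DecShLib.sectional_core (k := k) hL hdim.le hpure hE htf T hδ lin hS 𝓕 hcoh _ fun i => ?_).1
    rcases hN₃ m hm₃ E hE htf hα he hs _ (𝓕.piece i).arrow inferInstance (hcoh i) (𝓕.piece_nonzero i) with h | h
    · left
      have h0 : (Module.finrank k (Coh.HH X (ShStab.twist X L ((𝓕.piece i : Subobject E) : X.Modules) m) 0) : ℚ) =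
          (Curv2.euler k X (ShStab.twist X L ((𝓕.piece i : Subobject E) : X.Modules) m) : ℚ) := by
        exact_mod_cast DecShLib.h0_eq_euler (k := k) hdim.le h
      simp only [lin]
      rw [h0, DecShLib.euler_linear hL hdim.le (hcoh i), hlinE, hα, he]
      ring
    · right
      rw [hα]
      exact h
  · intro 𝓕 hcoh
    refine le_trans ?_ (hc 𝓕 hcoh)
    refine add_le_add (Finset.sum_le_sum fun i _ => mul_le_mul_of_nonneg_left ?_ (𝓕.wt_pos i).le) le_rfl
    obtain ⟨h1, h2⟩ := DecShLib.mult_mem (k := k) hL hdim.le hpure hE htf (𝓕.piece i).arrow (hcoh i) (𝓕.piece_nonzero i)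
    have hα1 : (1 : ℚ) ≤ (α : ℚ) := by exact_mod_cast hα ▸ (h1.trans h2)
    have h0 := DecShLib.euler_le_h0 (k := k) hdim.le (ShStab.twist X L ((𝓕.piece i : Subobject E) : X.Modules) m)
    rw [DecShLib.euler_linear hL hdim.le (hcoh i)] at h0
    rw [hlinE, hα, he]
    have h3 := mul_le_mul_of_nonneg_left h0 (show (0 : ℚ) ≤ (α : ℚ) by linarith)
    linarith
  · refine le_trans ?_ (hS 𝓕 hcoh)
    refine add_le_add (Finset.sum_le_sum fun i _ => mul_le_mul_of_nonneg_left ?_ (𝓕.wt_pos i).le) le_rfl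
    obtain ⟨h1, h2⟩ := DecShLib.mult_mem (k := k) hL hdim.le hpure hE htf (𝓕.piece i).arrow (hcoh i) (𝓕.piece_nonzero i)
    have hα1 : (1 : ℚ) ≤ (α : ℚ) := by exact_mod_cast hα ▸ (h1.trans h2)
    obtain ⟨hQ, hmQ, heQ⟩ := DecShLib.cokernel_data (k := k) hL (𝓕.piece i).arrow (hcoh i) hE
    have h0 := DecShLib.euler_le_h0 (k := k) hdim.le (ShStab.twist X L (cokernel (𝓕.piece i).arrow) m)
    rw [DecShLib.euler_linear hL hdim.le hQ] at h0
    have hmQ' : (α : ℚ) = (DecSh.mult k X L ((𝓕.piece i : Subobject E) : X.Modules) : ℚ) +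
        (DecSh.mult k X L (cokernel (𝓕.piece i).arrow) : ℚ) := by rw [← hα]; exact_mod_cast hmQ
    have heQ' : (e : ℚ) = (Curv2.euler k X ((𝓕.piece i : Subobject E) : X.Modules) : ℚ) +
        (Curv2.euler k X (cokernel (𝓕.piece i).arrow) : ℚ) := by rw [← he]; exact_mod_cast heQ
    rw [hlinE, hα, he]
    have h3 := mul_le_mul_of_nonneg_left h0 (show (0 : ℚ) ≤ (α : ℚ) by linarith)
    simp only [hmQ', heQ'] at h3 ⊢
    linarith
  · intro 𝓕 hcoh
    refine le_trans (le_of_eq ?_) (hc 𝓕 hcoh)
    refine congrArg₂ (· + ·) (Finset.sum_congr rfl fun i _ => congrArg (𝓕.wt i * ·) ?_) rfl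
    have hv := DecShLib.subsingleton_h1_quot (k := k) hL hdim.le (𝓕.piece i).arrow m
      (hvan (hB E hE htf hα he b D T (Or.inr ⟨m, hm₁, hc⟩)))
    obtain ⟨hQ, hmQ, heQ⟩ := DecShLib.cokernel_data (k := k) hL (𝓕.piece i).arrow (hcoh i) hE
    have h0 : (Module.finrank k (Coh.HH X (ShStab.twist X L (cokernel (𝓕.piece i).arrow) m) 0) : ℚ) =
        (Curv2.euler k X (ShStab.twist X L (cokernel (𝓕.piece i).arrow) m) : ℚ) := by
      exact_mod_cast DecShLib.h0_eq_euler (k := k) hdim.le hv
    rw [h0, DecShLib.euler_linear hL hdim.le hQ, hlinE, hα, he]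
    have hmQ' : (α : ℚ) = (DecSh.mult k X L ((𝓕.piece i : Subobject E) : X.Modules) : ℚ) +
        (DecSh.mult k X L (cokernel (𝓕.piece i).arrow) : ℚ) := by rw [← hα]; exact_mod_cast hmQ
    have heQ' : (e : ℚ) = (Curv2.euler k X ((𝓕.piece i : Subobject E) : X.Modules) : ℚ) +
        (Curv2.euler k X (cokernel (𝓕.piece i).arrow) : ℚ) := by rw [← he]; exact_mod_cast heQ
    simp only [hmQ', heQ']
    ring

end Groth.Agent.S19317
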