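import Groth.Statements.S19319
import Groth.Agent.DecShLib.SectCore

set_option autoImplicit false
universe u
open CategoryTheory CategoryTheory.Limits AlgebraicGeometry
open DecSh

set_option backward.isDefEq.respectTransparency false
set_option backward.isDefEq.respectTransparency.types false

namespace Groth.Agent.S19319

/-- Let k be an algebraically closed field of characteristic zero, X a reduced proper k-scheme of
dimension one without isolated points, and L an ample invertible O_X-module which is very ample
relative to some projective space over k; write χ for the Euler characteristic over k, M(m) = M ⊗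
L^{⊗m}, h⁰(M) = dim_k H⁰(X, M), α(M) = χ(M ⊗ L) − χ(M). Fix δ > 0, integers α and e, natural numbers
a, b and a finite locally free O_X-module D. Then there is N₀ such that for every m ≥ N₀, every
coherent O_X-module E with torsion free stalks, α(E) = α and χ(E) = e, every tensor field T of type
(a, b) on E with values in D which is δ-semistable with respect to L, and every saturated weighted
filtration (F•, m•) of E (coherent subsheaves F_i with torsion free quotients E/F_i, weights m_i)
for which the sectional expression vanishes, Σ_i m_i (α · h⁰(F_i(m)) − α(F_i) · χ(E(m))) + δ μ(F•,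
m•, φ) = 0, every piece satisfies h⁰(F_i(m)) = χ(F_i(m)). (The published corollary is stated for any
weighted filtration and also places each F_i in an auxiliary bounded family of saturated subsheaves
defined through constants of the proof; the published proof treats saturated filtrations, which is
the case stated here, and the membership clause is not restated. N₀ is the threshold of the
sectional characterisation of δ-semistability; the published setting is a reduced projective curve
with a very ample polarisation and a locally free D, as here.) -/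
theorem result
    (k : Type u) [Field k] [IsAlgClosed k] [CharZero k]
    (X : Scheme.{u}) [X.Over (Spec (CommRingCat.of k))] [IsProper (X ↘ Spec (CommRingCat.of k))]
    [AlgebraicGeometry.IsReduced X] (hdim : topologicalKrullDim X = 1)
    (hpure : ∀ x : X, ¬ IsOpen ({x} : Set X))
    (L : X.Modules) (hL : CohB1.IsAmple L) (hva : RelAmple.IsRelVeryAmplePn (X ↘ Spec (CommRingCat.of k)) L)
    (δ : ℚ) (hδ : 0 < δ) (α e : ℤ) (a b : ℕ) (D : X.Modules) (hD : FlatMod.IsFinLocFree D) :
    ∃ N₀ : ℕ, ∀ m : ℕ, N₀ ≤ m → ∀ (E : X.Modules), Coh.IsCoh E → TorSh.IsTorsionFree E →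
      DecSh.mult k X L E = α → Curv2.euler k X E = e → ∀ T : DecSh.TF E a b D, T.IsSemistable k L δ →
        ∀ 𝓕 : DecSh.WFilt E, (∀ i, Coh.IsCoh ((𝓕.piece i : Subobject E) : X.Modules)) →
          (∀ i, TorSh.IsTorsionFree (cokernel (𝓕.piece i).arrow)) →
          (∑ i, 𝓕.wt i * ((α : ℚ) *
              (Module.finrank k (Coh.HH X (ShStab.twist X L ((𝓕.piece i : Subobject E) : X.Modules) m) 0) : ℚ) -
            (DecSh.mult k X L ((𝓕.piece i : Subobject E) : X.Modules) : ℚ) *
              (Curv2.euler k X (ShStab.twist X L E m) : ℚ))) + δ * T.mu k L 𝓕 = 0 →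
          ∀ i, (Module.finrank k (Coh.HH X (ShStab.twist X L ((𝓕.piece i : Subobject E) : X.Modules) m) 0) : ℤ) =
            Curv2.euler k X (ShStab.twist X L ((𝓕.piece i : Subobject E) : X.Modules) m) := by
  haveI : Infinite k := inferInstance
  obtain ⟨N₁, B, hB⟩ := DecShLib.exists_slope_of_ss_or_sectional (k := k) hL hdim.le hpure δ hδ α e a
  obtain ⟨N₂, hN₂⟩ := DecShLib.exists_vanish (k := k) hL hdim.le α e B
  obtain ⟨N₃, hN₃⟩ := DecShLib.exists_split (k := k) hL hdim.le hpure α e B (δ * (a : ℚ) * ((α : ℚ) - 1))
  refine ⟨N₃, fun m hm E hE htf hα he T hS 𝓕 hcoh _ h0 i => ?_⟩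
  have hs := hB E hE htf hα he b D T (Or.inl hS)
  have hlinE : (Curv2.euler k X (ShStab.twist X L E m) : ℚ) = (e : ℚ) + (α : ℚ) * (m : ℚ) := by
    rw [DecShLib.euler_linear hL hdim.le hE, hα, he]
  let lin : Subobject E → ℚ := fun P => (DecSh.mult k X L E : ℚ) * (Curv2.euler k X (P : X.Modules) : ℚ) -
    (DecSh.mult k X L (P : X.Modules) : ℚ) * (Curv2.euler k X E : ℚ)
  have key := (DecShLib.sectional_core (k := k) hL hdim.le hpure hE htf T hδ lin hS 𝓕 hcoh _ fun i => ?_).2 h0 i
  · simp only [lin] at key
    rw [hlinE, hα, he] at key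
    obtain ⟨h1, h2⟩ := DecShLib.mult_mem (k := k) hL hdim.le hpure hE htf (𝓕.piece i).arrow (hcoh i) (𝓕.piece_nonzero i)
    have hα1 : (1 : ℚ) ≤ (α : ℚ) := by exact_mod_cast hα ▸ (h1.trans h2)
    have h3 : (α : ℚ) * (Module.finrank k (Coh.HH X (ShStab.twist X L ((𝓕.piece i : Subobject E) : X.Modules) m) 0) : ℚ) =
        (α : ℚ) * (Curv2.euler k X (ShStab.twist X L ((𝓕.piece i : Subobject E) : X.Modules) m) : ℚ) := by
      rw [DecShLib.euler_linear hL hdim.le (hcoh i)]
      linarith
    exact_mod_cast mul_left_cancel₀ (show (α : ℚ) ≠ 0 by linarith) h3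
  rcases hN₃ m hm E hE htf hα he hs _ (𝓕.piece i).arrow inferInstance (hcoh i) (𝓕.piece_nonzero i) with h | h
  · left
    have h0 : (Module.finrank k (Coh.HH X (ShStab.twist X L ((𝓕.piece i : Subobject E) : X.Modules) m) 0) : ℚ) =
        (Curv2.euler k X (ShStab.twist X L ((𝓕.piece i : Subobject E) : X.Modules) m) : ℚ) := by
      exact_mod_cast DecShLib.h0_eq_euler (k := k) hdim.le h
    simp only [lin]
    rw [h0, DecShLib.euler_linear hL hdim.le (hcoh i), hlinE, hα, he]
    ring
  · right
    rw [hα]
    exact h

end Groth.Agent.S19319
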