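import Groth.Statements.S19321
import Groth.Agent.DecShLib.Sectional

set_option autoImplicit false
universe u
open CategoryTheory CategoryTheory.Limits AlgebraicGeometry
open DecSh

set_option backward.isDefEq.respectTransparency false
set_option backward.isDefEq.respectTransparency.types false

namespace Groth.Agent.S19321

/-- Let k be an algebraically closed field of characteristic zero, X a reduced proper k-scheme of
dimension one without isolated points, and L an ample invertible O_X-module which is very ample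
relative to some projective space over k; write χ for the Euler characteristic over k, M(m) = M ⊗
L^{⊗m}, h⁰(M) = dim_k H⁰(X, M), α(M) = χ(M ⊗ L) − χ(M). Fix δ > 0, integers α and e, natural numbers
a, b and a finite locally free O_X-module D. Then there is N₁ such that for every rational number C
the following family of coherent O_X-modules F′ is bounded: F′ admits a monomorphism with torsion
free cokernel (a saturated subsheaf) into some coherent F with torsion free stalks, α(F) = α, χ(F) =
e, which carries a tensor field T of type (a, b) with values in D that is δ-semistable with respect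
to L or satisfies for some m ≥ N₁ the quotient sectional condition Σ_i m_i (α(F/F_i) · χ(F(m)) − α ·
h⁰((F/F_i)(m))) + δ μ ≤ 0 for all weighted filtrations of F by coherent subsheaves; and |χ(F′) −
α(F′) · (e − aδ)/α| ≤ C. (The last condition is the source's |deg F′ − α(F′) μ_s| ≤ C with μ_s =
(deg F − aδ)/α, rewritten through χ: the correction terms by the rational rank cancel. The published
setting is a reduced projective curve with a very ample polarisation and a locally free D, as here.) -/
theorem result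
    (k : Type u) [Field k] [IsAlgClosed k] [CharZero k]
    (X : Scheme.{u}) [X.Over (Spec (CommRingCat.of k))] [IsProper (X ↘ Spec (CommRingCat.of k))]
    [AlgebraicGeometry.IsReduced X] (hdim : topologicalKrullDim X = 1)
    (hpure : ∀ x : X, ¬ IsOpen ({x} : Set X))
    (L : X.Modules) (hL : CohB1.IsAmple L) (hva : RelAmple.IsRelVeryAmplePn (X ↘ Spec (CommRingCat.of k)) L)
    (δ : ℚ) (hδ : 0 < δ) (α e : ℤ) (a b : ℕ) (D : X.Modules) (hD : FlatMod.IsFinLocFree D) :
    ∃ N₁ : ℕ, ∀ C : ℚ, Pic13.IsBounded k X (fun F' => Coh.IsCoh F' ∧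
      (∃ (F : X.Modules) (ι : F' ⟶ F), Mono ι ∧ TorSh.IsTorsionFree (cokernel ι) ∧
        Coh.IsCoh F ∧ TorSh.IsTorsionFree F ∧ DecSh.mult k X L F = α ∧ Curv2.euler k X F = e ∧
          ∃ T : DecSh.TF F a b D, (T.IsSemistable k L δ ∨ ∃ m : ℕ, N₁ ≤ m ∧
            ∀ 𝓕 : DecSh.WFilt F, (∀ i, Coh.IsCoh ((𝓕.piece i : Subobject F) : X.Modules)) →
              (∑ i, 𝓕.wt i * ((DecSh.mult k X L (cokernel (𝓕.piece i).arrow) : ℚ) *
                  (Curv2.euler k X (ShStab.twist X L F m) : ℚ) -
                (α : ℚ) * (Module.finrank k (Coh.HH X (ShStab.twist X L (cokernel (𝓕.piece i).arrow) m) 0) : ℚ))) +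
                δ * T.mu k L 𝓕 ≤ 0)) ∧
      |(Curv2.euler k X F' : ℚ) - (DecSh.mult k X L F' : ℚ) * (((e : ℚ) - (a : ℚ) * δ) / (α : ℚ))| ≤ C) := by
  haveI : Infinite k := IsAlgClosed.instInfinite
  haveI := CurveRR.isNoetherian_of_proper k X
  obtain ⟨N₁, B, hB⟩ := DecShLib.exists_slope_of_ss_or_sectional (k := k) hL hdim.le hpure δ hδ α e a
  refine ⟨N₁, fun C => ?_⟩
  set c : ℚ := ((e : ℚ) - (a : ℚ) * δ) / (α : ℚ) with hc
  obtain ⟨M, hM⟩ := exists_nat_ge (|C| + |(α : ℚ)| * |c|)
  let s : Finset (ℤ × ℤ) := Finset.Icc (0 : ℤ) |α| ×ˢ Finset.Icc (-(M : ℤ)) (M : ℤ)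
  refine PicBdd.isBounded_mono k (PicBdd.isBounded_finset k s
    (fun p F' => Coh.IsCoh F' ∧ DecSh.mult k X L F' = p.1 ∧ Curv2.euler k X F' = p.2 ∧
      DecShLib.SlopeLE k X L F' B)
    fun p _ => DecShLib.isBounded_slope (k := k) hL hdim.le p.1 p.2 B) ?_
  rintro F' ⟨hF', ⟨F, ι, hι, -, hF, htf, hα, he, S, hS⟩, hC⟩
  haveI := hι
  have hslope := hB F hF htf hα he b D S hS
  refine ⟨(DecSh.mult k X L F', Curv2.euler k X F'), ?_, hF', rfl, rfl, fun G j hj hG h0 => ?_⟩
  swap
  · haveI := hj
    exact hslope G (j ≫ ι) (mono_comp _ _) hG h0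
  have h0 : 0 ≤ DecSh.mult k X L F' := DecShLib.mult_nonneg' (k := k) hL hdim.le hF'
  have hle : DecSh.mult k X L F' ≤ α := by
    by_cases hz : IsZero F'
    · have h1 := (StabLib.Sh.inv k hL).hp_zero hz hF'
      change StabLib.Sh.hp k L F' = 0 at h1
      rw [DecShLib.hp_eq hL hdim.le hF'] at h1
      have h2 := congrArg (Polynomial.coeff · 1) h1
      simp only [Polynomial.coeff_add, Polynomial.coeff_C_mul_X, Polynomial.coeff_C, Polynomial.coeff_zero,
        one_ne_zero, if_true, if_false, zero_add] at h2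
      have h3 : DecSh.mult k X L F' = 0 := by exact_mod_cast h2
      rw [h3, ← hα]
      exact DecShLib.mult_nonneg' (k := k) hL hdim.le hF
    · rw [← hα]
      exact (DecShLib.mult_mem (k := k) hL hdim.le hpure hF htf ι hF' hz).2
  have hle' : |(DecSh.mult k X L F' : ℚ)| ≤ |(α : ℚ)| := by
    rw [abs_of_nonneg (show (0 : ℚ) ≤ (DecSh.mult k X L F' : ℚ) by exact_mod_cast h0)]
    exact (show (DecSh.mult k X L F' : ℚ) ≤ (α : ℚ) by exact_mod_cast hle).trans (le_abs_self _)
  have h1 : |(Curv2.euler k X F' : ℚ)| ≤ (M : ℚ) := by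
    have h2 := abs_sub_abs_le_abs_sub (Curv2.euler k X F' : ℚ) ((DecSh.mult k X L F' : ℚ) * c)
    rw [abs_mul] at h2
    have h3 := mul_le_mul_of_nonneg_right hle' (abs_nonneg c)
    linarith [le_abs_self C]
  have h2 : |Curv2.euler k X F'| ≤ (M : ℤ) := by exact_mod_cast h1
  simp only [s, Finset.mem_product, Finset.mem_Icc]
  exact ⟨⟨h0, hle.trans (le_abs_self _)⟩, abs_le.1 h2⟩

end Groth.Agent.S19321
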