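import Groth.Statements.S19324
import Groth.Agent.PsRefl.Free
import Groth.Agent.GLinFree.Quot
import Groth.Agent.SerreReg.Descent
import Groth.Agent.Unibranch.Noether
import Mathlib.RingTheory.RegularLocalRing.Polynomial
import Mathlib.RingTheory.RingHom.Flat
import Mathlib.RingTheory.KrullDimension.NonZeroDivisors

set_option autoImplicit false
universe u
open GLin

namespace Groth.Agent.S19324

open MvPolynomial
set_option linter.unusedSectionVars false


section Generic
variable {k : Type u} [Field k] {B : Type u} [CommRing B] [Algebra k B] [IsNoetherianRing B]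

/-- Homogeneous-like generators of the maximal ideal of a rational point giving a basis of its cotangent space. -/
theorem exists_cotangent_basis (x : B →ₐ[k] k) (H : Set B) (hH : H ⊆ RingHom.ker x)
    (hgen : ∀ y ∈ RingHom.ker x, y ∈ Submodule.span k H) :
    ∃ (m : ℕ) (f : Fin m → B) (hf : ∀ i, f i ∈ RingHom.ker x), (∀ i, f i ∈ H) ∧
      LinearIndependent (B ⧸ RingHom.ker x) (fun i => (RingHom.ker x).toCotangent ⟨f i, hf i⟩) ∧
      Submodule.span (B ⧸ RingHom.ker x) (Set.range fun i => (RingHom.ker x).toCotangent ⟨f i, hf i⟩) = ⊤ ∧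
      ∀ y ∈ RingHom.ker x, ∃ a : Fin m → k, y - ∑ i, a i • f i ∈ RingHom.ker x ^ 2 := by
  classical
  let M : Ideal B := RingHom.ker x
  have hM : M.IsMaximal := RingHom.ker_isMaximal_of_surjective x fun c => ⟨algebraMap k B c, AlgHom.commutes _ c⟩
  let _ : Field (B ⧸ M) := Ideal.Quotient.field M
  have hconst : ∀ c : B, c - algebraMap k B (x c) ∈ M := fun c => by
    rw [RingHom.mem_ker, map_sub, AlgHom.commutes]
    exact sub_self _
  let T : Set M.Cotangent := M.toCotangent '' {y : M | (y : B) ∈ H}
  have hT : Submodule.span (B ⧸ M) T = ⊤ := eq_top_iff.2 fun z hz => by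
    clear hz
    obtain ⟨⟨y, hy⟩, rfl⟩ := M.toCotangent_surjective z
    obtain ⟨n, c, h, rfl⟩ := Submodule.mem_span_set'.1 (hgen y hy)
    have hsum : (⟨∑ i, c i • (h i : B), hy⟩ : M) = ∑ i, algebraMap k B (c i) • (⟨h i, hH (h i).2⟩ : M) := by
      refine Subtype.ext ?_
      simp [Algebra.smul_def]
    rw [hsum, map_sum]
    refine Submodule.sum_mem _ fun i _ => ?_
    rw [map_smul]
    exact Submodule.smul_mem _ (Ideal.Quotient.mk M (algebraMap k B (c i))) (Submodule.subset_span (Set.mem_image_of_mem M.toCotangent (show (⟨h i, hH (h i).2⟩ : M) ∈ {y : M | (y : B) ∈ H} from (h i).2)))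
  obtain ⟨s, hsT, hsspan, hsli⟩ := exists_linearIndependent (B ⧸ M) T
  rw [hT] at hsspan
  have : Module.Finite B M := Module.Finite.iff_fg.2 (IsNoetherian.noetherian M)
  have : Module.Finite B M.Cotangent := Module.Finite.of_surjective M.toCotangent M.toCotangent_surjective
  have : Module.Finite (B ⧸ M) M.Cotangent := Module.Finite.of_restrictScalars_finite B _ _
  have : Fintype s := hsli.setFinite.fintype
  let en : Fin (Fintype.card s) ≃ s := (Fintype.equivFin s).symm
  choose fy hfy hfys using fun i => hsT (en i).2
  have hcomp : (fun i => M.toCotangent ⟨(fy i : B), (fy i).2⟩) = (Subtype.val : s → M.Cotangent) ∘ en := funext hfys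
  have hsp : Submodule.span (B ⧸ M) (Set.range fun i => M.toCotangent ⟨(fy i : B), (fy i).2⟩) = ⊤ := by
    rw [← hsspan, hcomp, Set.range_comp, en.surjective.range_eq, Set.image_univ, Subtype.range_coe]
  refine ⟨Fintype.card s, fun i => (fy i : B), fun i => (fy i).2, hfy, ?_, hsp, fun y hy => ?_⟩
  · show LinearIndependent (B ⧸ M) fun i => M.toCotangent ⟨(fy i : B), (fy i).2⟩
    rw [hcomp]
    exact hsli.comp _ en.injective
  · obtain ⟨c, hc⟩ := (Submodule.mem_span_range_iff_exists_fun (B ⧸ M)).1
      (hsp ▸ Submodule.mem_top : M.toCotangent ⟨y, hy⟩ ∈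
        Submodule.span (B ⧸ M) (Set.range fun i => M.toCotangent ⟨(fy i : B), (fy i).2⟩))
    choose c' hc' using fun i => Ideal.Quotient.mk_surjective (c i)
    refine ⟨fun i => x (c' i), ?_⟩
    have hmem : y - ∑ i, c' i * (fy i : B) ∈ M ^ 2 := by
      have h0 : M.toCotangent (⟨y, hy⟩ - ∑ i, c' i • fy i) = 0 := by
        rw [map_sub, map_sum, ← hc, sub_eq_zero]
        refine Finset.sum_congr rfl fun i _ => ?_
        rw [map_smul, ← hc' i]
        rfl
      have := (M.toCotangent_eq_zero _).1 h0
      simpa using this
    have hdiff : ∑ i, c' i * (fy i : B) - ∑ i, x (c' i) • (fy i : B) ∈ M ^ 2 := by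
      rw [← Finset.sum_sub_distrib, sq]
      refine Ideal.sum_mem _ fun i _ => ?_
      rw [Algebra.smul_def, ← sub_mul]
      exact Ideal.mul_mem_mul (hconst (c' i)) (fy i).2
    have h3 := add_mem hmem hdiff
    rwa [sub_add_sub_cancel] at h3

/-- A cotangent basis at a regular point is no longer than the dimension. -/
theorem card_le_dim (x : B →ₐ[k] k) [(RingHom.ker x).IsPrime] [IsRegularLocalRing (Localization.AtPrime (RingHom.ker x))]
    {m : ℕ} (f : Fin m → B) (hf : ∀ i, f i ∈ RingHom.ker x)
    (hli : LinearIndependent (B ⧸ RingHom.ker x) fun i => (RingHom.ker x).toCotangent ⟨f i, hf i⟩)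
    (hsp : Submodule.span (B ⧸ RingHom.ker x) (Set.range fun i => (RingHom.ker x).toCotangent ⟨f i, hf i⟩) = ⊤) :
    (m : WithBot ℕ∞) ≤ ringKrullDim B := by
  classical
  let M : Ideal B := RingHom.ker x
  let L := Localization.AtPrime M
  let G : Set L := (IsLocalRing.maximalIdeal L).generators
  have hGfin : G.Finite := Submodule.FG.finite_generators (IsNoetherian.noetherian _)
  have hGcard : G.ncard = (IsLocalRing.maximalIdeal L).spanFinrank :=
    Submodule.FG.generators_ncard (IsNoetherian.noetherian _)
  have hGspan : Ideal.span G = IsLocalRing.maximalIdeal L := Submodule.span_generators _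
  have : Fintype G := hGfin.fintype
  let eG : Fin (Fintype.card G) ≃ G := (Fintype.equivFin G).symm
  have hgen' : ∀ i, ∃ g ∈ M, ∃ v : L, IsUnit v ∧ algebraMap B L g = (eG i : L) * v := fun i => by
    obtain ⟨⟨⟨g, hg⟩, w⟩, hw⟩ := (IsLocalization.mem_map_algebraMap_iff M.primeCompl L).1
      (show (eG i : L) ∈ M.map (algebraMap B L) by
        rw [Localization.AtPrime.map_eq_maximalIdeal, ← hGspan]
        exact Ideal.subset_span (eG i).2)
    exact ⟨g, hg, algebraMap B L w, IsLocalization.map_units L w, hw.symm⟩
  choose g hgM v hv hgv using hgen'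
  have hcard : m ≤ Fintype.card G := by
    refine GLinFree.card_basis_le (x := x) M le_rfl f hf hli hsp g hgM fun j => ?_
    have h1 : algebraMap B L (f j) ∈ (Ideal.span (Set.range g)).map (algebraMap B L) := by
      have h2 : algebraMap B L (f j) ∈ IsLocalRing.maximalIdeal L := by
        rw [← Localization.AtPrime.map_eq_maximalIdeal]
        exact Ideal.mem_map_of_mem _ (hf j)
      rw [← hGspan] at h2
      refine Ideal.span_le.2 (fun z hz => ?_) h2
      obtain ⟨i, hi⟩ := eG.surjective ⟨z, hz⟩
      obtain ⟨u, hu⟩ := (hv i).exists_right_inv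
      rw [show z = algebraMap B L (g i) * u by rw [hgv, mul_assoc, hu, mul_one, hi]]
      exact Ideal.mul_mem_right _ _ (Ideal.mem_map_of_mem _ (Ideal.subset_span (Set.mem_range_self i)))
    obtain ⟨w, hw, hwf⟩ := (IsLocalization.algebraMap_mem_map_algebraMap_iff M.primeCompl L _ _).1 h1
    exact ⟨w, fun h => hw (RingHom.mem_ker.2 h), hwf⟩
  refine (Nat.cast_le.2 hcard).trans ?_
  rw [show Fintype.card G = G.ncard from (Nat.card_eq_fintype_card).symm.trans (Nat.card_coe_set_eq G), hGcard,
    IsRegularLocalRing.spanFinrank_maximalIdeal, IsLocalization.AtPrime.ringKrullDim_eq_height M]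
  exact Ideal.height_le_ringKrullDim_of_ne_top (Ideal.IsPrime.ne_top inferInstance)

/-- Too few generators for the dimension are algebraically independent. -/
theorem aeval_bijective {m d : ℕ} (f : Fin m → B) (hsurj : Function.Surjective (MvPolynomial.aeval f : MvPolynomial (Fin m) k →ₐ[k] B))
    (hd : (d : WithBot ℕ∞) ≤ ringKrullDim B) (hm : m ≤ d) :
    Function.Bijective (MvPolynomial.aeval f : MvPolynomial (Fin m) k →ₐ[k] B) := by
  refine ⟨?_, hsurj⟩
  rw [injective_iff_map_eq_zero]
  intro p hp
  by_contra hp0
  have h1 := ringKrullDim_quotient_succ_le_of_nonZeroDivisor (mem_nonZeroDivisors_of_ne_zero hp0)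
  have h2 : ringKrullDim B ≤ ringKrullDim (MvPolynomial (Fin m) k ⧸ Ideal.span {p}) :=
    ringKrullDim_le_of_surjective (Ideal.Quotient.lift _ (MvPolynomial.aeval f).toRingHom fun q hq => by
      obtain ⟨c, rfl⟩ := Ideal.mem_span_singleton'.1 hq
      show MvPolynomial.aeval f (c * p) = 0
      rw [map_mul, hp, mul_zero])
      (Ideal.Quotient.lift_surjective_of_surjective _ _ hsurj)
  rw [MvPolynomial.ringKrullDim_of_isNoetherianRing, ringKrullDim_eq_zero_of_field, zero_add, Nat.card_fin] at h1
  have h3 : ((d + 1 : ℕ) : WithBot ℕ∞) ≤ (m : ℕ) := by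
    refine le_trans ?_ h1
    rw [Nat.cast_add, Nat.cast_one]
    exact add_le_add (hd.trans h2) le_rfl
  have : d + 1 ≤ m := by exact_mod_cast h3
  omega

end Generic

section Gen
variable {k : Type u} [Field k] {A : Type u} [CommRing A] [HopfAlgebra k A]
variable {ι : Type u} [Fintype ι] [HopfRep.Comod k A (MvPolynomial ι k)] [GLin.IsCoactAlg k A (MvPolynomial ι k)]

local notation "ℬ" => GLin.invariants k A (MvPolynomial ι k)

variable (k A ι) in
/-- the value at the origin -/
noncomputable def aug : ℬ →ₐ[k] k := (MvPolynomial.aeval (fun _ : ι => (0 : k))).comp (ℬ).val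

theorem aug_apply (b : ℬ) : aug k A ι b = constantCoeff (b : MvPolynomial ι k) := by
  show aeval (fun _ : ι => (0 : k)) (b : MvPolynomial ι k) = _
  rw [show (fun _ : ι => (0 : k)) = 0 from rfl, MvPolynomial.aeval_zero]
  rfl

theorem range_eq_top (hlin : GLin.IsLinear k A ι) {m : ℕ} (f : Fin m → ℬ)
    (hfh : ∀ i, ∃ e, (f i : MvPolynomial ι k).IsHomogeneous e)
    (hspan : ∀ y ∈ RingHom.ker (aug k A ι), ∃ a : Fin m → k, y - ∑ i, a i • f i ∈ RingHom.ker (aug k A ι) ^ 2) :
    Function.Surjective (MvPolynomial.aeval f : MvPolynomial (Fin m) k →ₐ[k] ℬ) := by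
  classical
  let G : Subalgebra k (MvPolynomial ι k) := ((MvPolynomial.aeval f : MvPolynomial (Fin m) k →ₐ[k] ℬ).range).map (ℬ).val
  suffices h : ∀ d, ∀ y : MvPolynomial ι k, y ∈ ℬ → homogeneousComponent d y ∈ G by
    intro b
    have : (b : MvPolynomial ι k) ∈ G := by
      rw [← sum_homogeneousComponent (b : MvPolynomial ι k)]
      exact Subalgebra.sum_mem _ fun d _ => h d _ b.2
    obtain ⟨_, ⟨p, rfl⟩, hp⟩ := this
    exact ⟨p, Subtype.ext hp⟩
  intro d
  induction d using Nat.strong_induction_on with
  | _ d ih =>
    intro y hy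
    rcases Nat.eq_zero_or_pos d with rfl | hd
    · rw [homogeneousComponent_zero]
      exact G.algebraMap_mem _
    let y' : ℬ := ⟨homogeneousComponent d y, PsRefl.comp_mem_invariants hlin d hy⟩
    have hy'0 : y' ∈ RingHom.ker (aug k A ι) := by
      rw [RingHom.mem_ker, aug_apply]
      exact (homogeneousComponent_isHomogeneous d y).coeff_eq_zero (by simpa using hd.ne)
    obtain ⟨a, ha⟩ := hspan y' hy'0
    have hval : ∀ (s : Finset (Fin m)), ((∑ i ∈ s, a i • f i : ℬ) : MvPolynomial ι k) =
        ∑ i ∈ s, a i • (f i : MvPolynomial ι k) := fun s => by simp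
    have hsq : ∀ z ∈ RingHom.ker (aug k A ι) ^ 2, homogeneousComponent d (z : MvPolynomial ι k) ∈ G := by
      intro z hz
      rw [sq] at hz
      induction hz using Submodule.mul_induction_on' with
      | add p _ q _ hp hq => rw [AddMemClass.coe_add, map_add]; exact add_mem hp hq
      | mem_mul_mem u hu v hv =>
        rw [MulMemClass.coe_mul, ← sum_homogeneousComponent (v : MvPolynomial ι k), Finset.mul_sum, map_sum]
        refine Subalgebra.sum_mem _ fun j _ => ?_
        rw [PsRefl.comp_mul_homog (homogeneousComponent_isHomogeneous j _)]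
        split
        · rename_i hj
          rcases Nat.eq_zero_or_pos j with rfl | hj0
          · rw [homogeneousComponent_zero,
              show coeff 0 (v : MvPolynomial ι k) = 0 from (aug_apply v).symm.trans (RingHom.mem_ker.1 hv), map_zero,
              mul_zero]
            exact zero_mem _
          rcases hj.lt_or_eq with hjd | rfl
          · exact mul_mem (ih (d - j) (by omega) _ u.2) (ih j hjd _ v.2)
          · rw [Nat.sub_self, homogeneousComponent_zero,
              show coeff 0 (u : MvPolynomial ι k) = 0 from (aug_apply u).symm.trans (RingHom.mem_ker.1 hu), map_zero,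
              zero_mul]
            exact zero_mem _
        · exact zero_mem _
    have hfG : ∀ i, (f i : MvPolynomial ι k) ∈ G := fun i => ⟨f i, ⟨X i, aeval_X _ _⟩, rfl⟩
    have h1 := hsq _ ha
    rw [AddSubgroupClass.coe_sub, map_sub, hval, map_sum, show ((y' : ℬ) : MvPolynomial ι k) = homogeneousComponent d y from rfl,
      homogeneousComponent_eq_self (homogeneousComponent_isHomogeneous d y)] at h1
    rw [← sub_add_cancel (homogeneousComponent d y) (∑ i : Fin m, homogeneousComponent d (a i • (f i : MvPolynomial ι k)))]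
    refine add_mem h1 (Subalgebra.sum_mem _ fun i _ => ?_)
    rw [map_smul]
    refine G.smul_mem ?_ _
    -- components of the generators
    obtain ⟨e, he⟩ := hfh i
    rw [homogeneousComponent_of_mem he]
    split
    · exact hfG i
    · exact zero_mem _
end Gen

/-- The invariant ring is polynomial (faithfulness is not needed). -/
theorem main
    {k : Type u} [Field k] {A : Type u} [CommRing A] [HopfAlgebra k A] [Module.Finite k A]
    (hG : HopfRep.IsLinearlyReductive k A)
    (hsub : ∀ (I : Ideal A) [I.IsHopfIdeal k], HopfRep.IsLinearlyReductive k (A ⧸ I))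
    {ι : Type u} [Fintype ι] [HopfRep.Comod k A (MvPolynomial ι k)]
    [GLin.IsCoactAlg k A (MvPolynomial ι k)]
    (hlin : GLin.IsLinear k A ι)
    (hgen : GLin.IsGenByPseudoRefl k A ι) :
    ∃ m : ℕ, Nonempty (↥(GLin.invariants k A (MvPolynomial ι k)) ≃ₐ[k] MvPolynomial (Fin m) k) := by
  classical
  let P := MvPolynomial ι k
  let B := GLin.invariants k A P
  have hfree : Module.Free B P := PsRefl.free hlin hG hsub hgen
  have hfin : Module.Finite B P := InvFin.finite_invariants
  have : IsNoetherianRing B := InvFin.isNoetherianRing_invariants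
  let H : Set B := {y | y ∈ RingHom.ker (aug k A ι) ∧ ∃ d, (y : P).IsHomogeneous d}
  have hH : ∀ y ∈ RingHom.ker (aug k A ι), y ∈ Submodule.span k H := fun y hy => by
    have hsum : y = ∑ d ∈ Finset.range ((y : P).totalDegree + 1),
        (⟨homogeneousComponent d (y : P), PsRefl.comp_mem_invariants hlin d y.2⟩ : B) := by
      refine Subtype.ext ?_
      rw [AddSubmonoidClass.coe_finsetSum]
      exact (sum_homogeneousComponent _).symm
    rw [hsum]
    refine Submodule.sum_mem _ fun d _ => Submodule.subset_span ⟨?_, d, homogeneousComponent_isHomogeneous d _⟩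
    rw [RingHom.mem_ker, aug_apply]
    rcases Nat.eq_zero_or_pos d with rfl | hd
    · simp only [homogeneousComponent_zero, constantCoeff_C]
      exact (aug_apply y).symm.trans (RingHom.mem_ker.1 hy)
    · exact (homogeneousComponent_isHomogeneous d _).coeff_eq_zero (by simpa using hd.ne)
  obtain ⟨m, f, hf, hfH, hli, hsp, hspan⟩ := exists_cotangent_basis (aug k A ι) H (fun y hy => hy.1) hH
  -- the local ring at the origin is regular
  let n : Ideal P := RingHom.ker (MvPolynomial.aeval (fun _ : ι => (0 : k)) : P →ₐ[k] k)
  have hn : n.IsMaximal := RingHom.ker_isMaximal_of_surjective _ fun c => ⟨algebraMap k P c, AlgHom.commutes _ c⟩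
  have hMp : (RingHom.ker (aug k A ι)).IsPrime := RingHom.ker_isPrime _
  let M : Ideal B := RingHom.ker (aug k A ι)
  have hnM : M = n.comap (algebraMap B P) := rfl
  let _ : Algebra (Localization.AtPrime M) (Localization.AtPrime n) :=
    (Localization.localRingHom M n (algebraMap B P) hnM).toAlgebra
  have : IsLocalHom (algebraMap (Localization.AtPrime M) (Localization.AtPrime n)) :=
    Localization.isLocalHom_localRingHom M n _ hnM
  have : Module.Flat (Localization.AtPrime M) (Localization.AtPrime n) :=
    RingHom.Flat.localRingHom (RingHom.flat_algebraMap_iff.2 inferInstance) n M hnM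
  have : IsRegularLocalRing (Localization.AtPrime n) := inferInstance
  have : IsNoetherianRing (Localization.AtPrime M) := IsLocalization.isNoetherianRing M.primeCompl _ inferInstance
  have : IsRegularLocalRing (Localization.AtPrime M) :=
    SerreReg.isRegularLocalRing_of_flat _ (Localization.AtPrime n)
  -- dimension
  have : Algebra.IsIntegral B P := Algebra.IsIntegral.of_finite _ _
  have hPdim : ringKrullDim P = (Fintype.card ι : ℕ) := by
    rw [MvPolynomial.ringKrullDim_of_isNoetherianRing, ringKrullDim_eq_zero_of_field, zero_add, Nat.card_eq_fintype_card]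
  have hBle : ringKrullDim B ≤ (Fintype.card ι : ℕ) :=
    (SerreReg.ringKrullDim_le_of_isIntegral (R := B) (A := P) Subtype.val_injective).trans hPdim.le
  have hPle : (Fintype.card ι : WithBot ℕ∞) ≤ ringKrullDim B := by
    rw [← hPdim]
    exact Order.krullDim_le_of_strictMono (PrimeSpectrum.comap (algebraMap B P))
      fun a b hab => Ideal.IsIntegral.comap_lt_comap (R := B) hab
  have hm : m ≤ Fintype.card ι := by
    exact_mod_cast (card_le_dim (aug k A ι) f hf hli hsp).trans hBle
  have hsurj := range_eq_top hlin f (fun i => (hfH i).2) hspan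
  exact ⟨m, ⟨(AlgEquiv.ofBijective (MvPolynomial.aeval f) (aeval_bijective f hsurj hPle hm)).symm⟩⟩

/-- Let k be a field and G = Spec A a finite linearly reductive group scheme over k (A a
finite-dimensional commutative Hopf algebra all of whose finite-dimensional comodules are
semisimple), acting on the polynomial ring in finitely many variables through a multiplicative
coaction that is linear (each variable goes to an A-combination of variables) and faithful on linear
forms. If G is generated by pseudo-reflections — the only Hopf ideal contained in every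
pseudo-reflection ideal is zero, a pseudo-reflection ideal being a Hopf ideal whose closed subgroup
scheme fixes a subspace of linear forms of codimension exactly one — then the ring of invariant
polynomials is a polynomial ring over k. (Besides linear reductivity of G the row assumes that every
quotient of A by a Hopf ideal is linearly reductive, i.e. that every closed subgroup scheme of G is
linearly reductive; this holds for finite linearly reductive group schemes and is what the argument
uses about the pseudo-reflection subgroups.) -/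
theorem result
    {k : Type u} [Field k] {A : Type u} [CommRing A] [HopfAlgebra k A] [Module.Finite k A]
    (hG : HopfRep.IsLinearlyReductive k A)
    (hsub : ∀ (I : Ideal A) [I.IsHopfIdeal k], HopfRep.IsLinearlyReductive k (A ⧸ I))
    {ι : Type u} [Fintype ι] [HopfRep.Comod k A (MvPolynomial ι k)]
    [GLin.IsCoactAlg k A (MvPolynomial ι k)]
    (hlin : GLin.IsLinear k A ι) (hf : GLin.IsFaithfulLin k A ι)
    (hgen : GLin.IsGenByPseudoRefl k A ι) :
    ∃ m : ℕ, Nonempty (↥(GLin.invariants k A (MvPolynomial ι k)) ≃ₐ[k] MvPolynomial (Fin m) k) := by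
  exact main hG hsub hlin hgen

end Groth.Agent.S19324
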