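import Groth.Statements.S19326
-- import your own Groth.Agent.* helpers here

set_option autoImplicit false
universe u
open TensorProduct
open GLin

namespace Groth.Agent.S19326


section Weights

variable {k : Type u} [Field k] {M : Type u} [AddCommGroup M] [Fintype M] {R : Type u} [CommRing R] [Algebra k R]

/-- Basis of the group algebra by the group elements. -/
noncomputable def bM (k : Type u) [Field k] (M : Type u) [AddCommGroup M] :
    Module.Basis M k (AddMonoidAlgebra k M) := AddMonoidAlgebra.basis M k

lemma bM_apply (a : M) : bM k M a = AddMonoidAlgebra.single a (1 : k) := by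
  simp [bM]

lemma comul_single_one (a : M) :
    CoalgebraStruct.comul (R := k) (AddMonoidAlgebra.single a (1 : k)) =
      AddMonoidAlgebra.single a (1 : k) ⊗ₜ[k] AddMonoidAlgebra.single a (1 : k) := by
  simp [AddMonoidAlgebra.comul_single, AddMonoidAlgebra.lsingle_apply]

/-- The `a`-component of an element of `R ⊗ k[M]`. -/
noncomputable def comp (a : M) : R ⊗[k] AddMonoidAlgebra k M →ₗ[k] R :=
  (TensorProduct.rid k R).toLinearMap ∘ₗ LinearMap.lTensor R ((bM k M).coord a)

lemma comp_tmul (a : M) (r : R) (y : AddMonoidAlgebra k M) :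
    comp a (r ⊗ₜ[k] y) = (bM k M).coord a y • r := by
  simp [comp]

lemma eq_sum_comp (x : R ⊗[k] AddMonoidAlgebra k M) :
    x = ∑ a, comp a x ⊗ₜ[k] AddMonoidAlgebra.single a (1 : k) := by
  induction x using TensorProduct.induction_on with
  | zero => simp
  | tmul r y =>
    conv_lhs => rw [← (bM k M).sum_repr y]
    simp only [tmul_sum, comp_tmul, bM_apply, Module.Basis.coord_apply, tmul_smul, smul_tmul']
  | add x y hx hy =>
    conv_lhs => rw [hx, hy]
    simp only [map_add, add_tmul, Finset.sum_add_distrib]

variable [HopfRep.Comod k (AddMonoidAlgebra k M) R]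

lemma comp_mem (f : R) (a : M) :
    comp a (HopfRep.Comod.coact (k := k) (A := AddMonoidAlgebra k M) f) ∈
      HopfRep.eigenspace k (AddMonoidAlgebra k M) R (AddMonoidAlgebra.single a 1) := by
  classical
  let φ : R ⊗[k] (AddMonoidAlgebra k M ⊗[k] AddMonoidAlgebra k M) →ₗ[k] R ⊗[k] AddMonoidAlgebra k M :=
    LinearMap.lTensor R ((TensorProduct.rid k _).toLinearMap ∘ₗ LinearMap.lTensor _ ((bM k M).coord a))
  have h := congrArg φ (LinearMap.congr_fun (HopfRep.Comod.coassoc (k := k) (A := AddMonoidAlgebra k M) (V := R)) f)
  simp only [LinearMap.comp_apply] at h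
  have hd : ∀ c : M, (bM k M).coord a (AddMonoidAlgebra.single c (1 : k)) = if c = a then 1 else 0 := by
    intro c
    rw [← bM_apply, Module.Basis.coord_apply, Module.Basis.repr_self, Finsupp.single_apply]
  have h1 : ∀ (z : R ⊗[k] AddMonoidAlgebra k M) (y : AddMonoidAlgebra k M),
      φ (TensorProduct.assoc k R _ _ (z ⊗ₜ[k] y)) = (bM k M).coord a y • z := by
    intro z y
    induction z using TensorProduct.induction_on with
    | zero => simp
    | tmul r w => simp [φ, smul_tmul', tmul_smul]
    | add u v hu hv => rw [add_tmul, map_add, map_add, hu, hv, smul_add]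
  generalize hx : HopfRep.Comod.coact (k := k) (A := AddMonoidAlgebra k M) f = x at h ⊢
  have e := eq_sum_comp x
  rw [e] at h
  simp only [map_sum, LinearMap.rTensor_tmul, LinearEquiv.coe_coe, h1, hd, ite_smul, one_smul, zero_smul,
    Finset.sum_ite_eq', Finset.mem_univ, if_true, LinearMap.lTensor_tmul] at h
  show HopfRep.Comod.coact (k := k) (A := AddMonoidAlgebra k M) (comp a x) = comp a x ⊗ₜ[k] _
  rw [h, Finset.sum_eq_single a]
  · simp [φ, comul_single_one, hd]
  · intro c _ hc
    simp [φ, comul_single_one, hd, hc]
  · simp

lemma sum_comp (f : R) :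
    ∑ a, comp a (HopfRep.Comod.coact (k := k) (A := AddMonoidAlgebra k M) f) = f := by
  have h := LinearMap.congr_fun (HopfRep.Comod.counit_comp (k := k) (A := AddMonoidAlgebra k M) (V := R)) f
  simp only [LinearMap.comp_apply, LinearMap.flip_apply, TensorProduct.mk_apply] at h
  rw [eq_sum_comp (HopfRep.Comod.coact (k := k) (A := AddMonoidAlgebra k M) f)] at h
  simp only [map_sum, LinearMap.lTensor_tmul, AddMonoidAlgebra.counit_single, CommSemiring.counit_apply] at h
  rw [← sum_tmul] at h
  have h2 := congrArg (TensorProduct.rid k R) h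
  simpa using h2

end Weights

/-- Let k be a field, M a finite abelian group and D = Spec k[M] the finite diagonalizable group scheme
it defines, acting on an affine k-scheme U = Spec R through a multiplicative coaction R → R ⊗ k[M];
write R_a for the weight space of a ∈ M (elements with coaction f ⊗ a). For an ideal J of R the
induced action of D on the closed subscheme V(J) is trivial, meaning that the coaction followed by
reduction modulo J equals f ↦ (f mod J) ⊗ 1, exactly when J contains the ideal generated by the
weight spaces R_a for a ≠ 0; in other words that ideal defines the largest closed subscheme of U on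
which D acts trivially. (The printed setting has U smooth, which plays no role here and is not
assumed; the further assertion that the construction commutes with flat base change on U/D is not
part of this statement.) -/
theorem result
    {k : Type u} [Field k] {M : Type u} [AddCommGroup M] [Finite M]
    {R : Type u} [CommRing R] [Algebra k R] [HopfRep.Comod k (AddMonoidAlgebra k M) R]
    [GLin.IsCoactAlg k (AddMonoidAlgebra k M) R] (J : Ideal R) :
    (∀ f : R, LinearMap.rTensor (AddMonoidAlgebra k M) (Ideal.Quotient.mkₐ k J).toLinearMap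
        (HopfRep.Comod.coact (k := k) (A := AddMonoidAlgebra k M) f) =
        (Ideal.Quotient.mk J f) ⊗ₜ[k] (1 : AddMonoidAlgebra k M)) ↔
      Ideal.span (⋃ (a : M) (_ : a ≠ 0),
        (HopfRep.eigenspace k (AddMonoidAlgebra k M) R (AddMonoidAlgebra.single a 1) : Set R)) ≤ J := by
  classical
  cases nonempty_fintype M
  constructor
  · intro h
    rw [Ideal.span_le]
    simp only [Set.iUnion_subset_iff]
    intro a ha f hf
    have hf' : HopfRep.Comod.coact (k := k) (A := AddMonoidAlgebra k M) f = f ⊗ₜ[k] AddMonoidAlgebra.single a (1 : k) := hf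
    have e := h f
    rw [hf', LinearMap.rTensor_tmul] at e
    have e2 := congrArg (comp a) e
    rw [comp_tmul, comp_tmul] at e2
    have ha1 : (bM k M).coord a (AddMonoidAlgebra.single a (1 : k)) = 1 := by
      rw [← bM_apply, Module.Basis.coord_apply, Module.Basis.repr_self, Finsupp.single_eq_same]
    have ha0 : (bM k M).coord a (1 : AddMonoidAlgebra k M) = 0 := by
      rw [AddMonoidAlgebra.one_def, ← bM_apply, Module.Basis.coord_apply, Module.Basis.repr_self,
        Finsupp.single_eq_of_ne ha]
    rw [ha1, ha0, one_smul, zero_smul] at e2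
    exact Ideal.Quotient.eq_zero_iff_mem.1 e2
  · intro hJ f
    have hz : ∀ a : M, a ≠ 0 → Ideal.Quotient.mk J (comp a (HopfRep.Comod.coact (k := k) (A := AddMonoidAlgebra k M) f)) = 0 :=
      fun a ha => Ideal.Quotient.eq_zero_iff_mem.2
        (hJ (Ideal.subset_span (Set.mem_iUnion₂.2 ⟨a, ha, comp_mem f a⟩)))
    conv_rhs => rw [← sum_comp (k := k) (M := M) f, map_sum, sum_tmul]
    rw [eq_sum_comp (HopfRep.Comod.coact (k := k) (A := AddMonoidAlgebra k M) f), map_sum]
    refine Finset.sum_congr rfl fun a _ => ?_
    rw [LinearMap.rTensor_tmul, AlgHom.toLinearMap_apply, Ideal.Quotient.mkₐ_eq_mk, ← eq_sum_comp]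
    by_cases ha : a = 0
    · subst ha; rw [AddMonoidAlgebra.one_def]
    · rw [hz a ha, zero_tmul, zero_tmul]

end Groth.Agent.S19326
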