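import Groth.Statements.S19327
-- import your own Groth.Agent.* helpers here
import Groth.Agent.S19324
import Groth.Agent.PsRefl.LinAction
import Groth.Agent.OrbitCot.Basic
import Groth.Agent.SmLocalST.SmoothField
import Groth.Agent.InvFin.Finite
import Groth.Prelude.Def_ComodSub

set_option autoImplicit false
universe u
open GLin

namespace Groth.Agent.S19327


open MvPolynomial TensorProduct Groth.Agent
set_option linter.unusedSectionVars false

/-- the rank of an image -/
lemma finrank_map_of_injOn {k V V' : Type*} [Field k] [AddCommGroup V] [Module k V] [AddCommGroup V'] [Module k V']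
    (θ : V →ₗ[k] V') (S : Submodule k V) (h : ∀ v ∈ S, θ v = 0 → v = 0) :
    Module.finrank k ↥(S.map θ) = Module.finrank k ↥S := by
  have e : LinearMap.range (θ ∘ₗ S.subtype) = S.map θ := by rw [LinearMap.range_comp, Submodule.range_subtype]
  rw [← e]
  refine LinearMap.finrank_range_of_inj fun a b hab => Subtype.ext ?_
  rw [← sub_eq_zero]
  exact h _ (S.sub_mem a.2 b.2) (by rw [map_sub]; exact sub_eq_zero.2 hab)

section Point
variable {k : Type u} [Field k] {A : Type u} [CommRing A] [HopfAlgebra k A]
variable {R : Type u} [CommRing R] [Algebra k R] [HopfRep.Comod k A R] [GLin.IsCoactAlg k A R]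
variable (x : R →ₐ[k] k)

/-- the maximal ideal of a fixed point is stable -/
theorem stable_of_isFixedPt (hx : GLin.IsFixedPt k A x) : OrbitCot.Stable k A (RingHom.ker x) := fun y hy => by
  refine OrbitCot.mem_ext_of_ker k A _ x.toLinearMap (fun c => ⟨algebraMap k R c, AlgHom.commutes _ c⟩) rfl _ ?_
  refine (TensorProduct.lid k A).injective ?_
  rw [map_zero]
  have h : GLin.orbitHom k A x y = 0 := by
    rw [show GLin.orbitHom k A x = (Algebra.ofId k A).comp x from hx, AlgHom.comp_apply, RingHom.mem_ker.1 hy, map_zero]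
  refine Eq.trans ?_ h
  have hL : ∀ t, TensorProduct.lid k A (x.toLinearMap.rTensor A t) =
      Algebra.TensorProduct.lid k A (Algebra.TensorProduct.map x (AlgHom.id k A) t) := fun t => by
    induction t using TensorProduct.induction_on with
    | zero => simp
    | tmul a b => simp
    | add a b ha hb => simp only [map_add, ha, hb]
  exact hL _

theorem isSubcomod_of_stable {I : Ideal R} (hI : OrbitCot.Stable k A I) :
    HopfRep.IsSubcomod (k := k) (A := A) (I.restrictScalars k) := fun w hw =>
  (OrbitCot.ext_eq_range k A I _).1 (hI w hw)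

theorem smul_sub_mem (c g : R) (hg : g ∈ RingHom.ker x) : c * g - x c • g ∈ RingHom.ker x ^ 2 := by
  rw [Algebra.smul_def, ← sub_mul, sq]
  exact Ideal.mul_mem_mul (by rw [RingHom.mem_ker, map_sub, AlgHom.commutes]; exact sub_self _) hg

/-- a set of generators of the ideal near the point spans the cotangent space -/
theorem cotSpace_le (g : Set R) (hg : ∀ y ∈ g, y ∈ RingHom.ker x)
    (h : ∀ y ∈ RingHom.ker x, ∃ s, x s ≠ 0 ∧ s * y ∈ Ideal.span g) :
    GLin.cotSpace k R x ≤ Submodule.span k (Ideal.Quotient.mk (RingHom.ker x ^ 2) '' g) := by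
  rintro _ ⟨y, hy, rfl⟩
  obtain ⟨s, hs, hsy⟩ := h y hy
  have key : ∀ z ∈ Ideal.span g, z ∈ RingHom.ker x ∧ Ideal.Quotient.mkₐ k (RingHom.ker x ^ 2) z ∈
      Submodule.span k (Ideal.Quotient.mk (RingHom.ker x ^ 2) '' g) := fun z hz => by
    induction hz using Submodule.span_induction with
    | mem z hz => exact ⟨hg z hz, Submodule.subset_span ⟨z, hz, rfl⟩⟩
    | zero => exact ⟨zero_mem _, by rw [map_zero]; exact zero_mem _⟩
    | add a b _ _ ha hb => exact ⟨add_mem ha.1 hb.1, by rw [map_add]; exact add_mem ha.2 hb.2⟩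
    | smul c a _ ha =>
      refine ⟨Ideal.mul_mem_left _ c ha.1, ?_⟩
      rw [show Ideal.Quotient.mkₐ k (RingHom.ker x ^ 2) (c • a) = Ideal.Quotient.mkₐ k (RingHom.ker x ^ 2) (x c • a)
        from Ideal.Quotient.eq.2 (smul_sub_mem x c a ha.1), map_smul]
      exact Submodule.smul_mem _ _ ha.2
  have h1 := (key _ hsy).2
  rw [show Ideal.Quotient.mkₐ k (RingHom.ker x ^ 2) (s * y) = Ideal.Quotient.mkₐ k (RingHom.ker x ^ 2) (x s • y)
    from Ideal.Quotient.eq.2 (smul_sub_mem x s y hy), map_smul] at h1
  exact (Submodule.smul_mem_iff _ hs).1 h1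

end Point


set_option backward.isDefEq.respectTransparency false in
open CategoryTheory AlgebraicGeometry in
theorem isLocalization_stalk_spec (R : CommRingCat.{u}) (x : Spec R) :
    IsLocalization.AtPrime ((Spec.structureSheaf R).presheaf.stalk x) x.asIdeal := inferInstance

open CategoryTheory AlgebraicGeometry in
/-- smooth algebras over a field have regular local rings -/
theorem regular_of_smooth (k : Type u) [Field k] (R : Type u) [CommRing R] [Algebra k R] [Algebra.Smooth k R]
    (p : Ideal R) [p.IsPrime] : IsRegularLocalRing (Localization.AtPrime p) := by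
  let f := Spec.map (CommRingCat.ofHom (algebraMap k R))
  have : AlgebraicGeometry.Smooth f := by
    rw [HasRingHomProperty.Spec_iff (P := @AlgebraicGeometry.Smooth)]
    exact (RingHom.smooth_algebraMap (R := k) (S := R)).2 inferInstance
  let pt : ↥(Spec (CommRingCat.of R)) := (⟨p, inferInstance⟩ : PrimeSpectrum R)
  have h := SmLocalST.isRegularLocalRing_stalk_of_smooth_field f pt
  have : IsLocalization.AtPrime ((Spec.structureSheaf (CommRingCat.of R)).presheaf.stalk pt) p :=
    isLocalization_stalk_spec (CommRingCat.of R) pt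
  have h' : IsRegularLocalRing ((Spec.structureSheaf (CommRingCat.of R)).presheaf.stalk pt) := h
  exact IsRegularLocalRing.of_ringEquiv (IsLocalization.algEquiv p.primeCompl
    ((Spec.structureSheaf (CommRingCat.of R)).presheaf.stalk pt) (Localization.AtPrime p)).toRingEquiv

theorem height_le_comap {B R : Type*} [CommRing B] [CommRing R] [Algebra B R] [Algebra.IsIntegral B R]
    (Q : Ideal R) (P : Ideal B) [Q.IsPrime] [P.IsPrime] (h : Q.comap (algebraMap B R) = P) : Q.height ≤ P.height := by
  show (⟨Q, inferInstance⟩ : PrimeSpectrum R).asIdeal.height ≤ (⟨P, inferInstance⟩ : PrimeSpectrum B).asIdeal.height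
  rw [PrimeSpectrum.height_eq_orderHeight, PrimeSpectrum.height_eq_orderHeight]
  have hmono : StrictMono (PrimeSpectrum.comap (algebraMap B R)) := fun a b hab =>
    Ideal.IsIntegral.comap_lt_comap (R := B) hab
  refine (Order.height_le_height_apply_of_strictMono _ hmono (⟨Q, ‹_›⟩ : PrimeSpectrum R)).trans ?_
  exact le_of_eq (congrArg Order.height (PrimeSpectrum.ext h))

section Fibre
variable {k : Type u} [Field k] {A : Type u} [CommRing A] [HopfAlgebra k A]
variable {R : Type u} [CommRing R] [Algebra k R] [HopfRep.Comod k A R] [GLin.IsCoactAlg k A R]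

/-- a prime over the image of a fixed point contains the maximal ideal of the point -/
theorem fibre_mem [Module.Finite k A] (x : R →ₐ[k] k) (hx : GLin.IsFixedPt k A x) (y : R) (hy : x y = 0)
    (Q : Ideal R) (hQ : Q.IsPrime)
    (hQn : Q.comap (algebraMap (GLin.invariants k A R) R) = RingHom.ker (x.comp (GLin.invariants k A R).val)) :
    y ∈ Q := by
  classical
  have : Nontrivial R := x.toRingHom.domain_nontrivial
  let b := Module.Free.chooseBasis k A
  have h0 : Algebra.TensorProduct.map x (AlgHom.id k A) (GLin.coactAlgHom k A R y) = 0 := by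
    refine (Algebra.TensorProduct.lid k A).injective ?_
    rw [map_zero]
    show GLin.orbitHom k A x y = 0
    rw [show GLin.orbitHom k A x = (Algebra.ofId k A).comp x from hx, AlgHom.comp_apply, hy, map_zero]
  have hcp : (InvFin.normPoly b y).map (x : R →+* k) =
      Polynomial.X ^ Fintype.card (Module.Free.ChooseBasisIndex k A) := by
    rw [InvFin.normPoly, ← Matrix.charpoly_map]
    have h1 : (InvFin.mulMat b (GLin.coactAlgHom k A R y)).map (x : R →+* k) = 0 := by
      rw [show (InvFin.mulMat b (GLin.coactAlgHom k A R y)).map (x : R →+* k) =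
        (InvFin.mulMat b (GLin.coactAlgHom k A R y)).map x from rfl, ← InvFin.mulMat_map, h0, InvFin.mulMat, map_zero]
    rw [h1, Matrix.charpoly_zero]
  have hev := InvFin.eval_normPoly b y
  have hd : (InvFin.normPoly b y).natDegree = Fintype.card (Module.Free.ChooseBasisIndex k A) :=
    Matrix.charpoly_natDegree_eq_dim _
  refine hQ.mem_of_pow_mem (Fintype.card (Module.Free.ChooseBasisIndex k A)) ?_
  rw [Polynomial.eval_eq_sum_range, hd, Finset.sum_range_succ, ← hd, (InvFin.normPoly_monic b y).coeff_natDegree,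
    one_mul, hd, add_eq_zero_iff_eq_neg] at hev
  rw [← neg_eq_iff_eq_neg.2 hev]
  refine Q.neg_mem (Q.sum_mem fun i hi => Ideal.mul_mem_right _ _ ?_)
  let c : GLin.invariants k A R := ⟨_, InvFin.coeff_normPoly_mem b y i⟩
  have hc : c ∈ RingHom.ker (x.comp (GLin.invariants k A R).val) := by
    show x ((InvFin.normPoly b y).coeff i) = 0
    have := congrArg (fun p => Polynomial.coeff p i) hcp
    simpa [Polynomial.coeff_map, Polynomial.coeff_X_pow, (Finset.mem_range.1 hi).ne] using this
  rw [← hQn] at hc
  exact hc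

/-- invariant ideals are contracted -/
theorem comap_map_le (r : Comod.Integral k A) (I : Ideal (GLin.invariants k A R)) {g : GLin.invariants k A R}
    (hg : (g : R) ∈ I.map (algebraMap (GLin.invariants k A R) R)) : g ∈ I := by
  have hmul : ∀ a b : R, HopfRep.Comod.coact (k := k) (A := A) (a * b) =
      HopfRep.Comod.coact (k := k) (A := A) a * HopfRep.Comod.coact (k := k) (A := A) b := GLin.IsCoactAlg.coact_mul
  have key : ∀ z ∈ I.map (algebraMap (GLin.invariants k A R) R), ∀ c : R,
      ∃ i ∈ I, (i : R) = Comod.reynolds R r (c * z) := fun z hz => by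
    induction hz using Submodule.span_induction with
    | mem z hz =>
      obtain ⟨i, hi, rfl⟩ := hz
      intro c
      refine ⟨i * ⟨Comod.reynolds R r c, Comod.reynolds_mem r c⟩, I.mul_mem_right _ hi, ?_⟩
      rw [mul_comm c]
      exact (Comod.reynolds_mul r (i : R) c hmul i.2).symm
    | zero => exact fun c => ⟨0, I.zero_mem, by simp⟩
    | add a b _ _ ha hb =>
      intro c
      obtain ⟨i, hi, hia⟩ := ha c
      obtain ⟨j, hj, hjb⟩ := hb c
      exact ⟨i + j, I.add_mem hi hj, by rw [mul_add, map_add, ← hia, ← hjb]; rfl⟩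
    | smul d a _ ha =>
      intro c
      obtain ⟨i, hi, hia⟩ := ha (c * d)
      exact ⟨i, hi, by rw [hia, smul_eq_mul, mul_assoc]⟩
  obtain ⟨i, hi, hi'⟩ := key _ hg 1
  rw [one_mul, Comod.reynolds_of_mem r g.2] at hi'
  rwa [← show i = g from Subtype.ext hi']

end Fibre

/-- Let k be a field, G = Spec A a finite linearly reductive group scheme over k acting faithfully on a
smooth affine k-scheme U = Spec R (R of finite type and smooth over k, the coaction multiplicative,
and a Hopf ideal whose subgroup acts trivially on R contains the augmentation ideal), and x a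
k-rational point of U that G fixes. Assume the pseudo-reflections at x generate G, a
pseudo-reflection at x being a closed subgroup scheme (Hopf ideal) fixing a subspace of codimension
exactly one of the cotangent space m_x/m_x², and generation meaning that the only Hopf ideal
contained in all their ideals is zero. Then U/G = Spec R^G is smooth at the image y of x: since y is
rational, equivalently the local ring of the ring of invariants at the prime below m_x is a regular
local ring, which is the form stated; the primality of that kernel, which always holds, is taken as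
an instance argument. (The printed statement also allows x defined over a finite separable extension
of k; only the rational case is stated here. As in the linear case the row also assumes every
quotient of A by a Hopf ideal linearly reductive, i.e. every closed subgroup scheme of G linearly
reductive, which holds for finite linearly reductive G.) -/
theorem result
    {k : Type u} [Field k] {A : Type u} [CommRing A] [HopfAlgebra k A] [Module.Finite k A]
    (hG : HopfRep.IsLinearlyReductive k A)
    (hsub : ∀ (I : Ideal A) [I.IsHopfIdeal k], HopfRep.IsLinearlyReductive k (A ⧸ I))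
    {R : Type u} [CommRing R] [Algebra k R] [Algebra.FiniteType k R] [Algebra.Smooth k R]
    [HopfRep.Comod k A R] [GLin.IsCoactAlg k A R] (hf : GLin.IsFaithful k A R)
    (x : R →ₐ[k] k) (hx : GLin.IsFixedPt k A x) (hgen : GLin.IsGenByPseudoReflAt k A R x)
    [(RingHom.ker (x.comp (GLin.invariants k A R).val)).IsPrime] :
    IsRegularLocalRing (Localization.AtPrime (RingHom.ker (x.comp (GLin.invariants k A R).val))) := by
  classical
  have : IsNoetherianRing R := Algebra.FiniteType.isNoetherianRing k R
  obtain ⟨r⟩ := Comod.nonempty_integral hG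
  let m : Ideal R := RingHom.ker x
  have hxs : Function.Surjective x := fun c => ⟨algebraMap k R c, AlgHom.commutes _ c⟩
  have hm : m.IsMaximal := RingHom.ker_isMaximal_of_surjective x hxs
  have hst : OrbitCot.Stable k A m := stable_of_isFixedPt x hx
  have hst2 : OrbitCot.Stable k A (m ^ 2) := OrbitCot.stable_pow k A hst 2
  -- an equivariant lift of the cotangent space
  obtain ⟨C, hC, hCc⟩ := Comod.isSemisimpleComod_of_isLinearlyReductive hG R _ (isSubcomod_of_stable hst2)
  let W : Submodule k R := C ⊓ m.restrictScalars k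
  have hW : HopfRep.IsSubcomod (k := k) (A := A) W := Comod.isSubcomod_iff.2 fun g w hw =>
    ⟨Comod.isSubcomod_iff.1 hC g w hw.1, Comod.isSubcomod_iff.1 (isSubcomod_of_stable hst) g w hw.2⟩
  have hWm : ∀ w ∈ W, w ∈ m := fun w hw => hw.2
  have hW0 : ∀ w ∈ W, w ∈ m ^ 2 → w = 0 := fun w hw h2 => Submodule.disjoint_def.1 hCc.disjoint w h2 hw.1
  have hWs : ∀ y ∈ m, ∃ w ∈ W, y - w ∈ m ^ 2 := fun y hy => by
    obtain ⟨a, ha, c, hc, hac⟩ := Submodule.mem_sup.1 (show y ∈ (m ^ 2).restrictScalars k ⊔ C by
      rw [hCc.sup_eq_top]; trivial)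
    refine ⟨c, ⟨hc, ?_⟩, by rw [← hac]; simpa using ha⟩
    show c ∈ m
    rw [show c = y - a by rw [← hac]; simp]
    exact sub_mem hy (Ideal.pow_le_self two_ne_zero ha)
  -- finite dimensionality
  let q2 : R →ₗ[k] R ⧸ m ^ 2 := (Ideal.Quotient.mkₐ k (m ^ 2)).toLinearMap
  have hq2 : ∀ f, q2 f = 0 ↔ f ∈ m ^ 2 := fun f => Ideal.Quotient.eq_zero_iff_mem
  obtain ⟨G, hG'⟩ : m.FG := IsNoetherian.noetherian m
  have hspanG : GLin.cotSpace k R x ≤ Submodule.span k (Ideal.Quotient.mk (m ^ 2) '' (G : Set R)) := by
    refine cotSpace_le x _ (fun y hy => ?_) fun y hy => ⟨1, by simp, ?_⟩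
    · show y ∈ m
      rw [← hG']; exact Submodule.subset_span hy
    · rw [one_mul]
      show y ∈ Ideal.span (G : Set R)
      rw [hG']; exact hy
  have : Module.Finite k (Submodule.span k (Ideal.Quotient.mk (m ^ 2) '' (G : Set R))) :=
    Module.Finite.span_of_finite k (G.finite_toSet.image _)
  have hcotfin : Module.Finite k (GLin.cotSpace k R x) := Submodule.finiteDimensional_of_le hspanG
  have : Module.Finite k W := by
    refine Module.Finite.of_injective ((q2 ∘ₗ W.subtype).codRestrict (GLin.cotSpace k R x)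
      fun w => ⟨w, hWm w w.2, rfl⟩) fun a b hab => Subtype.ext ?_
    have h1 : q2 (a : R) = q2 b := congrArg Subtype.val hab
    rw [← sub_eq_zero]
    exact hW0 _ (sub_mem a.2 b.2) ((hq2 _).1 (by rw [map_sub, h1, sub_self]))
  let ι := Module.Free.ChooseBasisIndex k W
  let b : Module.Basis ι k W := Module.Free.chooseBasis k W
  letI cW := ComodSub.Comod.restr (inferInstance : HopfRep.Comod k A R) W hW
  let e : ι → R := fun i => (b i : R)
  have hM : Comod.IsCorep (k := k) (Comod.coMatrix (A := A) b) := Comod.isCorep_coMatrix b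
  have he : ∀ j, HopfRep.Comod.coact (k := k) (A := A) (e j) = ∑ i, e i ⊗ₜ[k] Comod.coMatrix (A := A) b i j := fun j => by
    rw [← ComodSub.restr_coact_coe (inferInstance : HopfRep.Comod k A R) W hW (b j), Comod.coact_basis b j, map_sum]
    rfl
  letI := PsRefl.linComod hM
  haveI := PsRefl.isCoactAlg_linComod hM
  have hlin : GLin.IsLinear k A ι := PsRefl.isLinear_linComod hM
  let φ : MvPolynomial ι k →ₐ[k] R := aeval e
  have hφ : Hoch.IsComodHom A φ.toLinearMap := PsRefl.isComodHom_aeval hM e he
  let L : Submodule k (MvPolynomial ι k) := GLin.linForms k ι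
  have hL : L = Submodule.span k (Set.range (X : ι → MvPolynomial ι k)) := homogeneousSubmodule_one_eq_span_X ..
  have hφL : ∀ w, w ∈ W ↔ ∃ v ∈ L, φ v = w := fun w => by
    rw [hL]
    constructor
    · intro hw
      refine ⟨∑ i, b.repr ⟨w, hw⟩ i • X i, Submodule.sum_mem _ fun i _ =>
        Submodule.smul_mem _ _ (Submodule.subset_span ⟨i, rfl⟩), ?_⟩
      have := congrArg Subtype.val (b.sum_repr ⟨w, hw⟩)
      simp only [Submodule.coe_sum, Submodule.coe_smul] at this
      simp only [φ, e, map_sum, map_smul, aeval_X]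
      exact this
    · rintro ⟨v, hv, rfl⟩
      induction hv using Submodule.span_induction with
      | mem z hz => obtain ⟨i, rfl⟩ := hz; simp [φ, e]
      | zero => simp
      | add a c _ _ ha hc => rw [map_add]; exact add_mem ha hc
      | smul c a _ ha => rw [map_smul]; exact W.smul_mem c ha
  let θ : MvPolynomial ι k →ₗ[k] R ⧸ m ^ 2 := q2 ∘ₗ φ.toLinearMap
  have hθ : ∀ v ∈ L, θ v = 0 → v = 0 := fun v hv h0 => by
    have h1 : φ v = 0 := hW0 _ ((hφL _).2 ⟨v, hv, rfl⟩) ((hq2 _).1 h0)
    rw [hL] at hv
    obtain ⟨c, rfl⟩ := (Submodule.mem_span_range_iff_exists_fun k).1 hv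
    have h2 : ∑ i, c i • b i = 0 := Subtype.ext (by simpa [φ, e] using h1)
    have h3 := Fintype.linearIndependent_iff.1 b.linearIndependent c h2
    simp [h3]
  have hcot : GLin.cotSpace k R x = L.map θ := by
    refine le_antisymm ?_ ?_
    · rintro _ ⟨y, hy, rfl⟩
      obtain ⟨w, hw, hyw⟩ := hWs y hy
      obtain ⟨v, hv, rfl⟩ := (hφL w).1 hw
      exact ⟨v, hv, (Ideal.Quotient.eq.2 hyw).symm⟩
    · rintro _ ⟨v, hv, rfl⟩
      exact ⟨φ v, hWm _ ((hφL _).2 ⟨v, hv, rfl⟩), rfl⟩
  -- the pseudo-reflections at the point are the linear ones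
  have hfix : ∀ I : Ideal A, GLin.cotFixed k A R x I = (L ⊓ GLin.quotInvariants k A (MvPolynomial ι k) I).map θ := by
    intro I
    let π := (Ideal.Quotient.mkₐ k I).toLinearMap
    have hlhs : ∀ v : MvPolynomial ι k, TensorProduct.map q2 π (HopfRep.Comod.coact (k := k) (A := A) (φ v)) =
        θ.rTensor (A ⧸ I) (π.lTensor _ (HopfRep.Comod.coact (k := k) (A := A) v)) := fun v => by
      rw [show HopfRep.Comod.coact (k := k) (A := A) (φ v) =
        φ.toLinearMap.rTensor A (HopfRep.Comod.coact (k := k) (A := A) v) from LinearMap.congr_fun hφ v]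
      generalize HopfRep.Comod.coact (k := k) (A := A) v = t
      induction t using TensorProduct.induction_on with
      | zero => simp
      | tmul a b => simp [θ]
      | add a b ha hb => simp only [map_add, ha, hb]
    refine le_antisymm ?_ ?_
    · rintro _ ⟨y, ⟨hy, hyf⟩, rfl⟩
      obtain ⟨w, hw, hyw⟩ := hWs y hy
      obtain ⟨v, hv, rfl⟩ := (hφL w).1 hw
      refine ⟨v, ⟨hv, ?_⟩, (Ideal.Quotient.eq.2 hyw).symm⟩
      have hsq : y - φ v ∈ GLin.cotFixedLift k A R x I := by
        show TensorProduct.map q2 π (HopfRep.Comod.coact (k := k) (A := A) (y - φ v)) = q2 (y - φ v) ⊗ₜ[k] (1 : A ⧸ I)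
        rw [(hq2 _).2 hyw, TensorProduct.zero_tmul]
        obtain ⟨t, ht⟩ := (OrbitCot.ext_eq_range k A _ _).1 (hst2 _ hyw)
        rw [GLin.coactAlgHom_apply] at ht
        rw [← ht]
        clear ht
        induction t using TensorProduct.induction_on with
        | zero => simp
        | tmul a b =>
          rw [LinearMap.rTensor_tmul, TensorProduct.map_tmul, (hq2 _).2 (show ((m ^ 2).restrictScalars k).subtype a ∈ m ^ 2 from a.2),
            TensorProduct.zero_tmul]
        | add a b ha hb => simp only [map_add, ha, hb, add_zero]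
      have hvf : TensorProduct.map q2 π (HopfRep.Comod.coact (k := k) (A := A) (φ v)) = θ v ⊗ₜ[k] (1 : A ⧸ I) := by
        have := Submodule.sub_mem _ hyf hsq
        rwa [sub_sub_cancel] at this
      rw [hlhs] at hvf
      show π.lTensor _ (HopfRep.Comod.coact (k := k) (A := A) v) = v ⊗ₜ[k] (1 : A ⧸ I)
      obtain ⟨t, ht⟩ := PsRefl.coact_mem_of_homog hlin hv
      have ht' : π.lTensor _ (HopfRep.Comod.coact (k := k) (A := A) v) = L.subtype.rTensor _ (π.lTensor L t) := by
        rw [← ht]
        show π.lTensor _ (L.subtype.rTensor A t) = _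
        rw [LinearMap.rTensor, LinearMap.lTensor, LinearMap.rTensor, LinearMap.lTensor, ← LinearMap.comp_apply,
          ← LinearMap.comp_apply, ← TensorProduct.map_comp, ← TensorProduct.map_comp]
        rfl
      rw [ht', show v ⊗ₜ[k] (1 : A ⧸ I) = L.subtype.rTensor _ ((⟨v, hv⟩ : L) ⊗ₜ[k] (1 : A ⧸ I)) from rfl]
      congr 1
      refine Module.Flat.rTensor_preserves_injective_linearMap (θ ∘ₗ L.subtype) ?_ ?_
      · intro a c hac
        refine Subtype.ext (sub_eq_zero.1 (hθ _ (L.sub_mem a.2 c.2) ?_))
        rw [map_sub]; exact sub_eq_zero.2 hac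
      · exact (LinearMap.rTensor_comp_apply (A ⧸ I) θ L.subtype _).trans ((congrArg (θ.rTensor (A ⧸ I)) ht').symm.trans (hvf.trans rfl))
    · rintro _ ⟨v, ⟨hv, hvI⟩, rfl⟩
      refine ⟨φ v, ⟨hWm _ ((hφL _).2 ⟨v, hv, rfl⟩), ?_⟩, rfl⟩
      show TensorProduct.map q2 π (HopfRep.Comod.coact (k := k) (A := A) (φ v)) = θ v ⊗ₜ[k] (1 : A ⧸ I)
      rw [hlhs, show π.lTensor _ (HopfRep.Comod.coact (k := k) (A := A) v) = v ⊗ₜ[k] (1 : A ⧸ I) from hvI,
        LinearMap.rTensor_tmul]
  have hgen' : GLin.IsGenByPseudoRefl k A ι := by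
    have hiff : ∀ I : Ideal A, GLin.IsPseudoRefl k A ι I ↔ GLin.IsPseudoReflAt k A R x I := fun I => by
      rw [GLin.IsPseudoReflAt, GLin.IsPseudoRefl, hfix I, hcot, finrank_map_of_injOn θ L hθ,
        finrank_map_of_injOn θ (L ⊓ GLin.quotInvariants k A (MvPolynomial ι k) I) (fun v hv => hθ v hv.1)]
    show GLin.genIdeal k A ι = ⊥
    rw [← show GLin.genIdealAt k A R x = ⊥ from hgen, GLin.genIdeal, GLin.genIdealAt]
    simp only [hiff]
  -- invariant generators
  let P := MvPolynomial ι k
  let BP := GLin.invariants k A P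
  obtain ⟨d, ⟨ψ⟩⟩ := S19324.main hG hsub hlin hgen'
  have hPfin : Module.Finite BP P := InvFin.finite_invariants
  have : Algebra.IsIntegral BP P := Algebra.IsIntegral.of_finite _ _
  have hd : d ≤ Fintype.card ι := by
    have h1 := SerreReg.ringKrullDim_le_of_isIntegral (R := BP) (A := P) Subtype.val_injective
    rw [ringKrullDim_eq_of_ringEquiv ψ.toRingEquiv, MvPolynomial.ringKrullDim_of_isNoetherianRing,
      MvPolynomial.ringKrullDim_of_isNoetherianRing, ringKrullDim_eq_zero_of_field, zero_add, zero_add,
      Nat.card_eq_fintype_card, Nat.card_eq_fintype_card, Fintype.card_fin] at h1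
    exact_mod_cast h1
  let ev0 : BP →ₐ[k] k := (aeval (fun _ : ι => (0 : k))).comp BP.val
  let f : Fin d → BP := fun i => ψ.symm (X i) - algebraMap k BP (ev0 (ψ.symm (X i)))
  have hf0 : ∀ i, ev0 (f i) = 0 := fun i => by
    show ev0 (_ - _) = 0
    rw [map_sub, AlgHom.commutes]; exact sub_self _
  have hfgen : ∀ p : BP, p - algebraMap k BP (ev0 p) ∈ Ideal.span (Set.range f) := by
    intro p
    obtain ⟨p, rfl⟩ := ψ.symm.surjective p
    induction p using MvPolynomial.induction_on with
    | C c => rw [show MvPolynomial.C c = algebraMap k (MvPolynomial (Fin d) k) c from rfl, AlgEquiv.commutes, AlgHom.commutes]; exact (sub_self (algebraMap k BP c)).symm ▸ zero_mem _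
    | add a b ha hb => rw [map_add, map_add, map_add, add_sub_add_comm]; exact add_mem ha hb
    | mul_X a i ha =>
      rw [map_mul, map_mul, map_mul]
      rw [show ψ.symm a * ψ.symm (X i) - algebraMap k BP (ev0 (ψ.symm a)) * algebraMap k BP (ev0 (ψ.symm (X i))) =
        ψ.symm a * f i + (ψ.symm a - algebraMap k BP (ev0 (ψ.symm a))) * algebraMap k BP (ev0 (ψ.symm (X i))) by
        simp only [f]; ring]
      exact add_mem (Ideal.mul_mem_left _ _ (Ideal.subset_span ⟨i, rfl⟩)) (Ideal.mul_mem_right _ _ ha)
  -- the ring of invariants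
  let B := GLin.invariants k A R
  let xB : B →ₐ[k] k := x.comp B.val
  let n : Ideal B := RingHom.ker xB
  have hn : n.IsMaximal := RingHom.ker_isMaximal_of_surjective _ fun c => ⟨algebraMap k B c, AlgHom.commutes _ c⟩
  have : IsNoetherianRing B := InvFin.isNoetherianRing_invariants
  have : Module.Finite B R := InvFin.finite_invariants
  have : Algebra.IsIntegral B R := Algebra.IsIntegral.of_finite _ _
  let φB : BP →ₐ[k] B := (φ.comp BP.val).codRestrict B fun p => Comod.mem_fixedPts_map r hφ p.2
  have hxφ : ∀ p : P, x (φ p) = aeval (fun _ : ι => (0 : k)) p := fun p => by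
    have : x.comp φ = aeval (fun _ : ι => (0 : k)) := MvPolynomial.algHom_ext fun i => by
      simp only [φ, AlgHom.comp_apply, aeval_X]
      exact RingHom.mem_ker.1 (hWm _ (b i).2)
    exact AlgHom.congr_fun this p
  -- unique prime above
  have huniq : ∀ Q : Ideal R, Q.IsPrime → Q.comap (algebraMap B R) = n → Q = m := by
    intro Q hQ hQn
    have : (Q.comap (algebraMap B R)).IsMaximal := hQn ▸ hn
    have hQm : Q.IsMaximal := Ideal.isMaximal_of_isIntegral_of_isMaximal_comap (R := B) Q this
    by_contra hne
    obtain ⟨y, hy, hyQ⟩ := SetLike.not_le_iff_exists.1 (show ¬ m ≤ Q from fun h => hne (hm.eq_of_le hQm.ne_top h).symm)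
    exact hyQ (fibre_mem x hx y hy Q hQ hQn)
  have hrad : (n.map (algebraMap B R)).radical = m := by
    refine le_antisymm ((Ideal.IsPrime.radical_le_iff inferInstance).2 (Ideal.map_le_iff_le_comap.2 le_rfl)) ?_
    rw [Ideal.radical_eq_sInf]
    refine le_sInf fun Q ⟨hQle, hQ⟩ => ?_
    exact (huniq Q hQ (hn.eq_of_le (Ideal.IsPrime.ne_top inferInstance) (Ideal.map_le_iff_le_comap.1 hQle)).symm).ge
  -- the maximal ideal modulo its square
  let F : Set B := Set.range fun i => φB (f i)
  have hFn : Ideal.span F ≤ n := Ideal.span_le.2 (by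
    rintro _ ⟨i, rfl⟩
    show x (φ (f i : P)) = 0
    rw [hxφ]; exact hf0 i)
  obtain ⟨N, hN⟩ : ∃ N, m ^ N ≤ (n ^ 2).map (algebraMap B R) := by
    refine Ideal.exists_pow_le_of_le_radical_of_fg ?_ (IsNoetherian.noetherian m)
    rw [Ideal.map_pow, Ideal.radical_pow _ two_ne_zero, hrad]
  have hstep : ∀ (M : ℕ), ∀ z ∈ m ^ M, ∃ p : P, z - φ p ∈ m ^ (M + 1) := by
    intro M
    induction M with
    | zero =>
      intro z _
      refine ⟨algebraMap k P (x z), ?_⟩
      rw [pow_one, AlgHom.commutes, RingHom.mem_ker, map_sub, AlgHom.commutes]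
      exact sub_self _
    | succ M ihM =>
      intro z hz
      rw [pow_succ] at hz
      induction hz using Submodule.mul_induction_on' with
      | mem_mul_mem a ha c hc =>
        obtain ⟨pa, hpa⟩ := ihM a ha
        obtain ⟨w, hw, hcw⟩ := hWs c hc
        obtain ⟨pc, -, rfl⟩ := (hφL w).1 hw
        refine ⟨pa * pc, ?_⟩
        rw [map_mul, show a * c - φ pa * φ pc = a * (c - φ pc) + (a - φ pa) * φ pc by ring]
        refine add_mem ?_ ?_
        · rw [show M + 1 + 1 = M + 2 from rfl, pow_add]
          exact Ideal.mul_mem_mul ha hcw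
        · rw [pow_succ _ (M + 1)]
          exact Ideal.mul_mem_mul hpa (hWm _ hw)
      | add a _ c _ ha hc =>
        obtain ⟨pa, hpa⟩ := ha
        obtain ⟨pc, hpc⟩ := hc
        exact ⟨pa + pc, by rw [map_add, add_sub_add_comm]; exact add_mem hpa hpc⟩
  have happrox : ∀ (N : ℕ) (g : R), ∃ p : P, g - φ p ∈ m ^ N := by
    intro N
    induction N with
    | zero => exact fun g => ⟨0, by simp⟩
    | succ N ih =>
      intro g
      obtain ⟨p, hp⟩ := ih g
      obtain ⟨p', hp'⟩ := hstep N _ hp
      exact ⟨p + p', by rw [map_add, ← sub_sub]; exact hp'⟩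
  have hstN := OrbitCot.stable_pow k A hst N
  have hkey : n ≤ Ideal.span F ⊔ n ^ 2 := by
    intro g hg
    obtain ⟨p, hp⟩ := happrox N (g : R)
    let p' : BP := ⟨Comod.reynolds P r p, Comod.reynolds_mem r p⟩
    have hp' : (g : R) - φ (p' : P) ∈ m ^ N := by
      have h := OrbitCot.reynolds_mem_of_stable r hstN hp
      rwa [map_sub, Comod.reynolds_of_mem r g.2, ← show φ.toLinearMap p = φ p from rfl,
        ← Comod.reynolds_natural r hφ] at h
    have h2 : g - φB p' ∈ n ^ 2 := by
      refine comap_map_le r (n ^ 2) ?_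
      exact hN hp'
    have h0 : ev0 p' = 0 := by
      have hle : n ^ 2 ≤ n := Ideal.pow_le_self two_ne_zero
      have := RingHom.mem_ker.1 (show g - φB p' ∈ RingHom.ker xB from hle h2)
      rw [map_sub, RingHom.mem_ker.1 hg, zero_sub, neg_eq_zero] at this
      rw [show ev0 p' = aeval (fun _ : ι => (0 : k)) (p' : P) from rfl, ← hxφ]
      exact this
    have h3 : φB p' ∈ Ideal.span F := by
      have := Ideal.mem_map_of_mem φB.toRingHom (hfgen p')
      rw [Ideal.map_span, ← Set.range_comp] at this
      simpa [h0] using! this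
    rw [← sub_add_cancel g (φB p')]
    exact add_mem (Submodule.mem_sup_right h2) (Submodule.mem_sup_left h3)
  -- local ring
  let S := Localization.AtPrime n
  have : IsNoetherianRing S := IsLocalization.isNoetherianRing n.primeCompl _ inferInstance
  let FS : Ideal S := (Ideal.span F).map (algebraMap B S)
  have hmax : IsLocalRing.maximalIdeal S = FS := by
    refine le_antisymm ?_ ?_
    · refine Submodule.le_of_le_smul_of_le_jacobson_bot (IsNoetherian.noetherian _)
        (IsLocalRing.maximalIdeal_le_jacobson _) ?_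
      rw [smul_eq_mul, ← sq, ← Localization.AtPrime.map_eq_maximalIdeal, ← Ideal.map_pow, ← Ideal.map_sup]
      exact Ideal.map_mono hkey
    · rw [← Localization.AtPrime.map_eq_maximalIdeal]
      exact Ideal.map_mono hFn
  refine IsRegularLocalRing.of_spanFinrank_maximalIdeal_le S ?_
  have hle1 : (IsLocalRing.maximalIdeal S).spanFinrank ≤ d := by
    rw [hmax, show FS = Ideal.span (algebraMap B S '' F) from Ideal.map_span _ _]
    refine (Submodule.spanFinrank_span_le_ncard_of_finite ((Set.finite_range _).image _)).trans ?_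
    refine (Set.ncard_image_le (Set.finite_range _)).trans ?_
    rw [← Set.image_univ]
    refine (Set.ncard_image_le Set.finite_univ).trans ?_
    simp
  refine le_trans (Nat.cast_le.2 (hle1.trans hd)) ?_
  -- dimension of the point
  let Rm := Localization.AtPrime m
  have : IsRegularLocalRing Rm := regular_of_smooth k R m
  have hcard : Fintype.card ι ≤ (IsLocalRing.maximalIdeal Rm).spanFinrank := by
    let Gs : Set Rm := (IsLocalRing.maximalIdeal Rm).generators
    have hGfin : Gs.Finite := Submodule.FG.finite_generators (IsNoetherian.noetherian _)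
    have hsurj : ∀ z ∈ Gs, ∃ g ∈ m, ∃ u : Rm, IsUnit u ∧ algebraMap R Rm g = z * u := fun z hz => by
      obtain ⟨⟨⟨g, hg⟩, w⟩, hw⟩ := (IsLocalization.mem_map_algebraMap_iff m.primeCompl Rm).1
        (show z ∈ m.map (algebraMap R Rm) by
          rw [Localization.AtPrime.map_eq_maximalIdeal, ← Submodule.span_generators (IsLocalRing.maximalIdeal Rm)]
          exact Submodule.subset_span hz)
      exact ⟨g, hg, algebraMap R Rm w, IsLocalization.map_units Rm w, hw.symm⟩
    choose! g hgm u hu hgu using hsurj
    have hle : GLin.cotSpace k R x ≤ Submodule.span k (Ideal.Quotient.mk (m ^ 2) '' (g '' Gs)) := by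
      refine cotSpace_le x _ (by rintro _ ⟨z, hz, rfl⟩; exact hgm z hz) fun y hy => ?_
      have h2 : algebraMap R Rm y ∈ (Ideal.span (g '' Gs)).map (algebraMap R Rm) := by
        have h3 : algebraMap R Rm y ∈ Ideal.span Gs := by
          rw [show Ideal.span Gs = IsLocalRing.maximalIdeal Rm from Submodule.span_generators _,
            ← Localization.AtPrime.map_eq_maximalIdeal]
          exact Ideal.mem_map_of_mem _ hy
        refine Ideal.span_le.2 (fun z hz => ?_) h3
        obtain ⟨v, hv⟩ := (hu z hz).exists_right_inv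
        rw [show z = algebraMap R Rm (g z) * v by rw [hgu z hz, mul_assoc, hv, mul_one]]
        exact Ideal.mul_mem_right _ _ (Ideal.mem_map_of_mem _ (Ideal.subset_span ⟨z, hz, rfl⟩))
      obtain ⟨w, hw, hwy⟩ := (IsLocalization.algebraMap_mem_map_algebraMap_iff m.primeCompl Rm _ _).1 h2
      exact ⟨w, fun h => hw (RingHom.mem_ker.2 h), hwy⟩
    have hfin : (Ideal.Quotient.mk (m ^ 2) '' (g '' Gs)).Finite := (hGfin.image _).image _
    have h1 : Fintype.card ι = Module.finrank k (GLin.cotSpace k R x) := by
      have hli : LinearIndependent k (fun i => (X i : MvPolynomial ι k)) := by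
        have := (MvPolynomial.basisMonomials ι k).linearIndependent.comp (fun i => Finsupp.single i 1)
          (fun i j hij => (Finsupp.single_left_inj one_ne_zero).1 hij)
        simpa [Function.comp_def, MvPolynomial.coe_basisMonomials] using! this
      rw [hcot, finrank_map_of_injOn θ L hθ, hL]
      exact (finrank_span_eq_card hli).symm
    have : Fintype ↥(Ideal.Quotient.mk (m ^ 2) '' (g '' Gs)) := hfin.fintype
    have : Module.Finite k (Submodule.span k (Ideal.Quotient.mk (m ^ 2) '' (g '' Gs))) :=
      Module.Finite.span_of_finite k hfin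
    rw [h1]
    refine (Submodule.finrank_mono hle).trans ((finrank_span_le_card _).trans ?_)
    rw [← Set.ncard_eq_toFinset_card']
    refine (Set.ncard_image_le (hGfin.image _)).trans ((Set.ncard_image_le hGfin).trans ?_)
    exact (Submodule.FG.generators_ncard (IsNoetherian.noetherian _)).le
  refine le_trans (Nat.cast_le.2 hcard) ?_
  rw [IsRegularLocalRing.spanFinrank_maximalIdeal, IsLocalization.AtPrime.ringKrullDim_eq_height m Rm,
    IsLocalization.AtPrime.ringKrullDim_eq_height n S]
  exact_mod_cast height_le_comap m n rfl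

end Groth.Agent.S19327
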