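import Groth.Statements.S19333
import Mathlib

set_option autoImplicit false
universe u
open ModPair

namespace Groth.Agent.S19333

/-- Let A → B be any homomorphism of commutative rings. An element x of B is integral over A if and only
if for every field K, every valuation subring R of K and every ring homomorphism φ : B → K which
sends the image of A into R, the element φ(x) lies in R. In other words the integral closure of A in
B is the intersection of the subrings R ×_K B taken over all commutative squares A → R ⊆ K ← B with
R a valuation ring of the field K. -/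
theorem result {A B : Type u} [CommRing A]
    [CommRing B] [Algebra A B] (x : B) :
    x ∈ integralClosure A B ↔
      ∀ (K : Type u) [Field K] (R : ValuationSubring K) (φ : B →+* K),
        (∀ a : A, φ (algebraMap A B a) ∈ R) → φ x ∈ R := by
  classical
  refine ⟨fun hx K _ R φ hA => ?_, fun h => ?_⟩
  · obtain ⟨p, hm, hp⟩ := hx
    let ψ : A →+* R := (φ.comp (algebraMap A B)).codRestrict R.toSubring hA
    have hint : IsIntegral R (φ x) := by
      refine ⟨p.map ψ, hm.map ψ, ?_⟩
      rw [Polynomial.eval₂_map, show (algebraMap R K).comp ψ = φ.comp (algebraMap A B) from rfl,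
        ← Polynomial.hom_eval₂, hp, map_zero]
    obtain ⟨y, hy⟩ := IsIntegrallyClosed.isIntegral_iff.1 hint
    exact hy ▸ y.2
  · by_contra hx
    let B' := Localization.Away x
    let w : B' := IsLocalization.Away.invSelf x
    have hxw : algebraMap B B' x * w = 1 := IsLocalization.Away.mul_invSelf x
    let A' : Subalgebra A B' := Algebra.adjoin A {w}
    let w' : A' := ⟨w, Algebra.subset_adjoin rfl⟩
    have hw : ¬ IsUnit w' := by
      rintro ⟨u, hu⟩
      apply hx
      have hmem : algebraMap B B' x ∈ A' := by
        have h1 : (w : B') * ((↑u⁻¹ : A') : B') = 1 := by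
          have := congrArg Subtype.val u.mul_inv
          rw [hu] at this
          simpa [w'] using this
        have : algebraMap B B' x = ((↑u⁻¹ : A') : B') := by
          calc algebraMap B B' x = algebraMap B B' x * (w * ((↑u⁻¹ : A') : B')) := by rw [h1, mul_one]
            _ = _ := by rw [← mul_assoc, hxw, one_mul]
        exact this ▸ (↑u⁻¹ : A').2
      rw [show A' = _ from Algebra.adjoin_singleton_eq_range_aeval A w] at hmem
      obtain ⟨q, hq⟩ := hmem
      have hq : Polynomial.aeval w q = algebraMap B B' x := hq
      let d := q.natDegree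
      let P : Polynomial A := Polynomial.X ^ (d + 1) - ∑ i ∈ Finset.range (d + 1), Polynomial.C (q.coeff i) * Polynomial.X ^ (d - i)
      have hPm : P.Monic := by
        apply Polynomial.monic_X_pow_sub
        refine lt_of_le_of_lt (Polynomial.degree_sum_le _ _) ?_
        refine (Finset.sup_lt_iff (by simp)).2 fun i _ => ?_
        exact lt_of_le_of_lt (Polynomial.degree_C_mul_X_pow_le _ _) (by exact_mod_cast Nat.lt_succ_of_le (Nat.sub_le d i))
      have h0 : algebraMap B B' (Polynomial.aeval x P) = 0 := by
        rw [← Polynomial.aeval_algebraMap_apply]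
        simp only [P, map_sub, map_sum, map_mul, map_pow, Polynomial.aeval_X, Polynomial.aeval_C]
        have hs : algebraMap B B' x = ∑ i ∈ Finset.range (d + 1), q.coeff i • w ^ i := by
          rw [← hq, Polynomial.aeval_eq_sum_range]
        rw [pow_succ, sub_eq_zero]
        conv_lhs => arg 2; rw [hs]
        rw [Finset.mul_sum]
        refine Finset.sum_congr rfl fun i hi => ?_
        have hid : i ≤ d := Nat.lt_succ_iff.1 (Finset.mem_range.1 hi)
        rw [Algebra.smul_def]
        calc algebraMap B B' x ^ d * (algebraMap A B' (q.coeff i) * w ^ i)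
            = algebraMap A B' (q.coeff i) * (algebraMap B B' x ^ (d - i) * ((algebraMap B B' x) * w) ^ i) := by
              rw [mul_pow, ← mul_assoc (algebraMap B B' x ^ (d - i)), ← pow_add, Nat.sub_add_cancel hid]; ring
          _ = _ := by rw [hxw, one_pow, mul_one]
      obtain ⟨⟨_, n, rfl⟩, hn⟩ := (IsLocalization.map_eq_zero_iff (Submonoid.powers x) B' _).1 h0
      refine ⟨Polynomial.X ^ n * P, (Polynomial.monic_X_pow n).mul hPm, ?_⟩
      rw [← Polynomial.aeval_def, map_mul, map_pow, Polynomial.aeval_X]
      exact hn
    obtain ⟨m, hm, hwm⟩ := exists_max_ideal_of_mem_nonunits hw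
    haveI := hm.isPrime
    obtain ⟨q, hq, hqm⟩ := Ideal.exists_minimalPrimes_le (bot_le : (⊥ : Ideal A') ≤ m)
    obtain ⟨Q, hQ, hQq⟩ := Ideal.exists_comap_eq_of_mem_minimalPrimes_of_injective (f := A'.val.toRingHom)
      Subtype.val_injective q (by simpa [minimalPrimes] using hq)
    haveI : Q.IsPrime := hQ
    obtain ⟨K, hK, ι, hι⟩ : ∃ (K : Type u) (_ : Field K) (ι : B' →+* K), RingHom.ker ι = Q :=
      ⟨FractionRing (B' ⧸ Q), inferInstance, (algebraMap (B' ⧸ Q) _).comp (Ideal.Quotient.mk Q), by
        rw [RingHom.ker_comp_of_injective _ (IsFractionRing.injective (B' ⧸ Q) _), Ideal.mk_ker]⟩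
    have hker : ∀ a : A', ι (a : B') = 0 → a ∈ q := fun a ha => by
      rw [← hQq, ← hι]
      exact ha
    have hu : ∀ s : m.primeCompl, IsUnit ((ι.comp A'.val.toRingHom) (s : A')) := fun s =>
      isUnit_iff_ne_zero.2 fun h0 => s.2 (hqm (hker _ h0))
    let f : Localization.AtPrime m →+* K := IsLocalization.lift hu
    obtain ⟨V, hV, hloc⟩ := IsLocalRing.exists_factor_valuationRing (R := Localization.AtPrime m) (K := K) f
    have hfa : ∀ a : A', f (algebraMap _ _ a) = ι (a : B') := fun a => IsLocalization.lift_eq _ a
    have hxV := h K V (ι.comp (algebraMap B B')) fun a => by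
      show ι (algebraMap B B' (algebraMap A B a)) ∈ V
      rw [← IsScalarTower.algebraMap_apply A B B']
      exact hfa (algebraMap A A' a) ▸ hV _
    have hwu : IsUnit (f.codRestrict V.toSubring hV (algebraMap _ (Localization.AtPrime m) w')) := by
      refine IsUnit.of_mul_eq_one (⟨_, hxV⟩ : V) ?_
      refine Subtype.ext ?_
      show f (algebraMap _ _ w') * ι (algebraMap B B' x) = 1
      rw [hfa, ← map_mul, mul_comm]
      show ι (algebraMap B B' x * w) = 1
      rw [hxw, map_one]
    have := hloc.map_nonunit _ hwu
    exact ((IsLocalization.AtPrime.isUnit_to_map_iff (Localization.AtPrime m) m w').1 this) hwm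

end Groth.Agent.S19333
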