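import Groth.Statements.S19338
import Mathlib.CategoryTheory.Localization.CalculusOfFractions
import Mathlib.CategoryTheory.Sites.SheafOfTypes

set_option autoImplicit false
universe w v u
open CategoryTheory
open ModPair

namespace Groth.Agent.S19338

/-- Let C be a category and S a class of morphisms which contains the identities, is closed under
composition, admits a right calculus of fractions, and consists of monomorphisms. Then the sieves
containing a morphism of S are the covering sieves of a Grothendieck topology on C, and for every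
such topology J a presheaf of types F on C is a J-sheaf if and only if it is S-local, i.e. F sends
every morphism of S to a bijection. -/
theorem result {C : Type u} [Category.{v} C]
    (S : MorphismProperty C) [S.HasRightCalculusOfFractions]
    (hmono : ∀ ⦃X Y : C⦄ (s : X ⟶ Y), S s → Mono s) :
    (∃ J : GrothendieckTopology C, ∀ (X : C) (T : Sieve X),
        T ∈ J X ↔ ∃ (Y : C) (s : Y ⟶ X), S s ∧ T s) ∧
      ∀ J : GrothendieckTopology C, (∀ (X : C) (T : Sieve X),
          T ∈ J X ↔ ∃ (Y : C) (s : Y ⟶ X), S s ∧ T s) →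
        ∀ F : Cᵒᵖ ⥤ Type w,
          Presheaf.IsSheaf J F ↔ ∀ ⦃X Y : C⦄ (s : X ⟶ Y), S s → IsIso (F.map s.op) := by
  refine ⟨⟨{ sieves := fun X => {T | ∃ (Y : C) (s : Y ⟶ X), S s ∧ T s}
             top_mem' := fun X => ⟨X, 𝟙 X, S.id_mem X, trivial⟩
             pullback_stable' := ?_
             transitive' := ?_ }, fun X T => Iff.rfl⟩, fun J hJ F => ?_⟩
  · rintro X Y T f ⟨Z, s, hs, hT⟩
    obtain ⟨ψ, hψ⟩ := MorphismProperty.HasRightCalculusOfFractions.exists_rightFraction
      (MorphismProperty.LeftFraction.mk f s hs)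
    refine ⟨ψ.X', ψ.s, ψ.hs, ?_⟩
    show T (ψ.s ≫ f)
    dsimp at hψ
    rw [hψ]
    exact T.downward_closed hT _
  · rintro X T ⟨Z, s, hs, hT⟩ R hR
    obtain ⟨W, t, ht, hRt⟩ := hR hT
    exact ⟨W, t ≫ s, S.comp_mem _ _ ht hs, hRt⟩
  rw [isSheaf_iff_isSheaf_of_type]
  constructor
  · intro hF X Y s hs
    have h := hF (Sieve.generate (Presieve.singleton s))
      ((hJ _ _).2 ⟨X, s, hs, X, 𝟙 _, s, Presieve.singleton.mk, Category.id_comp s⟩)
    rw [← Presieve.isSheafFor_iff_generate] at h
    rw [isIso_iff_bijective]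
    have hcompat : ∀ a : F.obj (Opposite.op X),
        ((Presieve.FamilyOfElements.singletonEquiv F s).symm a).Compatible := by
      intro a
      rw [Presieve.FamilyOfElements.compatible_singleton_iff]
      intro Z g₁ g₂ hc
      haveI := hmono s hs
      rw [(cancel_mono s).1 hc]
    refine ⟨fun a b hab => h.isSeparatedFor.ext fun Z f hf => ?_, fun a => ?_⟩
    · cases hf
      exact hab
    · obtain ⟨b, hb, -⟩ := h _ (hcompat a)
      exact ⟨b, (hb s Presieve.singleton.mk).trans
        (Presieve.FamilyOfElements.singletonEquiv_symm_apply_self s a)⟩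
  · intro hF X T hT x hx
    obtain ⟨Y, s, hs, hTs⟩ := (hJ X T).1 hT
    haveI := hF s hs
    obtain ⟨a, ha⟩ := ((isIso_iff_bijective (F.map s.op)).1 inferInstance).2 (x s hTs)
    refine ⟨a, fun Z g hg => ?_, fun b hb => ((isIso_iff_bijective (F.map s.op)).1 inferInstance).1 ((hb s hTs).trans ha.symm)⟩
    obtain ⟨ψ, hψ⟩ := MorphismProperty.HasRightCalculusOfFractions.exists_rightFraction
      (MorphismProperty.LeftFraction.mk g s hs)
    haveI := hF ψ.s ψ.hs
    apply ((isIso_iff_bijective (F.map ψ.s.op)).1 inferInstance).1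
    have hc := hx ψ.s ψ.f hg hTs hψ
    rw [hc, ← ha]
    dsimp at hψ
    simp only [← Functor.map_comp_apply, ← op_comp, hψ]

end Groth.Agent.S19338
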