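import Groth.Statements.S19340
import Mathlib.CategoryTheory.Localization.CalculusOfFractions

set_option autoImplicit false
universe v v' u u'
open CategoryTheory
open ModPair

namespace Groth.Agent.S19340

/-- Let C be a category, S a class of morphisms of C containing the identities, closed under composition
and admitting a right calculus of fractions, and L : C ⥤ D a localization functor for S. Then for
every object X of C the comma category of L under X, whose objects are pairs (Y, L(X) ⟶ L(Y)) and
whose morphisms are morphisms Y ⟶ Y' of C compatible with the structure maps, is cofiltered. The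
published statement calls this category filtered; its proof verifies, and this row states,
cofilteredness. -/
theorem result {C : Type u}
    [Category.{v} C] {D : Type u'} [Category.{v'} D] (S : MorphismProperty C)
    [S.HasRightCalculusOfFractions] (L : C ⥤ D) [L.IsLocalization S] (X : C) :
    IsCofiltered (StructuredArrow (L.obj X) L) := by
  haveI : ∀ {Y Z : C} (s : Y ⟶ Z), S s → IsIso (L.map s) := fun s hs => Localization.inverts L S s hs
  have hobj : ∀ (A : StructuredArrow (L.obj X) L), ∃ (W : C) (s : W ⟶ X) (_ : S s) (a : W ⟶ A.right),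
      L.map s ≫ A.hom = L.map a := fun A => by
    obtain ⟨φ, hφ⟩ := Localization.exists_rightFraction L S A.hom
    refine ⟨φ.X', φ.s, φ.hs, φ.f, ?_⟩
    rw [hφ]
    exact φ.map_s_comp_map L (Localization.inverts L S)
  refine { nonempty := ⟨StructuredArrow.mk (𝟙 (L.obj X) : L.obj X ⟶ L.obj X)⟩, cone_objs := fun A B => ?_, cone_maps := fun A B f g => ?_ }
  · obtain ⟨W, s, hs, a, ha⟩ := hobj A
    obtain ⟨W', s', hs', b, hb⟩ := hobj B
    obtain ⟨ψ, hψ⟩ := MorphismProperty.HasRightCalculusOfFractions.exists_rightFraction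
      (MorphismProperty.LeftFraction.mk s s' hs')
    haveI := this (ψ.s ≫ s) (S.comp_mem _ _ ψ.hs hs)
    refine ⟨StructuredArrow.mk (inv (L.map (ψ.s ≫ s)) : L.obj X ⟶ L.obj ψ.X'),
      StructuredArrow.homMk (ψ.s ≫ a) ?_, StructuredArrow.homMk (ψ.f ≫ b) ?_, trivial⟩
    · show inv (L.map (ψ.s ≫ s)) ≫ L.map (ψ.s ≫ a) = _
      rw [IsIso.inv_comp_eq, L.map_comp, L.map_comp, Category.assoc, ha]
    · show inv (L.map (ψ.s ≫ s)) ≫ L.map (ψ.f ≫ b) = _
      rw [IsIso.inv_comp_eq]
      dsimp at hψ
      conv_rhs => rw [hψ, L.map_comp, Category.assoc, hb]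
      rw [L.map_comp]
  · obtain ⟨W, s, hs, a, ha⟩ := hobj A
    have h : L.map (a ≫ f.right) = L.map (a ≫ g.right) := by
      rw [L.map_comp, L.map_comp, ← ha, Category.assoc, Category.assoc, StructuredArrow.w f, StructuredArrow.w g]
    obtain ⟨W', t, ht, htw⟩ := (MorphismProperty.map_eq_iff_precomp L S _ _).1 h
    haveI := this (t ≫ s) (S.comp_mem _ _ ht hs)
    refine ⟨StructuredArrow.mk (inv (L.map (t ≫ s)) : L.obj X ⟶ L.obj W'), StructuredArrow.homMk (t ≫ a) ?_, ?_⟩
    · show inv (L.map (t ≫ s)) ≫ L.map (t ≫ a) = _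
      rw [IsIso.inv_comp_eq, L.map_comp, L.map_comp, Category.assoc, ha]
    · ext
      simpa [Category.assoc] using htw

end Groth.Agent.S19340
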