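import Groth.Statements.S19343
import Groth.Agent.ModPairLocal.Etale

set_option autoImplicit false
set_option backward.isDefEq.respectTransparency false
set_option backward.isDefEq.respectTransparency.types false
universe u
open CategoryTheory CategoryTheory.Limits AlgebraicGeometry TopologicalSpace
open ModPair

namespace Groth.Agent.S19343

/-- Let P be a modulus pair (a scheme P̄ with the quasi-coherent ideal sheaf of an effective Cartier
divisor) whose total space P̄ is quasi-compact and quasi-separated. Then P is local both for étale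
coverings of modulus pairs (for every pair X, every jointly surjective family of minimal morphisms
U_i ⟶ X whose underlying morphisms are étale, quasi-compact and quasi-separated, and every morphism
of pairs P ⟶ X, the latter factors through some U_i) and for abstract admissible blow-ups (every P ⟶
X lifts along every abstract admissible blow-up Q ⟶ X) if and only if (1) P̄ is affine and A = Γ(P̄)
is a strictly henselian local ring, (2) the interior P° is affine and its ring of global sections is
a henselian local ring, and, writing p for the closed point of P° and 𝔮 ⊂ A for its prime ideal, (3)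
A/𝔮 is a valuation ring which is strictly henselian and (4) the localisation map sends 𝔮 bijectively
onto the maximal ideal of A_𝔮, i.e. A = A/𝔮 ×_{k(𝔮)} A_𝔮 and P̄ is the gluing of the closure of p to
P° along p. The published statement allows any modulus pair P; this row assumes the total space P̄
quasi-compact and quasi-separated. -/
theorem result (P : ModPair.Pair.{u})
    [CompactSpace P.total] [QuasiSeparatedSpace P.total] :
    ((∀ (X : ModPair.Pair.{u}) (ι : Type u) (U : ι → ModPair.Pair.{u}) (v : ∀ i, U i ⟶ X),
        (∀ i, ModPair.IsMinimal (U i).mod X.mod (v i).hom ∧ Etale (v i).hom ∧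
          QuasiCompact (v i).hom ∧ QuasiSeparated (v i).hom) →
        (∀ x : X.total, ∃ (i : ι) (y : (U i).total), (v i).hom.base y = x) →
        ∀ g : P ⟶ X, ∃ (i : ι) (h : P ⟶ U i), h ≫ v i = g) ∧
      (∀ (Q X : ModPair.Pair.{u}) (q : Q ⟶ X), ModPair.Pair.admBlowup q →
        ∀ g : P ⟶ X, ∃ h : P ⟶ Q, h ≫ q = g)) ↔
    (IsAffine P.total ∧ EtCoh.IsStrictlyHenselianLocalRing Γ(P.total, ⊤) ∧
      IsAffine (ModPair.interior P.mod : Scheme.{u}) ∧
      HenselianLocalRing Γ((ModPair.interior P.mod : Scheme.{u}), ⊤) ∧
      ∀ p : (ModPair.interior P.mod : Scheme.{u}),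
        IsClosed ({p} : Set (ModPair.interior P.mod : Scheme.{u})) →
          ValuationRing (Γ(P.total, ⊤) ⧸ (P.total.toSpecΓ.base ((ModPair.interior P.mod).ι.base p)).asIdeal) ∧
          EtCoh.IsStrictlyHenselianLocalRing (Γ(P.total, ⊤) ⧸ (P.total.toSpecΓ.base ((ModPair.interior P.mod).ι.base p)).asIdeal) ∧
          Set.BijOn (algebraMap Γ(P.total, ⊤) (Localization.AtPrime (P.total.toSpecΓ.base ((ModPair.interior P.mod).ι.base p)).asIdeal))
            ((P.total.toSpecΓ.base ((ModPair.interior P.mod).ι.base p)).asIdeal : Set Γ(P.total, ⊤))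
            (IsLocalRing.maximalIdeal (Localization.AtPrime (P.total.toSpecΓ.base ((ModPair.interior P.mod).ι.base p)).asIdeal) :
              Set (Localization.AtPrime (P.total.toSpecΓ.base ((ModPair.interior P.mod).ι.base p)).asIdeal))) := by
  open Groth.Agent.ModPairLocal in
  constructor
  · rintro ⟨hp, hb⟩
    have hP : PairLocal etProp P := fun X ι U v hv => hp X ι U v fun i =>
      ⟨(hv i).1, (hv i).2.1.1, (hv i).2.1.2, (hv i).2.2⟩
    have hs : SchLocal etProp P.total := schLocal_of_pairLocal (fun f h => by haveI := h.1.1; infer_instance) hP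
    obtain ⟨haff, hloc⟩ := zariski_consequences P (zarLocal_of_pairLocal et_of_openImmersion hP)
    haveI := haff
    haveI := hloc
    obtain ⟨hB, hpts⟩ := forward P hb
    haveI := hB
    haveI := isAffine_interior P
    have hA := strictlyHenselian_of_retractions (hasEtaleRetractions hs)
    refine ⟨haff, hA, inferInstance, ?_, fun p hp => ⟨(hpts p hp).1,
      strictlyHenselian_quotient hA _ (Ideal.IsPrime.ne_top (PrimeSpectrum.isPrime _)), (hpts p hp).2⟩⟩
    obtain ⟨g, hg, -, hint⟩ := exists_generator P
    letI := interiorAlg P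
    haveI := isLocalization_basic g (ModPair.interior P.mod) hint
    obtain ⟨hh, -⟩ := hA
    haveI := hh
    refine henselian_interior (A := Γ(P.total, ⊤)) fun b hb0 => ?_
    obtain ⟨⟨a, ⟨_, k, rfl⟩⟩, hab⟩ := IsLocalization.surj (Submonoid.powers g) b
    have ha : a ∈ (IsLocalRing.maximalIdeal Γ((ModPair.interior P.mod : Scheme.{u}), ⊤)).comap
        (algebraMap Γ(P.total, ⊤) _) := by
      rw [Ideal.mem_comap, ← hab]
      exact Ideal.mul_mem_right _ _ hb0
    obtain ⟨c, hc⟩ := pow_dvd_of_mem (dvd_or_dvd P hb hg hint) ha k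
    have hbc : algebraMap Γ(P.total, ⊤) Γ((ModPair.interior P.mod : Scheme.{u}), ⊤) c = b := by
      have hu : IsUnit (algebraMap Γ(P.total, ⊤) Γ((ModPair.interior P.mod : Scheme.{u}), ⊤) (g ^ k)) := by
        rw [map_pow]; exact (IsLocalization.Away.algebraMap_isUnit g).pow k
      refine hu.mul_left_inj.1 ?_
      rw [← map_mul, mul_comm c, ← hc]
      exact hab.symm
    exact ⟨c, Ideal.mem_comap.2 (hbc.symm ▸ hb0), hbc⟩
  · rintro ⟨haff, hA, hDaff, hB, hpts⟩
    haveI := haff
    haveI := hDaff
    haveI := hB
    have hP : PairLocal etProp P := pairLocal_of_schLocal (schLocal_of_strictlyHenselian hA)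
    obtain ⟨hh, -⟩ := hA
    haveI := hh
    exact ⟨fun X ι U v hv => hP X ι U v fun i =>
      ⟨(hv i).1, ⟨⟨(hv i).2.1, (hv i).2.2.1⟩, (hv i).2.2.2⟩⟩,
      blowLocal_of_semiVal P fun p hp => ⟨(hpts p hp).1, (hpts p hp).2.2⟩⟩

end Groth.Agent.S19343
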