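import Groth.Statements.S19344
import Groth.Agent.ModPairLocal.Fppf

set_option autoImplicit false
set_option backward.isDefEq.respectTransparency false
set_option backward.isDefEq.respectTransparency.types false
universe u
open CategoryTheory CategoryTheory.Limits AlgebraicGeometry TopologicalSpace
open ModPair

namespace Groth.Agent.S19344

/-- Let P be a modulus pair (a scheme P̄ with the quasi-coherent ideal sheaf of an effective Cartier
divisor) whose total space P̄ is quasi-compact and quasi-separated. Call a scheme T fppf-local when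
for every scheme X, every jointly surjective family of morphisms to X that are flat and of finite
presentation (locally of finite presentation, quasi-compact, quasi-separated) and every T ⟶ X, the
latter factors through a member of the family. Then P is local both for fppf coverings of modulus
pairs (families of minimal morphisms U_i ⟶ X whose underlying morphisms form such a family, with the
same factorisation property for morphisms of pairs P ⟶ X) and for abstract admissible blow-ups
(every P ⟶ X lifts along every abstract admissible blow-up Q ⟶ X) if and only if (1) P̄ is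
fppf-local, (2) the interior P° is fppf-local, (3) P° is affine with local ring of global sections
and, writing p for its closed point and 𝔮 ⊂ A = Γ(P̄) for the prime ideal of p, the ring A/𝔮 is a
valuation ring with algebraically closed fraction field, and (4) the localisation map sends 𝔮
bijectively onto the maximal ideal of A_𝔮, i.e. A = A/𝔮 ×_{k(𝔮)} A_𝔮 and P̄ is the gluing of the
closure of p to P° along p. (The affine-local clause in (3) is a consequence of (2) and only serves
to name p.) The published statement allows any modulus pair P; this row assumes the total space P̄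
quasi-compact and quasi-separated. -/
theorem result (P : ModPair.Pair.{u})
    [CompactSpace P.total] [QuasiSeparatedSpace P.total] :
    ((∀ (X : ModPair.Pair.{u}) (ι : Type u) (U : ι → ModPair.Pair.{u}) (v : ∀ i, U i ⟶ X),
        (∀ i, ModPair.IsMinimal (U i).mod X.mod (v i).hom ∧ Flat (v i).hom ∧
          LocallyOfFinitePresentation (v i).hom ∧ QuasiCompact (v i).hom ∧
          QuasiSeparated (v i).hom) →
        (∀ x : X.total, ∃ (i : ι) (y : (U i).total), (v i).hom.base y = x) →
        ∀ g : P ⟶ X, ∃ (i : ι) (h : P ⟶ U i), h ≫ v i = g) ∧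
      (∀ (Q X : ModPair.Pair.{u}) (q : Q ⟶ X), ModPair.Pair.admBlowup q →
        ∀ g : P ⟶ X, ∃ h : P ⟶ Q, h ≫ q = g)) ↔
    ((∀ (X : Scheme.{u}) (R : Presieve X), R ∈ Scheme.precoverage (@Flat ⊓ @LocallyOfFinitePresentation ⊓ @QuasiCompact ⊓ @QuasiSeparated) X →
        ∀ g : P.total ⟶ X, ∃ (Y : Scheme.{u}) (w : Y ⟶ X) (h : P.total ⟶ Y), R w ∧ h ≫ w = g) ∧
      (∀ (X : Scheme.{u}) (R : Presieve X), R ∈ Scheme.precoverage (@Flat ⊓ @LocallyOfFinitePresentation ⊓ @QuasiCompact ⊓ @QuasiSeparated) X →
        ∀ g : (ModPair.interior P.mod : Scheme.{u}) ⟶ X, ∃ (Y : Scheme.{u}) (w : Y ⟶ X) (h : (ModPair.interior P.mod : Scheme.{u}) ⟶ Y), R w ∧ h ≫ w = g) ∧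
      IsAffine (ModPair.interior P.mod : Scheme.{u}) ∧
      IsLocalRing Γ((ModPair.interior P.mod : Scheme.{u}), ⊤) ∧
      ∀ p : (ModPair.interior P.mod : Scheme.{u}),
        IsClosed ({p} : Set (ModPair.interior P.mod : Scheme.{u})) →
          ValuationRing (Γ(P.total, ⊤) ⧸ (P.total.toSpecΓ.base ((ModPair.interior P.mod).ι.base p)).asIdeal) ∧
          IsAlgClosed (FractionRing (Γ(P.total, ⊤) ⧸ (P.total.toSpecΓ.base ((ModPair.interior P.mod).ι.base p)).asIdeal)) ∧
          Set.BijOn (algebraMap Γ(P.total, ⊤) (Localization.AtPrime (P.total.toSpecΓ.base ((ModPair.interior P.mod).ι.base p)).asIdeal))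
            ((P.total.toSpecΓ.base ((ModPair.interior P.mod).ι.base p)).asIdeal : Set Γ(P.total, ⊤))
            (IsLocalRing.maximalIdeal (Localization.AtPrime (P.total.toSpecΓ.base ((ModPair.interior P.mod).ι.base p)).asIdeal) :
              Set (Localization.AtPrime (P.total.toSpecΓ.base ((ModPair.interior P.mod).ι.base p)).asIdeal))) := by
  open Groth.Agent.ModPairLocal in
  constructor
  · rintro ⟨hp, hb⟩
    have hP : PairLocal fppfProp P := fun X ι U v hv => hp X ι U v fun i =>
      ⟨(hv i).1, (hv i).2.1.1.1, (hv i).2.1.1.2, (hv i).2.1.2, (hv i).2.2⟩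
    have hs : SchLocal fppfProp P.total := schLocal_of_pairLocal (fun f h => h.1.1.1) hP
    obtain ⟨haff, hloc⟩ := zariski_consequences P (zarLocal_of_pairLocal fppf_of_openImmersion hP)
    haveI := haff
    haveI := hloc
    obtain ⟨hB, hpts⟩ := forward P hb
    haveI := hB
    haveI := isAffine_interior P
    have hA : Curves.IsAIC Γ(P.total, ⊤) :=
      isAIC_of_retractions fun C _ _ _ _ hinj => exists_algHom_of_free hs C hinj
    refine ⟨hs, ?_, inferInstance, hB, fun p hp => ⟨(hpts p hp).1,
      isAlgClosed_fractionRing (isAIC_surjective hA _ Ideal.Quotient.mk_surjective), (hpts p hp).2⟩⟩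
    obtain ⟨g, hg, -, hint⟩ := exists_generator P
    letI := interiorAlg P
    haveI := isLocalization_basic g (ModPair.interior P.mod) hint
    haveI := henselian_of_aic (isAIC_localization hA (Submonoid.powers g)
      (S := Γ((ModPair.interior P.mod : Scheme.{u}), ⊤)))
    exact schLocal_of_local (R := Γ((ModPair.interior P.mod : Scheme.{u}), ⊤))
      (fun V _ _ _ _ _ => exists_retraction_lattice hg (dvd_or_dvd P hb hg hint)
        (fun C _ _ _ _ hinj => exists_algHom_of_free hs C hinj) V)
      (ModPair.interior P.mod : Scheme.{u}).isoSpec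
  · rintro ⟨hs, -, hDaff, hB, hpts⟩
    have hP : PairLocal fppfProp P := pairLocal_of_schLocal hs
    obtain ⟨haff, hloc⟩ := zariski_consequences P (zarLocal_of_pairLocal fppf_of_openImmersion hP)
    haveI := haff
    haveI := hloc
    haveI := hDaff
    haveI := hB
    exact ⟨fun X ι U v hv => hP X ι U v fun i =>
      ⟨(hv i).1, ⟨⟨⟨(hv i).2.1, (hv i).2.2.1⟩, (hv i).2.2.2.1⟩, (hv i).2.2.2.2⟩⟩,
      blowLocal_of_semiVal P fun p hp => ⟨(hpts p hp).1, (hpts p hp).2.2⟩⟩

end Groth.Agent.S19344
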