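import Groth.Statements.S19346
import Groth.Agent.ModPairLocal.Converse
import Groth.Agent.ModPairLocal.Forward
import Groth.Agent.ModPairLocal.Finite

set_option autoImplicit false
set_option backward.isDefEq.respectTransparency false
set_option backward.isDefEq.respectTransparency.types false
universe u
open CategoryTheory CategoryTheory.Limits AlgebraicGeometry TopologicalSpace
open ModPair

namespace Groth.Agent.S19346

/-- Let P be a modulus pair (a scheme P̄ with the quasi-coherent ideal sheaf of an effective Cartier
divisor) whose total space P̄ is quasi-compact and quasi-separated. Then P is local for Zariski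
coverings of modulus pairs (jointly surjective families of minimal morphisms U_i ⟶ X whose
underlying morphisms are quasi-compact open immersions: every morphism of pairs P ⟶ X factors
through some U_i), for finite coverings of modulus pairs (the same with finite underlying morphisms)
— locality for both kinds being locality for the rqfh coverings, their finite composites — and for
abstract admissible blow-ups (every P ⟶ X lifts along every abstract admissible blow-up Q ⟶ X) if
and only if (1) P̄ is affine and A = Γ(P̄) is a local integral domain in which every monic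
polynomial of positive degree has a root, (2) the interior P° is affine and Γ(P°) is likewise a
local integral domain in which every monic polynomial of positive degree has a root, and, writing p
for the closed point of P° and 𝔮 ⊂ A for its prime ideal, (3) A/𝔮 is a valuation ring with
algebraically closed fraction field and (4) the localisation map sends 𝔮 bijectively onto the
maximal ideal of A_𝔮, i.e. A = A/𝔮 ×_{k(𝔮)} A_𝔮 and P̄ is the gluing of the closure of p to P° along
p. The published statement allows any modulus pair P; this row assumes the total space P̄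
quasi-compact and quasi-separated. -/
theorem result (P : ModPair.Pair.{u})
    [CompactSpace P.total] [QuasiSeparatedSpace P.total] :
    ((∀ (X : ModPair.Pair.{u}) (ι : Type u) (U : ι → ModPair.Pair.{u}) (v : ∀ i, U i ⟶ X),
        (∀ i, ModPair.IsMinimal (U i).mod X.mod (v i).hom ∧ IsOpenImmersion (v i).hom ∧ QuasiCompact (v i).hom) →
        (∀ x : X.total, ∃ (i : ι) (y : (U i).total), (v i).hom.base y = x) →
        ∀ g : P ⟶ X, ∃ (i : ι) (h : P ⟶ U i), h ≫ v i = g) ∧
      (∀ (X : ModPair.Pair.{u}) (ι : Type u) (U : ι → ModPair.Pair.{u}) (v : ∀ i, U i ⟶ X),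
        (∀ i, ModPair.IsMinimal (U i).mod X.mod (v i).hom ∧ IsFinite (v i).hom) →
        (∀ x : X.total, ∃ (i : ι) (y : (U i).total), (v i).hom.base y = x) →
        ∀ g : P ⟶ X, ∃ (i : ι) (h : P ⟶ U i), h ≫ v i = g) ∧
      (∀ (Q : ModPair.Pair.{u}) (X : ModPair.Pair.{u}) (q : Q ⟶ X), ModPair.Pair.admBlowup q →
        ∀ g : P ⟶ X, ∃ h : P ⟶ Q, h ≫ q = g)) ↔
    (IsAffine P.total ∧ IsLocalRing Γ(P.total, ⊤) ∧ IsDomain Γ(P.total, ⊤) ∧
      Curves.IsAIC Γ(P.total, ⊤) ∧
      IsAffine (ModPair.interior P.mod : Scheme.{u}) ∧
      IsLocalRing Γ((ModPair.interior P.mod : Scheme.{u}), ⊤) ∧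
      IsDomain Γ((ModPair.interior P.mod : Scheme.{u}), ⊤) ∧
      Curves.IsAIC Γ((ModPair.interior P.mod : Scheme.{u}), ⊤) ∧
      ∀ p : (ModPair.interior P.mod : Scheme.{u}),
        IsClosed ({p} : Set (ModPair.interior P.mod : Scheme.{u})) →
          ValuationRing (Γ(P.total, ⊤) ⧸ (P.total.toSpecΓ.base ((ModPair.interior P.mod).ι.base p)).asIdeal) ∧
          IsAlgClosed (FractionRing (Γ(P.total, ⊤) ⧸ (P.total.toSpecΓ.base ((ModPair.interior P.mod).ι.base p)).asIdeal)) ∧
          Set.BijOn (algebraMap Γ(P.total, ⊤) (Localization.AtPrime (P.total.toSpecΓ.base ((ModPair.interior P.mod).ι.base p)).asIdeal))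
            ((P.total.toSpecΓ.base ((ModPair.interior P.mod).ι.base p)).asIdeal : Set Γ(P.total, ⊤))
            (IsLocalRing.maximalIdeal (Localization.AtPrime (P.total.toSpecΓ.base ((ModPair.interior P.mod).ι.base p)).asIdeal) :
              Set (Localization.AtPrime (P.total.toSpecΓ.base ((ModPair.interior P.mod).ι.base p)).asIdeal))) := by
  constructor
  · rintro ⟨hz, hf, hb⟩
    obtain ⟨h1, h2⟩ := Groth.Agent.ModPairLocal.zariski_consequences P hz
    haveI := h1
    haveI := h2
    obtain ⟨h3, h4⟩ := Groth.Agent.ModPairLocal.forward P hb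
    obtain ⟨h5, h6⟩ := Groth.Agent.ModPairLocal.finite_consequences P hf
    obtain ⟨g, hg, -, hint⟩ := Groth.Agent.ModPairLocal.exists_generator P
    letI := Groth.Agent.ModPairLocal.interiorAlg P
    haveI : IsLocalization.Away g Γ((ModPair.interior P.mod : Scheme.{u}), ⊤) :=
      Groth.Agent.ModPairLocal.isLocalization_basic g (ModPair.interior P.mod) hint
    haveI := h5
    have h7 : IsDomain Γ((ModPair.interior P.mod : Scheme.{u}), ⊤) :=
      IsLocalization.isDomain_of_le_nonZeroDivisors _ (Submonoid.powers_le.2 hg)
    have h8 : Curves.IsAIC Γ((ModPair.interior P.mod : Scheme.{u}), ⊤) :=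
      Groth.Agent.ModPairLocal.isAIC_localization h6 (Submonoid.powers g)
    refine ⟨h1, h2, h5, h6, Groth.Agent.ModPairLocal.isAffine_interior P, h3, h7, h8, fun p hp =>
      ⟨(h4 p hp).1, Groth.Agent.ModPairLocal.isAlgClosed_fractionRing ?_, (h4 p hp).2⟩⟩
    exact Groth.Agent.ModPairLocal.isAIC_surjective h6 _ Ideal.Quotient.mk_surjective
  · rintro ⟨h1, h2, h5, h6, h3, h4, -, -, h⟩
    haveI := h1
    haveI := h2
    haveI := h3
    haveI := h4
    haveI := h5
    exact ⟨Groth.Agent.ModPairLocal.zarLocal_of_isLocalRing P, Groth.Agent.ModPairLocal.finLocal_of_aic P h6,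
      Groth.Agent.ModPairLocal.blowLocal_of_semiVal P fun p hp => ⟨(h p hp).1, (h p hp).2.2⟩⟩

end Groth.Agent.S19346
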