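import Groth.Statements.S19349
import Mathlib
import Groth.Agent.Nagata.Strict
import Groth.Agent.FittLib.StrictTransform
import Groth.Agent.ModDesc.Iso
import Groth.Agent.QC.Localisation

set_option autoImplicit false
universe u
open RigCh

open CategoryTheory CategoryTheory.Limits
set_option linter.style.haveILetI false

namespace Groth.Agent.S19349

open AlgebraicGeometry CategoryTheory in
/-- Let X be a separated scheme of finite type over a field k, I a quasi-coherent ideal sheaf on X, b :
X' → X a blowing up of X in I and F a coherent O_X-module. Then any strict transform G of F along b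
(an epimorphism from the pullback of F onto G whose kernel consists, affine-locally, of the sections
annihilated by a power of the exceptional ideal) is a coherent module on X': quasi-coherent of
finite type, X' being again of finite type over k. (The source assumes k of positive characteristic;
this plays no role here.) -/
theorem result (k : Type u) [Field k]
    (X : Scheme.{u}) (f : X ⟶ Spec (CommRingCat.of k)) [IsSeparated f] [QuasiCompact f] [LocallyOfFiniteType f]
    (I : X.IdealSheafData) {X' : Scheme.{u}} (b : X' ⟶ X) (hb : BlowUp.IsBlowUp b I)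
    (F : X.Modules) (hF : Coh.IsCoh F) (G : X'.Modules) (π : (Scheme.Modules.pullback b).obj F ⟶ G)
    (hG : BlowUp.IsStrictTransform b I F G π) : Coh.IsCoh G := by
  have hE := hb.1
  let E := I.comap b
  let P := (Scheme.Modules.pullback b).obj F
  have hPq : Coh.IsQCoh P := Groth.Agent.QC.isQCoh_pullback b hF.1
  have hPft : CohB1.IsFT P := Groth.Agent.ModDesc.isFT_pullback b hF.1 hF.2
  haveI : Epi π := hG.1
  let C : X'.Opens := E.support.compl
  haveI : IsAffineHom C.ι := by
    refine isAffineHom_of_forall_exists_isAffineOpen C.ι fun x => ?_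
    obtain ⟨_, ⟨V, hV, rfl⟩, hxV, -⟩ :=
      X'.isBasis_affineOpens.exists_subset_of_mem_open (Set.mem_univ x) isOpen_univ
    obtain ⟨W, a, hxW, hWV, ha, hWa⟩ := FittLib.exists_equation hE V hxV
    refine ⟨W.1, hxW, W.2, ?_⟩
    rw [← Scheme.Hom.isAffineOpen_iff_of_isOpenImmersion C.ι, Scheme.Hom.image_preimage_eq_opensRange_inf,
      Scheme.Opens.opensRange_ι, inf_comm, Groth.Agent.Nagata.notMem_support_of_basicOpen hWa]
    exact W.2.basicOpen a
  let η := (Scheme.Modules.restrictAdjunction C.ι).unit.app P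
  have hQ : Coh.IsQCoh ((Scheme.Modules.pushforward C.ι).obj ((Scheme.Modules.restrictFunctor C.ι).obj P)) := by
    haveI : ((Scheme.Modules.restrictFunctor C.ι).obj P).IsQuasicoherent := Groth.Agent.QC.isQCoh_restrict C.ι hPq
    exact Groth.Agent.QC.isQCoh_pushforward C.ι
  have hK : Coh.IsQCoh (kernel η) := Groth.Agent.QC.isQCoh_kernel hPq hQ η
  have hvan : ∀ O (m : Γ(P, O)), π.app O m = 0 ↔ η.app O m = 0 := by
    intro O m
    have hle : C.ι ''ᵁ C.ι ⁻¹ᵁ O = O ⊓ C := by
      rw [Scheme.Hom.image_preimage_eq_opensRange_inf, Scheme.Opens.opensRange_ι, inf_comm]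
    have e : η.app O m = Groth.Agent.QC.res P (C.ι.image_preimage_le O) m := rfl
    have hiff : η.app O m = 0 ↔ Groth.Agent.QC.res P (inf_le_left : O ⊓ C ≤ O) m = 0 := by
      constructor
      · intro h
        have h0 : Groth.Agent.QC.res P (C.ι.image_preimage_le O) m = 0 := e.symm.trans h
        have h' := congrArg (Groth.Agent.QC.res P hle.ge) h0
        rw [Groth.Agent.QC.res_res, map_zero] at h'
        exact h'
      · intro h
        rw [e, ← Groth.Agent.QC.res_res P hle.le (inf_le_left : O ⊓ C ≤ O), h, map_zero]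
        rfl
    rw [hiff]
    constructor
    · intro h
      refine Groth.Agent.QC.section_eq_of_locally fun x hx => ?_
      obtain ⟨_, ⟨V, hV, rfl⟩, hxV, hVO : V ≤ O⟩ := X'.isBasis_affineOpens.exists_subset_of_mem_open hx.1 O.2
      refine ⟨V ⊓ C, inf_le_inf_right C hVO, ⟨hxV, hx.2⟩, ?_⟩
      have hv : π.app V (Groth.Agent.QC.res P hVO m) = 0 := by
        rw [← Groth.Agent.QC.app_res π hVO m, h, map_zero]
      have hk := (Groth.Agent.Nagata.killed_iff_vanish hE hPq ⟨V, hV⟩ _).1 ((hG.2 ⟨V, hV⟩ _).1 hv)
      rw [Groth.Agent.Nagata.mem_vanishSub_iff] at hk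
      rw [Groth.Agent.QC.res_res, map_zero]
      rw [Groth.Agent.QC.res_res] at hk
      exact hk
    · intro h
      refine Groth.Agent.QC.section_eq_of_locally fun x hx => ?_
      obtain ⟨_, ⟨V, hV, rfl⟩, hxV, hVO : V ≤ O⟩ := X'.isBasis_affineOpens.exists_subset_of_mem_open hx O.2
      refine ⟨V, hVO, hxV, ?_⟩
      rw [map_zero, Groth.Agent.QC.app_res]
      refine (hG.2 ⟨V, hV⟩ _).2 ((Groth.Agent.Nagata.killed_iff_vanish hE hPq ⟨V, hV⟩ _).2 ?_)
      rw [Groth.Agent.Nagata.mem_vanishSub_iff]
      rw [Groth.Agent.QC.res_res, ← Groth.Agent.QC.res_res P (inf_le_inf_right C hVO) inf_le_left, h, map_zero]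
  obtain ⟨e, he⟩ := Groth.Agent.QC.exists_iso_of_range_eq (kernel.ι η) (kernel.ι π) fun O => by
    ext m
    rw [Groth.Agent.QC.mem_range_kernel_app, Groth.Agent.QC.mem_range_kernel_app, hvan]
  have hKπ : Coh.IsQCoh (kernel π) := Groth.Agent.QC.isQCoh_of_iso e hK
  refine ⟨?_, Groth.Agent.QC.isFT_of_epi π hPft⟩
  exact Groth.Agent.QC.isQCoh_of_iso ((cokernelIsCokernel (kernel.ι π)).coconePointUniqueUpToIso
    (Abelian.epiIsCokernelOfKernel _ (limit.isLimit (parallelPair π 0)))) (Groth.Agent.QC.isQCoh_cokernel hKπ hPq (kernel.ι π))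

end Groth.Agent.S19349
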