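import Groth.Statements.S19350
import Groth.Agent.Nagata.Strict
import Groth.Agent.LocFree.Props
-- import your own Groth.Agent.* helpers here

set_option autoImplicit false
universe u
open RigCh

namespace Groth.Agent.S19350

open AlgebraicGeometry CategoryTheory in
/-- Let X be a separated scheme of finite type over a field k, I a quasi-coherent ideal sheaf on X, b :
X' → X a blowing up of X in I and F a finite locally free O_X-module. Then for any strict transform
G of F along b (an epimorphism π from the pullback of F onto G whose kernel consists,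
affine-locally, of the sections annihilated by a power of the exceptional ideal), π is an
isomorphism and G is finite locally free. (The published statement asserts only that the strict
transform is locally free. The source assumes k of positive characteristic, which plays no role
here.) -/
theorem result (k : Type u) [Field k]
    (X : Scheme.{u}) (f : X ⟶ Spec (CommRingCat.of k)) [IsSeparated f] [QuasiCompact f] [LocallyOfFiniteType f]
    (I : X.IdealSheafData) {X' : Scheme.{u}} (b : X' ⟶ X) (hb : BlowUp.IsBlowUp b I)
    (F : X.Modules) (hF : FlatMod.IsFinLocFree F) (G : X'.Modules) (π : (Scheme.Modules.pullback b).obj F ⟶ G)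
    (hG : BlowUp.IsStrictTransform b I F G π) : IsIso π ∧ FlatMod.IsFinLocFree G := by
  let P := (Scheme.Modules.pullback b).obj F
  have hP : FlatMod.IsFinLocFree P := DerPerf.isFinLocFree_pullback b hF
  have hPq : Coh.IsQCoh P := Groth.Agent.LocFree.isQCoh_of_isFinLocFree hP
  haveI : Epi π := hG.1
  haveI : Mono π := by
    rw [Groth.Agent.QC.mono_iff_app_injective]
    intro O
    refine (injective_iff_map_eq_zero _).2 fun m hm => Groth.Agent.QC.section_eq_of_locally fun x hx => ?_
    obtain ⟨_, ⟨V, hV, rfl⟩, hxV, hVO : V ≤ O⟩ := X'.isBasis_affineOpens.exists_subset_of_mem_open hx O.2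
    refine ⟨V, hVO, hxV, ?_⟩
    rw [map_zero]
    have hmV : π.app V (Groth.Agent.QC.res P hVO m) = 0 := by
      have e := (Groth.Agent.QC.app_res π hVO m)
      rw [← e, hm, map_zero]
    have hk := (hG.2 ⟨V, hV⟩ _).1 hmV
    have hv := (Groth.Agent.Nagata.killed_iff_vanish hb.1 hPq ⟨V, hV⟩ _).1 hk
    rw [Groth.Agent.Nagata.mem_vanishSub_iff] at hv
    refine Groth.Agent.QC.section_eq_of_locally fun y hy => ?_
    obtain ⟨W, a, hyW, hWV, ha, hWa⟩ := FittLib.exists_equation hb.1 V hy
    refine ⟨W.1, hWV, hyW, ?_⟩
    rw [map_zero]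
    have hbo := Groth.Agent.Nagata.notMem_support_of_basicOpen hWa
    have h0 : Groth.Agent.QC.res P (X'.basicOpen_le a) (Groth.Agent.QC.res P hWV (Groth.Agent.QC.res P hVO m)) = 0 := by
      rw [Groth.Agent.QC.res_res P, ← Groth.Agent.QC.res_res P
        (le_inf ((X'.basicOpen_le a).trans hWV) (hbo.ge.trans inf_le_right)) inf_le_left]
      exact (congrArg _ hv).trans (map_zero _)
    haveI : P.IsQuasicoherent := hPq
    obtain ⟨n, hn⟩ := (Groth.Agent.QC.isLoc_of_isQCoh (M := P) W.2).exists_pow_smul_eq_zero a _ h0
    haveI : Module.Projective Γ(X', W.1) Γ(P, W.1) := Groth.Agent.LocFree.projective_sections hP W.2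
    have hreg : IsSMulRegular Γ(P, W.1) (a ^ n) :=
      Module.Flat.isSMulRegular_of_nonZeroDivisors (pow_mem ha n)
    exact hreg (hn.trans (smul_zero _).symm)
  haveI : IsIso π := isIso_of_mono_of_epi π
  refine ⟨inferInstance, fun x => ?_⟩
  obtain ⟨V, n, hV, ⟨e⟩⟩ := hP x
  exact ⟨V, n, hV, ⟨((Scheme.Modules.restrictFunctor V.ι).mapIso (asIso π)).symm ≪≫ e⟩⟩

end Groth.Agent.S19350
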