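import Groth.Statements.S19352
import Groth.Agent.Intersect.Surface
import Groth.Agent.Intersect.Hyper
import Groth.Agent.ProjSep.Main
import Groth.Agent.Intersect.Asymp

set_option autoImplicit false
universe u
open CategoryTheory CategoryTheory.Limits AlgebraicGeometry
open Surf

namespace Groth.Agent.S19352

/-- Let k be an algebraically closed field and X a nonsingular projective surface over k, namely an
integral scheme, smooth over k, of dimension two, given with a closed immersion ι into a projective
space P^n_k over k, and let H = ι^* O(1) be the invertible module of a hyperplane section. If L is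
an invertible O_X-module (the module of a divisor D) with dim_k H^0(X, L) > 1, then (L·H) > 0. Here
(A·B) denotes the intersection number of two invertible modules, the alternating sum χ(O_X) − χ(A) −
χ(B) + χ(A ⊗ B) of Euler characteristics (cohomology in degrees at most two); for two invertible
modules this agrees with the same sum formed from their inverses. -/
theorem result (k : Type u) [Field k] [IsAlgClosed k]
    (X : Scheme.{u}) [X.Over (Spec (CommRingCat.of k))] [AlgebraicGeometry.IsIntegral X]
    [Smooth (X ↘ Spec (CommRingCat.of k))] (hdim : topologicalKrullDim X = 2)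
    (n : ℕ) (ι : X ⟶ CohB1.ProjSpace n k) [IsClosedImmersion ι]
    (hι : ι ≫ CohB1.ProjSpace.toSpec n k = X ↘ Spec (CommRingCat.of k))
    (L : X.Modules) (hL : PicF.IsInvertible L)
    (hsec : 1 < Module.finrank k (Coh.HH X L 0)) :
    0 < FGA.intNum k X 2 ![L, (Scheme.Modules.pullback ι).obj (Twist.twistProjSpace n k 1)] (Coh.structureModule X) := by
  haveI : IsProper (X ↘ Spec (CommRingCat.of k)) :=
    Groth.Agent.ProjSep.isProper_of_proj ⟨n, ι, inferInstance, hι⟩
  haveI := Groth.Agent.CurveRR.isNoetherian_of_proper k X
  have hH := Groth.Agent.Intersect.isAmple_hyperplane n ι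
  have hO : Coh.IsCoh (Coh.structureModule X) := RefStalk.isCoh_structureModule
  obtain ⟨s, hs⟩ := Groth.Agent.CurveRR.exists_section (k := k) (L := L)
    (show Module.finrank k (Coh.HH X L 0) ≠ 0 by omega)
  haveI := Groth.Agent.CurveRR.mono_of_ne_zero TMul.isInvertible_structureModule hL s hs
  rcases Groth.Agent.Intersect.coker_section_cases k hdim hL s with hiso | hQd
  · exfalso
    have h1 : Module.finrank k (Coh.HH X L 0) = 1 :=
      (Groth.Agent.CurveRR.h_eq_of_iso (asIso s).symm 0).trans (Groth.Agent.CurveRR.h0_structure k X)
    omega
  · have hQ := Groth.Agent.QC.isCoh_cokernel hO.1 (Groth.Agent.CurveRR.isCoh_of_inv hL) s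
    let H := (Scheme.Modules.pullback ι).obj (Twist.twistProjSpace n k 1)
    have hH' : ∀ i : Fin 1, PicF.IsInvertible ((![H] : Fin 1 → X.Modules) i) := fun i => by fin_cases i; exact hH.1
    have h1 := Groth.Agent.Intersect.alt_coker_section k hL s hH'
    have h2 := Groth.Agent.Intersect.alt_pos k 1 ![H] (fun i => by fin_cases i; exact hH) _ hQ hQd
    have h4 : (0 : ℚ) < FGA.intNum k X 2 ![L, H] (Coh.structureModule X) := by
      rw [Groth.Agent.Intersect.intNum_eq_alt k 2 hdim.le,
        show (![L, H] : Fin 2 → X.Modules) = Fin.cons L ![H] from rfl, h1]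
      rw [pow_one] at h2
      linarith
    exact_mod_cast h4

end Groth.Agent.S19352
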