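import Groth.Statements.S19356
import Mathlib

set_option autoImplicit false
universe u
open AbVar

namespace Groth.Agent.S19356

/-- Let R be a finite-dimensional ℚ-algebra with a ℚ-linear involution x ↦ x† (an anti-automorphism of
order two) and a ℚ-linear functional σ with σ(x x†) > 0 for every x ≠ 0; this is the positivity of
the involution, σ being the trace of R over ℚ in the case of the endomorphism algebra of an abelian
variety with a Rosati involution, and the trace on a cohomology group in the case of an algebra of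
correspondences with the adjoint for a Weil form. Let α ∈ R with α α† = q for a rational number q.
Then α† lies in the subalgebra ℚ[α], and for every ℚ-algebra homomorphism ρ : ℚ[α] → ℂ one has ρ(α†)
= the complex conjugate of ρ(α) and |ρ(α)|² = q. (The published statement is for the endomorphism
algebra of an abelian variety with a Rosati involution, with σ its trace over ℚ and q an integer;
the form given here, for an arbitrary ℚ-linear functional σ positive on every x x† with x ≠ 0 and
rational q, is what its proof establishes.) -/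
theorem result (R : Type u) [Ring R] [Algebra ℚ R]
    [Module.Finite ℚ R] [StarRing R] [StarModule ℚ R]
    (σ : R →ₗ[ℚ] ℚ) (hpos : ∀ x : R, x ≠ 0 → 0 < σ (x * star x))
    (α : R) (q : ℚ) (hα : α * star α = algebraMap ℚ R q) :
    ∃ hmem : star α ∈ Algebra.adjoin ℚ ({α} : Set R),
      ∀ ρ : Algebra.adjoin ℚ ({α} : Set R) →ₐ[ℚ] ℂ,
        ρ ⟨star α, hmem⟩ = starRingEnd ℂ (ρ ⟨α, Algebra.self_mem_adjoin_singleton ℚ α⟩) ∧
          ‖ρ ⟨α, Algebra.self_mem_adjoin_singleton ℚ α⟩‖ ^ 2 = (q : ℝ) := by
  classical
  let K := Algebra.adjoin ℚ ({α} : Set R)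
  haveI : Module.Finite ℚ K := FiniteDimensional.finiteDimensional_subalgebra K
  have hmem : star α ∈ K := by
    rcases eq_or_ne α 0 with h0 | h0
    · rw [h0, star_zero]; exact K.zero_mem
    have h1 : (0 : ℚ) < q * σ 1 := by
      have := hpos α h0
      rwa [hα, Algebra.algebraMap_eq_smul_one, map_smul, smul_eq_mul] at this
    have hq : q ≠ 0 := fun h => by rw [h, zero_mul] at h1; exact lt_irrefl _ h1
    have hu : α * (q⁻¹ • star α) = 1 := by
      rw [mul_smul_comm, hα, Algebra.algebraMap_eq_smul_one, smul_smul, inv_mul_cancel₀ hq, one_smul]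
    have hinjR : Function.Injective (LinearMap.mulLeft ℚ α) := LinearMap.injective_iff_surjective.2 fun y =>
      ⟨q⁻¹ • star α * y, show α * (q⁻¹ • star α * y) = y by rw [← mul_assoc, hu, one_mul]⟩
    let A : K := ⟨α, Algebra.self_mem_adjoin_singleton ℚ α⟩
    have hinj : Function.Injective (LinearMap.mulLeft ℚ A) := fun a b h =>
      Subtype.ext (hinjR (congrArg Subtype.val h))
    obtain ⟨v, hv⟩ := LinearMap.injective_iff_surjective.1 hinj 1
    have hv' : α * v.1 = 1 := congrArg Subtype.val hv
    have : v.1 = q⁻¹ • star α := hinjR (show α * v.1 = α * (q⁻¹ • star α) by rw [hv', hu])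
    have e : star α = q • v.1 := by rw [this, smul_smul, mul_inv_cancel₀ hq, one_smul]
    rw [e]
    exact K.smul_mem v.2 q
  refine ⟨hmem, fun ρ => ?_⟩
  letI : CommRing K := { (inferInstance : Ring K) with
    mul_comm := fun a b => Subtype.ext (Algebra.commute_of_mem_adjoin_singleton_of_commute b.2
      (Algebra.commute_of_mem_adjoin_singleton_of_commute a.2 (Commute.refl α)).symm).eq }
  have hst : ∀ y ∈ K, star y ∈ K := by
    intro y hy
    induction hy using Algebra.adjoin_induction with
    | mem z hz => rw [Set.mem_singleton_iff.1 hz]; exact hmem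
    | algebraMap r =>
      rw [Algebra.algebraMap_eq_smul_one, star_smul, star_one, star_trivial]
      exact K.smul_mem K.one_mem r
    | add a b _ _ ha hb => rw [star_add]; exact K.add_mem ha hb
    | mul a b _ _ ha hb => rw [star_mul]; exact K.mul_mem hb ha
  let T : K →ₗ[ℚ] K :=
    { toFun := fun y => ⟨star y.1, hst y.1 y.2⟩
      map_add' := fun a b => Subtype.ext (star_add a.1 b.1)
      map_smul' := fun c a => Subtype.ext (by
        show star (c • a.1) = c • star a.1
        rw [star_smul, star_trivial]) }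
  have hTT : ∀ y, T (T y) = y := fun y => Subtype.ext (star_star y.1)
  have hTm : ∀ a b, T (a * b) = T a * T b := fun a b => by
    rw [mul_comm (T a)]; exact Subtype.ext (star_mul a.1 b.1)
  let τ : K →ₗ[ℚ] ℚ := σ ∘ₗ K.val.toLinearMap + σ ∘ₗ K.val.toLinearMap ∘ₗ T
  have hτT : ∀ y, τ (T y) = τ y := fun y => by
    simp only [τ, LinearMap.add_apply, LinearMap.comp_apply, hTT]
    rw [add_comm]
  have hτ : ∀ y : K, y ≠ 0 → 0 < τ (y * T y) := fun y hy => by
    have h := hpos y.1 (fun h => hy (Subtype.ext h))
    have e : T (y * T y) = y * T y := by rw [hTm, hTT, mul_comm]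
    simp only [τ, LinearMap.add_apply, LinearMap.comp_apply, e]
    exact add_pos h h
  obtain ⟨e, he⟩ := LinearMap.BilinForm.exists_orthogonal_basis
    (B := (LinearMap.mul ℚ K).compl₂ T |>.compr₂ τ)
    ⟨fun a b => by
      show τ (a * T b) = τ (b * T a)
      rw [← hτT (a * T b), hTm, hTT, mul_comm]⟩
  have he' : ∀ i j, i ≠ j → τ (e i * T (e j)) = 0 := fun i j h => he h
  have hexp : ∀ y : K, y = ∑ i, ((τ (e i * T (e i)))⁻¹ * τ (y * T (e i))) • e i := by
    intro y
    conv_lhs => rw [← e.sum_repr y]
    refine Finset.sum_congr rfl fun i _ => ?_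
    congr 1
    have h1 : τ (y * T (e i)) = e.repr y i * τ (e i * T (e i)) := by
      conv_lhs => rw [← e.sum_repr y]
      rw [Finset.sum_mul, map_sum, Finset.sum_eq_single i]
      · rw [smul_mul_assoc, map_smul, smul_eq_mul]
      · intro j _ hj
        rw [smul_mul_assoc, map_smul, he' j i hj, smul_zero]
      · simp
    rw [h1, inv_mul_eq_div, mul_div_assoc, div_self (hτ _ (e.ne_zero i)).ne', mul_one]
  let c : _ → ℂ := fun i => (((τ (e i * T (e i)))⁻¹ : ℚ) : ℂ)
  let N : ℂ := ∑ i, c i * (starRingEnd ℂ (ρ (e i)) * ρ (e i))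
  have hρ : ∀ (r : ℚ) (a : K), ρ (r • a) = (r : ℂ) * ρ a := fun r a => by
    rw [map_smul, Algebra.smul_def]; simp
  have key : ∀ y : K, ρ (T y) * N = starRingEnd ℂ (ρ y) * N := by
    have h2 : ∀ y : K, ρ y * N = ∑ i, ∑ j,
        c i * c j * ((τ (y * e i * T (e j)) : ℚ) : ℂ) * (starRingEnd ℂ (ρ (e i)) * ρ (e j)) := by
      intro y
      rw [Finset.mul_sum]
      refine Finset.sum_congr rfl fun i _ => ?_
      have h3 : ρ (y * e i) = ∑ j, c j * ((τ (y * e i * T (e j)) : ℚ) : ℂ) * ρ (e j) := by
        conv_lhs => rw [hexp (y * e i), map_sum]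
        refine Finset.sum_congr rfl fun j _ => ?_
        rw [hρ]; simp only [c]; push_cast; rfl
      rw [show ρ y * (c i * (starRingEnd ℂ (ρ (e i)) * ρ (e i))) =
        c i * starRingEnd ℂ (ρ (e i)) * ρ (y * e i) by rw [map_mul]; ring, h3, Finset.mul_sum]
      exact Finset.sum_congr rfl fun j _ => by ring
    have hN : starRingEnd ℂ N = N := by
      simp only [N, map_sum, map_mul, Complex.conj_conj, c, map_ratCast]
      exact Finset.sum_congr rfl fun i _ => by ring
    intro y
    rw [h2, ← hN, ← map_mul, h2, map_sum]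
    conv_rhs => simp only [map_sum]
    rw [Finset.sum_comm]
    refine Finset.sum_congr rfl fun i _ => Finset.sum_congr rfl fun j _ => ?_
    have e1 : τ (T y * e j * T (e i)) = τ (y * e i * T (e j)) := by
      rw [← hτT (T y * e j * T (e i)), hTm, hTm, hTT, hTT, mul_assoc, mul_comm (T (e j)), ← mul_assoc]
    simp only [e1, map_mul, Complex.conj_conj, c, map_ratCast]
    ring
  have hN0 : N ≠ 0 := by
    have hre : N.re = ∑ i, ((τ (e i * T (e i)))⁻¹ : ℚ) * Complex.normSq (ρ (e i)) := by
      simp only [N, c, ← Complex.normSq_eq_conj_mul_self, Complex.re_sum]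
      exact Finset.sum_congr rfl fun i _ => by simp
    have hpos' : ∃ i, ρ (e i) ≠ 0 := by
      by_contra h
      push Not at h
      have h1 : ρ (1 : K) = 0 := by
        rw [hexp 1, map_sum]
        exact Finset.sum_eq_zero fun i _ => by rw [hρ, h, mul_zero]
      rw [map_one] at h1
      exact one_ne_zero h1
    obtain ⟨i, hi⟩ := hpos'
    have : 0 < N.re := by
      rw [hre]
      refine Finset.sum_pos' (fun j _ => mul_nonneg ?_ (Complex.normSq_nonneg _))
        ⟨i, Finset.mem_univ i, mul_pos ?_ (Complex.normSq_pos.2 hi)⟩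
      · exact_mod_cast inv_nonneg.2 (hτ _ (e.ne_zero j)).le
      · exact_mod_cast inv_pos.2 (hτ _ (e.ne_zero i))
    intro h
    rw [h] at this
    exact lt_irrefl _ this
  let A : K := ⟨α, Algebra.self_mem_adjoin_singleton ℚ α⟩
  have h1 : ρ ⟨star α, hmem⟩ = starRingEnd ℂ (ρ A) := mul_right_cancel₀ hN0 (key A)
  refine ⟨h1, ?_⟩
  have h2 : ρ A * ρ ⟨star α, hmem⟩ = (q : ℂ) := by
    rw [← map_mul, show A * ⟨star α, hmem⟩ = algebraMap ℚ K q from Subtype.ext hα, AlgHom.commutes]
    simp
  rw [h1, Complex.mul_conj] at h2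
  rw [Complex.sq_norm]
  exact_mod_cast h2

end Groth.Agent.S19356
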