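import Groth.Statements.S19358
import Groth.Agent.FanLib.Basic

set_option autoImplicit false
universe u
open CategoryTheory Opposite Instab
open Instab Instab.Fan

namespace Groth.Agent.S19358

/-- Let f : F ⟶ G be a map of formal fans. If f is injective on n-cones for every n, then the induced
continuous map of projective realizations P F → P G is injective; if f is surjective on n-cones for
every n, then P F → P G is surjective. -/
theorem result {F G : Fan.{u}} (f : F ⟶ G) :
    ((∀ n : ICone, Function.Injective (f.app (op n))) → Function.Injective (Fan.P.map f)) ∧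
    ((∀ n : ICone, Function.Surjective (f.app (op n))) → Function.Surjective (Fan.P.map f)) := by
  refine ⟨fun hf => fun x x' h => ?_, fun hf => fun x => ?_⟩
  · obtain ⟨n, ξ, v, rfl⟩ := FanLib.exists_mk x
    obtain ⟨n', ξ', v', rfl⟩ := FanLib.exists_mk x'
    obtain ⟨k, φ₁, φ₂, y, c₁, c₂, e, h₁, h₂, e₁, e₂⟩ := FanLib.exists_common h
    refine FanLib.mk_eq_of_common φ₁ φ₂ y c₁ c₂ (hf k ?_) h₁ h₂ e₁ e₂
    rw [FanLib.naturality_op, FanLib.naturality_op]
    exact e
  · obtain ⟨n, ξ, v, rfl⟩ := FanLib.exists_mk x
    obtain ⟨a, ha⟩ := hf n ξ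
    exact ⟨Fan.P.mk a v, by rw [FanLib.map_mk, ha]⟩

end Groth.Agent.S19358
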