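import Groth.Statements.S19359
import Groth.Agent.FanLib.Bounded

set_option autoImplicit false
universe u
set_option backward.isDefEq.respectTransparency false
open CategoryTheory Opposite Instab
open Instab Instab.Fan

namespace Groth.Agent.S19359

/-- A formal fan G is quasi-separated (the fibre product of any two of its cones is a bounded fan) if
and only if, for every bounded formal fan F, every map of fans F ⟶ G is bounded (its base change
along each cone of G is a bounded fan). -/
theorem result (G : Fan.{u}) :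
    G.IsQuasiSeparated ↔
      ∀ (F : Fan.{u}) (f : F ⟶ G), F.IsBounded → Fan.IsBoundedMap f := by
  classical
  refine ⟨fun hG F f hF n σ => ?_, fun h n₀ n₁ σ₀ σ₁ => h _ _ (FanLib.isBounded_hom n₀) n₁ σ₁⟩
  obtain ⟨s, hs⟩ := hF
  choose t ht using fun e : (Σ m : ICone, F.obj (op m)) => hG e.1 n (f.app _ e.2) σ
  have hc : ∀ e : (Σ m : ICone, F.obj (op m)), Fan.coneMap e.2 ≫ f = Fan.coneMap (f.app _ e.2) := fun e => by
    apply uliftYonedaEquiv.{u}.injective
    rw [uliftYonedaEquiv_comp, Fan.coneMap, Fan.coneMap, Equiv.apply_symm_apply, Equiv.apply_symm_apply]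
  let L : ∀ e : (Σ m : ICone, F.obj (op m)),
      Limits.pullback (Fan.coneMap (f.app _ e.2)) (Fan.coneMap σ) ⟶ Limits.pullback f (Fan.coneMap σ) := fun e =>
    Limits.pullback.lift (Limits.pullback.fst _ _ ≫ Fan.coneMap e.2) (Limits.pullback.snd _ _)
      (by rw [Category.assoc, hc, Limits.pullback.condition])
  refine ⟨s.biUnion fun e => (t e).image fun p => ⟨p.1, (L e).app _ p.2⟩, fun x => ?_⟩
  obtain ⟨k, q, y, rfl⟩ := FanLib.exists_mk x
  obtain ⟨e, he, z, hz⟩ := hs (Fan.P.mk ((Limits.pullback.fst f (Fan.coneMap σ)).app _ q) y)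
  obtain ⟨k', γ₁, γ₂, w, c₁, c₂, heq, h₁, h₂, e₁, e₂⟩ := FanLib.exists_common hz.symm
  have hq := FanLib.pullback_elem_condition f (Fan.coneMap σ) q
  obtain ⟨p, hp₁, hp₂⟩ := FanLib.exists_pullback_elem (Fan.coneMap (f.app _ e.2)) (Fan.coneMap σ)
    (ULift.up γ₂) ((uliftYoneda.{u}.obj n).map γ₁.op ((Limits.pullback.snd f (Fan.coneMap σ)).app _ q))
    (by
      rw [FanLib.coneMap_app, ← FanLib.naturality_op, ← heq, FanLib.naturality_op, hq, ← FanLib.naturality_op])
  obtain ⟨p', hp', z', hz'⟩ := ht e (Fan.P.mk p w)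
  refine ⟨_, Finset.mem_biUnion.2 ⟨e, he, Finset.mem_image_of_mem _ hp'⟩, z', ?_⟩
  have hLp : (L e).app _ p = (Limits.pullback f (Fan.coneMap σ)).map γ₁.op q := by
    refine FanLib.pullback_elem_ext f (Fan.coneMap σ) ?_ ?_
    · rw [← NatTrans.comp_app_apply, Limits.pullback.lift_fst, NatTrans.comp_app_apply, hp₁,
        FanLib.coneMap_app, ← heq, FanLib.naturality_op]
    · rw [← NatTrans.comp_app_apply, Limits.pullback.lift_snd, hp₂, FanLib.naturality_op]
  rw [← FanLib.map_mk, hz', FanLib.map_mk, hLp]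
  exact FanLib.mk_glue γ₁ q w y c₁ h₁ e₁

end Groth.Agent.S19359
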