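import Groth.Statements.S19363
import Groth.Agent.FanLib.Bounded

set_option autoImplicit false
universe u
set_option backward.isDefEq.respectTransparency false
open CategoryTheory Opposite Instab
open Instab Instab.Fan

namespace Groth.Agent.S19363

/-- Let ψ : F ⟶ G be a bounded map of formal fans. Then the induced map P F → P G is a closed map whose
fibres are finite, and its image meets each rational simplex of P G in a finite union of closed
rational sub-simplices: for every n-cone ξ of G there are finitely many cone morphisms φ into [n]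
such that a nonzero nonnegative vector v of ℝ^n gives a point of the image exactly when v is a
positive multiple of φ y for one of these φ and some nonzero nonnegative y. -/
theorem result {F G : Fan.{u}} (ψ : F ⟶ G)
    (hψ : Fan.IsBoundedMap ψ) :
    IsClosedMap (Fan.P.map ψ) ∧ (∀ y : Fan.P G, (Fan.P.map ψ ⁻¹' {y}).Finite) ∧
    ∀ (n : ICone) (ξ : G.obj (op n)), ∃ s : Finset (Σ k : ICone, k ⟶ n),
      {v : Fan.Orth n | Fan.P.mk ξ v ∈ Set.range (Fan.P.map ψ)} =
        ⋃ e ∈ s, {v : Fan.Orth n | ∃ (y : Fan.Orth e.1) (c : ℝ), 0 < c ∧ v.1 = c • e.2.realMap y.1} := by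
  classical
  refine ⟨FanLib.isClosedMap_of_isBoundedMap ψ hψ, fun y => ?_, fun n ξ => ?_⟩
  · obtain ⟨n, ξ, v, rfl⟩ := FanLib.exists_mk y
    obtain ⟨s, -, hs'⟩ := FanLib.exists_cells ψ hψ ξ
    refine (Set.Finite.biUnion s.finite_toSet (t := fun e => {x : Fan.P F | ∃ y : Fan.Orth e.1,
      Fan.P.mk e.2.1 y = x ∧ v.1 = e.2.2.realMap y.1}) fun e _ => Set.Subsingleton.finite ?_).subset ?_
    · rintro _ ⟨y, rfl, hy⟩ _ ⟨z, rfl, hz⟩
      rw [Subtype.ext (FanLib.realMap_injective e.2.2 (hy.symm.trans hz))]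
    · intro x hx
      obtain ⟨e, he, y, hy⟩ := hs' x v hx
      exact Set.mem_iUnion₂.2 ⟨e, he, y, hy⟩
  · obtain ⟨s, hs, hs'⟩ := FanLib.exists_cells ψ hψ ξ
    refine ⟨s.image fun e => ⟨e.1, e.2.2⟩, ?_⟩
    rw [← Set.image_univ, FanLib.preimage_image_eq ψ ξ s hs hs' Set.univ, Finset.set_biUnion_finset_image]
    refine Set.iUnion₂_congr fun e _ => Set.ext fun w => ?_
    constructor
    · rintro ⟨y, -, hy⟩
      exact ⟨y, 1, one_pos, by rw [one_smul]; exact hy⟩
    · rintro ⟨y, c, hc, hy⟩
      exact ⟨FanLib.scale c hc y, trivial, by rw [hy, ← FanLib.realMap_smul]; rfl⟩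

end Groth.Agent.S19363
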