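import Groth.Statements.S19365
import Groth.Agent.FanLib.Bounded

set_option autoImplicit false
universe u
set_option backward.isDefEq.respectTransparency false
open CategoryTheory Opposite Instab
open Instab Instab.Fan

namespace Groth.Agent.S19365

/-- Let F ⟶ G be a map of formal fans which is bounded and injective on n-cones for every n (a bounded
sub-fan). Then the induced map P F → P G is a closed embedding. (The description of its preimage
under a rational simplex as a finite union of rational sub-simplices is the corresponding assertion
for bounded maps and is not repeated here.) -/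
theorem result {F G : Fan.{u}} (ψ : F ⟶ G)
    (hψ : Fan.IsBoundedMap ψ) (hinj : ∀ n : ICone, Function.Injective (ψ.app (op n))) :
    Topology.IsClosedEmbedding (Fan.P.map ψ) := by
  refine Topology.IsClosedEmbedding.of_continuous_injective_isClosedMap (FanLib.continuous_map ψ) (fun x x' h => ?_)
    (FanLib.isClosedMap_of_isBoundedMap ψ hψ)
  obtain ⟨n, ξ, v, rfl⟩ := FanLib.exists_mk x
  obtain ⟨n', ξ', v', rfl⟩ := FanLib.exists_mk x'
  obtain ⟨k, φ₁, φ₂, y, c₁, c₂, e, h₁, h₂, e₁, e₂⟩ := FanLib.exists_common h
  refine FanLib.mk_eq_of_common φ₁ φ₂ y c₁ c₂ (hinj k ?_) h₁ h₂ e₁ e₂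
  rw [FanLib.naturality_op, FanLib.naturality_op]
  exact e

end Groth.Agent.S19365
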