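import Groth.Statements.S19374
import Groth.Agent.FanLib.Basic

set_option autoImplicit false
universe u
open CategoryTheory Opposite Instab
open Instab Instab.Fan

namespace Groth.Agent.S19374

/-- Let F be a formal fan and U ⊆ P F. Then U is locally convex in the simplex-wise sense — for every
rational simplex, a ray lying strictly between two rays that map into U also maps into U — if and
only if, for every n-cone ξ of F, the set of nonzero nonnegative vectors v of ℝ^n whose point of the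
rational simplex of ξ lies in U is a convex subset of ℝ^n (convexity of the preimage of U in each
punctured cone of the affine realization). -/
theorem result (F : Fan.{u}) (U : Set (Fan.P F)) :
    Fan.IsLocallyConvex U ↔
      ∀ (n : ICone) (ξ : F.obj (op n)),
        Convex ℝ {v : Fin n.dim → ℝ | ∃ h : (∀ i, 0 ≤ v i) ∧ v ≠ 0, Fan.P.mk ξ (⟨v, h⟩ : Fan.Orth n) ∈ U} := by
  constructor
  · intro hU n ξ
    rw [convex_iff_forall_pos]
    rintro v ⟨hv, hvU⟩ w ⟨hw, hwU⟩ a b ha hb -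
    have hn : (∀ i, 0 ≤ (a • v + b • w) i) ∧ a • v + b • w ≠ 0 := by
      refine ⟨fun i => add_nonneg (mul_nonneg ha.le (hv.1 i)) (mul_nonneg hb.le (hw.1 i)), fun h => hv.2 (funext fun i => ?_)⟩
      have h1 := congrFun h i
      simp only [Pi.add_apply, Pi.smul_apply, smul_eq_mul, Pi.zero_apply] at h1
      have h2 := mul_nonneg ha.le (hv.1 i)
      have h3 := mul_nonneg hb.le (hw.1 i)
      exact (mul_eq_zero.1 (le_antisymm (by linarith) h2)).resolve_left ha.ne'
    exact ⟨hn, hU n ξ ⟨v, hv⟩ ⟨_, hn⟩ ⟨w, hw⟩ hvU hwU ⟨a, b, ha, hb, rfl⟩⟩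
  · rintro hU n ξ ⟨v₀, h₀⟩ ⟨v₁, h₁⟩ ⟨v₂, h₂⟩ hv₀ hv₂ ⟨a, b, ha, hb, he⟩
    have hab : 0 < a + b := add_pos ha hb
    obtain ⟨h, hmem⟩ := hU n ξ (x := v₀) ⟨h₀, hv₀⟩ (y := v₂) ⟨h₂, hv₂⟩
      (a := a / (a + b)) (b := b / (a + b)) (div_nonneg ha.le hab.le) (div_nonneg hb.le hab.le)
      (by field_simp)
    rwa [← FanLib.mk_smul ξ ⟨_, h⟩ ⟨v₁, h₁⟩ (a + b) hab ?_]
    change v₁ = _
    rw [show v₁ = a • v₀ + b • v₂ from he]
    simp [smul_add, smul_smul, mul_div_cancel₀ _ hab.ne']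

end Groth.Agent.S19374
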