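import Groth.Statements.S19377
import Groth.Agent.GenProj.Basic

set_option autoImplicit false
set_option backward.isDefEq.respectTransparency false
universe u
open CategoryTheory AlgebraicGeometry
open RelProj

namespace Groth.Agent.S19377

/-- Let k be a field, S a smooth, separated and quasi-compact k-scheme and f : X → S a proper smooth
morphism. The following two conditions are equivalent. (P): there is a dense open subscheme U of X,
quasi-projective over S, such that every connected component of S has a point not lying in the image
f(X ∖ U). Generic projectivity: there is a dense open subscheme V of S such that the restriction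
f⁻¹(V) → V of f is projective. (The source works over the residue field of a complete discrete
valuation ring of mixed characteristic and adds that the restriction over V is smooth, which is
automatic; the base field plays no role and is arbitrary here.) -/
theorem result
    {k : Type u} [Field k] {X S : Scheme.{u}} (f : X ⟶ S) (g : S ⟶ Spec (.of k))
    [Smooth g] [IsSeparated g] [QuasiCompact g] [IsProper f] [Smooth f] :
    (∃ U : X.Opens, Dense (U : Set X) ∧ RelProj.IsQuasiProjective (U.ι ≫ f) ∧
        ∀ s : S, ∃ s' : S, s' ∈ connectedComponent s ∧ s' ∉ ⇑f.base '' (U : Set X)ᶜ) ↔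
      ∃ V : S.Opens, Dense (V : Set S) ∧ RelProj.IsProjective (f ∣_ V) := by
  haveI : IsLocallyNoetherian S := LocallyOfFiniteType.isLocallyNoetherian g
  haveI : CompactSpace S := QuasiCompact.compactSpace_of_compactSpace g
  haveI : IsNoetherian S := {}
  constructor
  · rintro ⟨U, -, hU, hmeet⟩
    let V : S.Opens := ⟨(⇑f.base '' (U : Set X)ᶜ)ᶜ, (f.isClosedMap _ U.2.isClosed_compl).isOpen_compl⟩
    refine ⟨V, GenProj.dense_of_meets g V hmeet, GenProj.isProjective_restrict_of_le f U hU V ?_⟩
    intro x hx
    by_contra h
    exact hx ⟨x, h, rfl⟩
  · rintro ⟨V, hVd, hV⟩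
    refine ⟨f ⁻¹ᵁ V, hVd.preimage f.isOpenMap, GenProj.isQuasiProjective_restrict_comp f V hV, fun s => ?_⟩
    obtain ⟨s', hs', hsV⟩ := hVd.inter_open_nonempty (connectedComponent s)
      (LocNoethTop.isOpen_connectedComponent_of_noetherian s) ⟨s, mem_connectedComponent⟩
    refine ⟨s', hs', ?_⟩
    rintro ⟨x, hx, rfl⟩
    exact hx hsV

end Groth.Agent.S19377
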