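import Groth.Statements.S2038
-- import your own Groth.Agent.* helpers here
import Groth.Agent.GRingCpl.FSFlat
import Groth.Agent.GRingCpl.RegFS

set_option autoImplicit false
universe u
open CAlg

namespace Groth.Agent.S2038

/-- Let `A → B` be a local homomorphism of Noetherian local rings with residue field `k` of `A`. Then `A
→ B` is flat with special fibre `B ⊗ k` geometrically regular over `k` if and only if `A → B` is
formally smooth for the adic topology of the maximal ideal of `B`. -/
theorem result {A B : Type u} [CommRing A] [CommRing B]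
    [IsLocalRing A] [IsLocalRing B] [IsNoetherianRing A] [IsNoetherianRing B] [Algebra A B]
    [IsLocalHom (algebraMap A B)] :
    (Module.Flat A B ∧ CAlg.IsGeometricallyRegular (IsLocalRing.maximalIdeal A).ResidueField
        ((IsLocalRing.maximalIdeal A).Fiber B)) ↔
      CAlgX.IsAdicFormallySmooth A B (IsLocalRing.maximalIdeal B) := by
  have hle : (IsLocalRing.maximalIdeal A).map (algebraMap A B) ≤ IsLocalRing.maximalIdeal B :=
    Ideal.map_le_iff_le_comap.mpr fun a ha => map_nonunit (algebraMap A B) a ha
  refine ⟨fun ⟨hf, h⟩ => ?_, fun h => ⟨GRingCpl.flat_of_adicFormallySmooth h,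
    GRingCpl.geomRegular_closedFibre_of_adicFormallySmooth h⟩⟩
  exact GRingCpl.isAdicFormallySmooth_of_maximal _ _ hle (GRingCpl.isFormallySmoothAdic_of_closedFibre h)

end Groth.Agent.S2038
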