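import Groth.Statements.S19864
-- import your own Groth.Agent.* helpers here
import Groth.Agent.GRingCpl.RegFibreLocal
import Groth.Agent.S2038

set_option autoImplicit false
universe u
open CAlg

namespace Groth.Agent.S19864

/-- Let A and B be Noetherian rings and B an A-algebra. Then A → B is a regular homomorphism (flat with
Noetherian, geometrically regular fibres) if and only if for every prime q of B lying over the prime
p of A the induced local homomorphism A_p → B_q is formally smooth for the adic topologies of the
maximal ideals (equivalently, for the adic topology of the maximal ideal of B_q). -/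
theorem result (A B : Type u)
    [CommRing A] [CommRing B] [Algebra A B] [IsNoetherianRing A] [IsNoetherianRing B] :
    CAlg.IsRegularHom A B ↔
      ∀ (q : Ideal B) [q.IsPrime],
        letI := (Localization.localRingHom (Ideal.comap (algebraMap A B) q) q (algebraMap A B) rfl).toAlgebra
        CAlgX.IsAdicFormallySmooth (Localization.AtPrime (Ideal.comap (algebraMap A B) q))
          (Localization.AtPrime q) (IsLocalRing.maximalIdeal (Localization.AtPrime q)) := by
  refine ⟨fun h q _ => ?_, fun h => ?_⟩
  · letI := (Localization.localRingHom (Ideal.comap (algebraMap A B) q) q (algebraMap A B) rfl).toAlgebra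
    haveI : IsLocalHom (algebraMap (Localization.AtPrime (Ideal.comap (algebraMap A B) q)) (Localization.AtPrime q)) :=
      Localization.isLocalHom_localRingHom _ _ _ _
    obtain ⟨h1, h2⟩ := (Groth.Agent.GeomProp.regular_iff_localRingHom A B).1.mp h q
    exact Groth.Agent.S2038.result.mp ⟨h1, (h2 _).2⟩
  · refine Groth.Agent.GRingCpl.isRegularHom_of_local_closedFibres A B fun q _ => ?_
    letI := (Localization.localRingHom (Ideal.comap (algebraMap A B) q) q (algebraMap A B) rfl).toAlgebra
    haveI : IsLocalHom (algebraMap (Localization.AtPrime (Ideal.comap (algebraMap A B) q)) (Localization.AtPrime q)) :=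
      Localization.isLocalHom_localRingHom _ _ _ _
    exact Groth.Agent.S2038.result.mpr (h q)

end Groth.Agent.S19864
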