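import Groth.Statements.S1938
import Groth.Agent.GrpOmega.Diff
import Groth.Agent.OmegaLib.FiniteType
import Groth.Agent.OmegaLib.BaseChange

set_option autoImplicit false
set_option backward.isDefEq.respectTransparency false
universe u
open CategoryTheory CategoryTheory.Limits AlgebraicGeometry
open Grpd

namespace Groth.Agent.S1938

/-- Let (U, R, s, t, c) be a groupoid scheme over S, e : U → R its identity and C_{U/R} the conormal
sheaf of the immersion e. View R as a scheme over U via t. Then there is an epimorphism of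
O_R-modules s^*C_{U/R} → Ω_{R/U}, and if s is flat there is an isomorphism s^*C_{U/R} ≅ Ω_{R/U}.
(The published statement has t^*C_{U/R} here; with R over U via t that version is false — for the
pair groupoid of the disjoint union of a point and the affine line over ℚ the two sheaves have
different supports — and the statement given here has s^*C_{U/R} instead.) Stated for t
quasi-separated, where the shared prelude's Ω_{R/U} (conormal sheaf of the diagonal of t through
Mathlib's kernel ideal sheaf) and conormal sheaf of the section e are the usual ones. (A groupoid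
scheme carries U, R, s, t, c, e, i over S with the groupoid axioms on T-points.) -/
theorem result (S : Scheme.{u}) (G : Grpd.GroupoidScheme S) [QuasiSeparated G.t] : (∃ φ : (Scheme.Modules.pullback G.s).obj (Omega.conormal G.e) ⟶ Omega.sheaf G.t, Epi φ) ∧ (Flat G.s → Nonempty ((Scheme.Modules.pullback G.s).obj (Omega.conormal G.e) ≅ Omega.sheaf G.t)) := by
  let R := G.R
  haveI : IsImmersion G.e := by
    haveI : IsImmersion (G.e ≫ G.t) := by rw [G.e_t]; infer_instance
    exact IsImmersion.of_comp G.e G.t
  haveI : QuasiCompact G.e := by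
    haveI : QuasiCompact (G.e ≫ G.t) := by rw [G.e_t]; infer_instance
    exact MorphismProperty.of_postcomp (W' := @QuasiSeparated) _ G.e G.t inferInstance inferInstance
  let op : ∀ {T : Scheme.{u}} (α β : T ⟶ G.R), α ≫ G.s = β ≫ G.t → (T ⟶ G.R) :=
    fun {T} α β h => Limits.pullback.lift α β h ≫ G.c
  have congr_op : ∀ {T : Scheme.{u}} {α β α' β' : T ⟶ G.R} (h : α ≫ G.s = β ≫ G.t) (h' : α' ≫ G.s = β' ≫ G.t),
      α = α' → β = β' → op α β h = op α' β' h' := by
    intros; subst_vars; rfl
  have comp_op : ∀ {T' T : Scheme.{u}} (x : T' ⟶ T) (α β : T ⟶ G.R) (h : α ≫ G.s = β ≫ G.t),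
      x ≫ op α β h = op (x ≫ α) (x ≫ β) (by rw [Category.assoc, h, Category.assoc]) := by
    intro T' T x α β h
    show x ≫ _ ≫ G.c = _ ≫ G.c
    rw [← Category.assoc]
    congr 1
    apply Limits.pullback.hom_ext <;> simp
  let P := Limits.pullback G.t G.t
  let a : P ⟶ G.R := Limits.pullback.fst G.t G.t
  let b : P ⟶ G.R := Limits.pullback.snd G.t G.t
  have hab : (a ≫ G.i) ≫ G.s = b ≫ G.t := by rw [Category.assoc, G.i_s]; exact Limits.pullback.condition
  let m : P ⟶ G.R := op (a ≫ G.i) b hab
  have hm : m ≫ G.t = a ≫ G.s := by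
    show (Limits.pullback.lift _ _ hab ≫ G.c) ≫ G.t = _
    rw [G.comp_t, Category.assoc, G.i_t]
  let Q := Limits.pullback G.t G.s
  let x : Q ⟶ G.R := Limits.pullback.fst G.t G.s
  let a' : Q ⟶ G.R := Limits.pullback.snd G.t G.s
  have hax : a' ≫ G.s = x ≫ G.t := Limits.pullback.condition.symm
  let θ : P ≅ Q :=
    { hom := Limits.pullback.lift m a hm
      inv := Limits.pullback.lift a' (op a' x hax) (by
        show _ = (Limits.pullback.lift _ _ hax ≫ G.c) ≫ G.t
        rw [G.comp_t])
      hom_inv_id := by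
        apply Limits.pullback.hom_ext
        · simp [a', a]
        · rw [Category.assoc, Limits.pullback.lift_snd, comp_op, Category.id_comp]
          refine (congr_op _ (show a ≫ G.s = m ≫ G.t from hm.symm) (by simp [a']) (by simp [x])).trans ?_
          have h1 : a ≫ G.s = (a ≫ G.i) ≫ G.t := by rw [Category.assoc, G.i_t]
          have h2 := G.assoc a (a ≫ G.i) b h1 hab
          show Limits.pullback.lift a (Limits.pullback.lift (a ≫ G.i) b hab ≫ G.c) _ ≫ G.c = _
          rw [← h2]
          refine (congr_op _ (show (b ≫ G.t ≫ G.e) ≫ G.s = b ≫ G.t by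
            rw [Category.assoc, Category.assoc, G.e_s, Category.comp_id]) ?_ rfl).trans (G.e_comp b)
          rw [G.comp_i a, ← Category.assoc, ← Category.assoc]
          exact congrArg (· ≫ G.e) Limits.pullback.condition
      inv_hom_id := by
        apply Limits.pullback.hom_ext
        · rw [Category.assoc, Limits.pullback.lift_fst, comp_op, Category.id_comp]
          refine (congr_op _ (show (a' ≫ G.i) ≫ G.s = op a' x hax ≫ G.t by
            show _ = (Limits.pullback.lift _ _ hax ≫ G.c) ≫ G.t
            rw [G.comp_t, Category.assoc, G.i_s]) (by simp [a]) (by simp [b])).trans ?_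
          have h1 : (a' ≫ G.i) ≫ G.s = a' ≫ G.t := by rw [Category.assoc, G.i_s]
          have h2 := G.assoc (a' ≫ G.i) a' x h1 hax
          show Limits.pullback.lift (a' ≫ G.i) (Limits.pullback.lift a' x hax ≫ G.c) _ ≫ G.c = _
          rw [← h2]
          refine (congr_op _ (show (x ≫ G.t ≫ G.e) ≫ G.s = x ≫ G.t by
            rw [Category.assoc, Category.assoc, G.e_s, Category.comp_id]) ?_ rfl).trans (G.e_comp x)
          rw [G.i_comp a', ← Category.assoc, ← Category.assoc]
          exact congrArg (· ≫ G.e) hax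
        · simp [a', a] }
  have hsq : IsPullback m a G.t G.s :=
    IsPullback.of_iso_pullback ⟨hm⟩ θ (Limits.pullback.lift_fst _ _ _) (Limits.pullback.lift_snd _ _ _)
  let Δ := Limits.pullback.diagonal G.t
  haveI : QuasiCompact Δ := QuasiSeparated.quasiCompact_diagonal
  have hd := Groth.Agent.OmegaLib.isUniversal_dOmega G.t
  have hd' := Groth.Agent.OmegaLib.isUniversal_dOmega a
  obtain ⟨c, hc, -⟩ := Groth.Agent.OmegaLib.existsUnique_diffCompat (h := m) (b := G.s) hsq.w.symm hd (OmegaSh.dOmega a)
  haveI := Groth.Agent.OmegaLib.isIso_of_isPullback hsq hd hd' hc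
  obtain ⟨e₁⟩ := Groth.Agent.GrpOmega.nonempty_iso_conormal a Δ (Limits.pullback.lift_fst _ _ _) hd'
  obtain ⟨e₂⟩ := Groth.Agent.GrpOmega.nonempty_iso_conormal G.t G.e G.e_t hd
  have hΔm : Δ ≫ m = G.s ≫ G.e := by
    rw [comp_op]
    refine (congr_op _ (show G.i ≫ G.s = 𝟙 G.R ≫ G.t by rw [G.i_s, Category.id_comp])
      (by simp [Δ, a]) (by simp [Δ, b])).trans ?_
    refine (congr_op _ (show (𝟙 G.R ≫ G.i) ≫ G.s = 𝟙 G.R ≫ G.t by
      rw [Category.id_comp, G.i_s, Category.id_comp]) (Category.id_comp _).symm rfl).trans ((G.i_comp (𝟙 G.R)).trans ?_)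
    rw [Category.id_comp]
  let E : Omega.sheaf G.t ≅ (Scheme.Modules.pullback G.s).obj (Omega.conormal G.e) :=
    e₁ ≪≫ ((Scheme.Modules.pullback Δ).mapIso (asIso c)).symm ≪≫
      (Scheme.Modules.pullbackComp Δ m).app _ ≪≫ (Scheme.Modules.pullbackCongr hΔm).app _ ≪≫
      ((Scheme.Modules.pullbackComp G.s G.e).app _).symm ≪≫ (Scheme.Modules.pullback G.s).mapIso e₂.symm
  exact ⟨⟨E.inv, inferInstance⟩, fun _ => ⟨E.symm⟩⟩

end Groth.Agent.S1938
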