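import Groth.Statements.S19383
import Mathlib.RingTheory.AdicCompletion.AsTensorProduct
import Mathlib.RingTheory.Flat.Stability
import Mathlib.RingTheory.Filtration
import Mathlib.RingTheory.DiscreteValuationRing.Basic
import Mathlib.RingTheory.Flat.TorsionFree

set_option autoImplicit false
universe u
open CAlg

namespace Groth.Agent.S19383

/-- Over a discrete valuation ring, let V be a henselian discrete valuation ring with maximal ideal 𝔪
and B a Noetherian V-algebra, B̂ its 𝔪B-adic completion. Then B is flat over V if and only if B̂ is
flat over V. (The published lemma takes V an excellent normal ring with an ideal I such that (V,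
V/I) is a henselian pair and B of finite type; in that generality it fails: for V = ℤ_p[[x]], I =
(p) and B = V[y]/(x, py − 1) ≅ ℚ_p one has IB = B, so B̂ = 0 is flat while B is not flat over V.
Over a discrete valuation ring flatness is torsion-freeness and the statement holds for every
Noetherian B.) -/
theorem result
    (V : Type u) [CommRing V] [IsDomain V] [IsDiscreteValuationRing V] [HenselianLocalRing V]
    (B : Type u) [CommRing B] [Algebra V B] [IsNoetherianRing B] :
    Module.Flat V B ↔
      Module.Flat V (AdicCompletion ((IsLocalRing.maximalIdeal V).map (algebraMap V B)) B) := by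
  classical
  set J : Ideal B := (IsLocalRing.maximalIdeal V).map (algebraMap V B) with hJ
  constructor
  · intro h
    exact Module.Flat.trans V B (AdicCompletion J B)
  · intro h
    obtain ⟨π, hπ⟩ := IsDiscreteValuationRing.exists_irreducible V
    have hJπ : J = Ideal.span {algebraMap V B π} := by
      rw [hJ, hπ.maximalIdeal_eq, Ideal.map_span, Set.image_singleton]
    have key : ∀ x : B, algebraMap V B π * x = 0 → x = 0 := by
      intro x hx
      have h0 : AdicCompletion.of J B x = 0 := by
        have hreg : IsSMulRegular (AdicCompletion J B) π :=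
          (IsRegular.of_ne_zero hπ.ne_zero).isSMulRegular
        refine hreg ?_
        simp only [smul_zero]
        rw [← algebraMap_smul B π, ← map_smul, smul_eq_mul, hx, map_zero]
      have hmem : x ∈ (⨅ n : ℕ, J ^ n • ⊤ : Submodule B B) := by
        rw [Submodule.mem_iInf]
        intro n
        have := congrArg (fun z : AdicCompletion J B => z.val n) h0
        exact (Submodule.Quotient.mk_eq_zero _).1 this
      obtain ⟨r, hr⟩ := (Ideal.mem_iInf_smul_pow_eq_bot_iff J x).1 hmem
      obtain ⟨b, hb⟩ := Ideal.mem_span_singleton'.1 (hJπ ▸ r.2 : (r : B) ∈ Ideal.span {algebraMap V B π})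
      rw [← hr, smul_eq_mul, ← hb, mul_assoc, hx, mul_zero]
    rw [Module.Flat.flat_iff_torsion_eq_bot_of_isBezout, eq_bot_iff]
    rintro x ⟨⟨v, hv⟩, hvx⟩
    have hv0 : v ≠ 0 := nonZeroDivisors.ne_zero hv
    obtain ⟨n, u, rfl⟩ := IsDiscreteValuationRing.eq_unit_mul_pow_irreducible hv0 hπ
    have hn : ∀ n : ℕ, ∀ x : B, algebraMap V B (π ^ n) * x = 0 → x = 0 := by
      intro n
      induction n with
      | zero => intro x hx; simpa using hx
      | succ n ih =>
        intro x hx
        rw [pow_succ, map_mul, mul_assoc] at hx
        exact key x (ih _ hx)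
    change (↑u * π ^ n) • x = 0 at hvx
    rw [Algebra.smul_def, map_mul, mul_assoc] at hvx
    exact (Submodule.mem_bot V).2 (hn n x (((u.isUnit).map (algebraMap V B)).mul_right_eq_zero.1 hvx))

end Groth.Agent.S19383
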