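import Groth.Statements.S19384
import Groth.Agent.HopfSmDim.Versch

set_option autoImplicit false
universe u
open Versch

namespace Groth.Agent.S19384

/-- Over a field and for one finite level, let k be a field of characteristic p > 0 and G = Spec A a
finite commutative k-group scheme (A a finite-dimensional commutative cocommutative Hopf algebra)
killed by p^n, i.e. the p^n-th power map of G is the trivial homomorphism, and suppose the
Verschiebung of G is an isomorphism (the ring map v : A → A ⊗_k k^(p) characterised as the
Verschiebung is bijective). Then G is infinitesimal, more precisely the n-th iterate of its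
Frobenius is trivial: a^(p^n) = 0 for every a in the augmentation ideal. (The source states this for
the p^n-torsion levels of a p-divisible group of multiplicative type over any scheme of
characteristic p and reduces to a field fibre by fibre; it also records that the Cartier dual has
unipotent fibres, which is not stated here.) -/
theorem result
    (p : ℕ) [Fact p.Prime] (k : Type u) [Field k] [CharP k p]
    (A : Type u) [CommRing A] [HopfAlgebra k A] [Coalgebra.IsCocomm k A] [Module.Finite k A]
    (n : ℕ)
    (hn : SGA3b.powConv k A (p ^ n) = (Algebra.ofId k A).comp (Bialgebra.counitAlgHom k A))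
    (v : A →+* FrobAlg.BaseChange p k A) (hv : Versch.IsVerschiebung p k A v)
    (hbij : Function.Bijective v)
    (a : A) (ha : Coalgebra.counit (R := k) a = 0) : a ^ (p ^ n) = 0 := by
  have : Nontrivial A := Bialgebra.nontrivial k
  have : CharP A p := charP_of_injective_algebraMap (algebraMap k A).injective p
  obtain ⟨vinv, hvinv⟩ : ∃ g : FrobAlg.BaseChange p k A → A, ∀ z, v (g z) = z :=
    ⟨_, Function.surjInv_eq hbij.2⟩
  have hp1 : ∀ b : A, ∃ d, b ^ p = SGA3b.powConv k A p d := fun b => by
    refine ⟨vinv (b ⊗ₜ 1), ?_⟩
    rw [← Groth.Agent.VerschComp.relFrob_comp p v hv, hvinv, Groth.Agent.VerschComp.relFrob_tmul]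
    simp
  have key : ∀ j, ∀ b : A, ∃ d, b ^ p ^ j = SGA3b.powConv k A (p ^ j) d := by
    intro j
    induction j with
    | zero => intro b; exact ⟨b, by simp [SGA3b.powConv]⟩
    | succ j ih =>
      intro b
      obtain ⟨c, hc⟩ := ih b
      obtain ⟨d, hd⟩ := hp1 c
      refine ⟨d, ?_⟩
      rw [pow_succ p, pow_mul, hc, ← map_pow, hd]
      have hpow : ∀ m, SGA3b.powConv k A (p ^ j * m) = (SGA3b.powConv k A (p ^ j)).comp (SGA3b.powConv k A m) := by
        intro m
        induction m with
        | zero =>
          rw [Nat.mul_zero]
          simp only [SGA3b.powConv, pow_zero, AlgHom.convOne_def, WithConv.ofConv_toConv]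
          exact AlgHom.ext fun y => by simp
        | succ m ihm =>
          rw [Nat.mul_succ]
          unfold SGA3b.powConv at ihm ⊢
          rw [pow_succ (WithConv.toConv (AlgHom.id k A)) m, pow_add]
          rw [AlgHom.comp_convMul_distrib]
          show _ = ((WithConv.toConv (((WithConv.toConv (AlgHom.id k A)) ^ p ^ j).ofConv.comp
            ((WithConv.toConv (AlgHom.id k A)) ^ m).ofConv)) * _).ofConv
          rw [← ihm]
          rfl
      rw [hpow p]
      rfl
  obtain ⟨d, hd⟩ := key n a
  rw [hn] at hd
  have h0 : Bialgebra.counitAlgHom k A (a ^ p ^ n) = 0 := by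
    rw [map_pow, Bialgebra.counitAlgHom_apply, ha, zero_pow (pow_ne_zero _ (Fact.out : p.Prime).ne_zero)]
  rw [hd, AlgHom.comp_apply, Algebra.ofId_apply, AlgHom.commutes] at h0
  rw [hd, AlgHom.comp_apply, show Bialgebra.counitAlgHom k A d = 0 from h0, map_zero]

end Groth.Agent.S19384
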