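import Groth.Statements.S19385
import Groth.Agent.HodgeCI.DivApps
-- import your own Groth.Agent.* helpers here

set_option autoImplicit false
universe u
open CategoryTheory CategoryTheory.Limits AlgebraicGeometry
open HdgLef

namespace Groth.Agent.S19385

/-- Let X be a smooth proper scheme of dimension n over a field k and L an ample invertible O_X-module.
There is m₀ such that for every m ≥ m₀ and every global section s of L^{⊗m} with O_X → L^{⊗m}
injective (a regular section) whose zero scheme Y, with inclusion i : Y → X, is smooth over k, one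
has H^a(X, i_*Ω^b ⊗ L^{⊗m}) = 0 for every b-th exterior power Ω^b of the sheaf of differentials of Y
over k (in the affine-local sense) and all a, b with a + b > n − 1. (The published statement takes Y
among the degree-m hypersurface sections of a projective embedding and twists with O_X(Y); the
published argument uses only Serre vanishing for the powers of an ample invertible module, so zero
schemes of regular sections of L^{⊗m} are allowed here, with O_X(Y) = L^{⊗m}.) -/
theorem result
    (k : Type u) [Field k] (X : Scheme.{u}) [X.Over (Spec (CommRingCat.of k))]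
    [IsProper (X ↘ Spec (CommRingCat.of k))] [Smooth (X ↘ Spec (CommRingCat.of k))] (n : ℕ) (hn : topologicalKrullDim X = n)
    (L : X.Modules) (hL : CohB1.IsAmple L) :
    ∃ m₀ : ℕ, ∀ (m : ℕ), m₀ ≤ m →
      ∀ (s : Coh.structureModule X ⟶ CohB1.tensorPow L m) [Mono s]
        [Smooth ((PicF2.zeroScheme (CohB1.tensorPow L m) s).subschemeι ≫ (X ↘ Spec (CommRingCat.of k)))]
        (a b : ℕ) (OmY : (PicF2.zeroScheme (CohB1.tensorPow L m) s).subscheme.Modules),
        ExtPow.IsExtPow b (Omega.sheaf ((PicF2.zeroScheme (CohB1.tensorPow L m) s).subschemeι ≫ (X ↘ Spec (CommRingCat.of k)))) OmY →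
        n ≤ a + b →
        Subsingleton (Coh.HH X (CohB1.tensorMod ((Coh.push (PicF2.zeroScheme (CohB1.tensorPow L m) s).subschemeι).obj OmY)
          (CohB1.tensorPow L m)) a) := by
  haveI := Groth.Agent.CurveRR.isNoetherian_of_proper k X
  obtain ⟨m₀, h⟩ := Groth.Agent.HodgeCI.exists_high_bound (k := k) n hn L hL
  refine ⟨m₀, fun m hm s _ _ a b OmY hY hab => ?_⟩
  let I := PicF2.zeroScheme (CohB1.tensorPow L m) s
  letI : I.subscheme.Over (Spec (CommRingCat.of k)) := ⟨I.subschemeι ≫ X ↘ Spec (CommRingCat.of k)⟩
  obtain ⟨w⟩ := (Groth.Agent.LefZero.isInverseOf_zeroScheme (TMul.isInvertible_tensorPow hL.1 m) s).2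
  exact h m hm I rfl ‹_› ⟨TMul.commIso _ _ ≪≫ w⟩ a b hab OmY hY

end Groth.Agent.S19385
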