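import Groth.Statements.S19389
import Groth.Agent.ThickPic.PowLift

set_option autoImplicit false
universe u
open CategoryTheory CategoryTheory.Limits AlgebraicGeometry
open PicThk

set_option backward.isDefEq.respectTransparency false
set_option backward.isDefEq.respectTransparency.types false

namespace Groth.Agent.S19389

attribute [local instance] W7Cube.law in
theorem main (p : ℕ) [Fact p.Prime] (hp : 2 < p) (k : Type u) [Field k] [Finite k] [CharP k p]
    (X : Scheme.{u}) (f : X ⟶ Spec (CommRingCat.of (WittVector p k))) [IsProper f] [SmoothOfRelativeDimension 1 f]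
    (L : X.Modules) (hL : CohB1.IsAmple L)
    (iX : PicGrp.Law X) (iT : ∀ n : ℕ, PicGrp.Law (CohB1.thick f (Ideal.span (singleton (p : (WittVector p k)))) n))
    (hι : ∀ n : ℕ, PicGrp.PullMul (CohB1.thickι f (Ideal.span (singleton (p : (WittVector p k)))) n)) (i : ℕ) :
    (∀ n : ℕ, Function.Surjective (PicGrp.pullHom (CohB1.thickι f (Ideal.span (singleton (p : (WittVector p k)))) n) (hι n))) ∧
    ∃ t : ℕ, ∀ a : PicLoc.PicSet X,
      (∃ b : PicLoc.PicSet (CohB1.thick f (Ideal.span (singleton (p : (WittVector p k)))) t), b ^ (p ^ i) = PicGrp.pullHom (CohB1.thickι f (Ideal.span (singleton (p : (WittVector p k)))) t) (hι t) a) →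
      ∃ a' : PicLoc.PicSet X, a' ^ (p ^ i) = a := by
  obtain rfl : iX = W7Cube.law X := Subsingleton.elim _ _
  obtain rfl : iT = fun n => W7Cube.law _ := funext fun n => Subsingleton.elim _ _
  haveI : PerfectRing k p := inferInstance
  have hirr : Irreducible (p : WittVector p k) := WittVector.irreducible p
  have hmax : IsLocalRing.maximalIdeal (WittVector p k) = Ideal.span {(p : WittVector p k)} := hirr.maximalIdeal_eq
  have h2 := fun n (K : CohTop.Ab (CohB1.thick f (Ideal.span {(p : WittVector p k)}) n).toTopCat) =>
    ThickPic.subsingleton_h2 f (Ideal.span {(p : WittVector p k)}) hmax.ge hmax.le n K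
  have hsurj := fun n => ThickPic.pull_thickι_surjective f h2 hL n
  refine ⟨hsurj, i, fun a ha => ?_⟩
  obtain ⟨b, hb⟩ := ha
  obtain ⟨B, hB⟩ := hsurj i b
  letI := W7Cube.law X
  obtain ⟨c, hc⟩ := ThickPic.exists_pow_eq f (Fact.out : p.Prime) hp hmax.ge h2 hL i (c := a / B ^ (p ^ i)) (by
    rw [map_div, map_pow, hB, hb]
    exact div_self' _)
  exact ⟨c * B, by rw [mul_pow, hc, div_mul_cancel]⟩

/-- Let p > 2 be a prime, k a finite field of characteristic p and W = W(k) its ring of Witt vectors;
let f : X → Spec W be proper and smooth of relative dimension 1 with an ample invertible O_X-module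
(a smooth projective relative curve), and X_n = X ×_W Spec W/(p^{n+1}) the infinitesimal thickenings
of the special fibre, with inclusions ι_n : X_n → X. Granting the group laws of the Picard groups
involved and the multiplicativity of pull-back of invertible classes along each ι_n, the restriction
maps Pic(X) → Pic(X_n) are all surjective, and for every i there is a level t such that a class on X
whose restriction to X_t is a p^i-th power is already a p^i-th power in Pic(X). (The published proof
identifies CH^1(X) with Pic(X) and H^1(X_1, K^M_1 of X_n) with Pic(X_n) and states that CH^1(X) ⊗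
Z/p^i → (Pic(X_n) ⊗ Z/p^i)_n is an isomorphism of pro-abelian groups; the two assertions here are
what its proof establishes and imply that pro-isomorphism, the first giving levelwise surjectivity
and the second the vanishing of the kernel pro-system.) -/
theorem result
    (p : ℕ) [Fact p.Prime] (hp : 2 < p) (k : Type u) [Field k] [Finite k] [CharP k p]
    (X : Scheme.{u}) (f : X ⟶ Spec (CommRingCat.of (WittVector p k))) [IsProper f] [SmoothOfRelativeDimension 1 f]
    (L : X.Modules) (hL : CohB1.IsAmple L)
    [PicGrp.Law X] [∀ n : ℕ, PicGrp.Law (CohB1.thick f (Ideal.span (singleton (p : (WittVector p k)))) n)]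
    (hι : ∀ n : ℕ, PicGrp.PullMul (CohB1.thickι f (Ideal.span (singleton (p : (WittVector p k)))) n)) (i : ℕ) :
    (∀ n : ℕ, Function.Surjective (PicGrp.pullHom (CohB1.thickι f (Ideal.span (singleton (p : (WittVector p k)))) n) (hι n))) ∧
    ∃ t : ℕ, ∀ a : PicLoc.PicSet X,
      (∃ b : PicLoc.PicSet (CohB1.thick f (Ideal.span (singleton (p : (WittVector p k)))) t), b ^ (p ^ i) = PicGrp.pullHom (CohB1.thickι f (Ideal.span (singleton (p : (WittVector p k)))) t) (hι t) a) →
      ∃ a' : PicLoc.PicSet X, a' ^ (p ^ i) = a := by
  exact main p hp k X f L hL _ _ hι i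

end Groth.Agent.S19389
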