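import Groth.Statements.S1939
import Groth.Agent.CycDim.RelDim
import Groth.Agent.LocalDimBC.Scheme
import Mathlib

set_option autoImplicit false
universe u
open CategoryTheory AlgebraicGeometry
open CategoryTheory.Limits
open Cyc

namespace Groth.Agent.S1939


theorem fibreDimAt_fibMax {X Y : Scheme.{u}} [IsLocallyNoetherian Y] (f : X ⟶ Y) [LocallyOfFiniteType f] (x : X)
    (hx : ∀ y, f y = f x → y ⤳ x → y = x) (n : ℕ) (hn : Dual3.resTrdeg f x = (n : Cardinal.{u})) :
    FlatMor.fibreDimAt f x = (n : WithBot ℕ∞) := by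
  obtain ⟨b, δ, -, hD, hle, hge, -, m, hfm, hmx, -, hb, -⟩ := Groth.Agent.DimFormula.exists_fibre_dims f x
  obtain rfl := hx m hfm hmx
  obtain ⟨d, hd, hdle, hdge⟩ := Groth.Agent.DimFormula.exists_trdeg_eq f m
  have hnd : n = d := by exact_mod_cast hn.symm.trans hd
  have hb0 : b = 0 := by
    have := (Groth.Agent.DimFormula.genLE_self m).le_of_hasGen hb
    omega
  have h1 := hge.le hdle
  have h2 := hdge.le hle
  rw [hD]
  congr 1
  omega

/-- A point over the generic point lifts generisations from the base change inside a fibre. -/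
theorem exists_lift {X S S' : Scheme.{u}} (a : X ⟶ S) (g : S' ⟶ S) (η : X) (x' : ↥(pullback a g))
    (hη : pullback.fst a g x' = η) (t : S') (hts : t ⤳ pullback.snd a g x') (ht : g t = a η) :
    ∃ w, w ⤳ x' ∧ pullback.snd a g w = t := by
  subst hη
  let F := pullback.fst a g
  let P : Scheme.{u} := g.fiber (a (F x'))
  let T : Scheme.{u} := F.fiber (F x')
  let s : Spec (CommRingCat.of (X.residueField (F x'))) ⟶ Spec (CommRingCat.of (S.residueField (a (F x')))) :=
    Spec.map (a.residueFieldMap (F x'))
  have hs : s ≫ S.fromSpecResidueField (a (F x')) = X.fromSpecResidueField (F x') ≫ a :=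
    Scheme.Hom.SpecMap_residueFieldMap_fromSpecResidueField a (F x')
  let ιP : P ⟶ S' := g.fiberι (a (F x'))
  let cP : P ⟶ Spec (CommRingCat.of (S.residueField (a (F x')))) := g.fiberToSpecResidueField (a (F x'))
  let ιT : T ⟶ pullback a g := F.fiberι (F x')
  let cT : T ⟶ Spec (CommRingCat.of (X.residueField (F x'))) := F.fiberToSpecResidueField (F x')
  have hP : IsPullback ιP cP g (S.fromSpecResidueField (a (F x'))) := .of_hasPullback _ _
  have hT : IsPullback ιT cT F (X.fromSpecResidueField (F x')) := .of_hasPullback _ _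
  have hout : IsPullback (ιT ≫ pullback.snd a g) cT g (X.fromSpecResidueField (F x') ≫ a) :=
    hT.paste_horiz (IsPullback.of_hasPullback a g).flip
  let π : T ⟶ P := hP.lift (ιT ≫ pullback.snd a g) (cT ≫ s)
    (by rw [Category.assoc, Category.assoc, hs]; simpa using hout.w)
  have hπι : π ≫ ιP = ιT ≫ pullback.snd a g := hP.lift_fst _ _ _
  have hsq : IsPullback π cT cP s := IsPullback.of_right (by rw [hπι, hs]; exact hout) (hP.lift_snd _ _ _) hP
  letI := (a.residueFieldMap (F x')).hom.toAlgebra
  haveI : Flat s := Flat.SpecMap_iff.2 (RingHom.flat_algebraMap_iff.2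
    (inferInstance : Module.Flat (S.residueField (a (F x'))) (X.residueField (F x'))))
  haveI : Flat π := MorphismProperty.of_isPullback hsq.flip inferInstance
  haveI : IsPreimmersion ιP := inferInstanceAs (IsPreimmersion (g.fiberι (a (F x'))))
  obtain ⟨u, hu⟩ : x' ∈ Set.range ιT := by
    show x' ∈ Set.range (F.fiberι (F x'))
    rw [F.range_fiberι]; rfl
  obtain ⟨t', ht'⟩ : t ∈ Set.range ιP := by
    show t ∈ Set.range (g.fiberι (a (F x')))
    rw [g.range_fiberι]; exact ht
  have h1 : t' ⤳ π u := by
    refine ιP.isEmbedding.isInducing.specializes_iff.1 ?_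
    rw [ht', ← Scheme.Hom.comp_apply, hπι, Scheme.Hom.comp_apply, hu]
    exact hts
  obtain ⟨w, hw, hwt⟩ := Flat.generalizingMap π h1
  refine ⟨ιT w, hu ▸ hw.map ιT.continuous, ?_⟩
  rw [← Scheme.Hom.comp_apply, ← hπι, Scheme.Hom.comp_apply, hwt, ht']

/-- Let (S, δS) and (S', δS') be two pairs satisfying Cyc.IsSetup, g : S' → S flat with δS'(s') = δS(g
s') + c for every s' generic in an irreducible component of its fibre g⁻¹(g s'), a : X → S locally
of finite type with X integral of δ-dimension k (δX induced from δS), and X' = X ×_S S' with δX'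
induced from δS'. Then every generic point x' of an irreducible component of X' has δX'(x') = k + c.
A pair (X, δ) with Cyc.IsSetup plays the role of a scheme locally of finite type over a fixed base
with a dimension function (X locally Noetherian with universally catenary local rings, δ a dimension
function), and Cyc.DeltaCompat records that the dimension function upstairs is the induced one. -/
theorem result (S S' X : Scheme.{u}) (δS : S → ℤ) (δS' : S' → ℤ) (hS : Cyc.IsSetup S δS) (hS' : Cyc.IsSetup S' δS') (g : S' ⟶ S) [Flat g] (c : ℤ) (hc : ∀ s' : S', (∀ y, g y = g s' → y ⤳ s' → y = s') → δS' s' = δS (g s') + c) (a : X ⟶ S) [LocallyOfFiniteType a] [IsIntegral X] (δX : X → ℤ) (hX : Cyc.DeltaCompat a δX δS) (δX' : ↥(pullback a g) → ℤ) (hX' : Cyc.DeltaCompat (pullback.snd a g) δX' δS') (k : ℤ) (hk : δX (genericPoint X) = k) (x' : ↥(pullback a g)) (hx' : ∀ y : ↥(pullback a g), y ⤳ x' → y = x') : δX' x' = k + c := by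

  classical
  haveI := hS.1; haveI := hS'.1
  haveI : Flat (pullback.fst a g) := MorphismProperty.pullback_fst _ _ ‹Flat g›
  let η := genericPoint X
  have hη : pullback.fst a g x' = η := by
    obtain ⟨w, hw, hwη⟩ := Flat.generalizingMap (pullback.fst a g) (genericPoint_specializes (pullback.fst a g x'))
    rw [← hx' w hw]
    exact hwη
  have hsq : g (pullback.snd a g x') = a η := by
    rw [← hη, ← Scheme.Hom.comp_apply, ← Scheme.Hom.comp_apply, pullback.condition]
  have hs' : ∀ t, g t = g (pullback.snd a g x') → t ⤳ pullback.snd a g x' → t = pullback.snd a g x' := by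
    intro t ht hts
    obtain ⟨w, hw, hwt⟩ := exists_lift a g η x' hη t hts (by rw [ht, hsq])
    rw [← hwt, hx' w hw]
  have hc' := hc _ hs'
  obtain ⟨n, hn, hn'⟩ := hX η
  obtain ⟨m, hm, hm'⟩ := hX' x'
  have hA : FlatMor.fibreDimAt a η = ((n : ℕ) : WithBot ℕ∞) := fibreDimAt_fibMax a η
    (fun y _ hy => (hy.antisymm (genericPoint_specializes y)).eq) n hn
  have hB : FlatMor.fibreDimAt (pullback.snd a g) x' = ((m : ℕ) : WithBot ℕ∞) :=
    fibreDimAt_fibMax (pullback.snd a g) x' (fun y _ hy => hx' y hy) m hm
  rw [Groth.Agent.LocalDimBC.fibreDimAt_of_isPullback a g _ _ (IsPullback.of_hasPullback a g) x', hη, hA] at hB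
  have hnm : n = m := by exact_mod_cast hB
  rw [hsq] at hc'
  rw [← hk]
  show δX' x' = δX η + c
  omega

end Groth.Agent.S1939
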