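import Groth.Statements.S19392
import Mathlib

set_option autoImplicit false
universe u
open InvQ

namespace Groth.Agent.S19392

/-- Over a field of characteristic different from 2 and 3, a nonzero binary quartic f has P(f) = Q(f) =
0 for the two basic invariants P, Q if and only if f has a triple zero. Stated for f = ∏_i (μ_i X₀ −
λ_i X₁) given by four root points (λ_i, μ_i) ≠ (0, 0) (over an algebraically closed field every
nonzero quartic form is of this shape), with the integral invariants I = 6P and J = 72Q of the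
coefficients of f; a triple zero means that three of the four root points are pairwise proportional. -/
theorem result (k : Type u) [Field k]
    (h2 : (2 : k) ≠ 0) (h3 : (3 : k) ≠ 0) (la mu : Fin 4 → k) (hne : ∀ i, la i ≠ 0 ∨ mu i ≠ 0) :
    (W4c6intromoduli.invI (W4c6intromoduli.coef la mu) = 0 ∧
        W4c6intromoduli.invJ (W4c6intromoduli.coef la mu) = 0) ↔
      ∃ i j l : Fin 4, i ≠ j ∧ j ≠ l ∧ i ≠ l ∧
        la i * mu j = la j * mu i ∧ la j * mu l = la l * mu j := by
  classical
  let a : ℕ → k := fun n => match n with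
    | 0 => mu 0 * mu 1 * mu 2 * mu 3
    | 1 => -(la 0 * mu 1 * mu 2 * mu 3 + mu 0 * la 1 * mu 2 * mu 3 + mu 0 * mu 1 * la 2 * mu 3 + mu 0 * mu 1 * mu 2 * la 3)
    | 2 => la 0 * la 1 * mu 2 * mu 3 + la 0 * mu 1 * la 2 * mu 3 + la 0 * mu 1 * mu 2 * la 3 + mu 0 * la 1 * la 2 * mu 3 +
        mu 0 * la 1 * mu 2 * la 3 + mu 0 * mu 1 * la 2 * la 3
    | 3 => -(mu 0 * la 1 * la 2 * la 3 + la 0 * mu 1 * la 2 * la 3 + la 0 * la 1 * mu 2 * la 3 + la 0 * la 1 * la 2 * mu 3)
    | _ => la 0 * la 1 * la 2 * la 3
  have hroot : W4c6intromoduli.rootPoly la mu = Polynomial.C (a 0) + Polynomial.C (a 1) * Polynomial.X +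
      Polynomial.C (a 2) * Polynomial.X ^ 2 + Polynomial.C (a 3) * Polynomial.X ^ 3 + Polynomial.C (a 4) * Polynomial.X ^ 4 := by
    simp only [W4c6intromoduli.rootPoly, Fin.prod_univ_four, a, map_add, map_mul, map_neg]
    ring
  have hcoef : ∀ n, n ≤ 4 → W4c6intromoduli.coef la mu n = a n := fun n hn => by
    rw [W4c6intromoduli.coef, hroot]
    interval_cases n <;> simp [Polynomial.coeff_X, Polynomial.coeff_X_pow]
  let d : Fin 4 → Fin 4 → k := fun i j => la i * mu j - la j * mu i
  let U := d 0 1 * d 2 3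
  let V := d 0 2 * d 3 1
  have hI : W4c6intromoduli.invI (W4c6intromoduli.coef la mu) = U ^ 2 + U * V + V ^ 2 := by
    simp only [W4c6intromoduli.invI, hcoef 0 (by omega), hcoef 1 (by omega), hcoef 2 (by omega), hcoef 3 (by omega),
      hcoef 4 le_rfl, a, U, V, d]
    ring
  have hJ : W4c6intromoduli.invJ (W4c6intromoduli.coef la mu) = -((U - V) * (2 * U + V) * (U + 2 * V)) := by
    simp only [W4c6intromoduli.invJ, hcoef 0 (by omega), hcoef 1 (by omega), hcoef 2 (by omega), hcoef 3 (by omega),
      hcoef 4 le_rfl, a, U, V, d]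
    ring
  have hsymm : ∀ i j, d i j = 0 → d j i = 0 := fun i j h => by
    show la j * mu i - la i * mu j = 0
    linear_combination -h
  have htrans : ∀ i j l, d i j = 0 → d j l = 0 → d i l = 0 := fun i j l h1 h2 => by
    show la i * mu l - la l * mu i = 0
    rcases hne j with h | h
    · refine (mul_eq_zero.1 (show la j * (la i * mu l - la l * mu i) = 0 from ?_)).resolve_left h
      linear_combination la l * h1 + la i * h2
    · refine (mul_eq_zero.1 (show mu j * (la i * mu l - la l * mu i) = 0 from ?_)).resolve_left h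
      linear_combination mu l * h1 + mu i * h2
  rw [hI, hJ]
  constructor
  · rintro ⟨h1, h4⟩
    rw [neg_eq_zero] at h4
    have hUV : U = 0 ∧ V = 0 := by
      have key : ∀ z : k, 3 * z ^ 2 = 0 → z = 0 := fun z hz =>
        eq_zero_of_pow_eq_zero ((mul_eq_zero.1 hz).resolve_left h3)
      rcases mul_eq_zero.1 h4 with h | h
      · rcases mul_eq_zero.1 h with h | h
        · have e : V = U := by linear_combination -h
          have := key U (by rw [e] at h1; linear_combination h1)
          exact ⟨this, e.trans this⟩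
        · have e : V = -(2 * U) := by linear_combination h
          have := key U (by rw [e] at h1; linear_combination h1)
          exact ⟨this, by rw [e, this, mul_zero, neg_zero]⟩
      · have e : U = -(2 * V) := by linear_combination h
        have := key V (by rw [e] at h1; linear_combination h1)
        exact ⟨by rw [e, this, mul_zero, neg_zero], this⟩
    have hW : d 0 3 = 0 ∨ d 1 2 = 0 := mul_eq_zero.1 (show d 0 3 * d 1 2 = 0 by
      have e : U + V + d 0 3 * d 1 2 = 0 := by simp only [U, V, d]; ring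
      rw [hUV.1, hUV.2, zero_add, zero_add] at e
      exact e)
    have fin : ∀ i j l : Fin 4, i ≠ j → j ≠ l → i ≠ l → d i j = 0 → d j l = 0 →
        ∃ i j l : Fin 4, i ≠ j ∧ j ≠ l ∧ i ≠ l ∧ la i * mu j = la j * mu i ∧ la j * mu l = la l * mu j :=
      fun i j l a b c e f => ⟨i, j, l, a, b, c, sub_eq_zero.1 e, sub_eq_zero.1 f⟩
    rcases mul_eq_zero.1 hUV.1 with a1 | a1 <;> rcases mul_eq_zero.1 hUV.2 with a2 | a2
    · exact fin 1 0 2 (by decide) (by decide) (by decide) (hsymm _ _ a1) a2
    · exact fin 0 1 3 (by decide) (by decide) (by decide) a1 (hsymm _ _ a2)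
    · exact fin 0 2 3 (by decide) (by decide) (by decide) a2 a1
    · exact fin 2 3 1 (by decide) (by decide) (by decide) a1 a2
  · rintro ⟨i, j, l, hij, hjl, hil, h1, h4⟩
    have e1 : d i j = 0 := sub_eq_zero.2 h1
    have e2 : d j l = 0 := sub_eq_zero.2 h4
    have e3 : d i l = 0 := htrans _ _ _ e1 e2
    have hall : ∀ x y : Fin 4, (x = i ∨ x = j ∨ x = l) → (y = i ∨ y = j ∨ y = l) → d x y = 0 := by
      rintro x y (rfl | rfl | rfl) (rfl | rfl | rfl) <;>
        first
        | assumption
        | exact hsymm _ _ ‹_›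
        | exact sub_self _
    have hcomb : ∀ a b c e : Fin 4, a ≠ b → a ≠ c → a ≠ e → b ≠ c → b ≠ e → c ≠ e →
        ((a = i ∨ a = j ∨ a = l) ∧ (b = i ∨ b = j ∨ b = l)) ∨ ((c = i ∨ c = j ∨ c = l) ∧ (e = i ∨ e = j ∨ e = l)) := by
      intro a b c e n1 n2 n3 n4 n5 n6
      have hm : ∀ x y : Fin 4, x ≠ y → (x = i ∨ x = j ∨ x = l) ∨ (y = i ∨ y = j ∨ y = l) := fun x y hxy => by
        clear * - hij hjl hil hxy
        simp only [Fin.ext_iff, ne_eq] at *
        have := x.isLt; have := y.isLt; have := i.isLt; have := j.isLt; have := l.isLt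
        omega
      rcases hm a c n2 with h | h
      · rcases hm b c n4 with p | p
        · exact Or.inl ⟨h, p⟩
        · exact (hm b e n5).elim (fun q => Or.inl ⟨h, q⟩) (fun q => Or.inr ⟨p, q⟩)
      · rcases hm a e n3 with g | g
        · exact (hm b e n5).elim (fun q => Or.inl ⟨g, q⟩) (fun q => Or.inr ⟨h, q⟩)
        · exact Or.inr ⟨h, g⟩
    have hz : ∀ a b c e : Fin 4, a ≠ b → a ≠ c → a ≠ e → b ≠ c → b ≠ e → c ≠ e → d a b * d c e = 0 :=
      fun a b c e n1 n2 n3 n4 n5 n6 => by
        rcases hcomb a b c e n1 n2 n3 n4 n5 n6 with ⟨x, y⟩ | ⟨x, y⟩ <;> simp [hall _ _ x y]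
    have hU : U = 0 := hz 0 1 2 3 (by decide) (by decide) (by decide) (by decide) (by decide) (by decide)
    have hV : V = 0 := hz 0 2 3 1 (by decide) (by decide) (by decide) (by decide) (by decide) (by decide)
    rw [hU, hV]
    constructor <;> ring

end Groth.Agent.S19392
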