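import Groth.Statements.S19397
import Groth.Agent.FunFldMisc.EllAut

set_option autoImplicit false
universe u v
open FunFld

namespace Groth.Agent.S19397

open Classical in
/-- Over an algebraically closed field of characteristic different from 2 and 3, the automorphism group
of an elliptic curve (automorphisms fixing the base point) with invariant j has order 2 if j ≠ 0,
12³, order 4 if j = 12³ and order 6 if j = 0. Stated for the function field K/k of the curve: K of
genus 1 generated by x, y with y² = x³ + a x + b and 4a³ + 27b² ≠ 0, P the place where x has its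
double and y its triple pole (and no other poles), so that j = 12³ · 4a³/(4a³ + 27b²) and the three
cases are a, b ≠ 0; b = 0; a = 0; the automorphisms are the k-algebra automorphisms of K preserving
the valuation of P. -/
theorem result (k : Type u) (K : Type v) [Field k]
    [IsAlgClosed k] [Field K] [Algebra k K] (h2 : (2 : k) ≠ 0) (h3 : (3 : k) ≠ 0)
    (hK : FunFld.IsFunctionField k K) (hgen : FunFld.genus k K = 1) (P : FunFld.Place k K)
    (a b : k) (hdisc : 4 * a ^ 3 + 27 * b ^ 2 ≠ 0) (x y : K)
    (heq : y ^ 2 = x ^ 3 + algebraMap k K a * x + algebraMap k K b)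
    (hxy : IntermediateField.adjoin k ({x, y} : Set K) = ⊤)
    (hx : x ∈ FunFld.L (Finsupp.single P 2)) (hx2 : P.ord x = -2)
    (hy : y ∈ FunFld.L (Finsupp.single P 3)) (hy3 : P.ord y = -3) :
    Nat.card {σ : K ≃ₐ[k] K // ∀ z : K, P.1 (σ z) = P.1 z} =
      if a = 0 then 6 else if b = 0 then 4 else 2 := by
  have hP : P.deg = 1 := Groth.Agent.FunFld.deg_eq_one hK P
  let S := {u : k // u ≠ 0 ∧ a * u ^ 4 = a ∧ b * u ^ 6 = b}
  have hex : ∀ σ : {σ : K ≃ₐ[k] K // ∀ z : K, P.1 (σ z) = P.1 z}, ∃ u : S,
      σ.1 x = algebraMap k K (u.1 ^ 2) * x ∧ σ.1 y = algebraMap k K (u.1 ^ 3) * y := fun σ => by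
    obtain ⟨u, hu, hua, hub, h1, h2'⟩ :=
      Groth.Agent.FunFldMisc.exists_scale hK hgen hP h2 h3 heq hx hx2 hy hy3 σ.1 σ.2
    exact ⟨⟨u, hu, hua, hub⟩, h1, h2'⟩
  choose φ hφx hφy using hex
  have hinj : Function.Injective φ := fun σ τ h => by
    have h1 : σ.1 x = τ.1 x := by rw [hφx, hφx, h]
    have h2' : σ.1 y = τ.1 y := by rw [hφy, hφy, h]
    have hle : IntermediateField.adjoin k ({x, y} : Set K) ≤
        (IntermediateField.adjoin k {z : K | σ.1 z = τ.1 z}) := IntermediateField.adjoin.mono k _ _ (by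
      rintro z (rfl | rfl)
      · exact h1
      · exact h2')
    refine Subtype.ext (AlgEquiv.ext fun z => ?_)
    have hz : z ∈ IntermediateField.adjoin k {z : K | σ.1 z = τ.1 z} := hle (hxy ▸ IntermediateField.mem_top)
    induction hz using IntermediateField.adjoin_induction with
    | mem w hw => exact hw
    | algebraMap c => rw [σ.1.commutes, τ.1.commutes]
    | add v w _ _ hv hw => rw [map_add, map_add, hv, hw]
    | inv v _ hv => rw [map_inv₀, map_inv₀, hv]
    | mul v w _ _ hv hw => rw [map_mul, map_mul, hv, hw]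
  have hx0 : x ≠ 0 := fun e => by rw [e, Groth.Agent.FunFld.ord_zero] at hx2; omega
  have hy0 : y ≠ 0 := fun e => by rw [e, Groth.Agent.FunFld.ord_zero] at hy3; omega
  have hsurj : Function.Surjective φ := fun u => by
    obtain ⟨u, hu, hua, hub⟩ := u
    set x' := algebraMap k K (u ^ 2) * x with hx'
    set y' := algebraMap k K (u ^ 3) * y with hy'
    have hne : ∀ n : ℕ, algebraMap k K (u ^ n) ≠ 0 := fun n => by simpa using pow_ne_zero n hu
    have ox : P.ord x' = -2 := by
      rw [hx', Groth.Agent.FunFld.ord_mul P (hne 2) hx0, Groth.Agent.FunFld.ord_algebraMap, hx2, zero_add]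
    have oy : P.ord y' = -3 := by
      rw [hy', Groth.Agent.FunFld.ord_mul P (hne 3) hy0, Groth.Agent.FunFld.ord_algebraMap, hy3, zero_add]
    have he' : y' ^ 2 = x' ^ 3 + algebraMap k K a * x' + algebraMap k K b := by
      have e1 : algebraMap k K a * algebraMap k K u ^ 4 = algebraMap k K a := by
        rw [← map_pow, ← map_mul, hua]
      have e2 : algebraMap k K b * algebraMap k K u ^ 6 = algebraMap k K b := by
        rw [← map_pow, ← map_mul, hub]
      simp only [hx', hy', map_pow]
      linear_combination algebraMap k K u ^ 6 * heq + algebraMap k K u ^ 2 * x * e1 + e2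
    have hxy' : IntermediateField.adjoin k ({x', y'} : Set K) = ⊤ := by
      rw [eq_top_iff, ← hxy, IntermediateField.adjoin_le_iff]
      rintro z (rfl | rfl)
      · have h := mul_mem (inv_mem (IntermediateField.algebraMap_mem
          (IntermediateField.adjoin k ({x', y'} : Set K)) (u ^ 2)))
          (IntermediateField.subset_adjoin k _ (Set.mem_insert x' _))
        rwa [hx', inv_mul_cancel_left₀ (hne 2)] at h
      · have h := mul_mem (inv_mem (IntermediateField.algebraMap_mem
          (IntermediateField.adjoin k ({x', y'} : Set K)) (u ^ 3)))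
          (IntermediateField.subset_adjoin k _ (Set.mem_insert_of_mem x' (Set.mem_singleton y')))
        rwa [hy', inv_mul_cancel_left₀ (hne 3)] at h
    obtain ⟨σ, hσx, hσy⟩ := Groth.Agent.FunFldMisc.exists_gen_equiv hK P hx2 hy3 ox oy heq he' hxy hxy'
    have hσ : ∀ z : K, P.1 (σ z) = P.1 z := by
      let Q : FunFld.Place k K := ⟨P.1.comap σ.toRingEquiv.toRingHom,
        fun c => by
          show P.1 (σ (algebraMap k K c)) ≤ 1
          rw [σ.commutes]; exact P.2.1 c,
        fun r => by
          obtain ⟨w, hw⟩ := P.2.2 r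
          exact ⟨σ.symm w, by show P.1 (σ (σ.symm w)) = r; rw [σ.apply_symm_apply, hw]⟩⟩
      have hQP : Q = P := by
        by_contra hne'
        have h := hx Q
        rw [Finsupp.single_eq_of_ne hne'] at h
        change P.1 (σ x) ≤ _ at h
        have hx'0 : x' ≠ 0 := mul_ne_zero (hne 2) hx0
        rw [hσx, Groth.Agent.FunFld.le_exp_iff P hx'0, ox] at h
        omega
      intro z
      exact congrArg (fun T : FunFld.Place k K => T.1 z) hQP
    refine ⟨⟨σ, hσ⟩, Subtype.ext ?_⟩
    set v := φ ⟨σ, hσ⟩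
    have e2 : v.1 ^ 2 = u ^ 2 := (algebraMap k K).injective
      (mul_right_cancel₀ hx0 ((hφx ⟨σ, hσ⟩).symm.trans hσx))
    have e3 : v.1 ^ 3 = u ^ 3 := (algebraMap k K).injective
      (mul_right_cancel₀ hy0 ((hφy ⟨σ, hσ⟩).symm.trans hσy))
    exact mul_left_cancel₀ (pow_ne_zero 2 hu) (by linear_combination e3 - v.1 * e2)
  rw [Nat.card_congr (Equiv.ofBijective φ ⟨hinj, hsurj⟩)]
  have key : ∀ n : ℕ, (n = 2 ∨ n = 4 ∨ n = 6) →
      (∀ u : k, (u ≠ 0 ∧ a * u ^ 4 = a ∧ b * u ^ 6 = b) ↔ u ^ n = 1) → Nat.card S = n := fun n hn h => by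
    rw [Nat.card_congr (Equiv.subtypeEquivRight h)]
    exact Groth.Agent.FunFldMisc.card_roots_of_unity h2 h3 n hn
  split_ifs with ha hb
  · have hb : b ≠ 0 := fun e => hdisc (by rw [ha, e]; ring)
    refine key 6 (by norm_num) fun u => ⟨fun h => ?_, fun h => ?_⟩
    · exact mul_left_cancel₀ hb (by rw [h.2.2, mul_one])
    · exact ⟨fun e => by rw [e] at h; simp at h, by rw [ha]; ring, by rw [h, mul_one]⟩
  · refine key 4 (by norm_num) fun u => ⟨fun h => ?_, fun h => ?_⟩
    · exact mul_left_cancel₀ ha (by rw [h.2.1, mul_one])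
    · exact ⟨fun e => by rw [e] at h; simp at h, by rw [h, mul_one], by rw [hb]; ring⟩
  · refine key 2 (by norm_num) fun u => ⟨fun h => ?_, fun h => ?_⟩
    · have h4 : u ^ 4 = 1 := mul_left_cancel₀ ha (by rw [h.2.1, mul_one])
      have h6 : u ^ 6 = 1 := mul_left_cancel₀ hb (by rw [h.2.2, mul_one])
      linear_combination h6 - u ^ 2 * h4
    · refine ⟨fun e => by rw [e] at h; simp at h, ?_, ?_⟩
      · linear_combination a * (u ^ 2 + 1) * h
      · linear_combination b * (u ^ 4 + u ^ 2 + 1) * h

end Groth.Agent.S19397
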