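import Groth.Statements.S19402
import Mathlib
import Groth.Agent.Purity.CodimOne
import Groth.Agent.Purity.CHR

set_option autoImplicit false
universe u v w
open scoped Pointwise
open GLin

namespace Groth.Agent.S19402

/-- Let k be an algebraically closed field of characteristic zero, R a finitely generated commutative
k-algebra which is an integrally closed domain (a normal irreducible affine variety X), and G a
finite group acting faithfully on R by k-algebra automorphisms. Let B be a commutative k-algebra
with an injective algebra map B → R, compatible with the k-structures and G-invariant, whose image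
is exactly the subring of G-invariants (so Spec R → Spec B is the quotient morphism X → X/G). Then
for a maximal ideal m of R (a closed point x of X), R is étale over B at m (the local ring R_m is
formally étale over B) if and only if the stabilizer of m in G is trivial. -/
theorem result (k : Type u) [Field k] [IsAlgClosed k] [CharZero k]
    (R : Type v) [CommRing R] [IsDomain R] [IsIntegrallyClosed R] [Algebra k R] [Algebra.FiniteType k R]
    (G : Type w) [Group G] [Finite G] [MulSemiringAction G R] [FaithfulSMul G R] [SMulCommClass G k R]
    (B : Type v) [CommRing B] [Algebra k B] [Algebra B R] [IsScalarTower k B R] [FaithfulSMul B R]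
    [SMulCommClass G B R] [Algebra.IsInvariant B R G]
    (m : Ideal R) [m.IsMaximal] :
    Algebra.IsEtaleAt B m ↔ MulAction.stabilizer G m = ⊥ := by
  classical
  haveI hB : Algebra.IsIntegral B R := Algebra.IsInvariant.isIntegral B R G
  haveI : Algebra.FiniteType B R := Algebra.FiniteType.of_restrictScalars_finiteType k B R
  haveI : Module.Finite B R := Algebra.IsIntegral.finite
  have hinj : Function.Injective (algebraMap B R) := (faithfulSMul_iff_algebraMap_injective B R).1 inferInstance
  haveI : Algebra.FiniteType k B := ⟨fg_of_fg_of_fg k B R (Algebra.FiniteType.out) Module.Finite.fg_top hinj⟩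
  haveI : IsNoetherianRing B := Algebra.FiniteType.isNoetherianRing k B
  haveI : IsNoetherianRing R := Algebra.FiniteType.isNoetherianRing k R
  constructor
  · intro het
    rw [eq_bot_iff]
    intro σ hσ
    rw [Subgroup.mem_bot]
    have hσm : ∀ x, x ∈ m → σ • x ∈ m := fun x hx => by
      have h := Ideal.smul_mem_pointwise_smul σ x m hx
      rwa [MulAction.mem_stabilizer_iff.1 hσ] at h
    letI := Ideal.Quotient.field m
    haveI : Algebra.IsIntegral k (R ⧸ m) := by
      haveI : Algebra.FiniteType k (R ⧸ m) := inferInstance
      haveI : Module.Finite k (R ⧸ m) := finite_of_finite_type_of_isJacobsonRing k (R ⧸ m)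
      exact Algebra.IsIntegral.of_finite k (R ⧸ m)
    have hres : ∀ a : R, σ • a - a ∈ m := fun a => by
      obtain ⟨c, hc⟩ := (IsAlgClosed.algebraMap_bijective_of_isIntegral (k := k) (K := R ⧸ m)).2 (Ideal.Quotient.mk m a)
      have h : a - algebraMap k R c ∈ m := Ideal.Quotient.eq.1 hc.symm
      have h2 := sub_mem (hσm _ h) h
      rwa [smul_sub, smul_algebraMap, sub_sub_sub_cancel_right] at h2
    let L := Localization.AtPrime m
    haveI : Algebra.FormallyEtale B L := het
    haveI : IsDomain L := IsLocalization.isDomain_localization m.primeCompl_le_nonZeroDivisors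
    let f : R →+* R := MulSemiringAction.toRingHom G R σ
    have hf : m.primeCompl ≤ m.primeCompl.comap f := fun x hx hx' => hx (by
      have h := sub_mem hx' (hres x)
      simpa [f] using h)
    let s : L →+* L := IsLocalization.map L f hf
    have hs : ∀ x, s (algebraMap R L x) = algebraMap R L (σ • x) := fun x => IsLocalization.map_eq hf x
    have hcom : ∀ b : B, s (algebraMap B L b) = algebraMap B L b := fun b => by
      rw [IsScalarTower.algebraMap_apply B R L, hs, smul_algebraMap]
    let s' : L →ₐ[B] L := { s with commutes' := hcom }
    refine FaithfulSMul.eq_of_smul_eq_smul (α := R) fun a => ?_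
    rw [one_smul]
    apply IsLocalization.injective L m.primeCompl_le_nonZeroDivisors
    rw [← sub_eq_zero]
    have hall : ∀ n : ℕ, algebraMap R L (σ • a) - algebraMap R L a ∈ IsLocalRing.maximalIdeal L ^ n := by
      intro n
      rcases Nat.eq_zero_or_pos n with rfl | hn
      · simp
      let q : L →ₐ[B] L ⧸ IsLocalRing.maximalIdeal L ^ n := Ideal.Quotient.mkₐ B _
      let g : (L ⧸ IsLocalRing.maximalIdeal L ^ n) →+* L ⧸ IsLocalRing.maximalIdeal L :=
        Ideal.Quotient.factor (Ideal.pow_le_self hn.ne')
      have hnil : IsNilpotent (RingHom.ker g) := by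
        refine ⟨n, ?_⟩
        rw [Ideal.Quotient.factor_ker, ← Ideal.map_pow, Ideal.map_quotient_self]
        rfl
      have hgq : (g.comp (q.comp s').toRingHom) = g.comp q.toRingHom := by
        refine IsLocalization.ringHom_ext m.primeCompl (RingHom.ext fun x => ?_)
        show g (Ideal.Quotient.mk _ (s (algebraMap R L x))) = g (Ideal.Quotient.mk _ (algebraMap R L x))
        rw [hs]
        refine Ideal.Quotient.eq.2 ?_
        rw [← map_sub]
        exact (IsLocalization.AtPrime.to_map_mem_maximal_iff L m _).2 (hres x)
      have := DFunLike.congr_fun (Algebra.FormallyUnramified.ext' g hnil (q.comp s') q fun x =>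
        DFunLike.congr_fun hgq x) (algebraMap R L a)
      rw [← hs]
      exact Ideal.Quotient.eq.1 this
    have hmem : algebraMap R L (σ • a) - algebraMap R L a ∈ (⨅ n, IsLocalRing.maximalIdeal L ^ n : Ideal L) :=
      Ideal.mem_iInf.2 hall
    rwa [Ideal.iInf_pow_eq_bot_of_isLocalRing _ (IsLocalRing.maximalIdeal.isMaximal L).ne_top, Ideal.mem_bot] at hmem
  · intro hst
    haveI : Fintype G := Fintype.ofFinite G
    let p := m.comap (algebraMap B R)
    haveI : p.IsPrime := Ideal.comap_isPrime _ _
    have hI : ∀ P : Ideal R, P.IsPrime → P.comap (algebraMap B R) = p → P.inertia G ≤ (⊥ : Subgroup G) := by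
      intro P hP hPp
      haveI := hP
      obtain ⟨g, hg⟩ := Algebra.IsInvariant.exists_smul_of_under_eq B R G m P hPp.symm
      intro σ hσ
      have hstab : σ ∈ MulAction.stabilizer G P := by
        rw [MulAction.mem_stabilizer_iff]
        ext x
        rw [Ideal.mem_pointwise_smul_iff_inv_smul_mem]
        have h := (hσ (σ⁻¹ • x))
        rw [smul_inv_smul] at h
        exact ⟨fun hx => by simpa using add_mem h hx, fun hx => by simpa using sub_mem hx h⟩
      have h2 : g⁻¹ * σ * g ∈ MulAction.stabilizer G m := by
        rw [MulAction.mem_stabilizer_iff, mul_smul, mul_smul, ← hg, MulAction.mem_stabilizer_iff.1 hstab, hg,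
          inv_smul_smul]
      rw [hst, Subgroup.mem_bot] at h2
      rw [Subgroup.mem_bot]
      rw [mul_assoc, inv_mul_eq_one] at h2
      simpa using (mul_eq_right.1 h2.symm)
    obtain ⟨s, hs, ι, hι, x, y, -, -, hsum, hzero⟩ :=
      Purity.CHR.exists_chr hinj hI (Finset.univ.erase (1 : G))
        (fun σ hσ => fun h => (Finset.mem_erase.1 hσ).1 (Subgroup.mem_bot.1 h))
    choose T hT using fun c : R => Algebra.IsInvariant.isInvariant (A := B) (G := G) (∑ g : G, g • c) fun g => by
      rw [Finset.smul_sum]
      exact Fintype.sum_equiv (Equiv.mulLeft g) _ _ fun h => (mul_smul g h c).symm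
    let t : R →ₗ[B] B :=
      { toFun := T
        map_add' := fun c c' => hinj (by
          rw [map_add, hT, hT, hT]; simp only [smul_add, Finset.sum_add_distrib])
        map_smul' := fun r c => hinj (by
          rw [RingHom.id_apply, smul_eq_mul, map_mul, hT, hT, ← Algebra.smul_def, Finset.smul_sum]
          exact Finset.sum_congr rfl fun h _ => smul_comm h r c) }
    have het : Algebra.Etale B (Localization.Away (algebraMap B R s)) := by
      refine Purity.etale_away_of_trace x y t s hsum (fun c => ?_) (fun c => ?_)
      · have h1 : ∀ i, t (y i * c) • x i = ∑ h : G, x i * (h • y i * h • c) := fun i => by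
          rw [Algebra.smul_def]
          show algebraMap B R (T (y i * c)) * x i = _
          rw [hT, Finset.sum_mul]
          exact Finset.sum_congr rfl fun h _ => by rw [smul_mul', mul_comm]
        rw [Finset.sum_congr rfl fun i _ => h1 i, Finset.sum_comm, Finset.sum_eq_single (1 : G)]
        · simp only [one_smul]
          rw [Algebra.smul_def, ← hsum, Finset.sum_mul]
          exact Finset.sum_congr rfl fun i _ => by ring
        · intro h _ hne
          simp only [← mul_assoc]
          rw [← Finset.sum_mul, hzero h (Finset.mem_erase.2 ⟨hne, Finset.mem_univ _⟩), zero_mul]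
        · exact fun h => absurd (Finset.mem_univ _) h
      · have h1 : ∀ i, t (x i * c) • y i = ∑ h : G, y i * (h • x i * h • c) := fun i => by
          rw [Algebra.smul_def]
          show algebraMap B R (T (x i * c)) * y i = _
          rw [hT, Finset.sum_mul]
          exact Finset.sum_congr rfl fun h _ => by rw [smul_mul', mul_comm]
        rw [Finset.sum_congr rfl fun i _ => h1 i, Finset.sum_comm, Finset.sum_eq_single (1 : G)]
        · simp only [one_smul]
          rw [Algebra.smul_def, ← hsum, Finset.sum_mul]
          exact Finset.sum_congr rfl fun i _ => by ring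
        · intro h _ hne
          have h2 : ∀ i, y i * (h • x i * h • c) = h • ((x i * h⁻¹ • y i) * c) := fun i => by
            rw [smul_mul', smul_mul', smul_inv_smul]; ring
          rw [Finset.sum_congr rfl fun i _ => h2 i, ← Finset.smul_sum, ← Finset.sum_mul,
            hzero h⁻¹ (Finset.mem_erase.2 ⟨inv_ne_one.2 hne, Finset.mem_univ _⟩), zero_mul, smul_zero]
        · exact fun h => absurd (Finset.mem_univ _) h
    haveI : Algebra.FinitePresentation B R := Algebra.FinitePresentation.of_finiteType.1 inferInstance
    exact Algebra.basicOpen_subset_etaleLocus_iff_etale.2 het (show (⟨m, inferInstance⟩ : PrimeSpectrum R) ∈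
      (PrimeSpectrum.basicOpen (algebraMap B R s) : Set (PrimeSpectrum R)) from hs)

end Groth.Agent.S19402
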