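import Groth.Statements.S19404
import Groth.Agent.LunaEt.Chart

set_option autoImplicit false
set_option maxHeartbeats 1000000
set_option synthInstance.maxHeartbeats 200000
universe u
open TensorProduct
open GLin

namespace Groth.Agent.S19404

/-- Let k be an algebraically closed field of characteristic zero, A a finitely generated commutative
Hopf algebra over k which is an integral domain and all of whose finite-dimensional comodules are
semisimple (a connected reductive group G), R a reduced finitely generated commutative k-algebra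
with a multiplicative A-coaction (G acting on the affine variety X = Spec R), and x a k-point of X
whose orbit is closed. Then there is a G-invariant function f on X with f(x) ≠ 0 (so the
non-vanishing locus X_f is a saturated open neighbourhood of x) such that for every k-point x' of X
with f(x') ≠ 0 whose orbit is closed there is a k-point g of G with the stabilizer ideal of x
contained in the stabilizer ideal of the translate of x' by g: the stabilizer of x' is conjugate to
a subgroup of the stabilizer of x. (The published statement allows any reductive G; the argument in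
the source is complete for connected G, which is assumed here.) -/
theorem result (k : Type u) [Field k] [IsAlgClosed k] [CharZero k]
    (A : Type u) [CommRing A] [IsDomain A] [HopfAlgebra k A] [Algebra.FiniteType k A] (hG : HopfRep.IsLinearlyReductive k A)
    (R : Type u) [CommRing R] [IsReduced R] [Algebra k R] [Algebra.FiniteType k R] [HopfRep.Comod k A R] [GLin.IsCoactAlg k A R]
    (x : R →ₐ[k] k) (hx : GLin.IsClosedOrbit k A x) :
    ∃ f ∈ GLin.invariants k A R, x f ≠ 0 ∧
      ∀ x' : R →ₐ[k] k, x' f ≠ 0 → GLin.IsClosedOrbit k A x' →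
        ∃ g : A →ₐ[k] k, GLin.stabIdeal k A x ≤ GLin.stabIdeal k A (GLin.actPt k g x') := by
  obtain ⟨C, _, _, _, _, _, _, hft, hequiv, z, hzx, het, hinj, hconj⟩ := LunaEt.exists_chart hG x hx
  haveI := hft
  let jC : R →ₐ[k] C := IsScalarTower.toAlgHom k R C
  let R₀ := GLin.invariants k A R
  let C₀ := GLin.invariants k A C
  letI : Algebra R₀ C₀ := (((algebraMap R C).comp R₀.val.toRingHom).codRestrict C₀ fun a =>
    LunaEt.map_mem_invariants jC hequiv a.2).toAlgebra
  haveI : IsScalarTower R₀ C₀ C := IsScalarTower.of_algebraMap_eq fun _ => rfl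
  let m : Ideal C := RingHom.ker z.toRingHom
  haveI : m.IsMaximal := LunaEt.isMaximal_ker z
  have hy : GLin.IsClosedOrbit k A (z.comp jC) := by rw [hzx]; exact hx
  obtain ⟨f, g, hne, hsurjP, -, -, -, -, hdec⟩ := LunaEt.fundamental (R := C) (S := R) (S₀ := R₀) (R₀ := C₀) hequiv
    Subtype.val_injective (Subalgebra.range_val _) Subtype.val_injective (Subalgebra.range_val _) hG z m rfl het hy
    (fun a ha => hinj a (by rw [hzx] at ha; exact ha))
  let h : C := algebraMap C₀ C (f * algebraMap R₀ C₀ g)
  have hh : h ∈ GLin.invariants k A C := (f * algebraMap R₀ C₀ g).2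
  refine ⟨(g : R), g.2, fun h0 => hne ?_, fun x' hx' _ => ?_⟩
  · rw [map_mul (algebraMap C₀ C), map_mul z, show algebraMap C₀ C (algebraMap R₀ C₀ g) = jC (g : R) from rfl,
      show z (jC (g : R)) = x (g : R) from AlgHom.congr_fun hzx _, h0, mul_zero]
  · obtain ⟨Q, hQ, hhQ, hQx⟩ := hsurjP (RingHom.ker x'.toRingHom) (RingHom.ker_isPrime _) hx'
    haveI : IsJacobsonRing C := isJacobsonRing_of_finiteType (A := k)
    have hQJ := hhQ
    rw [← IsJacobsonRing.out inferInstance hQ.isRadical, Ideal.jacobson, Submodule.mem_sInf] at hQJ
    push Not at hQJ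
    obtain ⟨M, ⟨hQM, hM⟩, hhM⟩ := hQJ
    obtain ⟨z', rfl⟩ := GLinFree.exists_point_of_maximal (k := k) M
    have hz'x : z'.comp jC = x' := (GLinFree.point_ext fun s hs => by
      have h1 : algebraMap R C s ∈ Q := Ideal.mem_comap.1 (hQx.ge hs)
      exact RingHom.mem_ker.2 (RingHom.mem_ker.1 (hQM h1))).symm
    have hz'h : z' h ≠ 0 := fun h0 => hhM (RingHom.mem_ker.2 h0)
    -- functions on the lifted orbit come from the orbit below
    have hdesc : ∀ c : C, ∃ s : R, GLin.orbitHom k A z' c = GLin.orbitHom k A x' s := by
      intro c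
      obtain ⟨n, w, hw⟩ := hdec c
      have hrange : ∀ w, ∃ s : R, GLin.orbitHom k A z'
          (Algebra.TensorProduct.productMap (IsScalarTower.toAlgHom R₀ R C) (IsScalarTower.toAlgHom R₀ C₀ C) w) =
            GLin.orbitHom k A x' s := by
        intro w
        induction w using TensorProduct.induction_on with
        | zero => exact ⟨0, by rw [map_zero, map_zero, map_zero]⟩
        | add a b ha hb =>
          obtain ⟨s, hs⟩ := ha
          obtain ⟨t, ht⟩ := hb
          exact ⟨s + t, by rw [map_add, map_add, map_add, hs, ht]⟩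
        | tmul s c₀ =>
          refine ⟨z' (c₀ : C) • s, ?_⟩
          rw [Algebra.TensorProduct.productMap_apply_tmul, map_mul]
          show GLin.orbitHom k A z' (jC s) * GLin.orbitHom k A z' (c₀ : C) = _
          rw [LunaEt.orbitHom_of_mem_invariants z' c₀.2, LunaEt.orbitHom_comp' jC hequiv z' s, hz'x, map_smul,
            Algebra.smul_def, mul_comm]
      obtain ⟨s, hs⟩ := hrange w
      rw [hw, map_mul, map_pow, LunaEt.orbitHom_of_mem_invariants z' hh, ← map_pow, ← Algebra.smul_def] at hs
      refine ⟨((z' h) ^ n)⁻¹ • s, ?_⟩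
      rw [map_smul, ← hs, smul_smul, inv_mul_cancel₀ (pow_ne_zero _ hz'h), one_smul]
    have hstab : GLin.stabIdeal k A z' ≤ GLin.stabIdeal k A x' := by
      refine Ideal.map_le_iff_le_comap.2 fun c hc => ?_
      obtain ⟨s, hs⟩ := hdesc c
      rw [Ideal.mem_comap, hs]
      refine Ideal.mem_map_of_mem _ ?_
      rw [RingHom.mem_ker, ← GLinFree.counit_orbit (A := A) x' s, ← hs, GLinFree.counit_orbit (A := A) z' c]
      exact hc
    obtain ⟨a, ha⟩ := hconj z'
    exact ⟨a, ha.trans (LunaEt.stabIdeal_actPt_le z' x' a hstab)⟩

end Groth.Agent.S19404
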