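import Groth.Statements.S19406
import Groth.Agent.GLinFree.Coideal
import Groth.Agent.Comod.Reynolds
import Mathlib.RingTheory.HopfAlgebra.GroupLike

set_option autoImplicit false
set_option linter.unusedSectionVars false
universe u
open TensorProduct
open GLin

namespace Groth.Agent.S19406

section Twist
variable {k : Type u} [Field k] {A : Type u} [CommRing A] [HopfAlgebra k A]
variable {R : Type u} [CommRing R] [Algebra k R] [HopfRep.Comod k A R] [GLin.IsCoactAlg k A R]

/-- `R` with the coaction twisted by a group-like element -/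
def Tw (ψ : A) (_hψ : IsGroupLikeElem k ψ) (R : Type u) : Type u := R

variable (ψ : A) (hψ : IsGroupLikeElem k ψ)

instance : AddCommGroup (Tw ψ hψ R) := inferInstanceAs (AddCommGroup R)
instance : Module k (Tw ψ hψ R) := inferInstanceAs (Module k R)

/-- multiplication by `1 ⊗ ψ` after the coaction -/
def twCoact : R →ₗ[k] R ⊗[k] A :=
  LinearMap.mulRight k ((1 : R) ⊗ₜ[k] ψ) ∘ₗ HopfRep.Comod.coact (k := k) (A := A)

include hψ in
theorem twCoact_coassoc (m : R) :
    TensorProduct.assoc k R A A ((twCoact (k := k) ψ).rTensor A (twCoact (k := k) ψ m)) =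
      Coalgebra.comul.lTensor R (twCoact (k := k) (R := R) ψ m) := by
  let ρ : R →ₗ[k] R ⊗[k] A := HopfRep.Comod.coact
  have h1 : ∀ t : R ⊗[k] A, TensorProduct.assoc k R A A ((twCoact (k := k) ψ).rTensor A (t * ((1 : R) ⊗ₜ[k] ψ))) =
      TensorProduct.assoc k R A A (ρ.rTensor A t) * ((1 : R) ⊗ₜ[k] (ψ ⊗ₜ[k] ψ)) := fun t => by
    induction t using TensorProduct.induction_on with
    | zero => simp
    | add a b ha hb => simp only [add_mul, map_add, ha, hb]
    | tmul a b =>
      rw [Algebra.TensorProduct.tmul_mul_tmul, LinearMap.rTensor_tmul, LinearMap.rTensor_tmul, mul_one]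
      show TensorProduct.assoc k R A A ((ρ a * ((1 : R) ⊗ₜ[k] ψ)) ⊗ₜ[k] (b * ψ)) =
        TensorProduct.assoc k R A A (ρ a ⊗ₜ[k] b) * _
      generalize ρ a = s
      induction s using TensorProduct.induction_on with
      | zero => simp
      | tmul p q => simp [Algebra.TensorProduct.tmul_mul_tmul]
      | add p q hp hq => simp only [add_mul, TensorProduct.add_tmul, map_add, hp, hq]
  have h2 : ∀ t : R ⊗[k] A, Coalgebra.comul.lTensor R (t * ((1 : R) ⊗ₜ[k] ψ)) =
      Coalgebra.comul.lTensor R t * ((1 : R) ⊗ₜ[k] (ψ ⊗ₜ[k] ψ)) := fun t => by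
    induction t using TensorProduct.induction_on with
    | zero => simp
    | add a b ha hb => simp only [add_mul, map_add, ha, hb]
    | tmul a b => simp [Algebra.TensorProduct.tmul_mul_tmul, Bialgebra.comul_mul, hψ.comul_eq_tmul_self]
  show TensorProduct.assoc k R A A ((twCoact (k := k) ψ).rTensor A (ρ m * _)) =
    Coalgebra.comul.lTensor R (ρ m * _)
  rw [h1, h2, show TensorProduct.assoc k R A A (ρ.rTensor A (ρ m)) = Coalgebra.comul.lTensor R (ρ m) from
    LinearMap.congr_fun HopfRep.Comod.coassoc m]

include hψ in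
theorem twCoact_counit (m : R) : Coalgebra.counit.lTensor R (twCoact (k := k) ψ m) = m ⊗ₜ[k] (1 : k) := by
  have h2 : ∀ t : R ⊗[k] A, Coalgebra.counit.lTensor R (t * ((1 : R) ⊗ₜ[k] ψ)) =
      Coalgebra.counit.lTensor R t := fun t => by
    induction t using TensorProduct.induction_on with
    | zero => simp
    | add a b ha hb => simp only [add_mul, map_add, ha, hb]
    | tmul a b => simp [Algebra.TensorProduct.tmul_mul_tmul, hψ.counit_eq_one]
  show Coalgebra.counit.lTensor R (HopfRep.Comod.coact (k := k) (A := A) m * _) = _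
  rw [h2]
  exact LinearMap.congr_fun HopfRep.Comod.counit_comp m

instance : HopfRep.Comod k A (Tw ψ hψ R) where
  coact := twCoact (k := k) (R := R) ψ
  coassoc := LinearMap.ext fun m => twCoact_coassoc (R := R) ψ hψ m
  counit_comp := LinearMap.ext fun m => twCoact_counit (R := R) ψ hψ m

end Twist

/-- A character trivial on the stabiliser of a closed orbit extends to a semi-invariant function. -/
theorem exists_semiInvariant {k : Type u} [Field k] [IsAlgClosed k] [CharZero k]
    {A : Type u} [CommRing A] [HopfAlgebra k A] [Algebra.FiniteType k A] (r : Comod.Integral k A)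
    {R : Type u} [CommRing R] [Algebra k R] [HopfRep.Comod k A R] [GLin.IsCoactAlg k A R]
    (x : R →ₐ[k] k) (hx : GLin.IsClosedOrbit k A x) {χ : A} (hχ : IsGroupLikeElem k χ)
    (h : χ - 1 ∈ GLin.stabIdeal k A x) :
    ∃ f : R, HopfRep.Comod.coact (k := k) (A := A) f = f ⊗ₜ[k] χ ∧ x f = 1 := by
  obtain ⟨y, hy⟩ := GLinFree.mem_range_of_sub_one_mem x hx hχ h
  have hψ : IsGroupLikeElem k (HopfAlgebra.antipode k χ) := hχ.antipode
  set ψ := HopfAlgebra.antipode k χ
  let f : R := Comod.cR r.toFun (HopfRep.Comod.coact (k := k) (A := A) y * ((1 : R) ⊗ₜ[k] ψ))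
  have hmem : twCoact (k := k) (R := R) ψ f = f ⊗ₜ[k] (1 : A) :=
    Comod.reynolds_mem (V := Tw ψ hψ R) r y
  refine ⟨f, ?_, ?_⟩
  · have := congrArg (· * ((1 : R) ⊗ₜ[k] χ)) hmem
    simp only [twCoact, LinearMap.comp_apply, LinearMap.mulRight_apply, mul_assoc,
      Algebra.TensorProduct.tmul_mul_tmul, one_mul, mul_one] at this
    rwa [show ψ * χ = 1 from hχ.antipode_mul_cancel, ← Algebra.TensorProduct.one_def, mul_one] at this
  · have h1 : ∀ t : R ⊗[k] A, GLin.orbitHom k A x (Comod.cR r.toFun (t * ((1 : R) ⊗ₜ[k] ψ))) =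
        Comod.cR r.toFun ((GLin.orbitHom k A x).toLinearMap.rTensor A t * ((1 : A) ⊗ₜ[k] ψ)) := fun t => by
      induction t using TensorProduct.induction_on with
      | zero => simp
      | add a b ha hb => simp only [add_mul, map_add, ha, hb]
      | tmul a b => simp [Algebra.TensorProduct.tmul_mul_tmul]
    have h2 : GLin.orbitHom k A x f = χ := by
      show GLin.orbitHom k A x (Comod.cR r.toFun (GLin.coactAlgHom k A R y * _)) = χ
      rw [h1, ← OrbitCot.comul_orbitHom, show GLin.orbitHom k A x y = χ from hy, hχ.comul_eq_tmul_self,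
        Algebra.TensorProduct.tmul_mul_tmul, mul_one, show χ * ψ = 1 from hχ.mul_antipode_cancel, Comod.cR_tmul,
        r.one, one_smul]
    have h3 : ∀ t, Coalgebra.counit (R := k) ((Algebra.TensorProduct.lid k A).toAlgHom
        (Algebra.TensorProduct.map x (AlgHom.id k A) t)) = x (TensorProduct.rid k R (Coalgebra.counit.lTensor R t)) :=
      fun t => by
        induction t using TensorProduct.induction_on with
        | zero => simp
        | tmul a b => simp [mul_comm]
        | add a b ha hb => simp only [map_add, ha, hb]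
    have h4 := h3 (GLin.coactAlgHom k A R f)
    rw [show (Algebra.TensorProduct.lid k A).toAlgHom (Algebra.TensorProduct.map x (AlgHom.id k A)
      (GLin.coactAlgHom k A R f)) = GLin.orbitHom k A x f from rfl, h2, hχ.counit_eq_one, GLin.coactAlgHom_apply,
      show Coalgebra.counit.lTensor R (HopfRep.Comod.coact (k := k) (A := A) f) = f ⊗ₜ (1 : k) from
        LinearMap.congr_fun HopfRep.Comod.counit_comp f, TensorProduct.rid_tmul, one_smul] at h4
    exact h4.symm

theorem sub_one_mem_of_semiInvariant {k : Type u} [Field k] {A : Type u} [CommRing A] [HopfAlgebra k A]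
    {R : Type u} [CommRing R] [Algebra k R] [HopfRep.Comod k A R] [GLin.IsCoactAlg k A R]
    (x : R →ₐ[k] k) {χ : A} {f : R} (hf : HopfRep.Comod.coact (k := k) (A := A) f = f ⊗ₜ[k] χ) (hne : x f ≠ 0) :
    χ - 1 ∈ GLin.stabIdeal k A x := by
  have horb : GLin.orbitHom k A x f = algebraMap k A (x f) * χ := by
    show (Algebra.TensorProduct.lid k A).toAlgHom
      (Algebra.TensorProduct.map x (AlgHom.id k A) (HopfRep.Comod.coact (k := k) (A := A) f)) = _
    rw [hf]
    simp [Algebra.smul_def]
  have h1 : GLin.orbitHom k A x (f - algebraMap k R (x f)) ∈ GLin.stabIdeal k A x :=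
    Ideal.mem_map_of_mem _ (by simp [RingHom.mem_ker])
  rw [map_sub, AlgHom.commutes, horb] at h1
  have h2 := Ideal.mul_mem_left _ (algebraMap k A (x f)⁻¹) h1
  rwa [mul_sub, ← mul_assoc, ← map_mul, inv_mul_cancel₀ hne, map_one, one_mul] at h2

/-- Let k be an algebraically closed field of characteristic zero, A a finitely generated commutative
Hopf algebra over k which is an integral domain and all of whose finite-dimensional comodules are
semisimple (a connected reductive group G), R a reduced finitely generated commutative k-algebra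
with a multiplicative A-coaction (G acting on the affine variety X = Spec R), and χ a group-like
element of A (a character of G). Then there is a set E of G-invariant functions on X such that, for
every k-point x of X whose orbit is closed, χ − 1 lies in the stabilizer ideal of x (χ is trivial on
the stabilizer of x) if and only if some member of E does not vanish at x: the set of points of X//G
over which the closed orbit has stabilizer on which χ is trivial is open. (The published statement
allows any reductive G; this row assumes G connected, the case the source's argument covers.) -/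
theorem result (k : Type u) [Field k] [IsAlgClosed k] [CharZero k]
    (A : Type u) [CommRing A] [IsDomain A] [HopfAlgebra k A] [Algebra.FiniteType k A] (hG : HopfRep.IsLinearlyReductive k A)
    (R : Type u) [CommRing R] [IsReduced R] [Algebra k R] [Algebra.FiniteType k R] [HopfRep.Comod k A R] [GLin.IsCoactAlg k A R]
    (χ : A) (hχ : IsGroupLikeElem k χ) :
    ∃ E : Set R, E ⊆ GLin.invariants k A R ∧
      ∀ x : R →ₐ[k] k, GLin.IsClosedOrbit k A x →
        (χ - 1 ∈ GLin.stabIdeal k A x ↔ ∃ f ∈ E, x f ≠ 0) := by
  obtain ⟨r⟩ := Comod.nonempty_integral hG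
  refine ⟨{f | f ∈ GLin.invariants k A R ∧
    ∀ x' : R →ₐ[k] k, x' f ≠ 0 → χ - 1 ∈ GLin.stabIdeal k A x'}, fun f hf => hf.1, fun x hx => ⟨fun h => ?_, ?_⟩⟩
  · have hψ : IsGroupLikeElem k (HopfAlgebra.antipode k χ) := hχ.antipode
    have hψmem : HopfAlgebra.antipode k χ - 1 ∈ GLin.stabIdeal k A x := by
      have := Ideal.mul_mem_left _ (-(HopfAlgebra.antipode k χ)) h
      rwa [mul_sub, mul_one, neg_mul, hχ.antipode_mul_cancel, sub_neg_eq_add, neg_add_eq_sub] at this
    obtain ⟨f, hf, hfx⟩ := exists_semiInvariant r x hx hχ h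
    obtain ⟨f', hf', hfx'⟩ := exists_semiInvariant r x hx hψ hψmem
    refine ⟨f * f', ⟨?_, fun x' hx' => ?_⟩, by rw [map_mul, hfx, hfx', one_mul]; exact one_ne_zero⟩
    · rw [GLin.mem_invariants_iff, GLin.IsCoactAlg.coact_mul, hf, hf', Algebra.TensorProduct.tmul_mul_tmul,
        hχ.mul_antipode_cancel]
    · rw [map_mul] at hx'
      exact sub_one_mem_of_semiInvariant x' hf (left_ne_zero_of_mul hx')
  · rintro ⟨f, ⟨-, hf⟩, hfx⟩
    exact hf x hfx

end Groth.Agent.S19406
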