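import Groth.Statements.S19408
-- import your own Groth.Agent.* helpers here
import Mathlib.RingTheory.TensorProduct.Quotient
import Mathlib.RingTheory.IsTensorProduct
import Mathlib.RingTheory.Smooth.Flat
import Groth.Agent.Comod.Reynolds

set_option autoImplicit false
universe u
open TensorProduct
open GLin

namespace Groth.Agent.S19408


attribute [local instance] Algebra.TensorProduct.rightAlgebra in
lemma isPushout_quotient {S R : Type*} [CommRing S] [CommRing R] [Algebra S R] (J : Ideal S) :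
    Algebra.IsPushout S (S ⧸ J) R (R ⧸ J.map (algebraMap S R)) := by
  refine Algebra.IsPushout.of_equiv (Algebra.TensorProduct.quotIdealMapEquivQuotTensor R J).symm ?_
  ext r
  show (Algebra.TensorProduct.quotIdealMapEquivQuotTensor R J).symm (1 ⊗ₜ[S] r) = _
  rw [AlgEquiv.symm_apply_eq]
  rfl

/-- A map into the subring of invariants lifts through an injective parametrisation of it. -/
lemma exists_lift {k P Q : Type*} [CommSemiring k] [CommRing P] [CommRing Q] [Algebra k P] [Algebra k Q]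
    {T : Type*} [CommRing T] [Algebra k T] (ι : P →ₐ[k] Q) (hι : Function.Injective ι) (f : T →ₐ[k] Q)
    (hf : ∀ t, f t ∈ ι.range) : ∃ σ : T →ₐ[k] P, ∀ t, ι (σ t) = f t :=
  ⟨((AlgEquiv.ofInjective ι hι).symm.toAlgHom).comp (f.codRestrict ι.range hf), fun t => by
    have e := congrArg Subtype.val ((AlgEquiv.ofInjective ι hι).apply_symm_apply (f.codRestrict ι.range hf t))
    exact e⟩

/-- Let k be an algebraically closed field of characteristic zero, A a finitely generated commutative
Hopf algebra over k all of whose finite-dimensional comodules are semisimple (a reductive group G),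
S and R finitely generated commutative k-algebras with multiplicative A-coactions (G acting on
affine Y = Spec S and X = Spec R), S → R an algebra map compatible with the coactions (a G-morphism
θ : X → Y), S₀ → S and R₀ → R injective k-algebra maps whose images are the subrings of invariants,
and S₀ → R₀ an algebra map with S₀ → R₀ → R equal to S₀ → S → R (θ/G). Suppose R is étale over S, R₀
is étale over S₀, and the canonical map S ⊗_{S₀} R₀ → R is bijective (θ and θ/G étale and X ≅ Y
×_{Y//G} X//G). Let J be an ideal of S which is a subcomodule (Y' = V(J) a closed G-invariant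
subscheme), let S/J and R/JR carry A-coactions for which the quotient maps are compatible with the
coactions (the induced actions on Y' and X' = Y' ×_Y X), and let S₁ → S/J and R₁ → R/JR be injective
k-algebra maps whose images are the subrings of invariants, with S₁ → R₁ an algebra map such that S₁
→ R₁ → R/JR equals S₁ → S/J → R/JR. Then R/JR is étale over S/J, R₁ is étale over S₁, and the
canonical map (S/J) ⊗_{S₁} R₁ → R/JR is bijective (θ' : X' → Y' and θ'/G are étale and X' ≅ Y'
×_{Y'//G} X'//G). -/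
theorem result (k : Type u) [Field k] [IsAlgClosed k] [CharZero k]
    (A : Type u) [CommRing A] [HopfAlgebra k A] [Algebra.FiniteType k A] (hG : HopfRep.IsLinearlyReductive k A)
    (S : Type u) [CommRing S] [Algebra k S] [Algebra.FiniteType k S] [HopfRep.Comod k A S] [GLin.IsCoactAlg k A S]
    (R : Type u) [CommRing R] [Algebra k R] [Algebra.FiniteType k R] [HopfRep.Comod k A R] [GLin.IsCoactAlg k A R]
    [Algebra S R] [IsScalarTower k S R]
    (hequiv : (∀ s : S, HopfRep.Comod.coact (k := k) (A := A) (algebraMap S R s) =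
      Algebra.TensorProduct.map (IsScalarTower.toAlgHom k S R) (AlgHom.id k A) (HopfRep.Comod.coact (k := k) (A := A) s)))
    (S₀ : Type u) [CommRing S₀] [Algebra k S₀] [Algebra S₀ S] [IsScalarTower k S₀ S]
    (hS₀i : Function.Injective (algebraMap S₀ S)) (hS₀ : (IsScalarTower.toAlgHom k S₀ S).range = GLin.invariants k A S)
    (R₀ : Type u) [CommRing R₀] [Algebra k R₀] [Algebra R₀ R] [IsScalarTower k R₀ R]
    (hR₀i : Function.Injective (algebraMap R₀ R)) (hR₀ : (IsScalarTower.toAlgHom k R₀ R).range = GLin.invariants k A R)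
    [Algebra S₀ R₀] [Algebra S₀ R] [IsScalarTower S₀ S R] [IsScalarTower S₀ R₀ R]
    (het : Algebra.Etale S R) (het₀ : Algebra.Etale S₀ R₀)
    (hcart : Function.Bijective (Algebra.TensorProduct.productMap (IsScalarTower.toAlgHom S₀ S R) (IsScalarTower.toAlgHom S₀ R₀ R)))
    (J : Ideal S) (hJ : HopfRep.IsSubcomod (k := k) (A := A) (J.restrictScalars k))
    [HopfRep.Comod k A (S ⧸ J)] [GLin.IsCoactAlg k A (S ⧸ J)]
    (hqS : (∀ s : S, HopfRep.Comod.coact (k := k) (A := A) ((Ideal.Quotient.mkₐ k J) s) =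
        Algebra.TensorProduct.map (Ideal.Quotient.mkₐ k J) (AlgHom.id k A) (HopfRep.Comod.coact (k := k) (A := A) s)))
    [HopfRep.Comod k A (R ⧸ J.map (algebraMap S R))] [GLin.IsCoactAlg k A (R ⧸ J.map (algebraMap S R))]
    (hqR : (∀ s : R, HopfRep.Comod.coact (k := k) (A := A) ((Ideal.Quotient.mkₐ k (J.map (algebraMap S R))) s) =
        Algebra.TensorProduct.map (Ideal.Quotient.mkₐ k (J.map (algebraMap S R))) (AlgHom.id k A) (HopfRep.Comod.coact (k := k) (A := A) s)))
    (S₁ : Type u) [CommRing S₁] [Algebra k S₁] [Algebra S₁ (S ⧸ J)] [IsScalarTower k S₁ (S ⧸ J)]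
    (hS₁i : Function.Injective (algebraMap S₁ (S ⧸ J)))
    (hS₁ : (IsScalarTower.toAlgHom k S₁ (S ⧸ J)).range = GLin.invariants k A (S ⧸ J))
    (R₁ : Type u) [CommRing R₁] [Algebra k R₁] [Algebra R₁ (R ⧸ J.map (algebraMap S R))] [IsScalarTower k R₁ (R ⧸ J.map (algebraMap S R))]
    (hR₁i : Function.Injective (algebraMap R₁ (R ⧸ J.map (algebraMap S R))))
    (hR₁ : (IsScalarTower.toAlgHom k R₁ (R ⧸ J.map (algebraMap S R))).range = GLin.invariants k A (R ⧸ J.map (algebraMap S R)))
    [Algebra S₁ R₁] [Algebra S₁ (R ⧸ J.map (algebraMap S R))]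
    [IsScalarTower S₁ (S ⧸ J) (R ⧸ J.map (algebraMap S R))] [IsScalarTower S₁ R₁ (R ⧸ J.map (algebraMap S R))] :
    Algebra.Etale (S ⧸ J) (R ⧸ J.map (algebraMap S R)) ∧ Algebra.Etale S₁ R₁ ∧
      Function.Bijective (Algebra.TensorProduct.productMap
        (IsScalarTower.toAlgHom S₁ (S ⧸ J) (R ⧸ J.map (algebraMap S R)))
        (IsScalarTower.toAlgHom S₁ R₁ (R ⧸ J.map (algebraMap S R)))) := by
  classical
  obtain ⟨r⟩ := Groth.Agent.Comod.nonempty_integral hG
  -- the quotient square
  have hpq : Algebra.IsPushout S (S ⧸ J) R (R ⧸ J.map (algebraMap S R)) := isPushout_quotient J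
  have hetq : Algebra.Etale (S ⧸ J) (R ⧸ J.map (algebraMap S R)) :=
    Algebra.Etale.of_equiv (Algebra.IsPushout.equiv S (S ⧸ J) R (R ⧸ J.map (algebraMap S R)))
  refine ⟨hetq, ?_⟩
  -- the given square
  let eR : S ⊗[S₀] R₀ →ₐ[S] R := Algebra.TensorProduct.lift (Algebra.ofId S R)
    (IsScalarTower.toAlgHom S₀ R₀ R) (fun _ _ => Commute.all _ _)
  have heR : Function.Bijective eR := by
    have : (eR : S ⊗[S₀] R₀ → R) = Algebra.TensorProduct.productMap (IsScalarTower.toAlgHom S₀ S R)
        (IsScalarTower.toAlgHom S₀ R₀ R) := by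
      ext x
      induction x using TensorProduct.induction_on with
      | zero => simp
      | tmul a b => simp [eR, Algebra.ofId_apply]
      | add a b ha hb => simp only [map_add, ha, hb]
    rw [this]; exact hcart
  have hp0 : Algebra.IsPushout S₀ S R₀ R := by
    let _ : Algebra R₀ (S ⊗[S₀] R₀) := Algebra.TensorProduct.rightAlgebra
    exact Algebra.IsPushout.of_equiv (AlgEquiv.ofBijective eR heR) (RingHom.ext fun x => by
      show eR (1 ⊗ₜ[S₀] x) = algebraMap R₀ R x
      simp [eR])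
  have : IsScalarTower S₀ (S ⧸ J) (R ⧸ J.map (algebraMap S R)) := IsScalarTower.of_algebraMap_eq fun x =>
    congrArg (Ideal.Quotient.mk _) (IsScalarTower.algebraMap_apply S₀ S R x)
  have hpQ : Algebra.IsPushout S₀ (S ⧸ J) R₀ (R ⧸ J.map (algebraMap S R)) :=
    (Algebra.IsPushout.comp_iff S₀ S R₀ R (T := S ⧸ J)).2 hpq
  -- invariants map to invariants
  let qS : S →ₐ[k] S ⧸ J := Ideal.Quotient.mkₐ k J
  let qR : R →ₐ[k] R ⧸ J.map (algebraMap S R) := Ideal.Quotient.mkₐ k (J.map (algebraMap S R))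
  have hqS' : Hoch.IsComodHom A qS.toLinearMap := LinearMap.ext fun s => hqS s
  have hqR' : Hoch.IsComodHom A qR.toLinearMap := LinearMap.ext fun s => hqR s
  obtain ⟨σ, hσ⟩ := exists_lift (IsScalarTower.toAlgHom k S₁ (S ⧸ J)) hS₁i
    (qS.comp (IsScalarTower.toAlgHom k S₀ S)) (fun t => by
      rw [hS₁]
      exact Groth.Agent.Comod.mem_fixedPts_map r hqS' (hS₀ ▸ ⟨t, rfl⟩ : IsScalarTower.toAlgHom k S₀ S t ∈ GLin.invariants k A S))
  obtain ⟨τ, hτ⟩ := exists_lift (IsScalarTower.toAlgHom k R₁ (R ⧸ J.map (algebraMap S R))) hR₁i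
    (qR.comp (IsScalarTower.toAlgHom k R₀ R)) (fun t => by
      rw [hR₁]
      exact Groth.Agent.Comod.mem_fixedPts_map r hqR' (hR₀ ▸ ⟨t, rfl⟩ : IsScalarTower.toAlgHom k R₀ R t ∈ GLin.invariants k A R))
  simp only [AlgHom.comp_apply, IsScalarTower.coe_toAlgHom'] at hσ hτ
  have hτsurj : Function.Surjective τ := fun y => by
    obtain ⟨z, hz⟩ := Ideal.Quotient.mk_surjective (algebraMap R₁ (R ⧸ J.map (algebraMap S R)) y)
    obtain ⟨w, hw⟩ : Groth.Agent.Comod.reynolds R r z ∈ (IsScalarTower.toAlgHom k R₀ R).range := by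
      rw [hR₀]; exact Groth.Agent.Comod.reynolds_mem r z
    refine ⟨w, hR₁i ?_⟩
    have hy : algebraMap R₁ (R ⧸ J.map (algebraMap S R)) y ∈ GLin.invariants k A (R ⧸ J.map (algebraMap S R)) :=
      hR₁ ▸ ⟨y, rfl⟩
    rw [hτ, show algebraMap R₀ R w = Groth.Agent.Comod.reynolds R r z from hw]
    show qR.toLinearMap _ = _
    rw [Groth.Agent.Comod.reynolds_natural r hqR', show qR.toLinearMap z = _ from hz]
    exact Groth.Agent.Comod.reynolds_of_mem r hy
  let _ : Algebra S₀ S₁ := σ.toRingHom.toAlgebra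
  let _ : Algebra R₀ R₁ := τ.toRingHom.toAlgebra
  let _ : Algebra S₀ R₁ := ((algebraMap S₁ R₁).comp σ.toRingHom).toAlgebra
  have : IsScalarTower S₀ S₁ R₁ := IsScalarTower.of_algebraMap_eq fun x => rfl
  have : IsScalarTower S₀ S₁ (S ⧸ J) := IsScalarTower.of_algebraMap_eq fun x => (hσ x).symm
  have : IsScalarTower R₀ R₁ (R ⧸ J.map (algebraMap S R)) := IsScalarTower.of_algebraMap_eq fun x => (hτ x).symm
  have : IsScalarTower S₀ R₀ R₁ := IsScalarTower.of_algebraMap_eq fun x => hR₁i (by
    show algebraMap R₁ _ (algebraMap S₁ R₁ (σ x)) = algebraMap R₁ _ (τ (algebraMap S₀ R₀ x))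
    rw [hτ, ← IsScalarTower.algebraMap_apply S₁ R₁ (R ⧸ J.map (algebraMap S R)),
      IsScalarTower.algebraMap_apply S₁ (S ⧸ J) (R ⧸ J.map (algebraMap S R)), hσ, ← IsScalarTower.algebraMap_apply S₀ R₀ R,
      IsScalarTower.algebraMap_apply S₀ S R]
    rfl)
  have : IsScalarTower S₀ R₁ (R ⧸ J.map (algebraMap S R)) := IsScalarTower.of_algebraMap_eq fun x => by
    rw [IsScalarTower.algebraMap_apply S₀ R₀ R₁, ← IsScalarTower.algebraMap_apply R₀ R₁ (R ⧸ J.map (algebraMap S R)),
      ← IsScalarTower.algebraMap_apply S₀ R₀ (R ⧸ J.map (algebraMap S R))]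
  let e1 : S₁ ⊗[S₀] R₀ →ₐ[S₁] R₁ := Algebra.TensorProduct.lift (Algebra.ofId S₁ R₁)
    (IsScalarTower.toAlgHom S₀ R₀ R₁) (fun _ _ => Commute.all _ _)
  have : Algebra.Etale S₀ R₀ := het₀
  have he1 : Function.Bijective e1 := by
    refine ⟨fun a b hab => ?_, fun y => ?_⟩
    · let i : S₁ →ₗ[S₀] S ⧸ J := (IsScalarTower.toAlgHom S₀ S₁ (S ⧸ J)).toLinearMap
      have hi : Function.Injective (i.rTensor R₀) := Module.Flat.rTensor_preserves_injective_linearMap i hS₁i
      have key : ∀ x, algebraMap R₁ (R ⧸ J.map (algebraMap S R)) (e1 x) =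
          Algebra.IsPushout.equiv S₀ (S ⧸ J) R₀ (R ⧸ J.map (algebraMap S R)) (i.rTensor R₀ x) := fun x => by
        induction x using TensorProduct.induction_on with
        | zero => simp
        | tmul a b =>
          rw [LinearMap.rTensor_tmul, Algebra.IsPushout.equiv_tmul]
          simp only [e1, i, Algebra.TensorProduct.lift_tmul, Algebra.ofId_apply, map_mul, IsScalarTower.coe_toAlgHom',
            AlgHom.toLinearMap_apply, ← IsScalarTower.algebraMap_apply]
        | add a b ha hb => simp only [map_add, ha, hb]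
      refine hi ((Algebra.IsPushout.equiv S₀ (S ⧸ J) R₀ (R ⧸ J.map (algebraMap S R))).injective ?_)
      rw [← key, ← key, hab]
    · obtain ⟨w, rfl⟩ := hτsurj y
      exact ⟨1 ⊗ₜ w, by simp [e1]; rfl⟩
  have hp1 : Algebra.IsPushout S₀ S₁ R₀ R₁ := by
    let _ : Algebra R₀ (S₁ ⊗[S₀] R₀) := Algebra.TensorProduct.rightAlgebra
    exact Algebra.IsPushout.of_equiv (AlgEquiv.ofBijective e1 he1) (RingHom.ext fun x => by
      show e1 (1 ⊗ₜ[S₀] x) = algebraMap R₀ R₁ x
      simp [e1])
  refine ⟨Algebra.Etale.of_equiv (AlgEquiv.ofBijective e1 he1), ?_⟩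
  have hfin : Algebra.IsPushout S₁ (S ⧸ J) R₁ (R ⧸ J.map (algebraMap S R)) :=
    (Algebra.IsPushout.comp_iff S₀ S₁ R₀ R₁ (T := S ⧸ J)).1 hpQ
  have : (Algebra.TensorProduct.productMap (IsScalarTower.toAlgHom S₁ (S ⧸ J) (R ⧸ J.map (algebraMap S R)))
      (IsScalarTower.toAlgHom S₁ R₁ (R ⧸ J.map (algebraMap S R))) : (S ⧸ J) ⊗[S₁] R₁ → R ⧸ J.map (algebraMap S R)) =
      Algebra.IsPushout.equiv S₁ (S ⧸ J) R₁ (R ⧸ J.map (algebraMap S R)) := by
    ext x
    induction x using TensorProduct.induction_on with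
    | zero => simp
    | tmul a b => simp [Algebra.IsPushout.equiv_tmul]
    | add a b ha hb => simp only [map_add, ha, hb]
  rw [this]
  exact (Algebra.IsPushout.equiv S₁ (S ⧸ J) R₁ (R ⧸ J.map (algebraMap S R))).bijective

end Groth.Agent.S19408
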