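import Groth.Statements.S19409
import Groth.Agent.GoodQuot.Basic
import Groth.Agent.GrpAct.OrbitDim

set_option autoImplicit false
universe u
open CategoryTheory MonoidalCategory CartesianMonoidalCategory MonObj AlgebraicGeometry Topology
open NRQuot

namespace Groth.Agent.S19409

/-- Suppose k is a field that is algebraically closed (its characteristic is arbitrary, since
characteristic zero plays no role in the argument). Consider an algebraic group G over k, i.e. an
affine group scheme of finite type over k, together with an action of G on a k-scheme X that is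
locally of finite type, and assume φ : X → Y is a good quotient (meaning φ is affine and invariant,
on each open of Y the functions are precisely the invariant functions on its preimage, closed
invariant subsets are sent to closed subsets, and taking images commutes with intersecting families
of closed invariant subsets). Given any k-point y of Y, one can find a k-point x of X lying over y
whose orbit (the image of the orbit morphism G → X) is a closed subset of X; moreover, whenever x'
is a k-point of X over y with closed orbit, x' is obtained from x by acting with some k-point of G.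
In other words, each fibre of φ over a k-point contains a unique closed orbit. -/
theorem result
    (k : Type u) [Field k] [IsAlgClosed k]
    (G X Y : Over (Spec (CommRingCat.of k))) [GrpObj G] [IsAffine G.left] [LocallyOfFiniteType G.hom]
    [LocallyOfFiniteType X.hom]
    (a : AlgGrp.Action G X) (φ : X ⟶ Y) (h : NRQuot.IsGoodQuot a φ)
    (y : 𝟙_ (Over (Spec (CommRingCat.of k))) ⟶ Y) :
    ∃ x : 𝟙_ (Over (Spec (CommRingCat.of k))) ⟶ X, x ≫ φ = y ∧ IsClosed (Set.range (a.orbitMap x).left.base) ∧
      ∀ x' : 𝟙_ (Over (Spec (CommRingCat.of k))) ⟶ X, x' ≫ φ = y → IsClosed (Set.range (a.orbitMap x').left.base) →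
        ∃ g : 𝟙_ (Over (Spec (CommRingCat.of k))) ⟶ G, lift g x ≫ a.act = x' := by
  classical
  let S := Spec (CommRingCat.of k)
  have : Subsingleton (Spec (CommRingCat.of k)) := inferInstanceAs (Subsingleton (PrimeSpectrum k))
  have t : Spec (CommRingCat.of k) := IsLocalRing.closedPoint k
  haveI : QuasiCompact G.hom := by
    haveI : IsAffineHom G.hom := inferInstance
    infer_instance
  haveI : JacobsonSpace X.left := LocallyOfFiniteType.jacobsonSpace X.hom
  haveI : IsLocallyNoetherian X.left := LocallyOfFiniteType.isLocallyNoetherian X.hom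
  haveI : IsAffineHom φ.left := h.affine
  -- an affine neighbourhood of the fibre
  obtain ⟨_, ⟨U, hU, rfl⟩, hyU, -⟩ :=
    Y.left.isBasis_affineOpens.exists_subset_of_mem_open (a := y.left t) (Set.mem_univ _) isOpen_univ
  let V : X.left.Opens := φ.left ⁻¹ᵁ U
  haveI : IsAffine (V : Scheme.{u}) := hU.preimage φ.left
  haveI : IsLocallyNoetherian (V : Scheme.{u}) := isLocallyNoetherian_of_isOpenImmersion V.ι
  haveI : IsNoetherian (V : Scheme.{u}) := {}
  haveI hN : TopologicalSpace.NoetherianSpace ↥V := inferInstanceAs (TopologicalSpace.NoetherianSpace (V : Scheme.{u}))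
  let W : Set X.left := φ.left.base ⁻¹' {y.left t}
  have hW : IsClosed W := (GoodQuot.isClosed_pt y t).preimage φ.left.continuous
  have hWV : W ⊆ (V : Set X.left) := fun p hp => by
    show φ.left p ∈ U
    rw [show φ.left p = y.left t from hp]
    exact hyU
  have hfib : ∀ x : 𝟙_ (Over (Spec (CommRingCat.of k))) ⟶ X, x ≫ φ = y → x.left t ∈ W := fun x hx => by
    show φ.left (x.left t) = y.left t
    rw [← hx]
    exact (Scheme.Hom.comp_apply x.left φ.left t).symm
  have hover : ∀ x : 𝟙_ (Over (Spec (CommRingCat.of k))) ⟶ X, x.left t ∈ W → x ≫ φ = y := fun x hx =>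
    GoodQuot.pt_eq_of_apply_eq t ((Scheme.Hom.comp_apply x.left φ.left t).trans hx)
  -- orbit closures inside the neighbourhood
  let cl : (𝟙_ (Over (Spec (CommRingCat.of k))) ⟶ X) → TopologicalSpace.Closeds ↥V := fun x =>
    ⟨Subtype.val ⁻¹' closure (Set.range (a.orbitMap x).left.base), isClosed_closure.preimage continuous_subtype_val⟩
  obtain ⟨x₁, hx₁⟩ : ∃ x : 𝟙_ (Over (Spec (CommRingCat.of k))) ⟶ X, x ≫ φ = y := by
    obtain ⟨p, hp⟩ := GoodQuot.surjective h (y.left t)
    obtain ⟨q, hq, hqc⟩ := nonempty_inter_closedPoints (Z := W) ⟨p, hp⟩ hW.isLocallyClosed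
    obtain ⟨x, hx⟩ := GoodQuot.exists_point (X := X) hqc
    exact ⟨x, hover x (by rw [hx t]; exact hq)⟩
  obtain ⟨_, ⟨x, hxy, rfl⟩, hmin⟩ := (wellFounded_lt (α := TopologicalSpace.Closeds ↥V)).has_min
    {C | ∃ x : 𝟙_ (Over (Spec (CommRingCat.of k))) ⟶ X, x ≫ φ = y ∧ cl x = C} ⟨_, x₁, hx₁, rfl⟩
  have hsub : closure (Set.range (a.orbitMap x).left.base) ⊆ W := by
    refine closure_minimal ?_ hW
    have := GoodQuot.orbit_subset_fibre h.inv x t
    rwa [hxy] at this
  have hclosed : IsClosed (Set.range (a.orbitMap x).left.base) := by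
    by_contra hncl
    obtain ⟨y₀, hy₀⟩ : (closure (GrpAct.orbit a x) \ GrpAct.orbit a x).Nonempty := by
      rw [Set.sdiff_nonempty]
      exact fun h => hncl (isClosed_of_closure_subset h)
    obtain ⟨O, C, hO, hC, e⟩ := GrpAct.isLocallyClosed_orbit' a x
    have hB : IsClosed (closure (GrpAct.orbit a x) \ GrpAct.orbit a x) := by
      have : closure (GrpAct.orbit a x) \ GrpAct.orbit a x = closure (GrpAct.orbit a x) ∩ Oᶜ := by
        ext p
        refine ⟨fun hp => ⟨hp.1, fun hpO => hp.2 (e ▸ ⟨hpO, ?_⟩)⟩,
          fun hp => ⟨hp.1, fun hpO => hp.2 ((e ▸ hpO : p ∈ O ∩ C).1)⟩⟩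
        exact closure_minimal (e ▸ Set.inter_subset_right) hC hp.1
      rw [this]
      exact isClosed_closure.inter hO.isClosed_compl
    obtain ⟨q, hq, hqc⟩ := nonempty_inter_closedPoints ⟨y₀, hy₀⟩ hB.isLocallyClosed
    obtain ⟨z, hz⟩ := GoodQuot.exists_point (X := X) hqc
    have hzO : Set.range (a.orbitMap z).left.base ⊆ closure (GrpAct.orbit a x) \ GrpAct.orbit a x :=
      GrpAct.orbit_subset_boundary a x z t ((hz t).symm ▸ hq)
    have hzy : z ≫ φ = y := hover z (hsub (by rw [hz t]; exact hq.1))
    refine hmin (cl z) ⟨z, hzy, rfl⟩ ?_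
    refine lt_of_le_not_ge (fun p hp => (closure_minimal hzO hB hp).1) fun hle => ?_
    have hmem : x.left t ∈ GrpAct.orbit a x := GoodQuot.mem_orbit a x t
    exact (closure_minimal hzO hB ((SetLike.le_def.1 hle) (x := (⟨x.left t, hWV (hsub (subset_closure hmem))⟩ : ↥V)) (subset_closure hmem : x.left t ∈ closure (Set.range (a.orbitMap x).left.base)))).2 hmem
  exact ⟨x, hxy, hclosed, fun x' hx' hcl' =>
    GoodQuot.exists_translate h x x' hclosed hcl' (hxy.trans hx'.symm)⟩

end Groth.Agent.S19409
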