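import Groth.Statements.S19412
import Groth.Agent.LunaEt.Fundamental

set_option autoImplicit false
universe u
open TensorProduct
open GLin

namespace Groth.Agent.S19412

/-- Let k be an algebraically closed field of characteristic zero, A a finitely generated commutative
Hopf algebra over k (an algebraic group G), S and R finitely generated commutative k-algebras with
multiplicative A-coactions (G acting on affine Y = Spec S, X = Spec R), S → R an algebra map
compatible with the coactions (a G-morphism φ : X → Y), S₀ → S and R₀ → R injective k-algebra maps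
whose images are the subrings of invariants, and S₀ → R₀ an algebra map with S₀ → R₀ → R equal to S₀
→ S → R (φ/G). Suppose R₀ is étale over S₀ and the canonical map S ⊗_{S₀} R₀ → R is bijective (φ is
strongly étale: φ/G étale and X ≅ Y ×_{Y//G} X//G). Then R is étale over S (φ étale), and for every
k-point x of X: every k-point of G fixing the image point φ(x) fixes x (φ restricted to the orbit of
x is injective), and the orbit of x is closed if and only if the orbit of φ(x) is closed. (The
published item also asserts that φ is surjective; that fails when φ is the inclusion of a proper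
saturated open subset, which is strongly étale, so surjectivity is not asserted here.) -/
theorem result (k : Type u) [Field k] [IsAlgClosed k] [CharZero k]
    (A : Type u) [CommRing A] [HopfAlgebra k A] [Algebra.FiniteType k A]
    (S : Type u) [CommRing S] [Algebra k S] [Algebra.FiniteType k S] [HopfRep.Comod k A S] [GLin.IsCoactAlg k A S]
    (R : Type u) [CommRing R] [Algebra k R] [Algebra.FiniteType k R] [HopfRep.Comod k A R] [GLin.IsCoactAlg k A R]
    [Algebra S R] [IsScalarTower k S R]
    (hequiv : (∀ s : S, HopfRep.Comod.coact (k := k) (A := A) (algebraMap S R s) =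
      Algebra.TensorProduct.map (IsScalarTower.toAlgHom k S R) (AlgHom.id k A) (HopfRep.Comod.coact (k := k) (A := A) s)))
    (S₀ : Type u) [CommRing S₀] [Algebra k S₀] [Algebra S₀ S] [IsScalarTower k S₀ S]
    (hS₀i : Function.Injective (algebraMap S₀ S)) (hS₀ : (IsScalarTower.toAlgHom k S₀ S).range = GLin.invariants k A S)
    (R₀ : Type u) [CommRing R₀] [Algebra k R₀] [Algebra R₀ R] [IsScalarTower k R₀ R]
    (hR₀i : Function.Injective (algebraMap R₀ R)) (hR₀ : (IsScalarTower.toAlgHom k R₀ R).range = GLin.invariants k A R)
    [Algebra S₀ R₀] [Algebra S₀ R] [IsScalarTower S₀ S R] [IsScalarTower S₀ R₀ R]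
    (het₀ : Algebra.Etale S₀ R₀)
    (hcart : Function.Bijective (Algebra.TensorProduct.productMap (IsScalarTower.toAlgHom S₀ S R) (IsScalarTower.toAlgHom S₀ R₀ R))) :
    Algebra.Etale S R ∧
      ∀ x : R →ₐ[k] k,
        (∀ g : A →ₐ[k] k, GLin.actPt k g (x.comp (IsScalarTower.toAlgHom k S R)) = x.comp (IsScalarTower.toAlgHom k S R) →
          GLin.actPt k g x = x) ∧
        (GLin.IsClosedOrbit k A x ↔ GLin.IsClosedOrbit k A (x.comp (IsScalarTower.toAlgHom k S R))) := by
  let Φ := Algebra.TensorProduct.productMap (IsScalarTower.toAlgHom S₀ S R) (IsScalarTower.toAlgHom S₀ R₀ R)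
  let ΦS : S ⊗[S₀] R₀ →ₐ[S] R :=
    { Φ.toRingHom with
      commutes' := fun s => by
        show Φ (s ⊗ₜ 1) = _
        simp [Φ] }
  haveI := het₀
  refine ⟨Algebra.Etale.of_equiv (AlgEquiv.ofBijective ΦS hcart), fun x => ?_⟩
  let y := x.comp (IsScalarTower.toAlgHom k S R)
  have hval : ∀ (σ : S) (a : R₀), GLin.orbitHom k A x (Φ (σ ⊗ₜ a)) =
      GLin.orbitHom k A y σ * algebraMap k A (x (algebraMap R₀ R a)) := fun σ a => by
    rw [show Φ (σ ⊗ₜ a) = algebraMap S R σ * algebraMap R₀ R a by simp [Φ], map_mul,
      LunaEt.orbitHom_of_mem_invariants (f := algebraMap R₀ R a) x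
        (LunaEt.mem_invariants_map (IsScalarTower.toAlgHom k R₀ R) hR₀ a),
      show GLin.orbitHom k A x (algebraMap S R σ) = GLin.orbitHom k A y σ from
        GLinFree.orbitHom_comp (IsScalarTower.toAlgHom k S R) hequiv x σ]
  have hrange : (GLin.orbitHom k A x).range = (GLin.orbitHom k A y).range := by
    refine le_antisymm ?_ (LunaEt.range_orbitHom_comp_le hequiv x)
    rintro _ ⟨u, rfl⟩
    obtain ⟨z, rfl⟩ := hcart.2 u
    induction z using TensorProduct.induction_on with
    | zero => rw [map_zero, map_zero]; exact zero_mem _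
    | add a b ha hb => rw [map_add, map_add]; exact add_mem ha hb
    | tmul σ a => exact (hval σ a).symm ▸ mul_mem ⟨σ, rfl⟩ (Subalgebra.algebraMap_mem _ _)
  refine ⟨fun g hg => ?_, fun hx => LunaEt.isClosedOrbit_of_range_eq y x hrange.symm hx,
    fun hy => LunaEt.isClosedOrbit_of_range_eq x y hrange hy⟩
  refine AlgHom.ext fun u => ?_
  obtain ⟨z, rfl⟩ := hcart.2 u
  induction z using TensorProduct.induction_on with
  | zero => simp
  | add a b ha hb => rw [map_add, map_add, map_add, ha, hb]
  | tmul σ a =>
    show g (GLin.orbitHom k A x (Φ (σ ⊗ₜ a))) = x (Φ (σ ⊗ₜ a))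
    rw [hval, map_mul, AlgHom.commutes, show g (GLin.orbitHom k A y σ) = y σ from AlgHom.congr_fun hg σ]
    simp [Φ, y]

end Groth.Agent.S19412
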