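import Groth.Statements.S19418
import Groth.Agent.WeilLib.Corr

set_option autoImplicit false
universe u v
open CategoryTheory AlgebraicGeometry
open WeilCoh

namespace Groth.Agent.S19418

/-- Key step, cohomological form: let H be a Weil cohomology theory with coefficients in a field K of
characteristic zero on nonsingular connected projective varieties over an algebraically closed field
k, X such a variety of dimension n, P = X × X with projections p, q and the swap automorphism σ (σ p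
= q, σ q = p); the identity dim P = 2n is carried as the arithmetic hypothesis hdim. A class u ∈
H^{2n}(P) acts as a degree-0 correspondence on each H^j(X), 0 ≤ j ≤ 2n, by β ↦ q_*(p^*(β) · u); call
u algebraic when it lies in the K-linear span of the classes of closed irreducible subsets of P, and
let A be the K-subalgebra of ∏_j End_K(H^j(X)) generated by the actions of the algebraic classes in
H^{2n}(P). If u is algebraic and ψ ∘ (action of u) is nilpotent for every ψ ∈ A — that is, the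
action of u lies in the Jacobson radical of the finite-dimensional algebra A — then u is numerically
trivial against algebraic classes: Tr_P(u · v) = 0 for every algebraic v ∈ H^{2n}(P). In the
published argument this is the step showing that the algebra of degree-0 algebraic correspondences
modulo numerical equivalence has zero Jacobson radical, hence is semisimple; it is stated here on
the cohomological side, with the algebra generated by the correspondence actions in place of the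
algebra of cycle classes. -/
theorem result (k : Type u) [Field k] [IsAlgClosed k]
    (K : Type v) [Field K] [CharZero K] (T : WeilCoh.Theory k K) (X P : WeilCoh.Var k)
    (p q : P ⟶ X) (hP : WeilCoh.IsProd p q) (σ : P ⟶ P) (hσp : σ ≫ p = q) (hσq : σ ≫ q = p)
    (hdim : ∀ j : ℤ, j + 2 * (WeilCoh.dim X.obj.left : ℤ) + 2 * (WeilCoh.dim X.obj.left : ℤ) - 2 * (WeilCoh.dim P.obj.left : ℤ) = j)
    (u : ↥(T.gr P (2 * (WeilCoh.dim X.obj.left : ℤ)))) (hu : (u : T.H P) ∈ Submodule.span K (Set.range (T.cl P)))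
    (hJ : ∀ ψ ∈ Algebra.adjoin K
          (Set.range (fun w : {w : ↥(T.gr P (2 * (WeilCoh.dim X.obj.left : ℤ))) // (w : T.H P) ∈ Submodule.span K (Set.range (T.cl P))} =>
            fun j : Fin (2 * WeilCoh.dim X.obj.left + 1) =>
              ((LinearEquiv.ofEq (T.gr X (((j : ℕ) : ℤ) + 2 * (WeilCoh.dim X.obj.left : ℤ) + 2 * (WeilCoh.dim X.obj.left : ℤ) - 2 * (WeilCoh.dim P.obj.left : ℤ))) (T.gr X ((j : ℕ) : ℤ)) (congrArg (T.gr X) (hdim ((j : ℕ) : ℤ)))).toLinearMap ∘ₗ
              ((T.push q (((j : ℕ) : ℤ) + 2 * (WeilCoh.dim X.obj.left : ℤ))) ∘ₗ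
                (((LinearMap.mulRight K (w.1 : T.H P)).restrict (p := T.gr P ((j : ℕ) : ℤ))
                    (q := T.gr P (((j : ℕ) : ℤ) + 2 * (WeilCoh.dim X.obj.left : ℤ))) (fun x hx => SetLike.mul_mem_graded hx w.1.2)) ∘ₗ
                  T.pullDeg p ((j : ℕ) : ℤ)))))),
        IsNilpotent (ψ * fun j : Fin (2 * WeilCoh.dim X.obj.left + 1) =>
          ((LinearEquiv.ofEq (T.gr X (((j : ℕ) : ℤ) + 2 * (WeilCoh.dim X.obj.left : ℤ) + 2 * (WeilCoh.dim X.obj.left : ℤ) - 2 * (WeilCoh.dim P.obj.left : ℤ))) (T.gr X ((j : ℕ) : ℤ)) (congrArg (T.gr X) (hdim ((j : ℕ) : ℤ)))).toLinearMap ∘ₗ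
              ((T.push q (((j : ℕ) : ℤ) + 2 * (WeilCoh.dim X.obj.left : ℤ))) ∘ₗ
                (((LinearMap.mulRight K (u : T.H P)).restrict (p := T.gr P ((j : ℕ) : ℤ))
                    (q := T.gr P (((j : ℕ) : ℤ) + 2 * (WeilCoh.dim X.obj.left : ℤ))) (fun x hx => SetLike.mul_mem_graded hx u.2)) ∘ₗ
                  T.pullDeg p ((j : ℕ) : ℤ))))))
    (v : ↥(T.gr P (2 * (WeilCoh.dim X.obj.left : ℤ)))) (hv : (v : T.H P) ∈ Submodule.span K (Set.range (T.cl P))) :
    T.tr P ((u : T.H P) * (v : T.H P)) = 0 := by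
  classical
  let d : ℤ := (WeilCoh.dim X.obj.left : ℤ)
  have hσσ : σ ≫ σ = 𝟙 P := by
    refine ObjectProperty.hom_ext _ (Over.OverMorphism.ext (IsPullback.hom_ext hP ?_ ?_))
    · show WeilCoh.sm ((σ ≫ σ) ≫ p) = WeilCoh.sm (𝟙 P ≫ p)
      rw [Category.assoc, hσp, hσq, Category.id_comp]
    · show WeilCoh.sm ((σ ≫ σ) ≫ q) = WeilCoh.sm (𝟙 P ≫ q)
      rw [Category.assoc, hσq, hσp, Category.id_comp]
  have hclσ : ∀ ξ, T.pull σ (T.cl P ξ) = T.cl P (WeilCoh.sm σ ξ) := fun ξ => by
    refine Groth.Agent.WeilLib.eq_of_tr_mul' T fun z => ?_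
    conv_lhs => rw [← Groth.Agent.WeilLib.pull_pull_eq_self T hσσ z, ← map_mul (T.pull σ),
      Groth.Agent.WeilLib.tr_pull_swap T hP hP hσp hσq, Groth.Agent.WeilLib.tr_cl_mul_pull T σ,
      Groth.Agent.WeilLib.residueDegree_eq_one_of_comp_eq_id (WeilCoh.sm σ) (WeilCoh.sm σ)
        (show WeilCoh.sm (σ ≫ σ) = WeilCoh.sm (𝟙 P) by rw [hσσ]), Nat.cast_one, one_mul]
  have hspan : T.pull σ (v : T.H P) ∈ Submodule.span K (Set.range (T.cl P)) := by
    refine Submodule.span_induction (p := fun z _ => T.pull σ z ∈ Submodule.span K (Set.range (T.cl P)))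
      ?_ ?_ ?_ ?_ hv
    · rintro _ ⟨ξ, rfl⟩
      rw [hclσ]
      exact Submodule.subset_span ⟨_, rfl⟩
    · rw [map_zero]; exact zero_mem _
    · intro a b _ _ ha hb; rw [map_add]; exact add_mem ha hb
    · intro c a _ ha; rw [map_smul]; exact Submodule.smul_mem _ c ha
  let w : ↥(T.gr P (2 * (WeilCoh.dim X.obj.left : ℤ))) := ⟨T.pull σ (v : T.H P), T.pull_mem σ _ _ v.2⟩
  rw [← Groth.Agent.WeilLib.pull_pull_eq_self T hσσ (v : T.H P),
    Groth.Agent.WeilLib.tr_mul_pull_swap T hP hP hσp hσq]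
  refine Finset.sum_eq_zero fun i hi => ?_
  have hN := hJ _ (Algebra.subset_adjoin ⟨⟨w, hspan⟩, rfl⟩)
  let j : Fin (2 * WeilCoh.dim X.obj.left + 1) := ⟨i, Finset.mem_range.mp hi⟩
  have hNj := hN.map (Pi.evalRingHom (fun _ : Fin (2 * WeilCoh.dim X.obj.left + 1) => _) j)
  have h0 := LinearMap.isNilpotent_trace_of_isNilpotent hNj
  refine mul_eq_zero_of_right _ (Eq.trans ?_ h0.eq_zero)
  congr 1
  refine LinearMap.ext fun x => ?_
  show Groth.Agent.WeilLib.pr T X i (Groth.Agent.WeilLib.pushAll T q (T.pull p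
    (Groth.Agent.WeilLib.pushAll T q (T.pull p (x : T.H X) * (u : T.H P))) * (w : T.H P))) = _
  let a : ↥(T.gr P ((i : ℤ) + 2 * (WeilCoh.dim X.obj.left : ℤ))) :=
    ⟨T.pull p (x : T.H X) * (u : T.H P), SetLike.mul_mem_graded (T.pull_mem p _ _ x.2) u.2⟩
  let y : ↥(T.gr X (i : ℤ)) := ⟨(T.push q _ a : T.H X), congrArg (T.gr X) (hdim (i : ℤ)) ▸ (T.push q _ a).2⟩
  let z : ↥(T.gr P ((i : ℤ) + 2 * (WeilCoh.dim X.obj.left : ℤ))) :=
    ⟨T.pull p (y : T.H X) * (w : T.H P), SetLike.mul_mem_graded (T.pull_mem p _ _ y.2) w.2⟩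
  have h1 : Groth.Agent.WeilLib.pushAll T q (T.pull p (x : T.H X) * (u : T.H P)) = (y : T.H X) :=
    Groth.Agent.WeilLib.pushAll_coe T q a
  rw [h1]
  have h2 : Groth.Agent.WeilLib.pushAll T q (T.pull p (y : T.H X) * (w : T.H P)) =
      (T.push q _ z : T.H X) :=
    Groth.Agent.WeilLib.pushAll_coe T q z
  rw [h2]
  exact Groth.Agent.WeilLib.pr_coe T
    (⟨(T.push q _ z : T.H X), congrArg (T.gr X) (hdim (i : ℤ)) ▸ (T.push q _ z).2⟩ : ↥(T.gr X (i : ℤ)))

end Groth.Agent.S19418
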