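import Groth.Statements.S19419
import Groth.Agent.CycK0.GysSec
import Groth.Agent.CycK0.GysRelDiv
import Groth.Agent.CycDim.PushVanish
import Groth.Agent.CurveVA.Criterion

set_option autoImplicit false
universe u
open CategoryTheory CategoryTheory.Limits AlgebraicGeometry
open Cyc

set_option backward.isDefEq.respectTransparency false
set_option backward.isDefEq.respectTransparency.types false

namespace Groth.Agent.S19419

/-- Let X be a smooth proper integral curve over an algebraically closed field k, with generic point η,
and ψ : X → X a flat endomorphism over k. Let Y = X ×_k X with its two projections, m = ψ × id : Y →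
Y (first projection intertwines ψ, second projection unchanged), d : X → Y the diagonal and g = (id,
ψ) : X → Y the graph of ψ. For the dimension function δ on Y induced from weight 0 on Spec k, the
flat pull-back of cycles along m in relative dimension 0 takes the diagonal divisor [Δ], the cycle
equal to 1 at d(η) and 0 elsewhere, to the graph divisor [Γ_ψ], the cycle equal to 1 at g(η) and 0
elsewhere: (ψ × id)^*[Δ] = [Γ_ψ]. The published statement allows any endomorphism ψ and reads the
pull-back on divisors; flatness of ψ is what the flat pull-back of cycles requires (the intended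
case is the Frobenius endomorphism), and iterating gives [Γ_{ψ^n}] = ((ψ × id)^*)^n [Δ]. -/
theorem result (k : Type u) [Field k]
    [IsAlgClosed k] (X : Scheme.{u}) (f : X ⟶ Spec (CommRingCat.of k)) [Smooth f] [IsProper f]
    [IsIntegral X] (hdim : topologicalKrullDim ↥X = 1) (ψ : X ⟶ X) (hψ : ψ ≫ f = f) [Flat ψ]
    (m : pullback f f ⟶ pullback f f) (hm₁ : m ≫ pullback.fst f f = pullback.fst f f ≫ ψ)
    (hm₂ : m ≫ pullback.snd f f = pullback.snd f f) (g : X ⟶ pullback f f)
    (hg₁ : g ≫ pullback.fst f f = 𝟙 X) (hg₂ : g ≫ pullback.snd f f = ψ)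
    (δ : ↥(pullback f f) → ℤ) (hδ : Cyc.DeltaCompat (pullback.fst f f ≫ f) δ (fun _ => 0)) :
    Cyc.pullFun m δ δ 0
        (Set.indicator ({pullback.diagonal f (genericPoint ↥X)} : Set ↥(pullback f f)) (fun _ => (1 : ℤ))) =
      Set.indicator ({g (genericPoint ↥X)} : Set ↥(pullback f f)) (fun _ => (1 : ℤ)) := by
  set Δ := pullback.diagonal f with hΔd
  haveI : IsClosedImmersion Δ := inferInstanceAs (IsClosedImmersion (pullback.diagonal f))
  haveI hgI : IsClosedImmersion g := by
    haveI : IsSeparated (pullback.fst f f) := inferInstance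
    haveI : IsClosedImmersion (g ≫ pullback.fst f f) := by rw [hg₁]; infer_instance
    exact IsClosedImmersion.of_comp g (pullback.fst f f)
  have hsq : g ≫ m = ψ ≫ Δ := by
    apply pullback.hom_ext
    · rw [Category.assoc, hm₁, ← Category.assoc, hg₁, Category.id_comp, Category.assoc, hΔd,
        pullback.diagonal_fst, Category.comp_id]
    · rw [Category.assoc, hm₂, hg₂, Category.assoc, hΔd, pullback.diagonal_snd, Category.comp_id]
  let e : X ⟶ pullback m Δ := pullback.lift g ψ hsq
  have hone : pullback.fst m Δ ≫ pullback.fst f f ≫ g = pullback.fst m Δ := by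
    have hc := pullback.condition (f := m) (g := Δ)
    have h1 := congrArg (fun t => t ≫ pullback.fst f f) hc
    have h2 := congrArg (fun t => t ≫ pullback.snd f f) hc
    simp only [Category.assoc, hm₁, hm₂, hΔd, pullback.diagonal_fst, pullback.diagonal_snd,
      Category.comp_id] at h1 h2
    apply pullback.hom_ext
    · simp [hg₁]
    · simp only [Category.assoc, hg₂]
      exact h1.trans h2.symm
  haveI : IsIso e := by
    refine ⟨pullback.fst m Δ ≫ pullback.fst f f, ?_, ?_⟩
    · rw [pullback.lift_fst_assoc, hg₁]
    · apply pullback.hom_ext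
      · simp only [Category.assoc, Category.id_comp]
        rw [pullback.lift_fst]; exact hone
      · simp only [Category.assoc, Category.id_comp]
        rw [pullback.lift_snd]
        have hc := congrArg (fun t => t ≫ pullback.fst f f) (pullback.condition (f := m) (g := Δ))
        simp only [Category.assoc, hm₁, hΔd, pullback.diagonal_fst, Category.comp_id] at hc
        exact hc
  haveI : IsProper ψ := by
    haveI : IsProper (ψ ≫ f) := by rw [hψ]; infer_instance
    exact IsProper.of_comp ψ f
  set η := genericPoint (↥X) with hη
  -- the generic point goes to the generic point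
  have hψη : ψ η = η := by
    have h : η ⤳ ψ η := genericPoint_specializes _
    obtain ⟨a, ha, hab⟩ := (Flat.generalizingMap ψ) h
    have : a = η := (ha.antisymm (genericPoint_specializes a)).eq
    rw [← this] at hab
    rwa [this] at hab
  letI : X.Over (Spec (CommRingCat.of k)) := ⟨f⟩
  haveI : IsProper (X ↘ Spec (CommRingCat.of k)) := ‹IsProper f›
  have hpre : ∀ p : X, ψ p = η → p = η := by
    intro p hp
    by_contra hne
    have hcp : IsClosed ({η} : Set X) := by
      simpa [hp] using ψ.isClosedMap _ (CurveVA.isClosed_singleton_of_ne_generic (k := k) hdim hne)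
    exact hne (((genericPoint_specializes p).mem_closed hcp rfl : p ∈ ({η} : Set X)))
  -- the weights agree
  have hδeq : ∀ p : X, δ (g p) = δ (Δ p) := by
    intro p
    have hg' : g ≫ pullback.fst f f ≫ f = f := by rw [← Category.assoc, hg₁, Category.id_comp]
    have hd' : Δ ≫ pullback.fst f f ≫ f = f := by
      rw [← Category.assoc, hΔd, pullback.diagonal_fst, Category.id_comp]
    have h1 := CycK0.deltaCompat_closed_comp g _ hδ
    have h2 := CycK0.deltaCompat_closed_comp Δ _ hδ
    rw [hg'] at h1
    rw [hd'] at h2
    exact CycPush.deltaCompat_unique f h1 h2 p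
  have hmg : ∀ p : X, m (g p) = Δ (ψ p) := by
    intro p
    rw [← Scheme.Hom.comp_apply, hsq, Scheme.Hom.comp_apply]
  funext x
  unfold Cyc.pullFun
  by_cases hx : x = g η
  · subst hx
    have hmη : m (g η) = Δ η := by rw [hmg, hψη]
    rw [Set.indicator_of_mem (Set.mem_singleton (g η)),
      if_pos (by rw [hmη, hδeq, add_zero]), Set.indicator_of_mem (by exact hmη), one_mul]
    -- length one
    have hz : (pullback.fst m Δ) (e η) = g η := by
      rw [← Scheme.Hom.comp_apply, pullback.lift_fst]
    have hsnd : (pullback.snd m Δ) (e η) = ψ η := by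
      rw [← Scheme.Hom.comp_apply, pullback.lift_snd]
    have hw : Δ ((pullback.snd m Δ) (e η)) = m ((pullback.fst m Δ) (e η)) := by
      rw [hsnd, hz, hmg]
    haveI : IsIso ((e.stalkMap η)) := inferInstance
    have hfld : IsField ((pullback m Δ).presheaf.stalk (e η)) :=
      (asIso (e.stalkMap η)).commRingCatIsoToRingEquiv.toMulEquiv.isField (Field.toIsField X.functionField)
    have hker := CycK0.ker_pullback_fst m Δ (e η) hw
    have hmax : ∀ (y : ↥(pullback f f)), (pullback.fst m Δ) (e η) = y →
        Ideal.map (m.stalkMap y).hom (IsLocalRing.maximalIdeal _) = IsLocalRing.maximalIdeal _ := by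
      rintro y rfl
      refine le_antisymm (Ideal.map_le_iff_le_comap.mpr (IsLocalRing.maximalIdeal_comap (m.stalkMap ((pullback.fst m Δ) (e η))).hom).ge) ?_
      have h1 : RingHom.ker ((pullback.fst m Δ).stalkMap (e η)).hom = IsLocalRing.maximalIdeal _ := by
        refine IsLocalRing.eq_maximalIdeal ?_
        letI := hfld.toField
        exact RingHom.ker_isMaximal_of_surjective _ ((pullback.fst m Δ).stalkMap_surjective (e η))
      rw [← h1, hker]
      exact Ideal.map_mono (IsLocalRing.le_maximalIdeal (RingHom.ker_ne_top _))
    rw [hmax (g η) hz]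
    haveI : IsSimpleModule ((pullback f f).presheaf.stalk (g η))
        ((pullback f f).presheaf.stalk (g η) ⧸ IsLocalRing.maximalIdeal ((pullback f f).presheaf.stalk (g η))) :=
      isSimpleModule_iff_isCoatom.mpr (Ideal.isMaximal_def.mp (IsLocalRing.maximalIdeal.isMaximal _))
    rw [Module.length_eq_one]
    rfl
  · rw [Set.indicator_of_notMem (show x ∉ ({g η} : Set ↥(pullback f f)) from hx)]
    by_cases hd : δ x = δ (m x) + 0
    · rw [if_pos hd, Set.indicator_of_notMem, zero_mul]
      intro hmx
      apply hx
      have hmx' : m x = Δ η := hmx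
      obtain ⟨z, hz1, hz2⟩ := Scheme.Pullback.exists_preimage_pullback x η hmx'
      obtain ⟨p, rfl⟩ := (Scheme.homeoOfIso (asIso e)).surjective z
      change (pullback.fst m Δ) (e p) = x at hz1
      change (pullback.snd m Δ) (e p) = η at hz2
      rw [← Scheme.Hom.comp_apply, pullback.lift_fst] at hz1
      rw [← Scheme.Hom.comp_apply, pullback.lift_snd] at hz2
      rw [← hz1, hpre p hz2]
    · rw [if_neg hd]

end Groth.Agent.S19419
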