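import Groth.Statements.S19422
import Mathlib

set_option autoImplicit false
universe u
open TensorProduct LaurentPolynomial
open GIT

namespace Groth.Agent.S19422

open TensorProduct in
theorem main (k : Type u) [Field k] (ι : Type u) [Fintype ι]
    [HopfRep.Comod k k[T;T⁻¹] (MvPolynomial ι k)] [GLin.IsCoactAlg k k[T;T⁻¹] (MvPolynomial ι k)] (r : ι → ℤ)
    (hr : ∀ i : ι, HopfRep.Comod.coact (k := k) (A := k[T;T⁻¹]) (MvPolynomial.X i : MvPolynomial ι k) =
      (MvPolynomial.X i : MvPolynomial ι k) ⊗ₜ[k] (T (r i) : k[T;T⁻¹])) (v : ι → k) :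
    GLin.IsSemistableVec k k[T;T⁻¹] v ↔ ∃ i j : ι, v i ≠ 0 ∧ v j ≠ 0 ∧ r i ≤ 0 ∧ 0 ≤ r j := by
  classical
  let w : (ι →₀ ℕ) → ℤ := fun d => ∑ i, (d i : ℤ) * r i
  have hmon : ∀ d : ι →₀ ℕ, HopfRep.Comod.coact (k := k) (A := k[T;T⁻¹]) (MvPolynomial.monomial d (1 : k)) =
      MvPolynomial.monomial d (1 : k) ⊗ₜ[k] (T (w d) : k[T;T⁻¹]) := by
    intro d
    induction d using Finsupp.induction with
    | zero =>
      simp only [w, Finsupp.coe_zero, Pi.zero_apply, Nat.cast_zero, zero_mul, Finset.sum_const_zero, T_zero,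
        MvPolynomial.monomial_zero', map_one]
      exact GLin.IsCoactAlg.coact_one
    | single_add a b f _ _ ih =>
      have hw : w (Finsupp.single a b + f) = (b : ℤ) * r a + w f := by
        simp [w, add_mul, Finset.sum_add_distrib, Finsupp.single_apply, ite_mul]
      rw [← mul_one (1 : k), ← MvPolynomial.monomial_mul, GLin.IsCoactAlg.coact_mul, ih, hw, T_add,
        ← Algebra.TensorProduct.tmul_mul_tmul, ← MvPolynomial.X_pow_eq_monomial]
      congr 1
      rw [← GLin.coactAlgHom_apply, map_pow, GLin.coactAlgHom_apply, hr, Algebra.TensorProduct.tmul_pow, T_pow]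
  have hinv : ∀ F ∈ GLin.invariants k k[T;T⁻¹] (MvPolynomial ι k), ∀ d ∈ F.support, w d = 0 := by
    intro F hF d hd
    have h := congrArg (fun z => TensorProduct.lid k k[T;T⁻¹] ((MvPolynomial.lcoeff k d).rTensor k[T;T⁻¹] z))
      ((GLin.mem_invariants_iff k k[T;T⁻¹] (MvPolynomial ι k) F).1 hF)
    conv_lhs at h => rw [F.as_sum]
    simp only [map_sum] at h
    rw [Finset.sum_eq_single d] at h
    · rw [← mul_one (MvPolynomial.coeff d F), ← smul_eq_mul, ← MvPolynomial.smul_monomial, map_smul, hmon] at h
      simp [MvPolynomial.coeff_monomial] at h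
      by_contra hne
      apply MvPolynomial.mem_support_iff.1 hd
      have h2 := congrArg (fun q : k[T;T⁻¹] => q.coeff (w d)) h
      rw [← LaurentPolynomial.T_zero, AddMonoidAlgebra.coeff_smul, AddMonoidAlgebra.coeff_smul, Finsupp.smul_apply,
        Finsupp.smul_apply] at h2
      simp only [LaurentPolynomial.T, AddMonoidAlgebra.coeff_single, Finsupp.single_apply, if_pos,
        if_neg (Ne.symm hne)] at h2
      simpa using h2
    · intro b _ hb
      rw [← mul_one (MvPolynomial.coeff b F), ← smul_eq_mul, ← MvPolynomial.smul_monomial, map_smul, hmon]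
      simp [MvPolynomial.coeff_monomial, hb]
    · intro h'; exact absurd hd h'
  constructor
  · intro hss
    by_contra hno
    push Not at hno
    refine hss fun F hF d hd hhom => ?_
    by_contra hne
    obtain ⟨e, he, hev⟩ : ∃ e ∈ F.support, F.coeff e * ∏ i, v i ^ e i ≠ 0 := by
      rw [MvPolynomial.eval_eq'] at hne
      exact Finset.exists_ne_zero_of_sum_ne_zero hne
    have hsupp : ∀ i, e i ≠ 0 → v i ≠ 0 := fun i hi hvi => hev (by
      rw [Finset.prod_eq_zero (Finset.mem_univ i) (by rw [hvi, zero_pow hi]), mul_zero])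
    have hw0 := hinv F hF e he
    have hdeg : ∑ i, e i = d := by
      rw [← Finsupp.degree_eq_sum, Finsupp.degree_eq_weight_one]
      exact hhom (MvPolynomial.mem_support_iff.1 he)
    obtain ⟨i₀, -, hi₀⟩ := Finset.exists_ne_zero_of_sum_ne_zero (show ∑ i, e i ≠ 0 by omega)
    rcases lt_trichotomy (r i₀) 0 with hlt | heq | hgt
    · refine absurd hw0 (ne_of_lt (Finset.sum_neg' (fun j _ => ?_) ⟨i₀, Finset.mem_univ _, mul_neg_of_pos_of_neg (by exact_mod_cast Nat.pos_of_ne_zero hi₀) hlt⟩))
      by_cases hj : e j = 0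
      · simp [hj]
      · exact mul_nonpos_of_nonneg_of_nonpos (by positivity) (le_of_lt (hno i₀ j (hsupp _ hi₀) (hsupp _ hj) hlt.le))
    · exact absurd (hno i₀ i₀ (hsupp _ hi₀) (hsupp _ hi₀) heq.le) (by omega)
    · refine absurd hw0 (ne_of_gt (Finset.sum_pos' (fun j _ => ?_) ⟨i₀, Finset.mem_univ _, mul_pos (by exact_mod_cast Nat.pos_of_ne_zero hi₀) hgt⟩))
      by_cases hj : e j = 0
      · simp [hj]
      · refine mul_nonneg (by positivity) (not_lt.1 fun hneg => ?_)
        exact absurd (hno j i₀ (hsupp _ hj) (hsupp _ hi₀) hneg.le) (by omega)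
  · rintro ⟨i, j, hi, hj, hri, hrj⟩ hnull
    obtain ⟨d, hd, hdv, hw⟩ : ∃ d : ι →₀ ℕ, 0 < ∑ l, d l ∧ (∀ l, d l ≠ 0 → v l ≠ 0) ∧ w d = 0 := by
      by_cases h0 : r i = 0
      · refine ⟨Finsupp.single i 1, by simp [Finsupp.single_apply], fun l hl => ?_, by simp [w, Finsupp.single_apply, h0]⟩
        obtain rfl : l = i := by by_contra hne; exact hl (Finsupp.single_eq_of_ne hne)
        exact hi
      by_cases h1 : r j = 0
      · refine ⟨Finsupp.single j 1, by simp [Finsupp.single_apply], fun l hl => ?_, by simp [w, Finsupp.single_apply, h1]⟩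
        obtain rfl : l = j := by by_contra hne; exact hl (Finsupp.single_eq_of_ne hne)
        exact hj
      have hij : i ≠ j := fun h => by subst h; omega
      refine ⟨Finsupp.single i (r j).toNat + Finsupp.single j (-(r i)).toNat, ?_, fun l hl => ?_, ?_⟩
      · simp [Finset.sum_add_distrib, Finsupp.single_apply]; omega
      · by_cases hli : l = i
        · subst hli; exact hi
        · by_cases hlj : l = j
          · subst hlj; exact hj
          · exact absurd (by simp [hli, hlj]) hl
      · simp [w, add_mul, Finset.sum_add_distrib, Finsupp.single_apply, ite_mul]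
        rw [max_eq_left (by omega : (0 : ℤ) ≤ r j), max_eq_left (by omega : (0 : ℤ) ≤ -r i)]
        ring
    have h := hnull (MvPolynomial.monomial d 1) (by
      rw [GLin.mem_invariants_iff, hmon, hw, T_zero]) (∑ l, d l) hd (MvPolynomial.isHomogeneous_monomial _ (by rw [Finsupp.degree_eq_sum]))
    rw [MvPolynomial.eval_monomial, one_mul, Finsupp.prod_fintype _ _ (fun l => pow_zero _)] at h
    obtain ⟨l, -, hl⟩ := Finset.prod_eq_zero_iff.1 h
    exact hdv l (fun h0 => by simp [h0] at hl) (eq_zero_of_pow_eq_zero hl)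

/-- Over an algebraically closed field k, let the multiplicative group, whose coordinate Hopf algebra is
the Laurent polynomial ring, act diagonally on affine ι-space, ι finite: the coaction on the
polynomial ring is multiplicative and sends the coordinate function X_i to X_i ⊗ T^(r_i) for
integers r_i. Then a vector v is semistable (some invariant homogeneous polynomial of positive
degree does not vanish at v) if and only if there are indices i and j, possibly equal, with v_i ≠ 0,
v_j ≠ 0 and r_i ≤ 0 ≤ r_j, i.e. the origin lies in the convex hull of the weights of v. (Stated for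
the ambient projective space on its affine cone; the published statement is for a point of a closed
invariant subvariety, whose semistability is that of the point in the ambient space.) -/
theorem result (k : Type u) [Field k] [IsAlgClosed k]
    (ι : Type u) [Fintype ι] [HopfRep.Comod k k[T;T⁻¹] (MvPolynomial ι k)] [GLin.IsCoactAlg k k[T;T⁻¹] (MvPolynomial ι k)]
    (r : ι → ℤ)
    (hr : ∀ i : ι, HopfRep.Comod.coact (k := k) (A := k[T;T⁻¹]) (MvPolynomial.X i : MvPolynomial ι k) =
      (MvPolynomial.X i : MvPolynomial ι k) ⊗ₜ[k] (T (r i) : k[T;T⁻¹]))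
    (v : ι → k) :
    GLin.IsSemistableVec k k[T;T⁻¹] v ↔ ∃ i j : ι, v i ≠ 0 ∧ v j ≠ 0 ∧ r i ≤ 0 ∧ 0 ≤ r j := by
  open TensorProduct in exact main k ι r hr v

end Groth.Agent.S19422
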