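import Groth.Statements.S19423
-- import your own Groth.Agent.* helpers here

set_option autoImplicit false
universe u
open TensorProduct LaurentPolynomial
open GIT

namespace Groth.Agent.S19423

/-- Over an algebraically closed field k, let the multiplicative group, whose coordinate Hopf algebra is
the Laurent polynomial ring, act diagonally on affine ι-space, ι finite: the coaction on the
polynomial ring is multiplicative and sends the coordinate function X_i to X_i ⊗ T^(r_i) for
integers r_i. Then a vector v is stable (the orbit of the point v of affine space is closed and its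
stabiliser is a finite group scheme) if and only if there are indices i and j with v_i ≠ 0, v_j ≠ 0
and r_i < 0 < r_j, i.e. the origin is an interior point of the convex hull of the weights of v.
(Stated for the ambient projective space on its affine cone, where stability means a closed orbit
with finite stabiliser in the cone.) -/
theorem result (k : Type u) [Field k] [IsAlgClosed k]
    (ι : Type u) [Fintype ι] [HopfRep.Comod k k[T;T⁻¹] (MvPolynomial ι k)] [GLin.IsCoactAlg k k[T;T⁻¹] (MvPolynomial ι k)]
    (r : ι → ℤ)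
    (hr : ∀ i : ι, HopfRep.Comod.coact (k := k) (A := k[T;T⁻¹]) (MvPolynomial.X i : MvPolynomial ι k) =
      (MvPolynomial.X i : MvPolynomial ι k) ⊗ₜ[k] (T (r i) : k[T;T⁻¹]))
    (v : ι → k) :
    GLin.IsStableVec k k[T;T⁻¹] v ↔ ∃ i j : ι, v i ≠ 0 ∧ v j ≠ 0 ∧ r i < 0 ∧ 0 < r j := by
  classical
  let ε := GLin.orbitHom k k[T;T⁻¹] (GLin.vecPt k ι v)
  have hX : ∀ l, ε (MvPolynomial.X l) = v l • (T (r l) : k[T;T⁻¹]) := fun l => by
    show (Algebra.TensorProduct.lid k k[T;T⁻¹]) (Algebra.TensorProduct.map (GLin.vecPt k ι v) (AlgHom.id k k[T;T⁻¹])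
      (HopfRep.Comod.coact (k := k) (A := k[T;T⁻¹]) (MvPolynomial.X l))) = _
    rw [hr]
    simp
  constructor
  · rintro ⟨hcl, hfin⟩
    by_contra hno
    by_cases h0 : ∀ l, v l ≠ 0 → r l = 0
    · have hε : ε = (Algebra.ofId k k[T;T⁻¹]).comp (GLin.vecPt k ι v) := by
        refine MvPolynomial.algHom_ext fun l => ?_
        rw [hX, AlgHom.comp_apply, GLin.vecPt, MvPolynomial.aeval_X]
        by_cases hl : v l = 0
        · rw [hl, zero_smul, map_zero]
        · rw [h0 l hl, T_zero, ← Algebra.algebraMap_eq_smul_one]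
          rfl
      have hbot : GLin.stabIdeal k k[T;T⁻¹] (GLin.vecPt k ι v) = ⊥ := by
        refine le_bot_iff.1 (Ideal.map_le_iff_le_comap.2 fun f hf => ?_)
        show ε f ∈ (⊥ : Ideal k[T;T⁻¹])
        rw [hε, AlgHom.comp_apply, RingHom.mem_ker.1 hf, map_zero]
        exact zero_mem _
      have hfin' : Module.Finite k (k[T;T⁻¹] ⧸ GLin.stabIdeal k k[T;T⁻¹] (GLin.vecPt k ι v)) := hfin
      rw [hbot] at hfin'
      have : Module.Finite k k[T;T⁻¹] :=
        Module.Finite.equiv (AlgEquiv.quotientBot k k[T;T⁻¹]).toLinearEquiv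
      have hZ : Finite ℤ := Module.Finite.finite_basis (AddMonoidAlgebra.basis ℤ k)
      exact not_finite ℤ
    · push Not at h0
      obtain ⟨l₀, hv₀, hr₀⟩ := h0
      obtain ⟨σ, hσ⟩ : ∃ σ : ℤ, (σ = 1 ∨ σ = -1) ∧ ∀ l, v l ≠ 0 → 0 ≤ σ * r l := by
        by_cases hpos : ∃ j, v j ≠ 0 ∧ 0 < r j
        · obtain ⟨j, hj, hrj⟩ := hpos
          exact ⟨1, Or.inl rfl, fun l hl => by
            rw [one_mul]
            by_contra hneg
            exact hno ⟨l, j, hl, hj, not_le.1 hneg, hrj⟩⟩
        · push Not at hpos
          exact ⟨-1, Or.inr rfl, fun l hl => by have := hpos l hl; omega⟩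
      let p : ι → Polynomial k := fun l => if v l = 0 then 0 else Polynomial.C (v l) * Polynomial.X ^ (σ * r l).toNat
      let h : MvPolynomial ι k →ₐ[k] Polynomial k := MvPolynomial.aeval p
      let inv : k[T;T⁻¹] →ₐ[k] k[T;T⁻¹] :=
        if σ = 1 then AlgHom.id k _ else AddMonoidAlgebra.mapDomainAlgHom k k (-AddMonoidHom.id ℤ)
      have hinv : ∀ m, inv (T m) = T (σ * m) := fun m => by
        rcases hσ.1 with rfl | rfl
        · simp [inv]
        · simp [inv, T, -LaurentPolynomial.single_eq_C_mul_T]
      have hh : inv.comp ε = (Polynomial.toLaurentAlg (R := k)).comp h := by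
        refine MvPolynomial.algHom_ext fun l => ?_
        rw [AlgHom.comp_apply, hX, map_smul, hinv, AlgHom.comp_apply, MvPolynomial.aeval_X]
        by_cases hl : v l = 0
        · simp [p, hl]
        · simp only [p, if_neg hl]
          show _ = Polynomial.toLaurent _
          rw [Polynomial.toLaurent_C_mul_X_pow, Int.toNat_of_nonneg (hσ.2 l hl), smul_eq_C_mul]
      let w : MvPolynomial ι k →ₐ[k] k := (Polynomial.aeval (0 : k)).comp h
      have hle : RingHom.ker ε.toRingHom ≤ RingHom.ker w := fun f hf => by
        have : h f = 0 := Polynomial.toLaurent_injective (by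
          rw [map_zero]
          exact (DFunLike.congr_fun hh f).symm.trans (by rw [AlgHom.comp_apply, show ε f = 0 from hf, map_zero]))
        show Polynomial.aeval (0 : k) (h f) = 0
        rw [this, map_zero]
      haveI : (RingHom.ker w).IsPrime := RingHom.ker_isPrime _
      have hmem : (⟨RingHom.ker w, inferInstance⟩ : PrimeSpectrum (MvPolynomial ι k)) ∈
          Set.range (PrimeSpectrum.comap ε.toRingHom) := by
        rw [← IsClosed.closure_eq (show IsClosed (Set.range (PrimeSpectrum.comap ε.toRingHom)) from hcl),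
          PrimeSpectrum.closure_range_comap]
        exact hle
      obtain ⟨P, hP⟩ := hmem
      have hw : w (MvPolynomial.X l₀) = 0 := by
        have hpos : 0 < σ * r l₀ := lt_of_le_of_ne (hσ.2 l₀ hv₀) (Ne.symm (mul_ne_zero (by
          rcases hσ.1 with rfl | rfl <;> decide) hr₀))
        show Polynomial.aeval (0 : k) (h (MvPolynomial.X l₀)) = 0
        rw [MvPolynomial.aeval_X]
        simp only [p, if_neg hv₀, map_mul, map_pow, Polynomial.aeval_X]
        rw [zero_pow (by omega), mul_zero]
      have hmem : MvPolynomial.X l₀ ∈ (PrimeSpectrum.comap ε.toRingHom P).asIdeal := by rw [hP]; exact hw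
      refine P.2.ne_top (Ideal.eq_top_of_isUnit_mem _ (show ε (MvPolynomial.X l₀) ∈ P.asIdeal from hmem) ?_)
      rw [hX, smul_eq_C_mul]
      exact ((isUnit_iff_ne_zero.2 hv₀).map _).mul (isUnit_T _)
  · rintro ⟨i, j, hi, hj, hri, hrj⟩
    letI : Algebra (MvPolynomial ι k) k[T;T⁻¹] := ε.toRingHom.toAlgebra
    haveI : IsScalarTower k (MvPolynomial ι k) k[T;T⁻¹] :=
      IsScalarTower.of_algebraMap_eq fun c => (ε.commutes c).symm
    have hint : ∀ l, v l ≠ 0 → ∀ (m : ℕ) (a : ℤ), 0 < m → (m : ℤ) * a = r l →
        IsIntegral (MvPolynomial ι k) (T a : k[T;T⁻¹]) := fun l hl m a hm hma => by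
      refine IsIntegral.of_pow hm ?_
      rw [T_pow, hma, show (T (r l) : k[T;T⁻¹]) = algebraMap (MvPolynomial ι k) _ ((v l)⁻¹ • MvPolynomial.X l) from by
        show _ = ε _
        rw [map_smul, hX, smul_smul, inv_mul_cancel₀ hl, one_smul]]
      exact isIntegral_algebraMap
    have h1 := hint j hj (r j).toNat 1 (by omega) (by omega)
    have h2 := hint i hi (-r i).toNat (-1) (by omega) (by omega)
    have hpow : ∀ n : ℤ, IsIntegral (MvPolynomial ι k) (T n : k[T;T⁻¹]) := fun n => by
      rcases Int.eq_nat_or_neg n with ⟨m, rfl | rfl⟩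
      · have := h1.pow m
        rwa [T_pow, mul_one] at this
      · have := h2.pow m
        rwa [T_pow, mul_neg_one] at this
    have hall : ε.toRingHom.IsIntegral := fun x => by
      show IsIntegral (MvPolynomial ι k) x
      induction x using LaurentPolynomial.induction_on' with
      | add p q hp hq => exact hp.add hq
      | C_mul_T n a =>
        refine IsIntegral.mul ?_ (hpow n)
        rw [show (C a : k[T;T⁻¹]) = algebraMap (MvPolynomial ι k) _ (algebraMap k _ a) from by
          rw [← IsScalarTower.algebraMap_apply, LaurentPolynomial.algebraMap_apply]; rfl]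
        exact isIntegral_algebraMap
    haveI : Algebra.IsIntegral (MvPolynomial ι k) k[T;T⁻¹] := ⟨hall⟩
    refine ⟨?_, ?_⟩
    · have := PrimeSpectrum.isClosedMap_comap_of_isIntegral ε.toRingHom hall Set.univ isClosed_univ
      rw [Set.image_univ] at this
      exact this
    · haveI : Algebra.FiniteType k k[T;T⁻¹] := inferInstance
      haveI : Algebra.FiniteType (MvPolynomial ι k) k[T;T⁻¹] :=
        Algebra.FiniteType.of_restrictScalars_finiteType k _ _
      haveI : Module.Finite (MvPolynomial ι k) k[T;T⁻¹] := Algebra.IsIntegral.finite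
      let I := GLin.stabIdeal k k[T;T⁻¹] (GLin.vecPt k ι v)
      show Module.Finite k (k[T;T⁻¹] ⧸ I)
      obtain ⟨s, hs⟩ := Module.Finite.fg_top (R := MvPolynomial ι k) (M := k[T;T⁻¹])
      refine ⟨⟨s.image (Ideal.Quotient.mkₐ k I), eq_top_iff.2 fun z hz => ?_⟩⟩
      clear hz
      obtain ⟨x, rfl⟩ := Ideal.Quotient.mk_surjective z
      have hx : x ∈ Submodule.span (MvPolynomial ι k) (s : Set k[T;T⁻¹]) := hs ▸ Submodule.mem_top
      induction hx using Submodule.span_induction with
      | mem y hy => exact Submodule.subset_span (Finset.mem_coe.2 (Finset.mem_image_of_mem _ hy))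
      | zero => rw [map_zero]; exact zero_mem _
      | add a b _ _ ha hb => rw [map_add]; exact add_mem ha hb
      | smul f y _ hy =>
        have e : Ideal.Quotient.mk I (f • y) = GLin.vecPt k ι v f • Ideal.Quotient.mk I y := by
          rw [Algebra.smul_def f y, ← Ideal.Quotient.mkₐ_eq_mk k, ← map_smul, Ideal.Quotient.mkₐ_eq_mk,
            Algebra.smul_def, Ideal.Quotient.eq, ← sub_mul]
          refine I.mul_mem_right _ ?_
          have hk : f - algebraMap k _ (GLin.vecPt k ι v f) ∈ RingHom.ker (GLin.vecPt k ι v) := by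
            simp [RingHom.mem_ker]
          have := Ideal.mem_map_of_mem ε hk
          rw [map_sub, AlgHom.commutes] at this
          exact this
        rw [e]
        exact Submodule.smul_mem _ _ hy

end Groth.Agent.S19423
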