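import Groth.Statements.S19427
import Groth.Agent.MilnorK.DVRStructure
import Mathlib.Tactic
import Mathlib.RingTheory.Henselian
import Mathlib.GroupTheory.Perm.Fin
import Mathlib.FieldTheory.Finite.Basic

set_option autoImplicit false
universe u
open MilnorK

namespace Groth.Agent.S19427

/-- For a field F and nonzero b, c with b + c ≠ 0, in the Milnor K-group K_2(F) one has {b, c} + {b + c,
-b/c} = 0, that is {b, c} = -{b + c, -b/c} = {b + c, -c/b}. (The identity as displayed in the source
is {b, c} = {b + c, -b/c}, which differs from this by a sign and fails in general: for b = 3, c = 5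
over the rationals the tame symbol at 5 takes the values 3 and 1/3 on the two sides; the
accompanying derivation from the Steinberg relation b/(b+c) + c/(b+c) = 1 gives exactly the identity
stated here.) -/
theorem result (F : Type u) [Field F] (b c : Fˣ)
    (h : (b : F) + (c : F) ≠ 0) :
    (MilK.symbol ![b, c] : MilK.K F 2) + MilK.symbol ![Units.mk0 ((b : F) + (c : F)) h, -(b / c)] = 0 := by
  open Groth.Agent.MilnorK in
  set s : Fˣ := Units.mk0 ((b : F) + (c : F)) h with hs
  set z : MilK.K F 0 := MilK.symbol ![]
  have e : ∀ p q : Fˣ, (MilK.symbol ![p, q] : MilK.K F 2)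
      = cons 1 (.ofMul p) (cons 0 (.ofMul q) z) := fun p q => by rw [cons_symbol, cons_symbol]; rfl
  rw [e, e]
  have hst := cons_cons_stein (b / s) (c / s) (by
    simp only [Units.val_div_eq_div_val, hs, Units.val_mk0]
    rw [← add_div, div_self h]) z
  have hm : Additive.ofMul (-(b / c)) = Additive.ofMul b - Additive.ofMul c + Additive.ofMul (-1 : Fˣ) := by
    rw [← ofMul_div, ← ofMul_mul]; simp
  rw [ofMul_div, ofMul_div] at hst
  simp only [map_sub, AddMonoidHom.sub_apply, map_add, AddMonoidHom.add_apply] at hst
  rw [cons_cons_anti (Additive.ofMul b) (Additive.ofMul s), cons_cons_self s] at hst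
  simp only [hm, map_add, map_sub, AddMonoidHom.add_apply, AddMonoidHom.sub_apply]
  rw [← hst]; abel

end Groth.Agent.S19427
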