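import Groth.Statements.S19430
import Groth.Agent.PBReg.Model

set_option autoImplicit false
set_option backward.isDefEq.respectTransparency false
set_option backward.isDefEq.respectTransparency.types false
universe u
open SGA6

namespace Groth.Agent.S19430

open CategoryTheory CategoryTheory.Limits AlgebraicGeometry in
/-- For Grothendieck groups of vector bundles (the degree-zero case of the statement), let T be a
quasi-compact scheme, E a finite locally free O_T-module of rank r, and (π : P ⟶ T, O(1), q) a
projective bundle P(E) of E, characterised by its universal property for invertible quotients of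
pull-backs of E; let O(-1) be an inverse of the invertible module O(1). For each i < r let G_i be an
additive map from K₀ of the finite locally free O_T-modules to K₀ of the finite locally free
O_P-modules with G_i [N] = [O(-1)^{⊗ i} ⊗ π^* N] for every finite locally free N (the K₀(T)-module
structure of K₀(P) through π^* and the powers of t = [O(-1)]). Then (a_0, …, a_{r-1}) ↦ Σ_i G_i
(a_i) is a bijection from K₀(T)^r onto K₀(P): K₀(P) is free over K₀(T) on 1, t, …, t^{r-1}. No
Noetherian or connectedness hypothesis on T. -/
theorem result (T P : Scheme.{u}) [CompactSpace T]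
    (r : ℕ) (E : T.Modules) (hE : FlatMod.IsFinLocFreeOfRank r E)
    (π : P ⟶ T) (O1 : P.Modules) (q : (Scheme.Modules.pullback π).obj E ⟶ O1) (hPB : KRR.IsProjBundle π E O1 q)
    (Oinv : P.Modules) (hinv : ClSub.IsInverseOf Oinv O1)
    (G : Fin r → (SGA6.Kvb T →+ SGA6.Kvb P))
    (hG : ∀ (i : Fin r) (N : T.Modules), FlatMod.IsFinLocFree N →
      G i (KRR.cl T N) = KRR.cl P (CohB1.tensorMod (CohB1.tensorPow Oinv (i : ℕ)) ((Scheme.Modules.pullback π).obj N))) :
    Function.Bijective (fun a : Fin r → SGA6.Kvb T => ∑ i : Fin r, G i (a i)) := by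
  rcases r with _ | n
  · have hE0 : IsZero E := Groth.Agent.SGA6Ext.isZero_of_rank_zero hE
    haveI := hPB.epi
    have hO : IsZero O1 := IsZero.of_epi q ((Scheme.Modules.pullback π).map_isZero hE0)
    haveI := Groth.Agent.PBReg.isEmpty_of_isZero hPB.invertible hO
    haveI := Groth.Agent.PBReg.subsingleton_kvb P
    exact ⟨fun a b _ => funext fun i => i.elim0, fun y => ⟨fun i => i.elim0, Subsingleton.elim _ _⟩⟩
  · let X : Groth.Agent.PBReg.Bun n T := ⟨P, π, E, hE, O1, q, hPB⟩
    have hGi : ∀ i : Fin (n + 1), G i = X.gen (-((i : ℕ) : ℤ)) := fun i =>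
      Groth.Agent.SGA6Ext.hom_ext_cls fun N hN => by
        obtain ⟨e⟩ := Groth.Agent.PBReg.nonempty_O_pow (X := X) hinv (i : ℕ)
        refine Eq.trans (hG i N hN) (Eq.trans ?_ (Groth.Agent.PBReg.gen_cls (X := X) _ hN).symm)
        exact (Groth.Agent.SGA6Ext.cls_iso (PicGrp.tensorModIso e.symm (Iso.refl _))
          (Groth.Agent.PBReg.isFinLocFree_twF (X := X) _ (Groth.Agent.PBReg.isFLF_pull (X := X) hN))).symm
    rw [show (fun a : Fin (n + 1) → SGA6.Kvb T => ∑ i : Fin (n + 1), G i (a i)) =
      fun a => X.comb a from funext fun a => Finset.sum_congr rfl fun i _ => by rw [hGi i]]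
    exact Groth.Agent.PBReg.bijective_comb (X := X)

end Groth.Agent.S19430
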