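import Groth.Statements.S19434
import Groth.Agent.SerrePn.Hypersurface
import Groth.Agent.K0Coh.Basic

set_option backward.isDefEq.respectTransparency false

set_option autoImplicit false
set_option maxHeartbeats 800000
set_option linter.style.haveILetI false
universe u
open Coherent

namespace Groth.Agent.S19434

open Groth.Agent Groth.Agent.SerrePn

open CategoryTheory CategoryTheory.Limits AlgebraicGeometry in
/-- Let F be a field, d ≥ 1, k ≥ 1, P = P^{d+1}_F, and X ⊆ P a hypersurface of degree k: a closed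
subscheme (ideal sheaf I) whose ideal sheaf is isomorphic, as an O_P-module, to O_P(-k) —
equivalently X is cut out by one nonzero form q of degree k, with homogeneous coordinate ring A =
F[x_0, …, x_{d+1}]/(q), whose degree-m piece has dimension a(m) = C(m+d+1, d+1) - C(m-k+d+1, d+1) (a
binomial coefficient with a negative upper entry read as 0). For an integer n let O_X(n) denote the
O_P-module O_X ⊗ O_P(n). Then H^p(P, O_X(n)) vanishes for every p different from 0 and d, H^0(P,
O_X(n)) is a finite-dimensional F-vector space of dimension a(n), and H^d(P, O_X(n)) is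
finite-dimensional of dimension a(k-2-d-n). Only the vanishing, the finiteness and the dimensions
are stated here; the identifications of H^0(P, O_X(n)) with A_n and of H^d(P, O_X(n)) with the dual
of A_{k-2-d-n} are not. -/
theorem result (F : Type u) [Field F] (d k : ℕ)
    (hd : 1 ≤ d) (hk : 1 ≤ k) (I : (CohB1.ProjSpace (d + 1) F).IdealSheafData)
    (hI : Nonempty (ClSub.idealMod I ≅ Twist.twistProjSpace (d + 1) F (-(k : ℤ)))) (n : ℤ) :
    (∀ p : ℕ, p ≠ 0 → p ≠ d →
      Subsingleton (Coh.HH (CohB1.ProjSpace (d + 1) F)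
        (CohB1.tensorMod (ClSub.quotMod I) (Twist.twistProjSpace (d + 1) F n)) p)) ∧
    (Module.Finite F (Coh.HH (CohB1.ProjSpace (d + 1) F)
        (CohB1.tensorMod (ClSub.quotMod I) (Twist.twistProjSpace (d + 1) F n)) 0) ∧
      Module.finrank F (Coh.HH (CohB1.ProjSpace (d + 1) F)
        (CohB1.tensorMod (ClSub.quotMod I) (Twist.twistProjSpace (d + 1) F n)) 0) =
        (Nat.choose (n + ((d : ℤ) + 1)).toNat (d + 1) - Nat.choose (n - (k : ℤ) + ((d : ℤ) + 1)).toNat (d + 1))) ∧
    (Module.Finite F (Coh.HH (CohB1.ProjSpace (d + 1) F)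
        (CohB1.tensorMod (ClSub.quotMod I) (Twist.twistProjSpace (d + 1) F n)) d) ∧
      Module.finrank F (Coh.HH (CohB1.ProjSpace (d + 1) F)
        (CohB1.tensorMod (ClSub.quotMod I) (Twist.twistProjSpace (d + 1) F n)) d) =
        (Nat.choose (((k : ℤ) - 2 - (d : ℤ) - n) + ((d : ℤ) + 1)).toNat (d + 1) - Nat.choose (((k : ℤ) - 2 - (d : ℤ) - n) - (k : ℤ) + ((d : ℤ) + 1)).toNat (d + 1))) := by
  obtain ⟨e⟩ := hI
  obtain ⟨a⟩ := nonempty_left e n
  obtain ⟨b⟩ := nonempty_middle (I := I) n
  let P := CohB1.ProjSpace (d + 1) F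
  have hS := hypSeq_shortExact (I := I) n
  have hsurj := surjective_top (by omega) e n
  have hI : Coh.IsCoh (hypSeq I n).X₁ :=
    CohFinite.isCoh_tensor (K0Coh.isCoh_of_iso e.symm (CohFinite.isCoh_twist _ F _)) (CohFinite.isInvertible_twist _ F n)
  have f1 : ∀ q, Module.Finite F (Coh.HH P (hypSeq I n).X₁ q) := CohFinite.finite_projSpace _ F _ hI
  have f2 : ∀ q, Module.Finite F (Coh.HH P (hypSeq I n).X₂ q) := fun q =>
    haveI : Module.Finite F (Coh.HH P (Om F (d + 1) n) q) := CohFinite.finite_projSpace (d + 1) F _ (CohFinite.isCoh_twist _ F n) q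
    Module.Finite.equiv (CohFinite.hhEquiv F b q).symm
  have f3 := fun q => finite_seq (I := I) n q hI
  have r1 := fun q => (CohFinite.hhEquiv F a q).finrank_eq
  have r2 := fun q => (CohFinite.hhEquiv F b q).finrank_eq
  have v1 : ∀ q : ℕ, q ≠ 0 → q ≠ d + 1 → Subsingleton (Coh.HH P (hypSeq I n).X₁ q) := fun q h0 hq =>
    CohQC.hh_subsingleton_of_iso a.symm q (ProjCech.twist_vanish (R := F) _ _ q (by omega) (by omega))
  have v2 : ∀ q : ℕ, q ≠ 0 → q ≠ d + 1 → Subsingleton (Coh.HH P (hypSeq I n).X₂ q) := fun q h0 hq =>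
    CohQC.hh_subsingleton_of_iso b.symm q (ProjCech.twist_vanish (R := F) _ _ q (by omega) (by omega))
  have hinj : Function.Injective (CohFinite.hhMap F (hypSeq I n).f 0) := CohFinite.map_f_injective (CohFinite.shortExact_toAb hS)
  haveI := f1 0
  haveI := f1 1
  haveI := f2 0
  haveI := f2 1
  haveI := f3 0
  refine ⟨fun p h0 hp => ?_, ⟨f3 0, ?_⟩, ⟨f3 d, ?_⟩⟩
  · rcases eq_or_ne p (d + 1) with rfl | hp'
    · exact subsingleton_last F hS _ hsurj (v1 _ (by omega) (by omega))
    · exact CohFinite.subsingleton_of_shortExact hS p (v2 p h0 hp') (v1 (p + 1) (by omega) (by omega))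
  · haveI := v1 1 one_ne_zero (by omega)
    haveI := v2 1 one_ne_zero (by omega)
    have h := finrank_add_of_surjective F hS 0 (Function.surjective_to_subsingleton _)
    rw [LinearMap.finrank_range_of_inj hinj, Module.finrank_zero_of_subsingleton (M := Coh.HH P (hypSeq I n).X₂ (0 + 1)),
      Module.finrank_zero_of_subsingleton (M := Coh.HH P (hypSeq I n).X₁ (0 + 1)), r1, r2,
      finrank_h0' _ n (by omega), finrank_h0' _ (n - k) (by omega), add_zero, add_zero] at h
    push_cast at h
    show Module.finrank F (Coh.HH P (hypSeq I n).X₃ 0) = _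
    exact Nat.eq_sub_of_add_eq h
  · haveI := v2 d (by omega) (by omega)
    haveI := f1 (d + 1)
    haveI := f2 (d + 1)
    haveI := f2 d
    haveI := f3 d
    have h := finrank_add_of_surjective F hS d hsurj
    rw [Submodule.finrank_eq_zero.2 (LinearMap.range_eq_bot.2 (Subsingleton.elim _ _)),
      Module.finrank_zero_of_subsingleton (M := Coh.HH P (hypSeq I n).X₂ d), r1, r2,
      finrank_hn' _ n (by omega), finrank_hn' _ (n - k) (by omega), add_zero, zero_add] at h
    rw [show ((k : ℤ) - 2 - (d : ℤ) - n + ((d : ℤ) + 1)).toNat = (-(n - k) - 1).toNat by omega,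
      show ((k : ℤ) - 2 - (d : ℤ) - n - k + ((d : ℤ) + 1)).toNat = (-n - 1).toNat by omega]
    show Module.finrank F (Coh.HH P (hypSeq I n).X₃ d) = _
    exact Nat.eq_sub_of_add_eq h

end Groth.Agent.S19434
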