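import Groth.Statements.S19435
import Groth.Agent.SerrePn.Hypersurface
import Groth.Agent.K0Coh.Basic

set_option backward.isDefEq.respectTransparency false

set_option autoImplicit false
set_option maxHeartbeats 800000
set_option linter.style.haveILetI false
universe u
open Coherent

namespace Groth.Agent.S19435

open Groth.Agent Groth.Agent.SerrePn

open CategoryTheory CategoryTheory.Limits AlgebraicGeometry in
/-- The case d = 0. Let F be a field, k ≥ 1, P = P^1_F and X ⊆ P a hypersurface of degree k: a closed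
subscheme (ideal sheaf I) whose ideal sheaf is isomorphic as an O_P-module to O_P(-k), with
coordinate ring A = F[x_0, x_1]/(q) whose degree-m piece has dimension a(m) = C(m+1, 1) - C(m-k+1,
1) (negative upper entries read as 0); O_X(n) = O_X ⊗ O_P(n) as an O_P-module. Then H^0(P, O_X(n))
is finite-dimensional of dimension a(n) + a(k-2-n), that of an extension of the dual of the
degree-(k-2-n) piece of A by the degree-n piece (the exact sequence itself is not stated here); and
H^p(P, O_X(n)) vanishes for every p ≥ 1. -/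
theorem result (F : Type u) [Field F] (k : ℕ)
    (hk : 1 ≤ k) (I : (CohB1.ProjSpace 1 F).IdealSheafData)
    (hI : Nonempty (ClSub.idealMod I ≅ Twist.twistProjSpace 1 F (-(k : ℤ)))) (n : ℤ) :
    (Module.Finite F (Coh.HH (CohB1.ProjSpace 1 F)
        (CohB1.tensorMod (ClSub.quotMod I) (Twist.twistProjSpace 1 F n)) 0) ∧
      Module.finrank F (Coh.HH (CohB1.ProjSpace 1 F)
        (CohB1.tensorMod (ClSub.quotMod I) (Twist.twistProjSpace 1 F n)) 0) =
        (Nat.choose (n + 1).toNat 1 - Nat.choose (n - (k : ℤ) + 1).toNat 1) +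
        (Nat.choose ((k : ℤ) - 2 - n + 1).toNat 1 - Nat.choose ((k : ℤ) - 2 - n - (k : ℤ) + 1).toNat 1)) ∧
    (∀ p : ℕ, 1 ≤ p →
      Subsingleton (Coh.HH (CohB1.ProjSpace 1 F)
        (CohB1.tensorMod (ClSub.quotMod I) (Twist.twistProjSpace 1 F n)) p)) := by
  obtain ⟨e⟩ := hI
  obtain ⟨a⟩ := nonempty_left e n
  obtain ⟨b⟩ := nonempty_middle (I := I) n
  let P := CohB1.ProjSpace (1) F
  have hS := hypSeq_shortExact (I := I) n
  have hsurj := surjective_top (by omega) e n
  have hI : Coh.IsCoh (hypSeq I n).X₁ :=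
    CohFinite.isCoh_tensor (K0Coh.isCoh_of_iso e.symm (CohFinite.isCoh_twist _ F _)) (CohFinite.isInvertible_twist _ F n)
  have f1 : ∀ q, Module.Finite F (Coh.HH P (hypSeq I n).X₁ q) := CohFinite.finite_projSpace _ F _ hI
  have f2 : ∀ q, Module.Finite F (Coh.HH P (hypSeq I n).X₂ q) := fun q =>
    haveI : Module.Finite F (Coh.HH P (Om F (1) n) q) := CohFinite.finite_projSpace (1) F _ (CohFinite.isCoh_twist _ F n) q
    Module.Finite.equiv (CohFinite.hhEquiv F b q).symm
  have f3 := fun q => finite_seq (I := I) n q hI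
  have r1 := fun q => (CohFinite.hhEquiv F a q).finrank_eq
  have r2 := fun q => (CohFinite.hhEquiv F b q).finrank_eq
  have v1 : ∀ q : ℕ, q ≠ 0 → q ≠ 1 → Subsingleton (Coh.HH P (hypSeq I n).X₁ q) := fun q h0 hq =>
    CohQC.hh_subsingleton_of_iso a.symm q (ProjCech.twist_vanish (R := F) _ _ q (by omega) (by omega))
  have v2 : ∀ q : ℕ, q ≠ 0 → q ≠ 1 → Subsingleton (Coh.HH P (hypSeq I n).X₂ q) := fun q h0 hq =>
    CohQC.hh_subsingleton_of_iso b.symm q (ProjCech.twist_vanish (R := F) _ _ q (by omega) (by omega))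
  have hinj : Function.Injective (CohFinite.hhMap F (hypSeq I n).f 0) := CohFinite.map_f_injective (CohFinite.shortExact_toAb hS)
  haveI := f1 0
  haveI := f1 1
  haveI := f2 0
  haveI := f2 1
  haveI := f3 0
  refine ⟨⟨f3 0, ?_⟩, fun p hp => ?_⟩
  · have h' := finrank_add_of_surjective F hS 0 hsurj
    rw [LinearMap.finrank_range_of_inj hinj] at h'
    have h : Module.finrank F (Coh.HH P (hypSeq I n).X₃ 0) + Module.finrank F (Coh.HH P (hypSeq I n).X₂ 1) +
        Module.finrank F (Coh.HH P (hypSeq I n).X₁ 0) =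
      Module.finrank F (Coh.HH P (hypSeq I n).X₂ 0) + Module.finrank F (Coh.HH P (hypSeq I n).X₁ 1) := h'
    rw [r1 0, r2 1, r2 0, r1 1, finrank_h0' 1 n le_rfl, finrank_h0' 1 (n - k) le_rfl, finrank_hn' 1 n le_rfl,
      finrank_hn' 1 (n - k) le_rfl] at h
    simp only [Nat.choose_one_right, Nat.cast_one] at h ⊢
    show Module.finrank F (Coh.HH P (hypSeq I n).X₃ 0) = _
    omega
  · rcases eq_or_ne p 1 with rfl | hp'
    · exact subsingleton_last F hS _ hsurj (v1 _ (by omega) (by omega))
    · exact CohFinite.subsingleton_of_shortExact hS p (v2 p (by omega) hp') (v1 (p + 1) (by omega) (by omega))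

end Groth.Agent.S19435
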