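import Groth.Statements.S19436
import Mathlib.RingTheory.LocalRing.MaximalIdeal.Basic
import Mathlib.RingTheory.Ideal.Quotient.Operations
import Mathlib.RingTheory.Nakayama
import Mathlib.RingTheory.Jacobson.Ideal
import Mathlib.LinearAlgebra.FiniteDimensional.Lemmas

set_option autoImplicit false
universe u
open CAlg

namespace Groth.Agent.S19436

/-- For a Noetherian local commutative algebra R over a field k, with maximal ideal M, and an ideal I of
R whose quotient R/I is finite-dimensional over k of dimension n, the power M^n lies in I. -/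
theorem result (k : Type u) [Field k] (R : Type u) [CommRing R]
    [Algebra k R] [IsNoetherianRing R] [IsLocalRing R] (I : Ideal R) [Module.Finite k (R ⧸ I)] (n : ℕ)
    (hn : Module.finrank k (R ⧸ I) = n) : IsLocalRing.maximalIdeal R ^ n ≤ I := by
  let m := IsLocalRing.maximalIdeal R
  let S : ℕ → Submodule k (R ⧸ I) := fun i => ((m ^ i).map (Ideal.Quotient.mk I)).restrictScalars k
  have hanti : ∀ i, S (i + 1) ≤ S i := fun i => Ideal.map_mono (Ideal.pow_le_pow_right (Nat.le_succ i))
  have hdrop : ∀ i, ¬ m ^ i ≤ I → S (i + 1) < S i := fun i hi => by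
    refine lt_of_le_of_ne (hanti i) fun he => hi ?_
    have he' : (m ^ i).map (Ideal.Quotient.mk I) = (m ^ (i + 1)).map (Ideal.Quotient.mk I) :=
      (Submodule.restrictScalars_injective k _ _ he).symm
    have h1 : m ^ i ≤ I ⊔ m • (m ^ i) := by
      have h2 := Ideal.comap_mono (f := Ideal.Quotient.mk I) he'.le
      rw [Ideal.comap_map_of_surjective _ Ideal.Quotient.mk_surjective, Ideal.comap_map_of_surjective _ Ideal.Quotient.mk_surjective,
        ← RingHom.ker_eq_comap_bot, Ideal.mk_ker] at h2
      refine le_trans (le_sup_left.trans h2) ?_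
      rw [smul_eq_mul, ← pow_succ']
      exact sup_comm _ _ |>.le
    exact Submodule.le_of_le_smul_of_le_jacobson_bot (IsNoetherian.noetherian _) (IsLocalRing.jacobson_eq_maximalIdeal ⊥ bot_ne_top).ge h1
  by_contra hn'
  have hlt : ∀ i ≤ n, ¬ m ^ i ≤ I := fun i hi h => hn' ((Ideal.pow_le_pow_right hi).trans h)
  have hb : ∀ i ≤ n + 1, Module.finrank k (S i) + i ≤ n := by
    intro i
    induction i with
    | zero => intro _; rw [← hn]; simpa using Submodule.finrank_le (S 0)
    | succ i ih =>
      intro hi
      have := Submodule.finrank_lt_finrank_of_lt (hdrop i (hlt i (by omega)))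
      have := ih (by omega)
      omega
  have := hb (n + 1) le_rfl
  omega

end Groth.Agent.S19436
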