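import Groth.Statements.S19437
import Mathlib.RingTheory.MvPowerSeries.Inverse
import Mathlib.RingTheory.IntegralClosure.IsIntegralClosure.Basic
import Mathlib.Algebra.Polynomial.Div
import Mathlib.LinearAlgebra.Dimension.StrongRankCondition
import Mathlib.Tactic.LinearCombination

set_option autoImplicit false
universe u
open CAlg

namespace Groth.Agent.S19437

open MvPowerSeries

section

variable {k : Type u} [Field k]

local notation "P" => MvPowerSeries (Fin 2) k
local notation "x" => (MvPowerSeries.X 0 : MvPowerSeries (Fin 2) k)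
local notation "y" => (MvPowerSeries.X 1 : MvPowerSeries (Fin 2) k)

/-- The part of degree below the staircase `a`, `b`. -/
noncomputable def S (a b : ℕ) (c d : ℕ → k) : P :=
  ∑ i ∈ Finset.range a, C (c i) * x ^ i + ∑ j ∈ Finset.range (b - 1), C (d j) * y ^ (j + 1)

lemma exists_pow_mem (J : Ideal P) [Module.Finite k (P ⧸ J)] (s : Fin 2) :
    ∃ n : ℕ, (MvPowerSeries.X s : P) ^ n ∈ J := by
  obtain ⟨p, hp, hpx⟩ := Algebra.IsIntegral.isIntegral (R := k) (Ideal.Quotient.mk J (MvPowerSeries.X s : P))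
  obtain ⟨q, hq, hq0⟩ := Polynomial.exists_eq_pow_rootMultiplicity_mul_and_not_dvd p hp.ne_zero 0
  rw [map_zero, sub_zero] at hq hq0
  refine ⟨p.rootMultiplicity 0, ?_⟩
  have h1 : Polynomial.aeval (MvPowerSeries.X s : P) p ∈ J := by
    rw [← Ideal.Quotient.eq_zero_iff_mem, ← Ideal.Quotient.mkₐ_eq_mk k, ← Polynomial.aeval_algHom_apply]
    exact hpx
  rw [hq, map_mul, map_pow, Polynomial.aeval_X] at h1
  have hu : IsUnit (Polynomial.aeval (MvPowerSeries.X s : P) q) := by
    rw [MvPowerSeries.isUnit_iff_constantCoeff, Polynomial.aeval_def, Polynomial.hom_eval₂, constantCoeff_X,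
      Polynomial.eval₂_at_zero, isUnit_iff_ne_zero]
    intro h
    refine hq0 (Polynomial.X_dvd_iff.2 ?_)
    simpa [MvPowerSeries.algebraMap_apply] using h
  obtain ⟨v, hv⟩ := hu
  rw [← hv] at h1
  simpa using J.mul_mem_right (↑v⁻¹ : P) h1

lemma exists_staircase (J : Ideal P) (hJ : J ≠ ⊤) [Module.Finite k (P ⧸ J)] (s : Fin 2) :
    ∃ a : ℕ, 1 ≤ a ∧ (MvPowerSeries.X s : P) ^ a ∈ J ∧ ∀ i < a, (MvPowerSeries.X s : P) ^ i ∉ J := by
  classical
  have h := exists_pow_mem J s
  refine ⟨Nat.find h, Nat.one_le_iff_ne_zero.2 fun h0 => ?_, Nat.find_spec h, fun i hi => Nat.find_min h hi⟩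
  have h1 := Nat.find_spec h
  rw [h0, pow_zero] at h1
  exact hJ ((Ideal.eq_top_iff_one J).2 h1)

/-- Reduction modulo the staircase. -/
lemma sub_S_mem (f : P) {a b : ℕ} :
    ∃ c d, f - S a b c d ∈ Ideal.span ({x * y, x ^ a, y ^ b} : Set P) := by
  classical
  let c : ℕ → k := fun i => coeff (Finsupp.single 0 i) f
  let d : ℕ → k := fun j => coeff (Finsupp.single 1 (j + 1)) f
  refine ⟨c, d, ?_⟩
  let g := f - S a b c d
  have hg : ∀ m : Fin 2 →₀ ℕ, (m 1 = 0 ∧ m 0 < a) ∨ (m 0 = 0 ∧ m 1 ≠ 0 ∧ m 1 < b) → coeff m g = 0 := by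
    intro m hm
    have ext2 : ∀ n : Fin 2 →₀ ℕ, m 0 = n 0 → m 1 = n 1 → m = n := fun n h0 h1 =>
      Finsupp.ext (Fin.forall_fin_two.2 ⟨h0, h1⟩)
    simp only [g, S, map_sub, map_add, map_sum, coeff_C_mul, coeff_X_pow, mul_ite, mul_one, mul_zero]
    rcases hm with ⟨h1, h0⟩ | ⟨h0, h1, h1'⟩
    · obtain ⟨n, rfl⟩ : ∃ n, m = Finsupp.single 0 n := ⟨m 0, ext2 _ (by simp) (by simp [h1])⟩
      simp only [Finsupp.single_eq_same] at h0
      rw [Finset.sum_eq_single n, if_pos rfl, Finset.sum_eq_zero, add_zero, sub_self]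
      · intro j _
        rw [if_neg]
        intro e
        have := DFunLike.congr_fun e 1
        simp at this
      · intro j _ hj
        rw [if_neg]
        intro e
        have := DFunLike.congr_fun e 0
        simp at this
        exact hj this.symm
      · intro h
        exact absurd (Finset.mem_range.2 h0) h
    · obtain ⟨n, rfl⟩ : ∃ n, m = Finsupp.single 1 n := ⟨m 1, ext2 _ (by simp [h0]) (by simp)⟩
      simp only [Finsupp.single_eq_same] at h1 h1'
      obtain ⟨j, rfl⟩ : ∃ j, n = j + 1 := ⟨n - 1, by omega⟩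
      rw [Finset.sum_eq_zero, Finset.sum_eq_single j, if_pos rfl, zero_add, sub_self]
      · intro i _ hi
        rw [if_neg]
        intro e
        have := DFunLike.congr_fun e 1
        simp at this
        exact hi this.symm
      · intro h
        exact absurd (Finset.mem_range.2 (by omega)) h
      · intro i _
        rw [if_neg]
        intro e
        have := DFunLike.congr_fun e 1
        simp at this
  let g₁ : P := fun m => if m 1 = 0 then coeff m g else 0
  let g₂ : P := fun m => if m 1 ≠ 0 ∧ m 0 = 0 then coeff m g else 0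
  let g₃ : P := fun m => if m 1 ≠ 0 ∧ m 0 ≠ 0 then coeff m g else 0
  have hsum : g = g₁ + g₂ + g₃ := by
    ext m
    simp only [map_add]
    show coeff m g = g₁ m + g₂ m + g₃ m
    by_cases h1 : m 1 = 0 <;> by_cases h0 : m 0 = 0 <;> simp [g₁, g₂, g₃, h1, h0]
  have e1 : x ^ a ∣ g₁ := X_pow_dvd_iff.2 fun m hm => by
    show g₁ m = 0
    by_cases h : m 1 = 0 <;> simp [g₁, h, hg m]
    exact hg m (Or.inl ⟨h, hm⟩)
  have e2 : y ^ b ∣ g₂ := X_pow_dvd_iff.2 fun m hm => by
    show g₂ m = 0
    by_cases h : m 1 ≠ 0 ∧ m 0 = 0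
    · simp only [g₂, if_pos h]
      exact hg m (Or.inr ⟨h.2, h.1, hm⟩)
    · simp only [g₂, if_neg h]
  have e3 : x * y ∣ g₃ := by
    obtain ⟨h, hh⟩ : x ∣ g₃ := X_dvd_iff.2 fun m hm => by
      show g₃ m = 0
      simp [g₃, hm]
    obtain ⟨h', hh'⟩ : y ∣ h := X_dvd_iff.2 fun m hm => by
      have e := congrArg (coeff (Finsupp.single 0 1 + m)) hh
      rw [X, coeff_add_monomial_mul, one_mul] at e
      rw [← e]
      show g₃ _ = 0
      simp [g₃, hm]
    exact ⟨h', by rw [hh, hh', mul_assoc]⟩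
  show g ∈ _
  rw [hsum]
  exact Submodule.add_mem _ (Submodule.add_mem _
    (Ideal.mem_of_dvd _ e1 (Ideal.subset_span (by simp))) (Ideal.mem_of_dvd _ e2 (Ideal.subset_span (by simp))))
    (Ideal.mem_of_dvd _ e3 (Ideal.subset_span (by simp)))

/-- What lies in the ideal below the staircase is concentrated at its corners. -/
lemma S_mem {J : Ideal P} (hJ : J ≠ ⊤) (hxy : x * y ∈ J) {a b : ℕ} (ha1 : 1 ≤ a) (ha : x ^ a ∈ J)
    (ha' : ∀ i < a, x ^ i ∉ J) (hb : y ^ b ∈ J) (hb' : ∀ i < b, y ^ i ∉ J) {c d : ℕ → k}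
    (h : S a b c d ∈ J) :
    c 0 = 0 ∧ (∀ i, i + 1 < a → c i = 0) ∧ (∀ j, j + 2 < b → d j = 0) := by
  classical
  have hc0 : c 0 = 0 := by
    by_contra hne
    refine hJ (Ideal.eq_top_of_isUnit_mem _ h ?_)
    rw [isUnit_iff_constantCoeff, isUnit_iff_ne_zero]
    have : constantCoeff (S a b c d) = c 0 := by
      rw [S, map_add, map_sum, map_sum, Finset.sum_eq_single 0, Finset.sum_eq_zero, add_zero]
      · simp
      · intro j _; simp
      · intro i _ hi; simp [hi]
      · intro h0; exact absurd (Finset.mem_range.2 (show 0 < a by omega)) h0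
    rw [this]
    exact hne
  have hinv : ∀ {r : k} {p : P}, C r * p ∈ J → p ∉ J → r = 0 := fun {r p} h1 h2 => by
    by_contra hne
    apply h2
    have := J.mul_mem_left (C r⁻¹) h1
    rwa [← mul_assoc, ← map_mul, inv_mul_cancel₀ hne, map_one, one_mul] at this
  refine ⟨hc0, ?_, ?_⟩
  · intro i
    induction i using Nat.strong_induction_on with
    | _ i ih =>
      intro hi
      refine hinv (p := x ^ (a - 1)) ?_ (ha' _ (by omega))
      have h1 := J.mul_mem_left (x ^ (a - 1 - i)) h
      rw [S, mul_add, Finset.mul_sum, Finset.mul_sum] at h1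
      have h2 : ∑ j ∈ Finset.range (b - 1), x ^ (a - 1 - i) * (C (d j) * y ^ (j + 1)) ∈ J := J.sum_mem fun j _ => by
        rw [show a - 1 - i = (a - 2 - i) + 1 by omega, pow_succ, pow_succ,
          show x ^ (a - 2 - i) * x * (C (d j) * (y ^ j * y)) = (x ^ (a - 2 - i) * C (d j) * y ^ j) * (x * y) by ring]
        exact J.mul_mem_left _ hxy
      have h3 := (J.add_mem_iff_left h2).1 h1
      rw [← Finset.add_sum_erase _ _ (Finset.mem_range.2 (show i < a by omega))] at h3
      have h4 : ∑ l ∈ (Finset.range a).erase i, x ^ (a - 1 - i) * (C (c l) * x ^ l) ∈ J := J.sum_mem fun l hl => by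
        obtain ⟨hli, -⟩ := Finset.mem_erase.1 hl
        rcases Nat.lt_or_ge l i with hlt | hge
        · rw [ih l hlt (by omega), map_zero, zero_mul, mul_zero]
          exact J.zero_mem
        · rw [mul_left_comm, ← pow_add, show a - 1 - i + l = a + (l - i - 1) by omega, pow_add]
          exact J.mul_mem_left _ (J.mul_mem_right _ ha)
      have h5 := (J.add_mem_iff_left h4).1 h3
      rwa [mul_left_comm, ← pow_add, show a - 1 - i + i = a - 1 by omega] at h5
  · intro i
    induction i using Nat.strong_induction_on with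
    | _ i ih =>
      intro hi
      refine hinv (p := y ^ (b - 1)) ?_ (hb' _ (by omega))
      have h1 := J.mul_mem_left (y ^ (b - 2 - i)) h
      rw [S, mul_add, Finset.mul_sum, Finset.mul_sum] at h1
      have h2 : ∑ l ∈ Finset.range a, y ^ (b - 2 - i) * (C (c l) * x ^ l) ∈ J := J.sum_mem fun l _ => by
        rcases l with _ | l
        · rw [hc0, map_zero, zero_mul, mul_zero]
          exact J.zero_mem
        · rw [show b - 2 - i = (b - 3 - i) + 1 by omega, pow_succ, pow_succ,
            show y ^ (b - 3 - i) * y * (C (c (l + 1)) * (x ^ l * x)) =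
              (y ^ (b - 3 - i) * C (c (l + 1)) * x ^ l) * (x * y) by ring]
          exact J.mul_mem_left _ hxy
      have h3 := (J.add_mem_iff_right h2).1 h1
      rw [← Finset.add_sum_erase _ _ (Finset.mem_range.2 (show i < b - 1 by omega))] at h3
      have h4 : ∑ l ∈ (Finset.range (b - 1)).erase i, y ^ (b - 2 - i) * (C (d l) * y ^ (l + 1)) ∈ J :=
        J.sum_mem fun l hl => by
        obtain ⟨hli, -⟩ := Finset.mem_erase.1 hl
        rcases Nat.lt_or_ge l i with hlt | hge
        · rw [ih l hlt (by omega), map_zero, zero_mul, mul_zero]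
          exact J.zero_mem
        · rw [mul_left_comm, ← pow_add, show b - 2 - i + (l + 1) = b + (l - i - 1) by omega, pow_add]
          exact J.mul_mem_left _ (J.mul_mem_right _ hb)
      have h5 := (J.add_mem_iff_left h4).1 h3
      rwa [mul_left_comm, ← pow_add, show b - 2 - i + (i + 1) = b - 1 by omega] at h5

end

/-- Ideals of colength n of the complete local ring of a node. Let k be a field and J an ideal of the
power series ring k[[x,y]] in two variables x, y which contains xy and whose quotient is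
finite-dimensional over k of dimension n ≥ 2. Then there are integers a, b ≥ 1 such that either a +
b = n + 1 and J is generated by xy, x^a, y^b, or a + b = n and J is generated by xy and x^a + α y^b
for some nonzero scalar α. -/
theorem result (k : Type u) [Field k]
    (J : Ideal (MvPowerSeries (Fin 2) k))
    (hxy : (MvPowerSeries.X 0 * MvPowerSeries.X 1 : MvPowerSeries (Fin 2) k) ∈ J)
    [Module.Finite k (MvPowerSeries (Fin 2) k ⧸ J)] (n : ℕ) (hn : Module.finrank k (MvPowerSeries (Fin 2) k ⧸ J) = n)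
    (h2 : 2 ≤ n) :
    ∃ a b : ℕ, 1 ≤ a ∧ 1 ≤ b ∧
      ((a + b = n + 1 ∧
        J = Ideal.span {MvPowerSeries.X 0 * MvPowerSeries.X 1, MvPowerSeries.X 0 ^ a, MvPowerSeries.X 1 ^ b}) ∨
       (a + b = n ∧ ∃ α : k, α ≠ 0 ∧
        J = Ideal.span {MvPowerSeries.X 0 * MvPowerSeries.X 1,
          MvPowerSeries.X 0 ^ a + MvPowerSeries.C α * MvPowerSeries.X 1 ^ b})) := by
  classical
  let x : MvPowerSeries (Fin 2) k := MvPowerSeries.X 0
  let y : MvPowerSeries (Fin 2) k := MvPowerSeries.X 1
  have hJ : J ≠ ⊤ := by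
    rintro rfl
    haveI := (Ideal.Quotient.subsingleton_iff (I := (⊤ : Ideal (MvPowerSeries (Fin 2) k)))).2 rfl
    rw [Module.finrank_zero_of_subsingleton] at hn
    omega
  obtain ⟨a, ha1, ha, ha'⟩ := exists_staircase J hJ 0
  obtain ⟨b, hb1, hb, hb'⟩ := exists_staircase J hJ 1
  let q := Ideal.Quotient.mk J
  have hsmul : ∀ (r : k) (p : MvPowerSeries (Fin 2) k), q (MvPowerSeries.C r * p) = r • q p := fun r p => by
    refine (map_mul q _ _).trans (Eq.trans ?_ (Algebra.smul_def r (q p)).symm)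
    rfl
  have hle : Ideal.span ({x * y, x ^ a, y ^ b} : Set (MvPowerSeries (Fin 2) k)) ≤ J :=
    Ideal.span_le.2 (Set.insert_subset_iff.2 ⟨hxy, Set.insert_subset_iff.2 ⟨ha, Set.singleton_subset_iff.2 hb⟩⟩)
  let v : ∀ w : ℕ, Fin a ⊕ Fin w → MvPowerSeries (Fin 2) k ⧸ J := fun w =>
    Sum.elim (fun i => q (x ^ (i : ℕ))) (fun j => q (y ^ ((j : ℕ) + 1)))
  have hind : ∀ w : ℕ, w ≤ b - 1 → (∀ c d : ℕ → k, S a b c d ∈ J → (∀ j, w ≤ j → d j = 0) →
      (∀ i < a, c i = 0) ∧ ∀ j < w, d j = 0) → LinearIndependent k (v w) := by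
    intro w hw hz
    rw [Fintype.linearIndependent_iff]
    intro r hr
    let c : ℕ → k := fun i => if hi : i < a then r (Sum.inl ⟨i, hi⟩) else 0
    let d : ℕ → k := fun j => if hj : j < w then r (Sum.inr ⟨j, hj⟩) else 0
    have hS : S a b c d ∈ J := by
      rw [← Ideal.Quotient.eq_zero_iff_mem]
      show q _ = 0
      rw [← hr, S, map_add, map_sum, map_sum, Fintype.sum_sum_type]
      congr 1
      · rw [← Fin.sum_univ_eq_sum_range (fun i => q (MvPowerSeries.C (c i) * x ^ i)) a]
        refine Finset.sum_congr rfl fun i _ => ?_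
        rw [hsmul]
        simp [c, v, i.2]
      · rw [← Finset.sum_subset (Finset.range_subset_range.2 hw) (fun j _ hj => by
          simp [d, Finset.mem_range.not.1 hj]),
          ← Fin.sum_univ_eq_sum_range (fun j => q (MvPowerSeries.C (d j) * y ^ (j + 1))) w]
        refine Finset.sum_congr rfl fun i _ => ?_
        rw [hsmul]
        simp [d, v, i.2]
    obtain ⟨h1, h2⟩ := hz c d hS fun j hj => dif_neg (not_lt.2 hj)
    rintro (i | j)
    · simpa [c, i.2] using h1 i i.2
    · simpa [d, j.2] using h2 j j.2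
  have hspan : ∀ w : ℕ, (∀ j < b - 1, q (y ^ (j + 1)) ∈ Submodule.span k (Set.range (v w))) →
      ⊤ ≤ Submodule.span k (Set.range (v w)) := by
    intro w hy z _
    obtain ⟨f, rfl⟩ := Ideal.Quotient.mk_surjective z
    obtain ⟨c, d, hcd⟩ := sub_S_mem f (a := a) (b := b)
    rw [show Ideal.Quotient.mk J f = q (S a b c d) from Ideal.Quotient.eq.2 (hle hcd), S, map_add, map_sum, map_sum]
    refine Submodule.add_mem _ (Submodule.sum_mem _ fun i hi => ?_) (Submodule.sum_mem _ fun j hj => ?_)
    · rw [hsmul]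
      exact Submodule.smul_mem _ _ (Submodule.subset_span ⟨Sum.inl ⟨i, Finset.mem_range.1 hi⟩, rfl⟩)
    · rw [hsmul]
      exact Submodule.smul_mem _ _ (hy j (Finset.mem_range.1 hj))
  have hcard : ∀ w, LinearIndependent k (v w) → ⊤ ≤ Submodule.span k (Set.range (v w)) → n = a + w :=
    fun w h1 h2 => by
      rw [← hn, Module.finrank_eq_card_basis (Module.Basis.mk h1 h2), Fintype.card_sum, Fintype.card_fin,
        Fintype.card_fin]
  have hcorner : ∀ c d : ℕ → k, S a b c d ∈ J →
      (MvPowerSeries.C (c (a - 1)) * x ^ (a - 1) + MvPowerSeries.C (if 2 ≤ b then d (b - 2) else 0) * y ^ (b - 1) ∈ J ∧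
        (a = 1 → c (a - 1) = 0)) ∧
      S a b c d = MvPowerSeries.C (c (a - 1)) * x ^ (a - 1) +
        MvPowerSeries.C (if 2 ≤ b then d (b - 2) else 0) * y ^ (b - 1) := by
    intro c d h
    obtain ⟨h0, h1, h2⟩ := S_mem hJ hxy ha1 ha ha' hb hb' h
    have he : S a b c d = MvPowerSeries.C (c (a - 1)) * x ^ (a - 1) +
        MvPowerSeries.C (if 2 ≤ b then d (b - 2) else 0) * y ^ (b - 1) := by
      rw [S, Finset.sum_eq_single (a - 1) (fun i hi hne => ?_) (fun hh => ?_)]
      · congr 1
        by_cases hb2 : 2 ≤ b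
        · rw [if_pos hb2, Finset.sum_eq_single (b - 2) (fun j hj hne => ?_) (fun hh => ?_),
            show b - 2 + 1 = b - 1 by omega]
          · rw [h2 j (by have := Finset.mem_range.1 hj; omega), map_zero, zero_mul]
          · exact absurd (Finset.mem_range.2 (show b - 2 < b - 1 by omega)) hh
        · rw [if_neg hb2, map_zero, zero_mul, show b - 1 = 0 by omega, Finset.sum_range_zero]
      · rw [h1 i (by have := Finset.mem_range.1 hi; omega), map_zero, zero_mul]
      · exact absurd (Finset.mem_range.2 (show a - 1 < a by omega)) hh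
    exact ⟨⟨he ▸ h, fun e => by rw [e]; exact h0⟩, he⟩
  have hcan : ∀ (r : k) (p : MvPowerSeries (Fin 2) k), MvPowerSeries.C r * p ∈ J → p ∉ J → r = 0 := fun r p h1 h2 => by
    by_contra hne
    apply h2
    have := J.mul_mem_left (MvPowerSeries.C r⁻¹) h1
    rwa [← mul_assoc, ← map_mul, inv_mul_cancel₀ hne, map_one, one_mul] at this
  by_cases hE : ∃ α : k, α ≠ 0 ∧ 2 ≤ a ∧ 2 ≤ b ∧ x ^ (a - 1) + MvPowerSeries.C α * y ^ (b - 1) ∈ J
  · obtain ⟨α, hα, ha2, hb2, hg⟩ := hE
    let g := x ^ (a - 1) + MvPowerSeries.C α * y ^ (b - 1)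
    refine ⟨a - 1, b - 1, by omega, by omega, Or.inr ⟨?_, α, hα, ?_⟩⟩
    · have hy : ∀ j < b - 1, q (y ^ (j + 1)) ∈ Submodule.span k (Set.range (v (b - 2))) := fun j hj => by
        by_cases h : j < b - 2
        · exact Submodule.subset_span ⟨Sum.inr ⟨j, h⟩, rfl⟩
        · have e1 : q (y ^ (j + 1)) = (-α⁻¹) • q (x ^ (a - 1)) := by
            rw [show j + 1 = b - 1 by omega, ← hsmul]
            refine Ideal.Quotient.eq.2 ?_
            have h3 := J.mul_mem_left (MvPowerSeries.C α⁻¹) hg
            rwa [mul_add, ← mul_assoc, ← map_mul, inv_mul_cancel₀ hα, map_one, one_mul, add_comm,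
              ← sub_neg_eq_add, ← neg_mul, ← map_neg] at h3
          rw [e1]
          exact Submodule.smul_mem _ _ (Submodule.subset_span ⟨Sum.inl ⟨a - 1, by omega⟩, rfl⟩)
      have := hcard (b - 2) (hind _ (by omega) fun c d hS hd => ?_) (hspan _ hy)
      · omega
      obtain ⟨h0, h1, h2⟩ := S_mem hJ hxy ha1 ha ha' hb hb' hS
      obtain ⟨⟨h3, -⟩, -⟩ := hcorner c d hS
      rw [if_pos hb2, hd (b - 2) le_rfl, map_zero, zero_mul, add_zero] at h3
      have hc : c (a - 1) = 0 := hcan _ _ h3 (ha' _ (by omega))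
      exact ⟨fun i hi => (Nat.lt_or_ge (i + 1) a).elim (h1 i) fun h => by rwa [show i = a - 1 by omega],
        fun j hj => h2 j (by omega)⟩
    · refine le_antisymm (fun f hf => ?_) (Ideal.span_le.2 (Set.insert_subset_iff.2
        ⟨hxy, Set.singleton_subset_iff.2 hg⟩))
      let I := Ideal.span ({x * y, g} : Set (MvPowerSeries (Fin 2) k))
      change f ∈ I
      have hxyI : x * y ∈ I := Ideal.subset_span (Set.mem_insert _ _)
      have hgI : g ∈ I := Ideal.subset_span (Set.mem_insert_of_mem _ rfl)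
      have hxI : x ^ a ∈ I := by
        have : x ^ a = x * g - MvPowerSeries.C α * y ^ (b - 2) * (x * y) := by
          simp only [g]
          rw [show y ^ (b - 1) = y ^ (b - 2) * y by rw [← pow_succ]; congr 1; omega,
            show x ^ a = x * x ^ (a - 1) by rw [← pow_succ']; congr 1; omega]
          ring
        rw [this]
        exact I.sub_mem (I.mul_mem_left _ hgI) (I.mul_mem_left _ hxyI)
      have hyI : y ^ b ∈ I := by
        have : y ^ b = MvPowerSeries.C α⁻¹ * (y * g - x ^ (a - 2) * (x * y)) := by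
          simp only [g]
          rw [show x ^ (a - 1) = x ^ (a - 2) * x by rw [← pow_succ]; congr 1; omega,
            show y ^ b = y * y ^ (b - 1) by rw [← pow_succ']; congr 1; omega]
          have : (MvPowerSeries.C α⁻¹ * MvPowerSeries.C α : MvPowerSeries (Fin 2) k) = 1 := by
            rw [← map_mul, inv_mul_cancel₀ hα, map_one]
          linear_combination (-(y * y ^ (b - 1))) * this
        rw [this]
        exact I.mul_mem_left _ (I.sub_mem (I.mul_mem_left _ hgI) (I.mul_mem_left _ hxyI))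
      have hleI : Ideal.span ({x * y, x ^ a, y ^ b} : Set (MvPowerSeries (Fin 2) k)) ≤ I :=
        Ideal.span_le.2 (Set.insert_subset_iff.2 ⟨hxyI, Set.insert_subset_iff.2 ⟨hxI, Set.singleton_subset_iff.2 hyI⟩⟩)
      obtain ⟨c, d, hcd⟩ := sub_S_mem f (a := a) (b := b)
      obtain ⟨⟨h3, -⟩, he⟩ := hcorner c d (by simpa using J.sub_mem hf (hle hcd))
      rw [if_pos hb2] at h3 he
      have h5 : MvPowerSeries.C (d (b - 2) - c (a - 1) * α) * y ^ (b - 1) ∈ J := by
        have := J.sub_mem h3 (J.mul_mem_left (MvPowerSeries.C (c (a - 1))) hg)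
        rw [map_sub, map_mul]
        convert this using 1
        ring
      have h6 := sub_eq_zero.1 (hcan _ _ h5 (hb' _ (by omega)))
      have h7 : S a b c d = MvPowerSeries.C (c (a - 1)) * g := by
        rw [he, h6, map_mul]
        simp only [g]
        ring
      have h8 := I.add_mem (hleI hcd) (h7 ▸ I.mul_mem_left _ hgI : S a b c d ∈ I)
      simpa using h8
  · have hzero : ∀ c d : ℕ → k, S a b c d ∈ J →
        c (a - 1) = 0 ∧ (2 ≤ b → d (b - 2) = 0) := fun c d h => by
      obtain ⟨⟨h3, h4⟩, -⟩ := hcorner c d h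
      by_cases hb2 : 2 ≤ b
      · rw [if_pos hb2] at h3
        by_cases hc : c (a - 1) = 0
        · rw [hc, map_zero, zero_mul, zero_add] at h3
          exact ⟨hc, fun _ => hcan _ _ h3 (hb' _ (by omega))⟩
        · exfalso
          have ha2 : 2 ≤ a := by
            by_contra h9
            exact hc (h4 (by omega))
          by_cases hd : d (b - 2) = 0
          · rw [hd, map_zero, zero_mul, add_zero] at h3
            exact hc (hcan _ _ h3 (ha' _ (by omega)))
          · refine hE ⟨d (b - 2) / c (a - 1), div_ne_zero hd hc, ha2, hb2, ?_⟩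
            have := J.mul_mem_left (MvPowerSeries.C (c (a - 1))⁻¹) h3
            rwa [mul_add, ← mul_assoc, ← mul_assoc, ← map_mul, ← map_mul, inv_mul_cancel₀ hc, map_one, one_mul,
              ← div_eq_inv_mul] at this
      · rw [if_neg hb2, map_zero, zero_mul, add_zero] at h3
        exact ⟨hcan _ _ h3 (ha' _ (by omega)), fun h9 => absurd h9 hb2⟩
    refine ⟨a, b, ha1, hb1, Or.inl ⟨?_, ?_⟩⟩
    · have := hcard (b - 1) (hind _ le_rfl fun c d hS _ => ?_)
        (hspan _ fun j hj => Submodule.subset_span ⟨Sum.inr ⟨j, hj⟩, rfl⟩)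
      · omega
      obtain ⟨h0, h1, h2⟩ := S_mem hJ hxy ha1 ha ha' hb hb' hS
      obtain ⟨h3, h4⟩ := hzero c d hS
      exact ⟨fun i hi => (Nat.lt_or_ge (i + 1) a).elim (h1 i) fun h => by rwa [show i = a - 1 by omega],
        fun j hj => (Nat.lt_or_ge (j + 2) b).elim (h2 j) fun h => by
          rw [show j = b - 2 by omega]
          exact h4 (by omega)⟩
    · refine le_antisymm (fun f hf => ?_) hle
      obtain ⟨c, d, hcd⟩ := sub_S_mem f (a := a) (b := b)
      have hS : S a b c d ∈ J := by simpa using J.sub_mem hf (hle hcd)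
      obtain ⟨h3, h4⟩ := hzero c d hS
      obtain ⟨-, he⟩ := hcorner c d hS
      have h5 : S a b c d = 0 := by
        rw [he, h3, map_zero, zero_mul, zero_add]
        by_cases hb2 : 2 ≤ b
        · rw [if_pos hb2, h4 hb2, map_zero, zero_mul]
        · rw [if_neg hb2, map_zero, zero_mul]
      rw [h5, sub_zero] at hcd
      exact hcd

end Groth.Agent.S19437
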