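import Groth.Statements.S19438
import Mathlib.RingTheory.Nakayama
import Mathlib.RingTheory.RegularLocalRing.Defs
import Mathlib.RingTheory.Adjoin.Polynomial
import Mathlib.RingTheory.LocalRing.ResidueField.Basic
import Mathlib.Tactic.Ring
import Mathlib.Tactic.NormNum
import Mathlib.Algebra.Polynomial.Div

set_option autoImplicit false
universe u
open CAlg

namespace Groth.Agent.S19438

/-- First assertion: let A be a Noetherian local commutative algebra over a field k with maximal ideal
M, residue field k (the map from k to A/M is onto) and embedding dimension dim M/M^2 at least 2, and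
let I be a proper ideal with A/I finite-dimensional over k. If A/I is generated as a k-algebra by
one element, then some element of I does not lie in M^2; that is, the finite closed subscheme
defined by I lies on a smooth hypersurface germ (it is curvilinear). (The published statement is for
the local ring of a smooth surface at a closed point; only a Noetherian local algebra with residue
field k and embedding dimension at least 2 is assumed here, which is what the published argument
uses.) -/
theorem result (k : Type u) [Field k]
    (A : Type u) [CommRing A] [Algebra k A] [IsNoetherianRing A] [IsLocalRing A]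
    (hres : Function.Surjective (algebraMap k (IsLocalRing.ResidueField A)))
    (hemb : 2 ≤ Module.finrank (IsLocalRing.ResidueField A) (IsLocalRing.CotangentSpace A))
    (I : Ideal A) (hI : I ≠ ⊤) [Module.Finite k (A ⧸ I)]
    (f : A ⧸ I) (hf : Algebra.adjoin k {f} = ⊤) :
    ∃ g ∈ I, g ∉ IsLocalRing.maximalIdeal A ^ 2 := by
  classical
  by_contra hcon
  push Not at hcon
  let m := IsLocalRing.maximalIdeal A
  have hI2 : I ≤ m ^ 2 := hcon
  obtain ⟨F, rfl⟩ := Ideal.Quotient.mk_surjective f
  have hc : ∀ r : A, ∃ c : k, r - algebraMap k A c ∈ m := fun r => by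
    obtain ⟨c, hc⟩ := hres (IsLocalRing.residue A r)
    refine ⟨c, (IsLocalRing.residue_eq_zero_iff _).mp ?_⟩
    rw [map_sub, ← hc, IsScalarTower.algebraMap_apply k A (IsLocalRing.ResidueField A)]
    exact sub_self _
  obtain ⟨c, hc'⟩ := hc F
  let y := F - algebraMap k A c
  have hgen : m ≤ Ideal.span {y} := by
    refine Submodule.le_of_le_smul_of_le_jacobson_bot (IsNoetherian.noetherian m)
      (IsLocalRing.maximalIdeal_le_jacobson _) fun z hz => ?_
    have hmem : Ideal.Quotient.mk I z ∈ Algebra.adjoin k ({Ideal.Quotient.mk I F} : Set (A ⧸ I)) :=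
      hf.symm ▸ Algebra.mem_top
    rw [Algebra.adjoin_singleton_eq_range_aeval] at hmem
    obtain ⟨P, hP⟩ := hmem
    let Q := P.comp (Polynomial.X + Polynomial.C c)
    have hQ : Polynomial.aeval y Q = Polynomial.aeval F P := by
      simp [Q, y, Polynomial.aeval_comp]
    have h1 : z - Polynomial.aeval F P ∈ m ^ 2 := hI2 (by
      rw [← Ideal.Quotient.eq, ← hP]
      exact Polynomial.aeval_algHom_apply (Ideal.Quotient.mkₐ k I) F P)
    have h2 : Polynomial.aeval y Q - algebraMap k A (Q.coeff 0) ∈ Ideal.span {y} := by
      rw [congrArg (Polynomial.aeval y) (Polynomial.divX_mul_X_add Q).symm]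
      simp only [map_add, map_mul, Polynomial.aeval_X, Polynomial.aeval_C, add_sub_cancel_right]
      exact Ideal.mem_span_singleton'.mpr ⟨_, rfl⟩
    have h3 : Q.coeff 0 = 0 := by
      by_contra h0
      have hu : IsUnit (algebraMap k A (Q.coeff 0)) := (IsUnit.mk0 _ h0).map _
      have : algebraMap k A (Q.coeff 0) ∈ m := by
        have hy : Ideal.span {y} ≤ m := (Ideal.span_singleton_le_iff_mem _).mpr hc'
        have h4 := sub_mem hz (Ideal.pow_le_self (n := 2) (by norm_num) h1)
        rw [sub_sub_cancel, ← hQ] at h4
        have h5 := sub_mem h4 (hy h2)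
        rwa [sub_sub_cancel] at h5
      exact this hu
    rw [h3, map_zero, sub_zero, hQ] at h2
    refine Submodule.mem_sup.mpr ⟨_, h2, z - Polynomial.aeval F P, ?_, by ring⟩
    rw [smul_eq_mul, ← pow_two]
    exact h1
  have h6 : m.spanFinrank ≤ 1 := by
    have heq : m = Ideal.span {y} := le_antisymm hgen ((Ideal.span_singleton_le_iff_mem _).mpr hc')
    rw [heq]
    exact (Submodule.spanFinrank_span_le_ncard_of_finite (Set.finite_singleton _)).trans (by simp)
  rw [← IsLocalRing.spanFinrank_maximalIdeal_eq_finrank_cotangentSpace] at hemb
  have h7 : (IsLocalRing.maximalIdeal A).spanFinrank ≤ 1 := h6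
  omega

end Groth.Agent.S19438
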