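import Groth.Statements.S19439
import Mathlib.RingTheory.MvPolynomial.Basic
import Mathlib.LinearAlgebra.FiniteDimensional.Basic
import Mathlib.RingTheory.Ideal.Quotient.Operations

set_option autoImplicit false
universe u
open CAlg

namespace Groth.Agent.S19439

/-- Affine form: for all n and N there is an integer d, that depends only on n and N, such that for
every algebraically closed field k and every ideal I of the polynomial ring in N variables over k
whose quotient has finite dimension n over k, the polynomials of total degree at most d map onto the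
quotient. -/
theorem result (n N : ℕ) :
    ∃ d : ℕ, ∀ (k : Type u) [Field k] [IsAlgClosed k] (I : Ideal (MvPolynomial (Fin N) k))
      [Module.Finite k (MvPolynomial (Fin N) k ⧸ I)],
      Module.finrank k (MvPolynomial (Fin N) k ⧸ I) = n →
      Submodule.map (Ideal.Quotient.mkₐ k I).toLinearMap (MvPolynomial.restrictTotalDegree (Fin N) k d) = ⊤ := by
  classical
  refine ⟨n, fun k _ _ I _ hn => ?_⟩
  let q := (Ideal.Quotient.mkₐ k I).toLinearMap
  have hq : Function.Surjective q := Ideal.Quotient.mkₐ_surjective k I
  let W := fun d => Submodule.map q (MvPolynomial.restrictTotalDegree (Fin N) k d)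
  have hmono : ∀ d, W d ≤ W (d + 1) := fun d => Submodule.map_mono fun x hx => by
    rw [MvPolynomial.mem_restrictTotalDegree] at hx ⊢; omega
  have hstab : ∀ d, W (d + 1) ≤ W d → W d = ⊤ := by
    intro d hd
    rw [eq_top_iff]
    intro z _
    obtain ⟨f, rfl⟩ := hq z
    induction f using MvPolynomial.induction_on with
    | C c => exact ⟨MvPolynomial.C c, by rw [SetLike.mem_coe, MvPolynomial.mem_restrictTotalDegree]; simp, rfl⟩
    | add f g hf hg => rw [map_add]; exact add_mem (hf trivial) (hg trivial)
    | mul_X f i hf =>
      obtain ⟨g, hg, hgf⟩ := hf trivial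
      apply hd
      refine ⟨g * MvPolynomial.X i, ?_, ?_⟩
      · rw [SetLike.mem_coe, MvPolynomial.mem_restrictTotalDegree] at hg ⊢
        refine (MvPolynomial.totalDegree_mul _ _).trans ?_
        rw [MvPolynomial.totalDegree_X]
        omega
      · show Ideal.Quotient.mkₐ k I _ = Ideal.Quotient.mkₐ k I _
        rw [map_mul, map_mul]
        exact congrArg (· * _) hgf
  have key : ∀ d, W d = ⊤ ∨ d ≤ Module.finrank k (W d) := by
    intro d
    induction d with
    | zero => exact Or.inr (Nat.zero_le _)
    | succ d ih =>
      rcases ih with h | h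
      · exact Or.inl (eq_top_iff.mpr (h ▸ hmono d))
      by_cases hlt : W (d + 1) ≤ W d
      · exact Or.inl (eq_top_iff.mpr (hstab d hlt ▸ hmono d))
      · refine Or.inr ?_
        have := Submodule.finrank_lt_finrank_of_lt (lt_of_le_not_ge (hmono d) hlt)
        omega
  show W n = ⊤
  rcases key n with h | h
  · exact h
  · refine Submodule.eq_top_of_finrank_eq (le_antisymm (Submodule.finrank_le _) ?_)
    rw [hn]; exact h

end Groth.Agent.S19439
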