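import Groth.Statements.S19440

set_option autoImplicit false
universe u
open LinAlg

namespace Groth.Agent.S19440

/-- Let U, V be commuting n × n matrices over a field k and e a vector which is cyclic for them (the
vectors U^p V^q e span k^n). An invertible matrix T which commutes with U and V and fixes e is the
identity: the general linear group acts freely by simultaneous conjugation on commuting pairs with a
cyclic vector. -/
theorem result (k : Type u) [Field k] (n : ℕ)
    (U V : Matrix (Fin n) (Fin n) k) (hUV : U * V = V * U) (e : Fin n → k)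
    (he : Submodule.span k (Set.range fun p : ℕ × ℕ => (U ^ p.1 * V ^ p.2).mulVec e) = ⊤)
    (T : Matrix.GeneralLinearGroup (Fin n) k)
    (hTU : (T : Matrix (Fin n) (Fin n) k) * U = U * T) (hTV : (T : Matrix (Fin n) (Fin n) k) * V = V * T)
    (hTe : (T : Matrix (Fin n) (Fin n) k).mulVec e = e) : T = 1 := by
  have key : (T : Matrix (Fin n) (Fin n) k).mulVecLin = LinearMap.id := by
    apply LinearMap.ext_on he
    rintro _ ⟨⟨p, q⟩, rfl⟩
    simp only [Matrix.mulVecLin_apply, LinearMap.id_coe, id_eq, Matrix.mulVec_mulVec]
    have hc : Commute (T : Matrix (Fin n) (Fin n) k) (U ^ p * V ^ q) :=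
      (Commute.pow_right hTU _).mul_right (Commute.pow_right hTV _)
    rw [hc.eq, ← Matrix.mulVec_mulVec, hTe]
  ext1
  rw [Units.val_one]
  exact Matrix.toLin'.injective (by rw [Matrix.toLin'_one]; exact key)

end Groth.Agent.S19440
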