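import Groth.Statements.S19442
import Groth.Agent.HilbSurf.Main
import Groth.Agent.HQProj.Basic
import Groth.Agent.TMul.AmpleBasis

set_option autoImplicit false
set_option backward.isDefEq.respectTransparency false
universe u
open CategoryTheory CategoryTheory.Limits AlgebraicGeometry
open HilbD

namespace Groth.Agent.S19442

/-- Let k be an algebraically closed field and X a smooth connected quasi-projective surface over k —
the structure morphism X → Spec k is smooth and factors as a quasi-compact immersion into a
projective space over k, and X is connected of dimension 2. Let n ≥ 0 and let (H, Z) represent the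
Hilbert functor of n points of X over k: Z is a closed subscheme of X ×_k H finite locally free of
degree n over H and every such family over a k-scheme T is the pullback of Z along a unique
k-morphism T → H. Then H is connected, every local ring of H is regular, and the dimension of H is
2n. -/
theorem result (k : Type u) [Field k]
    [IsAlgClosed k] (X : Over (Spec (CommRingCat.of k))) [Smooth X.hom]
    (hqp : RelProj.IsHQuasiProjective X.hom) [ConnectedSpace X.left] (hdim : topologicalKrullDim X.left = 2)
    (n : ℕ) (H : Over (Spec (CommRingCat.of k))) (Z : HilbD.Obj X.hom n H)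
    (hH : HilbD.IsUniversal X.hom n H Z) :
    ConnectedSpace H.left ∧ (∀ h : H.left, IsRegularLocalRing (H.left.presheaf.stalk h)) ∧
      topologicalKrullDim H.left = (2 * n : ℕ) := by
  obtain ⟨N, i, hi, hqc, hiX⟩ := hqp
  haveI := hi
  haveI := hqc
  haveI := HQProj.isProper_toBase N (Spec (CommRingCat.of k))
  haveI : QuasiCompact X.hom := by rw [← hiX]; infer_instance
  haveI : IsSeparated X.hom := by rw [← hiX]; infer_instance
  haveI : CompactSpace X.left := QuasiCompact.compactSpace_of_compactSpace X.hom
  haveI : X.left.IsSeparated := by
    have e : terminal.from X.left = X.hom ≫ terminal.from _ := terminal.hom_ext _ _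
    constructor
    rw [e]
    infer_instance
  have hA : CohB1.IsAmple ((Scheme.Modules.pullback i).obj (Twist.twistOver N (Spec (CommRingCat.of k)) 1)) :=
    TMul.isAmple_pullback i i.isEmbedding.isInducing (ProjMor.isAmple_twistOver N _)
  refine HilbSurf.fogarty (fun S hS => ?_) hdim n H Z hH
  obtain ⟨m, s, hS', -, hU⟩ := TMul.exists_finite_le hA hS (U := ⊤) (fun _ _ => trivial)
  exact ⟨_, hU, hS'⟩

end Groth.Agent.S19442
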