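import Groth.Statements.S19443
import Mathlib

set_option autoImplicit false
universe u
open LinAlg

namespace Groth.Agent.S19443

/-- Algebraic form: let G be a finite group with order invertible in the field k, ρ a linear
representation of G on a k-vector space V, and ω a nondegenerate bilinear form on V invariant under
G. Then ω restricted to the fixed subspace V^G is nondegenerate (for a finite group of symplectic
automorphisms, the fixed subspace is a symplectic subspace). -/
theorem result (k : Type u) [Field k]
    (G : Type u) [Group G] [Finite G] (hG : (Nat.card G : k) ≠ 0)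
    (V : Type u) [AddCommGroup V] [Module k V] (ρ : Representation k G V)
    (ω : LinearMap.BilinForm k V) (hω : ω.Nondegenerate)
    (hinv : ∀ (g : G) (v w : V), ω (ρ g v) (ρ g w) = ω v w) :
    (ω.restrict ρ.invariants).Nondegenerate := by
  classical
  cases nonempty_fintype G
  have : Invertible (Fintype.card G : k) := invertibleOfNonzero (by rwa [← Nat.card_eq_fintype_card])
  have havg : ∀ w, ρ.averageMap w = ⅟(Fintype.card G : k) • ∑ g : G, ρ g w := fun w ↦ by
    simp [Representation.averageMap, GroupAlgebra.average, map_sum]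
  have hone : ⅟(Fintype.card G : k) * (Fintype.card G : k) = 1 := invOf_mul_self _
  have hr : ∀ v ∈ ρ.invariants, ∀ w, ω (ρ.averageMap w) v = ω w v := fun v hv w ↦ by
    have h1 : ∀ g : G, ω (ρ g w) v = ω w v := fun g ↦ by
      conv_lhs => rw [← hv g]
      exact hinv g w v
    rw [havg]; simp [map_sum, LinearMap.sum_apply, h1, Finset.card_univ, ← mul_assoc, hone]
  have hl : ∀ v ∈ ρ.invariants, ∀ w, ω v (ρ.averageMap w) = ω v w := fun v hv w ↦ by
    have h1 : ∀ g : G, ω v (ρ g w) = ω v w := fun g ↦ by
      conv_lhs => rw [← hv g]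
      exact hinv g v w
    rw [havg]; simp [map_sum, h1, Finset.card_univ, ← mul_assoc, hone]
  refine ⟨fun x hx ↦ Subtype.ext ?_, fun x hx ↦ Subtype.ext ?_⟩
  · refine hω.1 x fun w ↦ ?_
    rw [← hl x x.2 w]
    exact hx ⟨_, ρ.averageMap_invariant w⟩
  · refine hω.2 x fun w ↦ ?_
    rw [← hr x x.2 w]
    exact hx ⟨_, ρ.averageMap_invariant w⟩

end Groth.Agent.S19443
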