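import Groth.Statements.S19445
import Groth.Agent.CotT.PointSmooth

set_option autoImplicit false
universe u
open CAlg Groth.Agent IsLocalRing

namespace Groth.Agent.S19445

/-- Local form: let k be a field and A a regular local k-algebra with maximal ideal M and residue field
k (k maps onto A/M); let a finite group G whose order is invertible in k act on A by k-algebra
automorphisms. Then A/J is a regular local ring, where J is the ideal generated by the elements g·a
− a (J defines the fixed-point subscheme, so the fixed locus of G is smooth at the point). The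
accompanying identification of its tangent space with the G-invariants of the tangent space of A is
not restated here. -/
theorem result (k : Type u) [Field k] (A : Type u) [CommRing A]
    [Algebra k A] [IsRegularLocalRing A]
    (hres : Function.Surjective (algebraMap k (IsLocalRing.ResidueField A)))
    (G : Type u) [Group G] [Finite G] [MulSemiringAction G A] [SMulCommClass G k A]
    (hG : (Nat.card G : k) ≠ 0) :
    IsRegularLocalRing (A ⧸ Ideal.span {x : A | ∃ (g : G) (a : A), x = g • a - a}) := by
  classical
  haveI := Fintype.ofFinite G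
  let I : Ideal A := Ideal.span {x : A | ∃ (g : G) (a : A), x = g • a - a}
  have hgen : ∀ (g : G) (a : A), g • a - a ∈ I := fun g a => Ideal.subset_span ⟨g, a, rfl⟩
  have hstab : ∀ (g : G) {x : A}, x ∈ I → g • x ∈ I := fun g x hx => by
    simpa using I.add_mem (hgen g x) hx
  have hfix : ∀ (g : G) (c : k), g • algebraMap k A c = algebraMap k A c := fun g c => by
    rw [Algebra.algebraMap_eq_smul_one, smul_comm, smul_one]
  have hm : ∀ (g : G) {x : A}, x ∈ maximalIdeal A → g • x ∈ maximalIdeal A := fun g x hx hu => hx (by
    simpa using (show IsUnit (MulSemiringAction.toRingHom G A g⁻¹ (g • x)) from hu.map _))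
  have hdec : ∀ a : A, ∃ c : k, a - algebraMap k A c ∈ maximalIdeal A := fun a => by
    obtain ⟨c, hc⟩ := hres (IsLocalRing.residue A a)
    refine ⟨c, Ideal.Quotient.eq.1 ?_⟩
    rw [IsScalarTower.algebraMap_apply k A (IsLocalRing.ResidueField A)] at hc
    exact hc.symm
  have hIm : I ≤ maximalIdeal A := Ideal.span_le.2 fun x ⟨g, a, hx⟩ => by
    obtain ⟨c, hc⟩ := hdec a
    rw [hx, show g • a - a = g • (a - algebraMap k A c) - (a - algebraMap k A c) by
      rw [smul_sub, hfix]; ring]
    exact Ideal.sub_mem _ (hm g hc) hc
  have hsum : ∀ x ∈ I, ∑ g : G, g • x ∈ maximalIdeal A * I := fun x hx => by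
    induction hx using Submodule.span_induction with
    | mem y hy =>
      obtain ⟨h, a, rfl⟩ := hy
      have e : ∑ g : G, g • (h • a) = ∑ g : G, g • a :=
        Fintype.sum_equiv (Equiv.mulRight h) _ _ fun g => (mul_smul g h a).symm
      simp [smul_sub, Finset.sum_sub_distrib, e]
    | zero => simp
    | add y z _ _ hy hz => simpa [smul_add, Finset.sum_add_distrib] using Ideal.add_mem _ hy hz
    | smul r y hy ih =>
      obtain ⟨c, hc⟩ := hdec r
      have : ∑ g : G, g • (r • y) = algebraMap k A c * ∑ g : G, g • y +
          ∑ g : G, g • (r - algebraMap k A c) * g • y := by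
        rw [Finset.mul_sum, ← Finset.sum_add_distrib]
        refine Finset.sum_congr rfl fun g _ => ?_
        rw [smul_eq_mul, smul_mul', smul_sub, hfix]; ring
      rw [this]
      exact Ideal.add_mem _ (Ideal.mul_mem_left _ _ ih)
        (Ideal.sum_mem _ fun g _ => Ideal.mul_mem_mul (hm g hc) (hstab g hy))
  have hsq : I ⊓ maximalIdeal A ^ 2 ≤ maximalIdeal A * I := fun z hz => by
    have hdiff : ∀ g : G, g • z - z ∈ maximalIdeal A * I := fun g => by
      have hz2 : z ∈ maximalIdeal A * maximalIdeal A := pow_two (maximalIdeal A) ▸ hz.2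
      clear hz
      induction hz2 using Submodule.mul_induction_on' with
      | mem_mul_mem a ha b hb =>
        rw [show g • (a * b) - a * b = g • a * (g • b - b) + b * (g • a - a) by rw [smul_mul']; ring]
        exact Ideal.add_mem _ (Ideal.mul_mem_mul (hm g ha) (hgen g b)) (Ideal.mul_mem_mul hb (hgen g a))
      | add a _ b _ ha hb =>
        rw [show g • (a + b) - (a + b) = (g • a - a) + (g • b - b) by rw [smul_add]; ring]
        exact Ideal.add_mem _ ha hb
    have h1 : (Nat.card G : A) * z ∈ maximalIdeal A * I := by
      have : (Nat.card G : A) * z = ∑ g : G, g • z - ∑ g : G, (g • z - z) := by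
        simp [Finset.sum_sub_distrib, Nat.card_eq_fintype_card]
      rw [this]
      exact Ideal.sub_mem _ (hsum z hz.1) (Ideal.sum_mem _ fun g _ => hdiff g)
    have hu : IsUnit (Nat.card G : A) := by
      rw [← map_natCast (algebraMap k A)]; exact (isUnit_iff_ne_zero.2 hG).map _
    exact (Ideal.unit_mul_mem_iff_mem _ hu).1 h1
  haveI := CotT.regular_quot_aux _ A le_rfl I (ne_top_of_le_ne_top (maximalIdeal.isMaximal A).ne_top hIm) hsq
  haveI : Nontrivial (A ⧸ I) := Ideal.Quotient.nontrivial_iff.2 (ne_top_of_le_ne_top (maximalIdeal.isMaximal A).ne_top hIm)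
  haveI : IsLocalRing (A ⧸ I) := IsLocalRing.of_surjective' (Ideal.Quotient.mk I) Ideal.Quotient.mk_surjective
  exact IsRegularLocalRing.of_isRegularRing_of_isLocalRing (A ⧸ I)

end Groth.Agent.S19445
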