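import Groth.Statements.S19446
import Groth.Agent.NegDef.Main

set_option autoImplicit false
universe u
open CategoryTheory CategoryTheory.Limits AlgebraicGeometry
open Resolve

set_option backward.isDefEq.respectTransparency false
set_option backward.isDefEq.respectTransparency.types false

namespace Groth.Agent.S19446

/-- Let R be a Noetherian normal local domain of dimension 2 with residue field κ and π : Y → Spec R a
proper morphism from an integral scheme with regular local rings which is an isomorphism over the
complement of the closed point (a resolution of the surface singularity). Let E_1, …, E_r be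
pairwise distinct integral closed subschemes of Y of dimension one, each mapping to the closed point
(given with its structure morphism to Spec κ), which together cover the fibre over the closed point,
and for each j let L_j be an O_Y-module with L_j ⊗ I_{E_j} ≅ O_Y, i.e. L_j = O_Y(E_j). With a_ij the
degree over κ of the restriction of L_j to E_i (the intersection number E_i·E_j), the quadratic form
Σ x_i x_j a_ij is negative for every nonzero integer vector x: the intersection matrix of the
exceptional curves is negative definite. -/
theorem result (R : Type u) [CommRing R] [IsDomain R]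
    [IsNoetherianRing R] [IsLocalRing R] [IsIntegrallyClosed R] (hdimR : ringKrullDim R = 2)
    (Y : Scheme.{u}) (π : Y ⟶ Spec (CommRingCat.of R)) [IsProper π] [IsIntegral Y]
    (hreg : ∀ y : Y, IsRegularLocalRing (Y.presheaf.stalk y))
    (U : (Spec (CommRingCat.of R)).Opens)
    (hU : ∀ p : Spec (CommRingCat.of R), p ∈ U ↔ p ≠ IsLocalRing.closedPoint R) (hbir : IsIso (π ∣_ U))
    (r : ℕ) (E : Fin r → Scheme.{u}) (e : ∀ i, E i ⟶ Y) [∀ i, IsClosedImmersion (e i)]
    [∀ i, IsIntegral (E i)] (hE : ∀ i, topologicalKrullDim (E i) = 1)
    (s : ∀ i, E i ⟶ Spec (CommRingCat.of (IsLocalRing.ResidueField R)))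
    (hs : ∀ i, e i ≫ π = s i ≫ Spec.map (CommRingCat.ofHom (IsLocalRing.residue R)))
    (hdist : ∀ i j, i ≠ j → Set.range (e i).base ≠ Set.range (e j).base)
    (hcov : ∀ y : Y, π.base y ∉ U → ∃ i, y ∈ Set.range (e i).base)
    (L : Fin r → Y.Modules) (hL : ∀ j, ClSub.IsInverseOf (L j) (ClSub.idealMod (e j).ker))
    (x : Fin r → ℤ) (hx : x ≠ 0) :
    ∑ i, ∑ j, x i * x j *
      @Curv2.deg (IsLocalRing.ResidueField R) _ (E i) ⟨s i⟩ ((Scheme.Modules.pullback (e i)).obj (L j)) 1 < 0 := by
  haveI := hbir
  exact Groth.Agent.NegDef.negDef R hdimR Y π hreg U hU E e hE s hs hdist hcov L hL x hx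

end Groth.Agent.S19446
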