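import Groth.Statements.S19447
import Groth.Agent.ReflInv.Main
import Groth.Agent.ArtObs.Models

set_option autoImplicit false
universe u
open ConstAct

namespace Groth.Agent.S19447

/-- Let k be an algebraically closed field, A the power series ring in n variables over k with maximal
ideal M, and G a finite group of order invertible in k acting faithfully on A by k-algebra
automorphisms, A being finite over the ring of invariants A^G. Say g is a pseudo-reflection or acts
trivially on the cotangent space when A modulo M^2 and the elements g·a − a has dimension at least n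
over k. If G is generated by such elements, then A is flat over A^G and A^G is a regular local ring:
generation by pseudo-reflections implies the other two conditions of the published criterion (only
this sufficiency half is stated; the converse implication is not part of this statement). -/
theorem result (k : Type u) [Field k]
    [IsAlgClosed k] (n : ℕ) (G : Type u) [Group G] [Finite G] [MulSemiringAction G (MvPowerSeries (Fin n) k)]
    [SMulCommClass G k (MvPowerSeries (Fin n) k)] [FaithfulSMul G (MvPowerSeries (Fin n) k)]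
    (hG : (Nat.card G : k) ≠ 0)
    [Module.Finite (ConstAct.inv k (MvPowerSeries (Fin n) k) G) (MvPowerSeries (Fin n) k)]
    (hgen : Subgroup.closure {g : G | n ≤ Module.finrank k (MvPowerSeries (Fin n) k ⧸
        (Ideal.span {x : MvPowerSeries (Fin n) k | ∃ a, x = g • a - a} ⊔
          IsLocalRing.maximalIdeal (MvPowerSeries (Fin n) k) ^ 2))} = ⊤) :
    Module.Flat (ConstAct.inv k (MvPowerSeries (Fin n) k) G) (MvPowerSeries (Fin n) k) ∧
      IsRegularLocalRing (ConstAct.inv k (MvPowerSeries (Fin n) k) G) := by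
  classical
  haveI : Fintype G := Fintype.ofFinite G
  haveI : IsDomain (MvPowerSeries (Fin n) k) := NoZeroDivisors.to_isDomain _
  haveI : IsRegularLocalRing (MvPowerSeries (Fin n) k) := Groth.Agent.ArtObs.isRegularLocalRing_ps k n
  let M := IsLocalRing.maximalIdeal (MvPowerSeries (Fin n) k)
  have hspan : Ideal.span (Set.range (MvPowerSeries.X : Fin n → MvPowerSeries (Fin n) k)) = M :=
    Groth.Agent.ArtPow.span_X_eq_maximalIdeal
  have hsurj : ∀ a : MvPowerSeries (Fin n) k, ∃ c : k, a - algebraMap k _ c ∈ M := fun a => by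
    refine ⟨MvPowerSeries.constantCoeff a, ?_⟩
    rw [IsLocalRing.mem_maximalIdeal, mem_nonunits_iff, MvPowerSeries.isUnit_iff_constantCoeff]
    simp [MvPowerSeries.algebraMap_apply]
  refine Groth.Agent.ReflInv.main k (MvPowerSeries (Fin n) k) G (by rwa [← Nat.card_eq_fintype_card]) hsurj _ hgen
    fun g hg => ?_
  let J : Ideal (MvPowerSeries (Fin n) k) := Ideal.span {x | ∃ a, x = g • a - a}
  let π := Ideal.Quotient.mkₐ k (M ^ 2)
  let ψ : (Option (Fin n) → k) →ₗ[k] MvPowerSeries (Fin n) k ⧸ M ^ 2 :=
    ∑ o : Option (Fin n), (LinearMap.proj o).smulRight (π (o.elim 1 MvPowerSeries.X))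
  have hψ : Function.Surjective ψ := by
    intro q
    obtain ⟨a, rfl⟩ := Ideal.Quotient.mk_surjective q
    obtain ⟨c, hc⟩ := hsurj a
    obtain ⟨co, hco⟩ := Ideal.mem_span_range_iff_exists_fun.1 (hspan.symm ▸ hc : a - algebraMap k _ c ∈ Ideal.span _)
    choose d hd using fun i => hsurj (co i)
    refine ⟨fun o => o.elim c d, ?_⟩
    show ψ _ = π a
    have h1 : π a - (c • (1 : MvPowerSeries (Fin n) k ⧸ M ^ 2) + ∑ i, d i • π (MvPowerSeries.X i)) = 0 := by
      rw [← map_one π, ← map_smul]
      simp only [← map_smul, ← map_sum, ← map_add, ← map_sub]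
      refine Ideal.Quotient.eq_zero_iff_mem.2 ?_
      rw [Algebra.smul_def, mul_one, ← sub_sub, ← hco, ← Finset.sum_sub_distrib]
      refine sum_mem fun i _ => ?_
      rw [Algebra.smul_def, ← sub_mul, pow_two]
      exact Ideal.mul_mem_mul (hd i) (hspan ▸ Ideal.subset_span ⟨i, rfl⟩)
    rw [sub_eq_zero] at h1
    rw [h1]
    simp [ψ, Fintype.sum_option]
  have hle : Module.finrank k (MvPowerSeries (Fin n) k ⧸ M ^ 2) ≤ n + 1 := by
    refine (LinearMap.finrank_le_finrank_of_surjective hψ).trans ?_
    simp
  haveI : FiniteDimensional k (MvPowerSeries (Fin n) k ⧸ M ^ 2) := Module.Finite.of_surjective ψ hψ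
  let f : (MvPowerSeries (Fin n) k ⧸ M ^ 2) →ₗ[k] MvPowerSeries (Fin n) k ⧸ (J ⊔ M ^ 2) :=
    (Ideal.Quotient.factorₐ k (le_sup_right : M ^ 2 ≤ J ⊔ M ^ 2)).toLinearMap
  have hf : Function.Surjective f := Ideal.Quotient.factor_surjective le_sup_right
  have hker : Module.finrank k (LinearMap.ker f) ≤ 1 := by
    have h1 := LinearMap.finrank_range_add_finrank_ker f
    rw [LinearMap.range_eq_top.2 hf, finrank_top] at h1
    have h2 : n ≤ Module.finrank k (MvPowerSeries (Fin n) k ⧸ (J ⊔ M ^ 2)) := hg
    omega
  obtain ⟨⟨v, hv⟩, hspanv⟩ := finrank_le_one_iff.1 hker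
  obtain ⟨w, rfl⟩ := Ideal.Quotient.mk_surjective v
  refine ⟨w, fun a => ?_⟩
  have hmem : π (g • a - a) ∈ LinearMap.ker f :=
    Ideal.Quotient.eq_zero_iff_mem.2 (Ideal.mem_sup_left (Ideal.subset_span ⟨a, rfl⟩))
  obtain ⟨c, hc⟩ := hspanv ⟨_, hmem⟩
  refine ⟨c, Ideal.Quotient.eq_zero_iff_mem.1 ?_⟩
  show π (g • a - a - c • w) = 0
  rw [map_sub π, map_smul, sub_eq_zero]
  exact (congrArg Subtype.val hc).symm

end Groth.Agent.S19447
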