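import Groth.Statements.S19448
import Mathlib.RingTheory.Filtration
import Mathlib.GroupTheory.OrderOfElement
import Mathlib.Tactic.Ring
import Mathlib.Algebra.Ring.Action.Basic
import Mathlib.Tactic.NormNum

set_option autoImplicit false
universe u
open CAlg

namespace Groth.Agent.S19448

/-- Let k be a field, A a Noetherian local k-algebra with maximal ideal M and residue field k, and G a
finite group with |G| ≠ 0 in k acting on A by k-algebra automorphisms. An element of G which acts
trivially on M/M^2 acts trivially on A; in other words the stabilizer acts faithfully on the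
cotangent space whenever it acts faithfully on the local ring. -/
theorem result (k : Type u) [Field k] (A : Type u) [CommRing A]
    [Algebra k A] [IsLocalRing A] [IsNoetherianRing A]
    (hres : Function.Surjective (algebraMap k (IsLocalRing.ResidueField A)))
    (G : Type u) [Group G] [Finite G] [MulSemiringAction G A] [SMulCommClass G k A]
    (hG : (Nat.card G : k) ≠ 0) (g : G)
    (hg : ∀ a ∈ IsLocalRing.maximalIdeal A, g • a - a ∈ IsLocalRing.maximalIdeal A ^ 2) (a : A) :
    g • a = a := by
  classical
  let m := IsLocalRing.maximalIdeal A
  have hm2 : m ^ 2 ≤ m := Ideal.pow_le_self (by norm_num)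
  have hgm : ∀ y ∈ m, g • y ∈ m := fun y hy => by
    have := add_mem (hm2 (hg y hy)) hy
    rwa [sub_add_cancel] at this
  have hgr : ∀ j : ℕ, ∀ d ∈ m ^ j, g • d ∈ m ^ j := by
    intro j
    induction j with
    | zero => intro d _; simp
    | succ j ih =>
      intro d hd
      rw [pow_succ] at hd
      refine Submodule.mul_induction_on hd (fun x hx y hy => ?_) (fun x y hx hy => by rw [smul_add]; exact add_mem hx hy)
      rw [smul_mul', pow_succ]
      exact Ideal.mul_mem_mul (ih x hx) (hgm y hy)
  have hhom : ∀ j : ℕ, 1 ≤ j → ∀ d ∈ m ^ j, g • d - d ∈ m ^ (j + 1) := by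
    intro j hj
    induction j, hj using Nat.le_induction with
    | base => intro d hd; rw [pow_one] at hd; exact hg d hd
    | succ j hj ih =>
      intro d hd
      rw [pow_succ] at hd
      refine Submodule.mul_induction_on hd (fun x hx y hy => ?_) (fun x y hx hy => ?_)
      · rw [smul_mul', show g • x * g • y - x * y = (g • x - x) * g • y + x * (g • y - y) by ring]
        refine add_mem ?_ ?_
        · rw [pow_succ _ (j + 1)]
          exact Ideal.mul_mem_mul (ih x hx) (hgm y hy)
        · rw [add_assoc j 1 1, pow_add]
          exact Ideal.mul_mem_mul hx (hg y hy)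
      · rw [smul_add, add_sub_add_comm]; exact add_mem hx hy
  have hk : ∀ c : k, g • algebraMap k A c = algebraMap k A c := fun c => by
    rw [Algebra.algebraMap_eq_smul_one, smul_comm, smul_one]
  have hall : ∀ j : ℕ, ∀ a : A, g • a - a ∈ m ^ (j + 1) := by
    intro j
    induction j with
    | zero =>
      intro a
      obtain ⟨c, hc⟩ := hres (IsLocalRing.residue A a)
      have ham : a - algebraMap k A c ∈ m := by
        refine (IsLocalRing.residue_eq_zero_iff _).mp ?_
        rw [map_sub, ← hc, IsScalarTower.algebraMap_apply k A (IsLocalRing.ResidueField A)]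
        exact sub_self _
      have := hm2 (hg _ ham)
      rw [smul_sub, hk, sub_sub_sub_cancel_right] at this
      rwa [zero_add, pow_one]
    | succ j ih =>
      intro a
      let d := g • a - a
      have hd : d ∈ m ^ (j + 1) := ih a
      have hpow : ∀ i : ℕ, g ^ i • a - (a + (i : A) * d) ∈ m ^ (j + 1 + 1) := by
        intro i
        induction i with
        | zero => simp
        | succ i ihi =>
          rw [pow_succ' g i, mul_smul]
          have h1 := hgr (j + 1 + 1) _ ihi
          have h2 := hhom (j + 1) (Nat.le_add_left 1 j) d hd
          have hi : g • (i : A) = (i : A) := map_natCast (MulSemiringAction.toRingHom G A g) i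
          rw [smul_sub, smul_add, smul_mul', hi] at h1
          have h3 := add_mem h1 (Ideal.mul_mem_left _ (i : A) h2)
          convert h3 using 1
          push_cast
          simp only [d]
          ring
      have hN := hpow (orderOf g)
      rw [pow_orderOf_eq_one, one_smul] at hN
      have hu : IsUnit (orderOf g : A) := by
        rw [← map_natCast (algebraMap k A)]
        refine (IsUnit.mk0 _ fun h => hG ?_).map _
        obtain ⟨q, hq⟩ := orderOf_dvd_natCard g
        rw [hq, Nat.cast_mul, h, zero_mul]
      have h4 : (orderOf g : A) * d ∈ m ^ (j + 1 + 1) := by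
        have := (m ^ (j + 1 + 1)).neg_mem hN
        convert this using 1
        ring
      exact (Ideal.unit_mul_mem_iff_mem _ hu).mp h4
  rw [← sub_eq_zero, ← Ideal.mem_bot, ← Ideal.iInf_pow_eq_bot_of_isLocalRing m (IsLocalRing.maximalIdeal.isMaximal A).ne_top]
  refine Ideal.mem_iInf.mpr fun j => ?_
  exact Ideal.pow_le_pow_right (Nat.le_succ j) (hall j a)

end Groth.Agent.S19448
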