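import Groth.Statements.S19449


set_option autoImplicit false
universe u
open SymRep

namespace Groth.Agent.S19449

/-- Over a field k of characteristic zero, let the symmetric group S_n act on the polynomial ring in the
2n variables x_i, y_i (i < n; the variable (i, 0) is x_i and (i, 1) is y_i) by permuting the index
i, and for an n-tuple p of pairs (p_j, q_j) of exponents let Δ_p be the determinant det(x_i^{p_j}
y_i^{q_j}). A polynomial is alternating — each permutation acts on it by its sign — exactly when it
is a k-linear combination of the Δ_p; and the Δ_p for p strictly increasing in the lexicographic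
order on pairs (one for each n-element set of exponent pairs) are linearly independent. Hence these
Δ_p form a basis of the space of alternating polynomials. -/
theorem result (k : Type u) [Field k] [CharZero k] (n : ℕ) :
    (∀ f : MvPolynomial (Fin n × Fin 2) k,
      (∀ σ : Equiv.Perm (Fin n),
          MvPolynomial.rename (fun v : Fin n × Fin 2 => (σ v.1, v.2)) f = ((Equiv.Perm.sign σ : ℤˣ) : ℤ) • f) ↔
        f ∈ Submodule.span k (Set.range fun p : Fin n → ℕ × ℕ =>
          (Matrix.of fun i j : Fin n =>
            (MvPolynomial.X (i, 0) : MvPolynomial (Fin n × Fin 2) k) ^ (p j).1 * MvPolynomial.X (i, 1) ^ (p j).2).det)) ∧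
    LinearIndependent k (fun p : {p : Fin n → ℕ ×ₗ ℕ // StrictMono p} =>
      (Matrix.of fun i j : Fin n =>
        (MvPolynomial.X (i, 0) : MvPolynomial (Fin n × Fin 2) k) ^ (ofLex (p.1 j)).1 *
          MvPolynomial.X (i, 1) ^ (ofLex (p.1 j)).2).det) := by
  classical
  let E : (Fin n → ℕ × ℕ) → ((Fin n × Fin 2) →₀ ℕ) := fun p =>
    Finsupp.equivFunOnFinite.symm fun v => if v.2 = 0 then (p v.1).1 else (p v.1).2
  have hE0 : ∀ p i, E p (i, 0) = (p i).1 := fun p i => by simp [E]
  have hE1 : ∀ p i, E p (i, 1) = (p i).2 := fun p i => by simp [E]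
  have hEinj : Function.Injective E := fun p q h => funext fun i =>
    Prod.ext (by rw [← hE0 p i, h, hE0]) (by rw [← hE1 p i, h, hE1])
  have hEsurj : ∀ d, E (fun i => (d (i, 0), d (i, 1))) = d := fun d => by
    refine Finsupp.ext fun v => ?_
    obtain ⟨i, c⟩ := v
    revert c
    rw [Fin.forall_fin_two]
    exact ⟨hE0 (fun i => (d (i, 0), d (i, 1))) i, hE1 (fun i => (d (i, 0), d (i, 1))) i⟩
  let mon : (Fin n → ℕ × ℕ) → MvPolynomial (Fin n × Fin 2) k := fun p =>
    ∏ i, MvPolynomial.X (i, 0) ^ (p i).1 * MvPolynomial.X (i, 1) ^ (p i).2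
  have hmon : ∀ p, mon p = MvPolynomial.monomial (E p) 1 := fun p => by
    rw [← MvPolynomial.prod_X_pow_eq_monomial, Finset.prod_subset (Finset.subset_univ _)
      (fun x _ hx => by rw [Finsupp.notMem_support_iff.mp hx, pow_zero]), Fintype.prod_prod_type]
    exact Finset.prod_congr rfl fun i _ => by rw [Fin.prod_univ_two, hE0, hE1]
  let ρ : Equiv.Perm (Fin n) → MvPolynomial (Fin n × Fin 2) k →ₐ[k] MvPolynomial (Fin n × Fin 2) k :=
    fun σ => MvPolynomial.rename (fun v : Fin n × Fin 2 => (σ v.1, v.2))
  let Δ : (Fin n → ℕ × ℕ) → MvPolynomial (Fin n × Fin 2) k := fun p =>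
    (Matrix.of fun i j : Fin n =>
      (MvPolynomial.X (i, 0) : MvPolynomial (Fin n × Fin 2) k) ^ (p j).1 *
        MvPolynomial.X (i, 1) ^ (p j).2).det
  have hρmon : ∀ σ p, ρ σ (mon p) =
      ∏ i, MvPolynomial.X (σ i, 0) ^ (p i).1 * MvPolynomial.X (σ i, 1) ^ (p i).2 := fun σ p => by
    simp [ρ, mon]
  have hΔ : ∀ p, Δ p = ∑ σ, Equiv.Perm.sign σ • ρ σ (mon p) := fun p => by
    rw [show Δ p = _ from Matrix.det_apply _]
    exact Finset.sum_congr rfl fun σ _ => by rw [hρmon]; rfl
  have hρΔ : ∀ σ p, ρ σ (Δ p) = ((Equiv.Perm.sign σ : ℤˣ) : ℤ) • Δ p := fun σ p => by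
    rw [show ρ σ (Δ p) = _ from AlgHom.map_det (ρ σ) _]
    rw [zsmul_eq_mul, ← Matrix.det_permute σ]
    congr 1
    ext i j : 2
    simp [ρ]
  refine ⟨fun f => ⟨fun hf => ?_, fun hf σ => ?_⟩, ?_⟩
  · -- symmetrisation
    have hsum : ∑ σ, Equiv.Perm.sign σ • ρ σ f = (Fintype.card (Equiv.Perm (Fin n))) • f := by
      rw [← Finset.card_univ, ← Finset.sum_const]
      refine Finset.sum_congr rfl fun σ _ => ?_
      rw [show ρ σ f = _ from hf σ, Units.smul_def, smul_smul, ← Units.val_mul, Int.units_mul_self,
        Units.val_one, one_smul]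
    have hspan : ∀ g : MvPolynomial (Fin n × Fin 2) k,
        ∑ σ, Equiv.Perm.sign σ • ρ σ g ∈ Submodule.span k (Set.range Δ) := by
      intro g
      induction g using MvPolynomial.induction_on' with
      | monomial d c =>
        have hc : MvPolynomial.monomial d c = c • mon (fun i => (d (i, 0), d (i, 1))) := by
          rw [hmon, hEsurj, MvPolynomial.smul_monomial, smul_eq_mul, mul_one]
        rw [hc]
        simp only [map_smul, smul_comm _ c]
        rw [← Finset.smul_sum, ← hΔ]
        exact Submodule.smul_mem _ _ (Submodule.subset_span ⟨_, rfl⟩)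
      | add p q hp hq =>
        simp only [map_add, smul_add, Finset.sum_add_distrib]
        exact Submodule.add_mem _ hp hq
    have := hspan f
    rw [hsum, ← Nat.cast_smul_eq_nsmul k] at this
    exact (Submodule.smul_mem_iff _ (by exact_mod_cast Fintype.card_ne_zero)).mp this
  · induction hf using Submodule.span_induction with
    | mem x hx => obtain ⟨p, rfl⟩ := hx; exact hρΔ σ p
    | zero => simp
    | add x y _ _ hx hy => rw [map_add, hx, hy, smul_add]
    | smul a x _ hx => rw [map_smul, hx, smul_comm]
  · rw [linearIndependent_iff']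
    intro s g hg q hq
    have hcoef : ∀ p : {p : Fin n → ℕ ×ₗ ℕ // StrictMono p},
        MvPolynomial.coeff (E fun j => ofLex (q.1 j)) (Δ fun j => ofLex (p.1 j)) =
          if p = q then 1 else 0 := by
      intro p
      have hterm : ∀ σ : Equiv.Perm (Fin n), ρ σ (mon fun j => ofLex (p.1 j)) =
          MvPolynomial.monomial (E fun j => ofLex (p.1 (σ.symm j))) 1 := fun σ => by
        rw [← hmon (fun j => ofLex (p.1 (σ.symm j))), hρmon]
        exact Fintype.prod_equiv σ _ _ fun i => by simp [mon]
      rw [hΔ, MvPolynomial.coeff_sum, Finset.sum_eq_single (1 : Equiv.Perm (Fin n))]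
      · rw [map_one, one_smul, hterm, MvPolynomial.coeff_monomial]
        refine if_congr ⟨fun h => Subtype.ext (funext fun j => ?_), fun h => ?_⟩ rfl rfl
        · exact ofLex.injective (congrFun (hEinj h) j)
        · subst h; rfl
      · intro σ _ hσ
        rw [hterm, Units.smul_def, MvPolynomial.coeff_smul, MvPolynomial.coeff_monomial, if_neg,
          smul_zero]
        intro h
        have h1 : (fun j => ofLex (p.1 (σ.symm j))) = fun j => ofLex (q.1 j) := hEinj h
        have h' : ∀ j, p.1 (σ.symm j) = q.1 j := fun j => ofLex.injective (congrFun h1 j)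
        have hpq : p.1 = q.1 := by
          refine (StrictMono.range_inj p.2 q.2).mp ?_
          rw [← σ.symm.surjective.range_comp p.1]
          exact congrArg Set.range (funext h')
        refine hσ (Equiv.symm_bijective.injective (Equiv.ext fun j => p.2.injective ?_))
        rw [h' j, ← hpq]
        rfl
      · exact fun h => absurd (Finset.mem_univ _) h
    have := congrArg (MvPolynomial.coeff (E fun j => ofLex (q.1 j))) hg
    rw [MvPolynomial.coeff_sum, MvPolynomial.coeff_zero,
      Finset.sum_eq_single_of_mem q hq fun p _ hpq => ?_] at this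
    · rw [MvPolynomial.coeff_smul] at this
      rw [show MvPolynomial.coeff _ _ = _ from hcoef q, if_pos rfl, smul_eq_mul, mul_one] at this
      exact this
    · rw [MvPolynomial.coeff_smul]
      rw [show MvPolynomial.coeff _ _ = _ from hcoef p, if_neg hpq, smul_zero]

end Groth.Agent.S19449
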