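import Groth.Statements.S19453
import Groth.Agent.SerreReg.Regular
import Mathlib.RingTheory.Artinian.Module
import Mathlib.RingTheory.AdjoinRoot
import Mathlib.Tactic.Ring
import Mathlib.RingTheory.Polynomial.Quotient

set_option autoImplicit false
universe u
open CAlg Groth.Agent

namespace Groth.Agent.S19453

/-- Converse direction: let k be a field, A a regular local k-algebra of Krull dimension 2 with maximal
ideal M and residue field k, and I an ideal with A/I of finite dimension n ≥ 1 over k. If some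
element of I does not lie in M^2, then A/I is isomorphic as a k-algebra to k[x]/(x^n): a cluster
lying on a smooth curve germ of a smooth surface is curvilinear, with coordinate ring generated by
one element. -/
theorem result (k : Type u) [Field k]
    (A : Type u) [CommRing A] [Algebra k A] [IsRegularLocalRing A] (hdim : ringKrullDim A = 2)
    (hres : Function.Surjective (algebraMap k (IsLocalRing.ResidueField A)))
    (I : Ideal A) [Module.Finite k (A ⧸ I)] (n : ℕ) (hn : Module.finrank k (A ⧸ I) = n) (h1 : 1 ≤ n)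
    (g : A) (hgI : g ∈ I) (hg : g ∉ IsLocalRing.maximalIdeal A ^ 2) :
    Nonempty ((A ⧸ I) ≃ₐ[k] (Polynomial k ⧸ Ideal.span {(Polynomial.X : Polynomial k) ^ n})) := by
  classical
  let m := IsLocalRing.maximalIdeal A
  have hIm : I ≤ m := IsLocalRing.le_maximalIdeal fun h => by
    haveI : Subsingleton (A ⧸ I) := Ideal.Quotient.subsingleton_iff.mpr h
    rw [Module.finrank_zero_of_subsingleton] at hn
    omega
  haveI : Nontrivial (A ⧸ I) := Ideal.Quotient.nontrivial_iff.mpr fun h =>
    (IsLocalRing.maximalIdeal.isMaximal A).ne_top (top_le_iff.mp (h ▸ hIm))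
  obtain ⟨hreg, hnzd⟩ := SerreReg.isRegularLocalRing_quot (hIm hgI) hg
  let π := Ideal.Quotient.mk (Ideal.span {g})
  haveI : IsLocalHom π := IsLocalHom.of_surjective _ Ideal.Quotient.mk_surjective
  obtain ⟨s, hcard, hspan⟩ := Submodule.FG.exists_span_finset_card_eq_spanFinrank
    (IsNoetherian.noetherian (IsLocalRing.maximalIdeal (A ⧸ Ideal.span {g})))
  have hs : s.card = 1 := by
    have h1 := IsRegularLocalRing.spanFinrank_maximalIdeal (R := A ⧸ Ideal.span {g})
    have h2 := ringKrullDim_quotient_span_singleton_succ_eq_ringKrullDim hnzd (hIm hgI)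
    rw [← h1, hdim, ← hcard] at h2
    have : s.card + 1 = 2 := by exact_mod_cast h2
    omega
  obtain ⟨v, rfl⟩ := Finset.card_eq_one.mp hs
  obtain ⟨h, rfl⟩ := Ideal.Quotient.mk_surjective v
  have hm : ∀ a ∈ m, ∃ b d : A, a = b * g + d * h := by
    intro a ha
    have h1 : π a ∈ IsLocalRing.maximalIdeal (A ⧸ Ideal.span {g}) := by
      have := IsLocalRing.maximalIdeal_comap π
      exact this.symm.le ha
    rw [← hspan, Finset.coe_singleton, Ideal.submodule_span_eq, Ideal.mem_span_singleton'] at h1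
    obtain ⟨e, he⟩ := h1
    obtain ⟨d, rfl⟩ := Ideal.Quotient.mk_surjective e
    rw [← map_mul, eq_comm, Ideal.Quotient.eq, Ideal.mem_span_singleton'] at he
    obtain ⟨b, hb⟩ := he
    exact ⟨b, d, by rw [hb]; ring⟩
  have hhm : h ∈ m := by
    have h1 : π h ∈ IsLocalRing.maximalIdeal (A ⧸ Ideal.span {g}) := hspan ▸ Submodule.subset_span (by simp [π])
    have := IsLocalRing.maximalIdeal_comap π
    exact this.le h1
  obtain ⟨N, hN⟩ : ∃ N, h ^ N ∈ I := by
    haveI : IsArtinianRing (A ⧸ I) := IsArtinianRing.of_finite k _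
    haveI : IsLocalRing (A ⧸ I) := IsLocalRing.of_surjective' (Ideal.Quotient.mk I) Ideal.Quotient.mk_surjective
    haveI : IsLocalHom (Ideal.Quotient.mk I) := IsLocalHom.of_surjective _ Ideal.Quotient.mk_surjective
    have h1 : Ideal.Quotient.mk I h ∈ IsLocalRing.maximalIdeal (A ⧸ I) :=
      (IsLocalRing.maximalIdeal_comap (Ideal.Quotient.mk I)).symm.le hhm
    obtain ⟨N, hN⟩ := IsArtinianRing.isNilpotent_jacobson_bot (R := A ⧸ I)
    refine ⟨N, Ideal.Quotient.eq_zero_iff_mem.mp ?_⟩
    rw [map_pow, ← Ideal.mem_bot]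
    have h2 := Ideal.pow_mem_pow h1 N
    rwa [← IsLocalRing.jacobson_eq_maximalIdeal ⊥ bot_ne_top, hN] at h2
  let φ : Polynomial k →ₐ[k] A ⧸ I := Polynomial.aeval (Ideal.Quotient.mk I h)
  have hc : ∀ r : A, ∃ c : k, r - algebraMap k A c ∈ m := fun r => by
    obtain ⟨c, hc⟩ := hres (IsLocalRing.residue A r)
    refine ⟨c, (IsLocalRing.residue_eq_zero_iff _).mp ?_⟩
    rw [map_sub, ← hc, IsScalarTower.algebraMap_apply k A (IsLocalRing.ResidueField A)]
    exact sub_self _
  have hsurj : Function.Surjective φ := by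
    have key : ∀ j : ℕ, ∀ a : A, ∃ (P : Polynomial k) (b : A), Ideal.Quotient.mk I a = φ P + Ideal.Quotient.mk I (b * h ^ j) := by
      intro j
      induction j with
      | zero => exact fun a => ⟨0, a, by simp⟩
      | succ j ih =>
        intro a
        obtain ⟨P, b, hab⟩ := ih a
        obtain ⟨c, hbc⟩ := hc b
        obtain ⟨u, w, huw⟩ := hm _ hbc
        refine ⟨P + Polynomial.C c * Polynomial.X ^ j, w, ?_⟩
        have hb : b = algebraMap k A c + u * g + w * h := by rw [add_assoc, ← huw]; ring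
        rw [hab, hb]
        simp only [φ, map_add, map_mul, map_pow, Polynomial.aeval_C, Polynomial.aeval_X,
          Ideal.Quotient.eq_zero_iff_mem.mpr hgI, mul_zero, add_zero, ← Ideal.Quotient.mk_algebraMap]
        ring
    intro z
    obtain ⟨a, rfl⟩ := Ideal.Quotient.mk_surjective z
    obtain ⟨P, b, hab⟩ := key N a
    exact ⟨P, by rw [hab, map_mul, Ideal.Quotient.eq_zero_iff_mem.mpr hN, mul_zero, add_zero]⟩
  obtain ⟨p, hp⟩ := IsPrincipalIdealRing.principal (RingHom.ker φ.toRingHom)
  rw [Ideal.submodule_span_eq] at hp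
  have hXN : Polynomial.X ^ N ∈ RingHom.ker φ.toRingHom := by
    rw [RingHom.mem_ker]
    show φ (Polynomial.X ^ N) = 0
    simp only [φ, map_pow, Polynomial.aeval_X]
    rw [← map_pow, Ideal.Quotient.eq_zero_iff_mem.mpr hN]
  rw [hp, Ideal.mem_span_singleton] at hXN
  obtain ⟨j, -, hj⟩ := (dvd_prime_pow Polynomial.prime_X N).mp hXN
  have hker : RingHom.ker φ.toRingHom = Ideal.span {(Polynomial.X : Polynomial k) ^ j} := by
    rw [hp, Ideal.span_singleton_eq_span_singleton]
    exact hj
  let e : (Polynomial k ⧸ Ideal.span {(Polynomial.X : Polynomial k) ^ j}) ≃ₐ[k] A ⧸ I :=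
    (Ideal.quotientEquivAlgOfEq k hker.symm).trans (Ideal.quotientKerAlgEquivOfSurjective hsurj)
  have hjn : j = n := by
    rw [← hn, ← e.toLinearEquiv.finrank_eq, finrank_quotient_span_eq_natDegree, Polynomial.natDegree_X_pow]
  exact ⟨e.symm.trans (Ideal.quotientEquivAlgOfEq k (by rw [hjn]))⟩

end Groth.Agent.S19453
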