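import Groth.Statements.S19454
import Groth.Agent.StrictRat.Main
import Groth.Agent.S7298
import Groth.Agent.GGDesc.Basic
import Groth.Agent.Nagata.PowerSeries
import Groth.Agent.UFDLib.Basic
import Groth.Agent.TMul.GlobGen

set_option autoImplicit false
universe u
open CategoryTheory CategoryTheory.Limits AlgebraicGeometry
open Resolve

namespace Groth.Agent.S19454

/-- Let (A, m) be a complete normal Noetherian local domain of dimension two with a rational singularity
(every proper birational modification X → Spec A with X integral and normal has H^1(X, O_X) = 0), f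
: X' → Spec A a resolution of singularities (proper, X' integral with regular local rings, an
isomorphism over a nonempty open subset), L a coherent reflexive module on Spec A, and M the strict
transform of L: a coherent torsion-free module on X' with an epimorphism q : f^*L → M injective on
stalks at the generic point. Then M is finite locally free and generated by global sections, and
moreover H^1(X', M) = 0 (the vanishing of the first higher direct image of M, proved alongside).
(The published statement takes the resolution to be the minimal one; its proof does not use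
minimality, and any resolution is allowed here.) -/
theorem result (A : Type u) [CommRing A]
    [IsDomain A] [IsLocalRing A] [IsNoetherianRing A] [IsIntegrallyClosed A]
    [IsAdicComplete (IsLocalRing.maximalIdeal A) A] (hdim : ringKrullDim A = 2) (hA : Curv2.IsRationalSing A)
    (X' : Scheme.{u}) (f : X' ⟶ Spec (CommRingCat.of A)) [IsProper f] [IsIntegral X']
    (hreg : ∀ x : X', IsRegularLocalRing (X'.presheaf.stalk x))
    (hbir : ∃ U : (Spec (CommRingCat.of A)).Opens, (U : Set (Spec (CommRingCat.of A))).Nonempty ∧ IsIso (f ∣_ U))
    (L : (Spec (CommRingCat.of A)).Modules) (hLc : Coh.IsCoh L) (hLr : RefHull.IsReflexive L)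
    (M : X'.Modules) (hMc : Coh.IsCoh M) (hMt : TorSh.IsTorsionFree M)
    (q : (Scheme.Modules.pullback f).obj L ⟶ M) [Epi q]
    (hq : Function.Injective (RefHull.stalkMapₗ q (genericPoint X'))) :
    FlatMod.IsFinLocFree M ∧ Curv2.IsGloballyGenerated M ∧ Subsingleton (Coh.HH X' M 1) := by
  letI : X'.Over (Spec (CommRingCat.of A)) := ⟨f⟩
  have hXn : Pi1.IsNormalScheme X' := fun x => by
    haveI := hreg x
    haveI := Groth.Agent.UFDLib.ufd_of_isRegularLocalRing (X'.presheaf.stalk x)
    exact ⟨inferInstance, inferInstance⟩
  have hY : Pi1.IsNormalScheme (Spec (CommRingCat.of A)) := fun x => by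
    refine ⟨inferInstance, ?_⟩
    haveI : IsIntegrallyClosed (Localization.AtPrime x.asIdeal) :=
      isIntegrallyClosed_of_isLocalization _ x.asIdeal.primeCompl x.asIdeal.primeCompl_le_nonZeroDivisors
    letI : Algebra A ↑((Spec (CommRingCat.of A)).presheaf.stalk x) := StructureSheaf.stalkAlgebra A x
    haveI : IsLocalization.AtPrime ↑((Spec (CommRingCat.of A)).presheaf.stalk x) x.asIdeal :=
      StructureSheaf.IsLocalization.to_stalk A x
    exact isIntegrallyClosed_of_isLocalization _ x.asIdeal.primeCompl
      x.asIdeal.primeCompl_le_nonZeroDivisors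
  haveI := hLc.1
  have hLg : Curv2.IsGloballyGenerated L :=
    TMul.isGloballyGenerated_of_genOn fun x => ⟨⊤, isAffineOpen_top _, trivial, eq_top_iff.2 fun s _ =>
      Submodule.subset_span ⟨s, Groth.Agent.QC.res_self L _ s⟩⟩
  obtain ⟨ι, p, hp⟩ := Groth.Agent.GGDesc.isGloballyGenerated_pullback f hLg
  have hMg : Curv2.IsGloballyGenerated M := by
    haveI : Epi (C := X'.Modules) p := hp
    exact ⟨ι, p ≫ q, epi_comp (C := X'.Modules) p q⟩
  have h1 : Subsingleton (Coh.HH X' M 1) := Groth.Agent.S7298.result A (Groth.Agent.Nagata.isNagata_of_complete A)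
    hdim hA X' f hXn hbir M hMc.1 hMg
  have hdY : ∀ y : Spec (CommRingCat.of A), ringKrullDim ((Spec (CommRingCat.of A)).presheaf.stalk y) ≤ 2 :=
    fun y => by
      refine (Groth.Agent.RegDual.ringKrullDim_stalk_le_topologicalKrullDim y).trans ?_
      rw [show topologicalKrullDim (Spec (CommRingCat.of A)) = ringKrullDim A from
        PrimeSpectrum.topologicalKrullDim_eq_ringKrullDim A, hdim]
  exact ⟨Groth.Agent.StrictRat.isFinLocFree_strictTransform f hY hdY hbir hreg hXn hLc hLr hMc hMt q hq h1, hMg, h1⟩

end Groth.Agent.S19454
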