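import Groth.Statements.S19455
import Groth.Agent.MeroLib.Sections
import Groth.Agent.RelTilde.Tensor
import Groth.Agent.TMul.Ample
open Groth.Agent.MeroLib
open Groth.Agent.QC (res res_res app_res res_smul)

set_option autoImplicit false
universe u
open CategoryTheory CategoryTheory.Limits AlgebraicGeometry TopologicalSpace Opposite
open Mero

namespace Groth.Agent.S19455


/-- Pointwise product `O(D) × O(E) → O(DE)`. -/
noncomputable def prodSect {X : Scheme.{u}} (D E : Mero.Divisor X) (U : X.Opens) (t : Γ(Mero.divMod D, U))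
    (t' : Γ(Mero.divMod E, U)) : Γ(Mero.divMod (D * E), U) :=
  ⟨fun y => t.1 y * t'.1 y, Mero.kLoc_mul X U _ _ t.2.1 t'.2.1, fun y g hg => by
    obtain ⟨W, f, -, hyW, hf⟩ := exists_local D y.1
    obtain ⟨r, hr⟩ := (divCond_iff (hf ⟨y.1, hyW⟩) _).mp (t.2.2 y)
    have hg' : E.1 y.1 = QuotientGroup.mk ((uval f ⟨y.1, hyW⟩)⁻¹ * g) := by
      rw [QuotientGroup.mk_mul, QuotientGroup.mk_inv, ← germOf_eq, ← hf ⟨y.1, hyW⟩, ← hg, Subgroup.coe_mul, Pi.mul_apply,
        inv_mul_cancel_left]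
    obtain ⟨r', hr'⟩ := t'.2.2 y _ hg'
    refine ⟨r * r', ?_⟩
    rw [map_mul, show algebraMap _ _ r = _ from hr, show algebraMap _ _ r' = _ from hr', Units.val_mul]
    rw [mul_assoc, mul_left_comm (↑(uval f ⟨y.1, hyW⟩) : Mero.KStalk X y.1) (t'.1 y), Units.mul_inv_cancel_left]
    ring⟩

theorem prodSect_val {X : Scheme.{u}} (D E : Mero.Divisor X) (U : X.Opens) (t : Γ(Mero.divMod D, U))
    (t' : Γ(Mero.divMod E, U)) (y : U) : (prodSect D E U t t').1 y = t.1 y * t'.1 y := rfl

/-- The bilinear multiplication. -/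
noncomputable def prodBil {X : Scheme.{u}} (D E : Mero.Divisor X) (U : X.Opens) :
    Γ(Mero.divMod D, U) →ₗ[Γ(X, U)] Γ(Mero.divMod E, U) →ₗ[Γ(X, U)] Γ(Mero.divMod (D * E), U) :=
  LinearMap.mk₂ Γ(X, U) (prodSect D E U)
    (fun a b c => Subtype.ext (funext fun y => add_mul (a.1 y) (b.1 y) (c.1 y)))
    (fun r a b => Subtype.ext (funext fun y => smul_mul_assoc (gO y.1 y.2 r) (a.1 y) (b.1 y)))
    (fun a b c => Subtype.ext (funext fun y => mul_add (a.1 y) (b.1 y) (c.1 y)))
    (fun r a b => Subtype.ext (funext fun y => mul_smul_comm (gO y.1 y.2 r) (a.1 y) (b.1 y)))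

/-- Let X be an integral scheme and D, E Cartier divisors on X (global sections of the sheaf of units of
K_X modulo units of O_X, written multiplicatively, so that D · E stands for the sum of the two
divisors). Then there is a morphism of O_X-modules from the tensor product O_X(D) ⊗ O_X(E) to O_X(D
· E) which sends each section t ⊗ t' over an open subset U to the product t · t' computed in the
sheaf of meromorphic functions K_X, and this morphism is an isomorphism. (The published statement is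
for an irreducible normal variety over an algebraically closed field, where a Cartier divisor is a
locally principal Weil divisor and O_X(D) is its sheaf of rational functions φ with div φ + D ≥ 0
locally, a subsheaf of the constant sheaf of rational functions equal to O_U · φ⁻¹ wherever D is the
divisor of φ; this row states it for the fractional ideals O_X(D) ⊆ K_X of Cartier divisors on an
arbitrary integral scheme.) -/
theorem result (X : Scheme.{u}) [AlgebraicGeometry.IsIntegral X]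
    (D E : Mero.Divisor X) :
    ∃ μ : CohB1.tensorMod (Mero.divMod D) (Mero.divMod E) ⟶ Mero.divMod (D * E),
      (∀ (U : X.Opens) (t : Γ(Mero.divMod D, U)) (t' : Γ(Mero.divMod E, U)),
        (Mero.divModι (D * E)).app U (μ.app U (SecTwist.tmul (Mero.divMod D) (Mero.divMod E) U t t')) =
          (Mero.divModι D).app U t * (Mero.divModι E).app U t') ∧
      IsIso μ := by
  let μ : CohB1.tensorMod (Mero.divMod D) (Mero.divMod E) ⟶ Mero.divMod (D * E) :=
    TMul.lift (prodBil D E) fun _ _ _ => Subtype.ext (funext fun _ => rfl)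
  have hμ : ∀ (U : X.Opens) (t : Γ(Mero.divMod D, U)) (t' : Γ(Mero.divMod E, U)),
      μ.app U (TMul.tm t t') = prodSect D E U t t' := fun U t t' =>
    TMul.lift_tm (prodBil D E) (fun _ _ _ => Subtype.ext (funext fun _ => rfl)) t t'
  refine ⟨μ, fun U t t' => Subtype.ext (funext fun y => ?_), RelTilde.isIso_of_bijective_near μ fun x => ?_⟩
  · exact congrArg (fun w : Γ(Mero.divMod (D * E), U) => w.1 y) (hμ U t t')
  · obtain ⟨U, f, -, hxU, hf⟩ := exists_local D x
    obtain ⟨U', f', -, hxU', hf'⟩ := exists_local E x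
    obtain ⟨V, hxV, F, hF⟩ : ∃ (V : X.Opens) (_ : x ∈ V ∧ V ≤ U ⊓ U') (F : (Γ(Mero.kmod X, V))ˣ),
        ∀ (y : V) (h : y.1 ∈ U) (h' : y.1 ∈ U'),
          uval F y = uval f ⟨y.1, h⟩ * uval f' ⟨y.1, h'⟩ :=
      ⟨U ⊓ U', ⟨⟨hxU, hxU'⟩, le_rfl⟩,
        Units.map ((Mero.kring X).obj.map (homOfLE (inf_le_left : U ⊓ U' ≤ U)).op).hom.toMonoidHom f *
        Units.map ((Mero.kring X).obj.map (homOfLE (inf_le_right : U ⊓ U' ≤ U')).op).hom.toMonoidHom f',
        fun y h h' => Units.ext rfl⟩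
    have hF' : ∀ y : V, (D * E).1 y.1 = Mero.germOf F y := fun y => by
      rw [Subgroup.coe_mul, Pi.mul_apply, hf ⟨y.1, (hxV.2 y.2).1⟩, hf' ⟨y.1, (hxV.2 y.2).2⟩, germOf_eq, germOf_eq,
        germOf_eq, hF y (hxV.2 y.2).1 (hxV.2 y.2).2, QuotientGroup.mk_mul]
    refine ⟨V, hxV.1, fun O hO => ?_⟩
    have g1 := (isGen_gen D f hf).res (hxV.2.trans inf_le_left : V ≤ U)
    have g2 := (isGen_gen E f' hf').res (hxV.2.trans inf_le_right : V ≤ U')
    have h1 := TMul.isGen_tm g1 g2 O hO
    have h2 := isGen_gen (D * E) F hF' O hO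
    refine (Function.Bijective.of_comp_iff _ h1).mp ?_
    refine Eq.mpr (congrArg _ (funext fun r => ?_)) h2
    change μ.app O (r • res _ hO _) = _
    rw [Scheme.Modules.Hom.app_smul, ← app_res, hμ]
    refine congrArg (r • ·) (Subtype.ext (funext fun y => ?_))
    change ((f⁻¹ : (Γ(Mero.kmod X, U))ˣ) : Γ(Mero.kmod X, U)).1 (⟨y.1, (hxV.2 (hO y.2)).1⟩ : U) *
      ((f'⁻¹ : (Γ(Mero.kmod X, U'))ˣ) : Γ(Mero.kmod X, U')).1 (⟨y.1, (hxV.2 (hO y.2)).2⟩ : U') =
      ((F⁻¹ : (Γ(Mero.kmod X, V))ˣ) : Γ(Mero.kmod X, V)).1 ⟨y.1, hO y.2⟩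
    have e := congrArg (fun w : (Mero.KStalk X y.1)ˣ => ((w⁻¹ : (Mero.KStalk X y.1)ˣ) : Mero.KStalk X y.1))
      (hF ⟨y.1, hO y.2⟩ (hxV.2 (hO y.2)).1 (hxV.2 (hO y.2)).2)
    simp only [mul_inv, Units.val_mul, ← map_inv] at e
    exact e.symm

end Groth.Agent.S19455
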