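import Groth.Statements.S19456
import Groth.Agent.MeroLib.DivOfMero
import Groth.Agent.ZeroSch.Basic
import Groth.Agent.TMul.Pullback
open Groth.Agent.MeroLib
open Groth.Agent.QC (res res_res app_res res_smul)

set_option autoImplicit false
universe u
open CategoryTheory CategoryTheory.Limits AlgebraicGeometry TopologicalSpace Opposite
open Mero

namespace Groth.Agent.S19456

/-- With the preceding paragraph: let X be an integral scheme, L an invertible O_X-module and s a
nonzero global section of L, given as a nonzero morphism O_X → L. Then the zero scheme Z(s) of s is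
an effective Cartier divisor: there is a divisor D on X (a global section of the sheaf of units of
K_X modulo units of O_X) which, around every point of X, on some affine open neighbourhood, is the
class of a regular function generating the ideal of Z(s) there; and there is an isomorphism of
O_X-modules L ≅ O_X(D) which carries s to the element 1 of Γ(X, O_X(D)) ⊆ K(X). (The published
statement is for an irreducible variety over an algebraically closed field; this row states it for
an arbitrary integral scheme.) -/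
theorem result (X : Scheme.{u}) [AlgebraicGeometry.IsIntegral X]
    (L : X.Modules) (hL : PicF.IsInvertible L) (s : Coh.structureModule X ⟶ L) (hs : s ≠ 0) :
    ∃ D : Mero.Divisor X, Mero.IsDivOfIdeal D (PicF2.zeroScheme L s) ∧
      ∃ e : L ≅ Mero.divMod D,
        (Mero.divModι D).app ⊤ (e.hom.app ⊤ (SecTwist.val s ⊤)) = 1 := by
  have hloc : ∀ (x : X), ∃ (V : X.Opens) (_ : IsAffineOpen V) (_ : x ∈ V) (e : Γ(L, V)) (c : Γ(X, V)),
      TMul.IsGen e ∧ SecTwist.val s V = c • e := fun x => by
    obtain ⟨O, e, hxO, he⟩ := TMul.exists_isGen hL x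
    obtain ⟨V, hV, hxV, hVle⟩ := TopologicalSpace.Opens.isBasis_iff_nbhd.mp X.isBasis_affineOpens hxO
    obtain ⟨c, hc⟩ := (he.res hVle V le_rfl).2 (SecTwist.val s V)
    simp only [Groth.Agent.QC.res_self] at hc
    exact ⟨V, hV, hxV, res L hVle e, c, he.res hVle, hc.symm⟩
  choose V hV hxV e c he hc using hloc
  have hne : ∀ x, c x ≠ 0 := by
    intro x hcx
    apply hs
    refine TMul.hom_ext_val (Groth.Agent.QC.section_eq_of_locally fun y _ => ⟨V y, le_top, hxV y, ?_⟩)
    rw [TMul.res_val, TMul.res_val, show TMul.val s (V y) = _ from hc y]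
    haveI : Nonempty (V x ⊓ V y : X.Opens) := by
      haveI : IrreducibleSpace X := inferInstance
      obtain ⟨z, hz⟩ := nonempty_preirreducible_inter (V x).2 (V y).2 ⟨x, hxV x⟩ ⟨y, hxV y⟩
      exact ⟨⟨z, hz⟩⟩
    have h1 : res L (inf_le_right : V x ⊓ V y ≤ V y) (c y • e y) = 0 := by
      rw [← hc y, show res L _ (SecTwist.val s (V y)) = TMul.val s (V x ⊓ V y) from TMul.res_val _ _,
        ← TMul.res_val (L := L) (s := s) (h := (inf_le_left : V x ⊓ V y ≤ V x)), show TMul.val s (V x) = _ from hc x, hcx, zero_smul, map_zero]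
    rw [res_smul] at h1
    have h2 := ((he y).res inf_le_right (V x ⊓ V y) le_rfl).1
      (a₁ := Groth.Agent.QC.resO X inf_le_right (c y)) (a₂ := 0) (by
        simp only [Groth.Agent.QC.res_self]
        exact h1.trans (zero_smul Γ(X, V x ⊓ V y) _).symm)
    have h3 : c y = 0 := map_injective_of_isIntegral X (homOfLE (inf_le_right : V x ⊓ V y ≤ V y)) (h2.trans (map_zero _).symm)
    rw [h3, zero_smul]
    rfl
  have hreg : ∀ x, c x ∈ Mero.regSub X (V x) := fun x y =>
    mem_nonZeroDivisors_of_ne_zero fun h0 => hne x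
      ((germ_injective_of_isIntegral X y.1 y.2) (h0.trans (map_zero _).symm))
  let t : Γ(Mero.merMod L, ⊤) := Mero.toMerFun L ⊤ (SecTwist.val s ⊤)
  have ht : ∀ (x : X) (y : V x), t.1 ⟨y.1, trivial⟩ = iK y.1 (gO y.1 y.2 (c x)) • mOne (gL L y.1 y.2 (e x)) := fun x y => by
    rw [iK_smul_mOne, ← gL_smul, ← hc x]
    refine congrArg (fun w => mOne w) ?_
    rw [show SecTwist.val s (V x) = res L (le_top : V x ≤ ⊤) (SecTwist.val s ⊤) from (TMul.res_val s (le_top : V x ≤ ⊤)).symm, gL_res]
  have htreg : Mero.IsRegularMero L t := fun x q hq => by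
    rw [show t.1 ⟨x, Opens.mem_top x⟩ = _ from ht x ⟨x, hxV x⟩, smul_smul] at hq
    exact (isUnit_iK_of_mem (Mero.germ_mem_regStalk ⟨x, hxV x⟩ (hreg x))).mul_left_eq_zero.mp
      (KStalk_coeff_eq_zero (he x) ⟨x, hxV x⟩ _ hq)
  obtain ⟨D, i, hi, hD⟩ := exists_divisor_of_mero hL t htreg
  refine ⟨D, fun x => ⟨⟨V x, hV x⟩, hxV x, c x, hreg x,
    ZeroSch.ideal_zeroScheme_eq_span _ hL ⟨V x, hV x⟩ (he x) (hc x), fun y => hD _ _ (he x) y _ ?_⟩, i, ?_⟩
  · rw [IsUnit.unit_spec]
    exact ht x y
  · refine Subtype.ext (funext fun y => sub_eq_zero.mp (htreg y.1 _ ?_))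
    rw [sub_smul, sub_eq_zero, Mero.kmod_one_apply, one_smul]
    exact (hi ⊤ (SecTwist.val s ⊤) y).symm

end Groth.Agent.S19456
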