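import Groth.Statements.S19457
import Groth.Agent.ZeroSch.Over
import Groth.Agent.TMul.Pullback
import Mathlib.AlgebraicGeometry.Properties

set_option autoImplicit false
universe u
open CategoryTheory CategoryTheory.Limits AlgebraicGeometry TopologicalSpace Opposite
open PicF2
open Groth.Agent.QC (res resO res_res res_smul resO_resO res_self resO_self)
open TMul (IsGen val res_val)

namespace Groth.Agent.S19457

/-- Let X be an integral scheme, L an invertible O_X-module and s, s' two nonzero global sections of L,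
given as nonzero morphisms O_X → L. Then the zero schemes Z(s') and Z(s) are equal (as
quasi-coherent ideal sheaves of O_X, that is, as effective Cartier divisors) if and only if s' = h ·
s for some unit h of the ring of global functions Γ(X, O_X). (The published statement is for an
irreducible variety over an algebraically closed field; this row states it for an arbitrary integral
scheme.) -/
theorem result (X : Scheme.{u}) [AlgebraicGeometry.IsIntegral X]
    (L : X.Modules) (hL : PicF.IsInvertible L) (s s' : Coh.structureModule X ⟶ L) (hs : s ≠ 0) (hs' : s' ≠ 0) :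
    PicF2.zeroScheme L s' = PicF2.zeroScheme L s ↔
      ∃ h : Γ(X, ⊤), IsUnit h ∧ (SecTwist.val s' ⊤ : Γ(L, ⊤)) = h • (SecTwist.val s ⊤ : Γ(L, ⊤)) := by
  classical
  choose U e c hU hxU _ he hc using fun x : X => TMul.exists_coeff hL s (W := ⊤) (x := x) trivial
  haveI hne : ∀ x, Nonempty (U x) := fun x => ⟨⟨x, hxU x⟩⟩
  have hinter : ∀ x y, Nonempty (U x ⊓ U y : X.Opens) := fun x y => by
    obtain ⟨z, hz, hz'⟩ := nonempty_preirreducible_inter (U x).2 (U y).2 ⟨x, hxU x⟩ ⟨y, hxU y⟩
    exact ⟨⟨z, hz, hz'⟩⟩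
  have rinj : ∀ (V W : X.Opens) (i : V ≤ W) [Nonempty V], Function.Injective (resO X i) := fun V W i _ =>
    AlgebraicGeometry.map_injective_of_isIntegral (X := X) (homOfLE i)
  have hc0 : ∀ x, c x ≠ 0 := by
    intro x h0
    refine hs (TMul.hom_ext_val (Groth.Agent.QC.section_eq_of_locally fun y _ => ⟨U y, le_top, hxU y, ?_⟩))
    rw [res_val, res_val, ZeroSch.val_zero, hc y]
    suffices c y = 0 by rw [this, zero_smul]
    haveI := hinter x y
    refine rinj _ _ (inf_le_right : U x ⊓ U y ≤ U y) ?_
    rw [map_zero]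
    refine (he y (U x ⊓ U y) inf_le_right).1 ?_
    show resO X inf_le_right (c y) • res L inf_le_right (e y) = (0 : Γ(X, U x ⊓ U y)) • res L inf_le_right (e y)
    rw [← res_smul, ← hc y, res_val, ← res_val s (inf_le_left : U x ⊓ U y ≤ U x), hc x, h0, zero_smul, zero_smul, map_zero]
  constructor
  · intro hZ
    choose d hd using fun x => (he x (U x) le_rfl).2 (val s' (U x))
    simp only [res_self] at hd
    have hu : ∀ x, ∃ u : Γ(X, U x), IsUnit u ∧ u * c x = d x := by
      intro x
      have h1 := ZeroSch.ideal_zeroScheme_eq_span s' hL ⟨U x, hU x⟩ (he x) (hd x).symm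
      have h2 := ZeroSch.ideal_zeroScheme_eq_span s hL ⟨U x, hU x⟩ (he x) (hc x)
      rw [hZ, h2, Ideal.span_singleton_eq_span_singleton] at h1
      obtain ⟨w, hw⟩ := h1
      exact ⟨w, w.isUnit, by rw [mul_comm]; exact hw⟩
    choose u hu hucd using hu
    have hval : ∀ x, val s' (U x) = u x • val s (U x) := fun x => by
      rw [hc x, smul_smul, hucd x]; exact (hd x).symm
    obtain ⟨h, hh, -⟩ := TopCat.Sheaf.existsUnique_gluing' X.sheaf U ⊤ (fun _ => homOfLE le_top)
      (fun x _ => Opens.mem_iSup.2 ⟨x, hxU x⟩) u (fun x y => by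
        haveI := hinter x y
        show resO X (inf_le_left : U x ⊓ U y ≤ U x) (u x) = resO X (inf_le_right : U x ⊓ U y ≤ U y) (u y)
        have hcx : resO X (inf_le_left : U x ⊓ U y ≤ U x) (c x) ≠ 0 := fun h0 =>
          hc0 x (rinj _ _ _ (h0.trans (map_zero _).symm))
        refine mul_right_cancel₀ hcx ((he x (U x ⊓ U y) inf_le_left).1 ?_)
        show (_ * _) • res L inf_le_left (e x) = (_ * _) • res L inf_le_left (e x)
        rw [mul_smul, mul_smul, ← res_smul, ← hc x, ← res_smul, ← hval x, res_val,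
          res_val, ← res_val s (inf_le_right : U x ⊓ U y ≤ U y), ← res_smul, ← hval y, res_val])
    have hh' : ∀ x, resO X (le_top : U x ≤ ⊤) h = u x := hh
    refine ⟨h, AlgebraicGeometry.RingedSpace.isUnit_of_isUnit_germ X.toSheafedSpace ⊤ h fun x _ => ?_, ?_⟩
    · have := (hu x).map (X.presheaf.germ (U x) x (hxU x)).hom
      rwa [← hh' x, ← show X.presheaf.germ ⊤ x trivial h = X.presheaf.germ (U x) x (hxU x) (resO X le_top h) from
        (X.presheaf.germ_res_apply (homOfLE le_top) x (hxU x) h).symm] at this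
    · refine Groth.Agent.QC.section_eq_of_locally fun y _ => ⟨U y, le_top, hxU y, ?_⟩
      show res L le_top (val s' ⊤) = res L le_top (HSMul.hSMul (α := Γ(X, ⊤)) h (val s ⊤))
      rw [res_smul, res_val, res_val, hh', hval y]
  · rintro ⟨h, hu, hval⟩
    have hv : ∀ V : X.Opens, val s' V = resO X le_top h • val s V := fun V => by
      have := congrArg (res L (le_top : V ≤ ⊤)) (show val s' ⊤ = h • val s ⊤ from hval)
      rwa [res_smul, res_val, res_val] at this
    unfold PicF2.zeroScheme
    congr 1
    funext V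
    refine @Ideal.ext Γ(X, V.1) _ _ _ fun a => ⟨fun ha => ?_, fun ha => ?_⟩
    · refine (ZeroSch.mem_zeroIdealOn s _).2 fun m => ?_
      obtain ⟨b, hb⟩ := (ZeroSch.mem_zeroIdealOn s' _).1 ha m
      exact ⟨b * resO X le_top h, by rw [hb, hv, smul_smul]⟩
    · refine (ZeroSch.mem_zeroIdealOn s' _).2 fun m => ?_
      obtain ⟨b, hb⟩ := (ZeroSch.mem_zeroIdealOn s _).1 ha m
      have hu' := hu.map (resO X (le_top : V.1 ≤ ⊤))
      exact ⟨b * (hu'.unit⁻¹ : Γ(X, V.1)ˣ), by rw [hb, hv, smul_smul, mul_assoc, IsUnit.val_inv_mul, mul_one]⟩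


end Groth.Agent.S19457
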