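import Groth.Statements.S19458
import Groth.Agent.MeroLib.Sections
import Groth.Agent.ZeroSch.Basic
import Groth.Agent.TMul.Ample
open Groth.Agent.MeroLib
open Groth.Agent.QC (res res_res app_res res_smul)

set_option autoImplicit false
universe u
open CategoryTheory CategoryTheory.Limits AlgebraicGeometry TopologicalSpace Opposite
open Mero

namespace Groth.Agent.S19458

/-- Let X be an integral scheme, L an invertible O_X-module and D an effective Cartier divisor on X (a
global section of the sheaf of units of K_X modulo units of O_X whose germ at every point is the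
class of a germ of a regular function) such that O_X(D) is isomorphic to L. Then there is a nonzero
global section s of L, given as a nonzero morphism O_X → L, whose zero scheme Z(s) is D: around
every point of X, on some affine open neighbourhood, the ideal of Z(s) is generated by a regular
function whose classes are the germs of D there. (The published statement is for an irreducible
variety over an algebraically closed field; this row states it for an arbitrary integral scheme.) -/
theorem result (X : Scheme.{u}) [AlgebraicGeometry.IsIntegral X]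
    (L : X.Modules) (hL : PicF.IsInvertible L) (D : Mero.Divisor X) (hD : Mero.IsEffective D)
    (e : L ≅ Mero.divMod D) :
    ∃ s : Coh.structureModule X ⟶ L, s ≠ 0 ∧ Mero.IsDivOfIdeal D (PicF2.zeroScheme L s) := by
  have hone : ∀ y : (⊤ : X.Opens), Mero.DivCond D y.1 ((1 : Γ(Mero.kmod X, ⊤)).1 y) := fun y => by
    obtain ⟨s, hs⟩ := hD y.1
    refine (divCond_iff hs _).mpr ⟨s, ?_⟩
    rw [Mero.kmod_one_apply, one_mul, IsUnit.unit_spec]
  let σ : Γ(Mero.divMod D, ⊤) := ⟨(1 : Γ(Mero.kmod X, ⊤)).1, (1 : Γ(Mero.kmod X, ⊤)).2, hone⟩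
  let t : Γ(L, ⊤) := e.inv.app ⊤ σ
  refine ⟨TMul.homOf t, fun h0 => ?_, fun x => ?_⟩
  · have h1 : res L (le_top : (⊤ : X.Opens) ≤ ⊤) t = 0 :=
      (TMul.val_homOf t ⊤).symm.trans (by rw [h0]; rfl)
    rw [Groth.Agent.QC.res_self] at h1
    have h2 : σ = 0 := (ConcreteCategory.bijective_of_isIso (e.inv.app ⊤)).1 (h1.trans (map_zero _).symm)
    obtain ⟨x⟩ : Nonempty X := inferInstance
    exact one_ne_zero (α := Mero.KStalk X x) (congrArg (fun w : Γ(Mero.divMod D, ⊤) => w.1 ⟨x, trivial⟩) h2)
  · obtain ⟨U₁, f, -, hxU₁, hf⟩ := exists_local D x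
    obtain ⟨U, hU, hxU, hUle⟩ := TopologicalSpace.Opens.isBasis_iff_nbhd.mp X.isBasis_affineOpens hxU₁
    obtain ⟨c, hc⟩ := (isGen_gen D f hf U hUle).2 (res (Mero.divMod D) le_top σ)
    have hcv : ∀ y : U, iK y.1 (gO y.1 y.2 c) = (f : Γ(Mero.kmod X, U₁)).1 ⟨y.1, hUle y.2⟩ := fun y => by
      have h1 : gO y.1 y.2 c • ((f⁻¹ : (Γ(Mero.kmod X, U₁))ˣ) : Γ(Mero.kmod X, U₁)).1 ⟨y.1, hUle y.2⟩ = 1 :=
        congrArg (fun w : Γ(Mero.divMod D, U) => w.1 y) hc
      rw [Algebra.smul_def] at h1
      have h2 := congrArg (· * (f : Γ(Mero.kmod X, U₁)).1 ⟨y.1, hUle y.2⟩) h1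
      simp only [mul_assoc, uval_inv, mul_one, one_mul] at h2
      exact h2
    have hcreg : c ∈ Mero.regSub X U := fun y => by
      refine regular_of_isUnit (uval f ⟨y.1, hUle y.2⟩).isUnit (one_mem _) ?_
      rw [map_one, mul_one, uval_val]
      exact (hcv y).symm
    refine ⟨⟨U, hU⟩, hxU, c, hcreg, ?_, fun y => ?_⟩
    · refine ZeroSch.ideal_zeroScheme_eq_span _ hL ⟨U, hU⟩
        (e := res L hUle (e.inv.app _ (gen D f hf))) ((IsGen.map_iso e.inv (isGen_gen D f hf)).res hUle) ?_
      rw [TMul.val_homOf, app_res]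
      have h3 := congrArg (e.inv.app U) hc
      rw [Scheme.Modules.Hom.app_smul] at h3
      rw [app_res]
      exact h3.symm
    · rw [hf ⟨y.1, hUle y.2⟩, germOf_eq]
      refine congrArg _ (Units.ext ?_)
      rw [uval_val, IsUnit.unit_spec]
      exact (hcv y).symm

end Groth.Agent.S19458
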