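import Groth.Statements.S19459
import Groth.Agent.MeroLib.Sections
import Groth.Agent.ZeroSch.Basic
import Groth.Agent.TMul.Ample
open Groth.Agent.MeroLib
open Groth.Agent.QC (res res_res app_res res_smul)

set_option autoImplicit false
universe u
open CategoryTheory CategoryTheory.Limits AlgebraicGeometry TopologicalSpace Opposite
open Mero

namespace Groth.Agent.S19459

/-- Let X be an integral scheme, L₁ and L₂ invertible O_X-modules with nonzero global sections s₁ and s₂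
(nonzero morphisms O_X → L₁ and O_X → L₂), and let D₁, D₂ be the effective Cartier divisors of the
zero schemes Z(s₁), Z(s₂): divisors on X (global sections of the sheaf of units of K_X modulo units
of O_X) which around every point, on some affine open neighbourhood, are the class of a regular
function generating the ideal of the zero scheme. Then the divisor D₁ · D₂ (multiplicative notation
for the sum D₁ + D₂) is in the same sense the effective Cartier divisor of the zero scheme of the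
global section s₁ ⊗ s₂ of the tensor product L₁ ⊗ L₂; that is, Z(s₁ ⊗ s₂) = Z(s₁) + Z(s₂). (The
published statement is for an irreducible variety over an algebraically closed field; this row
states it for an arbitrary integral scheme.) -/
theorem result (X : Scheme.{u}) [AlgebraicGeometry.IsIntegral X]
    (L₁ L₂ : X.Modules) (hL₁ : PicF.IsInvertible L₁) (hL₂ : PicF.IsInvertible L₂)
    (s₁ : Coh.structureModule X ⟶ L₁) (s₂ : Coh.structureModule X ⟶ L₂) (hs₁ : s₁ ≠ 0) (hs₂ : s₂ ≠ 0)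
    (D₁ D₂ : Mero.Divisor X) (hD₁ : Mero.IsDivOfIdeal D₁ (PicF2.zeroScheme L₁ s₁))
    (hD₂ : Mero.IsDivOfIdeal D₂ (PicF2.zeroScheme L₂ s₂)) :
    Mero.IsDivOfIdeal (D₁ * D₂) (PicF2.zeroScheme (CohB1.tensorMod L₁ L₂) (SecTwist.tmulHom s₁ s₂)) := by
  intro x
  obtain ⟨A₁, hxA₁, f₁, hf₁, hI₁, hD₁'⟩ := hD₁ x
  obtain ⟨A₂, hxA₂, f₂, hf₂, hI₂, hD₂'⟩ := hD₂ x
  obtain ⟨O₁, e₁, hxO₁, he₁⟩ := TMul.exists_isGen hL₁ x
  obtain ⟨O₂, e₂, hxO₂, he₂⟩ := TMul.exists_isGen hL₂ x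
  obtain ⟨V, hV, hxV, hVle⟩ := TopologicalSpace.Opens.isBasis_iff_nbhd.mp X.isBasis_affineOpens
    (show x ∈ A₁.1 ⊓ A₂.1 ⊓ (O₁ ⊓ O₂) from ⟨⟨hxA₁, hxA₂⟩, hxO₁, hxO₂⟩)
  have hVA₁ : V ≤ A₁.1 := hVle.trans (inf_le_left.trans inf_le_left)
  have hVA₂ : V ≤ A₂.1 := hVle.trans (inf_le_left.trans inf_le_right)
  haveI : Nonempty (V : X.Opens) := ⟨⟨x, hxV⟩⟩
  haveI : IsDomain Γ(X, V) := AlgebraicGeometry.IsIntegral.component_integral V
  have g₁ := he₁.res (hVle.trans (inf_le_right.trans inf_le_left))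
  have g₂ := he₂.res (hVle.trans (inf_le_right.trans inf_le_right))
  have main : ∀ (L : X.Modules) (hL : PicF.IsInvertible L) (s : Coh.structureModule X ⟶ L) (D : Mero.Divisor X)
      (A : X.affineOpens) (hVA : V ≤ A.1) (f : Γ(X, A.1)) (hf : f ∈ Mero.regSub X A.1)
      (_ : (PicF2.zeroScheme L s).ideal A = Ideal.span {f})
      (_ : ∀ y : (A : X.Opens), D.1 y.1 =
        QuotientGroup.mk (IsLocalization.map_units (Mero.KStalk X y.1) (Mero.regGerm y ⟨f, hf⟩)).unit)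
      (e : Γ(L, V)) (_ : TMul.IsGen e),
      ∃ c : Γ(X, V), SecTwist.val s V = c • e ∧ c ∈ Mero.regSub X V ∧ ∀ (y : V) (hc : c ∈ Mero.regSub X V),
        D.1 y.1 = QuotientGroup.mk (IsLocalization.map_units (Mero.KStalk X y.1) (Mero.regGerm y ⟨c, hc⟩)).unit := by
    intro L hL s D A hVA f hf hI hD e he
    obtain ⟨c, hc⟩ := (he V le_rfl).2 (SecTwist.val s V)
    simp only [Groth.Agent.QC.res_self] at hc
    have h1 := ZeroSch.ideal_zeroScheme_eq_span s hL ⟨V, hV⟩ he hc.symm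
    have h2 := (PicF2.zeroScheme L s).map_ideal (U := ⟨V, hV⟩) (V := A) hVA
    rw [hI, Ideal.map_span, Set.image_singleton, h1, Ideal.span_singleton_eq_span_singleton] at h2
    obtain ⟨u, hu⟩ := h2
    have hfc : ∀ y : V, gO y.1 y.2 c = gO y.1 (hVA y.2) f * gO y.1 y.2 (u : Γ(X, V)) := fun y => by
      rw [← hu, map_mul]
      exact congrArg (· * _) (TopCat.Presheaf.germ_res_apply X.presheaf _ y.1 y.2 f)
    have hcreg : c ∈ Mero.regSub X V := fun y => by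
      change gO y.1 y.2 c ∈ _
      rw [hfc y]
      exact mul_mem (hf ⟨y.1, hVA y.2⟩) (u.isUnit.map (gO y.1 y.2)).mem_nonZeroDivisors
    refine ⟨c, hc.symm, hcreg, fun y hc' => ?_⟩
    rw [hD ⟨y.1, hVA y.2⟩, mk_eq_mk_iff]
    refine ⟨gO y.1 y.2 (u : Γ(X, V)), u.isUnit.map _, ?_⟩
    rw [IsUnit.unit_spec, IsUnit.unit_spec]
    exact (congrArg (iK y.1) (hfc y)).trans (map_mul _ _ _)
  obtain ⟨c₁, hc₁, hr₁, hd₁⟩ := main L₁ hL₁ s₁ D₁ A₁ hVA₁ f₁ hf₁ hI₁ hD₁' _ g₁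
  obtain ⟨c₂, hc₂, hr₂, hd₂⟩ := main L₂ hL₂ s₂ D₂ A₂ hVA₂ f₂ hf₂ hI₂ hD₂' _ g₂
  refine ⟨⟨V, hV⟩, hxV, c₁ * c₂, mul_mem hr₁ hr₂, ?_, fun y => ?_⟩
  · refine ZeroSch.ideal_zeroScheme_eq_span _ (TMul.isInvertible_tensorMod hL₁ hL₂) ⟨V, hV⟩ (TMul.isGen_tm g₁ g₂) ?_
    refine (SecTwist.val_tmulHom s₁ s₂ V).trans ?_
    rw [hc₁, hc₂]
    change TMul.tm (c₁ • _) (c₂ • _) = _
    rw [TMul.smul_tm, TMul.tm_smul, smul_smul]
  · rw [Subgroup.coe_mul, Pi.mul_apply, hd₁ y hr₁, hd₂ y hr₂, ← QuotientGroup.mk_mul]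
    refine congrArg _ (Units.ext ?_)
    rw [Units.val_mul, IsUnit.unit_spec, IsUnit.unit_spec, IsUnit.unit_spec, ← map_mul]
    exact congrArg (iK y.1) (map_mul _ _ _).symm

end Groth.Agent.S19459
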