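import Groth.Statements.S19460
import Groth.Agent.SmDiff.Closed
import Groth.Agent.SmDiv.Main
-- import your own Groth.Agent.* helpers here

set_option autoImplicit false
universe u
open CategoryTheory CategoryTheory.Limits AlgebraicGeometry
open Variety

open CategoryTheory CategoryTheory.Limits AlgebraicGeometry TopologicalSpace
set_option linter.style.haveILetI false
set_option backward.isDefEq.respectTransparency false

namespace Groth.Agent.S19460

/-- a smooth morphism has a relative dimension near every point -/
lemma exists_opens_relDim {X Y : Scheme.{u}} (f : X ⟶ Y) [Smooth f] (x : X) :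
    ∃ (W : X.Opens) (n : ℕ), x ∈ W ∧ SmoothOfRelativeDimension n (W.ι ≫ f) := by
  obtain ⟨U, hU, W, hW, hxW, e, h⟩ := Smooth.exists_isStandardSmooth f x
  letI := (f.appLE U W e).hom.toAlgebra
  obtain ⟨ι, σ, _, _, ⟨P⟩⟩ := h
  have hn : (f.appLE U W e).hom.IsStandardSmoothOfRelativeDimension P.dimension :=
    ⟨ι, σ, _, ‹_›, P, rfl⟩
  haveI : IsAffine (W : Scheme.{u}) := hW
  refine ⟨W, P.dimension, hxW, ⟨fun w => ⟨U, hU, ⊤, isAffineOpen_top _, trivial, fun v _ => e v.2, ?_⟩⟩⟩
  have eq : (W.ι ≫ f).appLE U ⊤ (fun v _ => e v.2) = f.appLE U W e ≫ W.topIso.inv := by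
    simp only [Scheme.Hom.appLE, Scheme.Hom.comp_app, Category.assoc]
    congr 1
    simp [Scheme.Opens.topIso, Scheme.Opens.ι_app]
    rw [← Functor.map_comp, ← Functor.map_comp]
    rfl
  rw [eq]
  exact RingHom.isStandardSmoothOfRelativeDimension_respectsIso.left _ W.topIso.symm.commRingCatIsoToRingEquiv hn


/-- Let k be an algebraically closed field, X and Y smooth irreducible varieties over k (integral,
separated, of finite type and smooth over k) of dimensions dX and dY, and f : X → Y a k-morphism
which is smooth in the sense that at every closed point x of X the tangent map T_x X → T_{f(x)} Y is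
surjective, equivalently the cotangent map m_{f(x)}/m_{f(x)}² → m_x/m_x² of the local rings is
injective. Then f is dominant, dY ≤ dX, and for every closed point y of Y in the image of f the
scheme-theoretic fibre X_y is smooth over the residue field κ(y) (which is k) and each of its
irreducible components has dimension dX − dY. (The published statement is for varieties in the
classical sense, with the fibre carrying its reduced structure, and it also identifies the tangent
space of the fibre at each point with the kernel of the tangent map; that identification is not part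
of this row.) -/
theorem result (k : Type u) [Field k] [IsAlgClosed k]
    {X Y : Scheme.{u}} (qX : X ⟶ Spec (CommRingCat.of k)) (qY : Y ⟶ Spec (CommRingCat.of k))
    [AlgebraicGeometry.IsIntegral X] [IsSeparated qX] [LocallyOfFiniteType qX] [QuasiCompact qX] [Smooth qX]
    [AlgebraicGeometry.IsIntegral Y] [IsSeparated qY] [LocallyOfFiniteType qY] [QuasiCompact qY] [Smooth qY]
    (f : X ⟶ Y) (hf : f ≫ qY = qX) (dX dY : ℕ) (hX : topologicalKrullDim ↥X = dX)
    (hY : topologicalKrullDim ↥Y = dY)
    (hT : ∀ x : X, IsClosed ({x} : Set ↥X) → Function.Injective (FixPt.cotangentMapAt f x (f.base x) rfl)) :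
    DenseRange f.base ∧ dY ≤ dX ∧
      ∀ y : Y, IsClosed ({y} : Set ↥Y) → y ∈ Set.range f.base →
        Smooth (f.fiberToSpecResidueField y) ∧
          ∀ Z ∈ irreducibleComponents ↥(f.fiber y),
            topologicalKrullDim ↥Z = ((dX - dY : ℕ) : WithBot ℕ∞) := by
  haveI : JacobsonSpace X := LocallyOfFiniteType.jacobsonSpace qX
  haveI : LocallyOfFiniteType (f ≫ qY) := hf ▸ inferInstance
  haveI : QuasiCompact (f ≫ qY) := hf ▸ inferInstance
  haveI : LocallyOfFiniteType f := locallyOfFiniteType_of_comp f qY
  haveI : QuasiCompact f := QuasiCompact.of_comp f qY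
  haveI : IsLocallyNoetherian Y := LocallyOfFiniteType.isLocallyNoetherian qY
  haveI : LocallyOfFinitePresentation f := LocallyOfFinitePresentation.iff_locallyOfFiniteType.2 inferInstance
  haveI : Smooth f := Scheme.Hom.smoothLocus_eq_top_iff.1 <| by
    by_contra hne
    obtain ⟨z, hz, hzc⟩ := nonempty_inter_closedPoints (X := X) (Z := ((f.smoothLocus : Set X))ᶜ)
      (Set.nonempty_compl.2 fun h' => hne (Opens.ext h')) f.smoothLocus.2.isClosed_compl.isLocallyClosed
    exact hz (Scheme.Hom.mem_smoothLocus.2 ((SmDiff.formallySmooth_stalkMap_iff_injective qX qY f hf hzc).2 (hT z hzc)))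
  obtain ⟨x₀⟩ : Nonempty X := inferInstance
  have hdense : DenseRange f.base :=
    (f.isOpenMap.isOpen_range.dense ⟨f x₀, Set.mem_range_self x₀⟩)
  have hle : dY ≤ dX := by
    obtain ⟨W, m, hxW, hW⟩ := exists_opens_relDim f x₀
    haveI := SmDiff.smoothOfRelativeDimension_of_dim qY dY hY
    haveI : SmoothOfRelativeDimension (m + dY) ((W.ι ≫ f) ≫ qY) := inferInstance
    haveI : Nonempty (W : Scheme.{u}) := ⟨⟨x₀, hxW⟩⟩
    have h1 := SmDiv.topologicalKrullDim_eq ((W.ι ≫ f) ≫ qY) (m + dY)
    have h2 := W.ι.isOpenEmbedding.isInducing.topologicalKrullDim_le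
    rw [h1, hX, Nat.cast_le] at h2
    omega
  obtain ⟨n, rfl⟩ := Nat.exists_eq_add_of_le hle
  haveI := SmDiff.smoothOfRelativeDimension_of_smooth qX qY f hf n dY hY hX
  refine ⟨hdense, hle, fun y _ _ => ?_⟩
  haveI : SmoothOfRelativeDimension n (f.fiberToSpecResidueField y) :=
    (smoothOfRelativeDimension_isStableUnderBaseChange n).of_isPullback
      (IsPullback.of_hasPullback f (Y.fromSpecResidueField y)) inferInstance
  refine ⟨SmoothOfRelativeDimension.smooth n _, fun Z hZ => ?_⟩
  rw [Nat.add_sub_cancel_left]
  haveI : LocallyOfFiniteType (f.fiberToSpecResidueField y) :=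
    MorphismProperty.pullback_snd _ _ inferInstance
  haveI : QuasiCompact (f.fiberToSpecResidueField y) := MorphismProperty.pullback_snd _ _ inferInstance
  haveI : IsLocallyNoetherian (f.fiber y) := LocallyOfFiniteType.isLocallyNoetherian (f.fiberToSpecResidueField y)
  haveI : CompactSpace (f.fiber y) := QuasiCompact.compactSpace_of_compactSpace (f.fiberToSpecResidueField y)
  haveI : AlgebraicGeometry.IsNoetherian (f.fiber y) := ⟨⟩
  obtain ⟨o, ho, hone, hoZ⟩ := NoetherianSpace.exists_isOpen_nonempty_subset_irreducibleComponent Z hZ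
  haveI : Nonempty (f.fiber y) := ⟨hone.some⟩
  refine le_antisymm ((Topology.IsInducing.subtypeVal.topologicalKrullDim_le).trans_eq
    (SmDiv.topologicalKrullDim_eq (f.fiberToSpecResidueField y) n)) ?_
  let O : (f.fiber y).Opens := ⟨o, ho⟩
  haveI : Nonempty (O : Scheme.{u}) := hone.to_subtype
  haveI : SmoothOfRelativeDimension n (O.ι ≫ f.fiberToSpecResidueField y) := by
    have : SmoothOfRelativeDimension (0 + n) (O.ι ≫ f.fiberToSpecResidueField y) := inferInstance
    rwa [zero_add] at this
  rw [← SmDiv.topologicalKrullDim_eq (O.ι ≫ f.fiberToSpecResidueField y) n]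
  exact (Topology.IsEmbedding.inclusion hoZ).isInducing.topologicalKrullDim_le

end Groth.Agent.S19460
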