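import Groth.Statements.S19462
import Mathlib.RingTheory.Finiteness.Basic
import Mathlib.LinearAlgebra.StdBasis
import Mathlib.RingTheory.Finiteness.Nakayama


set_option autoImplicit false
universe u
open GrNak

namespace Groth.Agent.S19462

/-- Let k be a field and R a commutative ℤ-graded k-algebra whose pieces of negative degree vanish and
whose degree-zero piece is the image of k, and let M be a finitely generated ℤ-graded R-module,
graded compatibly with R. Then M is a projective R-module if and only if M has an R-basis consisting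
of homogeneous elements, i.e. M is a free graded module. (The published statement takes R a graded
quotient of a polynomial ring k[x_0, …, x_n] with its standard grading; stated here for any
commutative graded k-algebra concentrated in non-negative degrees with degree-zero part k, to which
the same graded-Nakayama argument applies.) -/
theorem result {k : Type u} [Field k] {R : Type u} [CommRing R] [Algebra k R]
    {σ : Type u} [SetLike σ R] [AddSubmonoidClass σ R] (𝒜 : ℤ → σ) [GradedRing 𝒜]
    (hneg : ∀ i : ℤ, i < 0 → ∀ x ∈ 𝒜 i, x = 0)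
    (hk : ∀ c : k, algebraMap k R c ∈ 𝒜 0) (h0 : ∀ x ∈ 𝒜 0, ∃ c : k, algebraMap k R c = x)
    {M : Type u} [AddCommGroup M] [Module R M] [Module.Finite R M]
    {τ : Type u} [SetLike τ M] [AddSubmonoidClass τ M] (ℳ : ℤ → τ) [DirectSum.Decomposition ℳ]
    [SetLike.GradedSMul 𝒜 ℳ] :
    Module.Projective R M ↔
      ∃ (ι : Type u) (b : Module.Basis ι R M), ∀ i : ι, SetLike.IsHomogeneousElem ℳ (b i) := by
  classical
  constructor
  swap
  · rintro ⟨ι, b, -⟩
    exact Module.Projective.of_basis b
  intro hproj
  have hsmem : ∀ {i j : ℤ} {r : R} {z : M}, r ∈ 𝒜 i → z ∈ ℳ j → r • z ∈ ℳ (i + j) :=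
    fun hr hz => SetLike.GradedSMul.smul_mem hr hz
  have hcomp : ∀ {j : ℤ} (N : Submodule R M) (r : R) (z : M), z ∈ ℳ j → ∀ d : ℤ,
      (∀ i, i + j = d → (DirectSum.decompose 𝒜 r i : R) • z ∈ N) →
      (DirectSum.decompose ℳ (r • z) d : M) ∈ N := by
    intro j N r z hz d h
    conv =>
      arg 2
      rw [← DirectSum.sum_support_decompose 𝒜 r, Finset.sum_smul, DirectSum.decompose_sum,
        DFinsupp.finset_sum_apply, AddSubmonoidClass.coe_finsetSum]
    refine Submodule.sum_mem _ fun i _ => ?_
    by_cases hij : i + j = d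
    · subst hij
      rw [DirectSum.decompose_of_mem_same ℳ (hsmem (SetLike.coe_mem _) hz)]
      exact h i rfl
    · rw [DirectSum.decompose_of_mem_ne ℳ (hsmem (SetLike.coe_mem _) hz) hij]
      exact N.zero_mem
  -- a minimal finite set of homogeneous generators
  have hgen : ∃ n : ℕ, ∃ s : Finset M, s.card = n ∧ (∀ x ∈ s, SetLike.IsHomogeneousElem ℳ x) ∧
      Submodule.span R (s : Set M) = ⊤ := by
    obtain ⟨g, hg⟩ := (Module.Finite.fg_top (R := R) (M := M))
    refine ⟨_, g.biUnion (fun x => (DirectSum.decompose ℳ x).support.image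
      fun i => (DirectSum.decompose ℳ x i : M)), rfl, ?_, ?_⟩
    · intro y hy
      simp only [Finset.mem_biUnion, Finset.mem_image] at hy
      obtain ⟨x, -, i, -, rfl⟩ := hy
      exact ⟨i, SetLike.coe_mem _⟩
    · rw [← top_le_iff, ← hg, Submodule.span_le]
      intro x hx
      rw [← DirectSum.sum_support_decompose ℳ x]
      refine Submodule.sum_mem _ fun i hi => Submodule.subset_span ?_
      simp only [Finset.coe_biUnion, Set.mem_iUnion, Finset.coe_image, Set.mem_image]
      exact ⟨x, hx, i, hi, rfl⟩
  obtain ⟨s, hscard, hshom, hsspan⟩ := Nat.find_spec hgen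
  have hmin : ∀ x ∈ s, Submodule.span R ((s.erase x : Finset M) : Set M) ≠ ⊤ := by
    intro x hx htop
    have := Nat.find_min' hgen
      ⟨s.erase x, rfl, fun y hy => hshom y (Finset.mem_of_mem_erase hy), htop⟩
    have := Finset.card_erase_lt_of_mem hx
    omega
  choose d hd using hshom
  -- the irrelevant ideal
  let 𝔪 : Ideal R := Ideal.span {x | ∃ i : ℤ, 0 < i ∧ x ∈ 𝒜 i}
  have hm0 : ∀ r ∈ 𝔪, ∀ l : ℤ, l ≤ 0 → (DirectSum.decompose 𝒜 r l : R) = 0 := by
    intro r hr
    induction hr using Submodule.span_induction with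
    | mem x hx =>
      obtain ⟨i, hi, hx⟩ := hx
      intro l hl
      exact DirectSum.decompose_of_mem_ne 𝒜 hx (by omega)
    | zero => intro l _; simp
    | add x y _ _ hx hy => intro l hl; simp [hx l hl, hy l hl]
    | smul a x _ hx =>
      intro l hl
      rw [smul_eq_mul, ← DirectSum.sum_support_decompose 𝒜 x, Finset.mul_sum,
        DirectSum.decompose_sum, DFinsupp.finset_sum_apply, AddSubmonoidClass.coe_finsetSum]
      refine Finset.sum_eq_zero fun i _ => ?_
      rcases le_or_gt i 0 with hi | hi
      · rw [hx i hi]; simp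
      · have := DirectSum.coe_decompose_mul_add_of_right_mem 𝒜
          (a := a) (i := l - i) (SetLike.coe_mem (DirectSum.decompose 𝒜 x i))
        rw [sub_add_cancel] at this
        rw [this, hneg (l - i) (by omega) _ (SetLike.coe_mem _), zero_mul]
  have hm1 : ∀ r : R, (DirectSum.decompose 𝒜 r 0 : R) = 0 → r ∈ 𝔪 := by
    intro r hr
    rw [← DirectSum.sum_support_decompose 𝒜 r]
    refine Submodule.sum_mem _ fun i _ => ?_
    rcases lt_trichotomy i 0 with hi | hi | hi
    · rw [hneg i hi _ (SetLike.coe_mem _)]; exact zero_mem _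
    · subst hi; rw [hr]; exact zero_mem _
    · exact Ideal.subset_span ⟨i, hi, SetLike.coe_mem _⟩
  let π : (↥s → R) →ₗ[R] M := Fintype.linearCombination R (fun x : s => (x : M))
  have hπapply : ∀ f, π f = ∑ x : s, f x • (x : M) := fun f => Fintype.linearCombination_apply _ _ f
  have hπ : Function.Surjective π := by
    rw [← LinearMap.range_eq_top, Fintype.range_linearCombination, ← hsspan]
    congr 1
    exact Subtype.range_coe
  obtain ⟨σ', hσ⟩ := Module.projective_lifting_property π LinearMap.id hπ
  have hker : ∀ f, π f = 0 → ∀ x, f x ∈ 𝔪 := by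
    intro f hf x
    by_contra hfx
    refine hmin x x.2 ?_
    set N := Submodule.span R ((s.erase (x : M) : Finset M) : Set M)
    rw [← top_le_iff, ← hsspan, Submodule.span_le]
    intro y hy
    by_cases hyx : y = x
    swap
    · exact Submodule.subset_span (Finset.mem_coe.mpr (Finset.mem_erase.mpr ⟨hyx, hy⟩))
    rw [hyx]
    have hd0 := congrArg (fun z => (DirectSum.decompose ℳ z (d x x.2) : M)) hf
    simp only [hπapply, DirectSum.decompose_sum, DirectSum.decompose_zero, DirectSum.zero_apply,
      ZeroMemClass.coe_zero] at hd0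
    rw [← Finset.add_sum_erase _ _ (Finset.mem_univ x), DirectSum.add_apply, AddMemClass.coe_add,
      DFinsupp.finset_sum_apply, AddSubmonoidClass.coe_finsetSum] at hd0
    have hrest : ∑ z ∈ Finset.univ.erase x,
        (DirectSum.decompose ℳ (f z • (z : M)) (d x x.2) : M) ∈ N := by
      refine Submodule.sum_mem _ fun z hz => hcomp N _ _ (hd z z.2) _ fun i _ => N.smul_mem _ ?_
      refine Submodule.subset_span (Finset.mem_coe.mpr (Finset.mem_erase.mpr ⟨?_, z.2⟩))
      exact fun h => (Finset.mem_erase.mp hz).1 (Subtype.ext h)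
    obtain ⟨c, hc⟩ := h0 _ (SetLike.coe_mem (DirectSum.decompose 𝒜 (f x) 0))
    have hcne : c ≠ 0 := by
      rintro rfl
      rw [map_zero] at hc
      exact hfx (hm1 _ hc.symm)
    have hmain : (DirectSum.decompose ℳ (f x • (x : M)) (d x x.2) : M) =
        algebraMap k R c • (x : M) := by
      conv_lhs => rw [← DirectSum.sum_support_decompose 𝒜 (f x), Finset.sum_smul,
        DirectSum.decompose_sum, DFinsupp.finset_sum_apply, AddSubmonoidClass.coe_finsetSum]
      rw [Finset.sum_eq_single (0 : ℤ)]
      · rw [hc, DirectSum.decompose_of_mem_same ℳ]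
        simpa using hsmem (SetLike.coe_mem (DirectSum.decompose 𝒜 (f x) 0)) (hd x x.2)
      · intro i _ hi
        rw [DirectSum.decompose_of_mem_ne ℳ (hsmem (SetLike.coe_mem _) (hd x x.2)) (by omega)]
      · intro h
        rw [DFinsupp.notMem_support_iff.mp h]
        simp
    rw [hmain] at hd0
    have hmem : algebraMap k R c • (x : M) ∈ N := by
      rw [eq_neg_of_add_eq_zero_left hd0]; exact N.neg_mem hrest
    have hx1 : (x : M) = algebraMap k R c⁻¹ • (algebraMap k R c • (x : M)) := by
      rw [smul_smul, ← map_mul, inv_mul_cancel₀ hcne, map_one, one_smul]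
    show (x : M) ∈ N
    rw [hx1]
    exact N.smul_mem _ hmem
  -- the kernel vanishes
  let K := LinearMap.ker π
  let pr : (↥s → R) →ₗ[R] (↥s → R) := LinearMap.id - σ'.comp π
  have hprmem : ∀ f, pr f ∈ K := fun f => by
    show π (f - σ' (π f)) = 0
    rw [map_sub, ← LinearMap.comp_apply π σ', hσ, LinearMap.id_apply, sub_self]
  have hprid : ∀ f ∈ K, pr f = f := fun f hf => by
    show f - σ' (π f) = f
    rw [show π f = 0 from hf, map_zero, sub_zero]
  have hKeq : K = LinearMap.range pr := le_antisymm (fun f hf => ⟨f, hprid f hf⟩)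
    (by rintro _ ⟨f, rfl⟩; exact hprmem f)
  have hKfg : K.FG := by
    rw [hKeq, LinearMap.range_eq_map]; exact Submodule.FG.map pr Module.Finite.fg_top
  have hKm : K ≤ 𝔪 • K := by
    intro f hf
    rw [← hprid f hf, pi_eq_sum_univ f, map_sum]
    refine Submodule.sum_mem _ fun z _ => ?_
    rw [map_smul]
    exact Submodule.smul_mem_smul (hker f hf z) (hprmem _)
  obtain ⟨a, ha, ha0⟩ := Submodule.exists_sub_one_mem_and_smul_eq_zero_of_fg_of_le_smul 𝔪 K hKfg hKm
  have hreg : ∀ x : R, a * x = 0 → x = 0 := by
    intro x hx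
    by_contra hne
    have hsupp : (DirectSum.decompose 𝒜 x).support.Nonempty := by
      rw [Finset.nonempty_iff_ne_empty]
      intro h
      exact hne (by rw [← DirectSum.sum_support_decompose 𝒜 x, h, Finset.sum_empty])
    obtain ⟨l, hl, hlmin⟩ := Finset.exists_min_image _ id hsupp
    have h2 := congrArg (fun z => (DirectSum.decompose 𝒜 z l : R)) hx
    simp only [DirectSum.decompose_zero, DirectSum.zero_apply, ZeroMemClass.coe_zero] at h2
    rw [show a * x = (a - 1) * x + x by ring, DirectSum.decompose_add, DirectSum.add_apply,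
      AddMemClass.coe_add] at h2
    have hz : (DirectSum.decompose 𝒜 ((a - 1) * x) l : R) = 0 := by
      rw [← DirectSum.sum_support_decompose 𝒜 x, Finset.mul_sum, DirectSum.decompose_sum,
        DFinsupp.finset_sum_apply, AddSubmonoidClass.coe_finsetSum]
      refine Finset.sum_eq_zero fun i hi => ?_
      have := DirectSum.coe_decompose_mul_add_of_right_mem 𝒜
        (a := a - 1) (i := l - i) (SetLike.coe_mem (DirectSum.decompose 𝒜 x i))
      rw [sub_add_cancel] at this
      have hil : l ≤ i := hlmin i hi
      rw [this, hm0 _ ha (l - i) (by omega), zero_mul]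
    rw [hz, zero_add] at h2
    exact (DFinsupp.mem_support_iff.mp hl) (Subtype.ext (by rw [h2, ZeroMemClass.coe_zero]))
  have hinj : Function.Injective π := by
    rw [← LinearMap.ker_eq_bot, eq_bot_iff]
    intro f hf
    rw [Submodule.mem_bot]
    funext z
    exact hreg _ (congrFun (ha0 f hf) z)
  let e : (↥s → R) ≃ₗ[R] M := LinearEquiv.ofBijective π ⟨hinj, hπ⟩
  refine ⟨↥s, (Pi.basisFun R ↥s).map e, fun i => ?_⟩
  rw [Module.Basis.map_apply, Pi.basisFun_apply]
  show SetLike.IsHomogeneousElem ℳ (π (Pi.single i 1))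
  rw [Fintype.linearCombination_apply_single, one_smul]
  exact ⟨d i i.2, hd i i.2⟩

end Groth.Agent.S19462
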