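import Groth.Statements.S19465
import Groth.Agent.S19473
import Groth.Agent.FibCrit.Props

set_option autoImplicit false
universe u
open CategoryTheory CategoryTheory.Limits MonoidalCategory CartesianMonoidalCategory MonObj GrpObj AlgebraicGeometry
open AlgGrp

set_option backward.isDefEq.respectTransparency false
namespace Groth.Agent.S19465

/-- Let S be a scheme and G an S-group scheme whose structure morphism G → S is locally of finite type.
Then G → S is an isomorphism (G is the trivial group scheme over S) if and only if every fibre G_s →
Spec κ(s), s ∈ S, is an isomorphism. -/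
theorem result (S : Scheme.{u}) (G : Over S)
    [GrpObj G] [LocallyOfFiniteType G.hom] :
    IsIso G.hom ↔ ∀ s : S, IsIso (G.hom.fiberToSpecResidueField s) := by
  refine ⟨fun h s => inferInstanceAs (IsIso (pullback.snd G.hom (S.fromSpecResidueField s))), fun h => ?_⟩
  haveI : FormallyUnramified G.hom :=
    Groth.Agent.FibCrit.formallyUnramified_of_fiberToSpecResidueField G.hom fun s => by
      haveI := h s
      infer_instance
  haveI : IsOpenImmersion η[G].left := (Groth.Agent.S19473.result S G).1 inferInstance
  haveI : Surjective η[G].left := ⟨fun x => ⟨G.hom x, by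
    haveI := h (G.hom x)
    have hs : Function.Injective (G.hom.fiberToSpecResidueField (G.hom x)).base :=
      (G.hom.fiberToSpecResidueField (G.hom x)).isOpenEmbedding.injective
    have hx : G.hom (η[G].left (G.hom x)) = G.hom x := by
      rw [← Scheme.Hom.comp_apply, Over.w η[G]]; rfl
    obtain ⟨a, ha⟩ : η[G].left (G.hom x) ∈ Set.range (G.hom.fiberι (G.hom x)) := by
      rw [Scheme.Hom.range_fiberι]; exact hx
    obtain ⟨b, hb⟩ : x ∈ Set.range (G.hom.fiberι (G.hom x)) := by
      rw [Scheme.Hom.range_fiberι]; rfl
    have hab : a = b := hs (Subsingleton.elim (α := PrimeSpectrum (S.residueField (G.hom x))) _ _)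
    rw [← ha, hab, hb]⟩⟩
  haveI : IsIso η[G].left := (isIso_iff_isOpenImmersion_and_surjective _).2 ⟨inferInstance, inferInstance⟩
  haveI : IsIso (η[G].left ≫ G.hom) := by rw [Over.w η[G]]; exact inferInstanceAs (IsIso (𝟙 S))
  exact IsIso.of_isIso_comp_left η[G].left G.hom

end Groth.Agent.S19465
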