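import Groth.Statements.S19468
import Groth.Agent.Chev.AntiAff
import Groth.Agent.Chev.Descent
import Groth.Agent.S3293
import Groth.Agent.S14604

set_option autoImplicit false
universe u
open CategoryTheory MonoidalCategory CartesianMonoidalCategory MonObj GrpObj AlgebraicGeometry CategoryTheory.Limits
open AlgGrp

namespace Groth.Agent.S19468

/-- Let k be a finite field and G a smooth connected k-group scheme of finite type. Then there are a
closed normal subgroup scheme l : L → G with L smooth, connected and affine, and a closed subgroup
scheme a : A → G with A an abelian variety (proper, smooth and connected over k), such that G = L ·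
A, in the sense that the multiplication L × A → G is surjective, and L ∩ A (the fibre product of l
and a) is finite over k. (The published statement also asserts that such a decomposition is unique;
that part is not included here.) -/
theorem result (k : Type u) [Field k] [Finite k]
    (G : Over (Spec (CommRingCat.of k))) [GrpObj G] [Smooth G.hom] [QuasiCompact G.hom]
    [ConnectedSpace ↥G.left] :
    ∃ (L : Over (Spec (CommRingCat.of k))) (_ : GrpObj L) (l : L ⟶ G) (A : Over (Spec (CommRingCat.of k)))
      (_ : GrpObj A) (a : A ⟶ G),
      IsMonHom l ∧ IsClosedImmersion l.left ∧ AlgGrp.IsNormalHom l ∧ Smooth L.hom ∧ ConnectedSpace ↥L.left ∧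
        IsAffine L.left ∧
      IsMonHom a ∧ IsClosedImmersion a.left ∧ IsProper A.hom ∧ Smooth A.hom ∧ ConnectedSpace ↥A.left ∧
      Surjective ((l ⊗ₘ a) ≫ μ[G]).left ∧ IsFinite (pullback.fst l.left a.left ≫ L.hom) := by
  obtain ⟨L, hL, l, Q, hQ, q, hlm, hlc, hla, hls, hlcon, hln, hqm, hqs, hqf, hker, hQp, hQs, hQc⟩ :=
    Chev.exists_structure_perfect (K := AlgebraicClosure k) G
  haveI := hlm; haveI := hlc; haveI := hqm; haveI := hqs; haveI := hQp; haveI := hQc; haveI := hla
  obtain ⟨D, hD, a, ham, hac, hanti, has⟩ := Chev.surjective_anti_to_proper q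
  haveI := ham; haveI := hac; haveI := has
  haveI : LocallyOfFiniteType D.hom := by rw [← Over.w a]; infer_instance
  haveI : QuasiCompact D.hom := by rw [← Over.w a]; infer_instance
  haveI : IsProper D.hom := Groth.Agent.S14604.result k D hanti
  refine ⟨L, hL, l, D, hD, a, hlm, hlc, hln, hls, hlcon, hla, ham, hac, inferInstance,
    Chev.smooth_of_anti D hanti, (Groth.Agent.S3293.result k D hanti).1,
    Chev.surjective_mul_of_surjective_comp l q hker a, ?_⟩
  haveI : IsAffineHom L.hom := isAffineHom_of_isAffine _
  haveI : IsProper (pullback.fst l.left a.left ≫ L.hom) := by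
    rw [← Over.w l, pullback.condition_assoc, Over.w a]; infer_instance
  haveI : IsAffineHom (pullback.fst l.left a.left ≫ L.hom) := inferInstance
  exact IsFinite.iff_isProper_and_isAffineHom.2 ⟨inferInstance, inferInstance⟩

end Groth.Agent.S19468
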