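import Groth.Statements.S19469
import Groth.Agent.CurveFam.Omega
import Groth.Agent.W7Strat.Crit
import Groth.Agent.W7Hull.InvNear

set_option autoImplicit false
universe u
open Curves

set_option backward.isDefEq.respectTransparency false
set_option backward.isDefEq.respectTransparency.types false

namespace Groth.Agent.S19469

open AlgebraicGeometry CategoryTheory CategoryTheory.Limits in
/-- Let f : C → S be a proper smooth morphism of schemes whose fibres are geometrically connected, of
dimension one and of genus g ≥ 2 (g the dimension of H¹ of the structure sheaf of each fibre over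
its residue field) — a family of smooth curves of genus g — and let n ≥ 2 be an integer. Then the
formation of f_*(Ω_{C/S}^{⊗n}) commutes with arbitrary base change: for every cartesian square on a
morphism b : T → S, with projections f' : C' → T and b' : C' → C, the degree-0 base change map b^*
f_*(Ω_{C/S}^{⊗n}) → f'_* b'^*(Ω_{C/S}^{⊗n}) is an isomorphism. (The local-freeness, rank and
higher-direct-image clauses of the published item, and the corresponding base-change statement for
Ω_{C/S} itself, are separate results.) -/
theorem result {C S : Scheme.{u}} (f : C ⟶ S)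
    [IsProper f] [Smooth f] [GeometricallyConnected f]
    (hdim : ∀ s : S, topologicalKrullDim ↥(f.fiber s) = 1) (g : ℕ) (hg : 2 ≤ g)
    (hgen : ∀ s : S, letI : (f.fiber s).Over (Spec (S.residueField s)) := ⟨f.fiberToSpecResidueField s⟩
      Curv2.genus (S.residueField s) (f.fiber s) = g)
    (n : ℕ) (hn : 2 ≤ n)
    (T C' : Scheme.{u}) (b : T ⟶ S) (f' : C' ⟶ T) (b' : C' ⟶ C) (hsq : IsPullback b' f' f b) :
    IsIso (CohBC.bc0 f b f' b' hsq.w (CohB1.tensorPow (Omega.sheaf f) n)) := by
  have hI := CurveFam.isInvertible_omega f hdim
  let L := CohB1.tensorPow (Omega.sheaf f) n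
  have hL : PicF.IsInvertible L := TMul.isInvertible_tensorPow hI n
  have hF := W7Hull.isFP_of_isInvertible hL
  have hq := FibDepth.isQCoh_of_isFP hF
  have hfl := W7Hull.isFlatOver_of_isInvertible f hL
  refine W7Strat.isIso_bc0_of_forall_epi f hq hfl (fun s => ?_) b f' b' hsq
  obtain ⟨U, hU, hsU, -⟩ := exists_isAffineOpen_mem_and_subset (X := S) (x := s) (U := ⊤) trivial
  obtain ⟨m⟩ := W7Cech.nonempty_ModelNN f hq hF hfl hU
  exact ⟨U, hU, m, hsU, (W7Cech.T_epi_iff_mono_succ m.L (W7Cech.flatX m.L m.hL) 0).2
    (W7Cech.isZero_T_of_isZero_homology_all m.L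
      (fun M => m.isZero_T f 1 (fun z _ => (CurveFam.pluri_fiber f hdim hg hgen hn z).1) M)).1⟩

end Groth.Agent.S19469
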