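import Groth.Statements.S19474
import Groth.Agent.AdicBasics.Dimension
import Mathlib.RingTheory.AdicCompletion.Completeness

set_option autoImplicit false
universe u
open CAlg

namespace Groth.Agent.S19474

open IsLocalRing in
/-- The completion of a Noetherian local ring along a proper ideal. -/
theorem main (A : Type u) [CommRing A] [IsLocalRing A] [IsNoetherianRing A] (I : Ideal A) (hI : I ≠ ⊤) :
    ringKrullDim (AdicCompletion I A) = ringKrullDim A ∧
      (IsRegularLocalRing A ↔ IsRegularLocalRing (AdicCompletion I A)) := by
  set B := AdicCompletion I A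
  haveI : IsNoetherianRing B := ResExt.isNoetherianRing_adicCompletion I (IsNoetherian.noetherian _)
  have hIm : I ≤ maximalIdeal A := le_maximalIdeal hI
  set J := I.map (algebraMap A B)
  haveI : IsAdicComplete I B := AdicCompletion.isAdicComplete (IsNoetherian.noetherian I)
  haveI : IsAdicComplete J B := (IsAdicComplete.map_algebraMap_iff I B).2 inferInstance
  have happrox : ∀ y : B, ∀ n, ∃ a : A, y - algebraMap A B a ∈ J ^ n := fun y n => by
    obtain ⟨a, ha⟩ := Submodule.Quotient.mk_surjective _ (y.val n)
    refine ⟨a, ?_⟩
    rw [← Ideal.map_pow, ← Submodule.restrictScalars_mem A, ← Ideal.smul_top_eq_map,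
      AdicCompletion.pow_smul_top_eq_ker_eval (IsNoetherian.noetherian I), LinearMap.mem_ker, map_sub,
      sub_eq_zero, AdicCompletion.eval_apply, ← ha, AdicCompletion.eval_apply, AdicCompletion.algebraMap_apply]
    rfl
  have hJjac : J ≤ Ideal.jacobson ⊥ := IsAdicComplete.le_jacobson_bot J
  -- `m B` is the only maximal ideal
  have hmax : ∀ M : Ideal B, M.IsMaximal → M = (maximalIdeal A).map (algebraMap A B) := fun M hM => by
    have hJM : J ≤ M := hJjac.trans (by rw [Ideal.jacobson]; exact sInf_le ⟨bot_le, hM⟩)
    have hsurj : Function.Surjective ((Ideal.Quotient.mk M).comp (algebraMap A B)) := fun z => by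
      obtain ⟨y, rfl⟩ := Ideal.Quotient.mk_surjective z
      obtain ⟨a, ha⟩ := happrox y 1
      exact ⟨a, ((Ideal.Quotient.eq).2 (hJM (by simpa using ha))).symm⟩
    have hker : RingHom.ker ((Ideal.Quotient.mk M).comp (algebraMap A B)) = maximalIdeal A := by
      letI := Ideal.Quotient.field M
      exact IsLocalRing.eq_maximalIdeal (RingHom.ker_isMaximal_of_surjective _ hsurj)
    refine le_antisymm (fun y hy => ?_) (Ideal.map_le_iff_le_comap.2 fun a ha => ?_)
    · obtain ⟨a, ha⟩ := happrox y 1
      rw [pow_one] at ha
      have ha' : a ∈ maximalIdeal A := by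
        rw [← hker, RingHom.mem_ker, RingHom.comp_apply, Ideal.Quotient.eq_zero_iff_mem]
        simpa using sub_mem hy (hJM ha)
      have := add_mem (Ideal.map_mono hIm ha) (Ideal.mem_map_of_mem (algebraMap A B) ha')
      rwa [sub_add_cancel] at this
    · rw [← hker, RingHom.mem_ker, RingHom.comp_apply, Ideal.Quotient.eq_zero_iff_mem] at ha
      exact ha
  haveI : Nontrivial B := by
    by_contra h
    rw [not_nontrivial_iff_subsingleton] at h
    obtain ⟨x, hx⟩ := Submodule.Quotient.mk_surjective (I ^ 1 • ⊤ : Submodule A A) (Submodule.Quotient.mk 1)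
    have h1 := congrArg (fun z : B => z.val 1) (Subsingleton.elim (1 : B) 0)
    simp only [AdicCompletion.val_one, AdicCompletion.val_zero_apply] at h1
    have := (Submodule.Quotient.mk_eq_zero _).1 h1
    rw [pow_one, smul_eq_mul, Ideal.mul_top] at this
    exact hI ((Ideal.eq_top_iff_one I).2 this)
  haveI : IsLocalRing B := by
    obtain ⟨M, hM⟩ := Ideal.exists_maximal B
    exact IsLocalRing.of_unique_max_ideal ⟨M, hM, fun N hN => by rw [hmax N hN, hmax M hM]⟩
  have hmB : maximalIdeal B = (maximalIdeal A).map (algebraMap A B) := hmax _ (maximalIdeal.isMaximal B)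
  haveI : IsLocalHom (algebraMap A B) :=
    ((IsLocalRing.local_hom_TFAE (algebraMap A B)).out 0 2).2 hmB.ge
  haveI : Module.FaithfullyFlat A B := Module.FaithfullyFlat.of_flat_of_isLocalHom
  have hdim : ringKrullDim B = ringKrullDim A := by
    haveI : (maximalIdeal B).LiesOver (maximalIdeal A) :=
      ⟨(IsLocalRing.maximalIdeal_comap (algebraMap A B)).symm⟩
    have h := Ideal.height_eq_height_add_of_liesOver_of_hasGoingDown (maximalIdeal A) (maximalIdeal B)
    have h0 : ((maximalIdeal B).map (Ideal.Quotient.mk ((maximalIdeal A).map (algebraMap A B)))).height = 0 := by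
      rw [hmB, Ideal.map_quotient_self]
      haveI : ((maximalIdeal A).map (algebraMap A B)).IsMaximal := hmB ▸ maximalIdeal.isMaximal B
      letI := Ideal.Quotient.field ((maximalIdeal A).map (algebraMap A B))
      exact Ideal.height_bot
    rw [h0, add_zero] at h
    rw [← IsLocalRing.maximalIdeal_height_eq_ringKrullDim,
      ← IsLocalRing.maximalIdeal_height_eq_ringKrullDim, h]
  refine ⟨hdim, ?_⟩
  rw [isRegularLocalRing_iff, isRegularLocalRing_iff, hdim]
  suffices h : (maximalIdeal B).spanFinrank = (maximalIdeal A).spanFinrank by rw [h]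
  refine le_antisymm ?_ ?_
  · rw [hmB]
    exact Ideal.spanFinrank_map_le_of_fg _ (IsNoetherian.noetherian _)
  · obtain ⟨s, hcard, hspan⟩ := Submodule.FG.exists_span_set_encard_eq_spanFinrank
      (IsNoetherian.noetherian (maximalIdeal B))
    have hsfin : s.Finite := Set.finite_of_encard_eq_coe hcard
    choose g hg using fun y => happrox y 2
    have hgm : ∀ y ∈ s, algebraMap A B (g y) ∈ maximalIdeal B := fun y hy => by
      have h1 : y ∈ maximalIdeal B := hspan.le (Submodule.subset_span hy)
      have h2 : J ^ 2 ≤ maximalIdeal B := by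
        rw [hmB]; exact (Ideal.pow_le_self two_ne_zero).trans (Ideal.map_mono hIm)
      simpa using sub_mem h1 (h2 (hg y))
    have hle : maximalIdeal B ≤ (Ideal.span (g '' s)).map (algebraMap A B) := by
      refine Submodule.le_of_le_smul_of_le_jacobson_bot (IsNoetherian.noetherian _)
        (IsLocalRing.maximalIdeal_le_jacobson _) ?_
      conv_lhs => rw [← hspan]
      rw [Submodule.span_le]
      intro y hy
      rw [smul_eq_mul, ← pow_two]
      have hJ2 : J ^ 2 ≤ maximalIdeal B ^ 2 := Ideal.pow_right_mono (hmB ▸ Ideal.map_mono hIm) 2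
      have := Submodule.add_mem_sup (Ideal.mem_map_of_mem (algebraMap A B)
        (Ideal.subset_span (Set.mem_image_of_mem g hy))) (hJ2 (hg y))
      rwa [add_sub_cancel] at this
    have heq : maximalIdeal A = Ideal.span (g '' s) := by
      have hle' : Ideal.span (g '' s) ≤ maximalIdeal A := Ideal.span_le.2 (by
        rintro _ ⟨y, hy, rfl⟩
        rw [← IsLocalRing.maximalIdeal_comap (algebraMap A B)]
        exact hgm y hy)
      refine le_antisymm ?_ hle'
      have := Ideal.comap_mono (f := algebraMap A B) hle
      rwa [IsLocalRing.maximalIdeal_comap, Ideal.comap_map_eq_self_of_faithfullyFlat] at this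
    rw [heq]
    refine (Submodule.spanFinrank_span_le_ncard_of_finite (hsfin.image g)).trans ?_
    refine (Set.ncard_image_le hsfin).trans (le_of_eq ?_)
    rw [Set.ncard_def, hcard, ENat.toNat_natCast]

/-- Let A be a Noetherian local ring and I an ideal of A different from A. Then the I-adic completion of
A has the same Krull dimension as A, and A is a regular local ring if and only if the I-adic
completion of A is a regular local ring (in particular the completion is then local and Noetherian).
The case where I is the maximal ideal is the classical one; here I is any proper ideal. -/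
theorem result (A : Type u) [CommRing A]
    [IsLocalRing A] [IsNoetherianRing A] (I : Ideal A) (hI : I ≠ ⊤) :
    ringKrullDim (AdicCompletion I A) = ringKrullDim A ∧
      (IsRegularLocalRing A ↔ IsRegularLocalRing (AdicCompletion I A)) := by
  exact main A I hI

end Groth.Agent.S19474
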