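import Groth.Statements.S19475
import Mathlib.RingTheory.AdicCompletion.LocalRing
import Mathlib.RingTheory.AdicCompletion.Completeness
import Mathlib.RingTheory.LocalRing.ResidueField.Basic
import Mathlib.RingTheory.TensorProduct.Basic
import Mathlib.RingTheory.Localization.AtPrime.Basic
import Mathlib.Tactic.Abel
import Mathlib.RingTheory.Ideal.Over

set_option autoImplicit false
universe u
open CAlg
open scoped TensorProduct

namespace Groth.Agent.S19475

open IsLocalRing in
/-- Let A be a Noetherian ring, B an A-algebra, q a prime ideal of B and p its preimage in A; let A_p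
and B_q be the local rings at p and q and Â_p the completion of A_p at its maximal ideal pA_p. Then
the ideal generated by qB_q in B_q ⊗ Â_p is maximal. (The tensor product is formed over A; since A_p
is a localization of A it agrees with the tensor product over A_p used in the published statement.) -/
theorem result (A B : Type u) [CommRing A] [CommRing B]
    [Algebra A B] [IsNoetherianRing A] (q : Ideal B) [q.IsPrime] :
    ((maximalIdeal (Localization.AtPrime q)).map
      (Algebra.TensorProduct.includeLeftRingHom :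
        Localization.AtPrime q →+* TensorProduct A (Localization.AtPrime q)
          (AdicCompletion (maximalIdeal (Localization.AtPrime (q.under A)))
            (Localization.AtPrime (q.under A))))).IsMaximal := by
  classical
  let p := q.under A
  let P := Localization.AtPrime p
  let Bq := Localization.AtPrime q
  let mP := IsLocalRing.maximalIdeal P
  let H := AdicCompletion mP P
  let T := TensorProduct A Bq H
  let M : Ideal T := (IsLocalRing.maximalIdeal Bq).map (Algebra.TensorProduct.includeLeftRingHom : Bq →+* T)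
  show M.IsMaximal
  have hfg : mP.FG := IsNoetherian.noetherian mP
  let g₀ : P →+* Bq := Localization.localRingHom p q (algebraMap A B) rfl
  have hg₀ : ∀ a : A, g₀ (algebraMap A P a) = algebraMap A Bq a := fun a => by
    rw [Localization.localRingHom_to_map, ← IsScalarTower.algebraMap_apply]
  let κ := IsLocalRing.ResidueField Bq
  haveI : IsLocalHom g₀ := Localization.isLocalHom_localRingHom p q (algebraMap A B) rfl
  let g₁ : H →+* κ := (IsLocalRing.ResidueField.map g₀).comp (AdicCompletion.evalOneₐ mP).toRingHom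
  have hg₁P : ∀ x : P, g₁ (algebraMap P H x) = IsLocalRing.residue Bq (g₀ x) := fun x => by
    show IsLocalRing.ResidueField.map g₀ ((AdicCompletion.evalOneₐ mP) (algebraMap P H x)) = _
    rw [AlgHom.commutes]
    exact IsLocalRing.ResidueField.map_residue g₀ x
  have hg₁A : ∀ a : A, g₁ (algebraMap A H a) = algebraMap A κ a := fun a => by
    rw [IsScalarTower.algebraMap_apply A P H, hg₁P, hg₀]
    rfl
  let g : H →ₐ[A] κ := { g₁ with commutes' := hg₁A }
  let ψ : T →ₐ[A] κ := Algebra.TensorProduct.lift (IsScalarTower.toAlgHom A Bq κ) g (fun _ _ => Commute.all _ _)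
  have hψl : ∀ b : Bq, ψ (b ⊗ₜ[A] 1) = IsLocalRing.residue Bq b := fun b => by
    show Algebra.TensorProduct.lift (IsScalarTower.toAlgHom A Bq κ) g _ (b ⊗ₜ[A] 1) = _
    rw [Algebra.TensorProduct.lift_tmul, map_one, mul_one]; rfl
  have hψ : Function.Surjective ψ := fun z => by
    obtain ⟨b, rfl⟩ := IsLocalRing.residue_surjective z
    exact ⟨_, hψl b⟩
  have hA : ∀ a : A, a ∈ p → algebraMap A Bq a ∈ IsLocalRing.maximalIdeal Bq := fun a ha => by
    rw [IsScalarTower.algebraMap_apply A B Bq]
    exact (IsLocalization.AtPrime.to_map_mem_maximal_iff Bq q _).mpr ha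
  have hinc : ∀ b, b ∈ IsLocalRing.maximalIdeal Bq → (b ⊗ₜ[A] (1 : H)) ∈ M := fun b hb => Ideal.mem_map_of_mem _ hb
  -- `1 ⊗ (maximal ideal of the completion)` lies in `M`
  have hmH : ∀ y ∈ mP.map (algebraMap P H), ∀ b : Bq, b ⊗ₜ[A] y ∈ M := by
    intro y hy
    replace hy : y ∈ (p.map (algebraMap A P)).map (algebraMap P H) := (congrArg (fun I : Ideal P => I.map (algebraMap P H)) (Localization.AtPrime.map_eq_maximalIdeal.symm : mP = p.map (algebraMap A P))).le hy
    rw [Ideal.map_map] at hy
    induction hy using Submodule.span_induction with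
    | mem y hy =>
      obtain ⟨a, ha, rfl⟩ := hy
      intro b
      have : b ⊗ₜ[A] ((algebraMap P H).comp (algebraMap A P) a) = ((a • b) ⊗ₜ[A] (1 : H)) := by
        rw [TensorProduct.smul_tmul, RingHom.comp_apply, ← IsScalarTower.algebraMap_apply, Algebra.algebraMap_eq_smul_one]
      rw [this, Algebra.smul_def]
      exact hinc _ (Ideal.mul_mem_right _ _ (hA a ha))
    | zero => intro b; rw [TensorProduct.tmul_zero]; exact M.zero_mem
    | add y z _ _ hy hz => intro b; rw [TensorProduct.tmul_add]; exact add_mem (hy b) (hz b)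
    | smul c y _ hy =>
      intro b
      have : b ⊗ₜ[A] (c • y) = ((1 : Bq) ⊗ₜ[A] c) * (b ⊗ₜ[A] y) := by
        rw [Algebra.TensorProduct.tmul_mul_tmul, one_mul, smul_eq_mul]
      rw [this]
      exact M.mul_mem_left _ (hy b)
  have hone : ∀ z : T, ∃ b : Bq, z - b ⊗ₜ[A] 1 ∈ M := by
    intro z
    induction z using TensorProduct.induction_on with
    | zero => exact ⟨0, by simp⟩
    | add x y hx hy =>
      obtain ⟨b, hb⟩ := hx; obtain ⟨c, hc⟩ := hy
      exact ⟨b + c, by convert add_mem hb hc using 1; rw [TensorProduct.add_tmul]; abel⟩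
    | tmul b y =>
      obtain ⟨x, hx⟩ := Ideal.Quotient.mk_surjective (AdicCompletion.evalOneₐ mP y)
      have hy : y - algebraMap P H x ∈ mP.map (algebraMap P H) := by
        rw [← AdicCompletion.ker_evalOneₐ_eq_map mP hfg, RingHom.mem_ker]
        show AdicCompletion.evalOneₐ mP (y - algebraMap P H x) = 0
        rw [map_sub, AlgHom.commutes, ← hx]
        exact sub_self _
      obtain ⟨⟨a, s⟩, hax⟩ := IsLocalization.surj p.primeCompl x
      have hs : IsUnit (algebraMap A Bq s) := by
        rw [IsScalarTower.algebraMap_apply A B Bq]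
        exact IsLocalization.map_units Bq (⟨algebraMap A B s, fun h => s.2 h⟩ : q.primeCompl)
      obtain ⟨u, hu⟩ := hs
      refine ⟨b * ↑u⁻¹ * algebraMap A Bq a, ?_⟩
      have h1 : b ⊗ₜ[A] algebraMap P H x = (b * ↑u⁻¹ * algebraMap A Bq a) ⊗ₜ[A] (1 : H) := by
        calc b ⊗ₜ[A] algebraMap P H x = ((s : A) • (b * ↑u⁻¹)) ⊗ₜ[A] algebraMap P H x := by
              congr 1; rw [Algebra.smul_def, ← hu, mul_left_comm, Units.mul_inv, mul_one]
          _ = (b * ↑u⁻¹) ⊗ₜ[A] ((s : A) • algebraMap P H x) := TensorProduct.smul_tmul _ _ _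
          _ = (b * ↑u⁻¹) ⊗ₜ[A] (a • (1 : H)) := by
              congr 1
              rw [← Algebra.algebraMap_eq_smul_one, Algebra.smul_def, IsScalarTower.algebraMap_apply A P H, ← map_mul, mul_comm,
                hax, ← IsScalarTower.algebraMap_apply]
          _ = _ := by rw [← TensorProduct.smul_tmul, Algebra.smul_def, mul_comm]
      rw [← h1, ← TensorProduct.tmul_sub]
      exact hmH _ hy b
  have hker : RingHom.ker ψ.toRingHom = M := by
    refine le_antisymm (fun z hz => ?_) (Ideal.map_le_iff_le_comap.mpr fun b hb => ?_)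
    · obtain ⟨b, hb⟩ := hone z
      have hle : ∀ w ∈ M, ψ w = 0 := fun w hw => by
        refine (Ideal.map_le_iff_le_comap.mpr (fun b hb => ?_) : M ≤ RingHom.ker ψ.toRingHom) hw
        show ψ (b ⊗ₜ[A] 1) = 0
        rw [hψl]; exact (IsLocalRing.residue_eq_zero_iff b).mpr hb
      have hb0 := hle _ hb
      rw [map_sub, show ψ z = 0 from hz, hψl, zero_sub, neg_eq_zero, IsLocalRing.residue_eq_zero_iff] at hb0
      simpa using add_mem hb (hinc b hb0)
    · show ψ (b ⊗ₜ[A] 1) = 0
      rw [hψl]; exact (IsLocalRing.residue_eq_zero_iff b).mpr hb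
  rw [← hker]
  exact RingHom.ker_isMaximal_of_surjective ψ.toRingHom hψ

end Groth.Agent.S19475
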