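import Groth.Statements.S19477
import Mathlib

set_option autoImplicit false
universe u
open Variety

namespace Groth.Agent.S19477


section helpers
open TensorProduct
open scoped Pointwise

variable {K F L : Type u} [Field K] [Field F] [Algebra K F] [Field L] [Algebra K L]

/-- The Galois action through the second factor. -/
@[implicit_reducible]
noncomputable def act : MulSemiringAction Gal(L/K) (F ⊗[K] L) where
  smul g x := Algebra.TensorProduct.map (AlgHom.id K F) (g : L →ₐ[K] L) x
  one_smul x := by
    show Algebra.TensorProduct.map (AlgHom.id K F) _ x = x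
    induction x using TensorProduct.induction_on with
    | zero => simp
    | tmul a b => simp
    | add a b ha hb => rw [map_add, ha, hb]
  mul_smul g h x := by
    show Algebra.TensorProduct.map (AlgHom.id K F) _ x =
      Algebra.TensorProduct.map (AlgHom.id K F) _ (Algebra.TensorProduct.map (AlgHom.id K F) _ x)
    induction x using TensorProduct.induction_on with
    | zero => simp
    | tmul a b => simp
    | add a b ha hb => rw [map_add, map_add, map_add, ha, hb]
  smul_zero g := map_zero _
  smul_add g x y := map_add _ x y
  smul_one g := map_one _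
  smul_mul g x y := map_mul _ x y

variable (K F L) in
lemma finite_primes [Algebra.IsAlgebraic K L] [Algebra.EssFiniteType K F] :
    Finite (PrimeSpectrum (F ⊗[K] L)) := by
  haveI : IsNoetherianRing (L ⊗[K] F) :=
    Algebra.EssFiniteType.isNoetherianRing L (L ⊗[K] F)
  haveI : IsNoetherianRing (F ⊗[K] L) :=
    isNoetherianRing_of_ringEquiv (L ⊗[K] F) (Algebra.TensorProduct.comm K L F).toRingEquiv
  haveI : Algebra.IsIntegral K L := Algebra.IsAlgebraic.isIntegral
  haveI : Algebra.IsIntegral F (F ⊗[K] L) := inferInstance
  haveI : Ring.KrullDimLE 0 (F ⊗[K] L) := by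
    rw [Ring.krullDimLE_zero_iff]
    intro P hP
    haveI : (P.comap (algebraMap F (F ⊗[K] L))).IsMaximal := by
      haveI := hP.comap (algebraMap F (F ⊗[K] L))
      rw [(Ideal.eq_bot_or_top (P.comap (algebraMap F (F ⊗[K] L)))).resolve_right Ideal.IsPrime.ne_top']
      exact Ideal.bot_isMaximal
    exact Ideal.isMaximal_of_isIntegral_of_isMaximal_comap P ‹_›
  haveI : IsArtinianRing (F ⊗[K] L) := IsNoetherianRing.isArtinianRing_of_krullDimLE_zero
  infer_instance

lemma transitive [IsGalois K L] (P Q : Ideal (F ⊗[K] L)) [P.IsPrime] [Q.IsPrime] :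
    ∃ γ : L ≃ₐ[K] L,
      Q = P.comap (Algebra.TensorProduct.map (AlgHom.id K F) (γ : L →ₐ[K] L)) := by
  classical
  letI := act (K := K) (F := F) (L := L)
  letI : TopologicalSpace (F ⊗[K] L) := ⊥
  haveI : DiscreteTopology (F ⊗[K] L) := ⟨rfl⟩
  haveI : SMulCommClass Gal(L/K) F (F ⊗[K] L) := ⟨fun g c x => by
    show Algebra.TensorProduct.map (AlgHom.id K F) (g : L →ₐ[K] L) (c • x) =
      c • Algebra.TensorProduct.map (AlgHom.id K F) (g : L →ₐ[K] L) x
    induction x using TensorProduct.induction_on with
    | zero => simp
    | tmul a b => simp [TensorProduct.smul_tmul']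
    | add a b ha hb => rw [smul_add, map_add, map_add, ha, hb, smul_add]⟩
  haveI : ContinuousSMul Gal(L/K) (F ⊗[K] L) := by
    rw [continuousSMul_iff_stabilizer_isOpen]
    intro x
    obtain ⟨S, rfl⟩ := TensorProduct.exists_finset (R := K) x
    let E := IntermediateField.adjoin K ((S.image Prod.snd : Finset L) : Set L)
    haveI : FiniteDimensional K E :=
      IntermediateField.finiteDimensional_adjoin (fun y _ => Algebra.IsIntegral.isIntegral y)
    refine Subgroup.isOpen_mono (H₁ := E.fixingSubgroup) ?_ E.fixingSubgroup_isOpen
    intro g hg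
    rw [MulAction.mem_stabilizer_iff]
    show Algebra.TensorProduct.map (AlgHom.id K F) (g : L →ₐ[K] L) _ = _
    rw [map_sum]
    refine Finset.sum_congr rfl (fun i hi => ?_)
    rw [Algebra.TensorProduct.map_tmul]
    congr 1
    exact (IntermediateField.mem_fixingSubgroup_iff E g).1 hg _
      (IntermediateField.subset_adjoin K _ (Finset.mem_coe.2 (Finset.mem_image_of_mem _ hi)))
  haveI : Algebra.IsInvariant F (F ⊗[K] L) Gal(L/K) := ⟨fun x hx => by
    let b := Module.Basis.ofVectorSpace K F
    have heq : ∀ (g : Gal(L/K)) (y : F ⊗[K] L) (i : _),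
        TensorProduct.equivFinsuppOfBasisLeft b
          (Algebra.TensorProduct.map (AlgHom.id K F) (g : L →ₐ[K] L) y) i =
        g (TensorProduct.equivFinsuppOfBasisLeft b y i) := by
      intro g y i
      induction y using TensorProduct.induction_on with
      | zero => simp
      | tmul a l =>
        rw [Algebra.TensorProduct.map_tmul,
          TensorProduct.equivFinsuppOfBasisLeft_apply_tmul_apply,
          TensorProduct.equivFinsuppOfBasisLeft_apply_tmul_apply]
        simp
      | add a c ha hc =>
        rw [map_add, map_add, Finsupp.add_apply, ha, hc, map_add, Finsupp.add_apply, map_add]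
    have hmem : ∀ i, ∃ c : K,
        algebraMap K L c = TensorProduct.equivFinsuppOfBasisLeft b x i := fun i =>
      Set.mem_range.1 ((InfiniteGalois.mem_range_algebraMap_iff_fixed _).2 (fun g => by
        rw [← heq g x i]
        exact congrArg (fun z => TensorProduct.equivFinsuppOfBasisLeft b z i) (hx g)))
    choose c hc using hmem
    let s := (TensorProduct.equivFinsuppOfBasisLeft b x).support
    refine ⟨∑ i ∈ s, c i • b i, ?_⟩
    rw [Algebra.TensorProduct.algebraMap_apply, Algebra.algebraMap_self, RingHom.id_apply]
    apply (TensorProduct.equivFinsuppOfBasisLeft b).injective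
    ext i
    rw [TensorProduct.equivFinsuppOfBasisLeft_apply_tmul_apply, map_sum, Finsupp.finsetSum_apply]
    simp only [map_smul, Module.Basis.repr_self, Finsupp.smul_apply, Finsupp.single_apply,
      smul_eq_mul, mul_ite, mul_one, mul_zero, Finset.sum_ite_eq']
    rw [← hc i, Algebra.algebraMap_eq_smul_one]
    split_ifs with h
    · rfl
    · have h0 : TensorProduct.equivFinsuppOfBasisLeft b x i = 0 := Finsupp.notMem_support_iff.1 h
      rw [zero_smul, ← Algebra.algebraMap_eq_smul_one, hc i, h0]⟩
  have hPQ : P.under F = Q.under F := by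
    haveI : (P.under F).IsPrime := Ideal.IsPrime.comap (algebraMap F (F ⊗[K] L))
    haveI : (Q.under F).IsPrime := Ideal.IsPrime.comap (algebraMap F (F ⊗[K] L))
    rw [(Ideal.eq_bot_or_top (P.under F)).resolve_right Ideal.IsPrime.ne_top',
      (Ideal.eq_bot_or_top (Q.under F)).resolve_right Ideal.IsPrime.ne_top']
  obtain ⟨g, hg⟩ := Algebra.IsInvariant.exists_smul_of_under_eq_of_profinite
    (G := Gal(L/K)) (A := F) P Q hPQ
  refine ⟨g.symm, ?_⟩
  rw [hg]
  ext x
  rw [Ideal.mem_pointwise_smul_iff_inv_smul_mem, Ideal.mem_comap]
  rfl

end helpers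

/-- Let K be a field, B an integral K-algebra of finite type with fraction field F, and L a Galois
extension of K with group Γ = Aut_K(L). Then F ⊗_K L has only finitely many prime ideals and Γ,
acting through the second factor, permutes them transitively: for prime ideals P, Q there is γ ∈ Γ
with Q the preimage of P under id ⊗ γ. (The published statement is the geometric one, that the
points of an algebraic K-scheme X correspond to the Γ-orbits of points of X_L and that these orbits
are finite; it reduces to this algebraic statement by passing to the fibre over a point, and the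
algebraic statement is what is proved.) -/
theorem result (K B L : Type u) [Field K]
    [CommRing B] [IsDomain B] [Algebra K B] [Algebra.FiniteType K B] [Field L] [Algebra K L] [IsGalois K L] :
    Finite (PrimeSpectrum (TensorProduct K (FractionRing B) L)) ∧
      ∀ P Q : PrimeSpectrum (TensorProduct K (FractionRing B) L), ∃ γ : L ≃ₐ[K] L,
        Q.asIdeal = P.asIdeal.comap
          (Algebra.TensorProduct.map (AlgHom.id K (FractionRing B)) (γ : L →ₐ[K] L)) := by
  haveI : Algebra.EssFiniteType B (FractionRing B) :=
    Algebra.EssFiniteType.of_isLocalization (FractionRing B) (nonZeroDivisors B)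
  haveI : Algebra.EssFiniteType K (FractionRing B) := Algebra.EssFiniteType.comp K B (FractionRing B)
  refine ⟨finite_primes K (FractionRing B) L, fun P Q => ?_⟩
  haveI := P.2
  haveI := Q.2
  exact transitive P.asIdeal Q.asIdeal

end Groth.Agent.S19477
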