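import Groth.Statements.S19479
import Groth.Agent.Comod.Transfer

set_option autoImplicit false
universe u v w
open HopfRep

namespace Groth.Agent.S19479

open Groth.Agent.Comod
open scoped Groth.Agent.Comod

open TensorProduct in
/-- Let K be a field, C a K-coalgebra and V a right C-comodule. The following are equivalent: (i) V is
the internal direct sum of a family of simple subcomodules, i.e. there is an independent family of
subcomodules W_i with sum V, each W_i nonzero and having no subcomodules inside it other than 0 and
W_i; (ii) every subcomodule of V has a complementary subcomodule. A subcomodule is a subspace W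
whose coaction lands in the image of W ⊗ C. (The source states this for left comodules; a left
comodule over C is a right comodule over the co-opposite coalgebra, so the statement is the same.) -/
theorem result {K : Type u} {C : Type v} [Field K]
    [AddCommGroup C] [Module K C] [Coalgebra K C] (V : Type w) [AddCommGroup V] [Module K V] [HopfRep.Comod K C V] :
    (∃ (ι : Type w) (W : ι → Submodule K V), iSupIndep W ∧ iSup W = ⊤ ∧ ∀ i,
        HopfRep.IsSubcomod (k := K) (A := C) (W i) ∧ W i ≠ ⊥ ∧
          ∀ W' : Submodule K V, HopfRep.IsSubcomod (k := K) (A := C) W' → W' ≤ W i → W' = ⊥ ∨ W' = W i) ↔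
      HopfRep.IsSemisimpleComod K C V := by
  rw [isSemisimpleComod_iff]
  constructor
  · rintro ⟨ι, W, -, htop, hW⟩
    have hs := fun i => (minimal_iff (hW i).1).mp (hW i).2
    refine isSemisimpleModule_of_isSemisimpleModule_submodule'
      (p := fun i => subEquiv K C V ⟨W i, (hW i).1⟩) (fun i => have := hs i; inferInstance) ?_
    rw [← ofDSub_eq_top, ofDSub_iSup]
    exact htop
  · intro h
    obtain ⟨s, hind, hsup, hsimple⟩ := IsSemisimpleModule.exists_sSupIndep_sSup_simples_eq_top (CDual K C) V
    refine ⟨s, fun m => ofDSub m.1, ?_, ?_, fun m =>
      ⟨isSubcomod_ofDSub m.1, (minimal_iff (isSubcomod_ofDSub m.1)).mpr (hsimple _ m.2)⟩⟩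
    · exact (iSupIndep_ofDSub_iff _).mpr ((sSupIndep_iff _).mp hind)
    · rw [← ofDSub_iSup, ofDSub_eq_top, ← sSup_eq_iSup']
      exact hsup

end Groth.Agent.S19479
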