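import Groth.Statements.S19480
import Groth.Agent.PthRootQuot.Basic

set_option autoImplicit false
set_option backward.isDefEq.respectTransparency false
set_option linter.style.haveILetI false
open CategoryTheory AlgebraicGeometry MvPolynomial
universe u
open Quiet

namespace Groth.Agent.S19480

lemma isRegular_map {R S : Type u} [CommRing R] [CommRing S] (φ : R →+* S) (hφ : φ.FaithfullyFlat) {rs : List R}
    (h : RingTheory.Sequence.IsRegular R rs) : RingTheory.Sequence.IsRegular S (rs.map φ) := by
  letI := φ.toAlgebra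
  haveI : Module.FaithfullyFlat R S := hφ
  exact RingTheory.Sequence.IsRegular.of_faithfullyFlat h

lemma isRegular_append {P : Type u} [CommRing P] (l₁ l₂ : List P) (I : Ideal P) (hI : Ideal.ofList l₁ = I)
    (h₁ : RingTheory.Sequence.IsRegular P l₁)
    (h₂ : RingTheory.Sequence.IsRegular (P ⧸ I) (l₂.map (Ideal.Quotient.mk I))) :
    RingTheory.Sequence.IsRegular P (l₁ ++ l₂) := by
  subst hI
  refine ⟨(RingTheory.Sequence.isWeaklyRegular_append_iff P l₁ l₂).2 ⟨h₁.1, ?_⟩, fun h => h₂.2 ?_⟩
  · refine ((Submodule.quotEquivOfEq (Ideal.ofList l₁ • ⊤ : Submodule P P) (Ideal.ofList l₁) ?_).isWeaklyRegular_congr l₂).2 ?_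
    · rw [smul_eq_mul, Ideal.mul_top]
    · exact (RingTheory.Sequence.isWeaklyRegular_map_algebraMap_iff (R := P) (S := P ⧸ Ideal.ofList l₁)
        (P ⧸ Ideal.ofList l₁) l₂).1 h₂.1
  · rw [smul_eq_mul, Ideal.mul_top, eq_comm] at h ⊢
    have h3 := congrArg (Ideal.map (Ideal.Quotient.mk (Ideal.ofList l₁))) h
    rwa [Ideal.ofList_append, Ideal.map_sup, Ideal.map_quotient_self, bot_sup_eq, Ideal.map_ofList,
      Ideal.map_top] at h3

/-- Let k be a perfect field of prime characteristic p, A a smooth k-algebra of characteristic p and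
t_1, …, t_n a regular sequence in A, so that A₀ = A/(t_1^p, …, t_n^p) is a p-good algebra when A has
a system of parameters; let v_1, …, v_m ∈ A[Y_1, …, Y_r] have images forming a regular sequence in
A₀[Y_1, …, Y_r], and put B_0 = A[Y]/(t_1^p, …, t_n^p, v_1, …, v_m). Identify A^{1/p} with A as a
ring, so that u_i = t_i^p and the Frobenius x ↦ x^p of A[Y] carries the ideal (t_i^p, v_j) into
(u_i^p, v_j^p) = (t_i^{p²}, v_j^p). Then: (ii) (t_1^{p²}, …, t_n^{p²}, v_1^p, …, v_m^p) is a regular
sequence in A[Y]; (iii) the induced ring map β : B_0 → B = A[Y]/(t_i^{p²}, v_j^p) is faithfully flat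
and Spec β is an extraction of p-th roots, i.e. every point of Spec B_0 has an affine open
neighbourhood with affine preimage over which the ring map is a tower of finitely many elementary
extractions R → R[x]/(x^p − a). (The published statement also assumes B_0 faithfully flat and
syntomic over A₀ and A good; these are not used for (ii) and (iii) and are not assumed here. The v_j
are taken in A[Y] rather than in A₀[Y], which is how their p-th powers in A^{1/p}[Y] are meant.) -/
theorem result (p : ℕ) [Fact p.Prime]
    (k : Type u) [Field k] [CharP k p] [PerfectRing k p] (A : Type u) [CommRing A] [Algebra k A]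
    [CharP A p] [Algebra.Smooth k A] (n : ℕ) (t : Fin n → A) (ht : RingTheory.Sequence.IsRegular A (List.ofFn t))
    (r m : ℕ) (v : Fin m → MvPolynomial (Fin r) A)
    (hv : RingTheory.Sequence.IsRegular
      (MvPolynomial (Fin r) A ⧸ Ideal.span (Set.range fun i => C (t i) ^ p))
      (List.ofFn fun j => Ideal.Quotient.mk (Ideal.span (Set.range fun i => C (t i) ^ p)) (v j))) :
    RingTheory.Sequence.IsRegular (MvPolynomial (Fin r) A)
        (List.ofFn (fun i => C (t i) ^ (p ^ 2)) ++ List.ofFn (fun j => v j ^ p)) ∧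
      (Ideal.quotientMap ((Ideal.span (Set.range (fun i => C (t i) ^ p) ∪ Set.range v)).map (frobenius (MvPolynomial (Fin r) A) p)) (frobenius (MvPolynomial (Fin r) A) p) Ideal.le_comap_map).FaithfullyFlat ∧
      Quiet.IsPthRoot p (Spec.map (CommRingCat.ofHom (Ideal.quotientMap ((Ideal.span (Set.range (fun i => C (t i) ^ p) ∪ Set.range v)).map (frobenius (MvPolynomial (Fin r) A) p)) (frobenius (MvPolynomial (Fin r) A) p) Ideal.le_comap_map))) := by
  haveI : Algebra.Smooth A (MvPolynomial (Fin r) A) := ⟨inferInstance, inferInstance⟩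
  haveI : Algebra.Smooth k (MvPolynomial (Fin r) A) := Algebra.Smooth.comp k A _
  have hF := RelFrobEt.frobenius_ff (p := p) (k := k) (MvPolynomial (Fin r) A)
  refine ⟨?_, PthRootQuot.quotientMap_ff _ hF _, PthRootQuot.isPthRoot_quotient p k _ _⟩
  haveI : Nontrivial A := RingTheory.Sequence.IsRegular.nontrivial ht
  have h₁ : RingTheory.Sequence.IsRegular (MvPolynomial (Fin r) A) (List.ofFn fun i => MvPolynomial.C (σ := Fin r) (t i) ^ p) := by
    have h0 := isRegular_map (algebraMap A (MvPolynomial (Fin r) A))
      (RingHom.faithfullyFlat_algebraMap_iff.2 inferInstance)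
      (isRegular_map _ (RelFrobEt.frobenius_ff (p := p) (k := k) A) ht)
    rw [List.map_ofFn, List.map_ofFn] at h0
    have e : ((algebraMap A (MvPolynomial (Fin r) A)) ∘ frobenius A p ∘ t) =
        fun i => MvPolynomial.C (σ := Fin r) (t i) ^ p := funext fun i => by simp [frobenius_def]
    rw [e] at h0
    exact h0
  have h₂ := isRegular_map _ hF (isRegular_append _ (List.ofFn v)
    (Ideal.span (Set.range fun i => MvPolynomial.C (σ := Fin r) (t i) ^ p))
    (by simp only [Ideal.ofList, List.mem_ofFn, Set.range]) h₁ (by rw [List.map_ofFn]; exact hv))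
  rw [List.map_append, List.map_ofFn, List.map_ofFn] at h₂
  have e : (frobenius (MvPolynomial (Fin r) A) p ∘ fun i => MvPolynomial.C (σ := Fin r) (t i) ^ p) =
      fun i => MvPolynomial.C (σ := Fin r) (t i) ^ p ^ 2 :=
    funext fun i => by simp [frobenius_def, ← pow_mul, sq]
  rw [e] at h₂
  exact h₂

end Groth.Agent.S19480
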