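import Groth.Statements.S19484
import Groth.Agent.EtPBC.SkyCoprod

set_option autoImplicit false
universe u
open CategoryTheory CategoryTheory.Limits AlgebraicGeometry
open Curves

namespace Groth.Agent.S19484

/-- Let k be a separably closed field and C a curve over k, that is a scheme of finite type over k of
dimension at most one (no connectedness, smoothness, separatedness or properness assumed). Let φ : F
→ G be a morphism of torsion abelian sheaves on the small étale site of C which induces an
isomorphism on stalks at every geometric point of C lying over a generic point of an irreducible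
component (a point admitting no proper generalization). Then the induced map H^q(C_ét, F) →
H^q(C_ét, G) is an isomorphism for all q > 1; if moreover φ is an epimorphism, it is an isomorphism
for q = 1 as well. (The published statement fixes one geometric point over each generic point; the
dimension is taken at most one here.) -/
theorem result
    (k : Type u) [Field k] [IsSepClosed k] (C : Scheme.{u})
    (f : C ⟶ Spec (CommRingCat.of k)) [LocallyOfFiniteType f] [QuasiCompact f]
    (hdim : topologicalKrullDim C ≤ 1) (F G : EtCoh.Ab C) (hF : EtCoh.IsTorsion F) (hG : EtCoh.IsTorsion G)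
    (φ : F ⟶ G)
    (hgen : ∀ (Ω : Type u) [Field Ω] [IsSepClosed Ω] (ξ : Spec (CommRingCat.of Ω) ⟶ C),
      (∀ x ∈ Set.range ξ.base, ∀ y : C, y ⤳ x → y = x) → IsIso ((EtCoh.stalk ξ).map φ)) :
    (∀ q : ℕ, 1 < q → IsIso ((EtCoh.HF C q).map φ)) ∧ (Epi φ → IsIso ((EtCoh.HF C 1).map φ)) := by
  haveI : IsLocallyNoetherian C := LocallyOfFiniteType.isLocallyNoetherian f
  haveI : CompactSpace C := QuasiCompact.compactSpace_of_compactSpace f
  haveI : IsNoetherian C := {}
  have hsep := fun x hx => Groth.Agent.EtPBC.isSepClosed_of_isClosed f (x : C) hx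
  have hK : Groth.Agent.EtPBC.SuppClosed (Limits.kernel φ) :=
    Groth.Agent.EtPBC.suppClosed_of_isZero_stalk hdim _ fun Ω _ _ ξ h => by
      haveI := hgen Ω ξ h
      exact (Limits.isZero_kernel_of_mono ((EtCoh.stalk ξ).map φ)).of_iso (Limits.PreservesKernel.iso (EtCoh.stalk ξ) φ)
  have hC : Groth.Agent.EtPBC.SuppClosed (Limits.cokernel φ) :=
    Groth.Agent.EtPBC.suppClosed_of_isZero_stalk hdim _ fun Ω _ _ ξ h => by
      haveI := hgen Ω ξ h
      exact (Limits.isZero_cokernel_of_epi ((EtCoh.stalk ξ).map φ)).of_iso (Limits.PreservesCokernel.iso (EtCoh.stalk ξ) φ)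
  exact ⟨fun q hq => Groth.Agent.EtPBC.isIso_H_map_of_suppClosed hsep φ hK hC q (by omega) (fun e => absurd e (by omega)),
    fun h => Groth.Agent.EtPBC.isIso_H_map_of_suppClosed hsep φ hK hC 1 le_rfl (fun _ => h)⟩

end Groth.Agent.S19484
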