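import Groth.Statements.S19485
import Mathlib.RingTheory.PowerSeries.Expand
import Mathlib.Tactic
-- import your own Groth.Agent.* helpers here

set_option autoImplicit false
universe u
open Crimp

namespace Groth.Agent.S19485

/-- The criterion for closedness under multiplication on which the description of the stratum rests.
Over R = k⟦t⟧ with k an algebraically closed field of characteristic zero, let S̃ = k⟦x⟧ regarded as
an R-algebra through t ↦ x ^ 3, that is S̃ = R[x] / (x ^ 3 - t). Let m, n be natural numbers with m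
not divisible by 3, and let g be a power series with nonzero constant term. Then the R-submodule of
S̃ spanned by 1 and x ^ m g together with the ideal x ^ n S̃ is closed under multiplication if and
only if n ≤ 2m. (The published proposition goes on to describe the stratum of crimps with these
invariants as irreducible of dimension ⌊(n - m)/3⌋ with a normal form for g; only the closedness
criterion is stated here.) -/
theorem result {k : Type u} [Field k] [IsAlgClosed k] [CharZero k]
    (m n : ℕ) (hm : ¬ 3 ∣ m) (x g : W4c1hurwitzcpt.RootDisk 3 k)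
    (hx : W4c1hurwitzcpt.RootDisk.val x = PowerSeries.X) (hg : PowerSeries.order (W4c1hurwitzcpt.RootDisk.val g) = 0)
    (M : Submodule (PowerSeries k) (W4c1hurwitzcpt.RootDisk 3 k))
    (hM : M = Submodule.span (PowerSeries k) {1, x ^ m * g} ⊔
      (Ideal.span {x ^ n} : Ideal (W4c1hurwitzcpt.RootDisk 3 k)).restrictScalars (PowerSeries k)) :
    (∀ a ∈ M, ∀ b ∈ M, a * b ∈ M) ↔ n ≤ 2 * m := by
  subst hM
  constructor
  · intro h
    by_contra hn
    push Not at hn
    have hu : x ^ m * g ∈ Submodule.span (PowerSeries k) {1, x ^ m * g} ⊔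
        (Ideal.span {x ^ n} : Ideal (W4c1hurwitzcpt.RootDisk 3 k)).restrictScalars (PowerSeries k) :=
      Submodule.mem_sup_left (Submodule.subset_span (by simp))
    obtain ⟨y, hy, z, hz, hyz⟩ := Submodule.mem_sup.mp (h _ hu _ hu)
    obtain ⟨a, b, rfl⟩ := Submodule.mem_span_pair.mp hy
    obtain ⟨c, rfl⟩ := Ideal.mem_span_singleton'.mp hz
    have e := congrArg W4c1hurwitzcpt.RootDisk.val hyz
    simp only [map_add, map_mul, map_pow, Algebra.smul_def, mul_one, hx] at e
    set G := W4c1hurwitzcpt.RootDisk.val g with hG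
    set C := W4c1hurwitzcpt.RootDisk.val c with hC
    have hA : W4c1hurwitzcpt.RootDisk.val (algebraMap (PowerSeries k) (W4c1hurwitzcpt.RootDisk 3 k) a) =
        PowerSeries.expand 3 (by norm_num) a := rfl
    have hB : W4c1hurwitzcpt.RootDisk.val (algebraMap (PowerSeries k) (W4c1hurwitzcpt.RootDisk 3 k) b) =
        PowerSeries.expand 3 (by norm_num) b := rfl
    rw [hA, hB] at e
    set B := PowerSeries.expand 3 (by norm_num : (3:ℕ) ≠ 0) b with hBdef
    have key : ∀ j ≤ 2 * m, ¬ 3 ∣ j →
        PowerSeries.coeff j (B * (PowerSeries.X ^ m * G)) =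
          PowerSeries.coeff j (PowerSeries.X ^ (2 * m) * (G * G)) := by
      intro j hj h3
      have hh := congrArg (PowerSeries.coeff j) e
      rw [map_add, map_add, PowerSeries.coeff_expand_of_not_dvd 3 (by norm_num) _ h3,
        PowerSeries.coeff_mul_X_pow', if_neg (by omega), zero_add, add_zero] at hh
      rw [hh]
      congr 1
      ring
    have h0 : PowerSeries.coeff 0 G ≠ 0 := by
      intro h0
      have := PowerSeries.order_ne_zero_iff_constCoeff_eq_zero.mpr
        (by simpa [PowerSeries.coeff_zero_eq_constantCoeff] using h0)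
      exact this hg
    have h2m : PowerSeries.coeff (2 * m) (B * (PowerSeries.X ^ m * G)) ≠ 0 := by
      rw [key (2 * m) le_rfl (by omega), PowerSeries.coeff_X_pow_mul', if_pos le_rfl, Nat.sub_self,
        PowerSeries.coeff_zero_eq_constantCoeff, map_mul]
      rw [PowerSeries.coeff_zero_eq_constantCoeff] at h0
      exact mul_ne_zero h0 h0
    have hD : B * (PowerSeries.X ^ m * G) ≠ 0 := fun h => h2m (by rw [h, map_zero])
    have hle := PowerSeries.order_le _ h2m
    have hord : (B * (PowerSeries.X ^ m * G)).order = 3 • b.order + (m + 0) := by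
      rw [PowerSeries.order_mul, PowerSeries.order_mul, PowerSeries.order_X_pow, hg,
        hBdef, PowerSeries.order_expand]
    have hb : b ≠ 0 := by
      rintro rfl
      exact hD (by simp [hBdef])
    obtain ⟨i, hi⟩ := ENat.ne_top_iff_exists.mp (mt PowerSeries.order_eq_top.mp hb)
    rw [← hi, nsmul_eq_mul, add_zero] at hord
    have hord' : (B * (PowerSeries.X ^ m * G)).order = ((3 * i + m : ℕ) : ℕ∞) := by
      rw [hord]; push_cast; rfl
    rw [hord', Nat.cast_le] at hle
    have hc := PowerSeries.coeff_order hD
    rw [hord', ENat.toNat_coe] at hc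
    rw [key _ hle (by omega), PowerSeries.coeff_X_pow_mul'] at hc
    split_ifs at hc with h'
    · omega
    · exact hc rfl
  · intro hn
    have hsq : ∀ c d : W4c1hurwitzcpt.RootDisk 3 k,
        x ^ n ∣ c → c * d ∈ Submodule.span (PowerSeries k) {1, x ^ m * g} ⊔
          (Ideal.span {x ^ n} : Ideal (W4c1hurwitzcpt.RootDisk 3 k)).restrictScalars (PowerSeries k) :=
      fun c d hc => Submodule.mem_sup_right
        (Ideal.mem_span_singleton.mpr (hc.mul_right d))
    intro p hp q hq
    obtain ⟨y, hy, z, hz, rfl⟩ := Submodule.mem_sup.mp hp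
    obtain ⟨y', hy', z', hz', rfl⟩ := Submodule.mem_sup.mp hq
    obtain ⟨a, b, rfl⟩ := Submodule.mem_span_pair.mp hy
    obtain ⟨a', b', rfl⟩ := Submodule.mem_span_pair.mp hy'
    have hz1 := Ideal.mem_span_singleton.mp hz
    have hz2 := Ideal.mem_span_singleton.mp hz'
    have expand : (a • 1 + b • (x ^ m * g) + z) * (a' • 1 + b' • (x ^ m * g) + z') =
        ((a * a') • (1 : W4c1hurwitzcpt.RootDisk 3 k) + (a * b' + b * a') • (x ^ m * g)) +
          ((b * b') • (x ^ (2 * m) * (g * g)) + z * (a' • 1 + b' • (x ^ m * g) + z') +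
            z' * (a • 1 + b • (x ^ m * g))) := by
      simp only [Algebra.smul_def, map_add, map_mul]
      ring
    rw [expand]
    refine add_mem (Submodule.mem_sup_left (Submodule.mem_span_pair.mpr ⟨_, _, rfl⟩))
      (add_mem (add_mem ?_ (hsq _ _ hz1)) (hsq _ _ hz2))
    exact Submodule.smul_mem _ _ (hsq _ _ (pow_dvd_pow x hn))

end Groth.Agent.S19485
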