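import Groth.Statements.S19486
import Mathlib.RingTheory.PowerSeries.Expand
import Mathlib.Tactic
-- import your own Groth.Agent.* helpers here

set_option autoImplicit false
universe u
open Crimp

namespace Groth.Agent.S19486

/-- The emptiness of the stratum rests on the following computation. Over R = k⟦t⟧ with k an
algebraically closed field of characteristic zero, let S̃ = S̃₁ × R where S̃₁ = k⟦x⟧ is regarded as
an R-algebra through t ↦ x ^ 2, that is S̃₁ = R[x] / (x ^ 2 - t), with R embedded diagonally in the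
product. Let m be odd, n > 2m, and let g be a power series with nonzero constant term. Then the
R-submodule of S̃ spanned by 1 = (1, 1) and (x ^ m g, 0) together with the ideal x ^ n S̃₁ × 0 is
not closed under multiplication. (The published item concludes that the corresponding stratum of
crimps is empty; only this computation is stated here, with the ideal read as x ^ n S̃₁ × 0.) -/
theorem result {k : Type u} [Field k] [IsAlgClosed k] [CharZero k]
    (m n : ℕ) (hm : Odd m) (hmn : 2 * m < n) (x g : W4c1hurwitzcpt.RootDisk 2 k)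
    (hx : W4c1hurwitzcpt.RootDisk.val x = PowerSeries.X) (hg : PowerSeries.order (W4c1hurwitzcpt.RootDisk.val g) = 0)
    (M : Submodule (PowerSeries k) (W4c1hurwitzcpt.RootDisk 2 k × PowerSeries k))
    (hM : M = Submodule.span (PowerSeries k) {(1 : W4c1hurwitzcpt.RootDisk 2 k × PowerSeries k), (x ^ m * g, 0)} ⊔
      ((Ideal.span {x ^ n} : Ideal (W4c1hurwitzcpt.RootDisk 2 k)).restrictScalars (PowerSeries k)).prod ⊥) :
    ∃ a ∈ M, ∃ b ∈ M, a * b ∉ M := by
  refine ⟨(x ^ m * g, 0), ?_, (x ^ m * g, 0), ?_, ?_⟩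
  · rw [hM]; exact Submodule.mem_sup_left (Submodule.subset_span (by simp))
  · rw [hM]; exact Submodule.mem_sup_left (Submodule.subset_span (by simp))
  rw [hM]
  intro hu
  obtain ⟨y, hy, z, hz, hyz⟩ := Submodule.mem_sup.mp hu
  obtain ⟨a, b, rfl⟩ := Submodule.mem_span_pair.mp hy
  obtain ⟨hz1, hz2⟩ := hz
  obtain ⟨c, hc⟩ := Ideal.mem_span_singleton'.mp hz1
  have e2 := congrArg Prod.snd hyz
  replace hz2 : z.2 = 0 := hz2
  simp [hz2] at e2
  subst e2
  have e := congrArg (fun w => W4c1hurwitzcpt.RootDisk.val w.1) hyz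
  simp only [Prod.fst_add, Prod.smul_fst, Prod.fst_mul, zero_smul, Prod.fst_zero, zero_add,
    ← hc] at e
  simp only [map_add, map_mul, map_pow, Algebra.smul_def, hx] at e
  have hB : W4c1hurwitzcpt.RootDisk.val (algebraMap (PowerSeries k) (W4c1hurwitzcpt.RootDisk 2 k) b) =
      PowerSeries.expand 2 (by norm_num) b := rfl
  rw [hB] at e
  set G := W4c1hurwitzcpt.RootDisk.val g with hG
  set B := PowerSeries.expand 2 (by norm_num : (2:ℕ) ≠ 0) b with hBdef
  obtain ⟨l, rfl⟩ := hm
  have key : ∀ j ≤ 2 * (2 * l + 1),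
      PowerSeries.coeff j (B * (PowerSeries.X ^ (2 * l + 1) * G)) =
        PowerSeries.coeff j (PowerSeries.X ^ (2 * (2 * l + 1)) * (G * G)) := by
    intro j hj
    have hh := congrArg (PowerSeries.coeff j) e
    rw [map_add, PowerSeries.coeff_mul_X_pow', if_neg (by omega), add_zero] at hh
    rw [hh]
    congr 1
    ring
  have h0 : PowerSeries.constantCoeff G ≠ 0 := fun h0 =>
    PowerSeries.order_ne_zero_iff_constCoeff_eq_zero.mpr h0 hg
  have h2m : PowerSeries.coeff (2 * (2 * l + 1)) (B * (PowerSeries.X ^ (2 * l + 1) * G)) ≠ 0 := by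
    rw [key _ le_rfl, PowerSeries.coeff_X_pow_mul', if_pos le_rfl, Nat.sub_self,
      PowerSeries.coeff_zero_eq_constantCoeff, map_mul]
    exact mul_ne_zero h0 h0
  have hD : B * (PowerSeries.X ^ (2 * l + 1) * G) ≠ 0 := fun h => h2m (by rw [h, map_zero])
  have hle := PowerSeries.order_le _ h2m
  have hord : (B * (PowerSeries.X ^ (2 * l + 1) * G)).order =
      2 • b.order + (((2 * l + 1 : ℕ) : ℕ∞) + 0) := by
    rw [PowerSeries.order_mul, PowerSeries.order_mul, PowerSeries.order_X_pow, hg,
      hBdef, PowerSeries.order_expand]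
  have hb : b ≠ 0 := by
    rintro rfl
    exact hD (by simp [hBdef])
  obtain ⟨i, hi⟩ := ENat.ne_top_iff_exists.mp (mt PowerSeries.order_eq_top.mp hb)
  rw [← hi, nsmul_eq_mul, add_zero] at hord
  have hord' : (B * (PowerSeries.X ^ (2 * l + 1) * G)).order =
      ((2 * i + (2 * l + 1) : ℕ) : ℕ∞) := by
    rw [hord]; push_cast; rfl
  rw [hord', Nat.cast_le] at hle
  have hc' := PowerSeries.coeff_order hD
  rw [hord', ENat.toNat_coe] at hc'
  rw [key _ hle, PowerSeries.coeff_X_pow_mul'] at hc'
  split_ifs at hc' with h'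
  · omega
  · exact hc' rfl

end Groth.Agent.S19486
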