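import Groth.Statements.S19487
import Mathlib.Algebra.Order.BigOperators.Group.Finset


set_option autoImplicit false
open W4c1frobunstiva

namespace Groth.Agent.S19487

/-- The second formula. For p odd and natural numbers n, s, write N_p(n, s) for the number of monomials
of degree s in n variables in which every variable occurs with a positive exponent strictly less
than p, that is of exponent vectors (e_1, …, e_n) with sum s and 1 ≤ e_i ≤ p − 1, and N_p^D(n, s)
for the number of those in which exactly D variables occur with exponent less than p/2. Then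
N_p^D(n, s) = C(n, D) · Σ_j N_{(p+1)/2}(D, j) · N_{(p+1)/2}(n − D, s − j − (n − D)(p − 1)/2), the
sum running over 0 ≤ j ≤ s. (Natural-number subtraction is used in the last argument; when it
truncates and n > D the factor vanishes, as it should. The published setting has p an odd prime;
only p odd is used. The companion inclusion–exclusion expression for N_p(n, s) itself is a separate
statement.) -/
theorem result (p n s D : ℕ) (hp : Odd p) :
    Fintype.card {e : Fin n → Fin p // (∀ i, 1 ≤ (e i : ℕ)) ∧ ∑ i, (e i : ℕ) = s ∧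
        (Finset.univ.filter fun i => 2 * (e i : ℕ) < p).card = D} =
      n.choose D * ∑ j ∈ Finset.range (s + 1),
        Fintype.card {e : Fin D → Fin ((p + 1) / 2) // (∀ i, 1 ≤ (e i : ℕ)) ∧ ∑ i, (e i : ℕ) = j} *
          Fintype.card {e : Fin (n - D) → Fin ((p + 1) / 2) // (∀ i, 1 ≤ (e i : ℕ)) ∧ ∑ i, (e i : ℕ) = (s - j - (n - D) * ((p - 1) / 2))} := by
  classical
  obtain ⟨h, rfl⟩ := hp
  have e1 : (2 * h + 1 + 1) / 2 = h + 1 := by omega
  have e2 : (2 * h + 1 - 1) / 2 = h := by omega
  rw [e1, e2]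
  let small : (Fin n → Fin (2 * h + 1)) → Finset (Fin n) :=
    fun e => Finset.univ.filter fun i => 2 * (e i : ℕ) < 2 * h + 1
  let T := {fg : (Fin D → Fin (h + 1)) × (Fin (n - D) → Fin (h + 1)) //
    (∀ i, 1 ≤ (fg.1 i : ℕ)) ∧ (∀ i, 1 ≤ (fg.2 i : ℕ)) ∧
      ∑ i, (fg.1 i : ℕ) + ∑ i, ((fg.2 i : ℕ) + h) = s}
  -- every fibre over the set of small coordinates has `card T` elements
  have hfib : ∀ S ∈ (Finset.univ : Finset (Fin n)).powersetCard D,
      Fintype.card {e : Fin n → Fin (2 * h + 1) //
        ((∀ i, 1 ≤ (e i : ℕ)) ∧ ∑ i, (e i : ℕ) = s) ∧ small e = S} = Fintype.card T := by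
    intro S hS
    have hcard : S.card = D := (Finset.mem_powersetCard.mp hS).2
    have hc : Fintype.card {i : Fin n // i ∈ S} = D := by simp [hcard]
    have hc' : Fintype.card {i : Fin n // ¬ i ∈ S} = n - D := by
      rw [Fintype.card_subtype_compl, Fintype.card_fin, hc]
    let θ : Fin D ⊕ Fin (n - D) ≃ Fin n :=
      (Equiv.sumCongr (Fintype.equivFinOfCardEq hc).symm (Fintype.equivFinOfCardEq hc').symm).trans
        (Equiv.sumCompl _)
    have hθl : ∀ a, θ (Sum.inl a) ∈ S := fun a => by
      simp only [θ, Equiv.trans_apply, Equiv.sumCongr_apply, Sum.map_inl, Equiv.sumCompl_apply_inl]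
      exact Subtype.prop _
    have hθr : ∀ b, θ (Sum.inr b) ∉ S := fun b => by
      simp only [θ, Equiv.trans_apply, Equiv.sumCongr_apply, Sum.map_inr, Equiv.sumCompl_apply_inr]
      exact ((Fintype.equivFinOfCardEq hc').symm b).2
    have hsum : ∀ e : Fin n → ℕ,
        ∑ i, e i = ∑ a, e (θ (Sum.inl a)) + ∑ b, e (θ (Sum.inr b)) := fun e => by
      rw [← θ.sum_comp, Fintype.sum_sum_type]
    refine Fintype.card_congr
      { toFun := fun e => ⟨(fun a => ⟨(e.1 (θ (Sum.inl a)) : ℕ), ?_⟩,
          fun b => ⟨(e.1 (θ (Sum.inr b)) : ℕ) - h, ?_⟩), ?_, ?_, ?_⟩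
        invFun := fun fg => ⟨fun i => Sum.elim (fun a => ⟨(fg.1.1 a : ℕ), ?_⟩)
          (fun b => ⟨(fg.1.2 b : ℕ) + h, ?_⟩) (θ.symm i), ⟨?_, ?_⟩, ?_⟩
        left_inv := ?_
        right_inv := ?_ }
    · have hlt : 2 * (e.1 (θ (Sum.inl a)) : ℕ) < 2 * h + 1 := by
        have : θ (Sum.inl a) ∈ small e.1 := e.2.2.symm ▸ hθl a
        simpa [small] using this
      omega
    · have := (e.1 (θ (Sum.inr b))).isLt
      omega
    · exact fun a => e.2.1.1 _
    · intro b
      have hlt : ¬ 2 * (e.1 (θ (Sum.inr b)) : ℕ) < 2 * h + 1 := fun hh => hθr b (e.2.2 ▸ by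
        simp [small, hh])
      show 1 ≤ (e.1 (θ (Sum.inr b)) : ℕ) - h
      omega
    · refine Eq.trans ?_ ((hsum fun i => (e.1 i : ℕ)).symm.trans e.2.1.2)
      refine congrArg _ (Finset.sum_congr rfl fun b _ => ?_)
      have hlt : ¬ 2 * (e.1 (θ (Sum.inr b)) : ℕ) < 2 * h + 1 := fun hh => hθr b (e.2.2 ▸ by
        simp [small, hh])
      show (e.1 (θ (Sum.inr b)) : ℕ) - h + h = _
      omega
    · have := (fg.1.1 a).isLt; omega
    · have := (fg.1.2 b).isLt; omega
    · intro i
      obtain ⟨x, rfl⟩ := θ.surjective i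
      rcases x with a | b <;> simp only [Equiv.symm_apply_apply, Sum.elim_inl, Sum.elim_inr]
      · exact fg.2.1 a
      · exact Nat.le_add_right_of_le (fg.2.2.1 b)
    · rw [hsum]
      simp only [Equiv.symm_apply_apply, Sum.elim_inl, Sum.elim_inr]
      exact fg.2.2.2
    · ext i
      obtain ⟨x, rfl⟩ := θ.surjective i
      rcases x with a | b
      · simp [small, hθl a]; have := (fg.1.1 a).isLt; omega
      · simp [small, hθr b]; have := fg.2.2.1 b; omega
    · intro e
      refine Subtype.ext (funext fun i => ?_)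
      obtain ⟨x, rfl⟩ := θ.surjective i
      rcases x with a | b <;> apply Fin.ext <;>
        simp only [Equiv.symm_apply_apply, Sum.elim_inl, Sum.elim_inr]
      have hlt : ¬ 2 * (e.1 (θ (Sum.inr b)) : ℕ) < 2 * h + 1 := fun hh => hθr b (e.2.2 ▸ by
        simp [small, hh])
      omega
    · intro fg
      refine Subtype.ext (Prod.ext (funext fun a => Fin.ext ?_) (funext fun b => Fin.ext ?_)) <;>
        simp
  -- split `T` according to the sum of the small coordinates
  have hT : Fintype.card T = ∑ j ∈ Finset.range (s + 1),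
      Fintype.card {e : Fin D → Fin (h + 1) // (∀ i, 1 ≤ (e i : ℕ)) ∧ ∑ i, (e i : ℕ) = j} *
        Fintype.card {e : Fin (n - D) → Fin (h + 1) //
          (∀ i, 1 ≤ (e i : ℕ)) ∧ ∑ i, (e i : ℕ) = (s - j - (n - D) * h)} := by
    rw [Fintype.card_subtype,
      Finset.card_eq_sum_card_fiberwise
        (f := fun fg : (Fin D → Fin (h + 1)) × (Fin (n - D) → Fin (h + 1)) => ∑ i, (fg.1 i : ℕ))
        (t := Finset.range (s + 1))
        (fun fg hfg => Finset.mem_range.mpr (by
          have := (Finset.mem_filter.mp hfg).2.2.2; dsimp only; omega))]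
    refine Finset.sum_congr rfl fun j hj => ?_
    rw [Fintype.card_subtype, Fintype.card_subtype, ← Finset.card_product]
    congr 1
    ext ⟨f, g⟩
    simp only [Finset.mem_filter, Finset.mem_univ, true_and, Finset.mem_product]
    rw [Finset.mem_range] at hj
    have hg : ∑ i, ((g i : ℕ) + h) = ∑ i, (g i : ℕ) + (n - D) * h := by
      simp [Finset.sum_add_distrib]
    constructor
    · rintro ⟨⟨hf1, hg1, hs'⟩, hj'⟩
      exact ⟨⟨hf1, hj'⟩, hg1, by omega⟩
    · rintro ⟨⟨hf1, hj'⟩, hg1, hg'⟩
      refine ⟨⟨hf1, hg1, ?_⟩, hj'⟩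
      have hpos : n - D ≤ ∑ i, (g i : ℕ) := by
        calc n - D = ∑ _i : Fin (n - D), 1 := by simp
          _ ≤ _ := Finset.sum_le_sum fun i _ => hg1 i
      rcases Nat.eq_zero_or_pos (n - D) with h0 | h0
      · have h0' : (n - D) * h = 0 := by rw [h0, Nat.zero_mul]
        omega
      · omega
  rw [← hT, Fintype.card_subtype,
    Finset.card_eq_sum_card_fiberwise (f := small) (t := (Finset.univ : Finset (Fin n)).powersetCard D)
      (fun e he => Finset.mem_powersetCard.mpr
        ⟨Finset.subset_univ _, (Finset.mem_filter.mp he).2.2.2⟩),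
    Finset.sum_congr rfl (g := fun _ => Fintype.card T) fun S hS => ?_]
  · rw [Finset.sum_const, Finset.card_powersetCard, Finset.card_univ, Fintype.card_fin, smul_eq_mul]
  · rw [← hfib S hS, Fintype.card_subtype]
    congr 1
    ext e
    simp only [Finset.mem_filter, Finset.mem_univ, true_and]
    constructor
    · exact fun ⟨⟨a, b, _⟩, c⟩ => ⟨⟨a, b⟩, c⟩
    · exact fun ⟨⟨a, b⟩, c⟩ => ⟨⟨a, b, by
        change (small e).card = D
        rw [c]; exact (Finset.mem_powersetCard.mp hS).2⟩, c⟩

end Groth.Agent.S19487
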