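import Groth.Statements.S19489
import Mathlib

set_option autoImplicit false
open scoped TensorProduct
open ZeroCyc

namespace Groth.Agent.S19489

/-- Let p be a prime, k = F_p(t_0, t_1, …) the field of rational functions over F_p in countably many
variables, and K = k^{1/p} = F_p(t_0^{1/p}, t_1^{1/p}, …), modelled here as a copy of k made into a
k-algebra through the Frobenius b ↦ b ^ p (under a ↦ a ^ p the extension k ⊆ k^{1/p} becomes this
algebra). Then a ↦ a ^ p is a multiplicative polynomial law from K to k over k, homogeneous of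
degree p: there is such a law sending s ⊗ a to s ^ p ⊗ a ^ p on every test algebra S, where a ^ p is
read in k. Every such law has zero kernel, so the support of the corresponding family of zero-cycles
of degree p on Spec K over Spec k is all of Spec K; and K is not finite over k. Thus the support of
a family of zero-cycles need not be finite over the base. -/
theorem result (p : ℕ) [Fact p.Prime] :
    (∃ F : PolLaw.MulLaw (FractionRing (MvPolynomial ℕ (ZMod p))) (FrobAlg.Twist p (FractionRing (MvPolynomial ℕ (ZMod p)))) (FractionRing (MvPolynomial ℕ (ZMod p))) p,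
      ∀ (S : Type) [CommSemiring S] [Algebra (FractionRing (MvPolynomial ℕ (ZMod p))) S] (s : S) (a : FrobAlg.Twist p (FractionRing (MvPolynomial ℕ (ZMod p)))),
        F.law.toFun' S (s ⊗ₜ[FractionRing (MvPolynomial ℕ (ZMod p))] a) =
          (s ^ p) ⊗ₜ[FractionRing (MvPolynomial ℕ (ZMod p))] (FrobAlg.toTwist p (FractionRing (MvPolynomial ℕ (ZMod p)))).symm a) ∧
    (∀ F : PolLaw.MulLaw (FractionRing (MvPolynomial ℕ (ZMod p))) (FrobAlg.Twist p (FractionRing (MvPolynomial ℕ (ZMod p)))) (FractionRing (MvPolynomial ℕ (ZMod p))) p,
      (∀ (S : Type) [CommSemiring S] [Algebra (FractionRing (MvPolynomial ℕ (ZMod p))) S] (s : S) (a : FrobAlg.Twist p (FractionRing (MvPolynomial ℕ (ZMod p)))),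
        F.law.toFun' S (s ⊗ₜ[FractionRing (MvPolynomial ℕ (ZMod p))] a) =
          (s ^ p) ⊗ₜ[FractionRing (MvPolynomial ℕ (ZMod p))] (FrobAlg.toTwist p (FractionRing (MvPolynomial ℕ (ZMod p)))).symm a) →
      PolLaw.ker F.law = ⊥) ∧
    ¬ Module.Finite (FractionRing (MvPolynomial ℕ (ZMod p))) (FrobAlg.Twist p (FractionRing (MvPolynomial ℕ (ZMod p)))) := by
  classical
  set k := FractionRing (MvPolynomial ℕ (ZMod p))
  have hp : p.Prime := Fact.out
  refine ⟨?_, fun F hF => ?_, ?_⟩
  · have hadd : ∀ (S : Type) [CommSemiring S] [Algebra k S] (x y : S), (x + y) ^ p = x ^ p + y ^ p := by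
      intro S _ _ x y
      obtain ⟨r, hr⟩ := exists_add_pow_prime_eq hp x y
      have h0 : (p : S) = 0 := by
        rw [← map_natCast (algebraMap k S), CharP.cast_eq_zero, map_zero]
      rw [hr, h0]
      simp
    let Φ : ∀ (S : Type) [CommSemiring S] [Algebra k S], S ⊗[k] FrobAlg.Twist p k →+ S ⊗[k] k :=
      fun S _ _ => TensorProduct.liftAddHom
        { toFun := fun s =>
            { toFun := fun a => (s ^ p) ⊗ₜ[k] (FrobAlg.toTwist p k).symm a
              map_zero' := by rw [map_zero, TensorProduct.tmul_zero]
              map_add' := fun a b => by rw [map_add, TensorProduct.tmul_add] }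
          map_zero' := by
            refine AddMonoidHom.ext fun a => ?_
            show ((0 : S) ^ p) ⊗ₜ[k] _ = _
            rw [zero_pow hp.ne_zero, TensorProduct.zero_tmul]
            rfl
          map_add' := fun s t => by
            refine AddMonoidHom.ext fun a => ?_
            show ((s + t) ^ p) ⊗ₜ[k] _ = (s ^ p) ⊗ₜ[k] _ + (t ^ p) ⊗ₜ[k] _
            rw [hadd S s t, TensorProduct.add_tmul] }
        (fun c s a => by
          show ((c • s) ^ p) ⊗ₜ[k] _ = (s ^ p) ⊗ₜ[k] (FrobAlg.toTwist p k).symm (c • a)
          rw [Algebra.smul_def c a, map_mul, FrobAlg.algebraMap_twist, RingEquiv.symm_apply_apply,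
            ← smul_eq_mul, ← TensorProduct.smul_tmul, smul_pow])
    have hΦ : ∀ (S : Type) [CommSemiring S] [Algebra k S] (s : S) (a : FrobAlg.Twist p k),
        Φ S (s ⊗ₜ[k] a) = (s ^ p) ⊗ₜ[k] (FrobAlg.toTwist p k).symm a := fun S _ _ s a => rfl
    refine ⟨{ law := { toFun' := fun S _ _ => Φ S, isCompat' := ?_ }, homog := ?_, mult := ?_ },
      fun S _ _ s a => hΦ S s a⟩
    · intro S _ _ S' _ _ φ
      funext x
      simp only [Function.comp_apply]
      induction x using TensorProduct.induction_on with
      | zero => simp
      | tmul s a =>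
        rw [LinearMap.rTensor_tmul, hΦ, hΦ, LinearMap.rTensor_tmul]
        simp
        rfl
      | add x y hx hy => simp only [map_add, hx, hy]
    · intro S _ _ s x
      induction x using TensorProduct.induction_on with
      | zero => simp
      | tmul t a =>
        show Φ S (s • t ⊗ₜ[k] a) = s ^ p • Φ S (t ⊗ₜ[k] a)
        rw [TensorProduct.smul_tmul', smul_eq_mul, hΦ, hΦ, TensorProduct.smul_tmul', smul_eq_mul, mul_pow]
      | add x y hx hy =>
        show Φ S (s • (x + y)) = s ^ p • Φ S (x + y)
        simp only [smul_add, map_add]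
        exact congrArg₂ (· + ·) hx hy
    · intro S _ _
      refine ⟨?_, fun x y => ?_⟩
      · show Φ S 1 = 1
        rw [Algebra.TensorProduct.one_def, hΦ, one_pow, map_one, Algebra.TensorProduct.one_def]
      show Φ S (x * y) = Φ S x * Φ S y
      induction x using TensorProduct.induction_on with
      | zero => simp
      | add x x' hx hx' => simp only [map_add, add_mul, hx, hx']
      | tmul s a =>
        induction y using TensorProduct.induction_on with
        | zero => simp
        | add y y' hy hy' => simp only [map_add, mul_add, hy, hy']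
        | tmul t b =>
          rw [Algebra.TensorProduct.tmul_mul_tmul, hΦ, hΦ, hΦ, Algebra.TensorProduct.tmul_mul_tmul,
            mul_pow, map_mul]
  · rw [eq_bot_iff]
    intro b hb
    have h1 := hb k 0 1
    rw [one_mul, zero_add, hF k 1 b,
      show (0 : k ⊗[k] FrobAlg.Twist p k) = (1 : k) ⊗ₜ[k] 0 from (TensorProduct.tmul_zero _ _).symm,
      hF k 1 0] at h1
    have h2 := congrArg (TensorProduct.lid k k) h1
    simp only [TensorProduct.lid_tmul, one_pow, one_smul, map_zero] at h2
    simpa using h2
  · intro hfin
    let t : ℕ → FrobAlg.Twist p k := fun i =>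
      FrobAlg.toTwist p k (algebraMap (MvPolynomial ℕ (ZMod p)) k (MvPolynomial.X i))
    have hli : LinearIndependent k t := by
      rw [linearIndependent_iff']
      intro s c hc i hi
      obtain ⟨⟨D, hD⟩, hint⟩ :=
        IsLocalization.exist_integer_multiples (nonZeroDivisors (MvPolynomial ℕ (ZMod p))) s c
      choose a ha using hint
      have h2 : ∑ j ∈ s, c j ^ p * algebraMap (MvPolynomial ℕ (ZMod p)) k (MvPolynomial.X j) = 0 := by
        have h3 := congrArg (FrobAlg.toTwist p k).symm hc
        rw [map_sum, map_zero] at h3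
        rw [← h3]
        refine Finset.sum_congr rfl fun j _ => ?_
        rw [Algebra.smul_def (c j) (t j), map_mul, FrobAlg.algebraMap_twist,
          RingEquiv.symm_apply_apply, RingEquiv.symm_apply_apply]
      have h4 : ∑ j ∈ s.attach, a j.1 j.2 ^ p * MvPolynomial.X j.1 = (0 : MvPolynomial ℕ (ZMod p)) := by
        apply IsFractionRing.injective (MvPolynomial ℕ (ZMod p)) k
        rw [map_sum, map_zero, ← mul_zero ((algebraMap (MvPolynomial ℕ (ZMod p)) k D) ^ p), ← h2,
          ← Finset.sum_attach s, Finset.mul_sum]
        refine Finset.sum_congr rfl fun j _ => ?_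
        rw [map_mul, map_pow, ha, Algebra.smul_def, mul_pow, mul_assoc]
      have h5 := congrArg (MvPolynomial.pderiv i) h4
      rw [map_sum, map_zero, Finset.sum_eq_single (⟨i, hi⟩ : {x // x ∈ s}), Derivation.leibniz] at h5
      · simp [Derivation.leibniz_pow] at h5
        have h6 := ha i hi
        rw [h5.1, map_zero, Algebra.smul_def, eq_comm, mul_eq_zero] at h6
        exact h6.resolve_left (fun h => nonZeroDivisors.ne_zero hD
          (IsFractionRing.injective (MvPolynomial ℕ (ZMod p)) k (h.trans (map_zero _).symm)))
      · intro j _ hj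
        have hji : j.1 ≠ i := fun h => hj (Subtype.ext h)
        simp [Derivation.leibniz, Derivation.leibniz_pow, MvPolynomial.pderiv_X_of_ne hji]
      · exact fun h => absurd (Finset.mem_attach _ _) h
    haveI := hli.finite
    exact not_finite ℕ

end Groth.Agent.S19489
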