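import Groth.Statements.S1950
import Groth.Agent.BivarOps.TorPushScheme
import Groth.Agent.BivarOps.InterBilin
import Groth.Agent.S1897
import Groth.Agent.S6470
import Groth.Agent.CycDim.AffineSurj
-- import your own Groth.Agent.* helpers here

set_option autoImplicit false
set_option linter.style.haveILetI false
set_option backward.isDefEq.respectTransparency false
set_option maxHeartbeats 1000000
universe u
open CategoryTheory CategoryTheory.Limits AlgebraicGeometry
attribute [local instance] HasDerivedCategory.standard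
open IntMult
open Groth.Agent

namespace Groth.Agent.BivarOps

theorem finsum_mem_sum {ι κ : Type*} (S : Finset ι) (s : Set κ) (F : ι → κ → ℤ)
    (h : ∀ i ∈ S, (s ∩ Function.support (F i)).Finite) :
    ∑ᶠ x ∈ s, ∑ i ∈ S, F i x = ∑ i ∈ S, ∑ᶠ x ∈ s, F i x := by
  classical
  induction S using Finset.induction_on with
  | empty => simp
  | insert i S hi ih =>
    simp only [Finset.sum_insert hi]
    rw [finsum_mem_add_distrib' (h i (Finset.mem_insert_self i S)) ?_, ih fun j hj => h j (Finset.mem_insert_of_mem hj)]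
    refine (S.finite_toSet.biUnion fun j hj => h j (Finset.mem_insert_of_mem hj)).subset fun x hx => ?_
    obtain ⟨j, hj, hne⟩ := Finset.exists_ne_zero_of_sum_ne_zero (Function.mem_support.1 hx.2)
    exact Set.mem_biUnion hj ⟨hx.1, hne⟩

end Groth.Agent.BivarOps

namespace Groth.Agent.S1950

/-- Let f : X → Y be proper and flat, where X and Y are nonsingular varieties over K of dimensions n and
m, e = n − m, α an r-cycle on X and β an s-cycle on Y such that α and f^*β intersect properly. The
pushforward f_*α then meets β properly, and on Y the cycle f_*α · β equals f_*(α · f^*β) (flat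
pullback and products taken coefficientwise; f_* is Mathlib's pushforward, applied to any cycle with
the coefficients of α · f^*β). Here X is a nonsingular variety over the algebraically closed field K
(smooth, separated, quasi-compact, integral) with dimension function δ (transcendence degree) and n
= dim X; cycles are Mathlib AlgebraicCycles with Cyc.Zk membership, proper intersection is
IntMult.IntersectProperly and α · β is the Tor-formula intersection product on coefficient functions
(IntMult.interProd), bundled where needed as 'any cycle with these coefficients'. -/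
theorem result (K : Type u) [Field K] [IsAlgClosed K] (X Y : Scheme.{u}) (f : X ⟶ Y) (gX : X ⟶ Spec (CommRingCat.of K)) (gY : Y ⟶ Spec (CommRingCat.of K)) (hf : f ≫ gY = gX) [Smooth gX] [IsSeparated gX] [QuasiCompact gX] [IsIntegral X] [Smooth gY] [IsSeparated gY] [QuasiCompact gY] [IsIntegral Y] [Flat f] [IsProper f] (δX : X → ℤ) (δY : Y → ℤ) (hX : Cyc.IsSetup X δX) (hY : Cyc.IsSetup Y δY) (hδX : Cyc.DeltaCompat gX δX (fun _ => 0)) (hδY : Cyc.DeltaCompat gY δY (fun _ => 0)) (hδ : Cyc.DeltaCompat f δX δY) (n m : ℤ) (hn : δX (genericPoint X) = n) (hm : δY (genericPoint Y) = m) (e : ℕ) (he : (e : ℤ) = n - m) (hrel : Cyc.HasRelDim f e) (r s : ℤ) (α : AlgebraicCycle X ℤ) (β : AlgebraicCycle Y ℤ) (hα : α ∈ Cyc.Zk X δX r) (hβ : β ∈ Cyc.Zk Y δY s) (hprop : IntMult.IntersectProperly δX n ⇑α (Cyc.pullFun f δX δY e ⇑β)) (γ : AlgebraicCycle X ℤ) (hγ : ⇑γ = IntMult.interProd δX n ⇑α (Cyc.pullFun f δX δY e ⇑β)) : IntMult.IntersectProperly δY m ⇑(AlgebraicCycle.map f δX δY α) ⇑β ∧ IntMult.interProd δY m ⇑(AlgebraicCycle.map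 f δX δY α) ⇑β = ⇑(AlgebraicCycle.map f δX δY γ) := by
  classical
  haveI := hX.1
  haveI := hY.1
  haveI : ∀ x : X, IsRegularLocalRing (X.presheaf.stalk x) :=
    fun x => SmLocalST.isRegularLocalRing_stalk_of_smooth_field gX x
  haveI : ∀ y : Y, IsRegularLocalRing (Y.presheaf.stalk y) :=
    fun y => SmLocalST.isRegularLocalRing_stalk_of_smooth_field gY y
  choose FF hFc hFs hFd hFv using fun a : X => BivarOps.exists_pointSheaf hX a
  choose GG hGc hGs hGd hGv using fun b : Y => BivarOps.exists_pointSheaf hY b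
  have hle : ∀ ζ : X, δY (f ζ) ≤ δX ζ := fun ζ => by
    obtain ⟨d, -, hd⟩ := hδ ζ
    omega
  have hrA : ∀ a, α a ≠ 0 → δX a = r := fun a h => of_not_not fun hne => h (hα a hne)
  have hsB : ∀ b, β b ≠ 0 → δY b = s := fun b h => of_not_not fun hne => h (hβ b hne)
  have hpair : ∀ a b, α a ≠ 0 → β b ≠ 0 → ∀ ζ, a ⤳ ζ → b ⤳ f ζ → δX ζ ≤ r + s - m := by
    intro a b ha hb ζ haζ hbζ
    obtain ⟨η₀, hη₀, hη₀b⟩ := Flat.generalizingMap f hbζ
    obtain ⟨η, hηb, hηη₀, hmax⟩ := CycDim.exists_fibMax f η₀
    rw [hη₀b] at hηb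
    have hd : δX η = δY b + e := by
      rw [← hηb]; exact (CycDim.delta_le f hδ hrel η).2.2 hmax
    have hne : Cyc.pullFun f δX δY e β η ≠ 0 := by
      rw [Cyc.pullFun, if_pos (by rw [hηb]; exact hd)]
      refine mul_ne_zero (show β (f η) ≠ 0 by rw [hηb]; exact hb) ?_
      obtain ⟨hd', heq⟩ := Groth.Agent.S1897.result X Y δX δY hX hY f e hrel hδ (δY b) (GG b) (hGc b) (hGd b)
      have h1 : Cyc.sheafFun δY (δY b) (GG b) (f η) = 1 := by rw [hGv, if_pos hηb]
      have h2 := congrFun heq η
      rw [Cyc.pullFun, if_pos (by rw [hηb]; exact hd), h1, one_mul, Cyc.sheafFun, if_pos hd] at h2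
      rw [h2]
      have hC := QC.isCoh_pullback f (hGc b)
      haveI := BivarOps.finite_stalk hC η
      have hnG : Nontrivial ((GG b).presheaf.stalk (f η)) := by
        rw [Cyc.sheafFun, if_pos (by rw [hηb])] at h1
        by_contra hc
        haveI := not_nontrivial_iff_subsingleton.1 hc
        rw [Module.length_eq_zero] at h1
        simp at h1
      letI := (f.stalkMap η).hom.toAlgebra
      haveI : Module.Flat (Y.presheaf.stalk (f η)) (X.presheaf.stalk η) := Flat.stalkMap f η
      haveI : IsLocalHom (algebraMap (Y.presheaf.stalk (f η)) (X.presheaf.stalk η)) :=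
        inferInstanceAs (IsLocalHom (f.stalkMap η).hom)
      haveI : Module.FaithfullyFlat (Y.presheaf.stalk (f η)) (X.presheaf.stalk η) :=
        Module.FaithfullyFlat.of_flat_of_isLocalHom
      have hn : Nontrivial (((Scheme.Modules.pullback f).obj (GG b)).presheaf.stalk η) := by
        haveI := hnG
        have hT : Nontrivial (TensorProduct (Y.presheaf.stalk (f η)) (X.presheaf.stalk η) ((GG b).presheaf.stalk (f η))) :=
          inferInstance
        exact @Equiv.nontrivial _ _ ((KFlat.pullStalkIso f η).app (GG b)).toLinearEquiv.toEquiv hT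
      obtain ⟨S, hS, hmin⟩ := BivarOps.exists_top_primes hX.2.2 hC (δY b + e) hd' η
      have hmem := (hS η specializes_rfl).2 ⟨hn, hd⟩
      have hfin := SopLen.lenAt_ne_top ⟨CDivNormal.genPrime (specializes_refl η), inferInstance⟩
        (((Scheme.Modules.pullback f).obj (GG b)).presheaf.stalk η)
        (fun p hp hle' => hmin _ hmem p (Module.mem_support_iff_of_finite.2 hp) hle')
      change LenSum2.lenAt _ _ ≠ ⊤ at hfin
      rw [BivarOps.lenAt_genPrime_stalk hC (specializes_refl η)] at hfin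
      rw [ne_eq, Nat.cast_eq_zero, ENat.toNat_eq_zero]
      rintro (h0 | h0)
      · exact not_subsingleton_iff_nontrivial.2 hn (Module.length_eq_zero_iff.1 h0)
      · exact hfin h0
    have := hprop a η ζ ha hne haζ (hηη₀.trans hη₀)
    have := hrA a ha
    have := hsB b hb
    omega
  have hpush : ∀ y', AlgebraicCycle.map f δX δY α y' =
      ∑ᶠ x ∈ f ⁻¹' {y'}, α x * ((AlgebraicCycle.mapCoeff f δX δY x : ℕ) : ℤ) := fun y' => rfl
  refine ⟨fun y' b y hy' hb h1 h2 => ?_, funext fun y => ?_⟩
  · rw [hpush] at hy'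
    obtain ⟨a, ha, hane⟩ := exists_ne_zero_of_finsum_mem_ne_zero hy'
    have hc : δX a = δY (f a) := by
      by_contra hc
      exact hane (by rw [AlgebraicCycle.mapCoeff, if_neg hc, Nat.cast_zero, mul_zero])
    have ha0 := left_ne_zero_of_mul hane
    have hfa : f a = y' := ha
    rw [← hfa] at h1
    obtain ⟨ζ, hζ, hζy⟩ := f.isClosedMap.specializingMap h1
    have h3 := hpair a b ha0 hb ζ hζ (hζy ▸ h2)
    have h4 := hle ζ
    rw [hζy] at h4
    rw [← hfa, ← hc, hrA a ha0, hsB b hb]
    omega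
  show _ = ∑ᶠ x ∈ f ⁻¹' {y}, γ x * ((AlgebraicCycle.mapCoeff f δX δY x : ℕ) : ℤ)
  rw [hγ]
  by_cases hyd : δY y = r + s - m
  swap
  · rw [IntMult.interProd, finsum_eq_zero_of_forall_eq_zero, finsum_mem_eq_zero_of_forall_eq_zero]
    · intro ζ hζ
      by_contra hne
      have hcoef : δX ζ = δY (f ζ) := by
        by_contra hc
        exact hne (by rw [AlgebraicCycle.mapCoeff, if_neg hc, Nat.cast_zero, mul_zero])
      have hI := left_ne_zero_of_mul hne
      rw [IntMult.interProd] at hI
      obtain ⟨p, hp⟩ := not_forall.1 fun h => hI (finsum_eq_zero_of_forall_eq_zero h)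
      have h1 := hrA _ (left_ne_zero_of_mul (left_ne_zero_of_mul hp))
      have h2 := right_ne_zero_of_mul (left_ne_zero_of_mul hp)
      rw [Cyc.pullFun] at h2
      split_ifs at h2 with hk
      · have h3 := hsB _ (left_ne_zero_of_mul h2)
        have := p.2.2.2
        have hζy : f ζ = y := hζ
        rw [hζy] at hcoef
        omega
      · exact h2 rfl
    · intro p
      by_contra hne
      have h1 := left_ne_zero_of_mul (left_ne_zero_of_mul hne)
      have h2 := hsB _ (right_ne_zero_of_mul (left_ne_zero_of_mul hne))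
      rw [hpush] at h1
      obtain ⟨a, ha, hane⟩ := exists_ne_zero_of_finsum_mem_ne_zero h1
      have hc : δX a = δY (f a) := by
        by_contra hc
        exact hane (by rw [AlgebraicCycle.mapCoeff, if_neg hc, Nat.cast_zero, mul_zero])
      have hfa : f a = p.1.1 := ha
      have h3 := hrA a (left_ne_zero_of_mul hane)
      have := p.2.2.2
      rw [hfa] at hc
      omega
  obtain ⟨V₀, hV₀, hyV₀, -⟩ := exists_isAffineOpen_mem_and_subset (x := y) (U := (⊤ : Y.Opens)) trivial
  have hK : IsCompact (f ⁻¹' (V₀ : Set Y)) := QuasiCompact.isCompact_preimage (f := f) _ V₀.2 hV₀.isCompact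
  let A := (CycAff.finite_on α hK).toFinset
  let B := (BivarOps.finite_gens β y).toFinset
  have hA : ∀ a ∈ A, α a ≠ 0 := fun a ha => ((CycAff.finite_on α hK).mem_toFinset.1 ha).2
  have hB : ∀ b ∈ B, b ⤳ y ∧ β b ≠ 0 := fun b hb => (BivarOps.finite_gens β y).mem_toFinset.1 hb
  let u : X → X → ℤ := fun a => Cyc.sheafFun δX (δX a) (FF a)
  let v : Y → Y → ℤ := fun b => Cyc.sheafFun δY (δY b) (GG b)
  let w : X → Y → ℤ := fun a => Cyc.sheafFun δY (δX a) ((Coh.push f).obj (FF a))
  have hw : ∀ a y', w a y' = ∑ᶠ x ∈ f ⁻¹' {y'}, CycRat.pt a x * ((AlgebraicCycle.mapCoeff f δX δY x : ℕ) : ℤ) := by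
    intro a y'
    have hval : ⇑(CycRat.pt a) = Cyc.sheafFun δX (δX a) (FF a) :=
      funext fun x => by rw [hFv, CycRat.pt_apply]
    exact (congrFun (CycSheafPush.map_sheafFun f hX.2.2 hY.2.2 hδ (δX a) (FF a) (hFc a) (hFd a) _ hval) y').symm
  have hw1 : ∀ a y', w a y' = if y' = f a then ((AlgebraicCycle.mapCoeff f δX δY a : ℕ) : ℤ) else 0 := by
    intro a y'
    rw [hw]
    split_ifs with h
    · subst h
      rw [finsum_mem_eq_sum_of_inter_support_eq _ (t := {a}) ?_, Finset.sum_singleton, CycRat.pt_apply, if_pos rfl, one_mul]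
      ext x
      simp only [Set.mem_inter_iff, Set.mem_preimage, Set.mem_singleton_iff, Function.mem_support,
        Finset.coe_singleton]
      refine ⟨fun hx => ⟨?_, hx.2⟩, fun hx => ⟨by rw [hx.1], hx.2⟩⟩
      by_contra hc
      exact hx.2 (by rw [CycRat.pt_apply, if_neg hc, zero_mul])
    · refine finsum_mem_eq_zero_of_forall_eq_zero fun x hx => ?_
      have hxa : x ≠ a := fun e => h (by rw [← e]; exact (hx : f x = y').symm)
      rw [CycRat.pt_apply, if_neg hxa, zero_mul]
  have hAexp : ∀ ξ, f ξ ∈ V₀ → α ξ = ∑ a ∈ A, α a * u a ξ := by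
    intro ξ hξ
    rw [Finset.sum_eq_single ξ]
    · show α ξ = α ξ * Cyc.sheafFun δX (δX ξ) (FF ξ) ξ
      rw [hFv, if_pos rfl, mul_one]
    · intro a _ ha
      show α a * Cyc.sheafFun δX (δX a) (FF a) ξ = 0
      rw [hFv, if_neg ha.symm, mul_zero]
    · intro h
      rw [show α ξ = 0 from of_not_not fun hne => h ((CycAff.finite_on α hK).mem_toFinset.2 ⟨hξ, hne⟩), zero_mul]
  have hBexp : ∀ η, η ⤳ y → β η = ∑ b ∈ B, β b * v b η := by
    intro η hη
    rw [Finset.sum_eq_single η]
    · show β η = β η * Cyc.sheafFun δY (δY η) (GG η) η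
      rw [hGv, if_pos rfl, mul_one]
    · intro b _ hb
      show β b * Cyc.sheafFun δY (δY b) (GG b) η = 0
      rw [hGv, if_neg hb.symm, mul_zero]
    · intro h
      rw [show β η = 0 from of_not_not fun hne => h ((BivarOps.finite_gens β y).mem_toFinset.2 ⟨hη, hne⟩), zero_mul]
  -- the left hand side
  have hL : IntMult.interProd δY m (⇑(AlgebraicCycle.map f δX δY α)) (⇑β) y =
      ∑ a ∈ A, ∑ b ∈ B, α a * β b * IntMult.interProd δY m (w a) (v b) y := by
    refine BivarOps.interProd_sum y A B α β w v _ _ (fun y' hy' => ?_) hBexp (fun a _ => ?_) (fun b _ => ?_)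
    · have hy'V : y' ∈ V₀ := hy'.mem_open V₀.2 hyV₀
      rw [hpush, Finset.sum_congr rfl fun a _ => by rw [hw a y'],
        finsum_mem_eq_sum_of_inter_support_eq _ (t := A.filter (fun a => f a = y')) ?_, Finset.sum_filter]
      · refine Finset.sum_congr rfl fun a _ => ?_
        rw [← hw, hw1]
        by_cases hfa : f a = y'
        · rw [if_pos hfa, if_pos hfa.symm]
        · rw [if_neg hfa, if_neg (fun e => hfa e.symm), mul_zero]
      · ext x
        simp only [Set.mem_inter_iff, Set.mem_preimage, Set.mem_singleton_iff, Function.mem_support,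
          Finset.coe_filter, Set.mem_setOf_eq]
        refine ⟨fun hx => ⟨⟨(CycAff.finite_on α hK).mem_toFinset.2 ⟨?_, left_ne_zero_of_mul hx.2⟩, hx.1⟩, hx.2⟩,
          fun hx => ⟨hx.1.2, hx.2⟩⟩
        show f x ∈ V₀
        rw [hx.1]; exact hy'V
    · refine (Set.finite_singleton (f a)).subset fun y' hy' => ?_
      by_contra hc
      exact hy'.2 (by rw [hw1, if_neg (show ¬ y' = f a from hc)])
    · refine (Set.finite_singleton b).subset fun η hη => ?_
      by_contra hc
      exact hη.2 ((hGv b η).trans (if_neg hc))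
  have hR : ∀ ζ, f ζ = y → IntMult.interProd δX n (⇑α) (Cyc.pullFun f δX δY e β) ζ =
      ∑ a ∈ A, ∑ b ∈ B, α a * β b * IntMult.interProd δX n (u a) (Cyc.pullFun f δX δY e (v b)) ζ := by
    intro ζ hζ
    refine BivarOps.interProd_sum ζ A B α β u (fun b => Cyc.pullFun f δX δY e (v b)) _ _ (fun ξ hξ => hAexp ξ ?_)
      (fun η hη => ?_) (fun a _ => ?_) (fun b _ => ?_)
    · exact ((hξ.map f.continuous).trans (specializes_of_eq hζ)).mem_open V₀.2 hyV₀
    · simp only [Cyc.pullFun]
      split_ifs with hk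
      · rw [hBexp (f η) ((hη.map f.continuous).trans (specializes_of_eq hζ)), Finset.sum_mul]
        exact Finset.sum_congr rfl fun b _ => mul_assoc _ _ _
      · simp
    · refine (Set.finite_singleton a).subset fun ξ hξ => ?_
      by_contra hc
      exact hξ.2 ((hFv a ξ).trans (if_neg hc))
    · obtain ⟨hd', heq⟩ := Groth.Agent.S1897.result X Y δX δY hX hY f e hrel hδ (δY b) (GG b) (hGc b) (hGd b)
      obtain ⟨S, hS, -⟩ := BivarOps.exists_top_primes hX.2.2 (QC.isCoh_pullback f (hGc b)) (δY b + e) hd' ζ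
      refine (S.finite_toSet.image (X.fromSpecStalk ζ)).subset fun ξ hξ => ?_
      refine ⟨_, (hS ξ hξ.1).2 ?_, BivarOps.fromSpecStalk_genPrime hξ.1⟩
      have h2 := hξ.2
      rw [show Cyc.pullFun f δX δY e (v b) = _ from heq, Cyc.sheafFun] at h2
      split_ifs at h2 with hk
      · refine ⟨not_subsingleton_iff_nontrivial.1 fun hsub => h2 ?_, hk⟩
        rw [Module.length_eq_zero, ENat.toNat_zero, Nat.cast_zero]
      · exact absurd rfl h2
  have key : ∀ a ∈ A, ∀ b ∈ B, IntMult.interProd δY m (w a) (v b) y =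
      ∑ᶠ ζ ∈ f ⁻¹' {y}, IntMult.interProd δX n (u a) (Cyc.pullFun f δX δY e (v b)) ζ *
        ((AlgebraicCycle.mapCoeff f δX δY ζ : ℕ) : ℤ) ∧
      ((f ⁻¹' {y}) ∩ Function.support fun ζ => α a * β b * IntMult.interProd δX n (u a)
        (Cyc.pullFun f δX δY e (v b)) ζ * ((AlgebraicCycle.mapCoeff f δX δY ζ : ℕ) : ℤ)).Finite := by
    intro a ha b hb
    have ha0 := hA a ha
    obtain ⟨hby, hb0⟩ := hB b hb
    have hrel' := hrA a ha0
    have hsel := hsB b hb0
    have hpc : Coh.IsCoh ((Coh.push f).obj (FF a)) := Intersect.isCoh_push' f (hFc a)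
    have hsupp : ∀ y', Nontrivial (((Coh.push f).obj (FF a)).presheaf.stalk y') → ∃ ζ, a ⤳ ζ ∧ f ζ = y' := by
      intro y' hy'
      obtain ⟨ζ, hζ, hζy⟩ := Intersect.support_push_subset f (F := FF a) (T := closure {a})
        (f.isClosedMap _ isClosed_closure)
        (fun x hx => specializes_iff_mem_closure.1 (hFs a x (not_subsingleton_iff_nontrivial.1 hx)))
        (not_subsingleton_iff_nontrivial.2 hy' : y' ∈ CohB1.support _)
      exact ⟨ζ, specializes_iff_mem_closure.2 hζ, hζy⟩
    have hpd : ∀ y', Nontrivial (((Coh.push f).obj (FF a)).presheaf.stalk y') → δY y' ≤ δX a := by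
      intro y' hy'
      obtain ⟨ζ, hζ, rfl⟩ := hsupp y' hy'
      have h1 := hle ζ
      by_cases haz : a = ζ
      · rw [← haz] at h1 ⊢; exact h1
      · have := (hX.2.2 a ζ hζ haz).1
        omega
    have hpp : ∀ y', Nontrivial (((Coh.push f).obj (FF a)).presheaf.stalk y') →
        Nontrivial ((GG b).presheaf.stalk y') → δY y' ≤ δX a + δY b - m := by
      intro y' hy' hg
      obtain ⟨ζ, hζ, rfl⟩ := hsupp y' hy'
      have := hpair a b ha0 hb0 ζ hζ (hGs b _ hg)
      have := hle ζ
      omega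
    obtain ⟨hd', heq⟩ := Groth.Agent.S1897.result X Y δX δY hX hY f e hrel hδ (δY b) (GG b) (hGc b) (hGd b)
    have hzero : ∀ x, Nontrivial (((Scheme.Modules.pullback f).obj (GG b)).presheaf.stalk x) →
        Nontrivial ((GG b).presheaf.stalk (f x)) := by
      intro x hx
      by_contra hc
      haveI := not_nontrivial_iff_subsingleton.1 hc
      haveI := (hGc b).1
      letI := (f.stalkMap x).hom.toAlgebra
      exact not_subsingleton_iff_nontrivial.2 hx (@Equiv.subsingleton _ _
        ((KFlat.pullStalkIso f x).app (GG b)).toLinearEquiv.toEquiv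
        (inferInstance : Subsingleton (TensorProduct (Y.presheaf.stalk (f x)) (X.presheaf.stalk x)
          ((GG b).presheaf.stalk (f x)))))
    have hxx : ∀ x, Nontrivial ((FF a).presheaf.stalk x) →
        Nontrivial (((Scheme.Modules.pullback f).obj (GG b)).presheaf.stalk x) → δX x ≤ δX a + (δY b + e) - n := by
      intro x h1 h2
      have := hpair a b ha0 hb0 x (hFs a x h1) (hGs b _ (hzero x h2))
      omega
    obtain ⟨-, hvY⟩ := Groth.Agent.S6470.result K Y gY δY hY hδY m hm _ _ hpc (hGc b) (δX a) (δY b) hpd (hGd b) hpp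
    obtain ⟨-, hvX⟩ := Groth.Agent.S6470.result K X gX δX hX hδX n hn _ _ (hFc a) (QC.isCoh_pullback f (hGc b))
      (δX a) (δY b + e) (hFd a) hd' hxx
    have hdim : ∀ x, Nontrivial ((FF a).presheaf.stalk x) → Nontrivial ((GG b).presheaf.stalk (f x)) → δX x ≤ δY y := by
      intro x h1 h2
      have := hpair a b ha0 hb0 x (hFs a x h1) (hGs b _ h2)
      omega
    constructor
    · rw [show IntMult.interProd δY m (w a) (v b) y = _ from hvY y, if_pos (by omega)]
      refine (BivarOps.chi_push f hX.2.2 hY.2.2 hδ (hFc a) (hGc b) y hdim).trans (finsum_mem_congr rfl fun ζ hζ => ?_)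
      by_cases hc : δX ζ = δY (f ζ)
      · have hζy : f ζ = y := hζ
        rw [show IntMult.interProd δX n (u a) (Cyc.pullFun f δX δY e (v b)) ζ = _ from heq ▸ hvX ζ,
          if_pos (by rw [hc, hζy]; omega)]

      · rw [AlgebraicCycle.mapCoeff, if_neg hc, Nat.cast_zero, mul_zero, mul_zero]
    · have hC : IsClosed (closure {a} ∩ f ⁻¹' closure {y}) :=
        isClosed_closure.inter (isClosed_closure.preimage f.continuous)
      choose O hO hxO using fun z : X => exists_isAffineOpen_mem_and_subset (x := z) (U := (⊤ : X.Opens)) trivial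
      obtain ⟨t, ht⟩ := hK.elim_finite_subcover (fun z => (O z : Set X)) (fun z => (O z).2)
        fun z _ => Set.mem_iUnion.2 ⟨z, (hxO z).1⟩
      refine (t.finite_toSet.biUnion fun z _ => Groth.Agent.CycDiv.finite_maximal hC (hO z)).subset ?_
      rintro ζ ⟨hζy, hne⟩
      have hfy : f ζ = y := hζy
      obtain ⟨z, hz, hζz⟩ := Set.mem_iUnion₂.1 (ht (show f ζ ∈ V₀ by rw [hfy]; exact hyV₀))
      have hI := right_ne_zero_of_mul (left_ne_zero_of_mul hne)
      rw [IntMult.interProd] at hI
      obtain ⟨p, hp⟩ := not_forall.1 fun h => hI (finsum_eq_zero_of_forall_eq_zero h)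
      have hpa : p.1.1 = a := by
        by_contra hc
        exact left_ne_zero_of_mul (left_ne_zero_of_mul hp) ((hFv a p.1.1).trans (if_neg hc))
      have haz : a ⤳ ζ := hpa ▸ p.2.1
      refine Set.mem_biUnion hz ⟨hζz, ⟨specializes_iff_mem_closure.1 haz,
        show f ζ ∈ closure {y} from hfy ▸ subset_closure rfl⟩, fun z' hz' hz'ζ => ?_⟩
      have hfz : f z' = y :=
        ((hz'ζ.map f.continuous).antisymm (hfy.symm ▸ specializes_iff_mem_closure.2 hz'.2)).eq.trans hfy
      have h1 := hpair a b ha0 hb0 z' (specializes_iff_mem_closure.2 hz'.1) (hfz ▸ hby)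
      have h2 := hle ζ
      rw [hfy] at h2
      exact CycDim.eq_of_delta_le hX.2.2 hz'ζ (by omega)
  rw [hL, finsum_mem_congr rfl (g := fun ζ => ∑ a ∈ A, ∑ b ∈ B, α a * β b *
      IntMult.interProd δX n (u a) (Cyc.pullFun f δX δY e (v b)) ζ * ((AlgebraicCycle.mapCoeff f δX δY ζ : ℕ) : ℤ))
      (fun ζ hζ => by
        rw [hR ζ hζ, Finset.sum_mul]
        exact Finset.sum_congr rfl fun a _ => Finset.sum_mul _ _ _)]
  rw [← Finset.sum_product', finsum_mem_congr rfl fun ζ _ => (Finset.sum_product' A B _).symm]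
  rw [BivarOps.finsum_mem_sum (A ×ˢ B) _ _ fun ab hab => (key ab.1 (Finset.mem_product.1 hab).1 ab.2 (Finset.mem_product.1 hab).2).2]
  refine Finset.sum_congr rfl fun ab hab => ?_
  rw [(key ab.1 (Finset.mem_product.1 hab).1 ab.2 (Finset.mem_product.1 hab).2).1, mul_finsum_mem]
  exact finsum_mem_congr rfl fun ζ _ => (mul_assoc _ _ _).symm

end Groth.Agent.S1950
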