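import Groth.Statements.S1952
import Groth.Agent.BivarOps.InterDiag
import Groth.Agent.BivarOps.IntMultProper
import Groth.Agent.P1Div.Fibres
import Groth.Agent.S14434
import Groth.Agent.S0558
import Groth.Agent.SmLocalST.SmoothField
import Groth.Agent.CycPB.BundleSmooth
-- import your own Groth.Agent.* helpers here

set_option autoImplicit false
set_option linter.style.haveILetI false
set_option backward.isDefEq.respectTransparency false
set_option maxHeartbeats 1000000
universe u
open CategoryTheory CategoryTheory.Limits AlgebraicGeometry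
attribute [local instance] HasDerivedCategory.standard
open IntMult
open Groth.Agent

namespace Groth.Agent.S1952

theorem genPrime_map_generic {Y X : Scheme.{u}} [IsIntegral Y] (q : Y ⟶ X) (y : Y)
    (h : q (genericPoint Y) ⤳ q y) : CDivNormal.genPrime h = RingHom.ker (q.stalkMap y).hom := by
  refine Ideal.ext fun t => ?_
  have e := Scheme.Hom.stalkSpecializes_stalkMap_apply q (genericPoint Y) y (genericPoint_specializes y) t
  rw [CDivNormal.mem_genPrime, RingHom.mem_ker]
  constructor
  · intro hu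
    by_contra h0
    refine hu (isUnit_of_map_unit (q.stalkMap (genericPoint Y)).hom _ ?_)
    refine Eq.subst e.symm (motive := fun s => IsUnit s) ?_
    exact Ne.isUnit (show ((Y.presheaf.stalkSpecializes (genericPoint_specializes y)).hom
      ((q.stalkMap y).hom t) : Y.functionField) ≠ 0 from fun h =>
        h0 (IsFractionRing.injective (Y.presheaf.stalk y) Y.functionField (h.trans (map_zero _).symm)))
  · intro h0 hu
    have := hu.map (q.stalkMap (genericPoint Y)).hom
    have h' : IsUnit ((Y.presheaf.stalkSpecializes (genericPoint_specializes y)).hom ((q.stalkMap y).hom t)) :=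
      e ▸ this
    rw [h0, map_zero] at h'
    exact not_isUnit_zero h'

/-- Intersecting with the section is the fibre. -/
theorem interProd_sect {K : Type u} [Field K] {X : Scheme.{u}} (f : X ⟶ Spec (CommRingCat.of K)) [Smooth f]
    [IsIntegral X] {δ : X → ℤ} {n : ℤ} (hn : δ (genericPoint X) = n) {δP : ↥(CohB1.ProjSpaceOver 1 X) → ℤ}
    (hP : Cyc.DeltaCompat (CohB1.ProjSpaceOver.toBase 1 X) δP δ) (k : ℤ)
    (α : AlgebraicCycle (CohB1.ProjSpaceOver 1 X) ℤ) (hα : α ∈ Cyc.Zk _ δP (k + 1)) (i : Fin (1 + 1))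
    (hout : ∀ ω, α ω ≠ 0 → ω ∉ Set.range (P1.sect X i)) (x : X) :
    IntMult.interProd δP (n + 1) ⇑α (Set.indicator {P1.sect X i (genericPoint X)} 1) (P1.sect X i x) =
      P1Div.secSum δ k ⇑α i x := by
  classical
  haveI : IsLocallyNoetherian X := LocallyOfFiniteType.isLocallyNoetherian f
  haveI := P1Div.isLocallyNoetherian_over (X := X)
  let g := P1.sect X i (genericPoint X)
  have hg : g ⤳ P1.sect X i x := (genericPoint_specializes x).map (P1.sect X i).continuous
  have hdg : δP g = n := (P1Div.delta_sect hP i _).trans hn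
  have hdx : δP (P1.sect X i x) = δ x := P1Div.delta_sect hP i x
  have hdeg : ∀ a, α a ≠ 0 → δP a = k + 1 := fun a ha => not_not.1 fun h => ha (hα a h)
  rw [P1Div.secSum]
  split_ifs with hx
  swap
  · refine finsum_eq_zero_of_forall_eq_zero fun p => ?_
    by_contra hp
    have h1 := hdeg _ (left_ne_zero_of_mul (left_ne_zero_of_mul hp))
    have h2 := BivarOps.indicator_ne (right_ne_zero_of_mul (left_ne_zero_of_mul hp))
    have h3 := p.2.2.2
    have h4 : δP (P1.sect X i (genericPoint X)) = n := hdg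
    rw [h2, h1, h4, hdx] at h3
    omega
  let S := (BivarOps.finite_gens α (P1.sect X i x)).toFinset
  have hS : ∀ a, a ∈ S ↔ a ⤳ P1.sect X i x ∧ α a ≠ 0 := fun a => Set.Finite.mem_toFinset _
  let e : S → {p : ↥(CohB1.ProjSpaceOver 1 X) × ↥(CohB1.ProjSpaceOver 1 X) // p.1 ⤳ P1.sect X i x ∧
      p.2 ⤳ P1.sect X i x ∧ δP p.1 + δP p.2 - (n + 1) = δP (P1.sect X i x)} := fun a =>
    ⟨(a.1, g), ((hS _).1 a.2).1, hg, by
      show δP a.1 + δP g - (n + 1) = _
      rw [hdeg _ ((hS _).1 a.2).2, hdg, hdx, hx]; ring⟩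
  rw [IntMult.interProd, finsum_eq_sum_of_support_subset (s := S.attach.image e) _ (fun p hp => ?_),
    Finset.sum_image (fun a _ b _ h => Subtype.ext (congrArg (fun q => q.1.1) h)),
    finsum_eq_sum_of_support_subset (s := S) _ (fun a ha => ?_), ← Finset.sum_attach S]
  · refine Finset.sum_congr rfl fun a _ => ?_
    obtain ⟨ha, hne⟩ := (hS _).1 a.2
    rw [dif_pos ha]
    show α a.1 * Set.indicator {g} (1 : ↥(CohB1.ProjSpaceOver 1 X) → ℤ) g * IntMult.mult (IntMult.ptIdeal a.1) (IntMult.ptIdeal g) _ = _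
    rw [Set.indicator_of_mem (Set.mem_singleton _), Pi.one_apply, mul_one]
    congr 1
    haveI : Smooth (CohB1.ProjSpaceOver.toBase 1 X) := CycPB.smooth_toBase 1 X
    haveI : Smooth (CohB1.ProjSpaceOver.toBase 1 X ≫ f) := inferInstance
    haveI := SmLocalST.isRegularLocalRing_stalk_of_smooth_field (CohB1.ProjSpaceOver.toBase 1 X ≫ f) (P1.sect X i x)
    haveI : IsDomain ((CohB1.ProjSpaceOver 1 X).presheaf.stalk (P1.sect X i x)) :=
      Groth.Agent.S0558.result _
    set t := P1Div.tStk i _ (P1Div.mem_dom_sect i x)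
    have htP : t ∉ CDivNormal.genPrime ha := by
      rw [CDivNormal.mem_genPrime, not_not]
      show IsUnit (((CohB1.ProjSpaceOver 1 X).presheaf.stalkSpecializes ha).hom t)
      rw [P1Div.spz_tStk]
      exact P1Div.isUnit_tStk_of_not_range i _ (hout _ hne)
    have hP' : (CDivNormal.genPrime ha).IsPrime := inferInstance
    have hregA : IsSMulRegular ((CohB1.ProjSpaceOver 1 X).presheaf.stalk (P1.sect X i x)) t := fun u v huv =>
      mul_left_cancel₀ (fun h0 : t = 0 => htP (h0.symm ▸ Ideal.zero_mem _)) huv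
    have hregP : IsSMulRegular ((CohB1.ProjSpaceOver 1 X).presheaf.stalk (P1.sect X i x) ⧸ CDivNormal.genPrime ha) t := by
      refine (isSMulRegular_quotient_iff_mem_of_smul_mem _ t).2 fun u hu => ?_
      exact (hP'.mem_or_mem hu).resolve_left htP
    rw [IntMult.mult, BivarOps.stalkIdeal_ptIdeal ha, BivarOps.stalkIdeal_ptIdeal hg,
      (genPrime_map_generic (P1.sect X i) x hg).trans (P1Div.ker_sect i x (P1Div.mem_dom_sect i x)),
      BivarOps.chi_flip, BivarOps.chi_eq_length _ _ fun j hj => Groth.Agent.S14434.result _ t hregA hregP j hj]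
    rfl
  · by_cases hωs : a ⤳ P1.sect X i x
    · simp only [Function.mem_support, dif_pos hωs] at ha
      exact Finset.mem_coe.2 ((hS _).2 ⟨hωs, left_ne_zero_of_mul ha⟩)
    · simp only [Function.mem_support, dif_neg hωs] at ha
      exact absurd rfl ha
  · simp only [Function.mem_support] at hp
    have h2 := BivarOps.indicator_ne (right_ne_zero_of_mul (left_ne_zero_of_mul hp))
    refine Finset.mem_coe.2 (Finset.mem_image.2 ⟨⟨p.1.1, (hS _).2 ⟨p.2.1, left_ne_zero_of_mul (left_ne_zero_of_mul hp)⟩⟩,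
      Finset.mem_attach _ _, Subtype.ext (Prod.ext rfl h2.symm)⟩)

/-- Let α be a (k + 1)-cycle on P^1_X (X a nonsingular variety, P^1_X of dimension n + 1 with dimension
function δP) intersecting the divisors X × 0 and X × ∞ (the images of the two sections, as prime
cycles) properly. Then pr_{X,*}(α · [X × 0] − α · [X × ∞]) ∼_rat 0 as a k-cycle on X (the source's
two distinct closed points a, b of P^1 are taken to be 0 and ∞), for any cycle on P^1_X with the
coefficients of α · [X × 0] − α · [X × ∞]. Here X is a nonsingular variety over the algebraically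
closed field K (smooth, separated, quasi-compact, integral) with dimension function δ (transcendence
degree) and n = dim X; cycles are Mathlib AlgebraicCycles with Cyc.Zk membership, proper
intersection is IntMult.IntersectProperly and α · β is the Tor-formula intersection product on
coefficient functions (IntMult.interProd), bundled where needed as 'any cycle with these
coefficients'. -/
theorem result (K : Type u) [Field K] [IsAlgClosed K] (X : Scheme.{u}) (f : X ⟶ Spec (CommRingCat.of K)) [Smooth f] [IsSeparated f] [QuasiCompact f] [IsIntegral X] (δ : X → ℤ) (hX : Cyc.IsSetup X δ) (hδ : Cyc.DeltaCompat f δ (fun _ => 0)) (n : ℤ) (hn : δ (genericPoint X) = n) (δP : ↥(CohB1.ProjSpaceOver 1 X) → ℤ) (hPX : Cyc.IsSetup (CohB1.ProjSpaceOver 1 X) δP) (hP : Cyc.DeltaCompat (CohB1.ProjSpaceOver.toBase 1 X) δP δ) [QuasiCompact (CohB1.ProjSpaceOver.toBase 1 X)] (k : ℤ) (α : AlgebraicCycle (CohB1.ProjSpaceOver 1 X) ℤ) (hα : α ∈ Cyc.Zk _ δP (k + 1)) (h0 : IntMult.IntersectProperly δP (n + 1) ⇑α (Set.indicator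 {P1.sect X 0 (genericPoint X)} 1)) (h1 : IntMult.IntersectProperly δP (n + 1) ⇑α (Set.indicator {P1.sect X 1 (genericPoint X)} 1)) (γ : AlgebraicCycle (CohB1.ProjSpaceOver 1 X) ℤ) (hγ : ⇑γ = IntMult.interProd δP (n + 1) ⇑α (Set.indicator {P1.sect X 0 (genericPoint X)} 1) - IntMult.interProd δP (n + 1) ⇑α (Set.indicator {P1.sect X 1 (genericPoint X)} 1)) : Cyc.RatEquivZero δ k (AlgebraicCycle.map (CohB1.ProjSpaceOver.toBase 1 X) δP δ γ) := by
  classical
  haveI : IsLocallyNoetherian X := hX.1
  have hdeg : ∀ a, α a ≠ 0 → δP a = k + 1 := fun a ha => not_not.1 fun h => ha (hα a h)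
  have hout : ∀ i : Fin (1 + 1), IntMult.IntersectProperly δP (n + 1) ⇑α
      (Set.indicator {P1.sect X i (genericPoint X)} 1) → ∀ ω, α ω ≠ 0 → ω ∉ Set.range (P1.sect X i) := by
    rintro i hi ω hω ⟨y, rfl⟩
    have := hi _ _ _ hω (by
      rw [Set.indicator_of_mem (Set.mem_singleton _), Pi.one_apply]; exact one_ne_zero)
      specializes_rfl ((genericPoint_specializes y).map (P1.sect X i).continuous)
    rw [P1Div.delta_sect hP i (genericPoint X), hn] at this
    omega
  -- the product with a section lives on it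
  have hsupp : ∀ (i : Fin (1 + 1)) z,
      IntMult.interProd δP (n + 1) ⇑α (Set.indicator {P1.sect X i (genericPoint X)} 1) z ≠ 0 →
        ∃ x, P1.sect X i x = z := by
    intro i z hz
    rw [BivarOps.interProd_comm] at hz
    obtain ⟨η, hv, -⟩ := BivarOps.interProd_prime_ne hz
    exact hv.mem_closed (P1.sect X i).isClosedEmbedding.isClosed_range ⟨_, rfl⟩
  have hval : ∀ x, γ (P1.sect X 0 x) = P1Div.secSum δ k ⇑α 0 x ∧ γ (P1.sect X 1 x) = - P1Div.secSum δ k ⇑α 1 x := by
    intro x
    constructor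
    · rw [hγ, Pi.sub_apply, ← interProd_sect f hn hP k α hα 0 (hout 0 h0) x]
      refine sub_eq_self.2 (not_not.1 fun hne => ?_)
      obtain ⟨y, hy⟩ := hsupp 1 _ hne
      exact P1Div.sect_ne x y hy.symm
    · rw [hγ, Pi.sub_apply, ← interProd_sect f hn hP k α hα 1 (hout 1 h1) x]
      refine (congrArg (fun c : ℤ => c - _) (not_not.1 fun hne => ?_)).trans (zero_sub _)
      obtain ⟨y, hy⟩ := hsupp 0 _ hne
      exact P1Div.sect_ne y x hy
  let C : AlgebraicCycle X ℤ :=
    { toFun := fun x => - γ (P1.sect X 1 x)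
      supportWithinDomain' := Set.subset_univ _
      supportLocallyFiniteWithinDomain' := fun y _ => by
        obtain ⟨t, ht, hfin⟩ := γ.supportLocallyFiniteWithinDomain' (P1.sect X 1 y) trivial
        exact ⟨_, (P1.sect X 1).continuous.continuousAt.preimage_mem_nhds ht,
          (hfin.preimage (P1.sect X 1).isClosedEmbedding.injective.injOn).subset
            fun z hz => ⟨hz.1, fun h => hz.2 (show - γ (P1.sect X 1 z) = 0 by rw [show γ (P1.sect X 1 z) = 0 from h, neg_zero])⟩⟩ }
  let π := CohB1.ProjSpaceOver.toBase 1 X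
  have hπ : ∀ i y, π (P1.sect X i y) = y := fun i y => by
    rw [← Scheme.Hom.comp_apply, P1Div.sect_toBase]; rfl
  have hc : ∀ i x, (AlgebraicCycle.mapCoeff π δP δ (P1.sect X i x) : ℤ) = 1 := by
    intro i x
    rw [AlgebraicCycle.mapCoeff, if_pos ((P1Div.delta_sect hP i x).trans (congrArg δ (hπ i x)).symm),
      P1Div.residueDegree_sect]
    rfl
  have h : Cyc.RatEquiv δ k (AlgebraicCycle.map π δP δ γ + C) C := by
    refine P1Div.ratEquiv_fibres hX hP k ⇑α (fun p hp => ⟨hdeg p hp, hout 0 h0 p hp, hout 1 h1 p hp⟩)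
      (fun {U} hU => ((Function.locallyFinsupp.locallyFiniteSupport α).finite_inter_support_of_isCompact
        hU.isCompact).subset fun p hp => ⟨hp.1, hp.2⟩) _ C (fun x => ?_) (fun x => ?_)
    · show (∑ᶠ p ∈ π ⁻¹' {x}, γ p * ((AlgebraicCycle.mapCoeff π δP δ p : ℕ) : ℤ)) + - γ (P1.sect X 1 x) = _
      rw [finsum_mem_eq_sum_of_subset (s := (π ⁻¹' {x} : Set _))
        (t := {P1.sect X 0 x, P1.sect X 1 x}) _ (fun p hp => ?_) (fun p hp => ?_)]
      · rw [Finset.sum_pair (P1Div.sect_ne x x), hc, hc, (hval x).1, (hval x).2]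
        ring
      · obtain ⟨hpx, hp'⟩ := hp
        have hne : γ p ≠ 0 := left_ne_zero_of_mul hp'
        rw [hγ, Pi.sub_apply] at hne
        by_cases hh : IntMult.interProd δP (n + 1) ⇑α (Set.indicator {P1.sect X 0 (genericPoint X)} 1) p = 0
        · rw [hh, zero_sub, neg_ne_zero] at hne
          obtain ⟨y, rfl⟩ := hsupp 1 _ hne
          rw [show y = x from (hπ 1 y).symm.trans hpx]
          simp
        · obtain ⟨y, rfl⟩ := hsupp 0 _ hh
          rw [show y = x from (hπ 0 y).symm.trans hpx]
          simp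
      · rcases Finset.mem_insert.1 (Finset.mem_coe.1 hp) with rfl | hp
        · exact hπ 0 x
        · rw [Finset.mem_singleton.1 hp]; exact hπ 1 x
    · show - γ (P1.sect X 1 x) = _
      rw [(hval x).2, neg_neg]
  rw [Cyc.RatEquiv, add_sub_cancel_right] at h
  exact h

end Groth.Agent.S1952
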