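import Groth.Statements.S1949
import Groth.Agent.BivarOps.P1Inter
import Groth.Agent.BivarOps.InterExt
import Groth.Agent.P1Div.SubFibre
import Groth.Agent.S1950
import Groth.Agent.S1952
-- import your own Groth.Agent.* helpers here

set_option autoImplicit false
set_option linter.style.haveILetI false
set_option backward.isDefEq.respectTransparency false
set_option maxHeartbeats 1000000
universe u
open CategoryTheory CategoryTheory.Limits AlgebraicGeometry
attribute [local instance] HasDerivedCategory.standard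
open IntMult
open Groth.Agent

namespace Groth.Agent.S1949

theorem sect_toP1 {S T : Scheme.{u}} (g : S ⟶ T) (i : Fin (1 + 1)) :
    P1.sect S i ≫ P1.toP1 g = g ≫ P1.sect T i := by
  unfold P1.sect P1.toP1
  refine pullback.hom_ext ?_ ?_
  · simp only [Category.assoc, pullback.lift_fst, Category.comp_id]
    rw [← Category.assoc, show g ≫ specULiftZIsTerminal.from T = specULiftZIsTerminal.from S from
      specULiftZIsTerminal.hom_ext _ _]
  · simp
    exact Category.id_comp g

/-- A subvariety dominating the line is in no section. -/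
theorem generic_not_range {K : Type u} [Field K] {X : Scheme.{u}} (f : X ⟶ Spec (CommRingCat.of K))
    {W : Scheme.{u}} [IsIntegral W] (ιW : W ⟶ CohB1.ProjSpaceOver 1 X)
    (hdom : ∀ U : (CohB1.ProjSpaceOver 1 (Spec (CommRingCat.of K))).Opens, (U : Set ↥(CohB1.ProjSpaceOver 1 (Spec (CommRingCat.of K)))).Nonempty → ∃ w : W, (ιW ≫ P1.toP1 f) w ∈ U)
    (i : Fin (1 + 1)) : ιW (genericPoint W) ∉ Set.range (P1.sect X i) := by
  rintro ⟨y, hy⟩
  let SK := P1.sect (Spec (CommRingCat.of K)) i
  let U : (CohB1.ProjSpaceOver 1 (Spec (CommRingCat.of K))).Opens :=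
    ⟨(Set.range SK)ᶜ, SK.isClosedEmbedding.isClosed_range.isOpen_compl⟩
  obtain ⟨w, hw⟩ := hdom U (by
    have pt : Spec (CommRingCat.of K) := IsLocalRing.closedPoint K
    fin_cases i
    · exact ⟨P1.sect _ 1 pt, fun ⟨z, hz⟩ => P1Div.sect_ne z pt hz⟩
    · exact ⟨P1.sect _ 0 pt, fun ⟨z, hz⟩ => P1Div.sect_ne pt z hz.symm⟩)
  refine hw ?_
  have h := ((genericPoint_specializes w).map ιW.continuous).map (P1.toP1 f).continuous
  rw [← hy, ← Scheme.Hom.comp_apply (P1.sect X i), sect_toP1, Scheme.Hom.comp_apply] at h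
  rw [Scheme.Hom.comp_apply]
  exact h.mem_closed SK.isClosedEmbedding.isClosed_range ⟨_, rfl⟩

/-- Let W → P^1_X be a closed immersion with W integral of dimension s + 1 (for the dimension function
δP on P^1_X induced from δ) dominating P^1_K (dense image under P^1_X → P^1_K), W_0, W_∞ → X its
pullbacks along the sections at 0 and ∞, and V ⊆ X the closure of a point v with δ(v) = r, such that
[V] intersects [W_0]_s and [W_∞]_s properly. Then [V]·[W_0]_s ∼_rat [V]·[W_∞]_s as (r + s −
n)-cycles on X. (The source allows any two closed points a, b of P^1; they are taken to be 0 and ∞,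
to which any two distinct closed points are carried by an automorphism of P^1 over the algebraically
closed K.) Here X is a nonsingular variety over the algebraically closed field K (smooth, separated,
quasi-compact, integral) with dimension function δ (transcendence degree) and n = dim X; cycles are
Mathlib AlgebraicCycles with Cyc.Zk membership, proper intersection is IntMult.IntersectProperly and
α · β is the Tor-formula intersection product on coefficient functions (IntMult.interProd), bundled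
where needed as 'any cycle with these coefficients'. -/
theorem result (K : Type u) [Field K] [IsAlgClosed K] (X : Scheme.{u}) (f : X ⟶ Spec (CommRingCat.of K)) [Smooth f] [IsSeparated f] [QuasiCompact f] [IsIntegral X] (δ : X → ℤ) (hX : Cyc.IsSetup X δ) (hδ : Cyc.DeltaCompat f δ (fun _ => 0)) (n : ℤ) (hn : δ (genericPoint X) = n) (δP : ↥(CohB1.ProjSpaceOver 1 X) → ℤ) (hP : Cyc.DeltaCompat (CohB1.ProjSpaceOver.toBase 1 X) δP δ) (r s : ℤ) (W : Scheme.{u}) [IsIntegral W] (ιW : W ⟶ CohB1.ProjSpaceOver 1 X) [IsClosedImmersion ιW] (hW : δP (ιW (genericPoint W)) = s + 1) (hdom : ∀ U : (CohB1.ProjSpaceOver 1 (Spec (CommRingCat.of K))).Opens, (U : Set ↥(CohB1.ProjSpaceOver 1 (Spec (CommRingCat.of K)))).Nonempty → ∃ w : W, (ιW ≫ P1.toP1 f) w ∈ U) (v : X) (hv : δ v = r) (h0 : IntMult.IntersectProperly δ n (Set.indicator {v} 1) (Cyc.subschemeFun δ s (pullback.snd ιW (P1.sect X 0)))) (h1 : IntMult.IntersectProperly δ n (Set.indicator {v} 1) (Cyc.subschemeFun δ s (pullback.snd ιW (P1.sect X 1)))) (γ₀ γ₁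 : AlgebraicCycle X ℤ) (hγ₀ : ⇑γ₀ = IntMult.interProd δ n (Set.indicator {v} 1) (Cyc.subschemeFun δ s (pullback.snd ιW (P1.sect X 0)))) (hγ₁ : ⇑γ₁ = IntMult.interProd δ n (Set.indicator {v} 1) (Cyc.subschemeFun δ s (pullback.snd ιW (P1.sect X 1)))) : Cyc.RatEquiv δ (r + s - n) γ₀ γ₁ := by
  classical
  haveI := hX.1
  let P := CohB1.ProjSpaceOver 1 X
  let π := CohB1.ProjSpaceOver.toBase 1 X
  haveI : Smooth π := CycPB.smooth_toBase 1 X
  haveI : IsProper π := P1Div.isProper_toBase X
  haveI : IsIntegral P := BivarOps.isIntegral_line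
  haveI : IsLocallyNoetherian P := P1Div.isLocallyNoetherian_over
  haveI : Smooth (π ≫ f) := inferInstance
  haveI : IsSeparated (π ≫ f) := inferInstance
  haveI : QuasiCompact (π ≫ f) := inferInstance
  have hP₂ : Cyc.DeltaCompat (π ≫ f) δP (fun _ => 0) := Bivar.deltaCompat_comp π f δP δ _ hP hδ
  have sP : Cyc.IsSetup P δP := BivarOps.setup_of_compat (π ≫ f) hP₂
  have hD := sP.2.2
  have hgen : δP (genericPoint P) = n + 1 := by rw [BivarOps.delta_generic_line hP, hn]
  have hπ : ∀ i y, π (P1.sect X i y) = y := fun i y => by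
    rw [← Scheme.Hom.comp_apply, P1Div.sect_toBase]; rfl
  let w := ιW (genericPoint W)
  let g : Fin (1 + 1) → P := fun i => P1.sect X i (genericPoint X)
  have hdg : ∀ i, δP (g i) = n := fun i => (P1Div.delta_sect hP i _).trans hn
  have hout : ∀ i, w ∉ Set.range (P1.sect X i) := fun i => generic_not_range f ιW hdom i
  have hsect : ∀ i z, g i ⤳ z → ∃ y, P1.sect X i y = z := fun i z hz =>
    hz.mem_closed (P1.sect X i).isClosedEmbedding.isClosed_range ⟨_, rfl⟩
  have hws : ∀ i y, w ⤳ P1.sect X i y → δ y ≤ s := by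
    intro i y hy
    rw [← P1Div.delta_sect hP i y]
    have := CycDim.delta_lt hD (CycDim.lt_of_spec hy fun e => hout i ⟨y, e.symm⟩)
    have hw' : δP w = s + 1 := hW
    omega
  -- the bound on the triple intersection
  have hT : ∀ i, IntMult.IntersectProperly δ n (Set.indicator {v} 1)
      (Cyc.subschemeFun δ s (pullback.snd ιW (P1.sect X i))) →
      ∀ x, v ⤳ x → w ⤳ P1.sect X i x → δ x ≤ r + s - n := by
    intro i hi x hvx hwx
    obtain ⟨y, hyx, hwy, hle⟩ := BivarOps.exists_top_sect hD hP i hwx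
    have hw' : δP w = s + 1 := hW
    have hys : δ y = s := le_antisymm (hws i y hwy) (by omega)
    have hne : Cyc.subschemeFun δ s (pullback.snd ιW (P1.sect X i)) y ≠ 0 := by
      rw [P1Div.subschemeFun_sect i ιW y hys, dif_pos hwy]
      set t := P1Div.tStk i _ (P1Div.mem_dom_sect i y)
      have htP : t ∉ CDivNormal.genPrime hwy := by
        rw [CDivNormal.mem_genPrime, not_not]
        show IsUnit ((P.presheaf.stalkSpecializes hwy).hom t)
        rw [P1Div.spz_tStk]
        exact P1Div.isUnit_tStk_of_not_range i _ (hout i)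
      have hfin := CycPull.length_sup_lt_top hD hwy (by rw [P1Div.delta_sect hP i y, hys]; exact hw'.le) htP
      rw [ne_eq, Nat.cast_eq_zero, ENat.toNat_eq_zero]
      rintro (h | h)
      · haveI : Nontrivial (P.presheaf.stalk (P1.sect X i y) ⧸ (CDivNormal.genPrime hwy ⊔ Ideal.span {t})) := by
          refine Ideal.Quotient.nontrivial_iff.2 fun htop => ?_
          exact (IsLocalRing.maximalIdeal.isMaximal _).ne_top (top_le_iff.1 (htop.ge.trans (sup_le
            (IsLocalRing.le_maximalIdeal (Ideal.IsPrime.ne_top inferInstance))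
            ((Ideal.span_singleton_le_iff_mem _).2 (P1Div.not_isUnit_tStk_sect i y)))))
        exact (Module.length_pos (R := P.presheaf.stalk (P1.sect X i y))
          (M := P.presheaf.stalk (P1.sect X i y) ⧸ (CDivNormal.genPrime hwy ⊔ Ideal.span {t}))).ne' h
      · exact hfin.ne h
    have h := hi v y x (by rw [Set.indicator_of_mem (Set.mem_singleton _), Pi.one_apply]; exact one_ne_zero) hne hvx hyx
    rw [hv, hys] at h
    exact h
  have hTT : ∀ i x, v ⤳ x → w ⤳ P1.sect X i x → δ x ≤ r + s - n := by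
    intro i
    fin_cases i
    · exact hT 0 h0
    · exact hT 1 h1
  -- the pullback of V
  have hc : ∀ z : P, EquidimPt.IsFibMax π z → δP z = δ (π z) + 1 := fun z hz =>
    (CycDim.delta_le π hP BivarOps.hasRelDim_line z).2.2 hz
  let V' := Cyc.pullFun π δP δ 1 (Set.indicator {v} 1)
  let Vc : AlgebraicCycle P ℤ := CycLim.mkCycle V' fun {U} hU =>
    CycLim.finite_pullFun π hD hc ((Set.finite_singleton v).subset fun y hy => BivarOps.indicator_ne hy) hU
  have hV' : ∀ u, V' u ≠ 0 → π u = v ∧ δP u = r + 1 := by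
    intro u hu
    simp only [V', Cyc.pullFun] at hu
    split_ifs at hu with hd
    · have he := BivarOps.indicator_ne (left_ne_zero_of_mul hu)
      exact ⟨he, by rw [hd, he, hv]⟩
    · exact absurd rfl hu
  let Near : P → Prop := fun η => ∃ i x, η ⤳ P1.sect X i x
  have hbound : ∀ η, Near η → v ⤳ π η → w ⤳ η → δP η ≤ r + s + 1 - n := by
    rintro η ⟨i, x, hη⟩ hvη hwη
    obtain ⟨y, -, hηy, hle⟩ := BivarOps.exists_top_sect hD hP i hη
    have := hTT i y (hvη.trans ((hηy.map π.continuous).trans (specializes_of_eq (hπ i y)))) (hwη.trans hηy)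
    omega
  let Z0 : Set P := π ⁻¹' closure {v} ∩ closure {w}
  have hZ0 : IsClosed Z0 := (isClosed_closure.preimage π.continuous).inter isClosed_closure
  have hfinNear : ∀ (F : P → ℤ), (∀ η, F η ≠ 0 → Near η ∧ v ⤳ π η ∧ w ⤳ η ∧ δP η = r + s + 1 - n) →
      ∀ {U : P.Opens}, IsAffineOpen U → {η : P | η ∈ U ∧ F η ≠ 0}.Finite := by
    intro F hF U hU
    refine BivarOps.finite_of_maximal hD hZ0 F (fun η hη => ?_) hU
    obtain ⟨⟨i, x, hn'⟩, h2, h3, h4⟩ := hF η hη
    refine ⟨⟨specializes_iff_mem_closure.1 h2, specializes_iff_mem_closure.1 h3⟩, fun y hy hyη => ?_⟩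
    rw [h4]
    exact hbound y ⟨i, x, hyη.trans hn'⟩ (specializes_iff_mem_closure.2 hy.1) (specializes_iff_mem_closure.2 hy.2)
  have hw' : δP w = s + 1 := hW
  have huw : ∀ a η, V' a ≠ 0 → IntMult.interProd δP (n + 1) (Set.indicator {a} 1) (Set.indicator {w} 1) η ≠ 0 →
      v ⤳ π η ∧ w ⤳ η ∧ δP η = r + s + 1 - n := by
    intro a η ha hne
    obtain ⟨b, hab, hbη, hd, hb⟩ := BivarOps.interProd_prime_ne hne
    obtain rfl := BivarOps.indicator_ne hb
    rw [(hV' a ha).2, hw'] at hd
    exact ⟨(specializes_of_eq (hV' a ha).1.symm).trans (hab.map π.continuous), hbη, by omega⟩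
  -- the cycle in the line
  let aFun : P → ℤ := fun η => if Near η then IntMult.interProd δP (n + 1) V' (Set.indicator {w} 1) η else 0
  have haFun : ∀ η, aFun η ≠ 0 → Near η ∧ v ⤳ π η ∧ w ⤳ η ∧ δP η = r + s + 1 - n := by
    intro η hη
    simp only [aFun] at hη
    split_ifs at hη with hn'
    · rw [BivarOps.interProd_comm] at hη
      obtain ⟨u, hwη, huη, hd, hu⟩ := BivarOps.interProd_prime_ne hη
      rw [(hV' u hu).2, hw'] at hd
      exact ⟨hn', (specializes_of_eq (hV' u hu).1.symm).trans (huη.map π.continuous), hwη, by omega⟩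
    · exact absurd rfl hη
  let α : AlgebraicCycle P ℤ := CycLim.mkCycle aFun fun {U} hU => hfinNear aFun haFun hU
  have hα : α ∈ Cyc.Zk P δP (r + s - n + 1) := fun η hη => not_not.1 fun hne => hη (by
    rw [(haFun η hne).2.2.2]; ring)
  have hpropα : ∀ i, IntMult.IntersectProperly δP (n + 1) ⇑α (Set.indicator {g i} 1) := by
    intro i a b ζ ha hb haζ hbζ
    obtain rfl := BivarOps.indicator_ne hb
    obtain ⟨x, rfl⟩ := hsect i ζ hbζ
    obtain ⟨-, h2, h3, h4⟩ := haFun a ha
    have := hTT i x (h2.trans ((haζ.map π.continuous).trans (specializes_of_eq (hπ i x)))) (h3.trans haζ)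
    rw [P1Div.delta_sect hP i x, hdg, h4]
    omega
  -- push forward of cycles living on a section
  have hpush : ∀ (i : Fin (1 + 1)) (F : AlgebraicCycle P ℤ), (∀ z, F z ≠ 0 → ∃ y, P1.sect X i y = z) →
      ∀ x, AlgebraicCycle.map π δP δ F x = F (P1.sect X i x) := by
    intro i F hF x
    show (∑ᶠ p ∈ π ⁻¹' {x}, F p * ((AlgebraicCycle.mapCoeff π δP δ p : ℕ) : ℤ)) = _
    rw [finsum_mem_eq_sum_of_subset (s := (π ⁻¹' {x} : Set _)) (t := {P1.sect X i x}) _ (fun p hp => ?_)
      (fun p hp => ?_), Finset.sum_singleton, AlgebraicCycle.mapCoeff,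
      if_pos ((P1Div.delta_sect hP i x).trans (congrArg δ (hπ i x)).symm), P1Div.residueDegree_sect, Nat.cast_one,
      mul_one]
    · obtain ⟨y, rfl⟩ := hF p (left_ne_zero_of_mul hp.2)
      rw [Finset.coe_singleton, Set.mem_singleton_iff, show y = x from (hπ i y).symm.trans hp.1]
    · rw [Finset.coe_singleton, Set.mem_singleton_iff] at hp
      rw [hp]
      exact hπ i x
  have hvc : ⇑(CycRat.pt v) = Set.indicator {v} (1 : X → ℤ) := funext fun y => by
    rw [CycRat.pt_apply]; simp [Set.indicator_apply]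
  have hwc : ⇑(CycRat.pt w) = Set.indicator {w} (1 : P → ℤ) := funext fun y => by
    rw [CycRat.pt_apply]; simp [Set.indicator_apply]
  -- the intersection with a section
  have key : ∀ i, IntMult.IntersectProperly δ n (Set.indicator {v} 1)
      (Cyc.subschemeFun δ s (pullback.snd ιW (P1.sect X i))) →
      ∀ (γi : AlgebraicCycle X ℤ), ⇑γi = IntMult.interProd δ n (Set.indicator {v} 1)
        (Cyc.subschemeFun δ s (pullback.snd ιW (P1.sect X i))) →
      (∀ x, IntMult.interProd δP (n + 1) ⇑α (Set.indicator {g i} 1) (P1.sect X i x) = γi x) ∧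
      (∀ z, IntMult.interProd δP (n + 1) ⇑α (Set.indicator {g i} 1) z ≠ 0 → ∃ y, P1.sect X i y = z) ∧
      ∀ {U : P.Opens}, IsAffineOpen U →
        {z : P | z ∈ U ∧ IntMult.interProd δP (n + 1) ⇑α (Set.indicator {g i} 1) z ≠ 0}.Finite := by
    intro i hi γi hγi
    have hsupp : ∀ z, IntMult.interProd δP (n + 1) ⇑α (Set.indicator {g i} 1) z ≠ 0 → ∃ y, P1.sect X i y = z := by
      intro z hz
      rw [BivarOps.interProd_comm] at hz
      obtain ⟨η, hv', -⟩ := BivarOps.interProd_prime_ne hz
      exact hsect i z hv'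
    let dFun := IntMult.interProd δP (n + 1) (Set.indicator {w} 1) (Set.indicator {g i} 1)
    have hd : ∀ z, dFun z ≠ 0 → w ⤳ z ∧ g i ⤳ z ∧ δP z = s := by
      intro z hz
      obtain ⟨b, hwz, hbz, hd, hb⟩ := BivarOps.interProd_prime_ne hz
      obtain rfl := BivarOps.indicator_ne hb
      rw [hdg, hw'] at hd
      exact ⟨hwz, hbz, by omega⟩
    let D : AlgebraicCycle P ℤ := CycLim.mkCycle dFun fun {U} hU =>
      BivarOps.finite_of_maximal hD (isClosed_closure.inter isClosed_closure : IsClosed (closure {w} ∩ closure {g i}))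
        dFun (fun z hz => by
          obtain ⟨h2, h3, h4⟩ := hd z hz
          refine ⟨⟨specializes_iff_mem_closure.1 h2, specializes_iff_mem_closure.1 h3⟩, fun y hy _ => ?_⟩
          obtain ⟨x, rfl⟩ := hsect i y (specializes_iff_mem_closure.2 hy.2)
          rw [P1Div.delta_sect hP i x, h4]
          exact hws i x (specializes_iff_mem_closure.2 hy.1)) hU
    have hDk : D ∈ Cyc.Zk P δP s := fun z hz => not_not.1 fun hne => hz (hd z hne).2.2
    have hDS : ∀ z, D z ≠ 0 → ∃ y, P1.sect X i y = z := fun z hz => hsect i z (hd z hz).2.1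
    have hDval : ∀ x, D (P1.sect X i x) = Cyc.subschemeFun δ s (pullback.snd ιW (P1.sect X i)) x := by
      intro x
      show IntMult.interProd δP (n + 1) (Set.indicator {w} 1) (Set.indicator {g i} 1) (P1.sect X i x) = _
      rw [← hwc, Groth.Agent.S1952.interProd_sect f hn hP s (CycRat.pt w)
        (fun z hz => not_not.1 fun hne => hz (by
          rw [CycRat.pt_apply] at hne
          split_ifs at hne with he
          · rw [he]; exact hw'
          · exact absurd rfl hne)) i (fun z hz => by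
          rw [CycRat.pt_apply] at hz
          split_ifs at hz with he
          · rw [he]; exact hout i
          · exact absurd rfl hz) x, P1Div.secSum]
      by_cases hx : δ x = s
      · rw [if_pos hx, P1Div.subschemeFun_sect i ιW x hx, finsum_eq_single _ w fun z hz => ?_]
        · rw [CycRat.pt_apply, if_pos rfl]
          split
          · rw [one_mul]; rfl
          · rfl
        · rw [CycRat.pt_apply, if_neg hz]
          simp
      · rw [if_neg hx, Cyc.subschemeFun, if_neg hx]
    have hpropD : IntMult.IntersectProperly δP (n + 1) ⇑D V' := by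
      intro a b ζ ha hb haζ hbζ
      obtain ⟨h2, h3, h4⟩ := hd a ha
      obtain ⟨x, rfl⟩ := hsect i ζ (h3.trans haζ)
      have hvx : v ⤳ x := (specializes_of_eq (hV' b hb).1.symm).trans
        ((hbζ.map π.continuous).trans (specializes_of_eq (hπ i x)))
      have := hTT i x hvx (h2.trans haζ)
      rw [P1Div.delta_sect hP i x, h4, (hV' b hb).2]
      omega
    let eFun := IntMult.interProd δP (n + 1) ⇑D V'
    let Zi : Set P := Z0 ∩ closure {g i}
    have he : ∀ z, eFun z ≠ 0 → z ∈ Zi ∧ δP z = r + s - n := by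
      intro z hz
      obtain ⟨p, hp⟩ := not_forall.1 fun h => hz (finsum_eq_zero_of_forall_eq_zero h)
      obtain ⟨h2, h3, h4⟩ := hd _ (left_ne_zero_of_mul (left_ne_zero_of_mul hp))
      obtain ⟨hb1, hb2⟩ := hV' _ (right_ne_zero_of_mul (left_ne_zero_of_mul hp))
      have hsum := p.2.2.2
      rw [h4, hb2] at hsum
      exact ⟨⟨⟨specializes_iff_mem_closure.1 ((specializes_of_eq hb1.symm).trans (p.2.2.1.map π.continuous)),
        specializes_iff_mem_closure.1 (h2.trans p.2.1)⟩, specializes_iff_mem_closure.1 (h3.trans p.2.1)⟩, by omega⟩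
    have heS : ∀ z, eFun z ≠ 0 → ∃ y, P1.sect X i y = z := fun z hz =>
      hsect i z (specializes_iff_mem_closure.2 (he z hz).1.2)
    let E : AlgebraicCycle P ℤ := CycLim.mkCycle eFun fun {U} hU =>
      BivarOps.finite_of_maximal hD (hZ0.inter isClosed_closure : IsClosed Zi) eFun (fun z hz => ⟨(he z hz).1, fun y hy _ => by
        obtain ⟨x, rfl⟩ := hsect i y (specializes_iff_mem_closure.2 hy.2)
        rw [P1Div.delta_sect hP i x, (he z hz).2]
        exact hTT i x ((specializes_iff_mem_closure.2 hy.1.1).trans (specializes_of_eq (hπ i x)))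
          (specializes_iff_mem_closure.2 hy.1.2)⟩) hU
    have hproj := (Groth.Agent.S1950.result K P X π (π ≫ f) f rfl δP δ sP hX hP₂ hδ hP (n + 1) n hgen hn 1 (by simp)
      BivarOps.hasRelDim_line s r D (CycRat.pt v) hDk
      (fun y hy => not_not.1 fun hne => hy (by
        rw [CycRat.pt_apply] at hne
        split_ifs at hne with he'
        · rw [he', hv]
        · exact absurd rfl hne))
      (by rw [hvc]; exact hpropD) E (by rw [hvc]; rfl)).2
    have hmain : ∀ x, IntMult.interProd δP (n + 1) ⇑α (Set.indicator {g i} 1) (P1.sect X i x) =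
        eFun (P1.sect X i x) := by
      intro x
      let ζ := P1.sect X i x
      let B := (BivarOps.finite_gens Vc ζ).toFinset
      have hB : ∀ a, a ∈ B ↔ a ⤳ ζ ∧ V' a ≠ 0 := fun a => Set.Finite.mem_toFinset _
      have hexp : ∀ y : P, y ⤳ ζ → V' y = ∑ a ∈ B, V' a * Set.indicator {a} (1 : P → ℤ) y := by
        intro y hy
        rw [Finset.sum_eq_single y]
        · rw [Set.indicator_of_mem (Set.mem_singleton y), Pi.one_apply, mul_one]
        · intro a _ hay
          rw [Set.indicator_of_notMem (show y ∉ ({a} : Set P) from fun h => hay (Set.mem_singleton_iff.1 h).symm), mul_zero]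
        · intro hy'
          rw [show V' y = 0 from of_not_not fun h => hy' ((hB y).2 ⟨hy, h⟩), zero_mul]
      let uw : P → P → ℤ := fun a => IntMult.interProd δP (n + 1) (Set.indicator {a} 1) (Set.indicator {w} 1)
      have hone : ∀ (a y : P), y ⤳ ζ → Set.indicator {a} (1 : P → ℤ) y =
          ∑ _z ∈ ({()} : Finset Unit), 1 * Set.indicator {a} (1 : P → ℤ) y := fun a y _ => by simp
      have hfin1 : ∀ a ξ : P, {y : P | y ⤳ ξ ∧ Set.indicator {a} (1 : P → ℤ) y ≠ 0}.Finite := fun a ξ =>
        (Set.finite_singleton a).subset fun y hy => BivarOps.indicator_ne hy.2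
      have hl : ∀ ξ, ξ ⤳ ζ → aFun ξ = ∑ a ∈ B, V' a * uw a ξ := by
        intro ξ hξ
        simp only [aFun]
        rw [if_pos (⟨i, x, hξ⟩ : Near ξ), BivarOps.interProd_sum ξ B ({()} : Finset Unit) V' (fun _ => 1)
          (fun a => Set.indicator {a} 1) (fun _ => Set.indicator {w} 1) _ _ (fun y hy => hexp y (hy.trans hξ))
          (fun y _ => by simp) (fun a _ => hfin1 a ξ) (fun _ _ => hfin1 w ξ)]
        simp [uw]
      have hfin2 : ∀ a ∈ B, {ξ : P | ξ ⤳ ζ ∧ uw a ξ ≠ 0}.Finite := by
        intro a ha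
        obtain ⟨U, hU, hζU, -⟩ := exists_isAffineOpen_mem_and_subset (x := ζ) (U := (⊤ : P.Opens)) trivial
        refine (hfinNear (fun ξ => if Near ξ then uw a ξ else 0) (fun η hη => ?_) hU).subset fun ξ hξ => ?_
        · split_ifs at hη with hn'
          · exact ⟨hn', huw a η ((hB a).1 ha).2 hη⟩
          · exact absurd rfl hη
        · exact ⟨hξ.1.mem_open U.2 hζU, by rw [if_pos (⟨i, x, hξ.1⟩ : Near ξ)]; exact hξ.2⟩
      refine (BivarOps.interProd_sum ζ B ({()} : Finset Unit) V' (fun _ => 1) uw (fun _ => Set.indicator {g i} 1) aFun _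
        hl (fun y _ => by simp) hfin2 (fun _ _ => hfin1 _ ζ)).trans ?_
      show _ = IntMult.interProd δP (n + 1) ⇑D V' ζ
      rw [BivarOps.interProd_comm δP (n + 1) ⇑D V', BivarOps.interProd_sum ζ B ({()} : Finset Unit) V' (fun _ => 1)
        (fun a => Set.indicator {a} 1) (fun _ => ⇑D) _ _ (fun y hy => hexp y hy) (fun y _ => by simp)
        (fun a _ => hfin1 a ζ) (fun _ _ => BivarOps.finite_gens D ζ)]
      refine Finset.sum_congr rfl fun a ha => Finset.sum_congr rfl fun _ _ => ?_
      congr 1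
      obtain ⟨haζ, hane⟩ := (hB a).1 ha
      obtain ⟨hπa, hda⟩ := hV' a hane
      refine (BivarOps.interProd_assoc_local K (π ≫ f) hD (n + 1) hgen a w (g i) ζ (fun η hη h2 h3 => ?_)
        (fun η _ h2 h3 => ?_) (fun z h2 h3 h4 => ?_)).symm
      · have := hbound η ⟨i, x, hη⟩ ((specializes_of_eq hπa.symm).trans (h2.map π.continuous)) h3
        rw [hda, hw']
        omega
      · obtain ⟨y, rfl⟩ := hsect i η h3
        have := hws i y h2
        rw [P1Div.delta_sect hP i y, hw', hdg]
        omega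
      · obtain ⟨y, rfl⟩ := hsect i z h4
        have := hTT i y ((specializes_of_eq hπa.symm).trans ((h2.map π.continuous).trans (specializes_of_eq (hπ i y)))) h3
        rw [P1Div.delta_sect hP i y, hda, hw', hdg]
        omega
    have hD' : ⇑(AlgebraicCycle.map π δP δ D) = Cyc.subschemeFun δ s (pullback.snd ιW (P1.sect X i)) :=
      funext fun x => (hpush i D hDS x).trans (hDval x)
    rw [hD', hvc] at hproj
    refine ⟨fun x => ?_, hsupp, fun {U} hU => ?_⟩
    · rw [hmain, hγi, BivarOps.interProd_comm, hproj, hpush i E heS]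
      rfl
    · refine ((BivarOps.finite_of_maximal hD (hZ0.inter isClosed_closure : IsClosed Zi) eFun (fun z hz => ⟨(he z hz).1,
        fun y hy _ => ?_⟩) hU)).subset fun z hz => ⟨hz.1, ?_⟩
      · obtain ⟨x, rfl⟩ := hsect i y (specializes_iff_mem_closure.2 hy.2)
        rw [P1Div.delta_sect hP i x, (he z hz).2]
        exact hTT i x ((specializes_iff_mem_closure.2 hy.1.1).trans (specializes_of_eq (hπ i x)))
          (specializes_iff_mem_closure.2 hy.1.2)
      · obtain ⟨y, rfl⟩ := hsupp z hz.2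
        rw [← hmain]
        exact hz.2
  obtain ⟨v0, s0, f0⟩ := key 0 h0 γ₀ hγ₀
  obtain ⟨v1, s1, f1⟩ := key 1 h1 γ₁ hγ₁
  let G0 := IntMult.interProd δP (n + 1) ⇑α (Set.indicator {g 0} 1)
  let G1 := IntMult.interProd δP (n + 1) ⇑α (Set.indicator {g 1} 1)
  let Γ : AlgebraicCycle P ℤ := CycLim.mkCycle (G0 - G1) fun {U} hU =>
    ((f0 hU).union (f1 hU)).subset fun z hz => by
      by_cases h : G0 z = 0
      · exact Or.inr ⟨hz.1, fun h' => hz.2 (by rw [Pi.sub_apply, h, show G1 z = 0 from h', sub_zero])⟩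
      · exact Or.inl ⟨hz.1, h⟩
  have hfinal := Groth.Agent.S1952.result K X f δ hX hδ n hn δP sP hP (r + s - n) α hα (hpropα 0) (hpropα 1) Γ rfl
  have e : AlgebraicCycle.map π δP δ Γ = γ₀ - γ₁ := by
    ext x
    show (∑ᶠ p ∈ π ⁻¹' {x}, Γ p * ((AlgebraicCycle.mapCoeff π δP δ p : ℕ) : ℤ)) = γ₀ x - γ₁ x
    have hc' : ∀ i, (AlgebraicCycle.mapCoeff π δP δ (P1.sect X i x) : ℤ) = 1 := by
      intro i
      rw [AlgebraicCycle.mapCoeff, if_pos ((P1Div.delta_sect hP i x).trans (congrArg δ (hπ i x)).symm),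
        P1Div.residueDegree_sect]
      rfl
    rw [finsum_mem_eq_sum_of_subset (s := (π ⁻¹' {x} : Set _))
      (t := {P1.sect X 0 x, P1.sect X 1 x}) _ (fun p hp => ?_) (fun p hp => ?_)]
    · rw [Finset.sum_pair (P1Div.sect_ne x x), hc', hc']
      show (G0 _ - G1 _) * 1 + (G0 _ - G1 _) * 1 = _
      have z1 : G1 (P1.sect X 0 x) = 0 := not_not.1 fun hne => by
        obtain ⟨y, hy⟩ := s1 _ hne; exact P1Div.sect_ne x y hy.symm
      have z0 : G0 (P1.sect X 1 x) = 0 := not_not.1 fun hne => by
        obtain ⟨y, hy⟩ := s0 _ hne; exact P1Div.sect_ne y x hy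
      rw [z0, z1, show G0 (P1.sect X 0 x) = γ₀ x from v0 x, show G1 (P1.sect X 1 x) = γ₁ x from v1 x]
      ring
    · obtain ⟨hpx, hp'⟩ := hp
      have hne : G0 p - G1 p ≠ 0 := left_ne_zero_of_mul hp'
      by_cases hh : G0 p = 0
      · rw [hh, zero_sub, neg_ne_zero] at hne
        obtain ⟨y, rfl⟩ := s1 _ hne
        rw [show y = x from (hπ 1 y).symm.trans hpx]
        simp
      · obtain ⟨y, rfl⟩ := s0 _ hh
        rw [show y = x from (hπ 0 y).symm.trans hpx]
        simp
    · rcases Finset.mem_insert.1 (Finset.mem_coe.1 hp) with rfl | hp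
      · exact hπ 0 x
      · rw [Finset.mem_singleton.1 hp]; exact hπ 1 x
  rw [e] at hfinal
  exact hfinal

end Groth.Agent.S1949
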