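import Groth.Statements.S19498
import Groth.Agent.W7SeeK.Glue
import Groth.Agent.W7Hull.InvNear

set_option autoImplicit false
universe u
open CategoryTheory CategoryTheory.Limits AlgebraicGeometry
open Canon

set_option backward.isDefEq.respectTransparency false
set_option backward.isDefEq.respectTransparency.types false

namespace Groth.Agent.S19498

/-- Let S be a locally Noetherian scheme and f : X ⟶ S a locally projective morphism, smooth of relative
dimension n, whose fibres are non-empty and geometrically connected; let ω be an n-th exterior power
of the sheaf of relative differentials of f (the relative canonical sheaf K_{X/S}) and m ≥ 1 an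
integer such that K^{⊗m} is trivial on fibres: for every point s of S the restriction of K^{⊗m} to
the fibre X_s is isomorphic to O_{X_s}. Assume H^1(X_s, O_{X_s}) = 0 for every point s of S. Then
the evaluation map f^* f_* K^{⊗m} ⟶ K^{⊗m}, the counit of the adjunction between pullback and
pushforward of modules, is an isomorphism. (The published statement has f projective and smooth of
possibly varying relative dimension; here f is taken locally projective of constant relative
dimension n.) -/
theorem result
    {X S : Scheme.{u}} [IsLocallyNoetherian S] (f : X ⟶ S)
    (hproj : RedSub.IsLocallyProjective (Over.mk f))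
    (n : ℕ) [SmoothOfRelativeDimension n f] [GeometricallyConnected f]
    (ω : X.Modules) (hω : Canon.IsTopDiff f n ω) (m : ℕ) (hm : 1 ≤ m)
    (htriv : ∀ s : ↥S, Nonempty ((Scheme.Modules.pullback (f.fiberι s)).obj (CohB1.tensorPow ω m) ≅
      Coh.structureModule (f.fiber s)))
    (hH1 : ∀ s : ↥S, Subsingleton (Coh.HH (f.fiber s) (Coh.structureModule (f.fiber s)) 1)) :
    IsIso ((Scheme.Modules.pullbackPushforwardAdjunction f).counit.app (CohB1.tensorPow ω m)) := by
  haveI : IsProper f := W7SeeK.isProper_of_isLocallyProjective f hproj
  haveI : Smooth f := SmoothOfRelativeDimension.smooth n f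
  haveI : GeometricallyReduced f := Rigid.geometricallyReduced_of_smooth f
  have hb := W7See.app_bijective_of_local f fun y =>
    W7Hull.exists_nhd_app_bijective f y (W7See.bijective_fiber f y)
  have hL := W7SeeK.isInvertible_pow f n hω m
  refine (W7See.seesaw_formal f hb _ hL fun y => ?_).2
  obtain ⟨i⟩ := htriv y
  refine W7Hull.exists_gen_near_of_epi f _ hL y (W7Hull.exists_nhd_epi_of_vanish f _ hL y ?_) i
  exact ((((CohIII.HAb _ 1).mapIso i).addCommGroupIsoToAddEquiv :
    Coh.HH _ (CohIII.fiberMod f (CohB1.tensorPow ω m) y) 1 ≃+
      Coh.HH _ (Coh.structureModule (f.fiber y)) 1).toEquiv.subsingleton_congr.2 (hH1 y))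

end Groth.Agent.S19498
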