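import Groth.Statements.S19499
import Groth.Agent.BlowBC.Flat
import Groth.Agent.RegImmKinds.Comp
import Groth.Agent.S1676
import Groth.Agent.P1FinClopen
import Groth.Agent.P1Div.Chart
import Groth.Agent.CycPB.BundleSmooth

set_option linter.style.haveILetI false
set_option backward.isDefEq.respectTransparency false
-- import your own Groth.Agent.* helpers here

set_option autoImplicit false
universe u
open CategoryTheory CategoryTheory.Limits AlgebraicGeometry
open IntTh

namespace Groth.Agent.S19499

/-- Formation of M commutes with base change: let f : X ⟶ S be locally projective, flat, surjective and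
locally of finite presentation, with every fibre of local dimension n at each of its points, and let
i : Y ⟶ X be a closed immersion that is regular of constant codimension c ≤ n (locally cut out by a
regular sequence of length c) such that Y ⟶ S is again locally projective, flat, surjective and
locally of finite presentation with fibres of local dimension n − c everywhere. Let b : M ⟶ P¹_X be
a blowing-up of P¹_X in the closed subscheme Y × {∞} (the image of Y under the section at infinity),
given through its universal property. Let S' ⟶ S be any morphism, X' = X ×_S S' and Y' = Y ×_S S'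
the base changes with the induced closed immersion i' : Y' ⟶ X', and M' = M ×_{P¹_X} P¹_{X'} with
projection b' : M' ⟶ P¹_{X'} (so M' = M ×_S S'). Then b' is a blowing-up of P¹_{X'} in Y' × {∞}: the
formation of the deformation to the normal cone commutes with arbitrary base change on S. -/
theorem result
    {S S' X X' Y Y' M M' : Scheme.{u}} (f : X ⟶ S) (n c : ℕ) (hc : c ≤ n)
    (hfproj : RedSub.IsLocallyProjective (Over.mk f))
    [Flat f] [Surjective f] [LocallyOfFinitePresentation f]
    (hfdim : ∀ x : ↥X, FlatMor.fibreDimAt f x = n)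
    (i : Y ⟶ X) [IsClosedImmersion i]
    (hi : RegImm.IsRegularImmersionOfCodim RegImm.Kind.regular c i)
    (hgproj : RedSub.IsLocallyProjective (Over.mk (i ≫ f)))
    [Flat (i ≫ f)] [Surjective (i ≫ f)] [LocallyOfFinitePresentation (i ≫ f)]
    (hgdim : ∀ y : ↥Y, FlatMor.fibreDimAt (i ≫ f) y = ((n - c : ℕ) : WithBot ℕ∞))
    (b : M ⟶ CohB1.ProjSpaceOver 1 X)
    (hb : BlowUp.IsBlowUp b (i ≫ P1.sect X 1).ker)
    (h : S' ⟶ S) (f' : X' ⟶ S') (g : X' ⟶ X) (hX : IsPullback g f' f h)
    (i' : Y' ⟶ X') (gY : Y' ⟶ Y) (hY : IsPullback gY i' i g)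
    (b' : M' ⟶ CohB1.ProjSpaceOver 1 X') (μ : M' ⟶ M) (hM : IsPullback μ b' b (P1.toP1 g)) :
    BlowUp.IsBlowUp b' (i' ≫ P1.sect X' 1).ker := by
  haveI : Smooth (CohB1.ProjSpaceOver.toBase 1 X) := Groth.Agent.CycPB.smooth_toBase 1 X
  -- the sections are closed and H1-regular
  haveI : IsClosedImmersion (P1.sect X 1) := Groth.Agent.P1Div.isClosedImmersion_sect X 1
  have hsect : ∀ {W : Scheme.{u}}, P1.sect W 1 ≫ CohB1.ProjSpaceOver.toBase 1 W = 𝟙 W := fun {W} =>
    Groth.Agent.P1Div.sect_toBase W 1
  have hs1 : RegImm.IsRegularImmersion RegImm.Kind.h1 (P1.sect X 1) := by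
    refine ⟨inferInstance, fun x => ?_⟩
    obtain ⟨U, hU, hxU, rs, hrs, hker⟩ :=
      (Groth.Agent.S1676.result (CohB1.ProjSpaceOver.toBase 1 X) (P1.sect X 1) hsect).2 x
    exact ⟨⟨U, hU⟩, hxU, IsZariskiLocalAtTarget.restrict (P := @IsClosedImmersion) inferInstance U, rs,
      KoszulLib.h1_seq_of_koszul (KoszulLib.koszul_seq_of_regular hrs),
      (Scheme.Hom.ker_apply (P1.sect X 1) ⟨U, hU⟩).symm.trans hker⟩
  have hi1 : RegImm.IsRegularImmersion RegImm.Kind.h1 i := by
    refine ⟨inferInstance, fun y => ?_⟩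
    obtain ⟨U, hyU, hcU, rs, -, hrs, hker⟩ := hi.2 y
    exact ⟨U, hyU, hcU, rs, KoszulLib.h1_seq_of_koszul (KoszulLib.koszul_seq_of_regular hrs), hker⟩
  have hz : RegImm.IsRegularImmersion RegImm.Kind.quasi (i ≫ P1.sect X 1) := by
    refine ⟨inferInstance, fun y => ?_⟩
    obtain ⟨U, hyU, hcU, rs, hrs, hker⟩ := (Groth.Agent.RegImmKinds.isRegularImmersion_comp_h1 hs1 hi1).2 y
    exact ⟨U, hyU, hcU, rs, KoszulLib.quasi_seq_of_h1 hrs, hker⟩
  let q := CohB1.ProjSpaceOver.toBase 1 X ≫ f
  haveI : Flat ((i ≫ P1.sect X 1) ≫ q) := by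
    simp only [q, Category.assoc, reassoc_of% hsect]
    infer_instance
  haveI : Flat ((i ≫ P1.sect X 1).ker.subschemeι ≫ q) := Groth.Agent.BlowBC.flat_ker _ q
  -- the base-change squares
  have sq := Groth.Agent.P1FinClopen.toP1_pullbackSquare g
  have hnat : g ≫ P1.sect X 1 = P1.sect X' 1 ≫ P1.toP1 g := by
    simp only [P1.sect, P1.toP1, pullback.map]
    apply pullback.hom_ext
    · rw [Category.assoc, Category.assoc, pullback.lift_fst, pullback.lift_fst, Category.comp_id,
        pullback.lift_fst, ← Category.assoc]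
      exact congrArg (fun t => t ≫ P1.point 1) (specULiftZIsTerminal.hom_ext _ _)
    · rw [Category.assoc, Category.assoc, pullback.lift_snd, pullback.lift_snd, Category.comp_id,
        ← Category.assoc, pullback.lift_snd, Category.id_comp]
  have sqs : IsPullback g (P1.sect X' 1) (P1.sect X 1) (P1.toP1 g) := by
    refine IsPullback.of_bot ?_ hnat sq
    rw [hsect, hsect]
    exact IsPullback.of_vert_isIso ⟨by simp⟩
  have hzq : IsPullback gY (i' ≫ P1.sect X' 1) (i ≫ P1.sect X 1) (P1.toP1 g) := hY.paste_vert sqs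
  have hker : (i' ≫ P1.sect X' 1).ker = (i ≫ P1.sect X 1).ker.comap (P1.toP1 g) := by
    rw [← Scheme.IdealSheafData.ker_fst_of_isClosedImmersion, ← hzq.flip.isoPullback_hom_fst,
      Scheme.Hom.ker_comp_of_isIso]
  rw [hker]
  exact Groth.Agent.BlowBC.isBlowUp_baseChange_of_relQuasi q _ (Groth.Agent.BlowBC.isRegularIdeal_ker _ hz) b hb h
    (P1.toP1 g) (CohB1.ProjSpaceOver.toBase 1 X' ≫ f') (sq.paste_vert hX) μ b' hM

end Groth.Agent.S19499
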