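import Groth.Statements.S19500
import Groth.Agent.CubicPf.TangentFin

set_option autoImplicit false
universe u
open Cubic

namespace Groth.Agent.S19500

/-- Let K be an algebraically closed field of characteristic zero and S = V(F) ⊂ P^3_K a cubic surface
(F homogeneous of degree 3) which is irreducible and not a cone (no nonzero vector v has Σ_i v_i
∂F/∂x_i = 0). For a nonzero vector b with F(b) = 0 write ℓ_b = Σ_i ∂F/∂x_i(b) · x_i for the linear
form of the tangent plane at b; call b a T-point when b is a smooth point of S (some ∂F/∂x_i(b) ≠ 0)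
and F is congruent modulo ℓ_b to a product of three linear forms (the plane cubic T_b S ∩ S is
set-theoretically a union of lines). Let a be a smooth point of S which is not a T-point and H ⊂ K^4
the hyperplane ℓ_a = 0 (the tangent plane T_a S). Then T_a S contains only finitely many T-points of
S: the set of one-dimensional subspaces U ≤ H all of whose nonzero vectors are T-points is finite. -/
theorem result (K : Type u) [Field K] [IsAlgClosed K]
    [CharZero K] (F : MvPolynomial (Fin 4) K) (hF : F.IsHomogeneous 3) (hirr : Irreducible F)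
    (hcone : ¬ ∃ v : Fin 4 → K, v ≠ 0 ∧ ∑ i : Fin 4, v i • MvPolynomial.pderiv i F = 0)
    (tp : (Fin 4 → K) → Prop)
    (htp : ∀ b : Fin 4 → K, tp b ↔ (b ≠ 0 ∧ MvPolynomial.eval b F = 0 ∧
      (∃ i : Fin 4, MvPolynomial.eval b (MvPolynomial.pderiv i F) ≠ 0) ∧
      ∃ L₁ L₂ L₃ : MvPolynomial (Fin 4) K, L₁.IsHomogeneous 1 ∧ L₂.IsHomogeneous 1 ∧ L₃.IsHomogeneous 1 ∧
        F - L₁ * L₂ * L₃ ∈ Ideal.span {∑ i : Fin 4,
          MvPolynomial.C (MvPolynomial.eval b (MvPolynomial.pderiv i F)) * MvPolynomial.X i}))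
    (a : Fin 4 → K) (haF : MvPolynomial.eval a F = 0)
    (hsm : ∃ i : Fin 4, MvPolynomial.eval a (MvPolynomial.pderiv i F) ≠ 0) (ha : ¬ tp a)
    (H : Submodule K (Fin 4 → K))
    (hH : ∀ x : Fin 4 → K, x ∈ H ↔ MvPolynomial.eval x (∑ i : Fin 4,
      MvPolynomial.C (MvPolynomial.eval a (MvPolynomial.pderiv i F)) * MvPolynomial.X i) = 0) :
    Set.Finite {U : Submodule K (Fin 4 → K) | Module.finrank K ↥U = 1 ∧ U ≤ H ∧
      ∀ b ∈ U, b ≠ 0 → tp b} := by
  classical
  have hτ := Groth.Agent.CubicPf.pol_sym F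
  by_cases ha0 : a = 0
  · exfalso
    obtain ⟨i, hi⟩ := hsm
    apply hi
    subst ha0
    have h := Groth.Agent.CubicPf.eval_pderiv_sum F hF 0 (Pi.single i 1)
    rw [Groth.Agent.CubicPf.tri_zero, mul_zero, Finset.sum_eq_single i (fun l _ hl => by
      rw [Pi.single_eq_of_ne hl, zero_mul]) (fun h => absurd (Finset.mem_univ i) h), Pi.single_eq_same, one_mul] at h
    exact h
  have hN : ∀ b, b ≠ 0 → MvPolynomial.eval b F = 0 → tp b → ¬ Groth.Agent.CubicPf.NotT K F b := by
    intro b _ _ hb hN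
    obtain ⟨-, -, -, L₁, L₂, L₃, h1, h2, h3, hm⟩ := (htp b).1 hb
    exact hN ⟨L₁, L₂, L₃, h1, h2, h3, by simpa [Algebra.algebraMap_self, MvPolynomial.map_id] using hm⟩
  have hTa : Groth.Agent.CubicPf.NotT K F a := by
    rintro ⟨L₁, L₂, L₃, h1, h2, h3, hm⟩
    exact ha ((htp a).2 ⟨ha0, haF, hsm, L₁, L₂, L₃, h1, h2, h3, by simpa [Algebra.algebraMap_self, MvPolynomial.map_id] using hm⟩)
  have haa : Groth.Agent.CubicPf.tri (Groth.Agent.CubicPf.pol F) a a a = 0 := by
    rw [← Groth.Agent.CubicPf.eval_eq_tri F hF, haF]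
  have hsm' : ∃ v, Groth.Agent.CubicPf.tri (Groth.Agent.CubicPf.pol F) a a v ≠ 0 := by
    obtain ⟨i, hi⟩ := hsm
    refine ⟨Pi.single i 1, fun h0 => hi ?_⟩
    have h := Groth.Agent.CubicPf.eval_pderiv_sum F hF a (Pi.single i 1)
    rw [h0, mul_zero, Finset.sum_eq_single i (fun l _ hl => by rw [Pi.single_eq_of_ne hl, zero_mul])
      (fun h => absurd (Finset.mem_univ i) h), Pi.single_eq_same, one_mul] at h
    exact h
  obtain ⟨f₀⟩ := Groth.Agent.CubicPf.exists_frame _ ha0 haa hsm'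
  have hD0 := Groth.Agent.CubicPf.D_ne_zero (L := K) F hF haa f₀ hTa
  obtain ⟨t₀, ht₀⟩ : ∃ t, f₀.q.eval t ≠ 0 := by
    by_contra! hz
    exact Groth.Agent.CubicPf.q_ne_zero f₀ hD0 (Polynomial.funext fun t => by rw [hz, Polynomial.eval_zero])
  rw [Groth.Agent.CubicPf.eval_q] at ht₀
  let f : Groth.Agent.CubicPf.Frame (Groth.Agent.CubicPf.pol F) a :=
    ⟨f₀.w, f₀.u + t₀ • f₀.w, f₀.N, f₀.cw,
      by rw [Groth.Agent.CubicPf.tri_add₃, Groth.Agent.CubicPf.tri_smul₃, f₀.cu, f₀.cw]; ring,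
      f₀.cN, fun x y z h => by
        obtain ⟨h0, h1, h2⟩ := f₀.li x z (y + z * t₀) (by rw [← h]; module)
        exact ⟨h0, by subst h1; simpa using h2, h1⟩,
      fun v hv => by
        obtain ⟨x, y, z, rfl⟩ := f₀.span v hv
        exact ⟨x, z - y * t₀, y, by module⟩⟩
  have hD := Groth.Agent.CubicPf.D_ne_zero (L := K) F hF haa f hTa
  obtain ⟨G, hGa, hGs, hG⟩ := Groth.Agent.CubicPf.detector_at F hF f hD
  refine (Groth.Agent.CubicPf.finite_section F hF haa f hD (right_ne_zero_of_mul ht₀) G hGa hGs).subset ?_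
  rintro U ⟨hU1, hUH, hUb⟩
  obtain ⟨b, hbU, hb0⟩ := Submodule.exists_mem_ne_zero_of_ne_bot (p := U) (fun h => by subst h; simp at hU1)
  have htb := hUb b hbU hb0
  obtain ⟨-, hbF, -⟩ := (htp b).1 htb
  refine ⟨b, hb0, ?_, ?_, hbF, ?_⟩
  · haveI : FiniteDimensional K U := Module.finite_of_finrank_eq_succ hU1
    exact (Submodule.eq_of_le_of_finrank_eq ((Submodule.span_singleton_le_iff_mem b U).2 hbU)
      (by rw [hU1, finrank_span_singleton hb0])).symm
  · have h := (hH b).1 (hUH hbU)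
    simp only [map_sum, map_mul, MvPolynomial.eval_C, MvPolynomial.eval_X] at h
    have h' := Groth.Agent.CubicPf.eval_pderiv_sum F hF a b
    rw [show ∑ i, b i * MvPolynomial.eval a (MvPolynomial.pderiv i F) = 0 by
      rw [← h]; exact Finset.sum_congr rfl fun i _ => mul_comm _ _] at h'
    exact (mul_eq_zero.1 h'.symm).resolve_left three_ne_zero
  · by_contra hne
    exact hN b hb0 hbF htb (hG b hbF hne)

end Groth.Agent.S19500
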