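import Groth.Statements.S19502
import Mathlib

set_option linter.style.haveILetI false

set_option autoImplicit false
universe u
open W4c3ghconstell

namespace Groth.Agent.S19502

/-- Let ι index the irreducible representations, θ : ι → ℚ a weight which is negative exactly on the
finite set D₋, h h' : ι → ℕ with h' ≤ h pointwise (the isotypic dimensions of an object and of a
sub-object) and Σ_i θ_i h_i summable. For a finite set D of indices put S_D = Σ_{i ∉ D} θ_i h_i, d =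
#(D ∖ D₋) and θ̃_D = Σ_{i ∈ D} θ_i h'_i + (S_D / d) · Σ_{i ∈ D ∖ D₋} h'_i / h_i, the modified weight
attached to the parameters chosen for D (a quotient by zero is read as zero). Then for finite sets
D₋ ⊆ D ⊆ D̃ contained in the locus θ ≠ 0: (first error term) θ̃_{D̃} − θ̃_D = Σ_{τ ∈ D̃ ∖ D} (θ_τ
h_τ + S_{D̃}/d̃) · (h'_τ/h_τ − (1/d) Σ_{σ ∈ D ∖ D₋} h'_σ/h_σ); (second error term) Σ_i θ_i h'_i −
θ̃_D = Σ_{τ ∉ D} θ_τ h_τ · (h'_τ/h_τ − (1/d) Σ_{σ ∈ D ∖ D₋} h'_σ/h_σ). -/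
theorem result {ι : Type u} [DecidableEq ι]
    (θ : ι → ℚ) (h h' : ι → ℕ) (hle : ∀ i, h' i ≤ h i) (hfin : {i | θ i < 0}.Finite)
    (hsum : Summable (fun i => (θ i : ℝ) * (h i : ℝ))) (D D' : Finset ι)
    (hDm : hfin.toFinset ⊆ D) (hDD' : D ⊆ D') (hsupp : ∀ i ∈ D', θ i ≠ 0) :
    (((∑ i ∈ D', (θ i : ℝ) * (h' i : ℝ)) + ((∑' i, if i ∈ D' then (0 : ℝ) else (θ i : ℝ) * (h i : ℝ)) / ((D' \ hfin.toFinset).card : ℝ)) * (∑ σ ∈ D' \ hfin.toFinset, ((h' σ : ℝ) / (h σ : ℝ)))) - ((∑ i ∈ D, (θ i : ℝ) * (h' i : ℝ)) + ((∑' i, if i ∈ D then (0 : ℝ) else (θ i : ℝ) * (h i : ℝ)) / ((D \ hfin.toFinset).card : ℝ)) * (∑ σ ∈ D \ hfin.toFinset, ((h' σ : ℝ) / (h σ : ℝ)))) =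
      ∑ τ ∈ D' \ D, ((θ τ : ℝ) * (h τ : ℝ) + (∑' i, if i ∈ D' then (0 : ℝ) else (θ i : ℝ) * (h i : ℝ)) / ((D' \ hfin.toFinset).card : ℝ)) *
        (((h' τ : ℝ) / (h τ : ℝ)) - (1 / ((D \ hfin.toFinset).card : ℝ)) * (∑ σ ∈ D \ hfin.toFinset, ((h' σ : ℝ) / (h σ : ℝ))))) ∧
    ((∑' i, (θ i : ℝ) * (h' i : ℝ)) - ((∑ i ∈ D, (θ i : ℝ) * (h' i : ℝ)) + ((∑' i, if i ∈ D then (0 : ℝ) else (θ i : ℝ) * (h i : ℝ)) / ((D \ hfin.toFinset).card : ℝ)) * (∑ σ ∈ D \ hfin.toFinset, ((h' σ : ℝ) / (h σ : ℝ)))) =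
      ∑' τ, if τ ∈ D then (0 : ℝ) else (θ τ : ℝ) * (h τ : ℝ) *
        (((h' τ : ℝ) / (h τ : ℝ)) - (1 / ((D \ hfin.toFinset).card : ℝ)) * (∑ σ ∈ D \ hfin.toFinset, ((h' σ : ℝ) / (h σ : ℝ))))) := by
  classical
  set F := hfin.toFinset with hF
  have hg : Summable (fun i => (θ i : ℝ) * (h' i : ℝ)) := by
    refine Summable.of_norm_bounded hsum.norm fun i => ?_
    rw [norm_mul, norm_mul]
    refine mul_le_mul_of_nonneg_left ?_ (norm_nonneg _)
    simpa using (Nat.cast_le (α := ℝ)).mpr (hle i)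
  have htail : ∀ (f : ι → ℝ), Summable f → ∀ E : Finset ι,
      (∑' i, if i ∈ E then (0 : ℝ) else f i) = (∑' i, f i) - ∑ i ∈ E, f i := by
    intro f hf E
    have hs : Summable (fun i => if i ∈ E then f i else 0) :=
      summable_of_ne_finset_zero (s := E) fun i hi => if_neg hi
    rw [show (∑ i ∈ E, f i) = ∑' i, if i ∈ E then f i else 0 by
        rw [tsum_eq_sum (s := E) fun i hi => if_neg hi]; exact Finset.sum_congr rfl fun i hi => (if_pos hi).symm,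
      ← hf.tsum_sub hs]
    exact tsum_congr fun i => by split_ifs <;> simp
  have hmul : ∀ i, (θ i : ℝ) * (h i : ℝ) * ((h' i : ℝ) / (h i : ℝ)) = (θ i : ℝ) * (h' i : ℝ) := by
    intro i
    by_cases hi : h i = 0
    · have := hle i
      simp [hi, show h' i = 0 by omega]
    · field_simp
  have hd : D' \ F = (D \ F) ∪ (D' \ D) := by
    ext i
    simp only [Finset.mem_sdiff, Finset.mem_union]
    constructor
    · rintro ⟨h1, h2⟩
      by_cases hi : i ∈ D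
      · exact Or.inl ⟨hi, h2⟩
      · exact Or.inr ⟨h1, hi⟩
    · rintro (⟨h1, h2⟩ | ⟨h1, h2⟩)
      · exact ⟨hDD' h1, h2⟩
      · exact ⟨h1, fun h => h2 (hDm h)⟩
  have hdisj : Disjoint (D \ F) (D' \ D) := Finset.disjoint_left.mpr fun i h1 h2 =>
    (Finset.mem_sdiff.mp h2).2 (Finset.mem_sdiff.mp h1).1
  set E := D' \ D with hE
  set R := ∑ σ ∈ D \ F, ((h' σ : ℝ) / (h σ : ℝ)) with hR
  set d := ((D \ F).card : ℝ) with hd'
  constructor
  · rw [hd, Finset.card_union_of_disjoint hdisj, Finset.sum_union hdisj, Nat.cast_add, ← hR, ← hd']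
    simp only [add_mul, mul_sub, hmul, Finset.sum_add_distrib, Finset.sum_sub_distrib, Finset.sum_const,
      nsmul_eq_mul, ← Finset.sum_mul, ← Finset.mul_sum]
    rw [← Finset.sum_sdiff hDD' (f := fun i => (θ i : ℝ) * (h' i : ℝ)), htail _ hsum D, htail _ hsum D',
      ← Finset.sum_sdiff hDD' (f := fun i => (θ i : ℝ) * (h i : ℝ))]
    set A := ∑' i, (θ i : ℝ) * (h i : ℝ)
    by_cases h0 : d = 0
    · have hR0 : R = 0 := by
        have : D \ F = ∅ := Finset.card_eq_zero.mp (by rw [hd'] at h0; exact_mod_cast h0)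
        simp [hR, this]
      simp [h0, hR0, hE]
      ring
    · have hd0 : d + (E.card : ℝ) ≠ 0 := by
        have : 0 < d := lt_of_le_of_ne (by positivity) (Ne.symm h0)
        positivity
      field_simp
      simp only [hE]
      ring
  · rw [htail _ hsum D]
    have hsplit : ∀ τ, (if τ ∈ D then (0 : ℝ) else (θ τ : ℝ) * (h τ : ℝ) *
        (((h' τ : ℝ) / (h τ : ℝ)) - (1 / d) * R)) =
        (if τ ∈ D then (0 : ℝ) else (θ τ : ℝ) * (h' τ : ℝ)) -
          ((1 / d) * R) * (if τ ∈ D then (0 : ℝ) else (θ τ : ℝ) * (h τ : ℝ)) := by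
      intro τ
      split_ifs
      · simp
      · rw [mul_sub, hmul]; ring
    rw [tsum_congr hsplit]
    have s1 : Summable (fun τ => if τ ∈ D then (0 : ℝ) else (θ τ : ℝ) * (h' τ : ℝ)) := by
      refine Summable.of_norm_bounded hg.norm fun i => ?_
      split_ifs <;> simp [abs_nonneg, mul_nonneg]
    have s2 : Summable (fun τ => if τ ∈ D then (0 : ℝ) else (θ τ : ℝ) * (h τ : ℝ)) := by
      refine Summable.of_norm_bounded hsum.norm fun i => ?_
      split_ifs <;> simp [abs_nonneg, mul_nonneg]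
    rw [s1.tsum_sub (s2.mul_left _), tsum_mul_left, htail _ hg D, htail _ hsum D]
    ring


end Groth.Agent.S19502
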