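import Groth.Statements.S19505
import Groth.Agent.OrdSurfB.Endo

set_option autoImplicit false
set_option linter.style.haveILetI false
set_option backward.isDefEq.respectTransparency false
universe u
open CategoryTheory CategoryTheory.Limits AlgebraicGeometry TopologicalSpace Opposite
open OrdSurf

namespace Groth.Agent.S19505

/-- Let k be an algebraically closed field of characteristic zero and X a smooth projective surface over
k (an integral k-scheme, smooth over k, of dimension two, admitting a closed immersion over k into
some projective space P^n_k), with generic point η. Let A be a sheaf of rings on X with a morphism φ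
: O_X → A of sheaves of rings with central image whose generic stalk A_η is a division ring (simple
as a left module over itself), and let M be a sheaf of A-modules whose underlying O_X-module is
coherent with torsion-free stalks and whose generic stalk M_η is a simple A_η-module. Then M is
simple in the sense that End_A(M) = k: every endomorphism ψ of the sheaf of A-modules M is
multiplication by a scalar c ∈ k, i.e. on every open U it acts on sections as multiplication by the
image of c in Γ(U, O_X) under the structure map, pushed into A by φ. (The published statement takes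
A to be an order on X and M a torsion-free A-module of rank one; only the hypotheses listed are
assumed here, the others playing no role in the argument.) -/
theorem result (k : Type u) [Field k] [IsAlgClosed k] [CharZero k]
    (X : Scheme.{u}) [X.Over (Spec (CommRingCat.of k))] [IsIntegral X]
    [Smooth (X ↘ Spec (CommRingCat.of k))] (hdim : topologicalKrullDim X = 2)
    (hproj : ∃ (n : ℕ) (ι : X ⟶ CohB1.ProjSpace n k), IsClosedImmersion ι ∧
      ι ≫ CohB1.ProjSpace.toSpec n k = X ↘ Spec (CommRingCat.of k))
    (A : Sheaf (Opens.grothendieckTopology X) RingCat.{u}) (φ : X.ringCatSheaf ⟶ A)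
    (hcen : ∀ (U : (Opens X)ᵒᵖ) (s : X.ringCatSheaf.obj.obj U) (a : A.obj.obj U),
      φ.hom.app U s * a = a * φ.hom.app U s)
    (hAη : IsSimpleModule (↑(TopCat.Presheaf.stalk (C := RingCat.{u}) (X := X.carrier) A.obj (genericPoint X))) (↑(TopCat.Presheaf.stalk (C := RingCat.{u}) (X := X.carrier) A.obj (genericPoint X))))
    (M : SheafOfModules.{u} A)
    (hMc : Coh.IsCoh (X := X) ((SheafOfModules.restrictScalars φ).obj M))
    (hMt : TorSh.IsTorsionFree (X := X) ((SheafOfModules.restrictScalars φ).obj M))
    (hMη : IsSimpleModule (↑(TopCat.Presheaf.stalk (C := RingCat.{u}) (X := X.carrier) A.obj (genericPoint X))) (↑(TopCat.Presheaf.stalk (C := Ab.{u}) (X := X.carrier) M.val.presheaf (genericPoint X))))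
    (ψ : M ⟶ M) :
    ∃ c : k, ∀ (U : (Opens X)ᵒᵖ) (m : M.val.obj U),
      (ψ.val.app U).hom m =
        φ.hom.app U ((X.presheaf.map (homOfLE (le_top (a := U.unop))).op)
          (((X ↘ Spec (CommRingCat.of k)).appTop).hom ((Scheme.ΓSpecIso (CommRingCat.of k)).inv.hom c))) • m := by
  obtain ⟨n, ι, hι, hι'⟩ := hproj
  haveI := hι
  haveI := Groth.Agent.ExtFund.isProper_of_closed ι hι'
  haveI := Groth.Agent.CurveRR.isNoetherian_of_proper k X
  obtain ⟨H, hH⟩ := Groth.Agent.SurfAdj.exists_ample k hdim
  let R := Groth.Agent.OrdSurfB.Res A φ M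
  haveI : Coh.IsQCoh R := hMc.1
  haveI : IsSimpleModule (Groth.Agent.OrdSurfB.AStalk A (genericPoint X)) (R.presheaf.stalk (genericPoint X)) := hMη
  have h0 : ¬ IsZero R := fun h => by
    haveI := IsSimpleModule.nontrivial (Groth.Agent.OrdSurfB.AStalk A (genericPoint X)) (R.presheaf.stalk (genericPoint X))
    obtain ⟨z, hz⟩ := exists_ne (0 : R.presheaf.stalk (genericPoint X))
    refine hz ?_
    obtain ⟨W, hW, a, rfl⟩ := R.presheaf.exists_germ_eq (x := genericPoint X) z
    show Groth.Agent.WeakAssLib.mgerm R hW a = 0
    rw [show a = 0 from congrArg (fun g : R ⟶ R => g.app W a) (h.eq_of_src (𝟙 R) 0), map_zero]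
  let ψ' : R ⟶ R := (SheafOfModules.restrictScalars φ).map ψ
  obtain ⟨c, hc⟩ := Groth.Agent.StabLib.Endo.exists_not_isIso k hMc h0 ψ'
  let sc := Groth.Agent.StabLib.Endo.sc R (Coh.toGlobal (X ↘ Spec (CommRingCat.of k)) c)
  have hz : ψ' = sc := by
    by_contra hne
    refine hc ?_
    haveI : Mono (ψ' - sc) := by
      refine Groth.Agent.OrdSurfB.mono_of_generic hMt hMt _ (sub_ne_zero.2 hne) ?_
      let f : R.presheaf.stalk (genericPoint X) →ₗ[Groth.Agent.OrdSurfB.AStalk A (genericPoint X)]
          R.presheaf.stalk (genericPoint X) :=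
        { toFun := Groth.Agent.WeakAssLib.stalkHom (ψ' - sc) (genericPoint X)
          map_add' := map_add _
          map_smul' := fun a z => by
            show RefHull.stalkMapₗ (ψ' - sc) _ (a • z) = a • RefHull.stalkMapₗ (ψ' - sc) _ z
            rw [Groth.Agent.StabLib.Endo.stalkMapₗ_sub, Groth.Agent.StabLib.Endo.stalkMapₗ_sub,
              Groth.Agent.StabLib.Endo.stalkMapₗ_sc, Groth.Agent.StabLib.Endo.stalkMapₗ_sc, smul_sub,
              Groth.Agent.OrdSurfB.smul_comm_alg A φ hcen]
            exact congrArg (· - _) (Groth.Agent.OrdSurfB.stalkHom_alg A φ ψ _ a z) }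
      rcases LinearMap.injective_or_eq_zero f with hf | hf
      · exact Or.inl hf
      · exact Or.inr fun z => LinearMap.congr_fun hf z
    exact Groth.Agent.OrdSurfB.isIso_of_mono_endo k hH hMc _
  refine ⟨c, fun U m => ?_⟩
  show ψ'.app U.unop m = _
  rw [hz]
  exact Groth.Agent.StabLib.Endo.sc_app R _ U.unop m

end Groth.Agent.S19505
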