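import Groth.Statements.S19507
import Groth.Agent.S11100
import Groth.Agent.RegLoc.Order
import Groth.Agent.S14588
import Groth.Agent.S1535

set_option autoImplicit false
universe u
open CategoryTheory MonoidalCategory CartesianMonoidalCategory MonObj GrpObj AlgebraicGeometry
open AlgGrp

namespace Groth.Agent.S19507

/-- (iv) ⇒ (i): let k be a field, G a k-group scheme of finite type and e ∈ G the identity point (the
image of the unit section Spec k → G). If the local ring of G at e is regular, then G is smooth over
k. (The corollary lists six equivalent conditions; (i) ⇒ (iv) is the standard fact that smooth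
schemes over a field have regular local rings, and the remaining conditions concern the base change
to an algebraic closure and the completed local ring.) -/
theorem result (k : Type u) [Field k]
    (G : Over (Spec (CommRingCat.of k))) [GrpObj G] [LocallyOfFiniteType G.hom] [QuasiCompact G.hom]
    (e : G.left) (he : e ∈ Set.range (η[G]).left.base)
    (hreg : IsRegularLocalRing (G.left.presheaf.stalk e)) : Smooth G.hom := by
  let g := Spec.map (CommRingCat.ofHom (algebraMap k (AlgebraicClosure k)))
  haveI : LocallyOfFinitePresentation G.hom := inferInstance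
  obtain ⟨pt, rfl⟩ := he
  have hu : η[G].left.base pt ∈ G.hom.smoothLocus := by
    have hs : η[G].left ≫ G.hom = 𝟙 _ := Over.w η[G]
    have hpt : pt = IsLocalRing.closedPoint k :=
      Subsingleton.elim (α := PrimeSpectrum k) _ _
    subst hpt
    exact Groth.Agent.S11100.rational_point G.hom η[G].left hs hreg
  refine Groth.Agent.S14588.result k G (IsLocalRing.closedPoint (AlgebraicClosure k)) ?_
  let x := η[Red.bc g G].left.base (IsLocalRing.closedPoint (AlgebraicClosure k))
  let U := G.hom.smoothLocus
  haveI : Smooth (U.ι ≫ G.hom) := by
    rw [← Scheme.Hom.smoothLocus_eq_top_iff, ← Scheme.Hom.preimage_smoothLocus_eq, eq_top_iff]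
    rintro y -
    exact y.2
  have hfst : (Limits.pullback.fst G.hom g).base x ∈ U := by
    have h1 : η[Red.bc g G].left ≫ Limits.pullback.fst G.hom g =
        ((Functor.LaxMonoidal.ε (Over.pullback g)).left ≫ Limits.pullback.fst (𝟙_ (Over (Spec (CommRingCat.of k)))).hom g) ≫ η[G].left := by
      rw [show η[Red.bc g G] = Functor.LaxMonoidal.ε (Over.pullback g) ≫ (Over.pullback g).map η[G] from rfl,
        Over.comp_left, Category.assoc, Category.assoc]
      congr 1
      exact Limits.pullback.lift_fst _ _ _
    have h2 : (Limits.pullback.fst G.hom g).base x = η[G].left.base pt := by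
      change (η[Red.bc g G].left ≫ Limits.pullback.fst G.hom g).base _ = _
      rw [h1]
      change η[G].left.base _ = _
      exact congrArg η[G].left.base (Subsingleton.elim (α := PrimeSpectrum k) _ _)
    rw [h2]; exact hu
  have key : _root_.IsReduced ((Limits.pullback G.hom g).presheaf.stalk x) := by
    let V := (Limits.pullback.fst G.hom g) ⁻¹ᵁ U
    have hx : x ∈ V := hfst
    haveI : Smooth (V.ι ≫ Limits.pullback.snd G.hom g) := by
      have e := (morphismRestrict_ι (Limits.pullback.fst G.hom g) U)
      have hp : IsPullback (Limits.pullback.fst G.hom g ∣_ U) (V.ι ≫ Limits.pullback.snd G.hom g) (U.ι ≫ G.hom) g :=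
        (isPullback_morphismRestrict (Limits.pullback.fst G.hom g) U).paste_vert (IsPullback.of_hasPullback G.hom g)
      exact MorphismProperty.of_isPullback hp inferInstance
    letI : (V.toScheme).Over (Spec (CommRingCat.of (AlgebraicClosure k))) := ⟨V.ι ≫ Limits.pullback.snd G.hom g⟩
    haveI : Smooth (V.toScheme ↘ Spec (CommRingCat.of (AlgebraicClosure k))) := ‹Smooth (V.ι ≫ _)›
    haveI := Groth.Agent.S1535.result (AlgebraicClosure k) V.toScheme ⟨x, hx⟩
    haveI : IsDomain (V.toScheme.presheaf.stalk ⟨x, hx⟩) := Groth.Agent.RegLoc.isDomain _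
    exact isReduced_of_injective ((V.stalkIso ⟨x, hx⟩).inv).hom
      (ConcreteCategory.bijective_of_isIso (V.stalkIso ⟨x, hx⟩).inv).1
  exact key

end Groth.Agent.S19507
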