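import Groth.Statements.S19508
import Groth.Agent.S3904
import Groth.Agent.Rigid.FibreTranslate
-- import your own Groth.Agent.* helpers here

set_option autoImplicit false
universe u
open CategoryTheory MonoidalCategory CartesianMonoidalCategory MonObj GrpObj AlgebraicGeometry
open AGF

set_option backward.isDefEq.respectTransparency false

namespace Groth.Agent.S19508

open Groth.Agent

/-- Let k be a field, G an affine, smooth, connected k-group scheme, P a smooth connected closed
k-subgroup scheme of G and X = G/P the quotient. Then X is proper over k if and only if, after base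
change to an algebraic closure of k (the geometric fibre over the point of Spec k), P contains a
Borel subgroup of G. (Over an algebraically closed field this is the usual characterisation of
parabolic subgroups; the point here is an arbitrary ground field.) -/
theorem result (k : Type u) [Field k]
    (G : Over (Spec (CommRingCat.of k))) [GrpObj G] [IsAffine G.left] [Smooth G.hom] [ConnectedSpace G.left]
    (P : Over (Spec (CommRingCat.of k))) [GrpObj P] (iP : P ⟶ G) [IsMonHom iP] (hcl : IsClosedImmersion iP.left)
    [Smooth P.hom] [ConnectedSpace P.left]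
    (X : Over (Spec (CommRingCat.of k))) (a : AlgGrp.Action G X) (o : 𝟙_ (Over (Spec (CommRingCat.of k))) ⟶ X)
    (hX : AGF.IsQuotient iP X a o) :
    IsProper X.hom ↔ Red.IsParabolic iP := by
  obtain ⟨hXft, hXf, hXs, hXpb⟩ := id hX
  haveI := hXft; haveI := hXf; haveI := hXs; haveI := hcl
  haveI : Subsingleton (Spec (CommRingCat.of k)) := inferInstanceAs (Subsingleton (PrimeSpectrum k))
  let s₀ : Spec (CommRingCat.of k) := IsLocalRing.closedPoint k
  let p := Red.geomPt s₀
  haveI : IsAffineHom G.hom := isAffineHom_of_isAffine _
  haveI : Surjective p := ⟨fun _ => ⟨IsLocalRing.closedPoint _, Subsingleton.elim (α := PrimeSpectrum k) _ _⟩⟩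
  haveI : Flat p := by
    rw [← Spec.map_preimage p, Flat.SpecMap_iff]
    letI := (Spec.preimage p).hom.toAlgebra
    exact RingHom.flat_algebraMap_iff.2 (inferInstanceAs (Module.Flat k _))
  let F := Over.pullback p
  haveI : Limits.PreservesLimitsOfShape Limits.WalkingCospan F :=
    (Adjunction.rightAdjoint_preservesLimits (Over.mapPullbackAdj p)).preservesLimitsOfShape
  haveI : IsAffineHom (Red.bc p G).hom := MorphismProperty.pullback_snd (P := @IsAffineHom) _ _ ‹IsAffineHom G.hom›
  haveI : IsAffine (Red.bc p G).left := isAffine_of_isAffineHom (Red.bc p G).hom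
  haveI : Smooth (Red.bc p G).hom := inferInstanceAs (Smooth (Limits.pullback.snd G.hom p))
  haveI : Smooth (Red.bc p P).hom := inferInstanceAs (Smooth (Limits.pullback.snd P.hom p))
  haveI : GeometricallyConnected G.hom := Rigid.geometricallyConnected_of_section G.hom (η[G]).left (Over.w η[G])
  haveI : ConnectedSpace (Red.bc p G).left :=
    GeometricallyConnected.geometrically_connectedSpace (f := G.hom) p (Limits.pullback.fst _ _) (Limits.pullback.snd _ _)
      (IsPullback.of_hasPullback _ _)
  have hclK : IsClosedImmersion (F.map iP).left := MorphismProperty.baseChange_map _ iP hcl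
  -- the base changed quotient
  let o' : 𝟙_ _ ⟶ Red.bc p X := Functor.LaxMonoidal.ε F ≫ F.map o
  have horb : (a.bc p).orbitMap o' = F.map (a.orbitMap o) := by
    rw [AlgGrp.Action.orbitMap, AlgGrp.Action.orbitMap, AlgGrp.Action.bc_act, F.map_comp, ← Category.assoc]
    congr 1
    rw [← Functor.Monoidal.lift_μ, F.map_id, F.map_comp]
    congr 2
    simp only [o', ← Category.assoc]
    congr 1
    exact (isTerminalTensorUnit.isTerminalObj F _).hom_ext _ _
  have hq : AGF.IsQuotient (F.map iP) (Red.bc p X) (a.bc p) o' := by
    refine ⟨inferInstanceAs (LocallyOfFiniteType (Limits.pullback.snd X.hom p)), ?_, ?_, ?_⟩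
    · rw [horb]; exact MorphismProperty.baseChange_map _ (a.orbitMap o) hXf
    · rw [horb]; exact MorphismProperty.baseChange_map _ (a.orbitMap o) hXs
    · rw [horb]
      refine (hXpb.map F).of_iso (asIso (Functor.LaxMonoidal.μ F G P)).symm (Iso.refl _) (Iso.refl _) (Iso.refl _)
        ?_ ?_ (by simp) (by simp)
      · rw [Iso.refl_hom, Category.comp_id, Iso.symm_hom, asIso_inv, IsIso.eq_inv_comp, Functor.Monoidal.μ_fst]
      · rw [Iso.refl_hom, Category.comp_id, Iso.symm_hom, asIso_inv, IsIso.eq_inv_comp, F.map_comp, ← Category.assoc,
          ← Functor.LaxMonoidal.μ_natural_right, Category.assoc]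
        rfl
  have key := S3904.result _ (Red.bc p G) (Red.bc p P) (F.map iP) hclK (Red.bc p X) (a.bc p) o' hq
  haveI : Surjective (Limits.pullback.fst X.hom p) := MorphismProperty.pullback_fst _ _ ‹Surjective p›
  constructor
  · intro hp
    refine ⟨inferInstance, hcl, inferInstance, fun s => ?_⟩
    obtain rfl : s = s₀ := Subsingleton.elim _ _
    exact key.1 (MorphismProperty.pullback_snd (P := @IsProper) X.hom p hp)
  · intro hP
    haveI : IsProper (Limits.pullback.snd X.hom p) := key.2 (hP.2.2.2 s₀)
    haveI : IsIntegralHom (Spec.map (CommRingCat.ofHom (algebraMap ((Spec (CommRingCat.of k)).residueField s₀)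
        (AlgebraicClosure ((Spec (CommRingCat.of k)).residueField s₀))))) := by
      rw [IsIntegralHom.SpecMap_iff]
      exact algebraMap_isIntegral_iff.mpr inferInstance
    haveI : IsIso ((Spec (CommRingCat.of k)).fromSpecResidueField s₀) := by
      haveI : s₀.asIdeal.IsMaximal := by
        rw [Ideal.eq_bot_of_prime s₀.asIdeal]
        exact Ideal.bot_isMaximal
      haveI : IsIso (CommRingCat.ofHom (algebraMap k s₀.asIdeal.ResidueField)) :=
        (ConcreteCategory.isIso_iff_bijective _).2
          ⟨RingHom.injective _, Ideal.algebraMap_residueField_surjective s₀.asIdeal⟩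
      rw [← Scheme.Spec.map_residueFieldIso_inv_eq_fromSpecResidueField]
      infer_instance
    haveI : IsIntegralHom p := inferInstanceAs (IsIntegralHom (_ ≫ _))
    haveI : UniversallyClosed (Limits.pullback.fst X.hom p ≫ X.hom) := by
      rw [Limits.pullback.condition]; infer_instance
    haveI : UniversallyClosed X.hom := .of_comp_surjective (Limits.pullback.fst X.hom p) _
    haveI : IsSeparated X.hom :=
      MorphismProperty.of_pullback_snd_of_descendsAlong (P := @IsSeparated) (Q := @Surjective ⊓ @Flat ⊓ @QuasiCompact)
        (f := X.hom) (g := p) ⟨⟨inferInstance, inferInstance⟩, inferInstance⟩ inferInstance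
    exact ⟨⟩

end Groth.Agent.S19508
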