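import Groth.Statements.S19509
import Groth.Agent.FieldPow.Main
import Groth.Agent.FibCrit.Props
import Groth.Agent.GrpField.FibreHom
-- import your own Groth.Agent.* helpers here

set_option autoImplicit false
universe u
open CategoryTheory MonoidalCategory CartesianMonoidalCategory MonObj GrpObj AlgebraicGeometry
open Neron
open CategoryTheory.Limits
set_option linter.style.haveILetI false
set_option backward.isDefEq.respectTransparency false

namespace Groth.Agent.S19509

/-- Let R be a complete discrete valuation ring whose fraction field K has characteristic zero and whose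
residue field k has characteristic p > 0, and let N be a commutative R-group scheme which is a Néron
model of its generic fibre, an abelian variety over K. Then the torsion of order prime to p of N(R)
= A(K) injects into the special fibre under reduction: a section x with x^n = 1, n ≥ 1 prime to p,
whose value at the closed point of Spec R is the identity point of the special fibre, is the unit
section. -/
theorem result (R : Type u) [CommRing R] [IsDomain R]
    [IsDiscreteValuationRing R] [IsAdicComplete (IsLocalRing.maximalIdeal R) R] (K : Type u) [Field K] [Algebra R K]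
    [IsFractionRing R K] [CharZero K] (p : ℕ) [Fact p.Prime] [CharP (IsLocalRing.ResidueField R) p]
    (N : Over (Spec (CommRingCat.of R))) [GrpObj N] [IsCommMonObj N] (hN : SGA7.IsNeron R K N)
    [IsProper ((SGA7.genFib R K).obj N).hom] [GeometricallyIntegral ((SGA7.genFib R K).obj N).hom]
    (x : 𝟙_ (Over (Spec (CommRingCat.of R))) ⟶ N) (n : ℕ) (hn : 0 < n) (hx : x ^ n = 1)
    (hred : x.left.base (IsLocalRing.closedPoint R) = (η[N]).left.base (IsLocalRing.closedPoint R))
    (hnp : Nat.Coprime n p) : x = 1 := by
  obtain ⟨hsm, -, -, -⟩ := hN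
  haveI := hsm
  have hloc : IsLocalRing R := inferInstance
  have hnu : IsUnit ((n : ℤ) : R) := by
    rw [Int.cast_natCast, ← IsLocalRing.notMem_maximalIdeal]
    intro h
    have h0 : ((n : ℕ) : IsLocalRing.ResidueField R) = 0 := by
      rw [← map_natCast (IsLocalRing.residue R)]
      exact Ideal.Quotient.eq_zero_iff_mem.2 h
    have hdvd : p ∣ n := (CharP.cast_eq_zero_iff (IsLocalRing.ResidueField R) p n).1 h0
    have := Nat.le_of_dvd one_pos (hnp ▸ Nat.dvd_gcd hdvd dvd_rfl)
    have := (Fact.out : p.Prime).one_lt
    omega
  let S := Spec (CommRingCat.of R)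
  open scoped CategoryTheory.Obj in
  haveI het : Etale (𝟙 N ^ (n : ℤ)).left := by
    refine Groth.Agent.FibCrit.etale_of_fibres (g := N.hom) (h := N.hom) (Over.w _) fun s => ?_
    let Xs := Groth.Agent.GrpField.fib N s
    letI : GrpObj Xs := Groth.Agent.GrpField.fibGrp N s
    haveI : LocallyOfFiniteType Xs.hom :=
      inferInstanceAs (LocallyOfFiniteType (pullback.snd N.hom (S.fromSpecResidueField s)))
    haveI : IsCommMonObj Xs := inferInstanceAs (IsCommMonObj ((Over.pullback (S.fromSpecResidueField s)).obj N))
    have hn' : ((n : ℤ) : S.residueField s) ≠ 0 := by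
      have h := (hnu.map (Scheme.ΓSpecIso (CommRingCat.of R)).inv.hom).map (S.presheaf.germ ⊤ s trivial ≫ S.residue s).hom
      rw [map_intCast, map_intCast] at h
      exact h.ne_zero
    have he := Groth.Agent.FieldPow.etale_pow Xs hn'
    have hmap : Groth.Agent.GrpField.fibHom (𝟙 N ^ (n : ℤ)) s = 𝟙 Xs ^ (n : ℤ) := by
      refine (map_zpow (Over.pullback (S.fromSpecResidueField s)).homMonoidHom (𝟙 N) (n : ℤ)).trans ?_
      exact congrArg (fun f => f ^ (n : ℤ)) ((Over.pullback (S.fromSpecResidueField s)).map_id N)
    have hsq := Groth.Agent.GrpField.isPullback_fibHom (𝟙 N ^ (n : ℤ)) s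
    rw [hmap] at hsq
    exact (MorphismProperty.cancel_left_of_respectsIso @Etale hsq.isoPullback.hom _).1
      (by erw [IsPullback.isoPullback_hom_snd]; exact he)
  set m := (𝟙 N ^ (n : ℤ)).left with hm
  let a : S ⟶ N.left := x.left
  let b : S ⟶ N.left := η[N].left
  have ha : a ≫ N.hom = 𝟙 _ := Over.w x
  have hb : b ≫ N.hom = 𝟙 _ := Over.w η[N]
  have hxm : x ≫ (𝟙 N ^ (n : ℤ)) = 1 := by
    rw [GrpObj.comp_zpow, Category.comp_id, zpow_natCast, hx]
  have h1 : (1 : 𝟙_ (Over S) ⟶ N) = η[N] := by
    rw [Hom.one_def, Subsingleton.elim (toUnit (𝟙_ (Over S))) (𝟙 _), Category.id_comp]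
  have hem : a ≫ m = b ≫ m := by
    have hη : η[N] ≫ (𝟙 N ^ (n : ℤ)) = 1 := by
      rw [GrpObj.comp_zpow, Category.comp_id, zpow_natCast, ← h1, one_pow]
    exact congrArg Over.Hom.left (hxm.trans hη.symm)
  let c : S := IsLocalRing.closedPoint R
  let l : S ⟶ pullback m m := pullback.lift a b hem
  have hl : l c ∈ Set.range (pullback.diagonal m) := by
    obtain ⟨w, hw1, hw2⟩ := Scheme.Pullback.exists_preimage_pullback (f := a) (g := b) c c hred
    have e12 : pullback.fst a b = pullback.snd a b := by
      have e := congrArg (fun g => g ≫ N.hom) (pullback.condition (f := a) (g := b))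
      simpa [Category.assoc, ha, hb] using e
    have e : pullback.fst a b ≫ l = (pullback.fst a b ≫ a) ≫ pullback.diagonal m := by
      ext
      · simp [l]
      · simp only [l, Category.assoc, pullback.lift_snd, pullback.diagonal_snd, Category.comp_id]
        conv_lhs => rw [e12]
        exact pullback.condition.symm
    refine ⟨(pullback.fst a b ≫ a) w, ?_⟩
    rw [← hw1, ← Scheme.Hom.comp_apply, ← Scheme.Hom.comp_apply, e]
  have hrange : Set.range l ⊆ Set.range (pullback.diagonal m) := by
    rintro _ ⟨s, rfl⟩
    exact ((IsLocalRing.specializes_closedPoint s).map l.continuous).mem_open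
      (pullback.diagonal m).isOpenEmbedding.isOpen_range hl
  have hfac := IsOpenImmersion.lift_fac (pullback.diagonal m) l hrange
  have hab : a = b := by
    have e1 : l ≫ pullback.fst m m = a := pullback.lift_fst _ _ _
    have e2 : l ≫ pullback.snd m m = b := pullback.lift_snd _ _ _
    rw [← e1, ← e2, ← hfac, Category.assoc, Category.assoc, pullback.diagonal_fst, pullback.diagonal_snd]
  rw [h1]
  exact Over.OverMorphism.ext hab

end Groth.Agent.S19509
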