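import Groth.Statements.S1951
import Groth.Agent.BivarOps.InterExt
-- import your own Groth.Agent.* helpers here

set_option autoImplicit false
set_option linter.style.haveILetI false
set_option backward.isDefEq.respectTransparency false
set_option maxHeartbeats 1000000
universe u
open CategoryTheory CategoryTheory.Limits AlgebraicGeometry
attribute [local instance] HasDerivedCategory.standard
open IntMult
open Groth.Agent

namespace Groth.Agent.S1951

/-- Let X, Y be nonsingular varieties over K of dimensions n, m, α an r-cycle on X and β an s-cycle on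
Y. Then pr_X^*α and pr_Y^*β (flat pullbacks to X ×_K Y, of relative dimensions m and n) intersect
properly on X ×_K Y and pr_X^*α · pr_Y^*β = α × β as (r + s)-cycles, coefficientwise. Here X is a
nonsingular variety over the algebraically closed field K (smooth, separated, quasi-compact,
integral) with dimension function δ (transcendence degree) and n = dim X; cycles are Mathlib
AlgebraicCycles with Cyc.Zk membership, proper intersection is IntMult.IntersectProperly and α · β
is the Tor-formula intersection product on coefficient functions (IntMult.interProd), bundled where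
needed as 'any cycle with these coefficients'. -/
theorem result (K : Type u) [Field K] [IsAlgClosed K] (X Y : Scheme.{u}) (f : X ⟶ Spec (CommRingCat.of K)) (g : Y ⟶ Spec (CommRingCat.of K)) [Smooth f] [IsSeparated f] [QuasiCompact f] [IsIntegral X] [Smooth g] [IsSeparated g] [QuasiCompact g] [IsIntegral Y] (δX : X → ℤ) (δY : Y → ℤ) (δ : ↥(pullback f g) → ℤ) (hX : Cyc.DeltaCompat f δX (fun _ => 0)) (hY : Cyc.DeltaCompat g δY (fun _ => 0)) (hXY : Cyc.DeltaCompat (pullback.fst f g ≫ f) δ (fun _ => 0)) (n m : ℕ) (hn : δX (genericPoint X) = n) (hm : δY (genericPoint Y) = m) (r s : ℤ) (α : AlgebraicCycle X ℤ) (β : AlgebraicCycle Y ℤ) (hα : α ∈ Cyc.Zk X δX r) (hβ : β ∈ Cyc.Zk Y δY s) : IntMult.IntersectProperly δ (n + m) (Cyc.pullFun (pullback.fst f g) δ δX m ⇑α) (Cyc.pullFun (pullback.snd f g) δ δY n ⇑β) ∧ IntMult.interProd δ (n + m) (Cyc.pullFun (pullback.fst f g) δ δX m ⇑α) (Cyc.pullFun (pullback.snd f g) δ δY n ⇑β) = IntMult.extProd f g δX δY δ ⇑α ⇑β := by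
  classical
  haveI := Groth.Agent.S1582.result K X Y f g
  have sX := BivarOps.setup_of_compat f hX
  have sY := BivarOps.setup_of_compat g hY
  have sP := BivarOps.setup_of_compat (pullback.fst f g ≫ f) hXY
  haveI := sX.1
  haveI := sY.1
  haveI := sP.1
  have hq₁ : Cyc.DeltaCompat (pullback.fst f g) δ δX := BivarOps.deltaCompat_of_comp rfl hX hXY
  have hne : ∀ {Z : Scheme.{u}} (q : pullback f g ⟶ Z) (δZ : Z → ℤ) (d : ℤ) (c : AlgebraicCycle Z ℤ) (k : ℤ),
      c ∈ Cyc.Zk Z δZ k → ∀ z, Cyc.pullFun q δ δZ d c z ≠ 0 → δ z = k + d ∧ δZ (q z) = k ∧ c (q z) ≠ 0 := by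
    intro Z q δZ d c k hc z h
    rw [Cyc.pullFun] at h
    split_ifs at h with hz
    · have h0 := left_ne_zero_of_mul h
      have hk : δZ (q z) = k := of_not_not fun hne => h0 (hc _ hne)
      exact ⟨by omega, hk, h0⟩
    · exact absurd rfl h
  have hmono : ∀ {Z : Scheme.{u}} {δZ : Z → ℤ}, Cyc.IsSetup Z δZ → ∀ {a b : Z}, a ⤳ b → δZ b ≤ δZ a := by
    intro Z δZ sZ a b h
    by_cases he : a = b
    · rw [he]
    · exact (sZ.2.2 a b h he).1.le
  refine ⟨fun ξ η ζ h1 h2 h3 h4 => ?_, funext fun ζ => ?_⟩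
  · obtain ⟨e1, e1', -⟩ := hne _ _ _ α r hα ξ h1
    obtain ⟨e2, e2', -⟩ := hne _ _ _ β s hβ η h2
    have := hmono sX (h3.map (pullback.fst f g).continuous)
    have := hmono sY (h4.map (pullback.snd f g).continuous)
    have := BivarOps.delta_le_sum f g hY hq₁ ζ
    omega
  by_cases hcase : δ ζ = r + s ∧ δX (pullback.fst f g ζ) = r ∧ δY (pullback.snd f g ζ) = s
  · obtain ⟨hd, hr, hs⟩ := hcase
    let i₁ : X → ℤ := fun x => if x = pullback.fst f g ζ then 1 else 0
    let i₂ : Y → ℤ := fun y => if y = pullback.snd f g ζ then 1 else 0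
    have key : ∀ {Z : Scheme.{u}} (q : pullback f g ⟶ Z) (δZ : Z → ℤ), Cyc.IsSetup Z δZ → ∀ (d : ℤ)
        (c : AlgebraicCycle Z ℤ) (k : ℤ), c ∈ Cyc.Zk Z δZ k → δZ (q ζ) = k → ∀ z, z ⤳ ζ →
        Cyc.pullFun q δ δZ d c z = c (q ζ) * Cyc.pullFun q δ δZ d (fun x => if x = q ζ then 1 else 0) z := by
      intro Z q δZ sZ d c k hc hk z hz
      simp only [Cyc.pullFun]
      split_ifs with h1 h2
      · rw [congrArg (⇑c) h2]; ring
      · have : c (q z) = 0 := hc _ fun hzk => h2 (CycDim.eq_of_delta_le sZ.2.2 (hz.map q.continuous) (by omega))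
        rw [this]; ring
      · ring
    have hfin : ∀ {Z : Scheme.{u}} (q : pullback f g ⟶ Z) [Flat q] [LocallyOfFiniteType q] (δZ : Z → ℤ) (d : ℕ),
        Cyc.IsSetup Z δZ → Cyc.DeltaCompat q δ δZ → Cyc.HasRelDim q d →
        {ξ | ξ ⤳ ζ ∧ Cyc.pullFun q δ δZ d (fun w => if w = q ζ then 1 else 0) ξ ≠ 0}.Finite := by
      intro Z q _ _ δZ d sZ hq hr
      haveI := sZ.1
      obtain ⟨F, hF, -, hFd, hFv⟩ := BivarOps.exists_pointSheaf sZ (q ζ)
      have hval : (fun w => if w = q ζ then (1 : ℤ) else 0) = Cyc.sheafFun δZ (δZ (q ζ)) F :=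
        funext fun w => (hFv w).symm
      obtain ⟨hd', heq⟩ := Groth.Agent.S1897.result _ Z δ δZ sP sZ q d hr hq _ F hF hFd
      obtain ⟨S, hS, -⟩ := BivarOps.exists_top_primes sP.2.2 (QC.isCoh_pullback q hF) (δZ (q ζ) + d) hd' ζ
      refine (S.finite_toSet.image ((pullback f g).fromSpecStalk ζ)).subset fun ξ hξ => ?_
      refine ⟨_, (hS ξ hξ.1).2 ?_, BivarOps.fromSpecStalk_genPrime hξ.1⟩
      have h2 := hξ.2
      rw [hval, heq, Cyc.sheafFun] at h2
      split_ifs at h2 with hk
      · refine ⟨not_subsingleton_iff_nontrivial.1 fun hsub => h2 ?_, hk⟩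
        rw [Module.length_eq_zero, ENat.toNat_zero, Nat.cast_zero]
      · exact absurd rfl h2
    have hq₂ : Cyc.DeltaCompat (pullback.snd f g) δ δY := by
      refine BivarOps.deltaCompat_of_comp rfl hY ?_
      rw [← pullback.condition]
      exact hXY
    have hr₁ : Cyc.HasRelDim (pullback.fst f g) m :=
      (Groth.Agent.S9358.result g f (pullback.snd f g) (pullback.fst f g) (IsPullback.of_hasPullback f g).flip m).2.2
        (BivarOps.hasRelDim_struct g hY m hm)
    have hr₂ : Cyc.HasRelDim (pullback.snd f g) n :=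
      (Groth.Agent.S9358.result f g (pullback.fst f g) (pullback.snd f g) (IsPullback.of_hasPullback f g) n).2.2
        (BivarOps.hasRelDim_struct f hX n hn)
    rw [BivarOps.interProd_sum ζ ({()} : Finset Unit) ({()} : Finset Unit) (fun _ => α (pullback.fst f g ζ))
      (fun _ => β (pullback.snd f g ζ)) (fun _ => Cyc.pullFun (pullback.fst f g) δ δX m i₁)
      (fun _ => Cyc.pullFun (pullback.snd f g) δ δY n i₂) _ _
      (fun ξ hξ => by simp [key (pullback.fst f g) δX sX m α r hα hr ξ hξ, i₁])
      (fun η hη => by simp [key (pullback.snd f g) δY sY n β s hβ hs η hη, i₂]) ?_ ?_]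
    · rw [Finset.sum_singleton, Finset.sum_singleton, BivarOps.interProd_ext_point K f g hX hY hXY n m hn hm ζ
        (by omega) i₁ i₂ (fun _ => rfl) (fun _ => rfl), IntMult.extProd, if_pos (by omega)]
    · intro _ _
      exact hfin (pullback.fst f g) δX m sX hq₁ hr₁
    · intro _ _
      exact hfin (pullback.snd f g) δY n sY hq₂ hr₂
  · rw [IntMult.interProd, IntMult.extProd]
    rw [finsum_eq_zero_of_forall_eq_zero ?_]
    · split_ifs with hd
      · by_contra h0
        have h := left_ne_zero_of_mul (Ne.symm h0)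
        refine hcase ⟨?_, of_not_not fun hk => left_ne_zero_of_mul h (hα _ hk),
          of_not_not fun hk => right_ne_zero_of_mul h (hβ _ hk)⟩
        have := of_not_not fun hk => left_ne_zero_of_mul h (hα _ hk)
        have := of_not_not fun hk => right_ne_zero_of_mul h (hβ _ hk)
        omega
      · rfl
    · intro p
      by_contra hp
      obtain ⟨e1, e1', -⟩ := hne _ _ _ α r hα _ (left_ne_zero_of_mul (left_ne_zero_of_mul hp))
      obtain ⟨e2, e2', -⟩ := hne _ _ _ β s hβ _ (right_ne_zero_of_mul (left_ne_zero_of_mul hp))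
      have := hmono sX (p.2.1.map (pullback.fst f g).continuous)
      have := hmono sY (p.2.2.1.map (pullback.snd f g).continuous)
      have := BivarOps.delta_le_sum f g hY hq₁ ζ
      have := p.2.2.2
      exact hcase ⟨by omega, by omega, by omega⟩

end Groth.Agent.S1951
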