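import Groth.Statements.S19510
import Groth.Agent.NeronTors.Main
import Groth.Agent.S19509

set_option autoImplicit false
universe u
open CategoryTheory MonoidalCategory CartesianMonoidalCategory MonObj GrpObj AlgebraicGeometry
open Neron

namespace Groth.Agent.S19510

/-- Let R be a complete discrete valuation ring whose fraction field K has characteristic zero and whose
residue field has characteristic p > 0, with absolute ramification small in the sense that v(p) < p
− 1 for the normalised valuation, i.e. p does not lie in the (p − 1)-st power of the maximal ideal.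
Let N be a commutative R-group scheme which is a Néron model of its generic fibre, an abelian
variety over K. Then all torsion of N(R) = A(K) injects into the special fibre under reduction: a
section x with x^n = 1 for some n ≥ 1 whose value at the closed point is the identity point is the
unit section. -/
theorem result (R : Type u) [CommRing R] [IsDomain R]
    [IsDiscreteValuationRing R] [IsAdicComplete (IsLocalRing.maximalIdeal R) R] (K : Type u) [Field K] [Algebra R K]
    [IsFractionRing R K] [CharZero K] (p : ℕ) [Fact p.Prime] [CharP (IsLocalRing.ResidueField R) p]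
    (N : Over (Spec (CommRingCat.of R))) [GrpObj N] [IsCommMonObj N] (hN : SGA7.IsNeron R K N)
    [IsProper ((SGA7.genFib R K).obj N).hom] [GeometricallyIntegral ((SGA7.genFib R K).obj N).hom]
    (x : 𝟙_ (Over (Spec (CommRingCat.of R))) ⟶ N) (n : ℕ) (hn : 0 < n) (hx : x ^ n = 1)
    (hred : x.left.base (IsLocalRing.closedPoint R) = (η[N]).left.base (IsLocalRing.closedPoint R))
    (hv : (p : R) ∉ IsLocalRing.maximalIdeal R ^ (p - 1)) : x = 1 := by
  have hp : p.Prime := Fact.out
  obtain ⟨a, m, hm, rfl⟩ := Nat.exists_eq_pow_mul_and_not_dvd hn.ne' p hp.ne_one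
  let c : (Spec (CommRingCat.of R)) := IsLocalRing.closedPoint R
  have hη : (η[N] : 𝟙_ (Over (Spec (CommRingCat.of R))) ⟶ N) = 1 := by
    rw [Hom.one_def, Subsingleton.elim (toUnit (𝟙_ (Over (Spec (CommRingCat.of R))))) (𝟙 _), Category.id_comp]
  clear hn
  induction a generalizing x with
  | zero =>
    rw [pow_zero, _root_.one_mul] at hx
    exact Groth.Agent.S19509.result R K p N hN x m (Nat.pos_of_ne_zero fun h => hm (h ▸ dvd_zero p)) hx hred
      ((Nat.Prime.coprime_iff_not_dvd hp).2 hm).symm
  | succ a ih =>
    -- the power `x ^ p` still reduces to the unit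
    have hred' : (x ^ p).left.base c = (η[N]).left.base c := by
      have hw : x.left ≫ N.hom = 𝟙 _ := Over.w x
      have hw' : η[N].left ≫ N.hom = 𝟙 _ := Over.w η[N]
      obtain ⟨T, t, w, htw, heq⟩ := Groth.Agent.NeronTors.section_agree N.hom x.left η[N].left hw hw' c hred
      let j : Over.mk t ⟶ 𝟙_ (Over (Spec (CommRingCat.of R))) := Over.homMk t (Category.comp_id _)
      have hpow : j ≫ x ^ p = j ≫ η[N] := by
        rw [MonObj.comp_pow, show j ≫ x = j ≫ η[N] from Over.OverMorphism.ext heq, hη, MonObj.comp_one, one_pow]
      have := congrArg (fun f : Over.mk t ⟶ N => f.left.base w) hpow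
      simpa [j, htw] using this
    have hxp : x ^ p = 1 := ih (x ^ p) hred' (by rw [← pow_mul, ← _root_.mul_assoc, ← pow_succ']; exact hx)
    exact Groth.Agent.NeronTors.eq_one_of_pow_prime p hp hv x hxp hred

end Groth.Agent.S19510
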