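import Groth.Statements.S19512
import Mathlib

set_option autoImplicit false
universe u
open CategoryTheory CategoryTheory.Limits AlgebraicGeometry
open Variety

set_option backward.isDefEq.respectTransparency false
namespace Groth.Agent.S19512

/-- Let k be a field and f : X → Y a k-morphism between proper k-schemes which is a fibration, i.e. O_Y
→ f_*O_X is an isomorphism (Γ(V, O_Y) → Γ(f⁻¹V, O_X) bijective for every open V ⊆ Y). If X is
integral, then Y is integral. (The second assertion of (ii), generic flatness of f, is quoted from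
the literature and not stated.) -/
theorem result (k : Type u) [Field k] (X Y : Scheme.{u})
    [X.Over (Spec (CommRingCat.of k))] [Y.Over (Spec (CommRingCat.of k))] [IsProper (X ↘ Spec (CommRingCat.of k))] [IsProper (Y ↘ Spec (CommRingCat.of k))]
    (f : X ⟶ Y) (hf : f ≫ (Y ↘ Spec (CommRingCat.of k)) = X ↘ Spec (CommRingCat.of k)) (hfib : ∀ V : Y.Opens, IsIso (f.app V))
    [AlgebraicGeometry.IsIntegral X] : AlgebraicGeometry.IsIntegral Y := by
  haveI : Nonempty Y := ⟨f (Classical.arbitrary X)⟩
  refine ⟨inferInstance, fun U hU => ?_⟩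
  haveI : Nonempty (f ⁻¹ᵁ U) := by
    by_contra hne
    have h0 : f ⁻¹ᵁ U = ⊥ := eq_bot_iff.2 fun x hx => hne ⟨⟨x, hx⟩⟩
    haveI : Subsingleton Γ(X, f ⁻¹ᵁ U) := by
      rw [h0]
      exact CommRingCat.subsingleton_of_isTerminal X.sheaf.isTerminalOfEmpty
    haveI := hfib U
    haveI : Subsingleton Γ(Y, U) := (asIso (f.app U)).commRingCatIsoToRingEquiv.toEquiv.subsingleton
    obtain ⟨y⟩ := hU
    exact not_subsingleton (Y.presheaf.stalk y.1) (subsingleton_of_zero_eq_one (by
      have e : (0 : Γ(Y, U)) = 1 := Subsingleton.elim _ _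
      simpa using congrArg (Y.presheaf.germ U y.1 y.2) e))
  haveI := hfib U
  exact (asIso (f.app U)).commRingCatIsoToRingEquiv.toMulEquiv.isDomain _

end Groth.Agent.S19512
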