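import Groth.Statements.S19514
import Mathlib

set_option autoImplicit false
universe u
open CategoryTheory CategoryTheory.Limits AlgebraicGeometry
open Variety

namespace Groth.Agent.S19514

/-- Fibrations pull back along flat affine morphisms, on preimages of affine opens. -/
theorem app_iso {X Y X' Y' : Scheme.{u}} {f : X ⟶ Y} {f' : X' ⟶ Y'} {g : X' ⟶ X} {π : Y' ⟶ Y}
    (H : IsPullback g f' f π) [Flat π] [IsAffineHom π] [QuasiCompact f] [QuasiSeparated f]
    (U : Y.Opens) (hU : IsAffineOpen U) [IsIso (f.app U)] : IsIso (f'.app (π ⁻¹ᵁ U)) := by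
  have hUY : f' ⁻¹ᵁ π ⁻¹ᵁ U = g ⁻¹ᵁ f ⁻¹ᵁ U ⊓ f' ⁻¹ᵁ π ⁻¹ᵁ U := by
    refine (inf_eq_right.2 ?_).symm
    rw [← Scheme.Hom.comp_preimage, ← Scheme.Hom.comp_preimage, H.w]
  have h := isIso_pushoutSection_of_isQuasiSeparated_of_flat_right H (US := U) (UT := π ⁻¹ᵁ U) (UX := f ⁻¹ᵁ U)
    (UY := f' ⁻¹ᵁ π ⁻¹ᵁ U) le_rfl le_rfl hUY hU (hU.preimage π) (f.isCompact_preimage hU.isCompact)
    (f.isQuasiSeparated_preimage hU.isQuasiSeparated)
  rw [isIso_pushoutSection_iff] at h
  haveI : IsIso (f.appLE U (f ⁻¹ᵁ U) le_rfl) := by rw [← Scheme.Hom.app_eq_appLE]; infer_instance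
  have h2 := h.isIso_inr_of_isIso
  rw [Scheme.Hom.app_eq_appLE]
  exact h2

/-- An affine-locally bijective image of an integral scheme under a closed map is integral. -/
theorem isIntegral_of_app {X Y : Scheme.{u}} [IsIntegral X] (f : X ⟶ Y) (hcl : IsClosedMap f.base)
    (hf : ∀ y : Y, ∃ V : Y.Opens, IsAffineOpen V ∧ y ∈ V ∧ IsIso (f.app V)) : IsIntegral Y := by
  haveI : IsReduced Y := by
    haveI : ∀ y : Y, _root_.IsReduced (Y.presheaf.stalk y) := fun y => by
      obtain ⟨V, hV, hyV, hi⟩ := hf y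
      haveI := hi
      haveI : _root_.IsReduced Γ(Y, V) := isReduced_of_injective (f.app V).hom
        ((ConcreteCategory.isIso_iff_bijective (f.app V)).1 hi).1
      letI : Algebra Γ(Y, V) (Y.presheaf.stalk y) := TopCat.Presheaf.algebra_section_stalk Y.presheaf ⟨y, hyV⟩
      haveI := hV.isLocalization_stalk ⟨y, hyV⟩
      exact isReduced_localizationPreserves (hV.primeIdealOf ⟨y, hyV⟩).asIdeal.primeCompl _ inferInstance
    exact isReduced_of_isReduced_stalk Y
  have hsurj : Function.Surjective f.base := fun y => by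
    by_contra hy
    obtain ⟨V, hV, hyV, hi⟩ := hf y
    have hmem : y ∈ V ⊓ ⟨(Set.range f.base)ᶜ, hcl.isClosed_range.isOpen_compl⟩ := ⟨hyV, fun h => hy h⟩
    obtain ⟨g, hle, hyg⟩ := hV.exists_basicOpen_le ⟨y, hmem⟩ hyV
    have h1 : X.basicOpen (f.app V g) = ⊥ := by
      rw [← Scheme.preimage_basicOpen]
      refine TopologicalSpace.Opens.ext (Set.eq_empty_iff_forall_notMem.2 fun x hx => ?_)
      exact (hle hx).2 ⟨x, rfl⟩
    have h2 : f.app V g = 0 := eq_zero_of_basicOpen_eq_bot _ h1
    have h3 : g = 0 := ((ConcreteCategory.isIso_iff_bijective (f.app V)).1 hi).1 (h2.trans (map_zero _).symm)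
    rw [h3, Scheme.basicOpen_zero] at hyg
    exact hyg
  haveI : IrreducibleSpace Y :=
    { toPreirreducibleSpace := ⟨by
        have h := (IrreducibleSpace.isIrreducible_univ X).image f.base f.continuous.continuousOn
        rw [Set.image_univ, hsurj.range_eq] at h
        exact h.2⟩
      toNonempty := ⟨f (Classical.arbitrary X)⟩ }
  exact isIntegral_of_irreducibleSpace_of_isReduced Y


/-- Let k be a field and f : X → Y a k-morphism between proper k-schemes which is a fibration, i.e. O_Y
→ f_*O_X is an isomorphism (Γ(V, O_Y) → Γ(f⁻¹V, O_X) bijective for every open V ⊆ Y). If X is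
geometrically integral over k, then so is Y. (The assertion of (iii) for geometric normality is not
stated here.) -/
theorem result (k : Type u) [Field k] (X Y : Scheme.{u})
    [X.Over (Spec (CommRingCat.of k))] [Y.Over (Spec (CommRingCat.of k))] [IsProper (X ↘ Spec (CommRingCat.of k))] [IsProper (Y ↘ Spec (CommRingCat.of k))]
    (f : X ⟶ Y) (hf : f ≫ (Y ↘ Spec (CommRingCat.of k)) = X ↘ Spec (CommRingCat.of k)) (hfib : ∀ V : Y.Opens, IsIso (f.app V))
    [GeometricallyIntegral (X ↘ Spec (CommRingCat.of k))] : GeometricallyIntegral (Y ↘ Spec (CommRingCat.of k)) := by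
  let p := X ↘ Spec (CommRingCat.of k)
  let q := Y ↘ Spec (CommRingCat.of k)
  refine ⟨fun K _ b Z fst snd h => ?_⟩
  suffices IsIntegral (pullback q b) by
    haveI : Nonempty Z := ⟨h.isoPullback.inv (Classical.arbitrary _)⟩
    exact isIntegral_of_isOpenImmersion h.isoPullback.hom
  haveI : IsIntegral (pullback p b) := pullback_of_geometrically GeometricallyIntegral.geometrically_isIntegral K b
  let fK : pullback p b ⟶ pullback q b := pullback.lift (pullback.fst p b ≫ f) (pullback.snd p b)
    (by rw [Category.assoc, hf]; exact pullback.condition)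
  have H : IsPullback (pullback.fst p b) fK f (pullback.fst q b) := by
    have hbig : IsPullback (fK ≫ pullback.snd q b) (pullback.fst p b) b (f ≫ q) := by
      rw [pullback.lift_snd, hf]; exact (IsPullback.of_hasPullback p b).flip
    exact (IsPullback.of_right hbig (pullback.lift_fst _ _ _) (IsPullback.of_hasPullback q b).flip).flip
  haveI : Flat b := by
    obtain ⟨φ, rfl⟩ : ∃ φ, Spec.map φ = b := ⟨_, Spec.map_preimage b⟩
    rw [HasRingHomProperty.Spec_iff (P := @Flat)]
    letI : Algebra k K := φ.hom.toAlgebra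
    exact RingHom.flat_algebraMap_iff.mpr (inferInstanceAs (Module.Flat k K))
  haveI : Flat (pullback.fst q b) := MorphismProperty.pullback_fst _ _ inferInstance
  haveI : IsAffineHom b := inferInstance
  haveI : IsAffineHom (pullback.fst q b) := MorphismProperty.pullback_fst _ _ inferInstance
  haveI : IsProper (f ≫ q) := by rw [hf]; infer_instance
  haveI : IsProper f := IsProper.of_comp f q
  haveI : IsProper fK := MorphismProperty.of_isPullback H ‹_›
  refine isIntegral_of_app fK fK.isClosedMap fun y => ?_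
  obtain ⟨U, hU, hyU, -⟩ := exists_isAffineOpen_mem_and_subset (U := (⊤ : Y.Opens)) (x := pullback.fst q b y) trivial
  haveI := hfib U
  exact ⟨_, hU.preimage (pullback.fst q b), hyU, app_iso H U hU⟩

end Groth.Agent.S19514
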