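import Groth.Statements.S19515
import Groth.Agent.NormalScheme.Sections
import Mathlib

set_option autoImplicit false
universe u
open CategoryTheory CategoryTheory.Limits AlgebraicGeometry
open Variety

namespace Groth.Agent.S19515

/-- Fibrations pull back along flat affine morphisms, on preimages of affine opens. -/
theorem app_iso {X Y X' Y' : Scheme.{u}} {f : X ⟶ Y} {f' : X' ⟶ Y'} {g : X' ⟶ X} {π : Y' ⟶ Y}
    (H : IsPullback g f' f π) [Flat π] [IsAffineHom π] [QuasiCompact f] [QuasiSeparated f]
    (U : Y.Opens) (hU : IsAffineOpen U) [IsIso (f.app U)] : IsIso (f'.app (π ⁻¹ᵁ U)) := by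
  have hUY : f' ⁻¹ᵁ π ⁻¹ᵁ U = g ⁻¹ᵁ f ⁻¹ᵁ U ⊓ f' ⁻¹ᵁ π ⁻¹ᵁ U := by
    refine (inf_eq_right.2 ?_).symm
    rw [← Scheme.Hom.comp_preimage, ← Scheme.Hom.comp_preimage, H.w]
  have h := isIso_pushoutSection_of_isQuasiSeparated_of_flat_right H (US := U) (UT := π ⁻¹ᵁ U) (UX := f ⁻¹ᵁ U)
    (UY := f' ⁻¹ᵁ π ⁻¹ᵁ U) le_rfl le_rfl hUY hU (hU.preimage π) (f.isCompact_preimage hU.isCompact)
    (f.isQuasiSeparated_preimage hU.isQuasiSeparated)
  rw [isIso_pushoutSection_iff] at h
  haveI : IsIso (f.appLE U (f ⁻¹ᵁ U) le_rfl) := by rw [← Scheme.Hom.app_eq_appLE]; infer_instance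
  have h2 := h.isIso_inr_of_isIso
  rw [Scheme.Hom.app_eq_appLE]
  exact h2

/-- Let k be a field and f : X → Y a k-morphism between proper k-schemes which is a fibration, i.e. O_Y
→ f_*O_X is an isomorphism (Γ(V, O_Y) → Γ(f⁻¹V, O_X) bijective for every open V ⊆ Y). If X is
geometrically normal, i.e. its base change to every algebraic closure of k has all local rings
integrally closed domains, then Y is geometrically normal in the same sense. -/
theorem result (k : Type u) [Field k] (X Y : Scheme.{u})
    [X.Over (Spec (CommRingCat.of k))] [Y.Over (Spec (CommRingCat.of k))] [IsProper (X ↘ Spec (CommRingCat.of k))] [IsProper (Y ↘ Spec (CommRingCat.of k))]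
    (f : X ⟶ Y) (hf : f ≫ (Y ↘ Spec (CommRingCat.of k)) = X ↘ Spec (CommRingCat.of k)) (hfib : ∀ V : Y.Opens, IsIso (f.app V))
    (hX : ∀ (K : Type u) [Field K] [Algebra k K] [IsAlgClosure k K],
      Pi1.IsNormalScheme (pullback (X ↘ Spec (CommRingCat.of k)) (Spec.map (CommRingCat.ofHom (algebraMap k K)))))
    (K : Type u) [Field K] [Algebra k K] [IsAlgClosure k K] :
    Pi1.IsNormalScheme (pullback (Y ↘ Spec (CommRingCat.of k)) (Spec.map (CommRingCat.ofHom (algebraMap k K)))) := by
  let b := Spec.map (CommRingCat.ofHom (algebraMap k K))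
  let p := X ↘ Spec (CommRingCat.of k)
  let q := Y ↘ Spec (CommRingCat.of k)
  let fK : pullback p b ⟶ pullback q b := pullback.lift (pullback.fst p b ≫ f) (pullback.snd p b)
    (by rw [Category.assoc, hf]; exact pullback.condition)
  have H : IsPullback (pullback.fst p b) fK f (pullback.fst q b) := by
    have hbig : IsPullback (fK ≫ pullback.snd q b) (pullback.fst p b) b (f ≫ q) := by
      rw [pullback.lift_snd, hf]; exact (IsPullback.of_hasPullback p b).flip
    exact (IsPullback.of_right hbig (pullback.lift_fst _ _ _) (IsPullback.of_hasPullback q b).flip).flip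
  haveI : Flat b := by
    rw [HasRingHomProperty.Spec_iff (P := @Flat)]
    exact RingHom.flat_algebraMap_iff.mpr inferInstance
  haveI : Flat (pullback.fst q b) := MorphismProperty.pullback_fst _ _ inferInstance
  haveI : IsAffineHom b := inferInstance
  haveI : IsAffineHom (pullback.fst q b) := MorphismProperty.pullback_fst _ _ inferInstance
  haveI : IsProper (f ≫ q) := by rw [hf]; infer_instance
  haveI : IsProper f := IsProper.of_comp f q
  haveI : IsLocallyNoetherian (pullback p b) := LocallyOfFiniteType.isLocallyNoetherian (pullback.snd p b)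
  haveI : CompactSpace (pullback p b : Scheme.{u}) := QuasiCompact.compactSpace_of_compactSpace (pullback.snd p b)
  haveI : IsNoetherian (pullback p b) := ⟨⟩
  refine NormalScheme.isNormalScheme_of_app_iso fK (fun y => ?_) (hX K)
  obtain ⟨U, hU, hyU, -⟩ := exists_isAffineOpen_mem_and_subset (U := (⊤ : Y.Opens)) (x := pullback.fst q b y) trivial
  haveI := hfib U
  exact ⟨_, hU.preimage (pullback.fst q b), hyU, app_iso H U hU⟩

end Groth.Agent.S19515
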