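import Groth.Statements.S19518
import Groth.Agent.SolvPart.Main
-- import your own Groth.Agent.* helpers here

set_option backward.isDefEq.respectTransparency false
set_option linter.style.haveILetI false
set_option synthInstance.maxHeartbeats 400000
set_option maxHeartbeats 1000000

set_option autoImplicit false
universe u
open CategoryTheory CategoryTheory.Limits MonoidalCategory CartesianMonoidalCategory MonObj GrpObj AlgebraicGeometry
open AlgGrp

namespace Groth.Agent.S19518

/-- Over an algebraically closed field k let e → K → G → Q → e be an exact sequence of k-group schemes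
of finite type with G smooth and affine (i : K → G a closed subgroup scheme which is the kernel of
the flat surjective homomorphism π : G → Q), and let G_solv ⊆ G and Q_solv ⊆ Q be the largest smooth
connected solvable normal closed subgroup schemes. Then π maps G_solv into Q_solv and the induced
homomorphism G_solv → Q_solv is surjective. (The published proposition is stated for arbitrary
algebraic groups; G is taken smooth, as the argument requires, and affine, the setting in which the
solvable part is considered.) -/
theorem result (k : Type u) [Field k] [IsAlgClosed k]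
    (K G Q : Over (Spec (CommRingCat.of k))) [GrpObj K] [GrpObj G] [GrpObj Q]
    [QuasiCompact K.hom] [LocallyOfFiniteType K.hom] [Smooth G.hom] [QuasiCompact G.hom] [IsAffine G.left]
    [QuasiCompact Q.hom] [LocallyOfFiniteType Q.hom]
    (i : K ⟶ G) [IsMonHom i] [IsClosedImmersion i.left]
    (π : G ⟶ Q) [IsMonHom π] [Flat π.left] [Surjective π.left] (hker : AlgGrp.IsKernel i π)
    (NG : Over (Spec (CommRingCat.of k))) [GrpObj NG] (iG : NG ⟶ G) [IsMonHom iG] [IsClosedImmersion iG.left]
    [Smooth NG.hom] [ConnectedSpace ↥NG.left] (hNGs : Red.IsSolvableGrp NG) (hNG : AlgGrp.IsNormalHom iG)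
    (hNGmax : (∀ (N' : Over (Spec (CommRingCat.of k))) [GrpObj N'] (i' : N' ⟶ G) [IsMonHom i'] [IsClosedImmersion i'.left]
      [Smooth N'.hom] [ConnectedSpace ↥N'.left], Red.IsSolvableGrp N' → AlgGrp.IsNormalHom i' → ∃ f : N' ⟶ NG, f ≫ iG = i'))
    (NQ : Over (Spec (CommRingCat.of k))) [GrpObj NQ] (iQ : NQ ⟶ Q) [IsMonHom iQ] [IsClosedImmersion iQ.left]
    [Smooth NQ.hom] [ConnectedSpace ↥NQ.left] (hNQs : Red.IsSolvableGrp NQ) (hNQ : AlgGrp.IsNormalHom iQ)
    (hNQmax : (∀ (N' : Over (Spec (CommRingCat.of k))) [GrpObj N'] (i' : N' ⟶ Q) [IsMonHom i'] [IsClosedImmersion i'.left]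
      [Smooth N'.hom] [ConnectedSpace ↥N'.left], Red.IsSolvableGrp N' → AlgGrp.IsNormalHom i' → ∃ f : N' ⟶ NQ, f ≫ iQ = i')) :
    ∃ f : NG ⟶ NQ, f ≫ iQ = iG ≫ π ∧ Surjective f.left := by
  exact Groth.Agent.SolvPart.exists_solvPart_map π iG hNGs hNG hNGmax iQ hNQs hNQ hNQmax

end Groth.Agent.S19518
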