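import Groth.Statements.S19521
import Groth.Agent.LBDesc.DualRigid
-- import your own Groth.Agent.* helpers here

set_option autoImplicit false
universe u
open CategoryTheory CategoryTheory.Limits MonoidalCategory CartesianMonoidalCategory MonObj GrpObj AlgebraicGeometry
open AbDual

set_option backward.isDefEq.respectTransparency false
set_option backward.isDefEq.respectTransparency.types false
set_option linter.style.haveILetI false

namespace Groth.Agent.S19521

open Groth.Agent.W7Cube (pull pull_pull)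
open Groth.Agent.W7Cube in
attribute [local instance] law

/-- Let S be a locally Noetherian scheme and f : A' → A a homomorphism of abelian schemes over S. Let
A^t, A'^t be dual abelian schemes of A, A' (given through φ_A, φ_A', fppf topology, classes
algebraically equivalent to zero on geometric fibres), A^tt, A'^tt dual abelian schemes of A^t, A'^t
(through φ_{A^t}, φ_{A'^t}), ξ and ξ' Poincaré classes on A ×_S A^t and A' ×_S A'^t whose
factor-swapped classes are algebraically equivalent to zero on the geometric fibres over A and A',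
f^t : A^t → A'^t the transpose of f and f^tt : A'^tt → A^tt the transpose of f^t. With κ_A : A →
A^tt and κ_A' : A' → A'^tt the biduality morphisms defined by the swapped Poincaré classes, the
square commutes: f followed by κ_A equals κ_A' followed by f^tt. (The published statement is for
projective abelian schemes over a Noetherian base, where the duals exist as schemes; here the duals
are given as data.) -/
theorem result {S : Scheme.{u}} [IsLocallyNoetherian S]
    (A At Att A' A't A'tt : Over S) [GrpObj A] [IsCommMonObj A] [IsProper A.hom] [Smooth A.hom] [GeometricallyConnected A.hom] [GrpObj At] [IsCommMonObj At] [IsProper At.hom] [Smooth At.hom] [GeometricallyConnected At.hom] [GrpObj Att] [IsCommMonObj Att] [IsProper Att.hom] [Smooth Att.hom] [GeometricallyConnected Att.hom]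
    [GrpObj A'] [IsCommMonObj A'] [IsProper A'.hom] [Smooth A'.hom] [GeometricallyConnected A'.hom] [GrpObj A't] [IsCommMonObj A't] [IsProper A't.hom] [Smooth A't.hom] [GeometricallyConnected A't.hom] [GrpObj A'tt] [IsCommMonObj A'tt] [IsProper A'tt.hom] [Smooth A'tt.hom] [GeometricallyConnected A'tt.hom]
    (φA : ∀ T : Over S, PicF.Cl (PicF.XT A.hom T) → (T ⟶ At))
    (φAt : ∀ T : Over S, PicF.Cl (PicF.XT At.hom T) → (T ⟶ Att))
    (φA' : ∀ T : Over S, PicF.Cl (PicF.XT A'.hom T) → (T ⟶ A't))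
    (φA't : ∀ T : Over S, PicF.Cl (PicF.XT A't.hom T) → (T ⟶ A'tt))
    (hA : AbDual.IsDualAV Scheme.fppfPrecoverage A At φA) (hAt : AbDual.IsDualAV Scheme.fppfPrecoverage At Att φAt)
    (hA' : AbDual.IsDualAV Scheme.fppfPrecoverage A' A't φA') (hA't : AbDual.IsDualAV Scheme.fppfPrecoverage A't A'tt φA't)
    (ξ : PicF.Cl (PicF.XT A.hom At)) (hξ : AbDual.IsPoincareCl A At φA ξ)
    (hξs : AbDual.IsPicZeroCl At.hom A (PicF.pullCl (pullbackSymmetry At.hom A.hom).hom ξ))
    (ξ' : PicF.Cl (PicF.XT A'.hom A't)) (hξ' : AbDual.IsPoincareCl A' A't φA' ξ')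
    (hξ's : AbDual.IsPicZeroCl A't.hom A' (PicF.pullCl (pullbackSymmetry A't.hom A'.hom).hom ξ'))
    (f : A' ⟶ A) [IsMonHom f] (ft : At ⟶ A't) (hft : AbDual.IsTranspose f φA' φA ft)
    (ftt : A'tt ⟶ Att) (hftt : AbDual.IsTranspose ft φAt φA't ftt) :
    f ≫ φAt A (PicF.pullCl (pullbackSymmetry At.hom A.hom).hom ξ) =
      φA't A' (PicF.pullCl (pullbackSymmetry A't.hom A'.hom).hom ξ') ≫ ftt := by
  obtain ⟨hξ0, hξ1, hξ2⟩ := hξ
  obtain ⟨hξ'0, hξ'1, hξ'2⟩ := hξ'
  let x : PicLoc.PicSet (PicF.XT A.hom At) := ⟨ξ, hξ0.choose, hξ0.choose_spec.1, hξ0.choose_spec.2.1⟩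
  let x' : PicLoc.PicSet (PicF.XT A'.hom A't) := ⟨ξ', hξ'0.choose, hξ'0.choose_spec.1, hξ'0.choose_spec.2.1⟩
  let σ := η[A'].left
  have hσ : σ ≫ A'.hom = 𝟙 S := Over.w η[A']
  have hn : η[A'].left ≫ f.left = η[A].left := congrArg CommaMorphism.left (IsMonHom.one_hom f)
  let c₁ := pull (AbDual.bcMap f At) x
  let c₂ := pull (PicF.XTmap A'.hom ft) x'
  have z₁ : AbDual.IsPicZeroCl A'.hom At c₁.1 := Groth.Agent.AbPrim.picZero_bcMap f hξ0
  have z₂ : AbDual.IsPicZeroCl A'.hom At c₂.1 := Groth.Agent.LBDesc.picZero_XTmap A'.hom ft (c := x') hξ'0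
  have r₁ : pull (PicF.secT A'.hom σ hσ At) c₁ = 1 := by
    rw [pull_pull, show PicF.secT A'.hom σ hσ At ≫ AbDual.bcMap f At = PicF.secT A.hom η[A].left (Over.w η[A]) At by
      refine pullback.hom_ext ?_ ?_ <;> simp [PicF.secT, AbDual.bcMap, σ, hn]]
    exact Subtype.ext hξ2
  have r₂ : pull (PicF.secT A'.hom σ hσ At) c₂ = 1 := by
    rw [pull_pull, S12403.secT_nat, ← pull_pull, show pull (PicF.secT A'.hom σ hσ A't) x' = 1 from Subtype.ext hξ'2, map_one]
  have e : c₁ = c₂ := Groth.Agent.LBDesc.rig_ext A'.hom σ hσ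
    (Groth.Agent.LBDesc.isIso_XTproj_app A'.hom σ hσ) hA'.relPic z₁ z₂ r₁ r₂
    (show φA' At (PicF.pullCl (AbDual.bcMap f At) ξ) = φA' At (PicF.pullCl (PicF.XTmap A'.hom ft) ξ') by
      rw [hft At ξ hξ0, hA'.relPic.natural A't At ft ξ' hξ'0, hξ1, hξ'1, Category.id_comp, Category.comp_id])
  let y : PicLoc.PicSet (PicF.XT At.hom A) := pull (pullbackSymmetry At.hom A.hom).hom x
  let y' : PicLoc.PicSet (PicF.XT A't.hom A') := pull (pullbackSymmetry A't.hom A'.hom).hom x'
  change f ≫ φAt A y.1 = φA't A' y'.1 ≫ ftt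
  rw [← hAt.relPic.natural A A' f y.1 hξs, ← hftt A' y'.1 hξ's]
  refine congrArg (φAt A') (congrArg (fun d : PicLoc.PicSet _ => d.1)
    (?_ : pull (PicF.XTmap At.hom f) y = pull (AbDual.bcMap ft A') y'))
  rw [pull_pull, pull_pull,
    show PicF.XTmap At.hom f ≫ (pullbackSymmetry At.hom A.hom).hom =
      (pullbackSymmetry At.hom A'.hom).hom ≫ AbDual.bcMap f At by
        refine pullback.hom_ext ?_ ?_ <;> simp [PicF.XTmap, AbDual.bcMap],
    show AbDual.bcMap ft A' ≫ (pullbackSymmetry A't.hom A'.hom).hom =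
      (pullbackSymmetry At.hom A'.hom).hom ≫ PicF.XTmap A'.hom ft by
        refine pullback.hom_ext ?_ ?_ <;> simp [PicF.XTmap, AbDual.bcMap],
    ← pull_pull, ← pull_pull]
  exact congrArg _ e

end Groth.Agent.S19521
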