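import Groth.Statements.S19522
-- import your own Groth.Agent.* helpers here

set_option autoImplicit false
universe u
open TensorProduct
open GLin

namespace Groth.Agent.S19522

/-- Let k be a field, A a commutative k-bialgebra coacting multiplicatively on a commutative k-algebra
R, and χ ∈ A a group-like element with an inverse χ' (χχ' = 1). Suppose the polynomial ring R[t]
carries a multiplicative coaction which restricts to the given one on constants and sends t to t ⊗
χ'. Then g ∈ R[t] is coinvariant if and only if, for every r, its r-th coefficient has coaction g_r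
↦ g_r ⊗ χ^r; that is, the ring of invariants of R[t] is the sum over r ≥ 0 of the weight-χ^r
semi-invariants of R times t^r. (The published statement is phrased for an affine variety with an
action of a linear algebraic group over an algebraically closed field of characteristic zero and
identifies the invariants of X × A¹ with the graded ring of invariant sections of the powers of the
linearised trivial bundle; this is its coordinate-ring content, valid over any field.) -/
theorem result (k : Type u) [Field k]
    (A : Type u) [CommRing A] [Bialgebra k A]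
    (R : Type u) [CommRing R] [Algebra k R] [HopfRep.Comod k A R] [GLin.IsCoactAlg k A R]
    [HopfRep.Comod k A (Polynomial R)] [GLin.IsCoactAlg k A (Polynomial R)]
    (χ χ' : A) (hχ : CoalgebraStruct.comul (R := k) (A := A) χ = χ ⊗ₜ[k] χ)
    (hχε : CoalgebraStruct.counit (R := k) (A := A) χ = 1) (hχχ' : χ * χ' = 1)
    (hC : ∀ r : R, HopfRep.Comod.coact (k := k) (A := A) (Polynomial.C r) =
      Algebra.TensorProduct.map (Polynomial.CAlgHom : R →ₐ[k] Polynomial R) (AlgHom.id k A)
        (HopfRep.Comod.coact (k := k) (A := A) r))
    (hX : HopfRep.Comod.coact (k := k) (A := A) (Polynomial.X : Polynomial R) = Polynomial.X ⊗ₜ[k] χ')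
    (g : Polynomial R) :
    g ∈ GLin.invariants k A (Polynomial R) ↔
      ∀ r : ℕ, g.coeff r ∈ HopfRep.eigenspace k A R (χ ^ r) := by
  have hmono : ∀ (n : ℕ) (r : R), HopfRep.Comod.coact (k := k) (A := A) (Polynomial.monomial n r : Polynomial R) =
      LinearMap.rTensor A ((Polynomial.monomial n).restrictScalars k) (HopfRep.Comod.coact (k := k) (A := A) r *
        ((1 : R) ⊗ₜ[k] (χ' ^ n))) := by
    intro n r
    rw [← Polynomial.C_mul_X_pow_eq_monomial, ← GLin.coactAlgHom_apply k A (Polynomial R), map_mul, map_pow,
      GLin.coactAlgHom_apply, GLin.coactAlgHom_apply, hC, hX]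
    simp only [Algebra.TensorProduct.tmul_pow]
    induction HopfRep.Comod.coact (k := k) (A := A) r using TensorProduct.induction_on with
    | zero => simp
    | tmul s a => simp [Polynomial.C_mul_X_pow_eq_monomial]
    | add x y hx hy => rw [map_add, add_mul, hx, hy, add_mul, map_add]
  have hu : ∀ r : ℕ, χ' ^ r * χ ^ r = 1 := fun r => by rw [← mul_pow, mul_comm χ', hχχ', one_pow]
  have key : ∀ (r : ℕ) (h : Polynomial R), LinearMap.rTensor A ((Polynomial.lcoeff R r).restrictScalars k)
      (HopfRep.Comod.coact (k := k) (A := A) h) =
      HopfRep.Comod.coact (k := k) (A := A) (h.coeff r) * ((1 : R) ⊗ₜ[k] (χ' ^ r)) := by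
    intro r h
    induction h using Polynomial.induction_on' with
    | add p q hp hq => rw [Polynomial.coeff_add, map_add, map_add, hp, hq, map_add, add_mul]
    | monomial n s =>
      rw [hmono, ← LinearMap.rTensor_comp_apply]
      rcases eq_or_ne n r with rfl | hne
      · have e : (Polynomial.lcoeff R n).restrictScalars k ∘ₗ (Polynomial.monomial n).restrictScalars k = LinearMap.id := by
          ext x; simp
        rw [e, LinearMap.rTensor_id, LinearMap.id_apply, Polynomial.coeff_monomial, if_pos rfl]
      · have e : (Polynomial.lcoeff R r).restrictScalars k ∘ₗ (Polynomial.monomial n).restrictScalars k = 0 := by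
          ext x; simp [Polynomial.coeff_monomial, hne]
        rw [e, LinearMap.rTensor_zero, LinearMap.zero_apply, Polynomial.coeff_monomial, if_neg hne, map_zero, zero_mul]
  constructor
  · intro hg r
    have hg' : HopfRep.Comod.coact (k := k) (A := A) g = g ⊗ₜ[k] (1 : A) := hg
    have h := key r g
    rw [hg', LinearMap.rTensor_tmul] at h
    show HopfRep.Comod.coact (k := k) (A := A) (g.coeff r) = g.coeff r ⊗ₜ[k] (χ ^ r)
    have h2 := congrArg (· * ((1 : R) ⊗ₜ[k] (χ ^ r))) h
    simp only [mul_assoc, Algebra.TensorProduct.tmul_mul_tmul, one_mul, mul_one, hu] at h2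
    rw [← Algebra.TensorProduct.one_def, mul_one] at h2
    rw [← h2]
    rfl
  · intro hg
    show HopfRep.Comod.coact (k := k) (A := A) g = g ⊗ₜ[k] (1 : A)
    conv_lhs => rw [g.as_sum_range]
    conv_rhs => rw [g.as_sum_range, sum_tmul]
    rw [map_sum]
    refine Finset.sum_congr rfl fun r _ => ?_
    have hr : HopfRep.Comod.coact (k := k) (A := A) (g.coeff r) = g.coeff r ⊗ₜ[k] (χ ^ r) := hg r
    rw [hmono, hr, Algebra.TensorProduct.tmul_mul_tmul, mul_one, ← mul_pow, hχχ', one_pow, LinearMap.rTensor_tmul]
    rfl

end Groth.Agent.S19522
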