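import Groth.Statements.S1953
import Groth.Agent.BivarOps.InterDiag
-- import your own Groth.Agent.* helpers here

set_option autoImplicit false
set_option linter.style.haveILetI false
set_option backward.isDefEq.respectTransparency false
set_option maxHeartbeats 1000000
universe u
open CategoryTheory CategoryTheory.Limits AlgebraicGeometry
attribute [local instance] HasDerivedCategory.standard
open IntMult
open Groth.Agent

namespace Groth.Agent.S1953

/-- Let X be a proper nonsingular variety over K, α an r-cycle and β an s-cycle intersecting properly, Δ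
⊆ X ×_K X the diagonal (as the prime cycle of its generic point) and α × β the exterior product,
with dimension function δ₂ on X ×_K X. Then [Δ] and α × β intersect properly and pr_{1,*}([Δ] · (α ×
β)) = α · β coefficientwise, for any cycle on X ×_K X with the coefficients of [Δ] · (α × β). Here X
is a nonsingular variety over the algebraically closed field K (smooth, separated, quasi-compact,
integral) with dimension function δ (transcendence degree) and n = dim X; cycles are Mathlib
AlgebraicCycles with Cyc.Zk membership, proper intersection is IntMult.IntersectProperly and α · β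
is the Tor-formula intersection product on coefficient functions (IntMult.interProd), bundled where
needed as 'any cycle with these coefficients'. -/
theorem result (K : Type u) [Field K] [IsAlgClosed K] (X : Scheme.{u}) (f : X ⟶ Spec (CommRingCat.of K)) [Smooth f] [IsProper f] [IsIntegral X] (δ : X → ℤ) (hX : Cyc.IsSetup X δ) (hδ : Cyc.DeltaCompat f δ (fun _ => 0)) (n : ℤ) (hn : δ (genericPoint X) = n) (δ₂ : ↥(pullback f f) → ℤ) (h₂ : Cyc.DeltaCompat (pullback.fst f f ≫ f) δ₂ (fun _ => 0)) (h₂' : Cyc.DeltaCompat (pullback.fst f f) δ₂ δ) (r s : ℤ) (α β : AlgebraicCycle X ℤ) (hα : α ∈ Cyc.Zk X δ r) (hβ : β ∈ Cyc.Zk X δ s) (hprop : IntMult.IntersectProperly δ n ⇑α ⇑β) (γ : AlgebraicCycle (pullback f f) ℤ) (hγ : ⇑γ = IntMult.interProd δ₂ (n + n) (Set.indicator {pullback.diagonal f (genericPoint X)} 1) (IntMult.extProd f f δ δ δ₂ ⇑α ⇑β)) : IntMult.IntersectProperly δ₂ (n + n) (Set.indicator {pullback.diagonal f (genericPoint X)} 1) (IntMult.extProd f f δ δ δ₂ ⇑α ⇑β) ∧ ⇑(AlgebraicCycle.map (pullback.fst f f) δ₂ δ γ)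 = IntMult.interProd δ n ⇑α ⇑β := by
  classical
  haveI := hX.1
  have s2 := BivarOps.setup_of_compat (pullback.fst f f ≫ f) h₂
  let Δ := pullback.diagonal f
  have hgd : ∀ ξ : X, Δ (genericPoint X) ⤳ Δ ξ := fun ξ => (genericPoint_specializes ξ).map Δ.continuous
  have hrange : ∀ z, Δ (genericPoint X) ⤳ z → ∃ ξ, Δ ξ = z := fun z hz =>
    hz.mem_closed Δ.isClosedEmbedding.isClosed_range ⟨_, rfl⟩
  have hextne : ∀ z, IntMult.extProd f f δ δ δ₂ α β z ≠ 0 →
      α (pullback.fst f f z) ≠ 0 ∧ β (pullback.snd f f z) ≠ 0 ∧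
        δ₂ z = δ (pullback.fst f f z) + δ (pullback.snd f f z) := by
    intro z hz
    rw [IntMult.extProd] at hz
    split_ifs at hz with hd
    · exact ⟨left_ne_zero_of_mul (left_ne_zero_of_mul hz), right_ne_zero_of_mul (left_ne_zero_of_mul hz), hd⟩
    · exact absurd rfl hz
  refine ⟨fun w z ζ hw hz hwζ hzζ => ?_, ?_⟩
  · obtain rfl : w = Δ (genericPoint X) := BivarOps.indicator_ne hw
    obtain ⟨ξ, rfl⟩ := hrange ζ hwζ
    obtain ⟨ha, hb, hd⟩ := hextne z hz
    have h1 := hprop _ _ ξ ha hb ((hzζ.map (pullback.fst f f).continuous).trans (specializes_of_eq (BivarOps.diag_fst_apply f ξ)))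
      ((hzζ.map (pullback.snd f f).continuous).trans (specializes_of_eq (BivarOps.diag_snd_apply f ξ)))
    rw [BivarOps.delta_diag f h₂', BivarOps.delta_diag f h₂', hn]
    omega
  -- the push forward is read on the diagonal
  funext ξ
  have hsupp : ∀ z, γ z ≠ 0 → ∃ x, Δ x = z := by
    intro z hz
    rw [hγ] at hz
    obtain ⟨η, hv, -, -, -⟩ := BivarOps.interProd_prime_ne hz
    exact hrange z hv
  show ∑ᶠ z ∈ (pullback.fst f f) ⁻¹' {ξ}, γ z * ((AlgebraicCycle.mapCoeff (pullback.fst f f) δ₂ δ z : ℕ) : ℤ) = _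
  rw [finsum_mem_inter_support_eq' _ _ ({Δ ξ} : Set _) (fun z hz => ⟨fun hzx => ?_, fun hzx => by
    rw [Set.mem_singleton_iff.1 hzx]; exact BivarOps.diag_fst_apply f ξ⟩), finsum_mem_singleton]
  swap
  · obtain ⟨x, rfl⟩ := hsupp z (left_ne_zero_of_mul hz)
    rw [Set.mem_singleton_iff, ← (show pullback.fst f f (Δ x) = ξ from hzx), BivarOps.diag_fst_apply]
  rw [AlgebraicCycle.mapCoeff, if_pos (show δ₂ (Δ ξ) = δ (pullback.fst f f (Δ ξ)) by
    rw [BivarOps.delta_diag f h₂', BivarOps.diag_fst_apply]), BivarOps.residueDegree_diag, Nat.cast_one, mul_one, hγ]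
  let A := (BivarOps.finite_gens α ξ).toFinset
  let B := (BivarOps.finite_gens β ξ).toFinset
  have hA : ∀ a ∈ A, a ⤳ ξ ∧ α a ≠ 0 := fun a ha => (BivarOps.finite_gens α ξ).mem_toFinset.1 ha
  have hB : ∀ b ∈ B, b ⤳ ξ ∧ β b ≠ 0 := fun b hb => (BivarOps.finite_gens β ξ).mem_toFinset.1 hb
  let i1 : X → X → ℤ := fun a => Set.indicator {a} 1
  have hexp : ∀ (c : AlgebraicCycle X ℤ) (y : X), y ⤳ ξ →
      c y = ∑ a ∈ (BivarOps.finite_gens c ξ).toFinset, c a * i1 a y := by
    intro c y hy
    rw [Finset.sum_eq_single y]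
    · show c y = c y * Set.indicator {y} (1 : X → ℤ) y
      rw [Set.indicator_of_mem (Set.mem_singleton y), Pi.one_apply, mul_one]
    · intro a _ hay
      show c a * Set.indicator {a} (1 : X → ℤ) y = 0
      rw [Set.indicator_of_notMem (show y ∉ ({a} : Set X) from fun h => hay (Set.mem_singleton_iff.1 h).symm), mul_zero]
    · intro hy'
      rw [Set.Finite.mem_toFinset] at hy'
      rw [show c y = 0 from of_not_not fun h => hy' ⟨hy, h⟩, zero_mul]
  let v : X × X → ↥(pullback f f) → ℤ := fun ab => IntMult.extProd f f δ δ δ₂ (i1 ab.1) (i1 ab.2)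
  have hzab : ∀ ab ∈ A ×ˢ B, ∃ (z : ↥(pullback f f)) (hh : z ⤳ Δ ξ), δ₂ z = δ ab.1 + δ ab.2 ∧ v ab z = 1 ∧
      (∀ w, w ⤳ Δ ξ → v ab w ≠ 0 → w = z) ∧
      IntMult.chi ((pullback f f).presheaf.stalk (Δ ξ))
          (((pullback f f).presheaf.stalk (Δ ξ)) ⧸ IntMult.stalkIdeal Δ.ker (Δ ξ))
          (((pullback f f).presheaf.stalk (Δ ξ)) ⧸ CDivNormal.genPrime hh) =
        IntMult.mult (IntMult.ptIdeal ab.1) (IntMult.ptIdeal ab.2) ξ := by
    intro ab hab
    rw [Finset.mem_product] at hab
    obtain ⟨z, hh, h1, h2, hd, hlen, huniq, hchi⟩ :=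
      BivarOps.exists_prod_point f hX hδ h₂' (hA _ hab.1).1 (hB _ hab.2).1
    refine ⟨z, hh, hd, ?_, fun w hw hne => ?_, ?_⟩
    · show IntMult.extProd f f δ δ δ₂ (Set.indicator {ab.1} 1) (Set.indicator {ab.2} 1) z = 1
      rw [IntMult.extProd, if_pos (by rw [h1, h2]; exact hd), hlen,
        Set.indicator_of_mem (show pullback.fst f f z ∈ ({ab.1} : Set X) from h1),
        Set.indicator_of_mem (show pullback.snd f f z ∈ ({ab.2} : Set X) from h2)]
      rfl
    · change IntMult.extProd f f δ δ δ₂ (Set.indicator {ab.1} 1) (Set.indicator {ab.2} 1) w ≠ 0 at hne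
      rw [IntMult.extProd] at hne
      split_ifs at hne with hdw
      · have e1 := BivarOps.indicator_ne (left_ne_zero_of_mul (left_ne_zero_of_mul hne))
        have e2 := BivarOps.indicator_ne (right_ne_zero_of_mul (left_ne_zero_of_mul hne))
        rw [e1, e2] at hdw
        exact (CycDim.eq_of_delta_le s2.2.2 (huniq w hw e1 e2) (by omega)).symm
      · exact absurd rfl hne
    · rw [hchi, IntMult.mult, BivarOps.stalkIdeal_ptIdeal (hA _ hab.1).1, BivarOps.stalkIdeal_ptIdeal (hB _ hab.2).1]
  rw [BivarOps.interProd_sum (Δ ξ) ({()} : Finset Unit) (A ×ˢ B) (fun _ => 1) (fun ab => α ab.1 * β ab.2)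
      (fun _ => Set.indicator {Δ (genericPoint X)} 1) v _ _ (fun z _ => by simp; rfl) (fun z hz => ?_)
      (fun _ _ => ?_) (fun ab hab => ?_),
    BivarOps.interProd_sum ξ A B α β i1 i1 _ _ (hexp α) (hexp β) (fun a _ => ?_) (fun b _ => ?_),
    Finset.sum_singleton, Finset.sum_product]
  · refine Finset.sum_congr rfl fun a ha => Finset.sum_congr rfl fun b hb => ?_
    rw [one_mul]
    congr 1
    obtain ⟨z, hh, hd, hv1, huniq, hchi⟩ := hzab (a, b) (Finset.mem_product.2 ⟨ha, hb⟩)
    have hdia : δ₂ (Δ ξ) = δ ξ := BivarOps.delta_diag f h₂' ξ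
    have hgn : δ₂ (Δ (genericPoint X)) = δ (genericPoint X) := BivarOps.delta_diag f h₂' (genericPoint X)
    rw [hn] at hgn
    have haξ := (hA a ha).1
    have hbξ := (hB b hb).1
    by_cases hdim : δ ξ = δ a + δ b - n
    · dsimp only at hd
      rw [show IntMult.interProd δ n (i1 a) (i1 b) ξ = _ from BivarOps.interProd_prime_prime haξ hbξ hdim.symm,
        IntMult.interProd, finsum_eq_single _ ⟨(Δ (genericPoint X), z), hgd ξ, hh, by
          show δ₂ (Δ (genericPoint X)) + δ₂ z - (n + n) = δ₂ (Δ ξ)
          omega⟩ ?_]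
      · show Set.indicator {Δ (genericPoint X)} (1 : ↥(pullback f f) → ℤ) (Δ (genericPoint X)) * v (a, b) z *
          IntMult.mult (IntMult.ptIdeal (Δ (genericPoint X))) (IntMult.ptIdeal z) (Δ ξ) = _
        rw [Set.indicator_of_mem (Set.mem_singleton _), Pi.one_apply, hv1, one_mul, one_mul, ← hchi, IntMult.mult,
          BivarOps.stalkIdeal_ptIdeal hh, BivarOps.stalkIdeal_ptIdeal (hgd ξ), BivarOps.chi_flip]
        refine BivarOps.chi_quot_congr ?_ rfl
        rw [DiagTor.stalkIdeal_ker Δ ξ]
        refine Ideal.ext fun t => ?_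
        have e := Scheme.Hom.stalkSpecializes_stalkMap_apply Δ (genericPoint X) ξ (genericPoint_specializes ξ) t
        rw [CDivNormal.mem_genPrime, RingHom.mem_ker]
        constructor
        · intro hu
          by_contra h0
          refine hu (isUnit_of_map_unit (Δ.stalkMap (genericPoint X)).hom _ ?_)
          refine Eq.subst e.symm (motive := fun s => IsUnit s) ?_
          exact Ne.isUnit (show ((X.presheaf.stalkSpecializes (genericPoint_specializes ξ)).hom
            ((Δ.stalkMap ξ).hom t) : X.functionField) ≠ 0 from fun h =>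
              h0 (IsFractionRing.injective (X.presheaf.stalk ξ) X.functionField (h.trans (map_zero _).symm)))
        · intro h0 hu
          have := hu.map (Δ.stalkMap (genericPoint X)).hom
          have h' : IsUnit ((X.presheaf.stalkSpecializes (genericPoint_specializes ξ)).hom ((Δ.stalkMap ξ).hom t)) :=
            e ▸ this
          rw [h0, map_zero] at h'
          exact not_isUnit_zero h'
      · intro p hp
        by_contra hne
        exact hp (Subtype.ext (Prod.ext (BivarOps.indicator_ne (left_ne_zero_of_mul (left_ne_zero_of_mul hne)))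
          (huniq _ p.2.2.1 (right_ne_zero_of_mul (left_ne_zero_of_mul hne)))))
    · rw [IntMult.interProd, IntMult.interProd, finsum_eq_zero_of_forall_eq_zero, finsum_eq_zero_of_forall_eq_zero]
      · intro p
        by_contra hne
        have e1 := BivarOps.indicator_ne (left_ne_zero_of_mul (left_ne_zero_of_mul hne))
        have e2 := BivarOps.indicator_ne (right_ne_zero_of_mul (left_ne_zero_of_mul hne))
        have := p.2.2.2
        rw [e1, e2] at this
        omega
      · intro p
        by_contra hne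
        have e1 := BivarOps.indicator_ne (left_ne_zero_of_mul (left_ne_zero_of_mul hne))
        have e2 := huniq _ p.2.2.1 (right_ne_zero_of_mul (left_ne_zero_of_mul hne))
        have := p.2.2.2
        rw [e1, e2] at this
        dsimp only at hd
        omega
  · exact (Set.finite_singleton a).subset fun y hy => BivarOps.indicator_ne hy.2
  · exact (Set.finite_singleton b).subset fun y hy => BivarOps.indicator_ne hy.2
  · have h1 := (hz.map (pullback.fst f f).continuous).trans (specializes_of_eq (BivarOps.diag_fst_apply f ξ))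
    have h2 := (hz.map (pullback.snd f f).continuous).trans (specializes_of_eq (BivarOps.diag_snd_apply f ξ))
    simp only [v, IntMult.extProd]
    split_ifs with hd
    · rw [hexp α _ h1, hexp β _ h2, Finset.sum_mul_sum, Finset.sum_mul, Finset.sum_product]
      refine Finset.sum_congr rfl fun a _ => ?_
      rw [Finset.sum_mul]
      exact Finset.sum_congr rfl fun b _ => by ring
    · simp
  · exact (Set.finite_singleton _).subset fun y hy => BivarOps.indicator_ne hy.2
  · obtain ⟨z, hh, -, -, huniq, -⟩ := hzab ab hab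
    exact (Set.finite_singleton z).subset fun w hw => huniq w hw.1 hw.2

end Groth.Agent.S1953
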