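import Groth.Statements.S19533
import Groth.Agent.Rigid.FibreTranslate

set_option autoImplicit false
universe u
open CategoryTheory CategoryTheory.Limits MonoidalCategory CartesianMonoidalCategory MonObj GrpObj AlgebraicGeometry
open AbVar

namespace Groth.Agent.S19533

/-- Let k be an algebraically closed field, A an abelian variety over k (a k-group scheme whose
structure morphism is proper, smooth and geometrically connected) with unit point e, Y a scheme
separated over k and f : A → Y a morphism over k. Write F₀ for the connected component of e in the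
fibre f⁻¹(f(e)). Then the k-rational points of F₀ are stable under the group law: if k-points x and
y of A lie in F₀ then so do the product point x·y and the inverse point x⁻¹. (The published
statement is for Y a k-variety and concludes that F₀ with its reduced structure is an abelian
subvariety, together with the translation formula F_a = a + F₀; this row records the closure of
F₀(k) under multiplication and inversion, for Y merely separated over k.) -/
theorem result (k : Type u) [Field k] [IsAlgClosed k]
    (A : Over (Spec (CommRingCat.of k))) [GrpObj A] [IsProper A.hom] [Smooth A.hom] [GeometricallyConnected A.hom]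
    {Y : Scheme.{u}} (q : Y ⟶ Spec (CommRingCat.of k)) [IsSeparated q] (f : A.left ⟶ Y) (hf : f ≫ q = A.hom)
    (x y : 𝟙_ (Over (Spec (CommRingCat.of k))) ⟶ A)
    (hx : x.left (IsLocalRing.closedPoint k) ∈
      connectedComponentIn (f ⁻¹' {f (η[A].left (IsLocalRing.closedPoint k))}) (η[A].left (IsLocalRing.closedPoint k)))
    (hy : y.left (IsLocalRing.closedPoint k) ∈
      connectedComponentIn (f ⁻¹' {f (η[A].left (IsLocalRing.closedPoint k))}) (η[A].left (IsLocalRing.closedPoint k))) :
    (lift x y ≫ μ[A]).left (IsLocalRing.closedPoint k) ∈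
        connectedComponentIn (f ⁻¹' {f (η[A].left (IsLocalRing.closedPoint k))}) (η[A].left (IsLocalRing.closedPoint k)) ∧
      (x ≫ ι[A]).left (IsLocalRing.closedPoint k) ∈
        connectedComponentIn (f ⁻¹' {f (η[A].left (IsLocalRing.closedPoint k))}) (η[A].left (IsLocalRing.closedPoint k)) := by

  haveI : Subsingleton (Spec (CommRingCat.of k)) := inferInstanceAs (Subsingleton (PrimeSpectrum k))
  haveI : ConnectedSpace A.left := GeometricallyConnected.connectedSpace_of_subsingleton A.hom
  have e : η[A] = (1 : 𝟙_ (Over (Spec (CommRingCat.of k))) ⟶ A) := by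
    rw [Hom.one_def, toUnit_unit, Category.id_comp]
  rw [e] at hx hy ⊢
  change _ ∈ Groth.Agent.Rigid.fibComp f 1 at hx hy
  have hxeq : Groth.Agent.Rigid.fibComp f x = Groth.Agent.Rigid.fibComp f 1 := by
    have h := connectedComponentIn_eq hx
    have hfx := connectedComponentIn_subset _ _ hx
    rw [Set.mem_preimage, Set.mem_singleton_iff] at hfx
    rw [Groth.Agent.Rigid.fibComp, Groth.Agent.Rigid.fibComp, hfx]
    exact h.symm
  have himg := Groth.Agent.Rigid.ltr_image_fibComp q f hf x
  rw [hxeq] at himg
  refine ⟨?_, ?_⟩
  · change Groth.Agent.Rigid.ptOf (x * y) ∈ Groth.Agent.Rigid.fibComp f 1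
    rw [← himg]
    exact ⟨_, hy, Groth.Agent.Rigid.ltr_ptOf x y⟩
  · change Groth.Agent.Rigid.ptOf x⁻¹ ∈ Groth.Agent.Rigid.fibComp f 1
    obtain ⟨w, hw, hwe⟩ : Groth.Agent.Rigid.ptOf (1 : 𝟙_ (Over (Spec (CommRingCat.of k))) ⟶ A) ∈
        (Groth.Agent.Rigid.ltr x).left '' Groth.Agent.Rigid.fibComp f 1 := by
      rw [himg]; exact mem_connectedComponentIn rfl
    have : w = Groth.Agent.Rigid.ptOf x⁻¹ := (Groth.Agent.Rigid.ltrHomeo x).injective
      (show (Groth.Agent.Rigid.ltr x).left w = (Groth.Agent.Rigid.ltr x).left _ by
        rw [hwe, Groth.Agent.Rigid.ltr_ptOf, mul_inv_cancel])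
    rwa [← this]


end Groth.Agent.S19533
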