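import Groth.Statements.S19535
import Groth.Agent.AVOmega.Basic
import Groth.Agent.CurveRR.Deg
import Groth.Agent.OmegaLib.FiniteType
import Groth.Agent.ExtZ.Supp

set_option autoImplicit false
universe u
open CategoryTheory CategoryTheory.Limits AlgebraicGeometry TopologicalSpace
open Curves

set_option backward.isDefEq.respectTransparency false
set_option linter.style.haveILetI false
open Groth.Agent

namespace Groth.Agent.S19535

/-- Dichotomy for the differential of a map of smooth curves: let k be a field, X and Y integral schemes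
each smooth, separated and quasi-compact over Spec k and of dimension one, and φ : X → Y a morphism
over k. Let Ω_Y and Ω_X be sheaves of differentials of Y and of X over k, given as universal
derivations, and c : φ^*Ω_Y → Ω_X the compatible map dφ (sending the pullback of d_Y s to d_X(φ^♯
s)). Then exactly one of two things happens, stated here as a disjunction: either c is the zero map,
or c is a monomorphism of O_X-modules and its cokernel (the sheaf of relative differentials Ω_{X/Y})
restricts to zero on some nonempty open subset of X, so that it is supported at finitely many closed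
points. (The published statement is for smooth curves, which are in addition geometrically
connected; integrality of X and Y is what the argument uses.) -/
theorem result (k : Type u) [Field k] {X Y : Scheme.{u}}
    (pX : X ⟶ Spec (CommRingCat.of k)) (pY : Y ⟶ Spec (CommRingCat.of k)) (φ : X ⟶ Y) (w : φ ≫ pY = pX)
    [IsIntegral X] [Smooth pX] [IsSeparated pX] [QuasiCompact pX] (hdX : topologicalKrullDim X = 1)
    [IsIntegral Y] [Smooth pY] [IsSeparated pY] [QuasiCompact pY] (hdY : topologicalKrullDim Y = 1)
    (ΩY : Y.Modules) (dY : OmegaSh.Der pY ΩY) (hY : OmegaSh.IsUniversal dY)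
    (ΩX : X.Modules) (dX : OmegaSh.Der pX ΩX) (hX : OmegaSh.IsUniversal dX)
    (c : (Scheme.Modules.pullback φ).obj ΩY ⟶ ΩX) (hc : OmegaSh.IsDiffCompat φ dY dX c) :
    c = 0 ∨ (Mono c ∧ ∃ U : X.Opens, (U : Set X).Nonempty ∧ IsZero ((Scheme.Modules.pullback U.ι).obj (cokernel c))) := by
  by_cases h0 : c = 0
  · exact Or.inl h0
  right
  haveI : IsSeparated pY := ‹_›
  obtain ⟨θX, -⟩ := OmegaLib.exists_iso_of_isUniversal (OmegaLib.isUniversal_dOmega pX) hX
  obtain ⟨θY, -⟩ := OmegaLib.exists_iso_of_isUniversal (OmegaLib.isUniversal_dOmega pY) hY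
  have hinv : ∀ {Z : Scheme.{u}} {L L' : Z.Modules}, (L ≅ L') → PicF.IsInvertible L → PicF.IsInvertible L' :=
    fun {Z L L'} e h z => by
      obtain ⟨U, hz, ⟨ψ⟩⟩ := h z
      exact ⟨U, hz, ⟨((Scheme.Modules.restrictFunctor U.ι).mapIso e).symm ≪≫ ψ⟩⟩
  have hIX : PicF.IsInvertible ΩX := hinv θX
    (ZeroSch.isInvertible_of_rankOne (AVOmega.isFinLocFreeOfRank_omega pX 1 (by exact_mod_cast hdX)))
  have hIY : PicF.IsInvertible ΩY := hinv θY
    (ZeroSch.isInvertible_of_rankOne (AVOmega.isFinLocFreeOfRank_omega pY 1 (by exact_mod_cast hdY)))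
  have hIP := PicLoc.isInvertible_pullback φ hIY
  haveI : IsLocallyNoetherian X := LocallyOfFiniteType.isLocallyNoetherian pX
  have hC : Coh.IsCoh (cokernel c) :=
    Groth.Agent.QC.isCoh_cokernel (CurveRR.isCoh_of_inv hIP).1 (CurveRR.isCoh_of_inv hIX) c
  have hcl := Groth.Agent.QC.isClosed_support hC.2
  have hn := CurveRR.notMem_support_coker c _ (CurveRR.surjective_stalk_generic hIX c h0)
  refine ⟨CurveRR.mono_of_ne_zero hIP hIX c h0, ⟨(CohB1.support (cokernel c))ᶜ, hcl.isOpen_compl⟩,
    ⟨genericPoint X, hn⟩, ?_⟩
  let V : X.Opens := ⟨(CohB1.support (cokernel c))ᶜ, hcl.isOpen_compl⟩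
  exact (CohProperPush.isZero_restrict_of_support (M := cokernel c) V.ι fun y => y.2).of_iso
    ((Scheme.Modules.restrictFunctorIsoPullback V.ι).app _).symm

end Groth.Agent.S19535
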