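import Groth.Statements.S1954
import Groth.Agent.BivarOps.MultOne
-- import your own Groth.Agent.* helpers here

set_option autoImplicit false
set_option linter.style.haveILetI false
set_option backward.isDefEq.respectTransparency false
set_option maxHeartbeats 1000000
universe u
open CategoryTheory CategoryTheory.Limits AlgebraicGeometry
attribute [local instance] HasDerivedCategory.standard
open IntMult
open Groth.Agent

namespace Groth.Agent.S1954

/-- Let Y, Z → X be closed immersions into a nonsingular variety with δ ≤ r on Y and δ ≤ s on Z, such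
that [Y]_r and [Z]_s intersect properly, and let τ be a point of δ-dimension r + s − n lying under Y
and Z (the generic point of a component of the intersection of components of dimension r and s) at
which the scheme-theoretic intersection Y ×_X Z has multiplicity 1 (its local ring there has length
1). Then the coefficient of the closure of τ in [Y]_r · [Z]_s is 1, and the local rings of Y and Z
at the points over τ are regular. (The published statement has further parts, not restated here.)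
Here X is a nonsingular variety over the algebraically closed field K (smooth, separated,
quasi-compact, integral) with dimension function δ (transcendence degree) and n = dim X; cycles are
Mathlib AlgebraicCycles with Cyc.Zk membership, proper intersection is IntMult.IntersectProperly and
α · β is the Tor-formula intersection product on coefficient functions (IntMult.interProd), bundled
where needed as 'any cycle with these coefficients'. -/
theorem result (K : Type u) [Field K] [IsAlgClosed K] (X : Scheme.{u}) (f : X ⟶ Spec (CommRingCat.of K)) [Smooth f] [IsSeparated f] [QuasiCompact f] [IsIntegral X] (δ : X → ℤ) (hX : Cyc.IsSetup X δ) (hδ : Cyc.DeltaCompat f δ (fun _ => 0)) (n : ℤ) (hn : δ (genericPoint X) = n) (Y Z : Scheme.{u}) (ιY : Y ⟶ X) (ιZ : Z ⟶ X) [IsClosedImmersion ιY] [IsClosedImmersion ιZ] (r s : ℤ) (hY : ∀ y : Y, δ (ιY y) ≤ r) (hZ : ∀ z : Z, δ (ιZ z) ≤ s) (hprop : IntMult.IntersectProperly δ n (Cyc.subschemeFun δ r ιY) (Cyc.subschemeFun δ s ιZ)) (τ : X) (hτ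 : δ τ = r + s - n) (hξ : ∃ ξ η : X, Cyc.subschemeFun δ r ιY ξ ≠ 0 ∧ Cyc.subschemeFun δ s ιZ η ≠ 0 ∧ ξ ⤳ τ ∧ η ⤳ τ) (hmult : Cyc.subschemeFun δ (r + s - n) (pullback.fst ιY ιZ ≫ ιY) τ = 1) : IntMult.interProd δ n (Cyc.subschemeFun δ r ιY) (Cyc.subschemeFun δ s ιZ) τ = 1 ∧ (∀ y : Y, ιY y = τ → IsRegularLocalRing (Y.presheaf.stalk y)) ∧ (∀ z : Z, ιZ z = τ → IsRegularLocalRing (Z.presheaf.stalk z)) := by
  classical
  obtain ⟨hLN, -, hdim⟩ := hX
  haveI := hLN
  obtain ⟨ξ, η, hξ, hη, hξτ, hητ⟩ := hξ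
  obtain ⟨hξr, yξ, hyξ⟩ := BivarOps.exists_of_subschemeFun_ne hξ
  obtain ⟨hηs, zη, hzη⟩ := BivarOps.exists_of_subschemeFun_ne hη
  obtain ⟨y₀, hy₀⟩ : τ ∈ Set.range ιY := hξτ.mem_closed ιY.isClosedEmbedding.isClosed_range ⟨yξ, hyξ⟩
  obtain ⟨z₀, hz₀⟩ : τ ∈ Set.range ιZ := hητ.mem_closed ιZ.isClosedEmbedding.isClosed_range ⟨zη, hzη⟩
  have hsY : τ ∈ ιY.ker.support := ιY.range_subset_ker_support ⟨y₀, hy₀⟩
  have hsZ : τ ∈ ιZ.ker.support := ιZ.range_subset_ker_support ⟨z₀, hz₀⟩
  have hsξ : ξ ∈ ιY.ker.support := ιY.range_subset_ker_support ⟨yξ, hyξ⟩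
  have hsη : η ∈ ιZ.ker.support := ιZ.range_subset_ker_support ⟨zη, hzη⟩
  haveI := SmLocalST.isRegularLocalRing_stalk_of_smooth_field f τ
  obtain ⟨hA, hτn⟩ := BivarOps.dim_stalk hdim τ
  rw [hn] at hA hτn
  obtain ⟨haP, hτξ⟩ := BivarOps.dim_quot_genPrime hdim hξτ
  obtain ⟨hbQ, hτη⟩ := BivarOps.dim_quot_genPrime hdim hητ
  set I := IntMult.stalkIdeal ιY.ker τ with hI
  set J := IntMult.stalkIdeal ιZ.ker τ with hJ
  have hIP : I ≤ CDivNormal.genPrime hξτ := (BivarOps.mem_support_iff_le_genPrime _ hξτ).1 hsξ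
  have hJQ : J ≤ CDivNormal.genPrime hητ := (BivarOps.mem_support_iff_le_genPrime _ hητ).1 hsη
  have hrY : ∀ (x : X), x ∈ ιY.ker.support → δ x ≤ r := fun x hx => by
    have hx' : x ∈ (ιY.ker.support : Set X) := hx
    rw [Scheme.Hom.support_ker, ιY.isClosedEmbedding.isClosed_range.closure_eq] at hx'
    obtain ⟨y, rfl⟩ := hx'
    exact hY y
  have hsZ' : ∀ (x : X), x ∈ ιZ.ker.support → δ x ≤ s := fun x hx => by
    have hx' : x ∈ (ιZ.ker.support : Set X) := hx
    rw [Scheme.Hom.support_ker, ιZ.isClosedEmbedding.isClosed_range.closure_eq] at hx'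
    obtain ⟨z, rfl⟩ := hx'
    exact hZ z
  have hle : ∀ (W : X.IdealSheafData) (k : ℤ), (∀ x : X, x ∈ W.support → δ x ≤ k) →
      ringKrullDim (X.presheaf.stalk τ ⧸ IntMult.stalkIdeal W τ) ≤ ((k - δ τ).toNat : WithBot ℕ∞) := by
    intro W k hW
    refine BivarOps.dim_quot_le_of_primes _ _ fun P hP hWP => ?_
    haveI := hP
    obtain ⟨x, hx, rfl⟩ := CDivNormal.exists_genPrime_eq τ P
    rw [(BivarOps.dim_quot_genPrime hdim hx).1, Nat.cast_le]
    have := hW x ((BivarOps.mem_support_iff_le_genPrime W hx).2 hWP)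
    omega
  have hdI : ringKrullDim (X.presheaf.stalk τ ⧸ I) = ((r - δ τ).toNat : WithBot ℕ∞) := by
    refine le_antisymm (hle _ r hrY) ?_
    rw [← hξr, ← haP]
    exact ringKrullDim_le_of_surjective (Ideal.Quotient.factor hIP) (Ideal.Quotient.factor_surjective _)
  have hdJ : ringKrullDim (X.presheaf.stalk τ ⧸ J) = ((s - δ τ).toNat : WithBot ℕ∞) := by
    refine le_antisymm (hle _ s hsZ') ?_
    rw [← hηs, ← hbQ]
    exact ringKrullDim_le_of_surjective (Ideal.Quotient.factor hJQ) (Ideal.Quotient.factor_surjective _)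
  -- the intersection has a reduced point
  let c := pullback.fst ιY ιZ ≫ ιY
  haveI : IsClosedImmersion c := inferInstance
  obtain ⟨w, hw, -⟩ := Scheme.Pullback.exists_preimage_pullback (f := ιY) (g := ιZ) y₀ z₀ (hy₀.trans hz₀.symm)
  have hcw : c w = τ := by rw [show c w = ιY (pullback.fst ιY ιZ w) from rfl, hw, hy₀]
  have hmult' := hmult
  rw [← hcw, BivarOps.subschemeFun_eq c w (by rw [hcw]; exact hτ)] at hmult'
  have hlen : Module.length ((pullback ιY ιZ).presheaf.stalk w) ((pullback ιY ιZ).presheaf.stalk w) = 1 := by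
    have h1 : (Module.length ((pullback ιY ιZ).presheaf.stalk w) ((pullback ιY ιZ).presheaf.stalk w)).toNat = 1 := by
      exact_mod_cast hmult'
    exact (ENat.toNat_eq_iff one_ne_zero).1 h1
  have hsup : I ⊔ J = IsLocalRing.maximalIdeal (X.presheaf.stalk τ) := by
    rw [hI, hJ, ← DiagTor.stalkIdeal_sup _ _ hsY hsZ, ← BivarOps.ker_fst_comp]
    have key : IntMult.stalkIdeal c.ker (c w) = IsLocalRing.maximalIdeal (X.presheaf.stalk (c w)) := by
      rw [DiagTor.stalkIdeal_ker c w]
      haveI := Module.length_eq_one_iff.1 hlen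
      haveI : (⊥ : Ideal ((pullback ιY ιZ).presheaf.stalk w)).IsMaximal := Ideal.isMaximal_def.2 isCoatom_bot
      exact IsLocalRing.eq_maximalIdeal (show (RingHom.ker (c.stalkMap w).hom).IsMaximal from
        Ideal.comap_isMaximal_of_surjective _ (c.stalkMap_surjective w))
    exact hcw ▸ key
  haveI : IsLocalRing (X.presheaf.stalk τ ⧸ I) :=
    haveI := Ideal.Quotient.nontrivial_iff.2 fun h => (inferInstance : (CDivNormal.genPrime hξτ).IsPrime).ne_top
      (top_le_iff.1 (h.ge.trans hIP))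
    IsLocalRing.of_surjective' _ Ideal.Quotient.mk_surjective
  haveI : IsLocalRing (X.presheaf.stalk τ ⧸ J) :=
    haveI := Ideal.Quotient.nontrivial_iff.2 fun h => (inferInstance : (CDivNormal.genPrime hητ).IsPrime).ne_top
      (top_le_iff.1 (h.ge.trans hJQ))
    IsLocalRing.of_surjective' _ Ideal.Quotient.mk_surjective
  obtain ⟨hregI, hregJ⟩ := BivarOps.isRegularLocalRing_quot_of_sup_eq I J hsup _ _ _ hA hdI hdJ (by omega)
  haveI := hregI
  haveI := hregJ
  rw [hξr] at haP
  rw [hηs] at hbQ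
  have eI := BivarOps.eq_of_dim_quot I (CDivNormal.genPrime hξτ) hIP _ haP hdI
  have eJ := BivarOps.eq_of_dim_quot J (CDivNormal.genPrime hητ) hJQ _ hbQ hdJ
  refine ⟨?_, fun y hy => ?_, fun z hz => ?_⟩
  · -- one pair, of multiplicity one
    have h1 : ∀ x : X, x ⤳ τ → Cyc.subschemeFun δ r ιY x ≠ 0 → x = ξ := by
      intro x hx hne
      obtain ⟨hxr, y, hy⟩ := BivarOps.exists_of_subschemeFun_ne hne
      have := (BivarOps.mem_support_iff_le_genPrime _ hx).1 (ιY.range_subset_ker_support ⟨y, hy⟩)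
      rw [← hI, eI] at this
      exact (CycDim.eq_of_delta_le hdim (CDivNormal.specializes_of_le hξτ hx this) (by omega)).symm
    have h2 : ∀ x : X, x ⤳ τ → Cyc.subschemeFun δ s ιZ x ≠ 0 → x = η := by
      intro x hx hne
      obtain ⟨hxs, z, hz⟩ := BivarOps.exists_of_subschemeFun_ne hne
      have := (BivarOps.mem_support_iff_le_genPrime _ hx).1 (ιZ.range_subset_ker_support ⟨z, hz⟩)
      rw [← hJ, eJ] at this
      exact (CycDim.eq_of_delta_le hdim (CDivNormal.specializes_of_le hητ hx this) (by omega)).symm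
    have c1 : Cyc.subschemeFun δ r ιY ξ = 1 := by
      rw [← hyξ, BivarOps.subschemeFun_eq ιY yξ (by rw [hyξ]; exact hξr), BivarOps.length_stalk_eq_one ιY yξ ?_]
      · rfl
      · have e : IntMult.stalkIdeal ιY.ker ξ = IsLocalRing.maximalIdeal (X.presheaf.stalk ξ) := by
          rw [BivarOps.stalkIdeal_map_spz _ hξτ hsξ hsY, ← hI, eI, BivarOps.map_genPrime]
        exact hyξ.symm ▸ e
    have c2 : Cyc.subschemeFun δ s ιZ η = 1 := by
      rw [← hzη, BivarOps.subschemeFun_eq ιZ zη (by rw [hzη]; exact hηs), BivarOps.length_stalk_eq_one ιZ zη ?_]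
      · rfl
      · have e : IntMult.stalkIdeal ιZ.ker η = IsLocalRing.maximalIdeal (X.presheaf.stalk η) := by
          rw [BivarOps.stalkIdeal_map_spz _ hητ hsη hsZ, ← hJ, eJ, BivarOps.map_genPrime]
        exact hzη.symm ▸ e
    rw [IntMult.interProd, finsum_eq_single _ ⟨(ξ, η), hξτ, hητ, show δ ξ + δ η - n = δ τ by omega⟩ ?_]
    · show Cyc.subschemeFun δ r ιY ξ * Cyc.subschemeFun δ s ιZ η *
        IntMult.mult (IntMult.ptIdeal ξ) (IntMult.ptIdeal η) τ = 1
      rw [c1, c2, one_mul, one_mul, IntMult.mult, BivarOps.stalkIdeal_ptIdeal hξτ, BivarOps.stalkIdeal_ptIdeal hητ,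
        ← eI, ← eJ]
      exact BivarOps.chi_eq_one J I (sup_comm J I ▸ hsup) _ _ _ hA hdJ hdI (by omega)
    · intro p hp
      by_contra hne
      refine hp (Subtype.ext (Prod.ext (h1 _ p.2.1 (left_ne_zero_of_mul (left_ne_zero_of_mul hne)))
        (h2 _ p.2.2.1 (right_ne_zero_of_mul (left_ne_zero_of_mul hne)))))
  · obtain rfl : y = y₀ := ιY.isClosedEmbedding.injective (hy.trans hy₀.symm)
    subst hy
    haveI : IsRegularLocalRing (X.presheaf.stalk (ιY y) ⧸ RingHom.ker (ιY.stalkMap y).hom) := by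
      rw [← DiagTor.stalkIdeal_ker ιY y]; exact hregI
    exact IsRegularLocalRing.of_ringEquiv (RingHom.quotientKerEquivOfSurjective (ιY.stalkMap_surjective y))
  · obtain rfl : z = z₀ := ιZ.isClosedEmbedding.injective (hz.trans hz₀.symm)
    subst hz
    haveI : IsRegularLocalRing (X.presheaf.stalk (ιZ z) ⧸ RingHom.ker (ιZ.stalkMap z).hom) := by
      rw [← DiagTor.stalkIdeal_ker ιZ z]; exact hregJ
    exact IsRegularLocalRing.of_ringEquiv (RingHom.quotientKerEquivOfSurjective (ιZ.stalkMap_surjective z))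

end Groth.Agent.S1954
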