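import Groth.Statements.S19540
import Mathlib

set_option autoImplicit false
open CategoryTheory CategoryTheory.Limits Opposite
universe w v u
open CohSite

namespace Groth.Agent.S19540


section helpers

lemma exact_iff_lift_surjective {C : Type u} [Category.{v} C] (J : GrothendieckTopology C)
    [HasSheafify J AddCommGrpCat.{w}] (S : ShortComplex (Sheaf J AddCommGrpCat.{w})) (U : C) :
    (S.map (sheafToPresheaf J AddCommGrpCat.{w} ⋙
        (evaluation Cᵒᵖ AddCommGrpCat.{w}).obj (op U))).Exact ↔
      Function.Surjective ((Limits.kernel.lift S.g S.f S.zero).hom.app (op U)) := by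
  let Ev := sheafToPresheaf J AddCommGrpCat.{w} ⋙ (evaluation Cᵒᵖ AddCommGrpCat.{w}).obj (op U)
  let K := ShortComplex.mk (Limits.kernel.ι S.g) S.g (Limits.kernel.condition S.g)
  have hK : K.Exact := ShortComplex.exact_of_f_is_kernel _ (Limits.kernelIsKernel S.g)
  have hKev : (K.map Ev).Exact := hK.map_of_mono_of_preservesKernel Ev inferInstance inferInstance
  haveI : Mono (K.map Ev).f := inferInstanceAs (Mono (Ev.map (Limits.kernel.ι S.g)))
  have hinj : Function.Injective (Ev.map (Limits.kernel.ι S.g)) :=
    (AddCommGrpCat.mono_iff_injective _).1 (inferInstanceAs (Mono (K.map Ev).f))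
  have hfac : ∀ y, Ev.map (Limits.kernel.ι S.g) (Ev.map (Limits.kernel.lift S.g S.f S.zero) y) =
      Ev.map S.f y := by
    intro y
    rw [← ConcreteCategory.comp_apply, ← Ev.map_comp, Limits.kernel.lift_ι]
  rw [ShortComplex.ab_exact_iff]
  constructor
  · intro h z
    have h0 : Ev.map S.g (Ev.map (Limits.kernel.ι S.g) z) = 0 := by
      rw [← ConcreteCategory.comp_apply, ← Ev.map_comp, Limits.kernel.condition, Ev.map_zero]
      rfl
    obtain ⟨y, hy⟩ := h _ h0
    exact ⟨y, hinj ((hfac y).trans hy)⟩
  · intro h x hx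
    obtain ⟨z, hz⟩ := (ShortComplex.ab_exact_iff _).1 hKev x hx
    obtain ⟨y, hy⟩ := h z
    refine ⟨y, ?_⟩
    refine Eq.trans (hfac y).symm ?_
    show Ev.map (Limits.kernel.ι S.g) _ = x
    rw [← hz]
    exact congrArg _ hy

lemma isLocallySurjective_of_cover {C : Type u} [Category.{v} C] (J : GrothendieckTopology C)
    (B : C → Prop)
    (hcov : ∀ V : C, ∃ S : Sieve V, S ∈ J V ∧ ∀ ⦃W : C⦄ (f : W ⟶ V), S.arrows f →
      ∃ (U : C) (g : W ⟶ U) (h : U ⟶ V), B U ∧ g ≫ h = f)
    {P Q : Sheaf J AddCommGrpCat.{w}} (φ : P ⟶ Q)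
    (h : ∀ U, B U → Function.Surjective (φ.hom.app (op U))) :
    Presheaf.IsLocallySurjective J φ.hom where
  imageSieve_mem {V} x := by
    obtain ⟨T, hT, hTfac⟩ := hcov V
    refine J.superset_covering ?_ hT
    intro W f hf
    obtain ⟨U, g, q, hU, rfl⟩ := hTfac f hf
    obtain ⟨y, hy⟩ := h U hU (Q.obj.map q.op x)
    refine ⟨P.obj.map g.op y, ?_⟩
    rw [NatTrans.naturality_apply φ.hom g.op y, hy, op_comp, Functor.map_comp,
      ConcreteCategory.comp_apply]

end helpers

/-- Let (C, J) be a site and B a class of objects of C, each weakly contractible (every epimorphism of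
sheaves of sets, valued in a fixed universe, is surjective on sections over it), such that every
object V of C has a covering sieve all of whose arrows factor through some object of B. Then a
three-term complex F ⟶ G ⟶ H of abelian sheaves on (C, J) is exact if and only if for every U in B
the sequence of section groups F(U) ⟶ G(U) ⟶ H(U) is exact. (The published statement is for sheaves
of modules over a sheaf of rings O; this row is the case of the constant sheaf of rings ℤ, i.e.
abelian sheaves, to which exactness questions for O-modules reduce. The universe set-up assumes that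
abelian sheafification exists and inverts exactly the locally bijective maps, as on any small site.) -/
theorem result
    {C : Type u} [Category.{v} C] (J : GrothendieckTopology C) [HasSheafify J AddCommGrpCat.{w}]
    [J.WEqualsLocallyBijective AddCommGrpCat.{w}]
    (B : C → Prop)
    (hB : ∀ U : C, B U → ∀ (P Q : Sheaf J (Type w)) (ψ : P ⟶ Q), Epi ψ → Function.Surjective (ψ.hom.app (op U)))
    (hcov : ∀ V : C, ∃ S : Sieve V, S ∈ J V ∧ ∀ ⦃W : C⦄ (f : W ⟶ V), S.arrows f →
      ∃ (U : C) (g : W ⟶ U) (h : U ⟶ V), B U ∧ g ≫ h = f)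
    (S : ShortComplex (Sheaf J AddCommGrpCat.{w})) :
    S.Exact ↔ ∀ U : C, B U →
      (S.map (sheafToPresheaf J AddCommGrpCat.{w} ⋙ (evaluation Cᵒᵖ AddCommGrpCat.{w}).obj (op U))).Exact := by
  rw [S.exact_iff_epi_kernel_lift, ← Sheaf.isLocallySurjective_iff_epi']
  constructor
  · intro hls U hU
    rw [exact_iff_lift_surjective]
    let φ := (sheafCompose J (forget AddCommGrpCat.{w})).map (Limits.kernel.lift S.g S.f S.zero)
    haveI : Sheaf.IsLocallySurjective φ := inferInstance
    exact hB U hU _ _ φ inferInstance
  · intro h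
    exact isLocallySurjective_of_cover J B hcov _
      (fun U hU => (exact_iff_lift_surjective J S U).1 (h U hU))

end Groth.Agent.S19540
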