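import Groth.Statements.S9566
import Mathlib
import Groth.Agent.FieldPow.Etale

set_option autoImplicit false
universe u
open EtLocal

namespace Groth.Agent.S9566

open AlgebraicGeometry CategoryTheory in
/-- Let Y be a locally Noetherian scheme, f : X ⟶ Y locally of finite type and x a point of X with image
y. Then f is étale on some open neighbourhood of x if and only if the map of local rings O_{Y,y} →
O_{X,x} is an étale homomorphism of local rings: it is flat, the maximal ideal of O_{Y,y} generates
that of O_{X,x}, and the residue field of x is a finite separable extension of that of y (O_{X,x} is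
automatically essentially of finite type over O_{Y,y}). -/
theorem result {X Y : Scheme.{u}} (f : X ⟶ Y)
    [LocallyOfFiniteType f] [IsLocallyNoetherian Y] (x : X) :
    (∃ U : X.Opens, x ∈ U ∧ Etale (U.ι ≫ f)) ↔
      ((f.stalkMap x).hom.Flat ∧
        (IsLocalRing.maximalIdeal (Y.presheaf.stalk (f.base x))).map (f.stalkMap x).hom =
          IsLocalRing.maximalIdeal (X.presheaf.stalk x) ∧
        letI := (f.residueFieldMap x).hom.toAlgebra
        Module.Finite (Y.residueField (f.base x)) (X.residueField x) ∧
          Algebra.IsSeparable (Y.residueField (f.base x)) (X.residueField x)) := by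
  algebraize [(f.stalkMap x).hom]
  letI := (f.residueFieldMap x).hom.toAlgebra
  haveI hloc : IsLocalHom (algebraMap (Y.presheaf.stalk (f x)) (X.presheaf.stalk x)) :=
    inferInstanceAs <| IsLocalHom (f.stalkMap x).hom
  haveI : Algebra.EssFiniteType (Y.presheaf.stalk (f x)) (X.presheaf.stalk x) := by
    rw [← RingHom.essFiniteType_algebraMap, RingHom.algebraMap_toAlgebra]
    exact LocallyOfFiniteType.stalkMap f x
  have halg : (inferInstance : Algebra (IsLocalRing.ResidueField (Y.presheaf.stalk (f x)))
      (IsLocalRing.ResidueField (X.presheaf.stalk x))) = (f.residueFieldMap x).hom.toAlgebra := by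
    refine Algebra.algebra_ext _ _ fun z => ?_
    obtain ⟨z, rfl⟩ := IsLocalRing.residue_surjective z
    rfl
  haveI : LocallyOfFinitePresentation f := by
    rw [HasRingHomProperty.iff_appLE (P := @LocallyOfFinitePresentation)]
    intro U V e
    haveI := IsLocallyNoetherian.component_noetherian (X := Y) U
    exact RingHom.FinitePresentation.of_finiteType.mp
      (HasRingHomProperty.appLE @LocallyOfFiniteType f inferInstance U V e)
  constructor
  · rintro ⟨U, hxU, hU⟩
    haveI := hU
    obtain ⟨x', rfl⟩ : x ∈ Set.range U.ι := by rw [Scheme.Opens.range_ι]; exact hxU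
    have h1 : (f.stalkMap (U.ι x')).hom.Flat ∧ (f.stalkMap (U.ι x')).hom.FormallyUnramified := by
      have h2 := Flat.stalkMap (U.ι ≫ f) x'
      have h3 := FormallyUnramified.stalkMap (U.ι ≫ f) x'
      rw [Scheme.Hom.stalkMap_comp] at h2 h3
      exact ⟨(RingHom.Flat.respectsIso.cancel_right_isIso _ _).mp h2,
        (RingHom.FormallyUnramified.respectsIso.cancel_right_isIso _ _).mp h3⟩
    haveI : Algebra.FormallyUnramified (Y.presheaf.stalk (f (U.ι x'))) (X.presheaf.stalk (U.ι x')) :=
      RingHom.formallyUnramified_algebraMap.1 h1.2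
    refine ⟨h1.1, Algebra.FormallyUnramified.map_maximalIdeal, ?_⟩
    obtain ⟨hm, hs⟩ : Module.Finite (IsLocalRing.ResidueField (Y.presheaf.stalk (f (U.ι x'))))
        (IsLocalRing.ResidueField (X.presheaf.stalk (U.ι x'))) ∧
      Algebra.IsSeparable (IsLocalRing.ResidueField (Y.presheaf.stalk (f (U.ι x'))))
        (IsLocalRing.ResidueField (X.presheaf.stalk (U.ι x'))) := ⟨inferInstance, inferInstance⟩
    exact ⟨by convert! hm using 1; all_goals exact congrArg (fun a => @Algebra.toModule _ _ _ _ a) halg.symm, by convert! hs using 1; all_goals exact halg.symm⟩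
  · rintro ⟨hflat, hmax, -, hsep⟩
    refine FieldPow.exists_etale_nhd f x hflat ?_
    haveI : Algebra.IsSeparable (IsLocalRing.ResidueField (Y.presheaf.stalk (f x)))
        (IsLocalRing.ResidueField (X.presheaf.stalk x)) := by convert! hsep
    exact RingHom.formallyUnramified_algebraMap.2 (Algebra.FormallyUnramified.of_map_maximalIdeal hmax)

end Groth.Agent.S9566
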