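import Groth.Statements.S19541
import Groth.Agent.S9566
import Groth.Agent.FlatDim.DimAdd
import Groth.Agent.W7Cover.Basic
import Groth.Agent.SmLocalST.SmoothField
import Groth.Agent.RegLoc.Normal

set_option autoImplicit false
universe u
open CategoryTheory CategoryTheory.Limits AlgebraicGeometry TopologicalSpace
open Curves

set_option backward.isDefEq.respectTransparency false
set_option backward.isDefEq.respectTransparency.types false

open Groth.Agent CategoryTheory

namespace Groth.Agent.S19541

/-- Pointwise criterion for a map of smooth curves to be étale: let k be an algebraically closed field,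
X and Y integral schemes each smooth, separated and quasi-compact over Spec k and of dimension one,
φ : X → Y a morphism over k and x a closed point of X. Then φ is étale at x (the restriction of φ to
some open neighbourhood of x is étale) if and only if the induced homomorphism of stalks O_{Y,φ(x)}
→ O_{X,x} carries the maximal ideal of the discrete valuation ring O_{Y,φ(x)} to an ideal generating
the maximal ideal of O_{X,x}; equivalently a uniformiser at φ(x) pulls back to a uniformiser at x.
(The published statement is for smooth curves, which are in addition geometrically connected;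
integrality is what is used. For a constant φ both sides fail.) -/
theorem result (k : Type u) [Field k] [IsAlgClosed k] {X Y : Scheme.{u}}
    (pX : X ⟶ Spec (CommRingCat.of k)) (pY : Y ⟶ Spec (CommRingCat.of k)) (φ : X ⟶ Y) (w : φ ≫ pY = pX)
    [IsIntegral X] [Smooth pX] [IsSeparated pX] [QuasiCompact pX] (hdX : topologicalKrullDim X = 1)
    [IsIntegral Y] [Smooth pY] [IsSeparated pY] [QuasiCompact pY] (hdY : topologicalKrullDim Y = 1)
    (x : X) (hx : IsClosed ({x} : Set X)) :
    (∃ U : X.Opens, x ∈ U ∧ Etale (U.ι ≫ φ)) ↔
      Ideal.map (φ.stalkMap x).hom (IsLocalRing.maximalIdeal (Y.presheaf.stalk (φ.base x))) =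
        IsLocalRing.maximalIdeal (X.presheaf.stalk x) := by
  haveI : LocallyOfFiniteType (φ ≫ pY) := by rw [w]; infer_instance
  haveI : LocallyOfFiniteType φ := locallyOfFiniteType_of_comp φ pY
  haveI : IsLocallyNoetherian Y := LocallyOfFiniteType.isLocallyNoetherian pY
  haveI : JacobsonSpace Y := LocallyOfFiniteType.jacobsonSpace pY
  rw [S9566.result φ x]
  refine ⟨fun h => h.2.1, fun h => ?_⟩
  have hy : IsClosed ({φ x} : Set Y) := φ.closePoints_subset_preimage_closedPoints hx
  -- flatness
  have hflat : (φ.stalkMap x).hom.Flat := by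
    haveI := SmLocalST.isRegularLocalRing_stalk_of_smooth_field pY (φ x)
    haveI : IsIntegrallyClosed (Y.presheaf.stalk (φ x)) := RegLoc.isIntegrallyClosed
    haveI := W7Cover.isDedekindDomain_stalk hdY.le (φ x)
    have hinj : Function.Injective (φ.stalkMap x).hom := by
      rw [RingHom.injective_iff_ker_eq_bot]
      by_contra hne
      have hmax : RingHom.ker (φ.stalkMap x).hom = IsLocalRing.maximalIdeal (Y.presheaf.stalk (φ x)) :=
        IsLocalRing.eq_maximalIdeal ((RingHom.ker_isPrime (φ.stalkMap x).hom).isMaximal hne)
      have hbot : IsLocalRing.maximalIdeal (X.presheaf.stalk x) = ⊥ := by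
        rw [← h, Ideal.map_eq_bot_iff_le_ker]
        exact hmax.ge
      have hF : IsField (X.presheaf.stalk x) := (IsLocalRing.isField_iff_maximalIdeal_eq).2 hbot
      have hsub : ∀ a b : PrimeSpectrum (X.presheaf.stalk x), a = b := fun a b => by
        have hz : ∀ c : PrimeSpectrum (X.presheaf.stalk x), c.asIdeal = ⊥ := fun c =>
          eq_bot_iff.2 (hbot ▸ IsLocalRing.le_maximalIdeal c.2.ne_top)
        exact PrimeSpectrum.ext ((hz a).trans (hz b).symm)
      obtain ⟨a, ha⟩ := (Scheme.range_fromSpecStalk (X := X) (x := x)).ge (genericPoint_specializes x)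
      obtain ⟨b, hb⟩ := (Scheme.range_fromSpecStalk (X := X) (x := x)).ge specializes_rfl
      have hgx : genericPoint X = x := ha.symm.trans ((congrArg (fun c => X.fromSpecStalk x c) (hsub a b)).trans hb)
      haveI : Subsingleton X := ⟨fun p q => by
        have : ∀ r : X, r = x := fun r => hx.closure_eq.le ((hgx ▸ genericPoint_specializes r).mem_closure)
        rw [this p, this q]⟩
      have h0 : topologicalKrullDim X ≤ 0 := by
        obtain ⟨c, hc⟩ := (FlatDim.natCast_le_dim_univ_iff pX).1 (show ((1 : ℕ) : WithBot ℕ∞) ≤ topologicalKrullDim X by rw [hdX]; simp)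
        obtain ⟨ch, -, hcc⟩ := (FlatDim.pdim_spec pX c).2.1
        exact absurd (Subsingleton.elim _ _) (hcc ⟨0, by omega⟩).2
      rw [hdX] at h0
      exact absurd h0 (by norm_num)
    algebraize [(φ.stalkMap x).hom]
    haveI : Module.IsTorsionFree (Y.presheaf.stalk (φ x)) (X.presheaf.stalk x) :=
      Module.isTorsionFree_iff_smul_eq_zero.mpr fun c a h => by
        rw [Algebra.smul_def, mul_eq_zero] at h
        exact h.imp (fun h => hinj (h.trans (map_zero _).symm)) id
    exact (inferInstance : Module.Flat (Y.presheaf.stalk (φ x)) (X.presheaf.stalk x))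
  -- residue fields
  have hres : (residueFieldIsoBase pY (φ x) hy).inv ≫ φ.residueFieldMap x = (residueFieldIsoBase pX x hx).inv := by
    apply Spec.map_injective
    rw [Spec.map_comp, SpecMap_residueFieldIsoBase_inv, SpecMap_residueFieldIsoBase_inv,
      Scheme.Hom.SpecMap_residueFieldMap_fromSpecResidueField_assoc, w]
  haveI : IsIso (φ.residueFieldMap x) := by
    rw [← (IsIso.inv_comp_eq _).2 hres.symm] at *
    infer_instance
  refine ⟨hflat, h, ?_⟩
  letI := (φ.residueFieldMap x).hom.toAlgebra
  have hsurj : Function.Surjective (algebraMap (Y.residueField (φ x)) (X.residueField x)) :=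
    (ConcreteCategory.bijective_of_isIso (φ.residueFieldMap x)).2
  refine ⟨Module.Finite.of_surjective (Algebra.linearMap (Y.residueField (φ x)) (X.residueField x)) hsurj, ⟨fun z => ?_⟩⟩
  obtain ⟨c, rfl⟩ := hsurj z
  exact isSeparable_algebraMap c

end Groth.Agent.S19541
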