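import Groth.Statements.S19546
import Mathlib

set_option autoImplicit false
universe u v w
open scoped TensorProduct
open VBCurve

namespace Groth.Agent.S19546

section Segre

open MvPolynomial
open scoped Classical

noncomputable section

variable (a b : ℕ)

/-- The map whose range is the coordinate ring of the cone of rank one matrices. -/
def segre : MvPolynomial (Fin a × Fin b) ℂ →ₐ[ℂ] MvPolynomial (Fin a ⊕ Fin b) ℂ :=
  aeval fun p => X (Sum.inl p.1) * X (Sum.inr p.2)

/-- Setting a set of variables to zero. -/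
def kill (s : Set (Fin a ⊕ Fin b)) :
    MvPolynomial (Fin a ⊕ Fin b) ℂ →ₐ[ℂ] MvPolynomial (Fin a ⊕ Fin b) ℂ :=
  aeval fun v => if v ∈ s then 0 else X v

theorem kill_comp {s s' : Set (Fin a ⊕ Fin b)}
    (h : s ⊆ s') : (kill a b s').comp (kill a b s) = kill a b s' := by
  refine algHom_ext fun v => ?_
  by_cases hv : v ∈ s
  · simp [kill, hv, h hv]
  · simp [kill, hv]

/-- The generators of the cone ring. -/
def gen (p : Fin a × Fin b) : (segre a b).range := (segre a b).rangeRestrict (X p)

theorem gen_val (p : Fin a × Fin b) :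
    ((gen a b p : (segre a b).range) : MvPolynomial (Fin a ⊕ Fin b) ℂ) =
      X (Sum.inl p.1) * X (Sum.inr p.2) := by
  show segre a b (X p) = _
  simp [segre]

/-- The prime of the cone ring cut out by killing variables. -/
def cut (s : Set (Fin a ⊕ Fin b)) : Ideal (segre a b).range :=
  RingHom.ker ((kill a b s).comp (segre a b).range.val).toRingHom

instance (s : Set (Fin a ⊕ Fin b)) : (cut a b s).IsPrime :=
  RingHom.ker_isPrime _

theorem cut_mono {s s' : Set (Fin a ⊕ Fin b)}
    (h : s ⊆ s') : cut a b s ≤ cut a b s' := fun x hx => by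
  rw [cut, RingHom.mem_ker] at hx ⊢
  change kill a b s' (x : MvPolynomial (Fin a ⊕ Fin b) ℂ) = 0
  change kill a b s (x : MvPolynomial (Fin a ⊕ Fin b) ℂ) = 0 at hx
  rw [← kill_comp a b h, AlgHom.comp_apply, hx, map_zero]

theorem gen_mem_cut {s : Set (Fin a ⊕ Fin b)} (p : Fin a × Fin b) :
    gen a b p ∈ cut a b s ↔ Sum.inl p.1 ∈ s ∨ Sum.inr p.2 ∈ s := by
  rw [cut, RingHom.mem_ker]
  change kill a b s ((gen a b p : (segre a b).range) : MvPolynomial (Fin a ⊕ Fin b) ℂ) = 0 ↔ _
  rw [gen_val]
  by_cases h1 : Sum.inl p.1 ∈ s <;> by_cases h2 : Sum.inr p.2 ∈ s <;> simp [kill, h1, h2, X_ne_zero]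

/-- The stages of the chain of primes. -/
def stage (t : ℕ) : Set (Fin a ⊕ Fin b) :=
  {v | Sum.elim (fun i : Fin a => i.1 < min t (a - 1)) (fun j : Fin b => j.1 < t - (a - 1)) v}


theorem stage_mono {t t' : ℕ} (h : t ≤ t') : stage a b t ⊆ stage a b t' := by
  rintro (i | j) hv
  · change i.1 < _ at hv; change i.1 < _; omega
  · change j.1 < _ at hv; change j.1 < _; omega

theorem cut_lt (ha : 0 < a) (hb : 0 < b) {t : ℕ} (ht : t < a + b - 1) :
    cut a b (stage a b t) < cut a b (stage a b (t + 1)) := by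
  refine lt_of_le_not_ge (cut_mono a b (stage_mono a b (Nat.le_succ t))) fun hle => ?_
  rcases lt_or_ge t (a - 1) with h | h
  · have hmem : gen a b (⟨t, by omega⟩, ⟨b - 1, by omega⟩) ∈ cut a b (stage a b (t + 1)) :=
      (gen_mem_cut a b _).mpr (Or.inl (show t < min (t + 1) (a - 1) by omega))
    rcases (gen_mem_cut a b _).mp (hle hmem) with h' | h'
    · change t < min t (a - 1) at h'; omega
    · change b - 1 < t - (a - 1) at h'; omega
  · have hmem : gen a b (⟨a - 1, by omega⟩, ⟨t - (a - 1), by omega⟩) ∈ cut a b (stage a b (t + 1)) :=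
      (gen_mem_cut a b _).mpr (Or.inr (show t - (a - 1) < t + 1 - (a - 1) by omega))
    rcases (gen_mem_cut a b _).mp (hle hmem) with h' | h'
    · change a - 1 < min t (a - 1) at h'; omega
    · change t - (a - 1) < t - (a - 1) at h'; omega

theorem le_height_cut (ha : 0 < a) (hb : 0 < b) :
    ((a + b - 1 : ℕ) : ℕ∞) ≤ (cut a b (stage a b (a + b - 1))).height := by
  let s : LTSeries (PrimeSpectrum (segre a b).range) :=
    ⟨a + b - 1, fun t => ⟨cut a b (stage a b t.1), inferInstance⟩,
      fun t => cut_lt a b ha hb t.2⟩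
  have h : (s.length : ℕ∞) ≤ Order.height s.last := Order.length_le_height_last
  rw [← PrimeSpectrum.height_eq_orderHeight] at h
  exact h

theorem add_le_card {r : ℕ} (ha : 0 < a) (hb : 0 < b) (c : Fin r → Fin a × Fin b → ℂ)
    (hc : ∀ (α : Fin a → ℂ) (β : Fin b → ℂ), α ≠ 0 → β ≠ 0 →
      ∃ l, ∑ p, c l p * (α p.1 * β p.2) ≠ 0) :
    a + b ≤ r + 1 := by
  classical
  let R := (segre a b).range
  have : Algebra.FiniteType ℂ R :=
    Algebra.FiniteType.of_surjective (segre a b).rangeRestrict (AlgHom.rangeRestrict_surjective _)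
  have : IsNoetherianRing R := Algebra.FiniteType.isNoetherianRing ℂ R
  have : IsJacobsonRing R := isJacobsonRing_of_finiteType (A := ℂ)
  let P := cut a b (stage a b (a + b - 1))
  have hgen : ∀ p, gen a b p ∈ P := fun p =>
    (gen_mem_cut a b p).mpr (Or.inr (show p.2.1 < a + b - 1 - (a - 1) by omega))
  let f : Fin r → R := fun l => ∑ p, algebraMap ℂ R (c l p) * gen a b p
  let I : Ideal R := Ideal.span (Set.range f)
  have hIP : I ≤ P := Ideal.span_le.mpr (by
    rintro _ ⟨l, rfl⟩
    exact P.sum_mem fun p _ => P.mul_mem_left _ (hgen p))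
  have hPn : P ≤ I.jacobson := by
    refine le_sInf fun n hn => ?_
    obtain ⟨hIn, hn⟩ := hn
    letI := Ideal.Quotient.field n
    have : Algebra.FiniteType ℂ (R ⧸ n) :=
      Algebra.FiniteType.of_surjective (Ideal.Quotient.mkₐ ℂ n) Ideal.Quotient.mk_surjective
    have : Module.Finite ℂ (R ⧸ n) := finite_of_finite_type_of_isJacobsonRing ℂ (R ⧸ n)
    have hbij : Function.Bijective (algebraMap ℂ (R ⧸ n)) :=
      IsAlgClosed.algebraMap_bijective_of_isIntegral
    let e : ℂ ≃ₐ[ℂ] (R ⧸ n) := AlgEquiv.ofBijective (Algebra.ofId ℂ _) hbij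
    let χ : R →ₐ[ℂ] ℂ := e.symm.toAlgHom.comp (Ideal.Quotient.mkₐ ℂ n)
    have hχ : ∀ x, χ x = 0 → x ∈ n := fun x hx => by
      rw [← Ideal.Quotient.eq_zero_iff_mem]
      exact e.symm.injective (hx.trans (map_zero e.symm).symm)
    have hz : ∀ p q : Fin a × Fin b,
        χ (gen a b p) * χ (gen a b q) = χ (gen a b (p.1, q.2)) * χ (gen a b (q.1, p.2)) := by
      intro p q
      rw [← map_mul, ← map_mul]
      congr 1
      refine Subtype.ext ?_
      rw [MulMemClass.coe_mul, MulMemClass.coe_mul, gen_val, gen_val, gen_val, gen_val]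
      ring
    have h0 : ∀ p, χ (gen a b p) = 0 := by
      by_contra hne
      push Not at hne
      obtain ⟨⟨i₀, j₀⟩, hne⟩ := hne
      let α : Fin a → ℂ := fun i => χ (gen a b (i, j₀))
      let β : Fin b → ℂ := fun j => χ (gen a b (i₀, j)) / χ (gen a b (i₀, j₀))
      obtain ⟨l, hl⟩ := hc α β (fun h => hne (congrFun h i₀))
        (fun h => one_ne_zero ((div_self hne).symm.trans (congrFun h j₀)))
      refine hl ?_
      have hfl : χ (f l) = 0 := by
        have : f l ∈ n := hIn (Ideal.subset_span ⟨l, rfl⟩)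
        show e.symm (Ideal.Quotient.mk n (f l)) = 0
        rw [Ideal.Quotient.eq_zero_iff_mem.mpr this, map_zero]
      rw [← hfl]
      simp only [f, map_sum, map_mul, AlgHom.commutes, Algebra.algebraMap_self, RingHom.id_apply]
      refine Finset.sum_congr rfl fun p _ => ?_
      congr 1
      simp only [α, β]
      rw [mul_div_assoc', div_eq_iff hne]
      exact (hz p (i₀, j₀)).symm
    intro x hx
    apply hχ
    obtain ⟨q, rfl⟩ := (segre a b).rangeRestrict_surjective x
    have h1 : χ.comp (segre a b).rangeRestrict = aeval (fun _ => (0 : ℂ)) :=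
      algHom_ext fun p => by simpa [gen] using h0 p
    have h2 : (kill a b (stage a b (a + b - 1))).comp ((segre a b).range.val.comp (segre a b).rangeRestrict) =
        (Algebra.ofId ℂ _).comp (aeval (fun _ => (0 : ℂ))) :=
      algHom_ext fun p => by
        have := hgen p
        rw [show P = cut a b _ from rfl, cut, RingHom.mem_ker] at this
        simpa [gen] using this
    have h3 := congrArg (fun F => F q) h2
    rw [show P = cut a b _ from rfl, cut, RingHom.mem_ker] at hx
    have h4 := congrArg (fun F => F q) h1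
    simp only [AlgHom.comp_apply] at h3 h4
    rw [h4]
    change kill a b _ ((segre a b).range.val ((segre a b).rangeRestrict q)) = 0 at hx
    rw [hx] at h3
    exact (algebraMap ℂ (MvPolynomial (Fin a ⊕ Fin b) ℂ)).injective (h3.symm.trans (map_zero _).symm)
  have hmin : P ∈ I.minimalPrimes := by
    refine ⟨⟨inferInstance, hIP⟩, fun q hq _ => ?_⟩
    calc P ≤ I.jacobson := hPn
      _ = I.radical := (IsJacobsonRing.out' I.radical I.radical_isRadical ▸ (Ideal.jacobson_radical_eq_jacobson (I := I))).symm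
      _ ≤ q := hq.1.radical_le_iff.mpr hq.2
  have h := (le_height_cut a b ha hb).trans
    ((Ideal.height_le_card_of_mem_minimalPrimes_span (Set.finite_range f) hmin).trans
      (Nat.cast_le.mpr (show (Set.range f).ncard ≤ r by
        rw [← Set.image_univ]
        exact (Set.ncard_image_le Set.finite_univ).trans (by simp [Set.ncard_univ]))))
  have h' : a + b - 1 ≤ r := Nat.cast_le.mp h
  omega

end

end Segre


/-- Let A, B, C be complex vector spaces, A and B finite-dimensional, and ν : A ⊗ B → C a linear map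
injective on each factor separately (b ↦ ν(a ⊗ b) is injective for every a ≠ 0 and a ↦ ν(a ⊗ b) is
injective for every b ≠ 0). Then the image of ν has dimension at least dim A + dim B - 1. (For A = 0
the separate-injectivity hypothesis is empty and the inequality fails as soon as dim B ≥ 2, so A and
B are taken nonzero here, the case the inequality is about.) -/
theorem result
    (A : Type u) (B : Type v) (C : Type w) [AddCommGroup A] [Module ℂ A] [AddCommGroup B] [Module ℂ B]
    [AddCommGroup C] [Module ℂ C] [FiniteDimensional ℂ A] [FiniteDimensional ℂ B]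
    [Nontrivial A] [Nontrivial B] (ν : A ⊗[ℂ] B →ₗ[ℂ] C)
    (hA : ∀ a : A, a ≠ 0 → Function.Injective (fun b : B => ν (a ⊗ₜ[ℂ] b)))
    (hB : ∀ b : B, b ≠ 0 → Function.Injective (fun a : A => ν (a ⊗ₜ[ℂ] b))) :
    Module.finrank ℂ A + Module.finrank ℂ B ≤ Module.finrank ℂ (LinearMap.range ν) + 1 := by
  classical
  let eA := Module.finBasis ℂ A
  let eB := Module.finBasis ℂ B
  let W := LinearMap.range ν
  have : Module.Finite ℂ W := Module.Finite.range ν
  let eW := Module.finBasis ℂ W
  refine add_le_card _ _ (r := Module.finrank ℂ W) Module.finrank_pos Module.finrank_pos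
    (fun l p => eW.repr (ν.rangeRestrict (eA p.1 ⊗ₜ eB p.2)) l) ?_
  intro α β hα hβ
  let x : A := ∑ i, α i • eA i
  let y : B := ∑ j, β j • eB j
  have hx : x ≠ 0 := fun h => hα (funext (Fintype.linearIndependent_iff.mp eA.linearIndependent α h))
  have hy : y ≠ 0 := fun h => hβ (funext (Fintype.linearIndependent_iff.mp eB.linearIndependent β h))
  have hne : ν.rangeRestrict (x ⊗ₜ y) ≠ 0 := fun h => by
    have h1 : ν (x ⊗ₜ y) = 0 := congrArg Subtype.val h
    have h2 : ν (x ⊗ₜ (0 : B)) = 0 := by simp
    exact hy (hA x hx (h1.trans h2.symm))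
  by_contra hall
  push Not at hall
  apply hne
  apply eW.repr.injective
  ext l
  rw [map_zero, Finsupp.zero_apply]
  rw [← hall l, Fintype.sum_prod_type]
  simp only [x, y, TensorProduct.sum_tmul, TensorProduct.tmul_sum, map_sum, ← TensorProduct.smul_tmul',
    TensorProduct.tmul_smul, map_smul, Finsupp.coe_finsetSum, Finset.sum_apply, Finsupp.smul_apply,
    smul_eq_mul, Finset.mul_sum]
  rw [Finset.sum_comm]
  refine Finset.sum_congr rfl fun i _ => Finset.sum_congr rfl fun j _ => ?_
  ring

end Groth.Agent.S19546
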