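import Groth.Statements.S19547
import Mathlib

set_option linter.style.haveILetI false

set_option autoImplicit false
universe u
open TensorProduct
open Desc

namespace Groth.Agent.S19547

/-- Let A → A' be a faithfully flat homomorphism of commutative rings, M' an A'-module and φ : M' ⊗_A A'
→ A' ⊗_A M' an isomorphism of (A' ⊗_A A')-modules for the diagonal actions (x ⊗ y)(u ⊗ z) = xu ⊗ yz
and (x ⊗ y)(z ⊗ u) = xz ⊗ yu, satisfying the cocycle condition φ_13 = φ_23 ∘ φ_12 between the three
pullbacks to A' ⊗_A A' ⊗_A A'. Here linearity over A' ⊗_A A' is stated on the generators x ⊗ 1 and 1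
⊗ y, and the cocycle condition on pure tensors u ⊗ a ⊗ b: writing φ(u ⊗ a) = Σ a_i ⊗ u_i, it says Σ
a_i ⊗ φ(u_i ⊗ b) = Σ b_j ⊗ a ⊗ u'_j where φ(u ⊗ b) = Σ b_j ⊗ u'_j. Let M = {u ∈ M' : φ(u ⊗ 1) = 1 ⊗
u}, an A-submodule of M'. Then the canonical map λ : A' ⊗_A M → M', x ⊗ u ↦ xu, is an isomorphism. -/
theorem result (A A' : Type u) [CommRing A] [CommRing A']
    [Algebra A A'] [Module.FaithfullyFlat A A'] (M' : Type u) [AddCommGroup M'] [Module A M']
    [Module A' M'] [IsScalarTower A A' M']
    (φ : M' ⊗[A] A' →ₗ[A] A' ⊗[A] M') (hφ : Function.Bijective φ)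
    (h1 : ∀ (x : A') (u : M') (z : A'),
      φ ((x • u) ⊗ₜ[A] z) = LinearMap.rTensor M' (LinearMap.mulLeft A x) (φ (u ⊗ₜ[A] z)))
    (h2 : ∀ (y : A') (u : M') (z : A'),
      φ (u ⊗ₜ[A] (y * z)) = LinearMap.lTensor A' (Algebra.lsmul A A M' y) (φ (u ⊗ₜ[A] z)))
    (hcoc : ∀ (u : M') (a b : A'),
      LinearMap.lTensor A' φ (TensorProduct.assoc A A' M' A' (LinearMap.rTensor A' φ ((u ⊗ₜ[A] a) ⊗ₜ[A] b))) =
        LinearMap.lTensor A' (TensorProduct.mk A A' M' a) (φ (u ⊗ₜ[A] b)))
    (M : Submodule A M') (hM : ∀ u : M', u ∈ M ↔ φ (u ⊗ₜ[A] (1 : A')) = (1 : A') ⊗ₜ[A] u) :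
    Function.Bijective
      ((TensorProduct.lift (Algebra.lsmul A A M').toLinearMap) ∘ₗ (LinearMap.lTensor A' M.subtype)) := by
  let μ : A' ⊗[A] M' →ₗ[A] M' := TensorProduct.lift (Algebra.lsmul A A M').toLinearMap
  let ψ : M' →ₗ[A] A' ⊗[A] M' := φ ∘ₗ (TensorProduct.mk A M' A').flip 1
  let ι : M' →ₗ[A] A' ⊗[A] M' := TensorProduct.mk A A' M' 1
  let ε : M' →ₗ[A] M' := μ ∘ₗ ψ
  have hμ : ∀ (c : A') (v : M'), μ (c ⊗ₜ v) = c • v := fun c v => rfl
  have hε : ∀ (x : A') (u : M'), ε (x • u) = x • ε u := by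
    intro x u
    show μ (φ ((x • u) ⊗ₜ 1)) = x • μ (φ (u ⊗ₜ 1))
    rw [h1]
    induction φ (u ⊗ₜ[A] (1 : A')) using TensorProduct.induction_on with
    | zero => simp
    | tmul c v => simp only [LinearMap.rTensor_tmul, LinearMap.mulLeft_apply, hμ, mul_smul]
    | add s t hs ht => simp only [map_add, hs, ht, smul_add]
  have hμz : ∀ (z : A') (t : A' ⊗[A] M'), μ (LinearMap.lTensor A' (Algebra.lsmul A A M' z) t) = z • μ t := by
    intro z t
    induction t using TensorProduct.induction_on with
    | zero => simp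
    | tmul c v => simp only [LinearMap.lTensor_tmul, hμ, Algebra.lsmul_coe]; rw [smul_comm]
    | add s t hs ht => simp only [map_add, hs, ht, smul_add]
  have hεid : ∀ u, ε u = u := by
    have hidem : ∀ u, ε (ε u) = ε u := by
      intro u
      have hc := congrArg (μ ∘ₗ LinearMap.lTensor A' μ) (hcoc u 1 1)
      simp only [LinearMap.rTensor_tmul, LinearMap.comp_apply] at hc
      have hl : ∀ s : A' ⊗[A] M', μ (LinearMap.lTensor A' μ (LinearMap.lTensor A' φ
          (TensorProduct.assoc A A' M' A' (s ⊗ₜ[A] (1 : A'))))) = ε (μ s) := by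
        intro s
        induction s using TensorProduct.induction_on with
        | zero => simp
        | tmul c v =>
          simp only [TensorProduct.assoc_tmul, LinearMap.lTensor_tmul, hμ]
          exact (hε c v).symm
        | add s t hs ht => simp only [TensorProduct.add_tmul, map_add, hs, ht]
      have hr : ∀ s : A' ⊗[A] M', μ (LinearMap.lTensor A' μ
          (LinearMap.lTensor A' (TensorProduct.mk A A' M' 1) s)) = μ s := by
        intro s
        induction s using TensorProduct.induction_on with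
        | zero => simp
        | tmul c v => simp [LinearMap.lTensor_tmul, TensorProduct.mk_apply, hμ]
        | add s t hs ht => simp only [map_add, hs, ht]
      rw [hl, hr] at hc
      exact hc
    have hsur : ∀ u, ∃ v, ε v = u := by
      intro u
      obtain ⟨w, hw⟩ := hφ.2 ((1 : A') ⊗ₜ u)
      have key : ∀ w : M' ⊗[A] A', ∃ v, ε v = μ (φ w) := by
        intro w
        induction w using TensorProduct.induction_on with
        | zero => exact ⟨0, by simp⟩
        | tmul v z =>
          refine ⟨z • v, ?_⟩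
          have := h2 z v 1
          rw [mul_one] at this
          rw [hε, this, hμz]; rfl
        | add s t hs ht =>
          obtain ⟨a, ha⟩ := hs
          obtain ⟨b, hb⟩ := ht
          exact ⟨a + b, by rw [map_add, ha, hb, map_add, map_add]⟩
      obtain ⟨v, hv⟩ := key w
      exact ⟨v, hv.trans (by rw [hw, hμ, one_smul])⟩
    intro u
    obtain ⟨v, rfl⟩ := hsur u
    exact hidem v
  let j := LinearMap.lTensor A' M.subtype
  have hj : Function.Injective j := Module.Flat.lTensor_preserves_injective_linearMap _ M.injective_subtype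
  have hexact : Function.Exact M.subtype (ψ - ι) := fun u => by
    rw [LinearMap.sub_apply, sub_eq_zero]
    exact (hM u).symm.trans ⟨fun h => ⟨⟨u, h⟩, rfl⟩, by rintro ⟨v, rfl⟩; exact v.2⟩
  have hex2 := Module.Flat.lTensor_exact A' hexact
  have hψ : ∀ t, ψ (μ (j t)) = j t := by
    intro t
    induction t using TensorProduct.induction_on with
    | zero => simp
    | tmul c m =>
      show φ ((c • (m : M')) ⊗ₜ 1) = c ⊗ₜ (m : M')
      rw [h1, (hM m).1 m.2, LinearMap.rTensor_tmul, LinearMap.mulLeft_apply, mul_one]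
    | add s t hs ht => simp only [map_add, hs, ht]
  refine ⟨fun a b hab => hj ?_, fun u => ?_⟩
  · rw [← hψ a, ← hψ b]
    exact congrArg ψ hab
  · obtain ⟨t, ht⟩ := (hex2 (ψ u)).1 <| by
      rw [LinearMap.lTensor_sub, LinearMap.sub_apply, sub_eq_zero]
      have hc := hcoc u 1 1
      have hl : ∀ s : A' ⊗[A] M', LinearMap.lTensor A' φ (TensorProduct.assoc A A' M' A' (s ⊗ₜ[A] (1 : A'))) =
          LinearMap.lTensor A' ψ s := by
        intro s
        induction s using TensorProduct.induction_on with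
        | zero => simp
        | tmul c v => rfl
        | add s t hs ht => simp only [TensorProduct.add_tmul, map_add, hs, ht]
      rw [LinearMap.rTensor_tmul, hl] at hc
      exact hc
    exact ⟨t, (congrArg μ ht).trans (hεid u)⟩

end Groth.Agent.S19547
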