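import Groth.Statements.S19551
import Mathlib

set_option autoImplicit false
universe u v w
open KronMod

namespace Groth.Agent.S19551

/-- Case of two arrows. Over an algebraically closed field K, if a Kronecker module f = (f_0, f_1) with
two arrows between spaces V and W of the same finite dimension k is semistable, then some linear
combination z_0 f_0 + z_1 f_1 of its arrows is a linear isomorphism V → W: for two arrows the
semistable locus of dimension vector (k, k) lies in the open set of modules whose generic
combination is invertible, for every k. (The published statement, over an algebraically closed field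
of characteristic zero, also covers the dimension vectors (1, 1) and (2, 2) for any number of
arrows; this row states the two-arrow case for all k, without the characteristic assumption.) -/
theorem result (K : Type u) [Field K] [IsAlgClosed K]
    (V : Type v) (W : Type w)
    [AddCommGroup V] [Module K V] [FiniteDimensional K V]
    [AddCommGroup W] [Module K W] [FiniteDimensional K W]
    (f : Fin 2 → (V →ₗ[K] W)) (k : ℕ)
    (hV : Module.finrank K V = k) (hW : Module.finrank K W = k)
    (hf : KronMod.IsSemistable f) :
    ∃ z : Fin 2 → K, Function.Bijective ((∑ j, z j • f j : V →ₗ[K] W) : V → W) := by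
  classical
  let b := (Module.finBasis K V).reindex (finCongr hV)
  let c := (Module.finBasis K W).reindex (finCongr hW)
  let A : Fin 2 → Matrix (Fin k) (Fin k) K := fun j => LinearMap.toMatrix b c (f j)
  let P : Matrix (Fin k) (Fin k) (Polynomial K) :=
    (A 0).map Polynomial.C + (Polynomial.X : Polynomial K) • (A 1).map Polynomial.C
  by_contra hno
  have hdet : P.det = 0 := by
    refine Polynomial.funext fun t => ?_
    rw [Polynomial.eval_zero]
    by_contra ht
    refine hno ⟨![1, t], ?_⟩
    have hev : (Polynomial.evalRingHom t).mapMatrix P = LinearMap.toMatrix b c (f 0 + t • f 1) := by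
      ext i j
      simp [P, A, mul_comm t]
    have hd : (LinearMap.toMatrix b c (f 0 + t • f 1)).det ≠ 0 := by
      rw [← hev, ← RingHom.map_det]; exact ht
    have hu : IsUnit (LinearMap.toMatrix b c (f 0 + t • f 1)).det := isUnit_iff_ne_zero.2 hd
    have e : (∑ j, (![1, t] : Fin 2 → K) j • f j : V →ₗ[K] W) = f 0 + t • f 1 := by simp [Fin.sum_univ_two]
    rw [e]
    have := (LinearEquiv.ofIsUnitDet (f := f 0 + t • f 1) (v := b) (v' := c) hu).bijective
    exact this
  obtain ⟨v, hv0, hv⟩ := Matrix.exists_mulVec_eq_zero_iff.2 hdet
  let vj : ℕ → V := fun j => ∑ i, (v i).coeff j • b i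
  have hco : ∀ (s : Fin 2) j i, c.repr (f s (vj j)) i = ∑ l, A s i l * (v l).coeff j := by
    intro s j i
    simp [vj, A, LinearMap.toMatrix_apply, map_sum, mul_comm, Finsupp.coe_finsetSum]
  have hP : ∀ i, ∑ l, (Polynomial.C (A 0 i l) * v l + Polynomial.X * (Polynomial.C (A 1 i l) * v l)) = 0 := fun i => by
    refine Eq.trans (Finset.sum_congr rfl fun l _ => ?_) (congrFun hv i)
    show _ = P i l * v l
    rw [show P i l = Polynomial.C (A 0 i l) + Polynomial.X * Polynomial.C (A 1 i l) from rfl]
    ring
  have h0 : f 0 (vj 0) = 0 := by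
    refine c.ext_elem fun i => ?_
    rw [hco, map_zero, Finsupp.zero_apply]
    have := congrArg (fun q => q.coeff 0) (hP i)
    simpa [Polynomial.mul_coeff_zero] using this
  have hrel : ∀ j, f 0 (vj (j + 1)) + f 1 (vj j) = 0 := by
    intro j
    refine c.ext_elem fun i => ?_
    rw [map_add, Finsupp.add_apply, hco, hco, map_zero, Finsupp.zero_apply, ← Finset.sum_add_distrib]
    have := congrArg (fun q => q.coeff (j + 1)) (hP i)
    simpa using this
  let V' := Submodule.span K (Set.range vj)
  let W' := V'.map (f 1)
  have hsub : KronMod.IsSubrep f V' W' := by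
    intro s
    fin_cases s
    · show Submodule.map (f 0) V' ≤ W'
      rw [Submodule.map_span, Submodule.span_le]
      rintro _ ⟨_, ⟨j, rfl⟩, rfl⟩
      show f 0 (vj j) ∈ W'
      rcases j with _ | j
      · rw [h0]; exact zero_mem _
      · rw [eq_neg_of_add_eq_zero_left (hrel j)]
        exact W'.neg_mem (Submodule.mem_map_of_mem (Submodule.subset_span ⟨j, rfl⟩))
    · exact le_rfl
  have hne : ∃ j, vj j ≠ 0 := by
    by_contra! hz
    refine hv0 (funext fun i => Polynomial.ext fun j => ?_)
    have := congrArg (fun x => b.repr x i) (hz j)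
    simpa [vj, Finsupp.single_apply] using this
  have hbound : ∃ N, ∀ j, N ≤ j → vj j = 0 := by
    refine ⟨(Finset.univ.sup fun i => (v i).natDegree) + 1, fun j hj => Finset.sum_eq_zero fun i _ => ?_⟩
    have hle : (v i).natDegree ≤ Finset.univ.sup fun i => (v i).natDegree := Finset.le_sup (f := fun i => (v i).natDegree) (Finset.mem_univ i)
    rw [Polynomial.coeff_eq_zero_of_natDegree_lt (by omega), zero_smul]
  obtain ⟨N, hN⟩ := hbound
  obtain ⟨j₀, hj₀⟩ := hne
  have hj₀N : j₀ < N := not_le.1 fun h => hj₀ (hN _ h)
  let d := Nat.findGreatest (fun j => vj j ≠ 0) N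
  have hd : vj d ≠ 0 := Nat.findGreatest_spec (P := fun j => vj j ≠ 0) hj₀N.le hj₀
  have hd1 : f 1 (vj d) = 0 := by
    have : vj (d + 1) = 0 := by
      rcases Nat.lt_or_ge (d + 1) (N + 1) with h | h
      · exact not_not.1 (Nat.findGreatest_is_greatest (P := fun j => vj j ≠ 0) (Nat.lt_succ_self d) (Nat.lt_succ_iff.1 h))
      · exact hN _ (by omega)
    simpa [this] using hrel d
  have hlt : Module.finrank K W' < Module.finrank K V' := by
    let g : V' →ₗ[K] W := (f 1).domRestrict V'
    have hr : LinearMap.range g = W' := LinearMap.range_domRestrict V' (f 1)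
    have hk : 0 < Module.finrank K (LinearMap.ker g) := by
      refine Module.finrank_pos_iff_exists_ne_zero.2 ⟨⟨⟨vj d, Submodule.subset_span ⟨d, rfl⟩⟩, hd1⟩, ?_⟩
      exact fun h => hd (congrArg (fun x => ((x : LinearMap.ker g) : V').1) h)
    have := g.finrank_range_add_finrank_ker
    rw [hr] at this
    omega
  have h := hf.2 V' W' hsub (fun h => by rw [h.1, h.2] at hlt; simp at hlt) (fun h => by
    rw [h.1, h.2, finrank_top, finrank_top, hV, hW] at hlt; exact lt_irrefl _ hlt)
  rw [hV, hW] at h
  have hle := Submodule.finrank_le V'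
  rw [hV] at hle
  exact absurd (Nat.le_of_mul_le_mul_left h (by omega)) (by omega)

end Groth.Agent.S19551
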