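import Groth.Statements.S19552
import Groth.Agent.SerreSplit.Cancel

set_option autoImplicit false
universe u
open CAlg Groth.Agent

namespace Groth.Agent.S19552

/-- Let R be a Noetherian ring of Krull dimension d and P, Q finitely generated projective R-modules of
constant rank at every prime which have the same class in the Grothendieck group, i.e. are stably
isomorphic: P ⊕ R^m ≅ Q ⊕ R^m for some m. Then there is a positive integer N with P^N ≅ Q^N. (The
two exponents in the published display are read as the same integer N; for modules of positive rank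
an isomorphism between direct powers forces equal exponents.) -/
theorem result (R : Type u) [CommRing R] [IsNoetherianRing R]
    (d n : ℕ) (hdim : ringKrullDim R = d)
    (P Q : Type u) [AddCommGroup P] [Module R P] [Module.Finite R P] [Module.Projective R P]
    [AddCommGroup Q] [Module R Q] [Module.Finite R Q] [Module.Projective R Q]
    (hrk : ∀ p : PrimeSpectrum R, Module.rankAtStalk (R := R) P p = n)
    (hrk' : ∀ p : PrimeSpectrum R, Module.rankAtStalk (R := R) Q p = n)
    (m : ℕ) (e : (P × (Fin m → R)) ≃ₗ[R] (Q × (Fin m → R))) :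
    ∃ N : ℕ, 1 ≤ N ∧ Nonempty ((Fin N → P) ≃ₗ[R] (Fin N → Q)) := by
  rcases Nat.eq_zero_or_pos n with hn | hn
  · haveI : Subsingleton P := Module.rankAtStalk_eq_zero_iff_subsingleton.1 (funext fun p => (hrk p).trans hn)
    haveI : Subsingleton Q := Module.rankAtStalk_eq_zero_iff_subsingleton.1 (funext fun p => (hrk' p).trans hn)
    exact ⟨1, le_rfl, ⟨LinearEquiv.ofSubsingleton _ _⟩⟩
  refine ⟨d + 1, Nat.le_add_left 1 d, ?_⟩
  have hN : ∀ p : PrimeSpectrum R, Module.rankAtStalk (R := R) (Fin (d + 1) → P) p = (d + 1) * n := fun p => by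
    rw [Module.rankAtStalk_pi, finsum_eq_sum_of_fintype]
    simp [hrk]
  have hlt : d < (d + 1) * n := lt_of_lt_of_le (Nat.lt_succ_self d) (Nat.le_mul_of_pos_right _ hn)
  let split : ∀ (M : Type u) [AddCommGroup M] [Module R M],
      (Fin (d + 1) → M × (Fin m → R)) ≃ₗ[R] (Fin (d + 1) → M) × (Fin ((d + 1) * m) → R) := fun M _ _ =>
    { toFun := fun f => (fun i => (f i).1, fun j => (f (finProdFinEquiv.symm j).1).2 (finProdFinEquiv.symm j).2)
      map_add' := fun _ _ => rfl
      map_smul' := fun _ _ => rfl
      invFun := fun z i => (z.1 i, fun j => z.2 (finProdFinEquiv (i, j)))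
      left_inv := fun f => by funext i; refine Prod.ext rfl (funext fun j => ?_); simp
      right_inv := fun z => by
        refine Prod.ext rfl (funext fun j => ?_)
        show z.2 (finProdFinEquiv (finProdFinEquiv.symm j)) = z.2 j
        rw [Equiv.apply_symm_apply] }
  haveI : Module.Projective R (Fin (d + 1) → P) :=
    Module.Projective.of_equiv (DFinsupp.linearEquivFunOnFintype (R := R) (M := fun _ : Fin (d + 1) => P))
  exact SerreSplit.cancel hdim.le hN hlt ((d + 1) * m)
    ⟨(split P).symm.trans ((LinearEquiv.piCongrRight fun _ => e).trans (split Q))⟩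

end Groth.Agent.S19552
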