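import Groth.Statements.S19554
import Groth.Agent.EtDescRep.Triv
import Groth.Agent.EtFLC.PushFlc

set_option autoImplicit false
universe u
open CategoryTheory AlgebraicGeometry
open CohProp

namespace Groth.Agent.S19554

/-- For any scheme S and any finite étale morphism f : X → S, the sheaf of sets h_X on the small étale
site of S attached to the étale S-scheme X is finite locally constant: S admits a jointly surjective
family of étale S-schemes over each member of which h_X becomes isomorphic to a constant sheaf with
finite value. (This is the first assertion of the published result, that X ↦ h_X sends finite étale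
S-schemes to finite locally constant sheaves of sets; the equivalence it goes on to assert is not
stated here.) -/
theorem result (S X : Scheme.{u}) (f : X ⟶ S) [Etale f] [IsFinite f] :
    CohProp.IsFinLocConstSet (EtDesc.repSh (Scheme.Etale.mk f)) := by
  classical
  have hloc : ∀ y : S, ∃ (V : S.Etale) (v : V.left) (M : Type (u + 1)), V.hom v = y ∧ Finite M ∧
      Nonempty ((EtDesc.repSh (Scheme.Etale.mk f)).over V ≅ (CohProp.constSh S M).over V) := by
    intro y
    obtain ⟨V, v, n, e, hv, he⟩ := Groth.Agent.EtFLC.exists_split_nhd f y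
    let ι' : Fin n → (V.left ⟶ Limits.pullback V.hom f) := fun i =>
      Limits.Sigma.ι (fun _ : Fin n => V.left) i ≫ e.inv
    have hfst : ∀ i, ι' i ≫ Limits.pullback.fst V.hom f = 𝟙 V.left := fun i => by
      simp only [ι', Category.assoc]; exact he i
    let a : Fin n → (V ⟶ Scheme.Etale.mk f) := fun i => MorphismProperty.Over.homMk (ι' i ≫ Limits.pullback.snd V.hom f) (by
      change (ι' i ≫ Limits.pullback.snd V.hom f) ≫ f = V.hom
      rw [Category.assoc, ← Limits.pullback.condition, ← Category.assoc, hfst, Category.id_comp])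
    have hl : ∀ {W : S.Etale} (g : W ⟶ V) (i j : Fin n), g ≫ a i = g ≫ a j → g.left ≫ ι' i = g.left ≫ ι' j :=
      fun {W} g i j hij => Limits.pullback.hom_ext (by simp only [Category.assoc, hfst]) (by
        simp only [Category.assoc]
        exact congrArg (fun t : W ⟶ Scheme.Etale.mk f => t.left) hij)
    obtain ⟨σ, hσ⟩ := Groth.Agent.EtDescRep.exists_triv_repSh f a
      (fun {W} g s w => by
        let l : W.left ⟶ ∐ fun _ : Fin n => V.left := Limits.pullback.lift g.left s.left
          ((MorphismProperty.Over.w g).trans (MorphismProperty.Over.w s).symm) ≫ e.hom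
        obtain ⟨i, q, hq⟩ := (sigmaOpenCover fun _ : Fin n => V.left).exists_eq (l w)
        let O : W.left.Opens := l ⁻¹ᵁ (Limits.Sigma.ι (fun _ : Fin n => V.left) i).opensRange
        haveI : AlgebraicGeometry.Etale W.hom := W.prop
        let Z : S.Etale := Scheme.Etale.mk (O.ι ≫ W.hom)
        let k : Z ⟶ W := MorphismProperty.Over.homMk O.ι rfl
        refine ⟨Z, k, i, ⟨⟨w, q, hq⟩, rfl⟩, ?_⟩
        have hr : Set.range (O.ι ≫ l) ⊆ Set.range (Limits.Sigma.ι (fun _ : Fin n => V.left) i) := by
          rintro _ ⟨⟨z, hz⟩, rfl⟩
          exact hz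
        have h1 := IsOpenImmersion.lift_fac (Limits.Sigma.ι (fun _ : Fin n => V.left) i) (O.ι ≫ l) hr
        generalize IsOpenImmersion.lift (Limits.Sigma.ι (fun _ : Fin n => V.left) i) (O.ι ≫ l) hr = q' at h1
        let L := Limits.pullback.lift g.left s.left ((MorphismProperty.Over.w g).trans (MorphismProperty.Over.w s).symm)
        have h2 : q' ≫ ι' i = O.ι ≫ L := by
          have h := congrArg (fun t => t ≫ e.inv) h1
          refine ((Category.assoc q' _ _).symm.trans h).trans ?_
          refine (Category.assoc O.ι _ _).trans (congrArg (O.ι ≫ ·) ?_)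
          exact (Category.assoc L _ _).trans ((congrArg (L ≫ ·) e.hom_inv_id).trans (Category.comp_id L))
        have h3 : q' = O.ι ≫ g.left :=
          ((Category.comp_id q').symm.trans (congrArg (q' ≫ ·) (hfst i).symm)).trans
            ((Category.assoc _ _ _).symm.trans ((congrArg (fun t => t ≫ Limits.pullback.fst V.hom f) h2).trans
              ((Category.assoc _ _ _).trans (congrArg (O.ι ≫ ·) (Limits.pullback.lift_fst _ _ _)))))
        have h4 : q' ≫ ι' i ≫ Limits.pullback.snd V.hom f = O.ι ≫ s.left :=
          (Category.assoc _ _ _).symm.trans ((congrArg (fun t => t ≫ Limits.pullback.snd V.hom f) h2).trans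
            ((Category.assoc _ _ _).trans (congrArg (O.ι ≫ ·) (Limits.pullback.lift_snd _ _ _))))
        refine MorphismProperty.Over.Hom.ext ?_
        change O.ι ≫ s.left = O.ι ≫ g.left ≫ ι' i ≫ Limits.pullback.snd V.hom f
        rw [← h4, h3, Category.assoc])
      (fun {W} g i j hij w => by
        have h1 : g.left ≫ ι' i = g.left ≫ ι' j := hl g i j hij
        have hι : ∀ i, (g.left ≫ ι' i) ≫ e.hom = g.left ≫ Limits.Sigma.ι (fun _ : Fin n => V.left) i := fun i =>
          (Category.assoc _ _ _).trans (congrArg (g.left ≫ ·) ((Category.assoc _ _ _).trans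
            ((congrArg (Limits.Sigma.ι (fun _ : Fin n => V.left) i ≫ ·) e.inv_hom_id).trans (Category.comp_id _))))
        have h2 := (hι i).symm.trans ((congrArg (fun t => t ≫ e.hom) h1).trans (hι j))
        have h3 := congrArg (fun t : W.left ⟶ _ => t.base w) h2
        exact congrArg Sigma.fst ((AlgebraicGeometry.sigmaι_eq_iff (fun _ : Fin n => V.left) i j (g.left w) (g.left w)).1
          (((Scheme.Hom.comp_apply _ _ _).symm.trans h3).trans (Scheme.Hom.comp_apply _ _ _))))
    refine ⟨V, v, ULift.{u + 1} (Fin n), hv, inferInstance, ?_⟩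
    exact Groth.Agent.EtDescRep.nonempty_over_iso (hσ.congr Equiv.ulift)
  choose V v M hv hM he using hloc
  exact ⟨S, V, fun y => ⟨y, v y, hv y⟩, fun y => ⟨M y, hM y, he y⟩⟩

end Groth.Agent.S19554
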