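import Groth.Statements.S19555
import Groth.Agent.EtDescRep.Triv

set_option autoImplicit false
universe u
open CategoryTheory AlgebraicGeometry
open CohProp

namespace Groth.Agent.S19555

/-- For any scheme S, every finite locally constant sheaf of sets F on the small étale site of S is
isomorphic to the sheaf h_U attached to some étale S-scheme U which is finite over S (existence of
an isomorphism F ≅ h_U is what is asserted). Together with the facts that h_U is finite locally
constant for U finite étale over S and that U ↦ h_U is fully faithful, this gives the published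
equivalence between finite étale S-schemes and finite locally constant sheaves of sets on the small
étale site. -/
theorem result (S : Scheme.{u}) (F : EtDesc.Sh S)
    (hF : CohProp.IsFinLocConstSet F) :
    ∃ (U : S.Etale) (_ : IsFinite U.hom), Nonempty (F ≅ EtDesc.repSh U) := by
  classical
  obtain ⟨ι, U₀, hcov, h⟩ := hF
  obtain ⟨U, hU, ⟨e⟩⟩ := Groth.Agent.EtDescRep.exists_finite_repSh (G := F) fun x => by
    obtain ⟨i, y, hy⟩ := hcov x
    obtain ⟨M, hM, ⟨e⟩⟩ := h i
    obtain ⟨τ, hτ⟩ := Groth.Agent.EtDescRep.exists_triv e (Groth.Agent.EtDescRep.isTrivSet_const (U₀ i) M)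
    haveI : Fintype M := Fintype.ofFinite M
    exact ⟨U₀ i, y, _, _, hy, hτ.congr (Fintype.equivFin M).symm⟩
  exact ⟨U, hU, ⟨(Groth.Agent.EtDescRep.repShIso e).symm⟩⟩

end Groth.Agent.S19555
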