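import Groth.Statements.S19556
import Mathlib
import Groth.Agent.SepSurj.Basic

set_option autoImplicit false
universe u
open CategoryTheory AlgebraicGeometry
open Mor

namespace Groth.Agent.S19556

/-- Let S be a scheme, p : X → S and q : Y → S schemes over S, and π : X → Y a finite surjective
morphism over S (π ≫ q = p). If X is separated over S then Y is separated over S. (The published
statement is about the quotient map X → X/G of a scheme by an action of a finite group scheme,
assumed to exist and then finite and surjective; this row keeps of it only a finite surjective
S-morphism π, which is all the argument uses.) -/
theorem result {S X Y : Scheme.{u}} (p : X ⟶ S) (q : Y ⟶ S)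
    (π : X ⟶ Y) (hπ : π ≫ q = p) [IsFinite π] [Surjective π] [IsSeparated p] :
    IsSeparated q := by
  set_option backward.isDefEq.respectTransparency false in
  haveI : IsSeparated (π ≫ q) := hπ ▸ inferInstance
  exact Groth.Agent.SepSurj.isSeparated_of_universallyClosed_surjective π q

end Groth.Agent.S19556
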