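import Groth.Statements.S19559
import Groth.Agent.NodeFib.Open
-- import your own Groth.Agent.* helpers here

set_option autoImplicit false
set_option backward.isDefEq.respectTransparency false
set_option backward.isDefEq.respectTransparency.types false
set_option maxHeartbeats 1000000
universe u
open CategoryTheory CategoryTheory.Limits AlgebraicGeometry
open Curves

namespace Groth.Agent.S19559

/-- Let π : C → S be a flat morphism locally of finite presentation all of whose fibres have every
irreducible component of dimension one (every geometric fibre is a curve). Then the set of points p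
of C such that either π is smooth on an open neighbourhood of p, or p is a node of its fibre
C_{π(p)} viewed as a scheme over κ(π(p)) (a closed point of the fibre at which, after base change to
an algebraic closure, the complete local ring is that of an ordinary double point), is open in C. -/
theorem result {C S : Scheme.{u}} (π : C ⟶ S)
    [Flat π] [LocallyOfFinitePresentation π]
    (hfib : ∀ s : S, ∀ Z ∈ irreducibleComponents (↥(π.fiber s) : Type u), topologicalKrullDim Z = 1) :
    IsOpen {p : C | (∃ U : C.Opens, p ∈ U ∧ Smooth (U.ι ≫ π)) ∨
      @Curv2.IsNode (S.residueField (π.base p)) _ (π.fiber (π.base p)) ⟨π.fiberToSpecResidueField (π.base p)⟩ (π.asFiber p)} := by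
  convert NodeFib.isOpen_good π using 1
  ext p
  have hd : FlatMor.fibreDimAt π p = 1 := by
    have := FittLib.fibreDimAt_eq_of_components π (d := 1) p (fun Z hZ => by rw [hfib _ Z hZ]; rfl)
    simpa using this
  show _ ↔ FlatMor.fibreDimAt π p = 1 ∧ NodeFib.SN (π.fiberToSpecResidueField (π p)) (π.asFiber p)
  rw [and_iff_right hd, NodeFib.SN, NodeFib.smooth_iff_mem, Set.mem_setOf_eq, NodeFib.smooth_iff_mem]
  refine or_congr ⟨fun h => ?_, fun h => ?_⟩ Iff.rfl
  · exact SmDesc.preimage_smoothLocus_le (IsPullback.of_hasPullback π (S.fromSpecResidueField (π p)))
      (show π.fiberι (π p) (π.asFiber p) ∈ π.smoothLocus by rwa [π.fiberι_asFiber])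
  · exact SmDesc.mem_smoothLocus_of_flat_fibre (f := π) (π.asFiber p) (π.fiberι_asFiber p) h

end Groth.Agent.S19559
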