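import Groth.Statements.S19562
import Groth.Agent.LinkedGrass.Local

set_option autoImplicit false
set_option backward.isDefEq.respectTransparency false
set_option linter.style.haveILetI false
universe u
open W4c1limliniiii

namespace Groth.Agent.S19562

open TensorProduct in
/-- Let k be a field, 0 < r < d, and f_i, g_i (i < n) linear maps forward and backward between
consecutive ones of n + 1 copies of k^d, forming a linked Grassmannian over Spec k whose scalar s is
zero: every composite f_i ∘ g_i and g_i ∘ f_i vanishes, rank f_i + rank g_i ≥ d, and for consecutive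
indices im f_i ∩ ker f_{i+1} = 0 and im g_{i+1} ∩ ker g_i = 0. Let (V_i) be a k-valued point of the
linked Grassmannian of rank-r sub-bundles (subspaces V_i of k ⊗ k^d with quotient of rank d − r,
with f_i(V_i) ⊆ V_{i+1} and g_i(V_{i+1}) ⊆ V_i). Then (V_i) is exact, meaning ker g_i ∩ V_{i+1} ⊆
f_i(V_i) and ker f_i ∩ V_i ⊆ g_i(V_{i+1}) for all i, if and only if dim f_i(V_i) + dim g_i(V_{i+1})
= r for all i. (The published assertion is for points with values in an arbitrary scheme and also
says that f_i(V_i) and g_i(V_{i+1}) are then sub-bundles; this row is the case of a field, where the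
last clause is empty.) -/
theorem result (k : Type u) [Field k]
    (d r n : ℕ) (hr : 0 < r) (hrd : r < d) (f g : Fin n → ((Fin d → k) →ₗ[k] (Fin d → k)))
    (hI : ∀ i, (f i).comp (g i) = 0 ∧ (g i).comp (f i) = 0)
    (hII : ∀ i, d ≤ Module.finrank k (LinearMap.range (f i)) + Module.finrank k (LinearMap.range (g i)))
    (hIII : ∀ i j : Fin n, i.val + 1 = j.val →
      LinearMap.range (f i) ⊓ LinearMap.ker (f j) = ⊥ ∧
        LinearMap.range (g j) ⊓ LinearMap.ker (g i) = ⊥)
    (V : Fin (n + 1) → Module.Grassmannian k (k ⊗[k] (Fin d → k)) (d - r))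
    (hV : V ∈ W4c1limliniiii.LGPoints k d r n f g k) :
    W4c1limliniiii.IsExact k d r n f g k V ↔
      ∀ i : Fin n,
        Module.finrank k ↥(Submodule.map ((f i).baseChange k) (V i.castSucc).toSubmodule) +
          Module.finrank k ↥(Submodule.map ((g i).baseChange k) (V i.succ).toSubmodule) = r := by
  classical
  haveI : FiniteDimensional k (k ⊗[k] (Fin d → k)) :=
    Module.Finite.of_basis ((Pi.basisFun k (Fin d)).baseChange k)
  have hV' := fun i : Fin n => hV i
  have hr' : ∀ j : Fin (n + 1), Module.finrank k (V j).toSubmodule = r := fun j =>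
    Groth.Agent.LinkedGrass.finrank_toSubmodule hrd.le _
  have key : ∀ i : Fin n,
      (LinearMap.ker ((g i).baseChange k) ⊓ (V i.succ).toSubmodule ≤ Submodule.map ((f i).baseChange k) (V i.castSucc).toSubmodule ↔
        Module.finrank k ↥(Submodule.map ((f i).baseChange k) (V i.castSucc).toSubmodule) +
          Module.finrank k ↥(Submodule.map ((g i).baseChange k) (V i.succ).toSubmodule) = r) ∧
      (LinearMap.ker ((f i).baseChange k) ⊓ (V i.castSucc).toSubmodule ≤ Submodule.map ((g i).baseChange k) (V i.succ).toSubmodule ↔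
        Module.finrank k ↥(Submodule.map ((f i).baseChange k) (V i.castSucc).toSubmodule) +
          Module.finrank k ↥(Submodule.map ((g i).baseChange k) (V i.succ).toSubmodule) = r) := by
    intro i
    have h1 := Groth.Agent.LinkedGrass.finrank_map_add_finrank_ker_inf ((g i).baseChange k) (V i.succ).toSubmodule
    have h2 := Groth.Agent.LinkedGrass.finrank_map_add_finrank_ker_inf ((f i).baseChange k) (V i.castSucc).toSubmodule
    rw [hr'] at h1 h2
    have z1 : ∀ z, (g i).baseChange k ((f i).baseChange k z) = 0 := fun z => by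
      rw [← LinearMap.comp_apply, ← LinearMap.baseChange_comp, (hI i).2, LinearMap.baseChange_zero]; rfl
    have z2 : ∀ z, (f i).baseChange k ((g i).baseChange k z) = 0 := fun z => by
      rw [← LinearMap.comp_apply, ← LinearMap.baseChange_comp, (hI i).1, LinearMap.baseChange_zero]; rfl
    have le1 : Submodule.map ((f i).baseChange k) (V i.castSucc).toSubmodule ≤
        LinearMap.ker ((g i).baseChange k) ⊓ (V i.succ).toSubmodule := by
      rintro _ ⟨z, hz, rfl⟩; exact ⟨z1 z, (hV i).1 ⟨z, hz, rfl⟩⟩
    have le2 : Submodule.map ((g i).baseChange k) (V i.succ).toSubmodule ≤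
        LinearMap.ker ((f i).baseChange k) ⊓ (V i.castSucc).toSubmodule := by
      rintro _ ⟨z, hz, rfl⟩; exact ⟨z2 z, (hV i).2 ⟨z, hz, rfl⟩⟩
    constructor
    · constructor
      · intro h; rw [← le_antisymm le1 h] at h1; omega
      · intro h; rw [Submodule.eq_of_le_of_finrank_le le1 (by omega)]
    · constructor
      · intro h; rw [← le_antisymm le2 h] at h2; omega
      · intro h; rw [Submodule.eq_of_le_of_finrank_le le2 (by omega)]
  exact ⟨fun h i => (key i).1.1 (h i).1, fun h i => ⟨(key i).1.2 (h i), (key i).2.2 (h i)⟩⟩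

end Groth.Agent.S19562
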