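import Groth.Statements.S19565


set_option autoImplicit false
universe u v w
open RootComb

namespace Groth.Agent.S19565

/-- Let Φ be a finite reduced crystallographic irreducible root system over a field of characteristic
zero, Δ a base of simple roots, I ⊆ Δ, and suppose the simple roots outside I are split into two
disjoint non-empty sets A and B. Then there are a simple root β ∈ A and a root δ such that δ is a
non-negative integer combination of the simple roots of I ∪ B (a positive root whose support avoids
A), δ is not in the linear span of I (so δ is not a root of the Levi subsystem of I), and ⟨δ, β^∨⟩ <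
0. (The published statement is made for the root system of a semisimple group; for a reducible
system such as A₁ × A₁ with I empty and A, B the two simple roots there is no such δ, and the
argument measures distances in a connected Dynkin diagram, so the root system is taken irreducible
here.) -/
theorem result
    {ι : Type u} [Finite ι] [DecidableEq ι] {k : Type v} [Field k] [CharZero k]
    {M : Type w} [AddCommGroup M] [Module k M] {N : Type w} [AddCommGroup N] [Module k N]
    (P : RootPairing ι k M N) [P.IsCrystallographic] [P.IsReduced] [P.IsIrreducible] (b : P.Base)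
    (I A B : Finset ι) (hcover : I ∪ A ∪ B = b.support) (hIA : Disjoint I A) (hIB : Disjoint I B)
    (hAB : Disjoint A B) (hA : A.Nonempty) (hB : B.Nonempty) :
    ∃ l ∈ A, ∃ j : ι, P.root j ∈ AddSubmonoid.closure (P.root '' ↑(I ∪ B)) ∧
      P.root j ∉ Submodule.span k (P.root '' ↑I) ∧ P.pairingIn ℤ j l < 0 := by
  classical
  by_contra! hcon
  have hsupI : I ⊆ b.support := by rw [← hcover]; intro x hx; simp [hx]
  have hsupA : A ⊆ b.support := by rw [← hcover]; intro x hx; simp [hx]
  have hsupB : B ⊆ b.support := by rw [← hcover]; intro x hx; simp [hx]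
  have hsupIB : I ∪ B ⊆ b.support := Finset.union_subset hsupI hsupB
  have hclos : ∀ x ∈ AddSubmonoid.closure (P.root '' ↑(I ∪ B)),
      ∃ f : ι → ℕ, (∀ t, t ∉ I ∪ B → f t = 0) ∧ x = ∑ t ∈ I ∪ B, f t • P.root t := by
    intro x hx
    refine AddSubmonoid.closure_induction ?_ ⟨0, by simp, by simp⟩ ?_ hx
    · rintro - ⟨t, ht, rfl⟩
      refine ⟨Pi.single t 1, fun s hs => ?_, ?_⟩
      · apply Pi.single_eq_of_ne
        rintro rfl; exact hs (Finset.mem_coe.mp ht)
      · rw [Finset.sum_eq_single_of_mem t (Finset.mem_coe.mp ht)]
        · simp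
        · intro s _ hs; simp [Pi.single_eq_of_ne hs]
    · rintro _ _ _ _ ⟨f, hf, rfl⟩ ⟨g, hg, rfl⟩
      exact ⟨f + g, fun t ht => by simp [hf t ht, hg t ht],
        by simp [add_smul, Finset.sum_add_distrib]⟩
  let S : Set ι := {j | P.root j ∈ AddSubmonoid.closure (P.root '' ↑(I ∪ B)) ∧
    P.root j ∉ Submodule.span k (P.root '' ↑I)}
  have hzero : ∀ l ∈ A, ∀ j ∈ S, P.coroot' l (P.root j) = 0 := by
    intro l hl j hj
    obtain ⟨f, -, hfj⟩ := hclos _ hj.1
    have h1 : 0 ≤ P.pairingIn ℤ j l := hcon l hl j hj.1 hj.2
    have h3 : P.pairingIn ℤ j l = ∑ t ∈ I ∪ B, (f t : ℤ) * P.pairingIn ℤ t l := by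
      apply Int.cast_injective (α := k)
      have e : ∀ t, ((P.pairingIn ℤ t l : ℤ) : k) = P.coroot' l (P.root t) := by
        intro t
        rw [← eq_intCast (algebraMap ℤ k), P.algebraMap_pairingIn]
        simp
      rw [Int.cast_sum, e, hfj, map_sum]
      refine Finset.sum_congr rfl fun t _ => ?_
      rw [Int.cast_mul, e, map_nsmul, nsmul_eq_mul, Int.cast_natCast]
    have h2 : ∑ t ∈ I ∪ B, (f t : ℤ) * P.pairingIn ℤ t l ≤ 0 := by
      refine Finset.sum_nonpos fun t ht => ?_
      refine mul_nonpos_of_nonneg_of_nonpos (by positivity) ?_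
      refine b.pairingIn_le_zero_of_ne ?_ (hsupIB ht) (hsupA hl)
      rintro rfl
      rcases Finset.mem_union.mp ht with h | h
      · exact Finset.disjoint_left.mp hIA h hl
      · exact Finset.disjoint_left.mp hAB hl h
    have h4 : P.pairingIn ℤ j l = 0 := by omega
    rw [P.root_coroot'_eq_pairing, ← P.algebraMap_pairingIn ℤ, h4, map_zero]
  let W : Submodule k M := Submodule.span k (P.root '' S)
  have hBS : ∀ m ∈ B, m ∈ S := by
    intro m hm
    refine ⟨AddSubmonoid.subset_closure ⟨m, by simp [hm], rfl⟩, ?_⟩
    have hmI : m ∉ (↑I : Set ι) := fun h => Finset.disjoint_left.mp hIB (Finset.mem_coe.mp h) hm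
    have hli : LinearIndepOn k P.root (insert m (↑I : Set ι)) :=
      b.linearIndepOn_root.mono (Set.insert_subset (hsupB hm) (Finset.coe_subset.mpr hsupI))
    exact ((linearIndepOn_insert hmI).mp hli).2
  have hinv : ∀ m ∈ b.support, W ∈ Module.End.invtSubmodule (P.reflection m) := by
    intro m hm
    rw [Module.End.mem_invtSubmodule]
    refine Submodule.span_le.mpr ?_
    rintro - ⟨j, hj, rfl⟩
    simp only [Submodule.mem_comap, SetLike.mem_coe, LinearEquiv.coe_coe]
    rw [← hcover, Finset.mem_union, Finset.mem_union] at hm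
    rcases hm with (hm | hm) | hm
    · obtain ⟨f, hf0, hfj⟩ := hclos _ hj.1
      obtain ⟨b0, hb0, hb0'⟩ : ∃ b0 ∈ B, f b0 ≠ 0 := by
        by_contra! hall
        refine hj.2 ?_
        rw [hfj]
        refine Submodule.sum_mem _ fun t ht => ?_
        rcases Finset.mem_union.mp ht with h | h
        · exact Submodule.smul_of_tower_mem _ _ (Submodule.subset_span ⟨t, h, rfl⟩)
        · simp [hall t h]
      have hb0m : b0 ≠ m := by
        rintro rfl; exact Finset.disjoint_left.mp hIB hm hb0
      set n := P.pairingIn ℤ j m with hn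
      set j' := P.reflectionPerm m j with hj'def
      have hj' : P.root j' = P.root j - n • P.root m := by
        rw [hj'def, P.root_reflectionPerm, P.reflection_apply_root' ℤ]
      refine Submodule.subset_span ⟨j', ⟨?_, ?_⟩, by rw [hj'def, P.root_reflectionPerm]⟩
      · let g : ι → ℤ := fun t => (f t : ℤ) - (if t = m then n else 0)
        have hg0 : ∀ t, t ∉ I ∪ B → g t = 0 := by
          intro t ht
          have htm : t ≠ m := by rintro rfl; exact ht (Finset.mem_union_left _ hm)
          simp [g, hf0 t ht, htm]
        have hgsum : ∑ t ∈ I ∪ B, g t • P.root t = P.root j' := by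
          simp only [g, sub_smul, Finset.sum_sub_distrib, natCast_zsmul, ite_smul, zero_smul]
          rw [Finset.sum_ite_eq' (I ∪ B) m, if_pos (Finset.mem_union_left _ hm), ← hfj, hj']
        have hgs : ∑ t ∈ b.support, g t • P.root t = P.root j' := by
          rw [← hgsum]
          refine (Finset.sum_subset hsupIB fun t _ ht => ?_).symm
          simp [hg0 t ht]
        have hgsupp : Function.support g ⊆ b.support := by
          intro t ht
          by_contra h
          exact ht (hg0 t fun h' => h (hsupIB h'))
        rcases b.pos_or_neg_of_sum_smul_root_mem g ⟨j', hgs.symm⟩ hgsupp with hpos | hneg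
        · rw [← hgsum]
          refine AddSubmonoid.sum_mem _ fun t ht => ?_
          obtain ⟨c, hc⟩ := Int.eq_ofNat_of_zero_le (hpos.le t)
          rw [hc, natCast_zsmul]
          refine AddSubmonoid.nsmul_mem _ ?_ _
          exact AddSubmonoid.subset_closure ⟨t, Finset.mem_coe.mpr ht, rfl⟩
        · have := hneg.le b0
          simp [g, hb0m] at this
          omega
      · intro hmem
        refine hj.2 ?_
        have : P.root j = P.root j' + n • P.root m := by rw [hj']; abel
        rw [this]
        exact Submodule.add_mem _ hmem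
          (Submodule.smul_of_tower_mem _ _ (Submodule.subset_span ⟨m, hm, rfl⟩))
    · rw [RootPairing.reflection_apply, hzero m hm j hj, zero_smul, sub_zero]
      exact Submodule.subset_span ⟨j, hj, rfl⟩
    · rw [RootPairing.reflection_apply]
      exact Submodule.sub_mem _ (Submodule.subset_span ⟨j, hj, rfl⟩)
        (Submodule.smul_mem _ _ (Submodule.subset_span ⟨m, hBS m hm, rfl⟩))
  obtain ⟨b0, hb0⟩ := hB
  have hWne : W ≠ ⊥ := by
    intro h
    have : P.root b0 ∈ W := Submodule.subset_span ⟨b0, hBS b0 hb0, rfl⟩
    rw [h, Submodule.mem_bot] at this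
    exact P.ne_zero b0 this
  have htop : W = ⊤ := RootPairing.IsIrreducible.eq_top_of_invtSubmodule_reflection W
    ((b.forall_mem_support_invtSubmodule_iff W).mp hinv) hWne
  obtain ⟨l, hl⟩ := hA
  have hker : W ≤ LinearMap.ker (P.coroot' l) := by
    refine Submodule.span_le.mpr ?_
    rintro - ⟨j, hj, rfl⟩
    exact hzero l hl j hj
  have h2 : P.coroot' l (P.root l) = 0 := hker (htop ▸ Submodule.mem_top)
  rw [P.root_coroot'_eq_pairing, P.pairing_same] at h2
  exact two_ne_zero h2

end Groth.Agent.S19565
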