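import Groth.Statements.S19567
import Mathlib
import Groth.Agent.EtLiftLib.Basic
-- import your own Groth.Agent.* helpers here

set_option autoImplicit false
universe u
open Hensel

open scoped TensorProduct

namespace Groth.Agent.S19567

/-- Let A be a ring and I an ideal of A, and consider étale A-algebras A' for which the induced map A/I
→ A'/IA' is bijective. (1) For any two such algebras A₁ and A₂ there is a third such algebra A₃
admitting A-algebra maps from both. (2) For any two A-algebra maps f, g : A₁ → A₂ between such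
algebras there are such an algebra A₃ and an A-algebra map h : A₂ → A₃ with h ∘ f = h ∘ g. (All
algebras are taken in the universe of A. Since A itself is such an algebra, (1) and (2) say that the
category of these algebras and A-algebra maps is filtered.) -/
theorem result (A : Type u) [CommRing A] (I : Ideal A) :
    (∀ (A₁ A₂ : Type u) [CommRing A₁] [Algebra A A₁] [Algebra.Etale A A₁] [CommRing A₂] [Algebra A A₂]
        [Algebra.Etale A A₂],
        Function.Bijective (Ideal.quotientMap (I.map (algebraMap A A₁)) (algebraMap A A₁) Ideal.le_comap_map) →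
        Function.Bijective (Ideal.quotientMap (I.map (algebraMap A A₂)) (algebraMap A A₂) Ideal.le_comap_map) →
          ∃ (A₃ : Type u) (_ : CommRing A₃) (_ : Algebra A A₃) (_ : Algebra.Etale A A₃),
            Function.Bijective (Ideal.quotientMap (I.map (algebraMap A A₃)) (algebraMap A A₃) Ideal.le_comap_map) ∧
              Nonempty (A₁ →ₐ[A] A₃) ∧ Nonempty (A₂ →ₐ[A] A₃)) ∧
    (∀ (A₁ A₂ : Type u) [CommRing A₁] [Algebra A A₁] [Algebra.Etale A A₁] [CommRing A₂] [Algebra A A₂]
        [Algebra.Etale A A₂],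
        Function.Bijective (Ideal.quotientMap (I.map (algebraMap A A₁)) (algebraMap A A₁) Ideal.le_comap_map) →
        Function.Bijective (Ideal.quotientMap (I.map (algebraMap A A₂)) (algebraMap A A₂) Ideal.le_comap_map) →
          ∀ (f g : A₁ →ₐ[A] A₂),
            ∃ (A₃ : Type u) (_ : CommRing A₃) (_ : Algebra A A₃) (_ : Algebra.Etale A A₃),
              Function.Bijective (Ideal.quotientMap (I.map (algebraMap A A₃)) (algebraMap A A₃) Ideal.le_comap_map) ∧
                ∃ h : A₂ →ₐ[A] A₃, h.comp f = h.comp g) := by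
  have key : ∀ (B : Type u) [CommRing B] [Algebra A B],
      Function.Bijective (Ideal.quotientMap (I.map (algebraMap A B)) (algebraMap A B) Ideal.le_comap_map) →
      ∃ π : B →ₐ[A] A ⧸ I, ∀ φ : B →ₐ[A] A ⧸ I, φ = π := by
    intro B _ _ h
    let q : A ⧸ I →ₐ[A] B ⧸ I.map (algebraMap A B) := Ideal.quotientMapₐ _ (Algebra.ofId A B) Ideal.le_comap_map
    let qe := AlgEquiv.ofBijective q h
    refine ⟨qe.symm.toAlgHom.comp (Ideal.Quotient.mkₐ A _), fun φ => AlgHom.ext fun b => ?_⟩
    obtain ⟨c, hc⟩ := h.2 (Ideal.Quotient.mk _ b)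
    obtain ⟨a, rfl⟩ := Ideal.Quotient.mk_surjective c
    change φ b = qe.symm (Ideal.Quotient.mk _ b)
    rw [← hc]
    change φ b = qe.symm (q (Ideal.Quotient.mk I a))
    rw [show qe.symm (q (Ideal.Quotient.mk I a)) = Ideal.Quotient.mk I a from qe.symm_apply_eq.2 rfl]
    have h2 := Ideal.mem_map_of_mem φ.toRingHom (Ideal.Quotient.eq.1 hc.symm : b - algebraMap A B a ∈ _)
    rw [Ideal.map_map, show φ.toRingHom.comp (algebraMap A B) = Ideal.Quotient.mk I from RingHom.ext φ.commutes,
      Ideal.map_quotient_self, Ideal.mem_bot, map_sub, sub_eq_zero] at h2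
    exact h2.trans (φ.commutes a)
  refine ⟨fun A₁ A₂ _ _ _ _ _ _ h₁ h₂ => ?_, fun A₁ A₂ _ _ _ _ _ _ h₁ h₂ f g => ?_⟩
  · obtain ⟨π₁, -⟩ := key A₁ h₁
    obtain ⟨π₂, -⟩ := key A₂ h₂
    haveI : Algebra.Etale A (A₁ ⊗[A] A₂) := Algebra.Etale.comp A A₁ (A₁ ⊗[A] A₂)
    obtain ⟨A₃, _, _, het, hbij, η, -⟩ := Groth.Agent.EtLiftLib.exists_etale_nhd I (Algebra.TensorProduct.productMap π₁ π₂)
    exact ⟨A₃, inferInstance, inferInstance, het, hbij, ⟨η.comp Algebra.TensorProduct.includeLeft⟩,
      ⟨η.comp Algebra.TensorProduct.includeRight⟩⟩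
  · obtain ⟨π₁, hπ₁⟩ := key A₁ h₁
    obtain ⟨π₂, -⟩ := key A₂ h₂
    obtain ⟨t, ht1, ht2⟩ := Algebra.FormallyUnramified.iff_exists_tensorProduct.1
      (inferInstance : Algebra.FormallyUnramified A A₁)
    let m := Algebra.TensorProduct.productMap f g
    have hπt : π₂ (m t) = 1 := by
      have h0 : π₂.comp m = π₁.comp (Algebra.TensorProduct.lmul' A) := Algebra.TensorProduct.ext' fun x y => by
        change π₂ (m (x ⊗ₜ y)) = π₁ (Algebra.TensorProduct.lmul' A (x ⊗ₜ y))
        rw [Algebra.TensorProduct.productMap_apply_tmul, Algebra.TensorProduct.lmul'_apply_tmul, map_mul, map_mul,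
          ← AlgHom.comp_apply, ← AlgHom.comp_apply, hπ₁ (π₂.comp f), hπ₁ (π₂.comp g)]
      rw [← AlgHom.comp_apply, h0, AlgHom.comp_apply, ht2, map_one]
    have hu : IsUnit (π₂ (m t)) := hπt ▸ isUnit_one
    haveI : Algebra.Etale A (Localization.Away (m t)) := Algebra.Etale.comp A A₂ _
    obtain ⟨A₃, _, _, het, hbij, η, -⟩ := Groth.Agent.EtLiftLib.exists_etale_nhd I
      (IsLocalization.Away.liftAlgHom (S := Localization.Away (m t)) (m t) (f := π₂) hu)
    refine ⟨A₃, inferInstance, inferInstance, het, hbij, η.comp (IsScalarTower.toAlgHom A A₂ _), AlgHom.ext fun a => ?_⟩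
    have h3 := congrArg m (ht1 a)
    rw [map_mul, map_zero, map_sub, Algebra.TensorProduct.productMap_apply_tmul,
      Algebra.TensorProduct.productMap_apply_tmul, map_one, map_one, one_mul, mul_one] at h3
    have h4 := congrArg (algebraMap A₂ (Localization.Away (m t))) h3
    rw [map_mul, map_zero, IsUnit.mul_left_eq_zero (IsLocalization.Away.algebraMap_isUnit (m t)), map_sub, sub_eq_zero] at h4
    exact congrArg η h4.symm

end Groth.Agent.S19567
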