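import Groth.Statements.S19569
import Groth.Agent.RingModel.Basic

set_option autoImplicit false
universe u
open CAlg

namespace Groth.Agent.S19569

open TensorProduct in
/-- Let A be the colimit of a directed system of rings (A_i), given by compatible ring maps A_i → A
which are jointly surjective and such that an element of some A_i mapping to zero in A already maps
to zero in some later A_j, and let B be an étale A-algebra. Then for some index i there is an étale
A_i-algebra B_i such that B is isomorphic, as an A-algebra, to the base change A ⊗_{A_i} B_i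
(existence of an isomorphism). (Stated for a system indexed by a directed preordered set.) -/
theorem result {ι : Type u} [Preorder ι] [IsDirected ι (· ≤ ·)] [Nonempty ι]
    (G : ι → Type u) [∀ i, CommRing (G i)] (f : ∀ i j, i ≤ j → (G i →+* G j))
    (A : Type u) [CommRing A] (g : ∀ i, G i →+* A) (hg : ∀ i j (h : i ≤ j), (g j).comp (f i j h) = g i)
    (hsurj : ∀ a : A, ∃ i, ∃ x : G i, g i x = a)
    (hker : ∀ i (x : G i), g i x = 0 → ∃ j, ∃ h : i ≤ j, f i j h x = 0)
    (B : Type u) [CommRing B] [Algebra A B] [Algebra.Etale A B] :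
    ∃ (i : ι) (Bi : Type u) (_ : CommRing Bi) (_ : Algebra (G i) Bi), Algebra.Etale (G i) Bi ∧
      letI : Algebra (G i) A := (g i).toAlgebra
      Nonempty (B ≃ₐ[A] A ⊗[G i] Bi) := by
  refine Groth.Agent.RingModel.exists_stage_model
    (fun R S [CommRing R] [CommRing S] [Algebra R S] => Algebra.Etale R S)
    (fun R S T _ _ _ _ _ h => inferInstance) (Algebra.Etale.exists_subalgebra_fg ℤ A B) G g ?_ ?_
  · intro s
    classical
    induction s using Finset.induction with
    | empty => exact ⟨Classical.arbitrary ι, by simp⟩
    | insert a s _ ih =>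
      obtain ⟨j, hj⟩ := ih
      obtain ⟨k, y, hy⟩ := hsurj a
      obtain ⟨l, hjl, hkl⟩ := exists_ge_ge j k
      refine ⟨l, fun b hb => ?_⟩
      rcases Finset.mem_insert.1 hb with rfl | hb
      · exact ⟨f k l hkl y, by rw [← hy, ← hg k l hkl]; rfl⟩
      · obtain ⟨z, hz⟩ := hj b hb
        exact ⟨f j l hjl z, by rw [← hz, ← hg j l hjl]; rfl⟩
  · intro j y hy
    obtain ⟨k, h, hk⟩ := hker j y hy
    exact ⟨k, f j k h, hg j k h, hk⟩

end Groth.Agent.S19569
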