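import Groth.Statements.S1957
import Mathlib
import Groth.Agent.EtLiftLib.Basic
-- import your own Groth.Agent.* helpers here

set_option autoImplicit false
universe u
open Polynomial
open EtAlg

namespace Groth.Agent.S1957

/-- Let A be a ring, I an ideal and f a monic polynomial over A. Suppose the image of f in (A/I)[x]
factors as g h where the leading coefficient of g is a unit and g, h generate the unit ideal. Then
there is an etale A-algebra A' such that A/I -> A'/IA' is bijective, together with a factorization f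
= g' h' in A'[x] whose reduction modulo IA' is the image of the given one. -/
theorem result (A : Type u) [CommRing A] (I : Ideal A) (f : A[X]) (hf : f.Monic)
    (g h : (A ⧸ I)[X]) (hgh : f.map (Ideal.Quotient.mk I) = g * h) (hlead : IsUnit g.leadingCoeff)
    (hcop : IsCoprime g h) :
    ∃ (A' : Type u) (_ : CommRing A') (_ : Algebra A A') (_ : Algebra.Etale A A'),
      Function.Bijective (Ideal.quotientMap (I.map (algebraMap A A')) (algebraMap A A') Ideal.le_comap_map) ∧
      ∃ g' h' : A'[X], f.map (algebraMap A A') = g' * h' ∧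
        g'.map (Ideal.Quotient.mk (I.map (algebraMap A A'))) =
          g.map (Ideal.quotientMap (I.map (algebraMap A A')) (algebraMap A A') Ideal.le_comap_map) ∧
        h'.map (Ideal.Quotient.mk (I.map (algebraMap A A'))) =
          h.map (Ideal.quotientMap (I.map (algebraMap A A')) (algebraMap A A') Ideal.le_comap_map) := by
  let c := hlead.unit
  let g₁ : (A ⧸ I)[X] := C (↑c⁻¹ : A ⧸ I) * g
  let h₁ : (A ⧸ I)[X] := C (↑c : A ⧸ I) * h
  have hg₁ : g₁.Monic := by
    refine monic_C_mul_of_mul_leadingCoeff_eq_one ?_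
    exact hlead.val_inv_mul
  have hgh₁ : f.map (Ideal.Quotient.mk I) = g₁ * h₁ := by
    rw [hgh, mul_mul_mul_comm, ← map_mul, Units.inv_mul, map_one, one_mul]
  have hh₁ : h₁.Monic := Monic.of_mul_monic_left hg₁ (hgh₁ ▸ hf.map _)
  have hcop₁ : IsCoprime g₁ h₁ :=
    ((isCoprime_mul_unit_left_left ((Units.isUnit _).map C) g h₁).2
      ((isCoprime_mul_unit_left_right ((Units.isUnit _).map C) g h).2 hcop))
  obtain ⟨A₁, _, _, het₁, hbij₁, g', h', -, -, hfgh, -, hg', hh'⟩ :=
    Groth.Agent.EtLiftLib.exists_etale_lift_coprime I f hf g₁ h₁ hg₁ hh₁ hcop₁ hgh₁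
  haveI := het₁
  obtain ⟨a, ha⟩ := Ideal.Quotient.mk_surjective (c : A ⧸ I)
  let qA₁ : (A ⧸ I) →ₐ[A] A₁ ⧸ I.map (algebraMap A A₁) := IsScalarTower.toAlgHom A (A ⧸ I) _
  let qe := AlgEquiv.ofBijective qA₁ hbij₁
  let σ : A₁ →ₐ[A] A ⧸ I := qe.symm.toAlgHom.comp (Ideal.Quotient.mkₐ A _)
  let u : A₁ := algebraMap A A₁ a
  have hσu : IsUnit (σ u) := by
    rw [show σ u = algebraMap A (A ⧸ I) a from σ.commutes a, Ideal.Quotient.algebraMap_eq, ha]
    exact c.isUnit
  haveI : Algebra.Etale A (Localization.Away u) := Algebra.Etale.comp A A₁ _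
  let φ : Localization.Away u →ₐ[A] A ⧸ I := IsLocalization.Away.liftAlgHom u (f := σ) hσu
  obtain ⟨A₂, _, _, het₂, hbij₂, η, hη⟩ := Groth.Agent.EtLiftLib.exists_etale_nhd I φ
  let θ : A₁ →ₐ[A] A₂ := η.comp (IsScalarTower.toAlgHom A A₁ _)
  let q₂ : A ⧸ I →+* A₂ ⧸ I.map (algebraMap A A₂) := algebraMap _ _
  have hθ : ∀ x : A₁, Ideal.Quotient.mk (I.map (algebraMap A A₂)) (θ x) = q₂ (σ x) := fun x => by
    change Ideal.Quotient.mk _ (η (algebraMap A₁ _ x)) = _
    rw [hη]
    exact congrArg q₂ (IsLocalization.Away.lift_eq u hσu x)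
  have hu2 : IsUnit (θ u) := (IsLocalization.Away.algebraMap_isUnit u).map η
  refine ⟨A₂, inferInstance, inferInstance, het₂, hbij₂, C (θ u) * g'.map θ.toRingHom,
    C (↑hu2.unit⁻¹ : A₂) * h'.map θ.toRingHom, ?_, ?_, ?_⟩
  · rw [mul_mul_mul_comm, ← map_mul, hu2.mul_val_inv, map_one, one_mul, ← Polynomial.map_mul, ← hfgh,
      Polynomial.map_map, show θ.toRingHom.comp (algebraMap A A₁) = algebraMap A A₂ from RingHom.ext θ.commutes]
  all_goals
    have hσq : σ.toRingHom = qe.symm.toRingEquiv.toRingHom.comp (Ideal.Quotient.mk (I.map (algebraMap A A₁))) := rfl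
    have hmap : ∀ p : A₁[X], (p.map θ.toRingHom).map (Ideal.Quotient.mk (I.map (algebraMap A A₂))) =
        (p.map σ.toRingHom).map q₂ := fun p => by
      rw [Polynomial.map_map, Polynomial.map_map]
      exact congrArg (Polynomial.map · p) (RingHom.ext hθ)
    have hback : ∀ p : (A ⧸ I)[X], (p.map (algebraMap (A ⧸ I) (A₁ ⧸ I.map (algebraMap A A₁)))).map
        qe.symm.toRingEquiv.toRingHom = p := fun p => by
      rw [Polynomial.map_map]
      convert Polynomial.map_id (p := p) using 2
      exact RingHom.ext fun x => qe.symm_apply_apply x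
    have hσu' : σ u = c := by
      rw [show σ u = algebraMap A (A ⧸ I) a from σ.commutes a, Ideal.Quotient.algebraMap_eq, ha]
    rw [Polynomial.map_mul, map_C, hmap, hσq, ← Polynomial.map_map]
  · rw [hg', hback, hθ, hσu', ← map_C q₂, ← Polynomial.map_mul, ← mul_assoc, ← map_mul, Units.mul_inv, map_one, one_mul]
    rfl
  · have hinv : Ideal.Quotient.mk (I.map (algebraMap A A₂)) ↑hu2.unit⁻¹ = q₂ ↑c⁻¹ := by
      refine left_inv_eq_right_inv (a := Ideal.Quotient.mk (I.map (algebraMap A A₂)) (θ u)) ?_ ?_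
      · rw [← map_mul, hu2.val_inv_mul, map_one]
      · rw [hθ, hσu', ← map_mul, Units.mul_inv, map_one]
    rw [hh', hback, hinv, ← map_C q₂, ← Polynomial.map_mul, ← mul_assoc, ← map_mul, Units.inv_mul, map_one, one_mul]
    rfl

end Groth.Agent.S1957
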