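import Groth.Statements.S19571
import Mathlib.AlgebraicGeometry.Morphisms.UniversallyOpen


set_option autoImplicit false
set_option linter.style.haveILetI false

universe u
open CategoryTheory AlgebraicGeometry
open EtaPt

namespace Groth.Agent.S19571

/-- Let f : Y → X be a morphism of schemes which is flat, surjective and locally of finite presentation.
Then every affine open U of X is covered by affine opens V each of which is the image f(W) of some
affine open W of Y; stated pointwise: for every x ∈ U there are an affine open V of X with x ∈ V ≤ U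
and an affine open W of Y with f(W) = V as sets. (For such V and W the induced ring map Γ(V) → Γ(W)
is then faithfully flat.) -/
theorem result
    {X Y : Scheme.{u}} (f : Y ⟶ X) [Flat f] [Surjective f] [LocallyOfFinitePresentation f]
    (U : X.affineOpens) (x : X) (hx : x ∈ (U : X.Opens)) :
    ∃ V : X.affineOpens, x ∈ (V : X.Opens) ∧ (V : X.Opens) ≤ (U : X.Opens) ∧
      ∃ W : Y.affineOpens, f.base '' ((W : Y.Opens) : Set Y) = ((V : X.Opens) : Set X) := by
  obtain ⟨y, hy⟩ := f.surjective x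
  have hxU : f.base y ∈ (U : X.Opens) := by rw [hy]; exact hx
  obtain ⟨W₀, hW₀, hyW₀, hW₀U⟩ := Y.isBasis_affineOpens.exists_subset_of_mem_open (a := y)
    (show y ∈ ((f ⁻¹ᵁ (U : X.Opens) : Y.Opens) : Set Y) from hxU) (f ⁻¹ᵁ (U : X.Opens)).2
  obtain ⟨W, hW, rfl⟩ := hW₀
  have hopen : IsOpen (f.base '' (W : Set Y)) := f.isOpenMap _ W.2
  let V' : X.Opens := ⟨f.base '' (W : Set Y), hopen⟩ ⊓ (U : X.Opens)
  obtain ⟨h, hVsub, hxV⟩ := U.2.exists_basicOpen_le (V := V') ⟨x, ⟨⟨y, hyW₀, hy⟩, hx⟩⟩ hx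
  refine ⟨⟨X.basicOpen h, U.2.basicOpen h⟩, hxV, X.basicOpen_le h, ?_⟩
  have hWU : W ≤ f ⁻¹ᵁ (U : X.Opens) := hW₀U
  refine ⟨⟨Y.basicOpen (f.appLE _ _ hWU h), hW.basicOpen _⟩, ?_⟩
  show f.base '' ((Y.basicOpen (f.appLE _ _ hWU h) : Y.Opens) : Set Y) = ((X.basicOpen h : X.Opens) : Set X)
  rw [Scheme.basicOpen_appLE]
  apply Set.Subset.antisymm
  · rintro _ ⟨z, hz, rfl⟩; exact hz.2
  · intro z hz
    obtain ⟨⟨w, hw, rfl⟩, -⟩ := hVsub hz
    exact ⟨w, ⟨hw, hz⟩, rfl⟩

end Groth.Agent.S19571
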