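import Groth.Statements.S19573
import Mathlib
import Groth.Agent.LocIntAnn.Basic

set_option linter.style.haveILetI false

set_option autoImplicit false
universe u
open LocInt

namespace Groth.Agent.S19573

/-- The first sentence of the lemma together with the description of the closed subscheme Z given in its
proof, in the local model. Let R be a commutative ring, n ≥ 1, a ∈ R^n, and F = R^n / R·a the
cokernel of R → R^n, 1 ↦ a (the zeroth homology of the two-term complex R → R^n). Then the
annihilator ideal of the top exterior power ⋀^n F is the ideal generated by the coordinates a_1, …,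
a_n of a, and at every prime p of R off the closed set V(a_1, …, a_n) the module F is free of rank n
− 1 after localization at p. (The published statement is for a complex on a scheme which is locally
quasi-isomorphic to such a two-term complex L → E with L invertible and E locally free of rank n,
and says that H^0 restricted to the complement of the closed subscheme cut out by the annihilator of
its n-th exterior power is locally free of rank n − 1; this row is the local model.) -/
theorem result (R : Type u) [CommRing R]
    (n : ℕ) (hn : 1 ≤ n) (a : Fin n → R) :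
    (⋀[R]^n ((Fin n → R) ⧸ Submodule.span R {a})).annihilator = Ideal.span (Set.range a) ∧
    ∀ p : PrimeSpectrum R, ¬ Ideal.span (Set.range a) ≤ p.asIdeal →
      p ∈ Module.freeLocus R ((Fin n → R) ⧸ Submodule.span R {a}) ∧
      Module.rankAtStalk ((Fin n → R) ⧸ Submodule.span R {a}) p = n - 1 := by
  classical
  set w : Fin n → R := a with hw
  have hann : (⋀[R]^n ((Fin n → R) ⧸ Submodule.span R {a})).annihilator = Ideal.span (Set.range a) := by
    rw [Groth.Agent.LocIntAnn.annihilator_eq (M := Fin n → R) n a]
    · refine le_antisymm (Ideal.span_le.mpr ?_) (Ideal.span_le.mpr ?_)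
      · rintro _ ⟨ψ, rfl⟩
        have := congrArg ψ ((Pi.basisFun R (Fin n)).sum_repr a)
        show ψ a ∈ Ideal.span (Set.range a)
        rw [map_sum] at this
        rw [← this]
        refine Ideal.sum_mem _ fun i _ ↦ ?_
        rw [map_smul, smul_eq_mul, Pi.basisFun_repr]
        exact Ideal.mul_mem_right _ _ (Ideal.subset_span ⟨i, rfl⟩)
      · rintro _ ⟨i, rfl⟩
        exact Ideal.subset_span ⟨LinearMap.proj i, rfl⟩
    · intro p
      have : Nontrivial R := p.nontrivial
      rw [Module.rankAtStalk_eq_finrank_of_free, Pi.natCast_apply, Nat.cast_id,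
        Module.finrank_pi, Fintype.card_fin]
  refine ⟨hann, fun p hp ↦ ?_⟩
  obtain ⟨i, hi⟩ : ∃ i, a i ∉ p.asIdeal := by
    by_contra h
    push Not at h
    exact hp (Ideal.span_le.mpr (by rintro _ ⟨i, rfl⟩; exact h i))
  let J := {j : Fin n // j ≠ i}
  let F := (Fin n → R) ⧸ Submodule.span R {a}
  let ψ0 : (Fin n → R) →ₗ[R] (J → R) := LinearMap.pi fun j : J ↦
    a i • LinearMap.proj j.1 - a j.1 • LinearMap.proj i
  have hψ0 : ∀ (x : Fin n → R) (j : J), ψ0 x j = a i * x j.1 - a j.1 * x i := fun x j ↦ rfl
  let ψ : F →ₗ[R] (J → R) := (Submodule.span R {a}).liftQ ψ0 (by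
    rw [Submodule.span_le, Set.singleton_subset_iff, SetLike.mem_coe, LinearMap.mem_ker]
    funext j; rw [hψ0, mul_comm, sub_self]; rfl)
  let θ0 : (J → R) →ₗ[R] (Fin n → R) := LinearMap.pi fun k ↦
    if h : k ≠ i then LinearMap.proj (⟨k, h⟩ : J) else 0
  have hθ0 : ∀ (y : J → R) (k : Fin n), θ0 y k = if h : k ≠ i then y ⟨k, h⟩ else 0 := by
    intro y k
    by_cases h : k ≠ i
    · simp [θ0, h]
    · obtain rfl := not_not.mp h
      simp [θ0]
  let θ : (J → R) →ₗ[R] F := (Submodule.span R {a}).mkQ ∘ₗ θ0
  have h1 : ∀ y, ψ (θ y) = a i • y := by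
    intro y; funext j
    show ψ0 (θ0 y) j = _
    rw [hψ0, hθ0, hθ0, dif_pos j.2, dif_neg (not_not_intro rfl), mul_zero, sub_zero]
    rfl
  have h2 : ∀ x : F, θ (ψ x) = a i • x := by
    intro x
    obtain ⟨x, rfl⟩ := Submodule.mkQ_surjective _ x
    show (Submodule.span R {a}).mkQ (θ0 (ψ0 x)) = _
    rw [← map_smul, Submodule.mkQ_apply, Submodule.mkQ_apply, Submodule.Quotient.eq,
      Submodule.mem_span_singleton]
    refine ⟨-x i, ?_⟩
    funext k
    simp only [Pi.smul_apply, Pi.sub_apply, hθ0, hψ0, smul_eq_mul]
    by_cases h : k = i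
    · subst h; simp; ring
    · rw [dif_pos h]; ring
  let S := p.asIdeal.primeCompl
  let Rp := Localization.AtPrime p.asIdeal
  let ψp := LocalizedModule.map S ψ
  let θp := LocalizedModule.map S θ
  obtain ⟨u, hu⟩ : IsUnit (algebraMap R Rp (a i)) := IsLocalization.map_units Rp (⟨a i, hi⟩ : p.asIdeal.primeCompl)
  have e1 : ∀ x, ψp (θp x) = (u : Rp) • x := by
    intro x
    induction x using LocalizedModule.induction_on with
    | h y s => rw [LocalizedModule.map_mk, LocalizedModule.map_mk, h1, hu, algebraMap_smul,
        LocalizedModule.smul'_mk]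
  have e2 : ∀ x, θp (ψp x) = (u : Rp) • x := by
    intro x
    induction x using LocalizedModule.induction_on with
    | h y s => rw [LocalizedModule.map_mk, LocalizedModule.map_mk, h2, hu, algebraMap_smul,
        LocalizedModule.smul'_mk]
  let e : LocalizedModule S F ≃ₗ[Rp] LocalizedModule S (J → R) :=
    LinearEquiv.ofLinearMap ψp (((u⁻¹ : Rpˣ) : Rp) • θp)
      (LinearMap.ext fun x ↦ by
        simp only [LinearMap.comp_apply, LinearMap.smul_apply, map_smul, e1, smul_smul,
          Units.inv_mul, one_smul, LinearMap.id_apply])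
      (LinearMap.ext fun x ↦ by
        simp only [LinearMap.comp_apply, LinearMap.smul_apply, e2, smul_smul,
          Units.inv_mul, one_smul, LinearMap.id_apply])
  have : Nontrivial R := p.nontrivial
  have hfree : Module.Free Rp (LocalizedModule S (J → R)) :=
    Module.mem_freeLocus.mp ((Module.freeLocus_eq_univ (R := R) (M := J → R)) ▸ Set.mem_univ p)
  refine ⟨Module.Free.of_equiv e.symm, ?_⟩
  show Module.finrank Rp (LocalizedModule S F) = _
  rw [e.finrank_eq]
  show Module.rankAtStalk (J → R) p = _
  rw [Module.rankAtStalk_eq_finrank_of_free, Pi.natCast_apply, Nat.cast_id, Module.finrank_pi]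
  simp [J, Fintype.card_subtype_compl]

end Groth.Agent.S19573
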