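import Groth.Statements.S19574
import Mathlib.LinearAlgebra.TensorProduct.Quotient
import Mathlib.RingTheory.Flat.Tensor
import Mathlib.Algebra.Homology.ShortComplex.ModuleCat

set_option autoImplicit false
universe u
open CategoryTheory MonoidalCategory
open Lie3Mod

namespace Groth.Agent.S19574

/-- Let R be a commutative ring and d ≥ 1. Let K be a chain complex of R-modules concentrated in degrees
0, …, d + 1, written … → 0 → P_{d+1} → P_d → … → P_1 → M with M = K_0, which is exact (so 0 →
P_{d+1} → … → P_1 → M → 0 is an exact sequence), such that P_1, …, P_d are flat R-modules and such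
that for every ideal I of R the complex obtained by applying (R/I) ⊗_R − termwise is again exact.
Then M is a flat R-module. (No flatness is assumed for P_{d+1}. The published lemma adds that for R
Noetherian it suffices to test prime ideals I; that refinement is not part of this statement.) -/
theorem result (R : Type u) [CommRing R]
    (d : ℕ) (hd : 1 ≤ d) (K : ChainComplex (ModuleCat.{u} R) ℕ)
    (hzero : ∀ i : ℕ, d + 1 < i → Limits.IsZero (K.X i))
    (hflat : ∀ i : ℕ, 1 ≤ i → i ≤ d → Module.Flat R (K.X i))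
    (hK : K.Acyclic)
    (hbc : ∀ I : Ideal R,
      (((tensorLeft (ModuleCat.of R (R ⧸ I))).mapHomologicalComplex (ComplexShape.down ℕ)).obj K).Acyclic) :
    Module.Flat R (K.X 0) := by
  have ex : ∀ (i j k : ℕ), k + 1 = j → j + 1 = i → ∀ x : K.X j, K.d j k x = 0 → ∃ y : K.X i, K.d i j y = x :=
    fun i j k hk hi x hx => by
      have h := (K.exactAt_iff' i j k ((ComplexShape.down ℕ).prev_eq' hi) ((ComplexShape.down ℕ).next_eq' hk)).1 (hK j)
      exact (ShortComplex.moduleCat_exact_iff _).1 h x hx
  have hsurj : Function.Surjective (K.d 1 0) := fun x => by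
    have h := (K.exactAt_iff' 1 0 0 (by simp) (by simp)).1 (hK 0)
    exact (ShortComplex.moduleCat_exact_iff _).1 h x (by simp [HomologicalComplex.sc']; rfl)
  have exT : ∀ (I : Ideal R) (z : TensorProduct R (R ⧸ I) (K.X 2)),
      LinearMap.lTensor (R ⧸ I) (K.d 2 1).hom z = 0 →
      ∃ y : TensorProduct R (R ⧸ I) (K.X 3), LinearMap.lTensor (R ⧸ I) (K.d 3 2).hom y = z := fun I z hz => by
    have h := ((((tensorLeft (ModuleCat.of R (R ⧸ I))).mapHomologicalComplex (ComplexShape.down ℕ)).obj K).exactAt_iff'
      3 2 1 ((ComplexShape.down ℕ).prev_eq' rfl) ((ComplexShape.down ℕ).next_eq' rfl)).1 (hbc I 2)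
    exact (ShortComplex.moduleCat_exact_iff _).1 h z hz
  haveI : Module.Flat R (K.X 1) := hflat 1 le_rfl hd
  refine Module.Flat.iff_rTensor_injective'.2 fun I => (injective_iff_map_eq_zero _).2 fun y hy => ?_
  obtain ⟨x, rfl⟩ := LinearMap.lTensor_surjective I hsurj y
  obtain ⟨p, hp⟩ := ex 2 1 0 rfl rfl (TensorProduct.lid R (K.X 1) (LinearMap.rTensor (K.X 1) I.subtype x)) (by
    have h2 := congrArg (TensorProduct.lid R (K.X 0)) hy
    rw [map_zero] at h2
    refine Eq.trans ?_ h2
    clear hy h2
    induction x using TensorProduct.induction_on with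
    | zero => simp
    | tmul r m => simp
    | add a b ha hb => simp only [map_add, ha, hb])
  have hmem : ∀ z : TensorProduct R I (K.X 1), TensorProduct.lid R (K.X 1) (LinearMap.rTensor (K.X 1) I.subtype z) ∈
      I • (⊤ : Submodule R (K.X 1)) := fun z => by
    induction z using TensorProduct.induction_on with
    | zero => simp
    | tmul r m => simpa using Submodule.smul_mem_smul r.2 (Submodule.mem_top : m ∈ (⊤ : Submodule R (K.X 1)))
    | add a b ha hb => simpa only [map_add] using add_mem ha hb
  obtain ⟨z, hz⟩ := exT I ((1 : R ⧸ I) ⊗ₜ[R] p) (by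
    rw [LinearMap.lTensor_tmul]
    refine (TensorProduct.quotTensorEquivQuotSMul (K.X 1) I).injective ?_
    rw [map_zero, ← map_one (Ideal.Quotient.mk I), TensorProduct.quotTensorEquivQuotSMul_mk_tmul, one_smul,
      Submodule.Quotient.mk_eq_zero]
    exact hp ▸ hmem x)
  obtain ⟨q, rfl⟩ : ∃ q : K.X 3, (1 : R ⧸ I) ⊗ₜ[R] q = z := TensorProduct.mk_surjective R (K.X 3) (R ⧸ I)
    Ideal.Quotient.mk_surjective z
  have hpq : p - K.d 3 2 q ∈ I • (⊤ : Submodule R (K.X 2)) := by
    rw [← Submodule.Quotient.mk_eq_zero, Submodule.Quotient.mk_sub, sub_eq_zero]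
    have h := congrArg (TensorProduct.quotTensorEquivQuotSMul (K.X 2) I) hz
    rw [LinearMap.lTensor_tmul, ← map_one (Ideal.Quotient.mk I), TensorProduct.quotTensorEquivQuotSMul_mk_tmul,
      TensorProduct.quotTensorEquivQuotSMul_mk_tmul, one_smul, one_smul] at h
    exact h.symm
  have hlift : ∀ v ∈ I • (⊤ : Submodule R (K.X 2)), ∃ w : TensorProduct R I (K.X 2),
      TensorProduct.lid R (K.X 2) (LinearMap.rTensor (K.X 2) I.subtype w) = v := fun v hv => by
    refine Submodule.smul_induction_on hv (fun r hr m _ => ⟨(⟨r, hr⟩ : I) ⊗ₜ m, by simp⟩) ?_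
    rintro _ _ ⟨wa, rfl⟩ ⟨wb, rfl⟩
    exact ⟨wa + wb, by simp only [map_add]⟩
  obtain ⟨w, hw⟩ := hlift _ hpq
  have hx : x = LinearMap.lTensor I (K.d 2 1).hom w := by
    refine Module.Flat.rTensor_preserves_injective_linearMap (M := K.X 1) I.subtype Subtype.val_injective ?_
    refine (TensorProduct.lid R (K.X 1)).injective ?_
    have hn : ∀ w : TensorProduct R I (K.X 2),
        TensorProduct.lid R (K.X 1) (LinearMap.rTensor (K.X 1) I.subtype (LinearMap.lTensor I (K.d 2 1).hom w)) =
          (K.d 2 1).hom (TensorProduct.lid R (K.X 2) (LinearMap.rTensor (K.X 2) I.subtype w)) := fun w => by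
      induction w using TensorProduct.induction_on with
      | zero => simp
      | tmul r m => simp
      | add a b ha hb => simp only [map_add, ha, hb]
    rw [hn, hw, map_sub]
    have h0 : (K.d 2 1).hom ((K.d 3 2).hom q) = 0 := by
      rw [← LinearMap.comp_apply, ← ModuleCat.hom_comp, K.d_comp_d]; rfl
    exact (hp.symm.trans (sub_zero _).symm).trans (by rw [h0])
  rw [hx, ← LinearMap.comp_apply, ← LinearMap.lTensor_comp]
  rw [← ModuleCat.hom_comp, K.d_comp_d, ModuleCat.hom_zero, LinearMap.lTensor_zero, LinearMap.zero_apply]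

end Groth.Agent.S19574
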