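import Groth.Statements.S19576
import Groth.Agent.EtaPt.Away
import Groth.Agent.EtaPt.Core


set_option autoImplicit false
set_option linter.style.haveILetI false

universe u
open EtaPt

namespace Groth.Agent.S19576

/-- Let η be the field-endofunctor datum of the pointwise construction, A a commutative ring with
finitely many minimal prime ideals and φ : A → B a ring map inducing a surjection on prime spectra.
If finitely many elements f_1, …, f_n of A generate the unit ideal and, for each i, the canonical
map A_{f_i} → (B_{f_i}/A_{f_i})_η attached to the localized map A_{f_i} → B_{φ(f_i)} is bijective,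
then the canonical map A → (B/A)_η is bijective. -/
theorem result (η : EtaPt.FieldEndo.{u}) {A B : Type u} [CommRing A] [CommRing B]
    (hA : (minimalPrimes A).Finite) (φ : A →+* B) (hs : Function.Surjective (PrimeSpectrum.comap φ))
    (s : Finset A) (hspan : Ideal.span (s : Set A) = ⊤)
    (h : ∀ f ∈ s, Function.Bijective (η.qRel (Localization.awayMap φ f))) :
    Function.Bijective (η.qRel φ) := by
  classical
  simp only [Groth.Agent.EtaPtLib.bijective_qRel_iff] at h ⊢
  have hcomm : ∀ f : A, ∀ a, Localization.awayMap φ f (algebraMap A (Localization.Away f) a) =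
      algebraMap B (Localization.Away (φ f)) (φ a) := fun f a => IsLocalization.map_eq _ a
  have top : ∀ (I : Ideal A), (∀ f ∈ s, ∃ n : ℕ, f ^ n ∈ I) → I = ⊤ := fun I hI => by
    rw [← Ideal.radical_eq_top, eq_top_iff, ← hspan, Ideal.span_le]
    exact fun f hf => hI f hf
  refine ⟨(injective_iff_map_eq_zero φ).2 fun a ha => ?_, fun b hb => ?_⟩
  · let I : Ideal A := LinearMap.ker (LinearMap.mulRight A a)
    have hI : I = ⊤ := top I fun f hf => by
      have h0 : algebraMap A (Localization.Away f) a = 0 := (h f hf).1 (by rw [hcomm, ha, map_zero, map_zero])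
      obtain ⟨⟨_, n, rfl⟩, hn⟩ := (IsLocalization.map_eq_zero_iff (Submonoid.powers f) _ a).1 h0
      exact ⟨n, hn⟩
    simpa [I] using (Ideal.eq_top_iff_one I).1 hI
  · let I : Ideal A :=
      { carrier := {c | ∃ a, φ a = φ c * b}
        add_mem' := fun {c d} ⟨a, ha⟩ ⟨a', ha'⟩ => ⟨a + a', by rw [map_add, map_add, ha, ha', add_mul]⟩
        zero_mem' := ⟨0, by simp⟩
        smul_mem' := fun r c ⟨a, ha⟩ => ⟨r * a, by rw [map_mul, ha, smul_eq_mul, map_mul, mul_assoc]⟩ }
    have hI : I = ⊤ := top I fun f hf => by
      obtain ⟨z, hz⟩ := (h f hf).2 _ ((Groth.Agent.EtaPtLib.rel_away η hA φ f).1 ⟨b, hb, rfl⟩)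
      obtain ⟨n, a, ha⟩ := IsLocalization.Away.surj f z
      have h1 : algebraMap B (Localization.Away (φ f)) (φ f ^ n * b) = algebraMap B (Localization.Away (φ f)) (φ a) := by
        rw [← hcomm f a, ← ha, map_mul, map_mul, hz, map_pow, map_pow, hcomm, mul_comm]
      obtain ⟨⟨_, m, rfl⟩, hm⟩ := (IsLocalization.eq_iff_exists (Submonoid.powers (φ f)) _).1 h1
      exact ⟨m + n, f ^ m * a, by rw [map_mul, map_pow, map_pow, pow_add, mul_assoc]; exact hm.symm⟩
    obtain ⟨a, ha⟩ := (Ideal.eq_top_iff_one I).1 hI
    exact ⟨a, by rw [ha, map_one, one_mul]⟩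

end Groth.Agent.S19576
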