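import Groth.Statements.S19578
import Groth.Agent.EtaPt.Away
import Groth.Agent.EtaPt.Core


set_option autoImplicit false
set_option linter.style.haveILetI false

universe u
open EtaPt

namespace Groth.Agent.S19578

/-- Let f : A → B be a homomorphism of commutative rings, each with only finitely many minimal primes,
and suppose the induced map M_η(f) : M_η(A) → M_η(B) is an isomorphism. Then Spec f is a bijection
between the prime ideals of B and of A, and for every prime q of B, with p = f⁻¹(q), there is a ring
map φ : k(q) → F(k(p)) whose composite with the residue field map k(p) → k(q) equals η_{k(p)}. Here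
η is the field-endofunctor datum of the pointwise construction, M_η(A) ⊆ ∏_p F(k(p)) the subring
attached to A with q_A : A → M_η(A), and M_η(f) : M_η(A) → M_η(B) the ring map induced by N_η(f),
pinned here as the ring map g compatible with N_η(f) under the two subring inclusions. -/
theorem result (η : EtaPt.FieldEndo.{u}) {A B : Type u} [CommRing A] [CommRing B]
    (hA : (minimalPrimes A).Finite) (hB : (minimalPrimes B).Finite) (f : A →+* B)
    (g : η.M A →+* η.M B) (hg : ∀ x : η.M A, ((g x : η.M B) : η.N B) = η.Nmap f (x : η.N A))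
    (hbij : Function.Bijective g) :
    Function.Bijective (PrimeSpectrum.comap f) ∧
      ∀ Q : PrimeSpectrum B,
        ∃ φ : Q.asIdeal.ResidueField →+* η.obj (PrimeSpectrum.comap f Q).asIdeal.ResidueField,
          φ.comp (Ideal.ResidueField.map (PrimeSpectrum.comap f Q).asIdeal Q.asIdeal f rfl) =
            η.eta (PrimeSpectrum.comap f Q).asIdeal.ResidueField := by
  have hcomm : g.comp (η.q A) = (η.q B).comp f := RingHom.ext fun a => Subtype.ext
    ((hg (η.q A a)).trans (η.Nmap_t_apply f a))
  have hbA := (Groth.Agent.EtaPtLib.q_retraction η hA).1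
  have hbB := (Groth.Agent.EtaPtLib.q_retraction η hB).1
  have e : PrimeSpectrum.comap (η.q A) ∘ PrimeSpectrum.comap g = PrimeSpectrum.comap f ∘ PrimeSpectrum.comap (η.q B) := by
    rw [← PrimeSpectrum.comap_comp, ← PrimeSpectrum.comap_comp, hcomm]
  have hg' : Function.Bijective (PrimeSpectrum.comap g) :=
    ⟨PrimeSpectrum.comap_injective_of_surjective g hbij.2, fun P => ⟨PrimeSpectrum.comap (RingEquiv.ofBijective g hbij).symm.toRingHom P, by
      rw [← PrimeSpectrum.comap_comp_apply, show (RingEquiv.ofBijective g hbij).symm.toRingHom.comp g = RingHom.id _ from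
        RingHom.ext fun x => (RingEquiv.ofBijective g hbij).symm_apply_apply x, PrimeSpectrum.comap_id]⟩⟩
  have hf : Function.Bijective (PrimeSpectrum.comap f) := by
    rw [← Function.Bijective.of_comp_iff _ hbB, ← e]
    exact hbA.comp hg'
  refine ⟨hf, fun Q => ?_⟩
  let p := PrimeSpectrum.comap f Q
  let h : B →+* η.obj p.asIdeal.ResidueField := (Groth.Agent.EtaPtLib.evM η p).comp
    ((RingEquiv.ofBijective g hbij).symm.toRingHom.comp (η.q B))
  have hh : h.comp f = Groth.Agent.EtaPtLib.etaPt η p := by
    ext a
    show Groth.Agent.EtaPtLib.evM η p ((RingEquiv.ofBijective g hbij).symm ((η.q B).comp f a)) = _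
    rw [← hcomm]
    exact congrArg (Groth.Agent.EtaPtLib.evM η p) ((RingEquiv.ofBijective g hbij).symm_apply_apply (η.q A a))
  have hker : RingHom.ker h = Q.asIdeal := congrArg PrimeSpectrum.asIdeal
    (@hf.1 ⟨RingHom.ker h, RingHom.ker_isPrime h⟩ Q (PrimeSpectrum.ext (by
      show Ideal.comap f (RingHom.ker h) = p.asIdeal
      rw [RingHom.comap_ker, hh, Groth.Agent.EtaPtLib.ker_etaPt])))
  refine ⟨Groth.Agent.EtaPtLib.rfLift h Q.asIdeal hker, Groth.Agent.EtaPtLib.residueField_hom_ext (RingHom.ext fun a => ?_)⟩
  refine ((congrArg (Groth.Agent.EtaPtLib.rfLift h Q.asIdeal hker) (Ideal.ResidueField.map_algebraMap ..)).trans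
    (Groth.Agent.EtaPtLib.rfLift_algebraMap h _ hker (f a))).trans ?_
  exact RingHom.congr_fun hh a

end Groth.Agent.S19578
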