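import Groth.Statements.S19579
import Groth.Agent.AbPrim.Geometric
import Groth.Agent.Rigid.Smooth
-- import your own Groth.Agent.* helpers here

set_option autoImplicit false
universe u
open CategoryTheory CategoryTheory.Limits MonoidalCategory CartesianMonoidalCategory MonObj AlgebraicGeometry
open AbVar

set_option backward.isDefEq.respectTransparency false
set_option backward.isDefEq.respectTransparency.types false
set_option linter.style.haveILetI false

namespace Groth.Agent.S19579

open Groth.Agent.W7Cube (pull pull_pull)
open Groth.Agent.AbPrim (val pull_val defect univDefect)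
open Groth.Agent.W7Cube in
attribute [local instance] law

/-- The implication from triviality of the Mumford bundle on one fibre to its triviality relative to the
base, with the identification of the descended bundle. Let X be an abelian variety over a field k
(proper, geometrically integral k-group scheme with multiplication m and unit e), T a connected
locally Noetherian k-scheme and L an invertible module on X ×_k T. On X ×_k X ×_k T let m_T, p_13,
p_23 be the maps to X ×_k T induced by m and by the two projections X × X → X, π the projection to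
T, and e_T : T → X ×_k T the unit section. If there is a point t of T over whose fibre X × X × Spec
k(t) the modules m_T^*L and p_13^*L ⊗ p_23^*L become isomorphic (equivalently the Mumford bundle
Λ(L) = m_T^*L ⊗ p_13^*L⁻¹ ⊗ p_23^*L⁻¹ is trivial on one fibre), then m_T^*L ⊗ π^*(e_T^*L) and
p_13^*L ⊗ p_23^*L are isomorphic on all of X × X × T, i.e. Λ(L) ≅ π^*N with N = e_T^*L⁻¹ (existence
of an isomorphism). -/
theorem result (k : Type u) [Field k]
    (X T : Over (Spec (CommRingCat.of k)))
    [GrpObj X] [IsProper X.hom] [GeometricallyIntegral X.hom]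
    [IsLocallyNoetherian T.left] [ConnectedSpace ↥T.left]
    (L : (X ⊗ T).left.Modules) (hL : PicF.IsInvertible L)
    (t : ↥T.left)
    (ht : Nonempty
      ((Scheme.Modules.pullback (pullback.fst (snd (X ⊗ X) T).left
          (T.left.fromSpecResidueField t))).obj
          ((Scheme.Modules.pullback (μ[X] ▷ T).left).obj L) ≅
       (Scheme.Modules.pullback (pullback.fst (snd (X ⊗ X) T).left
          (T.left.fromSpecResidueField t))).obj
          (CohB1.tensorMod ((Scheme.Modules.pullback (fst X X ▷ T).left).obj L)
            ((Scheme.Modules.pullback (snd X X ▷ T).left).obj L)))) :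
    Nonempty
      (CohB1.tensorMod ((Scheme.Modules.pullback (μ[X] ▷ T).left).obj L)
          ((Scheme.Modules.pullback (snd (X ⊗ X) T).left).obj
            ((Scheme.Modules.pullback (CartesianMonoidalCategory.lift (toUnit T ≫ η[X]) (𝟙 T)).left).obj L)) ≅
        CohB1.tensorMod ((Scheme.Modules.pullback (fst X X ▷ T).left).obj L)
          ((Scheme.Modules.pullback (snd X X ▷ T).left).obj L)) := by
  haveI : GeometricallyConnected X.hom := Groth.Agent.W7See.geometricallyConnected_of_geometricallyIntegral X.hom
  haveI : LocallyOfFinitePresentation X.hom := inferInstance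
  haveI : Flat X.hom := inferInstance
  let c : PicLoc.PicSet (X ⊗ T).left := PicGrp.cls L hL
  have e : ∀ (h : X ⊗ X ⟶ X) , (h ▷ T).left = (lift (fst (X ⊗ X) T ≫ h) (snd (X ⊗ X) T)).left := fun h =>
    congrArg (fun m : (X ⊗ X) ⊗ T ⟶ X ⊗ T => m.left) (CartesianMonoidalCategory.hom_ext _ _ (by simp) (by simp))
  let a := pull (μ[X] ▷ T).left c
  let b := pull (fst X X ▷ T).left c * pull (snd X X ▷ T).left c
  let o := pull (snd (X ⊗ X) T).left (pull (CartesianMonoidalCategory.lift (toUnit T ≫ η[X]) (𝟙 T)).left c)
  have ho : val c 1 (snd (X ⊗ X) T) = o := by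
    change _ = pull (snd (X ⊗ X) T).left (val c (toUnit T ≫ η[X]) (𝟙 T))
    rw [pull_val, ← Category.assoc, toUnit_unique (snd (X ⊗ X) T ≫ toUnit T) (toUnit _), Category.comp_id, ← Hom.one_def]
  have hU : univDefect c = a * o * b⁻¹ := by
    simp only [univDefect, defect, a, b]
    rw [ho, show (fst (X ⊗ X) T ≫ fst X X) * (fst (X ⊗ X) T ≫ snd X X) = fst (X ⊗ X) T ≫ μ[X] by
      rw [← MonObj.comp_mul, Hom.mul_def, lift_fst_snd, Category.id_comp], e, e, e]
    rfl
  let j := (pullback.snd (X ⊗ X).hom T.hom).fiberι t
  have hab : pull j a = pull j b := by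
    obtain ⟨i⟩ := ht
    change _ = pull j (pull (fst X X ▷ T).left c * pull (snd X X ▷ T).left c)
    refine Subtype.ext ?_
    exact Quot.sound ⟨i⟩
  have ho1 : pull j o = 1 := by
    refine (pull_pull _ _ _).trans ?_
    change pull (j ≫ pullback.snd (X ⊗ X).hom T.hom) _ = 1
    rw [show j ≫ pullback.snd (X ⊗ X).hom T.hom =
      (pullback.snd (X ⊗ X).hom T.hom).fiberToSpecResidueField t ≫ T.left.fromSpecResidueField t from
      (pullback.snd (X ⊗ X).hom T.hom).fiber_fac t, ← pull_pull]
    haveI : Subsingleton (Spec (T.left.residueField t)) := inferInstanceAs (Subsingleton (PrimeSpectrum _))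
    haveI : Nonempty (Spec (T.left.residueField t)) := inferInstanceAs (Nonempty (PrimeSpectrum _))
    obtain ⟨M, hM, hMe⟩ := PicGrp.exists_eq_cls (pull (T.left.fromSpecResidueField t)
      (pull (CartesianMonoidalCategory.lift (toUnit T ≫ η[X]) (𝟙 T)).left c))
    rw [hMe, (PicGrp.cls_eq_one_iff hM).2 (Groth.Agent.W7See.nonempty_iso_unit_of_subsingleton hM), map_one]
  have h := Groth.Agent.AbPrim.univDefect_eq_one_of_connected c t (by
    rw [hU, map_mul, map_mul, map_inv, hab, ho1, _root_.mul_one]
    exact mul_inv_cancel _)
  rw [hU, mul_inv_eq_one] at h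
  have h' : (a * o).1 = b.1 := congrArg Subtype.val h
  exact Groth.Agent.PicFam.nonempty_iso_of_cl_eq h'

end Groth.Agent.S19579
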