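import Groth.Statements.S19586
import Mathlib
import Groth.Agent.LocIntAnn.Basic
import Groth.Agent.S14477

set_option linter.style.haveILetI false

set_option autoImplicit false
universe u
open KaehlerDifferential
open LocInt

namespace Groth.Agent.S19586

open TensorProduct


/-- Let A → B be a smooth ring map with Ω_{B/A} of rank n at every prime of B, g ∈ B a nonzerodivisor
and R = B/gB, so that Spec R is a hypersurface of virtual relative dimension n − 1 over Spec A. Let
J ⊆ R be the annihilator of the n-th exterior power of Ω_{R/A} and Z = V(J) ⊆ Spec R. Then the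
underlying set of Z is exactly the set of primes at which R is not smooth over A: for a prime p of
R, J ⊆ p if and only if the localization R_p is not formally smooth over A. -/
theorem result (A B R : Type u) [CommRing A] [CommRing B] [CommRing R]
    [Algebra A B] [Algebra B R] [Algebra A R] [IsScalarTower A B R] [Algebra.Smooth A B] (n : ℕ)
    (hn : ∀ p : PrimeSpectrum B, Module.rankAtStalk (Ω[B⁄A]) p = n)
    (g : B) (hg : IsSMulRegular B g) (hsurj : Function.Surjective (algebraMap B R))
    (hker : RingHom.ker (algebraMap B R) = Ideal.span {g}) (p : PrimeSpectrum R) :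
    (⋀[R]^n (Ω[R⁄A])).annihilator ≤ p.asIdeal ↔ p ∉ Algebra.smoothLocus A R := by
  classical
  rw [Groth.Agent.S14477.result A B R n hn g hg hsurj hker, Ideal.span_le]
  let q : Ideal B := p.asIdeal.comap (algebraMap B R)
  let Bq := Localization.AtPrime q
  let Rp := Localization.AtPrime p.asIdeal
  letI : Algebra Bq Rp := (Localization.localRingHom q p.asIdeal (algebraMap B R) rfl).toAlgebra
  haveI : IsScalarTower B Bq Rp := IsScalarTower.of_algebraMap_eq fun b ↦ by
    rw [RingHom.algebraMap_toAlgebra, Localization.localRingHom_to_map, ← IsScalarTower.algebraMap_apply]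
  haveI : IsScalarTower A Bq Rp := IsScalarTower.of_algebraMap_eq fun x ↦ by
    rw [IsScalarTower.algebraMap_apply A B Bq, ← IsScalarTower.algebraMap_apply B Bq Rp,
      ← IsScalarTower.algebraMap_apply A B Rp]
  haveI : Algebra.FormallySmooth A Bq :=
    haveI : Algebra.FormallySmooth B Bq := Algebra.FormallySmooth.of_isLocalization q.primeCompl
    Algebra.FormallySmooth.comp A B Bq
  have hg0 : algebraMap B R g = 0 := by
    rw [← RingHom.mem_ker, hker]; exact Ideal.mem_span_singleton_self g
  have hgq : g ∈ q := by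
    show algebraMap B R g ∈ p.asIdeal
    rw [hg0]; exact zero_mem _
  have hsp : Function.Surjective (algebraMap Bq Rp) := by
    intro x
    obtain ⟨r, ⟨s, hs⟩, rfl⟩ := IsLocalization.exists_mk'_eq p.asIdeal.primeCompl x
    obtain ⟨b, rfl⟩ := hsurj r
    obtain ⟨t, rfl⟩ := hsurj s
    exact ⟨IsLocalization.mk' Bq b (⟨t, hs⟩ : q.primeCompl),
      Localization.localRingHom_mk' q p.asIdeal _ rfl b ⟨t, hs⟩⟩
  have hgz : algebraMap Bq Rp (algebraMap B Bq g) = 0 := by
    rw [← IsScalarTower.algebraMap_apply, IsScalarTower.algebraMap_apply B R Rp, hg0, map_zero]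
  have hkp : RingHom.ker (algebraMap Bq Rp) = Ideal.span {algebraMap B Bq g} := by
    refine le_antisymm (fun x hx ↦ ?_) ?_
    · obtain ⟨b, t, rfl⟩ := IsLocalization.exists_mk'_eq q.primeCompl x
      rw [RingHom.mem_ker, RingHom.algebraMap_toAlgebra, Localization.localRingHom_mk',
        IsLocalization.mk'_eq_zero_iff] at hx
      obtain ⟨⟨s, hs⟩, hsb⟩ := hx
      obtain ⟨s, rfl⟩ := hsurj s
      rw [← map_mul, ← RingHom.mem_ker, hker, Ideal.mem_span_singleton'] at hsb
      obtain ⟨c, hc⟩ := hsb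
      rw [Ideal.mem_span_singleton']
      refine ⟨IsLocalization.mk' Bq c (⟨s, hs⟩ * t : q.primeCompl), ?_⟩
      rw [← IsLocalization.mk'_one (M := q.primeCompl) Bq g, ← IsLocalization.mk'_mul, hc, mul_one]
      exact IsLocalization.mk'_eq_of_eq (by simp; ring)
    · rw [Ideal.span_le, Set.singleton_subset_iff, SetLike.mem_coe, RingHom.mem_ker, hgz]
  let I := RingHom.ker (algebraMap Bq Rp)
  have hgI : algebraMap B Bq g ∈ I := hgz
  let gc : I.Cotangent := I.toCotangent ⟨_, hgI⟩
  have hgen : ∀ y : I.Cotangent, ∃ c : Bq, c • gc = y := by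
    intro y
    obtain ⟨⟨z, hz⟩, rfl⟩ := I.toCotangent_surjective y
    have hz' : z ∈ Ideal.span {algebraMap B Bq g} := hkp ▸ hz
    obtain ⟨c, rfl⟩ := Ideal.mem_span_singleton'.mp hz'
    exact ⟨c, by rw [← map_smul]; rfl⟩
  show _ ↔ ¬ Algebra.FormallySmooth A Rp
  rw [Algebra.FormallySmooth.iff_split_injection (R := A) (P := Bq) (A := Rp) hsp]
  constructor
  · rintro hJ ⟨l, hl⟩
    obtain ⟨N, f, h, -, -, hfh⟩ := Module.Finite.exists_comp_eq_id_of_projective B (Ω[B⁄A])
    let x := h (KaehlerDifferential.D A B g)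
    have hx : ∀ i, x i ∈ q := fun i ↦ hJ ⟨LinearMap.proj i ∘ₗ h, rfl⟩
    have hDg : KaehlerDifferential.D A B g = ∑ i, x i • f (Pi.single i 1) := by
      simp only [← map_smul, ← map_sum, ← pi_eq_sum_univ' x]
      exact (LinearMap.congr_fun hfh _).symm
    have key : gc = l ((1 : Rp) ⊗ₜ KaehlerDifferential.D A Bq (algebraMap B Bq g)) := by
      rw [← KaehlerDifferential.kerCotangentToTensor_toCotangent A Bq Rp ⟨_, hgI⟩]
      exact (LinearMap.congr_fun hl gc).symm
    rw [← KaehlerDifferential.map_D A A B Bq g, hDg, map_sum, TensorProduct.tmul_sum, map_sum] at key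
    choose c hc using fun i ↦ hgen (l ((1 : Rp) ⊗ₜ KaehlerDifferential.map A A B Bq (f (Pi.single i 1))))
    have key2 : gc = (∑ i, algebraMap B Bq (x i) * c i) • gc := by
      conv_lhs => rw [key]
      rw [Finset.sum_smul]
      refine Finset.sum_congr rfl fun i _ ↦ ?_
      rw [map_smul, ← algebraMap_smul Bq (x i), TensorProduct.tmul_smul, map_smul, mul_smul, hc]
    have hm : ∑ i, algebraMap B Bq (x i) * c i ∈ IsLocalRing.maximalIdeal Bq := by
      refine Ideal.sum_mem _ fun i _ ↦ Ideal.mul_mem_right _ _ ?_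
      exact (IsLocalization.AtPrime.to_map_mem_maximal_iff Bq q (x i)).mpr (hx i)
    have hunit : IsUnit (1 - ∑ i, algebraMap B Bq (x i) * c i) :=
      IsLocalRing.isUnit_one_sub_self_of_mem_nonunits _ ((IsLocalRing.mem_maximalIdeal _).mp hm)
    have hz : (1 - ∑ i, algebraMap B Bq (x i) * c i) • gc = 0 := by
      rw [sub_smul, one_smul, ← key2, sub_self]
    rw [hunit.smul_eq_zero, Ideal.toCotangent_eq_zero] at hz
    change algebraMap B Bq g ∈ I ^ 2 at hz
    rw [show I = _ from hkp, Ideal.span_singleton_pow, Ideal.mem_span_singleton'] at hz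
    obtain ⟨y, hy⟩ := hz
    obtain ⟨b, ⟨t, ht⟩, rfl⟩ := IsLocalization.exists_mk'_eq q.primeCompl y
    have hy' : algebraMap B Bq (b * g ^ 2) = algebraMap B Bq (g * t) := by
      have hmt := IsLocalization.mk'_spec Bq b (⟨t, ht⟩ : q.primeCompl)
      rw [map_mul, map_pow, map_mul, ← hmt]
      linear_combination (algebraMap B Bq t) * hy
    obtain ⟨⟨t', ht'⟩, ht''⟩ := IsLocalization.exists_of_eq (M := q.primeCompl) hy'
    have h0 : t' * (b * g) = t' * t := hg (by
      simp only at ht''
      show g * (t' * (b * g)) = g * (t' * t)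
      linear_combination ht'')
    exact q.primeCompl.mul_mem ht' ht (h0 ▸ q.mul_mem_left _ (q.mul_mem_left _ hgq))
  · intro hns
    rintro _ ⟨φ, rfl⟩
    by_contra hφ
    apply hns
    let φq : Ω[Bq⁄A] →ₗ[Bq] Bq :=
      haveI : Algebra.FormallyEtale B Bq := Algebra.FormallyEtale.of_isLocalization q.primeCompl
      (KaehlerDifferential.isBaseChange_of_formallyEtale A B Bq).lift (Algebra.linearMap B Bq ∘ₗ φ)
    have hφq : φq (KaehlerDifferential.D A Bq (algebraMap B Bq g)) =
        algebraMap B Bq (φ (KaehlerDifferential.D A B g)) := by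
      rw [← KaehlerDifferential.map_D A A B Bq g]
      exact IsBaseChange.lift_eq _ _ _
    obtain ⟨u, hu⟩ : IsUnit (algebraMap B Bq (φ (KaehlerDifferential.D A B g))) :=
      IsLocalization.map_units Bq (⟨_, hφ⟩ : q.primeCompl)
    let θ0 : Bq →ₗ[Bq] I.Cotangent := LinearMap.toSpanSingleton Bq _ gc
    have hθ0 : I ≤ LinearMap.ker θ0 := fun c hc ↦ by
      rw [LinearMap.mem_ker, LinearMap.toSpanSingleton_apply, ← map_smul, Ideal.toCotangent_eq_zero,
        pow_two]
      exact Ideal.mul_mem_mul hc hgI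
    let θ : Rp →ₗ[Bq] I.Cotangent :=
      (Submodule.liftQ I θ0 hθ0) ∘ₗ
        ((Algebra.linearMap Bq Rp).quotKerEquivOfSurjective hsp).symm.toLinearMap
    have hθ : ∀ c : Bq, θ (algebraMap Bq Rp c) = c • gc := by
      intro c
      have : ((Algebra.linearMap Bq Rp).quotKerEquivOfSurjective hsp).symm (algebraMap Bq Rp c) =
          Submodule.Quotient.mk c := by
        rw [LinearEquiv.symm_apply_eq]; rfl
      show Submodule.liftQ I θ0 hθ0
        (((Algebra.linearMap Bq Rp).quotKerEquivOfSurjective hsp).symm (algebraMap Bq Rp c)) = _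
      erw [this]
      rfl
    let ψ : Rp ⊗[Bq] Ω[Bq⁄A] →ₗ[Bq] Rp :=
      (TensorProduct.rid Bq Rp).toLinearMap ∘ₗ LinearMap.lTensor Rp (((u⁻¹ : Bqˣ) : Bq) • φq)
    refine ⟨θ ∘ₗ ψ, LinearMap.ext fun y ↦ ?_⟩
    obtain ⟨c, rfl⟩ := hgen y
    rw [map_smul, map_smul]
    congr 1
    have : ψ (KaehlerDifferential.kerCotangentToTensor A Bq Rp gc) = algebraMap Bq Rp 1 := by
      rw [KaehlerDifferential.kerCotangentToTensor_toCotangent]
      simp only [ψ, LinearMap.comp_apply, LinearEquiv.coe_coe, LinearMap.lTensor_tmul,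
        LinearMap.smul_apply, TensorProduct.rid_tmul, hφq, ← hu, smul_eq_mul, Units.inv_mul,
        one_smul, map_one]
    rw [LinearMap.comp_apply, LinearMap.comp_apply, this, hθ, one_smul]
    rfl

end Groth.Agent.S19586
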