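import Groth.Statements.S1959
import Mathlib
-- import your own Groth.Agent.* helpers here

set_option autoImplicit false
universe u
open Polynomial
open EtAlg

namespace Groth.Agent.S1959

/-- Let I be an ideal of a ring A, A -> B an integral ring map and b an element of B whose image in B/IB
is idempotent. Then there are d ≥ 1 and a monic polynomial f over A with f(b) = 0 whose reduction
modulo I is x^d (x - 1)^d. -/
theorem result (A B : Type u) [CommRing A] [CommRing B] [Algebra A B]
    [Algebra.IsIntegral A B] (I : Ideal A) (b : B)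
    (hb : IsIdempotentElem (Ideal.Quotient.mk (I.map (algebraMap A B)) b)) :
    ∃ (f : A[X]) (d : ℕ), f.Monic ∧ 1 ≤ d ∧ aeval b f = 0 ∧
      f.map (Ideal.Quotient.mk I) = X ^ d * (X - 1) ^ d := by
  have hmem : b * b - b ∈ I.map (algebraMap A B) := by
    rw [← Ideal.Quotient.eq, map_mul]
    exact hb.eq
  obtain ⟨p, hp, hpz, hpc⟩ := Polynomial.exists_monic_aeval_eq_zero_forall_mem_of_mem_map hmem
  have hsq : (X ^ 2 - X : A[X]).Monic := monic_X_pow_sub (degree_X_le.trans_lt (by exact_mod_cast one_lt_two))
  refine ⟨(X ^ 2 - X) * p.comp (X ^ 2 - X), p.natDegree + 1, hsq.mul ?_, Nat.le_add_left 1 _, ?_, ?_⟩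
  · nontriviality A
    refine hp.comp hsq ?_
    rw [natDegree_sub_eq_left_of_natDegree_lt (by simp)]
    simp
  · rw [map_mul, aeval_comp, show aeval b (X ^ 2 - X : A[X]) = b * b - b by simp [pow_two], hpz, mul_zero]
  · have hpm : p.map (Ideal.Quotient.mk I) = X ^ p.natDegree := by
      ext i
      rw [coeff_map, coeff_X_pow]
      split_ifs with h
      · rw [h, hp.coeff_natDegree, map_one]
      · exact Ideal.Quotient.eq_zero_iff_mem.2 (hpc i h)
    rw [Polynomial.map_mul, Polynomial.map_comp, hpm, Polynomial.map_sub, Polynomial.map_pow, map_X, pow_comp, X_comp,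
      show (X ^ 2 - X : (A ⧸ I)[X]) = X * (X - 1) by ring, mul_pow, pow_succ, pow_succ]
    ring

end Groth.Agent.S1959
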