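import Groth.Statements.S19590
import Mathlib

set_option autoImplicit false
open BddFin

namespace Groth.Agent.S19590

theorem one_add_pow_eq {n : ℕ} (X : Matrix (Fin n) (Fin n) ℤ) (m : ℕ) :
    ∃ P : Matrix (Fin n) (Fin n) ℤ, (1 + X) ^ m = 1 + (m : ℤ) • X + X * X * P := by
  induction m with
  | zero => exact ⟨0, by simp⟩
  | succ m ih =>
    obtain ⟨P, hP⟩ := ih
    refine ⟨(m : ℤ) • 1 + P * (1 + X), ?_⟩
    rw [pow_succ, hP, Nat.cast_succ, add_smul, one_smul]
    simp only [add_mul, mul_add, mul_one, one_mul, smul_mul_assoc, mul_smul_comm, mul_assoc]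
    abel

theorem eq_one_of_pow_eq_one {n q : ℕ} (hq : q.Prime) (g : Matrix (Fin n) (Fin n) ℤ)
    (hg : g ^ q = 1) (h3 : ∀ i j, (3 : ℤ) ∣ (g - 1) i j) : g = 1 := by
  classical
  suffices key : ∀ k, 1 ≤ k → (∀ i j, (3 : ℤ) ^ k ∣ (g - 1) i j) → ∀ i j, (3 : ℤ) ^ (k + 1) ∣ (g - 1) i j by
    have hall : ∀ k, ∀ i j, (3 : ℤ) ^ (k + 1) ∣ (g - 1) i j := by
      intro k
      induction k with
      | zero => simpa using h3
      | succ k ih => exact key (k + 1) (Nat.succ_pos k) ih
    rw [← sub_eq_zero]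
    ext i j
    by_contra hne
    obtain ⟨k, hk⟩ := (Int.finiteMultiplicity_iff (a := (3 : ℤ))).2 ⟨by norm_num, hne⟩
    exact hk (hall k i j)
  intro k hk hdvd i j
  choose N hN using hdvd
  have hX : g - 1 = (3 : ℤ) ^ k • Matrix.of N := by
    ext a b; simp [hN]
  have hgX : g = 1 + (3 : ℤ) ^ k • Matrix.of N := by rw [← hX]; abel
  have h0 : (3 : ℤ) ∣ N i j := by
    by_cases hq3 : q = 3
    · subst hq3
      have e : (3 : ℤ) ^ (k + 1) • (Matrix.of N + (3 : ℤ) ^ k • (Matrix.of N * Matrix.of N) +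
          (3 : ℤ) ^ (2 * k - 1) • (Matrix.of N * Matrix.of N * Matrix.of N)) = 0 := by
        have h4 : (3 : ℤ) * ((3 : ℤ) ^ k * 3 ^ (2 * k - 1)) = 3 ^ k * (3 ^ k * 3 ^ k) := by
          rw [← pow_add, ← pow_add, ← pow_add, ← pow_succ']
          congr 1
          omega
        rw [hgX] at hg
        simp only [pow_succ, pow_zero, one_mul, add_mul, mul_add, mul_one, smul_mul_assoc,
          mul_smul_comm, smul_smul, smul_add] at hg ⊢
        linear_combination (norm := skip) hg
        rw [show (3 : ℤ) ^ k * 3 * 3 ^ (2 * k - 1) = 3 ^ k * (3 ^ k * 3 ^ k) by rw [← h4]; ring]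
        module
      rcases smul_eq_zero.1 e with h | h
      · exact absurd h (pow_ne_zero _ (by norm_num))
      · have h1 := congrFun (congrFun h i) j
        simp only [Matrix.add_apply, Matrix.smul_apply, smul_eq_mul, Matrix.zero_apply, Matrix.of_apply] at h1
        obtain ⟨c, hc⟩ : (3 : ℤ) ∣ 3 ^ k := dvd_pow_self 3 (by omega)
        obtain ⟨c', hc'⟩ : (3 : ℤ) ∣ 3 ^ (2 * k - 1) := dvd_pow_self 3 (by omega)
        rw [hc, hc'] at h1
        refine ⟨-(c * (Matrix.of N * Matrix.of N) i j +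
          c' * (Matrix.of N * Matrix.of N * Matrix.of N) i j), ?_⟩
        linear_combination h1
    · obtain ⟨P, hP⟩ := one_add_pow_eq ((3 : ℤ) ^ k • Matrix.of N) q
      rw [← hgX, hg] at hP
      have e : (3 : ℤ) ^ k • ((q : ℤ) • Matrix.of N + (3 : ℤ) ^ k • (Matrix.of N * Matrix.of N * P)) = 0 := by
        simp only [smul_add, smul_smul, smul_mul_assoc, mul_smul_comm, mul_comm ((3 : ℤ) ^ k) (q : ℤ)] at hP ⊢
        linear_combination (norm := module) (-1 : ℤ) • hP
      rcases smul_eq_zero.1 e with h | h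
      · exact absurd h (pow_ne_zero _ (by norm_num))
      · have h1 := congrFun (congrFun h i) j
        simp only [Matrix.add_apply, Matrix.smul_apply, smul_eq_mul, Matrix.zero_apply, Matrix.of_apply] at h1
        obtain ⟨c, hc⟩ : (3 : ℤ) ∣ 3 ^ k := dvd_pow_self 3 (by omega)
        rw [hc] at h1
        have : (3 : ℤ) ∣ (q : ℤ) * N i j :=
          ⟨-(c * (Matrix.of N * Matrix.of N * P) i j), by linear_combination h1⟩
        refine ((Int.Prime.dvd_mul' (p := 3) (by norm_num) this)).resolve_left fun h => hq3 ?_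
        exact ((Nat.prime_dvd_prime_iff_eq (by norm_num) hq).1 (Int.natCast_dvd_natCast.1 h)).symm
  rw [hN, pow_succ]
  exact mul_dvd_mul_left _ h0


/-- For every n, the orders of the finite subgroups of GL_n(ℤ) are bounded: there is B such that every
finite subgroup of GL_n(ℤ) has at most B elements. -/
theorem result (n : ℕ) :
    ∃ B : ℕ, ∀ H : Subgroup (Matrix.GeneralLinearGroup (Fin n) ℤ), Finite H → Nat.card H ≤ B := by
  classical
  refine ⟨Fintype.card (Matrix.GeneralLinearGroup (Fin n) (ZMod 3)), fun H hH => ?_⟩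
  haveI := hH
  let f : H →* Matrix.GeneralLinearGroup (Fin n) (ZMod 3) :=
    (Matrix.GeneralLinearGroup.map (Int.castRingHom (ZMod 3))).comp H.subtype
  refine (Nat.card_le_card_of_injective f ((MonoidHom.ker_eq_bot_iff f).1 ?_)).trans_eq Nat.card_eq_fintype_card
  by_contra hne
  haveI : Nontrivial f.ker := (Subgroup.nontrivial_iff_ne_bot _).2 hne
  obtain ⟨q, hq, hdvd⟩ := Nat.exists_prime_and_dvd (Finite.one_lt_card (α := f.ker)).ne'
  haveI := Fact.mk hq
  obtain ⟨g, hg⟩ := exists_prime_orderOf_dvd_card' q hdvd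
  have h1 : ((((g : H) : Matrix.GeneralLinearGroup (Fin n) ℤ)) : Matrix (Fin n) (Fin n) ℤ) ^ q = 1 := by
    have := pow_orderOf_eq_one g
    rw [hg] at this
    have h2 := congrArg (fun x : f.ker => (((x : H) : Matrix.GeneralLinearGroup (Fin n) ℤ) : Matrix (Fin n) (Fin n) ℤ)) this
    simpa using h2
  have h3 := eq_one_of_pow_eq_one hq _ h1 fun i j => by
    have h4 := congrArg (fun x : Matrix.GeneralLinearGroup (Fin n) (ZMod 3) => (x : Matrix (Fin n) (Fin n) (ZMod 3)) i j) (MonoidHom.mem_ker.1 g.2)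
    simp [f] at h4
    refine (ZMod.intCast_zmod_eq_zero_iff_dvd _ 3).1 ?_
    rw [Matrix.sub_apply, Int.cast_sub, h4, Matrix.one_apply, Matrix.one_apply]
    split_ifs <;> simp
  have h5 : g = 1 := by
    apply Subtype.ext; apply Subtype.ext; apply Units.ext
    simpa using h3
  rw [h5, orderOf_one] at hg
  exact hq.ne_one hg.symm

end Groth.Agent.S19590
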