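import Groth.Statements.S19591
import Mathlib

set_option autoImplicit false
universe u v
open BddFin

namespace Groth.Agent.S19591

/-- Let K be a perfect field of characteristic 2, V a finite-dimensional K-vector space with dim V > 2
and q a quadratic form on V whose polar bilinear form is non-degenerate. Then q represents zero
non-trivially. (Non-degeneracy of the polar form, which is alternating in characteristic 2, forces
dim V to be even, as the published lemma notes.) -/
theorem result
    (K : Type u) [Field K] [CharP K 2] [PerfectField K]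
    (V : Type v) [AddCommGroup V] [Module K V] [FiniteDimensional K V]
    (hV : 2 < Module.finrank K V) (q : QuadraticForm K V)
    (hq : (QuadraticMap.polarBilin q).Nondegenerate) :
    ∃ v : V, v ≠ 0 ∧ q v = 0 := by
  obtain ⟨v₁, hv₁⟩ : ∃ v : V, v ≠ 0 := by
    haveI : Nontrivial V := Module.nontrivial_of_finrank_pos (R := K) (by omega)
    exact exists_ne 0
  let f : V →ₗ[K] K := QuadraticMap.polarBilin q v₁
  have hk : ¬ LinearMap.ker f ≤ Submodule.span K {v₁} := by
    intro hle
    have h1 := Submodule.finrank_mono hle
    rw [finrank_span_singleton hv₁] at h1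
    have h2 := f.finrank_range_add_finrank_ker
    have h3 : Module.finrank K (LinearMap.range f) ≤ 1 :=
      (Submodule.finrank_le _).trans (by simp)
    omega
  obtain ⟨v₂, hv₂, hv₂'⟩ := SetLike.not_le_iff_exists.1 hk
  by_cases h0 : q v₁ = 0
  · exact ⟨v₁, hv₁, h0⟩
  haveI : Fact (Nat.Prime 2) := ⟨Nat.prime_two⟩
  haveI : PerfectRing K 2 := PerfectField.toPerfectRing 2
  obtain ⟨c, hc⟩ := surjective_frobenius K 2 (q v₂ / q v₁)
  refine ⟨c • v₁ + v₂, ?_, ?_⟩
  · intro h
    exact hv₂' (Submodule.mem_span_singleton.2 ⟨-c, by rw [neg_smul]; exact neg_eq_of_add_eq_zero_right h⟩)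
  · have hp : QuadraticMap.polar q v₁ v₂ = 0 := hv₂
    rw [QuadraticMap.map_add (f := q), QuadraticMap.map_smul, QuadraticMap.polar_smul_left, hp,
      smul_zero, add_zero, smul_eq_mul, ← pow_two]
    rw [frobenius_def] at hc
    rw [hc, div_mul_cancel₀ _ h0]
    exact CharTwo.add_self_eq_zero _

end Groth.Agent.S19591
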