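import Groth.Statements.S1960
import Mathlib
-- import your own Groth.Agent.* helpers here

set_option autoImplicit false
universe u
open EtAlg

namespace Groth.Agent.S1960

/-- For a ring map φ : R -> S and ideals I of R and J of S such that V(I) does not meet the closure in
Spec R of the image of V(J), some f in R is congruent to 1 modulo I and has φ(f) in J. -/
theorem result {R S : Type u} [CommRing R] [CommRing S] (φ : R →+* S) (I : Ideal R)
    (J : Ideal S)
    (h : Disjoint (closure (PrimeSpectrum.comap φ '' PrimeSpectrum.zeroLocus (J : Set S))) (PrimeSpectrum.zeroLocus (I : Set R))) :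
    ∃ f : R, f - 1 ∈ I ∧ φ f ∈ J := by
  by_contra hne
  push_neg at hne
  have htop : J.comap φ ⊔ I = ⊤ := by
    by_contra hne'
    obtain ⟨M, hM, hle⟩ := Ideal.exists_le_maximal _ hne'
    let p : PrimeSpectrum R := ⟨M, hM.isPrime⟩
    have h1 : p ∈ closure (PrimeSpectrum.comap φ '' PrimeSpectrum.zeroLocus (J : Set S)) := by
      rw [PrimeSpectrum.closure_image_comap_zeroLocus]
      exact SetLike.coe_subset_coe.2 ((le_sup_left : J.comap φ ≤ J.comap φ ⊔ I).trans hle)
    exact Set.disjoint_left.1 h h1 (SetLike.coe_subset_coe.2 ((le_sup_right : I ≤ J.comap φ ⊔ I).trans hle))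
  obtain ⟨f, hf, i, hi, hfi⟩ := Submodule.mem_sup.1 ((Ideal.eq_top_iff_one _).1 htop)
  refine hne f ?_ hf
  rw [← hfi, sub_add_cancel_left]
  exact I.neg_mem hi

end Groth.Agent.S1960
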