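import Groth.Statements.S19600
import Groth.Agent.RedOpen.Component
-- import your own Groth.Agent.* helpers here

set_option autoImplicit false
open CategoryTheory CategoryTheory.Limits MonoidalCategory CartesianMonoidalCategory MonObj GrpObj AlgebraicGeometry
universe u
open Red

set_option backward.isDefEq.respectTransparency false

namespace Groth.Agent.S19600

/-- Let G be a smooth affine group scheme over a scheme S, with possibly disconnected fibres. Then the
locus of points s of S at which the identity component of the geometric fibre of G is reductive (the
geometric fibre has an open subgroup scheme which is affine, smooth, connected and reductive) is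
open in S. -/
theorem result {S : Scheme.{u}} (G : Over S) [GrpObj G]
    (hG : Smooth G.hom) (hGa : IsAffineHom G.hom) :
    IsOpen {s : S | ∃ (U : Over (Spec (CommRingCat.of (AlgebraicClosure (S.residueField s))))) (_ : GrpObj U)
        (j : U ⟶ Red.geomFibre s G) (_ : IsMonHom j), IsOpenImmersion j.left ∧
          Red.IsReductiveOver (AlgebraicClosure (S.residueField s)) U} := by
  haveI := hG; haveI := hGa
  convert RedOpen.isOpen_noUni G using 1
  ext s
  haveI : Smooth (Red.geomFibre s G).hom := inferInstanceAs (Smooth (pullback.snd G.hom _))
  haveI : IsAffineHom (Red.geomFibre s G).hom := inferInstanceAs (IsAffineHom (pullback.snd G.hom _))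
  haveI : IsAffine (Red.geomFibre s G).left := isAffine_of_isAffineHom (Red.geomFibre s G).hom
  constructor
  · rintro ⟨U, _, j, _, hj, hU⟩
    haveI := hj
    haveI := hU.2.2.1
    exact RedOpen.noUni_of_openSub j hU.2.2.2
  · intro h
    obtain ⟨G₀, _, j, _, hjo, hjc, hconn, -⟩ := RedOpen.exists_open_connected (Red.geomFibre s G)
    haveI := hjo; haveI := hjc; haveI := hconn
    refine ⟨G₀, inferInstance, j, inferInstance, hjo, isAffine_of_isAffineHom j.left, ?_, hconn,
      (RedOpen.noUni_openSub_iff j).2 h⟩
    rw [← Over.w j]
    infer_instance

end Groth.Agent.S19600
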