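import Groth.Statements.S19601
import Groth.Agent.RedOpen.Disconn
-- import your own Groth.Agent.* helpers here

set_option autoImplicit false
open CategoryTheory MonoidalCategory CartesianMonoidalCategory MonObj GrpObj AlgebraicGeometry
universe u
open Red

set_option backward.isDefEq.respectTransparency false

namespace Groth.Agent.S19601
open Groth.Agent

/-- Let G be a smooth affine group scheme over a scheme S, with possibly disconnected fibres. Then the
locus of points s of S at which the identity component of the geometric fibre of G is semisimple
(the geometric fibre has an open subgroup scheme which is affine, smooth, connected and semisimple)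
is open in S. -/
theorem result {S : Scheme.{u}} (G : Over S) [GrpObj G]
    (hG : Smooth G.hom) (hGa : IsAffineHom G.hom) :
    IsOpen {s : S | ∃ (U : Over (Spec (CommRingCat.of (AlgebraicClosure (S.residueField s))))) (_ : GrpObj U)
        (j : U ⟶ Red.geomFibre s G) (_ : IsMonHom j), IsOpenImmersion j.left ∧
          Red.IsSemisimpleOver (AlgebraicClosure (S.residueField s)) U} := by
  haveI := hG; haveI := hGa
  exact RedOpen.isOpen_semisimple_component G

end Groth.Agent.S19601
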