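import Groth.Statements.S19602
import Groth.Agent.GLRed.Separation

set_option autoImplicit false
universe u
open GIT

namespace Groth.Agent.S19602

/-- Let k be an algebraically closed field, G = Spec A a linearly reductive affine algebraic group over
k, and U = Spec R an affine k-scheme of finite type on which G acts. Two k-points x₁, x₂ of U have
the same image in U//G = Spec R^G if and only if the closures of their orbits have a common k-point.
Stated in coaction form. The published statement allows any affine U and asks only that the two
orbit closures meet; this row assumes U of finite type over k and asks for a common k-point, which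
is then equivalent. -/
theorem result (k : Type u) [Field k] [IsAlgClosed k]
    (A : Type u) [CommRing A] [HopfAlgebra k A] [Algebra.FiniteType k A] (hG : HopfRep.IsLinearlyReductive k A)
    (R : Type u) [CommRing R] [Algebra k R] [Algebra.FiniteType k R] [HopfRep.Comod k A R] [GLin.IsCoactAlg k A R]
    (x₁ x₂ : R →ₐ[k] k) :
    x₁.comp (GLin.invariants k A R).val = x₂.comp (GLin.invariants k A R).val ↔
      ∃ z : R →ₐ[k] k, GLin.InOrbitClosure k A x₁ z ∧ GLin.InOrbitClosure k A x₂ z := by
  obtain ⟨r⟩ := Comod.nonempty_integral hG
  refine ⟨fun h => GLRed.exists_common_closure r x₁ x₂ fun f hf => DFunLike.congr_fun h ⟨f, hf⟩, ?_⟩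
  rintro ⟨z, h1, h2⟩
  refine AlgHom.ext fun f => ?_
  exact (GLRed.eq_of_inOrbitClosure h1 f.2).symm.trans (GLRed.eq_of_inOrbitClosure h2 f.2)

end Groth.Agent.S19602
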