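import Groth.Statements.S19606
import Groth.Agent.AffCrit.Hom
import Groth.Agent.KosExt.Hom
import Groth.Agent.Conormal.Maps

set_option autoImplicit false
set_option backward.isDefEq.respectTransparency false
universe u
open CategoryTheory CategoryTheory.Limits AlgebraicGeometry
open ClSub

namespace Groth.Agent.S19606

open Groth.Agent

lemma biprod_ext {X : Scheme.{u}} {A B : X.Modules} (W : X.Opens) {s t : Γ(A ⊞ B, W)}
    (h₁ : (biprod.fst : A ⊞ B ⟶ A).app W s = (biprod.fst : A ⊞ B ⟶ A).app W t)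
    (h₂ : (biprod.snd : A ⊞ B ⟶ B).app W s = (biprod.snd : A ⊞ B ⟶ B).app W t) : s = t := by
  have h : ∀ z : Γ(A ⊞ B, W), (biprod.inl : A ⟶ A ⊞ B).app W ((biprod.fst : A ⊞ B ⟶ A).app W z) +
      (biprod.inr : B ⟶ A ⊞ B).app W ((biprod.snd : A ⊞ B ⟶ B).app W z) = z := fun z =>
    congr(($(biprod.total (X := A) (Y := B))).app W z)
  rw [← h s, ← h t, h₁, h₂]

/-- Let X be a scheme and I₁, I₂ quasi-coherent ideal sheaves with I₁ ⊓ I₂ = 0, cutting out closed
subschemes X₁, X₂ and X₁ ∩ X₂ (ideal I₁ + I₂). Then 0 → O_X → O_X/I₁ ⊕ O_X/I₂ → O_X/(I₁ + I₂) → 0 is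
an exact sequence of O_X-modules, the maps being the two restrictions and the difference of the
restrictions q₁, q₂ (the module maps compatible with the quotient maps from O_X). The published
statement is for a locally free sheaf E on a reduced scheme with two irreducible components X₁, X₂
(whose ideals meet in zero); this row is the case E = O_X for any two ideals with zero intersection,
which is what the local argument uses. -/
theorem result (X : Scheme.{u}) (I₁ I₂ : X.IdealSheafData)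
    (h : I₁ ⊓ I₂ = ⊥)
    (q₁ : ClSub.quotMod I₁ ⟶ ClSub.quotMod (I₁ ⊔ I₂)) (q₂ : ClSub.quotMod I₂ ⟶ ClSub.quotMod (I₁ ⊔ I₂))
    (hq₁ : ClSub.toSubscheme I₁ ≫ q₁ = ClSub.toSubscheme (I₁ ⊔ I₂))
    (hq₂ : ClSub.toSubscheme I₂ ≫ q₂ = ClSub.toSubscheme (I₁ ⊔ I₂)) :
    Epi (biprod.desc q₁ (-q₂)) ∧
      ∃ w : biprod.lift (ClSub.toSubscheme I₁) (ClSub.toSubscheme I₂) ≫ biprod.desc q₁ (-q₂) = 0,
        Nonempty (IsLimit (KernelFork.ofι (biprod.lift (ClSub.toSubscheme I₁) (ClSub.toSubscheme I₂)) w)) := by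
  have hS : Conormal.IsBasisFam {W : X.Opens | IsAffineOpen W} := fun O z hz => by
    obtain ⟨U, hzU, hU⟩ := KosExt.exists_affine_le hz
    exact ⟨U.1, U.2, hU, hzU⟩
  let J := I₁ ⊔ I₂
  have hker : ∀ (I : X.IdealSheafData) (W : X.affineOpens) (a : Γ(X, W.1)),
      (ClSub.toSubscheme I).app W.1 a = 0 ↔ a ∈ I.ideal W := fun I W a => by
    rw [← I.ker_subschemeι_app, RingHom.mem_ker]
    rfl
  have hsurj : ∀ (I : X.IdealSheafData) (W : X.affineOpens),
      Function.Surjective ((ClSub.toSubscheme I).app W.1) := fun I W t => by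
    obtain ⟨a, ha⟩ := I.subschemeι_app_surjective W t
    exact ⟨a, (QC.unitToPush_app _ _ _).trans ha⟩
  haveI := (AffCrit.epi_toSubscheme J).2
  haveI : Epi q₁ := epi_of_epi_fac hq₁
  have hw : biprod.lift (ClSub.toSubscheme I₁) (ClSub.toSubscheme I₂) ≫ biprod.desc q₁ (-q₂) = 0 := by
    rw [biprod.lift_desc, Preadditive.comp_neg, hq₁, hq₂, add_neg_cancel]
  let S := ShortComplex.mk _ _ hw
  have hfst : ∀ (W : X.Opens) a, (biprod.fst : ClSub.quotMod I₁ ⊞ ClSub.quotMod I₂ ⟶ _).app W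
      ((biprod.lift (ClSub.toSubscheme I₁) (ClSub.toSubscheme I₂)).app W a) = (ClSub.toSubscheme I₁).app W a :=
    fun W a => congr(($(biprod.lift_fst (ClSub.toSubscheme I₁) (ClSub.toSubscheme I₂))).app W a)
  have hsnd : ∀ (W : X.Opens) a, (biprod.snd : ClSub.quotMod I₁ ⊞ ClSub.quotMod I₂ ⟶ _).app W
      ((biprod.lift (ClSub.toSubscheme I₁) (ClSub.toSubscheme I₂)).app W a) = (ClSub.toSubscheme I₂).app W a :=
    fun W a => congr(($(biprod.lift_snd (ClSub.toSubscheme I₁) (ClSub.toSubscheme I₂))).app W a)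
  haveI hmono : Mono S.f := by
    refine Conormal.mono_of_basis _ hS fun W hW => (injective_iff_map_eq_zero _).2 fun a ha => ?_
    have h1 := (hfst W a).symm.trans ((congrArg _ ha).trans (map_zero _))
    have h2 := (hsnd W a).symm.trans ((congrArg _ ha).trans (map_zero _))
    have h3 : a ∈ (I₁ ⊓ I₂).ideal ⟨W, hW⟩ := by
      rw [Scheme.IdealSheafData.ideal_inf]
      exact ⟨(hker I₁ ⟨W, hW⟩ a).1 h1, (hker I₂ ⟨W, hW⟩ a).1 h2⟩
    rw [h, Scheme.IdealSheafData.ideal_bot] at h3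
    exact h3
  have hex : S.Exact := by
    refine Conormal.exact_of_basis S hS fun W hW z hz => ?_
    let Q := (biprod.fst : ClSub.quotMod I₁ ⊞ ClSub.quotMod I₂ ⟶ _).app W z
    let R := (biprod.snd : ClSub.quotMod I₁ ⊞ ClSub.quotMod I₂ ⟶ _).app W z
    obtain ⟨a, ha⟩ := hsurj I₁ ⟨W, hW⟩ Q
    obtain ⟨b, hb⟩ := hsurj I₂ ⟨W, hW⟩ R
    have hd : q₁.app W Q + (-q₂).app W R = 0 := by
      have := congr(($(biprod.desc_eq (f := q₁) (g := -q₂))).app W z)
      exact this.symm.trans hz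
    have hJ : a - b ∈ J.ideal ⟨W, hW⟩ := by
      rw [← hker, map_sub]
      have e1 := congr(($hq₁).app W a)
      have e2 := congr(($hq₂).app W b)
      rw [Scheme.Modules.Hom.comp_app, ConcreteCategory.comp_apply] at e1 e2
      rw [← e1, ← e2, ha, hb, sub_eq_add_neg]
      exact hd
    rw [Scheme.IdealSheafData.ideal_sup, Pi.sup_apply, Submodule.mem_sup] at hJ
    obtain ⟨i, hi, j, hj, hij⟩ := hJ
    refine ⟨a - i, biprod_ext W ?_ ?_⟩
    · refine (hfst W _).trans ?_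
      rw [map_sub, (hker I₁ ⟨W, hW⟩ i).2 hi, sub_zero]
      exact ha
    · refine (hsnd W _).trans ?_
      have h9 : a - i = b + j := (sub_eq_sub_iff_add_eq_add (a := a) (b := i) (c := b + j) (d := 0)).mpr (by rw [add_zero, add_assoc, add_comm j i, hij]; abel) |>.trans (sub_zero _)
      rw [h9, map_add, (hker I₂ ⟨W, hW⟩ j).2 hj, add_zero]
      exact hb
  exact ⟨epi_of_epi_fac (biprod.inl_desc q₁ (-q₂)), hw, ⟨hex.fIsKernel⟩⟩

end Groth.Agent.S19606
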