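import Groth.Statements.S19609
import Mathlib

set_option autoImplicit false
universe u
open CartMod

namespace Groth.Agent.S19609

/-- Let p be a prime and u : A → B a ring homomorphism between commutative rings which are complete and
separated for the p-adic topology and have no p-torsion (flat over the p-adic base). If u induces a
bijection A/pA → B/pB (injectivity: u a ∈ pB forces a ∈ pA; surjectivity: every b ∈ B is congruent
to some u a modulo pB), then u is bijective. (The published statement is for a morphism of flat
p-adic formal schemes over the Witt vectors of a perfect field: if its special fibre is an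
isomorphism, so is the morphism; this row is its affine, ring-level case.) -/
theorem result (p : ℕ) [Fact p.Prime]
    {A B : Type u} [CommRing A] [CommRing B]
    [IsAdicComplete (Ideal.span {(p : A)}) A] [IsAdicComplete (Ideal.span {(p : B)}) B]
    (hA : IsSMulRegular A (p : A)) (hB : IsSMulRegular B (p : B)) (u : A →+* B)
    (hinj : ∀ a : A, u a ∈ Ideal.span {(p : B)} → a ∈ Ideal.span {(p : A)})
    (hsurj : ∀ b : B, ∃ a : A, b - u a ∈ Ideal.span {(p : B)}) :
    Function.Bijective u := by
  have hA0 : ∀ (n : ℕ) (a : A), u a = 0 → a ∈ Ideal.span {(p : A)} ^ n := by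
    intro n
    induction n with
    | zero => intro a _; simp
    | succ n ih =>
      intro a ha
      obtain ⟨c, rfl⟩ := Ideal.mem_span_singleton.1 (hinj a (by rw [ha]; exact zero_mem _))
      rw [pow_succ']
      exact Ideal.mul_mem_mul (Ideal.mem_span_singleton_self _) (ih c (hB (by
        simpa [smul_eq_mul, map_mul, map_natCast] using ha)))
  constructor
  · rw [injective_iff_map_eq_zero]
    intro a ha
    exact IsHausdorff.haus (I := Ideal.span {(p : A)}) inferInstance a fun n => by
      rw [SModEq.zero, Ideal.smul_top_eq_map, Algebra.algebraMap_self, Ideal.map_id]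
      exact hA0 n a ha
  · intro b
    have hstep : ∀ (n : ℕ) (a : A), b - u a ∈ Ideal.span {(p : B) ^ n} →
        ∃ a' : A, a' - a ∈ Ideal.span {(p : A) ^ n} ∧ b - u a' ∈ Ideal.span {(p : B) ^ (n + 1)} := by
      intro n a ha
      obtain ⟨d, hd⟩ := Ideal.mem_span_singleton.1 ha
      obtain ⟨a₁, h₁⟩ := hsurj d
      obtain ⟨e, he⟩ := Ideal.mem_span_singleton.1 h₁
      refine ⟨a + (p : A) ^ n * a₁, Ideal.mem_span_singleton.2 ⟨a₁, by ring⟩,
        Ideal.mem_span_singleton.2 ⟨e, ?_⟩⟩
      rw [map_add, map_mul, map_pow, map_natCast]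
      linear_combination hd + (p : B) ^ n * he
    choose next hnext1 hnext2 using hstep
    let s : ∀ n : ℕ, {a : A // b - u a ∈ Ideal.span {(p : B) ^ n}} := fun n =>
      Nat.rec ⟨0, by simp⟩ (fun n a => ⟨next n a.1 a.2, hnext2 n a.1 a.2⟩) n
    have hmod : ∀ {m n}, m ≤ n →
        (s m).1 ≡ (s n).1 [SMOD (Ideal.span {(p : A)} ^ m • ⊤ : Submodule A A)] := by
      intro m n hmn
      induction n, hmn using Nat.le_induction with
      | base => rfl
      | succ n hn ih =>
        refine ih.trans (SModEq.symm ?_)
        rw [SModEq.sub_mem, Ideal.smul_top_eq_map, Algebra.algebraMap_self, Ideal.map_id,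
          Submodule.restrictScalars_mem]
        refine Ideal.pow_le_pow_right hn ?_
        rw [Ideal.span_singleton_pow]
        exact hnext1 n (s n).1 (s n).2
    obtain ⟨a, ha⟩ := IsPrecomplete.prec (I := Ideal.span {(p : A)}) inferInstance hmod
    refine ⟨a, (sub_eq_zero.1 ?_).symm⟩
    refine IsHausdorff.haus (I := Ideal.span {(p : B)}) inferInstance _ fun n => ?_
    rw [SModEq.zero, Ideal.smul_top_eq_map, Algebra.algebraMap_self, Ideal.map_id,
      Submodule.restrictScalars_mem, Ideal.span_singleton_pow]
    have h2 := ha n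
    rw [SModEq.sub_mem, Ideal.smul_top_eq_map, Algebra.algebraMap_self, Ideal.map_id,
      Submodule.restrictScalars_mem, Ideal.span_singleton_pow] at h2
    obtain ⟨c, hc⟩ := Ideal.mem_span_singleton.1 h2
    obtain ⟨d, hd⟩ := Ideal.mem_span_singleton.1 (s n).2
    refine Ideal.mem_span_singleton.2 ⟨d + u c, ?_⟩
    have hc' := congrArg u hc
    rw [map_sub, map_mul, map_pow, map_natCast] at hc'
    linear_combination hd + hc'

end Groth.Agent.S19609
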