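import Groth.Statements.S19610
import Groth.Agent.MLMod.FlatNil

set_option autoImplicit false
universe u
open scoped TensorProduct
open CartMod Groth.Agent

namespace Groth.Agent.S19610

/-- Let p be a prime and B a commutative algebra over the commutative ring A, both complete and
separated for the p-adic topology and both without p-torsion (flat over the p-adic base). If B/pB is
flat over A/pA, then B/p^nB is flat over A/p^nA for every n ≥ 1 (the quotients are written as base
changes (A/p^n) ⊗_A B). (The published statement is for a morphism of flat p-adic formal schemes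
over the Witt vectors of a perfect field: if its special fibre is flat, so are the induced morphisms
of schemes modulo every power of p; this row is its affine, ring-level case.) -/
theorem result (p : ℕ) [Fact p.Prime]
    {A B : Type u} [CommRing A] [CommRing B] [Algebra A B]
    [IsAdicComplete (Ideal.span {(p : A)}) A] [IsAdicComplete (Ideal.span {(p : B)}) B]
    (hA : IsSMulRegular A (p : A)) (hB : IsSMulRegular B (p : B))
    (h : Module.Flat (A ⧸ Ideal.span {(p : A)}) ((A ⧸ Ideal.span {(p : A)}) ⊗[A] B))
    (n : ℕ) (hn : 1 ≤ n) :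
    Module.Flat (A ⧸ (Ideal.span {(p : A)} ^ n)) ((A ⧸ (Ideal.span {(p : A)} ^ n)) ⊗[A] B) := by
  haveI := h
  refine MLMod.flat_quotient_pow B (Ideal.span {(p : A)}) ?_ n (by omega)
  let φ : A →ₗ[A] ↥(Ideal.span {(p : A)}) :=
    LinearMap.toSpanSingleton A ↥(Ideal.span {(p : A)}) ⟨(p : A), Ideal.mem_span_singleton_self _⟩
  have hφ : Function.Surjective φ := fun ⟨x, hx⟩ => by
    obtain ⟨c, hc⟩ := Ideal.mem_span_singleton'.1 hx
    exact ⟨c, Subtype.ext hc⟩
  rw [injective_iff_map_eq_zero]
  intro z hz
  obtain ⟨w, rfl⟩ := LinearMap.rTensor_surjective B hφ z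
  obtain ⟨b, rfl⟩ : ∃ b : B, w = (1 : A) ⊗ₜ[A] b :=
    ⟨TensorProduct.lid A B w, (TensorProduct.lid A B).injective (by simp)⟩
  rw [← LinearMap.rTensor_comp_apply, LinearMap.rTensor_tmul] at hz
  have h0 : (p : B) • b = 0 := by
    have h1 := congrArg (TensorProduct.lid A B) hz
    rw [map_zero, TensorProduct.lid_tmul] at h1
    simpa [φ, Algebra.smul_def] using h1
  rw [show b = 0 from hB (h0.trans (smul_zero (p : B)).symm), TensorProduct.tmul_zero, map_zero]

end Groth.Agent.S19610
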