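import Groth.Statements.S19611
import Groth.Agent.QuotScheme.Basic

set_option autoImplicit false
universe u
open CategoryTheory AlgebraicGeometry
open CartMod

namespace Groth.Agent.S19611

/-- For a prime p and a scheme Y of characteristic p, write Y♭ for the scheme-theoretic image of the
absolute Frobenius F_Y : Y → Y, i.e. the closed subscheme of Y defined by the sections of O_Y whose
p-th power vanishes, and Y → Y♭ for the canonical morphism through which F_Y factors. Then Y → Y♭ is
an epimorphism of schemes: two morphisms g₁, g₂ from Y♭ to a scheme Z with equal composites Y → Y♭ →
Z are equal. (The published statement is for k-morphisms g₁, g₂ from Y♭ to a k-scheme Z over a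
perfect field k of characteristic p, compared after Frobenius twist through Y → (Y♭)'; this row asks
right-cancellation against morphisms to every scheme Z, which is equivalent to it for k-morphisms.) -/
theorem result (p : ℕ) [Fact p.Prime] (Y : Scheme.{u}) [FrobSch.IsCharP Y p] :
    Epi (FrobSch.frob Y p).toImage := by
  let f := FrobSch.frob Y p
  haveI : QuasiCompact f := ⟨fun U hU hc => show IsCompact U from hc⟩
  refine Groth.Agent.QuotScheme.epi_of_surjective_of_injective _ (fun z => ⟨f.imageι z, ?_⟩) (fun U => ?_)
  · refine f.imageι.isEmbedding.injective ?_
    rw [← Scheme.Hom.comp_apply, f.toImage_imageι]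
    rfl
  · exact TopCat.Presheaf.app_injective_of_stalkFunctor_map_injective (F := f.image.sheaf)
      f.toImage.c U fun x _ => f.stalkFunctor_toImage_injective x

end Groth.Agent.S19611
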