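import Groth.Statements.S19612
import Mathlib

set_option autoImplicit false
universe u
open scoped TensorProduct
open CartMod

namespace Groth.Agent.S19612

/-- Let k be a perfect field of characteristic p, W = W(k) the ring of Witt vectors of k, and A a
commutative W-algebra which is complete and separated for the p-adic topology (an adic W-algebra).
Then flatness of A over W is equivalent to flatness of A/p^nA = (W/p^nW) ⊗_W A over W/p^nW for every
n ≥ 1. -/
theorem result (p : ℕ) [Fact p.Prime] (k : Type u) [Field k]
    [CharP k p] [PerfectRing k p] (A : Type u) [CommRing A] [Algebra (WittVector p k) A]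
    [IsAdicComplete (Ideal.span {(p : WittVector p k)}) A] :
    Module.Flat (WittVector p k) A ↔
      ∀ n : ℕ, 1 ≤ n →
        Module.Flat (WittVector p k ⧸ (Ideal.span {(p : WittVector p k)} ^ n))
          ((WittVector p k ⧸ (Ideal.span {(p : WittVector p k)} ^ n)) ⊗[WittVector p k] A) := by
  set W := WittVector p k
  constructor
  · intro h n _
    exact Module.Flat.baseChange W _ A
  · intro h
    have hp0 : (p : W) ≠ 0 := (WittVector.irreducible p (k := k)).ne_zero
    have key : ∀ x : A, (p : W) • x = 0 → x = 0 := by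
      intro x hx
      refine IsHausdorff.haus (inferInstance : IsHausdorff (Ideal.span {(p : W)}) A) x fun m ↦ ?_
      rw [SModEq.zero]
      set I := Ideal.span {(p : W)} ^ (m + 1) with hI
      haveI : Module.Flat (W ⧸ I) ((W ⧸ I) ⊗[W] A) := h (m + 1) (by omega)
      obtain ⟨l, a, y, hy, ha⟩ := Module.Flat.isTrivialRelation_of_sum_smul_eq_zero (R := W ⧸ I)
        (M := (W ⧸ I) ⊗[W] A) (ι := Unit) (f := fun _ ↦ Ideal.Quotient.mk I (p : W))
        (x := fun _ ↦ (1 : W ⧸ I) ⊗ₜ[W] x) (by
          rw [Fintype.sum_unique, ← Ideal.Quotient.algebraMap_eq, algebraMap_smul, ← TensorProduct.tmul_smul, hx,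
            TensorProduct.tmul_zero])
      have hmem : ∀ j, ∃ c : W, a () j = Ideal.Quotient.mk I ((p : W) ^ m * c) := fun j ↦ by
        obtain ⟨w, hw⟩ := Ideal.Quotient.mk_surjective (a () j)
        have := ha j
        rw [Fintype.sum_unique, ← hw, ← map_mul, Ideal.Quotient.eq_zero_iff_mem, hI, Ideal.span_singleton_pow,
          Ideal.mem_span_singleton, pow_succ', mul_dvd_mul_iff_left hp0] at this
        obtain ⟨c, rfl⟩ := this
        exact ⟨c, hw.symm⟩
      choose c hc using hmem
      have hc' : ∀ j, a () j • y j = (p : W) ^ m • (Ideal.Quotient.mk I (c j) • y j) := fun j ↦ by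
        rw [hc j, map_mul, mul_smul, ← Ideal.Quotient.algebraMap_eq, algebraMap_smul]
      have h1 := congrArg (TensorProduct.quotTensorEquivQuotSMul A I) (hy ())
      simp only [hc'] at h1
      rw [← Finset.smul_sum, map_smul, TensorProduct.quotTensorEquivQuotSMul_mk_one_tmul] at h1
      obtain ⟨z, hz⟩ := Submodule.mkQ_surjective _ (TensorProduct.quotTensorEquivQuotSMul A I (∑ j, Ideal.Quotient.mk I (c j) • y j))
      rw [← hz, ← map_smul, Submodule.mkQ_apply, Submodule.Quotient.eq] at h1
      have h2 : (p : W) ^ m • z ∈ (Ideal.span {(p : W)} ^ m • (⊤ : Submodule W A)) :=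
        Submodule.smul_mem_smul (Ideal.pow_mem_pow (Ideal.mem_span_singleton_self _) m) trivial
      have h3 : I • (⊤ : Submodule W A) ≤ Ideal.span {(p : W)} ^ m • (⊤ : Submodule W A) :=
        Submodule.smul_mono_left (Ideal.pow_le_pow_right (Nat.le_succ m))
      exact (Submodule.sub_mem_iff_left _ h2).mp (h3 h1)
    rw [IsDedekindDomain.flat_iff_torsion_eq_bot, eq_bot_iff]
    rintro x ⟨⟨r, hr⟩, hrx⟩
    obtain ⟨m, u, rfl⟩ := IsDiscreteValuationRing.eq_unit_mul_pow_irreducible (nonZeroDivisors.ne_zero hr)
      (WittVector.irreducible p (k := k))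
    change ((u : W) * (p : W) ^ m) • x = 0 at hrx
    rw [mul_smul, u.isUnit.smul_eq_zero] at hrx
    clear hr
    induction m with
    | zero => simpa using hrx
    | succ m ih =>
      rw [pow_succ', mul_smul] at hrx
      exact ih (key _ hrx)

end Groth.Agent.S19612
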