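import Groth.Statements.S19613
import Mathlib
import Groth.Agent.NilAffine.Main
import Groth.Agent.QC.Closure

set_option autoImplicit false
universe u
open CategoryTheory AlgebraicGeometry TopologicalSpace
open CartMod

namespace Groth.Agent.S19613

/-- Let u : T → U be an affine morphism of schemes and i : T → T♮ a nilpotent closed immersion (its
ideal has a vanishing power), so that |T♮| = |T|; let g : |T♮| → |U| be the continuous map
underlying u, and v : (T♮, O_{T♮}) → (U, g_*O_{T♮}) the induced morphism of ringed spaces (identity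
on structure rings), with direct image v_* (sections over g⁻¹ of an open) and inverse image v^* its
left adjoint. Then the restriction of v_* to quasi-coherent O_{T♮}-modules is exact; since v_* is a
right adjoint, the content is that v_* of an epimorphism between quasi-coherent O_{T♮}-modules is an
epimorphism of sheaves of g_*O_{T♮}-modules on U, which is what is stated. -/
theorem result
    {T Tc U : Scheme.{u}} (i : T ⟶ Tc) [IsClosedImmersion i]
    (hnil : ∃ n : ℕ, ∀ V : Tc.affineOpens, i.ker.ideal V ^ n = ⊥)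
    (u : T ⟶ U) [IsAffineHom u] (g : Tc.carrier ⟶ U.carrier) (hg : i.base ≫ g = u.base)
    (M N : Tc.Modules) [M.IsQuasicoherent] [N.IsQuasicoherent] (φ : M ⟶ N) [Epi φ] :
    Epi ((SheafOfModules.pushforward (F := Opens.map g) (R := Tc.ringCatSheaf)
      (𝟙 (((Opens.map g).sheafPushforwardContinuous RingCat.{u} (Opens.grothendieckTopology U)
        (Opens.grothendieckTopology Tc)).obj Tc.ringCatSheaf))).map φ) := by
  obtain ⟨n, hn⟩ := hnil
  haveI : Surjective i := ⟨fun y => by
    obtain ⟨_, ⟨V, hV, rfl⟩, hy, -⟩ :=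
      Tc.isBasis_affineOpens.exists_subset_of_mem_open (Set.mem_univ y) isOpen_univ
    have hsupp : y ∈ i.ker.support := by
      have h0 : y ∈ Tc.zeroLocus (U := V) (i.ker.ideal ⟨V, hV⟩ : Set Γ(Tc, V)) := by
        rw [Scheme.mem_zeroLocus_iff]
        intro f hf hmem
        have : f ^ n = 0 := by
          have h := Ideal.pow_mem_pow hf n
          rwa [hn ⟨V, hV⟩, Ideal.mem_bot] at h
        have hb : Tc.basicOpen f = ⊥ := Tc.basicOpen_eq_bot_of_isNilpotent V f ⟨n, this⟩
        rw [hb] at hmem
        exact hmem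
      exact (i.ker.coe_support_inter ⟨V, hV⟩).symm.subset ⟨h0, hy⟩ |>.1
    have h1 : (i.ker.support : Set Tc) = closure (Set.range i) := Scheme.Hom.support_ker i
    have h2 : y ∈ closure (Set.range i) := h1 ▸ hsupp
    rwa [(i.isClosedEmbedding.isClosed_range).closure_eq] at h2⟩
  have haff : ∀ {V : U.Opens}, IsAffineOpen V → IsAffineOpen ((Opens.map g).obj V : Tc.Opens) := by
    intro V hV
    have h1 : IsAffineOpen (i ⁻¹ᵁ ((Opens.map g).obj V)) := by
      have e : i ⁻¹ᵁ ((Opens.map g).obj V) = u ⁻¹ᵁ V := by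
        ext x
        show g (i.base x) ∈ V ↔ u.base x ∈ V
        rw [← hg]
        rfl
      rw [e]
      exact hV.preimage _
    haveI : IsAffine (i ⁻¹ᵁ ((Opens.map g).obj V)).toScheme := h1
    haveI : IsClosedImmersion (i ∣_ ((Opens.map g).obj V)) := IsZariskiLocalAtTarget.restrict ‹_› _
    haveI : Surjective (i ∣_ ((Opens.map g).obj V)) := IsZariskiLocalAtTarget.restrict ‹_› _
    exact NilAffine.isAffine_of_surjective (i ∣_ ((Opens.map g).obj V))
  constructor
  intro Z a b hab
  apply SheafOfModules.hom_ext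
  apply PresheafOfModules.hom_ext
  intro W
  ext s
  let F : TopCat.Sheaf AddCommGrpCat.{u} U.carrier := (SheafOfModules.toSheaf _).obj Z
  let B : {V : U.affineOpens // V.1 ≤ W.unop} → U.Opens := fun V => V.1.1
  refine TopCat.Sheaf.eq_of_locally_eq' F B W.unop (fun V => homOfLE V.2) (fun y hy => ?_)
    _ _ (fun V => ?_)
  · obtain ⟨_, ⟨V, hV, rfl⟩, hy', hle⟩ :=
      U.isBasis_affineOpens.exists_subset_of_mem_open hy W.unop.2
    exact Opens.mem_iSup.mpr ⟨⟨⟨V, hV⟩, hle⟩, hy'⟩
  · obtain ⟨t, ht⟩ := QC.app_surjective_of_epi (haff V.1.2) ‹M.IsQuasicoherent› ‹N.IsQuasicoherent› φ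
      (N.val.map (homOfLE (show (Opens.map g).obj V.1.1 ≤ (Opens.map g).obj W.unop from
        fun x hx => V.2 hx)).op s)
    refine ((PresheafOfModules.naturality_apply a.val (homOfLE V.2).op s).symm.trans ?_).trans
      (PresheafOfModules.naturality_apply b.val (homOfLE V.2).op s)
    refine Eq.trans ?_ (congrArg _ ht)
    refine (congrArg _ ht.symm).trans ?_
    exact congr($(hab).val.app (Opposite.op V.1.1) t)

end Groth.Agent.S19613
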