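import Groth.Statements.S19617
import Groth.Agent.LHilb.Smooth
import Groth.Agent.StabK3.TwExt
import Groth.Agent.CompInt.Cohom
import Groth.Agent.W7ModH.Basic

set_option autoImplicit false
universe u
open CategoryTheory CategoryTheory.Limits AlgebraicGeometry
open ArtFun

namespace Groth.Agent.S19617

theorem subsingleton_ext_unit {X : Scheme.{u}} [HasExt.{u} X.Modules] (M : X.Modules) (q : ℕ)
    (h : Subsingleton (Coh.HH X M q)) : Subsingleton (Abelian.Ext.{u} (Coh.structureModule X) M q) := by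
  haveI : HasExt.{u} (SheafOfModules.{u} X.ringCatSheaf) := (inferInstance : HasExt.{u} X.Modules)
  obtain ⟨e⟩ := W7ModH.nonempty_extUnitEquiv (R := X.ringCatSheaf) M q
  exact (e.toEquiv.subsingleton_congr).2 h

/-- Let k be a field, n ≥ 1, d ≥ 1, and Z₀ = V(F) ⊂ Pⁿ_k the hypersurface of a nonzero form F of degree
d, assumed smooth over k. Then the embedded deformations of Z₀ are unobstructed: for every
surjection A' → A of local Artinian k-algebras with residue field k whose kernel is killed by the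
maximal ideal of A', every element of the local Hilbert functor of Z₀ ⊂ Pⁿ_k at A (a closed
subscheme of Pⁿ_k ×_k Spec A, flat over Spec A, restricting to Z₀ over the closed point) is the
restriction of an element at A'. -/
theorem result (k : Type u) [Field k] (n d : ℕ)
    (hn : 1 ≤ n) (hd : 1 ≤ d) (F : LefPen.Form n k d) (hF : F ≠ 0)
    [Smooth ((LefPen.hypIdeal F).subschemeι ≫ CohB1.ProjSpace.toSpec n k)]
    ⦃A' A : ArtFun.Art k k⦄ (p : A' ⟶ A) (hp : ArtFun.Art.IsSemismallExt p) :
    Function.Surjective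
      ((ArtFun.localHilb (CohB1.ProjSpace n k) (CohB1.ProjSpace.toSpec n k) (LefPen.hypIdeal F)).map p) := by
  haveI : EnoughInjectives (CohB1.ProjSpace n k).Modules := Groth.Agent.SerrePn.enoughInjectives
  haveI : HasExt.{u} (CohB1.ProjSpace n k).Modules := hasExt_of_enoughInjectives _
  let I := LefPen.hypIdeal F
  let T := Twist.twistProjSpace n k (d : ℤ)
  let T' := Twist.twistProjSpace n k (-(d : ℤ))
  obtain ⟨z⟩ := GrT.nonempty_twist_zero_iso (𝒜 := CohB1.polyGrading n k)
  obtain ⟨t₁⟩ := GrT.nonempty_twist_tensor_iso (CohB1.polyGrading n k) (a := (d : ℤ)) (b := -(d : ℤ)) (c := 0)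
    (PlaneCurve.hasFracGens _) (by ring)
  obtain ⟨t₂⟩ := GrT.nonempty_twist_tensor_iso (CohB1.polyGrading n k) (a := -(d : ℤ)) (b := (d : ℤ)) (c := 0)
    (PlaneCurve.hasFracGens _) (by ring)
  obtain ⟨j⟩ := PlaneCurve.nonempty_ideal_iso_twist F hF
  obtain ⟨e⟩ := StabK3.ext_tens_equiv k (T := T) (T' := T') (t₂ ≪≫ z) (ClSub.idealMod I) (ClSub.quotMod I) 1
  let eI : CohB1.tensorMod (ClSub.idealMod I) T ≅ Coh.structureModule (CohB1.ProjSpace n k) :=
    PicGrp.tensorModIso j (Iso.refl T) ≪≫ t₁ ≪≫ z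
  have hT : PicF.IsInvertible T := GrT.isInvertible_twist_of_gens (PlaneCurve.hasFracGens _)
  have hS := CohFinite.shortExact_tmap hT (CurveRR.ideal_shortExact I)
  have h0 : ∀ q, 0 < q → q ≤ 2 →
      Subsingleton (Coh.HH (CohB1.ProjSpace n k) (Twist.twistProjSpace n k 0) q) := fun q hq _ =>
    ProjCech.twist_vanish (R := k) n 0 q (fun h => hq.ne' h.1) (fun h => by have := h.2; omega)
  have hQ : Subsingleton (Coh.HH (CohB1.ProjSpace n k) (CohB1.tensorMod (ClSub.quotMod I) T) 1) := by
    refine CohFinite.subsingleton_of_shortExact hS 1 ?_ ?_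
    · exact CohQC.hh_subsingleton_of_iso (TMul.leftUnitIso T).symm 1
        (ProjCech.twist_vanish (R := k) n (d : ℤ) 1 (fun h => one_ne_zero h.1) (fun h => by have := h.2; omega))
    · exact CohQC.hh_subsingleton_of_iso eI.symm 2 (CohQC.hh_subsingleton_of_iso z 2 (h0 2 two_pos le_rfl))
  have h1 : Subsingleton (Abelian.Ext.{u} (CohB1.tensorMod (ClSub.idealMod I) T)
      (CohB1.tensorMod (ClSub.quotMod I) T) 1) := by
    have h2 : Subsingleton (Abelian.Ext.{u} (Coh.structureModule (CohB1.ProjSpace n k))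
        (CohB1.tensorMod (ClSub.quotMod I) T) 1) :=
      subsingleton_ext_unit _ 1 hQ
    refine ⟨fun a b => ?_⟩
    have h3 : ∀ c : Abelian.Ext.{u} (CohB1.tensorMod (ClSub.idealMod I) T) (CohB1.tensorMod (ClSub.quotMod I) T) 1,
        c = (Abelian.Ext.mk₀ eI.hom).comp ((Abelian.Ext.mk₀ eI.inv).comp c (zero_add 1)) (zero_add 1) := fun c => by
      simp
    rw [h3 a, h3 b, h2.elim ((Abelian.Ext.mk₀ eI.inv).comp a (zero_add 1)) ((Abelian.Ext.mk₀ eI.inv).comp b (zero_add 1))]
  exact (LHilb.isSmoothFunctor_of_ext (CohB1.ProjSpace.toSpec n k) (I₀ := I) e.toEquiv.subsingleton) p hp.1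

end Groth.Agent.S19617
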