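import Groth.Statements.S19618
import Mathlib
-- import your own Groth.Agent.* helpers here

set_option autoImplicit false
universe u
open CategoryTheory CategoryTheory.Limits AlgebraicGeometry Opposite TopologicalSpace
open BlowUp

namespace Groth.Agent.S19618

/-- Let X be a locally Noetherian scheme, Y an effective Cartier divisor on X (a quasi-coherent ideal
sheaf which, near every point, is generated on some affine open by one nonzerodivisor; Y is its
support) and Z a closed integral subscheme (a closed immersion i from an integral scheme with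
generic point ξ). If Y and Z intersect properly — every point ζ of Y ∩ Z which is maximal under
generization inside Y ∩ Z satisfies dim O_{X,ζ} = codim(Y,X) + codim(Z,X), where codim(Y,X) is the
infimum over y ∈ Y of dim O_{X,y} and codim(Z,X) = dim O_{X,i(ξ)} — then Z is not contained in Y. -/
theorem result {X Z : Scheme.{u}}
    [IsLocallyNoetherian X] (𝓘 : X.IdealSheafData) (hY : BlowUp.IsEffCartierIdeal 𝓘)
    (i : Z ⟶ X) [IsClosedImmersion i] [IsIntegral Z]
    (hprop : ∀ ζ : ↥X, ζ ∈ (𝓘.support : Set ↥X) ∩ Set.range i.base →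
        (∀ ζ' : ↥X, ζ' ∈ (𝓘.support : Set ↥X) ∩ Set.range i.base → ζ' ⤳ ζ → ζ' = ζ) →
        ringKrullDim ↑(X.presheaf.stalk ζ) =
          (⨅ y : (𝓘.support : Set ↥X), ringKrullDim ↑(X.presheaf.stalk y.1)) +
            ringKrullDim ↑(X.presheaf.stalk (i (genericPoint ↥Z)))) :
    ¬ Set.range i.base ⊆ (𝓘.support : Set ↥X) := by
  intro hsub
  have hgen : i (genericPoint ↥Z) ∈ (𝓘.support : Set ↥X) ∩ Set.range i.base :=
    ⟨hsub ⟨_, rfl⟩, _, rfl⟩
  have h := hprop _ hgen fun ζ' hζ' hsp => by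
    obtain ⟨z, rfl⟩ := hζ'.2
    exact (hsp.antisymm ((genericPoint_specializes z).map i.continuous)).eq
  have hone : ∀ y : (𝓘.support : Set ↥X), (1 : WithBot ℕ∞) ≤ ringKrullDim ↑(X.presheaf.stalk y.1) := by
    rintro ⟨y, hy⟩
    obtain ⟨U, hyU, f, hf, hspan⟩ := hY y
    letI := (X.presheaf.germ U.1 y hyU).hom.toAlgebra
    haveI := U.2.isLocalization_stalk ⟨y, hyU⟩
    set g := algebraMap Γ(X, U.1) (X.presheaf.stalk y) f with hg
    have hgm : g ∈ nonZeroDivisors (X.presheaf.stalk y) := by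
      haveI : Module.Flat Γ(X, U.1) (X.presheaf.stalk y) :=
        IsLocalization.flat (X.presheaf.stalk y) (U.2.primeIdealOf ⟨y, hyU⟩).asIdeal.primeCompl
      refine mem_nonZeroDivisors_iff_right.mpr fun x hx => ?_
      obtain ⟨⟨a, s⟩, has⟩ :=
        IsLocalization.surj (U.2.primeIdealOf ⟨y, hyU⟩).asIdeal.primeCompl x
      dsimp only at has
      have h0 : algebraMap Γ(X, U.1) (X.presheaf.stalk y) (a * f) = 0 := by
        rw [map_mul, ← has, mul_right_comm, ← hg, hx, zero_mul]
      obtain ⟨c, hc⟩ := (IsLocalization.map_eq_zero_iff (U.2.primeIdealOf ⟨y, hyU⟩).asIdeal.primeCompl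
        (X.presheaf.stalk y) _).mp h0
      rw [← mul_assoc] at hc
      have hca := mem_nonZeroDivisors_iff_right.mp hf _ hc
      have ha : algebraMap Γ(X, U.1) (X.presheaf.stalk y) a = 0 :=
        (IsLocalization.map_eq_zero_iff (U.2.primeIdealOf ⟨y, hyU⟩).asIdeal.primeCompl
          (X.presheaf.stalk y) _).mpr ⟨c, hca⟩
      rw [ha] at has
      exact (IsLocalization.map_units (X.presheaf.stalk y) s).mul_left_eq_zero.mp has
    have hgu : ¬ IsUnit g := by
      intro hu
      have h1 : y ∈ X.basicOpen f := (X.mem_basicOpen f y hyU).mpr hu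
      have h2 : y ∈ (𝓘.support : Set ↥X) ∩ (U.1 : Set ↥X) := ⟨hy, hyU⟩
      rw [𝓘.coe_support_inter U] at h2
      exact (X.mem_zeroLocus_iff _ _).mp h2.1 f (by rw [hspan]; exact Ideal.mem_span_singleton_self f) h1
    by_contra hlt
    have h0 : ringKrullDim ↑(X.presheaf.stalk y) < 1 := not_le.mp hlt
    haveI : Ring.KrullDimLE 0 (X.presheaf.stalk y) := by
      rw [Ring.krullDimLE_iff]
      obtain ⟨m, hm⟩ := WithBot.ne_bot_iff_exists.mp (ringKrullDim_ne_bot (R := X.presheaf.stalk y))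
      rw [← hm] at h0 ⊢
      norm_cast at h0 ⊢
      exact le_of_eq (by simpa using h0)
    have hn : IsNilpotent g := Ring.KrullDimLE.isNilpotent_iff_mem_nonunits.mpr hgu
    obtain ⟨n, hn⟩ := hn
    exact zero_notMem_nonZeroDivisors (M₀ := X.presheaf.stalk y) (hn ▸ pow_mem hgm n)
  have hle : (1 : WithBot ℕ∞) ≤ ⨅ y : (𝓘.support : Set ↥X), ringKrullDim ↑(X.presheaf.stalk y.1) :=
    le_iInf hone
  obtain ⟨n, hn⟩ : ∃ n : ℕ, ringKrullDim ↑(X.presheaf.stalk (i (genericPoint ↥Z))) = (n : ℕ) := by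
    have h1 := ringKrullDim_ne_top (R := X.presheaf.stalk (i (genericPoint ↥Z)))
    have h2 := ringKrullDim_ne_bot (R := X.presheaf.stalk (i (genericPoint ↥Z)))
    obtain ⟨m, hm⟩ := WithBot.ne_bot_iff_exists.mp h2
    have : m ≠ ⊤ := fun e => h1 (by rw [← hm, e]; rfl)
    obtain ⟨n, rfl⟩ := ENat.ne_top_iff_exists.mp this
    exact ⟨n, hm.symm⟩
  have h2 : (1 : WithBot ℕ∞) + (n : ℕ) ≤ (n : ℕ) := by
    conv_rhs => rw [← hn, h, hn]
    gcongr
  norm_cast at h2
  omega

end Groth.Agent.S19618
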