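import Groth.Statements.S19620
import Groth.Agent.PerfGen.Open
import Groth.Agent.DQPush.Restrict
import Mathlib

set_option autoImplicit false
universe u
open CategoryTheory CategoryTheory.Limits AlgebraicGeometry
attribute [local instance] HasDerivedCategory.standard
open DCoh

namespace Groth.Agent.S19620

/-- Let f : X → Y be a proper morphism of schemes, with Rf_* the total right derived functor of f_* on
the unbounded derived categories of modules (assumed to exist), let Z ⊆ X be a closed subset and E
an object of D(O_X) whose cohomology sheaves are all supported in Z (every stalk at a point outside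
Z is trivial). Then the cohomology sheaves of Rf_*E are supported in the closed subset f(Z) of Y.
(The published statement, made in a setting where all schemes are separated and of finite type over
a regular base, takes f proper and perfect and concludes that Rf_* carries perfect complexes acyclic
outside Z to perfect complexes acyclic outside f(Z); the perfectness of Rf_*E is a separate result,
and the support inclusion, which is what the published proof establishes, holds for every proper f
and every E and is stated in that generality.) -/
theorem result {X Y : Scheme.{u}} (f : X ⟶ Y) [IsProper f]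
    [DCoh.HasRpush f] (Z : Set ↥X) (hZ : IsClosed Z) (E : DCoh.D X)
    (hE : ∀ i : ℤ, CohB1.support (DCoh.HD E i) ⊆ Z) (i : ℤ) :
    CohB1.support (DCoh.HD ((DCoh.Rpush f).obj E) i) ⊆ f.base '' Z := by
  have hcl : IsClosed (f.base '' Z) := f.isClosedMap Z hZ
  let O : Y.Opens := ⟨(f.base '' Z)ᶜ, hcl.isOpen_compl⟩
  haveI := DerPush.hasRpush_sch (f ∣_ O)
  have h0 : PerfGen.SuppD (f.base '' Z) ((DCoh.Rpush f).obj E) := by
    refine (PerfGen.isZero_RD_of_compl hcl _).2 ?_
    have hz : Limits.IsZero ((DCoh.restrictD (f ⁻¹ᵁ O).ι).obj E) := by
      refine (PerfGen.isZero_RD_iff (f ⁻¹ᵁ O).ι E).2 fun n => ?_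
      refine (hE n).trans fun x hx => ?_
      rw [Scheme.Opens.range_ι]
      exact fun h => h ⟨x, hx, rfl⟩
    haveI : SiteCmp.HasRpushD (ModSite.RMor.ofScheme (f ∣_ O)) := DerPush.hasRpush_sch (f ∣_ O)
    haveI : (DCoh.Rpush (f ∣_ O)).Additive := inferInstanceAs (SiteCmp.RpushD (ModSite.RMor.ofScheme (f ∣_ O))).Additive
    exact Limits.IsZero.of_iso ((DCoh.Rpush (f ∣_ O)).map_isZero hz) ((DQPush.rpushRestrIso f O).app E)
  exact h0 i

end Groth.Agent.S19620
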