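import Groth.Statements.S19624
import Groth.Agent.CycDim.Det
import Mathlib

set_option autoImplicit false
universe u v
open IntTh

namespace Groth.Agent.S19624

/-- Let B be a discrete valuation ring with its normalised additive valuation v (so v(0) = ∞) and ω a
ring automorphism of B. For each i in a finite index set let M_i and N_i be free B-modules with
chosen bases indexed by one and the same finite type, and χ_i : M_i → N_i an additive map which is
ω-semilinear, χ_i(b·x) = ω(b)·χ_i(x); write A_i for the matrix of χ_i in the chosen bases. Then the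
length over B of the cokernel of the direct sum χ = ⊕_i χ_i : ⊕_i M_i → ⊕_i N_i (the quotient of ⊕_i
N_i by the submodule generated by the image of χ) equals v(∏_i det A_i); in particular both sides
are infinite exactly when some det A_i is zero. -/
theorem result {B : Type u} [CommRing B] [IsDomain B]
    [IsDiscreteValuationRing B] (ω : B ≃+* B) {n : ℕ} (r : Fin n → ℕ)
    (M N : Fin n → Type v) [∀ i, AddCommGroup (M i)] [∀ i, Module B (M i)]
    [∀ i, AddCommGroup (N i)] [∀ i, Module B (N i)]
    (bM : ∀ i, Module.Basis (Fin (r i)) B (M i)) (bN : ∀ i, Module.Basis (Fin (r i)) B (N i))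
    (χ : ∀ i, M i →+ N i) (hχ : ∀ i (b : B) (x : M i), χ i (b • x) = ω b • χ i x) :
    Module.length B ((∀ i, N i) ⧸ Submodule.span B (Set.range (fun (x : ∀ i, M i) (i : Fin n) => χ i (x i)))) =
      IsDiscreteValuationRing.addVal B (∏ i, Matrix.det
        (Matrix.of fun (a c : Fin (r i)) => (bN i).repr (χ i (bM i c)) a)) := by
  classical
  set P : (i : Fin n) → Matrix (Fin (r i)) (Fin (r i)) B := fun i =>
    Matrix.of fun a c => (bN i).repr (χ i (bM i c)) a with hP
  let S : (i : Fin n) → Submodule B (N i) := fun i => (LinearMap.range (P i).mulVecLin).map (bN i).equivFun.symm.toLinearMap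
  have hχ' : ∀ i (x : M i), (bN i).equivFun (χ i x) = (P i).mulVec fun c => ω ((bM i).repr x c) := by
    intro i x
    funext a
    conv_lhs => rw [← (bM i).sum_repr x]
    rw [map_sum, map_sum, Finset.sum_apply, Matrix.mulVec, dotProduct]
    refine Finset.sum_congr rfl fun c _ => ?_
    rw [hχ, map_smul, Pi.smul_apply, smul_eq_mul, Module.Basis.equivFun_apply, mul_comm]
    rfl
  have hspan : Submodule.span B (Set.range (fun (x : ∀ i, M i) (i : Fin n) => χ i (x i))) =
      Submodule.pi Set.univ S := by
    refine le_antisymm (Submodule.span_le.2 ?_) fun y hy => ?_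
    · rintro _ ⟨x, rfl⟩ i -
      exact ⟨_, ⟨_, (hχ' i (x i)).symm⟩, (bN i).equivFun.symm_apply_apply _⟩
    · choose v hv hv' using fun i => hy i (Set.mem_univ i)
      choose w hw using hv
      refine Submodule.subset_span ⟨fun i => (bM i).equivFun.symm fun c => ω.symm (w i c), funext fun i => ?_⟩
      refine (bN i).equivFun.injective ?_
      rw [hχ', ← hv' i, LinearEquiv.coe_coe, LinearEquiv.apply_symm_apply, ← hw i, Matrix.mulVecLin_apply]
      congr 1
      funext c
      have := congrFun ((bM i).equivFun.apply_symm_apply fun c => ω.symm (w i c)) c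
      rw [Module.Basis.equivFun_apply] at this
      rw [this, RingEquiv.apply_symm_apply]
  let q : (∀ i, N i) →ₗ[B] ∀ i, N i ⧸ S i := LinearMap.pi fun i => (S i).mkQ ∘ₗ LinearMap.proj i
  have hq : Function.Surjective q := fun y => by
    choose z hz using fun i => (S i).mkQ_surjective (y i)
    exact ⟨z, funext hz⟩
  have hker : Submodule.span B (Set.range (fun (x : ∀ i, M i) (i : Fin n) => χ i (x i))) = LinearMap.ker q := by
    rw [hspan]
    ext y
    simp [q, funext_iff, Submodule.mem_pi]
  rw [((Submodule.quotEquivOfEq _ _ hker).trans (q.quotKerEquivOfSurjective hq)).length_eq, Module.length_pi_of_fintype]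
  have hlen : ∀ i, Module.length B (N i ⧸ S i) = IsDiscreteValuationRing.addVal B (P i).det := by
    intro i
    rw [← (Submodule.Quotient.equiv (LinearMap.range (P i).mulVecLin) (S i) (bN i).equivFun.symm rfl).length_eq]
    rcases eq_or_ne (P i).det 0 with h0 | h0
    · rw [h0, IsDiscreteValuationRing.addVal_zero]
      obtain ⟨v, hv0, hv⟩ := Matrix.exists_vecMul_eq_zero_iff.2 h0
      let φ : (Fin (r i) → B) →ₗ[B] B := Fintype.linearCombination B v
      have hφ : ∀ x, φ x = dotProduct v x := fun x => by
        simp [φ, Fintype.linearCombination_apply, dotProduct, mul_comm]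
      have hle : LinearMap.range (P i).mulVecLin ≤ LinearMap.ker φ := by
        rintro _ ⟨w, rfl⟩
        rw [LinearMap.mem_ker, hφ, Matrix.mulVecLin_apply, Matrix.dotProduct_mulVec, hv, zero_dotProduct]
      obtain ⟨j, hj⟩ := Function.ne_iff.1 hv0
      obtain ⟨g, hg⟩ := (inferInstance : IsPrincipalIdealRing B).principal (LinearMap.range φ)
      have hvj : v j ∈ LinearMap.range φ := ⟨Pi.single j 1, by simp [φ, Fintype.linearCombination_apply_single]⟩
      have hg0 : g ≠ 0 := fun e => hj (by rw [hg, e, Submodule.mem_span_singleton] at hvj; obtain ⟨c, hc⟩ := hvj; rw [smul_zero] at hc; exact hc.symm)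
      have h1 : Module.length B (LinearMap.range φ) = ⊤ := by
        rw [hg, ← (LinearEquiv.toSpanNonzeroSingleton B B g hg0).length_eq]
        by_contra hne
        haveI := (isFiniteLength_iff_isNoetherian_isArtinian.1 (Module.length_ne_top_iff.1 hne)).2
        exact IsDiscreteValuationRing.not_isField B (IsArtinianRing.isField_of_isDomain B)
      rw [eq_top_iff, ← h1]
      exact Module.length_le_of_surjective ((LinearMap.range (P i).mulVecLin).liftQ φ.rangeRestrict
        (by rwa [LinearMap.ker_rangeRestrict])) (fun y => by
          obtain ⟨x, hx⟩ := φ.surjective_rangeRestrict y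
          exact ⟨Submodule.Quotient.mk x, hx⟩)
    · rw [Groth.Agent.CycNorm.length_coker_eq_ord_det h0, Ring.ord_eq_addVal]
  rw [Finset.sum_congr rfl fun i _ => hlen i]
  rw [hP]
  induction (Finset.univ : Finset (Fin n)) using Finset.induction with
  | empty => simp
  | insert a s ha ih => rw [Finset.sum_insert ha, Finset.prod_insert ha, ih, IsDiscreteValuationRing.addVal_mul]

end Groth.Agent.S19624
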