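import Groth.Statements.S19625
import Groth.Agent.Intersect.CurveOnSurface
import Groth.Agent.ProjSep.Main
import Groth.Agent.W7Hull.HomAdj
import Groth.Agent.W7Hull.InvDual

set_option autoImplicit false
universe u
open CategoryTheory CategoryTheory.Limits AlgebraicGeometry
open Surf

namespace Groth.Agent.S19625

/-- Let k be a field and S an integral surface (dimension two) which is smooth over k and projective (a
closed immersion into some P^n_k over k). Let i : C → S be the closed immersion of an integral curve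
(dimension one) all of whose local rings are regular, with ideal sheaf I ⊆ O_S, and let N =
Hom(i^*I, O_C) be the normal sheaf of C in S, the dual of the conormal sheaf i^*I (the sheaf Hom,
assumed to exist as the right adjoint of tensoring with i^*I). Then the self-intersection number
C·C, namely the intersection number of O_S(C) with itself computed as the alternating sum χ(O_S) −
2χ(I) + χ(I ⊗ I) with the inverse I = O_S(−C) of O_S(C) (packaged as FGA.intNum), equals the degree
of N on C, the degree of a module M on C being χ(M) − χ(O_C). -/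
theorem result (k : Type u) [Field k] (S : Scheme.{u}) [S.Over (Spec (CommRingCat.of k))]
    [IsIntegral S] (hdim : topologicalKrullDim S = 2) [Smooth (S ↘ (Spec (CommRingCat.of k)))]
    (hproj : ∃ (n : ℕ) (ι : S ⟶ CohB1.ProjSpace n k), IsClosedImmersion ι ∧ ι ≫ CohB1.ProjSpace.toSpec n k = (S ↘ (Spec (CommRingCat.of k))))
    (C : Scheme.{u}) (i : C ⟶ S) [IsClosedImmersion i] [IsIntegral C] (hC : topologicalKrullDim C = 1)
    (hCreg : ∀ c : C, IsRegularLocalRing (C.presheaf.stalk c))
    [DCoh.HasSheafHom (Omega.conormal i)] :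
    letI : C.Over (Spec (CommRingCat.of k)) := ⟨i ≫ (S ↘ (Spec (CommRingCat.of k)))⟩
    FGA.intNum k S 2 ![ClSub.idealMod i.ker, ClSub.idealMod i.ker] (Coh.structureModule S) =
      Curv2.deg k C ((DCoh.sheafHom (Omega.conormal i)).obj (Coh.structureModule C)) 1 := by
  letI : C.Over (Spec (CommRingCat.of k)) := ⟨i ≫ (S ↘ (Spec (CommRingCat.of k)))⟩
  haveI : IsProper (S ↘ Spec (CommRingCat.of k)) := by
    obtain ⟨N, ι, hι, h⟩ := hproj
    haveI := ProjMor.isProper_toSpec N k
    rw [← h]; infer_instance
  have hI := Groth.Agent.Intersect.isEffCartier_curve k hdim i hC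
  have hinv := Groth.Agent.Intersect.isInvertible_ideal hI
  obtain ⟨L, hL, ⟨e⟩⟩ := Groth.Agent.W7Hull.exists_tensor_inverse hinv
  rw [Groth.Agent.Intersect.intNum_curve k i hC.le hdim.le hI hL ⟨TMul.commIso _ _ ≪≫ e⟩]
  have hA : PicF.IsInvertible (Omega.conormal i) := PicLoc.isInvertible_pullback i hinv
  haveI := Groth.Agent.W7Hull.isIso_evDual hA
  have f1 : CohB1.tensorMod (Omega.conormal i) ((DCoh.sheafHom (Omega.conormal i)).obj (Coh.structureModule C)) ≅
      Coh.structureModule C :=
    PicGrp.tensorModIso (Iso.refl _) ((Groth.Agent.W7Hull.sheafHomIso (Omega.conormal i)).app _) ≪≫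
      @asIso _ _ _ _ (Groth.Agent.W7Hull.evDual (Omega.conormal i)) (Groth.Agent.W7Hull.isIso_evDual hA)
  obtain ⟨t⟩ := TMul.nonempty_pullTensorIso i (ClSub.idealMod i.ker) L
  let Li := (Scheme.Modules.pullback i).obj L
  let N := (DCoh.sheafHom (Omega.conormal i)).obj (Coh.structureModule C)
  have f2 : CohB1.tensorMod (Omega.conormal i) Li ≅ Coh.structureModule C :=
    t ≪≫ (Scheme.Modules.pullback i).mapIso e ≪≫ DerPerf.pullUnitIso i
  have g : Li ≅ N := (TMul.leftUnitIso Li).symm ≪≫ PicGrp.tensorModIso (TMul.commIso _ _ ≪≫ f1).symm (Iso.refl Li) ≪≫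
    TMul.assocIso _ _ _ ≪≫ PicGrp.tensorModIso (Iso.refl N) f2 ≪≫ TMul.commIso _ _ ≪≫ TMul.leftUnitIso N
  simp only [Curv2.deg]
  rw [Groth.Agent.CurveRR.euler_eq_of_iso g]

end Groth.Agent.S19625
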