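import Groth.Statements.S19628
import Groth.Agent.DRKaehler.BaseChange

set_option linter.style.haveILetI false

set_option autoImplicit false
universe u
open DeRham

open TensorProduct

namespace Groth.Agent.S19628

open exteriorPower in
/-- In the affine case, at ring level, let k ⊆ K be an extension of fields of characteristic zero, A a
smooth k-algebra and A' = K ⊗_k A (a pushout square of commutative rings with the scalar-tower
conventions). Let d be the de Rham differential of A over k, d' that of A' over K, and ψ the map of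
de Rham complexes induced by A → A', assumed compatible with d and d'. Then for every p the K-span
of ψ(closed p-forms of A/k) is the module of closed p-forms of A'/K, and the K-span of ψ(exact
p-forms of A/k) is the module of exact p-forms of A'/K. Together with the degreewise base-change
bijection for exterior powers of differentials, this says that the natural map H^p_dR(A/k) ⊗_k K →
H^p_dR(A'/K) is an isomorphism. (The source states the isomorphism H^i_dR(X) ⊗_k K ≅ H^i_dR(X_K) for
a smooth variety X, induced by a quasi-isomorphism of complexes; this row is the case of an affine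
X, phrased through closed and exact forms.) -/
theorem result
    (k K : Type u) [Field k] [Field K] [CharZero k] [Algebra k K]
    (A A' : Type u) [CommRing A] [CommRing A'] [Algebra k A] [Algebra.Smooth k A]
    [Algebra A A'] [Algebra k A'] [IsScalarTower k A A'] [Algebra K A'] [IsScalarTower k K A']
    [Algebra.IsPushout k K A A']
    (d : ∀ p : ℕ, ↥(⋀[A]^p (Ω[A⁄k])) →ₗ[k] ↥(⋀[A]^(p + 1) (Ω[A⁄k])))
    (hd : DeRham.IsDiff (KaehlerDifferential.D k A) d)
    (d' : ∀ p : ℕ, ↥(⋀[A']^p (Ω[A'⁄K])) →ₗ[K] ↥(⋀[A']^(p + 1) (Ω[A'⁄K])))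
    (hd' : DeRham.IsDiff (KaehlerDifferential.D K A') d')
    (ψ : ∀ p : ℕ, ↥(⋀[A]^p (Ω[A⁄k])) →+ ↥(⋀[A']^p (Ω[A'⁄K])))
    (hψ : DeRham.IsCxMap (KaehlerDifferential.D k A) (KaehlerDifferential.D K A') (algebraMap A A') ψ)
    (hcomm : ∀ (p : ℕ) (x : ↥(⋀[A]^p (Ω[A⁄k]))), ψ (p + 1) (d p x) = d' p (ψ p x))
    (p : ℕ) :
    Submodule.span K (ψ p '' (DeRham.cocycles d p : Set ↥(⋀[A]^p (Ω[A⁄k])))) = DeRham.cocycles d' p ∧
      Submodule.span K (ψ p '' (DeRham.coboundaries d p : Set ↥(⋀[A]^p (Ω[A⁄k])))) =
        DeRham.coboundaries d' p := by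
  have hψ' : ∀ q x, ψ q x = Groth.Agent.DRKaehler.formMap k A K A' q x := fun q x =>
    Groth.Agent.DRKaehler.addHom_ext (g := (Groth.Agent.DRKaehler.formMap k A K A' q).toAddMonoidHom)
      (fun b₀ b => (hψ q b₀ b).trans (Groth.Agent.DRKaehler.formMap_gen q b₀ b).symm) x
  let Φ : ∀ q, K ⊗[k] ↥(⋀[A]^q (Ω[A⁄k])) →ₗ[K] ↥(⋀[A']^q (Ω[A'⁄K])) := fun q =>
    ((Groth.Agent.DRKaehler.formMap k A K A' q).restrictScalars k).liftBaseChange K
  have hΦt : ∀ q (s : K) x, Φ q (s ⊗ₜ x) = s • ψ q x := fun q s x => by
    rw [hψ']; exact LinearMap.liftBaseChange_tmul _ _ _ _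
  have hΦ : ∀ q, Function.Bijective (Φ q) := fun q => by
    let e := Algebra.IsPushout.cancelBaseChangeAux k K A A' ↥(⋀[A]^q (Ω[A⁄k]))
    have key : ∀ z, Φ q z = (Groth.Agent.DRKaehler.formMap k A K A' q).liftBaseChange A' (e.symm z) := by
      intro z
      induction z using TensorProduct.induction_on with
      | zero => simp
      | add a c ha hc => rw [map_add, map_add, map_add, ha, hc]
      | tmul s x =>
        rw [hΦt, Algebra.IsPushout.cancelBaseChangeAux_symm_tmul, LinearMap.liftBaseChange_tmul, hψ',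
          IsScalarTower.algebraMap_smul]
    have h := (Groth.Agent.DRKaehler.formMap_liftBaseChange_bijective k K A A' q).comp e.symm.bijective
    exact ⟨fun a c hac => h.1 ((key a).symm.trans (hac.trans (key c))),
      fun y => (h.2 y).imp fun a ha => (key a).trans ha⟩
  have hd'Φ : ∀ q z, d' q (Φ q z) = Φ (q + 1) ((d q).lTensor K z) := fun q z => by
    induction z using TensorProduct.induction_on with
    | zero => simp
    | add a c ha hc => simp only [map_add, ha, hc]
    | tmul s x => rw [hΦt, LinearMap.lTensor_tmul, hΦt, map_smul, hcomm]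
  have hspan : ∀ q (N : Submodule k ↥(⋀[A]^q (Ω[A⁄k]))) y, (∃ z : K ⊗[k] N, Φ q (N.subtype.lTensor K z) = y) ↔
      y ∈ Submodule.span K (ψ q '' (N : Set ↥(⋀[A]^q (Ω[A⁄k])))) := by
    intro q N y
    constructor
    · rintro ⟨z, rfl⟩
      induction z using TensorProduct.induction_on with
      | zero => simp
      | add a c ha hc => rw [map_add, map_add]; exact add_mem ha hc
      | tmul s x =>
        rw [LinearMap.lTensor_tmul, hΦt]
        exact Submodule.smul_mem _ _ (Submodule.subset_span ⟨x, x.2, rfl⟩)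
    · intro hy
      induction hy using Submodule.span_induction with
      | zero => exact ⟨0, by simp⟩
      | add a c _ _ ha hc =>
        obtain ⟨u, rfl⟩ := ha
        obtain ⟨v, rfl⟩ := hc
        exact ⟨u + v, by simp⟩
      | smul s a hmem ha =>
        obtain ⟨u, rfl⟩ := ha
        clear hmem
        induction u using TensorProduct.induction_on with
        | zero => exact ⟨0, by simp⟩
        | add u v hu hv =>
          obtain ⟨u', hu'⟩ := hu
          obtain ⟨v', hv'⟩ := hv
          exact ⟨u' + v', by rw [map_add, map_add, hu', hv', map_add, map_add, smul_add]⟩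
        | tmul t x => exact ⟨(s * t) ⊗ₜ x, by simp only [LinearMap.lTensor_tmul, hΦt, mul_smul]⟩
      | mem a ha =>
        obtain ⟨x, hx, rfl⟩ := ha
        exact ⟨1 ⊗ₜ ⟨x, hx⟩, by rw [LinearMap.lTensor_tmul, hΦt, one_smul]; rfl⟩
  constructor
  · refine le_antisymm (Submodule.span_le.2 ?_) fun y hy => ?_
    · rintro _ ⟨x, hx, rfl⟩
      show d' p (ψ p x) = 0
      rw [← hcomm, show d p x = 0 from hx, map_zero]
    · obtain ⟨z, rfl⟩ := (hΦ p).2 y
      have hz : Φ (p + 1) ((d p).lTensor K z) = 0 := (hd'Φ p z).symm.trans hy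
      rw [← map_zero (Φ (p + 1))] at hz
      have hle := @Module.Flat.lTensor_exact k K _ _ _ _ ↥(LinearMap.ker (d p)) ↥(⋀[A]^p (Ω[A⁄k])) ↥(⋀[A]^(p + 1) (Ω[A⁄k])) inferInstance inferInstance inferInstance inferInstance inferInstance inferInstance (LinearMap.ker (d p)).subtype (d p) (LinearMap.exact_subtype_ker_map (d p))
      obtain ⟨u, hu⟩ := (hle z).1 ((hΦ (p + 1)).1 hz)
      exact (hspan p (LinearMap.ker (d p)) _).1 ⟨u, congrArg (Φ p) hu⟩
  · cases p with
    | zero =>
      show _ = (⊥ : Submodule K _)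
      rw [show DeRham.coboundaries d 0 = ⊥ from rfl]
      simp
    | succ q =>
      refine le_antisymm (Submodule.span_le.2 ?_) ?_
      · rintro _ ⟨x, ⟨w, rfl⟩, rfl⟩
        exact ⟨ψ q w, (hcomm q w).symm⟩
      · rintro _ ⟨y, rfl⟩
        obtain ⟨z, rfl⟩ := (hΦ q).2 y
        rw [hd'Φ]
        induction z using TensorProduct.induction_on with
        | zero => simp
        | add a c ha hc => rw [map_add, map_add]; exact add_mem ha hc
        | tmul s x =>
          rw [LinearMap.lTensor_tmul, hΦt]
          exact Submodule.smul_mem _ _ (Submodule.subset_span ⟨_, ⟨x, rfl⟩, rfl⟩)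

end Groth.Agent.S19628
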