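import Groth.Statements.S1963
import Groth.Agent.ValFP.Content
import Mathlib.RingTheory.Unramified.LocalRing

set_option autoImplicit false
set_option linter.style.haveILetI false
universe u
open EtAlg

namespace Groth.Agent.S1963

/-- Let A be a valuation ring, B an etale A-algebra and m a prime of B lying over the maximal ideal of
A. Then the localization B_m is a valuation ring, the map A -> B_m is injective and local, and the
extension is weakly unramified: every nonzero element of B_m is a unit multiple of the image of an
element of A. -/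
theorem result (A B : Type u) [CommRing A] [IsDomain A] [ValuationRing A]
    [CommRing B] [Algebra A B] [Algebra.Etale A B] (m : Ideal B) [m.IsPrime]
    (hm : m.comap (algebraMap A B) = IsLocalRing.maximalIdeal A) :
    IsDomain (Localization.AtPrime m) ∧ (∀ _ : IsDomain (Localization.AtPrime m), ValuationRing (Localization.AtPrime m)) ∧
    Function.Injective (algebraMap A (Localization.AtPrime m)) ∧ IsLocalHom (algebraMap A (Localization.AtPrime m)) ∧
    ∀ b : Localization.AtPrime m, b ≠ 0 → ∃ (a : A) (u : (Localization.AtPrime m)ˣ),
      b = u * algebraMap A (Localization.AtPrime m) a := by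
  classical
  let C := Localization.AtPrime m
  haveI : IsLocalHom (algebraMap A C) := ⟨fun a ha => by
    by_contra hu
    have h1 : algebraMap A B a ∈ m := by
      rw [← Ideal.mem_comap, hm]; exact hu
    rw [IsScalarTower.algebraMap_apply A B C] at ha
    exact (IsLocalization.AtPrime.isUnit_to_map_iff C m _).1 ha h1⟩
  haveI : Algebra.EssFiniteType B C := Algebra.EssFiniteType.of_isLocalization C m.primeCompl
  haveI : Algebra.EssFiniteType A C := Algebra.EssFiniteType.comp A B C
  haveI : Algebra.FormallyUnramified B C := Algebra.FormallyUnramified.of_isLocalization m.primeCompl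
  haveI : Algebra.FormallyUnramified A C := Algebra.FormallyUnramified.comp A B C
  haveI : Module.Flat B C := IsLocalization.flat C m.primeCompl
  haveI : Module.Flat A C := Module.Flat.trans A B C
  haveI : Module.FaithfullyFlat A C := Module.FaithfullyFlat.of_flat_of_isLocalHom
  have hinj : Function.Injective (algebraMap A C) := FaithfulSMul.algebraMap_injective A C
  have key : ∀ b : C, b ≠ 0 → ∃ (a : A) (u : Cˣ), a ≠ 0 ∧ b = u * algebraMap A C a := fun b hb => by
    haveI : Module.IsTorsionFree A C := Module.Flat.isTorsionFree
    obtain ⟨c, y, hc, hby, hy⟩ := ValFP.exists_content_local (V := A) C (N := C) b hb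
    have hu : IsUnit y := by
      by_contra hyu
      have h1 : y ∈ (IsLocalRing.maximalIdeal A).map (algebraMap A C) := by
        rw [Algebra.FormallyUnramified.map_maximalIdeal]; exact hyu
      obtain ⟨γ, hγ, z, hz⟩ := ValFP.exists_smul_of_mem_smul_top
        (M := C) (J := IsLocalRing.maximalIdeal A) (x := y) (by rw [Ideal.smul_top_eq_map]; exact h1)
      exact hy γ hγ z hz
    exact ⟨c, hu.unit, hc, by rw [hby, Algebra.smul_def, mul_comm]; rfl⟩
  haveI hdom : IsDomain C := by
    haveI : NoZeroDivisors C := ⟨fun {x y} hxy => by
      by_contra h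
      rw [not_or] at h
      obtain ⟨a, u, ha, rfl⟩ := key x h.1
      obtain ⟨a', u', ha', rfl⟩ := key y h.2
      rw [mul_mul_mul_comm, ← Units.val_mul, ← map_mul, Units.mul_right_eq_zero] at hxy
      exact mul_ne_zero ha ha' (hinj (hxy.trans (map_zero _).symm))⟩
    exact NoZeroDivisors.to_isDomain C
  refine ⟨hdom, fun _ => ?_, hinj, inferInstance, fun b hb => ?_⟩
  · refine ValuationRing.iff_dvd_total.mpr ⟨fun x y => ?_⟩
    rcases eq_or_ne x 0 with rfl | hx
    · exact Or.inr (dvd_zero y)
    rcases eq_or_ne y 0 with rfl | hy
    · exact Or.inl (dvd_zero x)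
    obtain ⟨a, u, -, rfl⟩ := key x hx
    obtain ⟨a', u', -, rfl⟩ := key y hy
    rcases ValuationRing.dvd_total a a' with h | h
    · exact Or.inl ((Units.mul_left_dvd).2 (dvd_mul_of_dvd_right (map_dvd _ h) _))
    · exact Or.inr ((Units.mul_left_dvd).2 (dvd_mul_of_dvd_right (map_dvd _ h) _))
  · obtain ⟨a, u, -, h⟩ := key b hb
    exact ⟨a, u, h⟩

end Groth.Agent.S1963
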