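import Groth.Statements.S19630
import Groth.Agent.DRKaehler.Basic

set_option linter.style.haveILetI false

set_option autoImplicit false
universe u
open DeRham

namespace Groth.Agent.S19630

open exteriorPower in
/-- In the affine case, at ring level, let k ⊆ K be a finite extension of fields of characteristic zero
and B a smooth K-algebra, so that Y = Spec B is a smooth affine variety over K which may also be
regarded over k. Let ψ be the map of de Rham complexes from Ω•_{B/k} to Ω•_{B/K} induced by the
identity of B. Then ψ is bijective in every degree: the de Rham complex of Y over k and over K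
coincide, and hence the natural map H^i_dR(Y/k) → H^i_dR(Y/K) is an isomorphism. (The source states
the isomorphism on de Rham cohomology for any smooth variety Y over K, through the equality of the
two de Rham complexes; this row is that equality for affine Y.) -/
theorem result
    (k K : Type u) [Field k] [Field K] [CharZero k] [Algebra k K] [Module.Finite k K]
    (B : Type u) [CommRing B] [Algebra K B] [Algebra k B] [IsScalarTower k K B] [Algebra.Smooth K B]
    (ψ : ∀ p : ℕ, ↥(⋀[B]^p (Ω[B⁄k])) →+ ↥(⋀[B]^p (Ω[B⁄K])))
    (hψ : DeRham.IsCxMap (KaehlerDifferential.D k B) (KaehlerDifferential.D K B) (RingHom.id B) ψ)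
    (p : ℕ) :
    Function.Bijective (ψ p) := by
  haveI : Algebra.IsSeparable k K := Algebra.IsSeparable.of_integral k K
  haveI : Algebra.FormallyUnramified k K := Algebra.FormallyUnramified.of_isSeparable k K
  haveI : Subsingleton (Ω[K⁄k]) := Algebra.FormallyUnramified.subsingleton_kaehlerDifferential
  let π : Ω[B⁄k] →ₗ[B] Ω[B⁄K] := KaehlerDifferential.map k K B B
  have hπ : Function.Bijective π := by
    refine ⟨?_, KaehlerDifferential.map_surjective k K B⟩
    rw [injective_iff_map_eq_zero]
    intro x hx
    obtain ⟨z, rfl⟩ := ((KaehlerDifferential.exact_mapBaseChange_map k K B) x).1 hx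
    rw [Subsingleton.elim z 0, map_zero]
  let e := LinearEquiv.ofBijective π hπ
  have hψ' : ∀ x, ψ p x = exteriorPower.map p π x := fun x =>
    Groth.Agent.DRKaehler.addHom_ext (g := (exteriorPower.map p π).toAddMonoidHom)
      (fun b₀ b => (hψ p b₀ b).trans (by
        simp only [DeRham.gen, RingHom.id_apply, LinearMap.toAddMonoidHom_coe, map_smul, map_apply_ιMulti,
          π, Function.comp_def, KaehlerDifferential.map_D, Algebra.algebraMap_self])) x
  have hcomp : ∀ x, exteriorPower.map p e.symm.toLinearMap (exteriorPower.map p π x) = x := fun x => by
    rw [← LinearMap.comp_apply, ← exteriorPower.map_comp,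
      show e.symm.toLinearMap.comp π = LinearMap.id from LinearMap.ext fun y => e.symm_apply_apply y,
      exteriorPower.map_id, LinearMap.id_apply]
  have h : Function.Bijective (exteriorPower.map p π) :=
    ⟨Function.LeftInverse.injective hcomp, exteriorPower.map_surjective hπ.2⟩
  exact ⟨fun a c hac => h.1 ((hψ' a).symm.trans (hac.trans (hψ' c))), fun y => (h.2 y).imp fun a ha => (hψ' a).trans ha⟩

end Groth.Agent.S19630
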