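import Groth.Statements.S19631
import Mathlib

set_option autoImplicit false
universe u
open Hyper

set_option backward.isDefEq.respectTransparency false
set_option backward.defeqAttrib.useBackward true
namespace Groth.Agent.S19631

open CategoryTheory CategoryTheory.Limits Opposite Simplicial SimplexCategory

section
variable {C : Type*} [Category C] [HasFiniteProducts C] (X : C) (n : ℕ)

/-- the vertex `i` of `Δ`, as an object over which the coskeleton cone lives -/
noncomputable def vtx (Δ : SimplexCategoryᵒᵖ) (i : Fin (Δ.unop.len + 1)) :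
    StructuredArrow Δ (SimplexCategory.Truncated.inclusion n).op :=
  StructuredArrow.mk (Y := op (⟨⦋0⦌, Nat.zero_le n⟩ : SimplexCategory.Truncated n))
    (SimplexCategory.const ⦋0⦌ Δ.unop i).op

theorem isCoskeletal_terminalFrom :
    SimplicialObject.IsCoskeletal (cechNerveTerminalFrom X) n where
  isRightKanExtension := by
    refine Functor.RightExtension.IsPointwiseRightKanExtension.isRightKanExtension
      (E := SimplicialObject.Truncated.rightExtensionInclusion (cechNerveTerminalFrom X) n) fun Δ => ?_
    refine
      { lift := fun s => Pi.lift fun i => s.π.app (vtx n Δ i) ≫ Pi.π (fun _ : Fin (0 + 1) => X) 0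
        fac := fun s j => ?_
        uniq := fun s m hm => ?_ }
    · obtain ⟨⟨a, ha⟩, g, rfl⟩ := j.mk_surjective
      refine Pi.hom_ext _ _ fun (k : Fin (a.len + 1)) => ?_
      let ν : StructuredArrow.mk (Y := op (⟨a, ha⟩ : SimplexCategory.Truncated n)) g ⟶
          vtx n Δ (g.unop.toOrderHom k) :=
        StructuredArrow.homMk (SimplexCategory.Truncated.Hom.tr (SimplexCategory.const ⦋0⦌ a k)).op
          (Quiver.Hom.unop_inj (SimplexCategory.const_comp _ _ _))
      have hw : s.π.app (StructuredArrow.mk (Y := op (⟨a, ha⟩ : SimplexCategory.Truncated n)) g) ≫ (cechNerveTerminalFrom X).map (SimplexCategory.const ⦋0⦌ a k).op = s.π.app (vtx n Δ (g.unop.toOrderHom k)) := s.w ν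
      have hc : ((SimplicialObject.Truncated.rightExtensionInclusion (cechNerveTerminalFrom X) n).coneAt Δ).π.app
          (StructuredArrow.mk g) = (cechNerveTerminalFrom X).map g := Category.comp_id _
      rw [hc, Category.assoc]
      have e1 : (cechNerveTerminalFrom X).map g ≫ Pi.π (fun _ : Fin (a.len + 1) => X) k =
          Pi.π (fun _ : Fin (Δ.unop.len + 1) => X) (g.unop.toOrderHom k) := Pi.lift_π _ _
      have e2 : (cechNerveTerminalFrom X).map (SimplexCategory.const ⦋0⦌ a k).op ≫
          Pi.π (fun _ : Fin (0 + 1) => X) 0 = Pi.π (fun _ : Fin (a.len + 1) => X) k := Pi.lift_π _ _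
      refine (congrArg (_ ≫ ·) e1).trans ((Pi.lift_π _ _).trans ?_)
      refine (congrArg (· ≫ Pi.π (fun _ : Fin (0 + 1) => X) 0) hw).symm.trans ?_
      exact (Category.assoc _ _ _).trans (congrArg (_ ≫ ·) e2)
    · refine Pi.hom_ext _ _ fun i => Eq.trans ?_ (Pi.lift_π _ _).symm
      have hc : ((SimplicialObject.Truncated.rightExtensionInclusion (cechNerveTerminalFrom X) n).coneAt Δ).π.app
          (vtx n Δ i) = (cechNerveTerminalFrom X).map (SimplexCategory.const ⦋0⦌ Δ.unop i).op := Category.comp_id _
      have e2 : (cechNerveTerminalFrom X).map (SimplexCategory.const ⦋0⦌ Δ.unop i).op ≫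
          Pi.π (fun _ : Fin (0 + 1) => X) 0 = Pi.π (fun _ : Fin (Δ.unop.len + 1) => X) i := Pi.lift_π _ _
      refine Eq.trans ?_ (congrArg (· ≫ Pi.π (fun _ : Fin (0 + 1) => X) 0) ((congrArg (m ≫ ·) hc).symm.trans (hm (vtx n Δ i))))
      exact (congrArg (m ≫ ·) e2).symm.trans (Category.assoc _ _ _).symm

end


open CategoryTheory CategoryTheory.Limits AlgebraicGeometry in
/-- Let f : X → Y be a morphism of schemes and X_• = cosk_0^Y(X) its Čech nerve, the simplicial scheme
over Y with X_p = X ×_Y ⋯ ×_Y X (p + 1 factors), face maps the projections forgetting one factor and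
degeneracies induced by diagonals. Then X_•, as a simplicial object of the category of schemes over
Y, is n-coskeletal for every n, i.e. the adjunction morphisms X_• → cosk_n sk_n X_• (coskeleta
relative to Y) are isomorphisms. In the source this is phrased as: for a class S of covering maps of
varieties containing the identities, X_• → Y is an S-hypercover whenever X → Y lies in S, the
adjunction maps X_p → (cosk_{p-1} sk_{p-1} X_•)_p being isomorphisms for p ≥ 1 and X_0 → Y being f.
(Stated for arbitrary schemes; the source has varieties over a field.) -/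
theorem result (X Y : Scheme.{u}) (f : X ⟶ Y) (n : ℕ) :
    SimplicialObject.IsCoskeletal (cechNerveTerminalFrom (Over.mk f)) n := by
  exact isCoskeletal_terminalFrom (Over.mk f) n

end Groth.Agent.S19631
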