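import Groth.Statements.S19632
import Mathlib

set_option autoImplicit false
universe u
open DeRham

namespace Groth.Agent.S19632

/-- Let k be a field of characteristic zero and G_m = Spec k[t, t⁻¹] the multiplicative group. The
kernel of the differential d : k[t, t⁻¹] → Ω¹ of the de Rham complex of G_m consists of the
constants: for a Laurent polynomial f, df = 0 if and only if f lies in the image of k. Equivalently
H^0_dR(G_m/k) = k. (Characteristic zero is used: in characteristic p the element t^p is closed.) -/
theorem result (k : Type u) [Field k] [CharZero k]
    (f : LaurentPolynomial k) :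
    KaehlerDifferential.D k (LaurentPolynomial k) f = 0 ↔ f ∈ Set.range (algebraMap k (LaurentPolynomial k)) := by
  constructor
  · intro hf
    let φ : (ℤ →₀ k) →ₗ[k] (ℤ →₀ k) := Finsupp.lsum k fun n => (n : k) • Finsupp.lsingle n
    let δ : LaurentPolynomial k →ₗ[k] LaurentPolynomial k :=
      (AddMonoidAlgebra.coeffLinearEquiv k).symm.toLinearMap ∘ₗ φ ∘ₗ
        (AddMonoidAlgebra.coeffLinearEquiv k).toLinearMap
    have hδ : ∀ (n : ℤ) (a : k), δ (AddMonoidAlgebra.single n a) = AddMonoidAlgebra.single n ((n : k) * a) := by
      intro n a
      apply (AddMonoidAlgebra.coeffLinearEquiv k).injective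
      simp only [δ, LinearMap.comp_apply, LinearEquiv.coe_coe, LinearEquiv.apply_symm_apply]
      change φ (Finsupp.single n a) = Finsupp.single n ((n : k) * a)
      simp [φ]
    have hmul : ∀ p q : LaurentPolynomial k, δ (p * q) = p • δ q + q • δ p := by
      intro p q
      simp only [smul_eq_mul]
      induction p using LaurentPolynomial.induction_on' with
      | add a b ha hb => simp only [add_mul, map_add, ha, hb]; ring
      | C_mul_T n a =>
        induction q using LaurentPolynomial.induction_on' with
        | add c d hc hd => simp only [mul_add, map_add, hc, hd]; ring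
        | C_mul_T m b =>
          simp only [← LaurentPolynomial.single_eq_C_mul_T, AddMonoidAlgebra.single_mul_single, hδ]
          rw [add_comm m n, ← AddMonoidAlgebra.single_add]
          congr 1
          push_cast
          ring
    let D' : Derivation k (LaurentPolynomial k) (LaurentPolynomial k) := Derivation.mk' δ hmul
    have h0 : δ f = 0 := by
      have h := Derivation.liftKaehlerDifferential_comp_D D' f
      rw [hf, map_zero] at h
      exact h.symm
    refine ⟨f.coeff 0, ?_⟩
    ext n
    have hn : (n : k) * f.coeff n = 0 := by
      have h1 : (δ f).coeff n = (n : k) * f.coeff n := by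
        clear h0 hf
        induction f using LaurentPolynomial.induction_on' with
        | add a b ha hb => simp only [map_add, AddMonoidAlgebra.coeff_add, Finsupp.add_apply, ha, hb, mul_add]
        | C_mul_T m b =>
          rw [← LaurentPolynomial.single_eq_C_mul_T, hδ]
          simp only [AddMonoidAlgebra.coeff_single, Finsupp.single_apply]
          split_ifs with h
          · rw [h]
          · rw [mul_zero]
      rw [← h1, h0]; rfl
    rcases eq_or_ne n 0 with rfl | hne
    · simp
    · have : f.coeff n = 0 := (mul_eq_zero.1 hn).resolve_left (Int.cast_ne_zero.2 hne)
      simp [this]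
      intro h
      exact absurd h hne
  · rintro ⟨a, rfl⟩
    exact Derivation.map_algebraMap _ a

end Groth.Agent.S19632
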