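import Groth.Statements.S19633
import Mathlib

set_option autoImplicit false
universe u
open DeRham

namespace Groth.Agent.S19633

open exteriorPower in
/-- Let k be a field of characteristic zero, G_m = Spec k[t, t⁻¹], and d the de Rham differential of
k[t, t⁻¹] over k. Then: every 1-form is closed; the exact 1-forms and the k-line spanned by t⁻¹ dt
are complementary subspaces of the 1-forms, and t⁻¹ dt is not exact — so H^1_dR(G_m/k) is
one-dimensional, generated by the class of dt/t (the isomorphism with k being the residue); and for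
every i ≥ 2 the closed i-forms are exact, so H^i_dR(G_m/k) = 0 for i > 1. (Characteristic zero is
used in the computation of the exact forms.) -/
theorem result (k : Type u) [Field k] [CharZero k]
    (d : ∀ p : ℕ, ↥(⋀[LaurentPolynomial k]^p (Ω[LaurentPolynomial k⁄k])) →ₗ[k] ↥(⋀[LaurentPolynomial k]^(p + 1) (Ω[LaurentPolynomial k⁄k])))
    (hd : DeRham.IsDiff (KaehlerDifferential.D k (LaurentPolynomial k)) d) :
    DeRham.cocycles d 1 = ⊤ ∧
    IsCompl (DeRham.coboundaries d 1)
      (Submodule.span k {DeRham.gen (KaehlerDifferential.D k (LaurentPolynomial k)) 1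
        (LaurentPolynomial.T (-1)) (fun _ => LaurentPolynomial.T 1)}) ∧
    DeRham.gen (KaehlerDifferential.D k (LaurentPolynomial k)) 1
        (LaurentPolynomial.T (-1)) (fun _ => LaurentPolynomial.T 1) ∉ DeRham.coboundaries d 1 ∧
    ∀ i : ℕ, DeRham.cocycles d (i + 2) ≤ DeRham.coboundaries d (i + 2) := by
  classical
  let D := KaehlerDifferential.D k (LaurentPolynomial k)
  let φ : (ℤ →₀ k) →ₗ[k] (ℤ →₀ k) := Finsupp.lsum k fun n => (n : k) • Finsupp.lsingle n
  let δl : (LaurentPolynomial k) →ₗ[k] (LaurentPolynomial k) := (AddMonoidAlgebra.coeffLinearEquiv k).symm.toLinearMap ∘ₗ φ ∘ₗ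
    (AddMonoidAlgebra.coeffLinearEquiv k).toLinearMap
  have hδ : ∀ (n : ℤ) (a : k), δl (AddMonoidAlgebra.single n a) = AddMonoidAlgebra.single n ((n : k) * a) := by
    intro n a
    apply (AddMonoidAlgebra.coeffLinearEquiv k).injective
    simp only [δl, LinearMap.comp_apply, LinearEquiv.coe_coe, LinearEquiv.apply_symm_apply]
    change φ (Finsupp.single n a) = Finsupp.single n ((n : k) * a)
    simp [φ]
  have hmul : ∀ p q : (LaurentPolynomial k), δl (p * q) = p • δl q + q • δl p := by
    intro p q
    simp only [smul_eq_mul]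
    induction p using LaurentPolynomial.induction_on' with
    | add a b ha hb => simp only [add_mul, map_add, ha, hb]; ring
    | C_mul_T n a =>
      induction q using LaurentPolynomial.induction_on' with
      | add c d hc hd => simp only [mul_add, map_add, hc, hd]; ring
      | C_mul_T m b =>
        simp only [← LaurentPolynomial.single_eq_C_mul_T, AddMonoidAlgebra.single_mul_single, hδ]
        rw [add_comm m n, ← AddMonoidAlgebra.single_add]
        congr 1
        push_cast
        ring
  let δ : Derivation k (LaurentPolynomial k) (LaurentPolynomial k) := Derivation.mk' δl hmul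
  have hδc : ∀ f : (LaurentPolynomial k), (δ f).coeff 0 = 0 := by
    intro f
    induction f using LaurentPolynomial.induction_on' with
    | add a b ha hb => simp only [map_add, AddMonoidAlgebra.coeff_add, Finsupp.add_apply, ha, hb, add_zero]
    | C_mul_T m b =>
      rw [← LaurentPolynomial.single_eq_C_mul_T, show δ (AddMonoidAlgebra.single m b) = _ from hδ m b,
        AddMonoidAlgebra.coeff_single, Finsupp.single_apply]
      split_ifs with h
      · rw [h, Int.cast_zero, zero_mul]
      · rfl
  obtain ⟨ω, hω⟩ : ∃ ω : Ω[(LaurentPolynomial k)⁄k], ω = (LaurentPolynomial.T (-1) : (LaurentPolynomial k)) • D (LaurentPolynomial.T 1) := ⟨_, rfl⟩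
  have hT1 : D (LaurentPolynomial.T 1) = (LaurentPolynomial.T 1 : (LaurentPolynomial k)) • ω := by
    rw [hω, smul_smul, ← LaurentPolynomial.T_add]
    simp
  have hTn : ∀ n : ℤ, D (LaurentPolynomial.T n) = ((n : k) • (LaurentPolynomial.T n : (LaurentPolynomial k))) • ω := by
    intro n
    induction n using Int.induction_on with
    | zero =>
      rw [LaurentPolynomial.T_zero, Derivation.map_one_eq_zero]
      simp
    | succ i ih =>
      rw [LaurentPolynomial.T_add, Derivation.leibniz, ih, hT1, smul_smul, smul_smul, ← add_smul]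
      congr 1
      rw [mul_smul_comm, mul_comm (LaurentPolynomial.T 1 : (LaurentPolynomial k))]
      push_cast
      rw [add_smul, one_smul, add_comm]
    | pred i ih =>
      have h := D.leibniz (LaurentPolynomial.T (-(i : ℤ) - 1)) (LaurentPolynomial.T 1)
      rw [← LaurentPolynomial.T_add, sub_add_cancel, ih, hT1, smul_smul] at h
      have h2 := congrArg (fun z => (LaurentPolynomial.T (-1) : (LaurentPolynomial k)) • z) h
      simp only [smul_add, smul_smul, ← LaurentPolynomial.T_add, mul_smul_comm] at h2
      rw [show (-1 : ℤ) + 1 = 0 by norm_num, LaurentPolynomial.T_zero, one_smul] at h2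
      rw [eq_comm, ← eq_sub_iff_add_eq'] at h2
      rw [h2, ← sub_smul]
      congr 1
      rw [show (-1 : ℤ) + -(i : ℤ) = -(i : ℤ) - 1 by ring,
        show (-1 : ℤ) + (-(i : ℤ) - 1 + 1) = -(i : ℤ) - 1 by ring]
      push_cast
      rw [sub_smul, one_smul]
  have hD : ∀ f : (LaurentPolynomial k), D f = δ f • ω := by
    intro f
    induction f using LaurentPolynomial.induction_on' with
    | add a b ha hb => rw [map_add, map_add, ha, hb, add_smul]
    | C_mul_T m b =>
      rw [show (LaurentPolynomial.C b : (LaurentPolynomial k)) * LaurentPolynomial.T m = b • LaurentPolynomial.T m from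
        (LaurentPolynomial.smul_eq_C_mul b _).symm, Derivation.map_smul, Derivation.map_smul, hTn,
        smul_assoc b (δ (LaurentPolynomial.T m))]
      congr 2
      rw [show (LaurentPolynomial.T m : (LaurentPolynomial k)) = AddMonoidAlgebra.single m 1 from rfl,
        show δ (AddMonoidAlgebra.single m (1 : k)) = _ from hδ m 1, AddMonoidAlgebra.smul_single', mul_one]
  have hspan : ∀ x : Ω[(LaurentPolynomial k)⁄k], ∃ c : (LaurentPolynomial k), x = c • ω := by
    intro x
    have hx : x ∈ Submodule.span (LaurentPolynomial k) (Set.range D) := by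
      rw [KaehlerDifferential.span_range_derivation]; trivial
    induction hx using Submodule.span_induction with
    | mem y hy => obtain ⟨f, rfl⟩ := hy; exact ⟨_, hD f⟩
    | zero => exact ⟨0, (zero_smul _ _).symm⟩
    | add a b _ _ ha hb =>
      obtain ⟨c, rfl⟩ := ha
      obtain ⟨c', rfl⟩ := hb
      exact ⟨c + c', (add_smul _ _ _).symm⟩
    | smul r a _ ha =>
      obtain ⟨c, rfl⟩ := ha
      exact ⟨r * c, (mul_smul _ _ _).symm⟩
  have hzero : ∀ (i : ℕ) (x : ↥(⋀[(LaurentPolynomial k)]^(i + 2) (Ω[(LaurentPolynomial k)⁄k]))), x = 0 := by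
    intro i x
    have hx : x ∈ Submodule.span (LaurentPolynomial k) (Set.range (exteriorPower.ιMulti (LaurentPolynomial k) (i + 2) (M := Ω[(LaurentPolynomial k)⁄k]))) := by
      rw [exteriorPower.ιMulti_span]; trivial
    induction hx using Submodule.span_induction with
    | zero => rfl
    | add a b _ _ ha hb => rw [ha, hb, add_zero]
    | smul r a _ ha => rw [ha, smul_zero]
    | mem y hy =>
      obtain ⟨v, rfl⟩ := hy
      choose c hc using hspan
      have hv : v = fun j => c (v j) • (fun _ => ω) j := funext fun j => hc (v j)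
      rw [hv, AlternatingMap.map_smul_univ,
        AlternatingMap.map_eq_zero_of_eq _ (fun _ => ω) rfl (show (0 : Fin (i + 2)) ≠ 1 by simp [Fin.ext_iff]),
        smul_zero]
  let e1 := exteriorPower.oneEquiv (LaurentPolynomial k) (Ω[(LaurentPolynomial k)⁄k])
  set G : ↥(⋀[(LaurentPolynomial k)]^1 (Ω[(LaurentPolynomial k)⁄k])) := DeRham.gen (KaehlerDifferential.D k (LaurentPolynomial k)) 1
    (LaurentPolynomial.T (-1)) (fun _ => LaurentPolynomial.T 1) with hG
  have heG : e1 G = ω := by
    rw [hG, DeRham.gen, map_smul, hω]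
    congr 1
    exact exteriorPower.oneEquiv_ιMulti _
  have hd0 : ∀ f : (LaurentPolynomial k), e1 (d 0 (DeRham.gen (KaehlerDifferential.D k (LaurentPolynomial k)) 0 f ![])) = D f := by
    intro f
    rw [hd.1]
    exact exteriorPower.oneEquiv_ιMulti _
  have h0span : ∀ y : ↥(⋀[(LaurentPolynomial k)]^0 (Ω[(LaurentPolynomial k)⁄k])), ∃ f, y = DeRham.gen (KaehlerDifferential.D k (LaurentPolynomial k)) 0 f ![] := by
    intro y
    refine ⟨exteriorPower.zeroEquiv (LaurentPolynomial k) _ y, (exteriorPower.zeroEquiv (LaurentPolynomial k) (Ω[(LaurentPolynomial k)⁄k])).injective ?_⟩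
    rw [DeRham.gen, map_smul, exteriorPower.zeroEquiv_ιMulti, smul_eq_mul, mul_one]
  let res : ↥(⋀[(LaurentPolynomial k)]^1 (Ω[(LaurentPolynomial k)⁄k])) → k := fun y => (δ.liftKaehlerDifferential (e1 y)).coeff 0
  have hres_exact : ∀ y ∈ DeRham.coboundaries d 1, res y = 0 := by
    rintro _ ⟨y, rfl⟩
    obtain ⟨f, rfl⟩ := h0span y
    simp only [res, hd0]
    rw [show δ.liftKaehlerDifferential (D f) = δ f from δ.liftKaehlerDifferential_comp_D f]
    exact hδc f
  have hωres : δ.liftKaehlerDifferential ω = 1 := by
    rw [hω, map_smul, show δ.liftKaehlerDifferential (D (LaurentPolynomial.T 1)) = δ (LaurentPolynomial.T 1) from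
      δ.liftKaehlerDifferential_comp_D _, show (LaurentPolynomial.T 1 : (LaurentPolynomial k)) = AddMonoidAlgebra.single 1 1 from rfl,
      show δ (AddMonoidAlgebra.single (1 : ℤ) (1 : k)) = _ from hδ 1 1, smul_eq_mul, Int.cast_one, one_mul]
    show (LaurentPolynomial.T (-1) : (LaurentPolynomial k)) * LaurentPolynomial.T 1 = 1
    rw [← LaurentPolynomial.T_add]
    simp
  have hres_smul : ∀ a : k, res (a • G) = a := by
    intro a
    simp only [res]
    rw [← algebraMap_smul (LaurentPolynomial k) a G, map_smul, map_smul, heG, hωres, smul_eq_mul, mul_one]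
    simp [LaurentPolynomial.algebraMap_apply]
  have hnot : G ∉ DeRham.coboundaries d 1 := fun h => by
    have h1 := hres_exact _ h
    have h2 := hres_smul 1
    rw [one_smul, h1] at h2
    exact zero_ne_one h2
  refine ⟨eq_top_iff.2 fun y _ => hzero 0 _, ?_, hnot, fun i y _ => ?_⟩
  · refine IsCompl.of_eq ?_ ?_
    · rw [Submodule.eq_bot_iff]
      intro y hy
      rw [Submodule.mem_inf] at hy
      obtain ⟨h1, h2⟩ := hy
      obtain ⟨a, rfl⟩ := Submodule.mem_span_singleton.1 h2
      have := hres_exact _ h1
      rw [hres_smul] at this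
      rw [this, zero_smul]
    · rw [eq_top_iff]
      intro y hyt
      clear hyt
      obtain ⟨f, hf⟩ := hspan (e1 y)
      have hy : y = f • G := e1.injective (by rw [map_smul, heG, hf])
      subst hy
      clear hf
      induction f using LaurentPolynomial.induction_on' with
      | add a b ha hb => rw [add_smul]; exact Submodule.add_mem _ ha hb
      | C_mul_T m b =>
        rcases eq_or_ne m 0 with rfl | hm
        · refine Submodule.mem_sup_right (Submodule.mem_span_singleton.2 ⟨b, ?_⟩)
          rw [LaurentPolynomial.T_zero, mul_one, ← algebraMap_smul (LaurentPolynomial k) b G]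
          rfl
        · refine Submodule.mem_sup_left ⟨DeRham.gen (KaehlerDifferential.D k (LaurentPolynomial k)) 0
            (AddMonoidAlgebra.single m (b / m)) ![], e1.injective ?_⟩
          rw [hd0, hD, map_smul, heG, show δ (AddMonoidAlgebra.single m (b / (m : k))) = _ from hδ m _,
            mul_div_cancel₀ _ (Int.cast_ne_zero.2 hm), LaurentPolynomial.single_eq_C_mul_T]
  · rw [hzero i y]
    exact Submodule.zero_mem _

end Groth.Agent.S19633
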