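import Groth.Statements.S19649
import Mathlib

set_option autoImplicit false
universe u v
open Instab
open scoped TensorProduct
set_option linter.style.haveILetI false
set_option maxHeartbeats 1000000

namespace Groth.Agent.S19649

open MvPolynomial DirectSum in
/-- The case of a point, in graded-module form over an affine base. Let R be a commutative ring, n a
natural number, A = R[x_1, …, x_n] the polynomial ring graded by ℤ^n with x_i of degree the i-th
basis vector (the weight grading of the standard action of the n-dimensional split torus on affine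
n-space), and P a finitely generated projective A-module carrying a compatible ℤ^n-grading (an
equivariant vector bundle on affine n-space over Spec R). Then P is graded-free Zariski-locally on
Spec R: for every prime p of R there are r ∉ p and finitely many homogeneous elements f_1, …, f_m of
P such that, after inverting r, the f_i form an A-basis of P — every element of P multiplied by a
power of r is an A-linear combination of the f_i, and the coefficients of every A-linear relation
among the f_i are killed by a power of r. (This is the case of a point of the source's description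
of filtered points of quotient stacks by the general linear group, whose argument the source gives
in full: an equivariant vector bundle on affine n-space over a base is, locally on the base, the
standard one attached to a cocharacter; the general case, an identification of mapping stacks, is
not stated here.) -/
theorem result
    {R : Type u} [CommRing R] (n : ℕ)
    {P : Type v} [AddCommGroup P] [Module (MvPolynomial (Fin n) R) P] [Module R P]
    [IsScalarTower R (MvPolynomial (Fin n) R) P]
    (ℳ : (Fin n → ℤ) → Submodule R P) [DirectSum.Decomposition ℳ]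
    [SetLike.GradedSMul (MvPolynomial.weightedHomogeneousSubmodule R (fun i : Fin n => (Pi.single i 1 : Fin n → ℤ))) ℳ]
    [Module.Finite (MvPolynomial (Fin n) R) P] [Module.Projective (MvPolynomial (Fin n) R) P]
    (p : PrimeSpectrum R) :
    ∃ r : R, r ∉ p.asIdeal ∧ ∃ (m : ℕ) (d : Fin m → (Fin n → ℤ)) (f : Fin m → P), (∀ i, f i ∈ ℳ (d i)) ∧
      (∀ q : P, ∃ (N : ℕ) (c : Fin m → MvPolynomial (Fin n) R), (MvPolynomial.C r : MvPolynomial (Fin n) R) ^ N • q = ∑ i, c i • f i) ∧
      (∀ c : Fin m → MvPolynomial (Fin n) R, ∑ i, c i • f i = 0 →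
        ∃ N : ℕ, ∀ i, (MvPolynomial.C r : MvPolynomial (Fin n) R) ^ N * c i = 0) := by
  classical
  let A := MvPolynomial (Fin n) R
  let ε : A →+* R := MvPolynomial.constantCoeff
  let P₀ : Ideal A := p.asIdeal.comap ε
  haveI : P₀.IsPrime := Ideal.IsPrime.comap ε
  let κ := P₀.ResidueField
  let hom : Set P := ⋃ d, (ℳ d : Set P)
  have hspanR : ∀ q : P, q ∈ Submodule.span A hom := fun q => by
    rw [← DirectSum.sum_support_decompose ℳ q]
    exact Submodule.sum_mem _ fun i _ => Submodule.subset_span (Set.mem_iUnion.2 ⟨i, SetLike.coe_mem _⟩)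
  let ι : P →ₗ[A] TensorProduct A κ P := TensorProduct.mk A κ P 1
  have htop : Submodule.span κ (ι '' hom) = ⊤ := by
    rw [eq_top_iff]
    intro z _
    induction z using TensorProduct.induction_on with
    | zero => exact Submodule.zero_mem _
    | add x y hx hy => exact Submodule.add_mem _ (hx trivial) (hy trivial)
    | tmul c q =>
      have : c ⊗ₜ[A] q = c • ι q := by simp [ι, TensorProduct.smul_tmul']
      rw [this]
      refine Submodule.smul_mem _ _ ?_
      have h : ι q ∈ Submodule.span A (ι '' hom) := by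
        rw [Submodule.span_image]; exact Submodule.mem_map_of_mem (hspanR q)
      exact Submodule.span_le_restrictScalars A κ _ h
  obtain ⟨b, hbsub, hbspan, hbli⟩ := exists_linearIndependent κ (ι '' hom)
  haveI : Fintype b := hbli.setFinite.fintype
  let e := (Fintype.equivFin b).symm
  choose f hfhom hfb using fun i => hbsub (e i).2
  choose d hd using fun i => Set.mem_iUnion.1 (hfhom i)
  have hli : LinearIndependent κ (fun i => ι (f i)) := by
    have : (fun i => ι (f i)) = (fun x : b => (x : TensorProduct A κ P)) ∘ e := funext fun i => hfb i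
    rw [this]; exact hbli.comp e e.injective
  have hspanκ : Submodule.span κ (Set.range fun i => ι (f i)) = ⊤ := by
    rw [← htop, ← hbspan]
    congr 1
    ext z
    constructor
    · rintro ⟨i, rfl⟩; show ι (f i) ∈ b; rw [hfb i]; exact (e i).2
    · intro hz
      exact ⟨e.symm ⟨z, hz⟩, by show ι (f _) = z; rw [hfb, e.apply_symm_apply]⟩
  set S : Submodule A P := Submodule.span A (Set.range f) with hS
  let w : Fin n → (Fin n → ℤ) := fun i => Pi.single i 1
  have hwt : ∀ v : Fin n →₀ ℕ, Finsupp.weight w v = 0 → v = 0 := fun v hv => by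
    ext i
    have := congrFun hv i
    simpa [w, Finsupp.weight_apply, Finsupp.sum_fintype, Finset.sum_apply, Pi.single_apply] using this
  let pr : (Fin n → ℤ) → P → P := fun d₀ q => (DirectSum.decompose ℳ q d₀ : P)
  have pr_add : ∀ d₀ x y, pr d₀ (x + y) = pr d₀ x + pr d₀ y := fun d₀ x y => by
    simp [pr, DirectSum.decompose_add]
  have pr_sum : ∀ (d₀ : Fin n → ℤ) {σ : Type} (t : Finset σ) (g : σ → P),
      pr d₀ (∑ i ∈ t, g i) = ∑ i ∈ t, pr d₀ (g i) := fun d₀ σ t g =>
    map_sum (AddMonoidHom.mk' (pr d₀) (pr_add d₀)) g t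
  have hmon : ∀ (v : Fin n →₀ ℕ) (r : R) {d₁ : Fin n → ℤ} {q : P}, q ∈ ℳ d₁ →
      (MvPolynomial.monomial v r : A) • q ∈ ℳ (Finsupp.weight w v + d₁) := fun v r d₁ q hq =>
    SetLike.GradedSMul.smul_mem
      (A := MvPolynomial.weightedHomogeneousSubmodule R w)
      (MvPolynomial.isWeightedHomogeneous_monomial w v r rfl) hq
  have prS : ∀ d₀, ∀ q ∈ S, pr d₀ q ∈ S := by
    intro d₀ q hq
    obtain ⟨c, rfl⟩ := (Submodule.mem_span_range_iff_exists_fun A).1 hq
    rw [← Fintype.sum_congr _ _ (fun i => rfl)]
    rw [show pr d₀ (∑ i, c i • f i) = ∑ i, pr d₀ (c i • f i) from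
      map_sum (AddMonoidHom.mk' (pr d₀) (pr_add d₀)) _ _]
    refine Submodule.sum_mem _ fun i _ => ?_
    rw [(c i).as_sum, Finset.sum_smul,
      show pr d₀ (∑ v ∈ (c i).support, (MvPolynomial.monomial v ((c i).coeff v) : A) • f i) = _ from
      map_sum (AddMonoidHom.mk' (pr d₀) (pr_add d₀)) _ _]
    refine Submodule.sum_mem _ fun v _ => ?_
    show pr d₀ _ ∈ S
    by_cases h : Finsupp.weight w v + d i = d₀
    · subst h
      simp only [pr, DirectSum.decompose_of_mem_same ℳ (hmon v _ (hd i))]
      exact Submodule.smul_mem _ _ (Submodule.subset_span ⟨i, rfl⟩)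
    · simp only [pr, DirectSum.decompose_of_mem_ne ℳ (hmon v _ (hd i)) h]
      exact Submodule.zero_mem _
  -- the cokernel vanishes near the prime
  obtain ⟨s, hsann, hs⟩ : ∃ s ∈ Module.annihilator A (P ⧸ S), s ∉ P₀ := by
    by_contra hcon
    push Not at hcon
    have hmem : (⟨P₀, inferInstance⟩ : PrimeSpectrum A) ∈ Module.support A (P ⧸ S) :=
      Module.mem_support_iff_of_finite.2 hcon
    rw [Module.mem_support_iff_nontrivial_residueField_tensorProduct] at hmem
    obtain ⟨z, hz⟩ := exists_ne (0 : TensorProduct A κ (P ⧸ S))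
    apply hz
    have hsur : Function.Surjective (S.mkQ.baseChange κ) :=
      LinearMap.lTensor_surjective κ S.mkQ_surjective
    obtain ⟨y, rfl⟩ := hsur z
    have hker : Submodule.span κ (Set.range fun i => ι (f i)) ≤ LinearMap.ker (S.mkQ.baseChange κ) := by
      rw [Submodule.span_le]
      rintro _ ⟨i, rfl⟩
      show S.mkQ.baseChange κ ((1 : κ) ⊗ₜ[A] f i) = 0
      rw [LinearMap.baseChange_tmul, Submodule.mkQ_apply,
        (Submodule.Quotient.mk_eq_zero S).2 (Submodule.subset_span ⟨i, rfl⟩), TensorProduct.tmul_zero]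
    exact hker (hspanκ.symm ▸ Submodule.mem_top)
  set r : R := ε s with hr
  have hr' : r ∉ p.asIdeal := hs
  have hrq : ∀ q : P, (MvPolynomial.C r : A) • q ∈ S := by
    intro q
    rw [← DirectSum.sum_support_decompose ℳ q, Finset.smul_sum]
    refine Submodule.sum_mem _ fun d₀ _ => ?_
    set q₀ := (DirectSum.decompose ℳ q d₀ : P)
    have hq₀ : q₀ ∈ ℳ d₀ := SetLike.coe_mem _
    have h1 : s • q₀ ∈ S := by
      rw [← Submodule.Quotient.mk_eq_zero, Submodule.Quotient.mk_smul]
      exact Module.mem_annihilator.1 hsann _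
    have h2 := prS d₀ _ h1
    have h3 : pr d₀ (s • q₀) = (MvPolynomial.C r : A) • q₀ := by
      conv_lhs => rw [s.as_sum, Finset.sum_smul]
      rw [show pr d₀ (∑ v ∈ s.support, (MvPolynomial.monomial v (s.coeff v) : A) • q₀) = _ from
        map_sum (AddMonoidHom.mk' (pr d₀) (pr_add d₀)) _ _]
      rw [Finset.sum_eq_single 0]
      · show pr d₀ ((MvPolynomial.monomial 0 (s.coeff 0) : A) • q₀) = _
        have hmem0 := hmon 0 (s.coeff 0) hq₀
        rw [map_zero, zero_add] at hmem0
        simp only [pr]
        rw [DirectSum.decompose_of_mem_same ℳ hmem0, MvPolynomial.monomial_zero']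
        rfl
      · intro v _ hv
        show pr d₀ _ = 0
        exact DirectSum.decompose_of_mem_ne ℳ (hmon v _ hq₀) fun h => hv (hwt v (by simpa using h))
      · intro h0
        rw [MvPolynomial.notMem_support_iff.1 h0]
        simp [pr]
    rwa [h3] at h2
  -- the relations
  let Φ : (Fin (Fintype.card b) → A) →ₗ[A] P := Fintype.linearCombination A f
  let rP : P →ₗ[A] ↥(LinearMap.range Φ) :=
    LinearMap.codRestrict _ ((MvPolynomial.C r : A) • LinearMap.id) fun q => by
      obtain ⟨c, hc⟩ := (Submodule.mem_span_range_iff_exists_fun A).1 (hrq q)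
      exact ⟨c, by simpa [Φ, Fintype.linearCombination_apply] using hc⟩
  obtain ⟨σ, hσ⟩ := Module.projective_lifting_property Φ.rangeRestrict rP Φ.surjective_rangeRestrict
  have hσ' : ∀ q, Φ (σ q) = (MvPolynomial.C r : A) • q := fun q =>
    congrArg Subtype.val (LinearMap.congr_fun hσ q)
  let τ : (Fin (Fintype.card b) → A) →ₗ[A] (Fin (Fintype.card b) → A) :=
    (MvPolynomial.C r : A) • LinearMap.id - σ.comp Φ
  have hΦτ : ∀ c, Φ (τ c) = 0 := fun c => by
    simp [τ, map_sub, hσ']
  have hττ : ∀ c, τ (τ c) = (MvPolynomial.C r : A) • τ c := fun c => by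
    have h : τ (τ c) = (MvPolynomial.C r : A) • τ c - σ (Φ (τ c)) := rfl
    rw [h, hΦτ, map_zero, sub_zero]
  let T : Matrix (Fin (Fintype.card b)) (Fin (Fintype.card b)) A := LinearMap.toMatrix' τ
  have hres : ∀ i j, algebraMap A κ (T i j) = 0 := by
    intro i j
    have h1 : ι (Φ (τ (Pi.single j 1))) = 0 := by rw [hΦτ, map_zero]
    simp only [Φ, Fintype.linearCombination_apply, map_sum, map_smul] at h1
    have h2 : ∑ i, algebraMap A κ (T i j) • ι (f i) = 0 := by
      rw [← h1]
      refine Finset.sum_congr rfl fun l _ => ?_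
      rw [algebraMap_smul]
      congr 1
      try simp [T, LinearMap.toMatrix'_apply]
    exact Fintype.linearIndependent_iff.1 hli _ h2 i
  let D : A := (T - (MvPolynomial.C r : A) • (1 : Matrix _ _ A)).det
  have hD : D ∉ P₀ := by
    rw [← P₀.algebraMap_residueField_eq_zero]
    show algebraMap A κ D ≠ 0
    rw [RingHom.map_det]
    have : (algebraMap A κ).mapMatrix (T - (MvPolynomial.C r : A) • (1 : Matrix _ _ A)) =
        (-algebraMap A κ (MvPolynomial.C r)) • (1 : Matrix _ _ κ) := by
      ext i j
      rcases eq_or_ne i j with h | h <;> simp [hres, h, Matrix.one_apply]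
    rw [this, Matrix.det_smul, Matrix.det_one, mul_one]
    refine pow_ne_zero _ (neg_ne_zero.2 fun h => hr' ?_)
    have := P₀.algebraMap_residueField_eq_zero.1 h
    have h5 : ε (MvPolynomial.C r) ∈ p.asIdeal := this
    rw [show ε (MvPolynomial.C r) = r from MvPolynomial.constantCoeff_C (Fin n) r] at h5
    exact h5
  have hDT : ∀ i j, D * T i j = 0 := by
    have hmul : (T - (MvPolynomial.C r : A) • (1 : Matrix _ _ A)) * T = 0 := by
      rw [sub_mul, smul_mul_assoc, one_mul, sub_eq_zero]
      have := congrArg LinearMap.toMatrix' (LinearMap.ext hττ : τ.comp τ = (MvPolynomial.C r : A) • τ)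
      rwa [LinearMap.toMatrix'_comp, map_smul] at this
    have h2 := congrArg (fun M => (T - (MvPolynomial.C r : A) • (1 : Matrix _ _ A)).adjugate * M) hmul
    simp only [← Matrix.mul_assoc, Matrix.adjugate_mul, smul_mul_assoc, one_mul, mul_zero] at h2
    exact fun i j => congrFun (congrFun h2 i) j
  set s₀ : R := ε D with hs₀
  have hnil : ∀ (a : A) (N : ℕ), D * a = 0 → a.totalDegree < N → (MvPolynomial.C s₀ : A) ^ N * a = 0 := by
    intro a N ha hN
    have hu : (MvPolynomial.C s₀ - D : A) ∈ MvPolynomial.idealOfVars (Fin n) R ^ 1 := by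
      rw [MvPolynomial.mem_pow_idealOfVars_iff']
      intro v hv
      have : v = 0 := (Finsupp.degree_eq_zero_iff v).1 (by omega)
      subst this
      show MvPolynomial.coeff 0 (MvPolynomial.C (MvPolynomial.coeff 0 D) - D) = 0
      rw [MvPolynomial.coeff_sub, MvPolynomial.coeff_zero_C, sub_self]
    have h1 : (MvPolynomial.C s₀ : A) ^ N * a = (MvPolynomial.C s₀ - D) ^ N * a := by
      clear hN
      induction N with
      | zero => simp
      | succ N ih =>
        have hua : (MvPolynomial.C s₀ : A) * a = (MvPolynomial.C s₀ - D) * a := by rw [sub_mul, ha, sub_zero]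
        rw [pow_succ, pow_succ, mul_assoc, hua, mul_assoc, mul_left_comm ((MvPolynomial.C s₀ : A) ^ N), ih,
          mul_left_comm]
    have h2 : (MvPolynomial.C s₀ : A) ^ N * a ∈ MvPolynomial.idealOfVars (Fin n) R ^ N := by
      rw [h1]
      refine Ideal.mul_mem_right _ _ (Ideal.pow_mem_pow ?_ N)
      simpa using hu
    rw [MvPolynomial.mem_pow_idealOfVars_iff'] at h2
    ext v
    rw [MvPolynomial.coeff_zero]
    rcases lt_or_ge (Finsupp.degree v) N with h | h
    · exact h2 v h
    · rw [← map_pow, MvPolynomial.coeff_C_mul]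
      have : a.coeff v = 0 := by
        by_contra hne
        have h3 := MvPolynomial.le_totalDegree (MvPolynomial.mem_support_iff.2 hne)
        have h4 : (v.sum fun _ e => e) = Finsupp.degree v := rfl
        omega
      rw [this, mul_zero]
  have hs₀' : s₀ ∉ p.asIdeal := hD
  refine ⟨r * s₀, fun h => (p.isPrime.mem_or_mem h).elim hr' hs₀', Fintype.card b, d, f, hd, fun q => ?_, fun c hc => ?_⟩
  · obtain ⟨c, hc⟩ := (Submodule.mem_span_range_iff_exists_fun A).1 (hrq q)
    exact ⟨1, fun i => MvPolynomial.C s₀ * c i, by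
      rw [pow_one, map_mul, mul_comm, mul_smul, ← hc, Finset.smul_sum]
      exact Finset.sum_congr rfl fun i _ => (mul_smul _ _ _).symm⟩
  · have bound : ∀ (m : ℕ) (g : Fin m → Fin m → ℕ), ∃ N', ∀ i j, g i j < N' + 1 := fun m g =>
      ⟨∑ i, ∑ j, g i j, fun i j => Nat.lt_succ_of_le ((Finset.single_le_sum (fun l _ => Nat.zero_le (g i l))
        (Finset.mem_univ j)).trans (Finset.single_le_sum (f := fun l => ∑ j, g l j) (fun l _ => Nat.zero_le _) (Finset.mem_univ i)))⟩
    obtain ⟨N', hN⟩ := bound _ fun i j => MvPolynomial.totalDegree (T i j)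
    obtain ⟨N, hNdef⟩ : ∃ N, N = N' + 1 := ⟨_, rfl⟩
    refine ⟨N, fun i => ?_⟩
    have hcK : (MvPolynomial.C r : A) • c = τ c := by
      have : Φ c = 0 := by simpa [Φ, Fintype.linearCombination_apply] using hc
      simp [τ, this]
    have hci : (MvPolynomial.C r : A) * c i = ∑ j, T i j * c j := by
      rw [← smul_eq_mul, ← Pi.smul_apply, hcK, ← LinearMap.toMatrix'_mulVec τ c]
      rfl
    have hz : (MvPolynomial.C s₀ : A) ^ N * ((MvPolynomial.C r : A) * c i) = 0 := by
      rw [hci, Finset.mul_sum]
      refine Finset.sum_eq_zero fun j _ => ?_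
      rw [← mul_assoc, hnil _ N (hDT i j) (hNdef ▸ hN i j), zero_mul]
    calc (MvPolynomial.C (r * s₀) : A) ^ N * c i
        = (MvPolynomial.C r : A) ^ N' * ((MvPolynomial.C s₀ : A) ^ N * ((MvPolynomial.C r : A) * c i)) := by
          rw [map_mul, mul_pow, hNdef, pow_succ (MvPolynomial.C r : A)]; ring
      _ = 0 := by rw [hz, mul_zero]

end Groth.Agent.S19649
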