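import Groth.Statements.S1965
import Mathlib

set_option autoImplicit false
universe u
open Polynomial
open EtAlg

namespace Groth.Agent.S1965

/-- Let A be a complete Noetherian local domain of Krull dimension 1 with maximal ideal m, P a
polynomial over A and α a root of P which is not a root of the derivative P'. Then for every c there
is an n such that for every polynomial Q all of whose coefficients lie in m^n, the polynomial P + Q
has a root β with β - α in m^c. -/
theorem result (A : Type u) [CommRing A] [IsDomain A] [IsLocalRing A] [IsNoetherianRing A]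
    [IsAdicComplete (IsLocalRing.maximalIdeal A) A] (hdim : ringKrullDim A = 1) (P : A[X]) (α : A)
    (hα : P.eval α = 0) (hα' : (derivative P).eval α ≠ 0) (c : ℕ) :
    ∃ n : ℕ, ∀ Q : A[X], (∀ i, Q.coeff i ∈ IsLocalRing.maximalIdeal A ^ n) →
      ∃ β : A, (P + Q).eval β = 0 ∧ β - α ∈ IsLocalRing.maximalIdeal A ^ c := by
  classical
  set m := IsLocalRing.maximalIdeal A with hm
  set e := (derivative P).eval α with he
  have : Ring.KrullDimLE 1 A := Ring.krullDimLE_iff.2 hdim.le
  obtain ⟨N, hN⟩ : ∃ N, m ^ N ≤ Ideal.span {e} := by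
    refine Ideal.exists_pow_le_of_le_radical_of_fg ?_ (IsNoetherian.noetherian m)
    rw [Ideal.radical_eq_sInf]
    refine le_sInf fun J ⟨hJ, hJp⟩ => ?_
    have hne : J ≠ ⊥ := fun h => hα' (by simpa [h] using hJ (Ideal.mem_span_singleton_self e))
    exact (IsLocalRing.eq_maximalIdeal (hJp.isMaximal_of_ne_bot hne) |>.ge)
  refine ⟨N + N + c + 1, fun Q hQ => ?_⟩
  have hQev : ∀ R : A[X], (∀ i, R.coeff i ∈ m ^ (N + N + c + 1)) → ∀ x : A, R.eval x ∈ m ^ (N + N + c + 1) := fun R hR x => by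
    rw [eval_eq_sum_range]
    exact Ideal.sum_mem _ fun i _ => Ideal.mul_mem_right _ _ (hR i)
  have hQ0 := hQev Q hQ α
  have hQ1 := hQev (derivative Q) (fun i => by rw [coeff_derivative]; exact Ideal.mul_mem_right _ _ (hQ _)) α
  have hle1 : m ^ (N + N + c + 1) ≤ Ideal.span {e} * m := by
    refine (Ideal.pow_le_pow_right (show N + 1 ≤ N + N + c + 1 by omega)).trans ?_
    rw [pow_succ]; exact Ideal.mul_mono_left hN
  have hle2 : m ^ (N + N + c + 1) ≤ Ideal.span {e * e} * m ^ (c + 1) := by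
    rw [← Ideal.span_singleton_mul_span_singleton, show N + N + c + 1 = N + N + (c + 1) by omega, pow_add, pow_add]
    exact Ideal.mul_mono_left (Ideal.mul_mono hN hN)
  obtain ⟨j, hj, hj'⟩ := Ideal.mem_span_singleton_mul.1 (hle2 hQ0)
  obtain ⟨q, hq, hq'⟩ := Ideal.mem_span_singleton_mul.1 (hle1 hQ1)
  set F := P + Q with hF
  set T := taylor α F with hT
  have hT0 : T.coeff 0 = e * e * j := by rw [hT, taylor_coeff_zero, hF, eval_add, hα, zero_add, hj']
  obtain ⟨u, hu⟩ : IsUnit (1 + q) := by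
    have h := IsLocalRing.isUnit_one_sub_self_of_mem_nonunits (-q) ((IsLocalRing.mem_maximalIdeal _).1 (neg_mem hq))
    rwa [sub_neg_eq_add] at h
  have hT1 : T.coeff 1 = e * u := by
    rw [hT, taylor_coeff_one, hF, derivative_add, eval_add, hu, ← hq', he]; ring
  -- reversed auxiliary polynomial
  let d := T.natDegree + 2
  let a : ℕ → A := fun i => T.coeff i * e ^ (i - 2) * j ^ (i - 1) * (↑u⁻¹ : A) ^ i
  let G : A[X] := X ^ d + (X ^ (d - 1) + ∑ i ∈ Finset.Ico 2 (d + 1), C (a i) * X ^ (d - i))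
  have hG : G.Monic := by
    refine monic_X_pow_add ?_
    refine (degree_add_le _ _).trans_lt (max_lt ?_ ((degree_sum_le _ _).trans_lt ((Finset.sup_lt_iff (WithBot.bot_lt_coe _)).2 fun i hi => ?_)))
    · rw [degree_X_pow]; exact_mod_cast (show d - 1 < d by omega)
    · refine (degree_C_mul_X_pow_le _ _).trans_lt ?_
      have := (Finset.mem_Ico.1 hi).1
      exact_mod_cast (show d - i < d by omega)
  have hjm : j ∈ m := Ideal.pow_le_self (by omega) hj
  have ham : ∀ i ∈ Finset.Ico 2 (d + 1), a i ∈ m := fun i hi => by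
    have := (Finset.mem_Ico.1 hi).1
    exact Ideal.mul_mem_right _ _ (Ideal.mul_mem_left _ _ (Ideal.pow_mem_of_mem _ hjm _ (by omega)))
  haveI : HenselianRing A m := IsAdicComplete.henselianRing A m
  have hpow : ∀ n, (Ideal.Quotient.mk m (-1 : A)) ^ (n + 1) + Ideal.Quotient.mk m (-1 : A) ^ n = 0 := fun n => by
    rw [pow_succ, map_neg, map_one]; ring
  obtain ⟨v, hv, hvm⟩ := HenselianRing.is_henselian (I := m) G hG (-1) (by
    rw [← Ideal.Quotient.eq_zero_iff_mem]
    simp only [G, eval_add, eval_pow, eval_X, eval_finset_sum, eval_mul, eval_C, map_add, map_pow, map_sum, map_mul]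
    rw [Finset.sum_eq_zero fun i hi => by rw [Ideal.Quotient.eq_zero_iff_mem.2 (ham i hi), zero_mul], add_zero,
      show d = T.natDegree + 1 + 1 by omega, Nat.add_sub_cancel]
    exact hpow _) (by
    have hd2 : d = T.natDegree + 2 := rfl
    simp only [G, derivative_add, derivative_X_pow, derivative_sum, derivative_C_mul, eval_add, eval_mul, eval_C,
      eval_pow, eval_X, eval_finset_sum, eval_natCast, map_add, map_mul, map_pow, map_sum, map_natCast]
    rw [Finset.sum_eq_zero fun i hi => by rw [Ideal.Quotient.eq_zero_iff_mem.2 (ham i hi), zero_mul], add_zero,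
      show d - 1 - 1 = T.natDegree by omega, show d - 1 = T.natDegree + 1 by omega,
      show d = T.natDegree + 1 + 1 by omega]
    rw [pow_succ, map_neg, map_one, show ((T.natDegree + 1 + 1 : ℕ) : A ⧸ m) * ((-1) ^ T.natDegree * -1) +
      ((T.natDegree + 1 : ℕ) : A ⧸ m) * (-1) ^ T.natDegree = -((-1) ^ T.natDegree) by push_cast; ring]
    exact ((isUnit_one.neg).pow _).neg)
  obtain ⟨w, hw⟩ : IsUnit v := by
    have h1 := IsLocalRing.isUnit_one_sub_self_of_mem_nonunits _ ((IsLocalRing.mem_maximalIdeal _).1 hvm)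
    rw [show (1 : A) - (v - -1) = -v by ring, IsUnit.neg_iff] at h1
    exact h1
  refine ⟨α + e * j * (↑u⁻¹ : A) * (↑w⁻¹ : A), ?_, ?_⟩
  · rw [add_comm α, ← taylor_eval α F, eval_eq_sum_range' (show T.natDegree < d + 1 by omega),
      Finset.range_eq_Ico, Finset.sum_eq_sum_Ico_succ_bot (by omega),
      Finset.sum_eq_sum_Ico_succ_bot (by omega)]
    have h0 : G.eval v = 0 := hv
    simp only [G, eval_add, eval_pow, eval_X, eval_finset_sum, eval_mul, eval_C] at h0
    have hterm : ∀ i ∈ Finset.Ico 2 (d + 1), T.coeff i * (e * j * (↑u⁻¹ : A) * (↑w⁻¹ : A)) ^ i =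
        e * e * j * (↑w⁻¹ : A) ^ d * (a i * v ^ (d - i)) := fun i hi => by
      obtain ⟨h2, h3⟩ := Finset.mem_Ico.1 hi
      obtain ⟨k, rfl⟩ := Nat.exists_eq_add_of_le h2
      obtain ⟨l, hl⟩ := Nat.exists_eq_add_of_le (Nat.lt_succ_iff.1 h3)
      have : (↑w⁻¹ : A) ^ l * v ^ l = 1 := by rw [← hw, ← mul_pow, Units.inv_mul, one_pow]
      simp only [a, hl, Nat.add_sub_cancel_left, show 2 + k - 1 = k + 1 by omega, mul_pow, pow_add]
      linear_combination (-(T.coeff (2 + k) * e ^ 2 * e ^ k * j ^ k * j ^ 2 * (↑u⁻¹ : A) ^ 2 * (↑u⁻¹ : A) ^ k *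
        (↑w⁻¹ : A) ^ 2 * (↑w⁻¹ : A) ^ k)) * this
    rw [Finset.sum_congr rfl hterm, ← Finset.mul_sum, hT0, hT1]
    have hvd : (↑w⁻¹ : A) ^ d * v ^ d = 1 := by rw [← hw, ← mul_pow, Units.inv_mul, one_pow]
    have hvd1 : (↑w⁻¹ : A) ^ d * v ^ (d - 1) = (↑w⁻¹ : A) := by
      conv_lhs => rw [show d = (d - 1) + 1 by omega]
      rw [Nat.add_sub_cancel, pow_succ, ← hw, mul_right_comm, ← mul_pow, Units.inv_mul, one_pow, one_mul]
    linear_combination (e * e * j * (↑w⁻¹ : A)) * (Units.mul_inv u) + (e * e * j * (↑w⁻¹ : A) ^ d) * h0 -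
      (e * e * j) * hvd - (e * e * j) * hvd1
  · rw [add_sub_cancel_left]
    exact Ideal.mul_mem_right _ _ (Ideal.mul_mem_right _ _ (Ideal.mul_mem_left _ _ (Ideal.pow_le_pow_right (by omega) hj)))

end Groth.Agent.S1965
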