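import Groth.Statements.S19652
import Groth.Agent.BilinAdj.Basic

set_option autoImplicit false
universe u v
open AbVar

namespace Groth.Agent.S19652

open Polynomial in
/-- Stated for an arbitrary invariant nondegenerate bilinear form, as the argument there allows. Let k
be a field, V a finite-dimensional k-vector space with a nondegenerate bilinear form B and M a
linear automorphism of V with B(Mx, My) = B(x, y) for all x, y. If Q is a polynomial associated to
its own reciprocal polynomial (its coefficient list reversed), then B restricted to the generalized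
kernel of Q(M), the union of the kernels of the powers Q(M)^n, is nondegenerate. (The published
statement takes M symplectic and Q a self-reciprocal divisor of the characteristic polynomial;
divisibility plays no role and is not assumed.) -/
theorem result
    {k : Type u} [Field k] {V : Type v} [AddCommGroup V] [Module k V] [FiniteDimensional k V]
    (B : LinearMap.BilinForm k V) (hB : B.Nondegenerate) (M : V ≃ₗ[k] V)
    (hM : ∀ x y : V, B (M x) (M y) = B x y)
    (Q : k[X]) (hQ : Associated Q Q.reverse) :
    (B.restrict (⨆ n : ℕ, LinearMap.ker (Polynomial.aeval (M : V →ₗ[k] V) Q ^ n))).Nondegenerate := by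
  set f : Module.End k V := (M : V →ₗ[k] V) with hf
  set g := Polynomial.aeval f Q with hg
  obtain ⟨N, hN⟩ := Filter.eventually_atTop.mp
    ((LinearMap.eventually_isCompl_ker_pow_range_pow g).and g.eventually_iSup_ker_pow_eq)
  obtain ⟨hc, hW⟩ := hN N le_rfl
  obtain ⟨v, hv⟩ := hQ.symm.pow_pow (n := N)
  obtain ⟨v', hv'⟩ := hQ.pow_pow (n := N)
  have hfb : Function.Bijective f := M.bijective
  have hrev : (Q ^ N).reverse = Q.reverse ^ N := Groth.Agent.BilinAdj.reverse_pow_eq Q N
  have hL : ∀ x ∈ LinearMap.ker (g ^ N), ∀ z, B x ((g ^ N) z) = 0 := by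
    intro x hx z
    rw [hg, ← map_pow, ← hv, map_mul, Module.End.mul_apply, ← hrev]
    refine Groth.Agent.BilinAdj.left_zero B f hM hfb _ x _ ?_
    rw [map_pow]; exact hx
  have hR : ∀ y ∈ LinearMap.ker (g ^ N), ∀ z, B ((g ^ N) z) y = 0 := by
    intro y hy z
    rw [hg, ← map_pow, ← Groth.Agent.BilinAdj.adjoint_reflect B f hM (Q ^ N) _ le_rfl z y,
      ← Polynomial.reverse, hrev, ← hv', mul_comm, map_mul, Module.End.mul_apply, map_pow, ← hg]
    rw [LinearMap.mem_ker.mp hy, map_zero, map_zero]
  have hsplit : ∀ z : V, ∃ w ∈ LinearMap.ker (g ^ N), ∃ t, z = w + (g ^ N) t := by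
    intro z
    obtain ⟨w, hw, r, ⟨t, rfl⟩, rfl⟩ := Submodule.mem_sup.mp (hc.sup_eq_top ▸ Submodule.mem_top (x := z))
    exact ⟨w, hw, t, rfl⟩
  constructor
  · rintro ⟨x, hx⟩ h0
    rw [hW] at hx
    refine Subtype.ext (hB.1 x fun z => ?_)
    obtain ⟨w, hw, t, rfl⟩ := hsplit z
    have := h0 ⟨w, hW ▸ hw⟩
    rw [map_add, hL x hx t, add_zero]
    exact this
  · rintro ⟨y, hy⟩ h0
    rw [hW] at hy
    refine Subtype.ext (hB.2 y fun z => ?_)
    obtain ⟨w, hw, t, rfl⟩ := hsplit z
    have := h0 ⟨w, hW ▸ hw⟩
    rw [map_add, LinearMap.add_apply, hR y hy t, add_zero]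
    exact this

end Groth.Agent.S19652
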