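import Groth.Statements.S19653
import Groth.Agent.ProperAt.FlatGeneric

set_option autoImplicit false
set_option backward.isDefEq.respectTransparency false
set_option backward.isDefEq.respectTransparency.types false
set_option maxHeartbeats 1000000

universe u
open AlgebraicGeometry CategoryTheory CategoryTheory.Limits
open EGA43

namespace Groth.Agent.S19653

/-- Let R be a discrete valuation ring and f : X → Spec R a flat, separated morphism of finite type
whose closed fibre is nonempty and proper over the residue field and whose generic fibre is
geometrically connected. Then f is proper, and its closed fibre is geometrically connected too. (The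
published statement does not require the closed fibre to be nonempty; the affine line over the
fraction field, viewed over R, has empty closed fibre and satisfies the other hypotheses without
being proper, and the published proof uses a point of the closed fibre, so nonemptiness is assumed
here.) -/
theorem result
    (R : Type u) [CommRing R] [IsDomain R] [IsDiscreteValuationRing R]
    (X : Scheme.{u}) (f : X ⟶ Spec (CommRingCat.of R))
    [Flat f] [IsSeparated f] [LocallyOfFiniteType f] [QuasiCompact f]
    [IsProper (f.fiberToSpecResidueField (IsLocalRing.closedPoint R))]
    [Nonempty ↥(f.fiber (IsLocalRing.closedPoint R))]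
    [GeometricallyConnected (f.fiberToSpecResidueField (genericPoint ↥(Spec (CommRingCat.of R))))] :
    IsProper f ∧ GeometricallyConnected (f.fiberToSpecResidueField (IsLocalRing.closedPoint R)) := by
  haveI : LocallyOfFinitePresentation f := (LocallyOfFinitePresentation.iff_locallyOfFiniteType).2 inferInstance
  have hg : ∀ η : ↥(Spec (CommRingCat.of R)), (∀ η', η' ⤳ η → η' = η) → Nonempty ↥(f.fiber η) →
      GeometricallyConnected (f.fiberToSpecResidueField η) := fun η hη _ => by
    rw [← hη _ (genericPoint_specializes η)]
    infer_instance
  obtain ⟨U, hU, hP⟩ := Groth.Agent.ProperAt.exists_proper_nhd_of_flat f hg (IsLocalRing.closedPoint R)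
  have hUt : U = ⊤ := top_le_iff.1 fun x _ => (IsLocalRing.specializes_closedPoint x).mem_open U.2 hU
  subst hUt
  refine ⟨?_, (Groth.Agent.ProperAt.exists_proper_cover f hg (IsLocalRing.closedPoint R)).1⟩
  exact IsZariskiLocalAtTarget.of_iSup_eq_top (P := @IsProper) (fun _ : Unit => (⊤ : (Spec (CommRingCat.of R)).Opens)) ciSup_unique (fun _ => hP)

end Groth.Agent.S19653
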