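import Groth.Statements.S19655
import Groth.Agent.WeilExt.Cor

set_option autoImplicit false
set_option backward.isDefEq.respectTransparency false
universe u
open CategoryTheory CategoryTheory.Limits MonoidalCategory CartesianMonoidalCategory AlgebraicGeometry
open Neron

namespace Groth.Agent.S19655

/-- Let R be a Dedekind domain with fraction field K, A an abelian variety over K (a proper smooth
geometrically connected K-group scheme) and N a Néron model of A over Spec R. Then for every smooth
R-scheme Y, every K-morphism to A defined on a dense open subscheme of the generic fibre of Y is the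
restriction of exactly one R-morphism Y → N: K-rational maps from smooth R-schemes to A extend
uniquely to the Néron model. (The text works over a connected Dedekind scheme; the affine case is
stated.) -/
theorem result
    (R : Type u) [CommRing R] [IsDedekindDomain R]
    (N : Over (Spec (CommRingCat.of R))) (A : Over (Spec (CommRingCat.of (FractionRing R))))
    (e : (Neron.genericFibre R).obj N ≅ A) (hN : Neron.IsNeronModelOf R N A e)
    [GrpObj A] [IsProper A.hom] [Smooth A.hom] [GeometricallyConnected A.hom]
    (Y : Over (Spec (CommRingCat.of R))) [Smooth Y.hom]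
    (W : ((Neron.genericFibre R).obj Y).left.Opens) (hW : Dense (W : Set ↥((Neron.genericFibre R).obj Y).left))
    (g : (W : Scheme.{u}) ⟶ A.left) (hg : g ≫ A.hom = W.ι ≫ ((Neron.genericFibre R).obj Y).hom) :
    ∃! h : Y ⟶ N, W.ι ≫ ((Neron.genericFibre R).map h ≫ e.hom).left = g := by
  haveI : Smooth ((Neron.genericFibre R).obj Y).hom :=
    inferInstanceAs (Smooth (Limits.pullback.snd Y.hom (Neron.genPt R)))
  let Z := (Neron.genericFibre R).obj Y
  haveI : Smooth Z.hom := ‹_›
  haveI : GrpObj (Over.mk A.hom) := inferInstanceAs (GrpObj A)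
  haveI : IsLocallyNoetherian Z.left := LocallyOfFiniteType.isLocallyNoetherian Z.hom
  haveI : IsReduced Z.left := Groth.Agent.WeilExt.isReduced_of_regular
    (Groth.Agent.WeilExt.regular_of_smooth Groth.Agent.WeilExt.regular_spec Z.hom)
  obtain ⟨W', hle, g', hg', hres, hW'⟩ := Groth.Agent.S4440.result A.hom Z.hom
    (fun y _ => Groth.Agent.WeilExt.regular_of_smooth Groth.Agent.WeilExt.regular_spec Z.hom y) W hW g hg
  obtain ⟨k, ⟨hk₁, hk₂⟩, -⟩ := Groth.Agent.WeilExt.existsUnique_scheme Z.hom A.hom W' (fun x => by
    have : {y : Z.left | Z.hom y = Z.hom x} = Set.univ :=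
      Set.eq_univ_of_forall fun y => Subsingleton.elim (α := PrimeSpectrum (FractionRing R)) _ _
    rw [this, Set.inter_univ]
    exact (hW.mono hle) x) hW' g' hg'
  have hW'' : W.ι ≫ k = g := by rw [← hres, ← hk₂, Scheme.homOfLE_ι_assoc]
  obtain ⟨h, hh⟩ := (hN.2.2.2.2 Y ‹_›).2 (Over.homMk k hk₁ : Z ⟶ A)
  simp only at hh
  refine ⟨h, ?_, fun h' hh' => (hN.2.2.2.2 Y ‹_›).1 ?_⟩
  · show W.ι ≫ ((Neron.genericFibre R).map h ≫ e.hom).left = g
    rw [hh]
    exact hW''
  · show (Neron.genericFibre R).map h' ≫ e.hom = (Neron.genericFibre R).map h ≫ e.hom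
    rw [hh]
    apply Over.OverMorphism.ext
    haveI : IsDominant W.ι := ⟨by rw [DenseRange, Scheme.Opens.range_ι]; exact hW⟩
    refine ext_of_isDominant_of_isSeparated A.hom ?_ W.ι (hh'.trans hW''.symm)
    rw [Over.w, Over.w]

end Groth.Agent.S19655
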