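import Groth.Statements.S19657
import Groth.Agent.ProperAt.FlatGeneric
import Groth.Agent.SmDesc.Scheme

set_option autoImplicit false
set_option backward.isDefEq.respectTransparency false
set_option backward.isDefEq.respectTransparency.types false
set_option maxHeartbeats 1000000

universe u
open AlgebraicGeometry CategoryTheory CategoryTheory.Limits Topology
open EGA43

namespace Groth.Agent.S19657

/-- The implication from the weakest fibrewise condition to the global one. Let S be a locally
Noetherian scheme and f : X → S a surjective, flat, separated morphism, locally of finite
presentation and quasi-compact, whose fibres are all smooth and proper over the residue fields and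
whose fibres over the maximal points of S (points without proper generization) are geometrically
connected. Then f is proper and smooth with geometrically connected fibres. (The text states the
criterion over an arbitrary base, appealing to a limit argument it does not carry out, and without
the words separated and surjective, which its proof uses through the properness criterion it invokes
and which are both needed: an abelian variety over the fraction field of a discrete valuation ring,
viewed over the ring, is flat of finite presentation with smooth proper fibres, the closed one
empty, and is not proper; and two copies of the projective line over a discrete valuation ring glued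
along their generic fibres form a flat, surjective, finitely presented scheme over the ring with
smooth proper fibres and geometrically connected generic fibre which is neither separated nor
proper.) -/
theorem result
    {X S : Scheme.{u}} [IsLocallyNoetherian S] (f : X ⟶ S)
    [Surjective f] [Flat f] [IsSeparated f] [LocallyOfFinitePresentation f] [QuasiCompact f]
    (hsm : ∀ s : S, Smooth (f.fiberToSpecResidueField s))
    (hpr : ∀ s : S, IsProper (f.fiberToSpecResidueField s))
    (hgen : ∀ η : S, (∀ η' : S, η' ⤳ η → η' = η) → GeometricallyConnected (f.fiberToSpecResidueField η)) :
    IsProper f ∧ Smooth f ∧ GeometricallyConnected f := by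
  haveI hne : ∀ s, Nonempty ↥(f.fiber s) := fun s => by
    obtain ⟨x, hx⟩ := f.surjective s
    obtain ⟨z, -⟩ := (f.range_fiberι s).ge (show x ∈ f ⁻¹' {s} from hx)
    exact ⟨z⟩
  refine ⟨?_, ?_, ?_⟩
  · choose U hU hP using fun s => haveI := hpr s
      Groth.Agent.ProperAt.exists_proper_nhd_of_flat f (fun η h _ => hgen η h) s
    exact IsZariskiLocalAtTarget.of_iSup_eq_top (P := @IsProper) U
      (top_le_iff.1 fun s _ => TopologicalSpace.Opens.mem_iSup.2 ⟨s, hU s⟩) hP
  · rw [← Scheme.Hom.smoothLocus_eq_top_iff, eq_top_iff]
    intro x _
    refine Groth.Agent.SmDesc.mem_smoothLocus_of_flat_fibre (f.asFiber x) (Scheme.Hom.fiberι_asFiber f x) ?_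
    haveI := hsm (f x)
    rw [Scheme.Hom.smoothLocus_eq_top_iff.2 inferInstance]
    trivial
  · rw [GeometricallyConnected.iff_geometricallyConnected_fiber]
    intro s
    haveI := hpr s
    exact (Groth.Agent.ProperAt.exists_proper_cover f (fun η h _ => hgen η h) s).1

end Groth.Agent.S19657
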