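import Groth.Statements.S19658
import Groth.Agent.PowEtale.Local
import Groth.Agent.HenselChart.Lift
-- import your own Groth.Agent.* helpers here

set_option autoImplicit false
universe u
open CategoryTheory CategoryTheory.Limits MonoidalCategory CartesianMonoidalCategory AlgebraicGeometry
open Neron

open CategoryTheory CategoryTheory.Limits MonoidalCategory CartesianMonoidalCategory MonObj GrpObj
open scoped CategoryTheory.Obj
set_option linter.style.haveILetI false
set_option backward.isDefEq.respectTransparency false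

namespace Groth.Agent.S19658

/-- The first display of the lemma, in the generality its argument gives. Let R be a henselian local
ring with residue field k, G a commutative group scheme over Spec R that is smooth, separated and
quasi-compact, and N a natural number which is a unit in R. Then every k-valued point of G killed by
N lifts to exactly one R-valued point of G killed by N; that is, reduction G(R)[N] → G(k)[N] is a
bijection on N-torsion. (The text applies this to the Néron model of an abelian variety over a
henselian discrete valuation ring, where G(R) = A(K).) -/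
theorem result
    (R : Type u) [CommRing R] [HenselianLocalRing R]
    (G : Over (Spec (CommRingCat.of R))) [GrpObj G] [IsCommMonObj G]
    [Smooth G.hom] [IsSeparated G.hom] [QuasiCompact G.hom]
    (N : ℕ) (hN : IsUnit (N : R))
    (τ : Over.mk (Spec.map (CommRingCat.ofHom (IsLocalRing.residue R))) ⟶ G)
    (hτ : τ ∈ AbDual.torsPts G N (Over.mk (Spec.map (CommRingCat.ofHom (IsLocalRing.residue R))))) :
    ∃! σ : Over.mk (𝟙 (Spec (CommRingCat.of R))) ⟶ G,
      σ ∈ AbDual.torsPts G N (Over.mk (𝟙 (Spec (CommRingCat.of R)))) ∧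
        Over.homMk (Spec.map (CommRingCat.ofHom (IsLocalRing.residue R))) (Category.comp_id _) ≫ σ = τ := by
  haveI : Etale ((𝟙 G : G ⟶ G) ^ N).left := PowEtale.etale_pow G hN
  set m := ((𝟙 G : G ⟶ G) ^ N).left with hm
  have hmh : m ≫ G.hom = G.hom := Over.w _
  let e : Spec (CommRingCat.of R) ⟶ G.left := η[G].left
  have he : e ≫ G.hom = 𝟙 _ := Over.w η[G]
  let q := Spec.map (CommRingCat.ofHom (IsLocalRing.residue R))
  have h1 : ∀ (T : Over (Spec (CommRingCat.of R))), (1 : T ⟶ G).left = T.hom ≫ e := by
    intro T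
    show (toUnit T ≫ η[G]).left = _
    rw [Over.comp_left]
    congr 1
  have hpow : ∀ (T : Over (Spec (CommRingCat.of R))) (σ : T ⟶ G),
      σ ∈ AbDual.torsPts G N T ↔ σ.left ≫ m = T.hom ≫ e := by
    intro T σ
    rw [AbDual.mem_torsPts, ← h1]
    constructor
    · intro h
      rw [← h]
      show σ.left ≫ ((𝟙 G : G ⟶ G) ^ N).left = (σ ^ N).left
      rw [← Over.comp_left, MonObj.comp_pow, Category.comp_id]
    · intro h
      refine Over.OverMorphism.ext ?_
      rw [← h, hm, ← Over.comp_left, MonObj.comp_pow, Category.comp_id]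
  have hτ' : τ.left ≫ m = q ≫ e := (hpow _ τ).1 hτ
  let t₀ : Spec (CommRingCat.of (IsLocalRing.ResidueField R)) := IsLocalRing.closedPoint _
  let K := pullback m e
  let w : Spec (CommRingCat.of (IsLocalRing.ResidueField R)) ⟶ K := pullback.lift τ.left q hτ'
  obtain ⟨W, hW, hwW, -⟩ := exists_isAffineOpen_mem_and_subset (X := K) (x := w t₀) (U := ⊤) trivial
  haveI : IsAffine (W : Scheme.{u}) := hW
  haveI : Smooth (W.ι ≫ pullback.snd m e) := inferInstance
  let w₀ : Spec (CommRingCat.of (IsLocalRing.ResidueField R)) ⟶ (W : Scheme.{u}) :=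
    IsOpenImmersion.lift W.ι w (by
      rw [Scheme.Opens.range_ι]
      rintro _ ⟨z, rfl⟩
      haveI : Subsingleton (Spec (CommRingCat.of (IsLocalRing.ResidueField R))) :=
        inferInstanceAs (Subsingleton (PrimeSpectrum (IsLocalRing.ResidueField R)))
      rwa [Subsingleton.elim z t₀])
  have hw₀ : w₀ ≫ W.ι ≫ pullback.snd m e = q := by
    rw [IsOpenImmersion.lift_fac_assoc, pullback.lift_snd]
  obtain ⟨s, hs, hs'⟩ := HenselChart.exists_section_lift R (W.ι ≫ pullback.snd m e)
    (IsLocalRing.maximalIdeal R) (IsLocalRing.maximalIdeal.isMaximal R).ne_top w₀ hw₀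
  let a := s ≫ W.ι ≫ pullback.fst m e
  have ham : a ≫ m = e := by
    simp only [a, Category.assoc, pullback.condition]
    rw [reassoc_of% hs]
  have hag : a ≫ G.hom = 𝟙 _ := by
    rw [← hmh, reassoc_of% ham, he]
  have haq : q ≫ a = τ.left := by
    show q ≫ s ≫ W.ι ≫ pullback.fst m e = _
    have hs'' : q ≫ s = w₀ := hs'
    rw [reassoc_of% hs'', IsOpenImmersion.lift_fac_assoc, pullback.lift_fst]
  refine ⟨Over.homMk a hag, ⟨(hpow _ _).2 ?_, Over.OverMorphism.ext ?_⟩, fun σ ⟨hσ, hσ'⟩ => ?_⟩
  · show a ≫ m = 𝟙 _ ≫ e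
    rw [ham, Category.id_comp]
  · exact haq
  · refine Over.OverMorphism.ext (PowEtale.eq_of_comp_eq σ.left a m ?_ q t₀ ?_ ?_)
    · rw [ham, (hpow _ _).1 hσ]
      exact Category.id_comp e
    · exact IsLocalRing.comap_closedPoint (IsLocalRing.residue R)
    · rw [haq, ← hσ']
      rfl

end Groth.Agent.S19658
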