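import Groth.Statements.S19659
import Groth.Agent.GrpField.FibreHom
import Groth.Agent.FibCrit.Props

set_option autoImplicit false
universe u
open CategoryTheory CategoryTheory.Limits MonoidalCategory CartesianMonoidalCategory MonObj GrpObj AlgebraicGeometry
open AbSch

namespace Groth.Agent.S19659

/-- Let S be a scheme, A and B abelian schemes over S (proper smooth S-group schemes with geometrically
connected fibres) and f : A → B a homomorphism. Then f is flat exactly when it is surjective. -/
theorem result
    {S : Scheme.{u}} (A B : Over S) [GrpObj A] [IsProper A.hom] [Smooth A.hom] [GeometricallyConnected A.hom]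
    [GrpObj B] [IsProper B.hom] [Smooth B.hom] [GeometricallyConnected B.hom]
    (f : A ⟶ B) [IsMonHom f] :
    Flat f.left ↔ Surjective f.left := by
  open scoped CategoryTheory.Obj in
  haveI : IsProper (f.left ≫ B.hom) := by rw [Over.w f]; infer_instance
  haveI : IsProper f.left := IsProper.of_comp _ B.hom
  refine ⟨fun hf => (Groth.Agent.GrpField.surjective_iff_fibHom f).2 fun s => ?_, fun hf => ?_⟩
  · haveI := hf
    haveI : IsProper (Groth.Agent.GrpField.fibHom f s).left :=
      MorphismProperty.of_isPullback (Groth.Agent.GrpField.isPullback_fibHom f s) ‹IsProper f.left›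
    haveI : Flat (Groth.Agent.GrpField.fibHom f s).left :=
      MorphismProperty.of_isPullback (Groth.Agent.GrpField.isPullback_fibHom f s) hf
    letI := Groth.Agent.GrpField.fibGrp A s
    letI := Groth.Agent.GrpField.fibGrp B s
    haveI := Groth.Agent.GrpField.isIntegral_fib A s
    haveI := Groth.Agent.GrpField.isIntegral_fib B s
    haveI : Smooth (Groth.Agent.GrpField.fib B s).hom :=
      inferInstanceAs (Smooth (pullback.snd B.hom (S.fromSpecResidueField s)))
    haveI : IsLocallyNoetherian (Groth.Agent.GrpField.fib B s).left :=
      LocallyOfFiniteType.isLocallyNoetherian (Groth.Agent.GrpField.fib B s).hom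
    haveI : LocallyOfFinitePresentation (Groth.Agent.GrpField.fibHom f s).left := inferInstance
    refine ⟨Set.range_eq_univ.1 (IsClopen.eq_univ ⟨?_, ?_⟩ (Set.range_nonempty _))⟩
    · exact (Groth.Agent.GrpField.fibHom f s).left.isClosedMap.isClosed_range
    · exact (Groth.Agent.GrpField.fibHom f s).left.isOpenMap.isOpen_range
  · refine (Groth.Agent.FibCrit.flat_of_fibres (f := f.left) (g := B.hom) (h := A.hom) (Over.w f) fun s => ?_).2.1
    letI := Groth.Agent.GrpField.fibGrp A s
    letI := Groth.Agent.GrpField.fibGrp B s
    haveI := Groth.Agent.GrpField.isIntegral_fib A s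
    haveI := Groth.Agent.GrpField.isIntegral_fib B s
    haveI : Smooth (Groth.Agent.GrpField.fib A s).hom :=
      inferInstanceAs (Smooth (pullback.snd A.hom (S.fromSpecResidueField s)))
    haveI : Smooth (Groth.Agent.GrpField.fib B s).hom :=
      inferInstanceAs (Smooth (pullback.snd B.hom (S.fromSpecResidueField s)))
    haveI : Surjective (Groth.Agent.GrpField.fibHom f s).left :=
      (Groth.Agent.GrpField.surjective_iff_fibHom f).1 hf s
    haveI := Groth.Agent.GrpField.flat_of_surjective (Groth.Agent.GrpField.fibHom f s)
    have hsq := Groth.Agent.GrpField.isPullback_fibHom f s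
    show AlgebraicGeometry.Flat (pullback.snd f.left (pullback.fst B.hom (S.fromSpecResidueField s)))
    rw [← hsq.isoPullback_inv_snd]
    infer_instance

end Groth.Agent.S19659
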