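import Groth.Statements.S1966
import Mathlib.Dynamics.Newton
import Mathlib
-- import your own Groth.Agent.* helpers here

set_option autoImplicit false
universe u
open EtAlg

namespace Groth.Agent.S1966

/-- Towers indexed by the natural numbers: let (A_k) be rings with surjective transition maps A_{k+1} ->
A_k whose kernels consist of nilpotent elements, and let A be a ring with compatible projections p_k
: A -> A_k identifying A with the set of compatible sequences (p is jointly injective and every
compatible sequence comes from an element of A). Then for every k the pair (A, ker p_k) is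
henselian. -/
theorem result (A : Type u) [CommRing A] (As : ℕ → Type u) [∀ k, CommRing (As k)]
    (t : ∀ k, As (k + 1) →+* As k) (ht : ∀ k, Function.Surjective (t k))
    (hnil : ∀ k (x : As (k + 1)), t k x = 0 → IsNilpotent x)
    (p : ∀ k, A →+* As k) (hp : ∀ k, (t k).comp (p (k + 1)) = p k)
    (hinj : ∀ a b : A, (∀ k, p k a = p k b) → a = b)
    (hsurj : ∀ x : ∀ k, As k, (∀ k, t k (x (k + 1)) = x k) → ∃ a : A, ∀ k, p k a = x k) (k : ℕ) :
    HenselianRing A (RingHom.ker (p k)) := by
  classical
  have hdown : ∀ d j, j + d = k → ∀ x, p k x = 0 → p j x = 0 := by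
    intro d
    induction d with
    | zero => intro j hj x hx; rw [add_zero] at hj; subst hj; exact hx
    | succ d ih =>
      intro j hj x hx
      rw [← hp j, RingHom.comp_apply, ih (j + 1) (by omega) x hx, map_zero]
  have hup : ∀ d x, p k x = 0 → IsNilpotent (p (k + d) x) := by
    intro d
    induction d with
    | zero => intro x hx; exact hx ▸ IsNilpotent.zero
    | succ d ih =>
      intro x hx
      obtain ⟨n, hn⟩ := ih x hx
      rw [← hp (k + d), RingHom.comp_apply, ← map_pow] at hn
      exact (hnil (k + d) _ hn).of_pow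
  have hker : ∀ j x, p k x = 0 → IsNilpotent (p j x) := fun j x hx => by
    rcases le_total j k with h | h
    · rw [hdown (k - j) j (by omega) x hx]; exact IsNilpotent.zero
    · obtain ⟨d, rfl⟩ := Nat.exists_eq_add_of_le h
      exact hup d x hx
  have hcomp : ∀ j a, t j (p (j + 1) a) = p j a := fun j a => RingHom.congr_fun (hp j) a
  refine ⟨fun x hx => ?_, fun f hf a₀ h₁ h₂ => ?_⟩
  · rw [Ideal.mem_jacobson_bot]
    intro y
    have hu : ∀ j, IsUnit (p j (x * y + 1)) := fun j => by
      rw [map_add, map_one]
      exact (hker j _ (RingHom.mem_ker.1 (Ideal.mul_mem_right y _ hx))).isUnit_add_one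
    obtain ⟨a, ha⟩ := hsurj (fun j => ↑(hu j).unit⁻¹) fun j => by
      refine (hu j).mul_left_cancel ?_
      rw [IsUnit.mul_val_inv, ← hcomp j, ← map_mul, IsUnit.mul_val_inv, map_one]
    refine IsUnit.of_mul_eq_one a (hinj _ _ fun j => ?_)
    rw [map_mul, ha, IsUnit.mul_val_inv, map_one]
  · have hz : ∀ j, IsNilpotent ((f.map (p j)).eval (p j a₀)) := fun j => by
      rw [Polynomial.eval_map_apply]; exact hker j _ h₁
    have hd : ∀ j, IsUnit ((f.map (p j)).derivative.eval (p j a₀)) := fun j => by
      rw [Polynomial.derivative_map, Polynomial.eval_map_apply]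
      obtain ⟨b, hb⟩ := h₂.exists_right_inv
      obtain ⟨c, rfl⟩ := Ideal.Quotient.mk_surjective b
      rw [← map_mul, ← map_one (Ideal.Quotient.mk (RingHom.ker (p k))), Ideal.Quotient.eq] at hb
      have h := (hker j _ (RingHom.mem_ker.1 hb)).isUnit_add_one
      rw [map_sub, map_mul, map_one, sub_add_cancel] at h
      exact isUnit_of_mul_isUnit_left h
    have hroot : ∀ j, ∃! r, IsNilpotent (p j a₀ - r) ∧ (f.map (p j)).eval r = 0 := fun j => by
      simpa [Polynomial.coe_aeval_eq_eval] using
        Polynomial.existsUnique_nilpotent_sub_and_aeval_eq_zero (P := f.map (p j)) (x := p j a₀)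
          (by simpa [Polynomial.coe_aeval_eq_eval] using hz j) (by simpa [Polynomial.coe_aeval_eq_eval] using hd j)
    choose r hr hru using hroot
    obtain ⟨a, ha⟩ := hsurj r fun j => hru j _ ⟨by
        rw [← hcomp j, ← map_sub]; exact (hr (j + 1)).1.map _, by
        rw [← hp j, ← Polynomial.map_map, Polynomial.eval_map_apply, (hr (j + 1)).2, map_zero]⟩
    refine ⟨a, hinj _ _ fun j => ?_, RingHom.mem_ker.2 ?_⟩
    · rw [← Polynomial.eval_map_apply, ha, (hr j).2, map_zero]
    · rw [map_sub, ha, sub_eq_zero]
      refine (hru k _ ⟨by rw [sub_self]; exact IsNilpotent.zero, ?_⟩).symm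
      rw [Polynomial.eval_map_apply]; exact h₁

end Groth.Agent.S1966
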