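import Groth.Statements.S19660
import Groth.Agent.BilinAdj.Basic

set_option autoImplicit false
universe u v
open AbVar

namespace Groth.Agent.S19660

/-- The text applies this to the Frobenius acting on the points of prime order of a principally
polarised abelian variety over a finite field with q elements and to their Weil pairing. Let k be a
field, V a finite-dimensional k-vector space with a nondegenerate bilinear form B, q a nonzero
element of k and M a linear automorphism of V with B(Mx, My) = q·B(x, y) for all x, y. Write V₁ and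
V_q for the generalized eigenspaces of M at 1 and at q. Then every vector of V₁ that is B-orthogonal
to all of V_q is zero, every vector of V_q that is B-orthogonal (on the right) to all of V₁ is zero,
and when q ≠ 1 the form B vanishes identically on V₁ × V₁ and on V_q × V_q. (The text asserts this
as the evident adaptation, to a form scaled by q, of the orthogonality and nondegeneracy facts for
generalized kernels of an automorphism preserving a form; the abstract statement is recorded here,
the application to the Weil pairing needing that pairing's formalism.) -/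
theorem result
    {k : Type u} [Field k] {V : Type v} [AddCommGroup V] [Module k V] [FiniteDimensional k V]
    (B : LinearMap.BilinForm k V) (hB : B.Nondegenerate) (q : k) (hq : q ≠ 0)
    (M : V ≃ₗ[k] V) (hM : ∀ x y : V, B (M x) (M y) = q * B x y) :
    (∀ x ∈ Module.End.maxGenEigenspace (M : Module.End k V) 1,
        (∀ y ∈ Module.End.maxGenEigenspace (M : Module.End k V) q, B x y = 0) → x = 0) ∧
      (∀ y ∈ Module.End.maxGenEigenspace (M : Module.End k V) q,
        (∀ x ∈ Module.End.maxGenEigenspace (M : Module.End k V) 1, B x y = 0) → y = 0) ∧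
      (q ≠ 1 → ∀ x ∈ Module.End.maxGenEigenspace (M : Module.End k V) 1,
        ∀ x' ∈ Module.End.maxGenEigenspace (M : Module.End k V) 1, B x x' = 0) ∧
      (q ≠ 1 → ∀ y ∈ Module.End.maxGenEigenspace (M : Module.End k V) q,
        ∀ y' ∈ Module.End.maxGenEigenspace (M : Module.End k V) q, B y y' = 0) := by
  set f : Module.End k V := (M : Module.End k V) with hf
  have hfb : Function.Bijective f := M.bijective
  set d := Module.finrank k V
  obtain ⟨N₁, hN₁⟩ := Filter.eventually_atTop.mp
    (LinearMap.eventually_isCompl_ker_pow_range_pow (f - (1 : k) • (1 : Module.End k V)))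
  obtain ⟨N₂, hN₂⟩ := Filter.eventually_atTop.mp
    (LinearMap.eventually_isCompl_ker_pow_range_pow (f - q • (1 : Module.End k V)))
  set N := max (max N₁ N₂) d with hNdef
  have hc1 := hN₁ N ((le_max_left _ _).trans (le_max_left _ _))
  have hcq := hN₂ N ((le_max_right _ _).trans (le_max_left _ _))
  have hmem : ∀ (a : k) (x : V), x ∈ f.maxGenEigenspace a →
      ((f - a • (1 : Module.End k V)) ^ N) x = 0 := by
    intro a x hx
    rw [Module.End.maxGenEigenspace_eq_genEigenspace_finrank, Module.End.mem_genEigenspace_nat,
      LinearMap.mem_ker] at hx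
    rw [show N = (N - d) + d from (Nat.sub_add_cancel (le_max_right _ _)).symm, pow_add,
      Module.End.mul_apply, hx, map_zero]
  have hof : ∀ (a : k) (x : V), x ∈ LinearMap.ker ((f - a • (1 : Module.End k V)) ^ N) →
      x ∈ f.maxGenEigenspace a := fun a x hx => (Module.End.mem_maxGenEigenspace f a x).mpr ⟨N, hx⟩
  have hA : ∀ x ∈ f.maxGenEigenspace 1, ∀ z, B x (((f - q • (1 : Module.End k V)) ^ N) z) = 0 := by
    intro x hx z
    have := Groth.Agent.BilinAdj.conformal B f q 1 q (one_mul q) hM N x z
    rw [hmem 1 x hx, map_zero, LinearMap.zero_apply] at this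
    exact (mul_eq_zero.mp this.symm).resolve_left (pow_ne_zero _ (by norm_num))
  have hC : ∀ y ∈ f.maxGenEigenspace q, ∀ z, B (((f - (1 : k) • (1 : Module.End k V)) ^ N) z) y = 0 := by
    intro y hy z
    obtain ⟨y', rfl⟩ := (Groth.Agent.BilinAdj.bijective_pow f hfb N).2 y
    have hcomm : Commute (f ^ N) ((f - q • (1 : Module.End k V)) ^ N) :=
      ((Commute.refl f).sub_right ((Commute.one_right f).smul_right q)).pow_pow N N
    have h0 : ((f - q • (1 : Module.End k V)) ^ N) y' = 0 := by
      refine (Groth.Agent.BilinAdj.bijective_pow f hfb N).1 ?_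
      rw [map_zero, ← Module.End.mul_apply, hcomm.eq, Module.End.mul_apply]
      exact hmem q _ hy
    rw [Groth.Agent.BilinAdj.conformal B f q 1 q (one_mul q) hM N z y', h0, map_zero, mul_zero]
  have hrange : ∀ (a b : k), a ≠ b → ∀ x ∈ f.maxGenEigenspace a,
      ∃ t, ((f - b • (1 : Module.End k V)) ^ N) t = x := by
    intro a b hab x hx
    obtain ⟨u, v, huv⟩ := ((Polynomial.isCoprime_X_sub_C_of_isUnit_sub
      (sub_ne_zero.mpr hab).isUnit).pow (m := N) (n := N))
    have := congrArg (fun P => Polynomial.aeval f P x) huv
    simp only [map_add, map_one, map_mul, map_pow, map_sub, Polynomial.aeval_X, Polynomial.aeval_C,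
      Algebra.algebraMap_eq_smul_one, LinearMap.add_apply, Module.End.mul_apply,
      Module.End.one_apply, hmem a x hx, map_zero, zero_add] at this
    refine ⟨Polynomial.aeval f v x, ?_⟩
    conv_rhs => rw [← this]
    rw [show f - b • (1 : Module.End k V) = Polynomial.aeval f (Polynomial.X - Polynomial.C b) by
        simp [Algebra.algebraMap_eq_smul_one],
      ← map_pow, ← Module.End.mul_apply, ← Module.End.mul_apply, ← map_mul, ← map_mul, mul_comm]
  refine ⟨fun x hx h0 => hB.1 x fun z => ?_, fun y hy h0 => hB.2 y fun z => ?_,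
    fun h1 x hx x' hx' => ?_, fun h1 y hy y' hy' => ?_⟩
  · obtain ⟨w, hw, r, ⟨t, rfl⟩, rfl⟩ :=
      Submodule.mem_sup.mp (hcq.sup_eq_top ▸ Submodule.mem_top (x := z))
    rw [map_add, hA x hx t, add_zero]
    exact h0 w (hof q w hw)
  · obtain ⟨w, hw, r, ⟨t, rfl⟩, rfl⟩ :=
      Submodule.mem_sup.mp (hc1.sup_eq_top ▸ Submodule.mem_top (x := z))
    rw [map_add, LinearMap.add_apply, hC y hy t, add_zero]
    exact h0 w (hof 1 w hw)
  · obtain ⟨t, rfl⟩ := hrange 1 q (Ne.symm h1) x' hx'
    exact hA x hx t
  · obtain ⟨t, rfl⟩ := hrange q 1 h1 y hy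
    exact hC y' hy' t

end Groth.Agent.S19660
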