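import Groth.Statements.S19667
import Groth.Agent.GrassQ.Flag

set_option autoImplicit false
set_option backward.isDefEq.respectTransparency false
set_option backward.isDefEq.respectTransparency.types false
set_option maxHeartbeats 1000000

universe u
open CategoryTheory CategoryTheory.Limits AlgebraicGeometry
open Grass

namespace Groth.Agent.S19667

/-- Let `X` be a scheme with irreducible underlying space, `E` a finite locally free `O_X`-module of
rank `N`, and `n : Fin m → ℕ` strictly decreasing with `1 ≤ n i < N` for all `i`. Let `(F, π, Q, q)`
be the partial flag scheme of `E` of type `n` (universal nested locally free quotients of ranks `n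
i`, index `0` the largest). Then the underlying space of `F` is irreducible. (The source takes the
base of finite type over a field; the base is an arbitrary irreducible scheme here.) -/
theorem result (X F : Scheme.{u}) (π : F ⟶ X) (E : X.Modules) [IrreducibleSpace X]
    (N : ℕ) (hE : FlatMod.IsFinLocFreeOfRank N E) (m : ℕ) (n : Fin m → ℕ) (hn : StrictAnti n)
    (h1 : ∀ i, 1 ≤ n i) (hN : ∀ i, n i < N)
    (Q : Fin m → F.Modules) (q : ∀ i, (Scheme.Modules.pullback π).obj E ⟶ Q i) (hF : Grass.IsFlag π E n Q q) :
    IrreducibleSpace F := by
  have hF₀ : Grass.IsFlag (𝟙 X) E (fun i => n (Fin.castLE (Nat.zero_le m) i))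
      (fun i => i.elim0) (fun i => i.elim0) :=
    Groth.Agent.GrassQ.isFlag_zero _ _
  have hP := Groth.Agent.GrassQ.flag_lift_induction
    (P := fun {A B} _ _ => IrreducibleSpace B → IrreducibleSpace A)
    (fun {A B} f _ h => by
      haveI := h
      exact Groth.Agent.GrassQ.irreducibleSpace_of_surjective (inv f).continuous (inv f).surjective)
    (fun f g hf hg h => hf (hg h))
    (fun A hA hM hle h => by haveI := h; exact hA.irreducibleSpace hM hle)
    hE hn hN hF m 0 (Nat.zero_le m) rfl X (𝟙 X) _ _ hF₀
  exact hP inferInstance

end Groth.Agent.S19667
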