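import Groth.Statements.S19668
import Groth.Agent.W7Slope.Scalar
import Groth.Agent.W7Slope.Hom

set_option autoImplicit false
universe u
open CategoryTheory CategoryTheory.Limits AlgebraicGeometry
open Curves

set_option backward.isDefEq.respectTransparency false
set_option backward.isDefEq.respectTransparency.types false

open Groth.Agent Groth.Agent.CurveRR Groth.Agent.CohFinite CategoryTheory.Limits

namespace Groth.Agent.S19668

/-- Stable bundles are simple. Let X be a nonsingular projective curve over an algebraically closed
field k (smooth, proper, integral, of dimension one) and E a locally free sheaf of rank r on X which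
is stable: every locally free subsheaf G of rank s with 0 < s < r has deg G · r < deg E · s (degrees
computed as χ − rank·χ(O_X)). Then every endomorphism φ of E is a scalar multiple of the identity, φ
= a · 𝟙_E for some a ∈ k, where k acts on Hom_{O_X}(E, E) through the structure morphism X → Spec k
(a acts as composition with multiplication by a on E). -/
theorem result (k : Type u) [Field k] [IsAlgClosed k] (X : Scheme.{u})
    [X.Over (Spec (CommRingCat.of k))] (hX : Curve.IsSmoothProperCurve k X (X ↘ Spec (CommRingCat.of k))) (r : ℕ)
    (E : X.Modules) (hE : FlatMod.IsFinLocFreeOfRank r E)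
    (hst : ∀ (G : X.Modules) (s : ℕ) (ι : G ⟶ E), Mono ι → FlatMod.IsFinLocFreeOfRank s G → 0 < s → s < r →
      Curv2.deg k X G s * (r : ℤ) < Curv2.deg k X E r * (s : ℤ))
    (φ : E ⟶ E) : ∃ a : k, φ = a • 𝟙 E := by
  obtain ⟨hp, hs, hi, hdim⟩ := hX
  haveI := hp; haveI := hs; haveI := hi
  haveI := isNoetherian_of_proper k X
  have hR : W7Slope.RegCurve X := W7Slope.regCurve_of_smooth (k := k) hdim
  have hst' : ModFun.IsSlopeStable k X E r := fun G s ι hι h0 hr hG => hst G s ι hι hG h0 hr
  rcases Nat.eq_zero_or_pos r with rfl | hr
  · exact ⟨0, (W7Slope.isZero_of_rank_zero hE).eq_of_src _ _⟩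
  obtain ⟨c, hc⟩ := W7Slope.exists_scalar (k := k) hr hE (fun ψ hψ => by
    haveI := W7Slope.mono_of_stable k hR hr hE hE hst' (W7Slope.ss_of_slopeStable k hR hE hst') le_rfl ψ hψ
    exact W7Slope.isIso_of_mono k hR hE hE rfl ψ) φ
  refine ⟨c, ?_⟩
  rw [KLin.smul_id]
  exact (SheafOfModules.toSheaf X.ringCatSheaf).map_injective hc

end Groth.Agent.S19668
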