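import Groth.Statements.S19679
import Groth.Agent.Assoc.DescLocTriv

set_option autoImplicit false
universe u
open CategoryTheory MonoidalCategory CartesianMonoidalCategory MonObj AlgebraicGeometry
open ChGrp

namespace Groth.Agent.S19679

open AlgGrp.Action in
theorem main {S : Scheme.{u}} {G H Z Y P Q : Over S} [GrpObj G] [GrpObj H]
    (i : H ⟶ G) [IsMonHom i] (aZ : AlgGrp.Action H Z) (aY : AlgGrp.Action G Y) (j : G ⊗ Z ⟶ Y)
    (hY : ChGrp.IsBalProd Scheme.fppfPrecoverage i aZ aY j)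
    (πZ : Z ⟶ P) (hP : GIT.IsCatQuot aZ πZ) (πY : Y ⟶ Q) (hQ : GIT.IsCatQuot aY πY) :
    ∃ (φ : P ⟶ Q) (χ : Q ⟶ P), φ ≫ χ = 𝟙 P ∧ χ ≫ φ = 𝟙 Q ∧
      πZ ≫ φ = lift (toUnit Z ≫ η[G]) (𝟙 Z) ≫ j ≫ πY ∧ j ≫ πY ≫ χ = snd G Z ≫ πZ := by
  obtain ⟨heq, hsq, hloc⟩ := hY
  have hQinv : ∀ {T : Over S} (g : T ⟶ G) (y : T ⟶ Y), lift g y ≫ aY.act ≫ πY = y ≫ πY := fun g y => by
    rw [hQ.1, lift_snd_assoc]
  have hPinv : ∀ {T : Over S} (h : T ⟶ H) (z : T ⟶ Z), lift h z ≫ aZ.act ≫ πZ = z ≫ πZ := fun h z => by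
    rw [hP.1, lift_snd_assoc]
  have htr : ∀ {T : Over S} (g g' : T ⟶ G) (z : T ⟶ Z),
      lift g (lift g' z) ≫ ((NonAbH1.trivialAction G).prod (AlgGrp.Action.trivial G Z)).act = lift (g * g') z := by
    intro T g g' z
    rw [lift_prod_act, lift_trivial_act]
    rfl
  have hmove : ∀ {T : Over S} (g : T ⟶ G) (z : T ⟶ Z), lift g z ≫ j ≫ πY = lift 1 z ≫ j ≫ πY := by
    intro T g z
    have e : lift g z ≫ j = lift g (lift 1 z ≫ j) ≫ aY.act := by
      rw [← lift_whiskerLeft_assoc, ← heq, ← Category.assoc, htr, _root_.mul_one]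
    rw [reassoc_of% e, hQinv, Category.assoc]
  let ψ := lift (toUnit Z ≫ η[G]) (𝟙 Z) ≫ j ≫ πY
  have hψpt : ∀ {T : Over S} (z : T ⟶ Z), z ≫ ψ = lift 1 z ≫ j ≫ πY := fun z => by
    rw [comp_lift_assoc, Category.comp_id, comp_toUnit_assoc, Hom.one_def]
  have hψ : GIT.IsInvariant aZ ψ := by
    apply hom_ext_lift₂
    intro T h z
    rw [← Category.assoc, hψpt, lift_snd_assoc, hψpt]
    have e : lift h (lift (h ≫ i) z) ≫ (ChGrp.twist i aZ).act ≫ j = lift h (lift (h ≫ i) z) ≫ snd _ _ ≫ j := by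
      rw [hsq.w]
    rw [← Category.assoc, ChGrp.lift_twist_act, lift_snd_assoc, mul_inv_cancel] at e
    rw [reassoc_of% e]
    exact hmove _ _
  obtain ⟨φ, hφ, hφu⟩ := hP.2 Q ψ hψ
  have hs : (ChGrp.twist i aZ).act ≫ snd G Z ≫ πZ = snd H (G ⊗ Z) ≫ snd G Z ≫ πZ := by
    apply hom_ext_lift₂
    intro T h p
    rw [← lift_comp_fst_snd p, ← Category.assoc, ChGrp.lift_twist_act, lift_snd_assoc, lift_snd_assoc,
      Category.assoc, hPinv, lift_snd_assoc]
  obtain ⟨χ₀, hχ₀, hχ₀u⟩ := Groth.Agent.Assoc.existsUnique_desc_of_locTriv hsq hloc (snd G Z ≫ πZ) hs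
  have hχ₀inv : GIT.IsInvariant aY χ₀ := by
    refine Groth.Agent.Assoc.cancel_whiskerLeft_locTriv G hloc (hom_ext_lift₂ fun T g p => ?_)
    rw [← Category.assoc (lift g p), lift_whiskerLeft, ← Category.assoc (lift g p), lift_whiskerLeft,
      lift_snd_assoc]
    have e : lift g (p ≫ j) ≫ aY.act = lift g p ≫ ((NonAbH1.trivialAction G).prod (AlgGrp.Action.trivial G Z)).act ≫ j := by
      rw [heq, lift_whiskerLeft_assoc]
    rw [reassoc_of% e, hχ₀, Category.assoc, hχ₀, ← lift_comp_fst_snd p, ← Category.assoc, htr, lift_snd_assoc,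
      lift_snd_assoc]
  obtain ⟨χ, hχ, hχu⟩ := hQ.2 P χ₀ hχ₀inv
  have hφ' : πZ ≫ φ = lift (toUnit Z ≫ η[G]) (𝟙 Z) ≫ j ≫ πY := hφ
  refine ⟨φ, χ, ?_, ?_, hφ', by rw [hχ, hχ₀]⟩
  · refine (hP.2 P πZ hP.1).unique ?_ (Category.comp_id _)
    rw [reassoc_of% hφ', hχ, hχ₀, lift_snd_assoc, Category.id_comp]
  · refine (hQ.2 Q πY hQ.1).unique ?_ (Category.comp_id _)
    rw [reassoc_of% hχ]
    refine (Groth.Agent.Assoc.existsUnique_desc_of_locTriv hsq hloc (j ≫ πY) (by rw [reassoc_of% hsq.w])).unique ?_ rfl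
    rw [reassoc_of% hχ₀]
    apply hom_ext_lift₂
    intro T g z
    rw [lift_snd_assoc, hφ, hψpt, hmove g z]

/-- Let k be an algebraically closed field of characteristic zero, G and H affine group schemes of
finite type over k (algebraic groups) with i : H → G a homomorphism which is a closed immersion, and
Z a reduced affine k-scheme of finite type (an affine variety) with an action of H. Let Y, with its
G-action and j : G × Z → Y, be the balanced product G ×^H Z for the fppf topology: j is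
G-equivariant for left translation on the first factor, it is a torsor for the twisted H-action
h·(g, z) = (g i(h)⁻¹, h·z), and it has sections fppf-locally on Y. If π_Z : Z → P is a categorical
quotient of Z by H and π_Y : Y → Q a categorical quotient of Y by G, then the projection G × Z → Z
induces an isomorphism Q ≅ P, inverse to the morphism induced by the H-invariant map z ↦ π_Y(j(e,
z)): there are mutually inverse φ : P → Q and χ : Q → P with π_Z followed by φ equal to z ↦ π_Y(j(e,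
z)) and j followed by π_Y and χ equal to the projection followed by π_Z (so Y//G ≅ Z//H). (The
source assumes G and H reductive and defines G ×^H Z as the quotient (G × Z)//H, a principal
H-bundle; here the quotients are part of the data, the balanced product is taken in its torsor form,
and reductivity is not needed.) -/
theorem result
    (k : Type u) [Field k] [IsAlgClosed k] [CharZero k]
    (G H Z Y P Q : Over (Spec (CommRingCat.of k))) [GrpObj G] [GrpObj H]
    [IsAffine G.left] [LocallyOfFiniteType G.hom] [IsAffine H.left] [LocallyOfFiniteType H.hom]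
    (i : H ⟶ G) [IsMonHom i] [IsClosedImmersion i.left]
    [IsAffine Z.left] [LocallyOfFiniteType Z.hom] [IsReduced Z.left]
    (aZ : AlgGrp.Action H Z) (aY : AlgGrp.Action G Y) (j : G ⊗ Z ⟶ Y)
    (hY : ChGrp.IsBalProd Scheme.fppfPrecoverage i aZ aY j)
    (πZ : Z ⟶ P) (hP : GIT.IsCatQuot aZ πZ) (πY : Y ⟶ Q) (hQ : GIT.IsCatQuot aY πY) :
    ∃ (φ : P ⟶ Q) (χ : Q ⟶ P), φ ≫ χ = 𝟙 P ∧ χ ≫ φ = 𝟙 Q ∧
      πZ ≫ φ = lift (toUnit Z ≫ η[G]) (𝟙 Z) ≫ j ≫ πY ∧ j ≫ πY ≫ χ = snd G Z ≫ πZ := by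
  exact main i aZ aY j hY πZ hP πY hQ

end Groth.Agent.S19679
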