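import Groth.Statements.S1968
import Mathlib

set_option autoImplicit false
universe u
open EtAlg

namespace Groth.Agent.S1968

/-- Let (A_j) be a family of valuation rings with fraction fields K_j. Then every ideal of the product
ring Π A_j is a flat Π A_j-module (that is, Π A_j has weak dimension at most 1), and Π K_j is the
localization of Π A_j at its non-zero-divisors. -/
theorem result {J : Type u} (A : J → Type u) [∀ j, CommRing (A j)] [∀ j, IsDomain (A j)]
    [∀ j, ValuationRing (A j)] (K : J → Type u) [∀ j, Field (K j)] [∀ j, Algebra (A j) (K j)]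
    [∀ j, IsFractionRing (A j) (K j)] :
    (∀ I : Ideal (∀ j, A j), Module.Flat (∀ j, A j) I) ∧
      IsLocalization (nonZeroDivisors (∀ j, A j)) (∀ j, K j) := by
  classical
  have hbez : IsBezout (∀ j, A j) := IsBezout.iff_span_pair_isPrincipal.2 fun x y => by
    have h := fun j => (IsBezout.span_pair_isPrincipal (x j) (y j)).principal
    choose g hg using h
    choose u v huv using fun j => Ideal.mem_span_pair.1 ((hg j).symm ▸ Submodule.mem_span_singleton_self (g j) :
      g j ∈ Ideal.span {x j, y j})
    have hx : ∀ j, g j ∣ x j := fun j => Ideal.mem_span_singleton.1 (by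
      rw [← Ideal.submodule_span_eq, ← hg j]; exact Ideal.subset_span (Set.mem_insert _ _))
    have hy : ∀ j, g j ∣ y j := fun j => Ideal.mem_span_singleton.1 (by
      rw [← Ideal.submodule_span_eq, ← hg j]; exact Ideal.subset_span (Set.mem_insert_of_mem _ rfl))
    choose cx hcx using hx
    choose cy hcy using hy
    refine ⟨⟨(g : (∀ j, A j)), le_antisymm ?_ ?_⟩⟩
    · rw [Ideal.span_le, Set.insert_subset_iff, Set.singleton_subset_iff]
      exact ⟨Submodule.mem_span_singleton.2 ⟨cx, funext fun j => by rw [Pi.smul_apply', smul_eq_mul, mul_comm]; exact (hcx j).symm⟩,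
        Submodule.mem_span_singleton.2 ⟨cy, funext fun j => by rw [Pi.smul_apply', smul_eq_mul, mul_comm]; exact (hcy j).symm⟩⟩
    · rw [Submodule.span_le, Set.singleton_subset_iff]
      exact Ideal.mem_span_pair.2 ⟨u, v, funext fun j => by simpa using huv j⟩
  have hflat1 : ∀ a : (∀ j, A j), Module.Flat (∀ j, A j) (Ideal.span {a} : Ideal (∀ j, A j)) := by
    intro a
    let e : (∀ j, A j) := fun j => if a j = 0 then 0 else 1
    have hea : a * e = a := funext fun j => by by_cases h : a j = 0 <;> simp [e, h]
    let π : (∀ j, A j) →ₗ[(∀ j, A j)] (Ideal.span {a} : Ideal (∀ j, A j)) :=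
      LinearMap.toSpanSingleton (∀ j, A j) _ ⟨a, Ideal.mem_span_singleton_self a⟩
    have hπ : Function.Surjective π := fun z => by
      obtain ⟨c, hc⟩ := Ideal.mem_span_singleton'.1 z.2
      exact ⟨c, Subtype.ext (by simpa [π] using hc)⟩
    have hker : LinearMap.ker π ≤ LinearMap.ker (LinearMap.toSpanSingleton (∀ j, A j) (∀ j, A j) e) := fun c hc => by
      have hc' : c * a = 0 := by simpa [π, Subtype.ext_iff] using hc
      rw [LinearMap.mem_ker, LinearMap.toSpanSingleton_apply]
      funext j
      by_cases h : a j = 0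
      · simp [e, h]
      · have := congrFun hc' j
        simp only [Pi.mul_apply, Pi.zero_apply] at this
        simp [(mul_eq_zero.1 this).resolve_right h]
    let s := (LinearMap.ker π).liftQ _ hker ∘ₗ (π.quotKerEquivOfSurjective hπ).symm.toLinearMap
    refine Module.Flat.of_retract s π (LinearMap.ext fun z => ?_)
    obtain ⟨c, rfl⟩ := hπ z
    have : s (π c) = c * e := by
      have hs : s (π c) = (LinearMap.ker π).liftQ _ hker (Submodule.Quotient.mk c) := by
        simp only [s, LinearMap.comp_apply, LinearEquiv.coe_coe]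
        congr 1
        rw [LinearEquiv.symm_apply_eq]
        rfl
      rw [hs]; rfl
    rw [LinearMap.comp_apply, this]
    ext1
    simp [π, mul_assoc, mul_comm e a, hea]
  constructor
  · intro I
    refine Module.Flat.of_forall_isTrivialRelation fun {l f x} h => ?_
    let J : Ideal (∀ j, A j) := Ideal.span (Set.range fun i => (x i : (∀ j, A j)))
    have hJI : J ≤ I := Ideal.span_le.2 (by rintro _ ⟨i, rfl⟩; exact (x i).2)
    obtain ⟨g, hg⟩ := (IsBezout.isPrincipal_of_FG J ⟨(Finset.univ.image fun i => (x i : (∀ j, A j))), by simp [J]⟩).principal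
    haveI : Module.Flat (∀ j, A j) J := by rw [hg]; exact hflat1 g
    let x' : Fin l → J := fun i => ⟨x i, Ideal.subset_span ⟨i, rfl⟩⟩
    have h' : ∑ i, f i • x' i = 0 := Subtype.ext (by simpa [x'] using congrArg Subtype.val h)
    obtain ⟨k, c, y, hy, hc⟩ := Module.Flat.isTrivialRelation_of_sum_smul_eq_zero h'
    exact ⟨k, c, fun j => ⟨y j, hJI (y j).2⟩,
      fun i => Subtype.ext (by simpa [x'] using congrArg Subtype.val (hy i)), hc⟩
  · refine ⟨⟨fun ⟨b, hb⟩ => ?_, fun z => ?_, fun {a b} h => ⟨1, ?_⟩⟩⟩
    · refine Pi.isUnit_iff.2 fun j => ?_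
      have hbj : b j ≠ 0 := by
        intro h0
        have := (mem_nonZeroDivisors_iff.1 hb).2 (Pi.single j 1) (funext fun i => by
          by_cases hi : i = j
          · subst hi; simp [h0]
          · simp [hi])
        exact one_ne_zero ((Pi.single_eq_same j (1 : A j)).symm.trans (congrFun this j))
      exact isUnit_iff_ne_zero.2 ((map_ne_zero_iff _ (IsFractionRing.injective (A j) (K j))).2 hbj)
    · choose a b hb hab using fun j => IsFractionRing.div_surjective (A := A j) (z j)
      refine ⟨(a, ⟨b, ?_⟩), funext fun j => ?_⟩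
      · refine ⟨fun c hc => funext fun j => ?_, fun c hc => funext fun j => ?_⟩
        · exact (mul_eq_zero.1 (congrFun hc j)).resolve_left (nonZeroDivisors.ne_zero (hb j))
        · exact (mul_eq_zero.1 (congrFun hc j)).resolve_right (nonZeroDivisors.ne_zero (hb j))
      · show z j * algebraMap (A j) (K j) (b j) = algebraMap (A j) (K j) (a j)
        rw [← hab j, div_mul_cancel₀ _ ((map_ne_zero_iff _ (IsFractionRing.injective (A j) (K j))).2 (nonZeroDivisors.ne_zero (hb j)))]
    · exact funext fun j => by
        simpa using IsFractionRing.injective (A j) (K j) (congrFun h j)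

end Groth.Agent.S1968
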