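import Groth.Statements.S19681
import Groth.Agent.GrpAct.Basic
import Mathlib.AlgebraicGeometry.Sites.Fpqc

set_option autoImplicit false
universe u
open CategoryTheory MonoidalCategory CartesianMonoidalCategory MonObj AlgebraicGeometry
open ChGrp

namespace Groth.Agent.S19681

open AlgGrp.Action Limits in
set_option backward.isDefEq.respectTransparency false in
theorem main {S : Scheme.{u}} {G H Z Y Y' : Over S} [GrpObj G] [GrpObj H] (i : H ⟶ G) [IsMonHom i]
    (aZ : AlgGrp.Action H Z) (aY : AlgGrp.Action G Y) (j : G ⊗ Z ⟶ Y)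
    (hY : ChGrp.IsBalProd Scheme.fppfPrecoverage i aZ aY j)
    (c : Y' ⟶ Y) [IsClosedImmersion c.left]
    (aY' : AlgGrp.Action G Y') (hc : AlgGrp.Action.IsEquivariant aY' aY c) :
    ∃ (Z' : Over S) (c' : Z' ⟶ Z) (aZ' : AlgGrp.Action H Z') (j' : G ⊗ Z' ⟶ Y'),
      IsClosedImmersion c'.left ∧ AlgGrp.Action.IsEquivariant aZ' aZ c' ∧
      j' ≫ c = (G ◁ c') ≫ j ∧ ChGrp.IsBalProd Scheme.fppfPrecoverage i aZ' aY' j' := by
  obtain ⟨heq, hsq, hloc⟩ := hY
  have : Mono c := (Over.forget S).mono_of_mono_map (inferInstanceAs (Mono c.left))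
  have hcp : ∀ {T : Over S} (g : T ⟶ G) (y : T ⟶ Y'),
      lift g y ≫ aY'.act ≫ c = lift g (y ≫ c) ≫ aY.act := fun g y => by
    rw [hc, lift_whiskerLeft_assoc]
  have htr : ∀ {T : Over S} (g g' : T ⟶ G) (z : T ⟶ Z),
      lift g (lift g' z) ≫ ((NonAbH1.trivialAction G).prod (AlgGrp.Action.trivial G Z)).act = lift (g * g') z := by
    intro T g g' z
    rw [lift_prod_act, lift_trivial_act]
    rfl
  have hj : ∀ {T : Over S} (g g' : T ⟶ G) (z : T ⟶ Z),
      lift (g * g') z ≫ j = lift g (lift g' z ≫ j) ≫ aY.act := fun g g' z => by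
    rw [← htr g g' z, Category.assoc, heq, lift_whiskerLeft_assoc]
  have htw : ∀ {T : Over S} (h : T ⟶ H) (g : T ⟶ G) (z : T ⟶ Z),
      lift (g * (h ≫ i)⁻¹) (lift h z ≫ aZ.act) ≫ j = lift g z ≫ j := fun h g z => by
    rw [← ChGrp.lift_twist_act, Category.assoc, hsq.w, lift_snd_assoc]
  let e : Z ⟶ Y := lift (toUnit Z ≫ η[G]) (𝟙 Z) ≫ j
  have he : ∀ {T : Over S} (z : T ⟶ Z), z ≫ e = lift 1 z ≫ j := fun z => by
    rw [comp_lift_assoc, Category.comp_id, comp_toUnit_assoc, Hom.one_def]
  have hje : ∀ {T : Over S} (g : T ⟶ G) (z : T ⟶ Z), lift g z ≫ j = lift g (z ≫ e) ≫ aY.act := fun g z => by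
    rw [he, ← hj, _root_.mul_one]
  let Z' := pullback e c
  let c' : Z' ⟶ Z := pullback.fst e c
  let d : Z' ⟶ Y' := pullback.snd e c
  have hd : ∀ {T : Over S} (z : T ⟶ Z'), (z ≫ c') ≫ e = (z ≫ d) ≫ c := fun z => by
    rw [Category.assoc, Category.assoc, pullback.condition]
  have : IsClosedImmersion c'.left :=
    MorphismProperty.of_isPullback (P := @IsClosedImmersion) ((IsPullback.of_hasPullback e c).map (Over.forget S)).flip ‹_›
  have : Mono c' := (Over.forget S).mono_of_mono_map (inferInstanceAs (Mono c'.left))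
  have hez : ∀ {T : Over S} (h : T ⟶ H) (z : T ⟶ Z), (lift h z ≫ aZ.act) ≫ e = lift (h ≫ i) (z ≫ e) ≫ aY.act := by
    intro T h z
    rw [he, ← hje, ← htw h (h ≫ i) z, mul_inv_cancel]
  let act' : H ⊗ Z' ⟶ Z' := pullback.lift ((H ◁ c') ≫ aZ.act) (lift (fst H Z' ≫ i) (snd H Z' ≫ d) ≫ aY'.act) (by
    rw [show H ◁ c' = lift (fst H Z') (snd H Z' ≫ c') by ext <;> simp, hez, hd, Category.assoc (lift _ _), hcp])
  have hact'c : act' ≫ c' = (H ◁ c') ≫ aZ.act := pullback.lift_fst _ _ _
  let aZ' : AlgGrp.Action H Z' :=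
    { act := act'
      one_act := by
        rw [← cancel_mono c', Category.assoc, hact'c, ← whisker_exchange_assoc, aZ.one_act, leftUnitor_naturality]
      mul_act := by
        rw [← cancel_mono c', Category.assoc, hact'c, ← whisker_exchange_assoc, aZ.mul_act,
          Category.assoc, Category.assoc, hact'c, associator_naturality_right_assoc,
          ← MonoidalCategory.whiskerLeft_comp_assoc, ← hact'c, MonoidalCategory.whiskerLeft_comp_assoc, hact'c] }
  let j' : G ⊗ Z' ⟶ Y' := (G ◁ d) ≫ aY'.act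
  have hj'pt : ∀ {T : Over S} (g : T ⟶ G) (z : T ⟶ Z'), lift g z ≫ j' = lift g (z ≫ d) ≫ aY'.act := fun g z => by
    rw [lift_whiskerLeft_assoc]
  have hjc : j' ≫ c = (G ◁ c') ≫ j := by
    apply hom_ext_lift₂
    intro T g z
    rw [← Category.assoc, hj'pt, Category.assoc, hcp, lift_whiskerLeft_assoc, hje, hd]
  have hP : IsPullback (G ◁ c') j' j c := by
    refine IsPullback.of_isLimit' ⟨hjc.symm⟩ (PullbackCone.IsLimit.mk _
      (fun s => lift (s.fst ≫ fst G Z) (pullback.lift (s.fst ≫ snd G Z)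
        (lift (s.fst ≫ fst G Z)⁻¹ s.snd ≫ aY'.act) ?_)) (fun s => ?_) (fun s => ?_) fun s m h1 h2 => ?_)
    · rw [Category.assoc (lift _ _), hcp, ← s.condition,
        show s.fst ≫ j = lift (s.fst ≫ fst G Z) (s.fst ≫ snd G Z) ≫ j by rw [lift_comp_fst_snd],
        ← hj, inv_mul_cancel, ← he]
    · rw [lift_whiskerLeft, pullback.lift_fst, lift_comp_fst_snd]
    · rw [hj'pt, pullback.lift_snd, ← lift_mul_act, mul_inv_cancel, lift_one_act]
    · have hm : (m ≫ G ◁ c') = lift (m ≫ fst G Z') ((m ≫ snd G Z') ≫ c') := by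
        rw [← lift_whiskerLeft, lift_comp_fst_snd]
      have hg : m ≫ fst G Z' = s.fst ≫ fst G Z := by rw [← h1, hm, lift_fst]
      apply CartesianMonoidalCategory.hom_ext
      · rw [lift_fst, hg]
      · rw [lift_snd, ← cancel_mono c', pullback.lift_fst, ← h1, hm, lift_snd]
  refine ⟨Z', c', aZ', j', inferInstance, hact'c, hjc, ?_, ?_, ?_⟩
  · apply hom_ext_lift₂
    intro T g p
    rw [← lift_comp_fst_snd p, ← Category.assoc, lift_prod_act, lift_trivial_act, hj'pt, lift_whiskerLeft_assoc, hj'pt]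
    exact lift_mul_act aY' _ _ _
  · have hw : (ChGrp.twist i aZ').act ≫ (G ◁ c') = (H ◁ (G ◁ c')) ≫ (ChGrp.twist i aZ).act := by
      apply hom_ext_lift₂
      intro T h p
      rw [← lift_comp_fst_snd p, ← Category.assoc, ChGrp.lift_twist_act, lift_whiskerLeft, lift_whiskerLeft_assoc,
        lift_whiskerLeft, ChGrp.lift_twist_act, Category.assoc, show aZ'.act ≫ c' = (H ◁ c') ≫ aZ.act from hact'c,
        lift_whiskerLeft_assoc]
    have hinv : (ChGrp.twist i aZ').act ≫ j' = snd H (G ⊗ Z') ≫ j' := by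
      rw [← cancel_mono c, Category.assoc _ j' c, Category.assoc _ j' c, hjc, reassoc_of% hw, hsq.w, whiskerLeft_snd_assoc]
    refine IsPullback.of_isLimit' ⟨hinv⟩ (PullbackCone.IsLimit.mk _
      (fun s => lift (hsq.lift (s.fst ≫ G ◁ c') (s.snd ≫ G ◁ c') (by
          rw [Category.assoc, Category.assoc, ← hjc, reassoc_of% s.condition]) ≫ fst _ _) s.snd)
      (fun s => hP.hom_ext ?_ ?_) (fun s => lift_snd _ _) fun s m h1 h2 => ?_)
    · rw [Category.assoc, hw, lift_whiskerLeft_assoc]
      set l := hsq.lift (s.fst ≫ G ◁ c') (s.snd ≫ G ◁ c') _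
      conv_lhs => rw [show s.snd ≫ G ◁ c' = l ≫ snd _ _ from (hsq.lift_snd _ _ _).symm, lift_comp_fst_snd]
      exact hsq.lift_fst _ _ _
    · rw [Category.assoc, hinv, lift_snd_assoc, s.condition]
    · apply CartesianMonoidalCategory.hom_ext
      · rw [lift_fst]
        have : m ≫ (H ◁ (G ◁ c')) = hsq.lift (s.fst ≫ G ◁ c') (s.snd ≫ G ◁ c') (by
            rw [Category.assoc, Category.assoc, ← hjc, reassoc_of% s.condition]) := hsq.hom_ext
          (by rw [hsq.lift_fst, Category.assoc, ← hw, reassoc_of% h1])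
          (by rw [hsq.lift_snd, Category.assoc, whiskerLeft_snd, reassoc_of% h2])
        rw [← this, Category.assoc, whiskerLeft_fst]
      · rw [lift_snd, h2]
  · obtain ⟨R, hR, hs⟩ := hloc
    refine ⟨_, Precoverage.pullbackArrows_mem (J := Scheme.fppfPrecoverage) c.left hR, fun W g hg => ?_⟩
    cases hg with
    | mk U k hk =>
      obtain ⟨σ, hσ⟩ := hs k hk
      have hσ' : σ ≫ j.left = k := hσ
      refine ⟨(hP.map (Over.forget S)).lift (pullback.fst k c.left ≫ σ) (pullback.snd k c.left) ?_,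
        (hP.map (Over.forget S)).lift_snd _ _ _⟩
      show (pullback.fst k c.left ≫ σ) ≫ j.left = pullback.snd k c.left ≫ c.left
      rw [Category.assoc, hσ', pullback.condition]

/-- Let k be an algebraically closed field of characteristic zero, G and H affine group schemes of
finite type over k with i : H → G a homomorphism which is a closed immersion, and Z a reduced affine
k-scheme of finite type with an action of H. Let Y, with its G-action and j : G × Z → Y, be the
balanced product G ×^H Z for the fppf topology (j is G-equivariant for left translation on the first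
factor, a torsor for the twisted H-action h·(g, z) = (g i(h)⁻¹, h·z), with sections fppf-locally on
Y). Let c : Y' → Y be a closed immersion from a reduced scheme Y' with a G-action making c
equivariant (a closed G-invariant subvariety of Y). Then Y' is again a balanced product: there are a
closed immersion c' : Z' → Z, an H-action on Z' for which c' is equivariant (a closed H-invariant
subscheme of Z), and a morphism j' : G × Z' → Y' with j' followed by c equal to G × c' followed by
j, such that j' makes Y' the balanced product G ×^H Z' for the fppf topology. (The source assumes G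
and H reductive and defines G ×^H Z as the quotient (G × Z)//H, a principal H-bundle; here the
balanced product is taken in its torsor form and reductivity is not needed.) -/
theorem result
    (k : Type u) [Field k] [IsAlgClosed k] [CharZero k]
    (G H Z Y Y' : Over (Spec (CommRingCat.of k))) [GrpObj G] [GrpObj H]
    [IsAffine G.left] [LocallyOfFiniteType G.hom] [IsAffine H.left] [LocallyOfFiniteType H.hom]
    (i : H ⟶ G) [IsMonHom i] [IsClosedImmersion i.left]
    [IsAffine Z.left] [LocallyOfFiniteType Z.hom] [IsReduced Z.left]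
    (aZ : AlgGrp.Action H Z) (aY : AlgGrp.Action G Y) (j : G ⊗ Z ⟶ Y)
    (hY : ChGrp.IsBalProd Scheme.fppfPrecoverage i aZ aY j)
    (c : Y' ⟶ Y) [IsClosedImmersion c.left] [IsReduced Y'.left]
    (aY' : AlgGrp.Action G Y') (hc : AlgGrp.Action.IsEquivariant aY' aY c) :
    ∃ (Z' : Over (Spec (CommRingCat.of k))) (c' : Z' ⟶ Z) (aZ' : AlgGrp.Action H Z') (j' : G ⊗ Z' ⟶ Y'),
      IsClosedImmersion c'.left ∧ AlgGrp.Action.IsEquivariant aZ' aZ c' ∧
      j' ≫ c = (G ◁ c') ≫ j ∧ ChGrp.IsBalProd Scheme.fppfPrecoverage i aZ' aY' j' := by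
  exact main i aZ aY j hY c aY' hc

end Groth.Agent.S19681
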