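import Groth.Prelude.Def_Biext
import Groth.Prelude.Def_CGrpSh2
import Groth.Prelude.Def_Red
import Mathlib.AlgebraicGeometry.Morphisms.Smooth
import Mathlib.AlgebraicGeometry.Morphisms.Proper
import Mathlib.AlgebraicGeometry.Fiber
import Mathlib.AlgebraicGeometry.Morphisms.FinitePresentation
import Groth.Agent.BiextTriv.Rigid
import Groth.Agent.Rigid.Smooth
import Groth.Agent.MTBridge.CentralNhd

set_option backward.isDefEq.respectTransparency false
set_option backward.isDefEq.respectTransparency.types false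
-- import your own Groth.Agent.* helpers here

set_option autoImplicit false
universe u
open CategoryTheory CategoryTheory.Limits MonoidalCategory CartesianMonoidalCategory MonObj AlgebraicGeometry
namespace AbSch
end AbSch
open AbSch

namespace Groth.Agent.S19686

/-- Let S be a scheme and A₁, A₂, A₃ abelian S-schemes (smooth, proper, connected fibres). Then the
category of biextensions of (A₁, A₂) by A₃ is rigid: for every biextension B of (A₁, A₂) by A₃,
formed with the sheaves of points on the big fppf site of all S-schemes, the only endomorphism of B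
inducing the identity on A₁, A₂ and A₃ is the identity (equivalently, there is no non-zero
biadditive morphism from A₁ × A₂ to A₃). The source also asserts that every such biextension is
trivial; that assertion is not part of this statement. -/
theorem result {S : Scheme.{u}} (A₁ A₂ A₃ : Over S)
    [GrpObj A₁] [IsCommMonObj A₁] [Smooth A₁.hom] [IsProper A₁.hom]
    (hA₁ : ∀ s : S, ConnectedSpace ↥(A₁.hom.fiber s))
    [GrpObj A₂] [IsCommMonObj A₂] [Smooth A₂.hom] [IsProper A₂.hom]
    (hA₂ : ∀ s : S, ConnectedSpace ↥(A₂.hom.fiber s))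
    [GrpObj A₃] [IsCommMonObj A₃] [Smooth A₃.hom] [IsProper A₃.hom]
    (hA₃ : ∀ s : S, ConnectedSpace ↥(A₃.hom.fiber s))
    (B : Biext (QuotSh.J Scheme.fppfPrecoverage S) (CGrpSh.pts Scheme.fppfPrecoverage A₁) (CGrpSh.pts Scheme.fppfPrecoverage A₂) (CGrpSh.pts Scheme.fppfPrecoverage A₃))
    (f : Biext.Hom (QuotSh.J Scheme.fppfPrecoverage S) B B) : f = Biext.HomOver.id (QuotSh.J Scheme.fppfPrecoverage S) B := by
  refine Groth.Agent.BiextTriv.eq_id_of_noBiadd ?_ f
  intro g hnat hadd₁ hadd₂ T p q
  let A₁₂ : Over S := A₁ ⊗ A₂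
  let φ : A₁₂ ⟶ A₃ := (g A₁₂ (ULift.up (Additive.ofMul (fst A₁ A₂))) (ULift.up (Additive.ofMul (snd A₁ A₂)))).down.toMul
  have hz₁ : ∀ (T : Over S) q, g T 0 q = 0 := fun T q => by
    have := hadd₁ T 0 0 q; rw [add_zero] at this; exact left_eq_add.mp this
  have hz₂ : ∀ (T : Over S) p, g T p 0 = 0 := fun T p => by
    have := hadd₂ T p 0 0; rw [add_zero] at this; exact left_eq_add.mp this
  have hg : ∀ (T : Over S) (p : T ⟶ A₁) (q : T ⟶ A₂), lift p q ≫ φ =
      (g T (ULift.up (Additive.ofMul p)) (ULift.up (Additive.ofMul q))).down.toMul := by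
    intro T p q
    have h := hnat (lift p q) (ULift.up (Additive.ofMul (fst A₁ A₂))) (ULift.up (Additive.ofMul (snd A₁ A₂)))
    refine (congrArg (fun z => z.down.toMul) h).trans ?_
    change (g T (ULift.up (Additive.ofMul (lift p q ≫ fst A₁ A₂))) (ULift.up (Additive.ofMul (lift p q ≫ snd A₁ A₂)))).down.toMul = _
    rw [lift_fst, lift_snd]
  haveI : GeometricallyIrreducible A₁.hom :=
    Groth.Agent.MTBridge.geometricallyIrreducible_of_connectedSpace (G := A₁) hA₁
  haveI : GeometricallyConnected A₁.hom :=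
    Groth.Agent.GeomConn.geometricallyConnected_of_irreducible A₁.hom
  have hc : ∀ s : S, _root_.IsPreconnected (A₂.hom ⁻¹' {s}) := fun s => by
    haveI : ConnectedSpace ↥(A₂.hom.fiber s) := hA₂ s
    haveI := (A₂.hom.fiberHomeo s).surjective.connectedSpace (A₂.hom.fiberHomeo s).continuous
    exact (isConnected_iff_connectedSpace.2 ‹_›).isPreconnected
  have hφ := Groth.Agent.Rigid.eq_const_of_axes (Groth.Agent.Rigid.goodFibres_of_smooth A₁.hom)
    (1 : 𝟙_ (Over S) ⟶ A₁) (1 : 𝟙_ (Over S) ⟶ A₂) hc φ (1 : 𝟙_ (Over S) ⟶ A₃)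
    (by rw [MonObj.comp_one, hg, MonObj.comp_one]; exact congrArg (fun z => z.down.toMul) (hz₂ A₁ _))
    (by rw [MonObj.comp_one, hg, MonObj.comp_one]; exact congrArg (fun z => z.down.toMul) (hz₁ A₂ _))
  obtain ⟨p⟩ := p
  obtain ⟨q⟩ := q
  refine ULift.ext _ _ ?_
  obtain ⟨p, rfl⟩ := Additive.ofMul.surjective p
  obtain ⟨q, rfl⟩ := Additive.ofMul.surjective q
  change (g T (ULift.up (Additive.ofMul p)) (ULift.up (Additive.ofMul q))).down.toMul = (1 : T ⟶ A₃)
  rw [← hg, hφ, MonObj.comp_one, MonObj.comp_one]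

end Groth.Agent.S19686
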