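import Groth.Statements.S1969
import Mathlib

set_option autoImplicit false
universe u
open EtAlg

namespace Groth.Agent.S1969

/-- For a commutative ring A these are equivalent — all ideals are flat A-modules; all finitely
generated ideals are flat; flatness passes to submodules of flat modules; each localization at a
prime is a valuation ring (in particular a domain). Condition (1), weak dimension at most one, is
not stated. -/
theorem result (A : Type u) [CommRing A] :
    List.TFAE [∀ I : Ideal A, Module.Flat A I,
      ∀ I : Ideal A, I.FG → Module.Flat A I,
      ∀ (M : Type u) [AddCommGroup M] [Module A M], Module.Flat A M → ∀ N : Submodule A M, Module.Flat A N,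
      ∀ (p : Ideal A) [p.IsPrime], ∃ _ : IsDomain (Localization.AtPrime p), ValuationRing (Localization.AtPrime p)] := by
  tfae_have 1 → 2 := fun h I _ => h I
  tfae_have 3 → 1 := fun h I => h A (inferInstance : Module.Flat A A) I
  tfae_have 2 → 3 := by
    intro h M _ _ hM N
    rw [Module.Flat.iff_rTensor_injective]
    intro I hI
    haveI := h I hI
    haveI := hM
    have h1 : Function.Injective (N.subtype.lTensor I) :=
      Module.Flat.lTensor_preserves_injective_linearMap (M := I) N.subtype N.injective_subtype
    have h2 : Function.Injective (I.subtype.rTensor M) :=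
      Module.Flat.rTensor_preserves_injective_linearMap (M := M) I.subtype I.injective_subtype
    intro x y hxy
    refine h1 (h2 ?_)
    rw [← LinearMap.comp_apply, ← LinearMap.comp_apply (f := I.subtype.rTensor M),
      LinearMap.rTensor_comp_lTensor, ← LinearMap.lTensor_comp_rTensor, LinearMap.comp_apply,
      LinearMap.comp_apply, hxy]
  tfae_have 4 → 1 := by
    intro h I
    refine Module.flat_of_localized_maximal (R := A) (M := I) fun P hP => ?_
    obtain ⟨hdom, hval⟩ := h P
    haveI := hdom
    haveI := hval
    rw [← Module.flat_iff_of_isLocalization (Localization.AtPrime P) P.primeCompl,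
      Module.Flat.flat_iff_torsion_eq_bot_of_isBezout, ← Submodule.isTorsionFree_iff_torsion_eq_bot]
    haveI : Module.Flat (Localization.AtPrime P) (LocalizedModule P.primeCompl A) :=
      Module.Flat.of_isLocalizedModule (Localization.AtPrime P) P.primeCompl (LocalizedModule.mkLinearMap P.primeCompl A)
    exact Function.Injective.moduleIsTorsionFree _
      (LocalizedModule.map_injective P.primeCompl I.subtype I.injective_subtype) (map_smul _)
  tfae_have 2 → 4 := by
    intro h p hp
    have h3 := tfae_2_to_3 h
    have hfree : ∀ J : Ideal (Localization.AtPrime p), J.FG → Module.Free (Localization.AtPrime p) J := by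
      intro J hJ
      haveI : Module.Finite (Localization.AtPrime p) J := Module.Finite.of_fg hJ
      haveI : Module.Flat (Localization.AtPrime p) J := by
        rw [Module.flat_iff_of_isLocalization (Localization.AtPrime p) p.primeCompl (R := A)]
        exact h3 (Localization.AtPrime p) inferInstance (J.restrictScalars A)
      exact Module.free_of_flat_of_isLocalRing
    have hpr : ∀ J : Ideal (Localization.AtPrime p), J.FG → J.IsPrincipal ∧
        ∀ c : Localization.AtPrime p, (∀ x ∈ J, c * x = 0) → c = 0 ∨ J = ⊥ := by
      intro J hJ
      haveI := hfree J hJ
      let b := Module.Free.chooseBasis (Localization.AtPrime p) J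
      haveI : Subsingleton (Module.Free.ChooseBasisIndex (Localization.AtPrime p) J) := by
        refine ⟨fun i j => by_contra fun hij => ?_⟩
        have he : (b j : Localization.AtPrime p) • b i = (b i : Localization.AtPrime p) • b j :=
          Subtype.ext (mul_comm _ _)
        have := congrArg (fun x => b.repr x i) he
        simp [Finsupp.single_eq_of_ne hij] at this
        exact b.ne_zero j this
      rcases isEmpty_or_nonempty (Module.Free.ChooseBasisIndex (Localization.AtPrime p) J) with he | ⟨⟨i⟩⟩
      · haveI : Subsingleton J := b.repr.toEquiv.subsingleton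
        have hJ0 : J = ⊥ := (Submodule.eq_bot_iff _).2 fun x hx =>
          congrArg Subtype.val (Subsingleton.elim (⟨x, hx⟩ : J) 0)
        exact ⟨hJ0 ▸ bot_isPrincipal, fun c _ => Or.inr hJ0⟩
      · haveI := Fintype.ofSubsingleton i
        refine ⟨⟨⟨(b i : Localization.AtPrime p), le_antisymm (fun x hx => ?_)
          ((Submodule.span_singleton_le_iff_mem _ _).2 (b i).2)⟩⟩, fun c hc => Or.inl ?_⟩
        · rw [Submodule.mem_span_singleton]
          refine ⟨b.repr ⟨x, hx⟩ i, ?_⟩
          have := b.linearCombination_repr ⟨x, hx⟩
          rw [Finsupp.linearCombination_apply, Finsupp.sum_fintype _ _ (by simp),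
            Fintype.sum_subsingleton _ i] at this
          exact congrArg Subtype.val this
        · have : c • b i = 0 := Subtype.ext (hc _ (b i).2)
          simpa using congrArg (fun x => b.repr x i) this
    haveI hdom : IsDomain (Localization.AtPrime p) := by
      haveI : NoZeroDivisors (Localization.AtPrime p) := by
        refine ⟨fun {a c} hac => ?_⟩
        rcases (hpr _ (Submodule.fg_span_singleton c)).2 a (fun x hx => by
          obtain ⟨d, rfl⟩ := Submodule.mem_span_singleton.1 hx
          rw [smul_eq_mul, mul_left_comm, hac, mul_zero]) with h0 | h0
        · exact Or.inl h0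
        · exact Or.inr (Submodule.span_singleton_eq_bot.1 h0)
      exact NoZeroDivisors.to_isDomain _
    haveI : IsBezout (Localization.AtPrime p) := ⟨fun J hJ => (hpr J hJ).1⟩
    exact ⟨hdom, inferInstance⟩
  tfae_finish

end Groth.Agent.S1969
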