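import Groth.Statements.S19696
import Groth.Agent.FinCovTr.Trace
import Groth.Agent.CurveRR.Zero
import Groth.Agent.W7Strat.Frame
import Groth.Agent.QC.IdealMod

set_option autoImplicit false
set_option backward.isDefEq.respectTransparency false
set_option backward.isDefEq.respectTransparency.types false
set_option maxHeartbeats 1000000
universe u
open CategoryTheory CategoryTheory.Limits AlgebraicGeometry Opposite
open FinCov
open Groth.Agent.QC (res resO res_res res_smul resO_resO app_res res_self resO_self section_eq_of_locally)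
open TMul (IsFrame)

namespace Groth.Agent.S19696

attribute [local instance] Groth.Agent.FinCovTr.secAlg

variable {X : Scheme.{u}} (A : RelSpec.QCAlg X)

/-- The trace of the unit is the rank. -/
theorem trace_one (d : ℕ) (hA : FlatMod.IsFinLocFreeOfRank d A.toModule)
    (τ : A.toModule ⟶ Coh.structureModule X) (hτ : FinCov.IsTrace A τ) (V : X.Opens) :
    τ.app V ((FinCov.strMod A).app V (1 : Γ(X, V))) = (d : Γ(X, V)) := by
  have hA' : FlatMod.IsFinLocFree A.toModule := fun y => let ⟨U, h1, h2⟩ := hA y; ⟨U, d, h1, h2⟩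
  obtain ⟨τ', hτ'⟩ := FinCovTr.exists_trace hA'
  obtain rfl := FinCovTr.eq_of_isTrace hA' hτ (FinCovTr.isTrace_of hA' τ' hτ')
  refine FinCovTr.fn_eq fun x hx => ?_
  obtain ⟨U, e, hxU, he⟩ := CurveRR.exists_frame hA x
  refine ⟨V ⊓ U, inf_le_left, ⟨hx, hxU⟩, ?_⟩
  have h1 : resO X (inf_le_left : V ⊓ U ≤ V) (τ.app V ((FinCov.strMod A).app V (1 : Γ(X, V)))) =
      τ.app (V ⊓ U) ((FinCov.strMod A).app (V ⊓ U) (resO X (inf_le_left : V ⊓ U ≤ V) (1 : Γ(X, V)))) :=
    (app_res τ inf_le_left _).trans (congrArg (τ.app (V ⊓ U)) (app_res (FinCov.strMod A) inf_le_left _))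
  rw [h1, map_one, map_natCast]
  refine (hτ' U (V ⊓ U) ⟨d, e, he⟩ inf_le_right _).trans ?_
  change Algebra.trace Γ(X, V ⊓ U) (FinCovTr.Sec A (V ⊓ U)) (algebraMap Γ(X, V ⊓ U) (FinCovTr.Sec A (V ⊓ U)) 1) = _
  rw [Algebra.trace_algebraMap_of_basis (FinCovTr.basisOf he inf_le_right), Fintype.card_fin, nsmul_one]

theorem composite_app (d : ℕ) (hA : FlatMod.IsFinLocFreeOfRank d A.toModule)
    (τ : A.toModule ⟶ Coh.structureModule X) (hτ : FinCov.IsTrace A τ) (V : X.Opens) (s : Γ(X, V)) :
    (FinCov.strMod A ≫ τ).app V s = s * (d : Γ(X, V)) := by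
  change τ.app V ((FinCov.strMod A).app V s) = _
  have h : (FinCov.strMod A).app V s = s • (FinCov.strMod A).app V (1 : Γ(X, V)) := by
    rw [← Scheme.Modules.Hom.app_smul]
    exact congrArg _ (mul_one s).symm
  rw [h, Scheme.Modules.Hom.app_smul, trace_one A d hA τ hτ]
  rfl

/-- Let X be a scheme, A a quasi-coherent O_X-algebra which is locally free of rank d as an O_X-module,
and τ : A → O_X its trace (the O_X-linear map which over every affine open where A is finite free is
the trace of the regular representation). If d is invertible in O_X(X), then τ is a split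
epimorphism of O_X-modules — so 0 → ker τ → A → O_X → 0 is split exact — and its kernel ker τ is
locally free of rank d − 1 as an O_X-module. -/
theorem result {X : Scheme.{u}}
    (A : RelSpec.QCAlg X) (d : ℕ) (hA : FlatMod.IsFinLocFreeOfRank d A.toModule)
    (τ : A.toModule ⟶ Coh.structureModule X) (hτ : FinCov.IsTrace A τ)
    (hd : IsUnit ((d : Γ(X, ⊤)))) :
    IsSplitEpi τ ∧ FlatMod.IsFinLocFreeOfRank (d - 1) (kernel τ) := by
  have hd' : ∀ V : X.Opens, IsUnit (d : Γ(X, V)) := fun V => by
    simpa only [map_natCast] using hd.map (resO X (le_top : V ≤ ⊤))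
  constructor
  · have : IsIso (FinCov.strMod A ≫ τ) := by
      rw [Scheme.Modules.Hom.isIso_iff_isIso_app]
      intro V
      rw [ConcreteCategory.isIso_iff_bijective]
      obtain ⟨w, hw⟩ := hd' V
      have : ((FinCov.strMod A ≫ τ).app V : Γ(X, V) → Γ(X, V)) = fun s => s * (w : Γ(X, V)) := by
        funext s
        rw [hw]
        exact composite_app A d hA τ hτ V s
      change Function.Bijective ((FinCov.strMod A ≫ τ).app V : Γ(X, V) → Γ(X, V))
      rw [this]
      exact Units.mulRight_bijective w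
    exact IsSplitEpi.mk' ⟨inv (FinCov.strMod A ≫ τ) ≫ FinCov.strMod A, by rw [Category.assoc, IsIso.inv_hom_id]⟩
  · refine W7Strat.isFinLocFreeOfRank_of_frames fun x => ?_
    obtain ⟨U, e, hxU, he⟩ := CurveRR.exists_frame hA x
    obtain ⟨a, ha⟩ := he.comb_surjective le_rfl ((FinCov.strMod A).app U (1 : Γ(X, U)))
    have hsum : ∑ i, a i * (show Γ(X, U) from τ.app U (e i)) = (d : Γ(X, U)) := by
      rw [← trace_one A d hA τ hτ U, ← ha, map_sum]
      refine Finset.sum_congr rfl fun i _ => ?_
      rw [Scheme.Modules.Hom.app_smul, res_self]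
      rfl
    obtain ⟨j, hj⟩ : ∃ j, IsUnit ((X.presheaf.germ U x hxU).hom (τ.app U (e j) : Γ(X, U))) := by
      by_contra hno
      push Not at hno
      have hu := (hd' U).map (X.presheaf.germ U x hxU).hom
      rw [← hsum, map_sum] at hu
      refine (IsLocalRing.mem_maximalIdeal _).1 (Ideal.sum_mem _ fun i _ => ?_) hu
      rw [map_mul]
      exact Ideal.mul_mem_left _ _ ((IsLocalRing.mem_maximalIdeal _).2 (hno i))
    obtain ⟨m, rfl⟩ : ∃ m, d = m + 1 := ⟨d - 1, by have := j.pos; omega⟩
    rw [Nat.add_sub_cancel]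
    obtain ⟨W, hWU, hxW, hju⟩ : ∃ (W : X.Opens) (h : W ≤ U), x ∈ W ∧ IsUnit (resO X h (τ.app U (e j))) :=
      ⟨X.basicOpen (τ.app U (e j) : Γ(X, U)), X.basicOpen_le _,
        (X.mem_basicOpen _ x hxU).2 hj, X.toRingedSpace.isUnit_res_basicOpen _⟩
    obtain ⟨w, hw⟩ := hju
    let c : Fin (m + 1) → Γ(X, W) := fun i => resO X hWU (τ.app U (e i))
    let f : Fin m → Γ(A.toModule, W) := fun k =>
      res A.toModule hWU (e (j.succAbove k)) - (c (j.succAbove k) * (↑w⁻¹ : Γ(X, W))) • res A.toModule hWU (e j)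
    have hc : ∀ i, (τ.app W (res A.toModule hWU (e i)) : Γ(X, W)) = c i := fun i => (app_res τ hWU (e i)).symm
    have hf : ∀ k, τ.app W (f k) = 0 := fun k => by
      rw [map_sub, Scheme.Modules.Hom.app_smul, sub_eq_zero]
      change (τ.app W (res A.toModule hWU (e (j.succAbove k))) : Γ(X, W)) =
        (c (j.succAbove k) * (↑w⁻¹ : Γ(X, W))) * (show Γ(X, W) from τ.app W (res A.toModule hWU (e j)))
      rw [hc, hc, mul_assoc, show c j = (w : Γ(X, W)) from hw.symm, Units.inv_mul, mul_one]
    choose g hg using fun k => (QC.mem_range_kernel_app τ W (f k)).2 (hf k)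
    refine ⟨W, g, hxW, W7Strat.isFrame_of_bijective fun V hV => ?_⟩
    let w' : (Γ(X, V))ˣ := Units.map (resO X hV).toMonoidHom w
    let cV : Fin (m + 1) → Γ(X, V) := fun i => resO X hV (c i)
    let ext : (Fin m → Γ(X, V)) → Fin (m + 1) → Γ(X, V) := fun b =>
      Fin.insertNth j (-∑ k, b k * (cV (j.succAbove k) * (↑w'⁻¹ : Γ(X, V)))) b
    have himg : ∀ b : Fin m → Γ(X, V), (kernel.ι τ).app V (∑ k, b k • res (kernel τ) hV (g k)) =
        ∑ i, ext b i • res A.toModule (hV.trans hWU) (e i) := fun b => by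
      rw [Fin.sum_univ_succAbove _ j, map_sum]
      simp only [ext, Fin.insertNth_apply_same, Fin.insertNth_apply_succAbove, neg_smul, Finset.sum_smul, mul_smul]
      rw [neg_add_eq_sub, ← Finset.sum_sub_distrib]
      refine Finset.sum_congr rfl fun k _ => ?_
      rw [Scheme.Modules.Hom.app_smul, ← app_res, hg, map_sub, res_smul, res_res, res_res, map_mul, smul_sub, mul_smul]
      rfl
    have hτV : ∀ a : Fin (m + 1) → Γ(X, V),
        (τ.app V (∑ i, a i • res A.toModule (hV.trans hWU) (e i)) : Γ(X, V)) = ∑ i, a i * cV i := fun a => by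
      rw [map_sum]
      refine Finset.sum_congr rfl fun i _ => ?_
      rw [Scheme.Modules.Hom.app_smul, ← res_res A.toModule hV hWU]
      change a i * (show Γ(X, V) from τ.app V (res A.toModule hV (res A.toModule hWU (e i)))) = _
      exact congrArg (a i * ·) ((app_res τ hV _).symm.trans (congrArg (resO X hV) (hc i)))
    refine ⟨fun b b' h => funext fun k => ?_, fun t => ?_⟩
    · have h' := congrArg ((kernel.ι τ).app V) h
      rw [himg, himg] at h'
      simpa [ext] using congrFun (he.comb_injective (hV.trans hWU) h') (j.succAbove k)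
    · obtain ⟨a, ha⟩ := he.comb_surjective (hV.trans hWU) ((kernel.ι τ).app V t)
      have h0 : ∑ i, a i * cV i = 0 := by
        rw [← hτV, ha]
        exact (QC.mem_range_kernel_app τ V _).1 ⟨t, rfl⟩
      refine ⟨fun k => a (j.succAbove k), (QC.mono_iff_app_injective (kernel.ι τ)).1 inferInstance V ?_⟩
      rw [himg, ← ha]
      refine Finset.sum_congr rfl fun i _ => congrArg (· • _) ?_
      refine Fin.succAboveCases j (α := fun i => ext (fun k => a (j.succAbove k)) i = a i) ?_ (fun k => ?_) i
      · rw [Fin.sum_univ_succAbove _ j, add_eq_zero_iff_eq_neg] at h0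
        simp only [ext, Fin.insertNth_apply_same]
        have hcj : cV j = (w' : Γ(X, V)) := congrArg (resO X hV) hw.symm
        rw [← mul_one (a j), ← w'.mul_inv, ← mul_assoc, ← hcj, h0, neg_mul, Finset.sum_mul]
        exact congrArg _ (Finset.sum_congr rfl fun k _ => (mul_assoc _ _ _).symm)
      · simp [ext]

end Groth.Agent.S19696
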