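import Groth.Statements.S19695
import Groth.Agent.S19696

set_option autoImplicit false
set_option backward.isDefEq.respectTransparency false
set_option backward.isDefEq.respectTransparency.types false
universe u
open CategoryTheory CategoryTheory.Limits AlgebraicGeometry TopologicalSpace Opposite
open FinCov

namespace Groth.Agent.S19695

/-- Let X be a scheme, A a quasi-coherent O_X-algebra which is locally free of rank d as an O_X-module,
and τ : A → O_X its trace (the O_X-linear map which over every affine open where A is finite free is
the trace of the regular representation). Then the structure map O_X → A followed by τ equals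
multiplication by d on O_X. -/
theorem result {X : Scheme.{u}} (A : RelSpec.QCAlg X) (d : ℕ)
    (hA : FlatMod.IsFinLocFreeOfRank d A.toModule)
    (τ : A.toModule ⟶ Coh.structureModule X) (hτ : FinCov.IsTrace A τ) :
    FinCov.strMod A ≫ τ = d • 𝟙 (Coh.structureModule X) := by
  refine Scheme.Modules.hom_ext _ _ fun V => ?_
  ext s
  refine (S19696.composite_app A d hA τ hτ V s).trans ?_
  have h1 : (d • 𝟙 (Coh.structureModule X)).app V = d • (𝟙 (Coh.structureModule X) : _).app V := map_nsmul (AddMonoidHom.mk' (fun φ : Coh.structureModule X ⟶ Coh.structureModule X => φ.app V) fun _ _ => rfl) _ _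
  rw [h1]
  change _ = d • (show Γ(X, V) from s)
  rw [nsmul_eq_mul, _root_.mul_comm]

end Groth.Agent.S19695
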