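import Groth.Statements.S19697
import Groth.Agent.DblAlgLib.Basic

set_option autoImplicit false
universe u
open CategoryTheory CategoryTheory.Limits AlgebraicGeometry TopologicalSpace Opposite
open FinCov

set_option backward.isDefEq.respectTransparency false
set_option backward.isDefEq.respectTransparency.types false

namespace Groth.Agent.S19697

open Groth.Agent.QC (res resO res_smul)
open Groth.Agent.DblAlgLib

/-- Let X be a scheme, L an invertible O_X-module and m : L ⊗ L → O_X a homomorphism of O_X-modules.
Then there are a quasi-coherent O_X-algebra A and an O_X-linear map j : L → A presenting A as the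
algebra O_X ⊕ L with product (s, l)·(s', l') = (ss' + m(l ⊗ l'), sl' + s'l): over every open subset
U of X, every section of A is uniquely of the form s·1 + j(l) with s a function and l a section of
L, and j(l)·j(l') = m(l ⊗ l')·1. (The classification of double covers is stated for schemes on which
2 is invertible; this construction does not use that assumption, so it is not made here.) -/
theorem result {X : Scheme.{u}} (L : X.Modules) (hL : PicF.IsInvertible L)
    (m : CohB1.tensorMod L L ⟶ Coh.structureModule X) :
    ∃ (A : RelSpec.QCAlg X) (j : L ⟶ A.toModule), FinCov.IsDblAlg L m A j := by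
  let p : L.presheaf ⟶ (alg m hL).toModule.presheaf :=
    { app := fun U => AddCommGrpCat.ofHom (AddMonoidHom.mk'
        (fun l : Γ(L, U.unop) => (⟨0, l⟩ : Dbl m hL U.unop))
        fun a b => Dbl.ext (add_zero _).symm rfl)
      naturality := fun U V i => by
        ext l
        exact Dbl.ext (map_zero _).symm rfl }
  refine ⟨alg m hL, ⟨PresheafOfModules.homMk p fun U r l => ?_⟩, fun U => ?_, fun U l l' => ?_⟩
  · change (⟨0, (show Γ(X, U.unop) from r) • (show Γ(L, U.unop) from l)⟩ : Dbl m hL U.unop) =
      (⟨(show Γ(X, U.unop) from r), 0⟩ : Dbl m hL U.unop) * ⟨0, (show Γ(L, U.unop) from l)⟩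
    exact Dbl.ext (by simp [zero_pair]) (by simp)
  · constructor
    · intro a b hab
      have h : (⟨a.1, 0⟩ : Dbl m hL U) + ⟨0, a.2⟩ = ⟨b.1, 0⟩ + ⟨0, b.2⟩ := hab
      refine Prod.ext ?_ ?_
      · simpa using congrArg Dbl.s h
      · have := congrArg Dbl.l h
        simp at this
        exact this
    · intro c
      refine ⟨((show Dbl m hL U from c).s, (show Dbl m hL U from c).l), ?_⟩
      change (⟨(show Dbl m hL U from c).s, 0⟩ : Dbl m hL U) + ⟨0, (show Dbl m hL U from c).l⟩ = _
      exact Dbl.ext (add_zero _) (zero_add _)
  · change (⟨0, l⟩ : Dbl m hL U) * ⟨0, l'⟩ = ⟨pair m U l l', 0⟩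
    exact Dbl.ext (by simp) (by simp)

end Groth.Agent.S19697
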