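import Groth.Statements.S19699
import Groth.Agent.S19696
import Groth.Agent.TMul.Basic
import Mathlib.LinearAlgebra.Matrix.Charpoly.Coeff

set_option autoImplicit false
set_option backward.isDefEq.respectTransparency false
set_option backward.isDefEq.respectTransparency.types false
set_option maxHeartbeats 1000000
universe u
open CategoryTheory CategoryTheory.Limits AlgebraicGeometry TopologicalSpace Opposite
open FinCov
open Groth.Agent.QC (res resO res_res res_smul resO_resO app_res res_self)
open Groth.Agent.FinCovTr (Sec resA toRing secAlg)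

attribute [local instance] Groth.Agent.FinCovTr.secAlg

namespace Groth.Agent.S19699

theorem sq_of_trace_zero {R S : Type*} [CommRing R] [CommRing S] [Algebra R S]
    (b : Module.Basis (Fin 2) R S) (a : S) (h : Algebra.trace R S a = 0) :
    a * a = algebraMap R S (-(Algebra.leftMulMatrix b a).det) := by
  apply Algebra.leftMulMatrix_injective b
  rw [map_mul, AlgHom.commutes]
  have ht : (Algebra.leftMulMatrix b a).trace = 0 := by rw [← Algebra.trace_eq_matrix_trace b, h]
  rw [Matrix.trace_fin_two] at ht
  have h00 := eq_neg_of_add_eq_zero_left ht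
  ext i j
  fin_cases i <;> fin_cases j <;>
    simp [Matrix.mul_apply, Fin.sum_univ_two, Matrix.det_fin_two, Matrix.algebraMap_matrix_apply, h00] <;> ring

theorem mul_of_trace_zero {R S : Type*} [CommRing R] [CommRing S] [Algebra R S]
    (b : Module.Basis (Fin 2) R S) {t : R} (ht : t * 2 = 1) (a a' : S) (h : Algebra.trace R S a = 0)
    (h' : Algebra.trace R S a' = 0) :
    a * a' = algebraMap R S (t * Algebra.trace R S (a * a')) := by
  have h2 : algebraMap R S t * 2 = 1 := by rw [← map_ofNat (algebraMap R S) 2, ← map_mul, ht, map_one]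
  have key : ∃ r : R, a * a' = algebraMap R S r := by
    refine ⟨t * (-(Algebra.leftMulMatrix b (a + a')).det - (-(Algebra.leftMulMatrix b a).det) - (-(Algebra.leftMulMatrix b a').det)), ?_⟩
    rw [map_mul, map_sub, map_sub, ← sq_of_trace_zero b (a + a') (by rw [map_add, h, h', add_zero]),
      ← sq_of_trace_zero b a h, ← sq_of_trace_zero b a' h']
    linear_combination (-(a * a')) * h2
  obtain ⟨r, hr⟩ := key
  rw [hr, Algebra.trace_algebraMap_of_basis b, Fintype.card_fin, nsmul_eq_mul]
  congr 1
  push_cast
  linear_combination (-r) * ht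

variable {X : Scheme.{u}} {A : RelSpec.QCAlg X} {τ : A.toModule ⟶ Coh.structureModule X}

/-- The ring section of a section of the kernel. -/
noncomputable def inK (τ : A.toModule ⟶ Coh.structureModule X) (U : X.Opens) :
    Γ(kernel τ, U) →ₗ[Γ(X, U)] Sec A U where
  toFun l := toRing A U ((kernel.ι τ).app U l)
  map_add' a b := by rw [map_add, map_add]
  map_smul' r a := by rw [Scheme.Modules.Hom.app_smul, map_smul, RingHom.id_apply]

/-- The trace, as a linear map on ring sections. -/
noncomputable def trL (τ : A.toModule ⟶ Coh.structureModule X) (U : X.Opens) :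
    Sec A U →ₗ[Γ(X, U)] Γ(X, U) where
  toFun a := τ.app U ((toRing A U).symm a)
  map_add' a b := by rw [map_add]; exact map_add _ _ _
  map_smul' r a := by rw [map_smul]; exact Scheme.Modules.Hom.app_smul τ r _

theorem trL_inK (U : X.Opens) (l : Γ(kernel τ, U)) : trL τ U (inK τ U l) = 0 :=
  ((QC.mem_range_kernel_app τ U _).1 ⟨l, rfl⟩ : _)

theorem resA_inK {U V : X.Opens} (hV : V ≤ U) (l : Γ(kernel τ, U)) :
    resA A hV (inK τ U l) = inK τ V (res (kernel τ) hV l) :=
  app_res (kernel.ι τ) hV l

theorem res_trL {U V : X.Opens} (hV : V ≤ U) (a : Sec A U) :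
    resO X hV (trL τ U a) = trL τ V (resA A hV a) :=
  app_res τ hV _

/-- Let X be a scheme with 2 invertible in O_X(X), A a quasi-coherent O_X-algebra which is locally free
of rank 2 as an O_X-module, and τ : A → O_X its trace (the O_X-linear map which over every affine
open where A is finite free is the trace of the regular representation). Then there is a
homomorphism of O_X-modules m : ker τ ⊗ ker τ → O_X such that A, with the inclusion ker τ → A, is
the algebra O_X ⊕ ker τ with product given by m: over every open subset, every section of A is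
uniquely s·1 + l with s a function and l a section of ker τ, and l·l' = m(l ⊗ l')·1 for sections l,
l' of ker τ. -/
theorem result {X : Scheme.{u}} (A : RelSpec.QCAlg X)
    (hA : FlatMod.IsFinLocFreeOfRank 2 A.toModule)
    (τ : A.toModule ⟶ Coh.structureModule X) (hτ : FinCov.IsTrace A τ) (h2 : IsUnit (2 : Γ(X, ⊤))) :
    ∃ m : CohB1.tensorMod (kernel τ) (kernel τ) ⟶ Coh.structureModule X,
      FinCov.IsDblAlg (kernel τ) m A (kernel.ι τ) := by
  classical
  obtain ⟨h, hh⟩ := h2.exists_left_inv
  let t : ∀ U : X.Opens, Γ(X, U) := fun U => resO X (le_top : U ≤ ⊤) h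
  have ht : ∀ U, t U * 2 = 1 := fun U => by
    have := congrArg (resO X (le_top : U ≤ ⊤)) hh
    rwa [map_mul, map_one, map_ofNat] at this
  let B : ∀ U : X.Opens, Γ(kernel τ, U) →ₗ[Γ(X, U)] Γ(kernel τ, U) →ₗ[Γ(X, U)] Γ(Coh.structureModule X, U) :=
    fun U => LinearMap.mk₂ Γ(X, U)
      (fun l l' => (show Γ(Coh.structureModule X, U) from t U * trL τ U (inK τ U l * inK τ U l')))
      (fun a b c => by
        change t U * _ = t U * _ + t U * _
        rw [map_add, add_mul, map_add, mul_add])
      (fun r a c => by
        change t U * _ = r * (t U * _)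
        rw [map_smul, smul_mul_assoc, map_smul, smul_eq_mul]
        ring)
      (fun a b c => by
        change t U * _ = t U * _ + t U * _
        rw [map_add, mul_add, map_add, mul_add])
      (fun r a c => by
        change t U * _ = r * (t U * _)
        rw [map_smul, mul_smul_comm, map_smul, smul_eq_mul]
        ring)
  have hB : ∀ {V U : X.Opens} (hV : V ≤ U) (l l' : Γ(kernel τ, U)),
      res (Coh.structureModule X) hV (B U l l') = B V (res (kernel τ) hV l) (res (kernel τ) hV l') := by
    intro V U hV l l'
    change resO X hV (t U * trL τ U (inK τ U l * inK τ U l')) = t V * trL τ V (inK τ V _ * inK τ V _)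
    rw [map_mul, res_trL, map_mul, resA_inK, resA_inK, resO_resO]
  refine ⟨TMul.lift B hB, fun U => ⟨?_, ?_⟩, fun U l l' => ?_⟩
  · rintro ⟨s, l⟩ ⟨s', l'⟩ he
    have he' : algebraMap Γ(X, U) (Sec A U) s + inK τ U l = algebraMap Γ(X, U) (Sec A U) s' + inK τ U l' := he
    have h1 : ∀ s : Γ(X, U), trL τ U (algebraMap Γ(X, U) (Sec A U) s) = s * ((2 : ℕ) : Γ(X, U)) := fun s =>
      S19696.composite_app A 2 hA τ hτ U s
    have h3 := congrArg (trL τ U) he'
    rw [map_add, map_add, trL_inK, trL_inK, add_zero, add_zero, h1, h1] at h3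
    obtain rfl : s = s' := (IsUnit.mul_left_inj (IsUnit.of_mul_eq_one_right (t U) (by push_cast; exact ht U))).1 h3
    exact Prod.ext rfl (QC.app_injective_of_mono (kernel.ι τ) U ((toRing A U).injective (add_left_cancel he')))
  · intro a
    have h1 : ∀ s : Γ(X, U), trL τ U (algebraMap Γ(X, U) (Sec A U) s) = s * ((2 : ℕ) : Γ(X, U)) := fun s =>
      S19696.composite_app A 2 hA τ hτ U s
    let s : Γ(X, U) := t U * trL τ U a
    have hk : trL τ U (a - algebraMap Γ(X, U) (Sec A U) s) = 0 := by
      rw [map_sub, h1]
      push_cast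
      linear_combination (-(trL τ U a)) * ht U
    obtain ⟨l, hl⟩ := (QC.mem_range_kernel_app τ U ((toRing A U).symm (a - algebraMap Γ(X, U) (Sec A U) s))).2 hk
    refine ⟨(s, l), ?_⟩
    change algebraMap Γ(X, U) (Sec A U) s + toRing A U ((kernel.ι τ).app U l) = a
    rw [hl, LinearEquiv.apply_symm_apply]
    ring
  · change inK τ U l * inK τ U l' = algebraMap Γ(X, U) (Sec A U) ((TMul.lift B hB).app U (TMul.tm l l'))
    rw [TMul.lift_tm]
    change inK τ U l * inK τ U l' = algebraMap Γ(X, U) (Sec A U) (t U * trL τ U (inK τ U l * inK τ U l'))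
    refine QC.section_eq_of_locally (M := A.toModule) fun x hx => ?_
    obtain ⟨V, e, hxV, he⟩ := CurveRR.exists_frame hA x
    obtain ⟨D, hD, hxD, hDle⟩ := exists_isAffineOpen_mem_and_subset (show x ∈ U ⊓ V from ⟨hx, hxV⟩)
    have hDU : D ≤ U := fun z hz => (hDle hz).1
    have hDV : D ≤ V := fun z hz => (hDle hz).2
    refine ⟨D, hDU, hxD, ?_⟩
    obtain ⟨hf, hfi⟩ := FinCovTr.finite_free he hDV
    have hstr : ∀ r : Γ(X, U), resA A hDU (algebraMap Γ(X, U) (Sec A U) r) =
        algebraMap Γ(X, D) (Sec A D) (resO X hDU r) := fun r => app_res (FinCov.strMod A) hDU r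
    have htr : ∀ a : Sec A D, trL τ D a = Algebra.trace Γ(X, D) (Sec A D) a := fun a => hτ D hD hf hfi a
    change resA A hDU _ = resA A hDU _
    rw [map_mul (resA A hDU), hstr, map_mul (resO X hDU), resO_resO, res_trL, map_mul (resA A hDU), resA_inK,
      resA_inK, htr]
    exact mul_of_trace_zero (FinCovTr.basisOf he hDV) (ht D) _ _ ((htr _).symm.trans (trL_inK D _))
      ((htr _).symm.trans (trL_inK D _))

end Groth.Agent.S19699
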