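import Groth.Statements.S1970
import Groth.Agent.WEtField.Basic

set_option autoImplicit false
set_option backward.isDefEq.respectTransparency false
set_option backward.isDefEq.respectTransparency.types false
set_option linter.style.haveILetI false
set_option synthInstance.maxHeartbeats 200000
universe u
open EtAlg

namespace Groth.Agent.S1970

/-- Over a field K, every K-subalgebra and every quotient K-algebra of a weakly etale K-algebra is again
weakly etale over K. -/
theorem result (K : Type u) [Field K] (B : Type u) [CommRing B] [Algebra K B]
    [Algebra.WeaklyEtale K B] :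
    (∀ S : Subalgebra K B, Algebra.WeaklyEtale K S) ∧ ∀ I : Ideal B, Algebra.WeaklyEtale K (B ⧸ I) := by
  refine ⟨fun S => Groth.Agent.WEtField.weaklyEtale_of_forall fun x =>
    (Groth.Agent.WEtField.isSepElem_subalgebra S x).mpr (Groth.Agent.WEtField.isSepElem_of_weaklyEtale _),
    fun I => Groth.Agent.WEtField.weaklyEtale_of_forall fun x => ?_⟩
  obtain ⟨b, rfl⟩ := Ideal.Quotient.mkₐ_surjective K I x
  exact (Groth.Agent.WEtField.isSepElem_of_weaklyEtale b).map _

end Groth.Agent.S1970
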