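import Groth.Statements.S19700
import Groth.Agent.DblAlgLib.Frame
import Groth.Agent.S19696

set_option autoImplicit false
set_option backward.isDefEq.respectTransparency false
set_option backward.isDefEq.respectTransparency.types false
universe u
open CategoryTheory CategoryTheory.Limits AlgebraicGeometry TopologicalSpace Opposite
open FinCov

namespace Groth.Agent.S19700

/-- Let X be a scheme with 2 invertible in O_X(X), L an invertible O_X-module, m : L ⊗ L → O_X a
homomorphism of O_X-modules, (A, j : L → A) a quasi-coherent O_X-algebra presented as O_X ⊕ L with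
product given by m (every section of A is uniquely s·1 + j(l), and j(l)·j(l') = m(l ⊗ l')·1), and τ
: A → O_X the trace of A (the O_X-linear map which over every affine open where A is finite free is
the trace of the regular representation; A is locally free of rank 2 here). Then for every open
subset U of X and every section a of A over U, τ(a) = 0 if and only if a lies in the image of j over
U: the kernel of the trace is exactly j(L). -/
theorem result {X : Scheme.{u}} (L : X.Modules) (hL : PicF.IsInvertible L)
    (m : CohB1.tensorMod L L ⟶ Coh.structureModule X) (A : RelSpec.QCAlg X) (j : L ⟶ A.toModule)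
    (h : FinCov.IsDblAlg L m A j) (h2 : IsUnit (2 : Γ(X, ⊤)))
    (τ : A.toModule ⟶ Coh.structureModule X) (hτ : FinCov.IsTrace A τ)
    (U : X.Opens) (a : A.toModule.val.obj (op U)) :
    (τ.val.app (op U)).hom a = 0 ↔ a ∈ Set.range (j.val.app (op U)).hom := by
  constructor
  · intro ha
    obtain ⟨⟨s, l⟩, rfl⟩ := (h.1 U).2 a
    refine ⟨l, ?_⟩
    have hs : τ.app U ((FinCov.strMod A).app U s + j.app U l) = s * ((2 : ℕ) : Γ(X, U)) := by
      rw [map_add]
      exact (congrArg₂ (· + ·) (S19696.composite_app A 2 (DblAlgLib.isFinLocFreeOfRank_two hL h) τ hτ U s)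
        (DblAlgLib.trace_j_eq_zero hL h hτ U l)).trans (add_zero _)
    have hu : IsUnit ((2 : ℕ) : Γ(X, U)) := by
      have := h2.map (QC.resO X (le_top : U ≤ ⊤))
      rwa [map_ofNat] at this
    obtain rfl : s = 0 := hu.mul_left_eq_zero.mp (hs.symm.trans ha)
    change j.app U l = (FinCov.strMod A).app U (0 : Γ(X, U)) + j.app U l
    rw [map_zero, zero_add]
  · rintro ⟨l, rfl⟩
    exact DblAlgLib.trace_j_eq_zero hL h hτ U l

end Groth.Agent.S19700
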