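import Groth.Statements.S19703
import Mathlib
import Groth.Agent.S14578
import Groth.Agent.GrpField.SchImgExists
import Groth.Agent.ClosedRep.Over

set_option autoImplicit false
universe u
open CategoryTheory MonoidalCategory CartesianMonoidalCategory MonObj GrpObj AlgebraicGeometry CategoryTheory.Limits
open AlgGrp

namespace Groth.Agent.S19703

/-- Let k be a field, G an anti-affine algebraic group over k (smooth, of finite type, with O(G) = k), H
a connected k-group scheme of finite type and j : M → H its largest anti-affine closed subgroup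
scheme H_ant (O(M) = k and every anti-affine closed subgroup scheme of H factors through M). Then
every morphism of k-schemes f : G → H with f(e_G) = e_H factors through H_ant. -/
theorem result (k : Type u) [Field k]
    (G H : Over (Spec (CommRingCat.of k))) [GrpObj G] [Smooth G.hom] [QuasiCompact G.hom]
    (hG : Function.Bijective ((Scheme.ΓSpecIso (CommRingCat.of k)).inv ≫ G.hom.appTop).hom)
    [GrpObj H] [LocallyOfFiniteType H.hom] [QuasiCompact H.hom] [ConnectedSpace ↥H.left]
    (M : Over (Spec (CommRingCat.of k))) [GrpObj M] [LocallyOfFiniteType M.hom] [QuasiCompact M.hom] (j : M ⟶ H) [IsMonHom j] [IsClosedImmersion j.left]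
    (hM : Function.Bijective ((Scheme.ΓSpecIso (CommRingCat.of k)).inv ≫ M.hom.appTop).hom)
    (hMmax : ∀ (M₁ : Over (Spec (CommRingCat.of k))) [GrpObj M₁] [LocallyOfFiniteType M₁.hom] [QuasiCompact M₁.hom] (j₁ : M₁ ⟶ H) [IsMonHom j₁] [IsClosedImmersion j₁.left],
      Function.Bijective ((Scheme.ΓSpecIso (CommRingCat.of k)).inv ≫ M₁.hom.appTop).hom → ∃ g : M₁ ⟶ M, g ≫ j = j₁)
    (f : G ⟶ H) (hf : η[G] ≫ f = η[H]) :
    ∃ g : G ⟶ M, g ≫ j = f := by
  haveI : IsSeparated H.hom := Groth.Agent.ClosedRep.isSeparated_of_field k H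
  haveI : IsMonHom f := Groth.Agent.S14578.result k G H hG f hf
  haveI : QuasiCompact f.left := by
    haveI : QuasiCompact (f.left ≫ H.hom) := by rw [Over.w]; infer_instance
    exact QuasiCompact.of_comp f.left H.hom
  obtain ⟨K, hK, i, g, hi, hg, hgi, hic, hgd, hgq, hgs⟩ := Groth.Agent.GrpField.SchImg.exists_image f
  haveI : LocallyOfFiniteType K.hom := by rw [← Over.w i]; infer_instance
  haveI : QuasiCompact K.hom := by rw [← Over.w i]; infer_instance
  have hconst : Function.Bijective ((Scheme.ΓSpecIso (CommRingCat.of k)).inv ≫ K.hom.appTop).hom := by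
    have hinj : Function.Injective g.left.appTop.hom := g.left.app_injective ⊤
    have hcomp : ∀ c, g.left.appTop.hom (((Scheme.ΓSpecIso (CommRingCat.of k)).inv ≫ K.hom.appTop).hom c) =
        ((Scheme.ΓSpecIso (CommRingCat.of k)).inv ≫ G.hom.appTop).hom c := by
      intro c
      rw [← Over.w g, Scheme.Hom.comp_appTop]
      rfl
    refine ⟨fun a b h => hG.1 ?_, fun v => ?_⟩
    · rw [← hcomp, ← hcomp, h]
    · obtain ⟨c, hc⟩ := hG.2 (g.left.appTop.hom v)
      exact ⟨c, hinj ((hcomp c).trans hc)⟩
  obtain ⟨m, hm⟩ := hMmax K i hconst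
  exact ⟨g ≫ m, by rw [Category.assoc, hm, hgi]⟩

end Groth.Agent.S19703
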