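import Groth.Statements.S1971
import Mathlib
import Groth.Agent.Hensel.PairEnvelopeStage
-- import your own Groth.Agent.* helpers here

set_option autoImplicit false
universe u
open EtAlg

namespace Groth.Agent.S1971

/-- Let A be a ring with ideals I and J having the same zero locus in Spec A. Then an A-algebra is a
henselization of the pair (A, I) if and only if it is a henselization of the pair (A, J). -/
theorem result (A : Type u) [CommRing A] (I J : Ideal A)
    (h : PrimeSpectrum.zeroLocus (I : Set A) = PrimeSpectrum.zeroLocus (J : Set A)) (B : Type u) [CommRing B] [Algebra A B] :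
    Hens2.IsPairHenselization A I B ↔ Hens2.IsPairHenselization A J B := by
  have hr : I.radical = J.radical := by
    rw [← PrimeSpectrum.vanishingIdeal_zeroLocus_eq_radical, h, PrimeSpectrum.vanishingIdeal_zeroLocus_eq_radical]
  suffices key : ∀ K L : Ideal A, K.radical = L.radical → Hens2.IsPairHenselization A K B →
      Hens2.IsPairHenselization A L B from ⟨key I J hr, key J I hr.symm⟩
  intro K L hKL hK
  refine ⟨?_, fun C _ M f hM hf => ?_⟩
  · refine (Groth.Agent.Hensel.henselianRing_iff_of_radical ?_).1 hK.1
    apply le_antisymm <;> rw [Ideal.radical_le_radical_iff]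
    · exact (Ideal.map_mono (Ideal.le_radical.trans hKL.le)).trans (Ideal.map_radical_le _)
    · exact (Ideal.map_mono (Ideal.le_radical.trans hKL.ge)).trans (Ideal.map_radical_le _)
  · refine hK.2 C M.radical f ((Groth.Agent.Hensel.henselianRing_iff_of_radical (Ideal.radical_idem M).symm).1 hM) ?_
    exact (Ideal.map_mono (Ideal.le_radical.trans hKL.le)).trans ((Ideal.map_radical_le f).trans
      (Ideal.radical_mono hf))

end Groth.Agent.S1971
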