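import Groth.Statements.S19710
import Groth.Agent.FunFld.LimSer.Chain

set_option autoImplicit false
open FunFld

namespace Groth.Agent.S19710

/-- Let `k` be an algebraically closed field of characteristic zero. A `g^r_d` on a function field `K/k`
of one variable is a divisor `D` of degree `d` with a subspace `V ⊆ L(D)` of dimension `r + 1`;
`V(-nP) = V ∩ L(D - nP)`, and the `i`-th vanishing order `m_i(V, P)` (`m_0 < ⋯ < m_r`) equals `m`
exactly when `dim V(-mP) = r + 1 - i` and `dim V(-(m+1)P) = r - i`. Let `K_Y` have genus `0` and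
carry a `g^r_d` `(D_Y, V_Y)` with at least a cusp at a place `Q_Y` (`dim V_Y(-2Q_Y) ≥ r`); let
`(D_Z, V_Z)` be a `g^r_d` on a second function field `K_Z`, compatible with `(D_Y, V_Y)` at a node
formed by a place `P ≠ Q_Y` of `K_Y` and a place `Q` of `K_Z` (`dim V_Y(-nP) + dim V_Z(-(d+1-n)Q) =
r + 1` for `0 ≤ n ≤ d + 1`), and let `P'` be a place of `K_Y` different from `P` and from `Q_Y`.
Then `m_i(V_Y, P') < m_i(V_Z, Q)` for all but at most one index: the set of `i ≤ r` for which the
`i`-th vanishing order of `V_Y` at `P'` equals the `i`-th vanishing order of `V_Z` at `Q` has at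
most one element. (In the source `Q_Y` is the point where the rational component `Y` meets a chain
of curves ending in a curve of positive genus, which forces the cusp condition assumed here; the
source works over the complex numbers.) -/
theorem result
    (k : Type*) [Field k] [IsAlgClosed k] [CharZero k]
    (KY : Type*) [Field KY] [Algebra k KY] (hKY : FunFld.IsFunctionField k KY) (hg0 : FunFld.genus k KY = 0)
    (KZ : Type*) [Field KZ] [Algebra k KZ] (hKZ : FunFld.IsFunctionField k KZ)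
    (d r : ℕ) (DY : FunFld.Divisor k KY) (hDY : DY.deg = d) (DZ : FunFld.Divisor k KZ) (hDZ : DZ.deg = d)
    (VY : Submodule k KY) (hVY : VY ≤ FunFld.L DY) (hVYr : Module.finrank k ↥VY = r + 1)
    (VZ : Submodule k KZ) (hVZ : VZ ≤ FunFld.L DZ) (hVZr : Module.finrank k ↥VZ = r + 1)
    (QY : FunFld.Place k KY) (hcusp : r ≤ Module.finrank k ↥(VY ⊓ FunFld.L (DY - Finsupp.single QY ((2 : ℤ)))))
    (P : FunFld.Place k KY) (hP : P ≠ QY) (Q : FunFld.Place k KZ)
    (hcomp : ∀ n : ℕ, n ≤ d + 1 →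
      Module.finrank k ↥(VY ⊓ FunFld.L (DY - Finsupp.single P ((n : ℤ)))) + Module.finrank k ↥(VZ ⊓ FunFld.L (DZ - Finsupp.single Q ((d : ℤ) + 1 - n))) = r + 1)
    (P' : FunFld.Place k KY) (hP'P : P' ≠ P) (hP'Q : P' ≠ QY) :
    {i : ℕ | i ≤ r ∧ ∃ m : ℕ,
        Module.finrank k ↥(VY ⊓ FunFld.L (DY - Finsupp.single P' ((m : ℤ)))) = r + 1 - i ∧
        Module.finrank k ↥(VY ⊓ FunFld.L (DY - Finsupp.single P' ((m : ℤ) + 1))) = r - i ∧
        Module.finrank k ↥(VZ ⊓ FunFld.L (DZ - Finsupp.single Q ((m : ℤ)))) = r + 1 - i ∧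
        Module.finrank k ↥(VZ ⊓ FunFld.L (DZ - Finsupp.single Q ((m : ℤ) + 1))) = r - i}.Subsingleton := by
  open Groth.Agent.FunFld in
  classical
  intro i ⟨hi, m, a1, a2, a3, a4⟩ i' ⟨hi', m', b1, b2, b3, b4⟩
  have main : ∀ (i m : ℕ), i ≤ r →
      av DY VY P' (m : ℤ) = r + 1 - i → av DZ VZ Q ((m : ℤ) + 1) = r - i →
      m ≤ d ∧ ∃ f ∈ VY, f ≠ 0 ∧ P'.ord f + DY P' = m ∧
        ∀ S, S ≠ P → S ≠ P' → (FunFld.div k f + DY) S = 0 := by
    intro i m hi e1 e2
    have hm : m ≤ d := by
      by_contra h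
      rw [av_eq_zero hKY hVY hDY P' (by omega)] at e1
      omega
    have hc := hcomp (d - m) (by omega)
    rw [show (d : ℤ) + 1 - ((d - m : ℕ) : ℤ) = (m : ℤ) + 1 by omega] at hc
    have h := av_add_le hKY hVY P' P hP'P (m : ℤ) ((d - m : ℕ) : ℤ)
    simp only [av] at e1 e2 h
    set E := DY - Finsupp.single P' (m : ℤ) - Finsupp.single P ((d - m : ℕ) : ℤ) with hE
    obtain ⟨f, hf, hf0⟩ := Submodule.exists_mem_ne_zero_of_ne_bot
      (p := VY ⊓ FunFld.L E) (fun e => by rw [e, finrank_bot, hVYr] at h; omega)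
    have hpos : 0 ≤ E + FunFld.div k f := fun S => by
      have := hf.2 S
      rw [le_exp_iff S hf0] at this
      simp only [Finsupp.add_apply, div_apply hKY, Finsupp.coe_zero, Pi.zero_apply]
      omega
    have hdeg : (E + FunFld.div k f).deg = 0 := by
      rw [deg_add, deg_div hKY, hE, deg_sub, deg_sub, hDY, deg_single, deg_single, deg_eq_one hKY, deg_eq_one hKY]
      push_cast; omega
    have e0 := (deg_eq_zero_iff hKY hpos).1 hdeg
    refine ⟨hm, f, hf.1, hf0, ?_, fun S h1 h2 => ?_⟩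
    · have := DFunLike.congr_fun e0 P'
      simp only [hE, Finsupp.add_apply, Finsupp.sub_apply, div_apply hKY, Finsupp.single_eq_same,
        Finsupp.single_eq_of_ne hP'P, Finsupp.coe_zero, Pi.zero_apply] at this
      omega
    · have := DFunLike.congr_fun e0 S
      simp only [hE, Finsupp.add_apply, Finsupp.sub_apply, div_apply hKY, Finsupp.single_eq_of_ne h1,
        Finsupp.single_eq_of_ne h2, Finsupp.coe_zero, Pi.zero_apply, sub_zero] at this ⊢
      omega
  obtain ⟨-, f, hf, hf0, hfo, hfs⟩ := main i m hi a1 a4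
  obtain ⟨-, g, hg, hgne, hgo, hgs⟩ := main i' m' hi' b1 b4
  obtain ⟨c, hcg⟩ := eq_smul_of_two_points hKY hg0 hVY hDY hVYr hP hP'Q hcusp hf hg hf0 hgne hfs hgs
  have hc0 : c ≠ 0 := fun e => hgne (by rw [hcg, e, zero_smul])
  have hord : P'.ord g = P'.ord f := by
    rw [hcg, Algebra.smul_def, ord_mul P' ((map_ne_zero _).2 hc0) hf0, ord_algebraMap, zero_add]
  have hmm : m = m' := by omega
  subst hmm
  omega

end Groth.Agent.S19710
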