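import Groth.Statements.S19711
import Mathlib

set_option autoImplicit false
universe u
open CategoryTheory
open Coh

namespace Groth.Agent.S19711


section helpers

lemma exists_good_element {A : Type u} [CommRing A] [IsNoetherianRing A] [IsDomain A]
    {M : Type u} [AddCommGroup M] [Module A M] [Module.Finite A M] (N : Submodule A M) :
    ∃ f : A, f ≠ 0 ∧ ∀ (u : Ideal A), f ∉ u → u.IsPrime → ∀ x ∈ N,
      x ∈ u • (⊤ : Submodule A M) → ∃ t ∉ u, t • x ∈ u • N := by
  haveI : Module.FinitePresentation A (M ⧸ N) := Module.finitePresentation_of_finite A (M ⧸ N)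
  haveI : Module.Free (FractionRing A) (LocalizedModule (nonZeroDivisors A) (M ⧸ N)) := inferInstance
  obtain ⟨f, hfS, hfree, -⟩ := Module.FinitePresentation.exists_free_localizedModule_powers
    (nonZeroDivisors A) (LocalizedModule.mkLinearMap (nonZeroDivisors A) (M ⧸ N)) (FractionRing A)
  let S := Submonoid.powers f
  let φM := LocalizedModule.mkLinearMap S M
  let φQ := LocalizedModule.mkLinearMap S (M ⧸ N)
  let πf : LocalizedModule S M →ₗ[Localization S] LocalizedModule S (M ⧸ N) :=
    LocalizedModule.map S N.mkQ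
  have hsurj : Function.Surjective πf :=
    LocalizedModule.map_surjective S N.mkQ N.mkQ_surjective
  obtain ⟨σ, hσ⟩ := Module.projective_lifting_property πf LinearMap.id hsurj
  obtain ⟨h, s, hs⟩ := Module.FinitePresentation.exists_lift_of_isLocalizedModule S φM
    ((σ.restrictScalars A).comp φQ)
  have key : ∀ y : M, ∃ c : S, (c : A) • ((s : A) • y - h (N.mkQ y)) ∈ N := by
    intro y
    have h1 : φM (h (N.mkQ y)) = (s : A) • σ (φQ (N.mkQ y)) := LinearMap.congr_fun hs (N.mkQ y)
    have h2 : ∀ z : M, πf (φM z) = φQ (N.mkQ z) := fun z =>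
      LocalizedModule.map_mk S N.mkQ z 1
    have h3 : φQ (N.mkQ ((s : A) • y - h (N.mkQ y))) = 0 := by
      rw [← h2, map_sub, map_sub, map_smul, h1, LinearMap.map_smul_of_tower,
        LinearMap.map_smul_of_tower, h2]
      rw [show πf (σ (φQ (N.mkQ y))) = φQ (N.mkQ y) from LinearMap.congr_fun hσ _, sub_self]
    obtain ⟨c, hc⟩ := (IsLocalizedModule.eq_zero_iff S φQ).1 h3
    refine ⟨c, ?_⟩
    rw [← Submodule.Quotient.mk_eq_zero, Submodule.Quotient.mk_smul]
    exact hc
  refine ⟨f, nonZeroDivisors.ne_zero hfS, fun u hfu hu x hx hxu => ?_⟩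
  have hS : ∀ c : S, (c : A) ∉ u := fun c hc => by
    obtain ⟨m, hm⟩ := c.2
    exact hfu (hu.mem_of_pow_mem m ((congrArg (· ∈ u) hm.symm).mp hc))
  have main : ∀ z ∈ u • (⊤ : Submodule A M), ∃ c : S,
      (c : A) • ((s : A) • z - h (N.mkQ z)) ∈ u • N := by
    intro z hz
    refine Submodule.smul_induction_on hz (fun a ha y _ => ?_) (fun z w hz hw => ?_)
    · obtain ⟨c, hc⟩ := key y
      refine ⟨c, ?_⟩
      have e : (c : A) • ((s : A) • a • y - h (N.mkQ (a • y))) =
          a • ((c : A) • ((s : A) • y - h (N.mkQ y))) := by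
        rw [map_smul, map_smul, smul_comm (s : A) a, ← smul_sub, smul_comm]
      rw [e]
      exact Submodule.smul_mem_smul ha hc
    · obtain ⟨c, hc⟩ := hz
      obtain ⟨d, hd⟩ := hw
      refine ⟨c * d, ?_⟩
      have e : ((c * d : S) : A) • ((s : A) • (z + w) - h (N.mkQ (z + w))) =
          (d : A) • ((c : A) • ((s : A) • z - h (N.mkQ z))) +
            (c : A) • ((d : A) • ((s : A) • w - h (N.mkQ w))) := by
        rw [map_add, map_add, smul_add, Submonoid.coe_mul]
        module
      rw [e]
      exact add_mem (Submodule.smul_mem _ _ hc) (Submodule.smul_mem _ _ hd)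
  obtain ⟨c, hc⟩ := main x hxu
  refine ⟨(c : A) * (s : A), fun h' => (hu.mem_or_mem h').elim (hS c) (hS s), ?_⟩
  have h0 : N.mkQ x = 0 := (Submodule.Quotient.mk_eq_zero N).2 hx
  rw [h0, map_zero, sub_zero, smul_smul] at hc
  exact hc

end helpers

/-- Let A be a Noetherian integral domain and F an A-linear additive functor from A-modules to A-modules
with F(A) a finitely generated A-module. Call such a functor generically injective when there is a
dense open subset U of Spec A such that for every point u of U whose residue field κ(u) is a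
finitely generated A-algebra the comparison map F(A) ⊗_A κ(u) → F(κ(u)) is injective; since F is
A-linear this injectivity says: every m in F(A) whose image under F(A → κ(u)) vanishes satisfies s·m
∈ u·F(A) for some s outside u. If F is generically injective then so is every A-linear additive
subfunctor K ⊆ F (a natural transformation K → F with injective components). (The published
statement is over a reduced Noetherian affine scheme, for additive functors on quasi-coherent
sheaves with values in abelian groups and the induced A-action, assumes F weakly bounded (F(A/p)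
finitely generated for every prime ideal p) and also records that K is again weakly bounded; only
the finite generation of F(A), which its argument uses, is assumed here, and the integral case with
A-linear functors stated here is the one its argument by generic flatness treats.) -/
theorem result {A : Type u} [CommRing A] [IsNoetherianRing A] [IsDomain A]
    (F K : ModuleCat.{u} A ⥤ ModuleCat.{u} A) [F.Additive] [F.Linear A] [K.Additive] [K.Linear A]
    (ι : K ⟶ F) (hι : ∀ X : ModuleCat.{u} A, Function.Injective (ι.app X).hom)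
    (hfin : Module.Finite A (F.obj (ModuleCat.of A A)))
    (hGI : ∃ U : Set (PrimeSpectrum A), IsOpen U ∧ Dense U ∧ ∀ u ∈ U, Algebra.FiniteType A u.asIdeal.ResidueField →
        ∀ m : F.obj (ModuleCat.of A A),
          (F.map (ModuleCat.ofHom (Algebra.linearMap A u.asIdeal.ResidueField))).hom m = 0 →
            ∃ s ∉ u.asIdeal, s • m ∈ u.asIdeal • (⊤ : Submodule A (F.obj (ModuleCat.of A A)))) :
    ∃ U : Set (PrimeSpectrum A), IsOpen U ∧ Dense U ∧ ∀ u ∈ U, Algebra.FiniteType A u.asIdeal.ResidueField →
        ∀ m : K.obj (ModuleCat.of A A),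
          (K.map (ModuleCat.ofHom (Algebra.linearMap A u.asIdeal.ResidueField))).hom m = 0 →
            ∃ s ∉ u.asIdeal, s • m ∈ u.asIdeal • (⊤ : Submodule A (K.obj (ModuleCat.of A A))) := by
  obtain ⟨U, hUo, hUd, hU⟩ := hGI
  let i := (ι.app (ModuleCat.of A A)).hom
  obtain ⟨f, hf0, hf⟩ := exists_good_element (LinearMap.range i)
  let D : Set (PrimeSpectrum A) := {u | f ∉ u.asIdeal}
  have hDo : IsOpen D := (PrimeSpectrum.basicOpen f).2
  have hDd : Dense D := hDo.dense ⟨⟨⊥, Ideal.isPrime_bot⟩, fun h => hf0 ((Submodule.mem_bot A).1 h)⟩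
  refine ⟨U ∩ D, hUo.inter hDo, hUd.inter_of_isOpen_left hDd hUo, ?_⟩
  rintro u ⟨huU, huD⟩ hft m hm
  have h1 : (F.map (ModuleCat.ofHom (Algebra.linearMap A u.asIdeal.ResidueField))).hom (i m) = 0 := by
    show ((ι.app (ModuleCat.of A A)) ≫
      F.map (ModuleCat.ofHom (Algebra.linearMap A u.asIdeal.ResidueField))).hom m = 0
    rw [← ι.naturality, ModuleCat.hom_comp, LinearMap.comp_apply, hm, map_zero]
  obtain ⟨s, hs, hsm⟩ := hU u huU hft (i m) h1
  obtain ⟨t, ht, htm⟩ := hf u.asIdeal huD u.2 (s • i m)
    (Submodule.smul_mem _ _ ⟨m, rfl⟩) hsm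
  refine ⟨t * s, fun h => (u.2.mem_or_mem h).elim ht hs, ?_⟩
  rw [← Submodule.map_top i, ← Submodule.map_smul''] at htm
  obtain ⟨z, hz, hzi⟩ := htm
  have : z = (t * s) • m := hι _ (by rw [show (ι.app (ModuleCat.of A A)).hom z = _ from hzi, map_smul, mul_smul])
  exact this ▸ hz

end Groth.Agent.S19711
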