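import Groth.Statements.S19717
import Groth.Agent.FppfModDesc.Gerbe

set_option autoImplicit false
set_option backward.isDefEq.respectTransparency false
set_option backward.isDefEq.respectTransparency.types false
universe u
open TwSh

namespace Groth.Agent.S19717

open CategoryTheory AlgebraicGeometry in
/-- Second assertion: let π : 𝒳 → 𝒴 be an fppf A-gerbe of algebraic stacks, for a presheaf of groups A
on schemes over S acting through the inertia of 𝒳, and let G be a quasi-coherent module on 𝒴. Then G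
is of finite type if and only if its inverse image along π is; likewise for finite presentation, and
for being locally free of finite type. (The published statement is for all modules on a gerbe over a
locally ringed site and for any property preserved by pullback along morphisms of sites, naming also
quasi-coherence, flatness and local freeness; this row is its quasi-coherent form for the three
properties named, local freeness being taken together with finite type.) -/
theorem result (S : Scheme.{u}) (𝒳 𝒴 : AlgSt.Cat S) (h𝒳 : AlgSt.IsAlgStack Scheme.fppfPrecoverage 𝒳) (h𝒴 : AlgSt.IsAlgStack Scheme.fppfPrecoverage 𝒴) (A : (Over S)ᵒᵖ ⥤ GrpCat.{u}) (π : 𝒳 ⥤ᵇ 𝒴) (ι : TwSh.BandHom 𝒳 A) (hπ : TwSh.IsBandedGerbe (QuotSh.J Scheme.fppfPrecoverage S) π ι) (G : StMod.QCoh 𝒴) : (G.obj.IsFinType ↔ ((StMod.comapQ π).obj G).obj.IsFinType) ∧ (G.obj.IsFinPres ↔ ((StMod.comapQ π).obj G).obj.IsFinPres) ∧ ((G.obj.IsLocFree ∧ G.obj.IsFinType) ↔ (((StMod.comapQ π).obj G).obj.IsLocFree ∧ ((StMod.comapQ π).obj G).obj.IsFinType))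 := by
  have hloc := hπ.1.1
  refine ⟨⟨fun h x => (FppfModDesc.castMod_prop (P := @CohB1.IsFT) _ _).mpr (h (π.obj x)), fun h => ?_⟩,
    ⟨fun h x => (FppfModDesc.castMod_prop (P := @CohB1.IsFP) _ _).mpr (h (π.obj x)), fun h => ?_⟩, ?_⟩
  · exact fun y => FppfModDesc.prop_of_locSurjObj @CohB1.IsFT
      (fun e hM => QC.isFT_iff_exists_hasFinGen.mpr fun z => by
        obtain ⟨U, hz, hU⟩ := QC.isFT_iff_exists_hasFinGen.mp hM z
        exact ⟨U, hz, hU.of_epi e.hom⟩)
      (fun hF hR hh => FppfModDesc.isFT_of_cover hF hR hh) π hloc G h y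
  · exact fun y => FppfModDesc.prop_of_locSurjObj @CohB1.IsFP
      (fun e hM => QC.isFP_iff_exists_hasFinPres.mpr fun z => by
        obtain ⟨U, hz, P, hP⟩ := QC.isFP_iff_exists_hasFinPres.mp hM z
        exact ⟨U, hz, SheafOfModules.Presentation.ofIsIso ((Scheme.Modules.restrictFunctor U.ι).map e.hom) P, inferInstance⟩)
      (fun hF hR hh => FppfModDesc.isFP_of_cover hF hR hh) π hloc G h y
  · constructor
    · rintro ⟨h1, h2⟩
      have h3 : ∀ x, FlatMod.IsFinLocFree (((StMod.comapQ π).obj G).obj.obj x) := fun x =>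
        (FppfModDesc.castMod_prop (P := @FlatMod.IsFinLocFree) _ _).mpr
          (FppfModDesc.isLocallyFree_and_isFT_iff.mp ⟨h1 _, h2 _⟩)
      exact ⟨fun x => (FppfModDesc.isLocallyFree_and_isFT_iff.mpr (h3 x)).1,
        fun x => (FppfModDesc.isLocallyFree_and_isFT_iff.mpr (h3 x)).2⟩
    · rintro ⟨h1, h2⟩
      have h3 : ∀ y, FlatMod.IsFinLocFree (G.obj.obj y) := fun y =>
        FppfModDesc.prop_of_locSurjObj @FlatMod.IsFinLocFree
          (fun e hM z => by
            obtain ⟨U, n, hz, ⟨i⟩⟩ := hM z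
            exact ⟨U, n, hz, ⟨((Scheme.Modules.restrictFunctor U.ι).mapIso e).symm ≪≫ i⟩⟩)
          (fun hF hR hh => FppfModDesc.isFinLocFree_of_cover hF hR hh) π hloc G
          (fun x => FppfModDesc.isLocallyFree_and_isFT_iff.mp ⟨h1 x, h2 x⟩) y
      exact ⟨fun y => (FppfModDesc.isLocallyFree_and_isFT_iff.mpr (h3 y)).1,
        fun y => (FppfModDesc.isLocallyFree_and_isFT_iff.mpr (h3 y)).2⟩

end Groth.Agent.S19717
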