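import Groth.Statements.S1973
import Mathlib

set_option autoImplicit false
universe u
open EtAlg

namespace Groth.Agent.S1973

theorem domain_of_principal {R : Type u} [CommRing R] [IsNoetherianRing R] [IsLocalRing R] (π : R)
    (hπ : IsLocalRing.maximalIdeal R = Ideal.span {π}) (hreg : π ∈ nonZeroDivisors R) :
    ∃ _ : IsDomain R, IsDiscreteValuationRing R := by
  have hdec : ∀ x : R, x ≠ 0 → ∃ (n : ℕ) (u : Rˣ), x = u * π ^ n := by
    intro x hx
    obtain ⟨n, hn, hn'⟩ : ∃ n, π ^ n ∣ x ∧ ¬ π ^ (n + 1) ∣ x := by
      classical
      have : ∃ n, ¬ π ^ n ∣ x := by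
        by_contra! h
        apply hx
        have h1 : x ∈ ⨅ i : ℕ, IsLocalRing.maximalIdeal R ^ i := by
          rw [Ideal.mem_iInf]
          intro i
          rw [hπ, Ideal.span_singleton_pow, Ideal.mem_span_singleton]
          exact h i
        rw [Ideal.iInf_pow_eq_bot_of_isLocalRing _ (IsLocalRing.maximalIdeal.isMaximal R).ne_top] at h1
        exact h1
      obtain ⟨m, hm⟩ : ∃ m, Nat.find this = m + 1 := ⟨Nat.find this - 1, by
        have : Nat.find this ≠ 0 := fun h => Nat.find_spec this (by rw [h, pow_zero]; exact one_dvd x)
        omega⟩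
      exact ⟨m, not_not.1 (Nat.find_min this (by omega)), hm ▸ Nat.find_spec this⟩
    obtain ⟨u, rfl⟩ := hn
    have hu : IsUnit u := by
      by_contra hu
      rw [← mem_nonunits_iff, ← IsLocalRing.mem_maximalIdeal, hπ, Ideal.mem_span_singleton] at hu
      exact hn' (by rw [pow_succ]; exact mul_dvd_mul_left _ hu)
    exact ⟨n, hu.unit, by rw [IsUnit.unit_spec, mul_comm]⟩
  haveI : NoZeroDivisors R := ⟨fun {x y} h => by
    by_contra hxy
    push_neg at hxy
    obtain ⟨a, u, rfl⟩ := hdec x hxy.1
    obtain ⟨b, v, rfl⟩ := hdec y hxy.2
    have : π ^ (a + b) * (u * v : Rˣ) = 0 := by rw [← h, Units.val_mul, pow_add]; ring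
    rw [Units.mul_left_eq_zero] at this
    exact nonZeroDivisors.ne_zero (pow_mem hreg _) this⟩
  haveI : IsDomain R := NoZeroDivisors.to_isDomain R
  have hnf : ¬ IsField R := by
    rw [IsLocalRing.isField_iff_maximalIdeal_eq, hπ, Ideal.span_singleton_eq_bot]
    exact nonZeroDivisors.ne_zero hreg
  exact ⟨inferInstance, ((IsDiscreteValuationRing.TFAE R hnf).out 4 0).mp (show (IsLocalRing.maximalIdeal R).IsPrincipal from ⟨⟨π, hπ⟩⟩)⟩

theorem local_step (A B : Type u) [CommRing A] [IsDedekindDomain A] [CommRing B] [Algebra A B]
    [Algebra.Etale A B] (q : Ideal B) [q.IsPrime] :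
    IsField (Localization.AtPrime q) ∨
      ∃ _ : IsDomain (Localization.AtPrime q), IsDiscreteValuationRing (Localization.AtPrime q) := by
  haveI : IsNoetherianRing B := Algebra.FiniteType.isNoetherianRing A B
  let p := q.under A
  let := Localization.AtPrime.algebraOfLiesOver p q
  haveI : Algebra.IsUnramifiedAt A q :=
    Algebra.FormallyUnramified.comp A B (Localization.AtPrime q)
  have hmap := ((Algebra.isUnramifiedAt_iff_map_eq A p q).1 inferInstance).2
  haveI : IsNoetherianRing (Localization.AtPrime q) := IsLocalization.isNoetherianRing q.primeCompl _ inferInstance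
  by_cases hp : p = ⊥
  · left
    rw [IsLocalRing.isField_iff_maximalIdeal_eq, ← hmap, hp, Ideal.map_bot]
  · right
    haveI : IsDiscreteValuationRing (Localization.AtPrime p) :=
      IsLocalization.AtPrime.isDiscreteValuationRing_of_dedekind_domain A hp _
    obtain ⟨ϖ, hϖ⟩ := IsDiscreteValuationRing.exists_irreducible (Localization.AtPrime p)
    obtain ⟨⟨a, s⟩, hs⟩ := IsLocalization.surj p.primeCompl ϖ
    let π := algebraMap A (Localization.AtPrime q) a
    have hsu : IsUnit (algebraMap A (Localization.AtPrime p) s.1) := IsLocalization.map_units _ s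
    have hspan : Ideal.span {algebraMap A (Localization.AtPrime p) a} =
        (p.map (algebraMap A (Localization.AtPrime p))) := by
      rw [← hs, Ideal.span_singleton_mul_right_unit hsu, Localization.AtPrime.map_eq_maximalIdeal,
        hϖ.maximalIdeal_eq]
    have ha : a ≠ 0 := by
      intro h0
      rw [h0, map_zero, hsu.mul_left_eq_zero] at hs
      exact hϖ.ne_zero hs
    haveI : Module.Flat A (Localization.AtPrime q) := Module.Flat.trans A B _
    refine domain_of_principal π ?_ ?_
    · rw [← hmap, IsScalarTower.algebraMap_eq A (Localization.AtPrime p) (Localization.AtPrime q),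
        ← Ideal.map_map, ← hspan, Ideal.map_span, Set.image_singleton,
        ← IsScalarTower.algebraMap_apply]
    · rw [mem_nonZeroDivisors_iff_right]
      intro x hx
      have h2 : IsSMulRegular (Localization.AtPrime q) a :=
        Module.Flat.isSMulRegular_of_nonZeroDivisors (mem_nonZeroDivisors_of_ne_zero ha)
      apply h2
      show a • x = a • 0
      rw [smul_zero, Algebra.smul_def, mul_comm]
      exact hx


/-- Let A be a Dedekind domain and B an etale A-algebra. Then B is isomorphic as a ring to a finite
product of Dedekind domains, and for every maximal ideal q of B whose localization is not a field,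
the localization B_q is a discrete valuation ring. (The source states the last claim for all maximal
ideals; it fails for field factors, e.g. A a DVR with uniformizer π and B = A[1/π], so the guard is
needed.) -/
theorem result (A B : Type u) [CommRing A] [IsDedekindDomain A] [CommRing B] [Algebra A B]
    [Algebra.Etale A B] :
    (∃ (n : ℕ) (D : Fin n → Type u) (_ : ∀ i, CommRing (D i)) (_ : ∀ i, IsDedekindDomain (D i)),
      Nonempty (B ≃+* ∀ i, D i)) ∧
    ∀ (q : Ideal B) [q.IsMaximal], ¬ IsField (Localization.AtPrime q) →
      ∃ _ : IsDomain (Localization.AtPrime q), IsDiscreteValuationRing (Localization.AtPrime q) := by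
  classical
  haveI : IsNoetherianRing B := Algebra.FiniteType.isNoetherianRing A B
  have hloc := fun (q : Ideal B) (hq : q.IsPrime) => local_step A B q
  refine ⟨?_, fun q _ hnf => (local_step A B q).resolve_left hnf⟩
  have hdom : ∀ (q : Ideal B) (_ : q.IsPrime), IsDomain (Localization.AtPrime q) := fun q hq =>
    (hloc q hq).elim (fun h => h.isDomain) (fun ⟨h, _⟩ => h)
  haveI : IsReduced B := isReduced_ofLocalizationMaximal _ fun m hm => by
    haveI := hdom m inferInstance; infer_instance
  have hfin : (minimalPrimes B).Finite := minimalPrimes.finite_of_isNoetherianRing B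
  letI := hfin.fintype
  let n := Fintype.card (minimalPrimes B)
  let P : Fin n → Ideal B := fun i => ((Fintype.equivFin (minimalPrimes B)).symm i).1
  have hP : ∀ i, P i ∈ minimalPrimes B := fun i => ((Fintype.equivFin (minimalPrimes B)).symm i).2
  -- two minimal primes in one maximal ideal coincide
  have huniq : ∀ (m : Ideal B) (_ : m.IsPrime) (Q : Ideal B), Q ∈ minimalPrimes B → Q ≤ m →
      ∀ x, x ∈ Q → algebraMap B (Localization.AtPrime m) x = 0 := by
    intro m hm Q hQ hQm x hx
    haveI := hdom m hm
    haveI : Q.IsPrime := hQ.1.1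
    have h1 : RingHom.ker (algebraMap B (Localization.AtPrime m)) ≤ Q := by
      intro y hy
      obtain ⟨s, hs⟩ := (IsLocalization.map_eq_zero_iff m.primeCompl _ y).1 hy
      have : (s : B) * y ∈ Q := hs ▸ Q.zero_mem
      exact (Ideal.IsPrime.mem_or_mem inferInstance this).resolve_left fun h => s.2 (hQm h)
    have h2 : Q ≤ RingHom.ker (algebraMap B (Localization.AtPrime m)) :=
      hQ.2 ⟨RingHom.ker_isPrime _, bot_le⟩ h1
    exact h2 hx
  have hcop : Pairwise fun i j => IsCoprime (P i) (P j) := by
    intro i j hij
    rw [Ideal.isCoprime_iff_sup_eq]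
    by_contra hne
    obtain ⟨m, hm, hle⟩ := Ideal.exists_le_maximal _ hne
    have key : ∀ k l, P k ≤ m → P l ≤ m → P k ≤ P l := by
      intro k l hk hl x hx
      obtain ⟨s, hs⟩ := (IsLocalization.map_eq_zero_iff m.primeCompl _ x).1
        (huniq m hm.isPrime (P k) (hP k) hk x hx)
      haveI : (P l).IsPrime := (hP l).1.1
      have : (s : B) * x ∈ P l := hs ▸ (P l).zero_mem
      exact (Ideal.IsPrime.mem_or_mem inferInstance this).resolve_left fun h => s.2 (hl h)
    obtain ⟨hi, hj⟩ := sup_le_iff.1 hle
    apply hij
    apply (Fintype.equivFin (minimalPrimes B)).symm.injective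
    exact Subtype.ext (le_antisymm (key i j hi hj) (key j i hj hi))
  have hinf : (⨅ i, P i) = ⊥ := by
    refine eq_bot_iff.2 fun x hx => ?_
    rw [Submodule.mem_iInf] at hx
    have : x ∈ sInf (minimalPrimes B) := by
      rw [Submodule.mem_sInf]
      intro Q hQ
      have := hx (Fintype.equivFin (minimalPrimes B) ⟨Q, hQ⟩)
      simpa [P] using this
    rw [show minimalPrimes B = (⊥ : Ideal B).minimalPrimes from rfl, Ideal.sInf_minimalPrimes,
      ← Ideal.zero_eq_bot, ← nilradical, nilradical_eq_zero] at this
    exact this
  refine ⟨n, fun i => B ⧸ P i, fun i => inferInstance, fun i => ?_, ⟨?_⟩⟩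
  · haveI : (P i).IsPrime := (hP i).1.1
    haveI : IsDedekindDomainDvr (B ⧸ P i) :=
      { (inferInstance : IsNoetherianRing (B ⧸ P i)) with
        is_dvr_at_nonzero_prime := fun Q hQ hQp => by
          let q : Ideal B := Q.comap (Ideal.Quotient.mk (P i))
          haveI : q.IsPrime := Ideal.comap_isPrime _ _
          let f : Localization.AtPrime q →+* Localization.AtPrime Q :=
            Localization.localRingHom q Q (Ideal.Quotient.mk (P i)) rfl
          have hf : Function.Surjective f := by
            intro z
            obtain ⟨⟨x, s⟩, rfl⟩ := IsLocalization.mk'_surjective Q.primeCompl z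
            obtain ⟨x, rfl⟩ := Ideal.Quotient.mk_surjective x
            obtain ⟨s', hs'⟩ := Ideal.Quotient.mk_surjective s.1
            refine ⟨IsLocalization.mk' _ x (⟨s', fun h => s.2 (hs' ▸ h)⟩ : q.primeCompl), ?_⟩
            show Localization.localRingHom q Q (Ideal.Quotient.mk (P i)) rfl _ = _
            rw [Localization.localRingHom_mk']
            congr 1
            exact Subtype.ext hs'
          have hnf := IsLocalization.AtPrime.not_isField (B ⧸ P i) hQ (Localization.AtPrime Q)
          have hcase := hloc q inferInstance
          have hinj : Function.Injective f := by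
            rw [RingHom.injective_iff_ker_eq_bot]
            rcases hcase with h | ⟨h1, h2⟩
            · letI := h.toField
              exact (RingHom.injective_iff_ker_eq_bot f).1 f.injective
            · by_contra hne
              haveI : (RingHom.ker f).IsMaximal :=
                Ring.DimensionLEOne.maximalOfPrime hne (RingHom.ker_isPrime f)
              refine hnf ?_
              exact MulEquiv.isField (Ideal.Quotient.field (RingHom.ker f)).toIsField
                (RingHom.quotientKerEquivOfSurjective hf).symm.toMulEquiv
          let e := RingEquiv.ofBijective f ⟨hinj, hf⟩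
          rcases hcase with h | ⟨h1, h2⟩
          · exact absurd (MulEquiv.isField h e.symm.toMulEquiv) hnf
          · exact IsDiscreteValuationRing.RingEquivClass.isDiscreteValuationRing e }
    infer_instance
  · exact (RingEquiv.quotientBot B).symm.trans ((Ideal.quotEquivOfEq hinf.symm).trans
      (Ideal.quotientInfRingEquivPiQuotient P hcop))

end Groth.Agent.S1973
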