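import Groth.Statements.S19741
import Mathlib

set_option autoImplicit false
universe w u
open EssDim

namespace Groth.Agent.S19741

section
open IntermediateField

/-- Compositum trdeg bound. -/
lemma exists_field_le (k K L : Type u) [Field k] [Field K] [Field L] [Algebra k K] [Algebra k L] [Algebra K L]
    [IsScalarTower k K L] (K0 : IntermediateField k L) (B : Set K0)
    (hB : IsTranscendenceBasis k ((↑) : B → K0)) :
    ∃ M : IntermediateField K L, (∀ x : L, x ∈ K0 → x ∈ M) ∧ Algebra.trdeg K M ≤ Cardinal.mk B := by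
  let S : Set L := K0.val '' B
  let F := IntermediateField.adjoin K S
  let M := (algebraicClosure F L).restrictScalars K
  have hS : ∀ x ∈ S, x ∈ M := fun x hx ↦
    (algebraicClosure F L).algebraMap_mem ⟨x, subset_adjoin K S hx⟩
  refine ⟨M, fun x hx ↦ ?_, ?_⟩
  · have h1 : IsAlgebraic (Algebra.adjoin k B) (⟨x, hx⟩ : K0) := by
      have := hB.isAlgebraic
      rw [Subtype.range_coe] at this
      exact this.isAlgebraic _
    have hle : ∀ y : Algebra.adjoin k B, K0.val (y : K0) ∈ F := fun y ↦ by
      obtain ⟨y, hy⟩ := y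
      induction hy using Algebra.adjoin_induction with
      | mem z hz => exact subset_adjoin K S ⟨z, hz, rfl⟩
      | algebraMap r =>
        rw [AlgHom.commutes, IsScalarTower.algebraMap_apply k K L]
        exact F.algebraMap_mem _
      | add a b _ _ ha hb => rw [map_add]; exact F.add_mem ha hb
      | mul a b _ _ ha hb => rw [map_mul]; exact F.mul_mem ha hb
    let f : Algebra.adjoin k B →+* F :=
      (K0.val.toRingHom.comp (Algebra.adjoin k B).val.toRingHom).codRestrict F.toSubfield hle
    have hf : Function.Injective f := fun a b h ↦ Subtype.ext (Subtype.ext (congrArg Subtype.val h :))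
    show x ∈ algebraicClosure F L
    exact mem_algebraicClosure_iff.mpr (h1.ringHom_of_comp_eq (f := f) (g := K0.val) hf (RingHom.ext fun _ ↦ rfl))
  · let T : Set M := M.val ⁻¹' S
    have hmap : (Algebra.adjoin K T).map M.val = Algebra.adjoin K S := by
      rw [AlgHom.map_adjoin, Set.image_preimage_eq_of_subset]
      exact fun y hy ↦ ⟨⟨y, hS y hy⟩, rfl⟩
    let f : Algebra.adjoin K T →+* Algebra.adjoin K S :=
      (M.val.toRingHom.comp (Algebra.adjoin K T).val.toRingHom).codRestrict (Algebra.adjoin K S).toSubring
        fun y ↦ hmap ▸ ⟨y, y.2, rfl⟩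
    have hf : Function.Surjective f := fun ⟨y, hy⟩ ↦ by
      rw [← hmap] at hy
      obtain ⟨z, hz, rfl⟩ := hy
      exact ⟨⟨z, hz⟩, rfl⟩
    have : Algebra.IsAlgebraic (Algebra.adjoin K T) M := ⟨fun y ↦ by
      have h1 : IsAlgebraic F (M.val y) := mem_algebraicClosure_iff.mp y.2
      exact (IntermediateField.isAlgebraic_adjoin_iff.mp h1).of_ringHom_of_comp_eq (f := f) (g := M.val) hf
        Subtype.val_injective (RingHom.ext fun _ ↦ rfl)⟩
    refine (Algebra.IsAlgebraic.trdeg_le_cardinalMk K T).trans ?_
    have : Cardinal.mk T ≤ Cardinal.mk S := Cardinal.mk_preimage_of_injective _ _ Subtype.val_injective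
    exact this.trans Cardinal.mk_image_le

noncomputable def incl {k K L : Type u} [Field k] [Field K] [Field L] [Algebra k L] [Algebra K L]
    (K0 : IntermediateField k L) (M : IntermediateField K L) (h : ∀ x : L, x ∈ K0 → x ∈ M) : K0 →+* M :=
  K0.val.toRingHom.codRestrict M.toSubfield fun x ↦ h _ x.2

end

open CategoryTheory AlgebraicGeometry in
/-- For a field extension `K` of `k` and a presheaf of sets `P` on schemes over `k`, restrict `P` to
schemes over `K` by viewing a scheme over `Spec K` as a scheme over `Spec k`; then the essential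
dimension over `K` of the restricted presheaf is at most the essential dimension of `P` over `k`.
(The source states this for an algebraic stack over `k` and its base change to `K`, through the
presheaf of isomorphism classes of objects, whose restriction to schemes over `K` is the presheaf of
classes of the base-changed stack; the inequality is stated here for an arbitrary presheaf, which is
what the argument with composita of fields of definition gives.) -/
theorem result (k : Type u) [Field k] (K : Type u) [Field K] [Algebra k K]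
    (P : (Over (Spec (CommRingCat.of k)))ᵒᵖ ⥤ Type w) :
    EssDim.ed (k := K) ((Over.map (Spec.map (CommRingCat.ofHom (algebraMap k K)))).op ⋙ P) ≤ EssDim.ed P := by
  refine iSup_le fun L ↦ iSup_le fun _ ↦ iSup_le fun _ ↦ iSup_le fun ξ ↦ ?_
  letI : Algebra k L := ((algebraMap K L).comp (algebraMap k K)).toAlgebra
  haveI : IsScalarTower k K L := IsScalarTower.of_algebraMap_eq fun _ ↦ rfl
  let ι : SGA7.pt (K := k) L ⟶ (Over.map (Spec.map (CommRingCat.ofHom (algebraMap k K)))).obj (SGA7.pt (K := K) L) :=
    Over.homMk (𝟙 _) ((Category.id_comp _).trans ((Spec.map_comp _ _).symm.trans rfl))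
  let η : EssDim.FPt P L := P.map ι.op ξ
  refine le_trans ?_ (EssDim.edAt_le_ed η)
  rw [WithBot.coe_le_coe]
  refine le_iInf fun ⟨K0, hK0⟩ ↦ ?_
  obtain ⟨η0, hη0⟩ := hK0
  obtain ⟨B, hB⟩ := exists_isTranscendenceBasis k ↥K0
  obtain ⟨M, hM, htr⟩ := exists_field_le k K L K0 B hB
  refine le_trans (EssDim.edAt_le_of_descends (K := M) ?_) (Cardinal.toENat.monotone' ?_)
  · let g : SGA7.pt (K := K) L ⟶ SGA7.pt (K := K) M := EssDim.resPt M.val
    let j : (Over.map (Spec.map (CommRingCat.ofHom (algebraMap k K)))).obj (SGA7.pt (K := K) M) ⟶ SGA7.pt (K := k) K0 :=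
      Over.homMk (Spec.map (CommRingCat.ofHom (incl K0 M hM))) (by
        change Spec.map _ ≫ Spec.map _ = Spec.map _ ≫ Spec.map _
        rw [← Spec.map_comp, ← Spec.map_comp]
        congr 1)
    refine ⟨P.map j.op η0, ?_⟩
    let ι' : (Over.map (Spec.map (CommRingCat.ofHom (algebraMap k K)))).obj (SGA7.pt (K := K) L) ⟶ SGA7.pt (K := k) L :=
      Over.homMk (𝟙 _) (by
        change 𝟙 _ ≫ Spec.map _ = Spec.map _ ≫ Spec.map _
        rw [Category.id_comp, ← Spec.map_comp]
        rfl)
    have e : (Over.map (Spec.map (CommRingCat.ofHom (algebraMap k K)))).map g ≫ j =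
        ι' ≫ EssDim.resPt K0.val := by
      apply Over.OverMorphism.ext
      show Spec.map _ ≫ Spec.map _ = 𝟙 _ ≫ Spec.map _
      rw [Category.id_comp, ← Spec.map_comp]
      rfl
    have e' : ι' ≫ ι = 𝟙 _ := Over.OverMorphism.ext (Category.comp_id _)
    show (P.map j.op ≫ P.map ((Over.map (Spec.map (CommRingCat.ofHom (algebraMap k K)))).map g).op) η0 = ξ
    rw [← P.map_comp, ← op_comp, e, op_comp, P.map_comp]
    show P.map ι'.op (P.map (EssDim.resPt K0.val).op η0) = ξ
    rw [show P.map (EssDim.resPt K0.val).op η0 = η from hη0]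
    show (P.map ι.op ≫ P.map ι'.op) ξ = ξ
    rw [← P.map_comp, ← op_comp, e', op_id, P.map_id]
    rfl
  · rw [← hB.cardinalMk_eq_trdeg]
    exact htr

end Groth.Agent.S19741
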