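import Groth.Statements.S19746
import Groth.Agent.GenusZeroDesc.EdBound

set_option autoImplicit false
universe u
open EssDim

namespace Groth.Agent.S19746

open CategoryTheory AlgebraicGeometry in
/-- Over a field `k` of characteristic zero the stack of smooth curves of genus `0` (no marked points)
has an object over some field, and its essential dimension over `k` is at most `2`: every smooth
proper geometrically irreducible curve of genus `0` over a field `L ⊇ k` is obtained by base change
from a curve over a subfield of `L` of transcendence degree at most `2` over `k`. (The source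
asserts that this essential dimension equals `2`; the reverse inequality is only indicated there,
and this row states non-emptiness and the upper bound.) -/
theorem result (k : Type u) [Field k] [CharZero k]
    [FibCat.IsFibGrpd (CurvSt.Mgn (Spec (CommRingCat.of k)) 0 0).p] :
    EssDim.edSt (CurvSt.Mgn (Spec (CommRingCat.of k)) 0 0) ≠ ⊥ ∧
      EssDim.edSt (CurvSt.Mgn (Spec (CommRingCat.of k)) 0 0) ≤ ((2 : ℕ) : WithBot ℕ∞) := by
  classical
  have h0 := Groth.Agent.GenusZeroDesc.zero_le_edSt (k := k) (n := 0) (by omega)
  refine ⟨fun h => by rw [h] at h0; simp at h0, Groth.Agent.GenusZeroDesc.edSt_le fun L _ _ C f σ hσ h => ?_⟩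
  haveI := charZero_of_injective_algebraMap (R := k) (A := L) (algebraMap k L).injective
  by_cases hpt : ∃ s : Spec (CommRingCat.of L) ⟶ C, s ≫ f = 𝟙 _
  · obtain ⟨s, hs⟩ := hpt
    exact ⟨⊥, (Groth.Agent.GenusZeroDesc.toENat_trdeg_bot L).le.trans (zero_le),
      Groth.Agent.GenusZeroDesc.exists_hom_std (by omega) f σ hσ h.1 h.2 s hs _
        (⊥ : IntermediateField k L).val⟩
  obtain ⟨w, hw0, hw, e, he⟩ := Groth.Agent.GenusZeroDesc.exists_conic h.1 hpt
  let K : IntermediateField k L := IntermediateField.adjoin k {w 1, w 2}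
  let a : K := ⟨w 1, IntermediateField.subset_adjoin k _ (Set.mem_insert _ _)⟩
  let b : K := ⟨w 2, IntermediateField.subset_adjoin k _ (Set.mem_insert_of_mem _ rfl)⟩
  let v : Fin 3 → K := ![1, a, b]
  have hv : ∀ i, (v i : L) = w i := fun i => by fin_cases i <;> simp [v, a, b, hw0]
  have hv0 : ∀ i, v i ≠ 0 := fun i h' => hw i (by rw [← hv i, h']; rfl)
  haveI := charZero_of_injective_algebraMap (R := k) (A := K) (algebraMap k K).injective
  refine ⟨K, ?_, ⟨⟨SGA7.pt (K := k) K, GenusOneTwist.Hyp (GenusZeroDesc.df v), GenusOneTwist.str (GenusZeroDesc.df v),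
    Fin.elim0, fun i => i.elim0⟩, rfl, ⟨GenusZeroDesc.isCurveOfGenus hv0 two_ne_zero, fun i => i.elim0⟩, ?_⟩⟩
  · haveI : Algebra.IsAlgebraic (Algebra.adjoin k ({a, b} : Set K)) K := by
      refine ⟨fun z => ?_⟩
      obtain ⟨r, hr, t, ht, he'⟩ : ∃ r ∈ Algebra.adjoin k ({w 1, w 2} : Set L), ∃ t ∈ Algebra.adjoin k ({w 1, w 2} : Set L),
          (z : L) = r / t := IntermediateField.mem_adjoin_iff_div.1 z.2
      have hmap : Algebra.adjoin k ({w 1, w 2} : Set L) = (Algebra.adjoin k ({a, b} : Set K)).map K.val := by
        rw [AlgHom.map_adjoin, Set.image_pair]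
        rfl
      rw [hmap] at hr ht
      obtain ⟨r, hr, rfl⟩ := hr
      obtain ⟨t, ht, rfl⟩ := ht
      replace he' := he'.symm
      rcases eq_or_ne t 0 with h | h
      · have hz : z = 0 := Subtype.ext (by rw [← he', h]; simp)
        rw [hz]; exact isAlgebraic_zero
      · refine ⟨Polynomial.C ⟨t, ht⟩ * Polynomial.X - Polynomial.C ⟨r, hr⟩, fun h0 => ?_, ?_⟩
        · have := congrArg (fun p => Polynomial.coeff p 1) h0
          simp at this
          exact h (congrArg Subtype.val this)
        · simp only [map_sub, map_mul, Polynomial.aeval_C, Polynomial.aeval_X]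
          show t * z - r = 0
          have htl : (t : L) ≠ 0 := fun e => h (Subtype.ext e)
          refine Subtype.ext ?_
          show (t : L) * (z : L) - (r : L) = 0
          rw [← he']
          show (t : L) * ((r : L) / (t : L)) - (r : L) = 0
          rw [mul_div_cancel₀ _ htl, sub_self]
    have := Algebra.IsAlgebraic.trdeg_le_cardinalMk k ({a, b} : Set K)
    refine (Cardinal.toENat.monotone' this).trans ?_
    refine (Cardinal.toENat.monotone' (Cardinal.mk_insert_le.trans (add_le_add (Cardinal.mk_singleton _).le le_rfl))).trans ?_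
    norm_num
  · obtain ⟨q, hq⟩ := GenusOneTwist.exists_isPullback (n := 2) (algebraMap K L) (fun _ => 1) (fun _ => one_ne_zero)
      (GenusZeroDesc.df v)
    have hd : GenusOneTwist.scaleForm (n := 2) (algebraMap K L) (fun _ => 1) (GenusZeroDesc.df v) =
        GenusZeroDesc.df w := by
      rw [GenusZeroDesc.scaleForm_df]
      congr 1
      funext i
      rw [one_pow, mul_one]
      exact hv i
    revert q
    rw [hd]
    intro q hq
    have sq : IsPullback (e.hom ≫ q) f (GenusOneTwist.str (GenusZeroDesc.df v))
        (EssDim.resPt K.val).left := by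
      have h1 : IsPullback e.hom f (GenusOneTwist.str (GenusZeroDesc.df w)) (𝟙 _) :=
        IsPullback.of_horiz_isIso ⟨by rw [Category.comp_id, he]⟩
      have h2 := h1.paste_horiz hq
      rw [Category.id_comp] at h2
      exact h2
    exact ⟨⟨EssDim.resPt K.val, e.hom ≫ q, sq, fun i => i.elim0⟩, HEq.rfl⟩

end Groth.Agent.S19746
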