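import Groth.Statements.S19748
import Groth.Agent.SegreDim.GradedMod

set_option autoImplicit false
universe u
open scoped TensorProduct
open GrSegre

namespace Groth.Agent.S19748

/-- Let R and S be graded rings defined over a field k with Segre product T = R # S, M a graded R-module
and N a graded S-module. Suppose that multiplication by some homogeneous element f ∈ R_d of positive
degree d is bijective on M and multiplication by some homogeneous g ∈ S_e of positive degree e is
bijective on N. Then multiplication by some homogeneous element of T of positive degree is bijective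
on M # N. Here a graded ring defined over k is a commutative k-algebra of finite type, graded in
nonnegative degrees by k-subspaces with degree-zero part k·1; the Segre product T = R # S = ⊕_n R_n
⊗_k S_n is presented abstractly as a graded k-algebra T with an injective k-algebra homomorphism ψ :
T → R ⊗_k S carrying T_n onto the k-span of the elementary tensors a ⊗ b with a ∈ R_n, b ∈ S_n; the
Segre product M # N = ⊕_n M_n ⊗_k N_n of a graded R-module M and a graded S-module N is presented
abstractly as a graded T-module P with an injective k-linear map φ : P → M ⊗_k N carrying P_n onto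
the k-span of the tensors x ⊗ y with x ∈ M_n, y ∈ N_n and turning the action of t ∈ T into that of
ψ(t) (acting factorwise on M ⊗_k N). -/
theorem result (k : Type u) [Field k] (R : Type u) [CommRing R] [Algebra k R] (𝒜 : ℤ → Submodule k R) [GradedAlgebra 𝒜] (hposR : ∀ n : ℤ, n < 0 → 𝒜 n = ⊥) (h0R : 𝒜 0 = Submodule.span k {(1 : R)}) [Algebra.FiniteType k R] (S : Type u) [CommRing S] [Algebra k S] (ℬ : ℤ → Submodule k S) [GradedAlgebra ℬ] (hposS : ∀ n : ℤ, n < 0 → ℬ n = ⊥) (h0S : ℬ 0 = Submodule.span k {(1 : S)}) [Algebra.FiniteType k S] (T : Type u) [CommRing T] [Algebra k T] (𝒯 : ℤ → Submodule k T) [GradedAlgebra 𝒯] (ψ : T →ₐ[k] TensorProduct k R S) (hT : GrSeg.IsSegreRing 𝒜 ℬ 𝒯 ψ) (M : Type u) [AddCommGroup M] [Module R M] [Module k M] [IsScalarTower k R M] (ℳ : ℤ → AddSubgroup M) [DirectSum.Decomposition ℳ] [SetLike.GradedSMul 𝒜 ℳ] (N : Type u) [AddCommGroup N] [Module S N] [Module k N] [IsScalarTower k S N] (𝒩 : ℤ → AddSubgroup N) [DirectSum.Decomposition 𝒩] [SetLike.GradedSMul ℬ 𝒩] (P : Type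 u) [AddCommGroup P] [Module T P] [Module k P] [IsScalarTower k T P] (𝒬 : ℤ → AddSubgroup P) [DirectSum.Decomposition 𝒬] (φ : P →ₗ[k] TensorProduct k M N) (hP : GrSeg.IsSegreMod ψ ℳ 𝒩 𝒬 φ) (d : ℕ) (hd : 0 < d) (f : R) (hf : f ∈ 𝒜 (d : ℤ)) (hfM : Function.Bijective (fun x : M => f • x)) (e : ℕ) (he : 0 < e) (g : S) (hg : g ∈ ℬ (e : ℤ)) (hgN : Function.Bijective (fun y : N => g • y)) : ∃ (c : ℤ) (t : T), 0 < c ∧ t ∈ 𝒯 c ∧ Function.Bijective (fun p : P => t • p) := by
  classical
  have hfe : Function.Bijective (fun x : M => f ^ e • x) := by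
    clear hgN hg
    induction e with
    | zero => exact absurd he (lt_irrefl 0)
    | succ e ih =>
      rcases Nat.eq_zero_or_pos e with h | h
      · subst h; simpa using hfM
      · have := hfM.comp (ih h)
        simpa [Function.comp_def, pow_succ', mul_smul] using this
  have hgd : Function.Bijective (fun y : N => g ^ d • y) := by
    clear hfM hf hfe
    induction d with
    | zero => exact absurd hd (lt_irrefl 0)
    | succ d ih =>
      rcases Nat.eq_zero_or_pos d with h | h
      · subst h; simpa using hgN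
      · have := hgN.comp (ih h)
        simpa [Function.comp_def, pow_succ', mul_smul] using this
  set c : ℤ := ((d * e : ℕ) : ℤ) with hc
  have hfm : f ^ e ∈ 𝒜 c := by
    have := SetLike.pow_mem_graded e hf
    rwa [nsmul_eq_mul, show ((e : ℤ) * d) = c by rw [hc]; push_cast; ring] at this
  have hgm : g ^ d ∈ ℬ c := by
    have := SetLike.pow_mem_graded d hg
    rwa [nsmul_eq_mul, show ((d : ℤ) * e) = c by rw [hc]; push_cast; ring] at this
  obtain ⟨t, htm, ht⟩ : ∃ t ∈ 𝒯 c, ψ t = (f ^ e) ⊗ₜ[k] (g ^ d) := by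
    have : (f ^ e) ⊗ₜ[k] (g ^ d) ∈ (𝒯 c).map ψ.toLinearMap := by
      rw [hT.2]; exact Submodule.subset_span ⟨_, hfm, _, hgm, rfl⟩
    obtain ⟨t, h1, h2⟩ := Submodule.mem_map.mp this
    exact ⟨t, h1, h2⟩
  refine ⟨c, t, by rw [hc]; exact_mod_cast Nat.mul_pos hd he, htm, ?_, ?_⟩
  · intro p q hpq
    apply hP.injective
    let A : M ≃ₗ[k] M := LinearEquiv.ofBijective ((Algebra.lsmul k k M) (f ^ e)) hfe
    let B : N ≃ₗ[k] N := LinearEquiv.ofBijective ((Algebra.lsmul k k N) (g ^ d)) hgd
    have key : ∀ w, GrSeg.act k R S M N ((f ^ e) ⊗ₜ[k] (g ^ d)) w = TensorProduct.congr A B w := by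
      intro w
      induction w using TensorProduct.induction_on with
      | zero => simp
      | add a b ha hb => rw [map_add, ha, hb, map_add]
      | tmul m n => rw [GrSeg.act_tmul, TensorProduct.congr_tmul]; rfl
    have h := congrArg φ hpq
    simp only [hP.map_smul, ht, key] at h
    exact (TensorProduct.congr A B).injective h
  · intro p
    let L : P →ₗ[k] P := Algebra.lsmul k k P t
    suffices h : ∀ n, ∀ q ∈ 𝒬 n, q ∈ LinearMap.range L by
      have hp : p ∈ LinearMap.range L := by
        rw [← DirectSum.sum_support_decompose 𝒬 p]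
        exact Submodule.sum_mem _ fun n _ => h n _ (SetLike.coe_mem _)
      obtain ⟨q, hq⟩ := hp
      exact ⟨q, hq⟩
    intro n q hq
    have hmem : φ q ∈ GrSeg.segrePiece k ℳ 𝒩 n := by
      rw [← SetLike.mem_coe, ← hP.image_piece n]; exact ⟨q, hq, rfl⟩
    have hle : GrSeg.segrePiece k ℳ 𝒩 n ≤ (LinearMap.range L).map φ := by
      refine Submodule.span_le.mpr ?_
      rintro _ ⟨x, hx, y, hy, rfl⟩
      obtain ⟨x', hx'⟩ := hfe.2 x
      obtain ⟨y', hy'⟩ := hgd.2 y
      simp only at hx' hy'
      have hx2 : f ^ e • SegreDim.prM ℳ (n - c) x' = x := by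
        rw [← SegreDim.prM_smul_deg 𝒜 ℳ hfm, hx', SegreDim.prM_of_mem ℳ hx]
      have hy2 : g ^ d • SegreDim.prM 𝒩 (n - c) y' = y := by
        rw [← SegreDim.prM_smul_deg ℬ 𝒩 hgm, hy', SegreDim.prM_of_mem 𝒩 hy]
      have : SegreDim.prM ℳ (n - c) x' ⊗ₜ[k] SegreDim.prM 𝒩 (n - c) y' ∈ φ '' (𝒬 (n - c) : Set P) := by
        rw [hP.image_piece]
        exact Submodule.subset_span ⟨_, SegreDim.prM_mem ℳ _ _, _, SegreDim.prM_mem 𝒩 _ _, rfl⟩
      obtain ⟨q', -, hq'⟩ := this
      exact ⟨t • q', ⟨q', rfl⟩, by rw [hP.map_smul, ht, hq', GrSeg.act_tmul, hx2, hy2]⟩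
    obtain ⟨q', hq', hqe⟩ := hle hmem
    exact hP.injective hqe ▸ hq'

end Groth.Agent.S19748
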