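import Groth.Statements.S19749
import Groth.Agent.SegreDim.GradedMod

set_option autoImplicit false
universe u
open scoped TensorProduct
open GrSegre

namespace Groth.Agent.S19749

/-- Let R and S be graded rings defined over a field k, both generated over k by their degree-one parts
and of positive Krull dimension, T = R # S, M a graded R-module and N a graded S-module, n an
integer with N_m ≠ 0 for every m ≥ n, and x ∈ M_n, y ∈ N_n. If x # y generates M # N as a T-module,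
then R_d x = M_{n+d} for every d ≥ 0 (every element of M_{n+d} is r x for some r ∈ R_d). Here a
graded ring defined over k is a commutative k-algebra of finite type, graded in nonnegative degrees
by k-subspaces with degree-zero part k·1; the Segre product T = R # S = ⊕_n R_n ⊗_k S_n is presented
abstractly as a graded k-algebra T with an injective k-algebra homomorphism ψ : T → R ⊗_k S carrying
T_n onto the k-span of the elementary tensors a ⊗ b with a ∈ R_n, b ∈ S_n; the Segre product M # N =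
⊕_n M_n ⊗_k N_n of a graded R-module M and a graded S-module N is presented abstractly as a graded
T-module P with an injective k-linear map φ : P → M ⊗_k N carrying P_n onto the k-span of the
tensors x ⊗ y with x ∈ M_n, y ∈ N_n and turning the action of t ∈ T into that of ψ(t) (acting
factorwise on M ⊗_k N), and x # y is the element of P mapped to x ⊗ y. -/
theorem result (k : Type u) [Field k] (R : Type u) [CommRing R] [Algebra k R] (𝒜 : ℤ → Submodule k R) [GradedAlgebra 𝒜] (hposR : ∀ n : ℤ, n < 0 → 𝒜 n = ⊥) (h0R : 𝒜 0 = Submodule.span k {(1 : R)}) [Algebra.FiniteType k R] (S : Type u) [CommRing S] [Algebra k S] (ℬ : ℤ → Submodule k S) [GradedAlgebra ℬ] (hposS : ∀ n : ℤ, n < 0 → ℬ n = ⊥) (h0S : ℬ 0 = Submodule.span k {(1 : S)}) [Algebra.FiniteType k S] (T : Type u) [CommRing T] [Algebra k T] (𝒯 : ℤ → Submodule k T) [GradedAlgebra 𝒯] (ψ : T →ₐ[k] TensorProduct k R S) (hT : GrSeg.IsSegreRing 𝒜 ℬ 𝒯 ψ) (hstdR : Ideal.span (⋃ n ∈ Set.Ioi (0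 : ℤ), (𝒜 n : Set R)) = Ideal.span ((𝒜 1 : Submodule k R) : Set R)) (hstdS : Ideal.span (⋃ n ∈ Set.Ioi (0 : ℤ), (ℬ n : Set S)) = Ideal.span ((ℬ 1 : Submodule k S) : Set S)) (hr1 : 1 ≤ ringKrullDim R) (hs1 : 1 ≤ ringKrullDim S) (M : Type u) [AddCommGroup M] [Module R M] [Module k M] [IsScalarTower k R M] (ℳ : ℤ → AddSubgroup M) [DirectSum.Decomposition ℳ] [SetLike.GradedSMul 𝒜 ℳ] (N : Type u) [AddCommGroup N] [Module S N] [Module k N] [IsScalarTower k S N] (𝒩 : ℤ → AddSubgroup N) [DirectSum.Decomposition 𝒩] [SetLike.GradedSMul ℬ 𝒩] (P : Type u) [AddCommGroup P] [Module T P] [Module k P] [IsScalarTower k T P] (𝒬 : ℤ → AddSubgroup P) [DirectSum.Decomposition 𝒬] (φ : P →ₗ[k] TensorProduct k M N) (hP : GrSeg.IsSegreMod ψ ℳ 𝒩 𝒬 φ) (n : ℤ) (hNn : ∀ m : ℤ, n ≤ m → 𝒩 m ≠ ⊥) (x : M) (hx : x ∈ ℳ n) (y : N) (hy : y ∈ 𝒩 n) (p : P) (hp : φ p = x ⊗ₜ[k] y) (hgen : Submodule.span T {p} = ⊤) (d : ℤ) (hd : 0 ≤ d) (z : M) (hz : z ∈ ℳ (n + d)) : ∃ r ∈ 𝒜 d, r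 • x = z := by
  classical
  have hzero : (1 : k) ≠ 0 := one_ne_zero
  obtain ⟨w, hw, hw0⟩ : ∃ w ∈ 𝒩 (n + d), w ≠ 0 := by
    by_contra h
    push Not at h
    exact hNn (n + d) (by omega) ((AddSubgroup.eq_bot_iff_forall _).mpr h)
  obtain ⟨lam, hlam⟩ : ∃ lam : N →ₗ[k] k, lam w = 1 := by
    obtain ⟨lam, hlam⟩ := Module.Projective.exists_dual_ne_zero k hw0
    exact ⟨(lam w)⁻¹ • lam, by simp [hlam]⟩
  let pr : M →ₗ[k] M :=
    { SegreDim.prM ℳ (n + d) with
      map_smul' := fun c a => by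
        show SegreDim.prM ℳ (n + d) (c • a) = c • SegreDim.prM ℳ (n + d) a
        rw [← algebraMap_smul R c a, SegreDim.prM_smul_deg 𝒜 ℳ (SetLike.algebraMap_mem_graded 𝒜 c), sub_zero,
          algebraMap_smul] }
  let Φ : M ⊗[k] N →ₗ[k] M := (TensorProduct.rid k M).toLinearMap ∘ₗ TensorProduct.map pr lam
  have hΦ : ∀ a b, Φ (a ⊗ₜ[k] b) = lam b • SegreDim.prM ℳ (n + d) a := fun a b => by
    show TensorProduct.rid k M (TensorProduct.map pr lam (a ⊗ₜ[k] b)) = _
    rw [TensorProduct.map_tmul, TensorProduct.rid_tmul]; rfl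
  obtain ⟨q, hq⟩ : ∃ q, φ q = z ⊗ₜ[k] w := by
    have : z ⊗ₜ[k] w ∈ φ '' (𝒬 (n + d) : Set P) := by
      rw [hP.image_piece]; exact Submodule.subset_span ⟨z, hz, w, hw, rfl⟩
    obtain ⟨q, -, h⟩ := this
    exact ⟨q, h⟩
  obtain ⟨t, rfl⟩ := Submodule.mem_span_singleton.mp (hgen.ge (Submodule.mem_top : q ∈ (⊤ : Submodule T P)))
  rw [hP.map_smul, hp] at hq
  let ev : R →ₗ[k] M := (LinearMap.toSpanSingleton R M x).restrictScalars k
  have key : ∀ u, Φ (GrSeg.act k R S M N u (x ⊗ₜ[k] y)) ∈ (𝒜 d).map ev := by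
    intro u
    induction u using TensorProduct.induction_on with
    | zero => simp
    | add a b ha hb => rw [map_add, LinearMap.add_apply, map_add]; exact add_mem ha hb
    | tmul r s =>
      rw [GrSeg.act_tmul, hΦ, SegreDim.prM_smul_of_mem 𝒜 ℳ hx, add_sub_cancel_left]
      exact Submodule.smul_mem _ _ ⟨_, SegreDim.proj_mem _ _, rfl⟩
  obtain ⟨r, hr, hrx⟩ := key (ψ t)
  refine ⟨r, hr, ?_⟩
  have h2 : ev r = z := by rw [hrx, hq, hΦ, hlam, one_smul, SegreDim.prM_of_mem ℳ hz]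
  exact h2

end Groth.Agent.S19749
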