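import Groth.Statements.S1975
import Groth.Agent.S1963
import Groth.Agent.Hensel.HenselizationMore

set_option autoImplicit false
universe u
open EtAlg

namespace Groth.Agent.S1975

open IsLocalRing

theorem unit_mul_of_points (A : Type u) [CommRing A] [IsDomain A] [ValuationRing A] (K : Type u) [Field K]
    [Algebra A K] {S : Type u} [CommRing S] [IsLocalRing S] [Algebra A S] [IsLocalHom (algebraMap A S)]
    [Module.Flat A S] (π : S →ₐ[A] K)
    (hπ : ∀ z, π z = 0 ↔ z ∈ maximalIdeal S) (ι : Hensel.EnvTop A K →ₐ[A] S)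
    (hι : ∀ x, π (ι x) = Hensel.envEv A K x) (hloc : ∀ z, ∃ x t, IsUnit (ι t) ∧ z * ι t = ι x)
    (z : S) (hz : z ≠ 0) : ∃ (a : A) (u : Sˣ), z = u * algebraMap A S a := by
  obtain ⟨P, T, _, _, _, ψ, χ, h1, -, -, hzm⟩ := Hensel.exists_local_stage A K π hπ ι hι hloc ![z]
  obtain ⟨y, hy⟩ := hzm 0
  simp only [Matrix.cons_val_fin_one] at hy
  subst hy
  let p : Ideal P.Ring := (maximalIdeal T).comap ψ.toRingHom
  haveI : p.IsPrime := Ideal.comap_isPrime _ _
  have hp : p.comap (algebraMap A P.Ring) = maximalIdeal A := by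
    ext a
    show ψ (algebraMap A P.Ring a) ∈ maximalIdeal T ↔ a ∈ maximalIdeal A
    rw [ψ.commutes, mem_maximalIdeal, mem_nonunits_iff, mem_maximalIdeal, mem_nonunits_iff, not_iff_not]
    refine ⟨fun h => ?_, fun h => h.map _⟩
    have h' := h.map χ
    rw [χ.commutes] at h'
    exact isUnit_of_map_unit (algebraMap A S) a h'
  obtain ⟨-, -, -, -, hkey⟩ := S1963.result A P.Ring p hp
  let L := Localization.AtPrime p
  have hunit : ∀ w : p.primeCompl, IsUnit (ψ w.1) := fun w => notMem_maximalIdeal.1 w.2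
  let η : L →+* T := IsLocalization.lift (g := ψ.toRingHom) hunit
  have hη : ∀ b, η (algebraMap P.Ring L b) = ψ b := fun b => IsLocalization.lift_eq _ b
  obtain ⟨b, c, hc, hbc⟩ := h1 y
  have hy0 : y ≠ 0 := fun h => hz (by rw [h, map_zero])
  have hb0 : algebraMap P.Ring L b ≠ 0 := fun h => hy0 (by
    have := hη b
    rw [h, map_zero, ← hbc] at this
    exact hc.mul_left_eq_zero.1 this.symm)
  obtain ⟨a, u, hu⟩ := hkey _ hb0
  have h2 : ψ b = η u * algebraMap A T a := by
    rw [← hη b, hu, map_mul, IsScalarTower.algebraMap_apply A P.Ring L, hη, ψ.commutes]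
  refine ⟨a, ((u.isUnit.map η).map χ).unit * (hc.map χ).unit⁻¹, (hc.map χ).mul_left_injective ?_⟩
  show χ y * χ (ψ c) = _
  rw [← map_mul, hbc, h2, map_mul, χ.commutes, Units.val_mul, IsUnit.unit_spec]
  show _ = _ * _ * algebraMap A S a * χ (ψ c)
  rw [mul_right_comm, mul_assoc (χ (η u)), IsUnit.val_inv_mul, mul_one]

theorem valuation_of_unit_mul (A S : Type u) [CommRing A] [IsDomain A] [ValuationRing A] [CommRing S]
    [IsLocalRing S] [Algebra A S] (hinj : Function.Injective (algebraMap A S))
    (h : ∀ s : S, s ≠ 0 → ∃ (a : A) (u : Sˣ), s = u * algebraMap A S a) :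
    IsDomain S ∧ (∀ _ : IsDomain S, ValuationRing S) ∧ Function.Injective (algebraMap A S) ∧
      ∀ s : S, s ≠ 0 → ∃ (a : A) (u : Sˣ), s = u * algebraMap A S a := by
  haveI : NoZeroDivisors S := ⟨fun {x y} hxy => by
    by_contra hc
    rw [not_or] at hc
    obtain ⟨a, u, rfl⟩ := h x hc.1
    obtain ⟨b, v, rfl⟩ := h y hc.2
    rw [mul_mul_mul_comm, ← Units.val_mul, Units.mul_right_eq_zero, ← map_mul, map_eq_zero_iff _ hinj,
      mul_eq_zero] at hxy
    rcases hxy with h0 | h0
    · exact hc.1 (by rw [h0, map_zero, mul_zero])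
    · exact hc.2 (by rw [h0, map_zero, mul_zero])⟩
  haveI := NoZeroDivisors.to_isDomain S
  refine ⟨inferInstance, fun _ => ?_, hinj, h⟩
  rw [ValuationRing.iff_dvd_total]
  refine ⟨fun x y => ?_⟩
  rcases eq_or_ne x 0 with hx | hx
  · exact Or.inr (hx ▸ dvd_zero y)
  rcases eq_or_ne y 0 with hy | hy
  · exact Or.inl (hy ▸ dvd_zero x)
  obtain ⟨a, u, rfl⟩ := h x hx
  obtain ⟨b, v, rfl⟩ := h y hy
  simp only [Units.mul_left_dvd, Units.dvd_mul_left]
  exact (ValuationRing.dvd_total a b).imp (map_dvd _) (map_dvd _)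

theorem of_env (A S : Type u) [CommRing A] [IsDomain A] [ValuationRing A] [CommRing S]
    [IsLocalRing S] [Algebra A S] [IsLocalHom (algebraMap A S)] (K : Type u) [Field K] [Algebra A K]
    [Algebra (ResidueField A) K] [IsScalarTower A (ResidueField A) K] [Algebra.IsSeparable (ResidueField A) K]
    (e : S ≃ₐ[A] Hensel.Env A K) :
    ∀ s : S, s ≠ 0 → ∃ (a : A) (u : Sˣ), s = u * algebraMap A S a := by
  intro s hs
  haveI := Hensel.flat_env A K
  haveI : IsLocalHom (algebraMap A (Hensel.Env A K)) := ⟨fun a ha => by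
    have h := ha.map e.symm
    rw [e.symm.commutes] at h
    exact isUnit_of_map_unit (algebraMap A S) a h⟩
  obtain ⟨a, u, hu⟩ := unit_mul_of_points A K (Hensel.envRes A K) (Hensel.envRes_eq_zero_iff A K)
    (IsScalarTower.toAlgHom A (Hensel.EnvTop A K) (Hensel.Env A K)) (Hensel.envRes_algebraMap A K)
    (Hensel.env_hloc A K) (e s) (fun h => hs (e.injective (by rw [h, map_zero])))
  exact ⟨a, Units.map e.symm.toRingEquiv.toRingHom.toMonoidHom u, by
    apply e.injective
    rw [map_mul, e.commutes, hu]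
    simp⟩

/-- Let A be a valuation ring and S a henselization or strict henselization of A. Then S is a valuation
ring, A -> S is injective, and every nonzero element of S is a unit multiple of the image of an
element of A (the value groups agree). -/
theorem result (A S : Type u) [CommRing A] [IsDomain A] [ValuationRing A] [CommRing S]
    [IsLocalRing S] [Algebra A S] [IsLocalHom (algebraMap A S)]
    (h : Hensel.IsHenselization A S ∨ Hensel.IsStrictHenselization A S) :
    IsDomain S ∧ (∀ _ : IsDomain S, ValuationRing S) ∧ Function.Injective (algebraMap A S) ∧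
      ∀ s : S, s ≠ 0 → ∃ (a : A) (u : Sˣ), s = u * algebraMap A S a := by
  rcases h with h | h
  · obtain ⟨e⟩ := Hensel.henselization_equiv A S
    haveI := Hensel.henselization_faithfullyFlat A S
    exact valuation_of_unit_mul A S (FaithfulSMul.algebraMap_injective A S) (of_env A S _ e)
  · obtain ⟨e⟩ := Hensel.strictHenselization_equiv A S
    haveI := Hensel.strictHenselization_faithfullyFlat A S
    exact valuation_of_unit_mul A S (FaithfulSMul.algebraMap_injective A S) (of_env A S _ e)

end Groth.Agent.S1975
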