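import Groth.Statements.S19750
import Groth.Agent.SegreDim.Std

set_option autoImplicit false
universe u
open scoped TensorProduct
open GrSegre

namespace Groth.Agent.S19750

/-- Let R and S be graded rings defined over a field k, both generated over k by their degree-one parts
and of positive Krull dimension, T = R # S with irrelevant ideal T_+, and let a ≥ b be integers.
Then the number of generators ν_T(R(a) # S(b)) = dim_k (R(a) # S(b)) / T_+ (R(a) # S(b)) equals
dim_k R_{a−b}. Here a graded ring defined over k is a commutative k-algebra of finite type, graded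
in nonnegative degrees by k-subspaces with degree-zero part k·1; the Segre product T = R # S = ⊕_n
R_n ⊗_k S_n is presented abstractly as a graded k-algebra T with an injective k-algebra homomorphism
ψ : T → R ⊗_k S carrying T_n onto the k-span of the elementary tensors a ⊗ b with a ∈ R_n, b ∈ S_n;
the Segre product R(a) # S(b) = ⊕_n R_{n+a} ⊗_k S_{n+b} of the shifted modules is presented
abstractly as a graded T-module P with an injective k-linear map φ : P → R ⊗_k S carrying P_n onto
the k-span of the tensors x ⊗ y with x ∈ R_{n+a}, y ∈ S_{n+b} and turning the action of t ∈ T into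
that of ψ(t); T_+ is the ideal spanned by the T_n with n > 0. -/
theorem result (k : Type u) [Field k] (R : Type u) [CommRing R] [Algebra k R] (𝒜 : ℤ → Submodule k R) [GradedAlgebra 𝒜] (hposR : ∀ n : ℤ, n < 0 → 𝒜 n = ⊥) (h0R : 𝒜 0 = Submodule.span k {(1 : R)}) [Algebra.FiniteType k R] (S : Type u) [CommRing S] [Algebra k S] (ℬ : ℤ → Submodule k S) [GradedAlgebra ℬ] (hposS : ∀ n : ℤ, n < 0 → ℬ n = ⊥) (h0S : ℬ 0 = Submodule.span k {(1 : S)}) [Algebra.FiniteType k S] (T : Type u) [CommRing T] [Algebra k T] (𝒯 : ℤ → Submodule k T) [GradedAlgebra 𝒯] (ψ : T →ₐ[k] TensorProduct k R S) (hT : GrSeg.IsSegreRing 𝒜 ℬ 𝒯 ψ) (hstdR : Ideal.span (⋃ n ∈ Set.Ioi (0 : ℤ), (𝒜 n : Set R)) = Ideal.span ((𝒜 1 : Submodule k R) : Set R)) (hstdS : Ideal.span (⋃ n ∈ Set.Ioi (0 : ℤ), (ℬ n : Set S)) = Ideal.span ((ℬ 1 : Submodule k S) : Set S)) (hr1 : 1 ≤ ringKrullDim R) (hs1 : 1 ≤ ringKrullDim S) (mT : HomogeneousIdeal 𝒯) (hmT : mT.toIdeal = Ideal.span (⋃ n ∈ Set.Ioi (0 : ℤ), (𝒯 n : Set T))) (a b : ℤ) (hab : b ≤ a) (P : Type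 u) [AddCommGroup P] [Module T P] [Module k P] [IsScalarTower k T P] (𝒬 : ℤ → AddSubgroup P) [DirectSum.Decomposition 𝒬] (φ : P →ₗ[k] TensorProduct k R S) (hP : GrSeg.IsSegreMod ψ (fun n : ℤ => 𝒜 (n + a)) (fun n : ℤ => ℬ (n + b)) 𝒬 φ) : Module.finrank k (P ⧸ (mT.toIdeal • (⊤ : Submodule T P))) = Module.finrank k (𝒜 (a - b)) := by
  classical
  have : Nontrivial S := by
    by_contra h
    rw [not_nontrivial_iff_subsingleton] at h
    rw [ringKrullDim_eq_bot_of_subsingleton] at hs1
    simp at hs1
  have hneR : ∀ {n : ℤ}, n < 0 → ∀ x ∈ 𝒜 n, x = 0 := fun hn x hx => (Submodule.mem_bot k).mp ((hposR _ hn).le hx)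
  have hneS : ∀ {n : ℤ}, n < 0 → ∀ x ∈ ℬ n, x = 0 := fun hn x hx => (Submodule.mem_bot k).mp ((hposS _ hn).le hx)
  obtain ⟨lam, hlam⟩ : ∃ lam : S →ₗ[k] k, lam 1 = 1 := by
    obtain ⟨lam, hlam⟩ := Module.Projective.exists_dual_ne_zero k (one_ne_zero : (1 : S) ≠ 0)
    exact ⟨(lam 1)⁻¹ • lam, by simp [hlam]⟩
  let χ : S →ₗ[k] k := lam ∘ₗ GradedAlgebra.proj ℬ 0
  let Φ : R ⊗[k] S →ₗ[k] R := (TensorProduct.rid k R).toLinearMap ∘ₗ TensorProduct.map (GradedAlgebra.proj 𝒜 (a - b)) χ
  have hΦ : ∀ r s, Φ (r ⊗ₜ[k] s) = χ s • GradedAlgebra.proj 𝒜 (a - b) r := fun r s => by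
    show TensorProduct.rid k R (TensorProduct.map _ χ (r ⊗ₜ[k] s)) = _
    rw [TensorProduct.map_tmul, TensorProduct.rid_tmul]
  let L : P →ₗ[k] 𝒜 (a - b) := (Φ ∘ₗ φ).codRestrict _ fun p => by
    show Φ (φ p) ∈ 𝒜 (a - b)
    induction φ p using TensorProduct.induction_on with
    | zero => simp
    | add u v hu hv => rw [map_add]; exact add_mem hu hv
    | tmul r s => rw [hΦ]; exact Submodule.smul_mem _ _ (SegreDim.proj_mem _ _)
  have hpre : ∀ (n : ℤ) (r : R) (s : S), r ∈ 𝒜 (n + a) → s ∈ ℬ (n + b) → ∃ p ∈ 𝒬 n, φ p = r ⊗ₜ[k] s := by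
    intro n r s hr hs
    have : r ⊗ₜ[k] s ∈ φ '' (𝒬 n : Set P) := by
      rw [hP.image_piece]; exact Submodule.subset_span ⟨r, hr, s, hs, rfl⟩
    exact this
  let W : Submodule k P := (mT.toIdeal • (⊤ : Submodule T P)).restrictScalars k
  have hle : W ≤ LinearMap.ker L := by
    intro p hp
    refine Submodule.smul_induction_on (p := fun z => z ∈ LinearMap.ker L) hp ?_ fun u v hu hv => add_mem hu hv
    intro t ht q hqtop
    clear hqtop
    rw [hmT] at ht
    clear hp
    induction ht using Submodule.span_induction generalizing q with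
    | zero => simp
    | add u v _ _ hu hv => rw [add_smul]; exact add_mem (hu q) (hv q)
    | smul c u _ hu =>
      rw [smul_eq_mul, mul_comm, mul_smul]; exact hu _
    | mem t ht =>
      obtain ⟨m, hm, htm⟩ := Set.mem_iUnion₂.mp ht
      apply Subtype.ext
      show Φ (φ (t • q)) = 0
      rw [hP.map_smul]
      have h1 : ψ t ∈ GrSeg.segrePiece k 𝒜 ℬ m := by rw [← hT.2]; exact ⟨t, htm, rfl⟩
      generalize ψ t = u at h1 ⊢
      induction h1 using Submodule.span_induction with
      | zero => simp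
      | add u v _ _ hu hv => rw [map_add, LinearMap.add_apply, map_add, hu, hv, add_zero]
      | smul c u _ hu => rw [map_smul, LinearMap.smul_apply, map_smul, hu, smul_zero]
      | mem u hu =>
        obtain ⟨r, -, s, hs, rfl⟩ := hu
        induction φ q using TensorProduct.induction_on with
        | zero => simp
        | add u v hu hv => rw [map_add, map_add, hu, hv, add_zero]
        | tmul x y =>
          rw [GrSeg.act_tmul, hΦ]
          have : χ (s • y) = 0 := by
            show lam (GradedAlgebra.proj ℬ 0 (s * y)) = 0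
            rw [SegreDim.proj_mul_left hs, hneS (n := 0 - m) (by rw [Set.mem_Ioi] at hm; omega) _ (SegreDim.proj_mem _ _),
              mul_zero, map_zero]
          rw [this, zero_smul]
  have hW : W = LinearMap.ker L := by
    refine le_antisymm hle ?_
    intro p hp
    have key : ∀ n : ℤ, n ≠ -b → ∀ q ∈ 𝒬 n, q ∈ W := by
      intro n hn q hq
      have hmem : φ q ∈ GrSeg.segrePiece k (fun n : ℤ => 𝒜 (n + a)) (fun n : ℤ => ℬ (n + b)) n := by
        rw [← SetLike.mem_coe, ← hP.image_piece n]; exact ⟨q, hq, rfl⟩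
      suffices hle : GrSeg.segrePiece k (fun n : ℤ => 𝒜 (n + a)) (fun n : ℤ => ℬ (n + b)) n ≤ W.map φ by
        obtain ⟨q', hq', he⟩ := hle hmem
        exact hP.injective he ▸ hq'
      refine Submodule.span_le.mpr ?_
      rintro _ ⟨x, hx, y, hy, rfl⟩
      rw [SetLike.mem_coe]
      simp only at hx hy
      rcases lt_or_gt_of_ne hn with h | h
      · rw [hneS (by omega) y hy, TensorProduct.tmul_zero]; exact zero_mem _
      · have hx' := SegreDim.std_piece hstdR (show 0 < n + a by omega) hx
        have hy' := SegreDim.std_piece hstdS (show 0 < n + b by omega) hy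
        clear hx hy
        induction hx' using Submodule.span_induction with
        | zero => rw [TensorProduct.zero_tmul]; exact zero_mem _
        | add u v _ _ hu hv => rw [TensorProduct.add_tmul]; exact add_mem hu hv
        | smul c u _ hu => rw [← TensorProduct.smul_tmul']; exact Submodule.smul_mem _ c hu
        | mem u hu =>
          obtain ⟨r1, hr1, r2, hr2, rfl⟩ := hu
          induction hy' using Submodule.span_induction with
          | zero => rw [TensorProduct.tmul_zero]; exact zero_mem _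
          | add u v _ _ hu hv => rw [TensorProduct.tmul_add]; exact add_mem hu hv
          | smul c u _ hu => rw [TensorProduct.tmul_smul]; exact Submodule.smul_mem _ c hu
          | mem v hv =>
            obtain ⟨s1, hs1, s2, hs2, rfl⟩ := hv
            obtain ⟨p', -, hp'⟩ := hpre (n - 1) r2 s2 (by rwa [sub_add_eq_add_sub]) (by rwa [sub_add_eq_add_sub])
            have : r1 ⊗ₜ[k] s1 ∈ (𝒯 1).map ψ.toLinearMap := by
              rw [hT.2]; exact Submodule.subset_span ⟨_, hr1, _, hs1, rfl⟩
            obtain ⟨t, htm, ht⟩ := Submodule.mem_map.mp this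
            refine Submodule.mem_map.mpr ⟨t • p', ?_, ?_⟩
            · show t • p' ∈ mT.toIdeal • (⊤ : Submodule T P)
              refine Submodule.smul_mem_smul ?_ Submodule.mem_top
              rw [hmT]; exact Ideal.subset_span (Set.mem_biUnion (show (1 : ℤ) ∈ Set.Ioi 0 by simp) htm)
            · rw [hP.map_smul, show ψ t = r1 ⊗ₜ[k] s1 from ht, hp', GrSeg.act_tmul]; rfl
    obtain ⟨q, hqdef⟩ : ∃ q : P, q = (DirectSum.decompose 𝒬 p (-b) : P) := ⟨_, rfl⟩
    have hqm : q ∈ 𝒬 (-b) := hqdef ▸ SetLike.coe_mem _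
    have hrest : p - q ∈ W := by
      by_cases hb : -b ∈ (DirectSum.decompose 𝒬 p).support
      · rw [hqdef]
        nth_rewrite 1 [← DirectSum.sum_support_decompose 𝒬 p]
        rw [← Finset.add_sum_erase _ _ hb, add_sub_cancel_left]
        exact Submodule.sum_mem _ fun n hn => key n (Finset.ne_of_mem_erase hn) _ (SetLike.coe_mem _)
      · have : q = 0 := by
          rw [hqdef, DFinsupp.notMem_support_iff.mp hb]; rfl
        rw [this, sub_zero, ← DirectSum.sum_support_decompose 𝒬 p]
        exact Submodule.sum_mem _ fun n hn => key n (fun e => hb (e ▸ hn)) _ (SetLike.coe_mem _)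
    have hLq : L q = 0 := by
      have h1 : L (p - q) = 0 := by
        exact hle hrest
      rw [map_sub, LinearMap.mem_ker.mp hp, zero_sub, neg_eq_zero] at h1
      exact h1
    have hq0 : φ q = 0 := by
      have hmem : φ q ∈ GrSeg.segrePiece k (fun n : ℤ => 𝒜 (n + a)) (fun n : ℤ => ℬ (n + b)) (-b) := by
        rw [← SetLike.mem_coe, ← hP.image_piece]; exact ⟨q, hqm, rfl⟩
      have : φ q = Φ (φ q) ⊗ₜ[k] (1 : S) := by
        generalize φ q = u at hmem ⊢
        induction hmem using Submodule.span_induction with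
        | zero => simp
        | add u v _ _ hu hv => rw [map_add, TensorProduct.add_tmul, ← hu, ← hv]
        | smul c u _ hu => rw [map_smul, ← TensorProduct.smul_tmul', ← hu]
        | mem u hu =>
          obtain ⟨r, hr, s, hs, rfl⟩ := hu
          simp only [neg_add_cancel, neg_add_eq_sub] at hr hs
          rw [h0S, Submodule.mem_span_singleton] at hs
          obtain ⟨c, rfl⟩ := hs
          have hc : χ (c • (1 : S)) = c := by
            show lam (GradedAlgebra.proj ℬ 0 (c • (1 : S))) = c
            rw [map_smul, SegreDim.proj_of_mem (SetLike.one_mem_graded ℬ), map_smul, hlam, smul_eq_mul, mul_one]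
          rw [hΦ, hc, SegreDim.proj_of_mem hr, TensorProduct.smul_tmul]
      rw [this]
      have : Φ (φ q) = 0 := congrArg Subtype.val hLq
      rw [this, TensorProduct.zero_tmul]
    have : q = 0 := hP.injective (by rw [hq0, map_zero])
    rwa [this, sub_zero] at hrest
  have hL : Function.Surjective L := by
    rintro ⟨r, hr⟩
    obtain ⟨p, -, hp⟩ := hpre (-b) r 1 (by rwa [neg_add_eq_sub]) (by rw [neg_add_cancel]; exact SetLike.one_mem_graded ℬ)
    refine ⟨p, Subtype.ext ?_⟩
    show Φ (φ p) = r
    rw [hp, hΦ, show χ 1 = 1 by show lam (GradedAlgebra.proj ℬ 0 1) = 1; rw [SegreDim.proj_of_mem (SetLike.one_mem_graded ℬ), hlam],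
      one_smul, SegreDim.proj_of_mem hr]
  rw [show Module.finrank k (P ⧸ mT.toIdeal • (⊤ : Submodule T P)) = Module.finrank k (P ⧸ W) from
    (Submodule.Quotient.restrictScalarsEquiv k (mT.toIdeal • (⊤ : Submodule T P))).symm.finrank_eq, hW]
  exact (L.quotKerEquivOfSurjective hL).finrank_eq

end Groth.Agent.S19750
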