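import Groth.Statements.S19756
import Groth.Agent.SegreLC.Apps
import Groth.Agent.S18647

set_option autoImplicit false
universe u
open scoped TensorProduct
open GrSegre

namespace Groth.Agent.S19756

/-- Let R and S be graded rings defined over a field k with m = R_+ and T = R # S, let M be a finitely
generated graded Cohen–Macaulay R-module of dimension 1 and N a finitely generated graded
Cohen–Macaulay S-module of dimension s ≥ 1, and assume M # N ≠ 0. (ii) If s ≥ 2, then M # N is a
Cohen–Macaulay T-module if and only if H^1_m(M) # N = 0, that is, for every degree d, H^1_m(M)_d = 0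
or N_d = 0. (iii) If s = 1, then M # N is a Cohen–Macaulay T-module. The numbers 1 and s are here
the dimensions of the modules M and N themselves and are not assumed to equal dim R and dim S. Here
a graded ring defined over k is a commutative k-algebra of finite type, graded in nonnegative
degrees by k-subspaces with degree-zero part k·1; the Segre product T = R # S = ⊕_n R_n ⊗_k S_n is
presented abstractly as a graded k-algebra T with an injective k-algebra homomorphism ψ : T → R ⊗_k
S carrying T_n onto the k-span of the elementary tensors a ⊗ b with a ∈ R_n, b ∈ S_n; the Segre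
product M # N = ⊕_n M_n ⊗_k N_n of a graded R-module M and a graded S-module N is presented
abstractly as a graded T-module P with an injective k-linear map φ : P → M ⊗_k N carrying P_n onto
the k-span of the tensors x ⊗ y with x ∈ M_n, y ∈ N_n and turning the action of t ∈ T into that of
ψ(t) (acting factorwise on M ⊗_k N); a module over a ring is called Cohen–Macaulay when each of its
localizations at a prime ideal is zero or a Cohen–Macaulay module over the local ring (dimension of
the support equal to the depth), and the dimension of a module is the Krull dimension of its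
support; the graded local cohomology pieces are computed from a *injective resolution of M in the
graded category. -/
theorem result (k : Type u) [Field k] (R : Type u) [CommRing R] [Algebra k R] (𝒜 : ℤ → Submodule k R) [GradedAlgebra 𝒜] (hposR : ∀ n : ℤ, n < 0 → 𝒜 n = ⊥) (h0R : 𝒜 0 = Submodule.span k {(1 : R)}) [Algebra.FiniteType k R] (S : Type u) [CommRing S] [Algebra k S] (ℬ : ℤ → Submodule k S) [GradedAlgebra ℬ] (hposS : ∀ n : ℤ, n < 0 → ℬ n = ⊥) (h0S : ℬ 0 = Submodule.span k {(1 : S)}) [Algebra.FiniteType k S] (T : Type u) [CommRing T] [Algebra k T] (𝒯 : ℤ → Submodule k T) [GradedAlgebra 𝒯] (ψ : T →ₐ[k] TensorProduct k R S) (hT : GrSeg.IsSegreRing 𝒜 ℬ 𝒯 ψ) (mR : HomogeneousIdeal 𝒜) (hmR : mR.toIdeal = Ideal.span (⋃ n ∈ Set.Ioi (0 : ℤ), (𝒜 n : Set R))) (M : Type u) [AddCommGroup M] [Module R M] [Module k M] [IsScalarTower k R M] (ℳ : ℤ → AddSubgroup M) [DirectSum.Decomposition ℳ] [SetLike.GradedSMul 𝒜 ℳ] [Module.Finite R M] (EM : GrLC.StarInjRes 𝒜 ℳ) (N : Type u) [AddCommGroup N] [Module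 S N] [Module k N] [IsScalarTower k S N] (𝒩 : ℤ → AddSubgroup N) [DirectSum.Decomposition 𝒩] [SetLike.GradedSMul ℬ 𝒩] [Module.Finite S N] (P : Type u) [AddCommGroup P] [Module T P] [Module k P] [IsScalarTower k T P] (𝒬 : ℤ → AddSubgroup P) [DirectSum.Decomposition 𝒬] (φ : P →ₗ[k] TensorProduct k M N) (hP : GrSeg.IsSegreMod ψ ℳ 𝒩 𝒬 φ) [Nontrivial P] (s : ℕ) (h1s : 1 ≤ s) (hdM : Module.supportDim R M = 1) (hdN : Module.supportDim S N = s) (hMcm : (∀ (q : Ideal R) [q.IsPrime], Subsingleton (LocalizedModule q.primeCompl M) ∨ LocCoh.IsCohenMacaulayModule (Localization.AtPrime q) (LocalizedModule q.primeCompl M))) (hNcm : (∀ (q : Ideal S) [q.IsPrime], Subsingleton (LocalizedModule q.primeCompl N) ∨ LocCoh.IsCohenMacaulayModule (Localization.AtPrime q) (LocalizedModule q.primeCompl N))) : (2 ≤ s → ((∀ (q : Ideal T) [q.IsPrime], Subsingleton (LocalizedModule q.primeCompl P) ∨ LocCoh.IsCohenMacaulayModule (Localization.AtPrime q) (LocalizedModule q.primeCompl P)) ↔ ∀ d : ℤ, EM.Hcomp mR 1 d = ⊥ ∨ 𝒩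 d = ⊥)) ∧ (s = 1 → (∀ (q : Ideal T) [q.IsPrime], Subsingleton (LocalizedModule q.primeCompl P) ∨ LocCoh.IsCohenMacaulayModule (Localization.AtPrime q) (LocalizedModule q.primeCompl P))) := by
  classical
  let D : Groth.Agent.SegreLC.Datum 𝒜 ℬ 𝒯 := ⟨ψ, hT⟩
  haveI := SegreLC.gradedSMul_of_isSegreMod D hP
  haveI := SegreLC.finiteType_T D hposR h0R hposS h0S
  haveI := SegreLC.finite_segreMod D hP hposR h0R hposS h0S
  obtain ⟨G⟩ := SegreLC.exists_gens' D hposR h0R hposS h0S
  haveI := G.noethR
  haveI := G.noethS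
  haveI := G.noethT
  haveI : Nontrivial M := (Module.supportDim_ne_bot_iff_nontrivial R M).1 (by rw [hdM]; simp)
  haveI : Nontrivial N := (Module.supportDim_ne_bot_iff_nontrivial S N).1 (by rw [hdN]; simp)
  haveI : Nontrivial R := Module.nontrivial R M
  haveI : Nontrivial S := Module.nontrivial S N
  haveI := SegreLC.nontrivial_T D
  have h0T := SegreLC.h0_T D h0R h0S
  have hposT := SegreLC.neg_T D hposR
  let mT : HomogeneousIdeal 𝒯 := ⟨SegreLC.posIdeal 𝒯, Ideal.homogeneous_span 𝒯 _ (fun x hx => by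
    obtain ⟨n, -, hn⟩ := Set.mem_iUnion₂.1 hx
    exact ⟨n, hn⟩)⟩
  obtain ⟨EP⟩ := GrLCLib.nonempty_starInjRes 𝒯 𝒬
  let mS : HomogeneousIdeal ℬ := ⟨SegreLC.posIdeal ℬ, Ideal.homogeneous_span ℬ _ (fun x hx => by
    obtain ⟨n, -, hn⟩ := Set.mem_iUnion₂.1 hx
    exact ⟨n, hn⟩)⟩
  obtain ⟨EN⟩ := GrLCLib.nonempty_starInjRes ℬ 𝒩
  have hdM' : Module.supportDim R M = ((1 : ℕ) : WithBot ℕ∞) := hdM
  have hdP := (S19754.result k R 𝒜 hposR h0R S ℬ hposS h0S T 𝒯 ψ hT M ℳ N 𝒩 P 𝒬 φ hP 1 s
    le_rfl h1s hdM' hdN hMcm hNcm).resolve_right (not_subsingleton P)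
  rw [show 1 + s - 1 = s by omega] at hdP
  have hM := SegreLC.hcomp_eq_bot_of_cm mR EM hposR h0R hmR hdM' hMcm
  have hN := SegreLC.hcomp_eq_bot_of_cm mS EN hposS h0S rfl hdN hNcm
  refine ⟨fun h2s => ?_, fun hs1 => ?_⟩
  · rw [SegreLC.cm_iff_vanish mT EP hposT h0T rfl hdP,
      SegreLC.vanish_iff_of_one D hP G mR hmR mS rfl mT rfl EM EN EP h2s hM hN]
    simp only [AddSubgroup.eq_bot_iff_forall]
  · refine (SegreLC.cm_iff_vanish mT EP hposT h0T rfl hdP).2 fun i hi d => ?_
    obtain rfl : i = 0 := by omega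
    exact SegreLC.vanish_zero D hP G mR hmR mS rfl mT rfl EM EN EP (fun e => hM 0 (by omega) e)
      (fun e => hN 0 (by omega) e) d

end Groth.Agent.S19756
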