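import Groth.Statements.S1976
import Groth.Agent.WEtField.Basic

set_option autoImplicit false
set_option backward.isDefEq.respectTransparency false
set_option backward.isDefEq.respectTransparency.types false
set_option linter.style.haveILetI false
set_option synthInstance.maxHeartbeats 200000
universe u
open CategoryTheory
open EtAlg

namespace Groth.Agent.S1976

/-- (2) ⇔ (3): a K-algebra B over a field K is weakly etale exactly when it can be written as a filtered
colimit of etale K-algebras, and in that case its finitely generated K-subalgebras are etale. -/
theorem result (K : Type u) [Field K] (B : Type u) [CommRing B] [Algebra K B] :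
    (Algebra.WeaklyEtale K B ↔ EtPBC.IsIndEtale K B) ∧
    (Algebra.WeaklyEtale K B → ∀ S : Subalgebra K B, S.FG → Algebra.Etale K S) := by
  refine ⟨⟨fun _ => Groth.Agent.WEtField.isIndEtale_of_forall fun b => Groth.Agent.WEtField.isSepElem_of_weaklyEtale b,
    fun h => Groth.Agent.S0736.result K B h⟩, fun _ S hS => ?_⟩
  obtain ⟨s, rfl⟩ := hS
  exact Groth.Agent.WEtField.etale_adjoin s.finite_toSet fun b _ => Groth.Agent.WEtField.isSepElem_of_weaklyEtale b

end Groth.Agent.S1976
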