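import Groth.Statements.S19763
import Groth.Agent.SegreLC.PolyShift

set_option autoImplicit false
set_option backward.isDefEq.respectTransparency false
set_option backward.isDefEq.respectTransparency.types false
universe u
open scoped TensorProduct
attribute [local instance] MvPolynomial.weightedGradedAlgebra
open GrSegre

namespace Groth.Agent.S19763

/-- Let R = k[X_1, …, X_r] and S = k[Y_1, …, Y_s] be polynomial rings over a field k with every variable
of degree 1, r ≥ 2 and s ≥ 2, T = R # S, and M = R(a), N = S(b) for integers a, b. Then (a) M # N is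
a Cohen–Macaulay T-module if and only if s > a − b > −r; (b) if a − b ≥ s then depth (M # N) = s;
(c) if a − b ≤ −r then depth (M # N) = r. Here the polynomial rings carry the standard grading by
k-subspaces of homogeneous polynomials (indexed by ℤ, all variables of weight 1); the Segre product
T = R # S = ⊕_n R_n ⊗_k S_n is presented abstractly as a graded k-algebra T with an injective
k-algebra homomorphism ψ : T → R ⊗_k S carrying T_n onto the k-span of the elementary tensors of
bidegree (n, n), T_+ is the ideal spanned by the T_n with n > 0, and R(a) # S(b) = ⊕_n R_{n+a} ⊗_k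
S_{n+b} is presented abstractly as a graded T-module P with an injective k-linear map φ : P → R ⊗_k
S carrying P_n onto the k-span of the tensors x ⊗ y with x ∈ R_{n+a}, y ∈ S_{n+b} and turning the
action of t ∈ T into that of ψ(t); a module over a ring is called Cohen–Macaulay when each of its
localizations at a prime ideal is zero or a Cohen–Macaulay module over the local ring (dimension of
the support equal to the depth), and the dimension of a module is the Krull dimension of its
support; the depth of P is its grade with respect to T_+ (the common length of the maximal P-regular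
sequences in T_+). -/
theorem result (k : Type u) [Field k] (r s : ℕ) (h2r : 2 ≤ r) (h2s : 2 ≤ s) (T : Type u) [CommRing T] [Algebra k T] (𝒯 : ℤ → Submodule k T) [GradedAlgebra 𝒯] (ψ : T →ₐ[k] TensorProduct k (MvPolynomial (Fin r) k) (MvPolynomial (Fin s) k)) (hT : GrSeg.IsSegreRing (MvPolynomial.weightedHomogeneousSubmodule k (fun _ : Fin r => (1 : ℤ))) (MvPolynomial.weightedHomogeneousSubmodule k (fun _ : Fin s => (1 : ℤ))) 𝒯 ψ) (mT : HomogeneousIdeal 𝒯) (hmT : mT.toIdeal = Ideal.span (⋃ n ∈ Set.Ioi (0 : ℤ), (𝒯 n : Set T))) (a b : ℤ) (P : Type u) [AddCommGroup P] [Module T P] [Module k P] [IsScalarTower k T P] (𝒬 : ℤ → AddSubgroup P) [DirectSum.Decomposition 𝒬] (φ : P →ₗ[k] TensorProduct k (MvPolynomial (Fin r) k) (MvPolynomial (Fin s) k)) (hP : GrSeg.IsSegreMod ψ (fun n : ℤ => (MvPolynomial.weightedHomogeneousSubmodule k (fun _ : Fin r => (1 : ℤ))) (n + a)) (fun n : ℤ => (MvPolynomial.weightedHomogeneousSubmodule k (fun _ : Fin s => (1 : ℤ))) (n + b)) 𝒬 φ) : ((∀ (q : Ideal T) [q.IsPrime], Subsingleton (LocalizedModule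 q.primeCompl P) ∨ LocCoh.IsCohenMacaulayModule (Localization.AtPrime q) (LocalizedModule q.primeCompl P)) ↔ (a - b < (s : ℤ) ∧ -(r : ℤ) < a - b)) ∧ ((s : ℤ) ≤ a - b → LocCoh.idealDepth mT.toIdeal P = (s : ℕ∞)) ∧ (a - b ≤ -(r : ℤ) → LocCoh.idealDepth mT.toIdeal P = (r : ℕ∞)) := by
  classical
  have hT' : GrSeg.IsSegreRing (GrSyz.stdGr k (Fin r)) (GrSyz.stdGr k (Fin s)) 𝒯 ψ := hT
  have hP' : GrSeg.IsSegreMod ψ (GrLCLib.shiftPiece (GrSyz.stdGr k (Fin r)) a)
      (GrLCLib.shiftPiece (GrSyz.stdGr k (Fin s)) b) 𝒬 φ := ⟨hP.injective, hP.image_piece, hP.map_smul⟩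
  haveI := SegreLC.PolyShift.gradedSMul hT' hP'
  haveI := SegreLC.PolyShift.moduleFinite hT' hP'
  haveI := SegreLC.PolyShift.nontrivial hP' (by omega) (by omega)
  obtain ⟨hft, hnt, hposT, h0T⟩ := SegreLC.PolyShift.finiteType hT' hP'
  haveI := hft
  haveI := hnt
  haveI : IsNoetherianRing T := Algebra.FiniteType.isNoetherianRing k T
  obtain ⟨EP⟩ := GrLCLib.nonempty_starInjRes 𝒯 𝒬
  have hdim := SegreLC.PolyShift.supportDim_eq hT' hP' (by omega) (by omega)
  have hkey := fun (q : ℕ) (hq : q < r + s - 1) =>
    SegreLC.PolyShift.hcomp_eq_bot hT' mT hmT hP' EP h2r h2s hq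
  refine ⟨(SegreLC.cm_iff_vanish mT EP hposT h0T hmT hdim).trans ⟨fun h => ?_, fun h q hq => ?_⟩, fun h => ?_, fun h => ?_⟩
  · exact ⟨((hkey s (by omega)).1 (h s (by omega))).1 rfl, ((hkey r (by omega)).1 (h r (by omega))).2 rfl⟩
  · exact (hkey q hq).2 ⟨fun _ => h.1, fun _ => h.2⟩
  · refine SegreLC.PolyShift.idealDepth_eq mT EP (fun q hq => (hkey q (by omega)).2
      ⟨fun e => absurd e (by omega), fun _ => by omega⟩) fun hall => ?_
    have := ((hkey s (by omega)).1 hall).1 rfl
    omega
  · refine SegreLC.PolyShift.idealDepth_eq mT EP (fun q hq => (hkey q (by omega)).2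
      ⟨fun _ => by omega, fun e => absurd e (by omega)⟩) fun hall => ?_
    have := ((hkey r (by omega)).1 hall).2 rfl
    omega

end Groth.Agent.S19763
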