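import Groth.Statements.S19764
import Groth.Agent.SegreLC.PolyShift

set_option autoImplicit false
set_option backward.isDefEq.respectTransparency false
set_option backward.isDefEq.respectTransparency.types false
universe u
open scoped TensorProduct
attribute [local instance] MvPolynomial.weightedGradedAlgebra
open GrSegre

namespace Groth.Agent.S19764

/-- Let R = k[X] and S = k[Y_1, …, Y_s] be polynomial rings over a field k with every variable of degree
1, s ≥ 2, T = R # S, and M = R(a), N = S(b) for integers a, b. Then (a) if a ≥ b, M # N is a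
Cohen–Macaulay T-module; (b) if a < b, depth (M # N) = 1. (Part (a) of the published statement also
identifies M # N with S(b); that identification is not stated here.) Here the polynomial rings carry
the standard grading by k-subspaces of homogeneous polynomials (indexed by ℤ, all variables of
weight 1); the Segre product T = R # S = ⊕_n R_n ⊗_k S_n is presented abstractly as a graded
k-algebra T with an injective k-algebra homomorphism ψ : T → R ⊗_k S carrying T_n onto the k-span of
the elementary tensors of bidegree (n, n), T_+ is the ideal spanned by the T_n with n > 0, and R(a)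
# S(b) = ⊕_n R_{n+a} ⊗_k S_{n+b} is presented abstractly as a graded T-module P with an injective
k-linear map φ : P → R ⊗_k S carrying P_n onto the k-span of the tensors x ⊗ y with x ∈ R_{n+a}, y ∈
S_{n+b} and turning the action of t ∈ T into that of ψ(t); a module over a ring is called
Cohen–Macaulay when each of its localizations at a prime ideal is zero or a Cohen–Macaulay module
over the local ring (dimension of the support equal to the depth), and the dimension of a module is
the Krull dimension of its support; the depth of P is its grade with respect to T_+ (the common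
length of the maximal P-regular sequences in T_+). -/
theorem result (k : Type u) [Field k] (s : ℕ) (h2s : 2 ≤ s) (T : Type u) [CommRing T] [Algebra k T] (𝒯 : ℤ → Submodule k T) [GradedAlgebra 𝒯] (ψ : T →ₐ[k] TensorProduct k (MvPolynomial (Fin 1) k) (MvPolynomial (Fin s) k)) (hT : GrSeg.IsSegreRing (MvPolynomial.weightedHomogeneousSubmodule k (fun _ : Fin 1 => (1 : ℤ))) (MvPolynomial.weightedHomogeneousSubmodule k (fun _ : Fin s => (1 : ℤ))) 𝒯 ψ) (mT : HomogeneousIdeal 𝒯) (hmT : mT.toIdeal = Ideal.span (⋃ n ∈ Set.Ioi (0 : ℤ), (𝒯 n : Set T))) (a b : ℤ) (P : Type u) [AddCommGroup P] [Module T P] [Module k P] [IsScalarTower k T P] (𝒬 : ℤ → AddSubgroup P) [DirectSum.Decomposition 𝒬] (φ : P →ₗ[k] TensorProduct k (MvPolynomial (Fin 1) k) (MvPolynomial (Fin s) k)) (hP : GrSeg.IsSegreMod ψ (fun n : ℤ => (MvPolynomial.weightedHomogeneousSubmodule k (fun _ : Fin 1 => (1 : ℤ))) (n + a)) (fun n : ℤ => (MvPolynomial.weightedHomogeneousSubmodule k (fun _ : Fin s => (1 : ℤ))) (n + b)) 𝒬 φ) : (b ≤ a → (∀ (q : Ideal T) [q.IsPrime], Subsingleton (LocalizedModule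 q.primeCompl P) ∨ LocCoh.IsCohenMacaulayModule (Localization.AtPrime q) (LocalizedModule q.primeCompl P))) ∧ (a < b → LocCoh.idealDepth mT.toIdeal P = (1 : ℕ∞)) := by
  classical
  have hT' : GrSeg.IsSegreRing (GrSyz.stdGr k (Fin 1)) (GrSyz.stdGr k (Fin s)) 𝒯 ψ := hT
  have hP' : GrSeg.IsSegreMod ψ (GrLCLib.shiftPiece (GrSyz.stdGr k (Fin 1)) a)
      (GrLCLib.shiftPiece (GrSyz.stdGr k (Fin s)) b) 𝒬 φ := ⟨hP.injective, hP.image_piece, hP.map_smul⟩
  haveI := SegreLC.PolyShift.gradedSMul hT' hP'
  haveI := SegreLC.PolyShift.moduleFinite hT' hP'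
  haveI := SegreLC.PolyShift.nontrivial hP' (by omega) (by omega)
  obtain ⟨hft, hnt, hposT, h0T⟩ := SegreLC.PolyShift.finiteType hT' hP'
  haveI := hft
  haveI := hnt
  haveI : IsNoetherianRing T := Algebra.FiniteType.isNoetherianRing k T
  obtain ⟨EP⟩ := GrLCLib.nonempty_starInjRes 𝒯 𝒬
  have hdim := SegreLC.PolyShift.supportDim_eq hT' hP' (by omega) (by omega)
  rw [show 1 + s - 1 = s by omega] at hdim
  refine ⟨fun hba => (SegreLC.cm_iff_vanish mT EP hposT h0T hmT hdim).2
    (SegreLC.PolyShift.hcomp_of_le hT' mT hmT hP' EP rfl h2s hba), fun hab => ?_⟩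
  refine (SegreLC.PolyShift.idealDepth_eq mT EP (n := 1) (fun q hq d => ?_) fun hall => ?_).trans Nat.cast_one
  · obtain rfl : q = 0 := by omega
    exact SegreLC.PolyShift.hcomp_zero_eq_bot hT' mT hmT hP' EP le_rfl (by omega) d
  · have := (SegreLC.PolyShift.hcomp_one_eq_bot hT' mT hmT hP' EP rfl h2s).1 hall
    omega

end Groth.Agent.S19764
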