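import Groth.Statements.S19766
import Mathlib
import Groth.Agent.AVAmple.Mumford

set_option autoImplicit false
set_option backward.isDefEq.respectTransparency false
set_option backward.isDefEq.respectTransparency.types false
universe u
open CategoryTheory MonoidalCategory CartesianMonoidalCategory MonObj GrpObj AlgebraicGeometry
open AbVar

namespace Groth.Agent.S19766

/-- Let X be an abelian variety over a field k (a proper, geometrically integral k-group scheme), L an
invertible O_X-module, and i : K → X a closed immersion exhibiting K as K(L): the maximal closed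
subscheme of X over which the Mumford bundle m^*L ⊗ p_1^*L⁻¹ ⊗ p_2^*L⁻¹ on X ×_k X, restricted to X
×_k K, is the inverse image of an invertible module on K, with its universal property for morphisms
T → X. Let T be a k-scheme and x : T → X a T-valued point, t_x : X_T → X_T the translation by x and
L_T the inverse image of L on X_T = X ×_k T. Then x factors through i if and only if t_x^*L_T ⊗
L_T⁻¹ is the inverse image of a line bundle on T, stated without inverses: there is an invertible
O_T-module M with L_T ⊗ pr_T^*M ≅ t_x^*L_T. -/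
theorem result (k : Type u) [Field k] (X : Over (Spec (CommRingCat.of k)))
    [GrpObj X] [IsProper X.hom] [GeometricallyIntegral X.hom] (L : X.left.Modules) (hL : PicF.IsInvertible L)
    (K : Over (Spec (CommRingCat.of k))) (i : K ⟶ X) (hK : ThetaGrp.IsKL X L i)
    (T : Over (Spec (CommRingCat.of k))) (x : T ⟶ X) :
    (∃ y : T ⟶ K, y ≫ i = x) ↔ ∃ M : T.left.Modules, PicF.IsInvertible M ∧
      Nonempty (CohB1.tensorMod ((Scheme.Modules.pullback (fst X T).left).obj L)
          ((Scheme.Modules.pullback (snd X T).left).obj M) ≅
        (Scheme.Modules.pullback (ThetaGrp.transl X x ≫ fst X T).left).obj L) := by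
  letI := W7Cube.law X.left
  letI := W7Cube.law (X ⊗ T).left
  letI := W7Cube.law T.left
  rw [← hK.univ T x, AVAmple.isMumfordTriv_iff L hL x, ThetaGrp.transl_fst]
  set c := PicGrp.cls L hL
  have key : ∀ (M : T.left.Modules) (hM : PicF.IsInvertible M),
      Nonempty (CohB1.tensorMod ((Scheme.Modules.pullback (fst X T).left).obj L)
        ((Scheme.Modules.pullback (snd X T).left).obj M) ≅
          (Scheme.Modules.pullback (fst X T * (snd X T ≫ x)).left).obj L) ↔
      W7Cube.pc c (fst X T) * W7Cube.pull (snd X T).left (PicGrp.cls M hM) =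
        W7Cube.pc c (fst X T * (snd X T ≫ x)) := fun M hM => by
    rw [W7Cube.pc, W7Cube.pc, W7Cube.pull_cls, W7Cube.pull_cls, W7Cube.pull_cls, ← PicGrp.cl_eq_cl_iff,
      Subtype.ext_iff, PicGrp.mul_val]
    rfl
  constructor
  · rintro ⟨d, hd⟩
    obtain ⟨M, hM, e⟩ := PicGrp.exists_eq_cls (d * W7Cube.pc c x)
    refine ⟨M, hM, (key M hM).2 ?_⟩
    rw [← e, map_mul, ← hd, show W7Cube.pull (snd X T).left (W7Cube.pc c x) = W7Cube.pc c (snd X T ≫ x) from
      W7Cube.pull_pc c (snd X T) x, AVAmple.mum]
    apply Additive.ofMul.injective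
    simp only [ofMul_mul, ofMul_inv]
    abel
  · rintro ⟨M, hM, h⟩
    refine ⟨PicGrp.cls M hM * (W7Cube.pc c x)⁻¹, ?_⟩
    rw [map_mul, map_inv, show W7Cube.pull (snd X T).left (W7Cube.pc c x) = W7Cube.pc c (snd X T ≫ x) from
      W7Cube.pull_pc c (snd X T) x, AVAmple.mum, ← (key M hM).1 h]
    apply Additive.ofMul.injective
    simp only [ofMul_mul, ofMul_inv]
    abel

end Groth.Agent.S19766
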