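import Groth.Statements.S19767
import Mathlib
import Groth.Agent.AVAmple.Mumford

set_option autoImplicit false
set_option backward.isDefEq.respectTransparency false
set_option backward.isDefEq.respectTransparency.types false
universe u
open CategoryTheory MonoidalCategory CartesianMonoidalCategory MonObj GrpObj AlgebraicGeometry
open AbVar

namespace Groth.Agent.S19767

/-- Let X be an abelian variety over a field k (a proper, geometrically integral k-group scheme), L an
invertible O_X-module, T a k-scheme, x : T → X a T-valued point with translation t_x : X_T → X_T,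
and L_T the inverse image of L on X_T = X ×_k T. If an O_T-module M satisfies L_T ⊗ pr_T^*M ≅
t_x^*L_T (that is, t_x^*L_T ⊗ L_T⁻¹ ≅ pr_T^*M), then M ≅ x^*L (existence of an isomorphism). (The
published statement takes M invertible; invertibility is not needed.) -/
theorem result (k : Type u) [Field k] (X : Over (Spec (CommRingCat.of k)))
    [GrpObj X] [IsProper X.hom] [GeometricallyIntegral X.hom] (L : X.left.Modules) (hL : PicF.IsInvertible L)
    (T : Over (Spec (CommRingCat.of k))) (x : T ⟶ X) (M : T.left.Modules)
    (h : Nonempty (CohB1.tensorMod ((Scheme.Modules.pullback (fst X T).left).obj L)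
          ((Scheme.Modules.pullback (snd X T).left).obj M) ≅
        (Scheme.Modules.pullback (ThetaGrp.transl X x ≫ fst X T).left).obj L)) :
    Nonempty (M ≅ (Scheme.Modules.pullback x.left).obj L) := by
  letI := W7Cube.law X.left
  letI := W7Cube.law (X ⊗ T).left
  letI := W7Cube.law T.left
  obtain ⟨e⟩ := h
  rw [ThetaGrp.transl_fst] at e
  let σ := (lift (toUnit T ≫ η[X]) (𝟙 T)).left
  let p := (fst X T).left
  let q := (snd X T).left
  let m := (fst X T * (snd X T ≫ x)).left
  haveI : Subsingleton (Spec (CommRingCat.of k)) := inferInstanceAs (Subsingleton (PrimeSpectrum k))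
  have h1 : σ ≫ q = 𝟙 T.left := by rw [← Over.comp_left, lift_snd, Over.id_left]
  have h2 : σ ≫ m = x.left := by
    rw [← Over.comp_left, MonObj.comp_mul, lift_fst, lift_snd_assoc, Category.id_comp, ← Hom.one_def, _root_.one_mul]
  have h3 : σ ≫ p = T.hom ≫ η[X].left := by
    rw [← Over.comp_left, lift_fst, Over.comp_left]
    rfl
  obtain ⟨t⟩ := TMul.nonempty_pullTensorIso σ ((Scheme.Modules.pullback p).obj L) ((Scheme.Modules.pullback q).obj M)
  haveI : Nonempty (Spec (CommRingCat.of k)) := inferInstanceAs (Nonempty (PrimeSpectrum k))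
  haveI : Subsingleton ↥(𝟙_ (Over (Spec (CommRingCat.of k)))).left :=
    inferInstanceAs (Subsingleton (PrimeSpectrum k))
  haveI : Nonempty ↥(𝟙_ (Over (Spec (CommRingCat.of k)))).left :=
    inferInstanceAs (Nonempty (PrimeSpectrum k))
  obtain ⟨v⟩ : Nonempty ((Scheme.Modules.pullback (η[X].left : Spec (CommRingCat.of k) ⟶ X.left)).obj L ≅
      Coh.structureModule _) := W7See.nonempty_iso_unit_of_subsingleton (PicLoc.isInvertible_pullback _ hL)
  let a : (Scheme.Modules.pullback σ).obj ((Scheme.Modules.pullback p).obj L) ≅ Coh.structureModule T.left :=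
    (Scheme.Modules.pullbackComp σ p).app L ≪≫ (Scheme.Modules.pullbackCongr h3).app L ≪≫
      ((Scheme.Modules.pullbackComp T.hom _).app L).symm ≪≫ (Scheme.Modules.pullback T.hom).mapIso v ≪≫
      PicLoc.pullbackStructureIso T.hom
  let b : (Scheme.Modules.pullback σ).obj ((Scheme.Modules.pullback q).obj M) ≅ M :=
    (Scheme.Modules.pullbackComp σ q).app M ≪≫ (Scheme.Modules.pullbackCongr h1).app M ≪≫
      (Scheme.Modules.pullbackId _).app M
  exact ⟨(TMul.leftUnitIso M).symm ≪≫ PicGrp.tensorModIso a.symm b.symm ≪≫ t ≪≫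
    (Scheme.Modules.pullback σ).mapIso e ≪≫ (Scheme.Modules.pullbackComp σ m).app L ≪≫
    (Scheme.Modules.pullbackCongr h2).app L⟩

end Groth.Agent.S19767
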