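import Groth.Statements.S19768
import Mathlib
import Groth.Agent.AVAmple.Mumford

set_option autoImplicit false
set_option backward.isDefEq.respectTransparency false
set_option backward.isDefEq.respectTransparency.types false
universe u
open CategoryTheory MonoidalCategory CartesianMonoidalCategory MonObj GrpObj AlgebraicGeometry
open AbVar

namespace Groth.Agent.S19768

/-- Let X be an abelian variety over a field k (a proper, geometrically integral k-group scheme), L an
invertible O_X-module, and i : K → X a closed immersion exhibiting K as K(L) (the maximal closed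
subscheme over which the Mumford bundle Λ(L) = m^*L ⊗ p_1^*L⁻¹ ⊗ p_2^*L⁻¹, restricted to X ×_k K, is
the inverse image of an invertible module on K, with its universal property). Then Λ(L) restricted
to X ×_k K is trivial, and not only pulled back from K. Stated without inverses: on X ×_k K, with p
and q the two projections and m' : (a, z) ↦ a · i(z), one has O ⊗ p^*L ⊗ (i ∘ q)^*L ≅ m'^*L. -/
theorem result (k : Type u) [Field k] (X : Over (Spec (CommRingCat.of k)))
    [GrpObj X] [IsProper X.hom] [GeometricallyIntegral X.hom] (L : X.left.Modules) (hL : PicF.IsInvertible L)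
    (K : Over (Spec (CommRingCat.of k))) (i : K ⟶ X) (hK : ThetaGrp.IsKL X L i) :
    AgPol.IsLambdaSheaf ((X ◁ i) ≫ μ[X]).left (fst X K).left (snd X K ≫ i).left L
      (Coh.structureModule (X ⊗ K).left) := by
  letI := W7Cube.law X.left
  letI := W7Cube.law (X ⊗ K).left
  letI := W7Cube.law K.left
  obtain ⟨d, hd⟩ := (AVAmple.isMumfordTriv_iff L hL i).1 ((hK.univ K i).2 ⟨𝟙 K, Category.id_comp i⟩)
  refine (AVAmple.isLambda_iff L hL i _ (PicLoc.isInvertible_structureModule _)).2 ?_
  rw [AVAmple.mum_eq_one_of_pullback _ _ d hd]
  exact ((PicGrp.cls_eq_one_iff (hL := PicLoc.isInvertible_structureModule _)).2 ⟨Iso.refl _⟩).symm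

end Groth.Agent.S19768
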