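import Groth.Statements.S19769
import Mathlib
import Groth.Agent.AVAmple.Mumford

set_option autoImplicit false
set_option backward.isDefEq.respectTransparency false
set_option backward.isDefEq.respectTransparency.types false
universe u
open CategoryTheory MonoidalCategory CartesianMonoidalCategory MonObj GrpObj AlgebraicGeometry
open AbVar

namespace Groth.Agent.S19769

/-- Let X be an abelian variety over a field k (a proper, geometrically integral k-group scheme), L an
invertible O_X-module, and i : K → X a closed immersion exhibiting K as K(L) (the maximal closed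
subscheme over which the Mumford bundle m^*L ⊗ p_1^*L⁻¹ ⊗ p_2^*L⁻¹, restricted to X ×_k K, is the
inverse image of an invertible module on K, with its universal property). Then K is a subgroup
scheme of X: for every k-scheme T, the set of T-valued points of X that factor through i is closed
under the group law of X(T), contains the unit, and is closed under inversion. -/
theorem result (k : Type u) [Field k] (X : Over (Spec (CommRingCat.of k)))
    [GrpObj X] [IsProper X.hom] [GeometricallyIntegral X.hom] (L : X.left.Modules) (hL : PicF.IsInvertible L)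
    (K : Over (Spec (CommRingCat.of k))) (i : K ⟶ X) (hK : ThetaGrp.IsKL X L i)
    (T : Over (Spec (CommRingCat.of k))) :
    (∀ y₁ y₂ : T ⟶ K, ∃ y : T ⟶ K, y ≫ i = (y₁ ≫ i) * (y₂ ≫ i)) ∧
      (∃ y : T ⟶ K, y ≫ i = 1) ∧
      (∀ y₁ : T ⟶ K, ∃ y : T ⟶ K, y ≫ i = (y₁ ≫ i)⁻¹) := by
  letI := W7Cube.law X.left
  letI := W7Cube.law (X ⊗ T).left
  letI := W7Cube.law T.left
  have key : ∀ z : T ⟶ X, (∃ y : T ⟶ K, y ≫ i = z) ↔
      ∃ d, AVAmple.mum (PicGrp.cls L hL) z = W7Cube.pull (snd X T).left d :=
    fun z => (hK.univ T z).symm.trans (AVAmple.isMumfordTriv_iff L hL z)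
  refine ⟨fun y₁ y₂ => (key _).2 ?_, (key _).2 ⟨1, by rw [AVAmple.mum_one, map_one]⟩, fun y₁ => (key _).2 ?_⟩
  · obtain ⟨d₁, h₁⟩ := (key _).1 ⟨y₁, rfl⟩
    obtain ⟨d₂, h₂⟩ := (key _).1 ⟨y₂, rfl⟩
    exact ⟨d₁ * d₂, by rw [AVAmple.mum_mul, h₁, h₂, map_mul]⟩
  · obtain ⟨d₁, h₁⟩ := (key _).1 ⟨y₁, rfl⟩
    exact ⟨d₁⁻¹, by rw [AVAmple.mum_inv, h₁, map_inv]⟩

end Groth.Agent.S19769
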