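import Groth.Statements.S19770
import Mathlib
import Groth.Agent.AVAmple.Mumford

set_option autoImplicit false
set_option backward.isDefEq.respectTransparency false
set_option backward.isDefEq.respectTransparency.types false
universe u
open CategoryTheory MonoidalCategory CartesianMonoidalCategory MonObj GrpObj AlgebraicGeometry
open AbVar

namespace Groth.Agent.S19770

/-- Let X be an abelian variety over a field k (a proper, geometrically integral k-group scheme), L an
invertible O_X-module, i : K → X a closed immersion exhibiting K as K(L) (the maximal closed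
subscheme over which the Mumford bundle m^*L ⊗ p_1^*L⁻¹ ⊗ p_2^*L⁻¹, restricted to X ×_k K, is the
inverse image of an invertible module on K, with its universal property), and B a k-group scheme
with a homomorphism j : B → X that factors through i. Write M = j^*L. Then M ⊗ [-1]^*M ≅ O_B, where
[-1] : B → B is the inversion (existence of an isomorphism). (The published statement assumes k
algebraically closed and takes for B the reduced identity component of K(L), an abelian subvariety;
the argument — restrict the Mumford bundle to B × B and pull back along (1, -1) — applies to any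
group scheme over k mapping homomorphically into K(L).) -/
theorem result (k : Type u) [Field k] (X : Over (Spec (CommRingCat.of k)))
    [GrpObj X] [IsProper X.hom] [GeometricallyIntegral X.hom] (L : X.left.Modules) (hL : PicF.IsInvertible L)
    (K : Over (Spec (CommRingCat.of k))) (i : K ⟶ X) (hK : ThetaGrp.IsKL X L i)
    (B : Over (Spec (CommRingCat.of k))) [GrpObj B] (j : B ⟶ X) [IsMonHom j] (hj : ∃ y : B ⟶ K, y ≫ i = j) :
    Nonempty (CohB1.tensorMod ((Scheme.Modules.pullback j.left).obj L)
        ((Scheme.Modules.pullback ((𝟙 B)⁻¹ ≫ j).left).obj L) ≅ Coh.structureModule B.left) := by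
  letI := W7Cube.law X.left
  letI := W7Cube.law (X ⊗ B).left
  letI := W7Cube.law B.left
  obtain ⟨d, hd⟩ := (AVAmple.isMumfordTriv_iff L hL j).1 ((hK.univ B j).2 hj)
  have h0 := AVAmple.mum_eq_one_of_pullback _ _ d hd
  have h := congrArg (W7Cube.pull (lift j⁻¹ (𝟙 B)).left) h0
  rw [AVAmple.mum, map_mul, map_inv, map_mul, W7Cube.pull_pc, W7Cube.pull_pc, W7Cube.pull_pc, MonObj.comp_mul,
    lift_fst, lift_snd_assoc, Category.id_comp, inv_mul_cancel, W7Cube.pc_one, map_one, _root_.one_mul,
    inv_eq_one] at h
  have hj' : ((𝟙 B)⁻¹ ≫ j).left = j⁻¹.left := by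
    rw [GrpObj.inv_comp, Category.id_comp]
  have h1 := PicLoc.isInvertible_pullback j.left hL
  have h2 := PicLoc.isInvertible_pullback j⁻¹.left hL
  rw [hj', ← PicGrp.cls_eq_one_iff (hL := TMul.isInvertible_tensorMod h1 h2)]
  rw [← h, mul_comm, W7Cube.pc, W7Cube.pc, W7Cube.pull_cls, W7Cube.pull_cls]
  exact Subtype.ext (PicGrp.mul_val (PicGrp.cls _ h1) (PicGrp.cls _ h2)).symm

end Groth.Agent.S19770
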