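import Groth.Statements.S19773
import Groth.Agent.AVDual.RankKL
import Groth.Agent.AVDeg.Poincare

set_option autoImplicit false
set_option backward.isDefEq.respectTransparency false
set_option backward.isDefEq.respectTransparency.types false
set_option linter.style.haveILetI false
set_option maxHeartbeats 1000000
universe u
open CategoryTheory MonoidalCategory CartesianMonoidalCategory MonObj GrpObj AlgebraicGeometry
open AbVar

namespace Groth.Agent.S19773

open Groth.Agent.W7Cube (pull pull_pull pull_cls pc pull_pc pc_id pc_one cube_rel)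
attribute [local instance] W7Cube.law AVDeg.overInst

theorem lam_mul_left {k : Type u} [Field k] {A : Over (Spec (CommRingCat.of k))} [GrpObj A] [IsProper A.hom]
    [GeometricallyIntegral A.hom] (c : PicLoc.PicSet A.left) {V : Over (Spec (CommRingCat.of k))} (a b t : V ⟶ A) :
    AVMukai.lam c (a * b) t = AVMukai.lam c a t * AVMukai.lam c b t := by
  have h := cube_rel c a b t
  simp only [AVMukai.lam]
  generalize pc c (a * b * t) = P at h ⊢
  generalize pc c (a * b) = Q at h ⊢
  generalize pc c (a * t) = R at h ⊢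
  generalize pc c (b * t) = S at h ⊢
  generalize pc c a = x at h ⊢
  generalize pc c b = y at h ⊢
  generalize pc c t = z at h ⊢
  apply Additive.ofMul.injective
  have h' := congrArg Additive.ofMul h
  simp only [ofMul_mul, ofMul_inv] at h' ⊢
  linear_combination (norm := abel) h'

/-- Let k be a field and f : X → Y an isogeny between abelian varieties over k (X, Y proper,
geometrically integral k-group schemes; f a finite flat surjective homomorphism) of degree d (the
rank of f at every point of Y), and let M be a non-degenerate invertible O_Y-module: for a closed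
immersion i_M : K_M → Y exhibiting K_M as K(M) (the maximal closed subscheme over which the Mumford
bundle m^*M ⊗ p_1^*M⁻¹ ⊗ p_2^*M⁻¹, restricted to Y ×_k K_M, is the inverse image of an invertible
module on K_M, with its universal property), K_M is finite over k, of rank r (the rank of K_M → Spec
k). Let L = f^*M and let i_L : K_L → X exhibit K_L as K(L). Then L is non-degenerate as well and
rank K(L) = d² · rank K(M): K_L is finite over k and K_L → Spec k has rank d² · r. -/
theorem result (k : Type u) [Field k]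
    (X Y : Over (Spec (CommRingCat.of k)))
    [GrpObj X] [IsProper X.hom] [GeometricallyIntegral X.hom]
    [GrpObj Y] [IsProper Y.hom] [GeometricallyIntegral Y.hom]
    (f : X ⟶ Y) [IsMonHom f] [IsFinite f.left] [Flat f.left] (hf : Surjective f.left)
    (d : ℕ) (hd : ∀ y : ↥Y.left, Scheme.Hom.finrank f.left y = d)
    (M : Y.left.Modules) (hM : PicF.IsInvertible M)
    (KM : Over (Spec (CommRingCat.of k))) (iM : KM ⟶ Y) (hKM : ThetaGrp.IsKL Y M iM)
    [IsFinite KM.hom] (r : ℕ) (hr : ∀ s : ↥(Spec (CommRingCat.of k)), Scheme.Hom.finrank KM.hom s = r)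
    (KL : Over (Spec (CommRingCat.of k))) (iL : KL ⟶ X)
    (hKL : ThetaGrp.IsKL X ((Scheme.Modules.pullback f.left).obj M) iL) :
    IsFinite KL.hom ∧ ∀ s : ↥(Spec (CommRingCat.of k)), Scheme.Hom.finrank KL.hom s = d ^ 2 * r := by
  haveI : IsCommMonObj X := isCommMonObj_of_isProper_of_geometricallyIntegral X
  haveI : IsCommMonObj Y := isCommMonObj_of_isProper_of_geometricallyIntegral Y
  haveI : Subsingleton (Spec (CommRingCat.of k)) := inferInstanceAs (Subsingleton (PrimeSpectrum k))
  haveI : Surjective f.left := hf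
  haveI : Nonempty X.left := ⟨η[X].left (IsLocalRing.closedPoint k)⟩
  haveI : Nonempty Y.left := ⟨η[Y].left (IsLocalRing.closedPoint k)⟩
  obtain ⟨gX, hgX⟩ := AVDeg.exists_dim X
  obtain ⟨gY, hgY⟩ := AVDeg.exists_dim Y
  haveI : IsIntegralHom f.left := inferInstance
  have hgY' : topologicalKrullDim Y.left = gX := ((S9683.result f.left).2 hf).symm.trans hgX
  set c := PicGrp.cls M hM with hc
  have hLi : PicF.IsInvertible ((Scheme.Modules.pullback f.left).obj M) := PicLoc.isInvertible_pullback _ hM
  have hcL : PicGrp.cls _ hLi = pc c f := (pull_cls f.left M hM).symm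
  -- a quasi-inverse
  obtain ⟨g, hg, m, hm, -, hgf⟩ := AVDeg.exists_quasiInverse' f
  set w := iL ≫ f with hw
  have h1 : AVAmple.mum (pc c f) iL = 1 := by
    rw [← hcL]
    obtain ⟨e, he⟩ := (AVAmple.isMumfordTriv_iff _ hLi iL).1 ((hKL.univ _ _).2 ⟨𝟙 _, Category.id_comp _⟩)
    exact AVAmple.mum_eq_one_of_pullback _ _ e he
  have hpow : ∀ (n : ℕ) {V : Over (Spec (CommRingCat.of k))} (a t : V ⟶ Y),
      AVMukai.lam c (a ^ n) t = AVMukai.lam c a t ^ n := by
    intro n V a t
    induction n with
    | zero => rw [pow_zero, pow_zero, AVMukai.lam_one]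
    | succ n ih => rw [pow_succ, pow_succ, lam_mul_left, ih]
  have h2 : AVAmple.mum c (w ^ m) = 1 := by
    have hmu : ∀ (n : ℕ), AVAmple.mum c (w ^ n) = AVAmple.mum c w ^ n := by
      intro n
      induction n with
      | zero => rw [pow_zero, pow_zero, AVAmple.mum_one]
      | succ n ih => rw [pow_succ, pow_succ, AVAmple.mum_mul, ih]
    have hlam : AVAmple.mum c w = AVMukai.lam c (fst Y KL) (snd Y KL ≫ w) := by
      rw [AVAmple.mum, AVMukai.lam, _root_.mul_inv_rev, _root_.mul_comm (pc c (snd Y KL ≫ w))⁻¹, ← _root_.mul_assoc]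
    rw [hmu, hlam, ← hpow]
    have e := congrArg (pull (lift (fst Y KL ≫ g) (snd Y KL)).left) h1
    rw [map_one, AVAmple.mum, map_mul, map_inv, map_mul] at e
    simp only [pull_pc, MonObj.mul_comp, MonObj.comp_mul, Category.assoc, lift_fst_assoc, lift_snd_assoc,
      lift_fst, lift_snd] at e
    have hfm : fst Y KL ≫ g ≫ f = fst Y KL ^ m := by rw [hgf, MonObj.comp_pow, Category.comp_id]
    have hpp : ∀ {V : Over (Spec (CommRingCat.of k))} (z : V ⟶ X), pc (pc c f) z = pc c (z ≫ f) := fun z => pull_pc c z f
    simp only [hpp, MonObj.mul_comp, Category.assoc] at e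
    rw [hfm] at e
    rw [AVMukai.lam]
    rw [_root_.mul_inv_rev, _root_.mul_comm (pc c (snd Y KL ≫ iL ≫ f))⁻¹, ← _root_.mul_assoc] at e
    exact e
  obtain ⟨y, hy⟩ := (hKM.univ KL (w ^ m)).1 ((AVAmple.isMumfordTriv_iff M hM _).2 ⟨1, by rw [← hc, h2, map_one]⟩)
  -- finiteness
  haveI := hKM.closed
  haveI := hKL.closed
  haveI : IsFinite KL.hom := by
    have hmz : ((m : ℤ)) ≠ 0 := Int.natCast_ne_zero.2 hm
    haveI : IsFinite (𝟙 Y ^ (m : ℤ)).left := AVDeg.isFinite_zpow_id hgY hmz
    have e : w ^ m = iL ≫ f ≫ (𝟙 Y ^ (m : ℤ)) := by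
      rw [zpow_natCast, MonObj.comp_pow, MonObj.comp_pow, Category.comp_id]
    haveI : IsFinite (y.left ≫ iM.left) := by
      rw [← Over.comp_left, hy, e, Over.comp_left, Over.comp_left]
      infer_instance
    haveI : IsFinite y.left := MorphismProperty.of_postcomp (W := @IsFinite) (W' := @IsSeparated) y.left iM.left
      inferInstance inferInstance
    rw [← Over.w y]
    infer_instance
  refine ⟨‹_›, fun s => ?_⟩
  have e1 := AVDual.rank_kernel hM KM iM hKM s
  have e2 := AVDual.rank_kernel hLi KL iL hKL s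
  have e3 : Curv2.euler k X.left ((Scheme.Modules.pullback f.left).obj M) = d * Curv2.euler k Y.left M := by
    rw [← AVEuler.χc_cls hLi, ← AVEuler.χc_cls hM, hcL,
      AVEuler.χc_pc hgX hgY' f inferInstance (η[Y].left (IsLocalRing.closedPoint k)), hd]
  rw [hr] at e1
  rw [e3, mul_pow, ← e1] at e2
  exact_mod_cast e2

end Groth.Agent.S19773
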