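import Groth.Statements.S19775
import Groth.Agent.AVAmple.Mumford
import Groth.Agent.AVAmple.Translate
import Groth.Agent.AgSymm.Family
import Groth.Agent.AgSymm.Fibre
import Groth.Agent.LBDesc.DualRigid
import Groth.Agent.LBDesc.SectionApp
import Mathlib.AlgebraicGeometry.Group.Smooth
-- import your own Groth.Agent.* helpers here

set_option autoImplicit false
universe u
open CategoryTheory MonoidalCategory CartesianMonoidalCategory MonObj GrpObj AlgebraicGeometry
open AbVar

set_option backward.isDefEq.respectTransparency false
set_option backward.isDefEq.respectTransparency.types false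
set_option linter.style.haveILetI false

namespace Groth.Agent.S19775

noncomputable section

attribute [local instance] W7Cube.law
open Groth.Agent.W7Cube (pull pull_pull pull_cls pc pull_pc pc_id pc_one)

variable {k : Type u} [Field k] {A : Over (Spec (CommRingCat.of k))} [GrpObj A]
  {Z T : Over (Spec (CommRingCat.of k))}

/-- The Mumford class is natural in the point. -/
theorem pull_mum (c : PicLoc.PicSet A.left) (z : Z ⟶ A) (x : T ⟶ Z) :
    pull (A ◁ x).left (AVAmple.mum c z) = AVAmple.mum c (x ≫ z) := by
  rw [AVAmple.mum, AVAmple.mum, map_mul, map_inv, map_mul, pull_pc, pull_pc, pull_pc, MonObj.comp_mul,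
    whiskerLeft_fst, whiskerLeft_snd_assoc]

/-- The Mumford class is rigidified along the unit section. -/
theorem rig_mum (c : PicLoc.PicSet A.left) (z : T ⟶ A) :
    pull (lift (toUnit T ≫ η[A]) (𝟙 T)).left (AVAmple.mum c z) = 1 := by
  rw [AVAmple.mum, map_mul, map_inv, map_mul, pull_pc, pull_pc, pull_pc, MonObj.comp_mul, lift_fst, lift_snd_assoc,
    Category.id_comp, ← Hom.one_def, _root_.one_mul, pc_one, _root_.one_mul, mul_inv_cancel]


/-- Let X be an abelian variety over a field k (a proper, geometrically integral k-group scheme), (X^t,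
φ) a given dual abelian variety of X for the fppf topology (φ sends classes of modules on X ×_k T
algebraically trivial on the geometric fibres to T-valued points of X^t), L an invertible
O_X-module, and λ : X → X^t the homomorphism φ_L attached to L through φ (the X-valued point of X^t
that φ assigns to the class of an invertible module N on X ×_k X with N ⊗ p_1^*L ⊗ p_2^*L ≅ m^*L, a
Mumford module of L). Let i : K → X be a closed immersion exhibiting K as K(L) (the maximal closed
subscheme over which the Mumford bundle, restricted to X ×_k K, is the inverse image of an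
invertible module on K, with its universal property). Then K(L) is the kernel of φ_L: the square
with sides i, K → Spec k, λ and the unit Spec k → X^t is cartesian. (The published statement makes
this assertion for L ample, together with φ_L being an isogeny and the dimension count for the dual;
the kernel identification is the translation description of the points of K(L) read through the
Picard functor and holds for every invertible L, as stated here; the isogeny and dimension
assertions are not part of this row.) -/
theorem result (k : Type u) [Field k] (X Xt : Over (Spec (CommRingCat.of k)))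
    [GrpObj X] [IsProper X.hom] [GeometricallyIntegral X.hom]
    [GrpObj Xt] [IsProper Xt.hom] [GeometricallyIntegral Xt.hom]
    (φ : ∀ T : Over (Spec (CommRingCat.of k)), PicF.Cl (PicF.XT X.hom T) → (T ⟶ Xt))
    (hφ : AbDual.IsDualAV Scheme.fppfPrecoverage X Xt φ)
    (L : X.left.Modules) (hL : PicF.IsInvertible L) (lam : X ⟶ Xt) (hlam : AgPol.IsLambda X Xt φ L lam)
    (K : Over (Spec (CommRingCat.of k))) (i : K ⟶ X) (hK : ThetaGrp.IsKL X L i) :
    AlgGrp.IsKernel i lam := by
  haveI := hK.closed
  haveI : GeometricallyConnected X.hom := W7See.geometricallyConnected_of_geometricallyIntegral X.hom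
  haveI : Smooth X.hom := by
    haveI : GrpObj (Over.mk X.hom) := inferInstanceAs (GrpObj X)
    exact smooth_of_grpObj X.hom
  obtain ⟨N, hN, hΛ, hlamN⟩ := hlam
  let c := PicGrp.cls L hL
  have hE : AVAmple.mum c (𝟙 X) = PicGrp.cls N hN := by
    refine (AVAmple.isLambda_iff L hL (𝟙 X) N hN).1 ?_
    rw [MonoidalCategory.whiskerLeft_id, Category.id_comp, Category.comp_id]
    exact hΛ
  have hz : AbDual.IsPicZeroCl X.hom X (AVAmple.mum c (𝟙 X)).1 := by
    refine AgSymm.picZero_of_family (X := X) (T := X) (𝟙 _) X.hom (Category.comp_id _) η[X] (Over.w η[X]) _ ?_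
    refine (pull_mum c (𝟙 X) η[X]).trans ?_
    rw [Category.comp_id, show η[X] = (1 : 𝟙_ _ ⟶ X) by
      rw [Hom.one_def, toUnit_unique (toUnit _) (𝟙 _), Category.id_comp]]
    exact AVAmple.mum_one c
  have hnat : ∀ (T : Over (Spec (CommRingCat.of k))) (x : T ⟶ X),
      AbDual.IsPicZeroCl X.hom T (AVAmple.mum c x).1 ∧ φ T (AVAmple.mum c x).1 = x ≫ lam := fun T x => by
    have h1 : pull (PicF.XTmap X.hom x) (AVAmple.mum c (𝟙 X)) = AVAmple.mum c x := by
      rw [AgSymm.XTmap_eq]
      exact (pull_mum c (𝟙 X) x).trans (by rw [Category.comp_id])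
    refine ⟨h1 ▸ LBDesc.picZero_XTmap X.hom x hz, ?_⟩
    have h2 := hφ.relPic.natural X T x _ hz
    rw [← hlamN, ← h1]
    exact h2.trans (congrArg (fun e : PicLoc.PicSet _ => x ≫ φ X e.1) hE)
  have hone : toUnit K ≫ η[Xt] = 1 := (Hom.one_def).symm
  have hker : ∀ (T : Over (Spec (CommRingCat.of k))) (x : T ⟶ X), x ≫ lam = 1 ↔ ∃ y : T ⟶ K, y ≫ i = x := fun T x => by
    rw [← hK.univ T x, AVAmple.isMumfordTriv_iff L hL x, ← (hnat T x).2]
    constructor
    · intro h
      refine ⟨1, ?_⟩
      rw [map_one]
      refine LBDesc.rig_ext X.hom η[X].left (Over.w η[X])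
        (LBDesc.isIso_XTproj_app X.hom η[X].left (Over.w η[X])) hφ.relPic (hnat T x).1 AbPrim.picZero_one ?_ (map_one _) ?_
      · exact rig_mum c x
      · exact h.trans (AbPrim.phi_one hφ).symm
    · rintro ⟨d, hd⟩
      rw [AVAmple.mum_eq_one_of_pullback c x d hd]
      exact AbPrim.phi_one hφ
  have hw : i ≫ lam = toUnit K ≫ η[Xt] := by
    rw [hone]
    exact (hker K i).2 ⟨𝟙 K, Category.id_comp i⟩
  haveI : Mono i := (Over.forget _).mono_of_mono_map (inferInstanceAs (Mono i.left))
  have hl : ∀ s : Limits.PullbackCone lam η[Xt], ∃ y : s.pt ⟶ K, y ≫ i = s.fst := fun s => (hker _ _).1 (by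
    rw [s.condition, toUnit_unique s.snd (toUnit _)]
    exact (Hom.one_def).symm)
  exact ⟨⟨hw⟩, ⟨Limits.PullbackCone.IsLimit.mk hw (fun s => (hl s).choose) (fun s => (hl s).choose_spec)
    (fun s => toUnit_unique _ _) fun s m hm _ => (cancel_mono i).1 (hm.trans (hl s).choose_spec.symm)⟩⟩

end

end Groth.Agent.S19775
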