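import Groth.Statements.S19784
import Groth.Agent.HMBr.StableDir
import Groth.Agent.HMBr.StableRev
import Groth.Agent.AffQuot.Red

set_option autoImplicit false
set_option backward.isDefEq.respectTransparency false
universe u
open CategoryTheory MonoidalCategory CartesianMonoidalCategory MonObj AlgebraicGeometry Opposite
open GIT

namespace Groth.Agent.S19784

/-- Let k be an algebraically closed field of characteristic zero, G a connected reductive algebraic
group over k acting by σ on a scheme X proper over k, and L an ample G-linearised line bundle on X,
taken in total-space form (a line bundle V(L) → X with a linear atlas and a fibrewise-linear lifting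
of σ, whose weight-one functions are the sections of L; ample meaning that X is covered by affine
opens X_f with f a section of some positive power of L). For a k-point x of X and a one-parameter
subgroup λ : 𝔾_m → G, say that μ^L(x, λ) takes the value m when the limit y of λ(u)·x as u → 0
exists and 𝔾_m, acting through λ, acts on the fibre of L over the fixed point y with exponent m (on
the fibre of V(L) with exponent −m). Then x is properly stable for L (there is an invariant section
s of a positive power of L with s(x) ≠ 0, X_s affine and the action on X_s closed, and the
stabiliser of x is finite) if and only if μ^L(x, λ) > 0 for every non-trivial one-parameter subgroup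
λ of G, in the sense that every value m taken by μ^L(x, λ) is positive. (The published statement
quantifies over all one-parameter subgroups including the trivial one, at which the numerical
function vanishes at every point, so that as published no point would satisfy the criterion; the
printed proof produces a non-trivial λ, and the row excludes the trivial one. The published
statement is for any reductive G over an algebraically closed field of any characteristic; this row
is the characteristic-zero case with G connected, the case the main text proves.) -/
theorem result (k : Type u) [Field k] [IsAlgClosed k] [CharZero k]
    (G X : Over (Spec (CommRingCat.of k))) [GrpObj G] (hG : Red.IsReductive G) [IsProper X.hom]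
    (a : AlgGrp.Action G X) (B : GLinSh.LinBun G a) (hB : HMNum.AmpleCover B)
    (x : 𝟙_ (Over (Spec (CommRingCat.of k))) ⟶ X) (p : (𝟙_ (Over (Spec (CommRingCat.of k)))).left) :
    B.IsProperlyStablePt (x.left.base p) ↔
      ∀ (l : Red.Gm (Spec (CommRingCat.of k)) ⟶ G) [IsMonHom l], l ≠ 1 → ∀ m : ℤ, HMNum.IsMu B l x m → 0 < m := by
  haveI : Infinite k := IsAlgClosed.instInfinite
  haveI := HMu.subsingleton_one (k := k)
  have hp : x.left.base p = HMu.base x := by
    rw [Subsingleton.elim p (IsLocalRing.closedPoint k)]; rfl
  rw [hp]
  obtain ⟨A, _, _, e, _, hLR, _⟩ := AffQuot.exists_linearlyReductive_hopf hG
  constructor
  · intro hx l _ hl m hm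
    haveI := HMBr.isAffine_left e
    haveI : LocallyOfFiniteType G.hom := by
      haveI : IsIso e.inv.left := inferInstanceAs (IsIso ((Over.forget _).map e.inv))
      haveI : LocallyOfFiniteType (CoactBr.sp k A).hom :=
        (HasRingHomProperty.Spec_iff (P := @LocallyOfFiniteType)).2
          (RingHom.finiteType_algebraMap.2 ‹Algebra.FiniteType k A›)
      rw [← Over.w e.inv]; infer_instance
    haveI : QuasiCompact G.hom := inferInstance
    exact HMBr.pos_of_isProperlyStable hx l hl hm
  · intro h
    exact HMBr.isProperlyStablePt_of_pos e hG hLR hB x h

end Groth.Agent.S19784
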