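import Groth.Statements.S19785
import Groth.Agent.HMu.Parabolic

set_option autoImplicit false
universe u
open CategoryTheory MonoidalCategory CartesianMonoidalCategory MonObj AlgebraicGeometry Opposite
open GIT

namespace Groth.Agent.S19785

open Groth.Agent.HMu in
theorem conj_iff {k : Type u} [Field k] {G X : Over (Spec (CommRingCat.of k))} [GrpObj G]
    {a : AlgGrp.Action G X} (B : GLinSh.LinBun G a) (x : 𝟙_ (Over (Spec (CommRingCat.of k))) ⟶ X)
    (l : Red.Gm (Spec (CommRingCat.of k)) ⟶ G) [IsMonHom l] (g : 𝟙_ (Over (Spec (CommRingCat.of k))) ⟶ G)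
    (l' : Red.Gm (Spec (CommRingCat.of k)) ⟶ G) [IsMonHom l'] (hl' : l' = (cst g _)⁻¹ * l * cst g _) (m : ℤ) :
    HMNum.IsMu B l (lift g x ≫ a.act) m ↔ HMNum.IsMu B l' x m := by
  haveI := subsingleton_spec (k := k)
  let s : ↥(Spec (CommRingCat.of k)) := (⟨⊥, Ideal.isPrime_bot⟩ : PrimeSpectrum k)
  have hc : cst g⁻¹ (Red.Gm (Spec (CommRingCat.of k))) = (cst g _)⁻¹ := GrpObj.comp_inv _ _
  constructor
  · intro h
    have := isMu_translate s B _ l l' g⁻¹ (by rw [hc, hl']; group) m h
    rwa [act_act, inv_mul_cancel, one_act] at this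
  · exact isMu_translate s B x l' l g (by rw [hl']; group) m


/-- Let k be an algebraically closed field, G a connected reductive algebraic group over k acting by σ
on a scheme X proper over k, L a G-linearised line bundle on X in total-space form, x a k-point of X
and λ : 𝔾_m → G a one-parameter subgroup. Let γ be a k-point of G lying in the parabolic subgroup
P(λ), i.e. such that the morphism u ↦ λ(u)·γ·λ(u)⁻¹ from 𝔾_m to G extends to the affine line
(λ(u)γλ(u)⁻¹ has a limit in G as u → 0), and let λ' be the conjugate one-parameter subgroup u ↦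
γ⁻¹·λ(u)·γ. Then μ^L(x, λ) = μ^L(x, λ'): the numerical function (the limit of λ(u)·x as u → 0 exists
and 𝔾_m acts on the fibre of L over it with exponent m) takes the same values at (x, λ) and at (x,
λ'). (The published statement is for any reductive G; this row takes G connected.) -/
theorem result (k : Type u) [Field k] [IsAlgClosed k]
    (G X : Over (Spec (CommRingCat.of k))) [GrpObj G] (hG : Red.IsReductive G) [IsProper X.hom]
    (a : AlgGrp.Action G X) (B : GLinSh.LinBun G a) (x : 𝟙_ (Over (Spec (CommRingCat.of k))) ⟶ X)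
    (l : Red.Gm (Spec (CommRingCat.of k)) ⟶ G) [IsMonHom l] (g₀ : 𝟙_ (Over (Spec (CommRingCat.of k))) ⟶ G)
    (hg₀ : ∃ f : HMNum.A1 (Spec (CommRingCat.of k)) ⟶ G, HMNum.incl (Spec (CommRingCat.of k)) ≫ f = l * (toUnit _ ≫ g₀) * l⁻¹)
    (l' : Red.Gm (Spec (CommRingCat.of k)) ⟶ G) [IsMonHom l'] (hl' : l' = (toUnit _ ≫ g₀)⁻¹ * l * (toUnit _ ≫ g₀))
    (m : ℤ) : HMNum.IsMu B l x m ↔ HMNum.IsMu B l' x m := by
  haveI : IsSeparated G.hom := by
    haveI := hG.1
    infer_instance
  obtain ⟨f, hf⟩ := hg₀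
  rw [← conj_iff B x l g₀ l' hl' m]
  constructor
  · exact Groth.Agent.HMu.isMu_parabolic B l g₀ f hf x m
  · intro h
    have := Groth.Agent.HMu.isMu_parabolic B l g₀⁻¹ f⁻¹ (by
      rw [GrpObj.comp_inv, hf, show Groth.Agent.HMu.cst g₀⁻¹ (Red.Gm (Spec (CommRingCat.of k))) =
        (toUnit _ ≫ g₀)⁻¹ from GrpObj.comp_inv _ _]
      group) _ m h
    rwa [Groth.Agent.HMu.act_act, inv_mul_cancel, Groth.Agent.HMu.one_act] at this

end Groth.Agent.S19785
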