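import Groth.Statements.S19790
import Groth.Agent.HMu.Bound
import Mathlib.Analysis.Real.Sqrt

set_option autoImplicit false
set_option backward.isDefEq.respectTransparency false
universe u
open CategoryTheory MonoidalCategory CartesianMonoidalCategory MonObj AlgebraicGeometry Opposite
open GIT

namespace Groth.Agent.S19790

/-- Let k be an algebraically closed field, G a connected reductive algebraic group over k, i : T → G a
maximal torus, X a scheme proper over k on which G acts by σ, and L an ample G-linearised line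
bundle on X in total-space form. Fix a norm on one-parameter subgroups as for the flag complex: a
symmetric biadditive form b on the one-parameter subgroups of T (a group under pointwise product)
with rational values, positive on every non-trivial one-parameter subgroup, and a real function ‖·‖
on the one-parameter subgroups of G such that for every one-parameter subgroup λ of T and every
k-point γ of G the conjugate u ↦ γ·i(λ(u))·γ⁻¹ has ‖γ·(i∘λ)·γ⁻¹‖ ≥ 0 and ‖γ·(i∘λ)·γ⁻¹‖² = b(λ, λ)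
(every one-parameter subgroup of G is conjugate under G(k) to one of T, so this determines ‖·‖ on
all of them; consistency forces b to be invariant under the Weyl group, and such forms exist). Then
there is a constant K such that |μ^L(x, λ)| ≤ K·‖λ‖ for every k-point x of X and every one-parameter
subgroup λ of G: whenever the numerical function of x at λ (the limit of λ(u)·x as u → 0 exists and
𝔾_m acts on the fibre of L over it with exponent m) takes the value m, |m| ≤ K·‖λ‖. In other words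
the normalised function ν^L(x, λ) = μ^L(x, λ)/‖λ‖ is bounded in absolute value, uniformly in x and
λ. (The published statement is for any reductive G; this row takes G connected.) -/
theorem result (k : Type u) [Field k] [IsAlgClosed k]
    (G X T : Over (Spec (CommRingCat.of k))) [GrpObj G] [GrpObj T] (hG : Red.IsReductive G)
    (i : T ⟶ G) [IsMonHom i] (hi : Red.IsMaximalTorus i) [IsProper X.hom]
    (a : AlgGrp.Action G X) (B : GLinSh.LinBun G a) (hB : HMNum.AmpleCover B)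
    (b : (Red.Gm (Spec (CommRingCat.of k)) ⟶ T) → (Red.Gm (Spec (CommRingCat.of k)) ⟶ T) → ℚ)
    (hb_add : ∀ (l₁ l₂ l₃ : Red.Gm (Spec (CommRingCat.of k)) ⟶ T) [IsMonHom l₁] [IsMonHom l₂] [IsMonHom l₃],
      b (l₁ * l₂) l₃ = b l₁ l₃ + b l₂ l₃)
    (hb_symm : ∀ (l₁ l₂ : Red.Gm (Spec (CommRingCat.of k)) ⟶ T) [IsMonHom l₁] [IsMonHom l₂], b l₁ l₂ = b l₂ l₁)
    (hb_pos : ∀ (l : Red.Gm (Spec (CommRingCat.of k)) ⟶ T) [IsMonHom l], l ≠ 1 → 0 < b l l)
    (nrm : (Red.Gm (Spec (CommRingCat.of k)) ⟶ G) → ℝ)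
    (hnrm : ∀ (l : Red.Gm (Spec (CommRingCat.of k)) ⟶ T) [IsMonHom l] (g : 𝟙_ (Over (Spec (CommRingCat.of k))) ⟶ G),
      0 ≤ nrm ((toUnit _ ≫ g) * (l ≫ i) * (toUnit _ ≫ g)⁻¹) ∧
        nrm ((toUnit _ ≫ g) * (l ≫ i) * (toUnit _ ≫ g)⁻¹) ^ 2 = ((b l l : ℚ) : ℝ)) :
    ∃ K : ℝ, ∀ (x : 𝟙_ (Over (Spec (CommRingCat.of k))) ⟶ X) (l : Red.Gm (Spec (CommRingCat.of k)) ⟶ G) [IsMonHom l] (m : ℤ),
      HMNum.IsMu B l x m → |(m : ℝ)| ≤ K * nrm l := by
  obtain ⟨n, ℓ, hadd, hform⟩ := Groth.Agent.HMu.exists_functionals hi.2.2.1 i B hB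
  choose C hC0 hC using fun j => Groth.Agent.HMu.exists_bound hi.2.2.1 b hb_add hb_symm hb_pos (ℓ j)
    (fun l₁ l₂ _ _ => hadd j l₁ l₂)
  refine ⟨∑ j, Real.sqrt (C j : ℝ), fun x l _ m hm => ?_⟩
  obtain ⟨g, l', hl', hl⟩ := Groth.Agent.HMu.exists_conj_torus hG i hi l
  haveI := hl'
  haveI := Groth.Agent.HMu.subsingleton_spec (k := k)
  have hc : Groth.Agent.HMu.cst g⁻¹ (Red.Gm (Spec (CommRingCat.of k))) * l =
      (l' ≫ i) * Groth.Agent.HMu.cst g⁻¹ _ := by
    rw [show Groth.Agent.HMu.cst g⁻¹ (Red.Gm (Spec (CommRingCat.of k))) =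
      (Groth.Agent.HMu.cst g _)⁻¹ from GrpObj.comp_inv _ _, hl]
    group
  have hm' := Groth.Agent.HMu.isMu_translate (⟨⊥, Ideal.isPrime_bot⟩ : PrimeSpectrum k) B x l (l' ≫ i) g⁻¹ hc m hm
  obtain ⟨I, hI⟩ := hform (lift g⁻¹ x ≫ a.act)
  obtain ⟨j, -, hjm, -⟩ := (hI l' m).1 hm'
  obtain ⟨hn0, hn2⟩ := hnrm l' g
  have hn0' : 0 ≤ nrm l := by rw [hl]; exact hn0
  have hn2' : nrm l ^ 2 = ((b l' l' : ℚ) : ℝ) := by rw [hl]; exact hn2
  have hC' : (0 : ℝ) ≤ (C j : ℝ) := by exact_mod_cast hC0 j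
  have h1 : |(m : ℝ)| ≤ Real.sqrt (C j : ℝ) * nrm l := by
    have h2 : (m : ℝ) ^ 2 ≤ (Real.sqrt (C j : ℝ) * nrm l) ^ 2 := by
      rw [mul_pow, Real.sq_sqrt hC', hn2', show (m : ℝ) = ((ℓ j l' : ℚ) : ℝ) by rw [← hjm, Rat.cast_intCast]]
      exact_mod_cast hC j l'
    exact abs_le.2 (abs_le_of_sq_le_sq' h2 (mul_nonneg (Real.sqrt_nonneg _) hn0'))
  exact h1.trans (mul_le_mul_of_nonneg_right
    (Finset.single_le_sum (f := fun j => Real.sqrt (C j : ℝ)) (fun _ _ => Real.sqrt_nonneg _) (Finset.mem_univ j)) hn0')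

end Groth.Agent.S19790
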