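import Groth.Statements.S19791
import Groth.Agent.HMu.Parabolic

set_option autoImplicit false
universe u
open CategoryTheory MonoidalCategory CartesianMonoidalCategory MonObj AlgebraicGeometry Opposite
open GIT

namespace Groth.Agent.S19791

open Groth.Agent.HMu in
theorem conj_iff {k : Type u} [Field k] {G X : Over (Spec (CommRingCat.of k))} [GrpObj G]
    {a : AlgGrp.Action G X} (B : GLinSh.LinBun G a) (x : 𝟙_ (Over (Spec (CommRingCat.of k))) ⟶ X)
    (l : Red.Gm (Spec (CommRingCat.of k)) ⟶ G) [IsMonHom l] (g : 𝟙_ (Over (Spec (CommRingCat.of k))) ⟶ G)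
    (l' : Red.Gm (Spec (CommRingCat.of k)) ⟶ G) [IsMonHom l'] (hl' : l' = (cst g _)⁻¹ * l * cst g _) (m : ℤ) :
    HMNum.IsMu B l (lift g x ≫ a.act) m ↔ HMNum.IsMu B l' x m := by
  haveI := subsingleton_spec (k := k)
  let s : ↥(Spec (CommRingCat.of k)) := (⟨⊥, Ideal.isPrime_bot⟩ : PrimeSpectrum k)
  have hc : cst g⁻¹ (Red.Gm (Spec (CommRingCat.of k))) = (cst g _)⁻¹ := GrpObj.comp_inv _ _
  constructor
  · intro h
    have := isMu_translate s B _ l l' g⁻¹ (by rw [hc, hl']; group) m h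
    rwa [act_act, inv_mul_cancel, one_act] at this
  · exact isMu_translate s B x l' l g (by rw [hl']; group) m


/-- Let k be an algebraically closed field, G a connected reductive algebraic group over k acting by σ
on a scheme X proper over k, L an ample G-linearised line bundle on X in total-space form, and ‖·‖ a
real-valued function on the one-parameter subgroups of G invariant under conjugation by k-points of
G (‖γ·λ·γ⁻¹‖ = ‖λ‖; nothing else is assumed of ‖·‖). For a k-point x of X consider the set of real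
numbers μ^L(x, λ)/‖λ‖, where λ runs over the non-trivial one-parameter subgroups of G and μ^L(x, λ)
= m means that the limit of λ(u)·x as u → 0 exists and 𝔾_m acts on the fibre of L over it with
exponent m; its infimum is the number M^L(x). Then for every k-point g of G the sets attached to g·x
and to x coincide, so that M^L(g·x) = M^L(x). (The published statement is for any reductive G, not
necessarily connected, acting on a projective variety; this row takes G connected and X any scheme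
proper over k.) -/
theorem result (k : Type u) [Field k] [IsAlgClosed k]
    (G X : Over (Spec (CommRingCat.of k))) [GrpObj G] (hG : Red.IsReductive G) [IsProper X.hom]
    (a : AlgGrp.Action G X) (B : GLinSh.LinBun G a) (hB : HMNum.AmpleCover B)
    (nrm : (Red.Gm (Spec (CommRingCat.of k)) ⟶ G) → ℝ)
    (hnrm : ∀ (l : Red.Gm (Spec (CommRingCat.of k)) ⟶ G) [IsMonHom l] (g : 𝟙_ (Over (Spec (CommRingCat.of k))) ⟶ G),
      nrm ((toUnit _ ≫ g) * l * (toUnit _ ≫ g)⁻¹) = nrm l)
    (x : 𝟙_ (Over (Spec (CommRingCat.of k))) ⟶ X) (g : 𝟙_ (Over (Spec (CommRingCat.of k))) ⟶ G) (q : ℝ) :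
    (∃ (l : Red.Gm (Spec (CommRingCat.of k)) ⟶ G) (_ : IsMonHom l) (m : ℤ),
        l ≠ 1 ∧ HMNum.IsMu B l (lift g x ≫ a.act) m ∧ q = (m : ℝ) / nrm l) ↔
      ∃ (l : Red.Gm (Spec (CommRingCat.of k)) ⟶ G) (_ : IsMonHom l) (m : ℤ),
        l ≠ 1 ∧ HMNum.IsMu B l x m ∧ q = (m : ℝ) / nrm l := by
  have hl1 : ∀ (l : Red.Gm (Spec (CommRingCat.of k)) ⟶ G) (c : Red.Gm (Spec (CommRingCat.of k)) ⟶ G),
      l ≠ 1 → c * l * c⁻¹ ≠ 1 := fun l c h e => h (by
    calc l = c⁻¹ * (c * l * c⁻¹) * c := by group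
      _ = 1 := by rw [e]; group)
  have hinv : toUnit (Red.Gm (Spec (CommRingCat.of k))) ≫ g⁻¹ = (toUnit _ ≫ g)⁻¹ := GrpObj.comp_inv _ _
  constructor
  · rintro ⟨l, hl, m, h1, h2, h3⟩
    haveI := Groth.Agent.HMu.isMonHom_conj l g⁻¹
    refine ⟨(toUnit _ ≫ g⁻¹) * l * (toUnit _ ≫ g⁻¹)⁻¹, this, m, hl1 _ _ h1, ?_, ?_⟩
    · exact (conj_iff B x l g _ (by rw [hinv, inv_inv]) m).mp h2
    · rw [h3, hnrm l g⁻¹]
  · rintro ⟨l, hl, m, h1, h2, h3⟩
    haveI := Groth.Agent.HMu.isMonHom_conj l g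
    refine ⟨(toUnit _ ≫ g) * l * (toUnit _ ≫ g)⁻¹, this, m, hl1 _ _ h1, ?_, ?_⟩
    · exact (conj_iff B x _ g l (by simp only [Groth.Agent.HMu.cst]; group) m).mpr h2
    · rw [h3, hnrm l g]

end Groth.Agent.S19791
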