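import Groth.Statements.S19794
import Groth.Agent.MTExt.OpenHom
import Groth.Agent.MTCentre.Main
import Groth.Agent.Chev.CentralMT
import Groth.Agent.MTImage.ToriConj
import Groth.Agent.MTBridge.MonoTori
import Groth.Agent.S2280

set_option backward.isDefEq.respectTransparency false
set_option backward.isDefEq.respectTransparency.types false
set_option linter.style.haveILetI false
set_option maxHeartbeats 1000000
set_option synthInstance.maxHeartbeats 400000

set_option autoImplicit false
open CategoryTheory MonoidalCategory CartesianMonoidalCategory MonObj GrpObj AlgebraicGeometry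
universe u
open SGA3x

namespace Groth.Agent.S19794

open CategoryTheory.Limits
open scoped CategoryTheory.Obj

theorem mono_map_comp {S U V : Scheme.{u}} {X Y : Over S} (v : X ⟶ Y) (g : U ⟶ S) (l : V ⟶ U) {d : V ⟶ S}
    (h : l ≫ g = d) [Mono ((Over.pullback g).map v)] : Mono ((Over.pullback d).map v).left := by
  have e : (Over.pullback d).map v =
      (ActBC.bcCompIso l g X h).inv ≫ (Over.pullback l).map ((Over.pullback g).map v) ≫
        (ActBC.bcCompIso l g Y h).hom := by
    rw [ActBC.bcCompIso_hom_naturality, Iso.inv_hom_id_assoc]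
  haveI : Mono ((Over.pullback d).map v) := by rw [e]; infer_instance
  exact inferInstanceAs (Mono ((Over.forget _).map ((Over.pullback d).map v)))

/-- Let S be a connected, normal, locally Noetherian scheme, T an S-torus and T₀ ⟶ T its unique maximal
split subtorus, i.e. a split subtorus through which every split subtorus of T factors. Then the
formation of T₀ commutes with Zariski localisation: for every open U ⊆ S, the restriction T₀|_U ⟶
T|_U is the greatest split subtorus of T|_U, that is, every split subtorus T' ⟶ T|_U with T' ≅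
D_U(ℤ^{r'}) factors through T₀|_U. -/
theorem result {S : Scheme.{u}} [ConnectedSpace ↥S]
    [IsLocallyNoetherian S] (hnorm : ∀ x : ↥S, IsDomain (S.presheaf.stalk x) ∧ IsIntegrallyClosed (S.presheaf.stalk x))
    {T T₀ : Over S} [GrpObj T] [GrpObj T₀] (hT : Red.IsTorus T) (j₀ : T₀ ⟶ T) [IsMonHom j₀] [Mono j₀] (r₀ : ℕ)
    (hT₀ : Red.IsSplitTorusWith (Fin r₀ → ℤ) T₀)
    (hmax : ∀ (T' : Over S) [GrpObj T'] (j' : T' ⟶ T) [IsMonHom j'] [Mono j'] (r' : ℕ),
      Red.IsSplitTorusWith (Fin r' → ℤ) T' → ∃ g : T' ⟶ T₀, g ≫ j₀ = j')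
    (U : S.Opens) (T' : Over (U : Scheme.{u})) [GrpObj T'] (j' : T' ⟶ Red.bc U.ι T) [IsMonHom j'] [Mono j']
    (r' : ℕ) (hT' : Red.IsSplitTorusWith (Fin r' → ℤ) T') :
    ∃ g : T' ⟶ Red.bc U.ι T₀, g ≫ (Over.pullback U.ι).map j₀ = j' := by
  haveI : IsIntegral S := (S2280.result S).2.2 ⟨inferInstance, fun x => (hnorm x).1⟩
  by_cases hne : (U : Set S).Nonempty
  · have hη : genericPoint S ∈ U :=
      ((genericPoint_spec S).mem_open_set_iff U.2).2 (by simpa using hne)
    let H : Over S := Red.DS S (Fin r' → ℤ)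
    have hH : Red.IsTorus H := MTCentre.isTorus_DS_scheme S r'
    haveI : Smooth H.hom := MTImage.smooth_torus hH
    haveI : GeometricallyIrreducible H.hom :=
      MTBridge.geometricallyIrreducible_of_connectedSpace fun t =>
        Chev.connectedSpace_of_isTorus (k := S.residueField t)
          (Chev.Borel.isTorus_bc_scheme H (S.fromSpecResidueField t) hH)
    obtain ⟨e₀⟩ := hT'
    let e : Grp.mk (Red.bc U.ι H) ≅ Grp.mk T' := MTBridge.bcDS U.ι _ ≪≫ e₀.symm
    let j : Red.bc U.ι H ⟶ Red.bc U.ι T := e.hom.hom.hom ≫ j'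
    haveI : IsIso e.hom.hom.hom := inferInstanceAs (IsIso ((Grp.forget _).map e.hom))
    obtain ⟨v, hv, hv'⟩ := MTExt.exists_hom_extension_open (fun s => (hnorm s).2)
      (MTBridge.isMultTypeFT_of_isTorus T hT) U hη j
    haveI : Mono ((Over.pullback U.ι).map v) := by rw [hv']; infer_instance
    obtain ⟨W, hWc, hWmem, hWmono⟩ := MTBridge.exists_clopen_mono (MTBridge.isMultTypeFT_of_isTorus H hH)
      (MTBridge.isMultTypeFT_of_isTorus T hT) v
    have hηW : genericPoint S ∈ W := by
      rw [hWmem]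
      refine mono_map_comp v U.ι (Spec.map (S.residue _) ≫ U.fromSpecStalkOfMem _ hη) ?_
      rw [Category.assoc, Scheme.Opens.fromSpecStalkOfMem_ι]
      rfl
    have hW : W = ⊤ := TopologicalSpace.Opens.ext ((isClopen_iff.1 ⟨hWc, W.2⟩).resolve_left
      (Set.nonempty_iff_ne_empty.1 ⟨_, hηW⟩))
    subst hW
    haveI : IsIso (Scheme.Opens.ι (⊤ : S.Opens)) := (Scheme.topIso S).isIso_hom
    haveI : Mono v.left := by
      have e1 := ActBC.pullback_map_left_fst (Scheme.Opens.ι (⊤ : S.Opens)) v
      have e2 : v.left = inv (pullback.fst H.hom (Scheme.Opens.ι (⊤ : S.Opens))) ≫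
          ((Over.pullback (Scheme.Opens.ι (⊤ : S.Opens))).map v).left ≫ pullback.fst T.hom _ := by
        rw [e1, IsIso.inv_hom_id_assoc]
      rw [e2]
      haveI := hWmono
      infer_instance
    haveI : Mono v := (Over.forget S).mono_of_mono_map ‹Mono v.left›
    obtain ⟨g, hg⟩ := hmax H v r' ⟨Iso.refl _⟩
    refine ⟨inv e.hom.hom.hom ≫ (Over.pullback U.ι).map g, ?_⟩
    rw [Category.assoc, ← Functor.map_comp, hg, hv']
    exact IsIso.inv_hom_id_assoc _ _
  · haveI : IsEmpty (U : Scheme.{u}) := ⟨fun x => hne ⟨x.1, x.2⟩⟩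
    haveI : IsEmpty T'.left := ⟨fun x => isEmptyElim (T'.hom x)⟩
    exact ⟨Over.homMk (isInitialOfIsEmpty.to _) (isInitialOfIsEmpty.hom_ext _ _),
      Over.OverMorphism.ext (isInitialOfIsEmpty.hom_ext _ _)⟩

end Groth.Agent.S19794
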