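import Groth.Statements.S19799
import Mathlib.RingTheory.Etale.Field
import Mathlib.RingTheory.Unramified.Field
import Mathlib.LinearAlgebra.TensorProduct.RightExactness
import Mathlib.RingTheory.Artinian.Module
import Mathlib.FieldTheory.IsAlgClosed.Basic
import Mathlib.FieldTheory.Perfect

set_option autoImplicit false
universe u v w
open scoped TensorProduct
open CAlg

namespace Groth.Agent.S19799

/-- Let k be an algebraically closed field and A, B commutative k-algebras, each finite-dimensional as a
k-vector space. Then reduction commutes with tensor products: the kernel of the canonical surjection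
A ⊗_k B ⟶ (A/nilradical A) ⊗_k (B/nilradical B) equals the nilradical of A ⊗_k B, so that this
surjection induces an isomorphism (A ⊗_k B)_red ≅ A_red ⊗_k B_red and in particular A_red ⊗_k B_red
is reduced. -/
theorem result (k : Type u) [Field k]
    [IsAlgClosed k] (A : Type v) [CommRing A] [Algebra k A] [Module.Finite k A]
    (B : Type w) [CommRing B] [Algebra k B] [Module.Finite k B] :
    RingHom.ker (Algebra.TensorProduct.map (Ideal.Quotient.mkₐ k (nilradical A))
      (Ideal.Quotient.mkₐ k (nilradical B))).toRingHom = nilradical (A ⊗[k] B) := by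
  classical
  haveI hfu : ∀ (C : Type v) [CommRing C] [Algebra k C] [Module.Finite k C] [IsReduced C],
      Algebra.FormallyUnramified k C := by
    intro C _ _ _ _
    haveI : IsArtinianRing C := IsArtinianRing.of_finite k C
    letI := fun m : MaximalSpectrum C => Ideal.Quotient.field m.asIdeal
    haveI : ∀ m : MaximalSpectrum C, Algebra.FormallyEtale k (C ⧸ m.asIdeal) := fun m =>
      Algebra.FormallyEtale.of_isSeparable k _
    haveI : Algebra.FormallyEtale k C := .of_equiv ((IsArtinianRing.equivPi C).restrictScalars k).symm
    infer_instance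
  haveI hfu' : ∀ (C : Type w) [CommRing C] [Algebra k C] [Module.Finite k C] [IsReduced C],
      Algebra.FormallyUnramified k C := by
    intro C _ _ _ _
    haveI : IsArtinianRing C := IsArtinianRing.of_finite k C
    letI := fun m : MaximalSpectrum C => Ideal.Quotient.field m.asIdeal
    haveI : ∀ m : MaximalSpectrum C, Algebra.FormallyEtale k (C ⧸ m.asIdeal) := fun m =>
      Algebra.FormallyEtale.of_isSeparable k _
    haveI : Algebra.FormallyEtale k C := .of_equiv ((IsArtinianRing.equivPi C).restrictScalars k).symm
    infer_instance
  haveI : IsReduced (A ⧸ nilradical A) := (Ideal.isRadical_iff_quotient_reduced _).mp (Ideal.radical_isRadical _)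
  haveI : IsReduced (B ⧸ nilradical B) := (Ideal.isRadical_iff_quotient_reduced _).mp (Ideal.radical_isRadical _)
  haveI := hfu (A ⧸ nilradical A)
  haveI := hfu' (B ⧸ nilradical B)
  haveI : Algebra.FormallyUnramified k ((A ⧸ nilradical A) ⊗[k] (B ⧸ nilradical B)) :=
    Algebra.FormallyUnramified.comp k (A ⧸ nilradical A) _
  haveI : IsReduced ((A ⧸ nilradical A) ⊗[k] (B ⧸ nilradical B)) :=
    Algebra.FormallyUnramified.isReduced_of_field k _
  apply le_antisymm
  · show RingHom.ker (Algebra.TensorProduct.map (Ideal.Quotient.mkₐ k (nilradical A))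
      (Ideal.Quotient.mkₐ k (nilradical B))) ≤ _
    rw [Algebra.TensorProduct.map_ker _ _ (Ideal.Quotient.mkₐ_surjective _ _) (Ideal.Quotient.mkₐ_surjective _ _)]
    refine sup_le ?_ ?_ <;> rw [Ideal.map_le_iff_le_comap] <;> intro x hx
    · exact (mem_nilradical.mp (Ideal.Quotient.eq_zero_iff_mem.mp hx)).map _
    · exact (mem_nilradical.mp (Ideal.Quotient.eq_zero_iff_mem.mp hx)).map _
  · intro x hx
    exact RingHom.mem_ker.mpr (((mem_nilradical.mp hx).map _).eq_zero)

end Groth.Agent.S19799
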