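import Groth.Statements.S19804
import Mathlib

set_option autoImplicit false
set_option linter.style.haveILetI false
set_option backward.isDefEq.respectTransparency false
open scoped TensorProduct
universe u v w
open Brauer

namespace Groth.Agent.S19804

/-- Let R be a commutative ring with Spec R connected, A an Azumaya R-algebra and e an idempotent
element of A. If for some nonzero commutative R-algebra R' the element 1 ⊗ e of R' ⊗_R A is 0, then
e = 0; and if 1 ⊗ e = 1 in R' ⊗_R A, then e = 1. (The published statement is for an Azumaya algebra
over a connected scheme S and base change to an arbitrary nonempty S-scheme T; this row takes S and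
T affine.) -/
theorem result {R : Type u} [CommRing R]
    [ConnectedSpace (PrimeSpectrum R)] {A : Type v} [Ring A] [Algebra R A] [IsAzumaya R A]
    (e : A) (he : IsIdempotentElem e) (R' : Type w) [CommRing R'] [Nontrivial R'] [Algebra R R'] :
    ((1 : R') ⊗ₜ[R] e = (0 : R' ⊗[R] A) → e = 0) ∧ ((1 : R') ⊗ₜ[R] e = (1 : R' ⊗[R] A) → e = 1) := by
  classical
  haveI : Nontrivial R := (algebraMap R R').domain_nontrivial
  haveI : Module.Finite R A := inferInstance
  haveI : Module.Projective R A := inferInstance
  have key : ∀ f : A, IsIdempotentElem f → (1 : R') ⊗ₜ[R] f = (0 : R' ⊗[R] A) → f = 0 := by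
    intro f hf h0
    let i := LinearMap.mulRight R f
    let P := LinearMap.range i
    let π : A →ₗ[R] P := i.rangeRestrict
    have hπ : ∀ v : P, π v = v := by
      rintro ⟨_, a, rfl⟩
      exact Subtype.ext (by show a * f * f = a * f; rw [mul_assoc, hf.eq])
    haveI : Module.Projective R P := Module.Projective.of_split P.subtype π (LinearMap.ext hπ)
    haveI : Module.Finite R P := Module.Finite.of_surjective π i.surjective_rangeRestrict
    haveI : Module.Flat R P := Module.Flat.of_projective
    haveI : Module.FinitePresentation R P := Module.finitePresentation_of_projective R P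
    haveI hsub : Subsingleton (R' ⊗[R] P) := subsingleton_of_forall_eq 0 fun z => by
      have hs : Function.Surjective (π.lTensor R') := LinearMap.lTensor_surjective R' i.surjective_rangeRestrict
      obtain ⟨y, rfl⟩ := hs z
      refine (LinearMap.ext_iff.mp ?_ y).trans (LinearMap.zero_apply y)
      refine TensorProduct.ext' fun c a => ?_
      rw [LinearMap.lTensor_tmul, LinearMap.zero_apply]
      have hinj : Function.Injective (P.subtype.lTensor R') :=
        Function.LeftInverse.injective (g := π.lTensor R') fun z => by
          rw [← LinearMap.comp_apply, ← LinearMap.lTensor_comp, show π ∘ₗ P.subtype = LinearMap.id from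
            LinearMap.ext hπ, LinearMap.lTensor_id, LinearMap.id_apply]
      apply hinj
      rw [LinearMap.lTensor_tmul, map_zero]
      show c ⊗ₜ[R] (a * f) = 0
      rw [← mul_one c, ← one_mul f, show c * 1 = c from mul_one c, one_mul,
        show c ⊗ₜ[R] (a * f) = (c ⊗ₜ[R] a) * ((1 : R') ⊗ₜ[R] f) by rw [Algebra.TensorProduct.tmul_mul_tmul, mul_one],
        h0, mul_zero]
    obtain ⟨q⟩ := (inferInstance : Nonempty (PrimeSpectrum R'))
    have h1 := congrFun (Module.rankAtStalk_eq_zero_of_subsingleton (R := R') (M := R' ⊗[R] P)) q
    rw [Module.rankAtStalk_baseChange] at h1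
    haveI := (Module.rankAtStalk_eq_zero_iff_subsingleton (R := R) (M := P)).mp (funext fun p => by
      rw [PreconnectedSpace.constant inferInstance (Module.isLocallyConstant_rankAtStalk.continuous) (x := p)
        (y := q.comap (algebraMap R R'))]
      exact h1)
    have h2 := congrArg Subtype.val (Subsingleton.elim (π 1) 0)
    exact (one_mul f).symm.trans h2
  refine ⟨key e he, fun h1 => ?_⟩
  have := key (1 - e) he.one_sub (by rw [TensorProduct.tmul_sub, h1, ← Algebra.TensorProduct.one_def, sub_self])
  exact (sub_eq_zero.mp this).symm

end Groth.Agent.S19804
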