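import Groth.Statements.S19816
import Groth.Agent.Torsor.Points
import Groth.Agent.TorsorFib.Flat

set_option autoImplicit false
set_option backward.isDefEq.respectTransparency false
set_option maxHeartbeats 1000000
set_option synthInstance.maxHeartbeats 400000
universe u
open CategoryTheory CategoryTheory.Limits MonoidalCategory CartesianMonoidalCategory MonObj GrpObj AlgebraicGeometry
open NoriFGS

namespace Groth.Agent.S19816

/-- Let X be a quasi-compact scheme over a field k with a rational point x which possesses a fundamental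
group scheme with its universal pointed torsor. Let G, G₁, G₂ be finite group schemes over k with
homomorphisms φ₁ : G₁ → G and φ₂ : G₂ → G, and let T, T₁, T₂ be torsors over X (locally trivial for
the fpqc topology) under the base changes to X of G, G₁, G₂, each pointed by a k-point lying over x;
let f₁ : T₁ → T and f₂ : T₂ → T be morphisms of pointed torsors along φ₁ and φ₂. Let Q be the fibre
product group scheme G₁ ×_G G₂ with its projections π₁, π₂. Then the fibre product T₁ ×_T T₂ carries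
an action of the base change of Q for which both projections to T₁ and T₂ are equivariant (along π₁,
π₂) and which makes it a torsor over X, locally trivial for the fpqc topology: the category of
pointed finite torsors over X is closed under fibre products. (The published statement is an
equivalence; this row is the implication from possessing a fundamental group scheme. The source's
standing convention for that chapter assumes the base field has characteristic p > 0; the printed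
proof uses no characteristic hypothesis, so the row states it for any field.) -/
theorem result
    (k : Type u) [Field k] (X : Scheme.{u}) [X.Over (Spec (CommRingCat.of k))]
    (x : Spec (CommRingCat.of k) ⟶ X) (hx : x ≫ (X ↘ Spec (CommRingCat.of k)) = 𝟙 _)
    (πN : Over (Spec (CommRingCat.of k))) [GrpObj πN] (P : Over X)
    (a : AlgGrp.Action (Red.bc (X ↘ Spec (CommRingCat.of k)) πN) P) (p : Spec (CommRingCat.of k) ⟶ P.left)
    (hP : NoriFGS.IsFGS x πN a p) [CompactSpace X]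
    (G G₁ G₂ : Over (Spec (CommRingCat.of k))) [GrpObj G] [GrpObj G₁] [GrpObj G₂]
    [IsFinite G.hom] [IsFinite G₁.hom] [IsFinite G₂.hom]
    (φ₁ : G₁ ⟶ G) (φ₂ : G₂ ⟶ G) [IsMonHom φ₁] [IsMonHom φ₂]
    (T T₁ T₂ : Over X)
    (b : AlgGrp.Action (Red.bc (X ↘ Spec (CommRingCat.of k)) G) T)
    (b₁ : AlgGrp.Action (Red.bc (X ↘ Spec (CommRingCat.of k)) G₁) T₁)
    (b₂ : AlgGrp.Action (Red.bc (X ↘ Spec (CommRingCat.of k)) G₂) T₂)
    (hT : NonAbH1.IsTorsorFor Scheme.fpqcPrecoverage b)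
    (hT₁ : NonAbH1.IsTorsorFor Scheme.fpqcPrecoverage b₁)
    (hT₂ : NonAbH1.IsTorsorFor Scheme.fpqcPrecoverage b₂)
    (t : Spec (CommRingCat.of k) ⟶ T.left) (t₁ : Spec (CommRingCat.of k) ⟶ T₁.left) (t₂ : Spec (CommRingCat.of k) ⟶ T₂.left)
    (ht : t ≫ T.hom = x) (ht₁ : t₁ ≫ T₁.hom = x) (ht₂ : t₂ ≫ T₂.hom = x)
    (f₁ : T₁ ⟶ T) (f₂ : T₂ ⟶ T)
    (hf₁ : NoriFGS.IsPtTorsorHom b₁ t₁ b t φ₁ f₁) (hf₂ : NoriFGS.IsPtTorsorHom b₂ t₂ b t φ₂ f₂)
    (Q : Over (Spec (CommRingCat.of k))) [GrpObj Q] (π₁ : Q ⟶ G₁) (π₂ : Q ⟶ G₂) [IsMonHom π₁] [IsMonHom π₂]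
    (hQ : IsPullback π₁ π₂ φ₁ φ₂) :
    ∃ c : AlgGrp.Action (Red.bc (X ↘ Spec (CommRingCat.of k)) Q) (pullback f₁ f₂),
      AlgGrp.Action.IsEquivariant c (b₁.restrict ((Over.pullback (X ↘ Spec (CommRingCat.of k))).map π₁)) (pullback.fst f₁ f₂) ∧
      AlgGrp.Action.IsEquivariant c (b₂.restrict ((Over.pullback (X ↘ Spec (CommRingCat.of k))).map π₂)) (pullback.snd f₁ f₂) ∧
      NonAbH1.IsTorsorFor Scheme.fpqcPrecoverage c := by
  let q := X ↘ Spec (CommRingCat.of k)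
  let Φ₁ := (Over.pullback q).map φ₁
  let Φ₂ := (Over.pullback q).map φ₂
  let Ψ₁ := (Over.pullback q).map π₁
  let Ψ₂ := (Over.pullback q).map π₂
  let Y := pullback f₁ f₂
  let B : Over X := Red.bc q Q
  have hΨ : Ψ₁ ≫ Φ₁ = Ψ₂ ≫ Φ₂ := by
    simp only [Ψ₁, Ψ₂, Φ₁, Φ₂, ← Functor.map_comp, hQ.w]
  have equiv₁ : ∀ {U : Over X} (h : U ⟶ Red.bc q G₁) (s : U ⟶ T₁),
      Torsor.smul b₁ h s ≫ f₁ = Torsor.smul b (h ≫ Φ₁) (s ≫ f₁) := fun h s => by
    rw [Torsor.smul_equivariant b₁ hf₁.1]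
    exact AlgGrp.Action.lift_restrict_act Φ₁ b h _
  have equiv₂ : ∀ {U : Over X} (h : U ⟶ Red.bc q G₂) (s : U ⟶ T₂),
      Torsor.smul b₂ h s ≫ f₂ = Torsor.smul b (h ≫ Φ₂) (s ≫ f₂) := fun h s => by
    rw [Torsor.smul_equivariant b₂ hf₂.1]
    exact AlgGrp.Action.lift_restrict_act Φ₂ b h _
  -- the universal torsor maps to both torsors compatibly
  obtain ⟨-, hPt, -, huniv⟩ := hP
  obtain ⟨ψ₁, hψ₁, g₁, hg₁, -⟩ := huniv G₁ T₁ b₁ t₁ hT₁ ht₁
  obtain ⟨ψ₂, hψ₂, g₂, hg₂, -⟩ := huniv G₂ T₂ b₂ t₂ hT₂ ht₂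
  obtain ⟨ψ, hψ, g₀, -, huniq⟩ := huniv G T b t hT ht
  have key : ∀ {Gi : Over (Spec (CommRingCat.of k))} [GrpObj Gi] {Ti : Over X}
      (bi : AlgGrp.Action (Red.bc q Gi) Ti) (ti : Spec (CommRingCat.of k) ⟶ Ti.left) (φi : Gi ⟶ G) [IsMonHom φi]
      (fi : Ti ⟶ T) (ψi : πN ⟶ Gi) [IsMonHom ψi] (gi : P ⟶ Ti), NoriFGS.IsPtTorsorHom bi ti b t φi fi →
      NoriFGS.IsPtTorsorHom a p bi ti ψi gi → NoriFGS.IsPtTorsorHom a p b t (ψi ≫ φi) (gi ≫ fi) := by
    intro Gi _ Ti bi ti φi _ fi ψi _ gi h1 h2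
    refine ⟨?_, by rw [Over.comp_left, ← Category.assoc, h2.2, h1.2]⟩
    show a.act ≫ _ = _
    apply AlgGrp.Action.hom_ext_lift₂
    intro U g y
    have e1 := Torsor.smul_equivariant a h2.1 g y
    have e2 := Torsor.smul_equivariant bi h1.1 (g ≫ (Over.pullback q).map ψi) (y ≫ gi)
    have e3 : Torsor.smul (bi.restrict ((Over.pullback q).map ψi)) g (y ≫ gi) =
        Torsor.smul bi (g ≫ (Over.pullback q).map ψi) (y ≫ gi) := AlgGrp.Action.lift_restrict_act _ _ _ _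
    show lift g y ≫ a.act ≫ gi ≫ fi = _
    rw [← Category.assoc (lift g y), ← Category.assoc]
    show (Torsor.smul a g y ≫ gi) ≫ fi = _
    rw [e1, e3, e2, lift_whiskerLeft_assoc, Category.assoc y]
    show lift _ _ ≫ (b.restrict _).act = _
    rw [AlgGrp.Action.lift_restrict_act, AlgGrp.Action.lift_restrict_act, Functor.map_comp, Category.assoc]
  have hg : g₁ ≫ f₁ = g₂ ≫ f₂ :=
    (huniq (ψ₁ ≫ φ₁) _ (key b₁ t₁ φ₁ f₁ ψ₁ g₁ hf₁ hg₁)).2.trans
      (huniq (ψ₂ ≫ φ₂) _ (key b₂ t₂ φ₂ f₂ ψ₂ g₂ hf₂ hg₂)).2.symm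
  let A₁ : B ⊗ Y ⟶ T₁ := Torsor.smul b₁ (fst B Y ≫ Ψ₁) (snd B Y ≫ pullback.fst f₁ f₂)
  let A₂ : B ⊗ Y ⟶ T₂ := Torsor.smul b₂ (fst B Y ≫ Ψ₂) (snd B Y ≫ pullback.snd f₁ f₂)
  have hA : A₁ ≫ f₁ = A₂ ≫ f₂ := by
    simp only [A₁, A₂, equiv₁, equiv₂, Category.assoc, hΨ, pullback.condition]
  let act : B ⊗ Y ⟶ Y := pullback.lift A₁ A₂ hA
  have k1 : ∀ {U : Over X} (h : U ⟶ B) (y : U ⟶ Y),
      lift h y ≫ act ≫ pullback.fst f₁ f₂ = Torsor.smul b₁ (h ≫ Ψ₁) (y ≫ pullback.fst f₁ f₂) := fun h y => by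
    simp only [act, pullback.lift_fst, A₁, Torsor.comp_smul, lift_fst_assoc, lift_snd_assoc]
  have k2 : ∀ {U : Over X} (h : U ⟶ B) (y : U ⟶ Y),
      lift h y ≫ act ≫ pullback.snd f₁ f₂ = Torsor.smul b₂ (h ≫ Ψ₂) (y ≫ pullback.snd f₁ f₂) := fun h y => by
    simp only [act, pullback.lift_snd, A₂, Torsor.comp_smul, lift_fst_assoc, lift_snd_assoc]
  let c : AlgGrp.Action B Y :=
    { act := act
      one_act := by
        apply AlgGrp.Action.hom_ext_lift₂
        intro U u y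
        have hu : u ≫ η[B] = 1 := by rw [Hom.one_def, toUnit_unique (toUnit U) u]
        rw [lift_whiskerRight_assoc, hu, leftUnitor_hom, lift_snd]
        apply pullback.hom_ext
        · rw [Category.assoc, k1, MonObj.one_comp, Torsor.one_smul]
        · rw [Category.assoc, k2, MonObj.one_comp, Torsor.one_smul]
      mul_act := by
        apply AlgGrp.Action.hom_ext_lift₃
        intro U g g' y
        rw [lift_whiskerRight_assoc, ← Hom.mul_def, lift_lift_associator_hom_assoc, lift_whiskerLeft_assoc]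
        apply pullback.hom_ext
        · simp only [Category.assoc, k1]
          rw [MonObj.mul_comp, Torsor.mul_smul]
        · simp only [Category.assoc, k2]
          rw [MonObj.mul_comp, Torsor.mul_smul] }
  have hPsi1 : IsMonHom Ψ₁ := inferInstance
  have hps : NonAbH1.IsPseudoTorsorSch c := by
    rw [Torsor.isPseudoTorsor_iff]
    intro U y y'
    obtain ⟨g₁, hg₁, u₁⟩ := (Torsor.isPseudoTorsor_iff b₁).1 hT₁.1 U (y ≫ pullback.fst f₁ f₂) (y' ≫ pullback.fst f₁ f₂)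
    obtain ⟨g₂, hg₂, u₂⟩ := (Torsor.isPseudoTorsor_iff b₂).1 hT₂.1 U (y ≫ pullback.snd f₁ f₂) (y' ≫ pullback.snd f₁ f₂)
    have hg : g₁ ≫ Φ₁ = g₂ ≫ Φ₂ := by
      refine ((Torsor.isPseudoTorsor_iff b).1 hT.1 U (y ≫ pullback.fst f₁ f₂ ≫ f₁)
        (y' ≫ pullback.fst f₁ f₂ ≫ f₁)).unique ?_ ?_
      · rw [← Category.assoc y, ← equiv₁, hg₁, Category.assoc]
      · rw [pullback.condition, ← Category.assoc y, ← equiv₂, hg₂, Category.assoc]
    have hB : IsPullback Ψ₁ Ψ₂ Φ₁ Φ₂ := hQ.map (Over.pullback q)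
    have split : ∀ g : U ⟶ B, Torsor.smul c g y = y' ↔ g ≫ Ψ₁ = g₁ ∧ g ≫ Ψ₂ = g₂ := fun g => by
      constructor
      · intro h
        constructor
        · refine u₁ _ ?_
          rw [← h]
          exact ((Category.assoc _ _ _).trans (k1 g y)).symm
        · refine u₂ _ ?_
          rw [← h]
          exact ((Category.assoc _ _ _).trans (k2 g y)).symm
      · rintro ⟨e₁, e₂⟩
        apply pullback.hom_ext
        · show (lift g y ≫ act) ≫ _ = _
          rw [Category.assoc, k1, e₁, hg₁]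
        · show (lift g y ≫ act) ≫ _ = _
          rw [Category.assoc, k2, e₂, hg₂]
    refine ⟨hB.lift g₁ g₂ hg, (split _).2 ⟨hB.lift_fst _ _ _, hB.lift_snd _ _ _⟩, fun g hg' => ?_⟩
    obtain ⟨e₁, e₂⟩ := (split g).1 hg'
    exact hB.hom_ext (e₁.trans (hB.lift_fst _ _ _).symm) (e₂.trans (hB.lift_snd _ _ _).symm)
  obtain ⟨R, hR, hsec⟩ := hPt.2
  refine ⟨c, ?_, ?_, hps, R, hR, fun S' f hf => ?_⟩
  · show act ≫ _ = _
    apply AlgGrp.Action.hom_ext_lift₂
    intro U g y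
    rw [k1, lift_whiskerLeft_assoc]
    exact (AlgGrp.Action.lift_restrict_act Ψ₁ b₁ g _).symm
  · show act ≫ _ = _
    apply AlgGrp.Action.hom_ext_lift₂
    intro U g y
    rw [k2, lift_whiskerLeft_assoc]
    exact (AlgGrp.Action.lift_restrict_act Ψ₂ b₂ g _).symm
  · obtain ⟨s, hs⟩ := hsec f hf
    refine ⟨s ≫ (pullback.lift g₁ g₂ hg : P ⟶ Y).left, ?_⟩
    rw [Category.assoc, Over.w, hs]

end Groth.Agent.S19816
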