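import Groth.Statements.S1982
import Groth.Agent.TameAbh.Field

set_option autoImplicit false
universe u
open EtAlg

namespace Groth.Agent.S1982

/-- Suppose A -> B makes the discrete valuation ring B an extension of the discrete valuation ring A,
write K ⊂ L for their fraction fields and e for the ramification index; assume the residue
characteristic of A is zero, or it is p with p not dividing e and the residue field extension of A
-> B separable (in the general sense, i.e. geometrically reduced; it need not be algebraic). Let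
K₁/K be a finite extension. Then for every compositum M of L and K₁ and every valuation subring W of
M dominating B such that e divides the ramification index of A -> W ∩ K₁, the extension W ∩ K₁ -> W
is weakly unramified with separable (geometrically reduced) residue field extension. -/
theorem result (A B K L : Type u) [CommRing A] [IsDomain A] [IsDiscreteValuationRing A]
    [CommRing B] [IsDomain B] [IsDiscreteValuationRing B] [Algebra A B] [IsLocalHom (algebraMap A B)]
    (hinj : Function.Injective (algebraMap A B))
    [Field K] [Field L] [Algebra A K] [IsFractionRing A K] [Algebra B L] [IsFractionRing B L]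
    [Algebra K L] [Algebra A L] [IsScalarTower A K L] [IsScalarTower A B L]
    (htame : CharZero (IsLocalRing.ResidueField A) ∨
      ∃ p : ℕ, p.Prime ∧ CharP (IsLocalRing.ResidueField A) p ∧
        ¬ p ∣ Ideal.ramificationIdx' (IsLocalRing.maximalIdeal A) (IsLocalRing.maximalIdeal B) ∧
        Algebra.IsGeometricallyReduced (IsLocalRing.ResidueField A) (IsLocalRing.ResidueField B))
    (K₁ : Type u) [Field K₁] [Algebra K K₁] [FiniteDimensional K K₁] :
    EtRam.ForallLocalExt B K L K₁ (fun M _ W f =>
      ∀ hA : ∀ a : A, (algebraMap K K₁) (algebraMap A K a) ∈ W.comap f,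
        letI : Algebra A (W.comap f) := (RingHom.codRestrict ((algebraMap K K₁).comp (algebraMap A K)) (W.comap f) hA).toAlgebra
        letI : Algebra (W.comap f) W := (EtRam.inclOfComap W f).toAlgebra
        Ideal.ramificationIdx' (IsLocalRing.maximalIdeal A) (IsLocalRing.maximalIdeal B) ∣
          Ideal.ramificationIdx' (IsLocalRing.maximalIdeal A) (IsLocalRing.maximalIdeal (W.comap f)) →
        EtRam.IsWeaklyUnramified (W.comap f) W ∧
          @Algebra.IsGeometricallyReduced (IsLocalRing.ResidueField (W.comap f)) (IsLocalRing.ResidueField W) _ _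
            (IsLocalRing.ResidueField.map (EtRam.inclOfComap W f)).toAlgebra) := by
  classical
  intro M _ _ _ _ _ _ hadj W hW hA
  letI : Algebra A (W.comap (algebraMap K₁ M)) :=
    (RingHom.codRestrict ((algebraMap K K₁).comp (algebraMap A K)) (W.comap (algebraMap K₁ M)) hA).toAlgebra
  intro hdvd
  have hc : (algebraMap K₁ M).comp (algebraMap K K₁) = (algebraMap L M).comp (algebraMap K L) := by
    rw [← IsScalarTower.algebraMap_eq, ← IsScalarTower.algebraMap_eq]
  haveI : FiniteDimensional L M := TameAbh.finite_of_adjoin (K := K) (algebraMap K₁ M) hc hadj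
  haveI : IsDiscreteValuationRing W := TameAbh.isDVR_of_dominates (A := B) (K := L) W hW
  have hAB : ∀ a, algebraMap A L a = algebraMap B L (algebraMap A B a) := IsScalarTower.algebraMap_apply A B L
  have hAdom : EtRam.Dominates A (((algebraMap K₁ M).comp (algebraMap K K₁)).comp (algebraMap A K)) W := by
    rw [hc, RingHom.comp_assoc, ← IsScalarTower.algebraMap_eq, IsScalarTower.algebraMap_eq A B L]
    exact ⟨fun a => hW.1 _, fun a ha => hW.2 _ (map_nonunit (algebraMap A B) a ha)⟩
  rw [RingHom.comp_assoc] at hAdom
  have hVdom := (EtRamTower.dominates_comap_iff (algebraMap K₁ M) ((algebraMap K K₁).comp (algebraMap A K)) W).2 hAdom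
  haveI : IsDiscreteValuationRing (W.comap (algebraMap K₁ M)) := TameAbh.isDVR_of_dominates (A := A) (K := K) _ hVdom
  haveI : IsLocalHom (algebraMap A (W.comap (algebraMap K₁ M))) :=
    EtRamTower.isLocalHom_codRestrict _ _ hVdom
  haveI : IsLocalHom (RingHom.codRestrict ((algebraMap L M).comp (algebraMap B L)) W hW.1) :=
    EtRamTower.isLocalHom_codRestrict _ _ hW
  let iB : B →+* W := RingHom.codRestrict ((algebraMap L M).comp (algebraMap B L)) W hW.1
  let iV := EtRam.inclOfComap W (algebraMap K₁ M)
  obtain ⟨π, hπ⟩ := IsDiscreteValuationRing.exists_irreducible A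
  obtain ⟨ϖ, hϖ⟩ := IsDiscreteValuationRing.exists_irreducible B
  obtain ⟨π₁, hπ₁⟩ := IsDiscreteValuationRing.exists_irreducible (W.comap (algebraMap K₁ M))
  obtain ⟨v, hv, he₁, -⟩ := TameAbh.exists_pow_eq (K := K) (W.comap (algebraMap K₁ M)) (fun a => rfl) π hπ π₁ hπ₁
  have hπ0 : algebraMap A B π ≠ 0 := fun h => hπ.ne_zero (hinj (h.trans (map_zero _).symm))
  obtain ⟨e, u, hu⟩ := IsDiscreteValuationRing.eq_unit_mul_pow_irreducible hπ0 hϖ
  have hmB : IsLocalRing.maximalIdeal B = Ideal.span {ϖ} :=
    (IsDiscreteValuationRing.irreducible_iff_uniformizer ϖ).1 hϖ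
  have hmV : IsLocalRing.maximalIdeal (W.comap (algebraMap K₁ M)) = Ideal.span {π₁} :=
    (IsDiscreteValuationRing.irreducible_iff_uniformizer π₁).1 hπ₁
  have hmap : (IsLocalRing.maximalIdeal A).map (algebraMap A B) = IsLocalRing.maximalIdeal B ^ e := by
    rw [(IsDiscreteValuationRing.irreducible_iff_uniformizer π).1 hπ, Ideal.map_span, Set.image_singleton, hu,
      Ideal.span_singleton_mul_left_unit u.isUnit, hmB, Ideal.span_singleton_pow]
  have heq : Ideal.ramificationIdx' (IsLocalRing.maximalIdeal A) (IsLocalRing.maximalIdeal B) = e :=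
    Ideal.ramificationIdx'_spec hmap.le fun hle =>
      (Ideal.pow_succ_lt_pow (IsDiscreteValuationRing.not_a_field B) e).not_ge (hmap.ge.trans hle)
  rw [heq] at htame hdvd
  obtain ⟨d, hd⟩ := hdvd
  have he0 : e ≠ 0 := by
    rintro rfl
    rw [pow_zero, mul_one] at hu
    exact hπ.not_isUnit ((hu ▸ u.isUnit).of_map (algebraMap A B) π)
  have he : (e : IsLocalRing.ResidueField A) ≠ 0 := by
    rcases htame with h | ⟨p, -, hp, hpe, -⟩
    · exact Nat.cast_ne_zero.2 he0
    · exact fun h => hpe ((CharP.cast_eq_zero_iff _ p e).1 h)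
  haveI hgr : Algebra.IsGeometricallyReduced (IsLocalRing.ResidueField A) (IsLocalRing.ResidueField B) := by
    rcases htame with h | ⟨p, -, -, -, h⟩
    · rw [Algebra.isGeometricallyReduced_field_iff]
      exact FinHopf.isReduced_tensor_of_perfect _ _ _
    · exact h
  haveI := TameAbh.isIntegral_residue (A := A) (K := K) (W.comap (algebraMap K₁ M)) (fun a => rfl)
  haveI : Algebra.IsAlgebraic (IsLocalRing.ResidueField A) (IsLocalRing.ResidueField (W.comap (algebraMap K₁ M))) :=
    Algebra.IsIntegral.isAlgebraic
  haveI : _root_.IsReduced (TensorProduct (IsLocalRing.ResidueField A) (IsLocalRing.ResidueField B)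
      (IsLocalRing.ResidueField (W.comap (algebraMap K₁ M)))) :=
    isReduced_of_injective _ (Algebra.TensorProduct.comm (IsLocalRing.ResidueField A) (IsLocalRing.ResidueField B)
      (IsLocalRing.ResidueField (W.comap (algebraMap K₁ M)))).injective
  have hcomp : iB.comp (algebraMap A B) = iV.comp (algebraMap A (W.comap (algebraMap K₁ M))) :=
    RingHom.ext fun a => Subtype.ext (by
      show algebraMap L M (algebraMap B L (algebraMap A B a)) = algebraMap K₁ M (algebraMap K K₁ (algebraMap A K a))
      rw [← hAB, IsScalarTower.algebraMap_apply A K L, ← IsScalarTower.algebraMap_apply K L M,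
        ← IsScalarTower.algebraMap_apply K K₁ M])
  obtain ⟨hmax, y, hy, hgen⟩ := TameAbh.abhyankar W iB iV hcomp
    (Or.inl inferInstance)
    (TameAbh.frac_gen (B := B) (V := W.comap (algebraMap K₁ M)) (algebraMap L M) (algebraMap K₁ M)
      (TameAbh.subfield_closure_eq_top_of_adjoin _ hadj) _ _ (fun b => rfl) (fun v => rfl))
    ϖ hmB π₁ hmV (fun h => hπ₁.ne_zero (Subtype.ext ((map_eq_zero (algebraMap K₁ M)).1 (congrArg Subtype.val h))))
    e d he (fun h => he₁ (by rw [hd, h, mul_zero])) π u v hu (by rw [hv, hd])
  refine ⟨?_, ?_⟩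
  · show Ideal.map iV _ = _
    rw [hmV, Ideal.map_span, Set.image_singleton, hmax]
  · letI := (IsLocalRing.ResidueField.map iV).toAlgebra
    refine TameAbh.geometricallyReduced_of_gen (k := IsLocalRing.ResidueField A) (kB := IsLocalRing.ResidueField B)
      (IsLocalRing.ResidueField.map iB) ?_ y e he _ (u.isUnit.map (IsLocalRing.residue B)).ne_zero
      _ (v.isUnit.map (IsLocalRing.residue (W.comap (algebraMap K₁ M)))).ne_zero hy hgen
    refine RingHom.ext fun x => ?_
    obtain ⟨x, rfl⟩ := IsLocalRing.residue_surjective x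
    exact congrArg (IsLocalRing.residue W) (RingHom.congr_fun hcomp x)

end Groth.Agent.S1982
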