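import Groth.Statements.S1985
import Mathlib
import Groth.Agent.S2451
import Groth.Agent.Nagata.Basic

set_option autoImplicit false
universe u
open EtAlg

namespace Groth.Agent.S1985

open scoped TensorProduct

/-- Let A -> B be an extension of discrete valuation rings whose extension of fraction fields L/K is
separable. If B is a Nagata ring then so is A. -/
theorem result (A B K L : Type u) [CommRing A] [IsDomain A] [IsDiscreteValuationRing A]
    [CommRing B] [IsDomain B] [IsDiscreteValuationRing B] [Algebra A B] [IsLocalHom (algebraMap A B)]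
    (hinj : Function.Injective (algebraMap A B))
    [Field K] [Field L] [Algebra A K] [IsFractionRing A K] [Algebra B L] [IsFractionRing B L]
    [Algebra K L] [Algebra A L] [IsScalarTower A K L] [IsScalarTower A B L] [Algebra.IsSeparable K L] (hB : CAlg.IsNagata B) :
    CAlg.IsNagata A := by
  classical
  obtain ⟨hBn, hB2⟩ := hB
  refine ⟨inferInstance, fun p _ => ?_⟩
  by_cases hp : p = ⊥
  swap
  · haveI : p.IsMaximal := Ideal.IsPrime.isMaximal inferInstance hp
    letI := Ideal.Quotient.field p
    exact Nagata.isN2_field (A ⧸ p)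
  subst hp
  refine Nagata.isN2_of_ringEquiv (RingEquiv.quotientBot A).symm fun K' _ _ _ _ hfd => ?_
  haveI := hfd
  have hB' : CAlg.IsN2 B := Nagata.isN2_of_ringEquiv (RingEquiv.quotientBot B) (hB2 ⊥)
  -- `K'` as an extension of `K`
  letI : Algebra K K' := ((algebraMap (FractionRing A) K').comp (FractionRing.algEquiv A K).symm.toAlgHom.toRingHom).toAlgebra
  haveI : IsScalarTower A K K' := IsScalarTower.of_algebraMap_eq fun a => by
    show algebraMap A K' a = algebraMap (FractionRing A) K' ((FractionRing.algEquiv A K).symm (algebraMap A K a))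
    rw [AlgEquiv.commutes, ← IsScalarTower.algebraMap_apply]
  haveI : FiniteDimensional K K' := by
    have h1 : (algebraMap (FractionRing A) K').Finite := RingHom.finite_algebraMap.2 hfd
    have h2 := h1.comp (RingHom.Finite.of_surjective (FractionRing.algEquiv A K).symm.toAlgHom.toRingHom
      (FractionRing.algEquiv A K).symm.surjective)
    exact RingHom.finite_algebraMap.1 h2
  obtain ⟨s, b, hb⟩ := FiniteDimensional.exists_is_basis_integral A K K'
  -- the reduced artinian ring `R' = L ⊗ K'`
  let R' := L ⊗[K] K'
  haveI : Algebra.FormallyEtale K L := Algebra.FormallyEtale.of_isSeparable K L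
  haveI : IsReduced R' := by
    haveI := S2451.isReduced_tensor (k := K) (K := L) K'
    exact isReduced_of_injective (Algebra.TensorProduct.comm K L K') (Algebra.TensorProduct.comm K L K').injective
  haveI : IsArtinianRing R' := IsArtinianRing.of_finite L _
  let π : R' →ₐ[B] (∀ m : MaximalSpectrum R', R' ⧸ m.asIdeal) :=
    Pi.algHom _ _ fun m => Ideal.Quotient.mkₐ B m.asIdeal
  have hπ : Function.Injective π := fun x y hxy =>
    (IsArtinianRing.equivPi R').injective (funext fun m => congrFun hxy m)
  have hfac : ∀ m : MaximalSpectrum R', Module.Finite B (integralClosure B (R' ⧸ m.asIdeal)) := fun m => by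
    letI := Ideal.Quotient.field m.asIdeal
    exact Nagata.finite_closure_of_frac hB' L (R' ⧸ m.asIdeal)
  haveI : Module.Finite B (integralClosure B R') := by
    haveI : ∀ m : MaximalSpectrum R', Module.Finite B (integralClosure B (R' ⧸ m.asIdeal)) := hfac
    haveI : IsNoetherian B (∀ m : MaximalSpectrum R', integralClosure B (R' ⧸ m.asIdeal)) :=
      isNoetherian_of_isNoetherianRing_of_finite B _
    let g : integralClosure B R' →ₗ[B] (∀ m : MaximalSpectrum R', integralClosure B (R' ⧸ m.asIdeal)) :=
      { toFun := fun z m => ⟨Ideal.Quotient.mkₐ B m.asIdeal (z : R'), (z.2 : IsIntegral B (z : R')).map _⟩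
        map_add' := fun z w => funext fun m => Subtype.ext (map_add _ _ _)
        map_smul' := fun a z => funext fun m => Subtype.ext (map_smul _ _ _) }
    exact Module.Finite.of_injective g fun z w hzw => Subtype.ext (hπ (funext fun m => congrArg Subtype.val (congrFun hzw m)))
  -- a common denominator for the coordinates
  let bB := Algebra.TensorProduct.basis L b
  obtain ⟨G, hG⟩ := (Module.Finite.fg_top : (⊤ : Submodule B (integralClosure B R')).FG)
  obtain ⟨c, hc⟩ := IsLocalization.exist_integer_multiples_of_finset (nonZeroDivisors B)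
    ((G ×ˢ (Finset.univ : Finset s)).image fun x => bB.repr (x.1 : R') x.2)
  have hcoord : ∀ (z : R'), IsIntegral B z → ∀ i, ∃ t : B, algebraMap B L t = algebraMap B L c * bB.repr z i := by
    intro z hz i
    suffices h : ∀ w ∈ Submodule.span B (G : Set (integralClosure B R')), ∀ i, ∃ t : B,
        algebraMap B L t = algebraMap B L c * bB.repr (w : R') i from
      h ⟨z, hz⟩ (hG ▸ trivial) i
    intro w hw
    induction hw using Submodule.span_induction with
    | mem g hg =>
      intro i
      obtain ⟨t, ht⟩ := hc _ (Finset.mem_image.2 ⟨(g, i), Finset.mem_product.2 ⟨hg, Finset.mem_univ i⟩, rfl⟩)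
      exact ⟨t, by rw [ht, Algebra.smul_def]⟩
    | zero => exact fun i => ⟨0, by simp⟩
    | add x y _ _ hx hy =>
      intro i
      obtain ⟨t, ht⟩ := hx i
      obtain ⟨t', ht'⟩ := hy i
      exact ⟨t + t', by rw [map_add, ht, ht']; simp [mul_add]⟩
    | smul a x _ hx =>
      intro i
      obtain ⟨t, ht⟩ := hx i
      refine ⟨a * t, ?_⟩
      have h2 : ((a • x : integralClosure B R') : R') = algebraMap B L a • (x : R') :=
        (IsScalarTower.algebraMap_smul L a (x : R')).symm
      rw [map_mul, ht, h2, map_smul, Finsupp.smul_apply, smul_eq_mul]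
      ring
  obtain ⟨ϖ, hϖ⟩ := IsDiscreteValuationRing.exists_irreducible B
  have hc0 : (c : B) ≠ 0 := nonZeroDivisors.ne_zero c.2
  obtain ⟨n, u, hcn⟩ := IsDiscreteValuationRing.eq_unit_mul_pow_irreducible hc0 hϖ
  obtain ⟨t, ht⟩ := IsDiscreteValuationRing.exists_irreducible A
  have hdvd : (c : B) ∣ algebraMap A B (t ^ n) := by
    have h1 : ϖ ∣ algebraMap A B t := by
      rw [← Ideal.mem_span_singleton, ← hϖ.maximalIdeal_eq]
      exact map_nonunit _ t (ht.maximalIdeal_eq ▸ Ideal.mem_span_singleton_self t)
    rw [hcn, Units.mul_left_dvd, map_pow]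
    exact pow_dvd_pow_of_dvd h1 n
  obtain ⟨d, hd⟩ := hdvd
  have ha0 : algebraMap A K (t ^ n) ≠ 0 :=
    (map_ne_zero_iff _ (IsFractionRing.injective A K)).2 (pow_ne_zero _ ht.ne_zero)
  have key : ∀ x : K', IsIntegral A x → ∀ i, ∃ a : A, algebraMap A K a = algebraMap A K (t ^ n) * b.repr x i := by
    intro x hx i
    have hxB : IsIntegral B ((1 : L) ⊗ₜ[K] x) := by
      obtain ⟨p, hp, hpx⟩ := hx
      refine ⟨p.map (algebraMap A B), hp.map _, ?_⟩
      rw [Polynomial.eval₂_map]
      have h2 := congrArg (Algebra.TensorProduct.includeRight : K' →ₐ[K] R') hpx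
      rw [map_zero] at h2
      erw [Polynomial.hom_eval₂] at h2
      rw [← h2]
      congr 1
      ext r
      show algebraMap B R' (algebraMap A B r) = (1 : L) ⊗ₜ[K] algebraMap A K' r
      rw [Algebra.TensorProduct.algebraMap_apply, ← IsScalarTower.algebraMap_apply A B L,
        IsScalarTower.algebraMap_apply A K L, IsScalarTower.algebraMap_apply A K K',
        Algebra.algebraMap_eq_smul_one, TensorProduct.smul_tmul, ← Algebra.algebraMap_eq_smul_one]
    obtain ⟨t', ht'⟩ := hcoord _ hxB i
    rw [show bB.repr ((1 : L) ⊗ₜ[K] x) i = algebraMap K L (b.repr x i) by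
      rw [Algebra.TensorProduct.basis_repr_tmul, Finsupp.smul_apply, one_smul, Finsupp.mapRange_apply]] at ht'
    set k := algebraMap A K (t ^ n) * b.repr x i with hk
    have hkB : algebraMap B L (d * t') = algebraMap K L k := by
      rw [map_mul, ht', hk, map_mul, ← IsScalarTower.algebraMap_apply A K L, IsScalarTower.algebraMap_apply A B L, hd,
        map_mul]
      ring
    rcases ValuationRing.isInteger_or_isInteger A k with ⟨a, ha⟩ | ⟨a, ha⟩
    · exact ⟨a, ha⟩
    rcases eq_or_ne k 0 with h0 | h0
    · exact ⟨0, by rw [map_zero, h0]⟩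
    have h1 : algebraMap A B a * (d * t') = 1 := by
      apply IsFractionRing.injective B L
      rw [map_mul, ← IsScalarTower.algebraMap_apply, IsScalarTower.algebraMap_apply A K L, hkB, ha, ← map_mul,
        inv_mul_cancel₀ h0, map_one, map_one]
    have hu : IsUnit a := isUnit_of_map_unit (algebraMap A B) a (IsUnit.of_mul_eq_one _ h1)
    refine ⟨↑hu.unit⁻¹, ?_⟩
    apply mul_left_cancel₀ (inv_ne_zero h0)
    rw [inv_mul_cancel₀ h0, ← ha, ← map_mul, IsUnit.mul_val_inv, map_one]
  choose f hf using fun x : integralClosure A K' => key x.1 x.2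
  let φ : integralClosure A K' →ₗ[A] (s → A) :=
    { toFun := f
      map_add' := fun x y => funext fun i => IsFractionRing.injective A K (by
        simp [hf, mul_add])
      map_smul' := fun a x => funext fun i => IsFractionRing.injective A K (by
        have h2 : ((a • x : integralClosure A K') : K') = algebraMap A K a • (x : K') :=
          (IsScalarTower.algebraMap_smul K a (x : K')).symm
        rw [hf, RingHom.id_apply, Pi.smul_apply, smul_eq_mul, map_mul (algebraMap A K) a, hf, h2, map_smul,
          Finsupp.smul_apply, smul_eq_mul]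
        ring) }
  refine Module.Finite.of_injective φ fun x y hxy => Subtype.ext (b.repr.injective (Finsupp.ext fun i => ?_))
  have h := congrArg (algebraMap A K) (congrFun hxy i)
  change algebraMap A K (f x i) = algebraMap A K (f y i) at h
  rw [hf, hf] at h
  exact mul_left_cancel₀ ha0 h

end Groth.Agent.S1985
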