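import Groth.Statements.S19856
import Mathlib.RingTheory.DiscreteValuationRing.Basic
import Mathlib.RingTheory.IntegralDomain
import Mathlib.RingTheory.LocalRing.ResidueField.Basic
import Mathlib.Algebra.Ring.Action.Basic
import Mathlib.RingTheory.Filtration

set_option autoImplicit false
universe u v
open CAlg

namespace Groth.Agent.S19856

/-- Ring-level form: let O be a discrete valuation ring and G a finite group acting faithfully on O by
ring automorphisms, such that every element of G acts trivially on the residue field of O (that is,
g • a - a lies in the maximal ideal for all a) and such that the order of G is nonzero in the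
residue field of O. Then G is cyclic. (The source states this for a finite group of order invertible
in an algebraically closed field k acting faithfully on a smooth connected k-variety and the
subgroup of elements fixing pointwise a codimension-one irreducible component of the ramification
locus, applied to the local ring at the generic point of that component; it is stated here for an
arbitrary discrete valuation ring with a faithful action. The source also shows that this subgroup
is nontrivial; that geometric part is not stated.) -/
theorem result
    (O : Type u) [CommRing O] [IsDomain O] [IsDiscreteValuationRing O]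
    (G : Type v) [Group G] [Finite G] [MulSemiringAction G O] [FaithfulSMul G O]
    (htriv : ∀ (g : G) (a : O), g • a - a ∈ IsLocalRing.maximalIdeal O)
    (hcard : ((Nat.card G : ℕ) : IsLocalRing.ResidueField O) ≠ 0) :
    IsCyclic G := by
  classical
  cases nonempty_fintype G
  let m := IsLocalRing.maximalIdeal O
  obtain ⟨π, hπ⟩ := IsDiscreteValuationRing.exists_irreducible O
  have hm : m = Ideal.span {π} := hπ.maximalIdeal_eq
  have hπm : π ∈ m := hm.ge (Ideal.mem_span_singleton_self π)
  have hquot : ∀ g : G, ∃ u : O, g • π = u * π := fun g => by
    have h : g • π ∈ m := by simpa using m.add_mem (htriv g π) hπm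
    obtain ⟨u, hu⟩ := Ideal.mem_span_singleton'.1 (hm.le h)
    exact ⟨u, hu.symm⟩
  choose u hu using hquot
  let res := IsLocalRing.residue O
  have hres : ∀ (g : G) (a : O), res (g • a) = res a := fun g a =>
    sub_eq_zero.1 (by rw [← map_sub]; exact (IsLocalRing.residue_eq_zero_iff _).2 (htriv g a))
  let φ : G →* IsLocalRing.ResidueField O :=
    { toFun := fun g => res (u g)
      map_one' := by
        have h : u 1 = 1 := mul_right_cancel₀ hπ.ne_zero (by rw [← hu, one_smul, one_mul])
        rw [h, map_one]
      map_mul' := fun g h => by
        have e : u (g * h) = (g • u h) * u g := mul_right_cancel₀ hπ.ne_zero (by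
          rw [← hu, mul_smul, hu h, smul_mul', hu g, mul_assoc])
        rw [e, map_mul, hres, mul_comm] }
  refine isCyclic_of_subgroup_isDomain φ ((injective_iff_map_eq_one φ).2 fun g hg => ?_)
  have hu1 : u g - 1 ∈ m := (IsLocalRing.residue_eq_zero_iff _).1 (by
    rw [map_sub, map_one]; exact sub_eq_zero.2 hg)
  have hπi : ∀ i : ℕ, g • π ^ i - π ^ i ∈ m ^ (i + 1) := fun i => by
    rw [smul_pow', hu, mul_pow, ← sub_one_mul, pow_succ', hm, Ideal.span_singleton_pow, ← hm]
    refine Ideal.mul_mem_mul ?_ (Ideal.mem_span_singleton_self _)
    rw [← geom_sum_mul]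
    exact m.mul_mem_left _ hu1
  have hN : orderOf g ∣ Nat.card G := orderOf_dvd_natCard g
  have hall : ∀ i : ℕ, 1 ≤ i → ∀ a : O, g • a - a ∈ m ^ i := by
    intro i hi
    induction i, hi using Nat.le_induction with
    | base => intro a; rw [pow_one]; exact htriv g a
    | succ i hi ih =>
      intro a
      obtain ⟨c, hc⟩ : ∃ c, g • a - a = c * π ^ i := by
        have h := ih a
        rw [hm, Ideal.span_singleton_pow] at h
        obtain ⟨c, hc⟩ := Ideal.mem_span_singleton'.1 h
        exact ⟨c, hc.symm⟩
      -- every translate of the difference is congruent to it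
      have hstep : ∀ j : ℕ, g ^ j • (g • a - a) - c * π ^ i ∈ m ^ (i + 1) := fun j => by
        induction j with
        | zero => rw [pow_zero, one_smul, hc, sub_self]; exact zero_mem _
        | succ j ihj =>
          have hmem : ∀ x ∈ m ^ (i + 1), g • x ∈ m ^ (i + 1) := fun x hx => by
            rw [hm, Ideal.span_singleton_pow, Ideal.mem_span_singleton] at hx ⊢
            obtain ⟨d, rfl⟩ := hx
            rw [smul_mul', smul_pow', hu, mul_pow, mul_comm (u g ^ (i + 1)), mul_assoc]
            exact dvd_mul_right _ _
          have h2 : g • (c * π ^ i) - c * π ^ i ∈ m ^ (i + 1) := by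
            rw [smul_mul', show g • c * g • π ^ i - c * π ^ i = g • c * (g • π ^ i - π ^ i) + (g • c - c) * π ^ i by ring]
            refine add_mem (Ideal.mul_mem_left _ _ (hπi i)) ?_
            rw [pow_succ']
            exact Ideal.mul_mem_mul (htriv g c) (Ideal.pow_mem_pow hπm i)
          have h3 := add_mem (hmem _ ihj) h2
          rwa [smul_sub, ← mul_smul, ← pow_succ', sub_add_sub_cancel] at h3
      have htot : ∑ j ∈ Finset.range (Nat.card G), g ^ j • (g • a - a) = 0 := by
        simp only [smul_sub, ← mul_smul, ← pow_succ]
        rw [Finset.sum_range_sub (fun j => g ^ j • a), pow_card_eq_one', pow_zero, sub_self]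
      have h4 : ((Nat.card G : ℕ) : O) * (c * π ^ i) ∈ m ^ (i + 1) := by
        have := Ideal.sum_mem (m ^ (i + 1)) (t := Finset.range (Nat.card G)) (f := fun j => g ^ j • (g • a - a) - c * π ^ i) fun j _ => hstep j
        rw [Finset.sum_sub_distrib, htot, zero_sub, neg_mem_iff, Finset.sum_const, Finset.card_range, nsmul_eq_mul] at this
        exact this
      rw [hc]
      refine (Ideal.unit_mul_mem_iff_mem _ ?_).1 h4
      exact IsUnit.of_map (IsLocalRing.residue O) _ (by rw [map_natCast]; exact isUnit_iff_ne_zero.2 hcard)
  refine eq_of_smul_eq_smul fun a : O => ?_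
  rw [one_smul, ← sub_eq_zero]
  have hmem : g • a - a ∈ ⨅ i : ℕ, m ^ i := (Submodule.mem_iInf _).2 fun i => by
    rcases Nat.eq_zero_or_pos i with rfl | hi
    · rw [pow_zero, Ideal.one_eq_top]; trivial
    · exact hall i hi a
  rwa [Ideal.iInf_pow_eq_bot_of_isLocalRing m (IsLocalRing.maximalIdeal.isMaximal O).ne_top] at hmem

end Groth.Agent.S19856
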