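import Groth.Statements.S19858
import Mathlib
import Groth.Agent.FlatDepth.CompDescent
-- import your own Groth.Agent.* helpers here

set_option autoImplicit false
universe u
open EGA4

namespace Groth.Agent.S19858

/-- Let A → B → C be homomorphisms of Noetherian rings such that C is faithfully flat over B and the
composite A → C is a normal homomorphism (flat, with geometrically normal fibres). Then A → B is a
normal homomorphism. (In the source C is the adic completion of A along an ideal and A → C is
assumed normal; only the faithful flatness of B → C and the normality of A → C enter, so C is an
arbitrary Noetherian ring here.) -/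
theorem result (A B C : Type u)
    [CommRing A] [CommRing B] [CommRing C] [IsNoetherianRing A] [IsNoetherianRing B] [IsNoetherianRing C]
    [Algebra A B] [Algebra B C] [Algebra A C] [IsScalarTower A B C] [Module.FaithfullyFlat B C]
    (hAC : EGA4.IsNormalHom A C) : EGA4.IsNormalHom A B := by
  obtain ⟨_, hfib⟩ := hAC
  exact ⟨SepSurj.flat_of_comp_faithfullyFlat (R := A) (S := B) (T := C),
    fun p _ => FlatDepth.geomNormal_descent (A := A) (B := B) (C := C) p (hfib p)⟩

end Groth.Agent.S19858
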