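import Groth.Statements.S19865
import Groth.Agent.DerPush.Basic

set_option autoImplicit false
universe w u
open CategoryTheory CategoryTheory.Limits AlgebraicGeometry
open Deform

namespace Groth.Agent.S19865

/-- Every class is an extension class: let k be an algebraically closed field of characteristic zero and
X a projective k-scheme, given with a closed immersion ι into projective n-space over k compatible
with the structure maps; suppose the Ext groups of the abelian category of O_X-modules are w-small.
Then every element e of Ext^1(Ω_{X/k}, O_X) (Ext in the category of O_X-modules, Ω_{X/k} the module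
of differentials of the structure map) is the extension class of some short exact sequence 0 → O_X →
F → Ω_{X/k} → 0 of O_X-modules. (The source states an identification of Ext^1(Ω_X, O_X) with the set
of extensions of Ω_X by O_X; stated here is that every class arises from an extension, the direction
the source proves.) -/
theorem result
    (k : Type u) [Field k] [IsAlgClosed k] [CharZero k]
    (X : Scheme.{u}) [X.Over (Spec (CommRingCat.of k))] [IsProper (X ↘ Spec (CommRingCat.of k))]
    (n : ℕ) (ι : X ⟶ CohB1.ProjSpace n k) [IsClosedImmersion ι]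
    (hι : ι ≫ CohB1.ProjSpace.toSpec n k = X ↘ Spec (CommRingCat.of k))
    [HasExt.{w} X.Modules]
    (e : Abelian.Ext (Omega.sheaf (X ↘ Spec (CommRingCat.of k))) (Coh.structureModule X) 1) :
    ∃ (F : X.Modules) (i : Coh.structureModule X ⟶ F) (p : F ⟶ Omega.sheaf (X ↘ Spec (CommRingCat.of k)))
      (hip : i ≫ p = 0) (hS : (ShortComplex.mk i p hip).ShortExact), hS.extClass = e := by
  haveI := Groth.Agent.DerPush.isGrothendieckAbelian_modules X
  haveI : EnoughInjectives X.Modules := inferInstance
  obtain ⟨P⟩ := EnoughInjectives.presentation (Coh.structureModule X)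
  let S₀ : ShortComplex X.Modules := ShortComplex.mk P.f (cokernel.π P.f) (cokernel.condition _)
  have h₀ : S₀.ShortExact :=
    { exact := ShortComplex.exact_of_g_is_cokernel _ (cokernelIsCokernel P.f)
      mono_f := P.mono
      epi_g := inferInstanceAs (Epi (cokernel.π P.f)) }
  haveI : Injective S₀.X₂ := P.injective
  obtain ⟨x, hx⟩ := Abelian.Ext.covariant_sequence_exact₁ _ h₀ e (Abelian.Ext.eq_zero_of_injective _) (zero_add 1)
  obtain ⟨h, rfl⟩ := (Abelian.Ext.mk₀_bijective _ _).2 x
  haveI : Mono S₀.f := P.mono
  haveI : Epi S₀.g := inferInstanceAs (Epi (cokernel.π P.f))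
  let i : Coh.structureModule X ⟶ pullback S₀.g h := pullback.lift S₀.f 0 (by rw [S₀.zero, zero_comp])
  have hip : i ≫ pullback.snd S₀.g h = 0 := pullback.lift_snd _ _ _
  have hifst : i ≫ pullback.fst S₀.g h = S₀.f := pullback.lift_fst _ _ _
  haveI : Mono i := mono_of_mono_fac hifst
  let hl := fun {Z : X.Modules} (g : Z ⟶ pullback S₀.g h) (hg : g ≫ pullback.snd S₀.g h = 0) =>
    KernelFork.IsLimit.lift' h₀.exact.fIsKernel (g ≫ pullback.fst S₀.g h)
      (by rw [Category.assoc, pullback.condition, ← Category.assoc, hg, zero_comp])
  have hk : IsLimit (KernelFork.ofι i hip) := KernelFork.IsLimit.ofι' i hip fun g hg =>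
    ⟨(hl g hg).1, pullback.hom_ext (by rw [Category.assoc, hifst]; exact (hl g hg).2)
      (by rw [Category.assoc, hip, comp_zero, hg])⟩
  have hS : (ShortComplex.mk i (pullback.snd S₀.g h) hip).ShortExact :=
    { exact := ShortComplex.exact_of_f_is_kernel _ hk
      mono_f := inferInstanceAs (Mono i)
      epi_g := inferInstanceAs (Epi (pullback.snd S₀.g h)) }
  refine ⟨pullback S₀.g h, i, _, hip, hS, ?_⟩
  let φ : ShortComplex.mk i (pullback.snd S₀.g h) hip ⟶ S₀ :=
    ShortComplex.homMk (𝟙 _) (pullback.fst S₀.g h) h (by rw [Category.id_comp]; exact hifst.symm)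
      pullback.condition
  have hn := ShortComplex.ShortExact.extClass_naturality hS h₀ φ
  exact ((Abelian.Ext.comp_mk₀_id hS.extClass).symm.trans hn).trans hx

end Groth.Agent.S19865
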