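import Groth.Statements.S1987
import Mathlib

set_option autoImplicit false
universe u
open Polynomial
open EtAlg

namespace Groth.Agent.S1987

/-- Let A be a discrete valuation ring with uniformizer π and n ≥ 2, and let A' = A[x]/(x^n - π). Then
x^n - π is irreducible over A, A' is an integrally closed discrete valuation ring (so it is the
integral closure of A in its fraction field K₁ = K(π^{1/n}), of degree n over K), the maximal ideal
of A generates the n-th power of the maximal ideal of A' (ramification index n), and K₁ is totally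
ramified with respect to A. -/
theorem result (A : Type u) [CommRing A] [IsDomain A] [IsDiscreteValuationRing A] (π : A)
    (hπ : Irreducible π) (n : ℕ) (hn : 2 ≤ n) :
    Irreducible (X ^ n - C π : A[X]) ∧
    ∃ (_ : IsDomain (AdjoinRoot (X ^ n - C π : A[X]))) (_ : IsDiscreteValuationRing (AdjoinRoot (X ^ n - C π : A[X]))),
      IsIntegrallyClosed (AdjoinRoot (X ^ n - C π : A[X])) ∧
      (IsLocalRing.maximalIdeal A).map (algebraMap A (AdjoinRoot (X ^ n - C π : A[X]))) = IsLocalRing.maximalIdeal (AdjoinRoot (X ^ n - C π : A[X])) ^ n ∧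
      ∀ (K₁ : Type u) [Field K₁] [Algebra (AdjoinRoot (X ^ n - C π : A[X])) K₁] [IsFractionRing (AdjoinRoot (X ^ n - C π : A[X])) K₁],
        EtRam.IsTotallyRamified A ((algebraMap (AdjoinRoot (X ^ n - C π : A[X])) K₁).comp (algebraMap A (AdjoinRoot (X ^ n - C π : A[X])))) := by
  classical
  have hn0 : n ≠ 0 := by omega
  have hmA : IsLocalRing.maximalIdeal A = Ideal.span {π} :=
    (IsDiscreteValuationRing.irreducible_iff_uniformizer π).1 hπ
  set P : Ideal A := Ideal.span {π} with hP
  haveI hPp : P.IsPrime := hmA ▸ (IsLocalRing.maximalIdeal.isMaximal A).isPrime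
  set f : A[X] := X ^ n - C π with hf
  have hfm : f.Monic := monic_X_pow_sub_C π hn0
  have hdeg : f.natDegree = n := natDegree_X_pow_sub_C
  have hirr : Irreducible f := by
    refine irreducible_of_eisenstein_criterion hPp ?_ (fun k hk => ?_) ?_ ?_ hfm.isPrimitive
    · rw [hfm.leadingCoeff]; exact hPp.one_notMem
    · rw [degree_X_pow_sub_C (Nat.pos_of_ne_zero hn0), Nat.cast_lt] at hk
      rw [coeff_sub, coeff_X_pow, if_neg hk.ne, coeff_C, zero_sub]
      split_ifs with h
      · exact neg_mem (Ideal.mem_span_singleton_self π)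
      · simp
    · rw [degree_X_pow_sub_C (Nat.pos_of_ne_zero hn0)]
      exact_mod_cast Nat.pos_of_ne_zero hn0
    · rw [coeff_sub, coeff_X_pow, if_neg (by omega : (0 : ℕ) ≠ n), coeff_C_zero, zero_sub, neg_mem_iff,
        hP, pow_two, Ideal.span_singleton_mul_span_singleton, Ideal.mem_span_singleton]
      intro hd
      exact hπ.not_isUnit (isUnit_of_dvd_one ((mul_dvd_mul_iff_left hπ.ne_zero).1 (by simpa using hd)))
  refine ⟨hirr, ?_⟩
  haveI hdom : IsDomain (AdjoinRoot f) := AdjoinRoot.isDomain_of_prime hirr.prime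
  haveI hfin : Module.Finite A (AdjoinRoot f) := hfm.finite_adjoinRoot
  let R := AdjoinRoot f
  let Y : R := AdjoinRoot.root f
  have hY : Y ^ n = algebraMap A R π := by
    have h := AdjoinRoot.eval₂_root f
    rw [eval₂_sub, eval₂_X_pow, eval₂_C, sub_eq_zero] at h
    exact h
  have hdec : ∀ x : R, ∃ a : A, x - algebraMap A R a ∈ Ideal.span {Y} := by
    intro x
    obtain ⟨g, rfl⟩ := AdjoinRoot.mk_surjective x
    refine ⟨g.coeff 0, ?_⟩
    rw [show algebraMap A R (g.coeff 0) = AdjoinRoot.mk f (C (g.coeff 0)) from rfl, ← map_sub,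
      ← X_mul_divX_add g, coeff_add, coeff_C_zero, mul_coeff_zero, coeff_X_zero, zero_mul, zero_add,
      add_sub_cancel_right, map_mul, AdjoinRoot.mk_X]
    exact Ideal.mul_mem_right _ _ (Ideal.mem_span_singleton_self _)
  let φ : R →+* A ⧸ P := AdjoinRoot.lift (Ideal.Quotient.mk P) 0 (by
    rw [eval₂_sub, eval₂_X_pow, eval₂_C, zero_pow hn0, zero_sub, neg_eq_zero, Ideal.Quotient.eq_zero_iff_mem]
    exact Ideal.mem_span_singleton_self π)
  have hker : RingHom.ker φ = Ideal.span {Y} := by
    refine le_antisymm (fun x hx => ?_) ((Ideal.span_singleton_le_iff_mem _).2 (AdjoinRoot.lift_root _))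
    obtain ⟨a, ha⟩ := hdec x
    obtain ⟨w, hw⟩ := Ideal.mem_span_singleton'.1 ha
    have h0 : Ideal.Quotient.mk P a = 0 := by
      have e := congrArg φ hw
      rw [map_mul, map_sub, RingHom.mem_ker.1 hx, show φ Y = 0 from AdjoinRoot.lift_root _, mul_zero,
        zero_sub, eq_comm, neg_eq_zero] at e
      rwa [show φ (algebraMap A R a) = Ideal.Quotient.mk P a from AdjoinRoot.lift_of _] at e
    obtain ⟨c, rfl⟩ := Ideal.mem_span_singleton'.1 (Ideal.Quotient.eq_zero_iff_mem.1 h0)
    rw [show x = w * Y + algebraMap A R c * Y ^ n by rw [hw, hY, ← map_mul]; ring]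
    exact add_mem (Ideal.mul_mem_left _ _ (Ideal.mem_span_singleton_self Y))
      (Ideal.mul_mem_left _ _ (Ideal.pow_mem_of_mem _ (Ideal.mem_span_singleton_self Y) n (Nat.pos_of_ne_zero hn0)))
  haveI : P.IsMaximal := hmA ▸ IsLocalRing.maximalIdeal.isMaximal A
  letI : Field (A ⧸ P) := Ideal.Quotient.field P
  have hYmax : (Ideal.span {Y}).IsMaximal := hker ▸ RingHom.ker_isMaximal_of_surjective φ (fun z => by
    obtain ⟨a, rfl⟩ := Ideal.Quotient.mk_surjective z
    exact ⟨algebraMap A R a, AdjoinRoot.lift_of _⟩)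
  haveI : Algebra.IsIntegral A R := Algebra.IsIntegral.of_finite A R
  have huniq : ∀ M : Ideal R, M.IsMaximal → M = Ideal.span {Y} := by
    intro M hM
    have hc : M.comap (algebraMap A R) = IsLocalRing.maximalIdeal A :=
      IsLocalRing.eq_maximalIdeal (Ideal.isMaximal_comap_of_isIntegral_of_isMaximal M)
    have hπM : algebraMap A R π ∈ M := Ideal.mem_comap.1 (hc ▸ hmA ▸ Ideal.mem_span_singleton_self π)
    rw [← hY] at hπM
    exact (hYmax.eq_of_le hM.ne_top ((Ideal.span_singleton_le_iff_mem _).2 (hM.isPrime.mem_of_pow_mem n hπM))).symm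
  haveI hlocal : IsLocalRing R := IsLocalRing.of_unique_max_ideal ⟨_, hYmax, huniq⟩
  have hmR : IsLocalRing.maximalIdeal R = Ideal.span {Y} := huniq _ (IsLocalRing.maximalIdeal.isMaximal R)
  have hmk0 : ∀ a : A, algebraMap A R a = 0 → a = 0 := fun a ha => by
    have h : f ∣ C a := AdjoinRoot.mk_eq_zero.1 ha
    by_contra hne
    have := natDegree_le_of_dvd h (by simpa using hne)
    rw [natDegree_C, hdeg] at this
    omega
  have hπ0 : algebraMap A R π ≠ 0 := fun h => hπ.ne_zero (hmk0 π h)
  have hY0 : Y ≠ 0 := fun h => hπ0 (by rw [← hY, h, zero_pow hn0])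
  haveI : IsNoetherianRing R := IsNoetherianRing.of_finite A R
  haveI : IsPrincipalIdealRing R :=
    ((tfae_of_isNoetherianRing_of_isLocalRing_of_isDomain (R := R)).out 4 0).1
      (show (IsLocalRing.maximalIdeal R).IsPrincipal from ⟨⟨Y, hmR⟩⟩)
  haveI hdvr : IsDiscreteValuationRing R := { not_a_field' := fun h => hY0 (by
    rw [hmR, Ideal.span_singleton_eq_bot] at h; exact h) }
  haveI hloc : IsLocalHom (algebraMap A R) := ⟨fun a ha => by
    by_contra hu
    obtain ⟨c, rfl⟩ : ∃ c, c * π = a := Ideal.mem_span_singleton'.1 (hmA.le hu)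
    rw [map_mul, ← hY] at ha
    exact hYmax.ne_top (Ideal.eq_top_of_isUnit_mem _ (Ideal.mul_mem_left _ _
      (Ideal.pow_mem_of_mem _ (Ideal.mem_span_singleton_self Y) n (Nat.pos_of_ne_zero hn0))) ha)⟩
  refine ⟨hdom, hdvr, inferInstance, ?_, fun K₁ _ _ _ => ?_⟩
  · show (IsLocalRing.maximalIdeal A).map (algebraMap A R) = IsLocalRing.maximalIdeal R ^ n
    rw [hmR, hmA, Ideal.map_span, Set.image_singleton, Ideal.span_singleton_pow, hY]
  let g : A →+* K₁ := (algebraMap R K₁).comp (algebraMap A R)
  have hg : ∀ a, g a = algebraMap R K₁ (algebraMap A R a) := fun a => rfl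
  have hinj := IsFractionRing.injective R K₁
  let V₀ : ValuationSubring K₁ :=
    { (algebraMap R K₁).range with
      mem_or_inv_mem' := fun x => by
        rcases ValuationRing.isInteger_or_isInteger R x with h | h
        · exact Or.inl h
        · exact Or.inr h }
  have hlt : ∀ (V : ValuationSubring K₁), (∀ r : R, algebraMap R K₁ r ∈ V) →
      V.valuation (algebraMap R K₁ (algebraMap A R π)) < 1 → V = V₀ := by
    intro V hR hπV
    refine SetLike.ext fun x => ⟨fun hx => ?_, ?_⟩
    · by_contra hne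
      obtain ⟨r, hr⟩ : IsLocalization.IsInteger R x⁻¹ := (ValuationRing.isInteger_or_isInteger R x).resolve_left hne
      by_cases hu : IsUnit r
      · obtain ⟨w, hw⟩ := hu.exists_right_inv
        refine hne ⟨w, ?_⟩
        have := congrArg (algebraMap R K₁) hw
        rw [map_mul, hr, map_one] at this
        exact (eq_of_inv_mul_eq_one this).symm
      have hrY : r ∈ Ideal.span {Y} := hmR ▸ hu
      obtain ⟨w, rfl⟩ := Ideal.mem_span_singleton'.1 hrY
      have hYinv : (algebraMap R K₁ Y)⁻¹ ∈ V := by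
        rcases eq_or_ne x 0 with rfl | hx0
        · rw [inv_zero, map_mul] at hr
          rcases mul_eq_zero.1 hr with h | h
          · exact absurd (show (0 : K₁) ∈ (algebraMap R K₁).range from ⟨0, map_zero _⟩) (fun h' => hne h')
          · exact absurd (hinj (h.trans (map_zero _).symm)) hY0
        have hY0' : algebraMap R K₁ Y ≠ 0 := fun h => hY0 (hinj (h.trans (map_zero _).symm))
        rw [show (algebraMap R K₁ Y)⁻¹ = algebraMap R K₁ w * x by
          refine inv_eq_of_mul_eq_one_right ?_
          rw [map_mul] at hr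
          rw [← mul_assoc, mul_comm (algebraMap R K₁ Y), hr, inv_mul_cancel₀ hx0]]
        exact mul_mem (hR w) hx
      have h1 : (algebraMap R K₁ (algebraMap A R π))⁻¹ ∈ V := by
        rw [← hY, map_pow, ← inv_pow]; exact pow_mem hYinv n
      have h2 : algebraMap R K₁ (algebraMap A R π) ∈ V.nonunits := (ValuationSubring.mem_nonunits_iff V).2 hπV
      rcases (ValuationSubring.mem_nonunits_iff_or V).1 h2 with h | h
      · exact hπ0 (hinj (h.trans (map_zero _).symm))
      · exact h h1
    · rintro ⟨r, rfl⟩; exact hR r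
  have hRV : ∀ (V : ValuationSubring K₁), EtRam.Dominates A g V → ∀ r : R, algebraMap R K₁ r ∈ V := by
    intro V hV r
    letI : Algebra A K₁ := g.toAlgebra
    haveI : IsScalarTower A R K₁ := IsScalarTower.of_algebraMap_eq fun _ => rfl
    letI : Algebra A V := (RingHom.codRestrict g V hV.1).toAlgebra
    haveI : IsScalarTower A V K₁ := IsScalarTower.of_algebraMap_eq fun _ => rfl
    obtain ⟨y, hy⟩ := IsIntegrallyClosed.isIntegral_iff.1
      (((Algebra.IsIntegral.isIntegral (R := A) r).algebraMap (B := K₁)).tower_top (A := V))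
    exact hy ▸ y.2
  refine ⟨⟨V₀, fun a => ⟨_, rfl⟩, fun a ha => ?_⟩, fun V V' hV hV' => ?_, fun V hV => ?_⟩
  · show V₀.valuation (g a) < 1
    rw [← ValuationSubring.mem_nonunits_iff, ValuationSubring.mem_nonunits_iff_or]
    rcases eq_or_ne a 0 with rfl | ha0
    · exact Or.inl (map_zero g)
    refine Or.inr ?_
    rintro ⟨r, hr⟩
    refine ha (IsUnit.of_map (algebraMap A R) _ (IsUnit.of_mul_eq_one r (hinj ?_)))
    rw [map_mul, hr, map_one]
    exact mul_inv_cancel₀ fun h => ha0 (hmk0 a (hinj (h.trans (map_zero _).symm)))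
  · have hm : π ∈ IsLocalRing.maximalIdeal A := hmA ▸ Ideal.mem_span_singleton_self π
    rw [hlt V (hRV V hV) (hV.2 π hm), hlt V' (hRV V' hV') (hV'.2 π hm)]
  · intro z
    obtain ⟨⟨x, hx⟩, rfl⟩ := IsLocalRing.residue_surjective z
    have hm : π ∈ IsLocalRing.maximalIdeal A := hmA ▸ Ideal.mem_span_singleton_self π
    obtain ⟨r, rfl⟩ : x ∈ (algebraMap R K₁).range := by rw [hlt V (hRV V hV) (hV.2 π hm)] at hx; exact hx
    obtain ⟨a, ha⟩ := hdec r
    obtain ⟨w, hw⟩ := Ideal.mem_span_singleton'.1 ha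
    refine ⟨a, ?_⟩
    rw [← sub_eq_zero, ← map_sub, IsLocalRing.residue_eq_zero_iff, ValuationSubring.valuation_lt_one_iff]
    show V.valuation (g a - algebraMap R K₁ r) < 1
    have e : g a - algebraMap R K₁ r = -(algebraMap R K₁ w * algebraMap R K₁ Y) := by
      rw [← map_mul, hw, map_sub, hg]; ring
    rw [e, Valuation.map_neg, map_mul]
    have hYlt : V.valuation (algebraMap R K₁ Y) < 1 := by
      have := hV.2 π hm
      rw [hg, ← hY, map_pow, map_pow] at this
      by_contra hge
      exact this.not_ge (one_le_pow₀ (not_lt.1 hge))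
    exact (mul_le_of_le_one_left' ((V.valuation_le_one_iff _).2 (hRV V hV w))).trans_lt hYlt

end Groth.Agent.S1987
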