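import Groth.Statements.S19871
import Groth.Agent.WeilLib.Corr

set_option autoImplicit false
universe u v
open CategoryTheory AlgebraicGeometry
open WeilCoh

namespace Groth.Agent.S19871

/-- Let `H` be a Weil cohomology theory with coefficients in a field `K` of characteristic zero on
nonsingular connected projective varieties over an algebraically closed field `k`; let `X`, `Y` be
such varieties and `P` a product `X × Y` with projections `p`, `q`, of dimension `dim X + dim Y`.
For an integer `r`, sending a class `φ ∈ H^{2 dim X + r}(P)` to the family, indexed by all integers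
`i`, of the `K`-linear maps `H^i(X) → H^{i+r}(Y)`, `x ↦ q_*(p^* x ∪ φ)`, is a bijection from `H^{2
dim X + r}(P)` onto the families of linear maps `(H^i(X) → H^{i+r}(Y))_i`, i.e. onto the degree-`r`
homomorphisms of graded vector spaces from `H•(X)` to `H•(Y)` (the factors with `i` outside `[0, 2
dim X]` are zero). The target degree is written `i + (2 dim X + r) + 2 dim Y − 2 dim P`, the
indexing of the push-forward; it equals `i + r` by the dimension hypothesis. (The published lemma
states a canonical isomorphism `Hom^r(H•X, H•Y) ≅ H^{2 dim X + r}(X × Y)(dim X)` obtained from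
Poincaré duality on `X` and the Künneth formula, for smooth projective varieties over an arbitrary
field with Tate twists; this row is its case of connected varieties over an algebraically closed
field, without twists, with the isomorphism written as the action of a class by pull-back, cup
product and push-forward.) -/
theorem result (k : Type u) [Field k] [IsAlgClosed k] (K : Type v) [Field K] [CharZero K]
    (T : WeilCoh.Theory k K) (X Y P : WeilCoh.Var k) (p : P ⟶ X) (q : P ⟶ Y) (hP : WeilCoh.IsProd p q)
    (hdim : WeilCoh.dim P.obj.left = WeilCoh.dim X.obj.left + WeilCoh.dim Y.obj.left) (r : ℤ) :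
    Function.Bijective (fun φ : ↥(T.gr P (2 * (WeilCoh.dim X.obj.left : ℤ) + r)) => fun i : ℤ =>
      (T.push q (i + (2 * (WeilCoh.dim X.obj.left : ℤ) + r))) ∘ₗ
        ((LinearMap.mulRight K (φ : T.H P)).restrict (p := T.gr P i) (q := T.gr P (i + (2 * (WeilCoh.dim X.obj.left : ℤ) + r)))
          (fun x hx => SetLike.mul_mem_graded hx φ.2)) ∘ₗ
        (T.pullDeg p i)) := by
  classical
  constructor
  · intro φ φ' h
    refine Subtype.ext (Groth.Agent.WeilLib.eq_of_tr_mul_prod T (IsPullback.flip hP : WeilCoh.IsProd q p)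
      fun j i b hb a ha => ?_)
    have key : ∀ χ : ↥(T.gr P (2 * (WeilCoh.dim X.obj.left : ℤ) + r)),
        T.tr P ((χ : T.H P) * (T.pull q b * T.pull p a)) =
          Groth.Agent.WeilLib.sgn K i * T.tr Y
            ((T.push q (i + (2 * (WeilCoh.dim X.obj.left : ℤ) + r))
              ⟨T.pull p a * (χ : T.H P), SetLike.mul_mem_graded (T.pull_mem p i a ha) χ.2⟩ : T.H Y) * b) := by
      intro χ
      rw [Groth.Agent.WeilLib.tr_push_mul]
      show _ = _ * T.tr P (T.pull p a * (χ : T.H P) * T.pull q b)
      rw [mul_assoc (T.pull p a), Groth.Agent.WeilLib.tr_mul_comm T (T.pull_mem p i a ha),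
        ← mul_assoc (Groth.Agent.WeilLib.sgn K i), Groth.Agent.WeilLib.sgn_mul_self, one_mul, mul_assoc]
    rw [key, key]
    exact congrArg (fun z : T.H Y => Groth.Agent.WeilLib.sgn K i * T.tr Y (z * b))
      (congrArg Subtype.val (LinearMap.congr_fun (congrFun h i) ⟨a, ha⟩))
  · intro u
    let U : T.H X →ₗ[K] T.H Y := DirectSum.toModule K ℤ _
      (fun i => Groth.Agent.WeilLib.sgn K i • (Submodule.subtype _ ∘ₗ u i)) ∘ₗ
        (Groth.Agent.WeilLib.sumEquiv T X).symm.toLinearMap
    have hU : ∀ (i : ℤ) (a : ↥(T.gr X i)),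
        U (a : T.H X) = Groth.Agent.WeilLib.sgn K i • (u i a : T.H Y) := fun i a => by
      show DirectSum.toModule K ℤ _ _ ((Groth.Agent.WeilLib.sumEquiv T X).symm (a : T.H X)) = _
      rw [Groth.Agent.WeilLib.sumEquiv_symm_coe, DirectSum.toModule_lof]
      rfl
    let k₂ := LinearEquiv.ofBijective _ (T.kunneth q p (IsPullback.flip hP : WeilCoh.IsProd q p))
    let L : T.H P →ₗ[K] K :=
      TensorProduct.lift (((LinearMap.mul K (T.H Y)).comp U).compr₂ (T.tr Y)).flip ∘ₗ k₂.symm.toLinearMap
    have hL : ∀ (a : T.H X) (b : T.H Y), L (T.pull q b * T.pull p a) = T.tr Y (U a * b) := by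
      intro a b
      show TensorProduct.lift _ (k₂.symm (T.pull q b * T.pull p a)) = _
      have hk : k₂.symm (T.pull q b * T.pull p a) = b ⊗ₜ[K] a :=
        k₂.symm_apply_eq.mpr rfl
      rw [hk, TensorProduct.lift.tmul]
      rfl
    have hdual := T.duality P (2 * (WeilCoh.dim X.obj.left : ℤ) + r)
      (2 * (WeilCoh.dim Y.obj.left : ℤ) - r) (by rw [hdim]; push_cast; ring)
    obtain ⟨φ, hφ⟩ := hdual.bijective_left.surjective
      (L ∘ₗ (T.gr P (2 * (WeilCoh.dim Y.obj.left : ℤ) - r)).subtype)
    refine ⟨φ, funext fun i => LinearMap.ext fun a => Subtype.ext ?_⟩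
    refine Groth.Agent.WeilLib.push_eq T q _ _ fun j b hb => ?_
    show T.tr Y ((u i a : T.H Y) * b) = T.tr P (T.pull p (a : T.H X) * (φ : T.H P) * T.pull q b)
    by_cases hj : i + j = 2 * (WeilCoh.dim Y.obj.left : ℤ) - r
    · have hz : T.pull q b * T.pull p (a : T.H X) ∈ T.gr P (2 * (WeilCoh.dim Y.obj.left : ℤ) - r) := by
        rw [← hj, add_comm i j]
        exact SetLike.mul_mem_graded (T.pull_mem q j b hb) (T.pull_mem p i a a.2)
      have h1 : T.tr P ((φ : T.H P) * (T.pull q b * T.pull p (a : T.H X))) =
          L (T.pull q b * T.pull p (a : T.H X)) :=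
        LinearMap.congr_fun hφ ⟨_, hz⟩
      rw [mul_assoc, Groth.Agent.WeilLib.tr_mul_comm T (T.pull_mem p i a a.2), mul_assoc, h1, hL, hU,
        smul_mul_assoc, map_smul, smul_eq_mul, ← mul_assoc, Groth.Agent.WeilLib.sgn_mul_self, one_mul]
    · rw [Groth.Agent.WeilLib.tr_mul_eq_zero T (u i a).2 hb (by omega),
        Groth.Agent.WeilLib.tr_mul_eq_zero T (SetLike.mul_mem_graded (T.pull_mem p i a a.2) φ.2)
          (T.pull_mem q j b hb) (by omega)]

end Groth.Agent.S19871
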