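import Groth.Statements.S19876
import Groth.Agent.FlatDom.DvrTest
import Groth.Agent.InjFibre.Loc

set_option autoImplicit false
universe u
open scoped TensorProduct
open FlatMor

namespace Groth.Agent.S19876

/-- Affine form. Suppose A is a Noetherian ring that is reduced, B is a finitely generated A-algebra
(finite type), and M is a B-module that is finitely generated over B. Then flatness of M over A
holds exactly when, for each discrete valuation ring R together with any ring homomorphism A → R,
the base change R ⊗_A M is a flat R-module. (In the source the statement concerns a coherent module
on a scheme of finite type over a reduced Noetherian scheme, with base changes to spectra of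
discrete valuation rings; since flatness is local on both source and target, what is recorded here
is the affine version, and the discrete valuation rings are taken in the universe of A.) -/
theorem result (A : Type u) [CommRing A] [IsReduced A]
    [IsNoetherianRing A] (B : Type u) [CommRing B] [Algebra A B] [Algebra.FiniteType A B]
    (M : Type u) [AddCommGroup M] [Module A M] [Module B M] [IsScalarTower A B M] [Module.Finite B M] :
    Module.Flat A M ↔
      ∀ (R : Type u) [CommRing R] [IsDomain R] [IsDiscreteValuationRing R] [Algebra A R],
        Module.Flat R (R ⊗[A] M) := by
  refine ⟨fun hf R _ _ _ _ => inferInstance, fun h => ?_⟩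
  haveI : Algebra.FinitePresentation A B := Algebra.FinitePresentation.of_finiteType.1 inferInstance
  haveI : IsNoetherianRing B := Algebra.FiniteType.isNoetherianRing A B
  haveI : Module.FinitePresentation B M := Module.finitePresentation_of_finite B M
  refine Module.flat_of_isLocalized_maximal B _ (fun P [P.IsMaximal] => LocalizedModule P.primeCompl M)
    (fun P [P.IsMaximal] => LocalizedModule.mkLinearMap P.primeCompl M) fun P hP => ?_
  let p := P.comap (algebraMap A B)
  haveI : P.LiesOver p := ⟨rfl⟩
  haveI : IsNoetherianRing (Localization.AtPrime p) := IsLocalization.isNoetherianRing p.primeCompl _ inferInstance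
  haveI : _root_.IsReduced (Localization.AtPrime p) := inferInstance
  refine Groth.Agent.FlatDom.flat_at_of_dvr (A := A) (B := B) M p P ?_
  intro R _ _ _ _ _ T _ _ _ _ _ _ _ Q _ _ _
  haveI := h R
  haveI : Module.Flat R (T ⊗[B] M) := Module.Flat.of_linearEquiv (Algebra.IsPushout.cancelBaseChange A R B T M)
  exact Groth.Agent.InjFibre.flat_localized Q.primeCompl (LocalizedModule.mkLinearMap Q.primeCompl (T ⊗[B] M))

end Groth.Agent.S19876
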