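import Groth.Statements.S19878
import Groth.Agent.BlowUpLib.Cartier
import Mathlib.AlgebraicGeometry.Noetherian
import Mathlib.AlgebraicGeometry.Morphisms.Immersion
import Mathlib.RingTheory.Nakayama

set_option autoImplicit false
set_option backward.isDefEq.respectTransparency false
set_option linter.style.haveILetI false
universe u
open LVCorr

namespace Groth.Agent.S19878

open AlgebraicGeometry CategoryTheory CategoryTheory.Limits

open AlgebraicGeometry CategoryTheory CategoryTheory.Limits in
/-- Let k be a field, C a k-scheme of finite type, X a k-scheme and c = (c₁, c₂) : C → X ×_k X a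
correspondence; let Fix(c) = C ×_{X ×_k X} X be its scheme of fixed points (pullback along the
diagonal), with projections i : Fix(c) → C and δ : Fix(c) → X. Let Z ⊂ X be the closed subscheme of
a quasi-coherent ideal I and suppose c is contracting near Z in a neighbourhood of the fixed points:
there is an open W ⊆ C containing the image of Fix(c) such that on W the inverse image ideal of I
under c₁ is contained in the inverse image ideal of I under c₂ (c stabilizes Z on W) and some power
(I·O_W via c₁)^k₀ is contained in (I·O_W via c₂)^(k₀+1). Then every connected open subset β of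
Fix(c) whose image under δ meets Z is contained, as a set, in δ⁻¹(Z). (The source works with
separated schemes of finite type over an algebraically closed field; this row assumes only that C is
of finite type over a field k.) -/
theorem result {C X Fx : Scheme.{u}} (k : Type u) [Field k]
    (pC : C ⟶ Spec (CommRingCat.of k)) [LocallyOfFiniteType pC] [QuasiCompact pC]
    (pX : X ⟶ Spec (CommRingCat.of k)) (c₁ c₂ : C ⟶ X) (hc : c₁ ≫ pX = c₂ ≫ pX)
    (i : Fx ⟶ C) (δ : Fx ⟶ X) (hF : IsPullback i δ (pullback.lift c₁ c₂ hc) (pullback.diagonal pX))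
    (I : X.IdealSheafData) (W : C.Opens) (hW : Set.range i.base ⊆ (W : Set C))
    (hle : I.comap (W.ι ≫ c₁) ≤ I.comap (W.ι ≫ c₂))
    (k₀ : ℕ) (hpow : I.comap (W.ι ≫ c₁) ^ k₀ ≤ I.comap (W.ι ≫ c₂) ^ (k₀ + 1))
    (β : Fx.Opens) (hβ : _root_.IsConnected (β : Set Fx))
    (hβZ : (δ.base '' (β : Set Fx) ∩ (I.support : Set X)).Nonempty) :
    (β : Set Fx) ⊆ δ.base ⁻¹' (I.support : Set X) := by
  have h1 : i ≫ c₁ = δ := by
    have := congr($(hF.w) ≫ pullback.fst pX pX)
    simpa using this
  have h2 : i ≫ c₂ = δ := by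
    have := congr($(hF.w) ≫ pullback.snd pX pX)
    simpa using this
  haveI : LocallyOfFiniteType i := MorphismProperty.of_isPullback (P := @LocallyOfFiniteType) hF.flip inferInstance
  haveI : IsLocallyNoetherian Fx := LocallyOfFiniteType.isLocallyNoetherian (i ≫ pC)
  let l : Fx ⟶ W.toScheme := IsOpenImmersion.lift W.ι i (by rw [Scheme.Opens.range_ι]; exact hW)
  have hl : l ≫ W.ι = i := IsOpenImmersion.lift_fac _ _ _
  let J := I.comap δ
  have hJ1 : (I.comap (W.ι ≫ c₁)).comap l = J := by rw [← Scheme.IdealSheafData.comap_comp, reassoc_of% hl, h1]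
  have hJ2 : (I.comap (W.ι ≫ c₂)).comap l = J := by rw [← Scheme.IdealSheafData.comap_comp, reassoc_of% hl, h2]
  have hpowc : ∀ (K : W.toScheme.IdealSheafData) (m : ℕ), (K ^ m).comap l = K.comap l ^ m := by
    intro K m
    induction m with
    | zero => rw [pow_zero, pow_zero]; exact Scheme.IdealSheafData.comap_top l
    | succ m ih => rw [pow_succ, pow_succ, Groth.Agent.BlowUpLib.comap_mul, ih]
  have hJle : J ^ k₀ ≤ J ^ (k₀ + 1) := by
    have := Scheme.IdealSheafData.comap_mono l hpow
    simp only [hpowc, hJ1, hJ2] at this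
    exact this
  have hopen : IsOpen (J.support : Set Fx) := by
    refine isOpen_iff_forall_mem_open.mpr fun x hx => ?_
    obtain ⟨U, hU, hxU, -⟩ := exists_isAffineOpen_mem_and_subset (X := Fx) (U := ⊤) (trivial : x ∈ (⊤ : Fx.Opens))
    haveI := IsLocallyNoetherian.component_noetherian (X := Fx) ⟨U, hU⟩
    let a := J.ideal ⟨U, hU⟩
    have hle' : a ^ k₀ ≤ a • a ^ k₀ := by
      have := Scheme.IdealSheafData.le_def.mp hJle ⟨U, hU⟩
      simp only [Scheme.IdealSheafData.ideal_pow, Pi.pow_apply] at this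
      rwa [pow_succ'] at this
    obtain ⟨r, hr1, hr0⟩ := Submodule.exists_sub_one_mem_and_smul_eq_zero_of_fg_of_le_smul a (a ^ k₀) (IsNoetherian.noetherian _) hle'
    have hnil : ∀ s ∈ a, Fx.basicOpen r ⊓ Fx.basicOpen s = ⊥ := by
      intro s hs
      have h0 : r * s ^ (k₀ + 1) = 0 := hr0 _ (Ideal.pow_le_pow_right k₀.le_succ (Ideal.pow_mem_pow hs _))
      rw [← Fx.basicOpen_pow s (Nat.succ_pos k₀), ← Fx.basicOpen_mul, h0, Scheme.basicOpen_zero]
    have hz : ∀ s ∈ a, x ∉ Fx.basicOpen s := (Scheme.mem_zeroLocus_iff _ _ _).mp ((J.mem_support_iff_of_mem (U := ⟨U, hU⟩) hxU).mp hx)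
    have hxr : x ∈ Fx.basicOpen r := by
      have hn := hz _ hr1
      rw [Scheme.mem_basicOpen _ _ _ hxU, map_sub, map_one] at hn
      rw [Scheme.mem_basicOpen _ _ _ hxU]
      by_contra hu
      refine hn ?_
      exact (IsLocalRing.isUnit_or_isUnit_of_isUnit_add (a := Fx.presheaf.germ U x hxU r) (b := -(Fx.presheaf.germ U x hxU r - 1)) (by simp)).elim (fun h => absurd h hu) (fun h => IsUnit.neg_iff _ |>.mp h)
    refine ⟨Fx.basicOpen r, fun y hy => ?_, (Fx.basicOpen r).2, hxr⟩
    have hyU : y ∈ U := Fx.basicOpen_le r hy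
    refine (J.mem_support_iff_of_mem (U := ⟨U, hU⟩) hyU).mpr ((Scheme.mem_zeroLocus_iff _ _ _).mpr fun s hs h => ?_)
    exact (hnil s hs).le ⟨hy, h⟩
  have hsupp : (J.support : Set Fx) = δ.base ⁻¹' (I.support : Set X) := by
    rw [show J = I.comap δ from rfl, Scheme.IdealSheafData.support_comap]
    rfl
  rw [← hsupp]
  refine hβ.isPreconnected.subset_isClopen ⟨J.support.isClosed, hopen⟩ ?_
  obtain ⟨_, ⟨b, hb, rfl⟩, hb'⟩ := hβZ
  exact ⟨b, hb, by rw [hsupp]; exact hb'⟩

end Groth.Agent.S19878
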