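import Groth.Statements.S19879
import Groth.Agent.LVFrob.Basic
import Mathlib.Topology.DiscreteSubset
import Mathlib.AlgebraicGeometry.Morphisms.Immersion
import Mathlib.AlgebraicGeometry.Morphisms.Finite

set_option autoImplicit false
set_option backward.isDefEq.respectTransparency false
set_option linter.style.haveILetI false
universe u
open LVCorr

namespace Groth.Agent.S19879

open Groth.Agent TopologicalSpace
open AlgebraicGeometry CategoryTheory CategoryTheory.Limits in
/-- Let k₀ be a finite field with p^e elements, K an algebraic closure of k₀, C₀ a scheme of finite type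
over k₀, C = C₀ ×_{k₀} Spec K with its projections, and Fr : C → C the n-th power of the geometric
Frobenius (over K, compatible with the (e·n)-th power of the absolute p-Frobenius of C₀). Let X be
locally of finite type over K and c₁, c₂ : C → X morphisms over K with c₂ locally quasi-finite, and
let d < p^(e n) be such that for every closed point x of X, with J_x the inverse image under c₂ of
the ideal sheaf of the reduced point x, one has (√J_x)^d ⊂ J_x (so p^(e n) exceeds the ramification
degree of c₂). Then the scheme of fixed points of the twisted correspondence (c₁ ∘ Fr, c₂), namely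
the pullback of (c₁ ∘ Fr, c₂) : C → X ×_K X along the diagonal of X, has finite and discrete
underlying topological space. (In the source X, c₁ and c₂ are also defined over k₀ and all schemes
are separated; neither is needed here.) -/
theorem result {C C₀ X Fx : Scheme.{u}}
    (p : ℕ) [Fact p.Prime] (k₀ : Type u) [Field k₀] [Fintype k₀] [CharP k₀ p] (e : ℕ)
    (hq : Fintype.card k₀ = p ^ e) (K : Type u) [Field K] [Algebra k₀ K] [IsAlgClosure k₀ K]
    (f₀ : C₀ ⟶ Spec (CommRingCat.of k₀)) [LocallyOfFiniteType f₀] [QuasiCompact f₀] [FrobSch.IsCharP C₀ p]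
    (πC₀ : C ⟶ C₀) (πK : C ⟶ Spec (CommRingCat.of K))
    (hC : IsPullback πC₀ πK f₀ (Spec.map (CommRingCat.ofHom (algebraMap k₀ K))))
    (n : ℕ) (Fr : C ⟶ C)
    (hFr₀ : Fr ≫ πC₀ = πC₀ ≫ End.asHom (End.of (FrobSch.frob C₀ p) ^ (e * n)))
    (hFrK : Fr ≫ πK = πK)
    (pX : X ⟶ Spec (CommRingCat.of K)) [LocallyOfFiniteType pX]
    (c₁ c₂ : C ⟶ X) (hc₁ : c₁ ≫ pX = πK) (hc₂ : c₂ ≫ pX = πK)
    [LocallyQuasiFinite c₂] [LocallyOfFiniteType c₂]
    (hcomm : (Fr ≫ c₁) ≫ pX = c₂ ≫ pX) (d : ℕ) (hn : d < p ^ (e * n))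
    (hd : ∀ (x : X) (hx : IsClosed ({x} : Set X)),
      ((Scheme.IdealSheafData.vanishingIdeal ⟨{x}, hx⟩).comap c₂).radical ^ d ≤
        (Scheme.IdealSheafData.vanishingIdeal ⟨{x}, hx⟩).comap c₂)
    (i : Fx ⟶ C) (δ : Fx ⟶ X) (hF : IsPullback i δ (pullback.lift (Fr ≫ c₁) c₂ hcomm) (pullback.diagonal pX)) :
    Finite Fx ∧ DiscreteTopology Fx := by
  classical
  have h1 : i ≫ (Fr ≫ c₁) = δ := by
    have := congr($(hF.w) ≫ pullback.fst pX pX)
    simpa using this
  have h2 : i ≫ c₂ = δ := by
    have := congr($(hF.w) ≫ pullback.snd pX pX)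
    simpa using this
  haveI : LocallyOfFiniteType πK := MorphismProperty.of_isPullback hC inferInstance
  haveI : QuasiCompact πK := MorphismProperty.of_isPullback hC inferInstance
  haveI : IsImmersion i := MorphismProperty.of_isPullback hF.flip inferInstance
  haveI : IsLocallyNoetherian C := LocallyOfFiniteType.isLocallyNoetherian πK
  haveI : IsLocallyNoetherian Fx := LocallyOfFiniteType.isLocallyNoetherian i
  haveI : CompactSpace C := QuasiCompact.compactSpace_of_compactSpace πK
  haveI : IsNoetherian C := ⟨⟩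
  haveI : NoetherianSpace Fx := i.isEmbedding.isInducing.noetherianSpace
  haveI : JacobsonSpace C := LocallyOfFiniteType.jacobsonSpace πK
  haveI : JacobsonSpace X := LocallyOfFiniteType.jacobsonSpace pX
  haveI : JacobsonSpace Fx := LocallyOfFiniteType.jacobsonSpace i
  haveI : LocallyOfFiniteType δ := h2 ▸ inferInstance
  have hopen : ∀ y : Fx, y ∈ closedPoints Fx → IsOpen ({y} : Set Fx) := by
    intro y hy
    have hx : IsClosed ({δ y} : Set X) := δ.closePoints_subset_preimage_closedPoints hy
    let I := Scheme.IdealSheafData.vanishingIdeal (⟨{δ y}, hx⟩ : TopologicalSpace.Closeds X)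
    have hsupp : ∀ z, z ∈ I.support ↔ z = δ y := fun z => by
      show z ∈ (I.support : Set X) ↔ _
      rw [show (I.support : Set X) = {δ y} from Scheme.IdealSheafData.coe_support_vanishingIdeal _]
      exact Iff.rfl
    let bad : Set C := c₂.base ⁻¹' {δ y} \ (Fr ≫ c₁).base ⁻¹' {δ y}
    have hbad : IsClosed bad := isClosed_of_subset_discrete_closed Set.sdiff_subset
      (c₂.isDiscrete_preimage_singleton _) (hx.preimage c₂.continuous)
    let W : C.Opens := ⟨badᶜ, hbad.isOpen_compl⟩
    obtain ⟨-, hp⟩ := LVFrob.contract_on_open p k₀ K f₀ πC₀ πK hC (e * n) Fr hFr₀ hFrK c₁ c₂ I d (hd _ hx) hn W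
      fun z hz hz2 => by
        rw [hsupp] at hz2 ⊢
        by_contra h
        exact hz ⟨hz2, h⟩
    have ho : IsOpen (δ.base ⁻¹' (I.support : Set X)) := by
      refine LVFrob.isOpen_preimage_of_contract (Fr ≫ c₁) c₂ i δ h1 h2 I W ?_ d hp
      rintro _ ⟨w, rfl⟩ h
      refine h.2 ?_
      have e1 : (Fr ≫ c₁) (i w) = δ w := by rw [← Scheme.Hom.comp_apply, h1]
      have e2 : c₂ (i w) = δ w := by rw [← Scheme.Hom.comp_apply, h2]
      exact e1.trans (e2.symm.trans h.1)
    obtain ⟨U, hU, hUy⟩ := isDiscrete_iff_forall_mem_exists_isOpen.mp (c₂.isDiscrete_preimage_singleton (δ y))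
      (i y) (show c₂ (i y) = δ y by rw [← Scheme.Hom.comp_apply, h2])
    have : ({y} : Set Fx) = δ.base ⁻¹' (I.support : Set X) ∩ i.base ⁻¹' U := by
      ext z
      refine ⟨?_, fun hz => ?_⟩
      · rintro rfl
        exact ⟨(hsupp _).mpr rfl, (hUy.ge (Set.mem_singleton _)).1⟩
      · refine i.isEmbedding.injective (hUy.le ⟨hz.2, ?_⟩)
        show c₂ (i z) = δ y
        rw [← Scheme.Hom.comp_apply, h2]
        exact (hsupp _).mp hz.1
    rw [this]
    exact ho.inter (hU.preimage i.continuous)
  haveI : DiscreteTopology Fx := by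
    refine discreteTopology_iff_isOpen_singleton.mpr fun y => hopen y ?_
    by_contra hy
    obtain ⟨z, hz, hz'⟩ := nonempty_inter_closedPoints (Z := (⋃ w ∈ closedPoints Fx, {w})ᶜ) ⟨y, fun h => by
      obtain ⟨w, hw, hyw⟩ := Set.mem_iUnion₂.mp h
      exact hy (Set.mem_singleton_iff.mp hyw ▸ hw)⟩
      (isOpen_biUnion hopen).isClosed_compl.isLocallyClosed
    exact hz (Set.mem_biUnion hz' rfl)
  exact ⟨finite_of_compact_of_discrete, inferInstance⟩

end Groth.Agent.S19879
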