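import Groth.Statements.S1988
import Mathlib

set_option linter.style.haveILetI false

set_option autoImplicit false
universe u
open EtAlg

open scoped TensorProduct

namespace Groth.Agent.S1988

/-- Two local extensions of the DVR `B` fit in a common valued field. -/
theorem exists_common {B C L M₀ M : Type u} [CommRing B] [IsDomain B] [IsDiscreteValuationRing B]
    [CommRing C] [IsDomain C] [IsLocalRing C] [Algebra B C] [IsLocalHom (algebraMap B C)]
    (hinj : Function.Injective (algebraMap B C)) [Field L] [Field M₀] [Field M] [Algebra L M₀] [Algebra L M]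
    [Algebra B L] [IsFractionRing B L] [Algebra C M₀] [IsFractionRing C M₀] [Algebra B M₀]
    [IsScalarTower B C M₀] [IsScalarTower B L M₀] (W : ValuationSubring M)
    (hW : EtRam.Dominates B ((algebraMap L M).comp (algebraMap B L)) W) :
    ∃ (M' : Type u) (_ : Field M') (j : M →+* M') (i : M₀ →+* M') (W' : ValuationSubring M'),
      j.comp (algebraMap L M) = i.comp (algebraMap L M₀) ∧
      EtRam.Dominates C (i.comp (algebraMap C M₀)) W' ∧ W'.comap j = W ∧
      Subfield.closure (Set.range i ∪ Set.range j) = ⊤ := by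
  set g : B →+* M := (algebraMap L M).comp (algebraMap B L) with hg
  letI : Algebra B W := (RingHom.codRestrict g W hW.1).toAlgebra
  have hBW : ∀ b : B, ((algebraMap B W b : W) : M) = algebraMap L M (algebraMap B L b) := fun b => rfl
  have hBWinj : Function.Injective (algebraMap B W) := fun a b h =>
    IsFractionRing.injective B L ((algebraMap L M).injective (congrArg Subtype.val h))
  haveI : IsLocalHom (algebraMap B W) := by
    refine ((IsLocalRing.local_hom_TFAE _).out 0 2).2 ?_
    rintro _ hx
    refine Ideal.map_le_iff_le_comap.2 (fun b hb => ?_) hx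
    exact (W.valuation_lt_one_iff _).2 (hW.2 b hb)
  haveI hflW : Module.Flat B W := Module.Flat.flat_iff_torsion_eq_bot_of_isBezout.2 (by
    refine eq_bot_iff.2 fun x hx => ?_
    obtain ⟨b, hb⟩ := hx
    replace hb : (b : B) • x = 0 := hb
    rw [Algebra.smul_def, mul_eq_zero] at hb
    exact hb.resolve_left (by rw [map_eq_zero_iff _ hBWinj]; exact nonZeroDivisors.ne_zero b.2))
  haveI hflC : Module.Flat B C := Module.Flat.flat_iff_torsion_eq_bot_of_isBezout.2 (by
    refine eq_bot_iff.2 fun x hx => ?_
    obtain ⟨b, hb⟩ := hx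
    replace hb : (b : B) • x = 0 := hb
    rw [Algebra.smul_def, mul_eq_zero] at hb
    exact hb.resolve_left (by rw [map_eq_zero_iff _ hinj]; exact nonZeroDivisors.ne_zero b.2))
  obtain ⟨F, _, _, p1, p2, hp, hp1, hp2⟩ : ∃ (F : Type u) (_ : CommRing F) (_ : IsDomain F) (p1 : C →+* F)
      (p2 : W →+* F), (∀ b : B, p2 (algebraMap B W b) = p1 (algebraMap B C b)) ∧
      (∀ c ∈ IsLocalRing.maximalIdeal C, p1 c = 0) ∧ ∀ w ∈ IsLocalRing.maximalIdeal W, p2 w = 0 := by
    haveI : Nontrivial (IsLocalRing.ResidueField C ⊗[IsLocalRing.ResidueField B] IsLocalRing.ResidueField W) :=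
      (Algebra.TensorProduct.includeLeft_injective (S := IsLocalRing.ResidueField B)
        (A := IsLocalRing.ResidueField C) (B := IsLocalRing.ResidueField W)
        (algebraMap (IsLocalRing.ResidueField B) (IsLocalRing.ResidueField W)).injective).nontrivial
    obtain ⟨N, hN⟩ := Ideal.exists_maximal
      (IsLocalRing.ResidueField C ⊗[IsLocalRing.ResidueField B] IsLocalRing.ResidueField W)
    refine ⟨_, inferInstance, Ideal.Quotient.isDomain N, (Ideal.Quotient.mk N).comp
      (Algebra.TensorProduct.includeLeftRingHom.comp (IsLocalRing.residue C)),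
      (Ideal.Quotient.mk N).comp ((Algebra.TensorProduct.includeRight (R := IsLocalRing.ResidueField B)
      (A := IsLocalRing.ResidueField C)).toRingHom.comp (IsLocalRing.residue W)), fun b => ?_, fun c hc => ?_, fun w hw => ?_⟩
    · simp only [RingHom.comp_apply, AlgHom.toRingHom_eq_coe, RingHom.coe_coe,
        ← IsLocalRing.ResidueField.algebraMap_residue, AlgHom.commutes]
      rw [Algebra.TensorProduct.algebraMap_apply]
      rfl
    · rw [RingHom.comp_apply, RingHom.comp_apply, (IsLocalRing.residue_eq_zero_iff c).2 hc, map_zero, map_zero]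
    · rw [RingHom.comp_apply, RingHom.comp_apply, (IsLocalRing.residue_eq_zero_iff w).2 hw, map_zero, map_zero]
  letI : Algebra B F := (p1.comp (algebraMap B C)).toAlgebra
  let ψ : C ⊗[B] W →ₐ[B] F := Algebra.TensorProduct.lift
    ⟨p1, fun b => rfl⟩ ⟨p2, fun b => hp b⟩ (fun _ _ => Commute.all _ _)
  have hψ : ∀ c w, ψ (c ⊗ₜ[B] w) = p1 c * p2 w := fun c w => Algebra.TensorProduct.lift_tmul _ _ _ c w
  set P : Ideal (C ⊗[B] W) := RingHom.ker ψ.toRingHom with hP
  haveI : P.IsPrime := RingHom.ker_isPrime _
  obtain ⟨Q, hQ, hQP⟩ := Ideal.exists_minimalPrimes_le (I := (⊥ : Ideal (C ⊗[B] W))) (J := P) bot_le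
  haveI : Q.IsPrime := hQ.1.1
  have hdisj := Ideal.disjoint_nonZeroDivisors_of_mem_minimalPrimes hQ
  have hC0 : ∀ c : C, c ⊗ₜ[B] (1 : W) ∈ Q → c = 0 := by
    intro c hc
    by_contra h0
    refine Set.disjoint_left.1 hdisj hc (mem_nonZeroDivisors_iff_right.2 fun z hz => ?_)
    have hinjm : Function.Injective (LinearMap.rTensor W (LinearMap.mulLeft B c)) :=
      Module.Flat.rTensor_preserves_injective_linearMap _ fun a b h => mul_left_cancel₀ h0 h
    have heq : LinearMap.rTensor W (LinearMap.mulLeft B c) = LinearMap.mulLeft B (c ⊗ₜ[B] (1 : W)) :=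
      TensorProduct.ext' fun a w => by simp
    refine hinjm ?_
    rw [map_zero, heq, LinearMap.mulLeft_apply, mul_comm, hz]
  have hW0 : ∀ w : W, (1 : C) ⊗ₜ[B] w ∈ Q → w = 0 := by
    intro w hw
    by_contra h0
    refine Set.disjoint_left.1 hdisj hw (mem_nonZeroDivisors_iff_right.2 fun z hz => ?_)
    have hinjm : Function.Injective (LinearMap.lTensor C (LinearMap.mulLeft B w)) :=
      Module.Flat.lTensor_preserves_injective_linearMap _ fun a b h => mul_left_cancel₀ h0 h
    have heq : LinearMap.lTensor C (LinearMap.mulLeft B w) = LinearMap.mulLeft B ((1 : C) ⊗ₜ[B] w) :=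
      TensorProduct.ext' fun a v => by simp
    refine hinjm ?_
    rw [map_zero, heq, LinearMap.mulLeft_apply, mul_comm, hz]
  let M' := FractionRing ((C ⊗[B] W) ⧸ Q)
  let q : C ⊗[B] W →+* M' := (algebraMap ((C ⊗[B] W) ⧸ Q) M').comp (Ideal.Quotient.mk Q)
  have hq : ∀ z, q z = 0 → z ∈ Q := fun z hz => Ideal.Quotient.eq_zero_iff_mem.1
    ((map_eq_zero_iff (algebraMap ((C ⊗[B] W) ⧸ Q) M') (IsFractionRing.injective ((C ⊗[B] W) ⧸ Q) M')).1 hz)
  let gC : C →+* M' := q.comp Algebra.TensorProduct.includeLeftRingHom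
  let gW : W →+* M' := q.comp (Algebra.TensorProduct.includeRight (R := B) (A := C) (B := W)).toRingHom
  have hgC : Function.Injective gC := (injective_iff_map_eq_zero gC).2 fun c hc => hC0 c (hq _ hc)
  have hgW : Function.Injective gW := (injective_iff_map_eq_zero gW).2 fun w hw => hW0 w (hq _ hw)
  let i : M₀ →+* M' := IsFractionRing.lift hgC
  let j : M →+* M' := IsFractionRing.lift (A := W) (K := M) hgW
  have hiC : ∀ c, i (algebraMap C M₀ c) = q (c ⊗ₜ[B] 1) := fun c => IsFractionRing.lift_algebraMap hgC c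
  have hjW : ∀ w : W, j (w : M) = q (1 ⊗ₜ[B] w) := fun w => IsFractionRing.lift_algebraMap (A := W) (K := M) hgW w
  obtain ⟨V, hAV, hPV⟩ := Ideal.image_subset_nonunits_valuationSubring (A := q.range)
    (P.map q.rangeRestrict) (by
      intro htop
      have h1 := Ideal.comap_map_of_surjective q.rangeRestrict q.rangeRestrict_surjective P
      rw [htop, Ideal.comap_top] at h1
      refine Ideal.IsPrime.ne_top (inferInstance : P.IsPrime) (top_le_iff.1 (h1.le.trans (sup_le le_rfl ?_)))
      exact fun z hz => hQP (hq z (congrArg Subtype.val hz)))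
  have hqV : ∀ z, q z ∈ V := fun z => hAV ⟨z, rfl⟩
  have hqP : ∀ z ∈ P, V.valuation (q z) < 1 := fun z hz =>
    (ValuationSubring.mem_nonunits_iff V).1 (hPV ⟨q.rangeRestrict z, Ideal.mem_map_of_mem _ hz, rfl⟩)
  refine ⟨M', inferInstance, j, i, V, ?_, ⟨fun c => ?_, fun c hc => ?_⟩, ?_, ?_⟩
  · refine IsLocalization.ringHom_ext (nonZeroDivisors B) (RingHom.ext fun b => ?_)
    simp only [RingHom.comp_apply]
    rw [← IsScalarTower.algebraMap_apply B L M₀, IsScalarTower.algebraMap_apply B C M₀, hiC, ← hBW, hjW]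
    exact congrArg q (((Algebra.TensorProduct.includeRight (R := B) (A := C) (B := W)).commutes b).trans
      (Algebra.TensorProduct.algebraMap_apply b))
  · rw [RingHom.comp_apply, hiC]
    exact hqV _
  · rw [RingHom.comp_apply, hiC]
    refine hqP _ ?_
    show ψ (c ⊗ₜ[B] 1) = 0
    rw [hψ, hp1 c hc, zero_mul]
  · ext x
    rw [ValuationSubring.mem_comap]
    refine ⟨fun hx => ?_, fun hx => by rw [show x = ((⟨x, hx⟩ : W) : M) from rfl, hjW]; exact hqV _⟩
    by_contra hxW
    have hx' : x⁻¹ ∈ W := (W.mem_or_inv_mem x).resolve_left hxW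
    have hm : (⟨x⁻¹, hx'⟩ : W) ∈ IsLocalRing.maximalIdeal W := fun hu => hxW (by
      obtain ⟨u, hu⟩ := hu
      have h1 := congrArg Subtype.val u.inv_mul
      rw [MulMemClass.coe_mul, hu] at h1
      have h2 : ((↑u⁻¹ : W) : M) = x := by
        have hx0 : x ≠ 0 := fun h => hxW (h ▸ W.zero_mem)
        field_simp at h1
        simpa using h1
      rw [← h2]
      exact SetLike.coe_mem _)
    have hlt : V.valuation (j x⁻¹) < 1 := by
      rw [show x⁻¹ = ((⟨x⁻¹, hx'⟩ : W) : M) from rfl, hjW]
      refine hqP _ ?_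
      show ψ (1 ⊗ₜ[B] _) = 0
      rw [hψ, hp2 _ hm, mul_zero]
    have hle : V.valuation (j x) ≤ 1 := (V.valuation_le_one_iff _).2 hx
    have hx0 : x ≠ 0 := fun h => hxW (h ▸ W.zero_mem)
    have := mul_lt_one_of_nonneg_of_lt_one_left zero_le' hlt hle
    rw [← map_mul, ← map_mul, inv_mul_cancel₀ hx0, map_one, map_one] at this
    exact lt_irrefl _ this
  · rw [eq_top_iff]
    rintro z -
    set S := Subfield.closure (Set.range i ∪ Set.range j)
    have hqS : ∀ y, q y ∈ S := by
      intro y
      induction y using TensorProduct.induction_on with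
      | zero => rw [map_zero]; exact S.zero_mem
      | tmul c w =>
        rw [show c ⊗ₜ[B] w = (c ⊗ₜ[B] (1 : W)) * ((1 : C) ⊗ₜ[B] w) by simp, map_mul, ← hiC, ← hjW]
        exact mul_mem (Subfield.subset_closure (Or.inl ⟨_, rfl⟩)) (Subfield.subset_closure (Or.inr ⟨_, rfl⟩))
      | add a b ha hb => rw [map_add]; exact add_mem ha hb
    obtain ⟨a, b, hb, rfl⟩ := IsFractionRing.div_surjective (A := (C ⊗[B] W) ⧸ Q) z
    obtain ⟨a, rfl⟩ := Ideal.Quotient.mk_surjective a
    obtain ⟨b, rfl⟩ := Ideal.Quotient.mk_surjective b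
    exact div_mem (hqS a) (hqS b)

theorem weak_descend {M M' K₁ : Type u} [Field M] [Field M'] [Field K₁] (j : M →+* M') (f : K₁ →+* M)
    (W' : ValuationSubring M') (W : ValuationSubring M) (hW : W'.comap j = W) :
    ((letI := (EtRam.inclOfComap W' (j.comp f)).toAlgebra
      EtRam.IsWeaklyUnramified (W'.comap (j.comp f)) W') →
     (letI := (EtRam.inclOfComap W f).toAlgebra
      EtRam.IsWeaklyUnramified (W.comap f) W)) ∧
    (@Algebra.IsGeometricallyReduced (IsLocalRing.ResidueField (W'.comap (j.comp f))) (IsLocalRing.ResidueField W') _ _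
        (IsLocalRing.ResidueField.map (EtRam.inclOfComap W' (j.comp f))).toAlgebra →
      @Algebra.IsGeometricallyReduced (IsLocalRing.ResidueField (W.comap f)) (IsLocalRing.ResidueField W) _ _
        (IsLocalRing.ResidueField.map (EtRam.inclOfComap W f)).toAlgebra) := by
  subst hW
  refine ⟨fun h => ?_, fun h => ?_⟩
  · letI := (EtRam.inclOfComap (W'.comap j) f).toAlgebra
    refine le_antisymm (((IsLocalRing.local_hom_TFAE _).out 0 2).1 (EtRam.isLocalHom_inclOfComap _ f)) fun x hx => ?_
    have hx' : EtRam.inclOfComap W' j x ∈ IsLocalRing.maximalIdeal W' :=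
      map_nonunit (EtRam.inclOfComap W' j) x hx
    rw [← h] at hx'
    have key : ∀ y ∈ (IsLocalRing.maximalIdeal (W'.comap (j.comp f))).map (EtRam.inclOfComap W' (j.comp f)),
        ∃ v ∈ IsLocalRing.maximalIdeal (W'.comap (j.comp f)),
          W'.valuation (y : M') ≤ W'.valuation (j (f (v : K₁))) := by
      intro y hy
      rw [Ideal.map] at hy
      induction hy using Submodule.span_induction with
      | mem z hz => obtain ⟨v, hv, rfl⟩ := hz; exact ⟨v, hv, le_rfl⟩
      | zero => exact ⟨0, zero_mem _, by simp⟩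
      | add y z _ _ ih₁ ih₂ =>
        obtain ⟨v, hv, h1⟩ := ih₁
        obtain ⟨w, hw, h2⟩ := ih₂
        have h3 := W'.valuation.map_add (y : M') (z : M')
        rcases le_total (W'.valuation (j (f (v : K₁)))) (W'.valuation (j (f (w : K₁)))) with hle | hle
        · exact ⟨w, hw, h3.trans (max_le (h1.trans hle) h2)⟩
        · exact ⟨v, hv, h3.trans (max_le h1 (h2.trans hle))⟩
      | smul r y _ ih =>
        obtain ⟨v, hv, h1⟩ := ih
        refine ⟨v, hv, le_trans ?_ h1⟩
        rw [smul_eq_mul, MulMemClass.coe_mul, map_mul]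
        exact mul_le_of_le_one_left' (W'.valuation_le_one r)
    obtain ⟨v, hv, hle⟩ := key _ hx'
    have hle' : W'.valuation (j (x : M)) ≤ W'.valuation (j (f (v : K₁))) := hle
    rcases eq_or_ne (f (v : K₁)) 0 with h0 | h0
    · rw [h0, map_zero, map_zero, le_zero_iff, map_eq_zero, map_eq_zero] at hle'
      rw [show x = 0 from Subtype.ext hle']
      exact zero_mem _
    · have hmem : (x : M) / f (v : K₁) ∈ W'.comap j := by
        rw [ValuationSubring.mem_comap, ← W'.valuation_le_one_iff, map_div₀, map_div₀]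
        exact div_le_one_of_le₀ hle' zero_le'
      have hx2 : x = ⟨_, hmem⟩ * EtRam.inclOfComap (W'.comap j) f v :=
        Subtype.ext (div_mul_cancel₀ _ h0).symm
      rw [hx2]
      exact Ideal.mul_mem_left _ _ (Ideal.mem_map_of_mem _ hv)
  · letI := (IsLocalRing.ResidueField.map (EtRam.inclOfComap (W'.comap j) f)).toAlgebra
    letI a2 : Algebra (IsLocalRing.ResidueField ((W'.comap j).comap f)) (IsLocalRing.ResidueField W') :=
      (IsLocalRing.ResidueField.map (EtRam.inclOfComap W' (j.comp f))).toAlgebra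
    haveI : Algebra.IsGeometricallyReduced (IsLocalRing.ResidueField ((W'.comap j).comap f)) (IsLocalRing.ResidueField W') := h
    let φ : IsLocalRing.ResidueField (W'.comap j) →ₐ[IsLocalRing.ResidueField ((W'.comap j).comap f)]
        IsLocalRing.ResidueField W' :=
      { IsLocalRing.ResidueField.map (EtRam.inclOfComap W' j) with
        commutes' := fun r => by
          obtain ⟨r, rfl⟩ := IsLocalRing.residue_surjective r
          rfl }
    exact Algebra.IsGeometricallyReduced.of_injective φ φ.toRingHom.injective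

/-- Let A -> B -> C be extensions of discrete valuation rings (local injective maps) with fraction
fields K ⊂ L ⊂ M₀ and K₁/K a finite extension. (The solution predicates mention only B, C and the
fields: in them the bottom ring is recovered as B ∩ K, which the hypotheses on A force to be A.) If
K₁ is a weak solution (resp. a solution) for A -> C then it is a weak solution (resp. a solution)
for A -> B. -/
theorem result (A B C K L M₀ K₁ : Type u) [CommRing A] [IsDomain A] [IsDiscreteValuationRing A]
    [CommRing B] [IsDomain B] [IsDiscreteValuationRing B] [Algebra A B] [IsLocalHom (algebraMap A B)]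
    (hinjA : Function.Injective (algebraMap A B))
    [CommRing C] [IsDomain C] [IsDiscreteValuationRing C] [Algebra B C] [IsLocalHom (algebraMap B C)]
    (hinj : Function.Injective (algebraMap B C))
    [Field K] [Field L] [Field M₀] [Field K₁] [Algebra K L] [Algebra K M₀] [Algebra L M₀] [IsScalarTower K L M₀]
    [Algebra K K₁] [FiniteDimensional K K₁] [Algebra A K] [IsFractionRing A K]
    [Algebra B L] [IsFractionRing B L] [Algebra A L] [IsScalarTower A K L] [IsScalarTower A B L]
    [Algebra C M₀] [IsFractionRing C M₀] [Algebra B M₀]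
    [IsScalarTower B C M₀] [IsScalarTower B L M₀] :
    (EtRam.IsWeakSolution C K M₀ K₁ → EtRam.IsWeakSolution B K L K₁) ∧
    (EtRam.IsSolution C K M₀ K₁ → EtRam.IsSolution B K L K₁) := by
  have main : ∀ (P : ∀ (M : Type u) [Field M], ValuationSubring M → (K₁ →+* M) → Prop),
      (∀ (M M' : Type u) [Field M] [Field M'] (j : M →+* M') (f : K₁ →+* M) (W : ValuationSubring M)
        (W' : ValuationSubring M'), W'.comap j = W → P M' W' (j.comp f) → P M W f) →
      EtRam.ForallLocalExt C K M₀ K₁ P → EtRam.ForallLocalExt B K L K₁ P := by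
    intro P hP hC M _ _ _ _ _ _ hgen W hW
    obtain ⟨M', _, j, i, W', hij, hdom, hWW', hclo⟩ := exists_common (M₀ := M₀) hinj W hW
    letI : Algebra M₀ M' := i.toAlgebra
    letI : Algebra K M' := (i.comp (algebraMap K M₀)).toAlgebra
    letI : Algebra K₁ M' := (j.comp (algebraMap K₁ M)).toAlgebra
    haveI : IsScalarTower K M₀ M' := IsScalarTower.of_algebraMap_eq fun _ => rfl
    haveI : IsScalarTower K K₁ M' := IsScalarTower.of_algebraMap_eq fun k => by
      show i (algebraMap K M₀ k) = j (algebraMap K₁ M (algebraMap K K₁ k))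
      rw [← IsScalarTower.algebraMap_apply K K₁ M, IsScalarTower.algebraMap_apply K L M₀,
        IsScalarTower.algebraMap_apply K L M]
      exact (RingHom.congr_fun hij _).symm
    refine hP M M' j _ W W' hWW' (hC M' ?_ W' hdom)
    set S := Algebra.adjoin M₀ (Set.range (algebraMap K₁ M'))
    have hint : Algebra.IsIntegral M₀ S := by
      refine Algebra.IsIntegral.adjoin ?_
      rintro _ ⟨x, rfl⟩
      exact ((Algebra.IsIntegral.isIntegral (R := K) x).map (IsScalarTower.toAlgHom K K₁ M')).tower_top
    have hinv : ∀ x ∈ S, x⁻¹ ∈ S := fun x hx =>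
      Subalgebra.inv_mem_of_algebraic S (x := ⟨x, hx⟩)
        ((Algebra.IsIntegral.isIntegral (R := M₀) (⟨x, hx⟩ : S)).map S.val).isAlgebraic
    let SF : Subfield M' := { S.toSubring with inv_mem' := hinv }
    have hsub : Subfield.closure (Set.range i ∪ Set.range j) ≤ SF := by
      refine Subfield.closure_le.2 (Set.union_subset ?_ ?_)
      · rintro _ ⟨x, rfl⟩
        exact S.algebraMap_mem x
      · rintro _ ⟨x, rfl⟩
        have hx : x ∈ Algebra.adjoin L (Set.range (algebraMap K₁ M)) := by rw [hgen]; trivial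
        show j x ∈ S
        induction hx using Algebra.adjoin_induction with
        | mem y hy => obtain ⟨y, rfl⟩ := hy; exact Algebra.subset_adjoin ⟨y, rfl⟩
        | algebraMap l =>
          rw [show j (algebraMap L M l) = i (algebraMap L M₀ l) from RingHom.congr_fun hij l]
          exact S.algebraMap_mem _
        | add a b _ _ ha hb => rw [map_add]; exact add_mem ha hb
        | mul a b _ _ ha hb => rw [map_mul]; exact mul_mem ha hb
    rw [hclo] at hsub
    exact eq_top_iff.2 fun z _ => hsub (Subfield.mem_top z)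
  refine ⟨main _ fun M M' _ _ j f W W' hW => ?_, main _ fun M M' _ _ j f W W' hW => ?_⟩
  · exact (weak_descend j f W' W hW).1
  · exact fun h => ⟨(weak_descend j f W' W hW).1 h.1, (weak_descend j f W' W hW).2 h.2⟩

end Groth.Agent.S1988
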