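import Groth.Statements.S19881
-- import your own Groth.Agent.* helpers here
import Groth.Agent.GrLCLib.StdGraded
import Groth.Agent.GrLCLib.RegLinear
import Groth.Agent.S13229

set_option autoImplicit false
universe u
open GrLC
open Groth.Agent

namespace Groth.Agent.S19881

/-- Let R = ⊕_{n ≥ 0} R_n be a (Noetherian) positively ℤ-graded ring which is standard graded
(irrelevant ideal generated by R_1), with R_0 Artinian, *local with unique homogeneous maximal ideal
m, Cohen–Macaulay of Krull dimension d, and with infinite residue field R/m. If the a-invariant of R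
equals −d, i.e. the end (largest nonzero degree) of the graded local cohomology module H^d_m(R),
computed from any *injective resolution of R in the graded category, is −d, then R is a polynomial
ring over R_0 in d variables of degree one: there is an R_0-algebra isomorphism R_0[T_1, …, T_d] ≅ R
mapping every variable into R_1. (The published statement asserts the equivalence of a(R) = −d with
R ≅ R_0[T_1, …, T_d] without the residue-field hypothesis; its argument treats the case of an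
infinite residue field, which is the case stated here, and only the forward implication is stated.) -/
theorem result (R : Type u) [CommRing R]
    [LocCoh.IsCohenMacaulayRing R] (𝒜 : ℤ → AddSubgroup R) [GradedRing 𝒜]
    (hpos : ∀ n : ℤ, n < 0 → 𝒜 n = ⊥)
    (hstd : Ideal.span (⋃ n ∈ Set.Ioi (0 : ℤ), (𝒜 n : Set R)) = Ideal.span ((𝒜 1 : AddSubgroup R) : Set R))
    [IsArtinianRing (GrLC.deg0 𝒜)] (m : HomogeneousIdeal 𝒜) (hm : GrLC.IsStarLocal 𝒜 m)
    (hinf : Infinite (R ⧸ m.toIdeal)) (d : ℕ) (hd : ringKrullDim R = d) (I : GrLC.StarInjRes 𝒜 𝒜)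
    (ha : GrLC.endDeg (I.Hgr m d) = (((-(d : ℤ) : ℤ) : WithTop ℤ) : WithBot (WithTop ℤ))) :
    ∃ e : MvPolynomial (Fin d) (GrLC.deg0 𝒜) ≃ₐ[GrLC.deg0 𝒜] R, ∀ t : Fin d, e (MvPolynomial.X t) ∈ 𝒜 1 := by
  have hd' : m.toIdeal.height = (d : ℕ∞) :=
    WithBot.coe_inj.1 ((GrLCLib.ringKrullDim_eq_height hpos hm).symm.trans hd)
  have hgam := fun (Q : Type u) (_ : AddCommGroup Q) (_ : Module R Q) => GrLCLib.gam_irr_eq hpos hm Q
  have hg : ∀ (i : ℕ) (e : ℤ), GrLCLib.Van I (GrLCLib.irr 𝒜) i e ↔ GrLCLib.Van I m i e :=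
    fun i e => GrLCLib.van_iff_of_gam_eq I hgam i e
  have hlow : ∀ (E : GrLC.StarInjRes 𝒜 𝒜), ∀ i < d, ∀ e, GrLCLib.Van E (GrLCLib.irr 𝒜) i e := fun E i hi e =>
    (GrLCLib.van_iff_of_gam_eq E hgam i e).2 (GrLCLib.van_of_subsingleton E m (GrLCLib.subsingleton_H_of_lt_height
      (I := m.toIdeal) (GrLCLib.isStarLocal_ne_top hm) (by rw [hd']; exact_mod_cast hi)) e)
  haveI : Module.Finite R (GrLC.GMod.of 𝒜 R 𝒜).carrier := inferInstanceAs (Module.Finite R R)
  obtain ⟨x, hx, hreg, hdim⟩ := GrLCLib.exists_linear_regular hpos hm hinf (GrLCLib.irr 𝒜) hstd d (GrLC.GMod.of 𝒜 R 𝒜) hlow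
  have hK : GrLCLib.Homog 𝒜 (Ideal.span (Set.range x)) := fun y hy g =>
    (Ideal.homogeneous_span 𝒜 (Set.range x) (by rintro _ ⟨j, rfl⟩; exact ⟨1, hx j⟩)) g hy
  let Q := GrLCLib.quotObj 𝒜 𝒜 (Ideal.span (Set.range x)) hK
  haveI : Module.Finite R Q.carrier := inferInstanceAs (Module.Finite R (R ⧸ Ideal.span (Set.range x)))
  obtain ⟨EQ⟩ := GrLCLib.nonempty_starInjRes 𝒜 Q.gr
  have hxa : ∀ j, x j ∈ (GrLCLib.irr 𝒜).toIdeal := fun j => Ideal.subset_span (Set.mem_iUnion₂.2 ⟨1, Set.mem_Ioi.2 one_pos, hx j⟩)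
  let π : (GrLC.GMod.of 𝒜 R 𝒜).carrier →ₗ[R] Q.carrier := (Ideal.span (Set.range x)).mkQ
  have hker : LinearMap.ker (Ideal.span (Set.range x)).mkQ = Ideal.span (Set.range x) • (⊤ : Submodule R R) :=
    (Submodule.ker_mkQ _).trans (Ideal.mul_top _).symm
  have hq := GrLCLib.endDeg_quot_seq (GrLCLib.irr 𝒜) EQ d (GrLC.GMod.of 𝒜 R 𝒜) I 0
    (fun i hi e => hlow I i (by omega) e) x (fun _ => 1) hx (fun _ => Or.inl zero_le_one) hxa hreg π
    (GrLCLib.mkQ_grHom 𝒜 _) (Submodule.mkQ_surjective (Ideal.span (Set.range x))) hker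
  have hI0 : GrLC.endDeg (I.Hgr (GrLCLib.irr 𝒜) d) ≤ (((-(d : ℤ) : ℤ) : WithTop ℤ) : WithBot (WithTop ℤ)) :=
    (GrLCLib.endDeg_le_iff I _ d _).2 fun e he => (hg d e).2 ((GrLCLib.endDeg_le_iff I m d _).1 ha.le e he)
  have hQ0 : GrLC.endDeg (EQ.Hgr (GrLCLib.irr 𝒜) 0) ≤ (((0 : ℤ) : WithTop ℤ) : WithBot (WithTop ℤ)) := by
    rw [hq, zero_add, Fin.sum_const, nsmul_one]
    refine (add_le_add_left hI0 _).trans (le_of_eq ?_)
    rw [← WithBot.coe_add, ← WithTop.coe_add, neg_add_cancel]
  have hdimQ : Module.supportDim R Q.carrier < ((1 : ℕ) : WithBot ℕ∞) := by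
    have e : Module.supportDim R (R ⧸ (Ideal.span (Set.range x) • (⊤ : Submodule R R))) = Module.supportDim R Q.carrier :=
      Module.supportDim_eq_of_equiv (Submodule.quotEquivOfEq _ _ (Ideal.mul_top _))
    have h1 : Module.supportDim R Q.carrier + (d : WithBot ℕ∞) ≤ (d : ℕ) := by
      rw [← e]
      exact hdim.trans (le_of_eq ((Module.supportDim_self_eq_ringKrullDim (R := R)).trans hd))
    generalize Module.supportDim R Q.carrier = D at h1 ⊢
    induction D with
    | bot => exact WithBot.bot_lt_coe _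
    | coe D =>
      induction D with
      | top =>
        rw [show ((d : ℕ) : WithBot ℕ∞) = (((d : ℕ) : ℕ∞) : WithBot ℕ∞) from rfl, ← WithBot.coe_add, WithBot.coe_le_coe, top_add] at h1
        exact absurd h1 (not_le.2 (ENat.natCast_lt_top d))
      | coe D =>
        have : D + d ≤ d := by exact_mod_cast h1
        exact_mod_cast (show D < 1 by omega)
  have hH : ∀ i : ℕ, 1 ≤ i → Subsingleton (LocCoh.H (GrLCLib.irr 𝒜).toIdeal i Q.carrier) := fun i hi =>
    LocH.subsingleton_of_supportDim_lt _ i Q.carrier (hdimQ.trans_le (by exact_mod_cast hi))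
  obtain ⟨n₀, hn₀⟩ := (Groth.Agent.S13229.result R 𝒜 hpos (GrLCLib.irr 𝒜) rfl hstd Q.carrier Q.gr).1 hH
  have htor : ∀ (t : ℕ) (g : ℤ) (y : Q.carrier), y ∈ Q.gr g → n₀ ≤ g + t → ∀ r ∈ (GrLCLib.irr 𝒜).toIdeal ^ t, r • y = 0 := by
    intro t
    induction t with
    | zero => intro g y hy hg r _; rw [show y = 0 from (hn₀ g (by omega)).le hy, smul_zero]
    | succ t ih =>
      intro g y hy hg r hr
      rw [pow_succ] at hr
      refine Submodule.mul_induction_on hr (fun p hp w hw => ?_) (fun p w hp hw => by rw [add_smul, hp, hw, add_zero])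
      rw [GrLCLib.irr_toIdeal, hstd] at hw
      induction hw using Submodule.span_induction generalizing p with
      | mem z hz =>
        rw [mul_smul]
        exact ih (1 + g) _ (SetLike.GradedSMul.smul_mem hz hy) (by omega) p hp
      | zero => rw [mul_zero, zero_smul]
      | add u v _ _ hu hv => rw [mul_add, add_smul, hu p hp, hv p hp, add_zero]
      | smul c u _ hu => rw [smul_eq_mul, ← mul_assoc]; exact hu _ (Ideal.mul_mem_right c _ hp)
  have hgen : (GrLCLib.irr 𝒜).toIdeal = Ideal.span (Set.range x) := by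
    refine le_antisymm (Ideal.span_le.2 fun r hr => ?_) (Ideal.span_le.2 (by rintro _ ⟨j, rfl⟩; exact hxa j))
    obtain ⟨e, he, hr⟩ := Set.mem_iUnion₂.1 hr
    have hy : (Ideal.span (Set.range x)).mkQ r ∈ Q.gr e := ⟨r, hr, rfl⟩
    have h0 := (GrLCLib.van_zero_iff EQ _ e).1 ((GrLCLib.endDeg_le_iff EQ _ 0 0).1 hQ0 e he) _ hy
      ⟨(n₀ - e).toNat, fun a ha => htor _ e _ hy (by omega) a ha⟩
    exact (Submodule.Quotient.mk_eq_zero _).1 h0
  have hind : ∀ c : Fin d → GrLC.deg0 𝒜, ∑ b, (c b : R) * x b = 0 → ∀ b, c b = 0 := by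
    intro c hc
    suffices key : ∀ k : ℕ, ∀ b : Fin d, d - k ≤ (b : ℕ) → c b = 0 from fun b => key d b (by omega)
    intro k
    induction k with
    | zero => intro b hb; exact absurd b.2 (by omega)
    | succ k ih =>
      intro b hb
      by_cases hbk : d - k ≤ (b : ℕ)
      · exact ih b hbk
      let J : Ideal R := Ideal.ofList ((List.ofFn x).take b)
      have hJ : ∀ b' : Fin d, b' < b → x b' ∈ J := fun b' hb' => Ideal.subset_span (by
        show x b' ∈ (List.ofFn x).take b
        rw [List.mem_take_iff_getElem]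
        exact ⟨b', by simp; omega, by simp⟩)
      have h1 : (c b : R) * x b ∈ J := by
        rw [eq_neg_of_add_eq_zero_left ((Finset.add_sum_erase Finset.univ (fun b => (c b : R) * x b) (Finset.mem_univ b)).trans hc)]
        refine J.neg_mem (J.sum_mem fun b' hb' => ?_)
        rcases lt_or_gt_of_ne (Finset.ne_of_mem_erase hb') with h | h
        · exact J.mul_mem_left _ (hJ b' h)
        · rw [ih b' (by have : (b : ℕ) < b' := h; omega), ZeroMemClass.coe_zero, zero_mul]
          exact J.zero_mem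
      have h2 := hreg.regular_mod_prev b (by simp)
      rw [isSMulRegular_iff_right_eq_zero_of_smul] at h2
      have h3 : (c b : R) ∈ J := by
        have h4 := h2 (Submodule.Quotient.mk (c b : R)) ?_
        · exact (show J ≤ J from le_rfl) ((Ideal.mul_top J) ▸ ((Submodule.Quotient.mk_eq_zero (J • (⊤ : Submodule R R))).1 h4))
        · refine (Submodule.Quotient.mk_smul _ _ _).symm.trans ((Submodule.Quotient.mk_eq_zero (J • (⊤ : Submodule R R))).2 ?_)
          show _ ∈ J * ⊤
          rw [Ideal.mul_top]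
          show (List.ofFn x)[(b : ℕ)]'(by simp) * (c b : R) ∈ J
          rw [mul_comm]
          simpa using h1
      have hJle : J ≤ (GrLCLib.irr 𝒜).toIdeal := Ideal.span_le.2 fun r hr => by
        obtain ⟨b', rfl⟩ := List.mem_ofFn.1 (List.mem_of_mem_take hr)
        exact hxa b'
      exact Subtype.ext ((GrLCLib.pr_of_mem 𝒜 (show (c b : R) ∈ 𝒜 0 from (c b).2)).symm.trans
        (GrLCLib.mem_span_pos_pr_zero hpos (hJle h3)))
  have hvan : ∀ (i : ℕ) (e : ℤ), 0 < e + i → GrLCLib.Van I (GrLCLib.irr 𝒜) i e := fun i e he => by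
    rcases lt_trichotomy i d with hi | rfl | hi
    · exact hlow I i hi e
    · exact (GrLCLib.endDeg_le_iff I _ _ _).1 hI0 e (by omega)
    · exact (hg i e).2 (GrLCLib.van_of_subsingleton I m (GrLCLib.subsingleton_H_of_dim_lt hd _ hi R) e)
  refine ⟨AlgEquiv.ofBijective (MvPolynomial.aeval x) ⟨GrLCLib.pres_injective hx hpos hgen I hvan hind,
    GrLCLib.pres_surjective hx hpos hgen⟩, fun t => ?_⟩
  show MvPolynomial.aeval x (MvPolynomial.X t) ∈ 𝒜 1
  rw [MvPolynomial.aeval_X]
  exact hx t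

end Groth.Agent.S19881
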