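import Groth.Statements.S19882
import Groth.Agent.GabAcyc.HensLim
import Groth.Agent.EtAssocLib.AffAcyc
import Groth.Agent.S9436
-- import your own Groth.Agent.* helpers here

set_option autoImplicit false
set_option backward.isDefEq.respectTransparency false
set_option backward.isDefEq.respectTransparency.types false
set_option linter.auxLemma false
attribute [local instance 100000] EtCoh.H._proof_1 Groth.Agent.EtMV.hext
attribute [local instance 200000] Groth.Agent.EtMV.hextAb
open TensorProduct
set_option backward.isDefEq.respectTransparency false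
set_option backward.isDefEq.respectTransparency.types false
open CategoryTheory CategoryTheory.Limits AlgebraicGeometry Opposite
universe u
open EtZar

namespace Groth.Agent.S19882

/-- Let (A, I) be a Henselian pair with A of prime characteristic p, let F be a quasi-coherent module on
X = Spec A with associated abelian sheaf G on the small étale site of X, and let i : Y = Spec(A/I) →
X be the closed immersion. Then the Zariski cohomology groups H^j(Y, (i⁻¹G)|_{Y_Zar}) of the
restriction to the opens of Y of the étale inverse image of G vanish for all j ≥ 1. (The source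
states the vanishing of H^j(Z, F^h) for the Henselian scheme Z = Sph(A, I), whose underlying space
is that of Y, and identifies F^h with (i⁻¹G)|_{Y_Zar}; this row states the vanishing for the latter
sheaf. Continuity of the opens-to-étale-schemes functor is carried as an instance binder.) -/
theorem result (A : Type u) [CommRing A]
    (I : Ideal A) [HenselianRing A I] (p : ℕ) [Fact p.Prime] [CharP A p]
    (F : (Spec (CommRingCat.of A)).Modules) [F.IsQuasicoherent] (G : EtCoh.Ab (Spec (CommRingCat.of A)))
    (hG : EtAssoc.IsAssoc F G) [EtZar.ZarCont (Spec (CommRingCat.of (A ⧸ I)))]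
    (j : ℕ) (hj : 1 ≤ j) :
    Subsingleton (EtZar.H ((EtZar.resZar (Spec (CommRingCat.of (A ⧸ I)))).obj
      ((EtCoh.pull (Spec.map (CommRingCat.ofHom (Ideal.Quotient.mk I)))).obj G)) j) := by
  let X := Spec (CommRingCat.of A)
  let i := Spec.map (CommRingCat.ofHom (Ideal.Quotient.mk I))
  haveI : IsClosedImmersion i := IsClosedImmersion.spec_of_surjective _ Ideal.Quotient.mk_surjective
  have hT : EtCoh.IsTorsion G := by
    obtain ⟨e, -⟩ := id hG
    intro U s x
    refine ⟨U, 𝟙 U, ⟨x, rfl⟩, isOfFinAddOrder_iff_nsmul_eq_zero.2 ⟨p, (Fact.out : p.Prime).pos, ?_⟩⟩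
    apply (e U).injective
    rw [map_nsmul, map_zero]
    refine ULift.ext _ _ ?_
    rw [ULift.smul_down, ULift.zero_down]
    have hp : ((p : ℕ) : Γ(U.left, ⊤)) = 0 := by
      rw [← map_natCast (((Scheme.ΓSpecIso (CommRingCat.of A)).inv ≫ U.hom.appTop).hom),
        CharP.cast_eq_zero A p, map_zero]
    show p • (show Γ((Scheme.Modules.pullback U.hom).obj F, ⊤) from (e U _).down) = 0
    rw [← Nat.cast_smul_eq_nsmul Γ(U.left, ⊤), hp, zero_smul]
  refine EtMV.subsingleton_HZar (G := (EtCoh.pull i).obj G) (fun T hT' k hk => ?_) j hj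
  haveI := hT'
  obtain ⟨φ, hφ⟩ := Spec.map_surjective (T.left.isoSpec.inv ≫ T.hom)
  letI : Algebra (A ⧸ I) Γ(T.left, ⊤) := φ.hom.toAlgebra
  haveI : Algebra.Etale (A ⧸ I) Γ(T.left, ⊤) := by
    haveI : Etale T.hom := T.prop
    haveI : Etale (Spec.map φ) := by rw [hφ]; infer_instance
    exact RingHom.etale_algebraMap.1 ((HasRingHomProperty.Spec_iff (P := @Etale)).1 ‹_›)
  obtain ⟨S, _, _, hS, ⟨Φ⟩⟩ := Groth.Agent.S9436.result A I Γ(T.left, ⊤)
  haveI := hS
  let q : S →+* Γ(T.left, ⊤) := Φ.toRingHom.comp (Algebra.TensorProduct.includeRight : S →ₐ[A] (A ⧸ I) ⊗[A] S).toRingHom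
  have hq : Function.Surjective q := Φ.surjective.comp (by
    intro z
    induction z using TensorProduct.induction_on with
    | zero => exact ⟨0, map_zero _⟩
    | tmul a b =>
      obtain ⟨a, rfl⟩ := Ideal.Quotient.mk_surjective a
      exact ⟨a • b, by
        show (1 : A ⧸ I) ⊗ₜ[A] (a • b) = _
        rw [← TensorProduct.smul_tmul, Algebra.smul_def, mul_one]; rfl⟩
    | add a b ha hb =>
      obtain ⟨a', ha⟩ := ha
      obtain ⟨b', hb⟩ := hb
      exact ⟨a' + b', by rw [map_add, ha, hb]⟩)
  let iT : T.left ⟶ Spec (CommRingCat.of S) := T.left.isoSpec.hom ≫ Spec.map (CommRingCat.ofHom q)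
  haveI : IsClosedImmersion (Spec.map (CommRingCat.ofHom q)) := IsClosedImmersion.spec_of_surjective _ hq
  haveI : IsClosedImmersion iT := inferInstanceAs (IsClosedImmersion (_ ≫ _))
  let s := Spec.map (CommRingCat.ofHom (algebraMap A S))
  have et : ∀ (R E : Type u) [CommRing R] [CommRing E] [Algebra R E] [Algebra.Etale R E],
      Etale (Spec.map (CommRingCat.ofHom (algebraMap R E))) := fun R E _ _ _ _ =>
    (HasRingHomProperty.Spec_iff (P := @Etale)).2 (RingHom.etale_algebraMap.2 inferInstance)
  haveI : Etale s := et A S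
  have w : iT ≫ s = T.hom ≫ i := by
    rw [show T.hom = T.left.isoSpec.hom ≫ Spec.map φ by rw [hφ, Iso.hom_inv_id_assoc], Category.assoc,
      Category.assoc, ← Spec.map_comp, ← Spec.map_comp]
    refine congrArg (fun f => T.left.isoSpec.hom ≫ Spec.map f) ?_
    ext a
    show Φ ((1 : A ⧸ I) ⊗ₜ[A] algebraMap A S a) = algebraMap (A ⧸ I) Γ(T.left, ⊤) (Ideal.Quotient.mk I a)
    rw [← Φ.commutes, Algebra.TensorProduct.algebraMap_apply, Algebra.algebraMap_self, RingHom.id_apply,
      Algebra.algebraMap_eq_smul_one, ← TensorProduct.smul_tmul, Algebra.smul_def, mul_one]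
    rfl
  refine (GabAcyc.subsingleton_H_pull_pull_iff T.hom i _ rfl G k).2 ?_
  refine (GabAcyc.subsingleton_H_pull_pull_iff iT s _ w G k).1 ?_
  refine GabAcyc.subsingleton_H_closed iT _ (GabAcyc.isTorsion_pull s hT) k fun E _ _ _ => ?_
  haveI := et S E
  exact (GabAcyc.subsingleton_H_pull_pull_iff _ s _ rfl G k).2
    (EtAssocLib.subsingleton_H_isAssoc_affine F hG _ k hk)

end Groth.Agent.S19882

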