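import Groth.Statements.S19890
import Mathlib.RingTheory.Flat.EquationalCriterion
import Mathlib.RingTheory.Flat.FaithfullyFlat.Algebra
import Mathlib.RingTheory.UniqueFactorizationDomain.Basic
import Mathlib.RingTheory.LocalRing.MaximalIdeal.Basic

set_option autoImplicit false
universe u
open CAlg

namespace Groth.Agent.S19890

theorem principal_of_map {R R' : Type u} [CommRing R] [CommRing R'] [IsDomain R'] [IsLocalRing R']
    [Algebra R R'] [Module.FaithfullyFlat R R'] (J : Ideal R) (x : R') (hx : x ≠ 0)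
    (hJ : J.map (algebraMap R R') = Ideal.span {x}) : ∃ c, J = Ideal.span {c} := by
  obtain ⟨j, hj, hu⟩ : ∃ j ∈ J, ∃ s : R', IsUnit s ∧ algebraMap R R' j = s * x := by
    by_contra hcon
    push_neg at hcon
    have h1 : J.map (algebraMap R R') ≤ IsLocalRing.maximalIdeal R' * Ideal.span {x} := by
      refine Ideal.map_le_iff_le_comap.2 fun j hj => ?_
      have h2 : algebraMap R R' j ∈ Ideal.span {x} := hJ ▸ Ideal.mem_map_of_mem _ hj
      obtain ⟨s, hs⟩ := Ideal.mem_span_singleton'.1 h2
      rw [Ideal.mem_comap, ← hs]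
      exact Ideal.mul_mem_mul ((IsLocalRing.mem_maximalIdeal s).2 fun hsu => hcon j hj s hsu hs.symm)
        (Ideal.mem_span_singleton_self x)
    have h3 := h1 (hJ ▸ Ideal.mem_span_singleton_self x)
    obtain ⟨m, hm, hmx⟩ := Ideal.mem_mul_span_singleton.1 h3
    have h4 : (m - 1) * x = 0 := by rw [sub_mul, hmx, one_mul, sub_self]
    have h5 : m = 1 := sub_eq_zero.1 ((mul_eq_zero.1 h4).resolve_right hx)
    exact (IsLocalRing.mem_maximalIdeal m).1 hm (h5 ▸ isUnit_one)
  obtain ⟨s, hs, hjx⟩ := hu
  refine ⟨j, le_antisymm ?_ ((Ideal.span_singleton_le_iff_mem _).2 hj)⟩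
  rw [← Ideal.comap_map_eq_self_of_faithfullyFlat (B := R') (Ideal.span {j}),
    ← Ideal.map_le_iff_le_comap, hJ, Ideal.map_span, Set.image_singleton, hjx,
    Ideal.span_singleton_mul_left_unit hs]

/-- Let R → R' be a faithfully flat ring map between Noetherian integrally closed local domains. Then
unique factorization descends along this map: when R' is a UFD, so is R. (The first assertion of the
lemma, descent of principality for an ideal whose extension to R' is principal, is a separate
statement.) -/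
theorem result
    (R R' : Type u) [CommRing R] [CommRing R'] [IsDomain R] [IsDomain R']
    [IsNoetherianRing R] [IsNoetherianRing R'] [IsLocalRing R] [IsLocalRing R']
    [IsIntegrallyClosed R] [IsIntegrallyClosed R']
    [Algebra R R'] [Module.FaithfullyFlat R R'] [UniqueFactorizationMonoid R'] :
    UniqueFactorizationMonoid R := by
  refine { irreducible_iff_prime := fun {p} => ⟨fun hp => ?_, Prime.irreducible⟩ }
  refine ⟨hp.ne_zero, hp.not_isUnit, fun a b hab => ?_⟩
  rw [or_iff_not_imp_left]
  intro hpa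
  let J : Ideal R := Submodule.comap (LinearMap.mulRight R a) (Ideal.span {p} : Ideal R)
  have hJmem : ∀ r, r ∈ J ↔ p ∣ r * a := fun r => Ideal.mem_span_singleton
  have hinj := FaithfulSMul.algebraMap_injective R R'
  have hp0 : algebraMap R R' p ≠ 0 := fun h => hp.ne_zero (hinj (h.trans (map_zero _).symm))
  obtain ⟨a', p', c, hrel, hca, hcp⟩ :=
    UniqueFactorizationMonoid.exists_reduced_factors' (algebraMap R R' a) (algebraMap R R' p) hp0
  have hc0 : c ≠ 0 := by rintro rfl; rw [zero_mul] at hcp; exact hp0 hcp.symm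
  have hp'0 : p' ≠ 0 := by rintro rfl; rw [mul_zero] at hcp; exact hp0 hcp.symm
  have hmap : J.map (algebraMap R R') = Ideal.span {p'} := by
    refine le_antisymm (Ideal.map_le_iff_le_comap.2 fun r hr => ?_)
      ((Ideal.span_singleton_le_iff_mem _).2 ?_)
    · obtain ⟨t, ht⟩ := (hJmem r).1 hr
      have h1 : p' ∣ algebraMap R R' r * a' := by
        refine ⟨algebraMap R R' t, mul_left_cancel₀ hc0 ?_⟩
        rw [← mul_left_comm, hca, ← mul_assoc, hcp, ← map_mul, ← map_mul, ht]
      exact Ideal.mem_comap.2 (Ideal.mem_span_singleton.2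
        (hrel.symm.dvd_of_dvd_mul_right h1))
    · have hsum : ∑ i : Fin 2, (![a, p] i) • (![p', -a'] i) = 0 := by
        simp [Fin.sum_univ_two, Algebra.smul_def, ← hca, ← hcp]
        ring
      obtain ⟨k, u, y, hxy, hu⟩ := Module.Flat.isTrivialRelation_of_sum_smul_eq_zero hsum
      have h0 := hxy 0
      simp only [Matrix.cons_val_zero] at h0
      rw [h0]
      refine Submodule.sum_mem _ fun j _ => ?_
      rw [Algebra.smul_def]
      refine Ideal.mul_mem_right _ _ (Ideal.mem_map_of_mem _ ((hJmem _).2 ⟨-u 1 j, ?_⟩))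
      have h2 := hu j
      simp only [Fin.sum_univ_two, Matrix.cons_val_zero, Matrix.cons_val_one] at h2
      linear_combination h2
  obtain ⟨d, hd⟩ := principal_of_map J p' hp'0 hmap
  have hpJ : p ∈ J := (hJmem p).2 (dvd_mul_right p a)
  rw [hd, Ideal.mem_span_singleton] at hpJ
  have hbJ : b ∈ J := (hJmem b).2 (by rwa [mul_comm])
  rw [hd, Ideal.mem_span_singleton] at hbJ
  obtain ⟨e, he⟩ := hpJ
  rcases hp.isUnit_or_isUnit he with hu | hu
  · refine absurd ?_ hpa
    have h1 : (1 : R) ∈ J := by rw [hd, Ideal.mem_span_singleton]; exact isUnit_iff_dvd_one.1 hu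
    simpa using (hJmem 1).1 h1
  · rw [he]; exact hu.mul_right_dvd.2 hbJ

end Groth.Agent.S19890
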