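import Groth.Statements.S19891
import Groth.Agent.ValComp.Basic

set_option linter.style.haveILetI false
set_option backward.isDefEq.respectTransparency false

set_option autoImplicit false
universe u
open CategoryTheory AlgebraicGeometry
open ValCrit

namespace Groth.Agent.S19891

/-- Let h : Z → Y and f : Y → X be morphisms of quasi-compact quasi-separated schemes, with h dominant.
Then f is separated if and only if the following refined uniqueness criterion holds: for every point
z of Z, every valuation ring R of the residue field κ(z) and every morphism φ : Spec R → X whose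
restriction to Spec κ(z) is the canonical morphism Spec κ(z) → Z → Y → X, any two morphisms Spec R →
Y lying over φ and restricting to Spec κ(z) → Z → Y on the generic point coincide. (The published
statement does not require h to be dominant; its proof uses that every point of Y generalises to a
point of h(Z), and for Z empty the criterion holds whatever f is, so dominance of h is assumed
here.) -/
theorem result {X Y Z : Scheme.{u}} (h : Z ⟶ Y) (f : Y ⟶ X)
    [CompactSpace ↥Z] [QuasiSeparatedSpace ↥Z] [CompactSpace ↥Y] [QuasiSeparatedSpace ↥Y]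
    [CompactSpace ↥X] [QuasiSeparatedSpace ↥X] (hd : DenseRange h.base) :
    IsSeparated f ↔
      ∀ (z : ↥Z) (R : ValuationSubring ↑(Z.residueField z)) (φ : Spec (CommRingCat.of ↥R) ⟶ X),
        Spec.map (CommRingCat.ofHom R.subtype) ≫ φ = Z.fromSpecResidueField z ≫ h ≫ f →
        ∀ φ₁ φ₂ : Spec (CommRingCat.of ↥R) ⟶ Y,
          Spec.map (CommRingCat.ofHom R.subtype) ≫ φ₁ = Z.fromSpecResidueField z ≫ h → φ₁ ≫ f = φ →
          Spec.map (CommRingCat.ofHom R.subtype) ≫ φ₂ = Z.fromSpecResidueField z ≫ h → φ₂ ≫ f = φ →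
          φ₁ = φ₂ := by
  constructor
  · intro hs z R φ _ φ₁ φ₂ h₁ h₁' h₂ h₂'
    let S : ValuativeCommSq f := ⟨R, Z.residueField z, Z.fromSpecResidueField z ≫ h, φ,
      ⟨by rw [← h₁, Category.assoc, h₁']; rfl⟩⟩
    exact congrArg CommSq.LiftStruct.l
      ((IsSeparated.valuativeCriterion f S).elim ⟨φ₁, h₁, h₁'⟩ ⟨φ₂, h₂, h₂'⟩)
  · intro H
    haveI : QuasiSeparated f := inferInstance
    haveI : QuasiCompact h := inferInstance
    refine IsSeparated.of_valuativeCriterion f ?_
    rintro ⟨R, K, i₁, i₂, w⟩
    refine ⟨fun a b => ?_⟩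
    obtain ⟨l₁, ha, ha'⟩ := a
    obtain ⟨l₂, hb, hb'⟩ := b
    congr 1
    dsimp only at ha ha' hb hb'
    let VK : ValuationSubring K :=
      ⟨(algebraMap R K).range, ValuationRing.isInteger_or_isInteger R⟩
    let ψ : R ≃+* VK := RingEquiv.ofBijective (algebraMap R K).rangeRestrict
      ⟨fun a b e => IsFractionRing.injective R K (congrArg Subtype.val e),
        (algebraMap R K).rangeRestrict_surjective⟩
    have : IsIso (CommRingCat.ofHom ψ.toRingHom) := ψ.toCommRingCatIso.isIso_hom
    rw [← cancel_epi (Spec.map (CommRingCat.ofHom ψ.toRingHom))]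
    have hsub : CommRingCat.ofHom ψ.toRingHom ≫ CommRingCat.ofHom VK.subtype =
        CommRingCat.ofHom (algebraMap R K) := rfl
    refine Groth.Agent.ValComp.uniq_valuationSubring h f hd
      (fun z R' φ₁ φ₂ e₁ e₂ e => H z R' (φ₁ ≫ f) (by rw [reassoc_of% e₁])
        φ₁ φ₂ e₁ rfl e₂ e.symm) VK _ _ ?_ ?_
    · rw [← Spec.map_comp_assoc, ← Spec.map_comp_assoc, hsub, ha, hb]
    · rw [Category.assoc, Category.assoc, ha', hb']

end Groth.Agent.S19891
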