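import Groth.Statements.S19892
import Groth.Agent.ValComp.Exist

set_option linter.style.haveILetI false
set_option backward.isDefEq.respectTransparency false

set_option autoImplicit false
universe u
open CategoryTheory AlgebraicGeometry
open ValCrit

namespace Groth.Agent.S19892

/-- Let h : Z → Y and f : Y → X be morphisms of quasi-compact quasi-separated schemes, with h dominant
and f locally of finite type. Then f is proper if and only if the following refined valuative
criterion holds: for every point z of Z, every valuation ring R of the residue field κ(z) and every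
morphism φ : Spec R → X whose restriction to Spec κ(z) is the canonical morphism Spec κ(z) → Z → Y →
X, there is exactly one morphism Spec R → Y lying over φ and restricting to Spec κ(z) → Z → Y on the
generic point. (The published statement does not require h to be dominant; its proof uses that every
point of Y generalises to a point of h(Z), and for Z empty the criterion holds whatever f is, so
dominance of h is assumed here.) -/
theorem result {X Y Z : Scheme.{u}} (h : Z ⟶ Y) (f : Y ⟶ X)
    [CompactSpace ↥Z] [QuasiSeparatedSpace ↥Z] [CompactSpace ↥Y] [QuasiSeparatedSpace ↥Y]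
    [CompactSpace ↥X] [QuasiSeparatedSpace ↥X] (hd : DenseRange h.base)
    [LocallyOfFiniteType f] :
    IsProper f ↔
      ∀ (z : ↥Z) (R : ValuationSubring ↑(Z.residueField z)) (φ : Spec (CommRingCat.of ↥R) ⟶ X),
        Spec.map (CommRingCat.ofHom R.subtype) ≫ φ = Z.fromSpecResidueField z ≫ h ≫ f →
        ∃! φ' : Spec (CommRingCat.of ↥R) ⟶ Y,
          Spec.map (CommRingCat.ofHom R.subtype) ≫ φ' = Z.fromSpecResidueField z ≫ h ∧ φ' ≫ f = φ := by
  constructor
  · intro hp z R φ hw
    let S : ValuativeCommSq f := ⟨R, Z.residueField z, Z.fromSpecResidueField z ≫ h, φ,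
      ⟨by rw [Category.assoc, ← hw]; rfl⟩⟩
    have hex : ValuativeCriterion.Existence f :=
      ((ValuativeCriterion.iff).mp ((IsProper.eq_valuativeCriterion ▸ hp :
        (ValuativeCriterion ⊓ @QuasiCompact ⊓ @QuasiSeparated ⊓ @LocallyOfFiniteType :
          MorphismProperty Scheme) f).1.1.1)).1
    obtain ⟨⟨l, hl, hl'⟩⟩ := (hex S).exists_lift
    exact ⟨l, ⟨hl, hl'⟩, fun l' hl'' => congrArg CommSq.LiftStruct.l
      ((IsSeparated.valuativeCriterion f S).elim ⟨l', hl''.1, hl''.2⟩ ⟨l, hl, hl'⟩)⟩
  · intro H
    haveI : QuasiSeparated f := inferInstance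
    haveI : QuasiCompact f := inferInstance
    haveI : QuasiCompact h := inferInstance
    haveI : IsSeparated f := by
      refine IsSeparated.of_valuativeCriterion f ?_
      rintro ⟨R, K, i₁, i₂, w⟩
      refine ⟨fun a b => ?_⟩
      obtain ⟨l₁, ha, ha'⟩ := a
      obtain ⟨l₂, hb, hb'⟩ := b
      congr 1
      dsimp only at ha ha' hb hb'
      let VK : ValuationSubring K :=
        ⟨(algebraMap R K).range, ValuationRing.isInteger_or_isInteger R⟩
      let ψ : R ≃+* VK := RingEquiv.ofBijective (algebraMap R K).rangeRestrict
        ⟨fun a b e => IsFractionRing.injective R K (congrArg Subtype.val e),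
          (algebraMap R K).rangeRestrict_surjective⟩
      have : IsIso (CommRingCat.ofHom ψ.toRingHom) := ψ.toCommRingCatIso.isIso_hom
      rw [← cancel_epi (Spec.map (CommRingCat.ofHom ψ.toRingHom))]
      have hsub : CommRingCat.ofHom ψ.toRingHom ≫ CommRingCat.ofHom VK.subtype =
          CommRingCat.ofHom (algebraMap R K) := rfl
      refine Groth.Agent.ValComp.uniq_valuationSubring h f hd
        (fun z R' φ₁ φ₂ e₁ e₂ e => (H z R' (φ₁ ≫ f) (by rw [reassoc_of% e₁])).unique
          ⟨e₁, rfl⟩ ⟨e₂, e.symm⟩) VK _ _ ?_ ?_
      · rw [← Spec.map_comp_assoc, ← Spec.map_comp_assoc, hsub, ha, hb]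
      · rw [Category.assoc, Category.assoc, ha', hb']
    haveI : UniversallyClosed f := by
      refine UniversallyClosed.of_valuativeCriterion f ?_
      rintro ⟨R, K, i₁, i₂, ⟨w⟩⟩
      let VK : ValuationSubring K :=
        ⟨(algebraMap R K).range, ValuationRing.isInteger_or_isInteger R⟩
      let ψ : R ≃+* VK := RingEquiv.ofBijective (algebraMap R K).rangeRestrict
        ⟨fun a b e => IsFractionRing.injective R K (congrArg Subtype.val e),
          (algebraMap R K).rangeRestrict_surjective⟩
      have hsub : CommRingCat.ofHom ψ.toRingHom ≫ CommRingCat.ofHom VK.subtype =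
          CommRingCat.ofHom (algebraMap R K) := rfl
      obtain ⟨l, hl, hl'⟩ := Groth.Agent.ValComp.exists_lift_valuationSubring h f hd
        (fun z R' φ hφ => (H z R' φ hφ).exists) VK i₁
        (Spec.map (CommRingCat.ofHom ψ.toRingHom) ≫ i₂) (by
          rw [← Spec.map_comp_assoc, hsub]; exact w.symm)
      refine ⟨⟨⟨Spec.map (CommRingCat.ofHom ψ.symm.toRingHom) ≫ l, ?_, ?_⟩⟩⟩
      · have : CommRingCat.ofHom ψ.symm.toRingHom ≫ CommRingCat.ofHom (algebraMap R K) =
            CommRingCat.ofHom VK.subtype := by
          ext x
          exact congrArg Subtype.val (ψ.apply_symm_apply x)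
        rw [← Spec.map_comp_assoc, this, hl]
      · rw [Category.assoc, hl', ← Spec.map_comp_assoc]
        have : CommRingCat.ofHom ψ.toRingHom ≫ CommRingCat.ofHom ψ.symm.toRingHom = 𝟙 _ := by
          ext x
          exact ψ.symm_apply_apply x
        rw [this, Spec.map_id, Category.id_comp]
    exact IsProper.mk

end Groth.Agent.S19892
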