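import Groth.Statements.S19898
import Mathlib.LinearAlgebra.PiTensorProduct.Basis
import Mathlib.LinearAlgebra.Determinant
import Mathlib.RingTheory.Norm.Basic

set_option autoImplicit false
universe u
open scoped TensorProduct
open SymTen

namespace Groth.Agent.S19898

section Aux

open scoped TensorProduct

variable {R : Type u} [CommRing R] {R' : Type u} [CommRing R'] [Algebra R R'] {d : ℕ}

variable (R R' d) in
/-- The alternating map into the quotient of the tensor power by the pure tensors with two equal factors. -/
noncomputable def altQ : R' [⋀^Fin d]→ₗ[R] ((⨂[R] _ : Fin d, R') ⧸ SymTen.altSpan R R' d) where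
  toMultilinearMap := (SymTen.altSpan R R' d).mkQ.compMultilinearMap (PiTensorProduct.tprod R)
  map_eq_zero_of_eq' v i j h hij :=
    (Submodule.Quotient.mk_eq_zero _).mpr (Submodule.subset_span ⟨v, i, j, hij, h, rfl⟩)

theorem altQ_apply (v : Fin d → R') :
    (altQ R R' d) v = (SymTen.altSpan R R' d).mkQ (PiTensorProduct.tprod R v) := rfl

variable {ι : Type*} [Fintype ι] [DecidableEq ι]

theorem repr_perm (b : Module.Basis ι R R') (σ : Equiv.Perm (Fin d)) (t : ⨂[R] _ : Fin d, R')
    (k : Fin d → ι) :
    (Basis.piTensorProduct fun _ : Fin d => b).repr (SymTen.perm R R' d σ t) k =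
      (Basis.piTensorProduct fun _ : Fin d => b).repr t (k ∘ σ) := by
  classical
  set B := Basis.piTensorProduct fun _ : Fin d => b
  have h : (B.coord k).comp (SymTen.perm R R' d σ).toLinearMap = B.coord (k ∘ σ) := B.ext fun p => by
    have hp : SymTen.perm R R' d σ (B p) = B (p ∘ σ.symm) := by
      simp only [B, Basis.piTensorProduct_apply, SymTen.perm_tprod, Function.comp_apply]
    rw [LinearMap.comp_apply, AlgHom.toLinearMap_apply, hp, Module.Basis.coord_apply,
      Module.Basis.coord_apply, Module.Basis.repr_self, Module.Basis.repr_self, Finsupp.single_apply,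
      Finsupp.single_apply]
    exact if_congr (Equiv.comp_symm_eq σ k p) rfl rfl
  exact LinearMap.congr_fun h t

/-- A tensor invariant under transpositions multiplies the pure tensors with two equal factors into their span. -/
theorem mul_altSpan (b : Module.Basis ι R R') (t : ⨂[R] _ : Fin d, R')
    (ht : ∀ i j : Fin d, SymTen.perm R R' d (Equiv.swap i j) t = t) (x : ⨂[R] _ : Fin d, R')
    (hx : x ∈ SymTen.altSpan R R' d) : t * x ∈ SymTen.altSpan R R' d := by
  classical
  induction hx using Submodule.span_induction with
  | zero => rw [mul_zero]; exact zero_mem _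
  | add x y _ _ hx hy => rw [mul_add]; exact add_mem hx hy
  | smul a x _ hx => rw [mul_smul_comm]; exact Submodule.smul_mem _ _ hx
  | mem x hx =>
    obtain ⟨v, i, j, hij, hv, rfl⟩ := hx
    set B := Basis.piTensorProduct fun _ : Fin d => b
    rw [← Submodule.Quotient.mk_eq_zero, ← Submodule.mkQ_apply, ← B.sum_repr t, Finset.sum_mul, map_sum]
    have hf : ∀ k, (SymTen.altSpan R R' d).mkQ (B.repr t k • B k * PiTensorProduct.tprod R v) =
        B.repr t k • (altQ R R' d) (fun l => b (k l) * v l) := fun k => by
      rw [smul_mul_assoc, map_smul, Basis.piTensorProduct_apply, PiTensorProduct.tprod_mul_tprod]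
      rfl
    simp only [hf]
    have hk : ∀ k : Fin d → ι, (fun l => b ((k ∘ Equiv.swap i j) l) * v l) =
        (fun l => b (k l) * v l) ∘ Equiv.swap i j := fun k => by
      funext l
      simp only [Function.comp_apply]
      congr 1
      rcases eq_or_ne l i with rfl | hli
      · rw [Equiv.swap_apply_left, hv]
      rcases eq_or_ne l j with rfl | hlj
      · rw [Equiv.swap_apply_right, hv]
      rw [Equiv.swap_apply_of_ne_of_ne hli hlj]
    refine Finset.sum_involution (fun k _ => k ∘ Equiv.swap i j) (fun k _ => ?_) (fun k _ hne h => hne ?_)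
      (fun k _ => Finset.mem_univ _) (fun k _ => ?_)
    · rw [← repr_perm, ht, hk, AlternatingMap.map_swap _ _ hij, smul_neg, add_neg_cancel]
    · have hkij : k i = k j := by
        have := congrFun h j
        rwa [Function.comp_apply, Equiv.swap_apply_right] at this
      rw [AlternatingMap.map_eq_zero_of_eq _ _ (by simp [hkij, hv]) hij, smul_zero]
    · funext l; simp

theorem perm_comp_single (σ : Equiv.Perm (Fin d)) (j : Fin d) :
    (SymTen.perm R R' d σ).comp (PiTensorProduct.singleAlgHom (A := fun _ : Fin d => R') j) =
      PiTensorProduct.singleAlgHom (A := fun _ : Fin d => R') (σ j) := by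
  refine AlgHom.ext fun a => ?_
  simp only [AlgHom.comp_apply, PiTensorProduct.singleAlgHom_apply, MonoidHom.mulSingle_apply,
    SymTen.perm_tprod]
  congr 1
  funext i
  simp only [Pi.mulSingle_apply, Equiv.symm_apply_eq]

theorem tpowAct_eq_mul (t x : ⨂[R] _ : Fin d, R') : SymTen.tpowAct R R' R' d t x = t * x := by
  have h : SymTen.tpowAct R R' R' d = LinearMap.mul R (⨂[R] _ : Fin d, R') := by
    ext f g
    simp [SymTen.tpowAct, PiTensorProduct.tprod_mul_tprod]
    rfl
  rw [h]
  rfl

end Aux

/-- Let R be a commutative ring and R' a commutative R-algebra that is free of rank d as an R-module.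
Let (C, γ) be the degree-d divided power algebra of R' over R, given as an R-algebra C with a
multiplicative homogeneous degree-d polynomial law γ : R' → C that is universal among such laws; let
φ : C → T^d_R(R') be the R-algebra homomorphism into the d-fold tensor power whose composite with γ
is the law x ↦ x ⊗ ⋯ ⊗ x, and π : C → R the R-algebra homomorphism whose composite with γ is the
norm law of R' over R. Let T^d_R(R') act on itself factor by factor and let I_d ⊂ T^d_R(R') be the
R-span of the pure tensors with two equal factors, so that T^d_R(R')/I_d is the top exterior power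
Λ^d_R(R'), free of rank one. Then for every c ∈ C and every x ∈ T^d_R(R') the element φ(c)·x − π(c)
x lies in I_d: the symmetric tensor φ(c) acts on Λ^d_R(R') as multiplication by the scalar π(c),
i.e. the homomorphism TS^d_R(R') → R given by the action on the top exterior power, composed with φ,
equals π. (The source states this for R' finite locally free of constant rank d; the free case is
the affine-local form.) -/
theorem result (R : Type u) [CommRing R] (R' : Type u) [CommRing R']
    [Algebra R R'] [Module.Free R R'] [Module.Finite R R'] (d : ℕ) (hd : Module.finrank R R' = d)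
    {C : Type u} [CommRing C] [Algebra R C] (γ : PolLaw.MulLaw R R' C d) (hγ : PolLaw.IsGammaD γ)
    (φ : C →ₐ[R] (⨂[R] _ : Fin d, R')) (hφ : PolLaw.MulLaw.postcomp φ γ = SymTen.tpowLaw R R' d)
    (π : C →ₐ[R] R) (hπ : PolLaw.MulLaw.postcomp π γ = PolLaw.normLaw R R' d hd)
    (c : C) (x : ⨂[R] _ : Fin d, R') :
    SymTen.tpowAct R R' R' d (φ c) x - π c • x ∈ SymTen.altSpan R R' d := by
  classical
  cases subsingleton_or_nontrivial R with
  | inl h =>
    have := Module.subsingleton R (⨂[R] _ : Fin d, R')
    rw [Subsingleton.elim (_ - _ : ⨂[R] _ : Fin d, R') 0]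
    exact zero_mem _
  | inr h =>
  let b : Module.Basis (Fin d) R R' := (Module.finBasis R R').reindex (finCongr hd)
  let e : ⨂[R] _ : Fin d, R' := PiTensorProduct.tprod R b
  let D : (⨂[R] _ : Fin d, R') →ₗ[R] R := PiTensorProduct.lift b.det.toMultilinearMap
  have hDe : D e = 1 := by
    simp only [D, e, PiTensorProduct.lift.tprod]
    exact b.det_self
  have hD0 : ∀ z ∈ SymTen.altSpan R R' d, D z = 0 := by
    intro z hz
    refine (Submodule.span_le (p := LinearMap.ker D)).mpr ?_ hz
    rintro _ ⟨v, i, j, hij, hv, rfl⟩
    simp only [D, SetLike.mem_coe, LinearMap.mem_ker, PiTensorProduct.lift.tprod]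
    exact AlternatingMap.map_eq_zero_of_eq _ v hv hij
  have hDx : ∀ z, z - D z • e ∈ SymTen.altSpan R R' d := by
    intro z
    rw [← Submodule.Quotient.eq]
    have h : (SymTen.altSpan R R' d).mkQ =
        (LinearMap.toSpanSingleton R _ ((altQ R R' d) (b : Fin d → R'))).comp D := by
      have hA : ((altQ R R' d) : R' [⋀^Fin d]→ₗ[R] _) =
          (LinearMap.toSpanSingleton R _ ((altQ R R' d) (b : Fin d → R'))).compAlternatingMap b.det := by
        refine Module.Basis.ext_alternating b fun v hv => ?_
        let σ : Equiv.Perm (Fin d) := Equiv.ofBijective v (Finite.injective_iff_bijective.1 hv)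
        change (altQ R R' d) (b ∘ σ) =
          (LinearMap.toSpanSingleton R _ ((altQ R R' d) (b : Fin d → R'))).compAlternatingMap b.det (b ∘ σ)
        rw [LinearMap.compAlternatingMap_apply, AlternatingMap.map_perm, AlternatingMap.map_perm,
          b.det_self, LinearMap.toSpanSingleton_apply, smul_assoc, one_smul]
      refine PiTensorProduct.ext (MultilinearMap.ext fun v => ?_)
      have := congrArg (fun f : R' [⋀^Fin d]→ₗ[R] _ => f v) hA
      simpa [D, altQ_apply] using this
    exact LinearMap.congr_fun h z
  -- the values of `φ` are symmetric tensors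
  have hsym : ∀ (σ : Equiv.Perm (Fin d)) (a : C), SymTen.perm R R' d σ (φ a) = φ a := by
    intro σ a
    obtain ⟨f₀, -, huniq⟩ := hγ _ (SymTen.tpowLaw R R' d)
    have h1 : φ = f₀ := huniq φ (congrArg PolLaw.MulLaw.law hφ)
    have h2 : (SymTen.perm R R' d σ).comp φ = f₀ := by
      refine huniq _ (PolynomialLaw.ext ?_)
      funext S _ _ y
      show ((SymTen.perm R R' d σ).comp φ).toLinearMap.lTensor S (γ.law.toFun' S y) = _
      rw [AlgHom.comp_toLinearMap, LinearMap.lTensor_comp, LinearMap.comp_apply,
        show φ.toLinearMap.lTensor S (γ.law.toFun' S y) = (SymTen.tpowLaw R R' d).law.toFun' S y from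
          congrArg (fun F : PolLaw.MulLaw R R' _ d => F.law.toFun' S y) hφ,
        SymTen.tpowLaw, PolLaw.MulLaw.prodMap_toFun', PolLaw.lTensor_algHom_apply, map_prod]
      conv_rhs => rw [← Equiv.prod_comp σ]
      refine Finset.prod_congr rfl fun j _ => ?_
      rw [← perm_comp_single σ j, ← AlgHom.comp_apply, ← Algebra.TensorProduct.map_comp, AlgHom.id_comp]
    exact AlgHom.congr_fun (h2.trans h1.symm) a
  have hmul : ∀ a z, z ∈ SymTen.altSpan R R' d → φ a * z ∈ SymTen.altSpan R R' d := fun a z hz =>
    mul_altSpan b (φ a) (fun i j => hsym _ a) z hz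
  let χ : C →ₐ[R] R := AlgHom.ofLinearMap ((D.comp (LinearMap.mulRight R e)).comp φ.toLinearMap)
    (by simp [hDe])
    (fun a a' => by
      simp only [LinearMap.comp_apply, AlgHom.toLinearMap_apply, LinearMap.mulRight_apply, map_mul]
      have := hD0 _ (hmul a _ (hDx (φ a' * e)))
      rw [mul_sub, map_sub, mul_smul_comm, map_smul, smul_eq_mul, sub_eq_zero, ← mul_assoc] at this
      rw [this, mul_comm])
  have hring : ∀ (S : Type u) [CommRing S] [Algebra R S] (y : S ⊗[R] R'),
      χ.toLinearMap.lTensor S (γ.law.toFun' S y) = (PolLaw.normLaw R R' d hd).law.toFun' S y := by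
    intro S _ _ y
    rw [PolLaw.normLaw_apply]
    show ((D.comp (LinearMap.mulRight R e)).comp φ.toLinearMap).lTensor S (γ.law.toFun' S y) = _
    rw [LinearMap.lTensor_comp, LinearMap.lTensor_comp, LinearMap.comp_apply, LinearMap.comp_apply,
      show φ.toLinearMap.lTensor S (γ.law.toFun' S y) = (SymTen.tpowLaw R R' d).law.toFun' S y from
        congrArg (fun F : PolLaw.MulLaw R R' _ d => F.law.toFun' S y) hφ,
      SymTen.tpowLaw, PolLaw.MulLaw.prodMap_toFun']
    have hR : ∀ z, (LinearMap.mulRight R e).lTensor S z = z * ((1 : S) ⊗ₜ[R] e) := fun z => by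
      induction z using TensorProduct.induction_on with
      | zero => simp
      | tmul s t => simp [Algebra.TensorProduct.tmul_mul_tmul]
      | add z z' hz hz' => simp only [map_add, hz, hz', add_mul]
    rw [hR]
    let ιj : Fin d → (S ⊗[R] R' →ₐ[S] S ⊗[R] (⨂[R] _ : Fin d, R')) := fun j =>
      Algebra.TensorProduct.map (AlgHom.id S S) (PiTensorProduct.singleAlgHom (A := fun _ : Fin d => R') j)
    have htp : ∀ v : Fin d → R', (1 : S) ⊗ₜ[R] PiTensorProduct.tprod R v = ∏ j, ιj j (1 ⊗ₜ[R] v j) := by
      intro v
      have h1 : PiTensorProduct.tprod R v =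
          ∏ j, PiTensorProduct.singleAlgHom (A := fun _ : Fin d => R') j (v j) := by
        simp only [PiTensorProduct.singleAlgHom_apply, MonoidHom.mulSingle_apply]
        rw [← PiTensorProduct.tprod_prod]
        exact congrArg _ (Finset.univ_prod_mulSingle v).symm
      rw [h1, ← Algebra.TensorProduct.includeRight_apply, map_prod]
      rfl
    rw [htp, ← Finset.prod_mul_distrib]
    simp only [ιj, ← map_mul]
    let rid := TensorProduct.AlgebraTensorModule.rid R S S
    let F : MultilinearMap S (fun _ : Fin d => S ⊗[R] R') S :=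
      (rid.toLinearMap.comp (D.baseChange S)).compMultilinearMap
        ((MultilinearMap.mkPiAlgebra S (Fin d) (S ⊗[R] (⨂[R] _ : Fin d, R'))).compLinearMap
          fun j => (ιj j).toLinearMap)
    let bS := Algebra.TensorProduct.basis S b
    have hF : F = bS.det.toMultilinearMap := by
      refine Module.Basis.ext_multilinear (fun _ => bS) fun k => ?_
      have hk : (fun i => bS (k i)) = fun i => (1 : S) ⊗ₜ[R] b (k i) :=
        funext fun i => Algebra.TensorProduct.basis_apply b (k i)
      simp only [F, hk, LinearMap.compMultilinearMap_apply, MultilinearMap.compLinearMap_apply,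
        MultilinearMap.mkPiAlgebra_apply, AlgHom.toLinearMap_apply, LinearMap.comp_apply]
      rw [← htp fun i => b (k i), LinearMap.baseChange_tmul, PiTensorProduct.lift.tprod]
      simp only [AlternatingMap.coe_multilinearMap, LinearEquiv.coe_coe, rid,
        TensorProduct.AlgebraTensorModule.rid_tmul]
      rw [Module.Basis.det_apply, Module.Basis.det_apply, Algebra.smul_def, mul_one, RingHom.map_det]
      congr 1
      ext i l
      simp [Module.Basis.toMatrix_apply, bS, Algebra.TensorProduct.basis_repr_tmul, Algebra.algebraMap_eq_smul_one, Finsupp.single_apply, ite_smul]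
    have hy := congrArg (fun G : MultilinearMap S (fun _ : Fin d => S ⊗[R] R') S =>
      G (fun j => y * bS j)) hF
    have hn : bS.det (fun j => y * bS j) = Algebra.norm S y := by
      rw [Algebra.norm_apply]
      have := bS.det_comp (LinearMap.mul S (S ⊗[R] R') y) bS
      rw [bS.det_self, mul_one] at this
      exact this
    simp only [AlternatingMap.coe_multilinearMap, hn] at hy
    refine rid.injective ?_
    rw [show rid (Algebra.norm S y ⊗ₜ[R] (1 : R)) = Algebra.norm S y by simp [rid], ← hy]
    simp only [F, bS, ιj, LinearMap.compMultilinearMap_apply, MultilinearMap.compLinearMap_apply,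
      MultilinearMap.mkPiAlgebra_apply, Algebra.TensorProduct.basis_apply, AlgHom.toLinearMap_apply,
      LinearMap.comp_apply, LinearEquiv.coe_coe, LinearMap.baseChange_eq_ltensor, map_mul,
      Algebra.TensorProduct.map_tmul]
  have hπχ : χ = π := by
    obtain ⟨f₀, -, huniq⟩ := hγ _ (PolLaw.normLaw R R' d hd)
    refine (huniq χ (PolynomialLaw.ext ?_)).trans (huniq π (congrArg PolLaw.MulLaw.law hπ)).symm
    funext S _ _ y
    letI : CommRing S := (algebraMap R S).commSemiringToCommRing
    exact hring S y
  rw [tpowAct_eq_mul, ← hπχ]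
  have key : φ c * x - χ c • x =
      φ c * (x - D x • e) - χ c • (x - D x • e) + D x • (φ c * e - χ c • e) := by
    rw [mul_sub, mul_smul_comm, smul_sub, smul_sub, smul_comm (χ c) (D x)]
    abel
  rw [key]
  exact add_mem (sub_mem (hmul c _ (hDx x)) (Submodule.smul_mem _ _ (hDx x)))
    (Submodule.smul_mem _ _ (hDx _))

end Groth.Agent.S19898
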