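import Groth.Agent.AlgStLib.SmLocus
import Mathlib.AlgebraicGeometry.Sites.Fpqc
import Groth.Prelude.Def_AlgSt3

set_option autoImplicit false
universe u
open CategoryTheory AlgebraicGeometry
open AlgSt

set_option backward.isDefEq.respectTransparency false

namespace Groth.Agent.S19902

/-- Let f : 𝒳 → 𝒴 be a morphism of algebraic stacks and 𝒰 ⊂ 𝒳 the largest open substack on which f is
smooth. Formation of 𝒰 commutes with precomposing by smooth morphisms: for a smooth g : 𝒳' → 𝒳, the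
inverse image of 𝒰 in 𝒳' is the largest open substack of 𝒳' on which f ∘ g is smooth. Open substacks
are given by their object predicates, the inverse image by composing the predicate with g on
objects, and smoothness is read on one square of smooth scheme charts. -/
theorem result
    (S : Scheme.{u}) (𝒳' : AlgSt.Cat S) (𝒳 : AlgSt.Cat S) (𝒴 : AlgSt.Cat S)
    (h𝒳' : AlgSt.IsAlgStack Scheme.fppfPrecoverage 𝒳')
    (h𝒳 : AlgSt.IsAlgStack Scheme.fppfPrecoverage 𝒳)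
    (h𝒴 : AlgSt.IsAlgStack Scheme.fppfPrecoverage 𝒴)
    (g : 𝒳' ⥤ᵇ 𝒳) (hg : AlgSt.LocQ (AlgSp.LocP @Smooth) g) (f : 𝒳 ⥤ᵇ 𝒴)
    (Q : 𝒳.obj → Prop) (hQ₁ : AlgSt.IsOpenSubstack 𝒳 Q Scheme.fppfPrecoverage)
    (hQ₂ : AlgSt.LocQ (AlgSp.LocP @Smooth) (BasedFunctor.comp (AlgSt.subIncl 𝒳 Q) f))
    (hQ₃ : ∀ Q' : 𝒳.obj → Prop, AlgSt.IsOpenSubstack 𝒳 Q' Scheme.fppfPrecoverage →
      AlgSt.LocQ (AlgSp.LocP @Smooth) (BasedFunctor.comp (AlgSt.subIncl 𝒳 Q') f) → ∀ a, Q' a → Q a) :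
    AlgSt.IsOpenSubstack 𝒳' (fun a ↦ Q (g.obj a)) Scheme.fppfPrecoverage ∧
      AlgSt.LocQ (AlgSp.LocP @Smooth)
        (BasedFunctor.comp (AlgSt.subIncl 𝒳' (fun a ↦ Q (g.obj a))) (BasedFunctor.comp g f)) ∧
      ∀ Q' : 𝒳'.obj → Prop, AlgSt.IsOpenSubstack 𝒳' Q' Scheme.fppfPrecoverage →
        AlgSt.LocQ (AlgSp.LocP @Smooth) (BasedFunctor.comp (AlgSt.subIncl 𝒳' Q') (BasedFunctor.comp g f)) →
        ∀ a, Q' a → Q (g.obj a) := by
  have hQeq : Q = Groth.Agent.AlgStLib.InSet (Groth.Agent.AlgStLib.smoothSet f) := funext fun a => propext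
    ⟨fun ha => Groth.Agent.AlgStLib.range_subset_smoothSet h𝒳 hQ₁ hQ₂ ha,
     fun ha => hQ₃ _ (Groth.Agent.AlgStLib.isOpenSubstack_inSet h𝒳 (Groth.Agent.AlgStLib.isOpen_smoothSet f)) (Groth.Agent.AlgStLib.locQ_smooth_smoothSet h𝒳 h𝒴 f) a ha⟩
  subst hQeq
  have e : (fun a => Groth.Agent.AlgStLib.InSet (Groth.Agent.AlgStLib.smoothSet f) (g.obj a)) =
      Groth.Agent.AlgStLib.InSet (Groth.Agent.AlgStLib.smoothSet (BasedFunctor.comp g f)) := funext fun a => propext (by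
    rw [Groth.Agent.AlgStLib.inSet_comp h𝒳'.isStack.1 h𝒳.isStack.1 g _ a,
      Groth.Agent.AlgStLib.preimage_smoothSet h𝒳' h𝒳 h𝒴 g hg f])
  rw [e]
  refine ⟨Groth.Agent.AlgStLib.isOpenSubstack_inSet h𝒳' (Groth.Agent.AlgStLib.isOpen_smoothSet _), Groth.Agent.AlgStLib.locQ_smooth_smoothSet h𝒳' h𝒴 _, fun Q' hQ' hf a ha => ?_⟩
  exact (congrFun e a).mpr (Groth.Agent.AlgStLib.range_subset_smoothSet h𝒳' hQ' hf ha)

end Groth.Agent.S19902
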