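import Groth.Statements.S19907
import Mathlib.RingTheory.Kaehler.JacobiZariski
import Mathlib.RingTheory.Etale.Field
import Mathlib.RingTheory.Etale.Kaehler
import Mathlib.RingTheory.Smooth.Basic
import Mathlib.RingTheory.AdjoinRoot
import Mathlib.FieldTheory.PrimitiveElement

set_option autoImplicit false
universe u
open CategoryTheory TensorProduct
open ArtFun

namespace Groth.Agent.S19907

open Algebra Polynomial

/-- Coordinates of an element of `J E` in a basis of `E` lie in `J`. -/
lemma repr_mem_of_mem_map {Λ E : Type*} [CommRing Λ] [CommRing E] [Algebra Λ E] {ι : Type*}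
    (b : Module.Basis ι Λ E) (J : Ideal Λ) {x : E} (hx : x ∈ J.map (algebraMap Λ E)) (i : ι) :
    b.repr x i ∈ J := by
  have h : x ∈ (J • ⊤ : Submodule Λ E) := by
    rw [Ideal.smul_top_eq_map]; exact hx
  refine Submodule.smul_induction_on h (fun r hr m _ ↦ ?_) (fun a c ha hc ↦ ?_)
  · rw [map_smul, Finsupp.smul_apply, smul_eq_mul]; exact J.mul_mem_right _ hr
  · rw [map_add, Finsupp.add_apply]; exact J.add_mem ha hc

set_option backward.isDefEq.respectTransparency false in
theorem aux_inj {Λ k' k : Type u} [CommRing Λ] [Field k'] [Field k] [Algebra Λ k'] [Algebra Λ k]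
    [Algebra k' k] [IsScalarTower Λ k' k] (hs : Function.Surjective (algebraMap Λ k'))
    [FiniteDimensional k' k] [Algebra.IsSeparable k' k] :
    Function.Injective ((Algebra.H1Cotangent.map Λ Λ k' k).liftBaseChange k) := by
  obtain ⟨α, hα⟩ := Field.exists_primitive_element k' k
  have hαi : IsIntegral k' α := IsIntegral.of_finite k' α
  have hdeg := (Field.primitive_element_iff_minpoly_natDegree_eq k' α).1 hα
  obtain ⟨g, hgmap, hgdeg, hgm⟩ := Polynomial.lifts_and_natDegree_eq_and_monic
    (f := algebraMap Λ k') (p := minpoly k' α)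
    (by
      rw [Polynomial.lifts_iff_coeff_lifts]
      exact fun n ↦ hs _) (minpoly.monic hαi)
  have hli : LinearIndependent k' (fun i : Fin g.natDegree ↦ α ^ (i : ℕ)) := by
    rw [hgdeg]; exact linearIndependent_pow α
  have hne : Nonempty (Fin g.natDegree) :=
    ⟨⟨0, by rw [hgdeg]; exact minpoly.natDegree_pos hαi⟩⟩
  let bk : Module.Basis (Fin g.natDegree) k' k :=
    basisOfLinearIndependentOfCardEqFinrank hli (by rw [Fintype.card_fin, hgdeg, hdeg])
  have hbk : ∀ i, bk i = α ^ (i : ℕ) := fun i ↦
    congrFun (coe_basisOfLinearIndependentOfCardEqFinrank hli _) i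
  have hev : Polynomial.aeval α g = 0 := by
    rw [← Polynomial.aeval_map_algebraMap k' α g, hgmap, minpoly.aeval]
  let φ : AdjoinRoot g →ₐ[Λ] k := AdjoinRoot.liftAlgHom g (Algebra.ofId Λ k) α hev
  have hφroot : φ (AdjoinRoot.root g) = α := AdjoinRoot.lift_root hev
  let bE : Module.Basis (Fin g.natDegree) Λ (AdjoinRoot g) := (AdjoinRoot.powerBasis' hgm).basis
  have hbE : ∀ i, bE i = AdjoinRoot.root g ^ (i : ℕ) :=
    (AdjoinRoot.powerBasis' hgm).basis_eq_pow
  have hφb : ∀ r : Fin g.natDegree → Λ,
      φ (∑ i, r i • bE i) = ∑ i, algebraMap Λ k' (r i) • bk i := fun r ↦ by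
    rw [map_sum]
    exact Finset.sum_congr rfl fun i _ ↦ by
      rw [map_smul, hbE, map_pow, hφroot, hbk, algebraMap_smul]
  have hφ : Function.Surjective φ := fun y ↦ by
    choose r hr using fun i ↦ hs (bk.repr y i)
    refine ⟨∑ i, r i • bE i, ?_⟩
    rw [hφb]; simp only [hr]; exact bk.sum_repr y
  have hker : RingHom.ker φ ≤ (RingHom.ker (algebraMap Λ k')).map (algebraMap Λ (AdjoinRoot g)) := by
    intro x hx
    have h0 : ∑ i, algebraMap Λ k' (bE.repr x i) • bk i = 0 := by
      rw [← hφb, bE.sum_repr]; exact hx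
    rw [← bE.sum_repr x]
    refine sum_mem fun i _ ↦ ?_
    rw [Algebra.smul_def]
    exact Ideal.mul_mem_right _ _ (Ideal.mem_map_of_mem _
      (Fintype.linearIndependent_iff.1 bk.linearIndependent _ h0 i))
  let P : Extension.{u} Λ k' := Extension.ofSurjective (Algebra.ofId Λ k') hs
  let Q : Extension.{u} Λ k := Extension.ofSurjective φ hφ
  let u₀ : P.Hom Q :=
    { toRingHom := algebraMap Λ (AdjoinRoot g)
      toRingHom_algebraMap := fun x ↦ rfl
      algebraMap_toRingHom := fun x ↦ (φ.commutes x).trans
        (IsScalarTower.algebraMap_apply Λ k' k x) }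
  haveI : FormallySmooth Λ (Generators.self Λ k').toExtension.Ring :=
    inferInstanceAs (FormallySmooth Λ (MvPolynomial _ _))
  haveI : FormallySmooth Λ P.Ring := inferInstanceAs (FormallySmooth Λ Λ)
  let v : (Generators.self Λ k').toExtension.Hom P :=
    { toRingHom := (MvPolynomial.aeval P.σ).toRingHom
      toRingHom_algebraMap := (MvPolynomial.aeval P.σ).commutes
      algebraMap_toRingHom := by
        have : (IsScalarTower.toAlgHom Λ P.Ring k').comp (MvPolynomial.aeval P.σ) =
            IsScalarTower.toAlgHom _ (Generators.self Λ k').toExtension.Ring _ := by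
          ext i
          change _ = algebraMap (Generators.self Λ k').Ring _ (.X i)
          simp
        exact DFunLike.congr_fun this }
  let w : (Generators.self Λ k).toExtension.Hom Q :=
    { toRingHom := (MvPolynomial.aeval Q.σ).toRingHom
      toRingHom_algebraMap := (MvPolynomial.aeval Q.σ).commutes
      algebraMap_toRingHom := by
        have : (IsScalarTower.toAlgHom Λ Q.Ring k).comp (MvPolynomial.aeval Q.σ) =
            IsScalarTower.toAlgHom _ (Generators.self Λ k).toExtension.Ring _ := by
          ext i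
          change _ = algebraMap (Generators.self Λ k).Ring _ (.X i)
          simp
        exact DFunLike.congr_fun this }
  have hvinj : Function.Injective (Extension.H1Cotangent.map v) := fun a b hab ↦ by
    apply (Extension.H1Cotangent.equivOfFormallySmooth
      (Generators.self Λ k').toExtension P).injective
    rw [Extension.H1Cotangent.equivOfFormallySmooth_apply v,
      Extension.H1Cotangent.equivOfFormallySmooth_apply v, hab]
  have hcomp : ∀ c : Algebra.H1Cotangent Λ k',
      Extension.H1Cotangent.map w (Algebra.H1Cotangent.map Λ Λ k' k c) =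
        Extension.H1Cotangent.map u₀ (Extension.H1Cotangent.map v c) := fun c ↦ by
    rw [← Extension.H1Cotangent.map_comp_apply, Algebra.H1Cotangent.map,
      ← Extension.H1Cotangent.map_comp_apply, Extension.H1Cotangent.map_eq _ (u₀.comp v)]
  rw [injective_iff_map_eq_zero]
  intro z hz
  obtain ⟨c, rfl⟩ := TensorProduct.eq_repr_basis_left bk z
  rw [Finsupp.sum_fintype _ _ (fun i ↦ by simp)] at hz ⊢
  choose x hx using fun i ↦ Extension.Cotangent.mk_surjective
    (Extension.H1Cotangent.map v (c i)).1
  have h1 := congrArg (fun t ↦ Extension.h1Cotangentι (Extension.H1Cotangent.map w t)) hz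
  simp only [map_sum, LinearMap.liftBaseChange_tmul, map_smul, hcomp, map_zero] at h1
  let a : Fin g.natDegree → Q.Ring := fun i ↦ AdjoinRoot.root g ^ (i : ℕ)
  let xv : Fin g.natDegree → Λ := fun i ↦ (x i).1
  have hterm : ∀ i, bk i • Extension.h1Cotangentι
      (Extension.H1Cotangent.map u₀ (Extension.H1Cotangent.map v (c i))) =
      Extension.Cotangent.mk (a i •
        (⟨algebraMap Λ (AdjoinRoot g) (xv i), by
          show φ (algebraMap Λ (AdjoinRoot g) (xv i)) = 0
          rw [φ.commutes, IsScalarTower.algebraMap_apply Λ k' k]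
          exact (congrArg (algebraMap k' k) (x i).2).trans (map_zero _)⟩ : Q.ker)) := fun i ↦ by
    rw [map_smul, ← algebraMap_smul k (a i)]
    congr 1
    · rw [hbk, ← hφroot, ← map_pow]; rfl
    · change Extension.Cotangent.map u₀ (Extension.H1Cotangent.map v (c i)).1 = _
      rw [← hx i, Extension.Cotangent.map_mk]
      rfl
  rw [Finset.sum_congr rfl fun i _ ↦ hterm i, ← map_sum,
    Extension.Cotangent.mk_eq_zero_iff] at h1
  have h2 : (∑ i, xv i • bE i : AdjoinRoot g) ∈
      ((RingHom.ker (algebraMap Λ k')) ^ 2).map (algebraMap Λ (AdjoinRoot g)) := by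
    rw [Ideal.map_pow]
    refine Ideal.pow_right_mono hker 2 ?_
    refine Eq.mp ?_ h1
    congr 1
    rw [AddSubmonoidClass.coe_finsetSum]
    refine Finset.sum_congr rfl fun i _ ↦ ?_
    rw [hbE, Algebra.smul_def, mul_comm]
    rfl
  refine Finset.sum_eq_zero fun i _ ↦ ?_
  have h3 := repr_mem_of_mem_map bE _ h2 i
  rw [bE.repr_sum_self] at h3
  have h4 : c i = 0 := hvinj (by
    rw [map_zero]
    ext1
    rw [← hx i]
    exact (Extension.Cotangent.mk_eq_zero_iff _).2 h3)
  rw [h4, TensorProduct.tmul_zero]

theorem aux {Λ k' k : Type u} [CommRing Λ] [Field k'] [Field k] [Algebra Λ k'] [Algebra Λ k]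
    [Algebra k' k] [IsScalarTower Λ k' k] (hs : Function.Surjective (algebraMap Λ k'))
    [FiniteDimensional k' k] [Algebra.IsSeparable k' k] :
    Function.Bijective ((Algebra.H1Cotangent.map Λ Λ k' k).liftBaseChange k) := by
  refine ⟨aux_inj hs, fun y ↦ ?_⟩
  haveI : Algebra.FormallyEtale k' k := Algebra.FormallyEtale.of_isSeparable k' k
  haveI : Subsingleton (Algebra.H1Cotangent k' k) :=
    Algebra.FormallySmooth.subsingleton_h1Cotangent
  exact (Algebra.H1Cotangent.exact_liftBaseChange_map_of_flat Λ k' k y).1
    (Subsingleton.elim _ _)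

/-- Let Λ be a Noetherian ring with a finite ring map to a field k, let k' ⊂ k be the image of Λ and m_Λ
the kernel, so that m_Λ/m_Λ² = H₁(L_{k'/Λ}) (Λ → k' being surjective with kernel m_Λ). If k is
separable over k', the canonical map m_Λ/m_Λ² ⊗_{k'} k → H₁(L_{k/Λ}) is an isomorphism. Stated for
H₁(L_{k'/Λ}) in place of m_Λ/m_Λ²: the k-linear base change of the functoriality map H₁(L_{k'/Λ}) →
H₁(L_{k/Λ}) is bijective. (The general construction of the map and the case k = k' are the other
assertions of the source; only the separable case is stated here.) -/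
theorem result {Λ : Type u} {k : Type u} [CommRing Λ] [Field k] [Algebra Λ k]
    [IsNoetherianRing Λ] [Module.Finite Λ k]
    [Algebra.IsSeparable (↥(algebraMap Λ k).range) k] :
    letI : Algebra Λ (↥(algebraMap Λ k).range) := (algebraMap Λ k).rangeRestrict.toAlgebra
    letI : IsScalarTower Λ (↥(algebraMap Λ k).range) k := IsScalarTower.of_algebraMap_eq (fun _ ↦ rfl)
    Function.Bijective ((Algebra.H1Cotangent.map Λ Λ (↥(algebraMap Λ k).range) k).liftBaseChange k) := by
  letI : Algebra Λ (↥(algebraMap Λ k).range) := (algebraMap Λ k).rangeRestrict.toAlgebra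
  letI : IsScalarTower Λ (↥(algebraMap Λ k).range) k := IsScalarTower.of_algebraMap_eq (fun _ ↦ rfl)
  haveI : Module.Finite (↥(algebraMap Λ k).range) k := Module.Finite.of_restrictScalars_finite Λ _ k
  have hF : IsField (↥(algebraMap Λ k).range) :=
    isField_of_isIntegral_of_isField (S := k) Subtype.val_injective (Field.toIsField k)
  letI : Field (↥(algebraMap Λ k).range) := hF.toField
  exact aux (RingHom.rangeRestrict_surjective _)

end Groth.Agent.S19907
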