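import Groth.Agent.AlgStLib.SmLocusBC
import Mathlib.AlgebraicGeometry.Sites.Fpqc
import Groth.Prelude.Def_AlgSt3

set_option autoImplicit false
universe u
open CategoryTheory AlgebraicGeometry
open AlgSt

set_option backward.isDefEq.respectTransparency false

namespace Groth.Agent.S19909

/-- Let f : 𝒳 → 𝒴 be a morphism of algebraic stacks and 𝒰 ⊂ 𝒳 the largest open substack on which f is
smooth. Formation of 𝒰 commutes with base change along y : 𝒴' → 𝒴 when y is flat and locally of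
finite presentation, or when y is flat and f is locally of finite presentation: the inverse image of
𝒰 in 𝒴' ×_𝒴 𝒳 is the largest open substack on which the projection to 𝒴' is smooth. Open substacks
are given by their object predicates, the inverse image by reading the predicate on the second
component, and flat, locally of finite presentation and smooth are read on one square of smooth
scheme charts. -/
theorem result
    (S : Scheme.{u}) (𝒳 : AlgSt.Cat S) (𝒴 : AlgSt.Cat S) (𝒴' : AlgSt.Cat S)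
    (h𝒳 : AlgSt.IsAlgStack Scheme.fppfPrecoverage 𝒳)
    (h𝒴 : AlgSt.IsAlgStack Scheme.fppfPrecoverage 𝒴)
    (h𝒴' : AlgSt.IsAlgStack Scheme.fppfPrecoverage 𝒴')
    (f : 𝒳 ⥤ᵇ 𝒴) (y : 𝒴' ⥤ᵇ 𝒴) (hy : AlgSt.LocQ (AlgSp.LocP @Flat) y)
    (hfp : AlgSt.LocQ (AlgSp.LocP @LocallyOfFinitePresentation) y ∨
      AlgSt.LocQ (AlgSp.LocP @LocallyOfFinitePresentation) f)
    (Q : 𝒳.obj → Prop) (hQ₁ : AlgSt.IsOpenSubstack 𝒳 Q Scheme.fppfPrecoverage)
    (hQ₂ : AlgSt.LocQ (AlgSp.LocP @Smooth) (BasedFunctor.comp (AlgSt.subIncl 𝒳 Q) f))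
    (hQ₃ : ∀ Q' : 𝒳.obj → Prop, AlgSt.IsOpenSubstack 𝒳 Q' Scheme.fppfPrecoverage →
      AlgSt.LocQ (AlgSp.LocP @Smooth) (BasedFunctor.comp (AlgSt.subIncl 𝒳 Q') f) → ∀ a, Q' a → Q a) :
    AlgSt.IsOpenSubstack (FibCat.fp y f) (fun b ↦ Q b.obj.snd) Scheme.fppfPrecoverage ∧
      AlgSt.LocQ (AlgSp.LocP @Smooth)
        (BasedFunctor.comp (AlgSt.subIncl (FibCat.fp y f) fun b ↦ Q b.obj.snd) (FibCat.fpFst y f)) ∧
      ∀ Q' : (FibCat.fp y f).obj → Prop, AlgSt.IsOpenSubstack (FibCat.fp y f) Q' Scheme.fppfPrecoverage →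
        AlgSt.LocQ (AlgSp.LocP @Smooth) (BasedFunctor.comp (AlgSt.subIncl (FibCat.fp y f) Q') (FibCat.fpFst y f)) →
        ∀ b, Q' b → Q b.obj.snd := by
  have hQeq : Q = Groth.Agent.AlgStLib.InSet (Groth.Agent.AlgStLib.smoothSet f) := funext fun a => propext
    ⟨fun ha => Groth.Agent.AlgStLib.range_subset_smoothSet h𝒳 hQ₁ hQ₂ ha,
     fun ha => hQ₃ _ (Groth.Agent.AlgStLib.isOpenSubstack_inSet h𝒳 (Groth.Agent.AlgStLib.isOpen_smoothSet f)) (Groth.Agent.AlgStLib.locQ_smooth_smoothSet h𝒳 h𝒴 f) a ha⟩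
  subst hQeq
  have hF : AlgSt.IsAlgStack Scheme.fppfPrecoverage (FibCat.fp y f) := Groth.Agent.AlgStLib.isAlgStack_fp_of _ h𝒴' h𝒳 h𝒴 y f
  have e : (fun b : (FibCat.fp y f).obj => Groth.Agent.AlgStLib.InSet (Groth.Agent.AlgStLib.smoothSet f) b.obj.snd) =
      Groth.Agent.AlgStLib.InSet (Groth.Agent.AlgStLib.smoothSet (FibCat.fpFst y f)) := funext fun b => propext (by
    rw [← Groth.Agent.AlgStLib.preimage_smoothSet_fp h𝒳 h𝒴 h𝒴' f y hy hfp,
      ← Groth.Agent.AlgStLib.inSet_comp hF.isStack.1 h𝒳.isStack.1 (FibCat.fpSnd y f) _ b]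
    rfl)
  rw [e]
  refine ⟨Groth.Agent.AlgStLib.isOpenSubstack_inSet hF (Groth.Agent.AlgStLib.isOpen_smoothSet _), Groth.Agent.AlgStLib.locQ_smooth_smoothSet hF h𝒴' _, fun Q' hQ' hf b hb => ?_⟩
  exact (congrFun e b).mpr (Groth.Agent.AlgStLib.range_subset_smoothSet hF hQ' hf hb)

end Groth.Agent.S19909
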