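import Groth.Statements.S19912
import Groth.Agent.EGA41Nagata.Cotangent
-- import your own Groth.Agent.* helpers here

set_option autoImplicit false
universe u
open CategoryTheory CategoryTheory.Limits AlgebraicGeometry
open Models

set_option linter.style.haveILetI false
set_option backward.isDefEq.respectTransparency false

namespace Groth.Agent.S19912

open TopologicalSpace

/-- Let R be a discrete valuation ring with fraction field K and YR a scheme over Spec R. Let V be a
discrete valuation ring which is an R-algebra in such a way that the maximal ideal of R generates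
the maximal ideal of V (ramification index one), and let σ : Spec V -> YR be a morphism over Spec R
sending the closed point of Spec V to y. If the local ring of YR at y is regular, then the local
ring at y of the special fibre of YR, namely O_{YR,y}/𝔪_R O_{YR,y}, is regular. (The published
statement takes YR a normal projective flat model of a smooth projective geometrically connected
curve Y over K and phrases the hypothesis through a point Q of Y rational over an extension L of K
unramified over K with y in the closure of Q: by the valuative criterion such a point yields a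
morphism as above from the spectrum of the localization of the integral closure of R in L at a
maximal ideal over y, which is the form used here.) -/
theorem result
    (R : Type u) [CommRing R] [IsDomain R] [IsDiscreteValuationRing R]
    (YR : Over (Spec (CommRingCat.of R)))
    (V : Type u) [CommRing V] [IsDomain V] [IsDiscreteValuationRing V] [Algebra R V]
    (hV : Ideal.map (algebraMap R V) (IsLocalRing.maximalIdeal R) = IsLocalRing.maximalIdeal V)
    (σ : Spec (CommRingCat.of V) ⟶ YR.left)
    (hσ : σ ≫ YR.hom = Spec.map (CommRingCat.ofHom (algebraMap R V)))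
    (y : YR.left) (hy : σ.base (IsLocalRing.closedPoint V) = y)
    (hreg : IsRegularLocalRing (YR.left.presheaf.stalk y)) :
    IsRegularLocalRing (YR.left.presheaf.stalk y ⧸
      Ideal.map (Models.stalkHom R YR y) (IsLocalRing.maximalIdeal R)) := by
  subst hy
  let φ := (Scheme.stalkClosedPointTo σ).hom
  haveI : IsLocalHom φ := Scheme.isLocalHom_stalkClosedPointTo' σ
  have hφ : ∀ t : R, φ (Models.stalkHom R YR _ t) = algebraMap R V t := by
    intro t
    show (YR.left.presheaf.germ ⊤ _ trivial ≫ Scheme.stalkClosedPointTo σ)
      (YR.hom.appTop ((Scheme.ΓSpecIso (CommRingCat.of R)).inv t)) = _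
    rw [Scheme.stalkClosedPointTo, Scheme.Hom.germ_stalkMap_assoc]
    simp_rw [Opens.map_top]
    rw [germ_stalkClosedPointIso_hom,
      ← CommRingCat.comp_apply, ← CommRingCat.comp_apply]
    change ((Scheme.ΓSpecIso (CommRingCat.of R)).inv ≫ (YR.hom.appTop ≫ σ.appTop) ≫ (Scheme.ΓSpecIso (CommRingCat.of V)).hom) t = _
    rw [← Scheme.Hom.comp_appTop, hσ, Scheme.ΓSpecIso_naturality, Iso.inv_hom_id_assoc]
    rfl
  obtain ⟨ϖ, hϖ⟩ := IsDiscreteValuationRing.exists_irreducible R
  have hmax : IsLocalRing.maximalIdeal R = Ideal.span {ϖ} := hϖ.maximalIdeal_eq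
  have hvmax : IsLocalRing.maximalIdeal V = Ideal.span {algebraMap R V ϖ} := by
    rw [← hV, hmax, Ideal.map_span, Set.image_singleton]
  set t := Models.stalkHom R YR (σ.base (IsLocalRing.closedPoint V)) ϖ with ht
  have hvne : algebraMap R V ϖ ≠ 0 := fun h => IsDiscreteValuationRing.not_a_field V (by
    rw [hvmax, h]; simp)
  have htm : t ∈ IsLocalRing.maximalIdeal _ := fun hu => by
    have := hu.map φ
    rw [hφ] at this
    exact (IsLocalRing.mem_maximalIdeal _).1 (hvmax ▸ Ideal.mem_span_singleton_self _) this
  have htm2 : t ∉ IsLocalRing.maximalIdeal _ ^ 2 := fun h2 => by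
    have h3 := Ideal.mem_map_of_mem φ h2
    rw [Ideal.map_pow, hφ] at h3
    have h4 : algebraMap R V ϖ ∈ IsLocalRing.maximalIdeal V ^ 2 :=
      Ideal.pow_right_mono (IsLocalRing.map_maximalIdeal_le φ) 2 h3
    rw [hvmax, Ideal.span_singleton_pow, Ideal.mem_span_singleton] at h4
    obtain ⟨c, hc⟩ := h4
    have h5 : IsUnit (algebraMap R V ϖ) := .of_mul_eq_one c (mul_left_cancel₀ hvne (by rw [mul_one]; linear_combination -hc))
    exact (IsLocalRing.mem_maximalIdeal _).1 (hvmax ▸ Ideal.mem_span_singleton_self _) h5
  have e : Ideal.map (Models.stalkHom R YR (σ.base (IsLocalRing.closedPoint V))) (IsLocalRing.maximalIdeal R) =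
      Ideal.span (Set.range ![t]) := by
    rw [hmax, Ideal.map_span, Set.image_singleton]
    simp [t]
  rw [e]
  haveI := hreg
  haveI : Nontrivial (YR.left.presheaf.stalk (σ.base (IsLocalRing.closedPoint V)) ⧸ Ideal.span (Set.range ![t])) :=
    Ideal.Quotient.nontrivial_iff.2 fun h => (IsLocalRing.maximalIdeal.isMaximal
      (YR.left.presheaf.stalk (σ.base (IsLocalRing.closedPoint V)))).ne_top <| top_unique <| by
      rw [← h, Ideal.span_le, Set.range_subset_iff]
      intro j
      fin_cases j
      exact htm
  haveI : IsLocalRing (YR.left.presheaf.stalk (σ.base (IsLocalRing.closedPoint V)) ⧸ Ideal.span (Set.range ![t])) :=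
    IsLocalRing.of_surjective' _ Ideal.Quotient.mk_surjective
  refine EGA41Nagata.isRegularLocalRing_quotient_of_indep ![t] (fun j => by fin_cases j; exact htm) ?_
  refine LinearIndependent.of_subsingleton 0 ?_
  intro h
  exact htm2 ((Ideal.toCotangent_eq_zero _ _).1 h)

end Groth.Agent.S19912
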