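import Groth.Statements.S19913
import Groth.Agent.RedCartan.Global
import Groth.Agent.MTSub.Basic
import Groth.Agent.UnipTor.Main
import Groth.Agent.MTBridge.ExtCentral
import Groth.Agent.Rigid.FibreTranslate
-- import your own Groth.Agent.* helpers here

set_option autoImplicit false
universe u
open CategoryTheory MonoidalCategory CartesianMonoidalCategory MonObj GrpObj AlgebraicGeometry
open AGF

set_option backward.isDefEq.respectTransparency false

namespace Groth.Agent.S19913

open Groth.Agent

/-- Let p be a prime, k a field of characteristic p, G a reductive k-group scheme (affine, smooth,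
connected reductive geometric fibre), z : Z ⟶ G its scheme-theoretic centre, and u : U ⟶ G a closed
subgroup scheme which is affine, smooth and connected and whose geometric fibre contains no
non-trivial subtorus (a smooth connected unipotent k-subgroup). Then Z ∩ U = 1 scheme-theoretically:
for every k-scheme X and all X-valued points a of Z and b of U with the same image in G(X), that
image is the identity. (The published assertion allows any smooth unipotent k-subgroup U; it is
stated here for connected U. The consequence that U maps by a closed immersion into the quotient of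
G by Z is not restated.) -/
theorem result (p : ℕ) [Fact p.Prime]
    (k : Type u) [Field k] [CharP k p]
    (G : Over (Spec (CommRingCat.of k))) [GrpObj G] (hG : Red.IsReductive G)
    (Z : Over (Spec (CommRingCat.of k))) [GrpObj Z] (z : Z ⟶ G) (hz : Red.IsCentre z)
    (U : Over (Spec (CommRingCat.of k))) [GrpObj U] [IsAffine U.left] [Smooth U.hom] [ConnectedSpace ↥U.left]
    (hU : ∀ s : ↥(Spec (CommRingCat.of k)),
      Red.HasNoSubtorus (AlgebraicClosure ((Spec (CommRingCat.of k)).residueField s)) (Red.geomFibre s U))
    (u : U ⟶ G) [IsMonHom u] (hu : IsClosedImmersion u.left)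
    (X : Over (Spec (CommRingCat.of k))) (a : X ⟶ Z) (b : X ⟶ U) (hab : a ≫ z = b ≫ u) :
    b ≫ u = 1 := by
  obtain ⟨hGa, hGs, -⟩ := id hG
  haveI := hGa; haveI := hGs; haveI := hz.1; haveI := hz.2.1; haveI := hu
  obtain ⟨Z', hZ'g, z', hz', hzc', hmt⟩ := RedCartan.exists_centre_of_isReductive hG
  haveI := hz'.1; haveI := hz'.2.1; haveI := hzc'
  obtain ⟨a', ha'⟩ := (hz'.2.2 X (a ≫ z)).2 ((hz.2.2 X (a ≫ z)).1 ⟨a, rfl⟩)
  rw [hab] at ha'
  haveI : Mono u := (Over.forget _).mono_of_mono_map (show Mono u.left from inferInstance)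
  let W : Over (Spec (CommRingCat.of k)) := Over.mk (Limits.pullback.fst u.left z'.left ≫ U.hom)
  let j : W ⟶ U := Over.homMk (Limits.pullback.fst u.left z'.left) rfl
  haveI : IsClosedImmersion j.left := inferInstanceAs (IsClosedImmersion (Limits.pullback.fst u.left z'.left))
  haveI : Mono j := (Over.forget _).mono_of_mono_map (show Mono j.left from inferInstance)
  let c : W ⟶ Z' := Over.homMk (Limits.pullback.snd u.left z'.left) (by
    show _ = Limits.pullback.fst u.left z'.left ≫ U.hom
    rw [← Over.w z', ← Category.assoc, ← Limits.pullback.condition, Category.assoc, Over.w u])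
  have hc : c ≫ z' = j ≫ u := Over.OverMorphism.ext Limits.pullback.condition.symm
  haveI : IsClosedImmersion c.left := inferInstanceAs (IsClosedImmersion (Limits.pullback.snd u.left z'.left))
  haveI : Mono c := (Over.forget _).mono_of_mono_map (show Mono c.left from inferInstance)
  have hfac : ∀ {Y : Over (Spec (CommRingCat.of k))} (x : Y ⟶ U) (y : Y ⟶ Z'), y ≫ z' = x ≫ u →
      ∃ w : Y ⟶ W, w ≫ j = x := fun {Y} x y h => by
    have w : x.left ≫ u.left = y.left ≫ z'.left := by rw [← Over.comp_left, ← Over.comp_left, h]
    refine ⟨Over.homMk (Limits.pullback.lift x.left y.left w) ?_, Over.OverMorphism.ext (Limits.pullback.lift_fst _ _ _)⟩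
    show _ ≫ Limits.pullback.fst u.left z'.left ≫ U.hom = _
    rw [Limits.pullback.lift_fst_assoc, Over.w x]
  obtain ⟨hWg, hjm⟩ := MTBridge.exists_grpObj_of_div j (hfac η[U] η[Z'] (by rw [IsMonHom.one_hom, IsMonHom.one_hom]))
    fun T k₁ k₂ => hfac _ ((k₁ ≫ c)⁻¹ * (k₂ ≫ c)) (by
      simp only [MonObj.mul_comp, GrpObj.inv_comp, Category.assoc, hc])
  haveI := hjm
  haveI : IsMonHom (j ≫ u) := inferInstance
  haveI : IsMonHom c := MTSplit.isMonHom_of_comp_mono c z' (j ≫ u) hc
  obtain ⟨w, hw⟩ := hfac b a' ha'
  suffices j = 1 by rw [← hw, this, MonObj.comp_one, MonObj.one_comp]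
  -- of multiplicative type
  haveI := Groth.Agent.MTFT.locallyOfFiniteType _ hmt
  haveI : LocallyOfFiniteType W.hom := inferInstanceAs (LocallyOfFiniteType (j.left ≫ U.hom))
  haveI : Flat W.hom := inferInstance
  haveI : LocallyOfFinitePresentation W.hom := inferInstance
  have hW : SGA3x.IsMultTypeFT W := MTSub.isMultTypeFT_of_closed W Z' hmt c
  let s : Spec (CommRingCat.of k) := IsLocalRing.closedPoint k
  let q := Red.geomPt s
  haveI : GeometricallyConnected U.hom :=
    Rigid.geometricallyConnected_of_section U.hom (η[U]).left (Over.w η[U])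
  haveI : ConnectedSpace (Red.bc q U).left :=
    GeometricallyConnected.geometrically_connectedSpace (f := U.hom) q (Limits.pullback.fst _ _) (Limits.pullback.snd _ _)
      (IsPullback.of_hasPullback _ _)
  haveI : Smooth (Red.bc q U).hom := inferInstanceAs (Smooth (Limits.pullback.snd U.hom q))
  haveI : IsAffineHom U.hom := isAffineHom_of_isAffine _
  haveI : IsAffineHom (Red.bc q U).hom := MorphismProperty.pullback_snd (P := @IsAffineHom) _ _ ‹IsAffineHom U.hom›
  haveI : IsAffine (Red.bc q U).left := isAffine_of_isAffineHom (Red.bc q U).hom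
  have h1 : (Over.pullback q).map j = 1 :=
    UnipTor.eq_one_of_hasNoSubtorus (hU s) (MTBridge.isMultTypeFT_bc W q hW) _
  haveI : Flat q := by
    rw [← Spec.map_preimage q, Flat.SpecMap_iff]
    letI := (Spec.preimage q).hom.toAlgebra
    exact RingHom.flat_algebraMap_iff.2 (inferInstanceAs (Module.Flat k _))
  haveI : Surjective q := ⟨fun _ => ⟨IsLocalRing.closedPoint _, Subsingleton.elim (α := PrimeSpectrum k) _ _⟩⟩
  have h2 : (Over.pullback (𝟙 (Spec (CommRingCat.of k)))).map j = 1 := by
    refine MTBridge.map_eq_one_of_ff j (𝟙 _) q ?_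
    rw [Category.comp_id]
    exact h1
  apply (Over.pullback (𝟙 (Spec (CommRingCat.of k)))).map_injective
  rw [h2, Functor.map_one]

end Groth.Agent.S19913
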