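import Groth.Statements.S19919
import Groth.Agent.DPowLib.Ext
-- import your own Groth.Agent.* helpers here

set_option autoImplicit false
universe u v w
open DPow

namespace Groth.Agent.S19919

/-- Let R be a commutative ring and P = R⟨X_1, …, X_N⟩ the divided power polynomial algebra over R,
presented concretely as an R-algebra P with elements x i n = X_i^[n] (i < N, n ≥ 0) such that
X_i^[0] = 1, X_i^[n] · X_i^[m] = C(n+m, n) X_i^[n+m], and the monomials ∏_i X_i^[e_i] form an
R-basis of P; let P_+ be the ideal generated by the X_i^[n] with n ≥ 1 and γ the divided power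
structure on P_+ with γ_n(X_i^[1]) = X_i^[n]. Then (P, P_+, γ) is the free divided power R-algebra
on N variables: for every commutative R-algebra S, every ideal J of S with a divided power structure
δ and every family s_1, …, s_N of elements of J there is exactly one R-algebra homomorphism φ : P →
S that is a divided power morphism from (P_+, γ) to (J, δ) and satisfies φ(X_i^[1]) = s_i for all i. -/
theorem result (R : Type u) [CommRing R] (N : ℕ)
    (P : Type v) [CommRing P] [Algebra R P] (x : Fin N → ℕ → P)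
    (hx0 : ∀ i, x i 0 = 1)
    (hxmul : ∀ i n m, x i n * x i m = ((n + m).choose n : P) * x i (n + m))
    (b : Module.Basis (Fin N →₀ ℕ) R P) (hb : ∀ e : Fin N →₀ ℕ, b e = e.prod (fun i k => x i k))
    (γ : DividedPowers (Ideal.span {y : P | ∃ (i : Fin N) (n : ℕ), 1 ≤ n ∧ y = x i n}))
    (hγ : ∀ (i : Fin N) (n : ℕ), γ.dpow n (x i 1) = x i n)
    (S : Type w) [CommRing S] [Algebra R S] (J : Ideal S) (δ : DividedPowers J)
    (s : Fin N → S) (hs : ∀ i, s i ∈ J) :
    ∃! φ : P →ₐ[R] S, γ.IsDPMorphism δ φ.toRingHom ∧ ∀ i, φ (x i 1) = s i := by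
  obtain ⟨φ, hφ⟩ := Groth.Agent.DPowLib.exists_desc hx0 hxmul b hb (fun i n => δ.dpow n (s i))
    (fun i => δ.dpow_zero (hs i))
    (fun i n m => δ.mul_dpow (hs i))
  have key := Groth.Agent.DPowLib.map_dpow γ hγ J δ.dpow (fun y hy => δ.dpow_zero hy)
    (fun n y y' hy hy' => δ.dpow_add hy hy') (fun n a y hy => δ.dpow_mul hy) φ.toRingHom
    (fun i n hn => by
      change φ (x i n) ∈ J
      rw [hφ]
      exact δ.dpow_mem (by omega) (hs i))
    (fun m n i hn => by
      change δ.dpow m (φ (x i n)) = (Nat.uniformBell m n : S) * φ (x i (m * n))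
      rw [hφ, hφ]
      exact δ.dpow_comp (by omega) (hs i))
  have hx1 : ∀ i, x i 1 ∈ Ideal.span {y : P | ∃ (i : Fin N) (n : ℕ), 1 ≤ n ∧ y = x i n} :=
    fun i => Ideal.subset_span ⟨i, 1, le_rfl, rfl⟩
  refine ⟨φ, ⟨⟨Ideal.map_le_iff_le_comap.mpr fun u hu => (key u hu).1,
    fun {n} a ha => ((key a ha).2 n).symm⟩, fun i => by rw [hφ]; exact δ.dpow_one (hs i)⟩, ?_⟩
  rintro ψ ⟨hψ, hψ1⟩
  refine Groth.Agent.DPowLib.algHom_ext hx0 b hb fun i n => ?_
  have h := hψ.dpow_comp (n := n) (x i 1) (hx1 i)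
  rw [hγ] at h
  rw [hφ, ← hψ1 i]
  exact h.symm


end Groth.Agent.S19919
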