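import Groth.Statements.S1992
import Mathlib

set_option autoImplicit false
universe u
open Polynomial
open EtAlg

namespace Groth.Agent.S1992

theorem split_localization {A : Type u} [CommRing A]
    (hA : ∀ f : A[X], f.Monic → ∃ s : Multiset A, f = (s.map fun a => X - C a).prod)
    (p : Ideal A) [p.IsPrime] (f : (Localization.AtPrime p)[X]) (hf : f.Monic) :
    ∃ t : Multiset (Localization.AtPrime p), f = (t.map fun r => X - C r).prod := by
  obtain ⟨b, hb⟩ := IsLocalization.exist_integer_multiples_of_finite p.primeCompl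
    (fun i : Fin f.natDegree => f.coeff i)
  set φ := algebraMap A (Localization.AtPrime p)
  set s := φ b with hs
  obtain ⟨u, hu⟩ : IsUnit s := IsLocalization.map_units _ b
  have hint : ∀ i : Fin f.natDegree, ∃ a : A, φ a = f.coeff i * s ^ (f.natDegree - i) := fun i => by
    obtain ⟨c, hc⟩ := hb i
    refine ⟨c * (b : A) ^ (f.natDegree - i - 1), ?_⟩
    have hc' : φ c = s * f.coeff i := by rw [hc, Algebra.smul_def]
    rw [map_mul, map_pow, hc', mul_comm s, mul_assoc, ← hs, ← pow_succ',
      show f.natDegree - (i : ℕ) - 1 + 1 = f.natDegree - i by omega]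
  choose a ha using hint
  set g : A[X] := X ^ f.natDegree + ∑ i : Fin f.natDegree, C (a i) * X ^ (i : ℕ) with hg
  have hgm : g.Monic := monic_X_pow_add (degree_sum_fin_lt a)
  have hgf : (g.map φ).comp (C s * X) = C (s ^ f.natDegree) * f := by
    conv_rhs => arg 2; rw [hf.as_sum, ← Fin.sum_univ_eq_sum_range (fun i => C (f.coeff i) * X ^ i)]
    rw [mul_add, Finset.mul_sum]
    simp only [hg, Polynomial.map_add, Polynomial.map_sum, Polynomial.map_mul, map_C, Polynomial.map_pow, map_X,
      add_comp, Polynomial.sum_comp, mul_comp, C_comp, pow_comp, X_comp, ha]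
    rw [mul_pow, ← C_pow]
    refine congrArg₂ (· + ·) rfl ?_
    refine Finset.sum_congr rfl fun i _ => ?_
    rw [mul_pow, ← C_pow, ← mul_assoc, ← mul_assoc, ← C_mul, ← C_mul, mul_assoc, ← pow_add,
      Nat.sub_add_cancel i.2.le, mul_comm (f.coeff i)]
  obtain ⟨t, ht⟩ := hA g hgm
  have hcard : t.card = f.natDegree := by
    haveI : Nontrivial A := nontrivial_of_ne 1 0 fun h => p.primeCompl.one_mem (by rw [h]; exact p.zero_mem)
    rw [← natDegree_multiset_prod_X_sub_C_eq_card t, ← ht, hg]
    exact natDegree_eq_of_degree_eq_some (by rw [degree_add_eq_left_of_degree_lt (by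
      rw [degree_X_pow]; exact degree_sum_fin_lt a), degree_X_pow])
  have key : ∀ t : Multiset A, ((t.map fun x => X - C x).prod.map φ).comp (C s * X) =
      C (s ^ t.card) * ((t.map fun x => φ x * ↑u⁻¹).map fun r => X - C r).prod := by
    intro t
    induction t using Multiset.induction_on with
    | empty => simp
    | cons x t ih =>
      have hx : C s * X - C (φ x) = C s * (X - C (φ x * (↑u⁻¹ : Localization.AtPrime p))) := by
        rw [mul_sub, ← C_mul, ← hu, mul_left_comm, Units.mul_inv, mul_one]
      simp only [Multiset.map_cons, Multiset.prod_cons, Multiset.card_cons, Polynomial.map_mul,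
        Polynomial.map_sub, map_X, map_C, mul_comp, sub_comp, X_comp, C_comp, ih, hx, pow_succ, C_mul]
      ring
  refine ⟨t.map fun x => φ x * ↑u⁻¹, ((u.isUnit.pow f.natDegree).map C).mul_left_cancel ?_⟩
  rw [hu, ← hgf, ht, key, hcard]


/-- Let A be an absolutely integrally closed ring, i.e. every monic polynomial over A is a product of
linear factors X - a. Then for every prime p of A the localization A_p is a strictly henselian local
ring (henselian with separably closed residue field). -/
theorem result (A : Type u) [CommRing A]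
    (hA : ∀ f : A[X], f.Monic → ∃ s : Multiset A, f = (s.map fun a => X - C a).prod)
    (p : Ideal A) [p.IsPrime] :
    EtCoh.IsStrictlyHenselianLocalRing (Localization.AtPrime p) := by
  classical
  set R := Localization.AtPrime p
  have hroot : ∀ f : R[X], f.Monic → ∀ a₀ : R, f.eval a₀ ∈ IsLocalRing.maximalIdeal R →
      ∃ a : R, f.IsRoot a ∧ a - a₀ ∈ IsLocalRing.maximalIdeal R := by
    intro f hf a₀ h0
    obtain ⟨t, rfl⟩ := split_localization hA p f hf
    rw [eval_multiset_prod, Multiset.map_map] at h0
    obtain ⟨r, hr, hr'⟩ : ∃ r ∈ t, a₀ - r ∈ IsLocalRing.maximalIdeal R := by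
      obtain ⟨z, hz, hz'⟩ := (Ideal.IsPrime.multiset_prod_mem_iff_exists_mem inferInstance _).1 h0
      obtain ⟨r, hr, rfl⟩ := Multiset.mem_map.1 hz
      exact ⟨r, hr, by simpa using hz'⟩
    refine ⟨r, ?_, by simpa using neg_mem hr'⟩
    rw [IsRoot.def, eval_multiset_prod, Multiset.map_map]
    exact Multiset.prod_eq_zero (Multiset.mem_map.2 ⟨r, hr, by simp⟩)
  haveI hH : HenselianLocalRing R := { is_henselian := fun f hf a₀ h0 _ => hroot f hf a₀ h0 }
  haveI : IsAlgClosed (IsLocalRing.ResidueField R) := IsAlgClosed.of_exists_root _ fun q hq hirr => by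
    obtain ⟨f, hfq, hdeg, hf⟩ := lifts_and_degree_eq_and_monic
      ((lifts_iff_coeff_lifts q).2 fun n => IsLocalRing.residue_surjective _) hq
    obtain ⟨t, rfl⟩ := split_localization hA p f hf
    rcases t.empty_or_exists_mem with rfl | ⟨r, hr⟩
    · simp only [Multiset.map_zero, Multiset.prod_zero, Polynomial.map_one] at hfq
      exact absurd (hfq ▸ hirr) not_irreducible_one
    · refine ⟨IsLocalRing.residue R r, ?_⟩
      rw [← hfq, eval_map_apply, eval_multiset_prod, Multiset.map_map]
      rw [Multiset.prod_eq_zero (Multiset.mem_map.2 ⟨r, hr, by simp⟩), map_zero]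
  exact ⟨hH, inferInstance⟩

end Groth.Agent.S1992
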