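import Groth.Statements.S19920
import Groth.Agent.IndexMult.Slice
import Groth.Agent.IndexMult.Index

set_option linter.style.haveILetI false
set_option synthInstance.maxHeartbeats 200000
set_option maxHeartbeats 1000000
set_option backward.isDefEq.respectTransparency false
set_option backward.isDefEq.respectTransparency.types false

set_option autoImplicit false
universe u
open CategoryTheory CategoryTheory.Limits AlgebraicGeometry
open Models

namespace Groth.Agent.S19920

/-- Let R be a discrete valuation ring that is Henselian, whose residue field k is algebraically closed,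
with fraction field K, and let 𝒳 be an R-scheme of finite type, flat over R, whose generic fibre is
X (𝒳 is a model of the K-scheme X) and special fibre Y = 𝒳 ⊗_R k. Then the index of X over K (the
greatest common divisor of the degrees of its closed points) divides the multiplicity of Y (the
greatest common divisor of the lengths of the local rings of Y at its points of codimension 0): for
every point η of Y which is maximal for specialization, the local ring O_{Y,η} has finite length ℓ
and ℓ lies in the subgroup of ℤ generated by the degrees of the closed points of X. -/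
theorem result (R : Type u) [CommRing R]
    [IsDomain R] [IsDiscreteValuationRing R] [HenselianLocalRing R] (hk : IsAlgClosed (IsLocalRing.ResidueField R))
    (X : Scheme.{u}) (f : X ⟶ Spec (CommRingCat.of (FractionRing R)))
    (𝒳 : Scheme.{u}) (p : 𝒳 ⟶ Spec (CommRingCat.of R)) (h𝒳 : Models.IsModel R 𝒳 p X f)
    (η : ↥(Models.specialFibre R 𝒳 p)) (hη : ∀ y : ↥(Models.specialFibre R 𝒳 p), y ⤳ η → y = η) :
    ∃ ℓ : ℕ, Module.length ((Models.specialFibre R 𝒳 p).presheaf.stalk η) ((Models.specialFibre R 𝒳 p).presheaf.stalk η) = ℓ ∧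
      (ℓ : ℤ) ∈ Curv2.indexSubgroup f := by
  classical
  obtain ⟨hflat, hft, -, i, hi⟩ := h𝒳
  haveI := hflat
  haveI := hft
  haveI : LocallyOfFiniteType f := MorphismProperty.of_isPullback (P := @LocallyOfFiniteType) hi hft
  haveI : IsAlgClosed (IsLocalRing.ResidueField R) := hk
  let g := Spec.map (CommRingCat.ofHom (algebraMap R (IsLocalRing.ResidueField R)))
  let x : 𝒳 := pullback.fst p g η
  obtain ⟨W, hWaff, hxW, -⟩ := exists_isAffineOpen_mem_and_subset (U := (⊤ : 𝒳.Opens)) (x := x) trivial
  let A := Γ(𝒳, W)
  letI : Algebra R A := ((Scheme.ΓSpecIso (CommRingCat.of R)).inv ≫ p.appLE ⊤ W le_top).hom.toAlgebra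
  have hfs : hWaff.fromSpec ≫ p = Spec.map (CommRingCat.ofHom (algebraMap R A)) := by
    rw [← IsAffineOpen.SpecMap_appLE_fromSpec p (isAffineOpen_top _) hWaff le_top]
    simp only [RingHom.algebraMap_toAlgebra, CommRingCat.ofHom_hom, Spec.map_comp,
      IsAffineOpen.fromSpec_top, Scheme.isoSpec_Spec_inv]
  haveI : Module.Flat R A := by
    have : Flat (Spec.map (CommRingCat.ofHom (algebraMap R A))) := hfs ▸ inferInstance
    exact RingHom.flat_algebraMap_iff.1 ((HasRingHomProperty.Spec_iff (P := @Flat)).1 this)
  haveI : Algebra.FiniteType R A := by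
    have : LocallyOfFiniteType (Spec.map (CommRingCat.ofHom (algebraMap R A))) := hfs ▸ inferInstance
    exact RingHom.finiteType_algebraMap.1 ((HasRingHomProperty.Spec_iff (P := @LocallyOfFiniteType)).1 this)
  -- the special fibre over `W`
  let I0 := (IsLocalRing.maximalIdeal R).map (algebraMap R A)
  let B := A ⧸ I0
  let T := TensorProduct R A (IsLocalRing.ResidueField R)
  let e : B ≃+* T := (Algebra.TensorProduct.quotIdealMapEquivTensorQuot A (IsLocalRing.maximalIdeal R)).toRingEquiv
  let m := pullback.map (Spec.map (CommRingCat.ofHom (algebraMap R A))) g p g hWaff.fromSpec (𝟙 _) (𝟙 _)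
    (by rw [Category.comp_id, hfs]) (by simp)
  let j : Spec (CommRingCat.of B) ⟶ Models.specialFibre R 𝒳 p :=
    Spec.map e.toCommRingCatIso.inv ≫ (pullbackSpecIso R A (IsLocalRing.ResidueField R)).inv ≫ m
  haveI : IsOpenImmersion m := MorphismProperty.pullbackMap (P := @IsOpenImmersion) inferInstance inferInstance
    hfs.symm (Category.id_comp _).symm
  haveI : IsOpenImmersion j := inferInstance
  obtain ⟨z, hz⟩ : η ∈ Set.range j := by
    have hsurj : Function.Surjective (Spec.map e.toCommRingCatIso.inv ≫
        (pullbackSpecIso R A (IsLocalRing.ResidueField R)).inv) :=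
      (Spec.map e.toCommRingCatIso.inv ≫ (pullbackSpecIso R A (IsLocalRing.ResidueField R)).inv).surjective
    have : η ∈ Set.range m := by
      simp only [m]
      rw [Scheme.Pullback.range_map]
      refine ⟨?_, ⟨_, rfl⟩⟩
      change x ∈ Set.range hWaff.fromSpec
      rw [hWaff.range_fromSpec]
      exact hxW
    obtain ⟨y, hy⟩ := this
    obtain ⟨z, rfl⟩ := hsurj y
    exact ⟨z, hy⟩
  let P := z.asIdeal.comap (Ideal.Quotient.mk I0)
  have hzP : P.map (Ideal.Quotient.mk I0) = z.asIdeal :=
    Ideal.map_comap_of_surjective _ Ideal.Quotient.mk_surjective _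
  have hI0P : I0 ≤ P := fun a ha => by
    rw [Ideal.mem_comap, Ideal.Quotient.eq_zero_iff_mem.2 ha]; exact zero_mem _
  haveI := z.isPrime
  haveI hPp : P.IsPrime := Ideal.IsPrime.comap _
  have hP : P ∈ I0.minimalPrimes := by
    refine ⟨⟨hPp, hI0P⟩, fun Q hQ hQP => ?_⟩
    haveI := hQ.1
    haveI hQb : (Q.map (Ideal.Quotient.mk I0)).IsPrime := Ideal.isPrime_map_quotientMk_of_isPrime hQ.2
    let y : Spec (CommRingCat.of B) := ⟨Q.map (Ideal.Quotient.mk I0), hQb⟩
    have hyz : y ⤳ z := (PrimeSpectrum.le_iff_specializes y z).1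
      (show Q.map (Ideal.Quotient.mk I0) ≤ z.asIdeal from Ideal.map_le_iff_le_comap.2 hQP)
    have hjy : j y = η := hη _ (hz ▸ hyz.map j.continuous)
    have hyz' : y = z := j.isOpenEmbedding.injective (hjy.trans hz.symm)
    intro a ha
    have h1 : Ideal.Quotient.mk I0 a ∈ y.asIdeal := hyz' ▸ (ha : Ideal.Quotient.mk I0 a ∈ z.asIdeal)
    exact (Ideal.mem_quotient_iff_mem hQ.2).1 h1
  obtain ⟨ℓ, M, _, _, hMfin, hMfree, hMrank, ⟨φ⟩, hlen⟩ := IndexMult.exists_finiteFree hk P hP
  refine ⟨ℓ, ?_, ?_⟩
  · rw [← hlen]
    subst hz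
    haveI : (P.map (Ideal.Quotient.mk I0)).IsPrime := hzP.symm ▸ z.isPrime
    haveI : IsLocalization.AtPrime
        (Localization.AtPrime P ⧸ I0.map (algebraMap A (Localization.AtPrime P))) z.asIdeal := by
      have := IndexMult.isLocalization_atPrime_quotient I0 P hI0P (Localization.AtPrime P)
      convert! this using 2
      exact hzP.symm
    refine (IndexMult.length_self_of_ringEquiv (asIso (j.stalkMap z)).commRingCatIsoToRingEquiv).trans ?_
    exact IndexMult.length_self_of_ringEquiv
      (L := (Spec.structureSheaf B).presheaf.stalk z)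
      (IsLocalization.algEquiv z.asIdeal.primeCompl ((Spec.structureSheaf B).presheaf.stalk z)
        (Localization.AtPrime P ⧸ I0.map (algebraMap A (Localization.AtPrime P)))).toRingEquiv
  · let L := TensorProduct R (FractionRing R) M
    let ψ : A →+* L := (Algebra.TensorProduct.includeRight : M →ₐ[R] L).toRingHom.comp φ.toRingHom
    have hψ : ψ.comp (algebraMap R A) = (algebraMap (FractionRing R) L).comp (algebraMap R (FractionRing R)) :=
      ((Algebra.TensorProduct.includeRight.comp φ).comp_algebraMap).trans
        (IsScalarTower.algebraMap_eq R (FractionRing R) L)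
    let g' : Spec (CommRingCat.of L) ⟶ X := hi.lift (Spec.map (CommRingCat.ofHom ψ) ≫ hWaff.fromSpec)
      (Spec.map (CommRingCat.ofHom (algebraMap (FractionRing R) L))) (by
        rw [Category.assoc, hfs, ← Spec.map_comp, ← Spec.map_comp, ← CommRingCat.ofHom_comp,
          ← CommRingCat.ofHom_comp, hψ])
    have := IndexMult.finrank_mem_indexSubgroup f L g' (hi.lift_snd _ _ _)
    rwa [Module.finrank_baseChange, hMrank] at this

end Groth.Agent.S19920
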