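import Groth.Statements.S19922
import Groth.Agent.Assoc2.Bundle
import Groth.Agent.Assoc2.Isotrivial
import Groth.Agent.Assoc2.FAF
import Groth.Agent.Assoc2.ProdTorsor
import Groth.Agent.Assoc.TorsorSquare
import Groth.Agent.Sumihiro.Main

set_option autoImplicit false
set_option linter.style.haveILetI false
universe u
open CategoryTheory MonoidalCategory CartesianMonoidalCategory MonObj GrpObj AlgebraicGeometry Topology
open EqInt

namespace Groth.Agent.S19922

/-- Over an algebraically closed field k, let G be a connected linear algebraic group (an affine,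
smooth, connected k-group scheme of finite type) acting on a scheme U (quasi-separated, of finite
type) with a principal bundle quotient π : U → B (π is G-invariant, flat and surjective, B is
quasi-separated of finite type, and (σ, p₂) : G × U → U ×_B U is an isomorphism). Let Y be a normal
variety over k (integral, normal, separated, of finite type) with an action of G, and let j : X → Y
be a G-equivariant closed immersion, X a quasi-separated k-scheme of finite type with a G-action.
Then the diagonal action of G on X × U admits a principal bundle quotient X × U → Q in the category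
of schemes over k: a G-invariant, flat, surjective ρ with (σ, p₂) : G × (X × U) → (X × U) ×_Q (X ×
U) an isomorphism. (The published statement is over an arbitrary field, and its normal variety may
be a non-separated integral algebraic space; this row takes k algebraically closed and Y a separated
normal integral scheme.) -/
theorem result (k : Type u) [Field k] [IsAlgClosed k]
    (G X Y U B : Over (Spec (CommRingCat.of k))) [GrpObj G] [IsAffine G.left] [LocallyOfFiniteType G.hom]
    [Smooth G.hom] [ConnectedSpace ↥G.left]
    [LocallyOfFiniteType X.hom] [QuasiCompact X.hom] [QuasiSeparated X.hom]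
    [IsIntegral Y.left] [IsSeparated Y.hom] [LocallyOfFiniteType Y.hom] [QuasiCompact Y.hom]
    (hY : Pi1.IsNormalScheme Y.left)
    [LocallyOfFiniteType U.hom] [QuasiCompact U.hom] [QuasiSeparated U.hom]
    [LocallyOfFiniteType B.hom] [QuasiCompact B.hom] [QuasiSeparated B.hom]
    (aX : AlgGrp.Action G X) (aY : AlgGrp.Action G Y) (j : X ⟶ Y) [IsClosedImmersion j.left]
    (hj : AlgGrp.Action.IsEquivariant aX aY j)
    (b : AlgGrp.Action G U) (π : U ⟶ B) (hinv : GIT.IsInvariant b π)
    [Flat π.left] [Surjective π.left] (hcart : IsIso (GIT.PsiY b π hinv)) :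
    ∃ (Q : Over (Spec (CommRingCat.of k))) (ρ : X ⊗ U ⟶ Q) (hρ : GIT.IsInvariant (aX.prod b) ρ),
      Flat ρ.left ∧ Surjective ρ.left ∧ IsIso (GIT.PsiY (aX.prod b) ρ hρ) := by
  haveI : LocallyOfFiniteType Y.hom := inferInstance
  have hsq : CategoryTheory.IsPullback b.act.left (snd G U).left π.left π.left := Groth.Agent.Assoc.sq_of_psiY hcart
  haveI : QuasiCompact π.left := Groth.Agent.Assoc.quasiCompact_left π
  obtain ⟨W, φ, ψ, heq, hpb⟩ := Groth.Agent.Assoc2.exists_bundle b aX π hsq
    (Groth.Agent.Assoc2.finEtSec_torsor b π hsq) (fun x => by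
      obtain ⟨Y', hy, hst, L, hL⟩ := Groth.Agent.Sumihiro.exists_stable_ample hY aY (j.left x)
      refine ⟨j.left ⁻¹ᵁ Y', hy, ?_, Groth.Agent.Assoc2.FAF.of_isAffineHom (j.left ∣_ Y')
        (Groth.Agent.Assoc2.FAF.of_isAmple hL)⟩
      rw [← Scheme.Hom.comp_preimage, ← Scheme.Hom.comp_preimage, ← Over.comp_left, ← Over.comp_left,
        show aX.act ≫ j = (G ◁ j) ≫ aY.act from hj, Over.comp_left, Scheme.Hom.comp_preimage, hst,
        ← Scheme.Hom.comp_preimage, ← Over.comp_left, whiskerLeft_snd])
  have hinvP := Groth.Agent.Assoc2.isInvariant_prod b aX φ heq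
  have hT := Groth.Agent.Assoc2.isPullback_prod_act b aX π hsq φ ψ hinvP hpb
  let e : X ⊗ U ≅ U ⊗ X :=
    ⟨lift (snd X U) (fst X U), lift (snd U X) (fst U X),
      CartesianMonoidalCategory.hom_ext _ _ (by simp) (by simp),
      CartesianMonoidalCategory.hom_ext _ _ (by simp) (by simp)⟩
  have he : (aX.prod b).act ≫ e.hom = (G ◁ e.hom) ≫ (b.prod aX).act := by
    rw [AlgGrp.Action.prod_act, AlgGrp.Action.prod_act, comp_lift, lift_snd, lift_fst, comp_lift,
      ← MonoidalCategory.whiskerLeft_comp_assoc, ← MonoidalCategory.whiskerLeft_comp_assoc, lift_fst, lift_snd]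
  have hT' := Groth.Agent.Assoc2.isPullback_act_of_iso (c' := aX.prod b) e hT he
  refine ⟨W, e.hom ≫ φ, hT'.w, ?_, ?_, Groth.Agent.Assoc2.isIso_psiY hT'.w hT'⟩
  · haveI : Flat φ.left := MorphismProperty.of_isPullback hpb (inferInstance : Flat π.left)
    haveI : IsIso e.hom.left := Iso.isIso_hom ((Over.forget _).mapIso e)
    rw [Over.comp_left]; infer_instance
  · haveI : Surjective φ.left := MorphismProperty.of_isPullback hpb (inferInstance : Surjective π.left)
    haveI : IsIso e.hom.left := Iso.isIso_hom ((Over.forget _).mapIso e)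
    rw [Over.comp_left]; infer_instance

end Groth.Agent.S19922
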