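import Groth.Statements.S19923
import Groth.Agent.AgSymm.Lambda
import Groth.Agent.AVAmple.Mumford
import Groth.Agent.W7See.Fibre

set_option autoImplicit false
universe u
open CategoryTheory CategoryTheory.Limits MonoidalCategory CartesianMonoidalCategory MonObj GrpObj AlgebraicGeometry
open AbVar

set_option backward.isDefEq.respectTransparency false
set_option backward.isDefEq.respectTransparency.types false
set_option linter.style.haveILetI false

namespace Groth.Agent.S19923

open Groth.Agent in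
attribute [local instance] W7Cube.law

open Groth.Agent.W7Cube (pull pull_pull)
open Groth.Agent.AbPrim (val)

/-- Let A be an abelian variety over a field k (a proper, geometrically integral commutative k-group
scheme; k arbitrary), given with a dual (Â, φ_A) and a dual (Â̂, φ_Â) of Â — each represents the
fppf-sheafified functor of invertible classes algebraically equivalent to zero on geometric fibres,
with φ multiplicative — and with a Poincaré class ξ on A ×_k Â whose transpose ξ' on Â ×_k A lies in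
Pic⁰ on the fibres over A; put ι_A = φ_Â(ξ') : A → Â̂ (the double-duality morphism). Let L be an
invertible O_A-module with an inverse L⁻¹, and let Λ be a module on A ×_k A isomorphic to m^*L ⊗
p₁^*L⁻¹ ⊗ p₂^*L⁻¹ (m the group law, p₁, p₂ the projections) whose class lies in Pic⁰ on the fibres
over the second factor, so that φ_L := φ_A(Λ) : A → Â is the homomorphism a ↦ t_a^*L ⊗ L⁻¹. If φ̂_L
: Â̂ → Â is a transpose of φ_L (φ_A of the pull-back of a Pic⁰ class c along (φ_L)_T equals φ_Â(c)
followed by φ̂_L), then φ_L = ι_A followed by φ̂_L: the homomorphism φ_L is symmetric. -/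
theorem result (K : Type u) [Field K]
    (A At Att : Over (Spec (CommRingCat.of K)))
    [GrpObj A] [IsCommMonObj A] [IsProper A.hom] [GeometricallyIntegral A.hom]
    [GrpObj At] [IsCommMonObj At] [IsProper At.hom] [GeometricallyIntegral At.hom]
    [GrpObj Att] [IsCommMonObj Att] [IsProper Att.hom] [GeometricallyIntegral Att.hom]
    (φA : ∀ T : Over (Spec (CommRingCat.of K)), PicF.Cl (PicF.XT A.hom T) → (T ⟶ At))
    (hAt : AbDual.IsDualAV Scheme.fppfPrecoverage A At φA)
    (φAt : ∀ T : Over (Spec (CommRingCat.of K)), PicF.Cl (PicF.XT At.hom T) → (T ⟶ Att))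
    (hAtt : AbDual.IsDualAV Scheme.fppfPrecoverage At Att φAt)
    (ξ : PicF.Cl (PicF.XT A.hom At)) (hξ : AbDual.IsPoincareCl A At φA ξ)
    (hξ' : AbDual.IsPicZeroCl At.hom A (PicF.pullCl (pullbackSymmetry At.hom A.hom).hom ξ))
    (L Linv : A.left.Modules) (hL : PicF.IsInvertible L)
    (hLinv : Nonempty (CohB1.tensorMod L Linv ≅ Coh.structureModule A.left))
    (Λ : (PicF.XT A.hom A).Modules)
    (hΛ : Nonempty (Λ ≅ CohB1.tensorMod (CohB1.tensorMod ((Scheme.Modules.pullback (μ[A]).left).obj L)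
      ((Scheme.Modules.pullback (fst A A).left).obj Linv)) ((Scheme.Modules.pullback (snd A A).left).obj Linv)))
    (hΛ0 : AbDual.IsPicZeroCl A.hom A (PicF.cl Λ))
    (tl : Att ⟶ At) [IsMonHom tl]
    (htl : AbDual.IsTranspose (φA A (PicF.cl Λ)) φA φAt tl) :
    φA A (PicF.cl Λ) = φAt A (PicF.pullCl (pullbackSymmetry At.hom A.hom).hom ξ) ≫ tl := by
  haveI : Flat A.hom := inferInstance
  haveI : GeometricallyConnected A.hom := Groth.Agent.W7See.geometricallyConnected_of_geometricallyIntegral A.hom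
  haveI : Smooth A.hom := by
    haveI : GrpObj (Over.mk A.hom) := inferInstanceAs (GrpObj A)
    exact smooth_of_grpObj A.hom
  obtain ⟨P, hP⟩ := Groth.Agent.AgSymm.exists_poincare hξ
  obtain ⟨eL⟩ := hLinv
  obtain ⟨eΛ⟩ := hΛ
  obtain ⟨N, hN, ⟨f⟩⟩ := Groth.Agent.W7Hull.exists_tensor_inverse hL
  let j : Linv ≅ N := (TMul.leftUnitIso Linv).symm ≪≫
    PicGrp.tensorModIso (f.symm ≪≫ TMul.commIso L N) (Iso.refl Linv) ≪≫ TMul.assocIso N L Linv ≪≫
    PicGrp.tensorModIso (Iso.refl N) eL ≪≫ SecTwist.unitorR N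
  let ℓ : PicLoc.PicSet A.left := PicGrp.cls L hL
  let ℓ' : PicLoc.PicSet A.left := PicGrp.cls N hN
  have hℓ : ℓ' = ℓ⁻¹ := (inv_eq_of_mul_eq_one_right ((PicGrp.cls_mul_cls_eq_one_iff hL hN).2 ⟨f⟩)).symm
  let lc : PicLoc.PicSet (A ⊗ A).left :=
    Groth.Agent.W7Cube.pc ℓ μ[A] * (Groth.Agent.W7Cube.pc ℓ (fst A A))⁻¹ * (Groth.Agent.W7Cube.pc ℓ (snd A A))⁻¹
  have hlc : lc.1 = PicF.cl Λ := by
    have e : lc = Groth.Agent.W7Cube.pc ℓ μ[A] * Groth.Agent.W7Cube.pc ℓ' (fst A A) * Groth.Agent.W7Cube.pc ℓ' (snd A A) := by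
      simp only [lc, hℓ, Groth.Agent.W7Cube.pc, map_inv]
    refine (congrArg Subtype.val e).trans ?_
    simp only [Groth.Agent.W7Cube.pc, ℓ, ℓ', Groth.Agent.W7Cube.pull_cls, PicGrp.mul_val, PicGrp.cls_val, PicGrp.mulCl_cl]
    exact Quot.sound ⟨(eΛ ≪≫ PicGrp.tensorModIso (PicGrp.tensorModIso (Iso.refl _)
      ((Scheme.Modules.pullback _).mapIso j)) ((Scheme.Modules.pullback _).mapIso j)).symm⟩
  rw [← hlc] at hΛ0 htl ⊢
  have hμ : fst A A * snd A A = μ[A] := by rw [Hom.mul_def, lift_fst_snd, Category.id_comp]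
  have hr : val lc 1 (𝟙 A) = 1 := by
    simp only [lc, val, map_mul, map_inv, Groth.Agent.W7Cube.pull_pc]
    rw [← hμ, MonObj.comp_mul, lift_fst, lift_snd, _root_.one_mul, Groth.Agent.W7Cube.pc_one,
      Groth.Agent.W7Cube.pc_id, inv_one, _root_.mul_one, mul_inv_cancel]
  have hcls := P.eq_cls hAt hΛ0 hr
  let l : A ⟶ At := φA A lc.1
  let w : PicLoc.PicSet (At ⊗ A).left := val P.x (snd At A) (fst At A)
  have hw : w.1 = PicF.pullCl (pullbackSymmetry At.hom A.hom).hom ξ := by
    rw [← hP]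
    change PicF.pullCl (lift (snd At A) (fst At A)).left P.x.1 = _
    congr 1
  have h := htl A w.1 (hw ▸ hξ')
  rw [← hw]
  refine Eq.trans ?_ h
  change φA A lc.1 = φA A (pull (AbDual.bcMap (φA A lc.1) A) w).1
  rw [Groth.Agent.AbPrim.bcMap_eq]
  change _ = φA A (val w (fst A A ≫ l) (snd A A)).1
  simp only [w]
  change _ = φA A (pull (lift (fst A A ≫ l) (snd A A)).left (val P.x (snd At A) (fst At A))).1
  rw [Groth.Agent.AbPrim.pull_val, lift_snd, lift_fst]
  have hsym : val lc (snd A A) (fst A A) = lc := by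
    simp only [lc, val, map_mul, map_inv, Groth.Agent.W7Cube.pull_pc]
    rw [← hμ, MonObj.comp_mul, lift_fst, lift_snd, _root_.mul_comm (snd A A) (fst A A), mul_right_comm]
  refine congrArg (fun x : PicLoc.PicSet (A ⊗ A).left => φA A x.1) ?_
  rw [← P.val_cls l (snd A A) (fst A A), ← hcls, hsym]

end Groth.Agent.S19923
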