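import Groth.Statements.S19926
import Mathlib
import Groth.Agent.ProjInter.Main
import Groth.Agent.DimFormula.Field
open AlgebraicGeometry

set_option autoImplicit false
universe u
open ProjDeg

set_option backward.isDefEq.respectTransparency false
namespace Groth.Agent.S19926

section
open MvPolynomial Groth.Agent.ProjInter

theorem cone_dim (k : Type u) [Field k] (n : ℕ) (p : Ideal (MvPolynomial (Fin (n + 1)) k)) [p.IsPrime]
    (hph : p.IsHomogeneous (CohB1.polyGrading n k))
    (hrel : ¬ (HomogeneousIdeal.irrelevant (CohB1.polyGrading n k)).toIdeal ≤ p) :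
    ringKrullDim (MvPolynomial (Fin (n + 1)) k ⧸ p) =
      topologicalKrullDim ↥(ProjectiveSpectrum.zeroLocus (CohB1.polyGrading n k) (p : Set (MvPolynomial (Fin (n + 1)) k))) + 1 := by
  let MM := orig k (Fin (n + 1))
  haveI : QuasiSober (ProjectiveSpectrum (CohB1.polyGrading n k)) :=
    inferInstanceAs (QuasiSober ↥(AlgebraicGeometry.Proj (CohB1.polyGrading n k)))
  set Z := ProjectiveSpectrum.zeroLocus (CohB1.polyGrading n k) (p : Set (MvPolynomial (Fin (n + 1)) k))
  have hZ : IsClosed Z := ProjectiveSpectrum.isClosed_zeroLocus _ _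
  haveI : QuasiSober Z := hZ.isClosedEmbedding_subtypeVal.quasiSober
  haveI : T0Space (ProjectiveSpectrum (CohB1.polyGrading n k)) := inferInstanceAs (T0Space ↥(AlgebraicGeometry.Proj (CohB1.polyGrading n k)))
  have hpM : p ≤ MM := le_orig p hph (Ideal.IsPrime.ne_top inferInstance)
  let P : ProjectiveSpectrum (CohB1.polyGrading n k) := ⟨⟨p, hph⟩, inferInstance, fun h => hrel h⟩
  have hPZ : P ∈ Z := fun _ h => h
  haveI : (MM.map (Ideal.Quotient.mk p)).IsPrime := Ideal.isPrime_map_quotientMk_of_isPrime hpM
  haveI hmax : (MM.map (Ideal.Quotient.mk p)).IsMaximal :=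
    (Ideal.map_eq_top_or_isMaximal_of_surjective _ Ideal.Quotient.mk_surjective inferInstance).resolve_left
      (Ideal.IsPrime.ne_top inferInstance)
  have hdim : ringKrullDim (MvPolynomial (Fin (n + 1)) k ⧸ p) = (H p MM : WithBot ℕ∞) := by
    rw [← Groth.Agent.DimFormula.height_add_ringKrullDim_quotient k ⟨MM.map (Ideal.Quotient.mk p), inferInstance⟩]
    letI := Ideal.Quotient.field (MM.map (Ideal.Quotient.mk p))
    rw [ringKrullDim_eq_zero_of_field, add_zero]
    rfl
  obtain ⟨s, -, hs⟩ := Groth.Agent.DimFormula.exists_trdeg_eq_ringKrullDim k (MvPolynomial (Fin (n + 1)) k ⧸ p)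
  have hH : H p MM = (s : ℕ∞) := by exact_mod_cast hdim.symm.trans hs
  have up : ∀ m : ℕ, (m : WithBot ℕ∞) ≤ topologicalKrullDim Z → m + 1 ≤ s := by
    intro m hm
    obtain ⟨c, hc⟩ := Unibranch.exists_chain_of_le_topologicalKrullDim (α := Z) (k := m) hm
    let l : LTSeries (ProjectiveSpectrum (CohB1.polyGrading n k)) :=
      { length := m
        toFun := fun i => (c i).1
        step := fun i => lt_of_le_of_ne ((ProjectiveSpectrum.le_iff_mem_closure _ _ _).2
          ((subtype_specializes_iff _ _).1 (hc i).1).mem_closure) fun h => (hc i).2 (Subtype.ext h) }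
    have h1 := succ_length_le_H l
    have hle : p ≤ l.head.asHomogeneousIdeal.toIdeal := (c 0).2
    have h2 : H l.head.asHomogeneousIdeal.toIdeal MM ≤ H p MM :=
      H_mono hle (le_orig _ l.head.asHomogeneousIdeal.isHomogeneous l.head.isPrime.ne_top)
    have := h1.trans h2
    rw [hH] at this
    exact_mod_cast this
  have h0 : 1 ≤ s := up 0 (by
    refine Unibranch.natCast_le_topologicalKrullDim (α := Z) (fun _ => ⟨P, hPZ⟩) (k := 0) fun i => i.elim0)
  obtain ⟨e, rfl⟩ : ∃ e, s = e + 1 := ⟨s - 1, by omega⟩
  obtain ⟨l, hl, hlp⟩ := exists_chain e p hph hpM hH.ge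
  have low : (e : WithBot ℕ∞) ≤ topologicalKrullDim Z := by
    have := Unibranch.natCast_le_topologicalKrullDim (α := Z) (k := l.length)
      (fun i => ⟨l i, fun x hx => (LTSeries.monotone l (Fin.zero_le i)) (hlp hx)⟩) fun i =>
      ⟨(subtype_specializes_iff _ _).2 (specializes_iff_mem_closure.2 ((ProjectiveSpectrum.le_iff_mem_closure _ _ _).1 (l.step i).le)),
        fun h => (l.step i).ne (congrArg Subtype.val h)⟩
    rwa [hl] at this
  have hle : topologicalKrullDim Z ≤ (e : WithBot ℕ∞) := by
    by_contra hlt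
    rw [not_le] at hlt
    have : ((e + 1 : ℕ) : WithBot ℕ∞) ≤ topologicalKrullDim Z := by
      generalize topologicalKrullDim Z = d at hlt
      cases d with
      | bot => exact absurd hlt not_lt_bot
      | coe d =>
        cases d with
        | top => exact WithBot.coe_le_coe.2 le_top
        | coe d => exact_mod_cast (show e + 1 ≤ d from Nat.succ_le_iff.2 (by exact_mod_cast hlt))
    have := up (e + 1) this
    omega
  rw [hs, le_antisymm hle low]
  norm_cast
where
  H_mono {R : Type u} [CommRing R] {I J M : Ideal R} [M.IsPrime] (hIJ : I ≤ J) (hJ : J ≤ M) : H J M ≤ H I M := by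
    haveI : (M.map (Ideal.Quotient.mk J)).IsPrime := Ideal.isPrime_map_quotientMk_of_isPrime hJ
    haveI : (M.map (Ideal.Quotient.mk I)).IsPrime := Ideal.isPrime_map_quotientMk_of_isPrime (hIJ.trans hJ)
    refine le_trans (height_le_height_comap (Ideal.Quotient.factor hIJ) (Ideal.Quotient.factor_surjective hIJ) _) (le_of_eq ?_)
    unfold H
    congr 1
    ext y
    obtain ⟨y, rfl⟩ := Ideal.Quotient.mk_surjective y
    rw [Ideal.mem_comap, Ideal.Quotient.factor_mk, Ideal.mem_quotient_iff_mem hJ, Ideal.mem_quotient_iff_mem (hIJ.trans hJ)]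

end


/-- Let k be a field, n ≥ 0, S = k[X_0, …, X_n] graded by degree, and p a homogeneous prime ideal of S
which does not contain the irrelevant ideal S_+, so that X = V_+(p) is a nonempty integral closed
subscheme of P^n_k (every such subscheme arises this way); its affine cone C(X) ⊆ A^{n+1}_k, the
closure of the preimage of X under the projection from A^{n+1} minus the origin, is the closed
subset V(p), with coordinate ring S/p. Then dim C(X) = dim X + 1: the Krull dimension of S/p is the
topological Krull dimension of the closed subset V_+(p) of Proj S plus one. -/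
theorem result (k : Type u) [Field k] (n : ℕ)
    (p : Ideal (MvPolynomial (Fin (n + 1)) k)) [p.IsPrime] (hph : p.IsHomogeneous (CohB1.polyGrading n k))
    (hrel : ¬ (HomogeneousIdeal.irrelevant (CohB1.polyGrading n k)).toIdeal ≤ p) :
    ringKrullDim (MvPolynomial (Fin (n + 1)) k ⧸ p) =
      topologicalKrullDim ↥(ProjectiveSpectrum.zeroLocus (CohB1.polyGrading n k) (p : Set (MvPolynomial (Fin (n + 1)) k))) + 1 := by
  exact cone_dim k n p hph hrel

end Groth.Agent.S19926
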