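import Groth.Statements.S1994
import Mathlib
import Groth.Agent.Hensel.PairNoeth
-- import your own Groth.Agent.* helpers here

set_option autoImplicit false
universe u
open EtAlg

namespace Groth.Agent.S1994

/-- Let (A, I) be a pair with A Noetherian and B a henselization of the pair. Then B is Noetherian and
flat over A, and the induced map of adic completions, from the I-adic completion of A to the IB-adic
completion of B, is bijective. -/
theorem result (A : Type u) [CommRing A] [IsNoetherianRing A] (I : Ideal A)
    (B : Type u) [CommRing B] [Algebra A B] (hB : Hens2.IsPairHenselization A I B) :
    IsNoetherianRing B ∧ Module.Flat A B ∧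
      Function.Bijective (AdicCompletion.map I (Algebra.linearMap A B) :
        AdicCompletion I A → AdicCompletion I B) := by
  exact ⟨Groth.Agent.Hensel.isNoetherianRing_pairHenselization hB, Groth.Agent.Hensel.pairHenselization_flat hB,
    Groth.Agent.Hensel.adicCompletionMap_bijective (Groth.Agent.Hensel.powBij_henselization hB)⟩

end Groth.Agent.S1994
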