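import Groth.Statements.S19946
import Groth.Agent.ThetaLib.Local
import Groth.Agent.ThetaLib.Commutator
-- import your own Groth.Agent.* helpers here

set_option autoImplicit false
universe u
open CategoryTheory MonoidalCategory CartesianMonoidalCategory MonObj GrpObj AlgebraicGeometry
open ThetaGrp

set_option backward.isDefEq.respectTransparency false
set_option backward.isDefEq.respectTransparency.types false
set_option linter.style.haveILetI false

namespace Groth.Agent.S19946

open ThetaLib

/-- Functions on the square of an abelian variety are constant. -/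
theorem exists_const {k : Type u} [Field k] {A : Over (Spec (CommRingCat.of k))} [GrpObj A] [IsProper A.hom]
    [GeometricallyIntegral A.hom] (t : Γ((A ⊗ A).left, ⊤)) :
    ∃ c, t = (toUnit (A ⊗ A)).left.appTop c := by
  obtain ⟨t', rfl⟩ := fnT_surjective (A := A) A t
  obtain ⟨c, hc⟩ := fnT_surjective (A := A) (𝟙_ _) ((fst A (𝟙_ _)).left.appTop t')
  refine ⟨c, ?_⟩
  have h := congrArg (fun e => (lift (𝟙 A) (toUnit A)).left.appTop e) hc
  change ((snd A (𝟙_ _)).left.appTop ≫ (lift (𝟙 A) (toUnit A)).left.appTop) c =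
    ((fst A (𝟙_ _)).left.appTop ≫ (lift (𝟙 A) (toUnit A)).left.appTop) t' at h
  rw [← Scheme.Hom.comp_appTop, ← Scheme.Hom.comp_appTop, ← Over.comp_left, ← Over.comp_left, lift_snd, lift_fst,
    Over.id_left, Scheme.Hom.id_appTop] at h
  change _ = ((toUnit (A ⊗ A)).left.appTop) c
  rw [show toUnit (A ⊗ A) = snd A A ≫ toUnit A from toUnit_unique _ _, Over.comp_left, Scheme.Hom.comp_appTop]
  exact congrArg (fun e => (snd A A).left.appTop e) h.symm

/-- Let X be an abelian variety over a field k (a proper, geometrically integral, commutative k-group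
scheme) and L an invertible O_X-module whose subscheme K(L) is all of X: the identity of X has the
universal property of K(L), i.e. for every k-scheme Z and every Z-valued point z of X the Mumford
bundle m^*L ⊗ p_1^*L⁻¹ ⊗ p_2^*L⁻¹ restricted along X ×_k Z → X ×_k X is the inverse image of an
invertible module on Z (equivalently, the class of L lies in Pic⁰_{X/k}). Then the commutator
pairing e_L of the theta group is identically 1: for every k-scheme T, any two points (x₁, φ₁), (x₂,
φ₂) of G(L)(T) (x_i a T-valued point of X, φ_i : L_T ≅ t_{x_i}^*L_T) commute. -/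
theorem result (k : Type u) [Field k]
    (A : Over (Spec (CommRingCat.of k))) [GrpObj A] [IsCommMonObj A] [IsProper A.hom] [GeometricallyIntegral A.hom]
    (L : A.left.Modules) (hL : PicF.IsInvertible L)
    (hK : ThetaGrp.IsKL A L (𝟙 A))
    (T : Over (Spec (CommRingCat.of k))) (β₁ β₂ : ThetaGrp.thetaPts A L T) :
    β₁ * β₂ = β₂ * β₁ := by
  have hΓ : ∀ T : Over (Spec (CommRingCat.of k)), Function.Surjective (fnT A T) := fnT_surjective
  have hloc : ∀ z : A ⊗ A ⟶ A, LocLift L z := fun z t =>
    exists_local hL z ((hK.univ _ z).2 ⟨z, Category.comp_id z⟩) t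
  obtain ⟨c, hc⟩ := exists_comFn hL hΓ (hloc (fst A A)) (hloc (snd A A))
  obtain ⟨c₀, rfl⟩ := exists_const c
  have h1 : c₀ = 1 := by
    let e : 𝟙_ (Over (Spec (CommRingCat.of k))) ⟶ A ⊗ A := lift 1 1
    have h := hc _ e 1 1 (by rw [lift_fst]; exact isOverPt_one) (by rw [lift_snd]; exact isOverPt_one)
    have h' := isCom_unique hL h ((isCom_one_iff hL).2 rfl)
    change ((toUnit (A ⊗ A)).left.appTop ≫ e.left.appTop) c₀ = 1 at h'
    rw [← Scheme.Hom.comp_appTop, ← Over.comp_left, toUnit_unique (e ≫ toUnit _) (𝟙 _), Over.id_left,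
      Scheme.Hom.id_appTop] at h'
    exact h'
  subst h1
  obtain ⟨x₁, h₁⟩ := exists_pt β₁
  obtain ⟨x₂, h₂⟩ := exists_pt β₂
  have h := hc T (lift x₁ x₂) β₁ β₂ (by rw [lift_fst]; exact h₁) (by rw [lift_snd]; exact h₂)
  rw [map_one, map_one] at h
  exact (isCom_one_iff hL).1 h

end Groth.Agent.S19946
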