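import Groth.Statements.S19948
import Groth.Agent.ThetaLib.Split
import Groth.Agent.ThetaLib.KernelDesc
-- import your own Groth.Agent.* helpers here

set_option autoImplicit false
universe u
open CategoryTheory MonoidalCategory CartesianMonoidalCategory MonObj GrpObj AlgebraicGeometry
open ThetaGrp

open ThetaGrp

set_option backward.isDefEq.respectTransparency false
set_option backward.isDefEq.respectTransparency.types false
set_option linter.style.haveILetI false

namespace Groth.Agent.S19948

open ThetaLib

/-- Let k be an algebraically closed field, f : X → Y an isogeny of abelian varieties over k (X, Y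
proper, geometrically integral, commutative k-group schemes; f a finite surjective homomorphism), i
: N → X the kernel of f (a homomorphism forming a cartesian square with the unit section of Y), L an
invertible O_X-module and i_K : K → X a closed immersion exhibiting K as K(L), the maximal closed
subscheme of X over which the Mumford bundle m^*L ⊗ p_1^*L⁻¹ ⊗ p_2^*L⁻¹, restricted to X ×_k K, is
the inverse image of an invertible module on K, with its universal property. Then L is the inverse
image of an invertible O_Y-module (there is an invertible M on Y with f^*M ≅ L) if and only if the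
kernel of f lies inside K(L) as a subgroup scheme and the commutator pairing e_L is trivial on it: i
factors through i_K, and for every k-scheme T any two points (x₁, φ₁), (x₂, φ₂) of G(L)(T) whose
translations are by points of N commute. (Algebraic closedness is used for the converse; over other
fields an isotropic kernel descends in general only after a finite extension of k.) -/
theorem result (k : Type u) [Field k] [IsAlgClosed k]
    (A : Over (Spec (CommRingCat.of k))) [GrpObj A] [IsCommMonObj A] [IsProper A.hom] [GeometricallyIntegral A.hom]
    (B : Over (Spec (CommRingCat.of k))) [GrpObj B] [IsCommMonObj B] [IsProper B.hom] [GeometricallyIntegral B.hom]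
    (f : A ⟶ B) [IsMonHom f] [IsFinite f.left] (hf : Surjective f.left)
    (N : Over (Spec (CommRingCat.of k))) [GrpObj N] (i : N ⟶ A) [IsMonHom i] (hN : AlgGrp.IsKernel i f)
    (L : A.left.Modules) (hL : PicF.IsInvertible L)
    (K : Over (Spec (CommRingCat.of k))) (iK : K ⟶ A) (hK : ThetaGrp.IsKL A L iK) :
    (∃ M : B.left.Modules, PicF.IsInvertible M ∧ Nonempty ((Scheme.Modules.pullback f.left).obj M ≅ L)) ↔
      ((∃ y : N ⟶ K, y ≫ iK = i) ∧ ThetaGrp.IsIsotropic L i) := by
  
  haveI := hK.closed
  constructor
  · rintro ⟨M, hM, ⟨e⟩⟩
    have hm : ThetaGrp.IsMumfordTriv B M (i ≫ f) := by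
      rw [hN.w]
      exact isMumfordTriv_of_lift hM (β := (1 : thetaPts B M N)) (by rw [← Hom.one_def]; exact isOverPt_one)
    refine ⟨exists_factor_of_local iK i fun t => ?_, fun T x y β₁ β₂ h₁ h₂ => ?_⟩
    · obtain ⟨U, htU, β, hβ⟩ := exists_local_of_isMumfordTriv f e hM hm t
      exact ⟨U, htU, (hK.univ _ _).1 (isMumfordTriv_of_lift hL hβ)⟩
    · exact isPerpPt_of_isMumfordTriv f e hN hM hm T x y β₁ β₂ h₁ h₂
  · rintro ⟨hy, hiso⟩
    haveI : IsFinite (toUnit N).left :=
      MorphismProperty.of_isPullback (P := @IsFinite) (hN.map (Over.forget _)) ‹IsFinite f.left›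
    haveI : IsFinite N.hom := ‹IsFinite (toUnit N).left›
    obtain ⟨gm, h₁, h₂, h₃⟩ := exists_split hL i (fun T a b => hN.hom_ext
      (by rw [MonObj.mul_comp, MonObj.mul_comp, _root_.mul_comm]) (toUnit_unique _ _)) ((hK.univ N i).2 hy) hiso
    exact exists_desc_of_lifts f hf hN hL gm h₁ h₂ h₃


end Groth.Agent.S19948
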