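import Groth.Statements.S1995
import Mathlib
import Groth.Agent.Hensel.PairEnvelopeStage
-- import your own Groth.Agent.* helpers here

set_option autoImplicit false
universe u
open EtAlg

namespace Groth.Agent.S1995

/-- Let I_1, …, I_n be pairwise comaximal ideals of a ring A, B a henselization of the pair (A, I_1 ∩ …
∩ I_n) and B_i a henselization of (A, I_i) for each i. Then B is isomorphic as an A-algebra to the
product of the B_i (any such isomorphism is the natural comparison map, by the universal property). -/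
theorem result (A : Type u) [CommRing A] {n : ℕ} (I : Fin n → Ideal A)
    (hI : Pairwise fun i j => I i ⊔ I j = ⊤) (B : Type u) [CommRing B] [Algebra A B]
    (hB : Hens2.IsPairHenselization A (⨅ i, I i) B) (Bi : Fin n → Type u) [∀ i, CommRing (Bi i)] [∀ i, Algebra A (Bi i)]
    (hBi : ∀ i, Hens2.IsPairHenselization A (I i) (Bi i)) :
    Nonempty (B ≃ₐ[A] ∀ i, Bi i) := by
  classical
  have hcop : Pairwise (Function.onFun IsCoprime I) := fun i j hij => Ideal.isCoprime_iff_sup_eq.2 (hI hij)
  choose a ha using fun i => Ideal.exists_forall_sub_mem_ideal hcop (fun j => if j = i then (1 : A) else 0)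
  set K := (⨅ i, I i).map (algebraMap A B) with hK
  have hjac : K ≤ Ideal.jacobson ⊥ := hB.1.jac
  haveI := hB.1
  have hmem : ∀ x, (∀ k, x ∈ I k) → algebraMap A B x ∈ K := fun x hx =>
    Ideal.mem_map_of_mem _ (by rw [Ideal.mem_iInf]; exact hx)
  have hlift : ∀ i, ∃ e : B, IsIdempotentElem e ∧ e - algebraMap A B (a i) ∈ K := fun i => by
    obtain ⟨e, he, he'⟩ := Groth.Agent.Hensel.exists_idempotent_lift (A := B) (I := K) (B := B) (algebraMap A B (a i)) (by
      rw [Algebra.algebraMap_self, Ideal.map_id, ← map_mul, ← map_sub]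
      refine hmem _ fun k => ?_
      have hk := ha i k
      split_ifs at hk
      · have h' := Ideal.mul_mem_left _ (a i) hk
        rwa [mul_sub, mul_one] at h'
      · rw [sub_zero] at hk
        exact sub_mem (Ideal.mul_mem_left _ _ hk) hk)
    exact ⟨e, he, by rwa [Algebra.algebraMap_self, Ideal.map_id] at he'⟩
  choose e he hea using hlift
  have horth : ∀ i j, i ≠ j → e i * e j = 0 := fun i j hij => by
    refine Groth.Agent.Hensel.eq_of_idempotent hjac (IsIdempotentElem.mul (he i) (he j)) IsIdempotentElem.zero ?_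
    rw [sub_zero]
    have h1 : algebraMap A B (a i * a j) ∈ K := hmem _ fun k => by
      by_cases hk : k = i
      · subst hk
        have := ha j k
        rw [if_neg hij, sub_zero] at this
        exact Ideal.mul_mem_left _ _ this
      · have := ha i k
        rw [if_neg hk, sub_zero] at this
        exact Ideal.mul_mem_right _ _ this
    have h2 := K.add_mem (K.add_mem (K.mul_mem_right (e j) (hea i))
      (K.mul_mem_left (algebraMap A B (a i)) (hea j))) h1
    rw [map_mul] at h2
    convert h2 using 1
    ring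
  have hsum : IsUnit (∑ i, e i) := by
    refine Groth.Agent.Hensel.isUnit_of_mk hjac ?_
    have h1 : ∑ i, e i - 1 ∈ K := by
      have h2 : algebraMap A B (∑ i, a i - 1) ∈ K := hmem _ fun k => by
        have h3 := Submodule.sum_mem (I k) fun i (_ : i ∈ Finset.univ) => ha i k
        rw [Finset.sum_sub_distrib, Finset.sum_ite_eq] at h3
        simpa using h3
      have h4 := K.add_mem (Submodule.sum_mem K fun i (_ : i ∈ Finset.univ) => hea i) h2
      rw [Finset.sum_sub_distrib, map_sub, map_sum, map_one] at h4
      simpa using h4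
    rw [Ideal.Quotient.eq.2 h1, map_one]
    exact isUnit_one
  let L : Fin n → Ideal B := fun i => Ideal.span {1 - e i}
  have hL : Pairwise (Function.onFun IsCoprime L) := fun i j hij => Ideal.isCoprime_iff_sup_eq.2 <| by
    rw [Ideal.eq_top_iff_one, show (1 : B) = (1 - e i) + e i by ring]
    refine Ideal.add_mem _ (Ideal.mem_sup_left (Ideal.mem_span_singleton_self _)) (Ideal.mem_sup_right ?_)
    exact Ideal.mem_span_singleton.2 ⟨e i, by linear_combination horth i j hij⟩
  have hinf : ⨅ i, L i = ⊥ := by
    refine (Submodule.eq_bot_iff _).2 fun x hx => ?_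
    rw [Ideal.mem_iInf] at hx
    have h0 : ∀ i, e i * x = 0 := fun i => by
      obtain ⟨c, rfl⟩ := Ideal.mem_span_singleton.1 (hx i)
      linear_combination (-c) * (he i).eq
    exact hsum.mul_right_eq_zero.1 (by rw [Finset.sum_mul]; exact Finset.sum_eq_zero fun i _ => h0 i)
  have hCi : ∀ i, Hens2.IsPairHenselization A (I i) (B ⧸ L i) := fun i => by
    have hI' : (I i).map (algebraMap A (B ⧸ L i)) = K.map (algebraMap B (B ⧸ L i)) := by
      rw [hK, Ideal.map_map, ← IsScalarTower.algebraMap_eq]
      refine le_antisymm (Ideal.map_le_iff_le_comap.2 fun x hx => ?_) (Ideal.map_mono (iInf_le _ i))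
      have h1 : algebraMap A (B ⧸ L i) (x * a i) ∈ (⨅ i, I i).map (algebraMap A (B ⧸ L i)) :=
        Ideal.mem_map_of_mem _ (Ideal.mem_iInf.2 fun k => by
          by_cases hk : k = i
          · subst hk; exact Ideal.mul_mem_right _ _ hx
          · have := ha i k
            rw [if_neg hk, sub_zero] at this
            exact Ideal.mul_mem_left _ _ this)
      have h2 : algebraMap A (B ⧸ L i) (a i) - 1 ∈ (⨅ i, I i).map (algebraMap A (B ⧸ L i)) := by
        have h3 := Ideal.mem_map_of_mem (Ideal.Quotient.mk (L i)) (hea i)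
        rw [hK, Ideal.map_map, map_sub, (Ideal.Quotient.eq.2 (show e i - 1 ∈ L i by
          rw [← neg_sub]; exact neg_mem (Ideal.mem_span_singleton_self _))), map_one] at h3
        rw [← neg_sub]
        exact neg_mem h3
      have h4 := Ideal.sub_mem _ h1 (Ideal.mul_mem_left _ (algebraMap A (B ⧸ L i) x) h2)
      rw [Ideal.mem_comap]
      convert h4 using 1
      rw [map_mul]
      ring
    refine ⟨hI' ▸ Groth.Agent.Hensel.henselianRing_integral B K (B ⧸ L i), fun C _ J f hJ hf => ?_⟩
    obtain ⟨g, hg, hgu⟩ := hB.2 C J f hJ ((Ideal.map_mono (iInf_le _ i)).trans hf)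
    have hge : g (e i) = 1 := by
      refine Groth.Agent.Hensel.eq_of_idempotent hJ.jac ((he i).map g) IsIdempotentElem.one ?_
      have h1 : g (e i - algebraMap A B (a i)) ∈ J := by
        have h1' := Ideal.mem_map_of_mem g (hea i)
        rw [hK, Ideal.map_map, hg] at h1'
        exact (Ideal.map_mono (iInf_le _ i)).trans hf h1'
      have h2 : f (a i - 1) ∈ J := hf (Ideal.mem_map_of_mem f (by simpa using ha i i))
      rw [map_sub, ← RingHom.comp_apply g (algebraMap A B), hg] at h1
      rw [map_sub, map_one] at h2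
      simpa using J.add_mem h1 h2
    refine ⟨Ideal.Quotient.lift (L i) g fun z hz => ?_, RingHom.ext fun r => RingHom.congr_fun hg r,
      fun g' hg' => Ideal.Quotient.ringHom_ext ?_⟩
    · obtain ⟨c, rfl⟩ := Ideal.mem_span_singleton.1 hz
      rw [map_mul, map_sub, map_one, hge, sub_self, zero_mul]
    · rw [hgu (g'.comp (Ideal.Quotient.mk (L i))) (RingHom.ext fun r => RingHom.congr_fun hg' r)]
      exact RingHom.ext fun z => rfl
  let E : ∀ i, (B ⧸ L i) ≃ₐ[A] Bi i := fun i => (Groth.Agent.Hensel.algEquiv_of_isPairHenselization (hCi i) (hBi i)).some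
  let Ψ : B →ₐ[A] ∀ i, B ⧸ L i := Pi.algHom A _ fun i => Ideal.Quotient.mkₐ A (L i)
  have hΨ : Function.Bijective Ψ := by
    refine ⟨(injective_iff_map_eq_zero Ψ).2 fun x hx => ?_, fun y => ?_⟩
    · rw [← Ideal.mem_bot, ← hinf, Ideal.mem_iInf]
      exact fun i => Ideal.Quotient.eq_zero_iff_mem.1 (congrFun hx i)
    · choose y' hy' using fun i => Ideal.Quotient.mk_surjective (y i)
      obtain ⟨x, hx⟩ := Ideal.exists_forall_sub_mem_ideal hL y'
      exact ⟨x, funext fun i => ((Ideal.Quotient.eq.2 (hx i)).trans (hy' i))⟩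
  exact ⟨(AlgEquiv.ofBijective Ψ hΨ).trans (AlgEquiv.piCongrRight E)⟩

end Groth.Agent.S1995
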