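import Groth.Statements.S19950
import Groth.Agent.ThetaPerp.Quotient

set_option autoImplicit false
universe u
open CategoryTheory MonoidalCategory CartesianMonoidalCategory MonObj GrpObj AlgebraicGeometry
open ThetaGrp

namespace Groth.Agent.S19950

/-- Let k be an algebraically closed field, X an abelian variety over k (a proper, geometrically
integral, commutative k-group scheme) and L a non-degenerate invertible O_X-module: for a closed
immersion i : K → X exhibiting K as K(L) (the maximal closed subscheme of X over which the Mumford
bundle m^*L ⊗ p_1^*L⁻¹ ⊗ p_2^*L⁻¹, restricted to X ×_k K, is the inverse image of an invertible
module on K, with its universal property) the scheme K is finite over k. Then the theta group G(L)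
is non-degenerate, in the form: the multiplicative group is the whole centre of G(L), i.e. the
commutator pairing e_L on K(L) has trivial kernel. Concretely, for a k-scheme T and a T-valued point
y of K such that i(y) is orthogonal to every point of K(L) — after every base change T' → T, every
point of G(L)(T') lying over the translation by i(y) commutes with every point lying over the
translation by a point of K — the point i(y) is the unit. (The source states the corollary over any
field, as an isomorphism K(L) ≅ K(L)^D; it is given here over an algebraically closed field, where
the argument through a maximal totally isotropic subgroup applies, and in the centre form, which for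
finite K(L) the source notes is equivalent.) -/
theorem result (k : Type u) [Field k] [IsAlgClosed k]
    (A : Over (Spec (CommRingCat.of k))) [GrpObj A] [IsCommMonObj A] [IsProper A.hom] [GeometricallyIntegral A.hom]
    (L : A.left.Modules) (hL : PicF.IsInvertible L)
    (K : Over (Spec (CommRingCat.of k))) (iK : K ⟶ A) (hK : ThetaGrp.IsKL A L iK) [IsFinite K.hom]
    (T : Over (Spec (CommRingCat.of k))) (y : T ⟶ K)
    (hy : ThetaGrp.IsPerpPt L iK (y ≫ iK)) :
    y ≫ iK = 1 := by
  exact ThetaPerp.eq_one_of_isPerpPt hL hK y hy

end Groth.Agent.S19950
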