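import Groth.Statements.S19952
import Groth.Agent.ThetaLib.RepFinite
import Groth.Agent.S19947
import Groth.Agent.Chev.AntiAff
import Groth.Agent.Chev.LargestSA
import Groth.Agent.Chev.TorsorMap
import Groth.Agent.GrpField.Kernel
import Groth.Agent.AVEuler.Smooth
-- import your own Groth.Agent.* helpers here

set_option autoImplicit false
universe u
open CategoryTheory MonoidalCategory CartesianMonoidalCategory MonObj GrpObj AlgebraicGeometry
open ThetaGrp

set_option backward.isDefEq.respectTransparency false
set_option backward.isDefEq.respectTransparency.types false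
set_option linter.style.haveILetI false

namespace Groth.Agent.S19952

open ThetaLib

/-- Let X be an abelian variety over a field k (a proper, geometrically integral, commutative k-group
scheme), L an invertible O_X-module, and G a k-group scheme with a point u ∈ G(L)(G) representing
the theta group of L (every point of G(L)(T) is the base change of u along a unique T → G,
multiplicatively). Let j : H → G be a level subgroup — H a k-group scheme, j a homomorphism of group
schemes and an immersion, such that a point of H whose image lies over the identity translation is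
trivial — and let i_H : H → X be the morphism it lies over: for every k-scheme T and T-valued point
h of H the base change of u along j(h) lies over the translation by i_H(h). Then there are an
abelian variety Y over k (proper, geometrically integral k-group scheme), a surjective homomorphism
f : X → Y whose kernel is i_H (i_H and f form a cartesian square with the unit section of Y), and an
invertible O_Y-module M with f^*M ≅ L. (The source states a bijection between level subgroups and
isomorphism classes of such pairs (f, M); this row is the existence of a pair for a given level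
subgroup.) -/
theorem result (k : Type u) [Field k]
    (A : Over (Spec (CommRingCat.of k))) [GrpObj A] [IsCommMonObj A] [IsProper A.hom] [GeometricallyIntegral A.hom]
    (L : A.left.Modules) (hL : PicF.IsInvertible L)
    (G : Over (Spec (CommRingCat.of k))) [GrpObj G] (u : ThetaGrp.thetaPts A L G)
    (hG : ThetaGrp.IsThetaGrpSch A L G u)
    (H : Over (Spec (CommRingCat.of k))) [GrpObj H] (j : H ⟶ G) (hj : ThetaGrp.IsLevelSubgrp u j)
    (iH : H ⟶ A)
    (hover : ∀ (T : Over (Spec (CommRingCat.of k))) (h : T ⟶ H) (β : ThetaGrp.thetaPts A L T),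
      ThetaGrp.IsBaseChange β (h ≫ j) u → ThetaGrp.IsOverPt β (h ≫ iH)) :
    ∃ (B : Over (Spec (CommRingCat.of k))) (_ : GrpObj B) (f : A ⟶ B),
      IsProper B.hom ∧ GeometricallyIntegral B.hom ∧ IsMonHom f ∧ Surjective f.left ∧
      AlgGrp.IsKernel iH f ∧
      ∃ M : B.left.Modules, PicF.IsInvertible M ∧ Nonempty ((Scheme.Modules.pullback f.left).obj M ≅ L) := by
  obtain ⟨hjim, hjm, hlev⟩ := hj
  haveI := hjim; haveI := hjm
  obtain ⟨hGq, hGf⟩ := finiteType_of_univ hL u hG.univ
  haveI := hGq; haveI := hGf
  obtain ⟨p, hp⟩ := exists_pt u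
  have hpmul : ∀ (T : Over (Spec (CommRingCat.of k))) (a b : T ⟶ G), (a * b) ≫ p = (a ≫ p) * (b ≫ p) :=
    fun T a b => by
      obtain ⟨β₁, h₁, h₁'⟩ := exists_bc a hp
      obtain ⟨β₂, h₂, h₂'⟩ := exists_bc b hp
      have h := pt_unique (isOverPt_of_bc hp (hG.mul T a b β₁ β₂ h₁ h₂)) (isOverPt_mul h₁' h₂')
      rw [h, _root_.mul_comm]
  have hpone : η[G] ≫ p = η[A] := by
    have h := hpmul (𝟙_ _) 1 1
    rw [_root_.one_mul] at h
    simpa [Hom.one_def] using right_eq_mul.1 h
  haveI : IsMonHom p := ⟨hpone, by
    have h := hpmul (G ⊗ G) (fst G G) (snd G G)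
    simpa [Hom.mul_def, MonoidalCategory.tensorHom_def] using h⟩
  obtain rfl : iH = j ≫ p := by
    obtain ⟨β, hβ, hβ'⟩ := exists_bc (𝟙 H ≫ j) hp
    simpa using pt_unique (hover H (𝟙 H) β hβ) hβ'
  haveI : Mono (j ≫ p) := ⟨fun {T} a b hab => by
    have hd : (a * b⁻¹) ≫ j ≫ p = 1 := by
      rw [MonObj.mul_comp, GrpObj.inv_comp, hab, mul_inv_cancel]
    obtain ⟨β, hβ, -⟩ := exists_bc ((a * b⁻¹) ≫ j) hp
    have h1 := hover T (a * b⁻¹) β hβ
    rw [hd] at h1
    exact mul_inv_eq_one.1 (hlev T _ β hβ h1)⟩
  haveI : IsLocallyNoetherian G.left := LocallyOfFiniteType.isLocallyNoetherian G.hom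
  haveI : CompactSpace G.left := QuasiCompact.compactSpace_of_compactSpace G.hom
  haveI : IsNoetherian G.left := {}
  haveI : LocallyOfFiniteType H.hom := by rw [← Over.w j]; infer_instance
  haveI : TopologicalSpace.NoetherianSpace H.left := j.left.isEmbedding.isInducing.noetherianSpace
  haveI : QuasiCompact H.hom := (quasiCompact_iff_compactSpace (f := H.hom)).2 inferInstance
  haveI : QuasiCompact (j ≫ p).left := by
    haveI : QuasiCompact ((j ≫ p).left ≫ A.hom) := by rw [Over.w]; infer_instance
    exact QuasiCompact.of_comp _ A.hom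
  haveI : IsClosedImmersion (j ≫ p).left := Groth.Agent.GrpField.isClosedImmersion_of_mono (j ≫ p)
  haveI : Smooth A.hom := Groth.Agent.AVEuler.smooth_of_geometricallyReduced A
  haveI : IsIntegral A.left := GeometricallyIntegral.isIntegral_of_subsingleton A.hom
  have hn : AlgGrp.IsNormalHom (j ≫ p) := fun T g n => ⟨n, by rw [_root_.mul_comm g, _root_.mul_assoc, mul_inv_cancel, _root_.mul_one]⟩
  obtain ⟨B, hB, f, hfm, hff, hfs, hk, hsep, hsm, hqc, hcon, hfp⟩ := Groth.Agent.Chev.exists_quotient_group' (j ≫ p) hn
  haveI := hfm; haveI := hff; haveI := hfs; haveI := hfp; haveI := hsm; haveI := hqc; haveI := hcon; haveI := hsep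
  haveI : IsCommMonObj B := Groth.Agent.Chev.isCommMonObj_of_surjective f
  haveI : UniversallyClosed B.hom := by
    haveI : UniversallyClosed (f.left ≫ B.hom) := by rw [Over.w f]; infer_instance
    exact UniversallyClosed.of_comp_surjective f.left B.hom
  haveI : IsProper B.hom := {}
  haveI : GeometricallyIntegral B.hom := Groth.Agent.Chev.geometricallyIntegral_of_group
  refine ⟨B, hB, f, inferInstance, inferInstance, hfm, hfs, hk, ?_⟩
  exact (Groth.Agent.S19947.result k A B f hfs H (j ≫ p) hk L hL G u hG).2 ⟨j, hjm, hover⟩

end Groth.Agent.S19952
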