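import Groth.Statements.S19953
import Groth.Agent.ThetaLib.Proj
import Mathlib.AlgebraicGeometry.Morphisms.Immersion
-- import your own Groth.Agent.* helpers here

set_option autoImplicit false
universe u
open CategoryTheory MonoidalCategory CartesianMonoidalCategory MonObj GrpObj AlgebraicGeometry
open ThetaGrp

set_option backward.isDefEq.respectTransparency false
set_option backward.isDefEq.respectTransparency.types false
set_option linter.style.haveILetI false

namespace Groth.Agent.S19953

open ThetaLib

/-- Let f : X → Y be a surjective homomorphism of abelian varieties over a field k (proper,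
geometrically integral, commutative k-group schemes), i : N → X its kernel (a homomorphism forming a
cartesian square with the unit section of Y), L an invertible O_X-module, M an invertible O_Y-module
with f^*M ≅ L, and G a k-group scheme with a point u ∈ G(L)(G) representing the theta group of L
(every point of G(L)(T) is the base change of u along a unique T → G, multiplicatively). Then there
is a level subgroup of G(L) whose image in K(L) is Ker(f): a homomorphism of group schemes j : N → G
that is an immersion, such that a point of N whose image lies over the identity translation is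
trivial, and that lies over i (for every k-scheme T and T-valued point n of N, the base change of u
along j(n) lies over the translation by i(n)). -/
theorem result (k : Type u) [Field k]
    (A : Over (Spec (CommRingCat.of k))) [GrpObj A] [IsCommMonObj A] [IsProper A.hom] [GeometricallyIntegral A.hom]
    (B : Over (Spec (CommRingCat.of k))) [GrpObj B] [IsCommMonObj B] [IsProper B.hom] [GeometricallyIntegral B.hom]
    (f : A ⟶ B) [IsMonHom f] (hf : Surjective f.left)
    (N : Over (Spec (CommRingCat.of k))) [GrpObj N] (i : N ⟶ A) [IsMonHom i] (hN : AlgGrp.IsKernel i f)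
    (L : A.left.Modules) (hL : PicF.IsInvertible L)
    (M : B.left.Modules) (hM : PicF.IsInvertible M)
    (hLM : Nonempty ((Scheme.Modules.pullback f.left).obj M ≅ L))
    (G : Over (Spec (CommRingCat.of k))) [GrpObj G] (u : ThetaGrp.thetaPts A L G)
    (hG : ThetaGrp.IsThetaGrpSch A L G u) :
    ∃ j : N ⟶ G, IsMonHom j ∧ ThetaGrp.IsLevelSubgrp u j ∧
      ∀ (T : Over (Spec (CommRingCat.of k))) (n : T ⟶ N) (β : ThetaGrp.thetaPts A L T),
        ThetaGrp.IsBaseChange β (n ≫ j) u → ThetaGrp.IsOverPt β (n ≫ i) := by
  obtain ⟨e⟩ := hLM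
  have hif : i ≫ f = (1 : N ⟶ B) := hN.w
  have hover : ∀ (T : Over (Spec (CommRingCat.of k))) (n : T ⟶ N),
      IsOverPt (1 : ThetaGrp.thetaPts B M T) ((n ≫ i) ≫ f) := fun T n => by
    rw [Category.assoc, hif, MonObj.comp_one]
    exact isOverPt_one
  -- the lifts over the points of the kernel
  choose lft hlft hlftx using fun (T : Over (Spec (CommRingCat.of k))) (n : T ⟶ N) =>
    exists_descPt f e (hover T n)
  obtain ⟨j, hj, -⟩ := hG.univ N (lft N (𝟙 N))
  have hbc : ∀ (T : Over (Spec (CommRingCat.of k))) (n : T ⟶ N),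
      ThetaGrp.IsBaseChange (lft T n) (n ≫ j) u := fun T n => by
    obtain ⟨c, hc, hcx⟩ := exists_bc n (hlftx N (𝟙 N))
    obtain ⟨d, hd, hdx⟩ := exists_bc n (hover N (𝟙 N))
    have h1 : d = 1 := by
      refine bc_unique hd ?_
      exact (Category.id_comp _).trans (Category.comp_id _).symm
    have h := isDescPt_bc f e (hover N (𝟙 N)) (hlft N (𝟙 N)) (hlftx N (𝟙 N)) hc hd
    rw [h1] at h
    rw [show n ≫ 𝟙 N ≫ i = n ≫ i by rw [Category.id_comp]] at hcx
    rw [← isDescPt_unique f e h (hlft T n) hcx (hlftx T n)]
    exact bc_trans hc hj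
  obtain ⟨p, hp⟩ := exists_pt u
  have hjp : j ≫ p = i := by
    have := pt_unique (isOverPt_of_bc hp (hbc N (𝟙 N))) (hlftx N (𝟙 N))
    simpa using this
  have hover' : ∀ (T : Over (Spec (CommRingCat.of k))) (n : T ⟶ N) (β : ThetaGrp.thetaPts A L T),
      ThetaGrp.IsBaseChange β (n ≫ j) u → ThetaGrp.IsOverPt β (n ≫ i) := fun T n β hβ => by
    rw [← hjp, ← Category.assoc]
    exact isOverPt_of_bc hp hβ
  have hmul : ∀ (T : Over (Spec (CommRingCat.of k))) (a b : T ⟶ N), (a * b) ≫ j = (a ≫ j) * (b ≫ j) := fun T a b => by
    have h2 : lft T a * lft T b = lft T (a * b) := by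
      refine isDescPt_unique f e ?_ (hlft T (a * b)) (isOverPt_mul (hlftx T a) (hlftx T b)) ?_
      · have h := isDescPt_mul f e (hlft T a) (hlft T b)
        rwa [_root_.one_mul] at h
      · rw [_root_.mul_comm (b ≫ i), ← MonObj.mul_comp]
        exact hlftx T (a * b)
    have h3 := hG.mul T _ _ _ _ (hbc T a) (hbc T b)
    rw [h2] at h3
    exact (hG.univ T _).unique (hbc T (a * b)) h3
  have hone : η[N] ≫ j = η[G] := by
    have h := hmul (𝟙_ _) 1 1
    rw [_root_.one_mul] at h
    have h' : (1 : 𝟙_ _ ⟶ N) ≫ j = 1 := right_eq_mul.1 h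
    simpa [Hom.one_def] using h'
  haveI : IsMonHom j := ⟨hone, by
    have h := hmul (N ⊗ N) (fst N N) (snd N N)
    simpa [Hom.mul_def, MonoidalCategory.tensorHom_def] using h⟩
  refine ⟨j, inferInstance, ⟨?_, inferInstance, fun T h β hβ hβ1 => ?_⟩, hover'⟩
  · haveI : IsClosedImmersion (η[B] : 𝟙_ _ ⟶ B).left :=
      haveI : IsClosedImmersion ((η[B] : 𝟙_ _ ⟶ B).left ≫ B.hom) := by
        rw [Over.w (η[B] : 𝟙_ _ ⟶ B)]
        exact inferInstanceAs (IsClosedImmersion (𝟙 _))
      IsClosedImmersion.of_comp _ B.hom
    haveI : IsClosedImmersion i.left :=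
      MorphismProperty.of_isPullback (P := @IsClosedImmersion) (hN.map (Over.forget _)).flip this
    haveI : IsImmersion (j.left ≫ p.left) := by
      rw [← Over.comp_left, hjp]
      infer_instance
    exact IsImmersion.of_comp j.left p.left
  · have h1 : h ≫ i = 1 := pt_unique (hover' T h β hβ) hβ1
    refine hN.hom_ext ?_ (toUnit_unique _ _)
    rw [h1, MonObj.one_comp]

end Groth.Agent.S19953
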