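import Groth.Statements.S19954
import Groth.Agent.ThetaLib.Local
import Groth.Agent.ThetaLib.Commutator
import Groth.Agent.ThetaLib.Pull
-- import your own Groth.Agent.* helpers here

set_option autoImplicit false
universe u
open CategoryTheory MonoidalCategory CartesianMonoidalCategory MonObj GrpObj AlgebraicGeometry
open ThetaGrp

set_option backward.isDefEq.respectTransparency false
set_option backward.isDefEq.respectTransparency.types false
set_option linter.style.haveILetI false

namespace Groth.Agent.S19954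

open ThetaLib

/-- Let f : X → Y be a homomorphism of abelian varieties over a field k (proper, geometrically integral,
commutative k-group schemes), L an invertible O_Y-module, and i_K : K → Y a closed immersion
exhibiting K as K(L), the maximal closed subscheme of Y over which the Mumford bundle m^*L ⊗
p_1^*L⁻¹ ⊗ p_2^*L⁻¹, restricted to Y ×_k K, is the inverse image of an invertible module on K, with
its universal property. The identity e_{f^*L} = e_L ∘ (f, f) on f⁻¹(K(L)) is stated here through the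
vanishing of the two commutator pairings: for a k-scheme H and a k-morphism i_H : H → X such that f
∘ i_H factors through i_K, the pairing e_L is trivial on the image of H in Y — for every k-scheme T,
any two points of G(L)(T) lying over the translations by f(i_H(h₁)), f(i_H(h₂)) for T-valued points
h₁, h₂ of H commute — if and only if e_{f^*L} is trivial on H: any two points of G(f^*L)(T) lying
over the translations by i_H(h₁), i_H(h₂) commute. -/
theorem result (k : Type u) [Field k]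
    (A : Over (Spec (CommRingCat.of k))) [GrpObj A] [IsCommMonObj A] [IsProper A.hom] [GeometricallyIntegral A.hom]
    (B : Over (Spec (CommRingCat.of k))) [GrpObj B] [IsCommMonObj B] [IsProper B.hom] [GeometricallyIntegral B.hom]
    (f : A ⟶ B) [IsMonHom f]
    (L : B.left.Modules) (hL : PicF.IsInvertible L)
    (K : Over (Spec (CommRingCat.of k))) (iK : K ⟶ B) (hK : ThetaGrp.IsKL B L iK)
    (H : Over (Spec (CommRingCat.of k))) (iH : H ⟶ A) (hH : ∃ y : H ⟶ K, y ≫ iK = iH ≫ f) :
    ThetaGrp.IsIsotropic L (iH ≫ f) ↔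
      ThetaGrp.IsIsotropic ((Scheme.Modules.pullback f.left).obj L) iH := by
  have hfL : PicF.IsInvertible ((Scheme.Modules.pullback f.left).obj L) := PicLoc.isInvertible_pullback _ hL
  obtain ⟨y₀, hy₀⟩ := hH
  constructor
  · intro hI T h₁ h₂ β₁ β₂ h1 h2
    obtain ⟨t, ht⟩ := exists_com hfL fnT_surjective β₁ β₂
    suffices t = 1 from (isCom_one_iff hfL).1 (this ▸ ht)
    refine fn_ext fun v => ?_
    have hKT : ∀ h : T ⟶ H, ThetaGrp.IsMumfordTriv B L (h ≫ iH ≫ f) := fun h =>
      (hK.univ T _).2 ⟨h ≫ y₀, by rw [Category.assoc, hy₀]⟩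
    obtain ⟨U₁, hv₁, b₁, hb₁⟩ := exists_local hL _ (hKT h₁) v
    obtain ⟨U₂, hv₂, b₂, hb₂⟩ := exists_local hL _ (hKT h₂) v
    let r₁ : opn T (U₁ ⊓ U₂) ⟶ opn T U₁ := Over.homMk (T.left.homOfLE inf_le_left) (by simp)
    let r₂ : opn T (U₁ ⊓ U₂) ⟶ opn T U₂ := Over.homMk (T.left.homOfLE inf_le_right) (by simp)
    let jU := opnι T (U₁ ⊓ U₂)
    have e₁ : r₁ ≫ pieceι U₁ = jU := Over.OverMorphism.ext (T.left.homOfLE_ι (inf_le_left : U₁ ⊓ U₂ ≤ U₁))
    have e₂ : r₂ ≫ pieceι U₂ = jU := Over.OverMorphism.ext (T.left.homOfLE_ι (inf_le_right : U₁ ⊓ U₂ ≤ U₂))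
    obtain ⟨c₁, -, hc₁⟩ := exists_bc r₁ hb₁
    obtain ⟨c₂, -, hc₂⟩ := exists_bc r₂ hb₂
    rw [← Category.assoc, e₁] at hc₁
    rw [← Category.assoc, e₂] at hc₂
    have hcomm : c₁ * c₂ = c₂ * c₁ := hI _ (jU ≫ h₁) (jU ≫ h₂) c₁ c₂
      (by simpa only [Category.assoc] using hc₁) (by simpa only [Category.assoc] using hc₂)
    obtain ⟨a₁, ha₁, hax₁⟩ := exists_pull f (β := c₁) (x := jU ≫ h₁ ≫ iH) (by simpa only [Category.assoc] using hc₁)
    obtain ⟨a₂, ha₂, hax₂⟩ := exists_pull f (β := c₂) (x := jU ≫ h₂ ≫ iH) (by simpa only [Category.assoc] using hc₂)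
    obtain ⟨d₁, hd₁, hdx₁⟩ := exists_bc jU h1
    obtain ⟨d₂, hd₂, hdx₂⟩ := exists_bc jU h2
    refine ⟨U₁ ⊓ U₂, ⟨hv₁, hv₂⟩, (isCom_unique hfL (isCom_bc hd₁ hd₂ ht) (isCom_indep hfL fnT_surjective hax₁ hdx₁ hax₂ hdx₂
      (isCom_pull f ha₁ ha₂ ((isCom_one_iff hL).2 hcomm)))).trans (map_one _).symm⟩
  · intro hI T h₁ h₂ β₁ β₂ h1 h2
    rw [← Category.assoc] at h1 h2
    obtain ⟨t, ht⟩ := exists_com hL fnT_surjective β₁ β₂
    obtain ⟨a₁, ha₁, hax₁⟩ := exists_pull f h1
    obtain ⟨a₂, ha₂, hax₂⟩ := exists_pull f h2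
    have := isCom_unique hfL (isCom_pull f ha₁ ha₂ ht) ((isCom_one_iff hfL).2 (hI T h₁ h₂ a₁ a₂ hax₁ hax₂))
    exact (isCom_one_iff hL).1 (this ▸ ht)

end Groth.Agent.S19954
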