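import Groth.Statements.S19956
import Groth.Agent.ThetaLib.Descend
-- import your own Groth.Agent.* helpers here

set_option autoImplicit false
universe u
open CategoryTheory MonoidalCategory CartesianMonoidalCategory MonObj GrpObj AlgebraicGeometry
open ThetaGrp

set_option backward.isDefEq.respectTransparency false
set_option backward.isDefEq.respectTransparency.types false
set_option linter.style.haveILetI false

namespace Groth.Agent.S19956

open ThetaLib

/-- Let f : X → Y be a surjective homomorphism of abelian varieties over a field k (proper,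
geometrically integral, commutative k-group schemes), i : N → X its kernel (a homomorphism forming a
cartesian square with the unit section of Y), M an invertible O_Y-module and L = f^*M. Let G be a
k-group scheme with a point u ∈ G(L)(G) representing the theta group of L (every point of G(L)(T) is
the base change of u along a unique T → G, multiplicatively), and j : N → G a level subgroup lying
over i: a homomorphism of group schemes and an immersion such that a point of N whose image lies
over the identity translation is trivial, and such that for every T-valued point n of N the base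
change of u along j(n) lies over the translation by i(n). Let i_M : K_M → Y be a closed immersion
exhibiting K_M as K(M) (the maximal closed subscheme of Y over which the Mumford bundle of M,
restricted to Y ×_k K_M, is the inverse image of an invertible module on K_M, with its universal
property). For a k-scheme T, a T-valued point g of G and the T-valued point x of X under it (the
base change of u along g lies over the translation by x): g lies in the centralizer of j(N) — for
every T' → T and every T'-valued point n of N, the restriction of g commutes with j(n) in the group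
G(T') — if and only if f(x) factors through i_M. (The source states this for the level subgroup
attached to the descent M; by the source's description of f⁻¹(K(M)) as Ker(f)^⊥ both sides depend
only on Ker(f), so it is stated for any level structure over i. The identification of G(M) with the
centralizer modulo j(N) is not part of this statement.) -/
theorem result (k : Type u) [Field k]
    (A : Over (Spec (CommRingCat.of k))) [GrpObj A] [IsCommMonObj A] [IsProper A.hom] [GeometricallyIntegral A.hom]
    (B : Over (Spec (CommRingCat.of k))) [GrpObj B] [IsCommMonObj B] [IsProper B.hom] [GeometricallyIntegral B.hom]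
    (f : A ⟶ B) [IsMonHom f] (hf : Surjective f.left)
    (N : Over (Spec (CommRingCat.of k))) [GrpObj N] (i : N ⟶ A) [IsMonHom i] (hN : AlgGrp.IsKernel i f)
    (M : B.left.Modules) (hM : PicF.IsInvertible M)
    (G : Over (Spec (CommRingCat.of k))) [GrpObj G]
    (u : ThetaGrp.thetaPts A ((Scheme.Modules.pullback f.left).obj M) G)
    (hG : ThetaGrp.IsThetaGrpSch A ((Scheme.Modules.pullback f.left).obj M) G u)
    (j : N ⟶ G) [IsMonHom j] (hj : ThetaGrp.IsLevelSubgrp u j)
    (hover : ∀ (T : Over (Spec (CommRingCat.of k))) (n : T ⟶ N)
      (β : ThetaGrp.thetaPts A ((Scheme.Modules.pullback f.left).obj M) T),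
      ThetaGrp.IsBaseChange β (n ≫ j) u → ThetaGrp.IsOverPt β (n ≫ i))
    (KM : Over (Spec (CommRingCat.of k))) (iM : KM ⟶ B) (hKM : ThetaGrp.IsKL B M iM)
    (T : Over (Spec (CommRingCat.of k))) (g : T ⟶ G) (x : T ⟶ A)
    (β : ThetaGrp.thetaPts A ((Scheme.Modules.pullback f.left).obj M) T)
    (hβ : ThetaGrp.IsBaseChange β g u) (hx : ThetaGrp.IsOverPt β x) :
    (∀ (T' : Over (Spec (CommRingCat.of k))) (t : T' ⟶ T) (n : T' ⟶ N),
        (t ≫ g) * (n ≫ j) = (n ≫ j) * (t ≫ g)) ↔
      ∃ y : T ⟶ KM, y ≫ iM = x ≫ f := by
  have hL : PicF.IsInvertible ((Scheme.Modules.pullback f.left).obj M) := PicLoc.isInvertible_pullback _ hM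
  have key : ∀ (T' : Over (Spec (CommRingCat.of k))) (a b : T' ⟶ G)
      (βa βb : ThetaGrp.thetaPts A ((Scheme.Modules.pullback f.left).obj M) T'),
      ThetaGrp.IsBaseChange βa a u → ThetaGrp.IsBaseChange βb b u → (a * b = b * a ↔ βa * βb = βb * βa) := by
    intro T' a b βa βb ha hb
    have h1 := hG.mul T' a b βa βb ha hb
    have h2 := hG.mul T' b a βb βa hb ha
    refine ⟨fun h => ?_, fun h => ?_⟩
    · rw [h] at h1
      exact bc_unique h1 h2
    · rw [h] at h1
      exact (hG.univ T' _).unique h1 h2
  constructor
  · intro hc
    have hp : ThetaGrp.IsPerpPt ((Scheme.Modules.pullback f.left).obj M) i x := by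
      intro T' t n β₁ β₂ h₁ h₂
      obtain ⟨b₁, hb₁, hbx₁⟩ := exists_bc t hx
      obtain ⟨b₂, hb₂, -⟩ := hG.exists_bc T' (n ≫ j)
      have hcomm := (key T' _ _ b₁ b₂ (bc_trans hb₁ hβ) hb₂).1 (hc T' t n)
      exact (isCom_one_iff hL).1 (isCom_indep hL fnT_surjective hbx₁ h₁ (hover T' n b₂ hb₂) h₂
        ((isCom_one_iff hL).2 hcomm))
    have hxT : ThetaGrp.IsOverPt β (𝟙 T ≫ x) := by rwa [Category.id_comp]
    obtain ⟨β₀, hβ₀⟩ := exists_local_descend f (Iso.refl _) hf hN hM hp (𝟙 T) hxT
    rw [Category.id_comp] at hβ₀
    exact (hKM.univ _ _).1 (isMumfordTriv_of_lift hM hβ₀)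
  · intro hy T' t n
    have hp := isPerpPt_of_isMumfordTriv f (Iso.refl ((Scheme.Modules.pullback f.left).obj M)) hN hM
      ((hKM.univ T _).2 hy)
    obtain ⟨b₁, hb₁, hbx₁⟩ := exists_bc t hx
    obtain ⟨b₂, hb₂, -⟩ := hG.exists_bc T' (n ≫ j)
    exact (key T' _ _ b₁ b₂ (bc_trans hb₁ hβ) hb₂).2 (hp T' t n b₁ b₂ hbx₁ (hover T' n b₂ hb₂))

end Groth.Agent.S19956
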