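import Groth.Statements.S19963
import Groth.Agent.AffineHorrocks.Descent

set_option autoImplicit false
set_option linter.style.haveILetI false
set_option backward.isDefEq.respectTransparency false
open Groth.Agent
open Polynomial TensorProduct
universe u
open CAlg

namespace Groth.Agent.S19963

/-- Let A be a commutative ring and let A(t) denote the localization of the polynomial ring A[t] at the
multiplicative subset of monic polynomials, viewed as an A-algebra. If P and P' are finitely
generated projective A-modules such that A(t) ⊗_A P and A(t) ⊗_A P' are isomorphic A(t)-modules,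
then P and P' are isomorphic A-modules: non-isomorphic finite projective modules stay non-isomorphic
over A(t). (The published statement also covers base change to the ring A((t)) of Laurent power
series, and modules over A(t) itself; only the A(t) assertion for modules over A is stated.) -/
theorem result
    (A : Type u) [CommRing A] (M : Submonoid A[X]) (hM : ∀ f : A[X], f ∈ M ↔ f.Monic)
    (At : Type u) [CommRing At] [Algebra A[X] At] [IsLocalization M At]
    [Algebra A At] [IsScalarTower A A[X] At]
    (P P' : Type u) [AddCommGroup P] [Module A P] [Module.Finite A P] [Module.Projective A P]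
    [AddCommGroup P'] [Module A P'] [Module.Finite A P'] [Module.Projective A P']
    (h : Nonempty ((At ⊗[A] P) ≃ₗ[At] (At ⊗[A] P'))) :
    Nonempty (P ≃ₗ[A] P') := by
  classical
  obtain ⟨n, q, i, -, -, hqi⟩ := Module.Finite.exists_comp_eq_id_of_projective A P
  obtain ⟨m, q', i', -, -, hqi'⟩ := Module.Finite.exists_comp_eq_id_of_projective A P'
  have hq : ∀ z, q (i z) = z := fun z => DFunLike.congr_fun hqi z
  have hq' : ∀ z, q' (i' z) = z := fun z => DFunLike.congr_fun hqi' z
  obtain ⟨ψ⟩ := h
  obtain ⟨x, y, hxy, hyx⟩ := AffHorrocks.exists_matrices_of_equiv At hq hq' ψ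
  set e := LinearMap.toMatrix' (i ∘ₗ q) with hedef
  set e' := LinearMap.toMatrix' (i' ∘ₗ q') with hedef'
  have he : e * e = e := AffHorrocks.frame_idem hq
  have he' : e' * e' = e' := AffHorrocks.frame_idem hq'
  let c := e.map (Polynomial.C : A →+* A[X])
  let c' := e'.map (Polynomial.C : A →+* A[X])
  let φ := algebraMap A[X] At
  have hφC : ∀ {p : ℕ} (d : Matrix (Fin p) (Fin p) A), (d.map Polynomial.C).map φ = d.map (algebraMap A At) := fun d =>
    Matrix.ext fun r s => (IsScalarTower.algebraMap_apply A A[X] At (d r s)).symm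
  have hcc : c * c = c := by simp only [c, ← Matrix.map_mul, he]
  have hcc' : c' * c' = c' := by simp only [c', ← Matrix.map_mul, he']
  -- clear denominators
  have hex : ∀ {p r : ℕ} (P : Matrix (Fin p) (Fin r) At), ∃ f ∈ M, ∃ Q : Matrix (Fin p) (Fin r) A[X],
      Q.map φ = φ f • P := by
    intro p r P
    obtain ⟨f, hf⟩ := IsLocalization.exist_integer_multiples_of_finite M fun st : Fin p × Fin r => P st.1 st.2
    choose Q hQ using hf
    exact ⟨f, f.2, Matrix.of fun s t => Q (s, t), Matrix.ext fun s t => by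
      simp [φ, hQ (s, t), Algebra.smul_def]⟩
  obtain ⟨f, hf, xP, hxP⟩ := hex (c.map φ * x * c'.map φ)
  obtain ⟨g, hg, yP, hyP⟩ := hex (c'.map φ * y * c.map φ)
  let a := g • (c * xP * c')
  let b := f • (c' * yP * c)
  have hxy' : x * y = c.map φ := hxy.trans (hφC e).symm
  have hyx' : y * x = c'.map φ := hyx.trans (hφC e').symm
  have hsm : ∀ {p r : ℕ} (z : A[X]) (P : Matrix (Fin p) (Fin r) A[X]), (z • P).map φ = φ z • P.map φ := fun z P =>
    Matrix.ext fun s t => by simp
  have hφc : c.map φ * c.map φ = c.map φ := by rw [← Matrix.map_mul, hcc]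
  have hφc' : c'.map φ * c'.map φ = c'.map φ := by rw [← Matrix.map_mul, hcc']
  have ha : a.map φ = φ (g * f) • (c.map φ * x * c'.map φ) := by
    rw [hsm, Matrix.map_mul, Matrix.map_mul, hxP, Matrix.mul_smul, Matrix.smul_mul, smul_smul, ← map_mul]
    congr 1
    simp only [← Matrix.mul_assoc, hφc]
    simp only [Matrix.mul_assoc, hφc']
  have hb : b.map φ = φ (g * f) • (c'.map φ * y * c.map φ) := by
    rw [hsm, Matrix.map_mul, Matrix.map_mul, hyP, Matrix.mul_smul, Matrix.smul_mul, smul_smul, ← map_mul, mul_comm g f]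
    congr 1
    simp only [← Matrix.mul_assoc, hφc']
    simp only [Matrix.mul_assoc, hφc]
  have hca : c * a = a := by simp only [a, Matrix.mul_smul, ← Matrix.mul_assoc, hcc]
  have hac : a * c' = a := by simp only [a, Matrix.smul_mul, Matrix.mul_assoc, hcc']
  have hcb : c' * b = b := by simp only [b, Matrix.mul_smul, ← Matrix.mul_assoc, hcc']
  have hbc : b * c = b := by simp only [b, Matrix.smul_mul, Matrix.mul_assoc, hcc]
  let F := g * f
  have h1 : (a * b).map φ = ((F * F) • c).map φ := by
    rw [Matrix.map_mul, ha, hb, hsm, Matrix.smul_mul, Matrix.mul_smul, smul_smul, ← map_mul]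
    congr 1
    calc c.map φ * x * c'.map φ * (c'.map φ * y * c.map φ) = c.map φ * x * (c'.map φ * c'.map φ) * y * c.map φ := by
          simp only [Matrix.mul_assoc]
      _ = c.map φ * (x * y * (x * y)) * c.map φ := by rw [hφc', ← hyx']; simp only [Matrix.mul_assoc]
      _ = c.map φ := by simp only [hxy', hφc]
  have h2 : (b * a).map φ = ((F * F) • c').map φ := by
    rw [Matrix.map_mul, ha, hb, hsm, Matrix.smul_mul, Matrix.mul_smul, smul_smul, ← map_mul]
    congr 1
    calc c'.map φ * y * c.map φ * (c.map φ * x * c'.map φ) = c'.map φ * y * (c.map φ * c.map φ) * x * c'.map φ := by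
          simp only [Matrix.mul_assoc]
      _ = c'.map φ * (y * x * (y * x)) * c'.map φ := by rw [hφc, ← hxy']; simp only [Matrix.mul_assoc]
      _ = c'.map φ := by simp only [hyx', hφc']
  -- kill the error
  have hk : ∀ {p : ℕ} (D : Matrix (Fin p) (Fin p) A[X]), D.map φ = 0 → ∃ k ∈ M, k • D = 0 := by
    intro p D hD
    choose k hk using fun st : Fin p × Fin p =>
      (IsLocalization.map_eq_zero_iff M At _).1 (congrFun (congrFun hD st.1) st.2)
    refine ⟨∏ st, (k st : A[X]), Submonoid.prod_mem _ fun st _ => (k st).2, Matrix.ext fun s t => ?_⟩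
    rw [Matrix.smul_apply, smul_eq_mul, ← Finset.prod_erase_mul _ _ (Finset.mem_univ (s, t)), mul_assoc, hk (s, t),
      mul_zero, Matrix.zero_apply]
  obtain ⟨k₁, hk₁, e₁⟩ := hk (a * b - (F * F) • c) (by
    refine (Matrix.map_sub _ (map_sub φ) _ _).trans (sub_eq_zero.2 h1))
  obtain ⟨k₂, hk₂, e₂⟩ := hk (b * a - (F * F) • c') (by
    refine (Matrix.map_sub _ (map_sub φ) _ _).trans (sub_eq_zero.2 h2))
  rw [smul_sub, sub_eq_zero] at e₁ e₂
  obtain ⟨u, v, huv, hvu⟩ := AffHorrocks.exists_equiv_of_monic he he' (a := (k₁ * k₂) • a) (b := (k₁ * k₂) • b)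
    (F := k₁ * k₂ * F) ((hM _).1 (mul_mem (mul_mem hk₁ hk₂) (mul_mem hg hf)))
    (show (k₁ * k₂) • a * (k₁ * k₂) • b = (k₁ * k₂ * F * (k₁ * k₂ * F)) • c by
      rw [Matrix.smul_mul, Matrix.mul_smul, smul_smul, show k₁ * k₂ * (k₁ * k₂) = k₁ * k₂ * k₂ * k₁ by ring, mul_smul,
        e₁, smul_smul, smul_smul]
      congr 1
      ring)
    (show (k₁ * k₂) • b * (k₁ * k₂) • a = (k₁ * k₂ * F * (k₁ * k₂ * F)) • c' by
      rw [Matrix.smul_mul, Matrix.mul_smul, smul_smul, show k₁ * k₂ * (k₁ * k₂) = k₁ * k₂ * k₁ * k₂ by ring, mul_smul,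
        e₂, smul_smul, smul_smul]
      congr 1
      ring)
    (show c * ((k₁ * k₂) • a) = _ by rw [Matrix.mul_smul, hca])
    (show ((k₁ * k₂) • a) * c' = _ by rw [Matrix.smul_mul, hac])
    (show c' * ((k₁ * k₂) • b) = _ by rw [Matrix.mul_smul, hcb])
    (show ((k₁ * k₂) • b) * c = _ by rw [Matrix.smul_mul, hbc])
  exact AffHorrocks.nonempty_equiv_of_matrices hq hq' huv hvu

end Groth.Agent.S19963
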