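import Groth.Statements.S19964
import Groth.Agent.NeronGen.Dense
import Groth.Agent.FlatClosure.Basic
import Groth.Agent.MTBridge.Centralizer

set_option autoImplicit false
universe u
open CategoryTheory MonoidalCategory CartesianMonoidalCategory MonObj GrpObj AlgebraicGeometry CategoryTheory.Limits
open Neron

namespace Groth.Agent.S19964
open Groth.Agent
open scoped CategoryTheory.Obj

/-- Let R be a Dedekind domain with fraction field K, G a group scheme over Spec R and i : H_K → G_K a
closed subgroup scheme of the generic fibre G_K = G ×_R K (a homomorphism which is a closed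
immersion). Then there are a group scheme H over Spec R, flat over Spec R, and a homomorphism j : H
→ G which is a closed immersion, together with a morphism H_K → H presenting H_K as the generic
fibre H ×_R K compatibly with i and the embedding G_K → G, and with trivial kernel ideal sheaf (H_K
is schematically dense in H). In words: the schematic closure in G of a closed K-subgroup of the
generic fibre is a flat closed R-subgroup scheme of G. (The source states this for group algebraic
spaces over a connected Dedekind scheme; the case of schemes over an affine base is stated.) -/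
theorem result
    (R : Type u) [CommRing R] [IsDedekindDomain R]
    (G : Over (Spec (CommRingCat.of R))) [GrpObj G]
    (HK : Over (Spec (CommRingCat.of (FractionRing R)))) [GrpObj HK]
    (i : HK ⟶ Red.bc (Neron.genPt R) G) [IsMonHom i] [IsClosedImmersion i.left] :
    ∃ (H : Over (Spec (CommRingCat.of R))) (_ : GrpObj H) (j : H ⟶ G) (φ : HK.left ⟶ H.left),
      IsMonHom j ∧ IsClosedImmersion j.left ∧ Flat H.hom ∧
      IsPullback φ HK.hom H.hom (Neron.genPt R) ∧
      φ ≫ j.left = i.left ≫ pullback.fst G.hom (Neron.genPt R) ∧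
      φ.ker = ⊥ := by
  let g := Neron.genPt R
  haveI : Flat g := by
    rw [show g = Spec.map (CommRingCat.ofHom (algebraMap R (FractionRing R))) from rfl, Flat.SpecMap_iff,
      CommRingCat.hom_ofHom, RingHom.flat_algebraMap_iff]
    exact IsLocalization.flat _ (nonZeroDivisors R)
  haveI := NeronGen.schDom_genPt R
  haveI : Mono g := by
    haveI : Epi (CommRingCat.ofHom (algebraMap R (FractionRing R))) :=
      ⟨fun a b h => CommRingCat.hom_ext
        (IsLocalization.ringHom_ext (nonZeroDivisors R) (congrArg CommRingCat.Hom.hom h))⟩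
    exact ⟨fun {Z} a b h => by
      haveI : IsPreimmersion g := IsPreimmersion.of_isLocalization (S := FractionRing R) (nonZeroDivisors R)
      exact (cancel_mono g).1 h⟩
  let q := pullback.fst G.hom g
  let m := i.left ≫ q
  haveI : IsAffineHom q := MorphismProperty.pullback_fst _ _ inferInstance
  haveI : QuasiCompact m := inferInstance
  have hm : m ≫ G.hom = HK.hom ≫ g := by
    show (i.left ≫ q) ≫ G.hom = _
    rw [Category.assoc, pullback.condition, ← Category.assoc]
    exact congrArg (· ≫ g) (Over.w i)
  have hflat : Flat (m.imageι ≫ G.hom) := by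
    have hA : ∀ (P : Ideal R) [P.IsMaximal], ValuationRing (Localization.AtPrime P) := by
      intro P _
      by_cases hP : P = ⊥
      · subst hP
        haveI : IsFractionRing R (Localization.AtPrime (⊥ : Ideal R)) := by
          have h0 : (⊥ : Ideal R).primeCompl = nonZeroDivisors R := by
            ext x; simp [Ideal.primeCompl]
          show IsLocalization _ _
          rw [← h0]; infer_instance
        letI := IsFractionRing.toField R (K := Localization.AtPrime (⊥ : Ideal R))
        infer_instance
      · haveI := IsLocalization.AtPrime.isDiscreteValuationRing_of_dedekind_domain R hP (Localization.AtPrime P)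
        infer_instance
    let Z := m.imageι
    refine (HasRingHomProperty.iff_of_iSup_eq_top (P := @Flat) (f := Z ≫ G.hom)
      (fun U : G.left.affineOpens => (⟨Z ⁻¹ᵁ U.1, U.2.preimage Z⟩ : m.image.affineOpens)) ?_).2 fun U => ?_
    · exact top_le_iff.1 fun z _ => by
        obtain ⟨U, hU, hzU, -⟩ := exists_isAffineOpen_mem_and_subset (X := G.left) (x := Z z) (U := ⊤) trivial
        exact TopologicalSpace.Opens.mem_iSup.2 ⟨⟨U, hU⟩, hzU⟩
    · let φ : R →+* Γ(m.image, Z ⁻¹ᵁ U.1) := ((Z ≫ G.hom).appLE ⊤ (Z ⁻¹ᵁ U.1) le_top).hom.comp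
        (Scheme.ΓSpecIso (CommRingCat.of R)).inv.hom
      suffices φ.Flat by
        have h' := RingHom.Flat.comp (RingHom.Flat.of_bijective
          (ConcreteCategory.bijective_of_isIso (Scheme.ΓSpecIso (CommRingCat.of R)).hom)) this
        convert h' using 1
        ext x
        show _ = ((Z ≫ G.hom).appLE ⊤ (Z ⁻¹ᵁ U.1) le_top).hom
          ((Scheme.ΓSpecIso (CommRingCat.of R)).inv ((Scheme.ΓSpecIso (CommRingCat.of R)).hom x))
        rw [Iso.hom_inv_id_apply]
      refine FlatClosure.flat_of_torsionFree φ hA fun r c hr hc => ?_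
      obtain ⟨b, rfl⟩ := Z.app_surjective U.1 U.2 c
      have hker : RingHom.ker (Z.app U.1).hom = m.ker.ideal U := m.ker.ker_subschemeι_app U
      let a := G.hom.appLE ⊤ U.1 le_top ((Scheme.ΓSpecIso (CommRingCat.of R)).inv r)
      have hφ : φ r = Z.app U.1 a := by
        show (Z ≫ G.hom).appLE ⊤ (Z ⁻¹ᵁ U.1) le_top _ = _
        rw [← Scheme.Hom.appLE_comp_appLE Z G.hom ⊤ U.1 (Z ⁻¹ᵁ U.1) le_top le_rfl, CommRingCat.comp_apply,
          ← Scheme.Hom.app_eq_appLE]
      rw [hφ] at hc
      have key : a * b ∈ RingHom.ker (Z.app U.1).hom := by rw [RingHom.mem_ker, map_mul]; exact hc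
      rw [hker, m.ker_apply, RingHom.mem_ker, map_mul] at key
      have hu : IsUnit ((m.app U.1).hom a) := by
        have e1 : (m.app U.1).hom a = (m ≫ G.hom).appLE ⊤ (m ⁻¹ᵁ U.1) le_top ((Scheme.ΓSpecIso (CommRingCat.of R)).inv r) := by
          rw [← Scheme.Hom.appLE_comp_appLE m G.hom ⊤ U.1 (m ⁻¹ᵁ U.1) le_top le_rfl, CommRingCat.comp_apply,
            ← Scheme.Hom.app_eq_appLE]
        rw [e1]
        have aux : ∀ (h : HK.left ⟶ Spec (CommRingCat.of R)), h = HK.hom ≫ g →
            IsUnit (h.appLE ⊤ (m ⁻¹ᵁ U.1) le_top ((Scheme.ΓSpecIso (CommRingCat.of R)).inv r)) := by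
          rintro _ rfl
          have h2 : IsUnit (g.appTop ((Scheme.ΓSpecIso (CommRingCat.of R)).inv r)) := by
            rw [show g.appTop ((Scheme.ΓSpecIso (CommRingCat.of R)).inv r) =
              (Scheme.ΓSpecIso (CommRingCat.of (FractionRing R))).inv (algebraMap R (FractionRing R) r) from
              (ConcreteCategory.congr_hom (Scheme.ΓSpecIso_inv_naturality (CommRingCat.ofHom (algebraMap R (FractionRing R)))) r).symm]
            exact (isUnit_iff_ne_zero.2 ((map_ne_zero_iff _ (IsFractionRing.injective R (FractionRing R))).2 hr)).map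
              (Scheme.ΓSpecIso (CommRingCat.of (FractionRing R))).inv.hom
          rw [← Scheme.Hom.appLE_comp_appLE HK.hom g ⊤ ⊤ (m ⁻¹ᵁ U.1) le_top le_top, CommRingCat.comp_apply,
            show g.appLE ⊤ ⊤ le_top = g.appTop from (Scheme.Hom.app_eq_appLE g).symm]
          exact h2.map (HK.hom.appLE ⊤ (m ⁻¹ᵁ U.1) le_top).hom
        exact aux _ hm
      have hb : b ∈ RingHom.ker (Z.app U.1).hom := by
        rw [hker, m.ker_apply, RingHom.mem_ker]
        exact hu.mul_right_eq_zero.1 key
      exact hb
  let H : Over (Spec (CommRingCat.of R)) := Over.mk (m.imageι ≫ G.hom)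
  let j : H ⟶ G := Over.homMk m.imageι rfl
  haveI : Flat H.hom := hflat
  haveI : IsClosedImmersion j.left := inferInstanceAs (IsClosedImmersion m.imageι)
  haveI : Mono j := (Over.forget _).mono_of_mono_map (inferInstanceAs (Mono j.left))
  haveI : IsSchemeTheoreticallyDominant m.toImage := ⟨by
    refine Scheme.IdealSheafData.ext_of_iSup_eq_top
      (fun U : G.left.affineOpens => (⟨m.imageι ⁻¹ᵁ U.1, U.2.preimage m.imageι⟩ : m.image.affineOpens))
      (top_le_iff.1 fun z _ => ?_) fun U => ?_
    · obtain ⟨U, hU, hzU, -⟩ := exists_isAffineOpen_mem_and_subset (X := G.left) (x := m.imageι z) (U := ⊤) trivial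
      exact TopologicalSpace.Opens.mem_iSup.2 ⟨⟨U, hU⟩, hzU⟩
    rw [Scheme.Hom.ker_apply, Scheme.IdealSheafData.ideal_bot]
    exact (RingHom.injective_iff_ker_eq_bot _).1 (m.toImage_app_injective U)⟩
  -- the generic fibre of the closure
  let P := pullback m.imageι q
  let s : HK.left ⟶ P := pullback.lift m.toImage i.left m.toImage_imageι
  haveI : Flat q := MorphismProperty.pullback_fst _ _ inferInstance
  haveI : Mono q := inferInstanceAs (Mono (pullback.fst G.hom g))
  haveI : Flat (pullback.fst m.imageι q) := MorphismProperty.pullback_fst _ _ inferInstance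
  haveI : Mono (pullback.fst m.imageι q) := inferInstance
  have hs : IsPullback (𝟙 HK.left) s m.toImage (pullback.fst m.imageι q) := by
    refine IsPullback.of_isLimit' ⟨(Category.id_comp _).trans (pullback.lift_fst _ _ _).symm⟩ (PullbackCone.IsLimit.mk _ (fun c => c.fst)
      (fun c => by simp) (fun c => ?_) (fun c l h1 h2 => by simpa using h1))
    rw [← cancel_mono (pullback.fst m.imageι q), Category.assoc, pullback.lift_fst]
    exact c.condition
  haveI : QuasiCompact m.toImage := inferInstance
  haveI : IsSchemeTheoreticallyDominant s := IsSchemeTheoreticallyDominant.of_isPullback hs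
  haveI : IsClosedImmersion s := by
    haveI : IsClosedImmersion (s ≫ pullback.snd m.imageι q) := by rw [pullback.lift_snd]; infer_instance
    exact IsClosedImmersion.of_comp s (pullback.snd m.imageι q)
  haveI : IsIso s := IsClosedImmersion.isIso_of_ker_eq s (𝟙 P) s (Category.comp_id _) (by
    rw [s.ker_eq_bot, (𝟙 P : P ⟶ P).ker_eq_bot])
  have hP : IsPullback m.toImage i.left m.imageι q :=
    (IsPullback.of_hasPullback m.imageι q).of_iso (asIso s).symm (Iso.refl _) (Iso.refl _) (Iso.refl _)
      ((congrArg (· ≫ _) rfl).trans (by simp [s, pullback.lift_fst])) (by simp [s, pullback.lift_snd]) (by simp) (by simp)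
  have hsq : IsPullback m.toImage HK.hom H.hom g := by
    rw [← Over.w i]
    exact hP.paste_vert (IsPullback.of_hasPullback G.hom g)
  -- the group law
  let F := Neron.genericFibre R
  let ε : F.obj H ≅ HK := (Over.isoMk hsq.isoPullback hsq.isoPullback_hom_snd).symm
  have hε : F.map j = ε.hom ≫ i := by
    rw [← Iso.inv_comp_eq]
    ext1
    apply pullback.hom_ext
    · show hsq.isoPullback.hom ≫ pullback.lift _ _ _ ≫ pullback.fst G.hom g = i.left ≫ q
      rw [pullback.lift_fst]
      erw [hsq.isoPullback_hom_fst_assoc]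
      exact m.toImage_imageι
    · exact (Over.w (ε.inv ≫ F.map j)).trans (Over.w i).symm
  haveI : Flat (𝟙_ (Over (Spec (CommRingCat.of R)))).hom := inferInstanceAs (Flat (𝟙 _))
  obtain ⟨l, hl⟩ := NeronGen.exists_factor R j (1 : 𝟙_ _ ⟶ G) ((1 : _ ⟶ HK) ≫ ε.inv) (by
    rw [Category.assoc, hε, ε.inv_hom_id_assoc, MonObj.one_comp, Functor.map_one])
  haveI : Flat (H ⊗ H).hom := inferInstanceAs (Flat (pullback.fst H.hom H.hom ≫ H.hom))
  obtain ⟨d, hd⟩ := NeronGen.exists_factor R j ((fst H H ≫ j)⁻¹ * (snd H H ≫ j))
    (((F.map (fst H H) ≫ ε.hom)⁻¹ * (F.map (snd H H) ≫ ε.hom)) ≫ ε.inv) (by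
    rw [Category.assoc, hε, ε.inv_hom_id_assoc, MonObj.mul_comp, GrpObj.inv_comp, Category.assoc, Category.assoc,
      Functor.map_mul, Functor.map_inv', Functor.map_comp, Functor.map_comp, hε])
  obtain ⟨gH, hjm⟩ := MTBridge.exists_grpObj_of_div j ⟨l, by rw [hl, Hom.one_def, toUnit_unit, Category.id_comp]⟩
    fun T k₁ k₂ => ⟨lift k₁ k₂ ≫ d, by
      rw [Category.assoc, hd, MonObj.comp_mul, GrpObj.comp_inv, lift_fst_assoc, lift_snd_assoc]⟩
  exact ⟨H, gH, j, m.toImage, hjm, inferInstance, hflat, hsq, m.toImage_imageι,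
    Scheme.Hom.ker_eq_bot _⟩

end Groth.Agent.S19964
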