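import Groth.Statements.S19967
import Mathlib.AlgebraicGeometry.Morphisms.SchemeTheoreticallyDominant


set_option autoImplicit false
universe u
open CategoryTheory CategoryTheory.Limits AlgebraicGeometry
open FlatMor

namespace Groth.Agent.S19967

/-- Let f : S' → S be a flat morphism of locally Noetherian schemes, i : C → S and i' : C' → S' closed
immersions with C and C' integral, and g : C' → C with g ≫ i = i' ≫ f. Let φ : C' → C ×_S S' be the
induced morphism and η ∈ S the image of the generic point of C. If φ becomes an isomorphism after
base change along the canonical morphism Spec O_{S,η} → S (that is, after pulling back to (C ×_S S')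
×_S Spec O_{S,η}), then φ is an isomorphism. (In the source S and S' are excellent surfaces over an
algebraically closed field, C and C' regular curves not inside the singular loci, and the
isomorphism over Spec O_{S,η} is part of the definition of a morphism of surface-curve pairs; those
extra hypotheses play no part.) -/
theorem result
    {S S' C C' : Scheme.{u}} [IsLocallyNoetherian S] [IsLocallyNoetherian S']
    (f : S' ⟶ S) [Flat f] (i : C ⟶ S) [IsClosedImmersion i] [IsIntegral C]
    (i' : C' ⟶ S') [IsClosedImmersion i'] [IsIntegral C']
    (g : C' ⟶ C) (hsq : g ≫ i = i' ≫ f)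
    (hgen : IsIso (pullback.snd (pullback.lift g i' hsq)
      (pullback.fst (pullback.fst i f ≫ i) (S.fromSpecStalk (i.base (genericPoint C)))))) :
    IsIso (pullback.lift g i' hsq) := by
  let p := pullback.fst i f
  let fs := S.fromSpecStalk (i.base (genericPoint C))
  let k := pullback.fst (p ≫ i) fs
  let j := pullback.fst i fs
  have hfs : QuasiCompact fs := inferInstance
  have hjd : IsDominant j := by
    rw [isDominant_iff, DenseRange]
    refine Dense.mono (Set.singleton_subset_iff.mpr ?_) (dense_iff_closure_eq.mpr (genericPoint_spec C))
    rw [Scheme.Pullback.range_fst]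
    show i.base (genericPoint C) ∈ Set.range fs
    rw [Scheme.range_fromSpecStalk]
    exact specializes_rfl
  have hj : IsSchemeTheoreticallyDominant j := IsSchemeTheoreticallyDominant.of_isDominant j
  have sq : IsPullback (pullback.lift (k ≫ p) (pullback.snd (p ≫ i) fs)
      (by rw [Category.assoc]; exact pullback.condition)) k j p := by
    refine IsPullback.of_right ?_ (pullback.lift_fst _ _ _) (IsPullback.of_hasPullback i fs).flip
    rw [pullback.lift_snd]
    exact (IsPullback.of_hasPullback (p ≫ i) fs).flip
  have hk : IsSchemeTheoreticallyDominant k := IsSchemeTheoreticallyDominant.of_isPullback sq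
  let φ := pullback.lift g i' hsq
  have hc : IsClosedImmersion φ := by
    have : IsClosedImmersion (φ ≫ pullback.snd i f) := by
      simp only [φ, pullback.lift_snd]; infer_instance
    exact IsClosedImmersion.of_comp φ (pullback.snd i f)
  have hfac : k = (inv (pullback.snd φ k) ≫ pullback.fst φ k) ≫ φ := by
    simp only [Category.assoc, pullback.condition, IsIso.inv_hom_id_assoc]
  show IsIso φ
  rw [IsClosedImmersion.isIso_iff_ker_eq_bot, ← le_bot_iff, ← hk.ker_eq_bot, hfac]
  exact Scheme.Hom.le_ker_comp _ _

end Groth.Agent.S19967
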