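import Groth.Statements.S19968
import Mathlib
import Groth.Agent.TMul.AmpleBasis
import Groth.Agent.TMul.AffineLocus
import Groth.Agent.WeilLib.Trdeg
import Groth.Agent.CycDim.FibreDeg

set_option autoImplicit false
universe u
open CategoryTheory AlgebraicGeometry Opposite
open LinSer Groth.Agent
set_option backward.isDefEq.respectTransparency false
set_option linter.style.haveILetI false

namespace Groth.Agent.S19968

/-- Rational points impose at most one condition each on a complete linear system. Let k be a field, X a
scheme over k, L an invertible O_X-module, and p_1, …, p_n morphisms Spec k → X over k (k-rational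
points). Suppose there are n + 1 global sections of L, given as morphisms t_0, …, t_n : O_X → L,
whose values in Γ(X, L) are linearly independent over k. Then there is a nonzero morphism s : O_X →
L such that no p_i lands in the open X_s where s generates L; that is, s vanishes at every p_i and
the p_i lie on a common member of the complete linear system of L. (The source has X an irreducible
projective variety over the complex numbers, L base-point-free and the points closed, and phrases
this as surjectivity of the incidence correspondence onto X^n for n at most the dimension of the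
linear system; only rationality of the points and the dimension count are used, and
base-point-freeness plays no part in this item.) -/
theorem result
    (k : Type u) [Field k] (X : Scheme.{u}) [X.Over (Spec (CommRingCat.of k))]
    (L : X.Modules) (hL : PicF.IsInvertible L)
    (n : ℕ) (p : Fin n → (Spec (CommRingCat.of k) ⟶ X))
    (hp : ∀ i, p i ≫ (X ↘ Spec (CommRingCat.of k)) = 𝟙 _)
    (t : Fin (n + 1) → (Coh.structureModule X ⟶ L))
    (ht : LinSer.LinIndep k X L (fun j => (L.unitHomEquiv (t j)).val (op ⊤))) :
    ∃ s : Coh.structureModule X ⟶ L, s ≠ 0 ∧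
      ∀ i, (p i) (IsLocalRing.closedPoint k) ∉ CohB1.genLocus L s := by
  classical
  set q := X ↘ Spec (CommRingCat.of k) with hq
  let x : Fin n → X := fun i => (p i) (IsLocalRing.closedPoint k)
  choose U e hx he using fun i => TMul.exists_isGen hL (x i)
  choose c hc using fun (i : Fin n) (j : Fin (n + 1)) => (he i (U i) le_rfl).2 (TMul.val (t j) (U i))
  simp only [Groth.Agent.QC.res_self] at hc
  letI : ∀ i, Algebra k (X.residueField (x i)) := fun i => (Groth.Agent.WeilLib.kStr q (x i)).toAlgebra
  have hsur : ∀ i, Function.Surjective (algebraMap k (X.residueField (x i))) := by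
    intro i v
    obtain ⟨a, ha⟩ := Groth.Agent.CycFin.kStr_id_surjective (K := k) (IsLocalRing.closedPoint k)
      (((p i).residueFieldMap (IsLocalRing.closedPoint k)).hom v)
    refine ⟨a, ((p i).residueFieldMap (IsLocalRing.closedPoint k)).hom.injective ?_⟩
    rw [← ha]
    exact RingHom.congr_fun (Groth.Agent.WeilLib.kStr_comp (𝟙 _) (p i) q (hp i) (IsLocalRing.closedPoint k)) a
  let v : ∀ i, Fin (n + 1) → X.residueField (x i) := fun i j => X.evaluation (U i) (x i) (hx i) (c i j)
  let Λ : (Fin (n + 1) → k) →ₗ[k] (∀ i, X.residueField (x i)) :=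
    LinearMap.pi fun i => Fintype.linearCombination k (v i)
  haveI : ∀ i, Module.Finite k (X.residueField (x i)) := fun i =>
    Module.Finite.of_surjective (Algebra.linearMap k (X.residueField (x i))) (hsur i)
  have hrank : Module.finrank k (∀ i, X.residueField (x i)) < Module.finrank k (Fin (n + 1) → k) := by
    rw [Module.finrank_pi_fintype, Module.finrank_fin_fun]
    refine Nat.lt_succ_of_le ((Finset.sum_le_sum fun i _ => ?_).trans (by simp : ∑ _i : Fin n, 1 ≤ n))
    exact (LinearMap.finrank_le_finrank_of_surjective (f := Algebra.linearMap k (X.residueField (x i))) (hsur i)).trans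
      (Module.finrank_self k).le
  obtain ⟨a, haK, ha0⟩ := (Submodule.ne_bot_iff _).1 (LinearMap.ker_ne_bot_of_finrank_lt (f := Λ) hrank)
  let g : Fin (n + 1) → Γ(X, ⊤) := fun j => Coh.toGlobal q (a j)
  let s : Coh.structureModule X ⟶ L := ∑ j, TMul.homOf (L := Coh.structureModule X) (g j) ≫ t j
  have hval : ∀ W : X.Opens, TMul.val s W = ∑ j, Groth.Agent.QC.resO X (le_top : W ≤ ⊤) (g j) • TMul.val (t j) W := by
    intro W
    rw [TMul.val_sum]
    exact Finset.sum_congr rfl fun j _ => TMul.val_homOf_comp (g j) (t j) W
  refine ⟨s, fun h0 => ha0 (ht a ?_), fun i hmem => ?_⟩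
  · have h1 := hval ⊤
    simp only [Groth.Agent.QC.resO_self] at h1
    rw [h0] at h1
    exact h1.symm.trans rfl
  · have hsU : TMul.val s (U i) = (∑ j, Groth.Agent.QC.resO X (le_top : U i ≤ ⊤) (g j) * c i j) • e i := by
      rw [hval, Finset.sum_smul]
      exact Finset.sum_congr rfl fun j _ => by rw [← hc i j, smul_smul]
    have hu := (TMul.mem_genLocus_iff_isUnit s (he i) hsU (hx i)).1 hmem
    rw [← X.mem_basicOpen _ (x i) (hx i), ← X.evaluation_ne_zero_iff_mem_basicOpen (x i) (hx i)] at hu
    apply hu
    have h2 : Λ a i = 0 := congrFun (LinearMap.mem_ker.1 haK) i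
    simp only [Λ, LinearMap.pi_apply, Fintype.linearCombination_apply, v, Algebra.smul_def] at h2
    rw [map_sum]
    refine Eq.trans (Finset.sum_congr rfl fun j _ => ?_) h2
    rw [map_mul]
    congr 1
    show X.evaluation (U i) (x i) (hx i) (X.presheaf.map (homOfLE (le_top : U i ≤ ⊤)).op (g j)) = _
    rw [← ConcreteCategory.comp_apply, ← Scheme.germ_residue, ← Category.assoc, TopCat.Presheaf.germ_res, Scheme.germ_residue]
    show _ = X.evaluation ⊤ (x i) trivial (Groth.Agent.WeilLib.secStr q ⊤ (a j))
    simp only [g, Coh.toGlobal, Groth.Agent.WeilLib.secStr, Scheme.Hom.appLE_eq_app]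
    simp [Scheme.Hom.appLE]
    rfl

end Groth.Agent.S19968
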