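import Groth.Statements.S19969
import Groth.Agent.ClosedRep.Over

set_option autoImplicit false
universe u
open CategoryTheory MonoidalCategory CartesianMonoidalCategory AlgebraicGeometry
open AlgGrp

namespace Groth.Agent.S19969

/-- Let k be a field, X and Y arbitrary k-schemes and a : Y ×_k X → X a k-morphism such that every open
subscheme U of X is stable under a, in the sense that the preimage of U under the projection Y ×_k X
→ X is contained in the preimage of U under a. Consider the subfunctor X^a of X whose T-valued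
points, for a k-scheme T, are the k-morphisms x : T → X with a ∘ (id_Y × x) = x ∘ pr_T as morphisms
Y ×_k T → X. Then X^a is represented by a closed subscheme of X: there is a closed immersion j : Z →
X over k lying in X^a(Z) through which every element of X^a(T) factors. Neither separatedness of X
nor any finiteness condition on X or Y is assumed. -/
theorem result (k : Type u) [Field k]
    (X Y : Over (Spec (CommRingCat.of k))) (a : Y ⊗ X ⟶ X)
    (hstab : ∀ U : X.left.Opens, (CartesianMonoidalCategory.snd Y X).left ⁻¹ᵁ U ≤ a.left ⁻¹ᵁ U) :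
    ∃ (Z : Over (Spec (CommRingCat.of k))) (j : Z ⟶ X), IsClosedImmersion j.left ∧
      (Y ◁ j) ≫ a = CartesianMonoidalCategory.snd Y Z ≫ j ∧
      ∀ (T : Over (Spec (CommRingCat.of k))) (x : T ⟶ X),
        (Y ◁ x) ≫ a = CartesianMonoidalCategory.snd Y T ≫ x → ∃ z : T ⟶ Z, z ≫ j = x := by
  let jj := (Limits.equalizer.ι a (snd Y X)).left
  let Δ := Limits.pullback.diagonal X.hom
  have h : IsPullback (Limits.equalizer.ι a (snd Y X))
      (Limits.equalizer.ι a (snd Y X) ≫ a) (lift a (snd Y X)) (lift (𝟙 X) (𝟙 X)) :=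
    ⟨⟨by ext <;> simp [← Limits.equalizer.condition]⟩, ⟨Limits.PullbackCone.IsLimit.mk _
      (fun s ↦ Limits.equalizer.lift s.fst (by
        have h1 := congr($(s.condition) ≫ fst X X)
        have h2 := congr($(s.condition) ≫ snd X X)
        simp at h1 h2
        rw [h1, h2]))
      (fun s ↦ Limits.equalizer.lift_ι _ _)
      (fun s ↦ by
        have h1 := congr($(s.condition) ≫ fst X X)
        simp at h1
        rw [Limits.equalizer.lift_ι_assoc, h1])
      (fun s m hm _ ↦ Limits.equalizer.hom_ext (hm.trans (Limits.equalizer.lift_ι _ _).symm))⟩⟩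
  have h' : IsPullback jj (Limits.equalizer.ι a (snd Y X) ≫ a).left (lift a (snd Y X)).left Δ :=
    h.map (Over.forget _)
  have : IsPreimmersion Δ := inferInstance
  have : IsPreimmersion jj := MorphismProperty.of_isPullback h'.flip ‹IsPreimmersion Δ›
  have hrange : Set.range jj = (lift a (snd Y X)).left ⁻¹' Set.range Δ := by
    rw [← h'.isoPullback_hom_fst, Scheme.Hom.comp_base, TopCat.coe_comp, Set.range_comp,
      Set.range_eq_univ.mpr (Scheme.Hom.surjective h'.isoPullback.hom), Set.image_univ,
      Scheme.Pullback.range_fst]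
  have : IsClosedImmersion jj := by
    refine IsClosedImmersion.of_isPreimmersion jj ?_
    rw [hrange]
    let W : X.left.affineOpens → (Y ⊗ X).left.Opens := fun U ↦
      (lift a (snd Y X)).left ⁻¹ᵁ
        (Limits.pullback.fst X.hom X.hom ⁻¹ᵁ U.1 ⊓ Limits.pullback.snd X.hom X.hom ⁻¹ᵁ U.1)
    have hW : ⨆ U, W U = ⊤ := by
      refine top_le_iff.mp fun z _ ↦ ?_
      obtain ⟨U, hU, hz, -⟩ := exists_isAffineOpen_mem_and_subset (U := ⊤)
        (x := (snd Y X).left z) trivial
      refine TopologicalSpace.Opens.mem_iSup.mpr ⟨⟨U, hU⟩, ?_, ?_⟩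
      · change (Limits.pullback.fst X.hom X.hom) ((lift a (snd Y X)).left z) ∈ U
        rw [← Scheme.Hom.comp_apply, ← Over.fst_left, ← Over.comp_left, lift_fst]
        exact hstab U hz
      · change (Limits.pullback.snd X.hom X.hom) ((lift a (snd Y X)).left z) ∈ U
        rw [← Scheme.Hom.comp_apply, ← Over.snd_left, ← Over.comp_left, lift_snd]
        exact hz
    refine (TopologicalSpace.IsOpenCover.mk hW).isClosed_iff_coe_preimage.mpr fun U ↦ ?_
    have : IsAffine U.1.toScheme := U.2
    let Φ : Limits.pullback (U.1.ι ≫ X.hom) (U.1.ι ≫ X.hom) ⟶ Limits.pullback X.hom X.hom :=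
      Limits.pullback.map _ _ _ _ U.1.ι U.1.ι (𝟙 _) (Category.comp_id _) (Category.comp_id _)
    have hΦ : Set.range Φ = ((Limits.pullback.fst X.hom X.hom ⁻¹ᵁ U.1 ⊓
        Limits.pullback.snd X.hom X.hom ⁻¹ᵁ U.1 : TopologicalSpace.Opens _) : Set _) := by
      rw [Scheme.Pullback.range_map, Scheme.Opens.range_ι]
      rfl
    let Δ' := Limits.pullback.diagonal (U.1.ι ≫ X.hom)
    have hcomm : Δ' ≫ Φ = U.1.ι ≫ Δ := by
      apply Limits.pullback.hom_ext
      · simp only [Δ, Δ', Φ, Category.assoc]
        rw [Limits.pullback.lift_fst, Limits.pullback.diagonal_fst_assoc, Limits.pullback.diagonal_fst,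
          Category.comp_id]
      · simp only [Δ, Δ', Φ, Category.assoc]
        rw [Limits.pullback.lift_snd, Limits.pullback.diagonal_snd_assoc, Limits.pullback.diagonal_snd,
          Category.comp_id]
    have hclosed : IsClosed (Φ ⁻¹' Set.range Δ) := by
      have e : Φ ⁻¹' Set.range Δ = Set.range Δ' := by
        ext z
        constructor
        · rintro ⟨x, hx⟩
          have hxU : x ∈ U.1 := by
            have h1 : Φ z ∈ Set.range Φ := ⟨z, rfl⟩
            rw [hΦ, ← hx] at h1
            have h2 : (Limits.pullback.fst X.hom X.hom) (Δ x) ∈ U.1 := h1.1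
            rw [← Scheme.Hom.comp_apply, Limits.pullback.diagonal_fst] at h2
            exact h2
          refine ⟨⟨x, hxU⟩, Φ.isOpenEmbedding.injective ?_⟩
          rw [← hx, ← Scheme.Hom.comp_apply, hcomm]
          rfl
        · rintro ⟨x, rfl⟩
          refine ⟨U.1.ι x, ?_⟩
          rw [← Scheme.Hom.comp_apply, ← Scheme.Hom.comp_apply, hcomm]
      rw [e]
      exact Δ'.isClosedEmbedding.isClosed_range
    let ψ : W U → ↥(Limits.pullback (U.1.ι ≫ X.hom) (U.1.ι ≫ X.hom)) := fun z ↦
      (show (lift a (snd Y X)).left z.1 ∈ Set.range Φ by rw [hΦ]; exact z.2).choose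
    have hψ : ∀ z, Φ (ψ z) = (lift a (snd Y X)).left z.1 := fun z ↦
      (show (lift a (snd Y X)).left z.1 ∈ Set.range Φ by rw [hΦ]; exact z.2).choose_spec
    have hc : Continuous ψ := by
      rw [Φ.isOpenEmbedding.isInducing.continuous_iff,
        show Φ ∘ ψ = (fun z : W U ↦ (lift a (snd Y X)).left z.1) from funext hψ]
      exact (lift a (snd Y X)).left.continuous.comp continuous_subtype_val
    convert hclosed.preimage hc using 1
    ext z
    change (lift a (snd Y X)).left z.1 ∈ Set.range Δ ↔ Φ (ψ z) ∈ Set.range Δ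
    rw [hψ]
  have : IsClosedImmersion (Limits.equalizer.ι a (snd Y X)).left := this
  obtain ⟨Z, i, hi, hZ⟩ := Groth.Agent.ClosedRep.exists_closed_eqLocus a (snd Y X)
    (Groth.Agent.ClosedRep.isLocFree_of_field k Y.hom)
  refine ⟨Z, i, hi, ?_, fun T x hx ↦ (hZ T x).mpr ?_⟩
  · rw [(hZ Z i).mp ⟨𝟙 Z, Category.id_comp i⟩, whiskerLeft_snd]
  · rw [hx, whiskerLeft_snd]

end Groth.Agent.S19969
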