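import Groth.Statements.S1997
import Mathlib

set_option autoImplicit false
universe u
open CategoryTheory
open EtAlg

namespace Groth.Agent.S1997

open TensorProduct in
theorem flat_submodule {A : Type u} [CommRing A] (hA : ∀ I : Ideal A, Module.Flat A I) {M : Type u}
    [AddCommGroup M] [Module A M] [Module.Flat A M] (N : Submodule A M) : Module.Flat A N := by
  rw [Module.Flat.iff_lTensor_injective']
  intro I
  haveI := hA I
  have h1 : Function.Injective (N.subtype.rTensor I) :=
    Module.Flat.rTensor_preserves_injective_linearMap N.subtype Subtype.val_injective
  have h2 : Function.Injective (I.subtype.lTensor M) :=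
    Module.Flat.lTensor_preserves_injective_linearMap I.subtype Subtype.val_injective
  have h3 : N.subtype.rTensor A ∘ₗ I.subtype.lTensor N = I.subtype.lTensor M ∘ₗ N.subtype.rTensor I := by
    ext n i; simp
  have h4 : Function.Injective (N.subtype.rTensor A ∘ₗ I.subtype.lTensor N) := by
    rw [h3]; exact h2.comp h1
  exact Function.Injective.of_comp (f := N.subtype.rTensor A) h4


/-- Let A be a ring all of whose ideals are flat (weak dimension at most one) and A -> B a flat,
injective ring map which is an epimorphism in the category of commutative rings. Then A is
integrally closed in B. -/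
theorem result (A B : Type u) [CommRing A] [CommRing B] [Algebra A B]
    (hA : ∀ I : Ideal A, Module.Flat A I) [Module.Flat A B] (hinj : Function.Injective (algebraMap A B))
    (hepi : Epi (CommRingCat.ofHom (algebraMap A B))) : IsIntegrallyClosedIn A B := by
  haveI hB : Algebra.IsEpi A B := CommRingCat.epi_iff_epi.1 hepi
  rw [isIntegrallyClosedIn_iff]
  refine ⟨hinj, fun {x} hx => ?_⟩
  let S := Algebra.adjoin A {x}
  haveI : Module.Finite A S := Module.Finite.iff_fg.2 hx.fg_adjoin_singleton
  haveI : Module.Flat A S := flat_submodule hA (Subalgebra.toSubmodule S)
  have hmap : Function.Injective (TensorProduct.map S.val.toLinearMap S.val.toLinearMap) := by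
    rw [← LinearMap.lTensor_comp_rTensor]
    exact (Module.Flat.lTensor_preserves_injective_linearMap _ Subtype.val_injective).comp
      (Module.Flat.rTensor_preserves_injective_linearMap _ Subtype.val_injective)
  haveI : Algebra.IsEpi A S := ⟨fun a b h => hmap (hB.injective_lift_mul ?_)⟩
  · obtain ⟨y, hy⟩ := (Algebra.isEpi_iff_surjective_algebraMap_of_finite.1 ‹Algebra.IsEpi A S›)
      ⟨x, Algebra.self_mem_adjoin_singleton A x⟩
    exact ⟨y, congrArg Subtype.val hy⟩
  · have key : ∀ z : TensorProduct A S S,
        TensorProduct.lift (LinearMap.mul A B) (TensorProduct.map S.val.toLinearMap S.val.toLinearMap z) =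
          S.val (TensorProduct.lift (LinearMap.mul A S) z) := by
      intro z
      induction z using TensorProduct.induction_on with
      | zero => simp
      | add u v hu hv => simp only [map_add, hu, hv]
      | tmul u v => simp
    rw [key, key, h]

end Groth.Agent.S1997
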