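import Groth.Statements.S19971
import Groth.Agent.AgSymm.Cancel
import Groth.Agent.MTImage.PreimageTorus
import Groth.Agent.BiextTriv.AbRigid
import Groth.Agent.QuotShLib.Fppf

set_option autoImplicit false
set_option backward.isDefEq.respectTransparency false
set_option backward.isDefEq.respectTransparency.types false
universe u
open CategoryTheory CategoryTheory.Limits MonoidalCategory CartesianMonoidalCategory MonObj AlgebraicGeometry
open AbSch

namespace Groth.Agent.S19971

lemma nsmul_id_app {X : Type*} [Category X] {J : GrothendieckTopology X} (F : Sheaf J AddCommGrpCat.{u + 1}) (m : ℕ)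
    (T : Xᵒᵖ) : ⇑(ConcreteCategory.hom ((m • 𝟙 F).hom.app T)) = fun x => m • x := by
  induction m with
  | zero => funext x; rw [zero_smul, zero_smul]; rfl
  | succ m ih =>
    funext x
    rw [succ_nsmul, succ_nsmul]
    show (m • 𝟙 F).hom.app T x + x = m • x + x
    exact congrArg (fun y => y + x) (congrFun ih x)

lemma isMonHom_pow_id {S : Scheme.{u}} (A : Over S) [GrpObj A] [IsCommMonObj A] :
    ∀ n : ℕ, IsMonHom (𝟙 A ^ n : A ⟶ A)
  | 0 => by rw [pow_zero, Hom.one_def]; infer_instance
  | n + 1 => by
    haveI := isMonHom_pow_id A n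
    rw [pow_succ, Hom.mul_def]
    infer_instance

/-- Let S be a scheme and A, B, C abelian S-schemes (commutative S-group schemes which are smooth and
proper over S with connected fibres). Then the group of morphisms from A to the S-sheaf of
extensions of B by C is torsion-free: on the big fppf site of S, if φ is a morphism of abelian
sheaves from the sheaf of points of A to the first Ext sheaf from the sheaf of points of B with
values in the sheaf of points of C, and n · φ = 0 for some nonzero integer n, then φ = 0. -/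
theorem result {S : Scheme.{u}} (A B C : Over S)
    [GrpObj A] [IsCommMonObj A] [Smooth A.hom] [IsProper A.hom]
    (hA : ∀ s : S, ConnectedSpace ↥(A.hom.fiber s))
    [GrpObj B] [IsCommMonObj B] [Smooth B.hom] [IsProper B.hom]
    (hB : ∀ s : S, ConnectedSpace ↥(B.hom.fiber s))
    [GrpObj C] [IsCommMonObj C] [Smooth C.hom] [IsProper C.hom]
    (hC : ∀ s : S, ConnectedSpace ↥(C.hom.fiber s))
    (φ : (CGrpSh.pts Scheme.fppfPrecoverage A) ⟶ (HomSh.extSh (QuotSh.J Scheme.fppfPrecoverage S) (CGrpSh.pts Scheme.fppfPrecoverage B) 1).obj (CGrpSh.pts Scheme.fppfPrecoverage C))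
    (n : ℤ) (hn : n ≠ 0) (h : n • φ = 0) : φ = 0 := by
  haveI : GeometricallyIrreducible A.hom :=
    Groth.Agent.MTBridge.geometricallyIrreducible_of_connectedSpace (G := A) hA
  haveI : GeometricallyConnected A.hom := Groth.Agent.GeomConn.geometricallyConnected_of_irreducible A.hom
  obtain ⟨m, rfl | rfl⟩ := Int.eq_nat_or_neg n
  all_goals
    have hm : m ≠ 0 := by simpa using hn
    haveI := isMonHom_pow_id A m
    haveI : Surjective (𝟙 A ^ m : A ⟶ A).left := Groth.Agent.AgSymm.surjective_pow_left A hm
    haveI : Flat (𝟙 A ^ m : A ⟶ A).left := Groth.Agent.MTImage.flat_hom _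
    haveI : LocallyOfFinitePresentation ((𝟙 A ^ m : A ⟶ A).left ≫ A.hom) := by rw [Over.w]; infer_instance
    haveI : LocallyOfFinitePresentation (𝟙 A ^ m : A ⟶ A).left := Groth.Agent.LimDesc.lfp_of_comp _ A.hom
    haveI : Sheaf.IsLocallySurjective (CGrpSh.ptsMap Scheme.fppfPrecoverage (𝟙 A ^ m : A ⟶ A)) := by
      refine ⟨fun {T} x => ?_⟩
      let t : T ⟶ A := (ULift.down x).toMul
      have hsq : IsPullback (pullback.fst t (𝟙 A ^ m)).left (pullback.snd t (𝟙 A ^ m)).left t.left (𝟙 A ^ m : A ⟶ A).left :=
        IsPullback.map (Over.forget S) (IsPullback.of_hasPullback t (𝟙 A ^ m))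
      haveI : Flat (pullback.fst t (𝟙 A ^ m)).left := MorphismProperty.of_isPullback hsq.flip inferInstance
      haveI : Surjective (pullback.fst t (𝟙 A ^ m)).left := MorphismProperty.of_isPullback hsq.flip inferInstance
      haveI : LocallyOfFinitePresentation (pullback.fst t (𝟙 A ^ m)).left := MorphismProperty.of_isPullback hsq.flip inferInstance
      refine (QuotSh.J Scheme.fppfPrecoverage S).superset_covering ?_
        (Groth.Agent.QuotShLib.generate_singleton_mem_J (q := pullback.fst t (𝟙 A ^ m))
          (pullback.fst t (𝟙 A ^ m)).left.singleton_mem_fppfPrecoverage)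
      rw [Sieve.generate_le_iff]
      rintro _ _ ⟨⟩
      exact ⟨ULift.up (Additive.ofMul (pullback.snd t (𝟙 A ^ m))),
        ULift.ext _ _ (congrArg Additive.ofMul pullback.condition.symm)⟩
    haveI : Epi (CGrpSh.ptsMap Scheme.fppfPrecoverage (𝟙 A ^ m : A ⟶ A)) :=
      (Sheaf.isLocallySurjective_iff_epi' _ _).1 inferInstance
    have e : CGrpSh.ptsMap Scheme.fppfPrecoverage (𝟙 A ^ m : A ⟶ A) = m • 𝟙 _ := by
      refine Sheaf.hom_ext (NatTrans.ext (funext fun T => AddCommGrpCat.ext fun x => ?_))
      have : (m • 𝟙 (CGrpSh.pts Scheme.fppfPrecoverage A)).hom.app T x = m • x :=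
        congrArg (fun g => g x) (nsmul_id_app (CGrpSh.pts Scheme.fppfPrecoverage A) m T)
      refine Eq.trans ?_ this.symm
      refine ULift.ext _ _ ?_
      show Additive.ofMul (x.down.toMul ≫ (𝟙 A ^ m)) = m • x.down
      rw [MonObj.comp_pow, Category.comp_id]
      rfl
    have h0 : m • φ = 0 := by simpa using h
    refine (cancel_epi (CGrpSh.ptsMap Scheme.fppfPrecoverage (𝟙 A ^ m : A ⟶ A))).1 ?_
    rw [e, Preadditive.nsmul_comp, Category.id_comp, h0, comp_zero]

end Groth.Agent.S19971
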