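import Groth.Statements.S19978
import Groth.Agent.Chev.ConstZ
import Groth.Agent.Chev.Generate
import Groth.Agent.Chev.Normalise
import Groth.Agent.Chev.CharQuot

set_option autoImplicit false
universe u
open CategoryTheory MonoidalCategory CartesianMonoidalCategory MonObj GrpObj AlgebraicGeometry CategoryTheory.Limits
open AbVar

namespace Groth.Agent.S19978
open Groth.Agent Groth.Agent.Chev
open scoped CategoryTheory.Obj

/-- Over an algebraically closed field k, let X be an integral separated k-scheme of finite type which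
is proper over k. Call large group a commutative separated k-group scheme G locally of finite type
given with a connected open subgroup scheme G⁰ (its neutral component) which is semiabelian: G⁰ has
a closed subgroup scheme T that is a torus and is the kernel of a flat surjective homomorphism from
G⁰ onto an abelian variety (a proper smooth connected k-group scheme). Let A be a large group, with
neutral component A⁰, and u : X → A a k-morphism which is universal for morphisms to large groups
(every k-morphism from X to a large group G is u followed by a unique homomorphism A → G), i.e. (A,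
u) is the Albanese scheme of X. Then A⁰ is proper over k: the neutral component of the Albanese
scheme of a proper scheme is an abelian variety. (The published statement is for any proper reduced
scheme of finite type over a perfect field; this row states the case of an integral scheme over an
algebraically closed field.) -/
theorem result (k : Type u) [Field k] [IsAlgClosed k]
    (X : Over (Spec (CommRingCat.of k))) [IsIntegral X.left] [IsProper X.hom]
    (A : Over (Spec (CommRingCat.of k))) [GrpObj A] [IsCommMonObj A] [IsSeparated A.hom] [LocallyOfFiniteType A.hom]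
    (A0 : Over (Spec (CommRingCat.of k))) [GrpObj A0] (e₀ : A0 ⟶ A) [IsMonHom e₀] [IsOpenImmersion e₀.left]
    [ConnectedSpace ↥A0.left]
    (T₀ : Over (Spec (CommRingCat.of k))) [GrpObj T₀] (i₀ : T₀ ⟶ A0) [IsMonHom i₀] [IsClosedImmersion i₀.left]
    (hT₀ : Red.IsTorus T₀)
    (B₀ : Over (Spec (CommRingCat.of k))) [GrpObj B₀] [IsProper B₀.hom] [Smooth B₀.hom] [ConnectedSpace ↥B₀.left]
    (q₀ : A0 ⟶ B₀) [IsMonHom q₀] [Surjective q₀.left] [Flat q₀.left] (hker₀ : AlgGrp.IsKernel i₀ q₀)
    (u : X ⟶ A)
    (huniv : ∀ (G : Over (Spec (CommRingCat.of k))) [GrpObj G] [IsCommMonObj G] [IsSeparated G.hom] [LocallyOfFiniteType G.hom]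
      (G0 : Over (Spec (CommRingCat.of k))) [GrpObj G0] (e : G0 ⟶ G) [IsMonHom e] [IsOpenImmersion e.left]
      [ConnectedSpace ↥G0.left]
      (T : Over (Spec (CommRingCat.of k))) [GrpObj T] (i : T ⟶ G0) [IsMonHom i] [IsClosedImmersion i.left]
      (_ : Red.IsTorus T)
      (B : Over (Spec (CommRingCat.of k))) [GrpObj B] [IsProper B.hom] [Smooth B.hom] [ConnectedSpace ↥B.left]
      (q : G0 ⟶ B) [IsMonHom q] [Surjective q.left] [Flat q.left] (_ : AlgGrp.IsKernel i q)
      (φ : X ⟶ G), ∃! h : A ⟶ G, IsMonHom h ∧ u ≫ h = φ) :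
    IsProper A0.hom := by
  haveI : IsSeparated A.hom := ‹_›
  haveI : LocallyOfFiniteType A0.hom := by rw [← Over.w e₀]; infer_instance
  haveI : Mono e₀ := (Over.forget _).mono_of_mono_map (inferInstanceAs (Mono e₀.left))
  haveI : Nonempty ↥(Spec (CommRingCat.of k)) := ⟨IsLocalRing.closedPoint k⟩
  haveI : JacobsonSpace X.left := LocallyOfFiniteType.jacobsonSpace X.hom
  obtain ⟨x, hx, hxc⟩ := nonempty_inter_closedPoints (Z := (Set.univ : Set X.left)) ⟨Classical.arbitrary _, trivial⟩
    isOpen_univ.isLocallyClosed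
  obtain ⟨x₀, hx₀⟩ := SubGen.exists_rpt hxc
  let a : 𝟙_ (Over (Spec (CommRingCat.of k))) ⟶ A := x₀ ≫ u
  let φ₀ : X ⟶ A := u * (toUnit X ≫ a⁻¹)
  have hφ₀ : x₀ ≫ φ₀ = 1 := by
    show x₀ ≫ (u * (toUnit X ≫ a⁻¹)) = 1
    rw [MonObj.comp_mul, ← Category.assoc, toUnit_unique (x₀ ≫ toUnit X) (𝟙 _), Category.id_comp, mul_inv_cancel]
  have hrg : Set.range φ₀.left ⊆ Set.range e₀.left := by
    have hsub := GrpField.isSubgroupSet_range e₀
    have hop : IsOpen (Set.range e₀.left) := e₀.left.isOpenEmbedding.isOpen_range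
    have hcl : IsClosed (Set.range e₀.left) := hsub.isClosed_of_isOpen hop
    refine (isPreconnected_range φ₀.left.continuous).subset_isClopen ⟨hcl, hop⟩ ?_
    refine ⟨φ₀.left (SubGen.rpt x₀), ⟨_, rfl⟩, ?_⟩
    have h1 := congrArg (fun z => z.left (IsLocalRing.closedPoint k)) hφ₀
    refine ⟨(1 : 𝟙_ _ ⟶ A0).left (IsLocalRing.closedPoint k), ?_⟩
    rw [← Scheme.Hom.comp_apply, ← Over.comp_left, MonObj.one_comp]
    exact h1.symm
  obtain ⟨f, hf⟩ := exists_lift_open φ₀ e₀ hrg
  have hfx : x₀ ≫ f = 1 := by rw [← cancel_mono e₀, Category.assoc, hf, hφ₀, MonObj.one_comp]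
  -- the generated proper subgroup
  obtain ⟨K, hK, i, w, him, hci, hw, hd, ⟨f', hf'⟩, hmin⟩ := SubGen.exists_generated f
  haveI := hci
  haveI := him
  have hd' : SubGen.JointlyDense (SubGen.word f') := SubGen.jointlyDense_of_min f i f' hf' hmin
  haveI : Mono i := GrpField.SchImg.mono_of_isClosedImmersion i
  haveI : LocallyOfFiniteType K.hom := by rw [← Over.w i]; infer_instance
  haveI : GeometricallyReduced X.hom := Rigid.geometricallyReduced_of_perfect X.hom
  haveI := fun l => SubGen.geometricallyReduced_src (k := k) X l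
  haveI : GeometricallyReduced K.hom := SubGen.geometricallyReduced_of_dense hd'
  obtain ⟨m, hm⟩ := SubGen.exists_word_eq_rat f' hd' fun V hV hne => ⟨x₀, by
    rw [IsClopen.eq_univ hV hne]; trivial, by rw [← cancel_mono i, Category.assoc, hf', hfx, MonObj.one_comp]⟩
  have hsrc : ∀ l, IsProper (SubGen.src X l).hom ∧ ConnectedSpace (SubGen.src X l).left := by
    intro l
    induction l with
    | nil =>
      refine ⟨inferInstanceAs (IsProper (𝟙 (Spec (CommRingCat.of k)))), ?_⟩
      exact inferInstanceAs (ConnectedSpace (PrimeSpectrum k))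
    | cons b l ih =>
      haveI := ih.1; haveI := ih.2
      refine ⟨inferInstanceAs (IsProper (pullback.fst X.hom (SubGen.src X l).hom ≫ X.hom)), ?_⟩
      haveI : GeometricallyConnected X.hom :=
        Rigid.geometricallyConnected_of_section X.hom x₀.left (Over.w x₀)
      let Y := SubGen.src X l
      haveI : UniversallyOpen X.hom := inferInstance
      haveI hgc : GeometricallyConnected (pullback.snd X.hom Y.hom) :=
        MorphismProperty.pullback_snd (P := @GeometricallyConnected) X.hom Y.hom ‹_›
      haveI : UniversallyOpen (pullback.snd X.hom Y.hom) :=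
        MorphismProperty.pullback_snd (P := @UniversallyOpen) X.hom Y.hom ‹_›
      have hc : ConnectedSpace ↥(pullback X.hom Y.hom) :=
        @GeometricallyConnected.connectedSpace _ _ (pullback.snd X.hom Y.hom) hgc ih.2 (pullback.snd X.hom Y.hom).isOpenMap
      exact hc
  haveI := (hsrc m).1
  haveI := (hsrc m).2
  haveI : IsSeparated K.hom := GrpField.isSeparated_hom K
  haveI : Surjective (SubGen.word f' m).left := by
    haveI : IsProper ((SubGen.word f' m).left ≫ K.hom) := by rw [Over.w]; infer_instance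
    haveI : IsProper (SubGen.word f' m).left := IsProper.of_comp _ K.hom
    haveI : JacobsonSpace K.left := LocallyOfFiniteType.jacobsonSpace K.hom
    refine ⟨Set.range_eq_univ.1 ?_⟩
    refine Set.eq_univ_of_univ_subset ?_
    rw [← closure_closedPoints (X := K.left)]
    refine closure_minimal ?_ (SubGen.word f' m).left.isClosedMap.isClosed_range
    intro z hz
    obtain ⟨r, rfl⟩ := SubGen.exists_rpt hz
    obtain ⟨c, rfl⟩ := hm r
    exact ⟨SubGen.rpt c, rfl⟩
  haveI : ConnectedSpace K.left :=
    (SubGen.word f' m).left.surjective.connectedSpace (SubGen.word f' m).left.continuous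
  haveI : UniversallyClosed K.hom := by
    haveI : UniversallyClosed ((SubGen.word f' m).left ≫ K.hom) := by rw [Over.w]; infer_instance
    exact UniversallyClosed.of_comp_surjective (SubGen.word f' m).left K.hom
  haveI : IsProper K.hom := {}
  haveI : IsReduced K.left := GeometricallyReduced.geometrically_isReduced (f := K.hom) (K := k) (𝟙 _) (𝟙 _) K.hom
    (IsPullback.of_horiz_isIso ⟨by rw [Category.id_comp, Category.comp_id]⟩)
  haveI : Smooth K.hom := by
    letI : GrpObj (Over.mk K.hom) := hK
    exact GrpBasic.smooth_of_grpObj_perfect K.hom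
  haveI : IsCommMonObj K := ⟨by
    rw [show μ[K] = fst K K * snd K K from Eq.symm (by rw [Hom.mul_def, lift_fst_snd, Category.id_comp]),
      MonObj.comp_mul, braiding_hom_fst, braiding_hom_snd, ← cancel_mono (i ≫ e₀), MonObj.mul_comp, MonObj.mul_comp]
    exact _root_.mul_comm _ _⟩
  -- the large group `K × ℤ`
  obtain ⟨C, hC, hCc, c, hCl, hCo, hCuniv⟩ := exists_constZ (Spec (CommRingCat.of k))
  haveI := hCl; haveI := hCo
  let G := K ⊗ C
  haveI : IsCommMonObj G := inferInstance
  haveI : LocallyOfFiniteType G.hom := inferInstanceAs (LocallyOfFiniteType (pullback.fst K.hom C.hom ≫ K.hom))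
  haveI : IsSeparated G.hom := GrpField.isSeparated_hom G
  let e : K ⟶ G := lift (𝟙 K) 1
  haveI : IsMonHom e := isMonHom_of_map_mul e fun {T} p q => by
    apply CartesianMonoidalCategory.hom_ext <;> simp [e, MonObj.comp_mul, MonObj.mul_comp]
  haveI : IsOpenImmersion e.left := by
    have hsq : IsPullback e (toUnit K) (snd K C) η[C] := by
      refine IsPullback.mk' (by simp [e, Hom.one_def]) (fun T p q h _ => ?_) fun T p o h => ⟨p ≫ fst K C, ?_, toUnit_unique _ _⟩
      · simpa [e] using congrArg (· ≫ fst K C) h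
      · apply CartesianMonoidalCategory.hom_ext
        · simp [e]
        · rw [h, toUnit_unique o (toUnit T), ← Hom.one_def]; simp [e]
    exact MorphismProperty.of_isPullback (hsq.map (Over.forget _)).flip hCo
  let φ : X ⟶ G := lift f' (toUnit X ≫ c)
  have hT : Red.IsTorus (𝟙_ (Over (Spec (CommRingCat.of k)))) := by
    have h0 := CharQuot.isTorus_DS (k := k) 0
    haveI := locallyOfFiniteType_of_isTorus h0
    haveI : Smooth (𝟙_ (Over (Spec (CommRingCat.of k)))).hom := inferInstanceAs (Smooth (𝟙 (Spec (CommRingCat.of k))))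
    haveI : QuasiCompact (𝟙_ (Over (Spec (CommRingCat.of k)))).hom :=
      inferInstanceAs (QuasiCompact (𝟙 (Spec (CommRingCat.of k))))
    haveI : Surjective (toUnit (Red.DS (Spec (CommRingCat.of k)) (Fin 0 → ℤ))).left := by
      refine ⟨fun t => ⟨η[Red.DS (Spec (CommRingCat.of k)) (Fin 0 → ℤ)].left t, ?_⟩⟩
      exact Subsingleton.elim (α := PrimeSpectrum k) _ _
    exact isTorus_of_surjective h0 (toUnit _)
  haveI : IsMonHom η[K] := isMonHom_of_map_mul η[K] fun {T} p q => by
    rw [toUnit_unique (p * q) (toUnit T), toUnit_unique p (toUnit T), toUnit_unique q (toUnit T), ← Hom.one_def,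
      _root_.one_mul]
  haveI : IsClosedImmersion η[K].left := GrpField.isClosedImmersion_eta K
  haveI : Flat (𝟙 K : K ⟶ K).left := by rw [Over.id_left]; infer_instance
  haveI : Surjective (𝟙 K : K ⟶ K).left := by rw [Over.id_left]; infer_instance
  have hkK : AlgGrp.IsKernel η[K] (𝟙 K) := IsPullback.mk' (by
      rw [toUnit_unique (toUnit (𝟙_ (Over (Spec (CommRingCat.of k))))) (𝟙 _), Category.id_comp, Category.comp_id])
    (fun T p q _ _ => toUnit_unique _ _)
    (fun T p o h => ⟨o, by rw [← h, Category.comp_id], toUnit_unique _ _⟩)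
  obtain ⟨h, ⟨hhm, hhu⟩, -⟩ := huniv G K e (𝟙_ _) η[K] hT K (𝟙 K) hkK φ
  haveI := hhm
  obtain ⟨ψ, hψm, hψc⟩ := hCuniv A a
  haveI := hψm
  let j : G ⟶ A := (fst K C ≫ i ≫ e₀) * (snd K C ≫ ψ)
  haveI : IsMonHom j := isMonHom_of_map_mul j fun {T} p q => by
    simp only [j, MonObj.comp_mul, ← Category.assoc _ (fst K C), ← Category.assoc _ (snd K C), MonObj.mul_comp]
    exact mul_mul_mul_comm _ _ _ _
  obtain ⟨h₀, -, hh₀⟩ := huniv A A0 e₀ T₀ i₀ hT₀ B₀ q₀ hker₀ u
  have hj : h ≫ j = 𝟙 A := by
    rw [hh₀ (h ≫ j) ⟨inferInstance, ?_⟩, hh₀ (𝟙 A) ⟨inferInstance, Category.comp_id u⟩]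
    rw [← Category.assoc, hhu]
    show lift f' (toUnit X ≫ c) ≫ j = u
    simp only [j, MonObj.comp_mul, lift_fst_assoc, lift_snd_assoc, Category.assoc, hψc]
    rw [reassoc_of% hf', hf]
    show u * (toUnit X ≫ a⁻¹) * (toUnit X ≫ a) = u
    rw [GrpObj.comp_inv (toUnit X) a, inv_mul_cancel_right]
  -- the neutral component lands in the proper part
  have hsnd : e₀ ≫ h ≫ snd K C = 1 := by
    let z := e₀ ≫ h ≫ snd K C
    haveI : IsClosedImmersion η[C].left := GrpField.isClosedImmersion_eta C
    have hr : Set.range z.left ⊆ Set.range η[C].left := by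
      refine (isPreconnected_range z.left.continuous).subset_isClopen
        ⟨η[C].left.isClosedEmbedding.isClosed_range, η[C].left.isOpenEmbedding.isOpen_range⟩ ?_
      refine ⟨(η[A0] ≫ z).left (IsLocalRing.closedPoint k), ⟨η[A0].left (IsLocalRing.closedPoint k), rfl⟩,
        IsLocalRing.closedPoint k, ?_⟩
      rw [IsMonHom.one_hom]
    obtain ⟨w, hw⟩ := exists_lift_open z η[C] hr
    show z = 1
    rw [← hw, toUnit_unique w (toUnit A0), Hom.one_def]
  have hret : (e₀ ≫ h ≫ fst K C) ≫ i = 𝟙 A0 := by
    rw [← cancel_mono e₀, Category.id_comp]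
    conv_rhs => rw [← Category.comp_id e₀, ← hj]
    simp only [j, MonObj.comp_mul, Category.assoc]
    rw [reassoc_of% hsnd, MonObj.one_comp, _root_.mul_one]
  haveI : IsIso i := ⟨e₀ ≫ h ≫ fst K C, by rw [← cancel_mono i, Category.assoc, hret, Category.comp_id,
    Category.id_comp], hret⟩
  haveI : IsIso i.left := inferInstanceAs (IsIso ((Over.forget _).map i))
  have hA0 : A0.hom = inv i.left ≫ K.hom := by rw [IsIso.eq_inv_comp, Over.w]
  rw [hA0]; infer_instance

end Groth.Agent.S19978
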