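import Groth.Statements.S1998
import Groth.Agent.Hensel.Etale
import Mathlib
-- import your own Groth.Agent.* helpers here

set_option autoImplicit false
universe u
open EtAlg

namespace Groth.Agent.S1998

/-- Let (A_j, I_j) be a directed system of henselian pairs (ring maps A_j -> A_k for j ≤ k carrying I_j
into I_k). Then the direct limit A of the A_j together with the ideal generated by the images of the
I_j is a henselian pair. -/
theorem result {ι : Type u} [Preorder ι] [IsDirected ι (· ≤ ·)] [Nonempty ι]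
    (G : ι → Type u) [∀ i, CommRing (G i)] (f : ∀ i j, i ≤ j → G i →+* G j)
    [DirectedSystem G fun i j h => f i j h] (I : ∀ i, Ideal (G i))
    (hI : ∀ i j (h : i ≤ j), (I i).map (f i j h) ≤ I j) (hh : ∀ i, HenselianRing (G i) (I i)) :
    HenselianRing (Ring.DirectLimit G fun i j h => f i j h)
      (⨆ i, (I i).map (Ring.DirectLimit.of G (fun i j h => f i j h) i)) := by
  classical
  let f' := fun i j h => (f i j h : G i → G j)
  let L := Ring.DirectLimit G f'
  let of := Ring.DirectLimit.of G f'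
  have hof : ∀ {i j} (h : i ≤ j) x, of j (f i j h x) = of i x := fun h x => Ring.DirectLimit.of_f h x
  have hexact : ∀ {i} {x : G i}, of i x = 0 → ∃ j, ∃ h : i ≤ j, f i j h x = 0 := fun hx =>
    Ring.DirectLimit.of.zero_exact hx
  have hmem : ∀ z : L, z ∈ (⨆ i, (I i).map (of i)) → ∃ i, ∃ x ∈ I i, of i x = z := by
    intro z hz
    refine Submodule.iSup_induction (motive := fun z => ∃ i, ∃ x ∈ I i, of i x = z) _ hz ?_ ?_ ?_
    · intro i z hz
      refine Submodule.span_induction ?_ ?_ ?_ ?_ hz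
      · rintro _ ⟨x, hx, rfl⟩
        exact ⟨i, x, hx, rfl⟩
      · exact ⟨i, 0, zero_mem _, map_zero _⟩
      · rintro a b _ _ ⟨j, x, hx, rfl⟩ ⟨k, y, hy, rfl⟩
        obtain ⟨l, hjl, hkl⟩ := exists_ge_ge j k
        exact ⟨l, f j l hjl x + f k l hkl y, add_mem (hI j l hjl (Ideal.mem_map_of_mem _ hx))
          (hI k l hkl (Ideal.mem_map_of_mem _ hy)), by rw [map_add, hof, hof]⟩
      · rintro c a _ ⟨j, x, hx, rfl⟩
        obtain ⟨k, c', rfl⟩ := Ring.DirectLimit.exists_of c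
        obtain ⟨l, hjl, hkl⟩ := exists_ge_ge j k
        exact ⟨l, f k l hkl c' * f j l hjl x, Ideal.mul_mem_left _ _ (hI j l hjl (Ideal.mem_map_of_mem _ hx)),
          by rw [map_mul, hof, hof]; rfl⟩
    · exact ⟨Classical.arbitrary ι, 0, zero_mem _, map_zero _⟩
    · rintro a b ⟨j, x, hx, rfl⟩ ⟨k, y, hy, rfl⟩
      obtain ⟨l, hjl, hkl⟩ := exists_ge_ge j k
      exact ⟨l, f j l hjl x + f k l hkl y, add_mem (hI j l hjl (Ideal.mem_map_of_mem _ hx))
        (hI k l hkl (Ideal.mem_map_of_mem _ hy)), by rw [map_add, hof, hof]⟩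
  have hI' : ∀ i (x : G i), x ∈ I i → of i x ∈ ⨆ i, (I i).map (of i) := fun i x hx =>
    Ideal.mem_iSup_of_mem i (Ideal.mem_map_of_mem _ hx)
  refine ⟨fun z hz => ?_, fun p hp a₀ ha₀ hd => ?_⟩
  · rw [Ideal.mem_jacobson_bot]
    intro y
    obtain ⟨i, x, hx, rfl⟩ := hmem z hz
    obtain ⟨j, y', rfl⟩ := Ring.DirectLimit.exists_of y
    obtain ⟨l, hil, hjl⟩ := exists_ge_ge i j
    have h1 := Ideal.mem_jacobson_bot.1 ((hh l).jac (hI i l hil (Ideal.mem_map_of_mem _ hx))) (f j l hjl y')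
    have h2 := h1.map (of l)
    rwa [map_add, map_mul, map_one, hof, hof] at h2
  obtain ⟨i, q₀, hq₀⟩ := Ring.DirectLimit.Polynomial.exists_of p
  let n := p.natDegree
  let q : Polynomial (G i) := Polynomial.X ^ n + ∑ k : Fin n, Polynomial.C (q₀.coeff k) * Polynomial.X ^ (k : ℕ)
  have hq : q.Monic := Polynomial.monic_X_pow_add (Polynomial.degree_sum_fin_lt _)
  have hqp : q.map (of i) = p := by
    conv_rhs => rw [hp.as_sum]
    simp only [q, Polynomial.map_add, Polynomial.map_pow, Polynomial.map_X, Polynomial.map_sum,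
      Polynomial.map_mul, Polynomial.map_C]
    rw [← Fin.sum_univ_eq_sum_range (fun k => Polynomial.C (p.coeff k) * Polynomial.X ^ k)]
    congr 1
    refine Finset.sum_congr rfl fun k _ => ?_
    rw [show p.coeff k = of i (q₀.coeff k) from (congrArg (fun r => Polynomial.coeff r (k : ℕ)) hq₀).symm.trans (Polynomial.coeff_map _ _)]
  obtain ⟨i₁, a, rfl⟩ := Ring.DirectLimit.exists_of a₀
  obtain ⟨i₂, x, hx, hxe⟩ := hmem _ ha₀
  obtain ⟨u', hu'⟩ := hd.exists_right_inv
  obtain ⟨u'', rfl⟩ := Ideal.Quotient.mk_surjective u'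
  obtain ⟨i₃, u, rfl⟩ := Ring.DirectLimit.exists_of u''
  rw [← map_mul, ← map_one (Ideal.Quotient.mk _), Ideal.Quotient.eq] at hu'
  obtain ⟨i₄, w, hw, hwe⟩ := hmem _ hu'
  obtain ⟨j₁, hij, hi₁j⟩ := exists_ge_ge i i₁
  obtain ⟨j₂, hj₁₂, hi₂j⟩ := exists_ge_ge j₁ i₂
  obtain ⟨j₃, hj₂₃, hi₃j⟩ := exists_ge_ge j₂ i₃
  obtain ⟨j, hj₃, hi₄j⟩ := exists_ge_ge j₃ i₄
  have hij' : i ≤ j := hij.trans (hj₁₂.trans (hj₂₃.trans hj₃))
  have hi₁j' : i₁ ≤ j := hi₁j.trans (hj₁₂.trans (hj₂₃.trans hj₃))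
  have hi₂j' : i₂ ≤ j := hi₂j.trans (hj₂₃.trans hj₃)
  have hi₃j' : i₃ ≤ j := hi₃j.trans hj₃
  set qj := q.map (f i j hij') with hqj
  set aj := f i₁ j hi₁j' a
  have hqjp : qj.map (of j) = p := by
    rw [hqj, Polynomial.map_map]
    convert hqp using 2
    exact RingHom.ext fun z => hof hij' z
  have heval : ∀ (r : Polynomial (G j)), of j (r.eval aj) = (r.map (of j)).eval (of i₁ a) := fun r => by
    rw [Polynomial.eval_map, show of i₁ a = of j aj from (hof hi₁j' a).symm, Polynomial.eval₂_at_apply]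
  have h1 : of j (qj.eval aj - f i₂ j hi₂j' x) = 0 := by
    rw [map_sub, heval, hqjp, hof, hxe, sub_self]
  have h2 : of j (qj.derivative.eval aj * f i₃ j hi₃j' u - 1 - f i₄ j hi₄j w) = 0 := by
    rw [map_sub, map_sub, map_mul, map_one, heval, ← Polynomial.derivative_map, hqjp, hof, hof, hwe]
    exact sub_self _
  obtain ⟨k₁, hjk₁, hk₁⟩ := hexact h1
  obtain ⟨k₂, hjk₂, hk₂⟩ := hexact h2
  obtain ⟨k, hk₁k, hk₂k⟩ := exists_ge_ge k₁ k₂
  have hjk : j ≤ k := hjk₁.trans hk₁k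
  have hff : ∀ {a b c} (hab : a ≤ b) (hbc : b ≤ c) x, f b c hbc (f a b hab x) = f a c (hab.trans hbc) x :=
    fun hab hbc x => DirectedSystem.map_map (f := fun i j h => f i j h) hab hbc x
  have hk1 : f j k hjk (qj.eval aj) = f i₂ k (hi₂j'.trans hjk) x := by
    have := congrArg (f k₁ k hk₁k) hk₁
    rw [map_zero, hff, map_sub, hff, sub_eq_zero] at this
    exact this
  have hk2 : f j k hjk (qj.derivative.eval aj) * f j k hjk (f i₃ j hi₃j' u) - 1 = f i₄ k (hi₄j.trans hjk) w := by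
    have := congrArg (f k₂ k hk₂k) hk₂
    rw [map_zero, hff, map_sub, map_sub, map_mul, map_one, hff hi₄j hjk, sub_eq_zero] at this
    exact this
  have hev : ∀ r : Polynomial (G j), (r.map (f j k hjk)).eval (f j k hjk aj) = f j k hjk (r.eval aj) := fun r => by
    rw [Polynomial.eval_map, Polynomial.eval₂_at_apply]
  obtain ⟨b, hb, hba⟩ := (hh k).is_henselian (qj.map (f j k hjk)) ((hq.map _).map _) (f j k hjk aj)
    (by rw [hev, hk1]; exact hI _ _ _ (Ideal.mem_map_of_mem _ hx))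
    (by
      refine IsUnit.of_mul_eq_one (Ideal.Quotient.mk _ (f j k hjk (f i₃ j hi₃j' u))) ?_
      rw [Polynomial.derivative_map, hev, ← map_mul, ← map_one (Ideal.Quotient.mk (I k)), Ideal.Quotient.eq, hk2]
      exact hI _ _ _ (Ideal.mem_map_of_mem _ hw))
  refine ⟨of k b, ?_, ?_⟩
  · rw [Polynomial.IsRoot, ← hqjp,
      show of j = (of k).comp (f j k hjk) from RingHom.ext fun z => (hof hjk z).symm, ← Polynomial.map_map,
      Polynomial.eval_map, Polynomial.eval₂_at_apply, hb.eq_zero, map_zero]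
  · have := hI' k _ hba
    rwa [map_sub, hof, hof] at this

end Groth.Agent.S1998
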