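import Groth.Statements.S1999
import Groth.Agent.WildTame.Basic

set_option autoImplicit false
universe u
open scoped Pointwise
open EtAlg

namespace Groth.Agent.S1999

/-- Parts (2)–(5) in the case of part (6): let A be a discrete valuation ring with fraction field K, L/K
a finite Galois extension with group G, B the integral closure of A in L, m a maximal ideal of B
whose residue field is separable over that of A, and e the ramification index of m over A. Let D be
the decomposition group (stabilizer of m), I the inertia group (elements acting trivially on B/m)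
and P the wild inertia group, here the elements of D acting trivially on B/m² (the description valid
in the separable residue field case). Then P ≤ I, P is normal in D, P is a p-group if the residue
characteristic is p > 0 and trivial if it is 0, and I/P is cyclic of order the prime-to-p part of e
and isomorphic to a subgroup of the e-th roots of unity of B/m — more precisely to the full group of
e-th roots of unity of B/m. -/
theorem result (A K L B : Type u) [CommRing A] [IsDomain A] [IsDiscreteValuationRing A]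
    [CommRing B] [IsDomain B] [Field K] [Field L] [Algebra A K] [Algebra B L] [IsFractionRing A K] [IsFractionRing B L]
    [Algebra A B] [Algebra K L] [Algebra A L] [IsScalarTower A K L] [IsScalarTower A B L] [IsIntegralClosure B A L]
    [FiniteDimensional K L] [IsGalois K L] (m : Ideal B) [m.IsMaximal]
    [Algebra.IsSeparable (A ⧸ m.comap (algebraMap A B)) (B ⧸ m)] :
    letI := IsIntegralClosure.MulSemiringAction A K L B
    let D : Subgroup (L ≃ₐ[K] L) := MulAction.stabilizer (L ≃ₐ[K] L) m
    let I : Subgroup (L ≃ₐ[K] L) := m.inertia (L ≃ₐ[K] L)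
    let P : Subgroup (L ≃ₐ[K] L) := D ⊓ (m ^ 2).inertia (L ≃ₐ[K] L)
    let e : ℕ := Ideal.ramificationIdx' (IsLocalRing.maximalIdeal A) m
    P ≤ I ∧ I ≤ D ∧ (P.subgroupOf D).Normal ∧
    (∀ p : ℕ, p.Prime → CharP (A ⧸ m.comap (algebraMap A B)) p → IsPGroup p P) ∧
    (CharZero (A ⧸ m.comap (algebraMap A B)) → P = ⊥) ∧
    (∀ [(P.subgroupOf I).Normal],
      IsCyclic (I ⧸ P.subgroupOf I) ∧
      (∀ p : ℕ, p.Prime → CharP (A ⧸ m.comap (algebraMap A B)) p → Nat.card (I ⧸ P.subgroupOf I) = e / p ^ e.factorization p) ∧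
      (CharZero (A ⧸ m.comap (algebraMap A B)) → Nat.card (I ⧸ P.subgroupOf I) = e) ∧
      Nonempty (I ⧸ P.subgroupOf I ≃* ↥(rootsOfUnity e (B ⧸ m)))) := by
  classical
  letI := IsIntegralClosure.MulSemiringAction A K L B
  intro D I P e
  haveI := IsIntegralClosure.isDedekindDomain A K L B
  haveI : Module.Finite A B := IsIntegralClosure.finite A K L B
  haveI hinj : FaithfulSMul A B := (faithfulSMul_iff_algebraMap_injective A B).2 (by
    refine Function.Injective.of_comp (f := algebraMap B L) ?_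
    rw [← RingHom.coe_comp, ← IsScalarTower.algebraMap_eq, IsScalarTower.algebraMap_eq A K L]
    exact (algebraMap K L).injective.comp (IsFractionRing.injective A K))
  haveI : Module.IsTorsionFree A B :=
    Module.isTorsionFree_iff_algebraMap_injective.2 (FaithfulSMul.algebraMap_injective A B)
  haveI : IsGaloisGroup (L ≃ₐ[K] L) A B := IsGaloisGroup.of_isFractionRing _ _ _ K L
  haveI : Algebra.IsIntegral A B := Algebra.IsIntegral.of_finite A B
  set p := m.comap (algebraMap A B) with hpdef
  haveI hpmax : p.IsMaximal := Ideal.isMaximal_comap_of_isIntegral_of_isMaximal m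
  have hpA : p = IsLocalRing.maximalIdeal A := IsLocalRing.eq_maximalIdeal hpmax
  have hp0 : p ≠ ⊥ := hpA ▸ IsDiscreteValuationRing.not_a_field A
  haveI : m.LiesOver p := ⟨rfl⟩
  letI := Ideal.Quotient.field p
  letI := Ideal.Quotient.field m
  have hm0 : m ≠ ⊥ := by
    intro h
    refine hp0 (le_bot_iff.1 fun x hx => ?_)
    have hx' : algebraMap A B x ∈ m := hx
    rw [h, Ideal.mem_bot, map_eq_zero_iff _ (FaithfulSMul.algebraMap_injective A B)] at hx'
    exact hx'
  haveI : FaithfulSMul (L ≃ₐ[K] L) B := IsGaloisGroup.faithful A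
  have he : Nat.card I = e := by
    show Nat.card (m.inertia (L ≃ₐ[K] L)) = Ideal.ramificationIdx' (IsLocalRing.maximalIdeal A) m
    rw [← hpA]
    exact Groth.Agent.WildTame.card_inertia p hp0 m
  obtain ⟨π, hπm, hπ2⟩ : ∃ π ∈ m, π ∉ m ^ 2 := by
    have h := Ideal.pow_succ_lt_pow hm0 1
    rw [pow_one] at h
    exact SetLike.exists_of_lt h
  have hπ : m ≤ Ideal.span {π} ⊔ m ^ 2 := by
    refine le_of_eq (((Ideal.eq_prime_pow_of_succ_lt_of_le (P := m) (i := 1) hm0
      (lt_of_le_of_ne le_sup_right fun h => hπ2 ?_) ?_).trans (pow_one m)).symm)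
    · rw [h]; exact Ideal.mem_sup_left (Ideal.mem_span_singleton_self π)
    · rw [pow_one]
      exact sup_le ((Ideal.span_singleton_le_iff_mem _).2 hπm) (Ideal.pow_le_self two_ne_zero)
  have hPI : P ≤ I := fun g hg x => Ideal.pow_le_self two_ne_zero (hg.2 x)
  let θ : I →* (B ⧸ m)ˣ := (Groth.Agent.WildTame.theta hπm hπ hπ2).toHomUnits
  have hker : θ.ker = P.subgroupOf I := by
    ext g
    rw [MonoidHom.mem_ker, Subgroup.mem_subgroupOf, Units.ext_iff]
    change Groth.Agent.WildTame.theta hπm hπ hπ2 g = 1 ↔ _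
    rw [Groth.Agent.WildTame.theta_eq_one_iff]
    exact ⟨fun h => ⟨Ideal.inertia_le_stabilizer m g.2,
      fun b => Groth.Agent.WildTame.mem_sq_of_separable (A := A) hπm hπ g.2 h b⟩, fun h => h.2 π⟩
  have hcast : ∀ (g : L ≃ₐ[K] L), g ∈ P → (orderOf g : B ⧸ m) ≠ 0 → g = 1 := fun g hg hn =>
    Groth.Agent.WildTame.trivial_of_pow_eq_one hg.2
      (fun h => hn (by rw [← map_natCast (Ideal.Quotient.mk m), Ideal.Quotient.eq_zero_iff_mem]; exact h))
      (pow_orderOf_eq_one g)
  have hpg : ∀ q : ℕ, q.Prime → CharP (B ⧸ m) q → IsPGroup q P := by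
    intro q hq hchar g
    obtain ⟨a, c, hc, hac⟩ := Nat.exists_eq_pow_mul_and_not_dvd (orderOf_pos (g : L ≃ₐ[K] L)).ne' q hq.ne_one
    refine ⟨a, Subtype.ext ?_⟩
    rw [Subgroup.coe_pow, Subgroup.coe_one]
    refine hcast _ (P.pow_mem g.2 _) ?_
    rw [orderOf_pow_of_dvd (pow_ne_zero _ hq.ne_zero) (hac ▸ Dvd.intro c rfl), hac,
      Nat.mul_div_cancel_left _ (pow_pos hq.pos _), Ne, CharP.cast_eq_zero_iff (B ⧸ m) q]
    exact hc
  have hz : CharZero (B ⧸ m) → P = ⊥ := by
    intro _
    rw [eq_bot_iff]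
    intro g hg
    exact Subgroup.mem_bot.2 (hcast g hg (Nat.cast_ne_zero.2 (orderOf_pos g).ne'))
  refine ⟨hPI, Ideal.inertia_le_stabilizer m, ?_, ?_, ?_, ?_⟩
  · refine (Subgroup.normal_subgroupOf_iff inf_le_left).2 fun h g hh hg => ?_
    refine ⟨D.mul_mem (D.mul_mem hg hh.1) (D.inv_mem hg), fun x => ?_⟩
    have h1 := Groth.Agent.WildTame.smul_mem_pow (show g • m = m from hg) (hh.2 (g⁻¹ • x))
    rw [smul_sub, ← mul_smul, ← mul_smul, smul_inv_smul] at h1
    exact h1
  · intro q hq hchar
    exact hpg q hq (charP_of_injective_algebraMap (algebraMap (A ⧸ p) (B ⧸ m)).injective q)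
  · intro hchar
    exact hz (charZero_of_injective_algebraMap (algebraMap (A ⧸ p) (B ⧸ m)).injective)
  intro _
  have hrange : Nat.card θ.range * Nat.card P = e := by
    rw [← he, ← Nat.card_congr (QuotientGroup.quotientKerEquivRange θ).toEquiv,
      ← Nat.card_congr (Subgroup.subgroupOfEquivOfLe hPI).toEquiv, ← hker,
      ← Subgroup.card_eq_card_quotient_mul_card_subgroup]
  have hroot : ∀ x : (B ⧸ m)ˣ, x ^ Nat.card P = 1 → x = 1 := by
    intro x hx
    rcases CharP.char_is_prime_or_zero (B ⧸ m) (ringChar (B ⧸ m)) with hq | hq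
    · haveI : Fact (ringChar (B ⧸ m)).Prime := ⟨hq⟩
      haveI : ExpChar (B ⧸ m) (ringChar (B ⧸ m)) := .prime hq
      obtain ⟨a, ha⟩ := IsPGroup.iff_card.1 (hpg _ hq inferInstance)
      rw [ha, Units.ext_iff, Units.val_pow_eq_pow_val, Units.val_one,
        ← mul_one ((ringChar (B ⧸ m)) ^ a), ExpChar.pow_prime_pow_mul_eq_one_iff, pow_one] at hx
      exact Units.ext hx
    · haveI : CharZero (B ⧸ m) := (CharP.ringChar_zero_iff_CharZero _).1 hq
      rw [hz inferInstance, Subgroup.card_bot, pow_one] at hx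
      exact hx
  have hpos : 0 < e := he ▸ Nat.card_pos
  haveI : NeZero e := ⟨hpos.ne'⟩
  haveI : NeZero (Nat.card θ.range) := ⟨Nat.card_pos.ne'⟩
  have hroots : θ.range = rootsOfUnity e (B ⧸ m) := by
    refine Subgroup.eq_of_le_of_card_ge ?_ ?_
    · rintro _ ⟨g, rfl⟩
      rw [mem_rootsOfUnity, ← map_pow, ← he, pow_card_eq_one', map_one]
    · have hle : rootsOfUnity e (B ⧸ m) ≤ rootsOfUnity (Nat.card θ.range) (B ⧸ m) := by
        intro x hx
        rw [mem_rootsOfUnity, ← hrange, pow_mul] at hx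
        exact (mem_rootsOfUnity _ _).2 (hroot _ hx)
      refine (Nat.card_le_card_of_injective _ (Subgroup.inclusion_injective hle)).trans ?_
      exact card_rootsOfUnity (B ⧸ m) _
  let ψ : I ⧸ P.subgroupOf I ≃* ↥(rootsOfUnity e (B ⧸ m)) :=
    ((QuotientGroup.quotientMulEquivOfEq hker.symm).trans (QuotientGroup.quotientKerEquivRange θ)).trans
      (MulEquiv.subgroupCongr hroots)
  have hcard : Nat.card (I ⧸ P.subgroupOf I) = Nat.card θ.range :=
    Nat.card_congr ((QuotientGroup.quotientMulEquivOfEq hker.symm).trans (QuotientGroup.quotientKerEquivRange θ)).toEquiv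
  refine ⟨isCyclic_of_surjective ψ.symm ψ.symm.surjective, ?_, ?_, ⟨ψ⟩⟩
  · intro q hq hchar
    haveI := charP_of_injective_algebraMap (algebraMap (A ⧸ p) (B ⧸ m)).injective q
    haveI : Fact q.Prime := ⟨hq⟩
    haveI : ExpChar (B ⧸ m) q := .prime hq
    obtain ⟨a, ha⟩ := IsPGroup.iff_card.1 (hpg q hq inferInstance)
    have hnd : ¬ q ∣ Nat.card θ.range := by
      intro hd
      obtain ⟨x, hx⟩ := exists_prime_orderOf_dvd_card' q hd
      have h1 : ((x : (B ⧸ m)ˣ) : B ⧸ m) ^ q = 1 := by
        rw [← Units.val_pow_eq_pow_val, ← SubmonoidClass.coe_pow, ← hx, pow_orderOf_eq_one]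
        rfl
      rw [← pow_one q, ← mul_one (q ^ 1), ExpChar.pow_prime_pow_mul_eq_one_iff, pow_one] at h1
      have : x = 1 := Subtype.ext (Units.ext h1)
      rw [this, orderOf_one] at hx
      exact hq.ne_one hx.symm
    have hf : e.factorization q = a := by
      rw [← hrange, ha, Nat.factorization_mul Nat.card_pos.ne' (pow_ne_zero _ hq.ne_zero),
        Finsupp.add_apply, Nat.factorization_eq_zero_of_not_dvd hnd, zero_add,
        hq.factorization_pow, Finsupp.single_eq_same]
    rw [hcard, hf]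
    conv_rhs => rw [← hrange, ha]
    rw [Nat.mul_div_cancel _ (pow_pos hq.pos _)]
  · intro hchar
    haveI := charZero_of_injective_algebraMap (algebraMap (A ⧸ p) (B ⧸ m)).injective
    rw [hcard, ← hrange, hz inferInstance, Subgroup.card_bot, mul_one]

end Groth.Agent.S1999
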