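import Groth.Statements.S19994
-- import your own Groth.Agent.* helpers here
import Groth.Agent.WildRam.Quot

set_option autoImplicit false
universe u v w
open WildQuot

namespace Groth.Agent.S19994
open Groth.Agent.WildRam

/-- Let `A` be a complete regular local ring of Krull dimension at least `2` and prime characteristic
`p`, with maximal ideal `m`; let `k` be a field with a ring map `k → A` whose composite with `A →
A/m` is onto; let `G` be a group of order `p` acting on `A` by ring automorphisms fixing the image
of `k` and ramified precisely at the origin (for every prime `P ≠ m`, the inertia subgroup of `P`,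
i.e. the elements of `G` fixing every element modulo `P`, is trivial). Then the singular locus of
`Spec A^G` is contained in the closed point: for every non-maximal prime ideal `P` of the invariant
ring `A^G`, the localization `(A^G)_P` is a regular local ring. (The published statement also
asserts that the punctured spectrum of `A` is a `G`-torsor over the punctured spectrum of `A^G`;
this row omits that clause. Together with the non-regularity of `A^G` itself, the singular locus is
exactly the closed point.) -/
theorem result
    (p : ℕ) [Fact p.Prime] (A : Type u) [CommRing A] [IsRegularLocalRing A] [CharP A p]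
    [IsAdicComplete (IsLocalRing.maximalIdeal A) A] (hdim : 2 ≤ ringKrullDim A)
    (k : Type v) [Field k] [Algebra k A]
    (hk : Function.Surjective (IsLocalRing.residue A ∘ algebraMap k A))
    (G : Type w) [Group G] [Finite G] [MulSemiringAction G A] (hcard : Nat.card G = p)
    (hGk : ∀ (σ : G) (c : k), σ • algebraMap k A c = algebraMap k A c)
    (hram : ∀ P : Ideal A, P.IsPrime → P ≠ IsLocalRing.maximalIdeal A → P.inertia G = ⊥)
    (P : Ideal (FixedPoints.subring A G)) [P.IsPrime] (hP : ¬ P.IsMaximal) :
    IsRegularLocalRing (Localization.AtPrime P) := by
  haveI : Nontrivial G := Finite.one_lt_card_iff_nontrivial.1 (hcard ▸ (Fact.out : p.Prime).one_lt)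
  haveI : IsDomain A := Groth.Agent.RegLoc.isDomain A
  haveI : IsIntegrallyClosed A := Groth.Agent.RegLoc.isIntegrallyClosed
  have hG : ∀ g h : G, g * h = h * g := by
    haveI := isCyclic_of_prime_card hcard
    obtain ⟨g₀, hg₀⟩ := IsCyclic.exists_generator (α := G)
    intro g h
    obtain ⟨a, rfl⟩ := Subgroup.mem_zpowers_iff.1 (hg₀ g)
    obtain ⟨b, rfl⟩ := Subgroup.mem_zpowers_iff.1 (hg₀ h)
    exact zpow_mul_comm g₀ a b
  obtain ⟨hN, hF, hC⟩ := finite_fixed (G := G) hk hGk
  haveI := hN
  haveI := hF
  classical
  letI : Fintype G := Fintype.ofFinite G
  obtain ⟨s, hs, ι, _, x, y, hxy⟩ := exists_dual hram hG P hP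
  have hflat := flat_of_smul_split s
    (LinearMap.pi fun i => (tr (G := G)).comp (LinearMap.mulLeft (FixedPoints.subring A G) (y i)))
    (∑ i, (LinearMap.proj (R := FixedPoints.subring A G) (φ := fun _ : ι => FixedPoints.subring A G) i).smulRight (x i))
    (fun a => by simpa [LinearMap.sum_apply] using hxy a)
  obtain ⟨P', -, hP'p, hP'c⟩ := Ideal.exists_ideal_over_prime_of_isIntegral P (⊥ : Ideal A) fun d hd =>
    (show d = 0 from Subtype.ext (Ideal.mem_bot.1 hd)) ▸ P.zero_mem
  haveI := hP'p
  let T := Algebra.algebraMapSubmonoid A (Submonoid.powers s)
  haveI : Module.Flat (FixedPoints.subring A G) (Localization T) :=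
    Module.Flat.of_linearEquiv
      (IsLocalizedModule.iso (Submonoid.powers s) (IsScalarTower.toAlgHom (FixedPoints.subring A G) A (Localization T)).toLinearMap).symm
  have hT : T ≤ P'.primeCompl := by
    rintro _ ⟨_, ⟨n, rfl⟩, rfl⟩
    show algebraMap (FixedPoints.subring A G) A (s ^ n) ∉ P'
    exact fun h => hs ((inferInstance : P.IsPrime).mem_of_pow_mem n (hP'c ▸ h))
  letI := IsLocalization.localizationAlgebraOfSubmonoidLe (Localization T) (Localization.AtPrime P') T P'.primeCompl hT
  haveI := IsLocalization.localization_isScalarTower_of_submonoid_le (Localization T) (Localization.AtPrime P') T P'.primeCompl hT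
  haveI := IsLocalization.isLocalization_of_submonoid_le (Localization T) (Localization.AtPrime P') T P'.primeCompl hT
  haveI : Module.Flat (Localization T) (Localization.AtPrime P') :=
    IsLocalization.flat _ (P'.primeCompl.map (algebraMap A (Localization T)))
  haveI : IsScalarTower (FixedPoints.subring A G) (Localization T) (Localization.AtPrime P') :=
    IsScalarTower.of_algebraMap_eq fun z => by
      rw [IsScalarTower.algebraMap_apply (FixedPoints.subring A G) A (Localization T),
        ← IsScalarTower.algebraMap_apply A (Localization T) (Localization.AtPrime P'),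
        ← IsScalarTower.algebraMap_apply]
  haveI : Module.Flat (FixedPoints.subring A G) (Localization.AtPrime P') := Module.Flat.trans _ (Localization T) _
  haveI : P'.LiesOver P := ⟨hP'c.symm⟩
  letI := Localization.AtPrime.algebraOfLiesOver P P'
  haveI : IsLocalHom (algebraMap (Localization.AtPrime P) (Localization.AtPrime P')) := by
    rw [RingHom.algebraMap_toAlgebra]
    exact Localization.isLocalHom_localRingHom P P' (algebraMap (FixedPoints.subring A G) A) Ideal.LiesOver.over
  haveI : Module.Flat (Localization.AtPrime P) (Localization.AtPrime P') :=
    (Module.flat_iff_of_isLocalization (Localization.AtPrime P) P.primeCompl (Localization.AtPrime P')).2 inferInstance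
  haveI := Groth.Agent.SerreReg.isRegularLocalRing_localization A P'
  exact Groth.Agent.SerreReg.isRegularLocalRing_of_flat (Localization.AtPrime P) (Localization.AtPrime P')

end Groth.Agent.S19994
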