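import Groth.Statements.S19996
import Mathlib.RingTheory.PowerSeries.Order
import Mathlib.RingTheory.PowerSeries.Inverse
import Mathlib.Algebra.CharP.Lemmas
import Mathlib.Algebra.CharP.Algebra
import Mathlib.Algebra.Module.LinearMap.End
import Mathlib.Tactic.LinearCombination

set_option autoImplicit false
universe u
open WildQuot

namespace Groth.Agent.S19996

open PowerSeries

section
variable {k : Type u} [Field k]

/-- `f` has order exactly `n`. -/
def HasOrd (f : PowerSeries k) (n : ℕ) : Prop := ∃ g, f = X ^ n * g ∧ constantCoeff g ≠ 0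

theorem hasOrd_iff {f : PowerSeries k} {n : ℕ} : HasOrd f n ↔ f.order = (n : ℕ∞) := by
  rw [order_eq_nat]
  constructor
  · rintro ⟨g, rfl, hg⟩
    refine ⟨?_, X_pow_dvd_iff.1 ⟨g, rfl⟩⟩
    rwa [show coeff n (X ^ n * g) = coeff (0 + n) (X ^ n * g) by rw [Nat.zero_add], coeff_X_pow_mul,
      coeff_zero_eq_constantCoeff_apply]
  · rintro ⟨h1, h2⟩
    obtain ⟨g, rfl⟩ := X_pow_dvd_iff.2 h2
    rw [show coeff n (X ^ n * g) = coeff (0 + n) (X ^ n * g) by rw [Nat.zero_add], coeff_X_pow_mul,
      coeff_zero_eq_constantCoeff_apply] at h1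
    exact ⟨g, rfl, h1⟩

theorem HasOrd.ne_zero {f : PowerSeries k} {n : ℕ} (h : HasOrd f n) : f ≠ 0 := by
  obtain ⟨g, rfl, hg⟩ := h
  exact mul_ne_zero (pow_ne_zero _ X_ne_zero) fun h => hg (by rw [h, map_zero])

theorem dvd_sigma_sub {σ : PowerSeries k ≃ₐ[k] PowerSeries k} {m : ℕ} {w : PowerSeries k}
    (hX : σ X = X + X ^ (m + 1) * w) (g : PowerSeries k) : X ^ (m + 1) ∣ σ g - g := by
  suffices h : ∀ N g, N ≤ m + 1 → X ^ N ∣ σ g - g from h _ g le_rfl
  intro N
  induction N with
  | zero => exact fun g _ => by rw [pow_zero]; exact one_dvd _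
  | succ N ih =>
    intro g hN
    obtain ⟨c, h, rfl⟩ : ∃ (c : k) (h : PowerSeries k), g = C c + X * h :=
      ⟨_, _, (eq_X_mul_shift_add_const g).trans (add_comm _ _)⟩
    obtain ⟨d, hd⟩ := ih h (by omega)
    rw [map_add, map_mul, hX, show σ (C c) = C c from σ.commutes c,
      show C c + (X + X ^ (m + 1) * w) * σ h - (C c + X * h) = X ^ (m + 1) * (w * σ h) + X * (σ h - h) by ring, hd]
    exact dvd_add (dvd_mul_of_dvd_left (pow_dvd_pow _ hN) _) ⟨d, by ring⟩

theorem constantCoeff_sigma {σ : PowerSeries k ≃ₐ[k] PowerSeries k} {m : ℕ} {w : PowerSeries k}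
    (hX : σ X = X + X ^ (m + 1) * w) (g : PowerSeries k) : constantCoeff (σ g) = constantCoeff g := by
  obtain ⟨d, hd⟩ := dvd_sigma_sub hX g
  have := congrArg constantCoeff hd
  simpa [sub_eq_zero] using this

theorem hasOrd_sigma_sub {σ : PowerSeries k ≃ₐ[k] PowerSeries k} {m : ℕ} {w : PowerSeries k}
    (hX : σ X = X + X ^ (m + 1) * w) (hw : constantCoeff w ≠ 0) (hm : 1 ≤ m) {f : PowerSeries k} {n : ℕ}
    (hf : HasOrd f n) (hn : (n : k) ≠ 0) : HasOrd (σ f - f) (n + m) := by
  obtain ⟨g, rfl, hg⟩ := hf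
  obtain ⟨d, hd⟩ := dvd_sigma_sub hX g
  obtain ⟨Q, hQ⟩ : ∃ Q, (1 + X ^ m * w) ^ n = 1 + (n : PowerSeries k) * (X ^ m * w) + (X ^ m * w) ^ 2 * Q := by
    clear hn
    induction n with
    | zero => exact ⟨0, by simp⟩
    | succ i ih =>
      obtain ⟨Q, hQ⟩ := ih
      exact ⟨Q + Q * (X ^ m * w) + (i : PowerSeries k), by rw [pow_succ, hQ]; push_cast; ring⟩
  refine ⟨((n : PowerSeries k) * w + X ^ m * w ^ 2 * Q) * σ g + X * d, ?_, ?_⟩
  · rw [map_mul, map_pow, hX, show X + X ^ (m + 1) * w = X * (1 + X ^ m * w) by ring, mul_pow, hQ]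
    linear_combination X ^ n * hd
  · simp [constantCoeff_sigma hX, map_natCast, zero_pow (show m ≠ 0 by omega), hn, hw, hg]

end

/-- Let `k` be a field of characteristic `p > 0`, `A = k[[u]]`, and `σ` a `k`-algebra automorphism of
`A` of order exactly `p` with ramification break `m`, i.e. `σ u - u` has order `m + 1`. Then `p`
divides `m + 1` if and only if there are a uniformizer `s` of `A` (a power series of order `1`) and
a `σ`-invariant power series `a` with `σ s = s + a`. (The published statement has a third equivalent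
condition, that `Spec A` is a torsor under the effective model of the action; this row omits it.) -/
theorem result
    (p : ℕ) [Fact p.Prime] (k : Type u) [Field k] [CharP k p]
    (σ : PowerSeries k ≃ₐ[k] PowerSeries k) (hσp : σ ^ p = 1) (hσ1 : σ ≠ 1)
    (m : ℕ) (hm : (σ PowerSeries.X - PowerSeries.X).order = ((m + 1 : ℕ) : ℕ∞)) :
    p ∣ m + 1 ↔
      ∃ s a : PowerSeries k, s.order = 1 ∧ σ a = a ∧ σ s = s + a := by
  classical
  have hp : p.Prime := Fact.out
  obtain ⟨w, hX', hw⟩ := hasOrd_iff.2 hm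
  have hX : σ X = X + X ^ (m + 1) * w := by rw [← hX']; ring
  constructor
  · intro hdvd
    have hm1 : 1 ≤ m := by have := Nat.le_of_dvd (Nat.succ_pos m) hdvd; have := hp.two_le; omega
    let Δ : Module.End k (PowerSeries k) := σ.toLinearMap - 1
    haveI : CharP (Module.End k (PowerSeries k)) p :=
      charP_of_injective_algebraMap (algebraMap k (Module.End k (PowerSeries k))).injective p
    have hΔp : Δ ^ p = 0 := by
      rw [show Δ = σ.toLinearMap - 1 from rfl, sub_pow_char_of_commute p (Commute.one_right _), one_pow, sub_eq_zero]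
      refine LinearMap.ext fun x => ?_
      rw [Module.End.pow_apply, Module.End.one_apply]
      have h : ∀ (j : ℕ), (σ.toLinearMap : PowerSeries k → PowerSeries k)^[j] x = (σ ^ j) x := fun j => by
        induction j with
        | zero => rfl
        | succ j ih => rw [Function.iterate_succ_apply', ih, pow_succ', AlgEquiv.mul_apply]; rfl
      rw [h, hσp]; rfl
    have hiter : ∀ j, j ≤ p - 2 → HasOrd ((Δ ^ j) (X ^ (p - 1))) (p - 1 + j * m) := fun j hj => by
      induction j with
      | zero => exact ⟨1, by simp, by simp⟩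
      | succ j ih =>
        have hne : ((p - 1 + j * m : ℕ) : k) ≠ 0 := by
          rw [Ne, CharP.cast_eq_zero_iff k p]
          intro h
          obtain ⟨q, hq⟩ := h
          obtain ⟨l, hl⟩ := hdvd
          have h2 : j + 1 + p * q = p * (1 + j * l) := by
            have := hp.two_le
            have h3 : j * (m + 1) = j * (p * l) := by rw [hl]
            rw [mul_add, mul_one] at h3 ⊢
            rw [mul_left_comm] at h3
            omega
          have h4 : p ∣ j + 1 := (Nat.dvd_add_left (dvd_mul_right p q)).1 (h2 ▸ dvd_mul_right p _)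
          have := Nat.le_of_dvd (Nat.succ_pos j) h4
          omega
        have h := hasOrd_sigma_sub hX hw hm1 (ih (by omega)) hne
        rw [pow_succ', Module.End.mul_apply, add_mul, one_mul, ← add_assoc]
        exact h
    obtain ⟨l, hl⟩ : ∃ l, p - 1 + (p - 2) * m = 1 + p * l := by
      obtain ⟨q, hq⟩ := hdvd
      refine ⟨(p - 2) * q, ?_⟩
      have h2 := hp.two_le
      have h3 : (p - 2) * (m + 1) = (p - 2) * (p * q) := by rw [hq]
      rw [mul_add, mul_one, mul_left_comm] at h3
      omega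
    obtain ⟨g, hg, hg0⟩ := hiter (p - 2) le_rfl
    rw [hl] at hg
    -- an invariant element of order `p`
    let N : PowerSeries k := ∏ i ∈ Finset.range p, (σ ^ i) X
    have hσN : σ N = N := by
      rw [map_prod]
      have h1 : ∀ i, σ ((σ ^ i) X) = (σ ^ (i + 1)) X := fun i => by rw [pow_succ', AlgEquiv.mul_apply]
      simp only [h1]
      obtain ⟨q, hq⟩ : ∃ q, p = q + 1 := ⟨p - 1, by have := hp.two_le; omega⟩
      show ∏ i ∈ Finset.range p, (σ ^ (i + 1)) X = ∏ i ∈ Finset.range p, (σ ^ i) X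
      rw [hq, Finset.prod_range_succ, Finset.prod_range_succ', ← hq, hσp, pow_zero]
    obtain ⟨v, hv, hv0⟩ : HasOrd N p := by
      have h1 : ∀ i, ∃ v, (σ ^ i) X = X * v ∧ constantCoeff v = 1 := fun i => by
        induction i with
        | zero => exact ⟨1, by simp, by simp⟩
        | succ i ih =>
          obtain ⟨v, hv, hv0⟩ := ih
          refine ⟨(1 + X ^ m * w) * σ v, ?_, ?_⟩
          · rw [pow_succ', AlgEquiv.mul_apply, hv, map_mul, hX]; ring
          · simp [constantCoeff_sigma hX, hv0, zero_pow (show m ≠ 0 by omega)]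
      choose v hv hv0 using h1
      exact ⟨∏ i ∈ Finset.range p, v i, by simp only [N, hv, Finset.prod_mul_distrib, Finset.prod_const, Finset.card_range],
        by simp [map_prod, hv0]⟩
    let s : PowerSeries k := X * (g * (v⁻¹) ^ l)
    have hs : (Δ ^ (p - 2)) (X ^ (p - 1)) = N ^ l * s := by
      rw [hg, hv, mul_pow, ← pow_mul, pow_add, pow_one]
      have h1 : v ^ l * (v⁻¹) ^ l = 1 := by rw [← mul_pow, PowerSeries.mul_inv_cancel v hv0, one_pow]
      show X * X ^ (p * l) * g = X ^ (p * l) * v ^ l * (X * (g * (v⁻¹) ^ l))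
      linear_combination (-(X ^ (p * l) * (X * g))) * h1
    refine ⟨s, σ s - s, ?_, ?_, by ring⟩
    · have : HasOrd s 1 := ⟨g * (v⁻¹) ^ l, by rw [pow_one], by simp [hg0, hv0]⟩
      simpa using hasOrd_iff.1 this
    · have h1 : (Δ ^ (p - 1)) (X ^ (p - 1)) = N ^ l * (σ s - s) := by
        rw [show p - 1 = (p - 2) + 1 by have := hp.two_le; omega, pow_succ', Module.End.mul_apply,
          show p - 2 + 1 = p - 1 by have := hp.two_le; omega, hs]
        show σ (N ^ l * s) - N ^ l * s = _
        rw [map_mul, map_pow, hσN]; ring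
      have h2 : σ ((Δ ^ (p - 1)) (X ^ (p - 1))) = (Δ ^ (p - 1)) (X ^ (p - 1)) := by
        have h3 := LinearMap.congr_fun hΔp (X ^ (p - 1))
        rw [show Δ ^ p = Δ * Δ ^ (p - 1) by rw [← pow_succ', Nat.sub_add_cancel hp.pos], Module.End.mul_apply] at h3
        exact sub_eq_zero.1 h3
      rw [h1, map_mul, map_pow, hσN] at h2
      exact mul_left_cancel₀ (pow_ne_zero _ (HasOrd.ne_zero ⟨v, hv, hv0⟩)) h2
  · rintro ⟨s, a, hs, ha, hsa⟩
    by_contra hdvd
    obtain ⟨g, rfl, hg⟩ := hasOrd_iff.2 (show s.order = ((1 : ℕ) : ℕ∞) by simpa using hs)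
    have hord : HasOrd a (m + 1) := by
      obtain ⟨d, hd⟩ := dvd_sigma_sub hX g
      refine ⟨w * σ g + X * d, ?_, ?_⟩
      · rw [map_mul, pow_one, hX] at hsa
        linear_combination -hsa + X * hd
      · simp [constantCoeff_sigma hX, hw, hg]
    rcases Nat.eq_zero_or_pos m with rfl | hm1
    · obtain ⟨g', hg', hg0'⟩ := hord
      obtain ⟨d, hd⟩ := dvd_sigma_sub hX g'
      rw [hg', map_mul, pow_one, hX] at ha
      have h : (X : PowerSeries k) * (w * σ g' + X * d) = 0 := by linear_combination ha - X * hd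
      have h' := congrArg constantCoeff ((mul_eq_zero.1 h).resolve_left X_ne_zero)
      simp [constantCoeff_sigma hX, hw, hg0'] at h'
    · exact (hasOrd_sigma_sub hX hw hm1 hord (by rwa [Ne, CharP.cast_eq_zero_iff k p])).ne_zero (by rw [ha, sub_self])

end Groth.Agent.S19996
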