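import Groth.Statements.S20004
import Groth.Agent.WildExt.Lift

set_option autoImplicit false
universe u v w
open WildQuot

namespace Groth.Agent.S20004

/-- Let `A` be a complete regular local ring of Krull dimension at least `2` and prime characteristic
`p`; let `k` be a field with `k → A` mapping onto the residue field, such that `k` has no Galois
extension of degree `p`; let `G` be a group of order `p` acting on `A` by `k`-algebra automorphisms,
ramified precisely at the origin (for every non-maximal prime `P`, the inertia subgroup of `P` is
trivial). Let `R` be a `k`-algebra with an injective structure map `R → A` whose image is fixed by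
`G` (so `R ⊆ A^G`), with `A` finite over `R`. Galois extensions of fraction fields are expressed
through automorphism counts: since `A` and `A^G` are normal domains finite over `R`,
`Frac(A^G)/Frac(R)` is Galois exactly when `p` times the number of `k`-algebra automorphisms of
`A^G` fixing the image of `R` equals the rank `[Frac A : Frac R]` of `A` over `R`, and
`Frac(A)/Frac(R)` is Galois exactly when the number of `R`-algebra automorphisms of `A` equals that
rank. The row: the first equality implies the second. (The published statement assumes `R ⊆ A^G`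
finite with `Frac(A^G)/Frac(R)` Galois and concludes that `Frac(A)/Frac(R)` is Galois; here `R` is
taken to contain `k`, as the norm subrings of the source do.) -/
theorem result
    (p : ℕ) [Fact p.Prime] (A : Type u) [CommRing A] [IsRegularLocalRing A] [CharP A p]
    [IsAdicComplete (IsLocalRing.maximalIdeal A) A] (hdim : 2 ≤ ringKrullDim A)
    (k : Type v) [Field k] [Algebra k A]
    (hk : Function.Surjective (IsLocalRing.residue A ∘ algebraMap k A))
    (hkp : ∀ (L : Type v) [Field L] [Algebra k L], IsGalois k L → Module.finrank k L ≠ p)
    (G : Type w) [Group G] [Finite G] [MulSemiringAction G A] (hcard : Nat.card G = p)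
    [SMulCommClass G k A]
    (hram : ∀ P : Ideal A, P.IsPrime → P ≠ IsLocalRing.maximalIdeal A → P.inertia G = ⊥)
    (R : Type v) [CommRing R] [Algebra k R] [Algebra R A] [IsScalarTower k R A] [Module.Finite R A]
    (hRinj : Function.Injective (algebraMap R A))
    (hRG : ∀ (σ : G) (r : R), σ • algebraMap R A r = algebraMap R A r)
    (hgal : p * Nat.card {φ : FixedPoints.subalgebra k A G ≃ₐ[k] FixedPoints.subalgebra k A G //
        ∀ b : FixedPoints.subalgebra k A G, (b : A) ∈ Set.range (algebraMap R A) → (φ b : A) = b} =
      Module.finrank R A) :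
    Nat.card (A ≃ₐ[R] A) = Module.finrank R A := by
  classical
  haveI := RegLoc.isDomain A
  haveI := WildExt.faithful_of_ramified hdim hram
  haveI : IsDomain R := hRinj.isDomain _
  haveI : FaithfulSMul R A := (faithfulSMul_iff_algebraMap_injective R A).2 hRinj
  letI := FractionRing.liftAlgebra R (FractionRing A)
  have hK : Module.finrank (FractionRing R) (FractionRing A) = Module.finrank R A :=
    IsFractionRing.finrank_eq R (FractionRing R) A (FractionRing A)
  haveI : FiniteDimensional (FractionRing R) (FractionRing A) :=
    FiniteDimensional.of_finrank_pos (hK ▸ Module.finrank_pos)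
  haveI : Finite (A ≃ₐ[R] A) :=
    Finite.of_injective _ (IsFractionRing.fieldEquivOfAlgEquivHom_injective R A (FractionRing R) (FractionRing A))
  have hle : Nat.card (A ≃ₐ[R] A) ≤ Module.finrank R A := by
    rw [← hK]
    refine le_trans (Nat.card_le_card_of_injective _
      (IsFractionRing.fieldEquivOfAlgEquivHom_injective R A (FractionRing R) (FractionRing A))) ?_
    rw [Nat.card_eq_fintype_card]
    exact AlgEquiv.card_le
  refine le_antisymm hle ?_
  rw [← hgal, ← hcard, Nat.mul_comm, ← Nat.card_prod]
  have hlift : ∀ f : {φ : FixedPoints.subalgebra k A G ≃ₐ[k] FixedPoints.subalgebra k A G //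
      ∀ b : FixedPoints.subalgebra k A G, (b : A) ∈ Set.range (algebraMap R A) → (φ b : A) = b},
      ∃ ψ : A ≃ₐ[R] A, ∀ x : FixedPoints.subalgebra k A G, ψ x = (f.1 x : A) := fun f => by
    obtain ⟨ψ, hψ⟩ := WildExt.exists_algEquiv_extends hdim hk hkp hcard hram f.1
    refine ⟨AlgEquiv.ofRingEquiv (f := ψ.toRingEquiv) fun r => ?_, hψ⟩
    exact (hψ ⟨algebraMap R A r, fun σ => hRG σ r⟩).trans (f.2 _ ⟨r, rfl⟩)
  choose Ψ hΨ using hlift
  haveI : SMulCommClass G R A := ⟨fun σ r a => by rw [Algebra.smul_def, Algebra.smul_def, smul_mul', hRG]⟩
  refine Nat.card_le_card_of_injective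
    (fun x => (MulSemiringAction.toAlgEquiv R A x.2).trans (Ψ x.1)) fun x y h => ?_
  have h1 : x.1 = y.1 := by
    refine Subtype.ext (AlgEquiv.ext fun b => Subtype.ext ?_)
    have := DFunLike.congr_fun h (b : A)
    simpa [b.2 x.2, b.2 y.2, hΨ] using this
  refine Prod.ext h1 (FaithfulSMul.eq_of_smul_eq_smul (α := A) fun a => ?_)
  have := DFunLike.congr_fun h a
  simp only [AlgEquiv.trans_apply, MulSemiringAction.toAlgEquiv_apply, h1] at this
  exact (Ψ y.1).injective this

end Groth.Agent.S20004
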