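import Groth.Statements.S20008
import Groth.Agent.SpecialExt.Basic
import Groth.Agent.S5355
import Groth.Agent.S0353
import Groth.Agent.SmoothRed.Scheme

set_option backward.isDefEq.respectTransparency false
set_option linter.style.haveILetI false
open CategoryTheory.Limits

set_option autoImplicit false
universe u
open CategoryTheory MonoidalCategory CartesianMonoidalCategory MonObj AlgebraicGeometry
open GIT

namespace Groth.Agent.S20008

/-- An extension of special groups is special. Over an algebraically closed field k of characteristic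
zero, let G be an affine group scheme of finite type over k with a closed normal subgroup scheme N,
the kernel of a surjective homomorphism q : G → Q onto an affine group scheme Q of finite type over
k (the factor group G/N). Call an affine group scheme H of finite type over k special when for every
action of H on a k-scheme X and every morphism ψ : X → Y of k-schemes which is an H-torsor over Y —
the square formed by the action, the second projection H ×_k X → X and ψ twice is cartesian, and ψ
acquires sections on the members of some fpqc covering family of Y — the morphism ψ acquires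
sections on the members of some Zariski open covering of Y. If N and Q are special, then G is
special. -/
theorem result
    (k : Type u) [Field k] [IsAlgClosed k] [CharZero k]
    (G N Q : Over (Spec (CommRingCat.of k))) [GrpObj G] [GrpObj N] [GrpObj Q]
    [IsAffine G.left] [LocallyOfFiniteType G.hom]
    (iN : N ⟶ G) [IsMonHom iN] [IsClosedImmersion iN.left] (hnorm : AlgGrp.IsNormalHom iN)
    (q : G ⟶ Q) [IsMonHom q] [Surjective q.left] [IsAffine Q.left] [LocallyOfFiniteType Q.hom]
    (hker : AlgGrp.IsKernel iN q)
    (hN : ∀ (X Y : Over (Spec (CommRingCat.of k))) (b : AlgGrp.Action N X) (ψ : X ⟶ Y),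
      IsPullback b.act (snd N X) ψ ψ →
      NonAbH1.IsLocallyTrivialFor Scheme.fpqcPrecoverage (Over.mk ψ.left : Over Y.left) →
      NonAbH1.IsLocallyTrivialFor Scheme.zariskiPrecoverage (Over.mk ψ.left : Over Y.left))
    (hQ : ∀ (X Y : Over (Spec (CommRingCat.of k))) (b : AlgGrp.Action Q X) (ψ : X ⟶ Y),
      IsPullback b.act (snd Q X) ψ ψ →
      NonAbH1.IsLocallyTrivialFor Scheme.fpqcPrecoverage (Over.mk ψ.left : Over Y.left) →
      NonAbH1.IsLocallyTrivialFor Scheme.zariskiPrecoverage (Over.mk ψ.left : Over Y.left))
    (X Y : Over (Spec (CommRingCat.of k))) (a : AlgGrp.Action G X) (φ : X ⟶ Y)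
    (hcart : IsPullback a.act (snd G X) φ φ)
    (hloc : NonAbH1.IsLocallyTrivialFor Scheme.fpqcPrecoverage (Over.mk φ.left : Over Y.left)) :
    NonAbH1.IsLocallyTrivialFor Scheme.zariskiPrecoverage (Over.mk φ.left : Over Y.left) := by
  haveI : IsAffineHom q.left := isAffineHom_of_isAffine _
  haveI : IsAffineHom Q.hom := isAffineHom_of_isAffine _
  haveI := Groth.Agent.S0353.result k Q
  haveI : AlgebraicGeometry.IsReduced Q.left := SmoothRed.isReduced_of_smooth_scheme Q.hom
  haveI : Flat q.left := (Groth.Agent.S5355.result k G Q q q.left.surjective.denseRange).2 inferInstance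
  obtain ⟨hφa, hφf, hφs⟩ := TorsorMap.props a φ hcart hloc
  have hsq := QuotShLib.left_of_isKernelPair hcart
  obtain ⟨W, π, ψ, heq, hpb⟩ := Assoc.exists_bundle a ((SpecialExt.regular Q).restrict q) φ hsq
  have hw : fst X Q ≫ φ = π ≫ ψ := Over.OverMorphism.ext hpb.w
  have hpb' : IsPullback (fst X Q) π φ ψ := IsPullback.of_map (Over.forget _) hw hpb
  have hcart' := Assoc.bundle_isPullback a ((SpecialExt.regular Q).restrict q) φ π ψ hcart heq hpb'
  haveI : IsAffineHom π.left := MorphismProperty.of_isPullback hpb hφa
  haveI : Flat π.left := MorphismProperty.of_isPullback hpb hφf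
  haveI : Surjective π.left := MorphismProperty.of_isPullback hpb hφs
  have hsec : SpecialExt.sec π ≫ ψ = φ := SpecialExt.sec_comp φ π ψ hpb'
  obtain ⟨b, hb⟩ := SpecialExt.exists_action a q φ π ψ hcart' hpb'
  have hψ : NonAbH1.IsLocallyTrivialFor Scheme.fpqcPrecoverage (Over.mk ψ.left : Over Y.left) := by
    obtain ⟨R, hR, hs⟩ := hloc
    refine ⟨R, hR, fun S' f hf => ?_⟩
    obtain ⟨σ, hσ⟩ := hs f hf
    exact ⟨σ ≫ (SpecialExt.sec π).left, by
      show (σ ≫ (SpecialExt.sec π).left) ≫ ψ.left = f
      rw [Category.assoc, ← Over.comp_left, hsec]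
      exact hσ⟩
  have h1 := hQ W Y b ψ hb hψ
  have h2 := hN X W (a.restrict iN) (SpecialExt.sec π) (SpecialExt.isPullback_sec a q π hcart' iN hker)
    (SpecialExt.isLocallyTrivial_sec a q π hcart')
  have h3 := SpecialExt.locallyTrivial_comp (SpecialExt.sec π).left ψ.left h2 h1
  rw [← Over.comp_left, hsec] at h3
  exact h3

end Groth.Agent.S20008
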