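import Groth.Statements.S20010
import Groth.Agent.LimModel.Cover

set_option autoImplicit false
universe u
open CategoryTheory CategoryTheory.Limits AlgebraicGeometry TopologicalSpace
open ModPair

namespace Groth.Agent.S20010

/-- Let (X_i) be a cofiltered system of schemes with affine transition morphisms such that X_{i₀} is
quasi-compact and quasi-separated for some index i₀, let X be its limit, and let {U_a ⟶ X} be a
family of quasi-compact open immersions (open immersions of finite presentation) which is jointly
surjective (a covering family for the Zariski class). Then the covering descends: for some index i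
there is a finite jointly surjective family {V_j ⟶ X_i}_{j < n} of quasi-compact open immersions
such that every V_j ×_{X_i} X is one of the U_a, i.e. for each j some U_{a_j} ⟶ X is the base change
of V_j ⟶ X_i along X ⟶ X_i. -/
theorem result {I : Type u} [SmallCategory I] [IsCofiltered I]
    (D : I ⥤ Scheme.{u}) (c : Cone D) (hc : IsLimit c)
    [∀ (i j : I) (t : i ⟶ j), IsAffineHom (D.map t)] (i₀ : I) [CompactSpace (D.obj i₀)]
    [QuasiSeparatedSpace (D.obj i₀)] {ι : Type u} (U : ι → Scheme.{u}) (u : ∀ a, U a ⟶ c.pt)
    [∀ a, IsOpenImmersion (u a)] [∀ a, QuasiCompact (u a)] (hcov : ∀ x : c.pt, ∃ (a : ι) (y : U a), (u a).base y = x) :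
    ∃ (i : I) (n : ℕ) (V : Fin n → Scheme.{u}) (v : ∀ j, V j ⟶ D.obj i) (a : Fin n → ι)
      (e : ∀ j, U (a j) ⟶ V j),
      (∀ j, IsOpenImmersion (v j) ∧ QuasiCompact (v j)) ∧
      (∀ x : D.obj i, ∃ (j : Fin n) (y : V j), (v j).base y = x) ∧
      ∀ j, IsPullback (e j) (u (a j)) (v j) (c.π.app i) := by
  haveI : ∀ {i j : I} (f : i ⟶ j), IsAffineHom (D.map f) := fun {i j} f => inferInstance
  obtain ⟨i, n, V, v, a, e, hv, hcover, hsq⟩ := Groth.Agent.LimModel.exists_cover D c hc i₀ @IsOpenImmersion
    (fun _ _ g (_ : IsOpenImmersion g) => inferInstance) U u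
    (fun a {J} _ _ E _ _ _ d hd e => by
      obtain ⟨j, Xj, fj, g, h1, h2, h3, h4⟩ := Groth.Agent.LimModel.exists_model E d hd (u a ≫ e.inv)
      obtain ⟨l, hl⟩ := Groth.Agent.LimModel.descendsToStage_openImmersion E d hd fj h4
      have hst := Groth.Agent.LimDesc.isPullback_stage E fj l
      exact ⟨l.left, _, Groth.Agent.LimDesc.toStage E fj l, Groth.Agent.LimDesc.proj E fj d h4 l, hl,
        MorphismProperty.of_isPullback (P := @LocallyOfFinitePresentation) hst h1,
        MorphismProperty.of_isPullback (P := @QuasiCompact) hst h2,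
        MorphismProperty.of_isPullback (P := @QuasiSeparated) hst h3,
        Groth.Agent.LimDesc.isPullback_proj E fj d h4 l⟩) hcov
  exact ⟨i, n, V, v, a, e, fun j => ⟨(hv j).1, (hv j).2.2.1⟩, hcover, hsq⟩

end Groth.Agent.S20010
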