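import Groth.Statements.S20014
import Groth.Agent.S18353
import Groth.Agent.NormSect.Basic

set_option autoImplicit false
universe u
open CategoryTheory CategoryTheory.Limits AlgebraicGeometry
open RatSing

set_option backward.isDefEq.respectTransparency false
set_option backward.isDefEq.respectTransparency.types false

namespace Groth.Agent.S20014

/-- Let k be a field, X an integral k-scheme which is separated and of finite type over k, and f : X̃ →
X a proper morphism of k-schemes which is birational — an isomorphism over some nonempty open subset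
of X — and for which O_X → f_*O_X̃ is an isomorphism (Γ(V, O_X) → Γ(f⁻¹V, O_X̃) bijective for every
open V of X). If X̃ is normal (every local ring an integrally closed domain), then X is normal. (In
the text this is the last clause of a lemma whose other hypotheses — X̃ Cohen–Macaulay, vanishing of
the higher direct images of O_X̃ and of the dualizing sheaf — and whose standing assumption that k
is perfect of positive characteristic play no role in this clause; they are omitted here.) -/
theorem result (k : Type u) [Field k]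
    (X Xt : Scheme.{u}) [X.Over (Spec (CommRingCat.of k))] [Xt.Over (Spec (CommRingCat.of k))]
    [IsIntegral X] [IsSeparated (X ↘ Spec (CommRingCat.of k))]
    [LocallyOfFiniteType (X ↘ Spec (CommRingCat.of k))] [QuasiCompact (X ↘ Spec (CommRingCat.of k))]
    (f : Xt ⟶ X) (hf : f ≫ (X ↘ Spec (CommRingCat.of k)) = Xt ↘ Spec (CommRingCat.of k)) [IsProper f]
    (U : X.Opens) (hU : (U : Set X).Nonempty) (hbir : IsIso (f ∣_ U))
    (hfib : ∀ V : X.Opens, IsIso (f.app V))
    (hXt : Pi1.IsNormalScheme Xt) : Pi1.IsNormalScheme X := by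
  haveI : IsIso (f ∣_ U) := hbir
  haveI : LocallyOfFiniteType (Xt ↘ Spec (CommRingCat.of k)) := hf ▸ inferInstance
  haveI : QuasiCompact (Xt ↘ Spec (CommRingCat.of k)) := hf ▸ inferInstance
  haveI : IsLocallyNoetherian Xt := LocallyOfFiniteType.isLocallyNoetherian (Xt ↘ Spec (CommRingCat.of k))
  haveI : CompactSpace Xt := QuasiCompact.compactSpace_of_compactSpace (Xt ↘ Spec (CommRingCat.of k))
  haveI : IsNoetherian Xt := { }
  haveI : Nonempty X := ⟨hU.some⟩
  haveI : Nonempty ((⊤ : X.Opens) : Scheme.{u}) := ⟨⟨hU.some, trivial⟩⟩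
  have e0 : Γ(X, ⊤) ≅ Γ(Xt, ⊤) := (haveI := hfib ⊤; asIso (f.app ⊤))
  haveI : IsDomain Γ(Xt, ⊤) := e0.commRingCatIsoToRingEquiv.symm.toMulEquiv.isDomain Γ(X, ⊤)
  haveI : Nonempty Xt := by
    by_contra h
    rw [not_nonempty_iff] at h
    exact zero_ne_one (α := Γ(Xt, ⊤)) (Subsingleton.elim _ _)
  haveI : PreconnectedSpace Xt := by
    refine ⟨fun A B hA hB hAB hAne hBne => ?_⟩
    by_contra hne
    have hdis : A ∩ B = ∅ := by
      rw [Set.not_nonempty_iff_eq_empty] at hne
      simpa using hne
    let V : ULift.{u} Bool → Xt.Opens := fun b => if b.down then ⟨A, hA⟩ else ⟨B, hB⟩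
    let s : ∀ b, Γ(Xt, V b) := fun b => if b.down then 1 else 0
    have hcomp : TopCat.Presheaf.IsCompatible Xt.presheaf V s := by
      have h0 : ∀ i j, i ≠ j → (V i ⊓ V j : Xt.Opens) = ⊥ := by
        intro i j hij
        apply TopologicalSpace.Opens.ext
        rcases i with ⟨_ | _⟩ <;> rcases j with ⟨_ | _⟩
        exacts [absurd rfl hij, (Set.inter_comm B A).trans hdis, hdis, absurd rfl hij]
      intro i j
      rcases eq_or_ne i j with rfl | hij
      · rfl
      · haveI : Subsingleton Γ(Xt, V i ⊓ V j) := by rw [h0 i j hij]; infer_instance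
        exact Subsingleton.elim _ _
    obtain ⟨e, he, -⟩ := Xt.sheaf.existsUnique_gluing' V ⊤ (fun b => homOfLE le_top) (fun x hx => by
      rcases hAB hx with h | h
      · exact TopologicalSpace.Opens.mem_iSup.2 ⟨⟨true⟩, h⟩
      · exact TopologicalSpace.Opens.mem_iSup.2 ⟨⟨false⟩, h⟩) s hcomp
    have hz : e * (e - 1) = 0 := by
      refine Xt.sheaf.eq_of_locally_eq' V ⊤ (fun b => homOfLE le_top) (fun x hx => by
        rcases hAB hx with h | h
        · exact TopologicalSpace.Opens.mem_iSup.2 ⟨⟨true⟩, h⟩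
        · exact TopologicalSpace.Opens.mem_iSup.2 ⟨⟨false⟩, h⟩) _ _ fun b => ?_
      show Xt.presheaf.map _ (e * (e - 1)) = Xt.presheaf.map _ 0
      rw [map_mul, map_sub, map_one, map_zero]
      have h1 : Xt.presheaf.map (homOfLE (le_top : V b ≤ ⊤)).op e = s b := he b
      rw [h1]
      rcases b with ⟨_ | _⟩ <;> simp [s]
    haveI : NoZeroDivisors (ToType (Xt.sheaf.obj.obj (Opposite.op ⊤))) := (inferInstance : NoZeroDivisors Γ(Xt, ⊤))
    rcases mul_eq_zero.mp hz with h | h
    · obtain ⟨x, -, hx⟩ := hAne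
      have hA1 := he ⟨true⟩
      rw [h] at hA1
      haveI : Nontrivial Γ(Xt, V ⟨true⟩) := (Xt.presheaf.germ (V ⟨true⟩) x hx).hom.domain_nontrivial
      exact zero_ne_one ((map_zero (Xt.presheaf.map _).hom).symm.trans hA1)
    · obtain ⟨x, -, hx⟩ := hBne
      have hB0 := he ⟨false⟩
      rw [sub_eq_zero.mp h] at hB0
      haveI : Nontrivial Γ(Xt, V ⟨false⟩) := (Xt.presheaf.germ (V ⟨false⟩) x hx).hom.domain_nontrivial
      exact one_ne_zero ((map_one (Xt.presheaf.map _).hom).symm.trans hB0)
  haveI : ConnectedSpace Xt := { toNonempty := inferInstance }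
  haveI : IsIntegral Xt := Groth.Agent.S18353.isIntegral_of_connected Xt hXt
  intro x
  refine ⟨inferInstance, ?_⟩
  obtain ⟨V, hV, hxV, -⟩ := exists_isAffineOpen_mem_and_subset (U := (⊤ : X.Opens)) (x := x) trivial
  haveI : Nonempty V := ⟨⟨x, hxV⟩⟩
  haveI := hfib V
  let eV : Γ(X, V) ≅ Γ(Xt, f ⁻¹ᵁ V) := asIso (f.app V)
  haveI : Nonempty (f ⁻¹ᵁ V) := by
    by_contra h
    rw [not_nonempty_iff] at h
    have hbot : f ⁻¹ᵁ V = ⊥ := by
      ext y
      exact iff_of_false (fun hy => h.false ⟨y, hy⟩) (fun hy => hy)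
    haveI : Subsingleton Γ(Xt, f ⁻¹ᵁ V) := by rw [hbot]; infer_instance
    haveI : Subsingleton Γ(X, V) := eV.commRingCatIsoToRingEquiv.toEquiv.subsingleton
    exact zero_ne_one (α := Γ(X, V)) (Subsingleton.elim _ _)
  haveI := Groth.Agent.NormSect.isIntegrallyClosed_sections (f ⁻¹ᵁ V) (fun y _ => (hXt y).2)
  haveI : IsIntegrallyClosed Γ(X, V) := IsIntegrallyClosed.of_equiv eV.commRingCatIsoToRingEquiv.symm
  exact Groth.Agent.NormSect.isIntegrallyClosed_stalk V hV ⟨x, hxV⟩

end Groth.Agent.S20014
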