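import Groth.Statements.S20018
import Mathlib.RingTheory.PowerSeries.Trunc
import Mathlib.RingTheory.PowerSeries.Basic

set_option autoImplicit false
open CAlg

namespace Groth.Agent.S20018

open PowerSeries in
/-- Product expansion of big Witt vectors: let R be a commutative ring and x ∈ 1 + tR[[t]] a formal
power series with constant term 1. Then x can be written uniquely as an infinite product ∏_{i ≥ 1}
(1 - α_i t^i) with α_i ∈ R. The infinite product is expressed through its truncations: there is a
unique sequence α : ℕ → R (α i standing for the coefficient attached to t^{i+1}) such that for every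
N the series x and the finite product ∏_{i=0}^{N} (1 - α_i t^{i+1}) agree modulo t^{N+2}. -/
theorem result
    (R : Type*) [CommRing R] (x : PowerSeries R) (hx : PowerSeries.constantCoeff x = 1) :
    ∃! α : ℕ → R, ∀ N : ℕ,
      PowerSeries.trunc (N + 2) x =
        PowerSeries.trunc (N + 2) (∏ i ∈ Finset.range (N + 1),
          (1 - PowerSeries.C (α i) * PowerSeries.X ^ (i + 1) : PowerSeries R)) := by
  classical
  let P : ℕ → PowerSeries R := fun n => Nat.rec 1 (fun k q => q *
    (1 - PowerSeries.C (PowerSeries.coeff (k + 1) q - PowerSeries.coeff (k + 1) x) * PowerSeries.X ^ (k + 1))) n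
  let α : ℕ → R := fun k => PowerSeries.coeff (k + 1) (P k) - PowerSeries.coeff (k + 1) x
  let Q : (ℕ → R) → ℕ → PowerSeries R := fun β n => ∏ i ∈ Finset.range n, (1 - PowerSeries.C (β i) * PowerSeries.X ^ (i + 1))
  have hPQ : ∀ n, P n = Q α n := fun n => by
    induction n with
    | zero => simp [P, Q]
    | succ n ih => simp only [Q, Finset.prod_range_succ]; rw [show (∏ i ∈ Finset.range n, _) = P n from ih.symm]
  -- effect of one more factor
  have hstep : ∀ (β : ℕ → R) (n i : ℕ), i ≤ n → PowerSeries.coeff i (Q β (n + 1)) = PowerSeries.coeff i (Q β n) := fun β n i hi => by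
    simp only [Q, Finset.prod_range_succ, mul_sub, mul_one, ← mul_assoc, map_sub]
    rw [PowerSeries.coeff_mul_X_pow', if_neg (by omega), sub_zero]
  have hnext : ∀ (β : ℕ → R) (n : ℕ), PowerSeries.coeff (n + 1) (Q β (n + 1)) = PowerSeries.coeff (n + 1) (Q β n) - β n := fun β n => by
    have h0 : PowerSeries.constantCoeff (Q β n) = 1 := by
      simp [Q]
    simp only [Q, Finset.prod_range_succ, mul_sub, mul_one, ← mul_assoc, map_sub]
    rw [PowerSeries.coeff_mul_X_pow', if_pos le_rfl, Nat.sub_self, PowerSeries.coeff_zero_eq_constantCoeff_apply, map_mul,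
      PowerSeries.constantCoeff_C,
      show PowerSeries.constantCoeff (∏ i ∈ Finset.range n, (1 - PowerSeries.C (β i) * PowerSeries.X ^ (i + 1))) = 1 from h0, one_mul]
  have key : ∀ n i, i ≤ n → PowerSeries.coeff i (Q α n) = PowerSeries.coeff i x := by
    intro n
    induction n with
    | zero =>
      intro i hi
      obtain rfl : i = 0 := by omega
      simp [Q, PowerSeries.coeff_zero_eq_constantCoeff_apply, hx]
    | succ n ih =>
      intro i hi
      rcases Nat.lt_or_ge i (n + 1) with hlt | hge
      · rw [hstep α n i (by omega), ih i (by omega)]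
      · obtain rfl : i = n + 1 := by omega
        rw [hnext, ← hPQ]
        exact sub_sub_cancel _ _
  refine ⟨α, fun N => ?_, fun β hβ => funext fun n => ?_⟩
  · ext i
    rw [PowerSeries.coeff_trunc, PowerSeries.coeff_trunc]
    split_ifs with hi
    · exact (key (N + 1) i (by omega)).symm
    · rfl
  · induction n using Nat.strong_induction_on with
    | _ n ih =>
      have hQ : Q β n = Q α n := Finset.prod_congr rfl fun i hi => by rw [ih i (Finset.mem_range.1 hi)]
      have h := congrArg (fun p : Polynomial R => p.coeff (n + 1)) (hβ n)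
      simp only [PowerSeries.coeff_trunc, if_pos (show n + 1 < n + 2 by omega)] at h
      have h' : PowerSeries.coeff (n + 1) x = PowerSeries.coeff (n + 1) (Q β (n + 1)) := h
      rw [hnext, hQ, ← hPQ] at h'
      show β n = PowerSeries.coeff (n + 1) (P n) - PowerSeries.coeff (n + 1) x
      rw [h', sub_sub_cancel]

end Groth.Agent.S20018
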