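import Groth.Statements.S20019
import Groth.Agent.CharRing.Powers
import Groth.Agent.CharRing.Trace
import Groth.Agent.CharRing.Chi
import Groth.Agent.Comod.Coeff
import Groth.Agent.HopfCartier.Basic
import Groth.Agent.S0573
import Groth.Agent.S0566
import Groth.Agent.GeomProp.NormalColim
-- import your own Groth.Agent.* helpers here

set_option autoImplicit false
open scoped TensorProduct
open HopfRep

namespace Groth.Agent.S20019

/-- Let A → B be a surjective homomorphism of finitely generated commutative Hopf algebras over the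
complex numbers, that is a closed embedding H ↪ G of complex linear algebraic groups with G = Spec A
and H = Spec B. For a comodule structure on the coordinate space ℂ^d with coaction e_i ↦ Σ_j e_j ⊗
a_ji, its character is Σ_i a_ii. Then R(H) is a finite R(G)-module, with the complexified
representation rings realised inside the coordinate rings by characters: there are finitely many
characters f_1, …, f_r of H-comodule structures such that every ℂ-linear combination of characters
of H-comodule structures on coordinate spaces is of the form Σ_j s_j f_j with each s_j in the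
ℂ-subalgebra of B generated by the images of the characters of G-comodule structures on coordinate
spaces. (The representation rings of the published statement are rendered through characters; over
the complex numbers the characters of pairwise non-isomorphic simple comodules are linearly
independent, so the span of characters is the complexified representation ring.) -/
theorem result
    (A B : Type) [CommRing A] [HopfAlgebra ℂ A] [Algebra.FiniteType ℂ A]
    [CommRing B] [HopfAlgebra ℂ B] [Algebra.FiniteType ℂ B]
    (π : A →ₐc[ℂ] B) (hπ : Function.Surjective π) :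
    ∃ F : Finset B,
      (↑F : Set B) ⊆ Set.range (fun p : (Σ d : ℕ, HopfRep.Comod ℂ B (Fin d → ℂ)) =>
          ∑ i : Fin p.1, TensorProduct.lid ℂ B (LinearMap.rTensor B (LinearMap.proj i)
            (@HopfRep.Comod.coact ℂ B _ _ _ _ (Fin p.1 → ℂ) _ _ p.2 (Pi.single i 1)))) ∧
      (↑(Submodule.span ℂ (Set.range (fun p : (Σ d : ℕ, HopfRep.Comod ℂ B (Fin d → ℂ)) =>
          ∑ i : Fin p.1, TensorProduct.lid ℂ B (LinearMap.rTensor B (LinearMap.proj i)
            (@HopfRep.Comod.coact ℂ B _ _ _ _ (Fin p.1 → ℂ) _ _ p.2 (Pi.single i 1)))))) : Set B) ⊆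
        ↑(Submodule.span (Algebra.adjoin ℂ (π '' Set.range (fun p : (Σ d : ℕ, HopfRep.Comod ℂ A (Fin d → ℂ)) =>
          ∑ i : Fin p.1, TensorProduct.lid ℂ A (LinearMap.rTensor A (LinearMap.proj i)
            (@HopfRep.Comod.coact ℂ A _ _ _ _ (Fin p.1 → ℂ) _ _ p.2 (Pi.single i 1))))))
          (↑F : Set B)) := by
  classical
  haveI : Nontrivial A := (Bialgebra.counitAlgHom ℂ A).toRingHom.domain_nontrivial
  haveI : Nontrivial B := (Bialgebra.counitAlgHom ℂ B).toRingHom.domain_nontrivial
  obtain ⟨s, hs⟩ := (inferInstance : Algebra.FiniteType ℂ A).out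
  obtain ⟨n, M, hM, hmem⟩ := Comod.exists_corep_of_finset ℂ s
  let chiA : (Σ d : ℕ, HopfRep.Comod ℂ A (Fin d → ℂ)) → A := fun p =>
    ∑ i : Fin p.1, TensorProduct.lid ℂ A (LinearMap.rTensor A (LinearMap.proj i)
      (@HopfRep.Comod.coact ℂ A _ _ _ _ (Fin p.1 → ℂ) _ _ p.2 (Pi.single i 1)))
  let chiB : (Σ d : ℕ, HopfRep.Comod ℂ B (Fin d → ℂ)) → B := fun p =>
    ∑ i : Fin p.1, TensorProduct.lid ℂ B (LinearMap.rTensor B (LinearMap.proj i)
      (@HopfRep.Comod.coact ℂ B _ _ _ _ (Fin p.1 → ℂ) _ _ p.2 (Pi.single i 1)))
  let Ad : Subalgebra ℂ B := Algebra.adjoin ℂ (π '' Set.range chiA)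
  let πa : A →ₐ[ℂ] B := π
  let N : Matrix (Fin n) (Fin n) B := M.map πa
  have hN : Comod.IsCorep (k := ℂ) N := CharRing.isCorep_map π hM
  -- coefficients of the characteristic polynomial of the tautological representation
  have hcAd : ∀ l, N.charpoly.coeff l ∈ Ad := by
    intro l
    have hA : ∀ m, m ≤ n → πa (M.charpoly.coeff (n - m)) ∈ Ad := by
      intro m hm
      obtain ⟨p, hp⟩ := CharRing.exists_chi_eq_trace (CharRing.isCorep_cN hM m)
      have h := CharRing.charpoly_coeff (k := ℂ) M m (by simpa using hm)
      rw [Fintype.card_fin] at h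
      rw [h, map_mul, map_sub, map_pow, map_neg, map_one]
      refine mul_mem (pow_mem (neg_mem (one_mem Ad)) _) (sub_mem ?_ ?_)
      · exact Algebra.subset_adjoin ⟨_, ⟨p, hp⟩, rfl⟩
      · obtain ⟨c, hc⟩ := CharRing.trace_const (k := ℂ) (R := A) (n := Fin n) m
        rw [hc, AlgHom.commutes]
        exact Ad.algebraMap_mem c
    rw [show N = M.map (πa : A →+* B) from rfl, Matrix.charpoly_map, Polynomial.coeff_map]
    rcases le_or_gt l n with h | h
    · have := hA (n - l) (Nat.sub_le _ _)
      rwa [Nat.sub_sub_self h] at this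
    · rw [Polynomial.coeff_eq_zero_of_natDegree_lt
        (by rw [Matrix.charpoly_natDegree_eq_dim]; simpa using h), map_zero]
      exact zero_mem _
  let C0 : Subalgebra ℂ B := Algebra.adjoin ℂ (Set.range fun l : Fin (n + 1) => N.charpoly.coeff l)
  have hC0Ad : C0 ≤ Ad := Algebra.adjoin_le (Set.range_subset_iff.2 fun l => hcAd l)
  have hc : ∀ l, N.charpoly.coeff l ∈ C0 := by
    intro l
    rcases lt_or_ge l (n + 1) with h | h
    · exact Algebra.subset_adjoin ⟨⟨l, h⟩, rfl⟩
    · rw [Polynomial.coeff_eq_zero_of_natDegree_lt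
        (by rw [Matrix.charpoly_natDegree_eq_dim]; simp; omega)]
      exact zero_mem _
  -- every element is recurrent over `C0`
  have hall : ∀ x : B, CharRing.Recurrent C0 x := by
    have hle : ⊤ ≤ (CharRing.recurrentSubalgebra C0).comap πa := by
      rw [← hs]
      refine Algebra.adjoin_le fun a ha => ?_
      refine (Submodule.span_le (p := Subalgebra.toSubmodule ((CharRing.recurrentSubalgebra C0).comap πa))).2
        ?_ (hmem a ha)
      rintro _ ⟨⟨i, j⟩, rfl⟩
      exact CharRing.recurrent_entry C0 hN hc i j
    intro x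
    obtain ⟨a, rfl⟩ := hπ x
    exact hle (Algebra.mem_top : a ∈ (⊤ : Subalgebra ℂ A))
  haveI : IsNoetherianRing B := Algebra.FiniteType.isNoetherianRing ℂ B
  haveI : IsReduced B := HopfCartier.isReduced (k := ℂ)
  have hint : ∀ p, IsIntegral C0 (chiB p) := by
    intro p
    obtain ⟨w, hw, hwp⟩ := CharRing.exists_corep_trace_eq p
    obtain ⟨P, hP, hP0⟩ := CharRing.exists_aeval_eq_zero C0 hall hw
    show IsIntegral C0 (∑ i, _)
    rw [hwp]
    exact CharRing.isIntegral_trace w P hP hP0
  -- finiteness of the integral closure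
  haveI : Algebra.FiniteType ℂ C0 := C0.fg_iff_finiteType.1 (Subalgebra.fg_def.2 ⟨_, Set.finite_range _, rfl⟩)
  haveI : IsNoetherianRing C0 := Algebra.FiniteType.isNoetherianRing ℂ C0
  haveI : Algebra.FiniteType C0 B := Algebra.FiniteType.of_restrictScalars_finiteType ℂ C0 B
  haveI : Module.Finite C0 (integralClosure C0 B) :=
    S0573.result C0 (S0566.result ℂ (GeomProp.isN2_quotient_field ℂ) C0) B
  have hM0 : (Submodule.span C0 (Set.range chiB)).FG := by
    have hfg : (Subalgebra.toSubmodule (integralClosure C0 B)).FG := Module.Finite.iff_fg.1 ‹_›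
    haveI := isNoetherian_of_fg_of_noetherian _ hfg
    exact Submodule.FG.of_le_of_isNoetherian (T := Subalgebra.toSubmodule (integralClosure C0 B))
      (Submodule.span_le.2 (Set.range_subset_iff.2 fun p => hint p))
  obtain ⟨F, hFsub, hF⟩ := (Submodule.fg_span_iff_fg_span_finset_subset _).1 hM0
  refine ⟨F, hFsub, fun x hx => ?_⟩
  have h2 : x ∈ Submodule.span C0 (↑F : Set B) := hF ▸ Submodule.span_le_restrictScalars ℂ C0 _ hx
  clear hx
  show x ∈ Submodule.span Ad (↑F : Set B)
  induction h2 using Submodule.span_induction with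
  | mem y hy => exact Submodule.subset_span hy
  | zero => exact zero_mem _
  | add y z _ _ hy hz => exact add_mem hy hz
  | smul c y _ hy => exact Submodule.smul_mem _ (⟨c.1, hC0Ad c.2⟩ : Ad) hy

end Groth.Agent.S20019
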