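import Groth.Statements.S20022
import Mathlib

set_option autoImplicit false
universe u
open GrLC

namespace Groth.Agent.S20022

/-- Let R be a commutative ℤ-graded ring whose degree-zero subring R_0 is a field k and which is the
Laurent polynomial ring k[T, T⁻¹] on a homogeneous invertible element T of positive degree d, in the
following intrinsic sense: T is a unit lying in R_d, and every nonzero homogeneous element of degree
n equals a·T^j for some a ∈ R_0 and some integer j with j·d = n (so R_n = 0 unless d divides n, and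
R_{jd} = k·T^j). Then every graded R-module M is free in the graded sense: M has an R-basis
consisting of homogeneous elements. (The other case of condition (2), R = k concentrated in degree
zero, is not included.) -/
theorem result (R : Type u) [CommRing R]
    (𝒜 : ℤ → AddSubgroup R) [GradedRing 𝒜] (h0 : IsField (GrLC.deg0 𝒜))
    (d : ℤ) (hd : 0 < d) (T : Rˣ) (hT : (T : R) ∈ 𝒜 d)
    (hA : ∀ (n : ℤ) (x : R), x ∈ 𝒜 n → x ≠ 0 →
      ∃ j : ℤ, ∃ a ∈ 𝒜 0, j * d = n ∧ x = a * ((T ^ j : Rˣ) : R))
    (M : Type u) [AddCommGroup M] [Module R M] (ℳ : ℤ → AddSubgroup M)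
    [DirectSum.Decomposition ℳ] [SetLike.GradedSMul 𝒜 ℳ] :
    ∃ (κ : Type u) (b : Module.Basis κ R M), ∀ i : κ, SetLike.IsHomogeneousElem ℳ (b i) := by
  haveI := h0.nontrivial
  haveI : Nontrivial R := (GrLC.deg0 𝒜).subtype_injective.nontrivial
  have hunit : ∀ (n : ℤ) (x : R), x ∈ 𝒜 n → x ≠ 0 → IsUnit x := by
    intro n x hx hx0
    obtain ⟨j, a, ha, -, rfl⟩ := hA n x hx hx0
    refine IsUnit.mul ?_ (Units.isUnit _)
    obtain ⟨b, hb⟩ := h0.mul_inv_cancel (a := (⟨a, ha⟩ : GrLC.deg0 𝒜))
      (fun h => hx0 (by rw [show a = 0 from congrArg Subtype.val h, zero_mul]))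
    exact IsUnit.of_mul_eq_one (b : R) (congrArg Subtype.val hb)
  let H : Type u := {x : M // SetLike.IsHomogeneousElem ℳ x}
  obtain ⟨s, hli, hs⟩ := exists_maximal_linearIndepOn R (Subtype.val : H → M)
  let W : Submodule R M := Submodule.span R (Subtype.val '' s)
  have hWh : W.IsHomogeneous ℳ := by
    intro i x hx
    induction hx using Submodule.span_induction generalizing i with
    | mem y hy =>
      obtain ⟨⟨y, g, hg⟩, hys, rfl⟩ := hy
      by_cases h : g = i
      · subst h
        rw [DirectSum.decompose_of_mem_same ℳ hg]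
        exact Submodule.subset_span ⟨_, hys, rfl⟩
      · rw [DirectSum.decompose_of_mem_ne ℳ hg h]
        exact W.zero_mem
    | zero => simp
    | add y z _ _ hy hz => simpa using W.add_mem (hy i) (hz i)
    | smul a y _ hy =>
      classical
      rw [← DirectSum.sum_support_decompose 𝒜 a, Finset.sum_smul, DirectSum.decompose_sum,
        DirectSum.sum_apply, AddSubmonoidClass.coe_finsetSum]
      refine Submodule.sum_mem _ fun e _ => ?_
      have hc : ∀ z : M, (DirectSum.decompose ℳ ((DirectSum.decompose 𝒜 a e : R) • z) i : M) =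
          (DirectSum.decompose 𝒜 a e : R) • (DirectSum.decompose ℳ z (i - e) : M) := by
        intro z
        induction z using DirectSum.Decomposition.inductionOn ℳ with
        | zero => simp
        | @homogeneous j q =>
          have hm : (DirectSum.decompose 𝒜 a e : R) • (q : M) ∈ ℳ (e + j) :=
            SetLike.GradedSMul.smul_mem (DirectSum.decompose 𝒜 a e).2 q.2
          by_cases h : e + j = i
          · subst h
            rw [DirectSum.decompose_of_mem_same ℳ hm, add_sub_cancel_left, DirectSum.decompose_of_mem_same ℳ q.2]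
          · rw [DirectSum.decompose_of_mem_ne ℳ hm h, DirectSum.decompose_of_mem_ne ℳ q.2 (by omega), smul_zero]
        | add y z hy hz => simp only [smul_add, DirectSum.decompose_add, DirectSum.add_apply, AddSubgroup.coe_add, hy, hz]
      rw [hc]
      exact W.smul_mem _ (hy _)
  have hmem : ∀ z : H, (z : M) ∈ W := by
    classical
    intro z
    by_cases hz : z ∈ s
    · exact Submodule.subset_span ⟨z, hz, rfl⟩
    obtain ⟨a, ha, haz⟩ := hs z hz
    obtain ⟨g, hg⟩ := z.2
    obtain ⟨e, he⟩ : ∃ e, (DirectSum.decompose 𝒜 a e : R) ≠ 0 := by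
      by_contra h
      push Not at h
      exact ha (by rw [← DirectSum.sum_support_decompose 𝒜 a]; exact Finset.sum_eq_zero fun e _ => h e)
    have h1 := hWh (e + g) haz
    rw [← DirectSum.sum_support_decompose 𝒜 a, Finset.sum_smul, DirectSum.decompose_sum, DirectSum.sum_apply,
      AddSubmonoidClass.coe_finsetSum, Finset.sum_eq_single e] at h1
    · rw [DirectSum.decompose_of_mem_same ℳ (i := e + g) (SetLike.GradedSMul.smul_mem (DirectSum.decompose 𝒜 a e).2 hg)] at h1
      exact (W.smul_mem_iff_of_isUnit (hunit e _ (DirectSum.decompose 𝒜 a e).2 he)).1 h1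
    · intro b _ hbe
      exact DirectSum.decompose_of_mem_ne ℳ (i := b + g) (SetLike.GradedSMul.smul_mem (DirectSum.decompose 𝒜 a b).2 hg) (by omega)
    · intro h
      simp only [DFinsupp.mem_support_iff, ne_eq, not_not] at h
      exact absurd (by rw [h]; rfl) he
  have hspan : ⊤ ≤ Submodule.span R (Set.range fun y : s => ((y : H) : M)) := fun x _ => by
    classical
    rw [← DirectSum.sum_support_decompose ℳ x]
    refine Submodule.sum_mem _ fun g _ => ?_
    have h1 := hmem ⟨_, g, (DirectSum.decompose ℳ x g).2⟩
    have h2 : (Subtype.val '' s : Set M) = Set.range fun y : s => ((y : H) : M) :=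
      Set.image_eq_range _ _
    exact h2 ▸ h1
  exact ⟨s, Module.Basis.mk hli hspan, fun i => by rw [Module.Basis.mk_apply]; exact (i : H).2⟩

end Groth.Agent.S20022
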