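import Groth.Statements.S20024
-- import your own Groth.Agent.* helpers here
import Groth.Agent.WittFilUFD.Basic

set_option autoImplicit false
universe u
open WittFil

namespace Groth.Agent.S20024

/-- Case q = 0: let p be a prime, S a commutative ring of characteristic p and B a commutative S-algebra
(in the source B = S[[π]][1/π]), u a unit of B (the uniformizer π), m, s natural numbers, i, l
integers and c a p-typical Witt vector over S. Write Φ_v(c) for the length-m truncation of V^s(c ·
[v]), where c is mapped to the Witt vectors of B, [v] is the Teichmüller representative of v ∈ B and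
V is the Verschiebung; for n = p^(m−1−s) · i the degree-zero piece F_n^{m,0}(S) is the set of all
Φ_{u^i}(c). Then multiplication by the truncated Teichmüller representative [u^l] satisfies [u^l] ·
Φ_{u^i}(c) = Φ_{u^(i + p^s l)}(c); consequently [u^l] · F_n^{m,0}(S) = F_{n + p^(m−1) l}^{m,0}(S).
(Only the part of the lemma in differential degree q = 0 is stated; the source's S is a regular
local F-finite F_p-algebra, and the identity holds for any S-algebra B of characteristic p.) -/
theorem result (p : ℕ) [Fact p.Prime] {S B : Type u}
    [CommRing S] [CharP S p] [CommRing B] [Algebra S B] (m s : ℕ) (u : Bˣ) (i l : ℤ)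
    (c : WittVector p S) :
    WittVector.truncate m (WittVector.teichmuller p ((u ^ l : Bˣ) : B)) *
        WittFil.vShiftTeich p m s ((u ^ i : Bˣ) : B) c =
      WittFil.vShiftTeich p m s ((u ^ (i + (p : ℤ) ^ s * l) : Bˣ) : B) c := by
  unfold WittFil.vShiftTeich
  rw [← map_mul]
  congr 1
  haveI : Fact (Nat.Prime p) := inferInstance
  rcases subsingleton_or_nontrivial B with hB | hB
  · exact WittVector.ext fun k => Subsingleton.elim _ _
  haveI : CharP B p := by
    rw [CharP.charP_iff_prime_eq_zero (Fact.out : p.Prime)]
    rw [← map_natCast (algebraMap S B), CharP.cast_eq_zero, map_zero]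
  have hV : ∀ (k : ℕ) (x y : WittVector p B),
      x * (WittVector.verschiebung)^[k] y = (WittVector.verschiebung)^[k] ((WittVector.frobenius)^[k] x * y) := by
    intro k
    induction k with
    | zero => intro x y; rfl
    | succ k ih =>
      intro x y
      rw [Function.iterate_succ_apply', Function.iterate_succ_apply',
        Function.iterate_succ_apply (f := ⇑(WittVector.frobenius (p := p) (R := B))),
        mul_comm x, ← WittVector.verschiebung_mul_frobenius, mul_comm, ih (WittVector.frobenius x) y]
  have hF : ∀ (k : ℕ) (b : B),
      (WittVector.frobenius)^[k] (WittVector.teichmuller p b) = WittVector.teichmuller p (b ^ p ^ k) := by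
    intro k
    induction k with
    | zero => intro b; simp
    | succ k ih =>
      intro b
      rw [Function.iterate_succ_apply', ih]
      refine WittVector.ext fun q => ?_
      rw [WittVector.coeff_frobenius_charP]
      rcases q with _ | q
      · rw [WittVector.teichmuller_coeff_zero, WittVector.teichmuller_coeff_zero, ← pow_mul, ← pow_succ]
      · rw [WittVector.teichmuller_coeff_pos _ _ _ q.succ_pos, WittVector.teichmuller_coeff_pos _ _ _ q.succ_pos,
          zero_pow (Fact.out : p.Prime).ne_zero]
  rw [hV, hF, mul_left_comm, ← map_mul, ← Units.val_pow_eq_pow_val, ← Units.val_mul, ← zpow_natCast,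
    ← zpow_mul, ← zpow_add]
  congr 4
  push_cast
  ring_nf

end Groth.Agent.S20024
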