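import Groth.Statements.S2003
import Groth.Agent.EtGlueLib.Finite

set_option autoImplicit false
universe u
open TensorProduct
open EtAlg Groth.Agent
open scoped TensorProduct

namespace Groth.Agent.S2003

/-- Let (R -> R', f) be a glueing pair and M any R-module. Then M is finite projective over R exactly
when both of its base changes are: R' ⊗_R M over R', and M_f over R_f. -/
theorem result (R R' : Type u) [CommRing R] [CommRing R'] [Algebra R R'] (f : R)
    (hRR : EtGlue.IsGlueingPair R R' f) (M : Type u) [AddCommGroup M] [Module R M] :
    (Module.Finite R M ∧ Module.Projective R M) ↔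
      (Module.Finite R' (R' ⊗[R] M) ∧ Module.Projective R' (R' ⊗[R] M)) ∧
      (Module.Finite (Localization.Away f) (LocalizedModule (Submonoid.powers f) M) ∧
        Module.Projective (Localization.Away f) (LocalizedModule (Submonoid.powers f) M)) := by
  let e : Localization.Away f ⊗[R] M ≃ₗ[Localization.Away f] LocalizedModule (Submonoid.powers f) M :=
    (LocalizedModule.equivTensorProduct (Submonoid.powers f) M).symm
  constructor
  · rintro ⟨h1, h2⟩
    haveI := h1
    haveI := h2
    exact ⟨⟨inferInstance, inferInstance⟩, Module.Finite.equiv e, Module.Projective.of_equiv e⟩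
  · rintro ⟨⟨h1, h2⟩, h3, h4⟩
    haveI := h1
    haveI := h2
    haveI := h3
    haveI := h4
    haveI : Module.Finite (Localization.Away f) (Localization.Away f ⊗[R] M) := Module.Finite.equiv e.symm
    haveI : Module.Projective (Localization.Away f) (Localization.Away f ⊗[R] M) := Module.Projective.of_equiv e.symm
    exact EtGlueLib.finite_projective hRR M

end Groth.Agent.S2003
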