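import Groth.Statements.S20034
import Groth.Agent.HensPar.Tori

set_option autoImplicit false
open CategoryTheory MonoidalCategory CartesianMonoidalCategory MonObj GrpObj AlgebraicGeometry
universe u
set_option backward.isDefEq.respectTransparency false
set_option backward.isDefEq.respectTransparency.types false
set_option maxHeartbeats 1000000
set_option synthInstance.maxHeartbeats 400000
open Par
open Groth.Agent
open scoped CategoryTheory.Obj

namespace Groth.Agent.S20034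

/-- Let O be a henselian local ring with residue field k and G a reductive group over Spec O. With
maximal split tori as in the companion statement (a torus isomorphic to some D(ℤ^r) that equals
every split subtorus containing it) and minimal parabolic subgroups (parabolic subgroups through
which no other parabolic subgroup factors except isomorphically), SBP(G) is the set of triples (T,
B, P) with T a maximal split torus, B a minimal parabolic subgroup containing the centralizer of T,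
and P a parabolic subgroup containing B. Then the specialization map SBP(G) → SBP(G_k) is
surjective: every such triple (T₀, B₀, P₀) for G_k is, up to isomorphisms over G_k, the closed fibre
of such a triple (T, B, P) for G. -/
theorem result (O : Type u) [CommRing O] [HenselianLocalRing O]
    (G : Over (Spec (CommRingCat.of O))) [GrpObj G] (hG : Red.IsReductive G)
    (T₀ : Over (Spec (CommRingCat.of (IsLocalRing.ResidueField O)))) [GrpObj T₀] (σ₀ : T₀ ⟶ Red.bc (Spec.map (CommRingCat.ofHom (IsLocalRing.residue O))) G) [IsMonHom σ₀] [Mono σ₀]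
    (hT₀ : (Red.IsTorus T₀ ∧ (∃ r : ℕ, Red.IsSplitTorusWith (Fin r → ℤ) T₀) ∧
      (∀ (T' : Over (Spec (CommRingCat.of (IsLocalRing.ResidueField O)))) [GrpObj T'] (σ' : T' ⟶ Red.bc (Spec.map (CommRingCat.ofHom (IsLocalRing.residue O))) G) [IsMonHom σ'] [Mono σ'] (f : T₀ ⟶ T'),
        Red.IsTorus T' → (∃ r : ℕ, Red.IsSplitTorusWith (Fin r → ℤ) T') → f ≫ σ' = σ₀ → IsIso f)))
    (B₀ : Over (Spec (CommRingCat.of (IsLocalRing.ResidueField O)))) [GrpObj B₀] (b₀ : B₀ ⟶ Red.bc (Spec.map (CommRingCat.ofHom (IsLocalRing.residue O))) G)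
    (hB₀ : (Red.IsParabolic b₀ ∧ ∀ (Q : Over (Spec (CommRingCat.of (IsLocalRing.ResidueField O)))) [GrpObj Q] (q : Q ⟶ Red.bc (Spec.map (CommRingCat.ofHom (IsLocalRing.residue O))) G) (f : Q ⟶ B₀),
        Red.IsParabolic q → f ≫ b₀ = q → IsIso f))
    (hZ₀ : ∀ (Z₀ : Over (Spec (CommRingCat.of (IsLocalRing.ResidueField O)))) [GrpObj Z₀] (z₀ : Z₀ ⟶ Red.bc (Spec.map (CommRingCat.ofHom (IsLocalRing.residue O))) G),
      Red.IsCentralizerOf σ₀ z₀ → ∃ zB₀ : Z₀ ⟶ B₀, zB₀ ≫ b₀ = z₀)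
    (P₀ : Over (Spec (CommRingCat.of (IsLocalRing.ResidueField O)))) [GrpObj P₀] (p₀ : P₀ ⟶ Red.bc (Spec.map (CommRingCat.ofHom (IsLocalRing.residue O))) G) (hp₀ : Red.IsParabolic p₀)
    (c₀ : B₀ ⟶ P₀) (hc₀ : c₀ ≫ p₀ = b₀) :
    ∃ (T : Over (Spec (CommRingCat.of O))) (_ : GrpObj T) (σ : T ⟶ G) (_ : IsMonHom σ) (_ : Mono σ)
      (B : Over (Spec (CommRingCat.of O))) (_ : GrpObj B) (b : B ⟶ G)
      (P : Over (Spec (CommRingCat.of O))) (_ : GrpObj P) (p : P ⟶ G) (c : B ⟶ P),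
      (Red.IsTorus T ∧ (∃ r : ℕ, Red.IsSplitTorusWith (Fin r → ℤ) T) ∧
      (∀ (T' : Over (Spec (CommRingCat.of O))) [GrpObj T'] (σ' : T' ⟶ G) [IsMonHom σ'] [Mono σ'] (f : T ⟶ T'),
        Red.IsTorus T' → (∃ r : ℕ, Red.IsSplitTorusWith (Fin r → ℤ) T') → f ≫ σ' = σ → IsIso f)) ∧
      (Red.IsParabolic b ∧ ∀ (Q : Over (Spec (CommRingCat.of O))) [GrpObj Q] (q : Q ⟶ G) (f : Q ⟶ B),
        Red.IsParabolic q → f ≫ b = q → IsIso f) ∧
      (∀ (Z : Over (Spec (CommRingCat.of O))) [GrpObj Z] (z : Z ⟶ G),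
        Red.IsCentralizerOf σ z → ∃ zB : Z ⟶ B, zB ≫ b = z) ∧
      Red.IsParabolic p ∧ c ≫ p = b ∧
      (∃ e : Red.bc (Spec.map (CommRingCat.ofHom (IsLocalRing.residue O))) T ≅ T₀, e.hom ≫ σ₀ = (Over.pullback (Spec.map (CommRingCat.ofHom (IsLocalRing.residue O)))).map σ) ∧
      (∃ e' : Red.bc (Spec.map (CommRingCat.ofHom (IsLocalRing.residue O))) B ≅ B₀, e'.hom ≫ b₀ = (Over.pullback (Spec.map (CommRingCat.ofHom (IsLocalRing.residue O)))).map b) ∧
      (∃ e'' : Red.bc (Spec.map (CommRingCat.ofHom (IsLocalRing.residue O))) P ≅ P₀, e''.hom ≫ p₀ = (Over.pullback (Spec.map (CommRingCat.ofHom (IsLocalRing.residue O)))).map p) := by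
  obtain ⟨T, _, σ, hσ, hσm, hmax, e, he⟩ := HensPar.exists_maxSplit_lift hG σ₀ hT₀
  haveI := hσ; haveI := hσm
  obtain ⟨aB, B, _, b, haB, hPB, hb, hZB, eB, heB⟩ := HensPar.exists_pair_lift hG σ hmax.1 σ₀ hT₀ e he b₀ hB₀.1 hZ₀
  obtain ⟨aP, P, _, p, haP, hPP, hp, hZP, eP, heP⟩ := HensPar.exists_pair_lift hG σ hmax.1 σ₀ hT₀ e he p₀ hp₀
    (fun Z₀ _ z₀ hz => by
      obtain ⟨w, hw⟩ := hZ₀ Z₀ z₀ hz
      exact ⟨w ≫ c₀, by rw [Category.assoc, hc₀, hw]⟩)
  haveI := haB; haveI := haP; haveI := hp.1; haveI := hp.2.1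
  haveI : Mono p := Over.mono_of_mono_left p
  obtain ⟨t, ht⟩ : ∃ t : T ⟶ P, t ≫ p = σ := by
    refine (hPP.2.2 T σ).2 fun R _ f y => Groth.Agent.DynPar.ZSub_le_PSub f (aP ≫ σ) ?_
    refine (Groth.Agent.DynPar.mem_ZSub_iff_commute f (aP ≫ σ)).2 fun B' _ f' x h => ?_
    simp only [← Category.assoc]
    rw [← MonObj.mul_comp, ← MonObj.mul_comp, GrMax.comm_points_torus T hmax.1]
  haveI : IsMonHom t := MTSplit.isMonHom_of_comp_mono t p σ ht
  haveI : IsMonHom (aB ≫ t) := DynPar.isMonHom_comp' aB t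
  obtain ⟨f, hf⟩ := HensPar.le_of_closed hG p hp (aB ≫ t) (p := b) (by rw [Category.assoc, ht]; exact hPB) hb
    ⟨eB.hom ≫ c₀ ≫ eP.inv, by
      rw [← heP]
      simp only [Category.assoc, Iso.inv_hom_id_assoc]
      rw [hc₀, heB]⟩
  refine ⟨T, inferInstance, σ, hσ, hσm, B, inferInstance, b, P, inferInstance, p, f, hmax,
    ⟨hb, fun Q _ q g hq hg => HensPar.minimal_of_closed hG b hb (fun Q₀ _ q₀ g₀ hq₀ hg₀ => ?_) Q q g hq hg⟩,
    hZB, hp, hf, ⟨e, he⟩, ⟨eB, heB⟩, ⟨eP, heP⟩⟩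
  haveI := hB₀.2 Q₀ q₀ (g₀ ≫ eB.hom) hq₀ (by rw [Category.assoc, heB, hg₀])
  exact IsIso.of_isIso_comp_right g₀ eB.hom

end Groth.Agent.S20034
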