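import Groth.Statements.S2006
import Mathlib
import Groth.Agent.H4Easy.Batch5

set_option autoImplicit false
universe u
open TensorProduct
open EtAlg

namespace Groth.Agent.S2006

/-- Let R -> R' induce bijections R/f^n R -> R'/f^n R' for all n > 0 and let M be an R-module. Then M is
finitely generated if and only if R' ⊗_R M is finitely generated over R' and M_f is finitely
generated over R_f. -/
theorem result (R R' : Type u) [CommRing R] [CommRing R'] [Algebra R R'] (f : R)
    (hq : EtGlue.QuotPowBijective R R' f) (M : Type u) [AddCommGroup M] [Module R M] :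
    Module.Finite R M ↔ Module.Finite R' (R' ⊗[R] M) ∧
      Module.Finite (Localization.Away f) (LocalizedModule (Submonoid.powers f) M) := by
  classical
  constructor
  · intro h
    exact ⟨inferInstance, Module.Finite.of_isLocalizedModule (Submonoid.powers f)
      (LocalizedModule.mkLinearMap (Submonoid.powers f) M)⟩
  rintro ⟨h1, h2⟩
  obtain ⟨S1, hS1⟩ := h1.fg_top
  have hgen1 : ∀ z : R' ⊗[R] M, ∃ N : Submodule R M, N.FG ∧ z ∈ LinearMap.range (N.subtype.lTensor R') := by
    intro z
    induction z using TensorProduct.induction_on with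
    | zero => exact ⟨⊥, Submodule.fg_bot, zero_mem _⟩
    | tmul r m => exact ⟨Submodule.span R {m}, Submodule.fg_span_singleton m,
        r ⊗ₜ ⟨m, Submodule.mem_span_singleton_self m⟩, rfl⟩
    | add a b ha hb =>
      obtain ⟨N1, hN1, ha⟩ := ha
      obtain ⟨N2, hN2, hb⟩ := hb
      refine ⟨N1 ⊔ N2, hN1.sup hN2, add_mem ?_ ?_⟩
      · obtain ⟨w, rfl⟩ := ha
        exact ⟨(Submodule.inclusion le_sup_left).lTensor R' w, by rw [← LinearMap.comp_apply, ← LinearMap.lTensor_comp]; rfl⟩
      · obtain ⟨w, rfl⟩ := hb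
        exact ⟨(Submodule.inclusion le_sup_right).lTensor R' w, by rw [← LinearMap.comp_apply, ← LinearMap.lTensor_comp]; rfl⟩
  choose N1 hN1fg hN1 using hgen1
  obtain ⟨S2, hS2⟩ := h2.fg_top
  have hgen2 : ∀ z : LocalizedModule (Submonoid.powers f) M, ∃ (m : M) (s : Submonoid.powers f),
      LocalizedModule.mk m s = z := fun z => by
    induction z using LocalizedModule.induction_on with
    | h m s => exact ⟨m, s, rfl⟩
  choose m2 s2 hm2 using hgen2
  let N : Submodule R M := (S1.sup N1) ⊔ Submodule.span R (S2.image m2 : Set M)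
  have hNfg : N.FG := (Submodule.fg_finset_sup S1 N1 fun z _ => hN1fg z).sup ⟨S2.image m2, rfl⟩
  have hsurj : Function.Surjective (N.subtype.lTensor R') := by
    intro z
    have hz : z ∈ Submodule.span R' (S1 : Set (R' ⊗[R] M)) := hS1 ▸ Submodule.mem_top
    have hle : Submodule.span R' (S1 : Set (R' ⊗[R] M)) ≤ LinearMap.range (N.subtype.baseChange R') := by
      rw [Submodule.span_le]
      intro w hw
      obtain ⟨v, hv⟩ := hN1 w
      exact ⟨(Submodule.inclusion ((Finset.le_sup (f := N1) hw).trans le_sup_left)).lTensor R' v, by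
        conv_rhs => rw [← hv]
        show N.subtype.lTensor R' _ = _
        rw [← LinearMap.comp_apply, ← LinearMap.lTensor_comp]; rfl⟩
    exact hle hz
  have hQ0 : ∀ m : M, ∃ n : ℕ, f ^ n • m ∈ N := by
    intro m
    have hm : LocalizedModule.mk m 1 ∈ Submodule.span (Localization.Away f)
        (S2 : Set (LocalizedModule (Submonoid.powers f) M)) := hS2 ▸ Submodule.mem_top
    have hle : Submodule.span (Localization.Away f) (S2 : Set (LocalizedModule (Submonoid.powers f) M)) ≤
        Submodule.localized (Submonoid.powers f) N := by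
      rw [Submodule.span_le]
      intro w hw
      exact ⟨m2 w, Submodule.mem_sup_right (Submodule.subset_span (Finset.mem_image_of_mem m2 hw)), s2 w, by
        rw [← IsLocalizedModule.mk_eq_mk']; exact hm2 w⟩
    obtain ⟨m', hm', s, hs⟩ := hle hm
    rw [← IsLocalizedModule.mk_eq_mk', LocalizedModule.mk_eq] at hs
    obtain ⟨⟨_, k, rfl⟩, hu⟩ := hs
    obtain ⟨_, l, rfl⟩ := s
    refine ⟨k + l, ?_⟩
    have hu' : f ^ k • (1 : R) • m' = f ^ k • f ^ l • m := hu
    rw [one_smul] at hu'
    rw [pow_add, mul_smul, ← hu']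
    exact N.smul_mem _ hm'
  have htor : LocCoh.IsPowerTorsion (Ideal.span {f}) (M ⧸ N) := by
    intro q
    obtain ⟨m, rfl⟩ := N.mkQ_surjective q
    obtain ⟨n, hn⟩ := hQ0 m
    refine ⟨n, fun a ha => ?_⟩
    rw [Ideal.span_singleton_pow, Ideal.mem_span_singleton] at ha
    obtain ⟨b, rfl⟩ := ha
    rw [← map_smul, Submodule.mkQ_apply, Submodule.Quotient.mk_eq_zero, mul_comm, mul_smul]
    exact N.smul_mem _ hn
  have hb := Groth.Agent.H4Easy.powerTorsion_baseChange (Ideal.span {f}) (R' := R')
    (fun n hn => by rw [Ideal.span_singleton_pow]; exact hq n hn) (M ⧸ N) htor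
  refine ⟨?_⟩
  have hN : N = ⊤ := by
    rw [eq_top_iff]
    intro m _
    obtain ⟨w, hw⟩ := hsurj (1 ⊗ₜ[R] m)
    have h0 : (1 : R') ⊗ₜ[R] N.mkQ m = 0 := by
      rw [← LinearMap.lTensor_tmul, ← hw, ← LinearMap.comp_apply, ← LinearMap.lTensor_comp,
        show N.mkQ ∘ₗ N.subtype = 0 from LinearMap.ext fun x => (Submodule.Quotient.mk_eq_zero N).2 x.2,
        LinearMap.lTensor_zero, LinearMap.zero_apply]
    have h00 : (fun m : M ⧸ N => (1 : R') ⊗ₜ[R] m) (N.mkQ m) = (fun m : M ⧸ N => (1 : R') ⊗ₜ[R] m) 0 := by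
      simpa using h0
    exact (Submodule.Quotient.mk_eq_zero N).1 (hb.1 h00)
  exact hN ▸ hNfg

end Groth.Agent.S2006
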