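import Groth.Statements.S2007
import Mathlib
import Groth.Agent.H4Easy.Batch5

set_option autoImplicit false
universe u
open TensorProduct
open EtAlg

namespace Groth.Agent.S2007

theorem quot_pow_bijective (R S : Type u) [CommRing R] [CommRing S] [Algebra R S] [Module.Flat R S] (I : Ideal R)
    (hq : Function.Bijective (Ideal.quotientMap (I.map (algebraMap R S)) (algebraMap R S) Ideal.le_comap_map)) (n : ℕ) :
    Function.Bijective (Ideal.quotientMap ((I ^ n).map (algebraMap R S)) (algebraMap R S) Ideal.le_comap_map) := by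
  classical
  have hdec : ∀ s : S, ∃ r : R, s - algebraMap R S r ∈ I.map (algebraMap R S) := fun s => by
    obtain ⟨q, hq'⟩ := hq.2 (Ideal.Quotient.mk _ s)
    obtain ⟨r, rfl⟩ := Ideal.Quotient.mk_surjective q
    rw [Ideal.quotientMap_mk, eq_comm, Ideal.Quotient.eq] at hq'
    exact ⟨r, hq'⟩
  have huniq : ∀ r : R, algebraMap R S r ∈ I.map (algebraMap R S) → r ∈ I := fun r hr =>
    Ideal.Quotient.eq_zero_iff_mem.1 (hq.1 (a₁ := Ideal.Quotient.mk _ r) (a₂ := 0)
      (by rw [Ideal.quotientMap_mk, map_zero, Ideal.Quotient.eq_zero_iff_mem]; exact hr))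
  induction n with
  | zero =>
    have h0 : (I ^ 0).map (algebraMap R S) = ⊤ := by rw [pow_zero, Ideal.one_eq_top, Ideal.map_top]
    haveI : Subsingleton (R ⧸ I ^ 0) := Ideal.Quotient.subsingleton_iff.2 (by rw [pow_zero, Ideal.one_eq_top])
    haveI : Subsingleton (S ⧸ (I ^ 0).map (algebraMap R S)) := Ideal.Quotient.subsingleton_iff.2 h0
    exact ⟨fun _ _ _ => Subsingleton.elim _ _, fun _ => ⟨0, Subsingleton.elim _ _⟩⟩
  | succ n ih =>
    refine ⟨(injective_iff_map_eq_zero _).2 fun z hz => ?_, fun z => ?_⟩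
    · obtain ⟨r, rfl⟩ := Ideal.Quotient.mk_surjective z
      rw [Ideal.quotientMap_mk, Ideal.Quotient.eq_zero_iff_mem] at hz
      have hrn : r ∈ I ^ n := Ideal.Quotient.eq_zero_iff_mem.1 (ih.1 (a₁ := Ideal.Quotient.mk _ r) (a₂ := 0)
        (by rw [Ideal.quotientMap_mk, map_zero, Ideal.Quotient.eq_zero_iff_mem]
            exact Ideal.map_mono (Ideal.pow_le_pow_right n.le_succ) hz))
      let X := ↥(I ^ n) ⧸ (I • ⊤ : Submodule R ↥(I ^ n))
      choose a ha using hdec
      have hkill : ∀ (c : R), c ∈ I → ∀ x : X, c • x = 0 := fun c hc x => by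
        obtain ⟨x, rfl⟩ := Submodule.Quotient.mk_surjective _ x
        rw [← Submodule.Quotient.mk_smul, Submodule.Quotient.mk_eq_zero]
        exact Submodule.smul_mem_smul hc Submodule.mem_top
      have hwd : ∀ (s : S) (b : R), s - algebraMap R S b ∈ I.map (algebraMap R S) → ∀ x : X, a s • x = b • x :=
        fun s b hb x => by
          rw [← sub_eq_zero, ← sub_smul]
          refine hkill _ (huniq _ ?_) x
          rw [map_sub]
          have := sub_mem hb (ha s)
          rwa [sub_sub_sub_cancel_left] at this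
      let L : S →ₗ[R] X →ₗ[R] X := LinearMap.mk₂ R (fun s x => a s • x)
        (fun s t x => by
          rw [hwd (s + t) (a s + a t) (by rw [map_add, add_sub_add_comm]; exact add_mem (ha s) (ha t)) x, add_smul])
        (fun c s x => by
          rw [hwd (c • s) (c * a s) (by rw [map_mul, Algebra.smul_def, ← mul_sub]; exact Ideal.mul_mem_left _ _ (ha s)) x,
            mul_smul])
        (fun s x y => smul_add _ _ _) (fun c s x => smul_comm _ _ _)
      let θ : S ⊗[R] ↥(I ^ n) →ₗ[R] X := (TensorProduct.lift L).comp ((Submodule.mkQ _).lTensor S)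
      obtain ⟨w, hw, hw'⟩ : ∃ w : S ⊗[R] ↥(I ^ n), TensorProduct.rid R S ((I ^ n).subtype.lTensor S w) = algebraMap R S r ∧
          θ w = 0 := by
        have hgen : ∀ y ∈ (I ^ (n + 1)).map (algebraMap R S), ∃ w : S ⊗[R] ↥(I ^ n),
            TensorProduct.rid R S ((I ^ n).subtype.lTensor S w) = y ∧ θ w = 0 := by
          intro y hy
          rw [Ideal.map] at hy
          obtain ⟨k, c, g, rfl⟩ := Submodule.mem_span_set'.1 hy
          choose t ht htg using fun i => (g i).2
          refine ⟨∑ i, c i ⊗ₜ[R] (⟨t i, Ideal.pow_le_pow_right n.le_succ (ht i)⟩ : ↥(I ^ n)), ?_, ?_⟩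
          · simp only [map_sum, LinearMap.lTensor_tmul, Submodule.coe_subtype, TensorProduct.rid_tmul]
            refine Finset.sum_congr rfl fun i _ => ?_
            rw [Algebra.smul_def, htg, smul_eq_mul, mul_comm]
          · rw [map_sum]
            refine Finset.sum_eq_zero fun i _ => ?_
            show L (c i) (Submodule.Quotient.mk _) = 0
            rw [(Submodule.Quotient.mk_eq_zero _).2 ?_, map_zero]
            rw [Submodule.mem_smul_top_iff]
            show t i ∈ I • (I ^ n : Submodule R R)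
            rw [Ideal.smul_eq_mul, ← pow_succ']
            exact ht i
        exact hgen _ hz
      have hinj : Function.Injective fun w => TensorProduct.rid R S ((I ^ n).subtype.lTensor S w) :=
        (TensorProduct.rid R S).injective.comp (Module.Flat.lTensor_preserves_injective_linearMap _ (Submodule.subtype_injective _))
      have he : w = (1 : S) ⊗ₜ[R] (⟨r, hrn⟩ : ↥(I ^ n)) := hinj (hw.trans (by simp [Algebra.smul_def]))
      rw [he] at hw'
      change a 1 • (Submodule.Quotient.mk ⟨r, hrn⟩ : X) = 0 at hw'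
      rw [hwd 1 1 (by simp) _, one_smul, Submodule.Quotient.mk_eq_zero, Submodule.mem_smul_top_iff] at hw'
      rw [Ideal.Quotient.eq_zero_iff_mem]
      change r ∈ I • (I ^ n : Submodule R R) at hw'
      rwa [Ideal.smul_eq_mul, ← pow_succ'] at hw'
    · obtain ⟨s, rfl⟩ := Ideal.Quotient.mk_surjective z
      obtain ⟨q, hq'⟩ := ih.2 (Ideal.Quotient.mk _ s)
      obtain ⟨r, rfl⟩ := Ideal.Quotient.mk_surjective q
      rw [Ideal.quotientMap_mk, eq_comm, Ideal.Quotient.eq] at hq'
      have hlift : ∀ y ∈ (I ^ n).map (algebraMap R S), ∃ b : R, y - algebraMap R S b ∈ (I ^ (n + 1)).map (algebraMap R S) := by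
        intro y hy
        rw [Ideal.map] at hy
        obtain ⟨k, c, g, rfl⟩ := Submodule.mem_span_set'.1 hy
        choose t ht htg using fun i => (g i).2
        choose b hb using fun i => hdec (c i)
        refine ⟨∑ i, b i * t i, ?_⟩
        rw [map_sum, ← Finset.sum_sub_distrib]
        refine Ideal.sum_mem _ fun i _ => ?_
        rw [map_mul, smul_eq_mul, ← htg, ← sub_mul, pow_succ', Ideal.map_mul]
        exact Ideal.mul_mem_mul (hb i) (Ideal.mem_map_of_mem _ (ht i))
      obtain ⟨b, hb⟩ := hlift _ hq'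
      refine ⟨Ideal.Quotient.mk _ (r + b), ?_⟩
      rw [Ideal.quotientMap_mk, eq_comm, Ideal.Quotient.eq, map_add, ← sub_sub]
      exact hb


/-- Let R -> S be a flat ring map and I a finitely generated ideal of R such that R/I -> S/IS is
bijective. Let N be an R-module, M' an S-module and φ : M' -> S ⊗_R N an S-linear map whose kernel
and cokernel are I-power torsion (every element of the kernel, resp. of the target modulo the image,
is killed by some power of I). Then there are an R-module M, an R-linear map ψ : M -> N and an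
S-isomorphism S ⊗_R M ≅ M' identifying φ with the base change of ψ. -/
theorem result (R S : Type u) [CommRing R] [CommRing S] [Algebra R S] [Module.Flat R S] (I : Ideal R)
    (hI : I.FG) (hq : Function.Bijective (Ideal.quotientMap (I.map (algebraMap R S)) (algebraMap R S) Ideal.le_comap_map))
    (N : Type u) [AddCommGroup N] [Module R N] (M' : Type u) [AddCommGroup M'] [Module S M'] (φ : M' →ₗ[S] S ⊗[R] N)
    (hker : ∀ x : M', φ x = 0 → ∃ n : ℕ, ∀ a ∈ I ^ n, algebraMap R S a • x = 0)
    (hcoker : ∀ y : S ⊗[R] N, ∃ n : ℕ, ∀ a ∈ I ^ n, algebraMap R S a • y ∈ LinearMap.range φ) :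
    ∃ (M : Type u) (_ : AddCommGroup M) (_ : Module R M) (ψ : M →ₗ[R] N) (e : S ⊗[R] M ≃ₗ[S] M'),
      φ ∘ₗ e.toLinearMap = ψ.baseChange S := by
  classical
  letI : Module R M' := Module.compHom M' (algebraMap R S)
  haveI : IsScalarTower R S M' := IsScalarTower.of_algebraMap_smul fun r x => rfl
  have hqn : ∀ k : ℕ, 0 < k → Function.Bijective
      (Ideal.quotientMap (Ideal.map (algebraMap R S) (I ^ k)) (algebraMap R S) Ideal.le_comap_map) := fun k _ =>
    quot_pow_bijective R S I hq k
  let ι : N →ₗ[R] S ⊗[R] N := TensorProduct.mk R S N 1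
  let φR : M' →ₗ[R] S ⊗[R] N := φ.restrictScalars R
  let Msub : Submodule R (M' × N) := LinearMap.ker (φR.comp (LinearMap.fst R M' N) - ι.comp (LinearMap.snd R M' N))
  have hmem : ∀ q : M' × N, q ∈ Msub ↔ φ q.1 = (1 : S) ⊗ₜ[R] q.2 := fun q => by
    simp [Msub, φR, ι, sub_eq_zero]
  let p : Msub →ₗ[R] M' := (LinearMap.fst R M' N).comp Msub.subtype
  let ψ : Msub →ₗ[R] N := (LinearMap.snd R M' N).comp Msub.subtype
  let e0 : S ⊗[R] Msub →ₗ[S] M' := p.liftBaseChange S
  have hcomm : φ ∘ₗ e0 = ψ.baseChange S := by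
    refine TensorProduct.AlgebraTensorModule.ext fun s m => ?_
    show φ (e0 (s ⊗ₜ m)) = ψ.baseChange S (s ⊗ₜ m)
    rw [LinearMap.baseChange_tmul]
    simp only [e0, LinearMap.liftBaseChange_tmul, map_smul]
    rw [show φ (p m) = (1 : S) ⊗ₜ[R] ψ m from (hmem m.1).1 m.2, TensorProduct.smul_tmul', smul_eq_mul, mul_one]
  have hinj : Function.Injective e0 := by
    refine (injective_iff_map_eq_zero _).2 fun z hz => ?_
    have h0 : ψ.lTensor S z = 0 := by
      have := LinearMap.congr_fun hcomm z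
      rw [LinearMap.comp_apply, hz, map_zero] at this
      exact this.symm.trans rfl
    have hex : Function.Exact (LinearMap.ker ψ).subtype ψ := fun x => ⟨fun hx => ⟨⟨x, hx⟩, rfl⟩, by rintro ⟨y, rfl⟩; exact y.2⟩
    have hex2 := @Module.Flat.lTensor_exact R S _ _ _ _ (LinearMap.ker ψ) Msub N _ _ _ _ _ _ (LinearMap.ker ψ).subtype ψ hex
    obtain ⟨w, rfl⟩ := (hex2 z).1 h0
    have htor : LocCoh.IsPowerTorsion I (LinearMap.ker ψ) := fun x => by
      have hx : φ (p x.1) = 0 := by
        rw [show φ (p x.1) = (1 : S) ⊗ₜ[R] ψ x.1 from (hmem x.1.1).1 x.1.2, show ψ x.1 = 0 from x.2, TensorProduct.tmul_zero]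
      obtain ⟨k, hk⟩ := hker _ hx
      refine ⟨k, fun a ha => Subtype.ext (Subtype.ext (Prod.ext ?_ ?_))⟩
      · exact hk a ha
      · show a • ψ x.1 = 0
        rw [show ψ x.1 = 0 from x.2, smul_zero]
    obtain ⟨x, rfl⟩ := (H4Easy.powerTorsion_baseChange I hqn _ htor).2 w
    rw [LinearMap.lTensor_tmul] at hz ⊢
    simp only [e0, LinearMap.liftBaseChange_tmul, one_smul] at hz
    have : x = 0 := Subtype.ext (Subtype.ext (Prod.ext hz x.2))
    rw [this, map_zero, TensorProduct.tmul_zero]
  have hsurj : Function.Surjective e0 := by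
    intro y
    have htor : LocCoh.IsPowerTorsion I (N ⧸ LinearMap.range ψ) := fun c => by
      obtain ⟨m, rfl⟩ := Submodule.Quotient.mk_surjective _ c
      obtain ⟨k, hk⟩ := hcoker ((1 : S) ⊗ₜ m)
      refine ⟨k, fun a ha => ?_⟩
      obtain ⟨x, hx⟩ := hk a ha
      rw [← Submodule.Quotient.mk_smul, Submodule.Quotient.mk_eq_zero]
      refine ⟨⟨(x, a • m), (hmem _).2 ?_⟩, rfl⟩
      show φ x = (1 : S) ⊗ₜ[R] (a • m)
      rw [hx, TensorProduct.tmul_smul, IsScalarTower.algebraMap_smul]
    obtain ⟨c, hc⟩ := (H4Easy.powerTorsion_baseChange I hqn _ htor).2 ((LinearMap.range ψ).mkQ.lTensor S (φ y))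
    obtain ⟨m, rfl⟩ := Submodule.Quotient.mk_surjective _ c
    have h0 : (LinearMap.range ψ).mkQ.lTensor S (φ y - (1 : S) ⊗ₜ m) = 0 := by
      rw [map_sub, LinearMap.lTensor_tmul, ← hc]
      exact sub_self _
    obtain ⟨z, hz⟩ := (lTensor_exact S (LinearMap.exact_map_mkQ_range ψ) (Submodule.mkQ_surjective _) _).1 h0
    have h1 : φ (e0 z) = φ y - (1 : S) ⊗ₜ m := (LinearMap.congr_fun hcomm z).trans hz
    refine ⟨z + (1 : S) ⊗ₜ[R] (⟨(y - e0 z, m), (hmem _).2 ?_⟩ : Msub), ?_⟩
    · show φ (y - e0 z) = _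
      rw [map_sub, h1, sub_sub_cancel]
    · rw [map_add]
      simp only [e0, LinearMap.liftBaseChange_tmul, one_smul]
      exact add_sub_cancel _ _
  exact ⟨Msub, inferInstance, inferInstance, ψ, LinearEquiv.ofBijective e0 ⟨hinj, hsurj⟩, hcomm⟩

end Groth.Agent.S2007
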