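import Groth.Statements.S2008
import Mathlib

set_option autoImplicit false
universe u
open TensorProduct
open EtAlg

namespace Groth.Agent.S2008

/-- For a ring map R -> S and an ideal I of R the following are equivalent: (1) S is flat over R and
S/IS is faithfully flat over R/I; (2) S is flat over R and Spec(S/IS) -> Spec(R/I) is surjective;
(3) S is flat over R and S ⊗_R M is nonzero for every nonzero R-module M killed by I; (4) S is flat
over R and S ⊗_R M is nonzero for every nonzero I-power torsion R-module M. (Faithfulness of base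
change on these subcategories is stated as detection of nonzero objects, which is equivalent for an
exact functor.) -/
theorem result (R S : Type u) [CommRing R] [CommRing S] [Algebra R S] (I : Ideal R) :
    List.TFAE [
      Module.Flat R S ∧ Module.FaithfullyFlat (R ⧸ I) (S ⧸ I.map (algebraMap R S)),
      Module.Flat R S ∧ Function.Surjective (PrimeSpectrum.comap (Ideal.quotientMap (I.map (algebraMap R S)) (algebraMap R S) Ideal.le_comap_map)),
      Module.Flat R S ∧ ∀ (M : Type u) [AddCommGroup M] [Module R M], (∀ (a : R) (m : M), a ∈ I → a • m = 0) →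
        Nontrivial M → Nontrivial (S ⊗[R] M),
      Module.Flat R S ∧ ∀ (M : Type u) [AddCommGroup M] [Module R M], (∀ m : M, ∃ n : ℕ, ∀ a ∈ I ^ n, a • m = 0) →
        Nontrivial M → Nontrivial (S ⊗[R] M)] := by
  have key32 : (Module.Flat R S ∧ ∀ (M : Type u) [AddCommGroup M] [Module R M], (∀ (a : R) (m : M), a ∈ I → a • m = 0) →
        Nontrivial M → Nontrivial (S ⊗[R] M)) → Module.Flat R S ∧ Function.Surjective (PrimeSpectrum.comap
        (Ideal.quotientMap (I.map (algebraMap R S)) (algebraMap R S) Ideal.le_comap_map)) := by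
    rintro ⟨hflat, h⟩
    refine ⟨hflat, fun P => ?_⟩
    let p : Ideal R := P.asIdeal.comap (Ideal.Quotient.mk I)
    haveI : p.IsPrime := Ideal.comap_isPrime _ _
    have hIp : I ≤ p := fun a ha => by
      show Ideal.Quotient.mk I a ∈ P.asIdeal
      rw [Ideal.Quotient.eq_zero_iff_mem.2 ha]; exact zero_mem _
    haveI := h p.ResidueField (fun a m ha => by
      rw [Algebra.smul_def, Ideal.algebraMap_residueField_eq_zero.2 (hIp ha), zero_mul]) inferInstance
    obtain ⟨T⟩ := (inferInstance : Nonempty (PrimeSpectrum (S ⊗[R] p.ResidueField)))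
    let iL : S →+* S ⊗[R] p.ResidueField := Algebra.TensorProduct.includeLeftRingHom
    let iR : p.ResidueField →+* S ⊗[R] p.ResidueField :=
      (Algebra.TensorProduct.includeRight : p.ResidueField →ₐ[R] S ⊗[R] p.ResidueField).toRingHom
    have hsq : ∀ r, iL (algebraMap R S r) = iR (algebraMap R p.ResidueField r) := fun r => by
      show algebraMap R S r ⊗ₜ[R] (1 : p.ResidueField) = (1 : S) ⊗ₜ algebraMap R p.ResidueField r
      rw [Algebra.algebraMap_eq_smul_one, Algebra.algebraMap_eq_smul_one, TensorProduct.smul_tmul]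
    let Q : Ideal S := T.asIdeal.comap iL
    have hT0 : T.asIdeal.comap iR = ⊥ :=
      (Ideal.eq_bot_or_top _).resolve_right (Ideal.comap_isPrime iR T.asIdeal).ne_top
    have hQ : Q.comap (algebraMap R S) = p := by
      ext r
      show iL (algebraMap R S r) ∈ T.asIdeal ↔ _
      rw [hsq, ← Ideal.mem_comap, hT0, Ideal.mem_bot, Ideal.algebraMap_residueField_eq_zero]
    have hIQ : I.map (algebraMap R S) ≤ Q := Ideal.map_le_iff_le_comap.2 (hQ ▸ hIp)
    let Qbar : Ideal (S ⧸ I.map (algebraMap R S)) := Q.map (Ideal.Quotient.mk _)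
    haveI : Qbar.IsPrime := Ideal.map_isPrime_of_surjective Ideal.Quotient.mk_surjective
      (by rwa [Ideal.mk_ker])
    refine ⟨⟨Qbar, inferInstance⟩, PrimeSpectrum.ext (Ideal.comap_injective_of_surjective _ Ideal.Quotient.mk_surjective ?_)⟩
    show _ = p
    rw [PrimeSpectrum.comap_asIdeal, Ideal.comap_comap, Ideal.quotientMap_comp_mk, ← Ideal.comap_comap]
    show (Qbar.comap (Ideal.Quotient.mk _)).comap (algebraMap R S) = p
    rw [Ideal.comap_map_of_surjective _ Ideal.Quotient.mk_surjective, ← RingHom.ker_eq_comap_bot, Ideal.mk_ker,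
      sup_eq_left.2 hIQ, hQ]
  tfae_have 4 → 3 := by
    rintro ⟨hflat, h⟩
    exact ⟨hflat, fun M _ _ hM => h M fun m => ⟨1, fun a ha => hM a m (by simpa using ha)⟩⟩
  tfae_have 3 → 2 := key32
  tfae_have 2 → 1 := by
    rintro ⟨hflat, h⟩
    refine ⟨hflat, ?_⟩
    haveI : Module.Flat (R ⧸ I) (S ⧸ I.map (algebraMap R S)) :=
      Module.Flat.of_linearEquiv (Algebra.TensorProduct.quotIdealMapEquivQuotTensor S I).toLinearEquiv
    exact Module.FaithfullyFlat.of_comap_surjective h
  tfae_have 1 → 2 := by
    rintro ⟨hflat, h⟩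
    exact ⟨hflat, PrimeSpectrum.comap_surjective_of_faithfullyFlat⟩
  tfae_have 2 → 4 := by
    rintro ⟨hflat, h⟩
    refine ⟨hflat, fun M _ _ hM hnt => ?_⟩
    classical
    have key : ∀ (k : ℕ) (m : M), m ≠ 0 → (∀ a ∈ I ^ k, a • m = 0) → ∃ m' : M, m' ≠ 0 ∧ ∀ a ∈ I, a • m' = 0 := by
      intro k
      induction k with
      | zero => intro m hm h0; exact absurd (by simpa using h0 1 (by simp)) hm
      | succ k ih =>
        intro m hm h0
        by_cases hex : ∃ a ∈ I, a • m ≠ 0
        · obtain ⟨a, ha, ham⟩ := hex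
          exact ih (a • m) ham fun b hb => by
            rw [smul_smul]; exact h0 _ (by rw [pow_succ]; exact Ideal.mul_mem_mul hb ha)
        · push Not at hex
          exact ⟨m, hm, hex⟩
    obtain ⟨m, hm⟩ := exists_ne (0 : M)
    obtain ⟨k, hk⟩ := hM m
    obtain ⟨m', hm', hI'⟩ := key k m hm hk
    let f : R →ₗ[R] M := LinearMap.toSpanSingleton R M m'
    have hJ : LinearMap.ker f ≠ ⊤ := fun htop => hm' (by
      simpa [f] using (LinearMap.mem_ker.1 (htop ▸ Submodule.mem_top : (1 : R) ∈ LinearMap.ker f)))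
    obtain ⟨P, hP, hJP⟩ := Ideal.exists_le_maximal _ hJ
    have hIP : I ≤ P := fun a ha => hJP (hI' a ha)
    haveI : (P.map (Ideal.Quotient.mk I)).IsPrime :=
      Ideal.map_isPrime_of_surjective Ideal.Quotient.mk_surjective (by rwa [Ideal.mk_ker])
    obtain ⟨Q, hQ⟩ := h ⟨P.map (Ideal.Quotient.mk I), inferInstance⟩
    have hQ' : P.map (algebraMap R S) ≤ Q.asIdeal.comap (Ideal.Quotient.mk _) := by
      rw [Ideal.map_le_iff_le_comap]
      intro r hr
      show Ideal.Quotient.mk _ (algebraMap R S r) ∈ Q.asIdeal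
      have hr' := Ideal.mem_map_of_mem (Ideal.Quotient.mk I) hr
      exact (SetLike.ext_iff.1 (congrArg PrimeSpectrum.asIdeal hQ) _).2 hr'
    let g : (R ⧸ LinearMap.ker f) →ₗ[R] M := (LinearMap.ker f).liftQ f le_rfl
    have hg : Function.Injective g := LinearMap.ker_eq_bot.1 (Submodule.ker_liftQ_eq_bot _ _ _ le_rfl)
    refine nontrivial_of_ne ((g.lTensor S) ((1 : S) ⊗ₜ Submodule.Quotient.mk 1)) 0 fun he => ?_
    rw [← map_zero (g.lTensor S)] at he
    have h0 := Module.Flat.lTensor_preserves_injective_linearMap g hg he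
    have h1 := congrArg (((LinearMap.ker f).mapQ P LinearMap.id hJP).lTensor S) h0
    rw [map_zero, LinearMap.lTensor_tmul] at h1
    have h2 : (1 : S ⧸ P.map (algebraMap R S)) = 0 := by
      apply (Algebra.TensorProduct.quotIdealMapEquivTensorQuot S P).injective
      rw [map_one, map_zero]
      exact h1
    rw [← map_one (Ideal.Quotient.mk _), Ideal.Quotient.eq_zero_iff_mem] at h2
    exact (Q.asIdeal.comap (Ideal.Quotient.mk (I.map (algebraMap R S)))).ne_top_iff_one.1
      (Ideal.comap_isPrime _ _).ne_top (hQ' h2)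
  tfae_finish

end Groth.Agent.S2008
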