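import Groth.Statements.S2009
import Mathlib

set_option autoImplicit false
universe u
open TensorProduct
open EtAlg

namespace Groth.Agent.S2009

/-- Let R -> S be flat with S/IS faithfully flat over R/I. Then the natural map M -> S ⊗_R M is
bijective for every I-power torsion R-module M if and only if R/I -> S/IS is bijective. -/
theorem result (R S : Type u) [CommRing R] [CommRing S] [Algebra R S] (I : Ideal R)
    [Module.Flat R S] [Module.FaithfullyFlat (R ⧸ I) (S ⧸ I.map (algebraMap R S))] :
    (∀ (M : Type u) [AddCommGroup M] [Module R M], (∀ m : M, ∃ n : ℕ, ∀ a ∈ I ^ n, a • m = 0) →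
      Function.Bijective (TensorProduct.mk R S M 1)) ↔
    Function.Bijective (Ideal.quotientMap (I.map (algebraMap R S)) (algebraMap R S) Ideal.le_comap_map) := by
  classical
  constructor
  · intro h
    have hb := h (R ⧸ I) (fun m => ⟨1, fun a ha => by
      obtain ⟨r, rfl⟩ := Ideal.Quotient.mk_surjective m
      rw [Algebra.smul_def, Ideal.Quotient.algebraMap_eq, ← map_mul, Ideal.Quotient.eq_zero_iff_mem]
      exact I.mul_mem_right _ (by simpa using ha)⟩)
    let e := Algebra.TensorProduct.quotIdealMapEquivTensorQuot S I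
    have hcomp : (TensorProduct.mk R S (R ⧸ I) 1 : R ⧸ I → _) =
        e ∘ (Ideal.quotientMap (I.map (algebraMap R S)) (algebraMap R S) Ideal.le_comap_map) := by
      funext m
      obtain ⟨r, rfl⟩ := Ideal.Quotient.mk_surjective m
      show (1 : S) ⊗ₜ[R] Ideal.Quotient.mk I r = e _
      rw [Ideal.quotientMap_mk, Algebra.TensorProduct.quotIdealMapEquivTensorQuot_mk,
        Algebra.algebraMap_eq_smul_one r, TensorProduct.smul_tmul, Algebra.smul_def, mul_one]
      rfl
    rw [hcomp] at hb
    exact (Function.Bijective.of_comp_iff' e.bijective _).1 hb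
  intro hbij M _ _ hM
  have hred : ∀ (n : ℕ) (s : S), ∃ r : R, s - algebraMap R S r ∈ (I ^ n).map (algebraMap R S) := by
    intro n
    induction n with
    | zero => exact fun s => ⟨0, by simp [Ideal.map_top]⟩
    | succ n ih =>
      intro s
      obtain ⟨r, hr⟩ := ih s
      suffices H : ∀ x ∈ (I ^ n).map (algebraMap R S), ∃ r' ∈ I ^ n, x - algebraMap R S r' ∈ (I ^ (n + 1)).map (algebraMap R S) by
        obtain ⟨r', -, hr'⟩ := H _ hr
        exact ⟨r + r', by rwa [map_add, ← sub_sub]⟩
      intro x hx
      rw [Ideal.map] at hx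
      induction hx using Submodule.span_induction with
      | mem x hx =>
        obtain ⟨a, ha, rfl⟩ := hx
        exact ⟨a, ha, by simp⟩
      | zero => exact ⟨0, zero_mem _, by simp⟩
      | add x y _ _ hx hy =>
        obtain ⟨a, ha, hxa⟩ := hx
        obtain ⟨b, hb, hyb⟩ := hy
        exact ⟨a + b, add_mem ha hb, by rw [map_add, add_sub_add_comm]; exact add_mem hxa hyb⟩
      | smul c x _ hx =>
        obtain ⟨a, ha, hxa⟩ := hx
        obtain ⟨q, hq⟩ := hbij.2 (Ideal.Quotient.mk _ c)
        obtain ⟨r₁, rfl⟩ := Ideal.Quotient.mk_surjective q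
        rw [Ideal.quotientMap_mk, Ideal.Quotient.mk_eq_mk_iff_sub_mem] at hq
        refine ⟨r₁ * a, Ideal.mul_mem_left _ _ ha, ?_⟩
        rw [smul_eq_mul, map_mul, show c * x - algebraMap R S r₁ * algebraMap R S a =
          c * (x - algebraMap R S a) - (algebraMap R S r₁ - c) * algebraMap R S a by ring]
        refine sub_mem (Ideal.mul_mem_left _ _ hxa) ?_
        rw [pow_succ', Ideal.map_mul]
        exact Ideal.mul_mem_mul hq (Ideal.mem_map_of_mem _ ha)
  have hJ : ∀ (J : Ideal R), I ≤ J → (1 : S) ∈ J.map (algebraMap R S) → (1 : R) ∈ J := by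
    intro J hIJ h1
    suffices H : ∀ x ∈ J.map (algebraMap R S), ∃ j ∈ J, x - algebraMap R S j ∈ I.map (algebraMap R S) by
      obtain ⟨j, hj, hj'⟩ := H 1 h1
      have h0 : Ideal.quotientMap (I.map (algebraMap R S)) (algebraMap R S) Ideal.le_comap_map
          (Ideal.Quotient.mk I (1 - j)) = 0 := by
        rw [Ideal.quotientMap_mk, Ideal.Quotient.eq_zero_iff_mem, map_sub, map_one]; exact hj'
      rw [← map_zero (Ideal.quotientMap (I.map (algebraMap R S)) (algebraMap R S) Ideal.le_comap_map)] at h0
      have h2 := hIJ (Ideal.Quotient.eq_zero_iff_mem.1 (hbij.1 h0))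
      simpa using add_mem h2 hj
    intro x hx
    rw [Ideal.map] at hx
    induction hx using Submodule.span_induction with
    | mem x hx =>
      obtain ⟨a, ha, rfl⟩ := hx
      exact ⟨a, ha, by simp⟩
    | zero => exact ⟨0, zero_mem _, by simp⟩
    | add x y _ _ hx hy =>
      obtain ⟨a, ha, hxa⟩ := hx
      obtain ⟨b, hb, hyb⟩ := hy
      exact ⟨a + b, add_mem ha hb, by rw [map_add, add_sub_add_comm]; exact add_mem hxa hyb⟩
    | smul c x _ hx =>
      obtain ⟨a, ha, hxa⟩ := hx
      obtain ⟨q, hq⟩ := hbij.2 (Ideal.Quotient.mk _ c)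
      obtain ⟨r₁, rfl⟩ := Ideal.Quotient.mk_surjective q
      rw [Ideal.quotientMap_mk, Ideal.Quotient.mk_eq_mk_iff_sub_mem] at hq
      refine ⟨r₁ * a, Ideal.mul_mem_left _ _ ha, ?_⟩
      rw [smul_eq_mul, map_mul, show c * x - algebraMap R S r₁ * algebraMap R S a =
        c * (x - algebraMap R S a) - (algebraMap R S r₁ - c) * algebraMap R S a by ring]
      exact sub_mem (Ideal.mul_mem_left _ _ hxa) (Ideal.mul_mem_right _ _ hq)
  constructor
  · rw [injective_iff_map_eq_zero]
    have key : ∀ (n : ℕ) (m : M), (∀ a ∈ I ^ n, a • m = 0) → TensorProduct.mk R S M 1 m = 0 → m = 0 := by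
      intro n
      induction n with
      | zero => intro m h0 _; simpa using h0 1 (by simp)
      | succ n ih =>
        intro m h0 hm
        have hIm : ∀ a ∈ I, a • m = 0 := fun a ha => ih (a • m) (fun b hb => by
          rw [smul_smul]; exact h0 _ (by rw [pow_succ]; exact Ideal.mul_mem_mul hb ha))
          (by rw [map_smul, hm, smul_zero])
        let f : R →ₗ[R] M := LinearMap.toSpanSingleton R M m
        let g : (R ⧸ LinearMap.ker f) →ₗ[R] M := (LinearMap.ker f).liftQ f le_rfl
        have hg : Function.Injective g := LinearMap.ker_eq_bot.1 (Submodule.ker_liftQ_eq_bot _ _ _ le_rfl)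
        have h1 : (1 : S) ⊗ₜ[R] (Submodule.Quotient.mk 1 : R ⧸ LinearMap.ker f) = 0 :=
          Module.Flat.lTensor_preserves_injective_linearMap g hg (by
            rw [map_zero, LinearMap.lTensor_tmul]
            rw [show g (Submodule.Quotient.mk 1) = m from (Submodule.liftQ_apply _ _ _).trans (one_smul R m)]
            exact hm)
        let J : Ideal R := LinearMap.ker f
        have h2 : (1 : S ⧸ J.map (algebraMap R S)) = 0 := by
          apply (Algebra.TensorProduct.quotIdealMapEquivTensorQuot S J).injective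
          rw [map_one, map_zero]
          exact h1
        rw [← map_one (Ideal.Quotient.mk _), Ideal.Quotient.eq_zero_iff_mem] at h2
        simpa [J, f] using hJ J hIm h2
    intro m hm
    obtain ⟨n, hn⟩ := hM m
    exact key n m hn hm
  · intro z
    induction z using TensorProduct.induction_on with
    | zero => exact ⟨0, map_zero _⟩
    | add x y hx hy =>
      obtain ⟨a, rfl⟩ := hx
      obtain ⟨b, rfl⟩ := hy
      exact ⟨a + b, map_add _ _ _⟩
    | tmul s m =>
      obtain ⟨n, hn⟩ := hM m
      obtain ⟨r, hr⟩ := hred n s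
      refine ⟨r • m, ?_⟩
      have : ∀ x ∈ (I ^ n).map (algebraMap R S), x ⊗ₜ[R] m = 0 := by
        intro x hx
        rw [Ideal.map] at hx
        induction hx using Submodule.span_induction with
        | mem x hx =>
          obtain ⟨a, ha, rfl⟩ := hx
          rw [Algebra.algebraMap_eq_smul_one, TensorProduct.smul_tmul, hn a ha, TensorProduct.tmul_zero]
        | zero => exact TensorProduct.zero_tmul _ _
        | add x y _ _ hx hy => rw [TensorProduct.add_tmul, hx, hy, add_zero]
        | smul c x _ hx => rw [← TensorProduct.smul_tmul', hx, smul_zero]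
      show (1 : S) ⊗ₜ[R] (r • m) = s ⊗ₜ[R] m
      rw [← TensorProduct.smul_tmul, ← Algebra.algebraMap_eq_smul_one, ← sub_eq_zero, ← TensorProduct.sub_tmul]
      exact this _ (by rw [← neg_sub]; exact neg_mem hr)

end Groth.Agent.S2009
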