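import Groth.Statements.S2012
import Mathlib
-- import your own Groth.Agent.* helpers here

set_option autoImplicit false
universe u
open EtAlg

namespace Groth.Agent.S2012

/-- Let A be a ring and I an ideal contained in its Jacobson radical. Let B be an A-algebra which is
flat, integral and of finite presentation over A and such that A/I -> B/IB is bijective. Then A -> B
is bijective. -/
theorem result (A B : Type u) [CommRing A] [CommRing B] [Algebra A B]
    (I : Ideal A) (hI : I ≤ (⊥ : Ideal A).jacobson) [Module.Flat A B] [Algebra.IsIntegral A B] [Algebra.FinitePresentation A B]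
    (hq : Function.Bijective (Ideal.quotientMap (I.map (algebraMap A B)) (algebraMap A B) Ideal.le_comap_map)) :
    Function.Bijective (algebraMap A B) := by
  haveI : Algebra.FiniteType A B := inferInstance
  haveI : Module.Finite A B := Algebra.IsIntegral.finite
  haveI : Module.FinitePresentation A B := (Module.FinitePresentation.iff_finitePresentation_of_finite A B).2 inferInstance
  haveI : Module.Projective A B := Module.Flat.projective_of_finitePresentation
  have hsurj : Function.Surjective (algebraMap A B) := by
    have htop : (⊤ : Submodule A B) ≤ LinearMap.range (Algebra.linearMap A B) ⊔ I • ⊤ := by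
      rintro b -
      obtain ⟨a, ha⟩ := hq.2 (Ideal.Quotient.mk _ b)
      obtain ⟨a, rfl⟩ := Ideal.Quotient.mk_surjective a
      rw [Ideal.quotientMap_mk, eq_comm, Ideal.Quotient.eq] at ha
      refine Submodule.mem_sup.2 ⟨algebraMap A B a, ⟨a, rfl⟩, b - algebraMap A B a, ?_, add_sub_cancel _ _⟩
      rw [Ideal.smul_top_eq_map]
      exact ha
    have h := Submodule.le_of_le_smul_of_le_jacobson_bot Module.Finite.fg_top hI htop
    exact fun b => h (Submodule.mem_top (x := b))
  refine ⟨(injective_iff_map_eq_zero _).2 fun a ha => ?_, hsurj⟩
  obtain ⟨s, hs⟩ := Module.projective_lifting_property (Algebra.linearMap A B) LinearMap.id hsurj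
  let e : A := 1 - s 1
  have hek : ∀ k : A, algebraMap A B k = 0 → k = k * e := fun k hk => by
    have h : s (algebraMap A B k) = k * s 1 := by
      rw [Algebra.algebraMap_eq_smul_one, map_smul, smul_eq_mul]
    rw [hk, map_zero] at h
    simp [e, mul_sub, ← h]
  have he : algebraMap A B e = 0 := by
    have h := LinearMap.congr_fun hs 1
    simp only [LinearMap.comp_apply, Algebra.linearMap_apply, LinearMap.id_apply] at h
    simp [e, h]
  have heI : e ∈ I := Ideal.Quotient.eq_zero_iff_mem.1 (hq.1 (by
    rw [Ideal.quotientMap_mk, he, map_zero, map_zero]))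
  have hu : IsUnit (1 - e) := by
    simpa [sub_eq_add_neg, add_comm] using Ideal.mem_jacobson_bot.1 (hI heI) (-1)
  exact hu.mul_left_eq_zero.1 (by rw [mul_sub, mul_one, ← hek a ha, sub_self])

end Groth.Agent.S2012
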