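import Groth.Statements.S2014
import Mathlib

set_option autoImplicit false
universe u
open EtAlg

namespace Groth.Agent.S2014

/-- Let R be a Noetherian local ring of Krull dimension 1 and x an element of the maximal ideal
contained in no minimal prime of R. Then the number of minimal prime ideals of R is at most the
length of R/xR as an R-module. -/
theorem result (R : Type u) [CommRing R] [IsNoetherianRing R] [IsLocalRing R]
    (hdim : ringKrullDim R = 1) (x : R) (hx : x ∈ IsLocalRing.maximalIdeal R) (hmin : ∀ p ∈ minimalPrimes R, x ∉ p) :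
    (Set.ncard (minimalPrimes R) : ℕ∞) ≤ Module.length R (R ⧸ Ideal.span {x}) := by
  classical
  haveI : Nontrivial R := inferInstance
  have hfin : (minimalPrimes R).Finite := minimalPrimes.finite_of_isNoetherianRing R
  let p : ℕ → Ideal R := fun k => hfin.toFinset.toList.getD k ⊤
  let r := hfin.toFinset.toList.length
  have hr : r = (minimalPrimes R).ncard := by
    rw [Set.ncard_eq_toFinset_card _ hfin]; exact Finset.length_toList _
  have hp : ∀ k < r, p k ∈ minimalPrimes R := fun k hk => by
    have : hfin.toFinset.toList.getD k ⊤ = hfin.toFinset.toList[k] := List.getD_eq_getElem _ _ hk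
    show hfin.toFinset.toList.getD k ⊤ ∈ _
    rw [this]
    exact hfin.mem_toFinset.1 (Finset.mem_toList.1 (List.getElem_mem hk))
  have hpinj : ∀ i j, i < r → j < r → p i = p j → i = j := fun i j hi hj he => by
    simp only [p] at he
    rw [List.getD_eq_getElem _ _ hi, List.getD_eq_getElem _ _ hj] at he
    exact (Finset.nodup_toList _).getElem_inj_iff.1 he
  let Ik : ℕ → Ideal R := fun k => (Finset.range k).inf p
  let q : Ideal R →o Submodule R (R ⧸ Ideal.span {x}) :=
    ⟨fun J => Submodule.map (Ideal.span {x}).mkQ (J : Submodule R R), fun a b h => Submodule.map_mono h⟩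
  have hstep : ∀ k < r, q (Ik (k + 1)) < q (Ik k) := by
    intro k hk
    have hle : Ik (k + 1) ≤ Ik k := Finset.inf_mono (Finset.range_mono k.le_succ)
    refine lt_of_le_of_ne (q.mono hle) fun he => ?_
    have hsub : Ik k ≤ Ik (k + 1) ⊔ IsLocalRing.maximalIdeal R • Ik k := by
      intro a ha
      have ha' : (Ideal.span {x}).mkQ a ∈ q (Ik k) := Submodule.mem_map_of_mem ha
      rw [← he] at ha'
      obtain ⟨b, hb, hab⟩ := ha'
      obtain ⟨c, hc⟩ := Ideal.mem_span_singleton.1 ((Submodule.Quotient.eq _).1 hab.symm)
      have hxc : x * c ∈ Ik k := hc ▸ sub_mem ha (hle hb)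
      have hck : c ∈ Ik k := by
        simp only [Ik, Submodule.mem_finsetInf, Finset.mem_range] at hxc ⊢
        intro i hi
        exact ((Ideal.minimalPrimes_isPrime (hp i (hi.trans hk))).mem_or_mem (hxc i hi)).resolve_left
          (hmin _ (hp i (hi.trans hk)))
      rw [show a = b + x * c by rw [← hc]; ring]
      exact Submodule.add_mem_sup hb (by rw [smul_eq_mul]; exact Ideal.mul_mem_mul hx hck)
    have hle' : Ik k ≤ p k :=
      (Submodule.le_of_le_smul_of_le_jacobson_bot (IsNoetherian.noetherian (Ik k))
        (IsLocalRing.maximalIdeal_le_jacobson _) hsub).trans (Finset.inf_le (Finset.self_mem_range_succ k))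
    have hprime := Ideal.minimalPrimes_isPrime (hp k hk)
    obtain ⟨i, hi, hik⟩ := (hprime.inf_le').1 hle'
    have hi' := Finset.mem_range.1 hi
    have := hpinj i k (hi'.trans hk) hk (le_antisymm hik ((hp k hk).2 ⟨Ideal.minimalPrimes_isPrime (hp i (hi'.trans hk)), bot_le⟩ hik))
    omega
  let s : LTSeries (Submodule R (R ⧸ Ideal.span {x})) :=
    { length := r
      toFun := fun i => q (Ik (r - i))
      step := fun i => by
        have hi := i.2
        show q (Ik (r - i)) < q (Ik (r - (i + 1)))
        rw [show r - (i : ℕ) = (r - ((i : ℕ) + 1)) + 1 by omega]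
        exact hstep _ (by omega) }
  rw [← hr]
  have := Order.LTSeries.length_le_krullDim s
  rw [← Module.coe_length] at this
  exact_mod_cast this

end Groth.Agent.S2014
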