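import Groth.Statements.S2015
import Mathlib

set_option autoImplicit false
universe u
open EtAlg

namespace Groth.Agent.S2015

/-- Let R be a nonzero ring such that for all a, b in R either a divides b or b divides a. Then each
finitely presented R-module decomposes as a direct sum of finitely many cyclic modules R/fR. -/
theorem result (R : Type u) [CommRing R] [Nontrivial R] (h : ∀ a b : R, a ∣ b ∨ b ∣ a)
    (M : Type u) [AddCommGroup M] [Module R M] [Module.FinitePresentation R M] :
    ∃ (n : ℕ) (f : Fin n → R), Nonempty (M ≃ₗ[R] ((i : Fin n) → R ⧸ Ideal.span {f i})) := by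
  classical
  obtain ⟨n, K, e, hK⟩ := Module.FinitePresentation.exists_fin R M
  suffices key : ∀ (n : ℕ) (K : Submodule R (Fin n → R)), K.FG →
      ∃ (m : ℕ) (f : Fin m → R), Nonempty (((Fin n → R) ⧸ K) ≃ₗ[R] ((i : Fin m) → R ⧸ Ideal.span {f i})) by
    obtain ⟨m, f, ⟨g⟩⟩ := key n K hK
    exact ⟨m, f, ⟨e.trans g⟩⟩
  intro n
  induction n with
  | zero =>
    intro K _
    exact ⟨0, Fin.elim0, ⟨LinearEquiv.ofSubsingleton _ _⟩⟩
  | succ n ih =>
    intro K hK
    obtain ⟨S, hS⟩ := hK
    by_cases hS0 : S.Nonempty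
    swap
    · rw [Finset.not_nonempty_iff_eq_empty] at hS0
      subst hS0
      rw [Finset.coe_empty, Submodule.span_empty] at hS
      refine ⟨n + 1, fun _ => 0, ⟨(Submodule.quotEquivOfEqBot K hS.symm).trans (LinearEquiv.piCongrRight fun _ =>
        (Submodule.quotEquivOfEqBot (Ideal.span {(0 : R)}) (by simp)).symm)⟩⟩
    have hmin : ∀ T : Finset ((Fin (n + 1) → R) × Fin (n + 1)), T.Nonempty → ∃ t ∈ T, ∀ t' ∈ T, t.1 t.2 ∣ t'.1 t'.2 := by
      intro T hT
      induction hT using Finset.Nonempty.cons_induction with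
      | singleton a => exact ⟨a, by simp, by simp⟩
      | cons a s _ _ ihs =>
        obtain ⟨t, ht, hdiv⟩ := ihs
        rcases h (a.1 a.2) (t.1 t.2) with h1 | h1
        · refine ⟨a, by simp, fun t' ht' => ?_⟩
          rcases Finset.mem_cons.1 ht' with rfl | h2
          · exact dvd_rfl
          · exact h1.trans (hdiv t' h2)
        · refine ⟨t, by simp [ht], fun t' ht' => ?_⟩
          rcases Finset.mem_cons.1 ht' with rfl | h2
          · exact h1
          · exact hdiv t' h2
    obtain ⟨⟨r, i⟩, hri, hdiv⟩ := hmin (S ×ˢ Finset.univ) (hS0.product Finset.univ_nonempty)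
    have hrS : r ∈ S := (Finset.mem_product.1 hri).1
    set d := r i with hd
    have hall : ∀ s ∈ S, ∀ l, d ∣ s l := fun s hs l => hdiv (s, l) (Finset.mem_product.2 ⟨hs, Finset.mem_univ l⟩)
    choose w hw using fun l => hall r hrS l
    let w' : Fin (n + 1) → R := Function.update w i 1
    have hw' : r = d • w' := by
      funext l
      by_cases hl : l = i
      · subst hl; simp [w', hd]
      · simp [w', Function.update_of_ne hl, hw l]
    let T : (Fin (n + 1) → R) →ₗ[R] R × (Fin n → R) :=
      (LinearMap.proj i).prod (LinearMap.pi fun l => LinearMap.proj (i.succAbove l) - (w' (i.succAbove l)) • LinearMap.proj i)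
    have hT : ∀ x, T x = (x i, fun l => x (i.succAbove l) - w' (i.succAbove l) * x i) := fun x => rfl
    have hTinj : Function.Injective T := by
      intro x y hxy
      rw [hT, hT, Prod.mk.injEq] at hxy
      funext l
      rcases Fin.eq_self_or_eq_succAbove i l with rfl | ⟨l, rfl⟩
      · exact hxy.1
      · have := congrFun hxy.2 l
        simpa [hxy.1] using this
    have hTsurj : Function.Surjective T := fun y => ⟨i.insertNth y.1 (fun l => y.2 l + w' (i.succAbove l) * y.1), by
      rw [hT]; ext l <;> simp⟩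
    have hTr : T r = (d, 0) := by
      rw [hT, hd]; refine Prod.ext rfl (funext fun l => ?_)
      rw [hw']; simp [w', mul_comm]
    let K' : Submodule R (Fin n → R) := K.map ((LinearMap.snd R R _).comp T)
    obtain ⟨m, f, ⟨g⟩⟩ := ih K' (Submodule.FG.map _ ⟨S, hS⟩)
    let q : (Fin (n + 1) → R) →ₗ[R] (R ⧸ Ideal.span {d}) × ((Fin n → R) ⧸ K') :=
      ((Submodule.mkQ (Ideal.span {d})).prodMap K'.mkQ).comp T
    have hq : Function.Surjective q :=
      (Prod.map_surjective.2 ⟨Submodule.mkQ_surjective _, Submodule.mkQ_surjective _⟩).comp hTsurj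
    have hfst : ∀ x ∈ K, (T x).1 ∈ Ideal.span {d} := by
      intro x hx
      rw [← hS] at hx
      induction hx using Submodule.span_induction with
      | mem s hs => exact Ideal.mem_span_singleton.2 (hall s hs i)
      | zero => simp
      | add a b _ _ ha hb => rw [map_add]; exact add_mem ha hb
      | smul c a _ ha => rw [map_smul]; exact Ideal.mul_mem_left _ c ha
    have hker : K = LinearMap.ker q := by
      ext x
      simp only [q, LinearMap.mem_ker, LinearMap.comp_apply, LinearMap.prodMap_apply, Prod.mk_eq_zero, Submodule.mkQ_apply,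
        Submodule.Quotient.mk_eq_zero]
      refine ⟨fun hx => ⟨hfst x hx, ⟨x, hx, rfl⟩⟩, ?_⟩
      rintro ⟨h1, ⟨y, hy, hy2⟩⟩
      obtain ⟨a, ha⟩ := Ideal.mem_span_singleton.1 h1
      obtain ⟨b, hb⟩ := Ideal.mem_span_singleton.1 (hfst y hy)
      have hx : x = y + (a - b) • r := hTinj (by
        rw [map_add, map_smul, hTr]
        refine Prod.ext ?_ ?_
        · simp only [Prod.fst_add, Prod.smul_fst, smul_eq_mul, ha, hb]; ring
        · simp only [Prod.snd_add, Prod.smul_snd, smul_zero, add_zero]; exact hy2.symm)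
      rw [hx]
      exact add_mem hy (K.smul_mem _ (hS ▸ Submodule.subset_span hrS))
    exact ⟨m + 1, Fin.cons d f, ⟨((Submodule.quotEquivOfEq _ _ hker).trans (q.quotKerEquivOfSurjective hq)).trans
      (((LinearEquiv.refl R _).prodCongr g).trans
        (Fin.consLinearEquiv R (fun l : Fin (m + 1) => R ⧸ Ideal.span {(Fin.cons d f : Fin (m + 1) → R) l})))⟩⟩

end Groth.Agent.S2015
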