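import Groth.Statements.S2016
import Mathlib
import Groth.Agent.S2015

set_option autoImplicit false
universe u
open EtAlg

namespace Groth.Agent.S2016

/-- Let R be a ring such that for every maximal ideal m and all a, b in R_m, either a divides b or b
divides a in R_m. Then each finitely presented R-module is a direct summand of a direct sum of
finitely many cyclic modules R/fR. -/
theorem result (R : Type u) [CommRing R]
    (h : ∀ (m : Ideal R) [m.IsMaximal], ∀ a b : Localization.AtPrime m, a ∣ b ∨ b ∣ a)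
    (M : Type u) [AddCommGroup M] [Module R M] [Module.FinitePresentation R M] :
    ∃ (n : ℕ) (f : Fin n → R) (N : Type u) (_ : AddCommGroup N) (_ : Module R N),
      Nonempty ((M × N) ≃ₗ[R] ((i : Fin n) → R ⧸ Ideal.span {f i})) := by
  classical
  have key : ∀ (m : Ideal R) [m.IsMaximal], ∃ (g : R) (_ : g ∉ m) (k : ℕ) (f : Fin k → R)
      (φ : ((i : Fin k) → R ⧸ Ideal.span {f i}) →ₗ[R] M) (ψ : M →ₗ[R] ((i : Fin k) → R ⧸ Ideal.span {f i})),
      φ ∘ₗ ψ = g • LinearMap.id := by
    intro m _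
    let Rm := Localization.AtPrime m
    let Mm := LocalizedModule m.primeCompl M
    haveI : Module.FinitePresentation Rm Mm := inferInstance
    obtain ⟨k, F, ⟨e⟩⟩ := Groth.Agent.S2015.result Rm (h m) Mm
    choose f s hfs using fun i => IsLocalization.exists_mk'_eq m.primeCompl (F i)
    have hspan : ∀ i, Ideal.span {F i} = (Ideal.span {f i}).map (algebraMap R Rm) := fun i => by
      rw [Ideal.map_span, Set.image_singleton, ← IsLocalization.mk'_spec Rm (f i) (s i), hfs i,
        Ideal.span_singleton_mul_right_unit (IsLocalization.map_units Rm (s i))]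
    let Q := (i : Fin k) → R ⧸ Ideal.span {f i}
    let Qm := (i : Fin k) → Rm ⧸ Ideal.span {F i}
    let θ : ∀ i, (R ⧸ Ideal.span {f i}) →ₗ[R] (Rm ⧸ Ideal.span {F i}) := fun i =>
      (Submodule.mapQ (Ideal.span {f i}) ((Ideal.span {F i}).restrictScalars R) (Algebra.linearMap R Rm)
        (fun x hx => by
          show algebraMap R Rm x ∈ Ideal.span {F i}
          rw [hspan i]; exact Ideal.mem_map_of_mem _ hx))
    have hθ : ∀ i x, θ i (Ideal.Quotient.mk _ x) = Ideal.Quotient.mk _ (algebraMap R Rm x) := fun i x => rfl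
    let g0 : Q →ₗ[R] Qm := LinearMap.pi fun i => (θ i).comp (LinearMap.proj i)
    haveI : ∀ i, IsLocalizedModule m.primeCompl (θ i) := fun i => by
      refine ⟨fun t => ?_, fun y => ?_, fun {x y} hxy => ?_⟩
      · rw [Module.End.isUnit_iff]
        have hu := IsLocalization.map_units Rm t
        have hsm : ∀ z : Rm ⧸ Ideal.span {F i}, (algebraMap R (Module.End R (Rm ⧸ Ideal.span {F i})) (t : R)) z =
            algebraMap R Rm (t : R) • z := fun z => by
          rw [Module.algebraMap_end_apply, IsScalarTower.algebraMap_smul]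
        constructor
        · intro a b hab
          rw [hsm, hsm] at hab
          exact hu.smul_left_cancel.1 hab
        · intro z
          exact ⟨(↑hu.unit⁻¹ : Rm) • z, by rw [hsm, smul_smul, IsUnit.mul_val_inv, one_smul]⟩
      · obtain ⟨y, rfl⟩ := Ideal.Quotient.mk_surjective y
        obtain ⟨⟨a, t⟩, hat⟩ := IsLocalization.surj m.primeCompl y
        refine ⟨(Ideal.Quotient.mk _ a, t), ?_⟩
        rw [hθ, ← hat]
        show (t : R) • Ideal.Quotient.mk (Ideal.span {F i}) y = _
        rw [← IsScalarTower.algebraMap_smul Rm, mul_comm]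
        rfl
      · obtain ⟨x, rfl⟩ := Ideal.Quotient.mk_surjective x
        obtain ⟨y, rfl⟩ := Ideal.Quotient.mk_surjective y
        rw [hθ, hθ, Ideal.Quotient.eq, ← map_sub, hspan i, IsLocalization.algebraMap_mem_map_algebraMap_iff m.primeCompl] at hxy
        obtain ⟨t, ht, htm⟩ := hxy
        refine ⟨⟨t, ht⟩, ?_⟩
        show t • Ideal.Quotient.mk _ x = t • Ideal.Quotient.mk _ y
        rw [Algebra.smul_def, Algebra.smul_def, Ideal.Quotient.algebraMap_eq, ← map_mul, ← map_mul, Ideal.Quotient.eq, ← mul_sub]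
        exact htm
    haveI : IsLocalizedModule m.primeCompl g0 := IsLocalizedModule.pi m.primeCompl θ
    haveI : ∀ i, Module.FinitePresentation R (R ⧸ Ideal.span {f i}) := fun i =>
      Module.finitePresentation_of_surjective (Submodule.mkQ (Ideal.span {f i})) (Submodule.mkQ_surjective _)
        (by rw [Submodule.ker_mkQ]; exact Submodule.fg_span_singleton _)
    haveI : Module.FinitePresentation R Q := inferInstance
    let gM := LocalizedModule.mkLinearMap m.primeCompl M
    let eR : Mm ≃ₗ[R] Qm := e.restrictScalars R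
    obtain ⟨ψ, s1, hψ⟩ := Module.FinitePresentation.exists_lift_of_isLocalizedModule m.primeCompl g0 (eR.toLinearMap ∘ₗ gM)
    obtain ⟨φ, s2, hφ⟩ := Module.FinitePresentation.exists_lift_of_isLocalizedModule m.primeCompl gM (eR.symm.toLinearMap ∘ₗ g0)
    obtain ⟨S, hS⟩ := (inferInstance : Module.Finite R M).fg_top
    have hker : ∀ x : M, gM (φ (ψ x) - ((s1 : R) * s2) • x) = 0 := fun x => by
      have h1 : gM (φ (ψ x)) = (s2 : R) • eR.symm (g0 (ψ x)) := LinearMap.congr_fun hφ (ψ x)
      have h2 : g0 (ψ x) = (s1 : R) • eR (gM x) := LinearMap.congr_fun hψ x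
      rw [map_sub, map_smul, h1, h2, map_smul, LinearEquiv.symm_apply_apply, smul_smul, mul_comm (s2 : R), sub_self]
    choose u hu using fun x : M => (IsLocalizedModule.eq_zero_iff m.primeCompl gM).1 (hker x)
    let U : R := ∏ x ∈ S, (u x : R)
    refine ⟨U * ((s1 : R) * s2), ?_, k, f, U • φ, ψ, ?_⟩
    · exact m.primeCompl.mul_mem (Submonoid.prod_mem _ fun x _ => (u x).2) (m.primeCompl.mul_mem s1.2 s2.2)
    · refine LinearMap.ext_on (s := (S : Set M)) hS fun x hx => ?_
      obtain ⟨c, hc⟩ : (u x : R) ∣ U := Finset.dvd_prod_of_mem _ hx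
      have h3 := hu x
      rw [Submonoid.smul_def, smul_sub, sub_eq_zero] at h3
      show U • φ (ψ x) = (U * ((s1 : R) * s2)) • x
      rw [mul_smul U, hc, mul_comm, mul_smul, mul_smul c, h3]
  choose g hg k f φ ψ hφψ using key
  have htop : Ideal.span (Set.range fun m : {m : Ideal R // m.IsMaximal} => @g m.1 m.2) = ⊤ := by
    by_contra hne
    obtain ⟨m, hm, hle⟩ := Ideal.exists_le_maximal _ hne
    exact @hg m hm (hle (Ideal.subset_span ⟨⟨m, hm⟩, rfl⟩))
  obtain ⟨c, hc⟩ := (Finsupp.mem_span_range_iff_exists_finsupp).1 ((Ideal.eq_top_iff_one _).1 htop)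
  let T := c.support
  let ι := Σ m : T, Fin (@k m.1.1 m.1.2)
  let e := (Fintype.equivFin ι).symm
  let F : ι → R := fun p => @f p.1.1.1 p.1.1.2 p.2
  let Ψ : M →ₗ[R] ((p : ι) → R ⧸ Ideal.span {F p}) := LinearMap.pi fun p =>
    (LinearMap.proj (φ := fun i => R ⧸ Ideal.span {@f p.1.1.1 p.1.1.2 i}) p.2).comp (@ψ p.1.1.1 p.1.1.2)
  let Φ : ((p : ι) → R ⧸ Ideal.span {F p}) →ₗ[R] M := ∑ m : T, c m.1 •
    ((@φ m.1.1 m.1.2).comp (LinearMap.pi fun i => LinearMap.proj (φ := fun p : ι => R ⧸ Ideal.span {F p}) (⟨m, i⟩ : ι)))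
  have hΦ : ∀ x, Φ (Ψ x) = x := fun x => by
    have h1 : ∀ m : T, (c m.1 • ((@φ m.1.1 m.1.2).comp (LinearMap.pi fun i =>
        LinearMap.proj (φ := fun p : ι => R ⧸ Ideal.span {F p}) (⟨m, i⟩ : ι)))) (Ψ x) = (c m.1 • @g m.1.1 m.1.2) • x := fun m => by
      rw [LinearMap.smul_apply, smul_eq_mul, mul_smul]
      exact congrArg (c m.1 • ·) (LinearMap.congr_fun (@hφψ m.1.1 m.1.2) x)
    simp only [Φ, LinearMap.sum_apply]
    rw [Finset.sum_congr rfl fun m _ => h1 m, ← Finset.sum_smul]
    rw [Finset.univ_eq_attach, Finset.sum_attach T (fun m => c m • @g m.1 m.2)]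
    rw [Finsupp.sum] at hc
    rw [hc, one_smul]
  refine ⟨Fintype.card ι, fun i => F (e i), LinearMap.ker Φ, inferInstance, inferInstance, ⟨?_⟩⟩
  let E : (M × LinearMap.ker Φ) ≃ₗ[R] ((p : ι) → R ⧸ Ideal.span {F p}) :=
    { toFun := fun q => Ψ q.1 + (q.2 : (p : ι) → R ⧸ Ideal.span {F p})
      map_add' := fun a b => by simp only [Prod.fst_add, Prod.snd_add, map_add, Submodule.coe_add]; abel
      map_smul' := fun r a => by simp [smul_add]
      invFun := fun y => (Φ y, ⟨y - Ψ (Φ y), by rw [LinearMap.mem_ker, map_sub, hΦ, sub_self]⟩)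
      left_inv := fun q => by
        have h2 : Φ (q.2 : (p : ι) → R ⧸ Ideal.span {F p}) = 0 := q.2.2
        refine Prod.ext ?_ (Subtype.ext ?_)
        · simp [hΦ, h2]
        · simp [hΦ, h2]
      right_inv := fun y => by simp }
  exact E.trans (LinearEquiv.piCongrLeft' R (fun p => R ⧸ Ideal.span {F p}) e.symm)

end Groth.Agent.S2016
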