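import Groth.Statements.S2017
import Mathlib

set_option autoImplicit false
universe u
open EtAlg

namespace Groth.Agent.S2017

/-- Let R be a Noetherian ring, A, B, C R-algebras of finite type, f : A -> B a surjective R-algebra map
and g : C -> B an R-algebra map making B a finite C-module. Then the fibre product A ×_B C (the
equalizer of f ∘ pr₁ and g ∘ pr₂ in A × C) is an R-algebra of finite type. -/
theorem result (R A B C : Type u) [CommRing R] [IsNoetherianRing R] [CommRing A] [CommRing B]
    [CommRing C] [Algebra R A] [Algebra R B] [Algebra R C] [Algebra.FiniteType R A] [Algebra.FiniteType R B]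
    [Algebra.FiniteType R C] (f : A →ₐ[R] B) (hf : Function.Surjective f) (g : C →ₐ[R] B)
    (hg : (g.toRingHom).Finite) :
    Algebra.FiniteType R ↥(AlgHom.equalizer (f.comp (AlgHom.fst R A C)) (g.comp (AlgHom.snd R A C))) := by
  set P := AlgHom.equalizer (f.comp (AlgHom.fst R A C)) (g.comp (AlgHom.snd R A C)) with hP
  have hfin : Module.Finite P (A × C) := by
    classical
    obtain ⟨T, hT⟩ : ∃ T : Finset B, ∀ b : B, ∃ c : B → C, b = ∑ t ∈ T, g (c t) * t := by
      let : Algebra C B := g.toRingHom.toAlgebra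
      have hB : Module.Finite C B := hg
      obtain ⟨T, hT⟩ := hB.fg_top
      refine ⟨T, fun b => ?_⟩
      obtain ⟨c, -, hc⟩ := Submodule.mem_span_finset.1 (hT ▸ Submodule.mem_top : b ∈ Submodule.span C (T : Set B))
      exact ⟨c, hc.symm.trans (Finset.sum_congr rfl fun t _ => Algebra.smul_def _ _)⟩
    choose la hla using hf
    let S : Finset (A × C) := T.image (fun t => (la t, 0)) ∪ {(1, 0), (0, 1)}
    refine ⟨⟨S, eq_top_iff.2 fun x _ => ?_⟩⟩
    have hs : ∀ {y}, y ∈ S → ∀ q : P, (q : A × C) * y ∈ Submodule.span P (S : Set (A × C)) := fun {y} hy q =>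
      Submodule.smul_mem _ q (Submodule.subset_span hy)
    obtain ⟨c, hc⟩ := hT (f x.1)
    let q : B → P := fun t => ⟨(la (g (c t)), c t), hla _⟩
    let q0 : P := ⟨(x.1 - ∑ t ∈ T, la (g (c t)) * la t, 0), by
      show f (x.1 - _) = g 0
      rw [map_sub, map_sum, map_zero, sub_eq_zero]
      conv_lhs => rw [hc]
      exact Finset.sum_congr rfl fun t _ => by rw [map_mul, hla, hla]⟩
    let q1 : P := ⟨(la (g x.2), x.2), hla _⟩
    have e : x = (q0 : A × C) * (1, 0) + (q1 : A × C) * (0, 1) + ∑ t ∈ T, (q t : A × C) * (la t, 0) := by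
      refine Prod.ext ?_ ?_
      · simp [q0, q1, q, Prod.fst_sum]
      · simp [q0, q1, q, Prod.snd_sum]
    rw [e]
    refine Submodule.add_mem _ (Submodule.add_mem _ (hs ?_ q0) (hs ?_ q1))
      (Submodule.sum_mem _ fun t ht => hs ?_ (q t))
    · simp [S]
    · simp [S]
    · exact Finset.mem_union_left _ (Finset.mem_image_of_mem _ ht)
  refine ⟨fg_of_fg_of_fg R P (A × C) (inferInstance : Algebra.FiniteType R (A × C)).out hfin.fg_top ?_⟩
  exact Subtype.val_injective

end Groth.Agent.S2017
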