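import Groth.Statements.S2018
import Mathlib

set_option autoImplicit false
universe u
open EtAlg

namespace Groth.Agent.S2018

/-- Let g : A' -> A be a surjective ring map and f : B -> A an integral ring map. Then the projection
from the fibre product B ×_A A' (the equalizer of f ∘ pr₁ and g ∘ pr₂ in B × A') to A' is integral. -/
theorem result (A A' B : Type u) [CommRing A] [CommRing A'] [CommRing B] (g : A' →+* A)
    (hg : Function.Surjective g) (f : B →+* A) (hf : f.IsIntegral) :
    ((RingHom.snd B A').comp ((f.comp (RingHom.fst B A')).eqLocus (g.comp (RingHom.snd B A'))).subtype).IsIntegral := by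
  intro x
  obtain ⟨p, hp, hpx⟩ := hf (g x)
  set P := (f.comp (RingHom.fst B A')).eqLocus (g.comp (RingHom.snd B A')) with hP
  let π : P →+* B := (RingHom.fst B A').comp P.subtype
  have hπ : Function.Surjective π := fun b ↦ by
    obtain ⟨a, ha⟩ := hg (f b)
    exact ⟨⟨(b, a), ha.symm⟩, rfl⟩
  rcases subsingleton_or_nontrivial B with hB | hB
  · have h1 : (1 : A) = 0 := by rw [← map_one f, Subsingleton.elim (1 : B) 0, map_zero]
    refine ⟨Polynomial.X - Polynomial.C ⟨(0, x), ?_⟩, Polynomial.monic_X_sub_C _, by simp⟩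
    show f 0 = g x
    rw [map_zero, ← mul_one (g x), h1, mul_zero]
  · obtain ⟨q, hqp, hqd, hqm⟩ := Polynomial.lifts_and_natDegree_eq_and_monic
      (f := π) (p := p * Polynomial.X) ((Polynomial.mem_lifts _).2 (Polynomial.map_surjective π hπ _))
      (hp.mul Polynomial.monic_X)
    have hk : g (Polynomial.eval₂ ((RingHom.snd B A').comp P.subtype) x q) = 0 := by
      rw [Polynomial.hom_eval₂]
      have : g.comp ((RingHom.snd B A').comp P.subtype) = f.comp π :=
        RingHom.ext fun z ↦ z.2.symm
      rw [this, ← Polynomial.eval₂_map, hqp, Polynomial.eval₂_mul, hpx, zero_mul]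
    refine ⟨q - Polynomial.C ⟨(0, _), (map_zero f).trans hk.symm⟩, ?_, ?_⟩
    · refine hqm.sub_of_left (lt_of_le_of_lt Polynomial.degree_C_le ?_)
      rw [Polynomial.degree_eq_natDegree hqm.ne_zero, hqd,
        hp.natDegree_mul Polynomial.monic_X, Polynomial.natDegree_X]
      exact_mod_cast Nat.succ_pos _
    · simp

end Groth.Agent.S2018
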