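import Groth.Statements.S2033
import Mathlib
import Groth.Agent.Desing.Delocalize
-- import your own Groth.Agent.* helpers here

set_option autoImplicit false
universe u
open Smoothing

namespace Groth.Agent.S2033

open TensorProduct in
/-- Let `R` be Noetherian, `A → Λ` an `R`-algebra map with `A` finitely presented, `𝔮 ⊆ Λ` a prime
minimal over the radical of the extended singular ideal of `A`, and `𝔭` its contraction to `R`. If
the localized problem `R_𝔭 → R_𝔭 ⊗ A → Λ_𝔮` can be resolved at `𝔮Λ_𝔮`, then `A → Λ` factors through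
a finitely presented `R`-algebra `C` whose singular ideal over `R` does not extend into `𝔮`. -/
theorem result {R A Λ Rₚ Λq : Type u} [CommRing R] [IsNoetherianRing R] [CommRing A]
    [Algebra R A] [Algebra.FinitePresentation R A] [CommRing Λ] [Algebra R Λ] (φ : A →ₐ[R] Λ)
    (𝔮 : Ideal Λ) [𝔮.IsPrime] (hmin : 𝔮 ∈ (Smoothing.singRad R φ).minimalPrimes)
    [CommRing Rₚ] [Algebra R Rₚ] [IsLocalization.AtPrime Rₚ (𝔮.comap (algebraMap R Λ))]
    [CommRing Λq] [Algebra Λ Λq] [IsLocalization.AtPrime Λq 𝔮] [Algebra R Λq] [IsScalarTower R Λ Λq]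
    [Algebra Rₚ Λq] [IsScalarTower R Rₚ Λq]
    (hres : Smoothing.Resolvable Rₚ
      (Algebra.TensorProduct.lift (Algebra.ofId Rₚ Λq) ((IsScalarTower.toAlgHom R Λ Λq).comp φ)
        (fun _ _ => Commute.all _ _) : Rₚ ⊗[R] A →ₐ[Rₚ] Λq) (𝔮.map (algebraMap Λ Λq))) :
    ∃ (C : Type u) (_ : CommRing C) (_ : Algebra R C), Algebra.FinitePresentation R C ∧
      ∃ (g : A →ₐ[R] C) (h : C →ₐ[R] Λ), h.comp g = φ ∧
        ¬ (Smoothing.singularIdeal R C).map h ≤ 𝔮 := by
  classical
  haveI : IsLocalRing Λq := IsLocalization.AtPrime.isLocalRing Λq 𝔮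
  obtain ⟨B, _, _, hBfp, g, h, hgh, -, hnle⟩ := hres
  have hnle' : ¬ (Smoothing.singularIdeal Rₚ B).map h ≤ 𝔮.map (algebraMap Λ Λq) := by
    haveI hp : (𝔮.map (algebraMap Λ Λq)).IsPrime := by
      rw [IsLocalization.AtPrime.map_eq_maximalIdeal]
      exact (IsLocalRing.maximalIdeal.isMaximal _).isPrime
    exact fun hle => hnle (hp.radical_le_iff.mpr hle)
  rw [Ideal.map_le_iff_le_comap] at hnle'
  obtain ⟨b, hb, hbq⟩ := SetLike.not_le_iff_exists.mp hnle'
  have hu : IsUnit (h b) := by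
    by_contra hnu
    refine hbq ?_
    rw [Ideal.mem_comap, IsLocalization.AtPrime.map_eq_maximalIdeal]
    exact (IsLocalRing.mem_maximalIdeal _).mpr hnu
  haveI := hBfp
  haveI : Algebra.Smooth Rₚ (Localization.Away b) :=
    Algebra.basicOpen_subset_smoothLocus_iff_smooth.mp (Groth.Agent.Desing.basicOpen_subset_of_mem_singularIdeal hb)
  letI : Algebra R B := ((algebraMap Rₚ B).comp (algebraMap R Rₚ)).toAlgebra
  haveI : IsScalarTower R Rₚ B := IsScalarTower.of_algebraMap_eq' rfl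
  let h' : Localization.Away b →ₐ[Rₚ] Λq :=
    IsLocalization.liftAlgHom (M := Submonoid.powers b) (f := h) (by
      rintro ⟨_, k, rfl⟩
      rw [map_pow]
      exact hu.pow k)
  obtain ⟨C, _, _, hC, α, β, hβα, hsing⟩ := Groth.Agent.Desing.exists_spread (Rₚ := Rₚ) φ 𝔮
    (((IsScalarTower.toAlgHom R B (Localization.Away b))).comp
      ((g.restrictScalars R).comp (Algebra.TensorProduct.includeRight : A →ₐ[R] Rₚ ⊗[R] A)))
    (h'.restrictScalars R) (fun a => by
      change h' (algebraMap B _ (g ((1 : Rₚ) ⊗ₜ[R] a))) = _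
      simp only [h', IsLocalization.liftAlgHom_apply, IsLocalization.lift_eq]
      change (h.comp g) ((1 : Rₚ) ⊗ₜ[R] a) = _
      rw [hgh, Algebra.TensorProduct.lift_tmul, map_one, one_mul]
      rfl)
  exact ⟨C, inferInstance, inferInstance, hC, α, β, hβα, hsing⟩

end Groth.Agent.S2033
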