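import Groth.Statements.S2034
import Mathlib
import Groth.Agent.Desing.Delocalize
import Groth.Agent.S2033
-- import your own Groth.Agent.* helpers here

set_option autoImplicit false
universe u
open Smoothing

namespace Groth.Agent.S2034

open TensorProduct in
/-- Let `R` be a Noetherian ring, `A` a finitely presented `R`-algebra, `R → A → Λ` ring maps and `𝔮 ⊆
Λ` a prime minimal over the radical of the extended singular ideal of `R → A`; let `𝔭` be the prime
of `R` under `𝔮` and suppose the localized problem `R_𝔭 → R_𝔭 ⊗_R A → Λ_𝔮 ⊇ 𝔮Λ_𝔮` can be resolved.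
If moreover `Λ_𝔮` has Krull dimension zero, then the problem `R → A → Λ ⊇ 𝔮` itself can be resolved. -/
theorem result {R A Λ Rₚ Λq : Type u} [CommRing R] [IsNoetherianRing R] [CommRing A]
    [Algebra R A] [Algebra.FinitePresentation R A] [CommRing Λ] [Algebra R Λ] (φ : A →ₐ[R] Λ)
    (𝔮 : Ideal Λ) [𝔮.IsPrime] (hmin : 𝔮 ∈ (Smoothing.singRad R φ).minimalPrimes)
    [CommRing Rₚ] [Algebra R Rₚ] [IsLocalization.AtPrime Rₚ (𝔮.comap (algebraMap R Λ))]
    [CommRing Λq] [Algebra Λ Λq] [IsLocalization.AtPrime Λq 𝔮] [Algebra R Λq] [IsScalarTower R Λ Λq]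
    [Algebra Rₚ Λq] [IsScalarTower R Rₚ Λq] (hdim : ringKrullDim Λq = 0)
    (hres : Smoothing.Resolvable Rₚ
      (Algebra.TensorProduct.lift (Algebra.ofId Rₚ Λq) ((IsScalarTower.toAlgHom R Λ Λq).comp φ)
        (fun _ _ => Commute.all _ _) : Rₚ ⊗[R] A →ₐ[Rₚ] Λq) (𝔮.map (algebraMap Λ Λq))) :
    Smoothing.Resolvable R φ 𝔮 := by
  classical
  obtain ⟨C, _, _, hCfp, g, h, hgh, hnle⟩ := Groth.Agent.S2033.result φ 𝔮 hmin hres
  haveI := hCfp
  rw [Ideal.map_le_iff_le_comap] at hnle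
  obtain ⟨c, hc, hcq⟩ := SetLike.not_le_iff_exists.mp hnle
  haveI : IsNoetherianRing A := Algebra.FiniteType.isNoetherianRing R A
  obtain ⟨r, a, ha⟩ := Submodule.fg_iff_exists_fin_generating_family.mp
    (IsNoetherian.noetherian (Smoothing.singularIdeal R A))
  have haS : ∀ i, a i ∈ Smoothing.singularIdeal R A := fun i => ha ▸ Submodule.subset_span ⟨i, rfl⟩
  have haq : ∀ i, φ (a i) ∈ 𝔮 := fun i =>
    hmin.1.2 (Ideal.le_radical (Ideal.mem_map_of_mem _ (haS i)))
  haveI : IsLocalRing Λq := IsLocalization.AtPrime.isLocalRing Λq 𝔮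
  haveI : Ring.KrullDimLE 0 Λq := Ring.krullDimLE_iff.mpr (le_of_eq hdim)
  have hnil : ∀ i, ∃ (m : ℕ) (s : 𝔮.primeCompl), (s : Λ) * φ (a i) ^ m = 0 := fun i => by
    have h1 : algebraMap Λ Λq (φ (a i)) ∈ IsLocalRing.maximalIdeal Λq := by
      rw [← IsLocalization.AtPrime.map_eq_maximalIdeal 𝔮 Λq]
      exact Ideal.mem_map_of_mem _ (haq i)
    rw [← Ring.KrullDimLE.nilradical_eq_maximalIdeal, mem_nilradical] at h1
    obtain ⟨m, hm⟩ := h1
    rw [← map_pow] at hm
    obtain ⟨s, hs⟩ := (IsLocalization.map_eq_zero_iff 𝔮.primeCompl Λq _).mp hm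
    exact ⟨m, s, hs⟩
  choose m s hs using hnil
  have hN : ∀ i, (∏ j, (s j : Λ)) * φ (a i) ^ (Finset.univ.sup m) = 0 := fun i => by
    obtain ⟨d, hd⟩ := Nat.exists_eq_add_of_le (Finset.le_sup (f := m) (Finset.mem_univ i))
    rw [← Finset.mul_prod_erase _ _ (Finset.mem_univ i), hd, pow_add]
    linear_combination ((∏ j ∈ Finset.univ.erase i, (s j : Λ)) * φ (a i) ^ d) * hs i
  obtain ⟨B, _, _, hBfp, α, β, hβα, hrad, hmem⟩ :=
    Groth.Agent.Desing.exists_glue φ a haS g h hgh c hc (∏ j, (s j : Λ)) (Finset.univ.sup m) hN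
  refine ⟨B, inferInstance, inferInstance, hBfp, α, β, hβα, ?_, fun hle => ?_⟩
  · refine (Ideal.IsRadical.radical_le_iff (Ideal.radical_isRadical _)).mpr (Ideal.map_le_iff_le_comap.mpr ?_)
    rw [← ha]
    refine Submodule.span_le.mpr ?_
    rintro _ ⟨i, rfl⟩
    exact hrad i
  · rcases Ideal.IsPrime.mem_or_mem ‹_› (hle (Ideal.le_radical hmem)) with h1 | h1
    · exact Submonoid.prod_mem 𝔮.primeCompl (fun j _ => (s j).2) h1
    · exact hcq h1

end Groth.Agent.S2034
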