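import Groth.Statements.S2040
import Groth.Agent.S2487
import Groth.Agent.S4537
import Groth.Agent.EGA41FS.FlatFibreAdic
import Mathlib

set_option autoImplicit false
universe u
open CAlg TensorProduct

namespace Groth.Agent.S2040

/-- For a complete Noetherian local ring `A` with residue field `k`, and a complete Noetherian local
`k`-algebra `B` which is formally smooth over `k` for the adic topology of its maximal ideal, there
is a Noetherian complete local ring `C` with a local homomorphism `A → C`, formally smooth for the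
adic topology of the maximal ideal of `C`, whose special fibre `C ⊗ k` is isomorphic to `B` over
`k`. -/
theorem result {A B : Type u} [CommRing A] [IsLocalRing A]
    [IsNoetherianRing A] [IsAdicComplete (IsLocalRing.maximalIdeal A) A] [CommRing B] [IsLocalRing B]
    [IsNoetherianRing B] [IsAdicComplete (IsLocalRing.maximalIdeal B) B]
    [Algebra (IsLocalRing.maximalIdeal A).ResidueField B]
    (hB : CAlgX.IsAdicFormallySmooth (IsLocalRing.maximalIdeal A).ResidueField B (IsLocalRing.maximalIdeal B)) :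
    ∃ (C : Type u) (_ : CommRing C) (_ : IsLocalRing C) (_ : Algebra A C),
      IsNoetherianRing C ∧ IsAdicComplete (IsLocalRing.maximalIdeal C) C ∧ IsLocalHom (algebraMap A C) ∧
        CAlgX.IsAdicFormallySmooth A C (IsLocalRing.maximalIdeal C) ∧
        Nonempty ((IsLocalRing.maximalIdeal A).Fiber C ≃ₐ[(IsLocalRing.maximalIdeal A).ResidueField] B) := by
  classical
  let 𝔪 := IsLocalRing.maximalIdeal A
  let K := 𝔪.ResidueField
  let eK : (A ⧸ 𝔪) ≃ₐ[A] K :=
    AlgEquiv.ofBijective (IsScalarTower.toAlgHom A (A ⧸ 𝔪) K) (Ideal.bijective_algebraMap_quotient_residueField 𝔪)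
  haveI : Nontrivial (A ⧸ 𝔪) := Ideal.Quotient.nontrivial_iff.2 (IsLocalRing.maximalIdeal.isMaximal A).ne_top
  haveI : IsLocalRing (A ⧸ 𝔪) := IsLocalRing.of_surjective' (Ideal.Quotient.mk 𝔪) Ideal.Quotient.mk_surjective
  have hbot : IsLocalRing.maximalIdeal (A ⧸ 𝔪) = ⊥ := IsLocalRing.isField_iff_maximalIdeal_eq.1
    ((Ideal.Quotient.maximal_ideal_iff_isField_quotient 𝔪).1 inferInstance)
  letI : Algebra (A ⧸ 𝔪) B := ((algebraMap K B).comp eK.toRingEquiv.toRingHom).toAlgebra
  haveI : IsLocalHom (algebraMap (A ⧸ 𝔪) B) := ⟨fun a ha => by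
    by_contra h
    have h0 : a = 0 := by
      have : a ∈ IsLocalRing.maximalIdeal (A ⧸ 𝔪) := h
      rwa [hbot, Submodule.mem_bot] at this
    rw [h0, map_zero] at ha
    exact not_isUnit_zero ha⟩
  have hfs : EGA41.IsFormallySmoothAdic (A ⧸ 𝔪) (IsLocalRing.maximalIdeal (A ⧸ 𝔪)) B (IsLocalRing.maximalIdeal B) := by
    rw [hbot]
    intro T _ _ J hJ _ u hu
    letI : Algebra K T := ((algebraMap (A ⧸ 𝔪) T).comp eK.symm.toRingEquiv.toRingHom).toAlgebra
    let u' : B →ₐ[K] T ⧸ J :=
      { u.toRingHom with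
        commutes' := fun c => by
          have h1 := u.commutes (eK.symm c)
          rw [show algebraMap (A ⧸ 𝔪) B (eK.symm c) = algebraMap K B (eK (eK.symm c)) from rfl,
            AlgEquiv.apply_symm_apply] at h1
          exact h1 }
    have hB' : EGA41.IsFormallySmoothAdic K ⊥ B (IsLocalRing.maximalIdeal B) :=
      (Groth.Agent.S4537.result (IsLocalRing.maximalIdeal B)).1 hB
    obtain ⟨v, hv⟩ := hB' T J hJ ⟨1, by rw [pow_one, Ideal.map_bot]⟩ u' hu
    refine ⟨{ v.toRingHom with commutes' := fun a => ?_ }, AlgHom.ext fun x => DFunLike.congr_fun hv x⟩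
    have h1 := v.commutes (eK a)
    rw [show algebraMap K T (eK a) = algebraMap (A ⧸ 𝔪) T (eK.symm (eK a)) from rfl, AlgEquiv.symm_apply_apply] at h1
    exact h1
  obtain ⟨⟨C, _, _, _, _, _, hC, hflat, ⟨u⟩⟩, -⟩ := Groth.Agent.S2487.result 𝔪 le_rfl B hfs
  haveI := hflat
  refine ⟨C, inferInstance, inferInstance, inferInstance, inferInstance, hC, inferInstance, ?_, ⟨?_⟩⟩
  · have hmap : 𝔪.map (algebraMap A C) ≤ IsLocalRing.maximalIdeal C :=
      Ideal.map_le_iff_le_comap.2 fun r hr => map_nonunit (algebraMap A C) r hr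
    have hloc : EGA41.IsFormallySmoothAdic A 𝔪 C (IsLocalRing.maximalIdeal C) := by
      let φ : C →ₐ[A] (A ⧸ 𝔪) ⊗[A] C := Algebra.TensorProduct.includeRight
      let ψ : ((A ⧸ 𝔪) ⊗[A] C) ≃ₐ[A ⧸ 𝔪] (C ⧸ 𝔪.map (algebraMap A C)) :=
        AlgEquiv.ofRingEquiv (f := ((Algebra.TensorProduct.comm A (A ⧸ 𝔪) C).toRingEquiv.trans
          (Algebra.TensorProduct.quotIdealMapEquivTensorQuot C 𝔪).symm.toRingEquiv)) fun a => by
            obtain ⟨a, rfl⟩ := Ideal.Quotient.mk_surjective a
            show (Algebra.TensorProduct.quotIdealMapEquivTensorQuot C 𝔪).symm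
              (Algebra.TensorProduct.comm A (A ⧸ 𝔪) C ((Ideal.Quotient.mk 𝔪 a) ⊗ₜ[A] (1 : C))) = _
            rw [Algebra.TensorProduct.comm_tmul, Algebra.TensorProduct.quotIdealMapEquivTensorQuot_symm_tmul,
              Algebra.smul_def, mul_one]
            rfl
      let e₀ := u.symm.trans ψ
      refine Groth.Agent.EGA41FS.isFormallySmoothAdic_of_flat_fibre 𝔪 𝔪 (IsLocalRing.maximalIdeal C) hmap hmap ?_
      have hm : (IsLocalRing.maximalIdeal C).map (Ideal.Quotient.mk (𝔪.map (algebraMap A C))) =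
          (IsLocalRing.maximalIdeal B).map e₀.toAlgHom.toRingHom := by
        haveI : Nontrivial (C ⧸ 𝔪.map (algebraMap A C)) := Ideal.Quotient.nontrivial_iff.2
          (ne_top_of_le_ne_top (IsLocalRing.maximalIdeal.isMaximal C).ne_top hmap)
        haveI : IsLocalRing (C ⧸ 𝔪.map (algebraMap A C)) :=
          IsLocalRing.of_surjective' (Ideal.Quotient.mk _) Ideal.Quotient.mk_surjective
        rw [IsLocalRing.map_maximalIdeal_of_surjective (Ideal.Quotient.mk _) Ideal.Quotient.mk_surjective,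
          IsLocalRing.map_maximalIdeal_of_surjective e₀.toAlgHom.toRingHom e₀.surjective]
      rw [hm, show 𝔪.map (Ideal.Quotient.mk 𝔪) = IsLocalRing.maximalIdeal (A ⧸ 𝔪) by
        rw [Ideal.map_quotient_self, hbot]]
      exact Groth.Agent.EGA41FS.isFormallySmoothAdic_of_algEquiv _ e₀ le_rfl le_rfl hfs
    rw [Groth.Agent.S4537.result]
    intro T _ _ J hJ _ v hv
    obtain ⟨l, hl⟩ := hJ
    obtain ⟨j, hj⟩ := hv
    refine hloc T J ⟨l, hl⟩ ⟨j * l, ?_⟩ v ⟨j, hj⟩
    rw [pow_mul, Ideal.map_pow]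
    refine le_bot_iff.1 (le_trans (Ideal.pow_right_mono (I := (𝔪 ^ j).map (algebraMap A T)) ?_ l) hl.le)
    refine Ideal.map_le_iff_le_comap.2 fun r hr => ?_
    have h1 := hj (algebraMap A C r) (Ideal.pow_right_mono hmap j (by rw [← Ideal.map_pow]; exact Ideal.mem_map_of_mem _ hr))
    rw [AlgHom.commutes] at h1
    exact (Ideal.Quotient.eq_zero_iff_mem (I := J)).1 h1
  · exact AlgEquiv.ofRingEquiv (f := (Algebra.TensorProduct.congr eK.symm (AlgEquiv.refl (R := A) (A₁ := C))).toRingEquiv.trans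
      u.toRingEquiv) fun c => by
      show u (Algebra.TensorProduct.congr eK.symm AlgEquiv.refl (c ⊗ₜ[A] (1 : C))) = _
      rw [Algebra.TensorProduct.congr_apply, Algebra.TensorProduct.map_tmul]
      show u (algebraMap (A ⧸ 𝔪) ((A ⧸ 𝔪) ⊗[A] C) (eK.symm c)) = _
      rw [AlgEquiv.commutes]
      show algebraMap K B (eK (eK.symm c)) = _
      rw [AlgEquiv.apply_symm_apply]

end Groth.Agent.S2040
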