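import Groth.Statements.S2041
import Groth.Agent.Hensel.Idempotent
import Groth.Agent.EtLiftLib.Basic

set_option autoImplicit false
universe u
open CAlg Groth.Agent Polynomial
open scoped TensorProduct

namespace Groth.Agent.S2041

open TensorProduct in
/-- Let `I ⊆ A` be an ideal, `A → B` integral and `ē` an idempotent of `B/IB`. Then there is an étale
`A`-algebra `A'` with `A/I → A'/IA'` bijective and an idempotent of `A' ⊗ B` whose class modulo `I`
agrees with that of any lift of `ē`. -/
theorem result {A B : Type u} [CommRing A] [CommRing B] [Algebra A B]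
    [Algebra.IsIntegral A B] (I : Ideal A) (e : B ⧸ I.map (algebraMap A B)) (he : IsIdempotentElem e) :
    ∃ (A' : Type u) (_ : CommRing A') (_ : Algebra A A'), Algebra.Etale A A' ∧
      Function.Bijective (algebraMap (A ⧸ I) (A' ⧸ I.map (algebraMap A A'))) ∧
      ∃ e' : A' ⊗[A] B, IsIdempotentElem e' ∧
        ∀ b : B, Ideal.Quotient.mk (I.map (algebraMap A B)) b = e →
          e' - 1 ⊗ₜ b ∈ I.map (algebraMap A (A' ⊗[A] B)) := by
  classical
  obtain ⟨b, hbe⟩ := Ideal.Quotient.mk_surjective e
  have hb : b * b - b ∈ I.map (algebraMap A B) := by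
    rw [← Ideal.Quotient.eq, map_mul, hbe]; exact he
  set c := b * b - b with hcdef
  -- `c` is integral over `I`
  obtain ⟨B₀, hB₀, hbB₀, hcB₀⟩ : ∃ B₀ : Subalgebra A B, Module.Finite A B₀ ∧ b ∈ B₀ ∧
      ∃ h : c ∈ B₀, (⟨c, h⟩ : B₀) ∈ I.map (algebraMap A B₀) := by
    have hc' : c ∈ (I • ⊤ : Submodule A B) := by rw [Ideal.smul_top_eq_map]; exact hb
    obtain ⟨s, hs⟩ : ∃ s : Finset B, c ∈ I • Submodule.span A (s : Set B) := by
      clear_value c
      clear hcdef hb
      induction hc' using Submodule.smul_induction_on' with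
      | smul a ha x _ => exact ⟨{x}, Submodule.smul_mem_smul ha (Submodule.subset_span (by simp))⟩
      | add x _ y _ hx hy =>
        obtain ⟨s, hs⟩ := hx
        obtain ⟨t, ht⟩ := hy
        exact ⟨s ∪ t, add_mem (Submodule.smul_mono le_rfl (Submodule.span_mono (by simp)) hs)
          (Submodule.smul_mono le_rfl (Submodule.span_mono (by simp)) ht)⟩
    let S := Algebra.adjoin A ((insert b s : Finset B) : Set B)
    have hbS : b ∈ S := Algebra.subset_adjoin (Finset.mem_insert_self _ _)
    have hle : Submodule.span A (s : Set B) ≤ Subalgebra.toSubmodule S :=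
      Submodule.span_le.2 fun x hx => Algebra.subset_adjoin (Finset.mem_insert_of_mem hx)
    refine ⟨S, Module.Finite.iff_fg.2 (fg_adjoin_of_finite (Finset.finite_toSet _) fun x _ => Algebra.IsIntegral.isIntegral x),
      hbS, S.sub_mem (S.mul_mem hbS hbS) hbS, ?_⟩
    have h1 : I • Subalgebra.toSubmodule S = Submodule.map S.val.toLinearMap (I • (⊤ : Submodule A S)) := by
      rw [Submodule.map_smul'']
      congr 1
      ext x
      simp
    have h2 := Submodule.smul_mono le_rfl hle hs
    rw [h1] at h2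
    obtain ⟨y, hy, hyc⟩ := h2
    rw [Ideal.smul_top_eq_map] at hy
    have : (⟨c, S.sub_mem (S.mul_mem hbS hbS) hbS⟩ : S) = y := Subtype.ext hyc.symm
    rw [this]
    exact hy
  obtain ⟨hcB, hcI⟩ := hcB₀
  let c₀ : B₀ := ⟨c, hcB⟩
  obtain ⟨Q, hQ, -, hQc, hQ0⟩ := LinearMap.exists_monic_and_natDegree_eq_and_coeff_mem_pow_and_aeval_eq_zero (R := A)
    (M := B₀) (LinearMap.mulLeft A c₀) I (by
      rintro _ ⟨x, rfl⟩
      rw [Ideal.smul_top_eq_map]
      exact Ideal.mul_mem_right x _ hcI)
  have hQc' : ∀ i, i < Q.natDegree → Q.coeff i ∈ I := fun i hi =>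
    Ideal.pow_le_self (Nat.sub_ne_zero_of_lt hi) (hQc i)
  have hQmap : Q.map (Ideal.Quotient.mk I) = X ^ Q.natDegree := by
    ext i
    rw [coeff_map, coeff_X_pow]
    rcases lt_trichotomy i Q.natDegree with hi | rfl | hi
    · rw [if_neg hi.ne, Ideal.Quotient.eq_zero_iff_mem]; exact hQc' i hi
    · rw [if_pos rfl, hQ.coeff_natDegree, map_one]
    · rw [if_neg hi.ne', coeff_eq_zero_of_natDegree_lt hi, map_zero]
  have hQb : aeval c Q = 0 := by
    have h1 : aeval c₀ Q = 0 := by
      have h3 : aeval (LinearMap.mulLeft A c₀) Q = LinearMap.mulLeft A (aeval c₀ Q) := aeval_algHom_apply (Algebra.lmul A B₀) c₀ Q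
      have h4 := LinearMap.congr_fun hQ0 1
      rw [h3] at h4
      simpa using h4
    have := congrArg B₀.val h1
    rw [← aeval_algHom_apply, map_zero] at this
    exact this
  set d := Q.natDegree with hd
  let P : A[X] := Q.comp (X ^ 2 - X)
  have hPm : P.Monic := by
    nontriviality A
    refine hQ.comp ((monic_X_pow 2).sub_of_left (by rw [degree_X_pow, degree_X]; decide)) ?_
    rw [natDegree_sub_eq_left_of_natDegree_lt] <;> simp
  have hPmap : P.map (Ideal.Quotient.mk I) = X ^ d * (X - 1) ^ d := by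
    simp only [P, Polynomial.map_comp, hQmap, Polynomial.map_sub, Polynomial.map_pow, map_X, pow_comp, X_comp]
    rw [← mul_pow]; ring
  have hcop : IsCoprime ((X : (A ⧸ I)[X]) ^ d) ((X - 1) ^ d) := IsCoprime.pow ⟨1, -1, by ring⟩
  obtain ⟨A', _, _, hA', hbij, g, h, hg, hh, hPgh, ⟨α, β, hab⟩, hgm, hhm⟩ :=
    EtLiftLib.exists_etale_lift_coprime I P hPm (X ^ d) ((X - 1) ^ d) (monic_X_pow d)
      (by rw [← C_1]; exact (monic_X_sub_C 1).pow d) hcop hPmap
  rw [Polynomial.map_pow, map_X] at hgm
  rw [Polynomial.map_pow, Polynomial.map_sub, map_X, Polynomial.map_one] at hhm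
  let T := A' ⊗[A] B
  set bT : T := (1 : A') ⊗ₜ[A] b with hbT
  have hgh0 : aeval bT g * aeval bT h = 0 := by
    rw [← map_mul, ← hPgh, aeval_map_algebraMap, hbT,
      show ((1 : A') ⊗ₜ[A] b : T) = Algebra.TensorProduct.includeRight (R := A) (A := A') b from rfl,
      aeval_algHom_apply]
    simp only [P, aeval_comp, map_sub, map_pow, aeval_X]
    rw [show b ^ 2 - b = c by rw [hcdef]; ring, hQb, map_zero]
  have hab' := congrArg (aeval bT) hab
  rw [map_add, map_mul, map_mul, map_one] at hab'
  refine ⟨A', inferInstance, inferInstance, hA', hbij, aeval bT (α * g), ?_, fun b' hb' => ?_⟩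
  · change aeval bT (α * g) * aeval bT (α * g) = aeval bT (α * g)
    rw [map_mul]
    linear_combination (aeval bT α * aeval bT g) * hab' - aeval bT α * aeval bT β * hgh0
  -- computation modulo `I`
  set J := I.map (algebraMap A T) with hJdef
  have hJA' : (I.map (algebraMap A A')).map (algebraMap A' T) = J := by
    rw [Ideal.map_map, ← IsScalarTower.algebraMap_eq]
  have hincl : ∀ x ∈ I.map (algebraMap A B), (1 : A') ⊗ₜ[A] x ∈ J := fun x hx => by
    have := Ideal.mem_map_of_mem (Algebra.TensorProduct.includeRight (R := A) (A := A') (B := B)).toRingHom hx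
    rwa [Ideal.map_map, show (Algebra.TensorProduct.includeRight (R := A) (A := A') (B := B)).toRingHom.comp (algebraMap A B) = algebraMap A T from RingHom.ext fun r => (Algebra.TensorProduct.includeRight (R := A) (A := A') (B := B)).commutes r] at this
  have hbb : (1 : A') ⊗ₜ[A] b' - bT ∈ J := by
    rw [hbT, ← TensorProduct.tmul_sub]
    exact hincl _ (Ideal.Quotient.eq.1 (hb'.trans hbe.symm))
  suffices hmain : aeval bT (α * g) - bT ∈ J by
    have := sub_mem hmain hbb
    rwa [sub_sub_sub_cancel_right] at this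
  let π : T →ₐ[A'] T ⧸ J := Ideal.Quotient.mkₐ A' J
  have hker : ∀ p q : A'[X], p.map (Ideal.Quotient.mk (I.map (algebraMap A A'))) =
      q.map (Ideal.Quotient.mk (I.map (algebraMap A A'))) → π (aeval bT p) = π (aeval bT q) := by
    intro p q hpq
    rw [← sub_eq_zero, ← map_sub, ← map_sub]
    refine Ideal.Quotient.eq_zero_iff_mem.2 ?_
    rw [aeval_eq_sum_range]
    refine Submodule.sum_mem _ fun i _ => ?_
    rw [Algebra.smul_def, ← hJA']
    refine Ideal.mul_mem_right _ _ (Ideal.mem_map_of_mem _ ?_)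
    rw [← Ideal.Quotient.eq_zero_iff_mem, ← coeff_map, Polynomial.map_sub, hpq, sub_self, coeff_zero]
  set z := π bT with hz
  have hz2 : z * z = z := by
    rw [hz, ← map_mul, ← sub_eq_zero, ← map_sub]
    refine Ideal.Quotient.eq_zero_iff_mem.2 ?_
    rw [hbT, Algebra.TensorProduct.tmul_mul_tmul, one_mul, ← TensorProduct.tmul_sub]
    exact hincl _ hb
  have hzp : ∀ n : ℕ, n ≠ 0 → z ^ n = z := fun n hn => (show IsIdempotentElem z from hz2).pow_eq hn
  have hg' : π (aeval bT g) = z ^ d := by
    rw [hker g (X ^ d) (by simp [hgm]), map_pow, map_pow, aeval_X]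
  have hh' : π (aeval bT h) = (z - 1) ^ d := by
    rw [hker h ((X - 1) ^ d) (by simp [hhm]), map_pow, map_pow, map_sub, map_sub, aeval_X, map_one, map_one]
  have hab'' : π (aeval bT α) * z ^ d + π (aeval bT β) * (z - 1) ^ d = 1 := by
    have := congrArg π hab'
    rwa [map_add, map_mul, map_mul, map_one, hg', hh'] at this
  rw [← Ideal.Quotient.eq]
  change π (aeval bT (α * g)) = z
  rw [map_mul, map_mul, hg']
  rcases eq_or_ne d 0 with hd0 | hd0
  · have h0 : (1 : B) = 0 := by
      have : Q = 1 := hQ.natDegree_eq_zero.1 hd0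
      rw [this, map_one] at hQb
      exact hQb
    haveI : Subsingleton T := subsingleton_of_zero_eq_one (by
      rw [Algebra.TensorProduct.one_def, h0, TensorProduct.tmul_zero])
    rw [hd0, pow_zero, mul_one]
    exact congrArg π (Subsingleton.elim (aeval bT α) bT)
  rw [hzp d hd0] at hab'' ⊢
  obtain ⟨k, hk⟩ := Nat.exists_eq_succ_of_ne_zero hd0
  have h0 : z * (z - 1) ^ d = 0 := by
    rw [hk, pow_succ, mul_left_comm, mul_sub, mul_one, hz2, sub_self, mul_zero]
  linear_combination z * hab'' - π (aeval bT β) * h0 - π (aeval bT α) * hz2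

end Groth.Agent.S2041
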