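import Groth.Statements.S2043
import Groth.Agent.Hensel.Smooth
import Groth.Agent.Hensel.PairNbhd
import Groth.Agent.Hensel.PairEnvelopeProps
import Mathlib

set_option autoImplicit false
universe u
open CAlg

namespace Groth.Agent.S2043

open Groth.Agent.Hensel in
/-- Finitely many elements vanishing in the henselization vanish in a further neighbourhood. -/
theorem exists_nhd_zero_finite {A : Type u} [CommRing A] {I : Ideal A} {H : Type u} [CommRing H] [Algebra A H]
    (hH : Hens2.IsPairHenselization A I H) : ∀ (n : ℕ)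
    (A' : Type u) [CommRing A'] [Algebra A A'] [Algebra.Etale A A'],
      Function.Bijective (Ideal.quotientMap (I.map (algebraMap A A')) (algebraMap A A') Ideal.le_comap_map) →
        ∀ (φ : A' →ₐ[A] H) (s : List A'), s.length = n → (∀ x ∈ s, φ x = 0) →
          ∃ (A'' : Type u) (_ : CommRing A'') (_ : Algebra A A'') (_ : Algebra.Etale A A''),
            Function.Bijective (Ideal.quotientMap (I.map (algebraMap A A'')) (algebraMap A A'') Ideal.le_comap_map) ∧
              ∃ ψ : A' →ₐ[A] A'', ∀ x ∈ s, ψ x = 0 := by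
  intro n
  induction n with
  | zero =>
    intro A' _ _ _ hA' φ s hn _
    obtain rfl := List.length_eq_zero_iff.1 hn
    exact ⟨A', inferInstance, inferInstance, inferInstance, hA', AlgHom.id A A', by simp⟩
  | succ n ih =>
    intro A' _ _ _ hA' φ s hn hs
    obtain ⟨x, s, rfl⟩ : ∃ x t, s = x :: t := List.exists_cons_of_length_eq_add_one hn
    obtain ⟨A₁, _, _, _, h₁, ψ₁, hx⟩ := exists_nhd_eq_zero hH A' φ x (hs x List.mem_cons_self)
    obtain ⟨u₁⟩ := nonempty_unique_nhd_hom hH A₁ h₁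
    obtain ⟨u⟩ := nonempty_unique_nhd_hom hH A' hA'
    have hcomp : u₁.default.comp ψ₁ = φ := (u.uniq _).trans (u.uniq φ).symm
    obtain ⟨A₂, i1, i2, i3, h₂, ψ₂, hψ₂⟩ := ih A₁ h₁ u₁.default (s.map ψ₁)
      (by simpa using hn) (fun y hy => by
        obtain ⟨z, hz, rfl⟩ := List.mem_map.1 hy
        rw [← AlgHom.comp_apply, hcomp]
        exact hs z (List.mem_cons_of_mem _ hz))
    refine ⟨A₂, i1, i2, i3, h₂, ψ₂.comp ψ₁, fun y hy => ?_⟩
    rcases List.mem_cons.1 hy with rfl | hy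
    · rw [AlgHom.comp_apply, hx, map_zero]
    · exact hψ₂ _ (List.mem_map.2 ⟨y, hy, rfl⟩)

open scoped TensorProduct

/-- Let `I ⊆ A` be an ideal, `B` a smooth `A`-algebra and `B → A/I` an `A`-algebra map. Then there is an
étale `A`-algebra `A'` with `A/I → A'/IA'` bijective and an `A`-algebra map `B → A'` lifting the
given map. -/
theorem result {A B : Type u} [CommRing A] [CommRing B] [Algebra A B]
    [Algebra.Smooth A B] (I : Ideal A) (σ : B →ₐ[A] A ⧸ I) :
    ∃ (A' : Type u) (_ : CommRing A') (_ : Algebra A A'), Algebra.Etale A A' ∧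
      Function.Bijective (algebraMap (A ⧸ I) (A' ⧸ I.map (algebraMap A A'))) ∧
      ∃ τ : B →ₐ[A] A', ∀ b : B,
        Ideal.Quotient.mk (I.map (algebraMap A A')) (τ b) =
          algebraMap (A ⧸ I) (A' ⧸ I.map (algebraMap A A')) (σ b) := by
  classical
  let H := Groth.Agent.Hensel.PairEnv A I
  have hH := Groth.Agent.Hensel.isPairHenselization_pairEnv A I
  haveI := Groth.Agent.Hensel.henselianRing_pairEnv A I
  let IH := I.map (algebraMap A H)
  let q : A ⧸ I →+* H ⧸ IH := Ideal.quotientMap IH (algebraMap A H) Ideal.le_comap_map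
  -- the section over the henselization
  let σH : B →ₐ[A] H ⧸ IH :=
    { q.comp σ.toRingHom with
      commutes' := fun a => by
        show q (σ (algebraMap A B a)) = _
        rw [σ.commutes]
        exact Ideal.quotientMap_mk }
  let σC : H ⊗[A] B →ₐ[H] H ⧸ IH :=
    Algebra.TensorProduct.lift (Algebra.ofId H (H ⧸ IH)) σH fun _ _ => Commute.all _ _
  obtain ⟨τC, hτC⟩ := Groth.Agent.Hensel.exists_smooth_lift (I := IH) (H ⊗[A] B) σC
  let τ0 : B →ₐ[A] H := (τC.restrictScalars A).comp Algebra.TensorProduct.includeRight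
  have hτ0 : ∀ b, Ideal.Quotient.mk IH (τ0 b) = q (σ b) := fun b => by
    refine (hτC ((1 : H) ⊗ₜ[A] b)).trans ?_
    rw [Algebra.TensorProduct.lift_tmul, map_one, one_mul]
    rfl
  -- descent to a neighbourhood
  obtain ⟨n, π, hπ, hfg⟩ := Algebra.FinitePresentation.out (R := A) (A := B)
  obtain ⟨rels, hrels⟩ := hfg
  obtain ⟨A₁, _, _, _, h₁, φ₁, hφ₁⟩ := Groth.Agent.Hensel.exists_nhd_finite hH
    (Finset.univ.image fun i => τ0 (π (MvPolynomial.X i)))
  choose v hv using fun i : Fin n => hφ₁ (Finset.mem_coe.2 (Finset.mem_image_of_mem _ (Finset.mem_univ i)))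
  let θ : MvPolynomial (Fin n) A →ₐ[A] A₁ := MvPolynomial.aeval v
  have hθ : φ₁.comp θ = τ0.comp π := MvPolynomial.algHom_ext fun i => by simp [θ, hv]
  obtain ⟨A₂, i1, i2, i3, h₂, ψ, hψ⟩ := exists_nhd_zero_finite hH _ A₁ h₁ φ₁ (rels.toList.map θ) rfl
    (fun y hy => by
      obtain ⟨f, hf, rfl⟩ := List.mem_map.1 hy
      rw [← AlgHom.comp_apply, hθ, AlgHom.comp_apply]
      have : f ∈ RingHom.ker π.toRingHom := hrels ▸ Ideal.subset_span (Finset.mem_toList.1 hf)
      rw [show π f = 0 from this, map_zero])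
  have hker : RingHom.ker π.toRingHom ≤ RingHom.ker (ψ.comp θ).toRingHom := by
    rw [← hrels]
    exact Ideal.span_le.2 fun f hf => hψ _ (List.mem_map.2 ⟨f, Finset.mem_toList.2 hf, rfl⟩)
  let τ : B →ₐ[A] A₂ := AlgHom.liftOfSurjective π hπ (ψ.comp θ) hker
  have hbij : Function.Bijective (algebraMap (A ⧸ I) (A₂ ⧸ I.map (algebraMap A A₂))) := h₂
  refine ⟨A₂, i1, i2, i3, hbij, τ, fun b => ?_⟩
  obtain ⟨x, rfl⟩ := hπ b
  obtain ⟨u₂⟩ := Groth.Agent.Hensel.nonempty_unique_nhd_hom hH A₂ h₂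
  obtain ⟨u₁⟩ := Groth.Agent.Hensel.nonempty_unique_nhd_hom hH A₁ h₁
  let φ₂ : A₂ →ₐ[A] H := u₂.default
  have hcomp : φ₂.comp ψ = φ₁ := (u₁.uniq _).trans (u₁.uniq φ₁).symm
  let q₂ : A₂ ⧸ I.map (algebraMap A A₂) →+* H ⧸ IH := Ideal.quotientMap IH φ₂.toRingHom (by
    rw [← Ideal.map_le_iff_le_comap, Ideal.map_map, AlgHom.toRingHom_eq_coe, AlgHom.comp_algebraMap])
  have hq : ∀ y : A ⧸ I, q₂ (algebraMap (A ⧸ I) (A₂ ⧸ I.map (algebraMap A A₂)) y) = q y := fun y => by
    obtain ⟨a, rfl⟩ := Ideal.Quotient.mk_surjective y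
    exact congrArg (Ideal.Quotient.mk IH) (φ₂.commutes a)
  obtain ⟨z, hz⟩ := hbij.2 (Ideal.Quotient.mk (I.map (algebraMap A A₂)) (τ (π x)))
  have hinj : Function.Injective q := by
    have h := Groth.Agent.Hensel.pairHenselization_quotient_bijective hH 1
    rw [pow_one] at h
    exact h.1
  have hτ : τ (π x) = ψ (θ x) := AlgHom.liftOfSurjective_apply π hπ (ψ.comp θ) hker x
  have key : q z = q (σ (π x)) := by
    rw [← hτ0, ← hq, hz, hτ]
    show Ideal.Quotient.mk IH (φ₂ (ψ (θ x))) = _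
    rw [← AlgHom.comp_apply φ₂ ψ, hcomp, ← AlgHom.comp_apply φ₁ θ, hθ]
    rfl
  rw [← hz, hinj key]

end Groth.Agent.S2043
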