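import Groth.Statements.S2044
import Groth.Agent.EtLiftLib.Projective

set_option autoImplicit false
universe u
open CAlg

namespace Groth.Agent.S2044

open TensorProduct in
/-- Let `I ⊆ A` be an ideal and `P` a finite projective `A/I`-module. Then there is an étale `A`-algebra
`A'` with `A/I → A'/IA'` bijective and a finite projective `A'`-module whose reduction modulo `IA'`
is the base change of `P`. -/
theorem result {A : Type u} [CommRing A] (I : Ideal A) (P : Type u)
    [AddCommGroup P] [Module (A ⧸ I) P] [Module.Finite (A ⧸ I) P] [Module.Projective (A ⧸ I) P] :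
    ∃ (A' : Type u) (_ : CommRing A') (_ : Algebra A A'), Algebra.Etale A A' ∧
      Function.Bijective (algebraMap (A ⧸ I) (A' ⧸ I.map (algebraMap A A'))) ∧
      ∃ (P' : Type u) (_ : AddCommGroup P') (_ : Module A' P'), Module.Finite A' P' ∧
        Module.Projective A' P' ∧
        Nonempty (((A' ⧸ I.map (algebraMap A A')) ⊗[A'] P') ≃ₗ[A' ⧸ I.map (algebraMap A A')]
          ((A' ⧸ I.map (algebraMap A A')) ⊗[A ⧸ I] P)) := by
  obtain ⟨n, π, hπ⟩ := Module.Finite.exists_fin' (A ⧸ I) P
  obtain ⟨s, hs⟩ := Module.projective_lifting_property π LinearMap.id hπ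
  replace hs : ∀ x, π (s x) = x := LinearMap.congr_fun hs
  set E := LinearMap.toMatrix' (s ∘ₗ π) with hE
  have hEE : E * E = E := by
    rw [hE, ← LinearMap.toMatrix'_comp]
    congr 1
    exact LinearMap.ext fun x => congrArg s (hs (π x))
  obtain ⟨A', i₁, i₂, het, hbij, e, he, heI⟩ := Groth.Agent.EtLiftLib.exists_idem_lift I E hEE
  let P' := LinearMap.range (Matrix.toLin' e)
  let π' : (Fin n → A') →ₗ[A'] P' := (Matrix.toLin' e).rangeRestrict
  have hs' : ∀ x : P', π' (P'.subtype x) = x := by
    rintro ⟨_, y, rfl⟩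
    refine Subtype.ext ?_
    show Matrix.toLin' e (Matrix.toLin' e y) = Matrix.toLin' e y
    rw [← LinearMap.comp_apply, ← Matrix.toLin'_mul, he]
  refine ⟨A', i₁, i₂, het, hbij, P', inferInstance, inferInstance,
    Module.Finite.of_surjective π' (LinearMap.surjective_rangeRestrict _),
    Module.Projective.of_split P'.subtype π' (LinearMap.ext hs'), ?_⟩
  obtain ⟨e₁⟩ := Groth.Agent.EtLiftLib.baseChange_range_equiv
    (S := A' ⧸ I.map (algebraMap A A')) π' P'.subtype hs'
  obtain ⟨e₂⟩ := Groth.Agent.EtLiftLib.baseChange_range_equiv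
    (S := A' ⧸ I.map (algebraMap A A')) π s hs
  refine ⟨e₁.trans ((LinearEquiv.ofEq _ _ ?_).trans e₂.symm)⟩
  rw [show P'.subtype ∘ₗ π' = Matrix.toLin' e from rfl, LinearMap.toMatrix'_toLin', ← hE, ← heI]
  rfl

end Groth.Agent.S2044
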