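import Groth.Statements.S2048
import Groth.Agent.DerivNonPow.Basic
import Groth.Agent.FrobCofinite.Series
import Groth.Agent.FrobCofinite.Field
import Groth.Agent.S0581
import Groth.Agent.S4546
import Groth.Agent.S4525
import Mathlib

set_option autoImplicit false
set_option linter.style.haveILetI false
set_option maxHeartbeats 1000000
universe u
open CAlg

namespace Groth.Agent.S2048

/-- The case of a power series base. -/
theorem main (p : ℕ) [Fact p.Prime] {k : Type u} [Field k] [CharP k p] {r : ℕ} {B : Type u} [CommRing B] [IsDomain B]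
    [CharP B p] (φ : MvPowerSeries (Fin r) k →+* B) (hφinj : Function.Injective φ) (hft : φ.FiniteType) (f : B)
    (hf : ∀ x : FractionRing B, x ^ p ≠ algebraMap B (FractionRing B) f) :
    ∃ D : Derivation ℤ B B, D f ≠ 0 := by
  classical
  obtain ⟨ι, hne, Lk, hdir, hpow, hfd, hinf⟩ := Groth.Agent.FrobCofinite.exists_family p k
  -- the base `S = k[[T]]` and the fraction fields
  letI : Algebra (MvPowerSeries (Fin r) k) B := φ.toAlgebra
  haveI : Algebra.FiniteType (MvPowerSeries (Fin r) k) B := hft
  haveI : FaithfulSMul (MvPowerSeries (Fin r) k) B := (faithfulSMul_iff_algebraMap_injective _ _).mpr hφinj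
  letI : Algebra (FractionRing (MvPowerSeries (Fin r) k)) (FractionRing B) := FractionRing.liftAlgebra _ _
  haveI : Algebra.EssFiniteType (FractionRing (MvPowerSeries (Fin r) k)) (FractionRing B) := by
    haveI : Algebra.EssFiniteType B (FractionRing B) := Algebra.EssFiniteType.of_isLocalization _ (nonZeroDivisors B)
    haveI : Algebra.EssFiniteType (MvPowerSeries (Fin r) k) (FractionRing B) :=
      Algebra.EssFiniteType.comp _ B _
    exact Algebra.EssFiniteType.of_comp (MvPowerSeries (Fin r) k) _ _
  haveI : CharP (FractionRing B) p := charP_of_injective_algebraMap (IsFractionRing.injective B (FractionRing B)) p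
  haveI : CharP (FractionRing (MvPowerSeries (Fin r) k)) p :=
    ((algebraMap (FractionRing (MvPowerSeries (Fin r) k)) (FractionRing B)).charP_iff (RingHom.injective _) p).mpr
      inferInstance
  letI : Algebra (ULift.{u} (ZMod p)) (FractionRing (MvPowerSeries (Fin r) k)) :=
    ((ZMod.castHom dvd_rfl (FractionRing (MvPowerSeries (Fin r) k))).comp ULift.ringEquiv.toRingHom).toAlgebra
  letI : Algebra (ULift.{u} (ZMod p)) (FractionRing B) :=
    ((ZMod.castHom dvd_rfl (FractionRing B)).comp ULift.ringEquiv.toRingHom).toAlgebra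
  haveI : IsScalarTower (ULift.{u} (ZMod p)) (FractionRing (MvPowerSeries (Fin r) k)) (FractionRing B) :=
    IsScalarTower.of_algebraMap_eq fun c => (RingHom.congr_fun (RingHom.ext_zmod
      (ZMod.castHom dvd_rfl (FractionRing B))
      ((algebraMap (FractionRing (MvPowerSeries (Fin r) k)) (FractionRing B)).comp
        (ZMod.castHom dvd_rfl (FractionRing (MvPowerSeries (Fin r) k))))) c.down)
  haveI : Module.Finite (FractionRing B)
      (EGA41.imperfection (ULift.{u} (ZMod p)) (FractionRing (MvPowerSeries (Fin r) k)) (FractionRing B)) :=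
    (Groth.Agent.S4525.result (k := ULift.{u} (ZMod p)) (K := FractionRing (MvPowerSeries (Fin r) k)) (L := FractionRing B)).2.1
  have toIF : ∀ T : Subfield (FractionRing (MvPowerSeries (Fin r) k)),
      ∃ M : IntermediateField (ULift.{u} (ZMod p)) (FractionRing (MvPowerSeries (Fin r) k)), ∀ x, x ∈ M ↔ x ∈ T := by
    intro T
    refine ⟨T.toIntermediateField fun c => ?_, fun x => Iff.rfl⟩
    obtain ⟨n, hn⟩ := ZMod.natCast_zmod_surjective c.down
    rw [show c = (n : ULift.{u} (ZMod p)) from ULift.ext _ _ hn.symm, map_natCast]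
    exact natCast_mem T n
  choose M hM using fun i => toIF (Subfield.closure (algebraMap (MvPowerSeries (Fin r) k)
    (FractionRing (MvPowerSeries (Fin r) k)) '' (Groth.Agent.FrobCofinite.A (r := r) p (Lk i))))
  letI : Preorder ι := Preorder.lift (fun i => OrderDual.toDual (Lk i))
  haveI : IsDirected ι (· ≤ ·) := ⟨fun a b => by
    obtain ⟨c, hc⟩ := hdir a b
    exact ⟨c, (hc.trans inf_le_left : Lk c ≤ Lk a), (hc.trans inf_le_right : Lk c ≤ Lk b)⟩⟩
  haveI := hne
  have hanti : Antitone M := fun a b hab x hx => (hM a x).mpr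
    (Subfield.closure_mono (Set.image_mono (Groth.Agent.FrobCofinite.A_mono p (show Lk b ≤ Lk a from hab)))
      ((hM b x).mp hx))
  have hZ : ∀ c : ULift.{u} (ZMod p), ∀ (F : Type u) [Field F] [Algebra (ULift.{u} (ZMod p)) F],
      (algebraMap (ULift.{u} (ZMod p)) F c) ^ p = algebraMap (ULift.{u} (ZMod p)) F c := by
    intro c F _ _
    rw [← map_pow, show c ^ p = c from ULift.ext _ _ (ZMod.pow_card c.down)]
  have hadj : ∀ (F : Type u) [Field F] [CharP F p] [Algebra (ULift.{u} (ZMod p)) F] (x : F),
      x ∈ IntermediateField.adjoin (ULift.{u} (ZMod p)) (Set.range fun y : F => y ^ p) ↔ ∃ y, y ^ p = x := by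
    intro F _ _ _ x
    refine ⟨fun hx => ?_, fun ⟨y, hy⟩ => IntermediateField.subset_adjoin _ _ ⟨y, hy⟩⟩
    have h : IntermediateField.adjoin (ULift.{u} (ZMod p)) (Set.range fun y : F => y ^ p) ≤
        (frobenius F p).fieldRange.toIntermediateField (fun c => ⟨_, hZ c F⟩) :=
      IntermediateField.adjoin_le_iff.mpr fun y ⟨z, hz⟩ => ⟨z, hz⟩
    exact h hx
  have hpowM : ∀ i (y : FractionRing (MvPowerSeries (Fin r) k)), y ^ p ∈ M i := by
    intro i y
    rw [hM]
    have h := Set.ext_iff.mp (Groth.Agent.FrobCofinite.iInf_closure_eq (r := r) p Lk hpow hinf) (y ^ p)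
    have := h.mpr ⟨y, rfl⟩
    rw [Set.iInf_eq_iInter, Set.mem_iInter] at this
    exact this i
  have hh : (⨅ i, M i ⊔ IntermediateField.adjoin (ULift.{u} (ZMod p)) (Set.range fun y : FractionRing (MvPowerSeries (Fin r) k) => y ^ p)) =
      IntermediateField.adjoin (ULift.{u} (ZMod p)) (Set.range fun y : FractionRing (MvPowerSeries (Fin r) k) => y ^ p) := by
    refine le_antisymm (fun x hx => ?_) (le_iInf fun i => le_sup_right)
    rw [← SetLike.mem_coe, IntermediateField.coe_iInf, Set.mem_iInter] at hx
    refine (hadj _ x).mpr ?_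
    have h := Set.ext_iff.mp (Groth.Agent.FrobCofinite.iInf_closure_eq (r := r) p Lk hpow hinf) x
    refine h.mp ?_
    rw [Set.iInf_eq_iInter, Set.mem_iInter]
    intro i
    rw [SetLike.mem_coe, ← hM]
    exact (sup_le le_rfl (IntermediateField.adjoin_le_iff.mpr (by rintro z ⟨w, rfl⟩; exact hpowM i w)) :
      M i ⊔ _ ≤ M i) (hx i)
  have hnot : algebraMap B (FractionRing B) f ∉
      IntermediateField.adjoin (ULift.{u} (ZMod p)) (Set.range fun y : FractionRing B => y ^ p) := fun h => by
    obtain ⟨y, hy⟩ := (hadj _ _).mp h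
    exact hf y hy
  rw [← Groth.Agent.S4546.result p (L := FractionRing B) M hanti hh, ← SetLike.mem_coe, IntermediateField.coe_iInf,
    Set.mem_iInter, not_forall] at hnot
  obtain ⟨i, hi⟩ := hnot
  obtain ⟨D, hDl, hD0, hD1⟩ := Groth.Agent.DerivNonPow.exists_derivation p
    ((M i).map (IsScalarTower.toAlgHom (ULift.{u} (ZMod p)) _ (FractionRing B)) ⊔
      IntermediateField.adjoin (ULift.{u} (ZMod p)) (Set.range fun y : FractionRing B => y ^ p)).toSubfield hi
    (fun x => (le_sup_right : IntermediateField.adjoin (ULift.{u} (ZMod p)) (Set.range fun y : FractionRing B => y ^ p) ≤ _)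
      (IntermediateField.subset_adjoin _ _ ⟨x, rfl⟩))
  haveI := hfd i
  haveI := (Groth.Agent.FrobCofinite.free_finite (r := r) p (Lk i)).2
  obtain ⟨s, hs⟩ := Module.Finite.fg_top (R := Groth.Agent.FrobCofinite.A (r := r) p (Lk i))
    (M := MvPowerSeries (Fin r) k)
  obtain ⟨t, ht⟩ := (inferInstance : Algebra.FiniteType (MvPowerSeries (Fin r) k) B).out
  let G : Finset (FractionRing B) :=
    ((s.image φ) ∪ t).image fun b => D (algebraMap B (FractionRing B) b)
  obtain ⟨d, hd⟩ := IsLocalization.exist_integer_multiples_of_finset (nonZeroDivisors B) G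
  have hA : ∀ a ∈ Groth.Agent.FrobCofinite.A (r := r) p (Lk i), D (algebraMap B (FractionRing B) (φ a)) = 0 := by
    intro a ha
    refine hD0 _ ((le_sup_left : (M i).map (IsScalarTower.toAlgHom (ULift.{u} (ZMod p))
      (FractionRing (MvPowerSeries (Fin r) k)) (FractionRing B)) ≤ _) ?_)
    refine ⟨algebraMap (MvPowerSeries (Fin r) k) (FractionRing (MvPowerSeries (Fin r) k)) a,
      (hM i _).mpr (Subfield.subset_closure ⟨a, ha, rfl⟩), ?_⟩
    show algebraMap (FractionRing (MvPowerSeries (Fin r) k)) (FractionRing B) (algebraMap _ _ a) = _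
    rw [← IsScalarTower.algebraMap_apply, IsScalarTower.algebraMap_apply (MvPowerSeries (Fin r) k) B]
    rfl
  let W : Subring B :=
    { carrier := {b | IsLocalization.IsInteger B ((d : B) • D (algebraMap B (FractionRing B) b))}
      mul_mem' := fun {a b} ⟨ca, ha⟩ ⟨cb, hb⟩ => ⟨a * cb + b * ca, by
        rw [map_add, map_mul, map_mul, ha, hb, map_mul, hDl, smul_add]
        simp only [Algebra.smul_def]
        ring⟩
      one_mem' := ⟨0, by
        have h1 := hDl 1 1
        rw [mul_one, one_mul, left_eq_add] at h1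
        rw [map_zero, map_one, h1, smul_zero]⟩
      add_mem' := fun {a b} ⟨ca, ha⟩ ⟨cb, hb⟩ => ⟨ca + cb, by rw [map_add, ha, hb, map_add, map_add, smul_add]⟩
      zero_mem' := ⟨0, by rw [map_zero, map_zero, smul_zero]⟩
      neg_mem' := fun {a} ⟨ca, ha⟩ => ⟨-ca, by rw [map_neg, ha, map_neg, map_neg, smul_neg]⟩ }
  have hG : ∀ b ∈ (s.image φ) ∪ t, b ∈ W := fun b hb => hd _ (Finset.mem_image_of_mem _ hb)
  have hS : ∀ c : MvPowerSeries (Fin r) k, φ c ∈ W := by
    intro c
    have hc : c ∈ Submodule.span (Groth.Agent.FrobCofinite.A (r := r) p (Lk i)) (s : Set (MvPowerSeries (Fin r) k)) := by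
      rw [hs]; trivial
    induction hc using Submodule.span_induction with
    | mem x hx => exact hG _ (Finset.mem_union_left _ (Finset.mem_image_of_mem _ hx))
    | zero => rw [map_zero]; exact zero_mem W
    | add x y _ _ hx hy => rw [map_add]; exact add_mem hx hy
    | smul a x _ hx =>
      rw [Subring.smul_def, smul_eq_mul, map_mul]
      exact mul_mem ⟨0, by rw [map_zero, hA a.1 a.2, smul_zero]⟩ hx
  have hall : ∀ b : B, b ∈ W := by
    intro b
    have hb : b ∈ Algebra.adjoin (MvPowerSeries (Fin r) k) (t : Set B) := by rw [ht]; trivial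
    induction hb using Algebra.adjoin_induction with
    | mem x hx => exact hG _ (Finset.mem_union_right _ hx)
    | algebraMap c => exact hS c
    | add x y _ _ hx hy => exact add_mem hx hy
    | mul x y _ _ hx hy => exact mul_mem hx hy
  choose δ hδ using hall
  have inj := IsFractionRing.injective B (FractionRing B)
  let δ' : B →+ B :=
    { toFun := δ
      map_zero' := inj (by rw [hδ, map_zero, map_zero, smul_zero])
      map_add' := fun a b => inj (by rw [hδ, map_add, map_add, map_add, smul_add, hδ, hδ]) }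
  refine ⟨Derivation.mk' δ'.toIntLinearMap fun a b => inj ?_, fun h0 => ?_⟩
  · show algebraMap B (FractionRing B) (δ (a * b)) = algebraMap B (FractionRing B) (a • δ b + b • δ a)
    rw [smul_eq_mul, smul_eq_mul, map_add, map_mul, map_mul, hδ, hδ, hδ, map_mul, hDl, smul_add]
    simp only [Algebra.smul_def]
    ring
  · have h1 : algebraMap B (FractionRing B) (δ f) = 0 := by
      rw [show δ f = 0 from h0, map_zero]
    rw [hδ, hD1, Algebra.smul_def, mul_one, ← map_zero (algebraMap B (FractionRing B))] at h1
    exact nonZeroDivisors.ne_zero d.2 (inj h1)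

/-- Let `p` be a prime and `B` a domain of characteristic `p`, finitely generated as an algebra over
some complete Noetherian local ring. If `f ∈ B` has no `p`-th root in the fraction field of `B`,
then some derivation `D : B → B` has `D(f) ≠ 0`. -/
theorem result {R B : Type u} [CommRing R] [IsLocalRing R]
    [IsNoetherianRing R] [IsAdicComplete (IsLocalRing.maximalIdeal R) R] [CommRing B] [IsDomain B]
    [Algebra R B] [Algebra.FiniteType R B] (p : ℕ) [Fact p.Prime] [CharP B p] (f : B)
    (hf : ∀ x : FractionRing B, x ^ p ≠ algebraMap B (FractionRing B) f) :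
    ∃ D : Derivation ℤ B B, D f ≠ 0 := by
  classical
  haveI : Nontrivial B := inferInstance
  obtain ⟨P, hPp, hP⟩ : ∃ P : Ideal R, P.IsPrime ∧ RingHom.ker (algebraMap R B) = P :=
    ⟨_, RingHom.ker_isPrime _, rfl⟩
  haveI := hPp
  haveI : IsLocalRing (R ⧸ P) :=
    haveI : Nontrivial (R ⧸ P) := Ideal.Quotient.nontrivial_iff.mpr hPp.ne_top
    IsLocalRing.of_surjective' (Ideal.Quotient.mk P) Ideal.Quotient.mk_surjective
  haveI : IsAdicComplete (IsLocalRing.maximalIdeal (R ⧸ P)) (R ⧸ P) := by
    haveI := Groth.Agent.AdicLim.isAdicComplete_of_finite (IsLocalRing.maximalIdeal R) (R ⧸ P)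
    have hmap : IsLocalRing.maximalIdeal (R ⧸ P) = (IsLocalRing.maximalIdeal R).map (algebraMap R (R ⧸ P)) := by
      rw [Ideal.Quotient.algebraMap_eq, IsLocalRing.map_maximalIdeal_of_surjective _ Ideal.Quotient.mk_surjective]
    rw [hmap]
    exact (IsAdicComplete.map_algebraMap_iff (I := IsLocalRing.maximalIdeal R) (M := R ⧸ P) (S := R ⧸ P)).mpr inferInstance
  obtain ⟨k, kinst, r, g, hk, hginj, hgfin, -⟩ := Groth.Agent.S0581.result (R ⧸ P)
  let ι₀ : R ⧸ P →+* B := Ideal.Quotient.lift P (algebraMap R B) (fun a ha => RingHom.mem_ker.mp (hP.symm ▸ ha))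
  have hι₀ : Function.Injective ι₀ := RingHom.lift_injective_of_ker_le_ideal P _ hP.le
  let φ : MvPowerSeries (Fin r) k →+* B := ι₀.comp g
  have hφinj : Function.Injective φ := hι₀.comp hginj
  haveI hkp : CharP k p :=
    ((φ.comp MvPowerSeries.C).charP_iff (hφinj.comp MvPowerSeries.C_injective) p).mpr inferInstance
  have hfield : IsField k := by
    rcases hk with hf | ⟨_, hd, -, q, hq, hmax⟩
    · exact hf
    · exfalso
      have hp0 : (p : k) = 0 := CharP.cast_eq_zero k p
      have hq0 : (q : k) ≠ 0 := fun h => IsDiscreteValuationRing.not_isField k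
        (IsLocalRing.isField_iff_maximalIdeal_eq.mpr (by rw [hmax, h, Ideal.span_singleton_eq_bot]))
      rcases eq_or_ne q p with rfl | hne
      · exact hq0 hp0
      · obtain ⟨a, b, hab⟩ := ((Nat.coprime_primes (Fact.out : p.Prime) hq).mpr (Ne.symm hne)).cast (R := k)
        rw [hp0, mul_zero, zero_add] at hab
        exact (IsLocalRing.maximalIdeal.isMaximal k).ne_top (by
          rw [hmax, Ideal.span_singleton_eq_top]
          exact IsUnit.of_mul_eq_one b (by rwa [mul_comm] at hab))
  letI := hfield.toField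
  exact main p φ hφinj (by
    have h1 : ι₀.FiniteType := RingHom.FiniteType.of_comp_finiteType (f := Ideal.Quotient.mk P) (by
      rw [show ι₀.comp (Ideal.Quotient.mk P) = algebraMap R B from Ideal.Quotient.lift_comp_mk P _ _]
      exact RingHom.finiteType_algebraMap.mpr inferInstance)
    exact h1.comp hgfin.finiteType) f hf

end Groth.Agent.S2048
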