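import Groth.Statements.S2050
import Mathlib
import Groth.Agent.InjFibre.Loc
import Groth.Agent.S0387
-- import your own Groth.Agent.* helpers here

set_option autoImplicit false
universe u
open CAlg

namespace Groth.Agent.S2050

open TensorProduct

/-- An element of a flat module killed near each of the finitely many primes is zero. -/
theorem eq_zero_of_forall {R : Type u} [CommRing R] {L : Type u} [AddCommGroup L] [Module R L] [Module.Flat R L]
    (s : Finset (PrimeSpectrum R))
    (hs : Function.Injective fun r : R => fun p : s => algebraMap R (Localization.AtPrime p.1.asIdeal) r)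
    (x : L) (hx : ∀ p ∈ s, ∃ r : R, r ∉ p.asIdeal ∧ r • x = 0) : x = 0 := by
  classical
  let Φ : R →ₗ[R] ((p : s) → Localization.AtPrime p.1.asIdeal) :=
    LinearMap.pi fun p => Algebra.linearMap R (Localization.AtPrime p.1.asIdeal)
  have hΦ : Function.Injective Φ := hs
  have h := Module.Flat.lTensor_preserves_injective_linearMap (M := L) Φ hΦ
  refine (TensorProduct.rid R L).symm.map_eq_zero_iff.mp (h ?_)
  rw [map_zero]
  apply (TensorProduct.piRight R R L fun p : s => Localization.AtPrime p.1.asIdeal).injective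
  rw [map_zero, TensorProduct.rid_symm_apply, LinearMap.lTensor_tmul, TensorProduct.piRight_apply,
    TensorProduct.piRightHom_tmul]
  funext p
  obtain ⟨r, hr, hrx⟩ := hx p.1 p.2
  obtain ⟨u, hu⟩ := IsLocalization.map_units (Localization.AtPrime p.1.asIdeal) (⟨r, hr⟩ : p.1.asIdeal.primeCompl)
  change x ⊗ₜ[R] algebraMap R _ 1 = 0
  rw [map_one, show (1 : Localization.AtPrime p.1.asIdeal) = r • (↑u⁻¹ : Localization.AtPrime p.1.asIdeal) by
    rw [Algebra.smul_def, show algebraMap R _ r = (u : Localization.AtPrime p.1.asIdeal) from hu.symm,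
      Units.mul_inv], ← TensorProduct.smul_tmul, hrx, TensorProduct.zero_tmul]

/-- A module with finitely presented localization has a finitely generated submodule of relations there. -/
theorem exists_fg_submodule {S : Type u} [CommRing S] (T : Submonoid S) {F M : Type u} [AddCommGroup F] [Module S F]
    [Module.Finite S F] [AddCommGroup M] [Module S M] (f : F →ₗ[S] M) (hf : Function.Surjective f)
    [Module.FinitePresentation (Localization T) (LocalizedModule T M)] :
    ∃ K' : Submodule S F, K'.FG ∧ K' ≤ LinearMap.ker f ∧ ∀ k ∈ LinearMap.ker f, ∃ t ∈ T, t • k ∈ K' := by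
  classical
  let g := LocalizedModule.mkLinearMap T F
  let fT : LocalizedModule T F →ₗ[Localization T] LocalizedModule T M := LocalizedModule.map T f
  haveI : Module.Finite (Localization T) (LocalizedModule T F) :=
    Module.Finite.of_isLocalizedModule T g
  have hfT : Function.Surjective fT := LocalizedModule.map_surjective T f hf
  obtain ⟨W, hW⟩ := Module.FinitePresentation.fg_ker fT hfT
  have hlift : ∀ w : W, ∃ k ∈ LinearMap.ker f, ∃ t : T, w.1 = LocalizedModule.mk k t := by
    rintro ⟨w, hw⟩
    induction w using LocalizedModule.induction_on with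
    | h k t =>
      have h0 : fT (LocalizedModule.mk k t) = 0 := hW.le (Submodule.subset_span hw)
      rw [LocalizedModule.map_mk, ← LocalizedModule.zero_mk t, LocalizedModule.mk_eq] at h0
      obtain ⟨u, hu⟩ := h0
      refine ⟨((u * t : T) : S) • k, ?_, u * t * t, ?_⟩
      · rw [LinearMap.mem_ker, map_smul]
        simpa [mul_smul, Submonoid.smul_def] using hu
      · exact (LocalizedModule.mk_cancel_common_left (u * t) t k).symm
  choose k hk t ht using hlift
  refine ⟨Submodule.span S (Set.range k), Submodule.fg_span (Set.finite_range k),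
    Submodule.span_le.mpr (Set.range_subset_iff.mpr hk), fun x hx => ?_⟩
  let K' := Submodule.span S (Set.range k)
  have h1 : g x ∈ Submodule.localized' (Localization T) T g K' := by
    have h0 : g x ∈ LinearMap.ker fT := by
      change fT (LocalizedModule.mk x 1) = 0
      rw [LocalizedModule.map_mk, LinearMap.mem_ker.mp hx, LocalizedModule.zero_mk]
    rw [← hW] at h0
    refine Submodule.span_le.mpr (fun w hw => ?_) h0
    refine (Submodule.mem_localized' ..).mpr ⟨k ⟨w, hw⟩, Submodule.subset_span ⟨_, rfl⟩, t ⟨w, hw⟩, ?_⟩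
    rw [IsLocalizedModule.mk'_eq_iff, show t ⟨w, hw⟩ • w = t ⟨w, hw⟩ • LocalizedModule.mk (k ⟨w, hw⟩) (t ⟨w, hw⟩) from congrArg _ (ht ⟨w, hw⟩),
      Submonoid.smul_def, LocalizedModule.smul'_mk]
    exact (LocalizedModule.mk_cancel _ _).symm
  obtain ⟨m, hm, r, hr⟩ := h1
  rw [IsLocalizedModule.mk'_eq_iff, Submonoid.smul_def, ← map_smul] at hr
  obtain ⟨c, hc⟩ := (IsLocalizedModule.eq_iff_exists T g).mp hr
  refine ⟨c.1 * r.1, T.mul_mem c.2 r.2, ?_⟩
  rw [mul_smul, show c.1 • r.1 • x = c.1 • m from hc.symm]
  exact K'.smul_mem _ hm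


/-- Let `S = R[x_1, …, x_n]` and `M` a finite `S`-module, flat over `R`, such that for every prime `𝔭`
of `R` the localization `M_𝔭` is finitely presented over `S_𝔭`. If `R` embeds into the product of
finitely many of its local rings, then `M` is finitely presented over `S`. -/
theorem result {R : Type u} [CommRing R] (n : ℕ)
    {M : Type u} [AddCommGroup M] [Module (MvPolynomial (Fin n) R) M] [Module R M]
    [IsScalarTower R (MvPolynomial (Fin n) R) M] [Module.Finite (MvPolynomial (Fin n) R) M] [Module.Flat R M]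
    (s : Finset (PrimeSpectrum R))
    (hs : Function.Injective fun r : R => fun p : s => algebraMap R (Localization.AtPrime p.1.asIdeal) r)
    (hloc : ∀ (p : Ideal R) [p.IsPrime],
      Module.FinitePresentation
        (Localization (Algebra.algebraMapSubmonoid (MvPolynomial (Fin n) R) p.primeCompl))
        (LocalizedModule (Algebra.algebraMapSubmonoid (MvPolynomial (Fin n) R) p.primeCompl) M)) :
    Module.FinitePresentation (MvPolynomial (Fin n) R) M := by
  classical
  let S := MvPolynomial (Fin n) R
  obtain ⟨r, f, hf⟩ := Module.Finite.exists_fin' S M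
  have hK : ∀ p : PrimeSpectrum R, ∃ K' : Submodule S (Fin r → S), K'.FG ∧ K' ≤ LinearMap.ker f ∧
      ∀ k ∈ LinearMap.ker f, ∃ a, a ∉ p.asIdeal ∧ a • k ∈ K' := fun p => by
    haveI := hloc p.asIdeal
    obtain ⟨K', h1, h2, h3⟩ := exists_fg_submodule (Algebra.algebraMapSubmonoid S p.asIdeal.primeCompl) f hf
    refine ⟨K', h1, h2, fun k hk => ?_⟩
    obtain ⟨_, ⟨a, ha, rfl⟩, h⟩ := h3 k hk
    exact ⟨a, ha, by rwa [← algebraMap_smul S a k]⟩
  choose K' hfg hle hkill using hK
  -- near every prime the relations are finitely generated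
  have hnbhd : ∀ Q : PrimeSpectrum S, ∃ (K1 : Submodule S (Fin r → S)) (g : S), K1.FG ∧ K1 ≤ LinearMap.ker f ∧
      g ∉ Q.asIdeal ∧ ∀ k ∈ LinearMap.ker f, ∃ m : ℕ, g ^ m • k ∈ K1 := by
    intro Q
    let p : PrimeSpectrum R := ⟨Q.asIdeal.comap (algebraMap R S), inferInstance⟩
    let K1 : Submodule S (Fin r → S) := s.sup K' ⊔ K' p
    have hK1 : K1.FG := (Submodule.fg_finset_sup s K' fun q _ => hfg q).sup (hfg p)
    have hK1le : K1 ≤ LinearMap.ker f := sup_le (Finset.sup_le fun q _ => hle q) (hle p)
    let N := (Fin r → S) ⧸ K1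
    haveI : Module.FinitePresentation S N :=
      Module.finitePresentation_of_surjective K1.mkQ K1.mkQ_surjective (by rw [Submodule.ker_mkQ]; exact hK1)
    let π : N →ₗ[S] M := K1.liftQ f hK1le
    let U := {q : PrimeSpectrum S | Module.Flat R (LocalizedModule q.asIdeal.primeCompl N)}
    have hQU : Q ∈ U := by
      let T := Q.asIdeal.primeCompl
      let πT : LocalizedModule T N →ₗ[Localization T] LocalizedModule T M := LocalizedModule.map T π
      have hsurj : Function.Surjective πT := LocalizedModule.map_surjective T π fun m => by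
        obtain ⟨v, rfl⟩ := hf m
        exact ⟨K1.mkQ v, rfl⟩
      have hinj : Function.Injective πT := by
        rw [injective_iff_map_eq_zero]
        intro z hz
        induction z using LocalizedModule.induction_on with
        | h z t =>
          rw [LocalizedModule.map_mk, ← LocalizedModule.zero_mk t, LocalizedModule.mk_eq] at hz
          obtain ⟨u, hu⟩ := hz
          obtain ⟨v, rfl⟩ := K1.mkQ_surjective z
          have hv : ((u * t : T) : S) • v ∈ LinearMap.ker f := by
            rw [LinearMap.mem_ker, map_smul]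
            rw [show π (K1.mkQ v) = f v from rfl] at hu
            simpa [mul_smul, Submonoid.smul_def] using hu
          obtain ⟨a, ha, hav⟩ := hkill p _ hv
          rw [← LocalizedModule.zero_mk t, LocalizedModule.mk_eq]
          refine ⟨⟨algebraMap R S a, ha⟩ * u, ?_⟩
          rw [smul_zero, smul_zero, ← mul_smul, Submonoid.smul_def, ← map_smul, Submodule.mkQ_apply,
            Submodule.Quotient.mk_eq_zero, mul_assoc, Submonoid.coe_mul, mul_smul]
          rw [algebraMap_smul]
          exact (le_sup_right : K' p ≤ K1) hav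
      haveI : Module.Flat R (LocalizedModule T M) :=
        Groth.Agent.InjFibre.flat_localized T (LocalizedModule.mkLinearMap T M)
      exact Module.Flat.of_linearEquiv ((LinearEquiv.ofBijective πT ⟨hinj, hsurj⟩).restrictScalars R)
    obtain ⟨_, ⟨g, rfl⟩, hgQ, hgU⟩ := PrimeSpectrum.isTopologicalBasis_basic_opens.exists_subset_of_mem_open hQU
      (Groth.Agent.S0387.result (R := R) (S := S) (M := N))
    refine ⟨K1, g, hK1, hK1le, hgQ, fun k hk => ?_⟩
    let I : Ideal S := K1.comap (LinearMap.toSpanSingleton S (Fin r → S) k)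
    suffices g ∈ I.radical from this
    rw [Ideal.radical_eq_sInf, Ideal.mem_sInf]
    rintro Q' ⟨hIQ, hQ'⟩
    by_contra hg
    haveI : Module.Flat R (LocalizedModule Q'.primeCompl N) := hgU (a := ⟨Q', hQ'⟩) hg
    have h0 : LocalizedModule.mkLinearMap Q'.primeCompl N (K1.mkQ k) = 0 := by
      refine eq_zero_of_forall s hs _ fun q hq => ?_
      obtain ⟨a, ha, hak⟩ := hkill q k hk
      refine ⟨a, ha, ?_⟩
      rw [← LinearMap.map_smul_of_tower, ← LinearMap.map_smul_of_tower, Submodule.mkQ_apply,
        (Submodule.Quotient.mk_eq_zero K1).mpr ((le_sup_left : s.sup K' ≤ K1) ((Finset.le_sup (f := K') hq) hak)), map_zero]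
    obtain ⟨⟨u, hu⟩, huk⟩ := (IsLocalizedModule.eq_zero_iff Q'.primeCompl _).mp h0
    rw [Submonoid.mk_smul, ← map_smul, Submodule.mkQ_apply, Submodule.Quotient.mk_eq_zero] at huk
    exact hu (hIQ huk)
  choose K1 g hfg1 hle1 hgQ hK1 using hnbhd
  obtain ⟨t, ht⟩ := isCompact_univ.elim_finite_subcover
    (fun Q => (PrimeSpectrum.basicOpen (g Q) : Set (PrimeSpectrum S))) (fun Q => (PrimeSpectrum.basicOpen _).isOpen)
    (fun Q _ => Set.mem_iUnion.2 ⟨Q, hgQ Q⟩)
  refine Module.finitePresentation_of_surjective f hf ?_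
  have hker : LinearMap.ker f = t.sup K1 := by
    refine le_antisymm (fun k hk => ?_) (Finset.sup_le fun Q _ => hle1 Q)
    let I : Ideal S := (t.sup K1).comap (LinearMap.toSpanSingleton S (Fin r → S) k)
    suffices (1 : S) ∈ I by simpa [I] using this
    rw [← Ideal.eq_top_iff_one]
    by_contra htop
    obtain ⟨Q', hQ', hIQ⟩ := Ideal.exists_le_maximal I htop
    obtain ⟨Q, hQt, hQ⟩ := Set.mem_iUnion₂.mp (ht (Set.mem_univ (⟨Q', hQ'.isPrime⟩ : PrimeSpectrum S)))
    obtain ⟨m, hm⟩ := hK1 Q k hk
    exact hQ (hQ'.isPrime.mem_of_pow_mem m (hIQ ((Finset.le_sup (f := K1) hQt) hm)))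
  rw [hker]
  exact Submodule.fg_finset_sup t K1 fun Q _ => hfg1 Q

end Groth.Agent.S2050
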