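import Groth.Statements.S2055
import Groth.Agent.ExtFlat.Torsion

set_option autoImplicit false
universe u
open CAlg CategoryTheory TensorProduct

namespace Groth.Agent.S2055

open TensorProduct in
/-- Let `R → S` be flat and `I ⊆ R` a finitely generated ideal with `R/I → S/IS` bijective. If one of
the `R`-modules `M`, `N` has every element killed by a power of `I`, then base change of linear maps
`Hom_R(M, N) → Hom_S(S ⊗ M, S ⊗ N)` is bijective. -/
theorem result {R S M N : Type u} [CommRing R] [CommRing S]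
    [Algebra R S] [Module.Flat R S] (I : Ideal R) (hI : I.FG)
    (hq : Function.Bijective (algebraMap (R ⧸ I) (S ⧸ I.map (algebraMap R S))))
    [AddCommGroup M] [Module R M] [AddCommGroup N] [Module R N]
    (hMN : (∀ x : M, ∃ n : ℕ, ∀ a ∈ I ^ n, a • x = 0) ∨ (∀ y : N, ∃ n : ℕ, ∀ a ∈ I ^ n, a • y = 0)) :
    Function.Bijective (fun f : M →ₗ[R] N => LinearMap.baseChange S f) := by
  have hs : Function.Surjective ((Ideal.Quotient.mk (I.map (algebraMap R S))).comp (algebraMap R S)) := fun y => by
    obtain ⟨x, rfl⟩ := hq.2 y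
    obtain ⟨a, rfl⟩ := Ideal.Quotient.mk_surjective x
    exact ⟨a, rfl⟩
  have hk : RingHom.ker ((Ideal.Quotient.mk (I.map (algebraMap R S))).comp (algebraMap R S)) = I := by
    ext a
    refine ⟨fun ha => Ideal.Quotient.eq_zero_iff_mem.1 (hq.1 ?_), fun ha => ?_⟩
    · exact (show algebraMap (R ⧸ I) (S ⧸ I.map (algebraMap R S)) (Ideal.Quotient.mk I a) = 0 from ha).trans (map_zero _).symm
    · exact Ideal.Quotient.eq_zero_iff_mem.2 (Ideal.mem_map_of_mem _ ha)
  let e := LinearMap.liftBaseChangeEquiv (R := R) (A := S) (M := M) (N := S ⊗[R] N)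
  suffices h : Function.Bijective fun f : M →ₗ[R] N => (TensorProduct.mk R S N 1).comp f by
    have : (fun f : M →ₗ[R] N => LinearMap.baseChange S f) =
        e ∘ fun f : M →ₗ[R] N => (TensorProduct.mk R S N 1).comp f :=
      funext fun f => TensorProduct.AlgebraTensorModule.ext fun s m => by
        simp [e, TensorProduct.smul_tmul']
    rw [this]
    exact e.bijective.comp h
  have key : ∀ (T : Type u) [AddCommGroup T] [Module R T], (∀ x : T, ∃ n : ℕ, ∀ a ∈ I ^ n, a • x = 0) →
      Function.Bijective fun f : T →ₗ[R] N => (TensorProduct.mk R S N 1).comp f := by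
    intro T _ _ hT
    have hb := ExtFlat.bij_zero (B := S) I hI hs hk (ModuleCat.of R T) hT (ModuleCat.of R N)
    refine ⟨fun f g h => ?_, fun g => ?_⟩
    · have h' : Abelian.Ext.mk₀ (ModuleCat.ofHom f) = Abelian.Ext.mk₀ (ModuleCat.ofHom g) := hb.1 (by
        simp only [ExtFlat.pc, Abelian.Ext.mk₀_comp_mk₀]
        exact congrArg Abelian.Ext.mk₀ (ModuleCat.hom_ext h))
      exact congrArg ModuleCat.Hom.hom ((Abelian.Ext.mk₀_bijective _ _).1 h')
    · obtain ⟨x, hx⟩ := hb.surj (Abelian.Ext.mk₀ (ModuleCat.ofHom g))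
      obtain ⟨f, rfl⟩ := (Abelian.Ext.mk₀_bijective _ _).2 x
      rw [ExtFlat.pc, Abelian.Ext.mk₀_comp_mk₀] at hx
      exact ⟨f.hom, congrArg ModuleCat.Hom.hom ((Abelian.Ext.mk₀_bijective _ _).1 hx)⟩
  rcases hMN with hM | hN
  · exact key M hM
  · have hBN : ∀ z : S ⊗[R] N, ∃ n : ℕ, ∀ a ∈ I ^ n, a • z = 0 := fun z => by
      induction z using TensorProduct.induction_on with
      | zero => exact ⟨0, fun a _ => smul_zero a⟩
      | tmul s x =>
        obtain ⟨n, hn⟩ := hN x
        exact ⟨n, fun a ha => by rw [← TensorProduct.tmul_smul, hn a ha, TensorProduct.tmul_zero]⟩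
      | add y z hy hz =>
        obtain ⟨n, hn⟩ := hy
        obtain ⟨k, hk'⟩ := hz
        exact ⟨n + k, fun a ha => by
          rw [smul_add, hn a (Ideal.pow_le_pow_right (Nat.le_add_right n k) ha),
            hk' a (Ideal.pow_le_pow_right (Nat.le_add_left k n) ha), add_zero]⟩
    obtain ⟨r, hr⟩ := (key (S ⊗[R] N) hBN).2 LinearMap.id
    have hr' : r.comp (TensorProduct.mk R S N 1) = LinearMap.id := (key N hN).1 (by
      change (TensorProduct.mk R S N 1).comp (r.comp _) = (TensorProduct.mk R S N 1).comp LinearMap.id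
      rw [← LinearMap.comp_assoc, show (TensorProduct.mk R S N 1).comp r = LinearMap.id from hr,
        LinearMap.id_comp, LinearMap.comp_id])
    refine ⟨fun f g h => ?_, fun g => ⟨r.comp g, ?_⟩⟩
    · calc f = r.comp ((TensorProduct.mk R S N 1).comp f) := by rw [← LinearMap.comp_assoc, hr', LinearMap.id_comp]
        _ = r.comp ((TensorProduct.mk R S N 1).comp g) := congrArg r.comp h
        _ = g := by rw [← LinearMap.comp_assoc, hr', LinearMap.id_comp]
    · change (TensorProduct.mk R S N 1).comp (r.comp g) = g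
      rw [← LinearMap.comp_assoc, show (TensorProduct.mk R S N 1).comp r = LinearMap.id from hr, LinearMap.id_comp]

end Groth.Agent.S2055
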