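import Groth.Statements.S2056
import Mathlib.LinearAlgebra.TensorProduct.RightExactness
import Mathlib.LinearAlgebra.TensorProduct.Finiteness
import Mathlib.Algebra.Module.FinitePresentation
import Mathlib.LinearAlgebra.FreeModule.Finite.Basic
import Mathlib.LinearAlgebra.Finsupp.LSum

set_option autoImplicit false
universe u
open CAlg

namespace Groth.Agent.S2056

/-- A linear map of `R`-modules is universally injective (injective after tensoring with any module) if
and only if it is injective after tensoring with every finitely presented module. -/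
theorem result {R M N : Type u} [CommRing R] [AddCommGroup M]
    [Module R M] [AddCommGroup N] [Module R N] (f : M →ₗ[R] N) :
    CAlgX.UniversallyInjective R f ↔
      ∀ (Q : Type u) [AddCommGroup Q] [Module R Q], Module.FinitePresentation R Q →
        Function.Injective (f.rTensor Q) := by
  classical
  constructor
  · intro h Q _ _ _
    exact h Q
  · intro h Q _ _
    have key : ∀ x : TensorProduct R M Q, f.rTensor Q x = 0 → x = 0 := by
      intro x hx
      let π : (Q →₀ R) →ₗ[R] Q := Finsupp.linearCombination R id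
      have hπ : Function.Surjective π := fun q => ⟨Finsupp.single q 1, by simp [π]⟩
      obtain ⟨y, hy⟩ := LinearMap.lTensor_surjective M hπ x
      let z := f.rTensor (Q →₀ R) y
      have hz : π.lTensor N z = 0 := by
        change π.lTensor N (f.rTensor (Q →₀ R) y) = 0
        rw [← LinearMap.comp_apply, LinearMap.lTensor_comp_rTensor, ← LinearMap.rTensor_comp_lTensor,
          LinearMap.comp_apply, hy, hx]
      obtain ⟨w, hw⟩ := ((@lTensor_exact R (LinearMap.ker π) (Q →₀ R) Q _ _ _ _ _ _ _ (Submodule.subtype _) π N _ _ (LinearMap.exact_subtype_ker_map π) hπ) z).1 hz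
      obtain ⟨K₀, hK₀, hwK⟩ := TensorProduct.exists_finite_submodule_right_of_setFinite {w} (Set.finite_singleton w)
      obtain ⟨w₀, hw₀⟩ := hwK rfl
      obtain ⟨S, hS, hyS⟩ := TensorProduct.exists_finite_submodule_right_of_setFinite {y} (Set.finite_singleton y)
      obtain ⟨y₁, hy₁⟩ := hyS rfl
      obtain ⟨gS, hgS⟩ := Module.Finite.iff_fg.1 hS
      obtain ⟨gK, hgK⟩ := Module.Finite.iff_fg.1 hK₀
      let J : Finset Q := (gS.biUnion fun v => v.support) ∪ (gK.biUnion fun v => v.1.support)
      let ι : (J →₀ R) →ₗ[R] (Q →₀ R) := Finsupp.lmapDomain R R Subtype.val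
      let r : (Q →₀ R) →ₗ[R] (J →₀ R) := Finsupp.lcomapDomain Subtype.val Subtype.val_injective
      have hιr : ∀ v : Q →₀ R, v.support ⊆ J → ι (r v) = v := fun v hv =>
        Finsupp.mapDomain_comapDomain Subtype.val Subtype.val_injective v
          (by rw [Subtype.range_coe]; exact hv)
      have hS' : ∀ v ∈ S, ι (r v) = v := by
        have : S ≤ LinearMap.eqLocus (ι ∘ₗ r) LinearMap.id := by
          rw [← hgS, Submodule.span_le]
          intro v hv
          exact hιr v fun j hj => Finset.mem_union_left _ (Finset.mem_biUnion.2 ⟨v, hv, hj⟩)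
        exact fun v hv => this hv
      have hK' : ∀ v ∈ K₀, ι (r v.1) = v.1 := by
        have : K₀ ≤ LinearMap.eqLocus ((ι ∘ₗ r) ∘ₗ (LinearMap.ker π).subtype) (LinearMap.ker π).subtype := by
          rw [← hgK, Submodule.span_le]
          intro v hv
          exact hιr v.1 fun j hj => Finset.mem_union_right _ (Finset.mem_biUnion.2 ⟨v, hv, hj⟩)
        exact fun v hv => this hv
      let ρ : K₀ →ₗ[R] (J →₀ R) := r ∘ₗ (LinearMap.ker π).subtype ∘ₗ K₀.subtype
      let K' := LinearMap.range ρ
      haveI : Module.Finite R K₀ := hK₀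
      haveI : Module.Finite R K' := Module.Finite.range ρ
      let σ : (J →₀ R) →ₗ[R] (J →₀ R) ⧸ K' := K'.mkQ
      haveI : Module.FinitePresentation R ((J →₀ R) ⧸ K') :=
        Module.finitePresentation_of_surjective σ (Submodule.mkQ_surjective K')
          (by rw [Submodule.ker_mkQ]; exact Module.Finite.iff_fg.1 inferInstance)
      have hle : K' ≤ LinearMap.ker (π ∘ₗ ι) := by
        rintro _ ⟨v, rfl⟩
        change π (ι (r v.1.1)) = 0
        rw [hK' v.1 v.2]
        exact v.1.2
      have hy0 : (ι ∘ₗ r).lTensor M y = y := by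
        rw [← hy₁, ← LinearMap.comp_apply, ← LinearMap.lTensor_comp]
        congr 2
        exact LinearMap.ext fun v => hS' v.1 v.2
      let x₀ : TensorProduct R M ((J →₀ R) ⧸ K') := (σ ∘ₗ r).lTensor M y
      have hx₀ : f.rTensor ((J →₀ R) ⧸ K') x₀ = 0 := by
        change f.rTensor _ ((σ ∘ₗ r).lTensor M y) = 0
        rw [← LinearMap.comp_apply, LinearMap.rTensor_comp_lTensor, ← LinearMap.lTensor_comp_rTensor,
          LinearMap.comp_apply]
        change (σ ∘ₗ r).lTensor N z = 0
        rw [← hw, ← hw₀, ← LinearMap.comp_apply, ← LinearMap.lTensor_comp, ← LinearMap.comp_apply, ← LinearMap.lTensor_comp]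
        have : ((σ ∘ₗ r) ∘ₗ (LinearMap.ker π).subtype) ∘ₗ K₀.subtype = 0 :=
          LinearMap.ext fun v => (Submodule.Quotient.mk_eq_zero K').2 ⟨v, rfl⟩
        rw [this, LinearMap.lTensor_zero, LinearMap.zero_apply]
      have h0 : x₀ = 0 := h _ inferInstance (hx₀.trans (map_zero _).symm)
      have : (K'.liftQ (π ∘ₗ ι) hle).lTensor M x₀ = x := by
        change (K'.liftQ (π ∘ₗ ι) hle).lTensor M ((σ ∘ₗ r).lTensor M y) = x
        rw [← LinearMap.comp_apply, ← LinearMap.lTensor_comp, ← LinearMap.comp_assoc,
          Submodule.liftQ_mkQ, LinearMap.comp_assoc, LinearMap.lTensor_comp, LinearMap.comp_apply, hy0, hy]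
      rw [← this, h0, map_zero]
    exact (injective_iff_map_eq_zero _).2 key

end Groth.Agent.S2056
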