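import Groth.Statements.S2057
import Groth.Agent.MLMod.Pure
import Mathlib.LinearAlgebra.TensorProduct.RightExactness
import Mathlib.LinearAlgebra.TensorProduct.Pi

set_option autoImplicit false
universe u
open CAlg Groth.Agent
open scoped TensorProduct

namespace Groth.Agent.S2057

/-- An injective linear map `f : M₁ → M₂` is universally injective if and only if: whenever elements
`x_i` of `M₁` satisfy `f(x_i) = Σ_j a_{ij} y_j` for some `y_j ∈ M₂` and scalars `a_{ij}`, there are
`z_j ∈ M₁` with `x_i = Σ_j a_{ij} z_j`. -/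
theorem result {R M₁ M₂ : Type u} [CommRing R] [AddCommGroup M₁]
    [Module R M₁] [AddCommGroup M₂] [Module R M₂] (f : M₁ →ₗ[R] M₂) (hf : Function.Injective f) :
    CAlgX.UniversallyInjective R f ↔
      ∀ (n m : ℕ) (x : Fin n → M₁) (y : Fin m → M₂) (a : Fin n → Fin m → R),
        (∀ i, f (x i) = ∑ j, a i j • y j) → ∃ z : Fin m → M₁, ∀ i, x i = ∑ j, a i j • z j := by
  classical
  refine ⟨fun h n m x y a hxy => ?_, fun h => MLMod.universallyInjective_of_solvable f fun n m a c x hx => h n m c x a hx⟩
  let col : (Fin m → R) →ₗ[R] (Fin n → R) := ∑ j, (LinearMap.proj j).smulRight (fun i => a i j)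
  let π := (LinearMap.range col).mkQ
  let t : M₁ ⊗[R] (Fin n → R) := ∑ i, x i ⊗ₜ Pi.single i 1
  have ht : π.lTensor M₁ t = 0 := by
    apply h
    rw [map_zero]
    simp only [t, map_sum, LinearMap.lTensor_tmul, LinearMap.rTensor_tmul, hxy, TensorProduct.sum_tmul, TensorProduct.smul_tmul]
    rw [Finset.sum_comm]
    refine Finset.sum_eq_zero fun j _ => ?_
    rw [← TensorProduct.tmul_sum]
    have hj : ∑ i, a i j • π (Pi.single i 1) = 0 := by
      simp only [← map_smul, ← map_sum]
      refine (Submodule.Quotient.mk_eq_zero _).2 ⟨Pi.single j 1, ?_⟩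
      funext i
      simp [col, Finset.sum_apply, Pi.single_apply, ite_apply]
    rw [hj, TensorProduct.tmul_zero]
  obtain ⟨w, hw⟩ := (lTensor_exact M₁ (LinearMap.exact_map_mkQ_range col) (Submodule.mkQ_surjective _) t).1 ht
  let e := fun k => TensorProduct.piScalarRight R R M₁ (Fin k)
  refine ⟨fun j => e m w j, fun i => ?_⟩
  have hnat : ∀ w, e n (col.lTensor M₁ w) i = ∑ j, a i j • e m w j := by
    intro w
    induction w with
    | zero => simp
    | add p q hp hq => simp only [map_add, Pi.add_apply, hp, hq, smul_add, Finset.sum_add_distrib]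
    | tmul p q => simp [e, col, Finset.sum_apply, smul_smul, Finset.sum_smul, mul_comm]
  rw [← hnat, hw]
  simp [e, t, Finset.sum_apply, Pi.single_apply]

end Groth.Agent.S2057
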