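import Groth.Statements.S2058
import Groth.Prelude.Def_CAlg
import Mathlib

set_option autoImplicit false
universe u
open CAlg

namespace Groth.Agent.S2058

open IsLocalRing

lemma exists_regular_mem {R : Type u} [CommRing R] [IsLocalRing R] [IsNoetherianRing R] {M : Type u}
    [AddCommGroup M] [Module R M] [Module.Finite R M] (h : maximalIdeal R ∉ associatedPrimes R M) :
    ∃ x ∈ maximalIdeal R, IsSMulRegular M x := by
  by_contra hc
  push Not at hc
  have hsub : ((maximalIdeal R : Ideal R) : Set R) ⊆ ⋃ P ∈ associatedPrimes R M, (P : Set R) := by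
    rw [biUnion_associatedPrimes_eq_zero_divisors]
    intro x hx
    have := hc x hx
    rw [isSMulRegular_iff_right_eq_zero_of_smul] at this
    push Not at this
    obtain ⟨y, hy, hy0⟩ := this
    exact ⟨y, hy0, hy⟩
  obtain ⟨P, hP, hle⟩ := (Ideal.subset_union_prime_finite (associatedPrimes.finite R M) ⊥ ⊥
    fun P hP _ _ => IsAssociatedPrime.isPrime hP).1 hsub
  exact h ((maximalIdeal.isMaximal R).eq_of_le (IsAssociatedPrime.isPrime hP).ne_top hle ▸ hP)

lemma smul_top_ne {R : Type u} [CommRing R] [IsLocalRing R] :
    maximalIdeal R • (⊤ : Submodule R R) ≠ ⊤ := by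
  rw [Ideal.smul_top_eq_map, Algebra.algebraMap_self, Ideal.map_id]
  exact (maximalIdeal.isMaximal R).ne_top

/-- a socle element of `M` -/
lemma exists_socle {R : Type u} [CommRing R] [IsLocalRing R] [IsNoetherianRing R] {M : Type u} [AddCommGroup M]
    [Module R M] (h : maximalIdeal R ∈ associatedPrimes R M) :
    ∃ y : M, y ≠ 0 ∧ ∀ a ∈ maximalIdeal R, a • y = 0 := by
  obtain ⟨hp, y, hy⟩ := (isAssociatedPrime_iff_exists_injective_linearMap _ _).1 h
  refine ⟨y (Ideal.Quotient.mk _ 1), fun h0 => ?_, fun a ha => ?_⟩
  · exact hp.ne_top ((Ideal.eq_top_iff_one _).2 (Ideal.Quotient.eq_zero_iff_mem.1 (hy (h0.trans (map_zero y).symm))))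
  · rw [← map_smul]
    have : a • (Ideal.Quotient.mk (maximalIdeal R) 1) = 0 := by
      rw [← Ideal.Quotient.mk_eq_mk, ← Submodule.Quotient.mk_smul, Submodule.Quotient.mk_eq_zero]
      simpa using ha
    rw [this, map_zero]


/-- Let R be a Noetherian local ring which is not Artinian, is not a regular local ring of dimension
one, and has depth at most one. Then there is a finite ring map R → R' with R' ≠ 0, not bijective,
whose kernel and cokernel are killed by a power of the maximal ideal of R, such that the maximal
ideal of R is not an associated prime of the R-module R'. (This says that the four cases for a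
Noetherian local ring — Artinian, regular of dimension one, depth at least two, or admitting such a
map — cover everything; that they are mutually exclusive is not asserted.) -/
theorem result {R : Type u} [CommRing R] [IsLocalRing R] [IsNoetherianRing R]
    (h1 : ¬ IsArtinianRing R) (h2 : ¬ (IsRegularLocalRing R ∧ ringKrullDim R = 1))
    (h3 : LocCoh.depth R R ≤ 1) :
    ∃ (R' : Type u) (_ : CommRing R') (_ : Algebra R R'), Nontrivial R' ∧ Module.Finite R R' ∧
      ¬ Function.Bijective (algebraMap R R') ∧
      (∃ n : ℕ, (∀ x : R, algebraMap R R' x = 0 → ∀ a ∈ IsLocalRing.maximalIdeal R ^ n, a * x = 0) ∧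
        (∀ y : R', ∀ a ∈ IsLocalRing.maximalIdeal R ^ n, a • y ∈ Set.range (algebraMap R R'))) ∧
      IsLocalRing.maximalIdeal R ∉ associatedPrimes R R' := by
  classical
  have hnil : ∀ n : ℕ, maximalIdeal R ^ n ≠ ⊥ := fun n hn =>
    h1 ((isArtinianRing_iff_isNilpotent_maximalIdeal R).2 ⟨n, hn⟩)
  by_cases hass : maximalIdeal R ∈ associatedPrimes R R
  · let f : ℕ →o Ideal R :=
      { toFun := fun n => (⊥ : Ideal R).colon ((maximalIdeal R ^ n : Ideal R) : Set R)
        monotone' := fun a b hab => Submodule.colon_mono le_rfl (Ideal.pow_le_pow_right hab) }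
    obtain ⟨N, hN⟩ := monotone_stabilizes_iff_noetherian.2 ‹IsNoetherian R R› f
    have hmem : ∀ n x, x ∈ f n ↔ ∀ a ∈ maximalIdeal R ^ n, x * a = 0 := fun n x => by
      show x ∈ (⊥ : Ideal R).colon _ ↔ _
      rw [Submodule.mem_colon]
      simp
    have hNe : f N ≠ ⊤ := fun ht => hnil N (eq_bot_iff.2 fun a ha => by
      have := (hmem N 1).1 (ht ▸ Submodule.mem_top) a ha
      simpa using this)
    haveI : Nontrivial (R ⧸ f N) := Ideal.Quotient.nontrivial_iff.2 hNe
    refine ⟨R ⧸ f N, inferInstance, inferInstance, inferInstance, Module.Finite.quotient R _, fun hb => ?_,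
      ⟨N, fun x hx a ha => ?_, fun y a _ => ?_⟩, fun hR => ?_⟩
    · obtain ⟨z, hz0, hz⟩ := exists_socle hass
      have hz1 : z ∈ f 1 := (hmem 1 z).2 fun a ha => by
        rw [pow_one] at ha
        rw [mul_comm]
        exact hz a ha
      have hzN : z ∈ f N := by
        rcases le_total 1 N with h | h
        · exact f.monotone h hz1
        · rw [hN 1 h]; exact hz1
      exact hz0 (hb.1 (by rw [map_zero]; exact Ideal.Quotient.eq_zero_iff_mem.2 hzN))
    · rw [mul_comm]
      exact (hmem N x).1 (Ideal.Quotient.eq_zero_iff_mem.1 hx) a ha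
    · obtain ⟨y, rfl⟩ := Ideal.Quotient.mk_surjective y
      exact ⟨a * y, rfl⟩
    · obtain ⟨z, hz0, hz⟩ := exists_socle hR
      obtain ⟨z, rfl⟩ := Ideal.Quotient.mk_surjective z
      refine hz0 (Ideal.Quotient.eq_zero_iff_mem.2 ?_)
      have hz' : z ∈ f (N + 1) := (hmem (N + 1) z).2 fun b hb => by
        rw [pow_succ] at hb
        refine Submodule.mul_induction_on hb (fun c hc a ha => ?_) (fun c c' hc hc' => by rw [mul_add, hc, hc', add_zero])
        have h0 : a * z ∈ f N := Ideal.Quotient.eq_zero_iff_mem.1 (hz a ha)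
        have := (hmem N (a * z)).1 h0 c hc
        linear_combination this
      rwa [← hN (N + 1) N.le_succ] at hz'
  · obtain ⟨x, hx, hxr⟩ := exists_regular_mem hass
    have hassx : maximalIdeal R ∈ associatedPrimes R (QuotSMulTop x R) := by
      by_contra hc
      obtain ⟨z, hz, hzr⟩ := exists_regular_mem hc
      have hw : RingTheory.Sequence.IsWeaklyRegular R [x, z] := .cons hxr (.cons hzr (.nil R _))
      rw [LocCoh.depth, LocCoh.idealDepth, if_neg smul_top_ne] at h3
      have h4 := le_trans (le_iSup₂ (f := fun (rs : List R) (_ : RingTheory.Sequence.IsWeaklyRegular R rs ∧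
        ∀ r ∈ rs, r ∈ maximalIdeal R) => (rs.length : ℕ∞)) [x, z] ⟨hw, fun r hr => by
          rcases List.mem_cons.1 hr with rfl | hr
          · exact hx
          · exact List.mem_singleton.1 hr ▸ hz⟩) h3
      norm_num at h4
    obtain ⟨y, hy0, hy⟩ := exists_socle hassx
    obtain ⟨y, rfl⟩ := Submodule.Quotient.mk_surjective _ y
    have hymem : ∀ {r : R}, (Submodule.Quotient.mk r : QuotSMulTop x R) = 0 ↔ ∃ b, x * b = r := fun {r} => by
      rw [Submodule.Quotient.mk_eq_zero, Submodule.mem_smul_pointwise_iff_exists]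
      simp
    let L := Localization.Away x
    have hinj : Function.Injective (algebraMap R L) := by
      refine IsLocalization.injective L (M := Submonoid.powers x) (fun r hr => ?_)
      obtain ⟨k, rfl⟩ := hr
      exact pow_mem (mem_nonZeroDivisors_iff_right.2 fun w hw => isSMulRegular_iff_right_eq_zero_of_smul.1 hxr w (by rw [smul_eq_mul, mul_comm]; exact hw)) k
    let Mi : Submodule R L := Submodule.map (Algebra.linearMap R L) (maximalIdeal R)
    let S : Subalgebra R L :=
      { carrier := {z | ∀ w ∈ Mi, z * w ∈ Mi}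
        one_mem' := fun w hw => by rwa [one_mul]
        mul_mem' := fun {a b} ha hb w hw => by rw [mul_assoc]; exact ha _ (hb w hw)
        zero_mem' := fun w _ => by rw [zero_mul]; exact Submodule.zero_mem _
        add_mem' := fun {a b} ha hb w hw => by rw [add_mul]; exact Submodule.add_mem _ (ha w hw) (hb w hw)
        algebraMap_mem' := fun r w hw => by rw [← Algebra.smul_def]; exact Submodule.smul_mem _ _ hw }
    have hmi : ∀ {a : R}, a ∈ maximalIdeal R → algebraMap R L a ∈ Mi := fun {a} ha => ⟨a, ha, rfl⟩
    have hsub : Subalgebra.toSubmodule S ≤ Submodule.span R {(IsLocalization.Away.invSelf x : L)} := by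
      intro z hz
      obtain ⟨a, -, ha⟩ := hz _ (hmi hx)
      refine Submodule.mem_span_singleton.2 ⟨a, ?_⟩
      rw [Algebra.smul_def, ← Algebra.linearMap_apply, ha, mul_assoc, IsLocalization.Away.mul_invSelf, mul_one]
    haveI hfin : Module.Finite R S := by
      have h5 : (Subalgebra.toSubmodule S).FG :=
        by
          haveI : IsNoetherian R (Submodule.span R {(IsLocalization.Away.invSelf x : L)}) := isNoetherian_of_fg_of_noetherian _ (Submodule.fg_span (Set.finite_singleton _))
          exact Submodule.FG.of_le_of_isNoetherian hsub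
      exact Module.Finite.iff_fg.2 h5
    have hyS : algebraMap R L y * IsLocalization.Away.invSelf x ∈ S := by
      rintro w ⟨a, ha, rfl⟩
      obtain ⟨b, hb⟩ := hymem.1 (show (Submodule.Quotient.mk (a * y) : QuotSMulTop x R) = 0 from hy a ha)
      refine ⟨b, ?_, ?_⟩
      · by_contra hbu
        obtain ⟨u, rfl⟩ : IsUnit b := by
          by_contra h6
          exact hbu h6
        have hmax : maximalIdeal R = Ideal.span {a} := by
          refine le_antisymm (fun c hc => ?_) ((Ideal.span_singleton_le_iff_mem _).2 ha)
          obtain ⟨d, hd⟩ := hymem.1 (show (Submodule.Quotient.mk (c * y) : QuotSMulTop x R) = 0 from hy c hc)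
          refine Ideal.mem_span_singleton'.2 ⟨d * ↑u⁻¹, ?_⟩
          have hxy : y * (a * (d * ↑u⁻¹) - c) = 0 := by
            have e2 : (u : R) * ↑u⁻¹ = 1 := u.mul_inv
            linear_combination hd - (d * ↑u⁻¹) * hb + (x * d) * e2
          have hyr : a * (d * ↑u⁻¹) - c = 0 := by
            refine isSMulRegular_iff_right_eq_zero_of_smul.1 hxr _ ?_
            have e2 : (u : R) * ↑u⁻¹ = 1 := u.mul_inv
            show x * (a * (d * ↑u⁻¹) - c) = 0
            linear_combination (a * ↑u⁻¹) * hxy + (↑u⁻¹ * (a * (d * ↑u⁻¹) - c)) * hb -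
              x * (a * (d * ↑u⁻¹) - c) * e2
          linear_combination hyr
        have hd1 : (1 : WithBot ℕ∞) ≤ ringKrullDim R := by
          by_contra hlt
          have h0 : Ring.KrullDimLE 0 R := by
            rw [Ring.krullDimLE_iff]
            obtain ⟨dd, hdd⟩ := WithBot.ne_bot_iff_exists.1 (ringKrullDim_ne_bot (R := R))
            rw [← hdd] at hlt ⊢
            have h7 : dd < 1 := WithBot.coe_lt_coe.1 (not_le.1 hlt)
            rw [Order.lt_one_iff] at h7
            simp [h7]
          exact h1 (isArtinianRing_iff_krullDimLE_zero.2 h0)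
        have hs : (maximalIdeal R).spanFinrank ≤ 1 := by
          rw [hmax]
          exact (Submodule.spanFinrank_span_le_ncard_of_finite (Set.finite_singleton a)).trans (by simp)
        have hs' : ((maximalIdeal R).spanFinrank : WithBot ℕ∞) ≤ 1 := by exact_mod_cast hs
        refine h2 ⟨IsRegularLocalRing.of_spanFinrank_maximalIdeal_le R (hs'.trans hd1), le_antisymm ?_ hd1⟩
        exact (ringKrullDim_le_spanFinrank_maximalIdeal R).trans hs'
      · show algebraMap R L b = algebraMap R L y * IsLocalization.Away.invSelf x * algebraMap R L a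
        have e1 : algebraMap R L x * IsLocalization.Away.invSelf x = 1 := IsLocalization.Away.mul_invSelf x
        have e3 : algebraMap R L x * algebraMap R L b = algebraMap R L a * algebraMap R L y := by
          rw [← map_mul, ← map_mul, hb]
        linear_combination (IsLocalization.Away.invSelf x : L) * e3 - algebraMap R L b * e1
    haveI : Nontrivial S := ⟨⟨0, 1, fun h0 => one_ne_zero (hinj (by
      rw [map_one, map_zero]; exact congrArg Subtype.val h0.symm) : (1 : R) = 0)⟩⟩
    refine ⟨S, inferInstance, inferInstance, inferInstance, hfin, fun hb => ?_,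
      ⟨1, fun r hr a _ => ?_, fun z a ha => ?_⟩, fun hR => ?_⟩
    · obtain ⟨r, hr⟩ := hb.2 ⟨_, hyS⟩
      refine hy0 (hymem.2 ⟨r, hinj ?_⟩)
      have hr' : algebraMap R L r = algebraMap R L y * IsLocalization.Away.invSelf x := congrArg Subtype.val hr
      have e1 : algebraMap R L x * IsLocalization.Away.invSelf x = 1 := IsLocalization.Away.mul_invSelf x
      rw [map_mul]
      linear_combination (algebraMap R L x) * hr' + (algebraMap R L y) * e1
    · have : r = 0 := hinj ((congrArg Subtype.val hr).trans (map_zero _).symm)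
      rw [this, mul_zero]
    · rw [pow_one] at ha
      obtain ⟨c, -, hc⟩ := z.2 _ (hmi ha)
      exact ⟨c, Subtype.ext (hc.trans (by rw [Subalgebra.coe_smul, Algebra.smul_def, mul_comm]))⟩
    · obtain ⟨z, hz0, hz⟩ := exists_socle hR
      refine hz0 (Subtype.ext ?_)
      have h8 := congrArg Subtype.val (hz x hx)
      rw [Subalgebra.coe_smul, Algebra.smul_def] at h8
      exact ((IsLocalization.Away.algebraMap_isUnit (S := L) x).mul_right_eq_zero).1 h8

end Groth.Agent.S2058
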