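import Groth.Statements.S2059
import Mathlib.RingTheory.Algebraic.LinearIndependent
import Mathlib.RingTheory.Jacobson.Ring
import Mathlib.RingTheory.MvPolynomial.Basic
import Mathlib.LinearAlgebra.Dimension.Finite
import Mathlib.RingTheory.Localization.Away.Basic
import Mathlib.RingTheory.Algebraic.Integral
import Mathlib.SetTheory.Cardinal.Finsupp

set_option autoImplicit false
universe u
open CAlg

namespace Groth.Agent.S2059

/-- Let `k` be a field and `S` a `k`-algebra generated by a set of cardinality smaller than that of `k`.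
Then for every maximal ideal `𝔪` of `S` the residue field `S/𝔪` is algebraic over `k`, and `S` is a
Jacobson ring. -/
theorem result {k S : Type u} [Field k] [CommRing S] [Algebra k S]
    (s : Set S) (hs : Algebra.adjoin k s = ⊤) (hcard : Cardinal.mk s < Cardinal.mk k) :
    (∀ (m : Ideal S) [m.IsMaximal], Algebra.IsAlgebraic k (S ⧸ m)) ∧ IsJacobsonRing S := by
  classical
  have halg : ∀ (K : Type u) [Field K] [Algebra k K] (t : Set K), Algebra.adjoin k t = ⊤ →
      Cardinal.mk t < Cardinal.mk k → Algebra.IsAlgebraic k K := by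
    intro K _ _ t ht htc
    rcases t.finite_or_infinite with hfin | hinf
    · haveI : Algebra.FiniteType k K := ⟨⟨hfin.toFinset, by simpa using ht⟩⟩
      haveI : Module.Finite k K := finite_of_finite_type_of_isJacobsonRing k K
      exact Algebra.IsAlgebraic.of_finite k K
    · constructor
      intro x
      by_contra hx
      have hx' : Transcendental k x := hx
      have h1 := (hx'.linearIndependent_sub_inv).cardinal_le_rank
      haveI : Infinite t := hinf.to_subtype
      let f : MvPolynomial t k →ₐ[k] K := MvPolynomial.aeval (Subtype.val : t → K)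
      have hf : Function.Surjective f := by
        rw [← AlgHom.range_eq_top, ← Algebra.adjoin_range_eq_range_aeval]
        simp [ht]
      have h2 := f.toLinearMap.rank_le_of_surjective hf
      rw [← (MvPolynomial.basisMonomials t k).mk_eq_rank''] at h2
      have h3 : Cardinal.mk (t →₀ ℕ) = Cardinal.mk t := by
        rw [Cardinal.mk_finsupp_nat, max_eq_left (Cardinal.aleph0_le_mk t)]
      exact absurd (h1.trans h2) (by rw [h3]; exact not_le.mpr htc)
  have hmax : ∀ (m : Ideal S) [m.IsMaximal], Algebra.IsAlgebraic k (S ⧸ m) := by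
    intro m _
    letI := Ideal.Quotient.field m
    refine halg (S ⧸ m) (Ideal.Quotient.mkₐ k m '' s) ?_ (Cardinal.mk_image_le.trans_lt hcard)
    rw [← AlgHom.map_adjoin, hs, Algebra.map_top, AlgHom.range_eq_top]
    exact Ideal.Quotient.mkₐ_surjective k m
  refine ⟨fun m _ => hmax m, ?_⟩
  rcases s.finite_or_infinite with hfin | hinf
  · haveI : Algebra.FiniteType k S := ⟨⟨hfin.toFinset, by simpa using hs⟩⟩
    exact isJacobsonRing_of_finiteType (A := k)
  rw [isJacobsonRing_iff_prime_eq]
  intro P hP
  refine le_antisymm ?_ Ideal.le_jacobson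
  intro f hf
  by_contra hfP
  let B := Localization.Away (Ideal.Quotient.mk P f)
  have hf0 : Ideal.Quotient.mk P f ≠ 0 := by rwa [Ne, Ideal.Quotient.eq_zero_iff_mem]
  haveI : Nontrivial B := by
    haveI : IsDomain B := IsLocalization.isDomain_localization (powers_le_nonZeroDivisors_of_noZeroDivisors hf0)
    infer_instance
  obtain ⟨M, hM⟩ := Ideal.exists_maximal B
  letI := Ideal.Quotient.field M
  let g : S →ₐ[k] B := (IsScalarTower.toAlgHom k (S ⧸ P) B).comp (Ideal.Quotient.mkₐ k P)
  let h : S →ₐ[k] B ⧸ M := (Ideal.Quotient.mkₐ k M).comp g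
  let inv : B := IsLocalization.Away.invSelf (Ideal.Quotient.mk P f)
  have hginv : g f * inv = 1 := IsLocalization.Away.mul_invSelf (Ideal.Quotient.mk P f)
  haveI : Algebra.IsAlgebraic k (B ⧸ M) := by
    refine halg (B ⧸ M) (Ideal.Quotient.mkₐ k M '' (insert inv (g '' s))) ?_ ?_
    · rw [← AlgHom.map_adjoin, show Algebra.adjoin k (insert inv (g '' s)) = ⊤ from ?_, Algebra.map_top, AlgHom.range_eq_top]
      · exact Ideal.Quotient.mkₐ_surjective k M
      · rw [eq_top_iff]
        rintro b -
        obtain ⟨n, a, hab⟩ := IsLocalization.Away.surj (Ideal.Quotient.mk P f) b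
        obtain ⟨a, rfl⟩ := Ideal.Quotient.mk_surjective a
        have hgm : ∀ x, g x ∈ Algebra.adjoin k (insert inv (g '' s)) := by
          intro x
          have : g x ∈ (Algebra.adjoin k s).map g := ⟨x, by rw [hs]; trivial, rfl⟩
          rw [AlgHom.map_adjoin] at this
          exact Algebra.adjoin_mono (Set.subset_insert _ _) this
        have : b = g a * inv ^ n := by
          have hab' : b * g f ^ n = g a := hab
          rw [← hab', mul_assoc, ← mul_pow, hginv, one_pow, mul_one]
        rw [this]
        exact mul_mem (hgm a) (pow_mem (Algebra.subset_adjoin (Set.mem_insert _ _)) n)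
    · refine Cardinal.mk_image_le.trans_lt (Cardinal.mk_insert_le.trans_lt ?_)
      refine lt_of_le_of_lt ?_ hcard
      refine (add_le_add Cardinal.mk_image_le le_rfl).trans ?_
      haveI : Infinite s := hinf.to_subtype
      exact (Cardinal.add_one_eq (Cardinal.aleph0_le_mk s)).le
  let Q := RingHom.ker h
  haveI : Q.IsPrime := RingHom.ker_isPrime _
  have hQmax : Q.IsMaximal := by
    haveI : Algebra.IsAlgebraic k h.range :=
      Algebra.IsAlgebraic.of_injective h.range.val Subtype.val_injective
    haveI : Algebra.IsIntegral k h.range := inferInstance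
    have : IsField h.range := isField_of_isIntegral_of_isField' (Field.toIsField k)
    apply Ideal.Quotient.maximal_of_isField
    exact MulEquiv.isField this (RingHom.quotientKerEquivRange (h : S →+* B ⧸ M)).toMulEquiv
  have hPQ : P ≤ Q := fun x hx => by
    simp only [Q, RingHom.mem_ker, h, g, AlgHom.comp_apply, Ideal.Quotient.mkₐ_eq_mk,
      Ideal.Quotient.eq_zero_iff_mem.mpr hx, map_zero]
  have hfQ : f ∈ Q := Submodule.mem_sInf.mp hf Q ⟨hPQ, hQmax⟩
  have := congrArg (Ideal.Quotient.mkₐ k M) hginv
  rw [map_mul, map_one, show Ideal.Quotient.mkₐ k M (g f) = 0 from hfQ, zero_mul] at this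
  exact zero_ne_one this

end Groth.Agent.S2059
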