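import Groth.Statements.S2060
import Groth.Agent.InfLift.SmallExt

set_option autoImplicit false
universe u
open CAlg

set_option backward.isDefEq.respectTransparency false

namespace Groth.Agent.S2060

/-- Let `R` be Noetherian, `S` of finite type over `R` and `𝔮` a prime of `S`. Then `R → S` is smooth at
`𝔮` if and only if for every surjection `B' → B` of Artinian local `R`-algebras whose kernel is
principal and killed by the maximal ideal of `B'`, every `R`-algebra map `S → B` under which the
maximal ideal pulls back to `𝔮` lifts to `B'`. -/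
theorem result {R S : Type u} [CommRing R] [IsNoetherianRing R]
    [CommRing S] [Algebra R S] [Algebra.FiniteType R S] (q : Ideal S) [q.IsPrime] :
    Algebra.IsSmoothAt R q ↔
      ∀ (B' B : Type u) [CommRing B'] [CommRing B] [IsLocalRing B'] [IsLocalRing B]
        [IsArtinianRing B'] [IsArtinianRing B] [Algebra R B'] [Algebra R B] (π : B' →ₐ[R] B),
        Function.Surjective π →
        (∃ t : B', RingHom.ker π.toRingHom = Ideal.span {t} ∧
          ∀ a ∈ IsLocalRing.maximalIdeal B', a * t = 0) →
        ∀ g : S →ₐ[R] B, (IsLocalRing.maximalIdeal B).comap g = q →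
          ∃ g' : S →ₐ[R] B', π.comp g' = g := by
  constructor
  · intro h B' B _ _ _ _ _ _ _ _ π hπ ⟨t, ht, hann⟩ g hg
    let gq : Localization.AtPrime q →ₐ[R] B := IsLocalization.liftAlgHom (M := q.primeCompl) (f := g) fun s => by
      rw [← IsLocalRing.notMem_maximalIdeal]
      exact fun hs => s.2 (hg ▸ hs)
    have : Algebra.FormallySmooth R (Localization.AtPrime q) := h
    have htm : t ∈ IsLocalRing.maximalIdeal B' := by
      refine IsLocalRing.le_maximalIdeal (RingHom.ker_ne_top π.toRingHom) ?_
      rw [ht]; exact Ideal.mem_span_singleton_self t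
    have hnil : IsNilpotent (RingHom.ker π.toRingHom) := ⟨2, by
      rw [ht, pow_two, Ideal.span_singleton_mul_span_singleton, hann t htm, Ideal.zero_eq_bot,
        Ideal.span_singleton_eq_bot.2 rfl]⟩
    refine ⟨(Algebra.FormallySmooth.liftOfSurjective gq π hπ hnil).comp (IsScalarTower.toAlgHom R S _),
      AlgHom.ext fun x => ?_⟩
    rw [AlgHom.comp_apply, AlgHom.comp_apply, Algebra.FormallySmooth.liftOfSurjective_apply]
    exact IsLocalization.lift_eq _ x
  · intro H
    exact Groth.Agent.InfLift.isSmoothAt_of_small_lift q fun B' B _ _ _ _ _ _ _ _ π hπ ht _ g hg _ =>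
      H B' B π hπ ht g hg

end Groth.Agent.S2060
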