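import Groth.Statements.S2061
import Groth.Agent.FibDepth.AB
import Groth.Agent.SerreReg.Regular
import Groth.Agent.SerreReg.CM

set_option autoImplicit false
universe u
open CategoryTheory
open CAlg Groth.Agent CategoryTheory

namespace Groth.Agent.S2061

/-- For a Noetherian local ring `R` write `𝔪` for its maximal ideal and `κ` for its residue field. The
projective dimension of `κ` as an `R`-module is at least the `κ`-dimension of `𝔪/𝔪²`: if `κ` has
projective dimension less than `d` then `dim_κ 𝔪/𝔪² < d`. -/
theorem result {R : Type u} [CommRing R] [IsLocalRing R]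
    [IsNoetherianRing R] (d : ℕ)
    (hd : HasProjectiveDimensionLT (ModuleCat.of R (IsLocalRing.ResidueField R)) d) :
    Module.finrank (IsLocalRing.ResidueField R) (IsLocalRing.CotangentSpace R) < d := by
  classical
  let κ := IsLocalRing.ResidueField R
  cases d with
  | zero =>
    exfalso

    have := (hasProjectiveDimensionLT_zero_iff_isZero _).mp hd
    exact not_subsingleton κ (ModuleCat.subsingleton_of_isZero this)
  | succ n =>
    have hpd : SerreReg.PdLE R κ n := hd
    haveI := SerreReg.isRegularLocalRing_of_pdLE R n hpd
    obtain ⟨D, hD⟩ := SerreReg.exists_dim R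
    haveI : Module.Finite R κ := Module.Finite.of_surjective (Algebra.linearMap R κ) IsLocalRing.residue_surjective
    have h := (FibDepth.pdLE_iff_le_depth R hD n κ).mp hpd
    have h0 : LocCoh.depth R κ = 0 := by
      have hkill : ∀ r ∈ IsLocalRing.maximalIdeal R, ∀ x : κ, r • x = 0 := fun r hr x => by
        rw [Algebra.smul_def]
        have : algebraMap R κ r = 0 := (IsLocalRing.residue_eq_zero_iff r).mpr hr
        rw [this, zero_mul]
      rw [LocCoh.depth, LocCoh.idealDepth, if_neg]
      · refine le_antisymm (iSup₂_le fun rs hrs => ?_) bot_le
        cases rs with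
        | nil => simp
        | cons r l =>
          exfalso
          have hr := hrs.2 r (List.mem_cons_self ..)
          have := ((RingTheory.Sequence.isWeaklyRegular_cons_iff _ _ _).mp hrs.1).1
          exact one_ne_zero (this (show r • (1 : κ) = r • (0 : κ) by rw [hkill r hr, smul_zero]))
      · intro htop
        have : (IsLocalRing.maximalIdeal R) • (⊤ : Submodule R κ) ≤ ⊥ :=
          Submodule.smul_le.mpr fun r hr x _ => by simp [hkill r hr x]
        rw [htop] at this
        exact one_ne_zero ((Submodule.mem_bot R).mp (this (Submodule.mem_top (x := (1 : κ)))))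
    rw [h0] at h
    have h1 : D ≤ n := by
      have : D - n ≤ 0 := by exact_mod_cast h
      omega
    have h2 : (IsLocalRing.maximalIdeal R).spanFinrank = D := by
      have := IsRegularLocalRing.spanFinrank_maximalIdeal (R := R)
      rw [hD] at this
      exact_mod_cast this
    rw [← IsLocalRing.spanFinrank_maximalIdeal_eq_finrank_cotangentSpace, h2]
    omega

end Groth.Agent.S2061
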