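import Groth.Statements.S2064
import Groth.Agent.LocH.Depth
import Groth.Agent.LocH.DepthMisc
import Groth.Agent.LocH.Sequence
import Groth.Agent.LocH.LocalizeMap
import Mathlib.Algebra.Homology.ShortComplex.ModuleCat

set_option autoImplicit false
universe u
open CategoryTheory
open CAlg Groth.Agent CategoryTheory

namespace Groth.Agent.S2064

/-- Let `R` be a Noetherian local ring and `0 → M_e → M_{e-1} → … → M_0` a complex of finite `R`-modules
with `depth(M_j) ≥ j`. If `i > 0` is the largest index at which the complex is not exact, then the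
homology at `M_i` has depth at least one. -/
theorem result {R : Type u} [CommRing R] [IsLocalRing R] [IsNoetherianRing R]
    (C : ChainComplex (ModuleCat.{u} R) ℕ) (e : ℕ) (hzero : ∀ j, e < j → Limits.IsZero (C.X j))
    (hfin : ∀ j, Module.Finite R (C.X j)) (hdepth : ∀ j, j ≤ e → (j : ℕ∞) ≤ LocCoh.depth R (C.X j))
    (i : ℕ) (hi : 0 < i) (hnot : ¬ C.ExactAt i) (habove : ∀ j, i < j → C.ExactAt j) :
    1 ≤ LocCoh.depth R (C.homology i) := by
  classical
  obtain ⟨k, rfl⟩ : ∃ k, i = k + 1 := ⟨i - 1, by omega⟩
  haveI := hfin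
  let I := IsLocalRing.maximalIdeal R
  let d : ∀ j, C.X (j + 1) →ₗ[R] C.X j := fun j => (C.d (j + 1) j).hom
  have hM : ∀ j l, l < j → Subsingleton ((localCohomology I l).obj (C.X j)) := by
    intro j l hl
    by_cases hje : j ≤ e
    · exact (LocH.le_idealDepth_iff I (C.X j) j).mp (hdepth j hje) l hl
    · haveI : Subsingleton (C.X j) := ModuleCat.subsingleton_of_isZero (hzero j (by omega))
      exact ModuleCat.subsingleton_of_isZero (Functor.map_isZero _ (hzero j (by omega)))
  have hB : ∀ n j, k + 1 ≤ j → e ≤ j + n → ∀ l, l < j + 1 →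
      Subsingleton ((localCohomology I l).obj (ModuleCat.of R (LinearMap.range (d j)))) := by
    intro n
    induction n with
    | zero =>
      intro j hj hje l hl
      haveI : Subsingleton (C.X (j + 1)) := ModuleCat.subsingleton_of_isZero (hzero (j + 1) (by omega))
      haveI : Subsingleton (LinearMap.range (d j)) := (d j).surjective_rangeRestrict.subsingleton
      haveI : Subsingleton (ModuleCat.of R (LinearMap.range (d j))) := ‹_›
      exact ModuleCat.subsingleton_of_isZero (Functor.map_isZero _ (ModuleCat.isZero_of_subsingleton _))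
    | succ n ih =>
      intro j hj hje l hl
      have hex : LinearMap.range (d (j + 1)) = LinearMap.ker (d j) := by
        have h := habove (j + 1) (by omega)
        rw [C.exactAt_iff' (j + 2) (j + 1) j (by simp) (by simp), ShortComplex.moduleCat_exact_iff_range_eq_ker] at h
        exact h
      let S : ShortComplex (ModuleCat.{u} R) :=
        ShortComplex.mk (X₁ := ModuleCat.of R (LinearMap.range (d (j + 1)))) (X₂ := C.X (j + 1)) (X₃ := ModuleCat.of R (LinearMap.range (d j)))
          (ModuleCat.ofHom (LinearMap.range (d (j + 1))).subtype) (ModuleCat.ofHom (d j).rangeRestrict)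
          (ModuleCat.hom_ext (LinearMap.ext fun x => Subtype.ext (show x.1 ∈ LinearMap.ker (d j) from hex ▸ x.2)))
      have hS : S.ShortExact :=
        { exact := (ShortComplex.ShortExact.moduleCat_exact_iff_function_exact S).2 (by
            show Function.Exact (LinearMap.range (d (j + 1))).subtype (d j).rangeRestrict
            rw [LinearMap.exact_iff, LinearMap.ker_rangeRestrict, Submodule.range_subtype, hex])
          mono_f := (ModuleCat.mono_iff_injective _).2 (Submodule.injective_subtype _)
          epi_g := (ModuleCat.epi_iff_surjective _).2 (d j).surjective_rangeRestrict }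
      exact LocH.subsingleton_X₃ hS (I := I) (i := l) (hM (j + 1) l hl) (ih (j + 1) (by omega) (by omega) (l + 1) (by omega))
  let Z := LinearMap.ker (d k)
  let B : Submodule R Z := (LinearMap.range (d (k + 1))).comap Z.subtype
  have hBZ : LinearMap.range (d (k + 1)) ≤ Z := by
    rintro _ ⟨x, rfl⟩
    exact ConcreteCategory.congr_hom (C.d_comp_d (k + 1 + 1) (k + 1) k) x
  have hZ0 : Subsingleton ((localCohomology I 0).obj (ModuleCat.of R Z)) := by
    haveI := hM (k + 1) 0 (by omega)
    exact (LocH.map_injective_zero I (ModuleCat.ofHom Z.subtype) (Submodule.injective_subtype Z)).subsingleton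
  have hB1 : Subsingleton ((localCohomology I 1).obj (ModuleCat.of R B)) := by
    haveI := hB e (k + 1) le_rfl (by omega) 1 (by omega)
    exact ((localCohomology I 1).mapIso (Submodule.comapSubtypeEquivOfLe hBZ).toModuleIso).toLinearEquiv.injective.subsingleton
  let S : ShortComplex (ModuleCat.{u} R) :=
    ShortComplex.mk (X₁ := ModuleCat.of R B) (X₂ := ModuleCat.of R Z) (X₃ := ModuleCat.of R (Z ⧸ B))
      (ModuleCat.ofHom B.subtype) (ModuleCat.ofHom B.mkQ) (ModuleCat.hom_ext (LinearMap.ext fun x => (Submodule.Quotient.mk_eq_zero B).mpr x.2))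
  have hS : S.ShortExact :=
    { exact := (ShortComplex.ShortExact.moduleCat_exact_iff_function_exact S).2 (LinearMap.exact_subtype_mkQ B)
      mono_f := (ModuleCat.mono_iff_injective _).2 B.injective_subtype
      epi_g := (ModuleCat.epi_iff_surjective _).2 B.mkQ_surjective }
  have hH : Subsingleton ((localCohomology I 0).obj (ModuleCat.of R (Z ⧸ B))) :=
    LocH.subsingleton_X₃ hS (I := I) (i := 0) hZ0 hB1
  have hdep : ((1 : ℕ) : ℕ∞) ≤ LocCoh.idealDepth I (Z ⧸ B) := by
    rw [LocH.le_idealDepth_iff I (Z ⧸ B) 1]
    intro l hl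
    obtain rfl : l = 0 := by omega
    exact hH
  let S' := C.sc' (k + 2) (k + 1) k
  have hrange : LinearMap.range S'.moduleCatToCycles = B := by
    refine Submodule.ext fun z => ⟨?_, ?_⟩
    · rintro ⟨x, rfl⟩
      exact ⟨x, rfl⟩
    · rintro ⟨x, hx⟩
      exact ⟨x, Subtype.ext hx⟩
  let e' : C.homology (k + 1) ≃ₗ[R] Z ⧸ B :=
    ((C.homologyIsoSc' (k + 2) (k + 1) k (by simp) (by simp)) ≪≫ S'.moduleCatHomologyIso).toLinearEquiv.trans (Submodule.quotEquivOfEq _ _ hrange)
  rw [LocCoh.depth, LocH.idealDepth_congr e']
  exact hdep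

end Groth.Agent.S2064
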