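import Groth.Statements.S2071
import Mathlib.FieldTheory.IsAlgClosed.AlgebraicClosure
import Mathlib.FieldTheory.PurelyInseparable.Basic
import Mathlib.FieldTheory.AlgebraicClosure
import Mathlib.FieldTheory.SeparableDegree
import Mathlib.FieldTheory.Finite.Basic
import Mathlib.NumberTheory.NumberField.InfinitePlace.Embeddings
import Mathlib.RingTheory.RootsOfUnity.Complex
import Mathlib.FieldTheory.PrimeField
import Mathlib.Algebra.Algebra.ZMod
import Mathlib.Tactic.LinearCombination
import Mathlib.Tactic.FieldSimp

set_option autoImplicit false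
universe u
open CAlg

namespace Groth.Agent.S2071

/-- For a field extension `k'/k`, every element of `k'` has a positive power in `k` if and only if
either `k' = k`, or the characteristic is a prime `p` and either `k'/k` is purely inseparable or
`k'` is algebraic over its prime field. -/
theorem result {k k' : Type u} [Field k] [Field k'] [Algebra k k'] :
    (∀ x : k', ∃ n : ℕ, 0 < n ∧ x ^ n ∈ Set.range (algebraMap k k')) ↔
      Function.Surjective (algebraMap k k') ∨
        ∃ p : ℕ, p.Prime ∧ CharP k' p ∧
          (IsPurelyInseparable k k' ∨ Algebra.IsAlgebraic (⊥ : Subfield k') k') := by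
  classical
  constructor
  · intro h
    haveI : Algebra.IsAlgebraic k k' := ⟨fun x => by
      obtain ⟨n, hn, c, hc⟩ := h x
      exact IsAlgebraic.of_pow hn (hc ▸ isAlgebraic_algebraMap c)⟩
    by_cases hPI : IsPurelyInseparable k k'
    · obtain ⟨q, hq⟩ := ExpChar.exists k'
      cases hq with
      | zero =>
        haveI : CharZero k := (RingHom.charZero_iff (algebraMap k k').injective).2 inferInstance
        haveI : Algebra.IsSeparable k k' := inferInstance
        exact Or.inl (IsPurelyInseparable.surjective_algebraMap_of_isSeparable k k')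
      | prime hp => exact Or.inr ⟨q, hp, inferInstance, Or.inl hPI⟩
    obtain ⟨x, hx⟩ : ∃ x : k', (minpoly k x).natSepDegree ≠ 1 := by
      by_contra hc
      push Not at hc
      exact hPI ((isPurelyInseparable_iff_natSepDegree_eq_one k).2 hc)
    let Ω := AlgebraicClosure k'
    let x' : Ω := algebraMap k' Ω x
    have hxk : x ∉ Set.range (algebraMap k k') := by
      rintro ⟨c, rfl⟩
      exact hx (by rw [minpoly.eq_X_sub_C, Polynomial.natSepDegree_X_sub_C])
    have hint : IsIntegral k x := Algebra.IsIntegral.isIntegral x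
    have hmem : x' ∈ ((minpoly k x).aroots Ω).toFinset := by
      rw [Multiset.mem_toFinset, Polynomial.mem_aroots]
      exact ⟨minpoly.ne_zero hint, by rw [Polynomial.aeval_algebraMap_apply, minpoly.aeval, map_zero]⟩
    rw [Polynomial.natSepDegree_eq_of_isAlgClosed (E := Ω)] at hx
    obtain ⟨y, hy, hyx⟩ : ∃ y ∈ ((minpoly k x).aroots Ω).toFinset, y ≠ x' := by
      by_contra hc
      push Not at hc
      exact hx (Finset.card_eq_one.2 ⟨x', Finset.eq_singleton_iff_unique_mem.2 ⟨hmem, hc⟩⟩)
    rw [Multiset.mem_toFinset, Polynomial.mem_aroots] at hy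
    have hne : ∀ a : k, x' + algebraMap k Ω a ≠ 0 := fun a h0 => hxk ⟨-a, (algebraMap k' Ω).injective (by
      rw [← IsScalarTower.algebraMap_apply, map_neg]
      linear_combination -h0)⟩
    have hroot : ∀ a : k, ∃ (n : ℕ) (z : Ω), 0 < n ∧ z ^ n = 1 ∧ y + algebraMap k Ω a = z * (x' + algebraMap k Ω a) := by
      intro a
      obtain ⟨n, hn, c, hc⟩ := h (x + algebraMap k k' a)
      refine ⟨n, (y + algebraMap k Ω a) / (x' + algebraMap k Ω a), hn, ?_, (div_mul_cancel₀ _ (hne a)).symm⟩
      have h1 : Polynomial.aeval x ((Polynomial.X + Polynomial.C a) ^ n - Polynomial.C c) = 0 := by simp [hc]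
      obtain ⟨g, hg⟩ := minpoly.dvd k x h1
      have h2 : Polynomial.aeval y ((Polynomial.X + Polynomial.C a) ^ n - Polynomial.C c) = 0 := by rw [hg, map_mul, hy.2, zero_mul]
      have h3 : (x' + algebraMap k Ω a) ^ n = algebraMap k Ω c := by
        rw [IsScalarTower.algebraMap_apply k k' Ω a, ← map_add, ← map_pow, ← hc, ← IsScalarTower.algebraMap_apply]
      rw [div_pow, div_eq_one_iff_eq (pow_ne_zero _ (hne a)), h3, ← sub_eq_zero]
      simpa using h2
    have hxy : ∀ (n : ℕ) (z : Ω) (a : k), y + algebraMap k Ω a = z * (x' + algebraMap k Ω a) → z ≠ 1 := fun n z a e hz => hyx (by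
      rw [hz, one_mul, add_left_inj] at e; exact e)
    have alg : ∀ (P : Type u) [Field P] [Algebra P k'], Algebra.IsAlgebraic P k' := by
      intro P _ _
      let B : IntermediateField P Ω := algebraicClosure P Ω
      let W : Submodule B Ω := Submodule.span B ({x', y} : Set Ω)
      have hspan : ∀ a : k, algebraMap k Ω a ∈ W := fun a => by
        obtain ⟨n, z, hn, hz, e⟩ := hroot a
        have hz1 : z - 1 ≠ 0 := sub_ne_zero.2 (hxy n z a e)
        have hzB : z ∈ B := mem_algebraicClosure_iff.2 (IsAlgebraic.of_pow hn (by rw [hz]; exact isAlgebraic_one))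
        have hi : (z - 1)⁻¹ ∈ B := inv_mem (sub_mem hzB (one_mem _))
        have heq : algebraMap k Ω a = (⟨(z - 1)⁻¹, hi⟩ : B) • y + (⟨-(z * (z - 1)⁻¹), neg_mem (mul_mem hzB hi)⟩ : B) • x' := by
          show algebraMap k Ω a = (z - 1)⁻¹ * y + -(z * (z - 1)⁻¹) * x'
          linear_combination (-(algebraMap k Ω a)) * (inv_mul_cancel₀ hz1) - (z - 1)⁻¹ * e
        rw [heq]
        exact add_mem (Submodule.smul_mem _ _ (Submodule.subset_span (by simp))) (Submodule.smul_mem _ _ (Submodule.subset_span (by simp)))
      have hB : ∀ a : k, algebraMap k Ω a ∈ B := by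
        intro t
        set u := algebraMap k Ω t with hu
        haveI : Module.Finite B W := Module.Finite.span_of_finite B (Set.toFinite _)
        have hW : Module.finrank B W ≤ 2 := by
          refine (finrank_span_le_card (R := B) ({x', y} : Set Ω)).trans ?_
          rw [Set.toFinset_insert, Set.toFinset_singleton]
          exact (Finset.card_insert_le _ _).trans (by simp)
        let v : Fin 3 → W := fun i => ⟨u ^ (i : ℕ), by rw [hu, ← map_pow]; exact hspan _⟩
        have hv : ¬ LinearIndependent B v := fun hli => by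
          have := hli.fintype_card_le_finrank
          simp at this
          omega
        rw [Fintype.linearIndependent_iff] at hv
        push Not at hv
        obtain ⟨g, hg, i, hgi⟩ := hv
        have hu' : IsAlgebraic B u := by
          refine ⟨∑ j : Fin 3, Polynomial.C (g j) * Polynomial.X ^ (j : ℕ), fun h0 => hgi ?_, ?_⟩
          · have := congrArg (fun q => Polynomial.coeff q (i : ℕ)) h0
            simpa [Polynomial.coeff_C_mul, Polynomial.coeff_X_pow, ← Fin.ext_iff] using this
          · have h4 := congrArg Subtype.val hg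
            simpa [v, Algebra.smul_def] using h4
        exact mem_algebraicClosure_iff.2 (IsAlgebraic.restrictScalars P hu')
      refine ⟨fun z => ?_⟩
      obtain ⟨n, hn, c, hc⟩ := h z
      have : IsAlgebraic P (algebraMap k' Ω z) := IsAlgebraic.of_pow hn (by
        rw [← map_pow, ← hc, ← IsScalarTower.algebraMap_apply]
        exact mem_algebraicClosure_iff.1 (hB c))
      exact (isAlgebraic_algebraMap_iff (algebraMap k' Ω).injective).1 this
    obtain ⟨q, hq⟩ := ExpChar.exists k'
    cases hq with
    | prime hp => exact Or.inr ⟨q, hp, inferInstance, Or.inr (alg _)⟩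
    | zero =>
      exfalso
      haveI : CharZero k := (RingHom.charZero_iff (algebraMap k k').injective).2 inferInstance
      haveI : CharZero Ω := (RingHom.charZero_iff (algebraMap k' Ω).injective).1 inferInstance
      let P0 := (⊥ : Subfield k')
      haveI hP0 : Algebra.IsAlgebraic P0 k' := alg _
      haveI : Algebra.IsAlgebraic ℚ P0 := ⟨fun b => by
        obtain ⟨r, hr⟩ : (b : k') ∈ (algebraMap ℚ k').fieldRange := Subfield.bot_eq_of_charZero (K := k') ▸ b.2
        have : b = algebraMap ℚ P0 r := Subtype.ext (by rw [← hr]; simp)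
        rw [this]
        exact isAlgebraic_algebraMap r⟩
      haveI : IsScalarTower ℚ P0 k' := IsScalarTower.of_algebraMap_eq fun r => by simp
      haveI : Algebra.IsAlgebraic ℚ k' := Algebra.IsAlgebraic.trans ℚ P0 k'
      haveI : IsScalarTower ℚ k' Ω := IsScalarTower.of_algebraMap_eq fun r => by simp
      have hxi : IsIntegral ℚ x' := ((Algebra.IsAlgebraic.isAlgebraic (R := ℚ) x).algebraMap).isIntegral
      have hyi : IsIntegral ℚ y := by
        haveI : IsScalarTower ℚ k k' := IsScalarTower.of_algebraMap_eq fun r => by simp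
        haveI : IsScalarTower ℚ k Ω := IsScalarTower.of_algebraMap_eq fun r => by simp
        haveI : Algebra.IsIntegral ℚ k := Algebra.IsIntegral.of_injective (IsScalarTower.toAlgHom ℚ k k') (algebraMap k k').injective
        exact isIntegral_trans y ⟨minpoly k x, minpoly.monic hint, hy.2⟩
      let F := IntermediateField.adjoin ℚ ({x', y} : Set Ω)
      haveI : FiniteDimensional ℚ F := IntermediateField.finiteDimensional_adjoin (by
        rintro z (rfl | rfl)
        exacts [hxi, hyi])
      haveI : NumberField F := ⟨⟩
      have hfin : {z : F | IsIntegral ℤ z ∧ ∀ φ : F →+* ℂ, ‖φ z‖ ≤ 1}.Finite :=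
        NumberField.Embeddings.finite_of_norm_le F ℂ 1
      choose n z hn hz e using fun a : ℕ => hroot (a : k)
      simp only [map_natCast] at e
      have hne' : ∀ a : ℕ, x' + (a : Ω) ≠ 0 := fun a => by simpa using hne (a : k)
      have hzF : ∀ a : ℕ, z a ∈ F := fun a => by
        rw [show z a = (y + (a : Ω)) / (x' + (a : Ω)) from (eq_div_iff (hne' a)).2 (e a).symm]
        exact div_mem (add_mem (IntermediateField.subset_adjoin _ _ (by simp)) (natCast_mem _ a))
          (add_mem (IntermediateField.subset_adjoin _ _ (by simp)) (natCast_mem _ a))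
      let g : ℕ → F := fun a => ⟨z a, hzF a⟩
      have hgmem : ∀ a, g a ∈ {z : F | IsIntegral ℤ z ∧ ∀ φ : F →+* ℂ, ‖φ z‖ ≤ 1} := fun a => by
        have h1 : g a ^ n a = 1 := Subtype.ext (hz a)
        refine ⟨IsIntegral.of_pow (hn a) (by rw [h1]; exact isIntegral_one), fun φ => le_of_eq ?_⟩
        exact Complex.norm_eq_one_of_pow_eq_one (by rw [← map_pow, h1, map_one]) (hn a).ne'
      obtain ⟨a, -, b, -, hab, hgab⟩ := Set.infinite_univ.exists_ne_map_eq_of_mapsTo (fun a _ => hgmem a) hfin
      have hzab : z a = z b := congrArg Subtype.val hgab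
      have h5 := e b
      rw [← hzab] at h5
      have h6 : (z a - 1) * ((a : Ω) - (b : Ω)) = 0 := by linear_combination -(e a) + h5
      rcases mul_eq_zero.1 h6 with h7 | h7
      · exact hxy (n a) (z a) (a : k) (by simpa using e a) (sub_eq_zero.1 h7)
      · exact hab (Nat.cast_injective (sub_eq_zero.1 h7))
  · rintro (hs | ⟨p, hp, hch, hPI | halg⟩)
    · exact fun x => ⟨1, one_pos, by rw [pow_one]; exact hs x⟩
    · intro x
      haveI : Fact p.Prime := ⟨hp⟩
      haveI : CharP k p := (algebraMap k k').charP (algebraMap k k').injective p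
      haveI : ExpChar k p := ExpChar.prime hp
      obtain ⟨n, hn⟩ := IsPurelyInseparable.pow_mem k p x
      exact ⟨p ^ n, pow_pos hp.pos n, hn⟩
    · intro x
      by_cases hx0 : x = 0
      · exact ⟨1, one_pos, 0, by simp [hx0]⟩
      haveI : Fact p.Prime := ⟨hp⟩
      letI := ZMod.algebra k' p
      haveI : Finite (⊥ : Subfield k') := by
        rw [Subfield.bot_eq_of_zMod_algebra p]
        exact (Set.finite_range (algebraMap (ZMod p) k')).to_subtype
      let L := IntermediateField.adjoin (⊥ : Subfield k') ({x} : Set k')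
      haveI : FiniteDimensional (⊥ : Subfield k') L := IntermediateField.adjoin.finiteDimensional (Algebra.IsAlgebraic.isAlgebraic x).isIntegral
      haveI : Finite L := Module.finite_of_finite (⊥ : Subfield k')
      haveI := Fintype.ofFinite L
      refine ⟨Fintype.card L - 1, Nat.sub_pos_of_lt Fintype.one_lt_card, 1, ?_⟩
      have h1 := FiniteField.pow_card_sub_one_eq_one (⟨x, IntermediateField.mem_adjoin_simple_self _ x⟩ : L) (fun e => hx0 (congrArg Subtype.val e))
      rw [map_one]
      exact (congrArg Subtype.val h1).symm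

end Groth.Agent.S2071
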