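import Groth.Statements.S2072
import Groth.Agent.Nagata.GeomRed
import Mathlib.RingTheory.Localization.BaseChange
import Mathlib.RingTheory.LocalProperties.Reduced

set_option autoImplicit false
universe u
open CAlg Groth.Agent
open scoped TensorProduct

namespace Groth.Agent.S2072

/-- A Noetherian local domain whose completion with respect to the maximal ideal is reduced (an
analytically unramified local domain) is N-1: its integral closure in its fraction field is a finite
module. -/
theorem result {R : Type u} [CommRing R] [IsDomain R] [IsLocalRing R]
    [IsNoetherianRing R] [IsReduced (AdicCompletion (IsLocalRing.maximalIdeal R) R)] : CAlg.IsN1 R := by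
  haveI : IsLocalization (Algebra.algebraMapSubmonoid (AdicCompletion (IsLocalRing.maximalIdeal R) R) (nonZeroDivisors R))
      (AdicCompletion (IsLocalRing.maximalIdeal R) R ⊗[R] FractionRing R) := IsLocalization.tensor _ _ 
  haveI : IsReduced (AdicCompletion (IsLocalRing.maximalIdeal R) R ⊗[R] FractionRing R) :=
    isReduced_localizationPreserves (Algebra.algebraMapSubmonoid (AdicCompletion (IsLocalRing.maximalIdeal R) R) (nonZeroDivisors R)) _ inferInstance
  exact Nagata.finite_closure_of_isReduced_tensor (FractionRing R) this

end Groth.Agent.S2072
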