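import Groth.Statements.S2073
import Mathlib.RingTheory.NoetherNormalization
import Mathlib.RingTheory.FiniteStability
import Mathlib.RingTheory.Localization.BaseChange
import Mathlib.RingTheory.AlgebraicIndependent.Basic
import Mathlib.RingTheory.IntegralClosure.IsIntegralClosure.Basic

set_option autoImplicit false
universe u
open CAlg

namespace Groth.Agent.S2073

open TensorProduct

variable {R S : Type u} [CommRing R] [IsDomain R] [CommRing S] [Algebra R S]

theorem exists_smul_eq (z : FractionRing R ⊗[R] S) :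
    ∃ r : R, r ≠ 0 ∧ ∃ x : S, r • z = 1 ⊗ₜ x := by
  obtain ⟨⟨x, r⟩, h⟩ := IsLocalizedModule.surj (nonZeroDivisors R)
    (TensorProduct.mk R (FractionRing R) S 1) z
  exact ⟨r, nonZeroDivisors.coe_ne_zero r, x, by simpa [Submonoid.smul_def] using h⟩

theorem exists_smul_eq_zero (x : S) (hx : (1 : FractionRing R) ⊗ₜ[R] x = 0) :
    ∃ r : R, r ≠ 0 ∧ r • x = 0 := by
  obtain ⟨r, hr⟩ := (IsLocalizedModule.eq_zero_iff (nonZeroDivisors R)
    (TensorProduct.mk R (FractionRing R) S 1)).1 hx
  exact ⟨r, nonZeroDivisors.coe_ne_zero r, by simpa [Submonoid.smul_def] using hr⟩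

/-- Integrality over the generic fibre descends after scaling. -/
theorem exists_isIntegral_smul (T : Subalgebra R S) (A : Subalgebra (FractionRing R) (FractionRing R ⊗[R] S))
    (hA : ∀ z ∈ A, ∃ r : R, r ≠ 0 ∧ ∃ t ∈ T, r • z = 1 ⊗ₜ t) (x : S)
    (hx : IsIntegral A ((1 : FractionRing R) ⊗ₜ[R] x)) :
    ∃ f : R, f ≠ 0 ∧ IsIntegral T (f • x) := by
  classical
  obtain ⟨P, hP, hPx⟩ := hx
  set n := P.natDegree
  choose ρ hρ t ht ht' using fun i : ℕ => hA _ (P.coeff i).2
  set r := ∏ i ∈ Finset.range n, ρ i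
  have hr : r ≠ 0 := Finset.prod_ne_zero_iff.2 fun i _ => hρ i
  have hcoeff : ∀ i ∈ Finset.range n, ∃ u ∈ T, r • (P.coeff i : FractionRing R ⊗[R] S) = 1 ⊗ₜ u :=
    fun i hi => by
      refine ⟨(∏ j ∈ (Finset.range n).erase i, ρ j) • t i, T.smul_mem (ht i) _, ?_⟩
      rw [TensorProduct.tmul_smul, ← ht', smul_smul, mul_comm, Finset.mul_prod_erase _ _ hi]
  choose u hu hu' using hcoeff
  let c : ℕ → S := fun i => if hi : i ∈ Finset.range n then r ^ (n - i - 1) • u i hi else 0
  have hc : ∀ i, c i ∈ T := fun i => by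
    simp only [c]
    split
    · exact T.smul_mem (hu _ _) _
    · exact zero_mem _
  set z : FractionRing R ⊗[R] S := 1 ⊗ₜ x
  have hzero : (1 : FractionRing R) ⊗ₜ[R] ((r • x) ^ n + ∑ i ∈ Finset.range n, c i * (r • x) ^ i) = 0 := by
    have h0 : z ^ n + ∑ i ∈ Finset.range n, (P.coeff i : FractionRing R ⊗[R] S) * z ^ i = 0 := by
      have h := congrArg (Polynomial.eval₂ (algebraMap A (FractionRing R ⊗[R] S)) z) hP.as_sum
      rw [hPx] at h
      simpa [n, Polynomial.eval₂_finsetSum] using h.symm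
    have hrn : r ^ n • (z ^ n + ∑ i ∈ Finset.range n, (P.coeff i : FractionRing R ⊗[R] S) * z ^ i) = 0 := by
      rw [h0, smul_zero]
    rw [← hrn, smul_add, Finset.smul_sum, TensorProduct.tmul_add, TensorProduct.tmul_sum, smul_pow]
    congr 1
    · rw [TensorProduct.tmul_smul, Algebra.TensorProduct.tmul_pow, one_pow]
    · refine Finset.sum_congr rfl fun i hi => ?_
      have hin : i < n := Finset.mem_range.1 hi
      simp only [c, dif_pos hi]
      rw [smul_pow, smul_mul_smul_comm, TensorProduct.tmul_smul,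
        ← one_mul (1 : FractionRing R), ← Algebra.TensorProduct.tmul_mul_tmul, ← hu' i hi,
        show ((1 : FractionRing R) ⊗ₜ[R] (x ^ i)) = z ^ i by
          rw [Algebra.TensorProduct.tmul_pow, one_pow],
        smul_mul_assoc, smul_smul,
        ← pow_add, ← pow_succ, show n - i - 1 + i + 1 = n by omega]
  obtain ⟨h, hh, hh0⟩ := exists_smul_eq_zero _ hzero
  refine ⟨h * r, mul_ne_zero hh hr, ?_⟩
  rcases Nat.eq_zero_or_pos n with hn | hn
  · rw [hn] at hh0
    simp only [pow_zero, Finset.range_zero, Finset.sum_empty, add_zero] at hh0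
    have hz : (h * r) • x = 0 := by
      rw [mul_smul, ← one_mul (r • x), ← smul_mul_assoc, hh0, zero_mul]
    rw [hz]
    exact isIntegral_zero
  let Q : Polynomial T := Polynomial.X ^ n +
    ∑ i ∈ Finset.range n, Polynomial.C (h ^ (n - i) • (⟨c i, hc i⟩ : T)) * Polynomial.X ^ i
  refine ⟨Q, Polynomial.monic_X_pow_add ?_, ?_⟩
  · refine lt_of_le_of_lt (Polynomial.degree_sum_le _ _) ((Finset.sup_lt_iff (WithBot.bot_lt_coe n)).2
      fun i hi => lt_of_le_of_lt (Polynomial.degree_C_mul_X_pow_le _ _)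
        (WithBot.coe_lt_coe.2 (Finset.mem_range.1 hi)))
  · simp only [Q, Polynomial.eval₂_add, Polynomial.eval₂_finsetSum, Polynomial.eval₂_mul,
      Polynomial.eval₂_C, Polynomial.eval₂_X_pow]
    show ((h * r) • x) ^ n + ∑ i ∈ Finset.range n, (h ^ (n - i) • c i) * ((h * r) • x) ^ i = 0
    have hhn : h ^ n • ((r • x) ^ n + ∑ i ∈ Finset.range n, c i * (r • x) ^ i) = 0 := by
      obtain ⟨m, hm⟩ := Nat.exists_eq_add_of_le' hn
      rw [hm, pow_succ, mul_smul, ← hm, hh0, smul_zero]
    rw [← hhn, smul_add, Finset.smul_sum, mul_smul, smul_pow]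
    refine congrArg _ (Finset.sum_congr rfl fun i hi => ?_)
    rw [smul_pow h (r • x) i, smul_mul_smul_comm, ← pow_add,
      Nat.sub_add_cancel (Finset.mem_range.1 hi).le]

/-- Let `R` be a domain and `R → S` an injective ring map of finite type. Then there are elements `y_1,
…, y_d` of `S` algebraically independent over `R`, a finitely generated `R`-subalgebra `S'` of `S`
containing them and integral over `R[y_1, …, y_d]`, and a nonzero `f ∈ R` such that every element of
`S` lands in `S'` after multiplication by a power of `f`. -/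
theorem result {R S : Type u} [CommRing R] [IsDomain R] [CommRing S] [Algebra R S]
    [Algebra.FiniteType R S] (hinj : Function.Injective (algebraMap R S)) :
    ∃ (d : ℕ) (y : Fin d → S) (S' : Subalgebra R S), AlgebraicIndependent R y ∧ (∀ i, y i ∈ S') ∧ S'.FG ∧
      (∀ s ∈ S', IsIntegral (Algebra.adjoin R (Set.range y)) s) ∧
      ∃ f : R, f ≠ 0 ∧ ∀ s : S, ∃ n : ℕ, (f ^ n) • s ∈ S' := by
  classical
  have : Nontrivial (FractionRing R ⊗[R] S) := by
    refine ⟨1, 0, fun h => ?_⟩
    obtain ⟨r, hr, hr0⟩ := exists_smul_eq_zero (R := R) (1 : S) h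
    exact hr (hinj (by rw [map_zero, Algebra.algebraMap_eq_smul_one, hr0]))
  obtain ⟨d, g, hg, hgi⟩ := exists_integral_inj_algHom_of_fg (FractionRing R) (FractionRing R ⊗[R] S)
  choose ρ hρ y hy using fun i : Fin d => exists_smul_eq (g (MvPolynomial.X i))
  have hρ' : ∀ i, algebraMap R (FractionRing R) (ρ i) ≠ 0 := fun i =>
    (map_ne_zero_iff _ (IsFractionRing.injective R (FractionRing R))).2 (hρ i)
  let φ : S →ₐ[R] FractionRing R ⊗[R] S := Algebra.TensorProduct.includeRight
  set yK : Fin d → FractionRing R ⊗[R] S := fun i => φ (y i)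
  have hyK : ∀ i, yK i = algebraMap R (FractionRing R) (ρ i) • g (MvPolynomial.X i) := fun i => by
    rw [algebraMap_smul, hy]
    rfl
  have hgy : ∀ i, g (MvPolynomial.X i) = (algebraMap R (FractionRing R) (ρ i))⁻¹ • yK i := fun i => by
    rw [hyK, smul_smul, inv_mul_cancel₀ (hρ' i), one_smul]
  have hindK : AlgebraicIndependent (FractionRing R) yK := by
    rw [algebraicIndependent_iff_injective_aeval]
    let σ : MvPolynomial (Fin d) (FractionRing R) →ₐ[FractionRing R] MvPolynomial (Fin d) (FractionRing R) :=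
      MvPolynomial.aeval fun i => algebraMap R (FractionRing R) (ρ i) • MvPolynomial.X i
    let τ : MvPolynomial (Fin d) (FractionRing R) →ₐ[FractionRing R] MvPolynomial (Fin d) (FractionRing R) :=
      MvPolynomial.aeval fun i => (algebraMap R (FractionRing R) (ρ i))⁻¹ • MvPolynomial.X i
    have hστ : τ.comp σ = AlgHom.id _ _ := MvPolynomial.algHom_ext fun i => by
      simp only [σ, τ, AlgHom.comp_apply, AlgHom.id_apply, MvPolynomial.aeval_X, map_smul, smul_smul,
        mul_inv_cancel₀ (hρ' i), one_smul]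
    have hcomp : MvPolynomial.aeval yK = g.comp σ := MvPolynomial.algHom_ext fun i => by
      simp only [σ, MvPolynomial.aeval_X, AlgHom.comp_apply, map_smul, hyK]
    rw [hcomp, AlgHom.coe_comp]
    exact hg.comp (Function.LeftInverse.injective (g := τ) fun p => AlgHom.congr_fun hστ p)
  have hind : AlgebraicIndependent R y :=
    (hindK.restrictScalars (IsFractionRing.injective R (FractionRing R))).of_comp φ
  set T := Algebra.adjoin R (Set.range y)
  have hA : ∀ z ∈ Algebra.adjoin (FractionRing R) (Set.range yK),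
      ∃ r : R, r ≠ 0 ∧ ∃ t ∈ T, r • z = 1 ⊗ₜ t := fun z hz => by
    induction hz using Algebra.adjoin_induction with
    | mem z hz =>
      obtain ⟨i, rfl⟩ := hz
      exact ⟨1, one_ne_zero, y i, Algebra.subset_adjoin ⟨i, rfl⟩, one_smul _ _⟩
    | algebraMap c =>
      obtain ⟨⟨a, b⟩, hab⟩ := IsLocalization.surj (nonZeroDivisors R) c
      refine ⟨b, nonZeroDivisors.coe_ne_zero b, algebraMap R S a, T.algebraMap_mem a, ?_⟩
      rw [Algebra.algebraMap_eq_smul_one (A := S), ← TensorProduct.smul_tmul,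
        ← Algebra.algebraMap_eq_smul_one, ← hab, Algebra.TensorProduct.algebraMap_apply,
        Algebra.algebraMap_self_apply, TensorProduct.smul_tmul', Algebra.smul_def, mul_comm]
    | add a b _ _ ha hb =>
      obtain ⟨r, hr, t, ht, ha⟩ := ha
      obtain ⟨r', hr', t', ht', hb⟩ := hb
      refine ⟨r * r', mul_ne_zero hr hr', r' • t + r • t', add_mem (T.smul_mem ht _) (T.smul_mem ht' _), ?_⟩
      rw [TensorProduct.tmul_add, TensorProduct.tmul_smul, TensorProduct.tmul_smul, ← ha, ← hb,
        smul_smul, smul_smul, smul_add, mul_comm r' r]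
    | mul a b _ _ ha hb =>
      obtain ⟨r, hr, t, ht, ha⟩ := ha
      obtain ⟨r', hr', t', ht', hb⟩ := hb
      refine ⟨r * r', mul_ne_zero hr hr', t * t', mul_mem ht ht', ?_⟩
      rw [← smul_mul_smul_comm, ha, hb, Algebra.TensorProduct.tmul_mul_tmul, one_mul]
  have hrange : g.range ≤ Algebra.adjoin (FractionRing R) (Set.range yK) := by
    rw [← Algebra.map_top, ← MvPolynomial.adjoin_range_X, AlgHom.map_adjoin, Algebra.adjoin_le_iff]
    rintro _ ⟨_, ⟨i, rfl⟩, rfl⟩
    rw [SetLike.mem_coe, hgy]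
    exact Subalgebra.smul_mem _ (Algebra.subset_adjoin (Set.mem_range_self i)) _
  have hint : ∀ x : S, ∃ f : R, f ≠ 0 ∧ IsIntegral T (f • x) := fun x =>
    exists_isIntegral_smul T _ hA x (by
      obtain ⟨P, hP, hPx⟩ := hgi (φ x)
      have hmem : ∀ q, g q ∈ Algebra.adjoin (FractionRing R) (Set.range yK) := fun q => hrange ⟨q, rfl⟩
      refine ⟨P.map (g.codRestrict _ hmem).toRingHom, hP.map _, ?_⟩
      rw [Polynomial.eval₂_map]
      exact hPx)
  obtain ⟨s, hs⟩ := Algebra.FiniteType.out (R := R) (A := S)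
  choose f hf hfint using hint
  set F := ∏ x ∈ s, f x
  have hF : F ≠ 0 := Finset.prod_ne_zero_iff.2 fun x _ => hf x
  have hFint : ∀ x ∈ s, IsIntegral T (F • x) := fun x hx => by
    have h : F • x = (∏ z ∈ s.erase x, f z) • (f x • x) := by
      rw [smul_smul, mul_comm, Finset.mul_prod_erase _ _ hx]
    rw [h, Algebra.smul_def, IsScalarTower.algebraMap_apply R T S]
    exact IsIntegral.mul isIntegral_algebraMap (hfint x)
  let G : Finset S := Finset.univ.image y ∪ s.image fun x => F • x
  refine ⟨d, y, Algebra.adjoin R (G : Set S), hind, fun i => Algebra.subset_adjoin (by simp [G]),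
    ⟨G, rfl⟩, fun x hx => ?_, F, hF, fun x => ?_⟩
  · have hle : Algebra.adjoin R (G : Set S) ≤ (integralClosure T S).restrictScalars R := by
      rw [Algebra.adjoin_le_iff]
      intro z hz
      simp only [G, Finset.coe_union, Finset.coe_image, Finset.coe_univ, Set.image_univ,
        Set.mem_union] at hz
      rcases hz with hz | ⟨z, hz', rfl⟩
      · exact isIntegral_algebraMap (x := (⟨z, Algebra.subset_adjoin hz⟩ : T))
      · exact hFint z hz'
    exact hle hx
  · induction (hs.ge (Algebra.mem_top (x := x))) using Algebra.adjoin_induction with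
    | mem x hx =>
      refine ⟨1, Algebra.subset_adjoin ?_⟩
      simp only [G, Finset.coe_union, Finset.coe_image, pow_one]
      exact Or.inr ⟨x, hx, rfl⟩
    | algebraMap r => exact ⟨0, by rw [pow_zero, one_smul]; exact Subalgebra.algebraMap_mem _ r⟩
    | add a b _ _ ha hb =>
      obtain ⟨n, hn⟩ := ha
      obtain ⟨n', hn'⟩ := hb
      refine ⟨n + n', ?_⟩
      rw [smul_add, pow_add]
      refine add_mem ?_ ?_
      · rw [mul_comm, mul_smul]; exact Subalgebra.smul_mem _ hn _
      · rw [mul_smul]; exact Subalgebra.smul_mem _ hn' _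
    | mul a b _ _ ha hb =>
      obtain ⟨n, hn⟩ := ha
      obtain ⟨n', hn'⟩ := hb
      exact ⟨n + n', by rw [pow_add, ← smul_mul_smul_comm]; exact mul_mem hn hn'⟩

end Groth.Agent.S2073
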