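import Groth.Statements.S2080
import Groth.Agent.GenFibre.Scheme

set_option autoImplicit false
set_option backward.isDefEq.respectTransparency false
universe u
open CategoryTheory AlgebraicGeometry
open Mor

namespace Groth.Agent.S2080

/-- Let `f : X → Y` be locally of finite type, quasi-compact and quasi-separated, and `η` a generic
point of an irreducible component of `Y`. Then `f⁻¹{η}` is finite if and only if there is an affine
open `V ∋ η` such that `f⁻¹(V) → V` is finite. -/
theorem result {X Y : Scheme.{u}} (f : X ⟶ Y) [LocallyOfFiniteType f]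
    [QuasiCompact f] [QuasiSeparated f] (η : Y) (hη : closure {η} ∈ irreducibleComponents (Y : Type u)) :
    (f.base ⁻¹' {η}).Finite ↔ ∃ V : Y.Opens, IsAffineOpen V ∧ η ∈ V ∧ IsFinite (f ∣_ V) := by
  have hη' : Groth.Agent.Unibranch.IsMaxPt η := (Groth.Agent.GenFibre.isMaxPt_iff_mem η).2 hη
  refine ⟨fun h => Groth.Agent.GenFibre.exists_finite_nhd f hη' h, fun ⟨V, _, hηV, hV⟩ => ?_⟩
  have h1 := IsFinite.finite_preimage_singleton (f := f ∣_ V) ⟨η, hηV⟩
  refine (h1.image (f ⁻¹ᵁ V).ι.base).subset fun x hx => ?_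
  have hxV : x ∈ f ⁻¹ᵁ V := by
    show f x ∈ V
    rw [show f x = η from hx]; exact hηV
  refine ⟨⟨x, hxV⟩, ?_, rfl⟩
  exact Subtype.ext ((morphismRestrict_base_coe f V ⟨x, hxV⟩).trans hx)

end Groth.Agent.S2080
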