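import Groth.Statements.S2082
import Groth.Agent.SerreReg.CM

set_option autoImplicit false
universe u
open CAlg

namespace Groth.Agent.S2082

/-- Take a local homomorphism `R → S` between Noetherian local rings, where `R` is regular, `S` is
Cohen–Macaulay, and `dim S = dim R + dim (S/𝔪_R S)`. Then `S` is flat over `R`. -/
theorem result {R S : Type u} [CommRing R] [CommRing S] [IsRegularLocalRing R]
    [LocCoh.IsCohenMacaulayLocalRing S] [Algebra R S] [IsLocalHom (algebraMap R S)]
    (hdim : ringKrullDim S = ringKrullDim R +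
      ringKrullDim (S ⧸ (IsLocalRing.maximalIdeal R).map (algebraMap R S))) :
    Module.Flat R S := by
  obtain ⟨d, hd⟩ := SerreReg.exists_dim R
  obtain ⟨rs, hlen, hreg, hspan⟩ := SerreReg.exists_regular_rsop d R hd
  let J : Ideal S := (IsLocalRing.maximalIdeal R).map (algebraMap R S)
  have hJle : J ≤ IsLocalRing.maximalIdeal S := Ideal.map_le_iff_le_comap.mpr
    (IsLocalRing.maximalIdeal_comap (algebraMap R S)).ge
  haveI : Nontrivial (S ⧸ J) := Ideal.Quotient.nontrivial_iff.mpr
    (ne_top_of_le_ne_top (IsLocalRing.maximalIdeal.isMaximal S).ne_top hJle)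
  haveI : IsLocalRing (S ⧸ J) := IsLocalRing.of_surjective' _ Ideal.Quotient.mk_surjective
  obtain ⟨e, he⟩ := SerreReg.exists_dim_nat (S ⧸ J)
  have hdimS : ringKrullDim S = ((d + e : ℕ) : WithBot ℕ∞) := by rw [hdim, hd, he, Nat.cast_add]
  obtain ⟨b, hb⟩ := SerreReg.exists_sop (S ⧸ J) e he
  choose b' hb' using fun i => Ideal.Quotient.mk_surjective (b i)
  let a : Fin (d + e) → S := Fin.append (fun i => algebraMap R S (rs[(i : ℕ)]'(hlen ▸ i.2))) b'
  have hsop : CMSop.IsSop a := by
    have hJ : J ≤ Ideal.span (Set.range a) := by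
      simp only [J]
      rw [← hspan, Ideal.map_ofList, Ideal.ofList, Ideal.span_le]
      intro v hv
      obtain ⟨r, hr, rfl⟩ := List.mem_map.mp hv
      obtain ⟨i, hi, rfl⟩ := List.getElem_of_mem hr
      exact Ideal.subset_span ⟨Fin.castAdd e ⟨i, hlen ▸ hi⟩, Fin.append_left _ _ _⟩
    have hmap : (Ideal.span (Set.range a)).map (Ideal.Quotient.mk J) ≥ Ideal.span (Set.range b) := by
      rw [ge_iff_le, Ideal.span_le]
      rintro _ ⟨i, rfl⟩
      rw [← hb' i]
      exact Ideal.mem_map_of_mem _ (Ideal.subset_span ⟨Fin.natAdd d i, Fin.append_right _ _ _⟩)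
    have hle : Ideal.span (Set.range a) ≤ IsLocalRing.maximalIdeal S := by
      rw [Ideal.span_le]
      rintro _ ⟨i, rfl⟩
      induction i using Fin.addCases with
      | left i =>
        simp only [a, Fin.append_left]
        exact hJle (Ideal.mem_map_of_mem _ (hspan ▸ Ideal.subset_span (List.getElem_mem _)))
      | right i =>
        simp only [a, Fin.append_right]
        rw [SetLike.mem_coe, IsLocalRing.mem_maximalIdeal]
        intro hu
        have h1 := hu.map (Ideal.Quotient.mk J)
        rw [hb'] at h1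
        exact (IsLocalRing.mem_maximalIdeal _).mp (hb.mem i) h1
    refine le_antisymm ((Ideal.IsPrime.radical_le_iff (IsLocalRing.maximalIdeal.isMaximal S).isPrime).2 hle) ?_
    intro v hv
    have h1 : Ideal.Quotient.mk J v ∈ IsLocalRing.maximalIdeal (S ⧸ J) := by
      rw [← IsLocalRing.map_maximalIdeal_of_surjective (Ideal.Quotient.mk J) Ideal.Quotient.mk_surjective]
      exact Ideal.mem_map_of_mem _ hv
    rw [← show (Ideal.span (Set.range b)).radical = IsLocalRing.maximalIdeal (S ⧸ J) from hb] at h1
    obtain ⟨N, hN⟩ := h1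
    rw [← map_pow] at hN
    obtain ⟨w, hw, hwe⟩ := (Ideal.mem_map_iff_of_surjective _ Ideal.Quotient.mk_surjective).mp (hmap hN)
    refine ⟨N, ?_⟩
    have h2 : v ^ N - w ∈ Ideal.span (Set.range a) := hJ (Ideal.Quotient.eq.mp hwe.symm)
    simpa using add_mem h2 hw
  have hdepth : ((d + e : ℕ) : ℕ∞) ≤ LocCoh.depth S S := by
    have h := LocCoh.IsCohenMacaulayLocalRing.supportDim_eq_depth (R := S)
    rw [Module.supportDim_self_eq_ringKrullDim, hdimS] at h
    exact (WithBot.coe_inj.mp h).le
  have hw := SerreReg.isWeaklyRegular_take_of_isSop hsop (CMSop.hasRegSeq_of_depth hdepth) d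
  have htake : (List.ofFn a).take d = rs.map (algebraMap R S) := by
    refine List.ext_getElem (by simp [hlen]) fun i h1 h2 => ?_
    rw [List.getElem_take, List.getElem_ofFn, List.getElem_map]
    rw [List.length_map, hlen] at h2
    exact Fin.append_left _ _ (⟨i, h2⟩ : Fin d)
  rw [htake, RingTheory.Sequence.isWeaklyRegular_map_algebraMap_iff] at hw
  exact SerreReg.flat_of_regular_rsop d R hd rs hlen hreg hspan S hw

end Groth.Agent.S2082
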