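import Groth.Statements.S2083
import Groth.Agent.EGA41CM.Basic

set_option autoImplicit false
universe u
open CAlg Groth.Agent

namespace Groth.Agent.S2083

/-- Let `R` be a Noetherian local ring, `M` a finite Cohen–Macaulay `R`-module and `g` a member of the
maximal ideal for which the support of `M/gM` has dimension exactly one less than that of `M`. Then
`g` is a nonzerodivisor on `M`, and the quotient `M/gM` is again Cohen–Macaulay, with depth one
smaller than that of `M`. -/
theorem result {R M : Type u} [CommRing R] [IsLocalRing R] [IsNoetherianRing R]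
    [AddCommGroup M] [Module R M] [Module.Finite R M] (hM : LocCoh.IsCohenMacaulayModule R M) (g : R)
    (hg : g ∈ IsLocalRing.maximalIdeal R)
    (hdim : Module.supportDim R (M ⧸ Ideal.span {g} • (⊤ : Submodule R M)) + 1 = Module.supportDim R M) :
    IsSMulRegular M g ∧ LocCoh.IsCohenMacaulayModule R (M ⧸ Ideal.span {g} • (⊤ : Submodule R M)) ∧
      LocCoh.depth R (M ⧸ Ideal.span {g} • (⊤ : Submodule R M)) + 1 = LocCoh.depth R M := by
  have e : Ideal.ofList [g] = Ideal.span {g} := Ideal.ofList_singleton g
  have hxs : ∀ x ∈ [g], x ∈ IsLocalRing.maximalIdeal R := by simpa using hg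
  have hr := EGA41CM.isWeaklyRegular_of_dim [g] M hM hxs (by rw [e]; simpa using hdim)
  have hq := EGA41CM.cm_quotient hM hxs hr
  rw [e] at hq
  refine ⟨((RingTheory.Sequence.isWeaklyRegular_cons_iff M g []).mp hr).1, hq, ?_⟩
  have h1 : ((LocCoh.depth R (M ⧸ Ideal.span {g} • (⊤ : Submodule R M)) : ℕ∞) : WithBot ℕ∞) + 1 =
      ((LocCoh.depth R M : ℕ∞) : WithBot ℕ∞) := by
    rw [← hq, ← hM]; exact hdim
  rw [← WithBot.coe_one, ← WithBot.coe_add] at h1
  exact WithBot.coe_inj.mp h1

end Groth.Agent.S2083
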