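import Groth.Statements.S2088
-- import your own Groth.Agent.* helpers here
import Groth.Agent.ResExt.Transc
import Groth.Agent.ResExt.Algebraic

set_option autoImplicit false
universe u
open CAlg

namespace Groth.Agent.S2088

/-- Let `(R, 𝔪, k)` be a local ring and `K/k` a field extension. Then there is a flat local homomorphism
of local rings `R → R'` with `𝔪R' = 𝔪_{R'}` whose residue field is isomorphic to `K` over `k`. -/
theorem result {R K : Type u} [CommRing R] [IsLocalRing R] [Field K]
    [Algebra (IsLocalRing.ResidueField R) K] :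
    ∃ (R' : Type u) (_ : CommRing R') (_ : IsLocalRing R') (_ : Algebra R R') (_ : IsLocalHom (algebraMap R R')),
      Module.Flat R R' ∧ (IsLocalRing.maximalIdeal R).map (algebraMap R R') = IsLocalRing.maximalIdeal R' ∧
      Nonempty (IsLocalRing.ResidueField R' ≃ₐ[IsLocalRing.ResidueField R] K) := by
  letI : Algebra R K := ((algebraMap (IsLocalRing.ResidueField R) K).comp (IsLocalRing.residue R)).toAlgebra
  have hker : RingHom.ker (algebraMap R K) = IsLocalRing.maximalIdeal R := by
    rw [RingHom.algebraMap_toAlgebra, RingHom.ker_comp_of_injective _ (RingHom.injective _), IsLocalRing.ker_residue]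
  obtain ⟨S, _, _, _, _, hst, hflat, hmax, hkerS, hint⟩ := Groth.Agent.ResExt.exists_transc K hker
  haveI := hst; haveI := hflat
  obtain ⟨C, _, _, hCflat, hCl, π, hπ, hπker⟩ := Groth.Agent.ResExt.exists_flat_of_isIntegral hkerS hint
  haveI := hCflat; haveI := hCl
  letI : Algebra R C := ((algebraMap S C).comp (algebraMap R S)).toAlgebra
  haveI : IsScalarTower R S C := IsScalarTower.of_algebraMap_eq' rfl
  haveI : Module.Flat R C := Module.Flat.trans R S C
  have hm : (IsLocalRing.maximalIdeal R).map (algebraMap R C) = IsLocalRing.maximalIdeal C := by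
    rw [IsScalarTower.algebraMap_eq R S C, ← Ideal.map_map, hmax, ← hπker]
    exact IsLocalRing.eq_maximalIdeal (RingHom.ker_isMaximal_of_surjective π hπ)
  haveI : IsLocalHom (algebraMap R C) := ((IsLocalRing.local_hom_TFAE (algebraMap R C)).out 0 2).mpr hm.le
  have hk : RingHom.ker π.toRingHom = IsLocalRing.maximalIdeal C :=
    IsLocalRing.eq_maximalIdeal (RingHom.ker_isMaximal_of_surjective π hπ)
  let e : IsLocalRing.ResidueField C ≃+* K :=
    (Ideal.quotEquivOfEq hk.symm).trans (RingHom.quotientKerEquivOfSurjective (f := π.toRingHom) hπ)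
  refine ⟨C, inferInstance, inferInstance, inferInstance, inferInstance, inferInstance, hm,
    ⟨AlgEquiv.ofRingEquiv (f := e) fun x => ?_⟩⟩
  obtain ⟨a, rfl⟩ := IsLocalRing.residue_surjective x
  show π (algebraMap S C (algebraMap R S a)) = algebraMap R K a
  rw [AlgHom.commutes, ← IsScalarTower.algebraMap_apply]

end Groth.Agent.S2088
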