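import Groth.Statements.S2090
import Groth.Agent.ReflLoc.Basic
import Mathlib.Tactic.NormNum

set_option autoImplicit false
universe u
open CAlg Groth.Agent

namespace Groth.Agent.S2090

/-- Let `R` be Noetherian and `φ : M → N` a map of `R`-modules with `M` finite. Suppose that for every
prime `𝔭` either `φ_𝔭` is bijective, or `M_𝔭` has depth at least two and `𝔭` is not an associated
prime of `N`. Then `φ` is bijective. -/
theorem result {R M N : Type u} [CommRing R] [IsNoetherianRing R] [AddCommGroup M]
    [Module R M] [Module.Finite R M] [AddCommGroup N] [Module R N] (φ : M →ₗ[R] N)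
    (h : ∀ (p : Ideal R) [p.IsPrime],
      Function.Bijective (LocalizedModule.map p.primeCompl φ) ∨
        (2 ≤ LocCoh.depth (Localization.AtPrime p) (LocalizedModule p.primeCompl M) ∧
          p ∉ associatedPrimes R N)) :
    Function.Bijective φ := by
  haveI : ∀ (p : Ideal R) [p.IsPrime], IsNoetherianRing (Localization.AtPrime p) := fun p _ => IsLocalization.isNoetherianRing p.primeCompl _ inferInstance
  have hinj : Function.Injective φ := by
    refine (injective_iff_map_eq_zero φ).2 fun m hm => by_contra fun hm0 => ?_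
    haveI : Nontrivial (LinearMap.ker φ) := ⟨⟨m, hm⟩, 0, fun e => hm0 (congrArg Subtype.val e)⟩
    obtain ⟨p, hp⟩ := associatedPrimes.nonempty R (LinearMap.ker φ)
    haveI := hp.isPrime
    obtain ⟨-, z, hz⟩ := isAssociatedPrime_iff.1 hp
    have hann : ∀ r : R, r ∈ p ↔ r • (z : M) = 0 := fun r => by
      rw [hz, Submodule.mem_colon_singleton, Submodule.mem_bot, Subtype.ext_iff]; rfl
    have h0 : LocalizedModule.mk (z : M) (1 : p.primeCompl) = 0 := by
      rcases h p with hb | ⟨hd, -⟩
      · exact hb.1 (by rw [LocalizedModule.map_mk, show φ (z : M) = 0 from z.2, map_zero, LocalizedModule.zero_mk])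
      · obtain ⟨x, hx, hreg⟩ := QGorD.exists_regular_of_one_le _ _ (le_trans (by norm_num) hd)
        obtain ⟨r, t, rfl⟩ := IsLocalization.exists_mk'_eq p.primeCompl x
        refine hreg ?_
        show IsLocalization.mk' (Localization.AtPrime p) r t • _ = IsLocalization.mk' (Localization.AtPrime p) r t • (0 : LocalizedModule p.primeCompl M)
        rw [smul_zero, ← Localization.mk_eq_mk', LocalizedModule.mk_smul_mk,
          (hann r).1 ((IsLocalization.AtPrime.mk'_mem_maximal_iff _ p r t).1 hx), LocalizedModule.zero_mk]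
    obtain ⟨s, hs⟩ := LocalizedModule.mk_eq.1 (h0.trans (LocalizedModule.zero_mk (1 : p.primeCompl)).symm)
    exact s.2 ((hann s).2 (by simpa [Submonoid.smul_def] using hs))
  refine ⟨hinj, fun n => by_contra fun hn => ?_⟩
  let C := N ⧸ LinearMap.range φ
  let N' : Submodule R C := Submodule.span R {Submodule.Quotient.mk n}
  haveI : Nontrivial N' := ⟨⟨_, Submodule.mem_span_singleton_self _⟩, 0, fun e => hn ((Submodule.Quotient.mk_eq_zero _).1 (congrArg Subtype.val e))⟩
  obtain ⟨p, hp⟩ := associatedPrimes.nonempty R N'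
  haveI := hp.isPrime
  obtain ⟨-, z, hz⟩ := isAssociatedPrime_iff.1 hp
  obtain ⟨ψ, hψ⟩ := Submodule.Quotient.mk_surjective _ (z : C)
  have hann : ∀ r : R, r ∈ p ↔ ∃ g, φ g = r • ψ := fun r => by
    rw [hz, Submodule.mem_colon_singleton, Submodule.mem_bot, Subtype.ext_iff, ← LinearMap.mem_range,
      ← Submodule.Quotient.mk_eq_zero, Submodule.Quotient.mk_smul, hψ]
    rfl
  let mk := LocalizedModule.mkLinearMap p.primeCompl M
  rcases h p with hb | ⟨hd, hass⟩
  · obtain ⟨w, hw⟩ := hb.2 (LocalizedModule.mk ψ 1)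
    induction w using LocalizedModule.induction_on with
    | h g t =>
      rw [LocalizedModule.map_mk, LocalizedModule.mk_eq] at hw
      obtain ⟨c, hc⟩ := hw
      refine (p.primeCompl.mul_mem c.2 t.2) ((hann _).2 ⟨(c : R) • g, ?_⟩)
      simp only [Submonoid.smul_def, Submonoid.coe_one, one_smul] at hc
      rw [map_smul, hc, smul_smul]
  · have hscale : ∀ {L : Type u} [AddCommGroup L] [Module (Localization.AtPrime p) L] (r : R) (t : p.primeCompl),
        IsSMulRegular L (IsLocalization.mk' (Localization.AtPrime p) r t) →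
        IsSMulRegular L (algebraMap R (Localization.AtPrime p) r) := by
      intro L _ _ r t h
      rw [← IsLocalization.mk'_spec (Localization.AtPrime p) r t]
      exact h.mul ((IsLocalization.map_units (Localization.AtPrime p) t).isSMulRegular L)
    obtain ⟨x', hx', hxreg'⟩ := QGorD.exists_regular_of_one_le _ _ (le_trans (by norm_num) hd)
    obtain ⟨x, t, rfl⟩ := IsLocalization.exists_mk'_eq p.primeCompl x'
    have hx : x ∈ p := (IsLocalization.AtPrime.mk'_mem_maximal_iff _ p x t).1 hx'
    have hxreg := hscale x t hxreg'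
    obtain ⟨y', hy', hyreg⟩ := QGorD.exists_regMod_of_two_le hd
      ((IsLocalization.AtPrime.to_map_mem_maximal_iff (Localization.AtPrime p) p x).2 hx) hxreg
    obtain ⟨y, t', rfl⟩ := IsLocalization.exists_mk'_eq p.primeCompl y'
    have hy : y ∈ p := (IsLocalization.AtPrime.mk'_mem_maximal_iff _ p y t').1 hy'
    rw [QGorD.regMod_iff] at hyreg
    have hyreg2 := (QGorD.regMod_iff _ _ _).2 (hscale y t' hyreg)
    obtain ⟨g, hg⟩ := (hann x).1 hx
    obtain ⟨g', hg'⟩ := (hann y).1 hy
    have hgg : y • g = x • g' := hinj (by rw [map_smul, map_smul, hg, hg', smul_comm])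
    obtain ⟨n', hn'⟩ := hyreg2 (mk g) (mk g') (by rw [algebraMap_smul, algebraMap_smul, ← map_smul, ← map_smul, hgg])
    obtain ⟨⟨g₂, s⟩, hs⟩ := IsLocalizedModule.surj p.primeCompl mk n'
    have h1 : mk (s.1 • g) = mk (x • g₂) := by
      rw [map_smul, map_smul, ← hs, hn', algebraMap_smul, Submonoid.smul_def, smul_comm]
    obtain ⟨c, hc⟩ := IsLocalizedModule.exists_of_eq (S := p.primeCompl) h1
    simp only [Submonoid.smul_def] at hc
    let w := (c.1 * s.1) • ψ - φ (c.1 • g₂)
    have hxw : x • w = 0 := by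
      simp only [w]
      rw [smul_sub, sub_eq_zero, ← map_smul φ x, smul_comm x c.1, ← hc, map_smul, map_smul, hg, smul_smul, smul_smul, smul_smul, mul_comm x]
    obtain ⟨G, hG⟩ := IsNoetherian.noetherian p
    have hkill : ∀ a : G, ∃ u : R, u ∉ p ∧ u • (a : R) • w = 0 := by
      intro a
      obtain ⟨ga, hga⟩ := (hann a).1 (hG ▸ Submodule.subset_span a.2)
      obtain ⟨v, hv⟩ : ∃ v, φ v = (a : R) • w := ⟨(c.1 * s.1) • ga - (a : R) • c.1 • g₂, by
        simp only [w]
        rw [map_sub, map_smul, hga, map_smul φ (a : R), smul_sub, smul_comm]⟩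
      have hxv : x • v = 0 := hinj (by rw [map_smul, hv, smul_comm, hxw, smul_zero, map_zero])
      have hmv : mk v = 0 := hxreg (by
        show algebraMap R (Localization.AtPrime p) x • mk v = algebraMap R (Localization.AtPrime p) x • (0 : LocalizedModule p.primeCompl M)
        rw [algebraMap_smul, ← map_smul, hxv, map_zero, smul_zero])
      obtain ⟨u, hu⟩ := IsLocalizedModule.exists_of_eq (S := p.primeCompl) (hmv.trans (map_zero mk).symm)
      simp only [Submonoid.smul_def, smul_zero] at hu
      exact ⟨u, u.2, by rw [← hv, ← map_smul, hu, map_zero]⟩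
    choose u hu hu0 using hkill
    let U := ∏ a, u a
    have hU : U ∉ p := fun hm => by
      obtain ⟨a, -, ha⟩ := Ideal.IsPrime.prod_mem_iff.1 hm
      exact hu a ha
    have hpU : p ≤ (⊥ : Submodule R N).colon {U • w} := by
      rw [← hG, Submodule.span_le]
      intro a ha
      rw [SetLike.mem_coe, Submodule.mem_colon_singleton, Submodule.mem_bot, smul_smul, mul_comm a, ← smul_smul]
      obtain ⟨b, hb⟩ := Finset.dvd_prod_of_mem u (Finset.mem_univ ⟨a, ha⟩)
      rw [show U = b * u ⟨a, ha⟩ by rw [mul_comm]; exact hb, mul_smul, hu0 ⟨a, ha⟩, smul_zero]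
    obtain ⟨v, hv, hvp⟩ : ∃ v ∈ (⊥ : Submodule R N).colon {U • w}, v ∉ p := by
      by_contra hc'
      push Not at hc'
      exact hass (isAssociatedPrime_iff.2 ⟨inferInstance, U • w, le_antisymm hpU hc'⟩)
    rw [Submodule.mem_colon_singleton, Submodule.mem_bot] at hv
    refine p.primeCompl.mul_mem (p.primeCompl.mul_mem hvp hU) (p.primeCompl.mul_mem c.2 s.2) ((hann _).2 ⟨(v * U) • c.1 • g₂, ?_⟩)
    simp only [w] at hv
    rw [smul_sub, smul_sub, sub_eq_zero] at hv
    rw [mul_smul (v * U), map_smul, ← smul_smul, ← smul_smul, hv]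

end Groth.Agent.S2090
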