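import Groth.Statements.S2093
import Groth.Agent.NormLoc.Zariski
import Groth.Agent.RegLoc.Order
import Groth.Agent.AdicBasics.Dimension
import Mathlib.RingTheory.Ideal.KrullsHeightTheorem

set_option autoImplicit false
universe u
open CAlg Groth.Agent

namespace Groth.Agent.S2093

/-- Let `(R, 𝔪)` be a Noetherian local domain and `x ∈ 𝔪` nonzero such that `R/xR` has no embedded
associated primes, and for every associated prime `𝔭` of `R/xR` the local ring `R_𝔭` is regular and
the completion of `R/𝔭` is reduced. Then the completion of `R` is reduced. -/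
theorem result {R : Type u} [CommRing R] [IsDomain R] [IsLocalRing R]
    [IsNoetherianRing R] (x : R) (hx : x ≠ 0) (hxm : x ∈ IsLocalRing.maximalIdeal R)
    (hemb : ∀ p ∈ associatedPrimes R (R ⧸ Ideal.span {x}), p ∈ (Ideal.span {x}).minimalPrimes)
    (hreg : ∀ p ∈ associatedPrimes R (R ⧸ Ideal.span {x}), ∀ (_ : p.IsPrime),
      IsRegularLocalRing (Localization.AtPrime p) ∧
        IsReduced (AdicCompletion ((IsLocalRing.maximalIdeal R).map (Ideal.Quotient.mk p)) (R ⧸ p))) :
    IsReduced (AdicCompletion (IsLocalRing.maximalIdeal R) R) := by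
  classical
  set Â := AdicCompletion (IsLocalRing.maximalIdeal R) R
  refine NormLoc.isReduced_of_zariski (A := R) (B := Â) x (mem_nonZeroDivisors_of_ne_zero hx) ?_ (fun p hp => hemb p hp)
    (fun q _ hq => ?_) (fun q _ hq => ?_)
  · rw [IsLocalRing.jacobson_eq_maximalIdeal _ bot_ne_top, AdicCompletion.maximalIdeal_eq_map]
    exact Ideal.mem_map_of_mem _ hxm
  · obtain ⟨hreg', -⟩ := hreg q hq ‹_›
    haveI := hreg'
    haveI : IsDomain (Localization.AtPrime q) := RegLoc.isDomain _
    have hle : ringKrullDim (Localization.AtPrime q) ≤ 1 := by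
      rw [IsLocalization.AtPrime.ringKrullDim_eq_height q]
      exact_mod_cast Ideal.height_le_one_of_isPrincipal_of_mem_minimalPrimes (Ideal.span {x}) q (hemb q hq) 
    haveI : Ring.KrullDimLE 1 (Localization.AtPrime q) := Ring.krullDimLE_iff.2 hle
    have hxq : x ∈ q := (hemb q hq).1.2 (Ideal.mem_span_singleton_self x)
    have hnf : ¬ IsField (Localization.AtPrime q) := fun hf => by
      have h0 := IsLocalRing.isField_iff_maximalIdeal_eq.1 hf
      rw [← Localization.AtPrime.map_eq_maximalIdeal, Ideal.map_eq_bot_iff_of_injective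
        (IsLocalization.injective (Localization.AtPrime q) q.primeCompl_le_nonZeroDivisors)] at h0
      exact hx ((Submodule.mem_bot R).1 (h0 ▸ hxq))
    refine ⟨inferInstance, ((IsDiscreteValuationRing.TFAE _ hnf).out 0 4).2 ?_⟩
    have h1 : (IsLocalRing.maximalIdeal (Localization.AtPrime q)).spanFinrank ≤ 1 := by
      have := IsRegularLocalRing.spanFinrank_maximalIdeal (R := Localization.AtPrime q)
      exact_mod_cast this.le.trans hle
    obtain ⟨f, hf⟩ := Submodule.FG.exists_span_finset_card_eq_spanFinrank (IsNoetherian.noetherian (IsLocalRing.maximalIdeal (Localization.AtPrime q)))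
    rcases Finset.card_le_one_iff_subset_singleton.1 (hf.1.le.trans h1) with ⟨w, hw⟩
    rcases Finset.subset_singleton_iff.1 hw with rfl | rfl
    · exact ⟨0, by rw [← hf.2]; simp⟩
    · exact ⟨w, by rw [← hf.2]; simp⟩
  · obtain ⟨-, hr⟩ := hreg q hq ‹_›
    haveI : IsLocalRing (R ⧸ q) := IsLocalRing.of_surjective' _ Ideal.Quotient.mk_surjective
    have hm : (IsLocalRing.maximalIdeal R).map (Ideal.Quotient.mk q) = IsLocalRing.maximalIdeal (R ⧸ q) :=
      ((Ideal.map_eq_top_or_isMaximal_of_surjective _ Ideal.Quotient.mk_surjective (IsLocalRing.maximalIdeal.isMaximal R)).resolve_left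
        fun h => (IsLocalRing.maximalIdeal.isMaximal R).ne_top (top_le_iff.1 (by
          have h2 := congrArg (Ideal.comap (Ideal.Quotient.mk q)) h
          rw [Ideal.comap_top, Ideal.comap_map_of_surjective _ Ideal.Quotient.mk_surjective, ← RingHom.ker_eq_comap_bot,
            Ideal.mk_ker, sup_eq_left.2 (IsLocalRing.le_maximalIdeal (Ideal.IsPrime.ne_top ‹_›))] at h2
          exact h2.ge))) |> IsLocalRing.eq_maximalIdeal
    rw [hm] at hr
    obtain ⟨e⟩ := Cohen.exists_quotient_equiv (Ideal.Quotient.mk q) Ideal.Quotient.mk_surjective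
    rw [Ideal.mk_ker] at e
    exact isReduced_of_injective e e.injective

end Groth.Agent.S2093
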