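import Groth.Statements.S2094
import Mathlib.LinearAlgebra.SymmetricAlgebra.Basis
import Mathlib.RingTheory.Smooth.Basic
import Mathlib.Algebra.TrivSqZeroExt.Basic
import Mathlib.Algebra.Module.Projective
import Mathlib.RingTheory.Finiteness.Basic

set_option autoImplicit false
universe u
open CAlg

namespace Groth.Agent.S2094

/-- The symmetric algebra of an `A`-module is a smooth `A`-algebra exactly when the module is finite
projective. -/
theorem result {A M : Type u} [CommRing A] [AddCommGroup M] [Module A M] :
    Algebra.Smooth A (SymmetricAlgebra A M) ↔ Module.Finite A M ∧ Module.Projective A M := by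
  classical
  constructor
  · intro h
    obtain ⟨hfs, hfp⟩ := h
    constructor
    · obtain ⟨⟨G, hG⟩⟩ : Algebra.FiniteType A (SymmetricAlgebra A M) := inferInstance
      have hsub : ∀ z : SymmetricAlgebra A M, ∃ t : Finset M,
          z ∈ Algebra.adjoin A (SymmetricAlgebra.ι A M '' (t : Set M)) := by
        intro z
        induction z using SymmetricAlgebra.induction with
        | algebraMap r => exact ⟨∅, Subalgebra.algebraMap_mem _ r⟩
        | ι x => exact ⟨{x}, Algebra.subset_adjoin ⟨x, by simp, rfl⟩⟩
        | mul a b ha hb =>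
          obtain ⟨s, hs⟩ := ha; obtain ⟨t, ht⟩ := hb
          exact ⟨s ∪ t, mul_mem (Algebra.adjoin_mono (Set.image_mono (by simp)) hs)
            (Algebra.adjoin_mono (Set.image_mono (by simp)) ht)⟩
        | add a b ha hb =>
          obtain ⟨s, hs⟩ := ha; obtain ⟨t, ht⟩ := hb
          exact ⟨s ∪ t, add_mem (Algebra.adjoin_mono (Set.image_mono (by simp)) hs)
            (Algebra.adjoin_mono (Set.image_mono (by simp)) ht)⟩
      choose t ht using hsub
      refine ⟨⟨G.biUnion t, ?_⟩⟩
      let M0 := Submodule.span A ((G.biUnion t : Finset M) : Set M)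
      rw [eq_top_iff]
      rintro x -
      letI : Module Aᵐᵒᵖ (M ⧸ M0) := Module.compHom _ ((RingHom.id A).fromOpposite mul_comm)
      haveI : IsCentralScalar A (M ⧸ M0) := ⟨fun _ _ => rfl⟩
      let φ : SymmetricAlgebra A M →ₐ[A] TrivSqZeroExt A (M ⧸ M0) :=
        SymmetricAlgebra.lift ((TrivSqZeroExt.inrHom A (M ⧸ M0)).comp M0.mkQ)
      have hbot : ∀ z, φ z ∈ (Algebra.ofId A (TrivSqZeroExt A (M ⧸ M0))).range := by
        intro z
        have hz : z ∈ Algebra.adjoin A (G : Set (SymmetricAlgebra A M)) := by rw [hG]; trivial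
        refine Algebra.adjoin_le (S := ((Algebra.ofId A (TrivSqZeroExt A (M ⧸ M0))).range.comap φ)) ?_ hz
        intro g hg
        refine Algebra.adjoin_le ?_ (ht g)
        rintro _ ⟨m, hm, rfl⟩
        refine ⟨0, ?_⟩
        have : M0.mkQ m = 0 := (Submodule.Quotient.mk_eq_zero _).mpr
          (Submodule.subset_span (Finset.mem_biUnion.mpr ⟨g, hg, hm⟩))
        simp [φ, this]
      obtain ⟨a, ha⟩ := hbot (SymmetricAlgebra.ι A M x)
      have := congrArg TrivSqZeroExt.snd ha
      simp [φ, TrivSqZeroExt.algebraMap_eq_inl] at this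
      exact (Submodule.Quotient.mk_eq_zero M0).mp this.symm
    · refine Module.Projective.of_lifting_property'' fun π hπ => ?_
      let F := M →₀ A
      letI : Module Aᵐᵒᵖ M := Module.compHom _ ((RingHom.id A).fromOpposite mul_comm)
      haveI : IsCentralScalar A M := ⟨fun _ _ => rfl⟩
      let g : TrivSqZeroExt A F →ₐ[A] TrivSqZeroExt A M := TrivSqZeroExt.map π
      have hg : Function.Surjective g := by
        intro z
        obtain ⟨f, hf⟩ := hπ z.snd
        exact ⟨TrivSqZeroExt.inl z.fst + TrivSqZeroExt.inr f, by
          rw [map_add, TrivSqZeroExt.map_inl, TrivSqZeroExt.map_inr, hf]; exact TrivSqZeroExt.inl_fst_add_inr_snd_eq z⟩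
      let f : SymmetricAlgebra A M →ₐ[A] TrivSqZeroExt A M :=
        SymmetricAlgebra.lift (TrivSqZeroExt.inrHom A M)
      have hnil : IsNilpotent (RingHom.ker g) := by
        refine ⟨2, (pow_two (RingHom.ker g)).trans ?_⟩
        rw [Submodule.zero_eq_bot, eq_bot_iff, Ideal.mul_le]
        intro a ha b hb
        have ha' : a.fst = 0 := by simpa [g] using congrArg TrivSqZeroExt.fst (RingHom.mem_ker.mp ha)
        have hb' : b.fst = 0 := by simpa [g] using congrArg TrivSqZeroExt.fst (RingHom.mem_ker.mp hb)
        rw [Submodule.mem_bot]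
        exact TrivSqZeroExt.ext (by rw [TrivSqZeroExt.fst_mul, ha', zero_mul, TrivSqZeroExt.fst_zero])
          (by rw [TrivSqZeroExt.snd_mul, ha', hb']; simp)
      let l := Algebra.FormallySmooth.liftOfSurjective f g hg hnil
      refine ⟨(TrivSqZeroExt.sndHom A F).comp (l.toLinearMap.comp (SymmetricAlgebra.ι A M)), ?_⟩
      ext x
      have := congrArg TrivSqZeroExt.snd (Algebra.FormallySmooth.liftOfSurjective_apply f g hg hnil (SymmetricAlgebra.ι A M x))
      rw [TrivSqZeroExt.snd_map] at this
      refine this.trans ?_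
      simp [f]
  · rintro ⟨hfin, hproj⟩
    refine @Algebra.Smooth.mk _ _ _ _ _ ?_ ?_
    · refine Algebra.FormallySmooth.of_comp_surjective fun B _ _ I hI φ => ?_
      obtain ⟨l, hl⟩ := Module.projective_lifting_property (Ideal.Quotient.mkₐ A I).toLinearMap
        (φ.toLinearMap.comp (SymmetricAlgebra.ι A M)) (Ideal.Quotient.mkₐ_surjective A I)
      refine ⟨SymmetricAlgebra.lift l, SymmetricAlgebra.algHom_ext (LinearMap.ext fun x => ?_)⟩
      simpa using LinearMap.congr_fun hl x
    · obtain ⟨n, p, hp⟩ := Module.Finite.exists_fin' A M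
      obtain ⟨i, hi⟩ := Module.projective_lifting_property p LinearMap.id hp
      have hpi : ∀ x, p (i x) = x := fun x => LinearMap.congr_fun hi x
      let b := Pi.basisFun A (Fin n)
      haveI : Algebra.FinitePresentation A (SymmetricAlgebra A (Fin n → A)) :=
        Algebra.FinitePresentation.equiv (SymmetricAlgebra.equivMvPolynomial b).symm
      let P : SymmetricAlgebra A (Fin n → A) →ₐ[A] SymmetricAlgebra A M :=
        SymmetricAlgebra.lift ((SymmetricAlgebra.ι A M).comp p)
      let J : Ideal (SymmetricAlgebra A (Fin n → A)) :=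
        Ideal.span (Set.range fun j => SymmetricAlgebra.ι A (Fin n → A) (b j - i (p (b j))))
      have hP : Function.Surjective P := by
        intro z
        refine ⟨SymmetricAlgebra.lift ((SymmetricAlgebra.ι A (Fin n → A)).comp i) z, ?_⟩
        rw [← AlgHom.comp_apply]
        conv_rhs => rw [← AlgHom.id_apply (R := A) z]
        congr 1
        apply SymmetricAlgebra.algHom_ext
        ext x
        simp [P, hpi]
      refine Algebra.FinitePresentation.of_surjective hP ?_
      have : RingHom.ker P.toRingHom = J := by
        apply le_antisymm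
        · intro z hz
          let Q : SymmetricAlgebra A M →ₐ[A] SymmetricAlgebra A (Fin n → A) ⧸ J :=
            SymmetricAlgebra.lift (((Ideal.Quotient.mkₐ A J).toLinearMap.comp (SymmetricAlgebra.ι A (Fin n → A))).comp i)
          have : Q.comp P = Ideal.Quotient.mkₐ A J := by
            apply SymmetricAlgebra.algHom_ext
            apply b.ext
            intro j
            show Q (P (SymmetricAlgebra.ι A _ (b j))) = Ideal.Quotient.mk J (SymmetricAlgebra.ι A _ (b j))
            simp only [P, Q, SymmetricAlgebra.lift_ι_apply, LinearMap.coe_comp, Function.comp_apply,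
              AlgHom.toLinearMap_apply, Ideal.Quotient.mkₐ_eq_mk]
            rw [eq_comm, Ideal.Quotient.eq, ← map_sub]
            exact Ideal.subset_span ⟨j, rfl⟩
          rw [← Ideal.Quotient.eq_zero_iff_mem]
          have h2 := AlgHom.congr_fun this z
          rw [AlgHom.comp_apply, show P z = 0 from hz, map_zero] at h2
          exact h2.symm
        · rw [Ideal.span_le]
          rintro _ ⟨j, rfl⟩
          simp [P, hpi]
      rw [this]
      exact Submodule.fg_span (Set.finite_range _)

end Groth.Agent.S2094
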