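import Groth.Statements.S2095
-- import your own Groth.Agent.* helpers here
import Mathlib

set_option autoImplicit false
universe u
open CAlg

namespace Groth.Agent.S2095

open TensorProduct in
/-- Let `R → S` be a ring map, `𝔫 ⊆ S` an ideal and `R → R'` a ring map admitting an `R`-linear
retraction. If `R' → R' ⊗ S` is formally smooth for the adic topology of the extension of `𝔫`, then
`R → S` is formally smooth for the `𝔫`-adic topology. -/
theorem result {R S R' : Type u} [CommRing R] [CommRing S] [Algebra R S]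
    (𝔫 : Ideal S) [CommRing R'] [Algebra R R'] (ρ : R' →ₗ[R] R) (hρ : ∀ r : R, ρ (algebraMap R R' r) = r)
    (h : CAlgX.IsAdicFormallySmooth R' (R' ⊗[R] S)
      (𝔫.map (Algebra.TensorProduct.includeRight : S →ₐ[R] R' ⊗[R] S))) :
    CAlgX.IsAdicFormallySmooth R S 𝔫 := by
  classical
  intro E _ _ J hJ ψ ⟨j, hj⟩
  let E' := R' ⊗[R] E
  let ι : E →ₐ[R] E' := Algebra.TensorProduct.includeRight
  let ρE : E' →ₗ[R] E := (TensorProduct.lid R E).toLinearMap ∘ₗ ρ.rTensor E
  have hρE : ∀ (r : R') (e : E), ρE (r ⊗ₜ e) = ρ r • e := fun r e => by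
    show TensorProduct.lid R E (ρ r ⊗ₜ e) = _
    rw [TensorProduct.lid_tmul]
  have hρι : ∀ e, ρE (ι e) = e := fun e => by
    show ρE ((1 : R') ⊗ₜ e) = e
    rw [hρE, ← map_one (algebraMap R R'), hρ, one_smul]
  have hρmul : ∀ (z : E') (e : E), ρE (z * ι e) = ρE z * e := fun z e => by
    induction z using TensorProduct.induction_on with
    | zero => rw [zero_mul, map_zero, zero_mul]
    | add x y hx hy => rw [add_mul, map_add, hx, hy, map_add, add_mul]
    | tmul r e' =>
      show ρE (r ⊗ₜ e' * (1 : R') ⊗ₜ e) = _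
      rw [Algebra.TensorProduct.tmul_mul_tmul, mul_one, hρE, hρE, smul_mul_assoc]
  let J' : Ideal E' := J.map ι
  have hρJ : ∀ z ∈ J', ρE z ∈ J := fun z hz => by
    suffices h : ∀ a, ρE (a * z) ∈ J by simpa using h 1
    induction hz using Submodule.span_induction with
    | mem x hx =>
      obtain ⟨e, he, rfl⟩ := hx
      intro a
      rw [hρmul]
      exact Ideal.mul_mem_left _ _ he
    | zero => intro a; rw [mul_zero, map_zero]; exact zero_mem _
    | add x y _ _ hx hy => intro a; rw [mul_add, map_add]; exact add_mem (hx a) (hy a)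
    | smul b x _ hx => intro a; rw [smul_eq_mul, ← mul_assoc]; exact hx (a * b)
  have hJ'2 : J' ^ 2 = ⊥ := by rw [← Ideal.map_pow, hJ, Ideal.map_bot]
  let φ : E ⧸ J →ₐ[R] E' ⧸ J' := Ideal.Quotient.liftₐ J ((Ideal.Quotient.mkₐ R J').comp ι) fun e he =>
    Ideal.Quotient.eq_zero_iff_mem.mpr (Ideal.mem_map_of_mem ι he)
  let ψ' : R' ⊗[R] S →ₐ[R'] E' ⧸ J' :=
    Algebra.TensorProduct.lift (Algebra.ofId R' (E' ⧸ J')) (φ.comp ψ) fun _ _ => Commute.all _ _
  obtain ⟨χ, hχ⟩ := h E' J' hJ'2 ψ' ⟨j, fun x hx => by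
    have hle : ((𝔫.map (Algebra.TensorProduct.includeRight : S →ₐ[R] R' ⊗[R] S)) ^ j).map ψ'.toRingHom ≤ ⊥ := by
      rw [← Ideal.map_pow]
      refine Ideal.map_le_iff_le_comap.mpr (Ideal.map_le_iff_le_comap.mpr fun y hy => ?_)
      show ψ' ((1 : R') ⊗ₜ y) = 0
      rw [Algebra.TensorProduct.lift_tmul, map_one, one_mul, AlgHom.comp_apply, hj y hy, map_zero]
    exact (Submodule.mem_bot _).mp (hle (Ideal.mem_map_of_mem ψ'.toRingHom hx))⟩
  have hχ' : ∀ s, Ideal.Quotient.mk J' (χ ((1 : R') ⊗ₜ s)) = φ (ψ s) := fun s =>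
    (DFunLike.congr_fun hχ _).trans (by rw [Algebra.TensorProduct.lift_tmul, map_one, one_mul, AlgHom.comp_apply])
  let P := MvPolynomial S R
  let f : P →ₐ[R] S := MvPolynomial.aeval id
  have hf : Function.Surjective f := fun s => ⟨MvPolynomial.X s, MvPolynomial.aeval_X _ _⟩
  choose c hc using fun s : S => Ideal.Quotient.mk_surjective (ψ s)
  let g : P →ₐ[R] E := MvPolynomial.aeval c
  have hgu : ∀ p, Ideal.Quotient.mk J (g p) = ψ (f p) := by
    refine fun p => DFunLike.congr_fun (?_ : (Ideal.Quotient.mkₐ R J).comp g = ψ.comp f) p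
    exact MvPolynomial.algHom_ext fun s => by simp [g, f, hc]
  let L : P →ₐ[R] E' := (χ.restrictScalars R).comp ((Algebra.TensorProduct.includeRight : S →ₐ[R] R' ⊗[R] S).comp f)
  let D' : P → E' := fun p => ι (g p) - L p
  have hD' : ∀ p, D' p ∈ J' := fun p => by
    rw [← Ideal.Quotient.eq_zero_iff_mem, map_sub, sub_eq_zero]
    show φ (Ideal.Quotient.mk J (g p)) = _
    rw [hgu]
    exact (hχ' (f p)).symm
  have hD'mul : ∀ p q, D' (p * q) = D' q * ι (g p) + D' p * ι (g q) := fun p q => by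
    have h0 : D' p * D' q = 0 := (Submodule.mem_bot _).mp (hJ'2 ▸ (pow_two J').symm ▸ Ideal.mul_mem_mul (hD' p) (hD' q))
    simp only [D', map_mul] at h0 ⊢
    linear_combination -h0
  let v : P →ₐ[R] E :=
    { toFun := fun p => g p - ρE (D' p)
      map_one' := by simp [D']
      map_zero' := by simp [D']
      map_add' := fun p q => by
        simp only [D', map_add, map_sub]
        ring
      map_mul' := fun p q => by
        have h0 : ρE (D' p) * ρE (D' q) = 0 :=
          (Submodule.mem_bot _).mp (hJ ▸ (pow_two J).symm ▸ Ideal.mul_mem_mul (hρJ _ (hD' p)) (hρJ _ (hD' q)))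
        rw [hD'mul, map_add, hρmul, hρmul, map_mul]
        linear_combination -h0
      commutes' := fun r => by
        show g (algebraMap R P r) - ρE (ι (g (algebraMap R P r)) - L (algebraMap R P r)) = algebraMap R E r
        rw [g.commutes, L.commutes, ι.commutes, sub_self, map_zero, sub_zero] }
  have hker : ∀ p ∈ RingHom.ker f, v p = 0 := fun p hp => by
    show g p - ρE (ι (g p) - L p) = 0
    have : L p = 0 := by simp [L, RingHom.mem_ker.mp hp]
    rw [this, sub_zero, hρι, sub_self]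
  refine ⟨(Ideal.Quotient.liftₐ _ v hker).comp (Ideal.quotientKerAlgEquivOfSurjective hf).symm.toAlgHom,
    AlgHom.ext fun s => ?_⟩
  obtain ⟨p, rfl⟩ := hf s
  have he : (Ideal.quotientKerAlgEquivOfSurjective hf).symm (f p) = Ideal.Quotient.mk _ p :=
    (Ideal.quotientKerAlgEquivOfSurjective hf).symm_apply_eq.mpr rfl
  show Ideal.Quotient.mk J (Ideal.Quotient.liftₐ _ v hker ((Ideal.quotientKerAlgEquivOfSurjective hf).symm (f p))) = _
  rw [he]
  show Ideal.Quotient.mk J (g p - ρE (D' p)) = _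
  rw [map_sub, hgu, Ideal.Quotient.eq_zero_iff_mem.mpr (hρJ _ (hD' p)), sub_zero]

end Groth.Agent.S2095
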