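import Groth.Statements.S2096
-- import your own Groth.Agent.* helpers here
import Groth.Agent.GRingCpl.EtaleStages

set_option autoImplicit false
universe u
open CAlg

namespace Groth.Agent.S2096

/-- Let `B` be a Noetherian ind-étale `A`-algebra (a filtered colimit of étale algebras) and `𝔭` a prime
of `A`. Then only finitely many primes of `B` lie over `𝔭`, the fibre ring `B ⊗ κ(𝔭)` is reduced of
dimension zero, and each residue field extension `κ(𝔮)/κ(𝔭)` is separable algebraic. -/
theorem result {A B : Type u} [CommRing A] [CommRing B] [Algebra A B] (hB : EtPBC.IsIndEtale A B)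
    [IsNoetherianRing B] (p : Ideal A) [p.IsPrime] :
    {q : PrimeSpectrum B | q.asIdeal.LiesOver p}.Finite ∧ IsReduced (p.Fiber B) ∧ ringKrullDim (p.Fiber B) ≤ 0 ∧
      ∀ (q : Ideal B) [q.IsPrime] [q.LiesOver p],
        @Algebra.IsSeparable p.ResidueField q.ResidueField _ _
          (Ideal.ResidueField.mapₐ p q (Algebra.ofId A B) (q.over_def p)).toRingHom.toAlgebra := by
  have hS := Groth.Agent.GRingCpl.hasEtaleStages_of_isIndEtale hB
  have hU := Groth.Agent.GRingCpl.unramifiedFibres_of_hasEtaleStages hS
  obtain ⟨hart, hred⟩ := Groth.Agent.GRingCpl.isReduced_isArtinian_fibre hU hS p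
  haveI : IsArtinianRing (p.Fiber B) := hart
  refine ⟨?_, hred, ?_, fun q _ _ => ?_⟩
  · haveI : Finite (PrimeSpectrum (p.Fiber B)) := inferInstance
    exact Set.finite_coe_iff.mp (Finite.of_equiv _ (PrimeSpectrum.preimageEquivFiber A B ⟨p, inferInstance⟩).symm) |>.subset
      fun q (hq : q.asIdeal.LiesOver p) => PrimeSpectrum.ext hq.over.symm
  · exact Ring.krullDimLE_iff.mp (inferInstance : Ring.KrullDimLE 0 (p.Fiber B))
  · letI := (Ideal.ResidueField.mapₐ p q (Algebra.ofId A B) (q.over_def p)).toRingHom.toAlgebra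
    haveI : IsScalarTower A p.ResidueField q.ResidueField := IsScalarTower.of_algebraMap_eq fun r =>
      ((Ideal.ResidueField.mapₐ p q (Algebra.ofId A B) (q.over_def p)).commutes r).symm
    exact (Groth.Agent.GRingCpl.exists_idempotent_residueField hU hS p q).1

end Groth.Agent.S2096
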