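import Groth.Statements.S2097
import Mathlib.RingTheory.Smooth.Basic
import Mathlib.RingTheory.Noetherian.Nilpotent
import Mathlib.RingTheory.FinitePresentation

set_option autoImplicit false
universe u
open CAlg

namespace Groth.Agent.S2097

/-- Let `R → S` be smooth, `A` an `R`-algebra and `I ⊆ A` an ideal all of whose elements are nilpotent.
Every `R`-algebra map `S → A/I` lifts to an `R`-algebra map `S → A`. -/
theorem result {R S A : Type u} [CommRing R] [CommRing S] [Algebra R S] [Algebra.Smooth R S]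
    [CommRing A] [Algebra R A] (I : Ideal A) (hI : ∀ x ∈ I, IsNilpotent x) (g : S →ₐ[R] A ⧸ I) :
    ∃ f : S →ₐ[R] A, (Ideal.Quotient.mkₐ R I).comp f = g := by
  obtain ⟨n, π, hπ, hfg⟩ := (inferInstance : Algebra.FinitePresentation R S)
  obtain ⟨G, hG⟩ := hfg
  choose a ha using fun i => Ideal.Quotient.mk_surjective (g (π (MvPolynomial.X i)))
  let φ : MvPolynomial (Fin n) R →ₐ[R] A := MvPolynomial.aeval a
  have hφ : (Ideal.Quotient.mkₐ R I).comp φ = g.comp π := MvPolynomial.algHom_ext fun i => by simp [φ, ha]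
  let J : Ideal A := (RingHom.ker π.toRingHom).map φ.toRingHom
  have hJI : J ≤ I := by
    refine Ideal.map_le_iff_le_comap.2 fun x hx => ?_
    rw [Ideal.mem_comap, ← Ideal.Quotient.eq_zero_iff_mem]
    have h1 : Ideal.Quotient.mkₐ R I (φ x) = g (π x) := DFunLike.congr_fun hφ x
    rw [show π x = 0 from hx, map_zero] at h1
    exact h1
  have hJnil : IsNilpotent J := by
    have hJfg : J.FG := Ideal.FG.map ⟨G, hG⟩ _
    exact (Ideal.FG.isNilpotent_iff_le_nilradical hJfg).2 fun x hx => hI x (hJI hx)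
  let ψ : S →ₐ[R] A ⧸ J := AlgHom.liftOfSurjective π hπ ((Ideal.Quotient.mkₐ R J).comp φ) fun x hx =>
    Ideal.Quotient.eq_zero_iff_mem.2 (Ideal.mem_map_of_mem _ hx)
  obtain ⟨f, hf⟩ := Algebra.FormallySmooth.exists_lift J hJnil ψ
  refine ⟨f, AlgHom.ext fun s => ?_⟩
  obtain ⟨x, rfl⟩ := hπ s
  have h1 : Ideal.Quotient.mkₐ R J (f (π x)) = ψ (π x) := DFunLike.congr_fun hf _
  rw [show ψ (π x) = Ideal.Quotient.mkₐ R J (φ x) from AlgHom.liftOfSurjective_apply _ _ _ _ x] at h1
  have h2 : f (π x) - φ x ∈ J := Ideal.Quotient.eq.1 h1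
  calc Ideal.Quotient.mkₐ R I (f (π x)) = Ideal.Quotient.mkₐ R I (φ x) := Ideal.Quotient.eq.2 (hJI h2)
    _ = g (π x) := DFunLike.congr_fun hφ x

end Groth.Agent.S2097
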