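import Groth.Statements.S2098
import Mathlib.RingTheory.Filtration
import Mathlib.RingTheory.Finiteness.Cardinality
import Mathlib.Algebra.Module.Submodule.Pointwise
import Mathlib.LinearAlgebra.Isomorphisms

set_option autoImplicit false
universe u
open CAlg

namespace Groth.Agent.S2098

theorem pi_mem {R : Type*} [CommRing R] {ι : Type*} [Fintype ι] {N : Type*} [AddCommGroup N]
    [Module R N] (J : Ideal R) (f : ι → N) (h : ∀ i, f i ∈ J • (⊤ : Submodule R N)) :
    f ∈ J • (⊤ : Submodule R (ι → N)) := by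
  classical
  have : f = ∑ i, LinearMap.single R (fun _ => N) i (f i) := by
    ext j; simp [Pi.single_apply, Finset.sum_apply]
  rw [this]
  refine Submodule.sum_mem _ fun i _ => ?_
  have h2 := Submodule.mem_map_of_mem (f := LinearMap.single R (fun _ => N) i) (h i)
  rw [Submodule.map_smul''] at h2
  exact Submodule.smul_mono le_rfl le_top h2

theorem pi_apply_mem {R : Type*} [CommRing R] {ι : Type*} {N : Type*} [AddCommGroup N]
    [Module R N] (J : Ideal R) {f : ι → N} (h : f ∈ J • (⊤ : Submodule R (ι → N))) (i : ι) :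
    f i ∈ J • (⊤ : Submodule R N) := by
  have h2 := Submodule.mem_map_of_mem (f := (LinearMap.proj i : (ι → N) →ₗ[R] N)) h
  rw [Submodule.map_smul''] at h2
  exact Submodule.smul_mono le_rfl le_top h2

/-- Let `R` be Noetherian, `I` an ideal inside the Jacobson radical and `u : N → M` a map of finite
`R`-modules. If for arbitrarily large `n` the induced map `N/IⁿN → M/IⁿM` has a left inverse, then
`u` has a left inverse. -/
theorem result {R M N : Type u} [CommRing R] [IsNoetherianRing R] (I : Ideal R)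
    (hI : I ≤ (⊥ : Ideal R).jacobson) [AddCommGroup M] [Module R M] [Module.Finite R M] [AddCommGroup N] [Module R N]
    [Module.Finite R N] (u : N →ₗ[R] M)
    (h : ∀ n₀ : ℕ, ∃ n, n₀ ≤ n ∧ ∃ s : (M ⧸ (I ^ n) • (⊤ : Submodule R M)) →ₗ[R] (N ⧸ (I ^ n) • (⊤ : Submodule R N)),
      ∀ x : N, s (Submodule.Quotient.mk (u x)) = Submodule.Quotient.mk x) :
    ∃ s : M →ₗ[R] N, s.comp u = LinearMap.id := by
  classical
  obtain ⟨b, p, hp⟩ := Module.Finite.exists_fin' R M
  obtain ⟨d, g, hg⟩ := Module.Finite.exists_fin' R N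
  obtain ⟨a, q, hq⟩ := Submodule.fg_iff_exists_fin_generating_family.1
    (IsNoetherian.noetherian (LinearMap.ker p))
  have hsum : ∀ c : Fin b → R, p c = ∑ i, c i • p (Pi.single i 1) := fun c => by
    conv_lhs => rw [pi_eq_sum_univ' c]
    simp only [map_sum, map_smul]
  let T : (Fin b → N) →ₗ[R] (Fin a → N) :=
    LinearMap.pi fun j => ∑ i, q j i • LinearMap.proj i
  obtain ⟨k, hk⟩ := I.exists_pow_inf_eq_pow_smul (LinearMap.range T)
  let ev : (N →ₗ[R] N) →ₗ[R] (Fin d → N) :=
    LinearMap.pi fun i => LinearMap.applyₗ (g (Pi.single i 1))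
  have hev : Function.Injective ev := fun φ ψ h => by
    have : φ ∘ₗ g = ψ ∘ₗ g := LinearMap.pi_ext' fun i => LinearMap.ext_ring (congr_fun h i)
    exact LinearMap.ext fun x => by
      obtain ⟨c, rfl⟩ := hg x
      exact LinearMap.congr_fun this c
  let C : Submodule R (N →ₗ[R] N) := LinearMap.range (LinearMap.lcomp R N u)
  have key : ∀ m : ℕ, ev LinearMap.id ∈ C.map ev ⊔ I ^ m • (⊤ : Submodule R (Fin d → N)) := by
    intro m
    obtain ⟨n, hn, s, hs⟩ := h (m + k)
    let y : Fin b → N := fun i =>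
      Function.surjInv (Submodule.mkQ_surjective (I ^ n • (⊤ : Submodule R N)))
        (s (Submodule.Quotient.mk (p (Pi.single i 1))))
    have hy : ∀ i, Submodule.Quotient.mk (p := I ^ n • (⊤ : Submodule R N)) (y i) =
        s (Submodule.Quotient.mk (p (Pi.single i 1))) := fun i =>
      Function.surjInv_eq (Submodule.mkQ_surjective _) _
    have hmk : ∀ c : Fin b → R, Submodule.Quotient.mk (p := I ^ n • (⊤ : Submodule R N))
        (∑ i, c i • y i) = s (Submodule.Quotient.mk (p c)) := fun c => by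
      rw [hsum c, ← Submodule.mkQ_apply, ← Submodule.mkQ_apply, map_sum, map_sum, map_sum]
      refine Finset.sum_congr rfl fun i _ => ?_
      rw [map_smul, map_smul, map_smul]
      exact congrArg (c i • ·) (hy i)
    have hTy : T y ∈ I ^ n • ⊤ ⊓ LinearMap.range T := by
      refine ⟨pi_mem _ _ fun j => ?_, ⟨y, rfl⟩⟩
      rw [← Submodule.Quotient.mk_eq_zero]
      have hpq : p (q j) = 0 := LinearMap.mem_ker.1 (hq ▸ Submodule.subset_span ⟨j, rfl⟩)
      have := hmk (q j)
      rw [hpq, Submodule.Quotient.mk_zero, map_zero] at this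
      simpa [T] using this
    rw [hk n (by omega)] at hTy
    have hTy' : T y ∈ (I ^ (n - k) • (⊤ : Submodule R (Fin b → N))).map T := by
      rw [Submodule.map_smul'', Submodule.map_top]
      exact Submodule.smul_mono le_rfl inf_le_right hTy
    obtain ⟨t, ht, hTt⟩ := hTy'
    let L : (Fin b → R) →ₗ[R] N := ∑ i, (LinearMap.proj i).smulRight (y i - t i)
    have hL : LinearMap.ker p ≤ LinearMap.ker L := by
      rw [← hq, Submodule.span_le]
      rintro _ ⟨j, rfl⟩
      have : T y j - T t j = 0 := by rw [hTt, sub_self]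
      simpa [L, T, smul_sub, Finset.sum_sub_distrib] using this
    let s' : M →ₗ[R] N :=
      (LinearMap.ker p).liftQ L hL ∘ₗ (LinearMap.quotKerEquivOfSurjective p hp).symm.toLinearMap
    have hs' : ∀ c, s' (p c) = ∑ i, c i • y i - ∑ i, c i • t i := fun c => by
      have he : (LinearMap.quotKerEquivOfSurjective p hp).symm (p c) = Submodule.Quotient.mk c := by
        rw [LinearEquiv.symm_apply_eq]
        exact (LinearMap.quotKerEquivOfSurjective_apply_mk _ hp c).symm
      simp [s', L, he, smul_sub, Finset.sum_sub_distrib]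
    have hle : I ^ n • (⊤ : Submodule R N) ≤ I ^ m • ⊤ :=
      Submodule.smul_mono (Ideal.pow_le_pow_right (by omega)) le_rfl
    have hle' : I ^ (n - k) • (⊤ : Submodule R N) ≤ I ^ m • ⊤ :=
      Submodule.smul_mono (Ideal.pow_le_pow_right (by omega)) le_rfl
    have hd : ev (LinearMap.id - s' ∘ₗ u) ∈ I ^ m • (⊤ : Submodule R (Fin d → N)) := by
      refine pi_mem _ _ fun i => ?_
      change g (Pi.single i 1) - s' (u (g (Pi.single i 1))) ∈ _
      obtain ⟨c, hc⟩ := hp (u (g (Pi.single i 1)))
      rw [← hc, hs', ← sub_add]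
      refine add_mem (hle ?_) (hle' (Submodule.sum_mem _ fun j _ =>
        Submodule.smul_mem _ _ (pi_apply_mem _ ht j)))
      rw [← Submodule.Quotient.mk_eq_zero, Submodule.Quotient.mk_sub, hmk, hc, hs, sub_self]
    have he : ev LinearMap.id = ev (s' ∘ₗ u) + ev (LinearMap.id - s' ∘ₗ u) := by
      rw [map_sub, add_sub_cancel]
    rw [he]
    exact Submodule.add_mem_sup (Submodule.mem_map_of_mem ⟨s', rfl⟩) hd
  have hq0 : Submodule.Quotient.mk (p := C.map ev) (ev LinearMap.id) = 0 := by
    rw [← Submodule.mem_bot R,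
      ← I.iInf_pow_smul_eq_bot_of_le_jacobson (M := (Fin d → N) ⧸ C.map ev) hI, Submodule.mem_iInf]
    intro m
    have h2 := Submodule.mem_map_of_mem (f := (C.map ev).mkQ) (key m)
    rw [Submodule.map_sup, Submodule.mkQ_map_self, bot_sup_eq, Submodule.map_smul'',
      Submodule.map_top, Submodule.range_mkQ] at h2
    exact h2
  obtain ⟨_, ⟨s, rfl⟩, he⟩ := (Submodule.Quotient.mk_eq_zero _).1 hq0
  exact ⟨s, hev he⟩

end Groth.Agent.S2098
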