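import Groth.Statements.S2101
import Mathlib.RingTheory.Regular.RegularSequence
import Mathlib.RingTheory.MvPolynomial.Basic
import Mathlib.Tactic.LinearCombination
import Mathlib.Data.List.NodupEquivFin
-- import your own Groth.Agent.* helpers here

set_option autoImplicit false
universe u
open CAlg

namespace Groth.Agent.S2101

open MvPolynomial

theorem isWeaklyRegular_ofFn_iff {S : Type u} [CommRing S] {r : ℕ} (g : Fin r → S) :
    RingTheory.Sequence.IsWeaklyRegular S (List.ofFn g) ↔
      ∀ i : Fin r, ∀ x, g i * x ∈ Ideal.span (g '' Set.Iio i) → x ∈ Ideal.span (g '' Set.Iio i) := by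
  have hspan : ∀ i : Fin r, (Ideal.ofList ((List.ofFn g).take i) • ⊤ : Submodule S S) = Ideal.span (g '' Set.Iio i) := fun i => by
    rw [smul_eq_mul, Ideal.mul_top]
    refine congrArg Ideal.span (Set.ext fun x => ?_)
    simp only [Set.mem_image, Set.mem_Iio, Set.mem_setOf_eq, List.mem_take_iff_getElem, List.length_ofFn, List.getElem_ofFn]
    constructor
    · rintro ⟨j, hj, rfl⟩
      exact ⟨⟨j, (lt_min_iff.1 hj).2⟩, (lt_min_iff.1 hj).1, rfl⟩
    · rintro ⟨j, hj, rfl⟩
      exact ⟨j, lt_min_iff.2 ⟨hj, j.2⟩, rfl⟩
  rw [RingTheory.Sequence.isWeaklyRegular_iff]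
  constructor
  · intro h i x hx
    have := h i (by rw [List.length_ofFn]; exact i.2)
    rw [isSMulRegular_quotient_iff_mem_of_smul_mem, hspan i] at this
    exact this x (by simpa using hx)
  · intro h i hi
    have hi' : i < r := by simpa using hi
    rw [isSMulRegular_quotient_iff_mem_of_smul_mem, hspan ⟨i, hi'⟩]
    intro x hx
    exact h ⟨i, hi'⟩ x (by simpa using hx)

variable {R : Type u} [CommRing R] {r : ℕ} (f : Fin r → R)

/-- `f i` is a nonzerodivisor modulo the `f j`, `j ∈ T`. -/
def Nzd (T : Finset (Fin r)) (i : Fin r) : Prop :=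
  ∀ a : R, f i * a ∈ Ideal.span (f '' ↑T) → a ∈ Ideal.span (f '' ↑T)

theorem nzd_all (h : ∀ (T : Finset (Fin r)) (i : Fin r), (∀ j ∈ T, j < i) → Nzd f T i) :
    ∀ (T : Finset (Fin r)) (i : Fin r), i ∉ T → Nzd f T i := by
  classical
  intro T
  induction T using Finset.strongInduction with
  | H T ih =>
    intro i hi
    by_cases hlt : ∀ j ∈ T, j < i
    · exact h T i hlt
    · have hne : T.Nonempty := by
        rw [Finset.nonempty_iff_ne_empty]
        rintro rfl
        exact hlt (by simp)
      let j := T.max' hne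
      have hjT : j ∈ T := T.max'_mem hne
      have hij : i < j := by
        push_neg at hlt
        obtain ⟨k, hk, hik⟩ := hlt
        exact lt_of_le_of_ne (hik.trans (T.le_max' k hk)) fun e => hi (e ▸ hjT)
      let T' := T.erase j
      have hT'lt : ∀ k ∈ T', k < j := fun k hk =>
        lt_of_le_of_ne (T.le_max' k (Finset.mem_of_mem_erase hk)) (Finset.ne_of_mem_erase hk)
      have h1 : Nzd f (insert i T') j := h _ j fun k hk => (Finset.mem_insert.1 hk).elim (fun e => e ▸ hij) (hT'lt k)
      have h2 : Nzd f T' i := ih T' (Finset.erase_ssubset hjT) i fun hh => hi (Finset.mem_of_mem_erase hh)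
      have hspan : ∀ k, Ideal.span (f '' ↑(insert k T')) = Ideal.span {f k} ⊔ Ideal.span (f '' ↑T') := fun k => by
        rw [Finset.coe_insert, Set.image_insert_eq, Ideal.span_insert]
      have hT : T = insert j T' := (Finset.insert_erase hjT).symm
      intro a ha
      rw [hT, hspan, Submodule.mem_sup] at ha
      obtain ⟨u, hu, t, ht, hut⟩ := ha
      obtain ⟨b, rfl⟩ := Ideal.mem_span_singleton'.1 hu
      have hb : b ∈ Ideal.span (f '' ↑(insert i T')) := by
        refine h1 b ?_
        rw [hspan, Submodule.mem_sup]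
        exact ⟨a * f i, Ideal.mem_span_singleton'.2 ⟨a, rfl⟩, -t, neg_mem ht, by linear_combination -hut⟩
      rw [hspan, Submodule.mem_sup] at hb
      obtain ⟨w, hw, t', ht', hwt⟩ := hb
      obtain ⟨c, rfl⟩ := Ideal.mem_span_singleton'.1 hw
      have h3 : a - c * f j ∈ Ideal.span (f '' ↑T') := h2 _ (by
        have : f i * (a - c * f j) = t' * f j + t := by linear_combination -hut - f j * hwt
        rw [this]
        exact add_mem (Ideal.mul_mem_right _ _ ht') ht)
      rw [hT, hspan, Submodule.mem_sup]
      exact ⟨c * f j, Ideal.mem_span_singleton'.2 ⟨c, rfl⟩, a - c * f j, h3, by ring⟩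

theorem mem_iff_coeff (T : Finset (Fin r)) (p : MvPolynomial (Fin r) R) :
    p ∈ Ideal.span ((fun i => C (f i) * X i) '' ↑T) ↔
      ∀ e, coeff e p ∈ Ideal.span (f '' ↑(T.filter fun j => e j ≠ 0)) := by
  classical
  constructor
  · intro hp e
    induction hp using Submodule.span_induction generalizing e with
    | mem q hq =>
      obtain ⟨j, hj, rfl⟩ := hq
      rw [coeff_C_mul, coeff_X']
      split_ifs with he
      · refine Ideal.mul_mem_right _ _ (Ideal.subset_span ⟨j, ?_, rfl⟩)
        simp only [Finset.coe_filter, Set.mem_setOf_eq]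
        exact ⟨hj, by simp [← he]⟩
      · rw [mul_zero]; exact zero_mem _
    | zero => rw [coeff_zero]; exact zero_mem _
    | add a b _ _ ha hb => rw [coeff_add]; exact add_mem (ha e) (hb e)
    | smul a b _ hb =>
      rw [smul_eq_mul, coeff_mul]
      refine Ideal.sum_mem _ fun x hx => Ideal.mul_mem_left _ _ (Ideal.span_mono (Set.image_mono ?_) (hb x.2))
      intro j hj
      simp only [Finset.coe_filter, Set.mem_setOf_eq] at hj ⊢
      have := congrArg (fun g : Fin r →₀ ℕ => g j) (Finset.mem_antidiagonal.1 hx)
      simp only [Finsupp.add_apply] at this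
      exact ⟨hj.1, by omega⟩
  · intro h
    rw [← support_sum_monomial_coeff p]
    refine Ideal.sum_mem _ fun e _ => ?_
    generalize hc : coeff e p = c
    have hc' := hc ▸ h e
    clear hc h
    induction hc' using Submodule.span_induction with
    | mem t ht =>
      obtain ⟨j, hj, rfl⟩ := ht
      simp only [Finset.coe_filter, Set.mem_setOf_eq] at hj
      have : monomial e (f j) = (C (f j) * X j) * monomial (e - Finsupp.single j 1) 1 := by
        rw [mul_assoc, X, monomial_mul, C_mul_monomial, mul_one, mul_one, add_tsub_cancel_of_le]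
        intro k
        rcases eq_or_ne j k with rfl | hjk
        · simp only [Finsupp.single_eq_same]; omega
        · simp [Finsupp.single_eq_of_ne' hjk]
      rw [this]
      exact Ideal.mul_mem_right _ _ (Ideal.subset_span ⟨j, hj.1, rfl⟩)
    | zero => rw [map_zero]; exact zero_mem _
    | add a b _ _ ha hb => rw [map_add]; exact add_mem ha hb
    | smul a b _ hb =>
      rw [smul_eq_mul, ← C_mul_monomial]
      exact Ideal.mul_mem_left _ _ hb

theorem nzd_of_perm (h : ∀ σ : Equiv.Perm (Fin r), RingTheory.Sequence.IsWeaklyRegular R (List.ofFn (f ∘ σ)))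
    (T : Finset (Fin r)) (i : Fin r) (hi : i ∉ T) : Nzd f T i := by
  classical
  let L : List (Fin r) := T.toList ++ i :: (Finset.univ \ insert i T).toList
  have hnd : L.Nodup := by
    refine List.nodup_append'.2 ⟨T.nodup_toList, List.nodup_cons.2 ⟨by simp, Finset.nodup_toList _⟩, ?_⟩
    intro a ha hb
    rw [Finset.mem_toList] at ha
    rcases List.mem_cons.1 hb with rfl | hb
    · exact hi ha
    · simp [ha] at hb
  have hall : ∀ a, a ∈ L := fun a => by
    by_cases ha : a ∈ T <;> by_cases hai : a = i <;> simp [L, ha, hai]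
  have hlen : L.length = r := by
    have hu : L.toFinset = Finset.univ := Finset.eq_univ_iff_forall.2 fun a => List.mem_toFinset.2 (hall a)
    have := congrArg Finset.card hu
    rw [List.toFinset_card_of_nodup hnd] at this
    simpa using this
  let σ : Equiv.Perm (Fin r) := (finCongr hlen.symm).trans (List.Nodup.getEquivOfForallMemList L hnd hall)
  have hσ : ∀ k : Fin r, σ k = L[k.1]'(by rw [hlen]; exact k.2) := fun k => rfl
  have ht : T.card < r := by
    have h1 := Finset.card_le_univ (insert i T)
    rw [Finset.card_insert_of_notMem hi, Fintype.card_fin] at h1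
    omega
  let n : Fin r := ⟨T.card, ht⟩
  have hn : σ n = i := by
    rw [hσ]
    simp [L, n, List.getElem_append_right]
  have himg : σ '' Set.Iio n = (↑T : Set (Fin r)) := by
    ext a
    simp only [Set.mem_image, Set.mem_Iio, Finset.mem_coe]
    constructor
    · rintro ⟨k, hk, rfl⟩
      have hk' : k.1 < T.toList.length := by rw [Finset.length_toList]; exact hk
      rw [hσ]
      simp only [L, List.getElem_append_left hk']
      exact Finset.mem_toList.1 (List.getElem_mem hk')
    · intro ha
      obtain ⟨k, hk, rfl⟩ := List.getElem_of_mem (Finset.mem_toList.2 ha)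
      have hk' : k < T.card := by rwa [Finset.length_toList] at hk
      refine ⟨⟨k, hk'.trans ht⟩, hk', ?_⟩
      rw [hσ]
      simp only [L, List.getElem_append_left hk]
  have := (isWeaklyRegular_ofFn_iff (f ∘ σ)).1 (h σ) n
  rw [Set.image_comp, himg, Function.comp_apply, hn] at this
  exact this


/-- For elements `f_1, …, f_r` generating a proper ideal, all reorderings are regular sequences in `R`
if and only if the products `f_i x_i` form a regular sequence in `R[x_1, …, x_r]`. -/
theorem result {R : Type u} [CommRing R] {r : ℕ} (f : Fin r → R)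
    (hf : Ideal.span (Set.range f) ≠ ⊤) :
    (∀ σ : Equiv.Perm (Fin r), RingTheory.Sequence.IsRegular R (List.ofFn (f ∘ σ))) ↔
      RingTheory.Sequence.IsRegular (MvPolynomial (Fin r) R)
        (List.ofFn fun i => MvPolynomial.C (f i) * MvPolynomial.X i) := by
  classical
  have htopR : ∀ σ : Equiv.Perm (Fin r), (⊤ : Submodule R R) ≠ Ideal.ofList (List.ofFn (f ∘ σ)) • ⊤ := fun σ => by
    rw [smul_eq_mul, Ideal.mul_top]
    intro h
    refine hf ((congrArg Ideal.span (Set.ext fun x => ?_)).trans h.symm)
    simp only [Set.mem_setOf_eq, List.mem_ofFn, Set.mem_range, Function.comp_apply]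
    exact ⟨fun ⟨k, hk⟩ => ⟨σ.symm k, by simpa using hk⟩, fun ⟨k, hk⟩ => ⟨σ k, hk⟩⟩
  have htopP : (⊤ : Submodule (MvPolynomial (Fin r) R) (MvPolynomial (Fin r) R)) ≠
      Ideal.ofList (List.ofFn fun i => MvPolynomial.C (f i) * MvPolynomial.X i) • ⊤ := by
    rw [smul_eq_mul, Ideal.mul_top]
    intro h
    haveI : Nontrivial R := not_subsingleton_iff_nontrivial.1 fun _ => hf (Subsingleton.elim _ _)
    have h1 : (1 : MvPolynomial (Fin r) R) ∈ Ideal.ofList (List.ofFn fun i => MvPolynomial.C (f i) * MvPolynomial.X i) := h ▸ Submodule.mem_top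
    have hle : Ideal.ofList (List.ofFn fun i => MvPolynomial.C (f i) * MvPolynomial.X i) ≤ RingHom.ker (MvPolynomial.constantCoeff (R := R) (σ := Fin r)) := by
      rw [Ideal.span_le]
      intro x hx
      obtain ⟨i, rfl⟩ := List.mem_ofFn.1 hx
      simp
    have h2 := hle h1
    rw [RingHom.mem_ker, map_one] at h2
    exact one_ne_zero h2
  constructor
  · intro h
    refine ⟨(isWeaklyRegular_ofFn_iff _).2 fun i p hp => ?_, htopP⟩
    rw [← Finset.coe_Iio, mem_iff_coeff] at hp ⊢
    intro e
    refine nzd_of_perm f (fun σ => (h σ).toIsWeaklyRegular) _ i (by simp) _ ?_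
    have := hp (e + Finsupp.single i 1)
    rw [mul_assoc, MvPolynomial.coeff_C_mul, add_comm e, MvPolynomial.coeff_X_mul] at this
    have hfilt : (Finset.Iio i).filter (fun j => e j ≠ 0) = (Finset.Iio i).filter (fun j => ((Finsupp.single i 1 + e : Fin r →₀ ℕ) : Fin r → ℕ) j ≠ 0) := by
      refine Finset.filter_congr fun j hj => ?_
      simp [Finsupp.single_eq_of_ne' (Fin.ne_of_lt (Finset.mem_Iio.1 hj)).symm]
    rw [hfilt]
    exact this
  · intro h σ
    refine ⟨(isWeaklyRegular_ofFn_iff _).2 fun i => ?_, htopR σ⟩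
    have hall := nzd_all f (fun T i hT a ha => by
      let e : Fin r →₀ ℕ := Finsupp.equivFunOnFinite.symm fun j => if j ∈ T then 1 else 0
      have he : ∀ j, e j = if j ∈ T then 1 else 0 := fun j => rfl
      have hfilt : (Finset.Iio i).filter (fun j => e j ≠ 0) = T := by
        ext j
        simp only [Finset.mem_filter, Finset.mem_Iio, he]
        exact ⟨fun hh => by by_contra hj; exact hh.2 (if_neg hj), fun hj => ⟨hT j hj, by simp [hj]⟩⟩
      have hp : (MvPolynomial.monomial e a : MvPolynomial (Fin r) R) ∈
          Ideal.span ((fun i => MvPolynomial.C (f i) * MvPolynomial.X i) '' ↑(Finset.Iio i)) := by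
        rw [Finset.coe_Iio]
        refine (isWeaklyRegular_ofFn_iff _).1 h.toIsWeaklyRegular i _ ?_
        rw [← Finset.coe_Iio, mem_iff_coeff]
        intro d
        rw [mul_assoc, MvPolynomial.X, MvPolynomial.monomial_mul, one_mul, MvPolynomial.C_mul_monomial, MvPolynomial.coeff_monomial]
        split_ifs with hd
        · refine Ideal.span_mono (Set.image_mono ?_) ha
          intro j hj
          simp only [Finset.coe_filter, Finset.mem_Iio, Set.mem_setOf_eq]
          refine ⟨hT j hj, ?_⟩
          rw [← hd, Finsupp.add_apply, he, if_pos (Finset.mem_coe.1 hj)]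
          omega
        · exact zero_mem _
      have := (mem_iff_coeff f _ _).1 hp e
      rwa [MvPolynomial.coeff_monomial, if_pos rfl, hfilt] at this)
    intro x hx
    rw [Set.image_comp, ← Finset.coe_Iio, ← Finset.coe_image] at hx ⊢
    exact hall _ (σ i) (by simp) x hx

end Groth.Agent.S2101
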