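import Groth.Statements.S2102
import Groth.Agent.NormSect.Basic

set_option autoImplicit false
universe u
open CategoryTheory AlgebraicGeometry
open Mor

namespace Groth.Agent.S2102

/-- The ring of global sections of an integral normal scheme is an integrally closed domain. -/
theorem result (X : Scheme.{u}) [IsIntegral X] (hX : Pi1.IsNormalScheme X) :
    IsIntegrallyClosed (Γ(X, ⊤) : Type u) := by
  haveI : Nonempty ((⊤ : X.Opens) : Scheme.{u}) := ⟨⟨genericPoint X, trivial⟩⟩
  exact Groth.Agent.NormSect.isIntegrallyClosed_sections ⊤ fun x _ => (hX x).2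

end Groth.Agent.S2102
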