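import Groth.Statements.S2106
import Mathlib
import Groth.Agent.FibCrit.FT
import Groth.Agent.FibCrit.EssFP

set_option autoImplicit false
universe u
open CAlg TensorProduct
set_option linter.style.haveILetI false

namespace Groth.Agent.S2106

/-- Let `R → S → S'` be local homomorphisms of local rings with `S` and `S'` essentially of finite
presentation over `R`, and `M` a nonzero finitely presented `S'`-module which is flat over `R` and
such that `M/𝔪_R M` is flat over `S/𝔪_R S`. Then `S` is flat over `R` and `M` is flat over `S`. -/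
theorem result {R S S' M : Type u} [CommRing R] [CommRing S] [CommRing S']
    [IsLocalRing R] [IsLocalRing S] [IsLocalRing S'] [Algebra R S] [Algebra S S'] [Algebra R S'] [IsScalarTower R S S']
    [IsLocalHom (algebraMap R S)] [IsLocalHom (algebraMap S S')]
    (hS : CAlgX.IsEssFinitePresentation R S) (hS' : CAlgX.IsEssFinitePresentation R S')
    [AddCommGroup M] [Module S' M] [Module S M] [Module R M] [IsScalarTower S S' M] [IsScalarTower R S' M]
    [IsScalarTower R S M] [Module.FinitePresentation S' M] [Nontrivial M] [Module.Flat R M]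
    (hfib : Module.Flat (S ⧸ (IsLocalRing.maximalIdeal R).map (algebraMap R S))
      (M ⧸ (IsLocalRing.maximalIdeal R).map (algebraMap R S) • (⊤ : Submodule S M))) :
    Module.Flat R S ∧ Module.Flat S M := by
  classical
  obtain ⟨S₀, _, _, _, _, MS, _, _⟩ := hS
  obtain ⟨T₀, _, _, _, _, MT, _, _⟩ := hS'
  obtain ⟨Q, _, _, _, _, φ, N, _, _, hφ⟩ := FibCrit.exists_lift_model (S₀ := S₀) (S' := S') MT
    ((IsScalarTower.toAlgHom R S S').comp (IsScalarTower.toAlgHom R S₀ S))
  letI : Algebra S₀ Q := φ.toRingHom.toAlgebra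
  haveI : IsScalarTower R S₀ Q := IsScalarTower.of_algebraMap_eq fun r => (φ.commutes r).symm
  letI : Algebra S₀ S' := ((algebraMap S S').comp (algebraMap S₀ S)).toAlgebra
  haveI : IsScalarTower S₀ S S' := IsScalarTower.of_algebraMap_eq fun _ => rfl
  haveI : IsScalarTower S₀ Q S' := IsScalarTower.of_algebraMap_eq fun a => (hφ a).symm
  let q := (IsLocalRing.maximalIdeal S').comap (algebraMap Q S')
  haveI : IsLocalization.AtPrime S' q := FibCrit.isLocalization_atPrime_of_local N q rfl
  haveI hlR : IsLocalization (⊥ : Submonoid R) R :=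
    IsLocalization.of_le_isUnit bot_le
  haveI : IsLocalization.AtPrime S (q.comap (algebraMap S₀ Q)) :=
    FibCrit.isLocalization_atPrime_of_local MS _ (by
      rw [Ideal.comap_comap, ← IsScalarTower.algebraMap_eq, IsScalarTower.algebraMap_eq S₀ S S',
        ← Ideal.comap_comap, IsLocalRing.maximalIdeal_comap])
  haveI : IsLocalization.AtPrime R (q.comap (algebraMap R Q)) :=
    FibCrit.isLocalization_atPrime_of_local (⊥ : Submonoid R) _ (by
      rw [Ideal.comap_comap, ← IsScalarTower.algebraMap_eq, IsScalarTower.algebraMap_eq R S S',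
        ← Ideal.comap_comap, IsLocalRing.maximalIdeal_comap, IsLocalRing.maximalIdeal_comap, Algebra.algebraMap_self,
        Ideal.comap_id])
  obtain ⟨M₀, _, _, _, ⟨e⟩⟩ := FibCrit.exists_module_model (Q := Q) (Q' := S') (M := M) N
  let eS : S' ⊗[Q] M₀ ≃ₗ[S] M := e.restrictScalars S
  have hflat : Module.Flat R (S' ⊗[Q] M₀) := Module.Flat.of_linearEquiv (e.restrictScalars R)
  let I := (IsLocalRing.maximalIdeal R).map (algebraMap R S)
  haveI : Module.Flat (S ⧸ I) (M ⧸ I • (⊤ : Submodule S M)) := hfib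
  have hfib' : Module.Flat (S ⧸ I) ((S ⧸ I) ⊗[S] (S' ⊗[Q] M₀)) :=
    Module.Flat.of_linearEquiv
      ((LinearEquiv.extendScalarsOfSurjective (R := S) Ideal.Quotient.mk_surjective
        (TensorProduct.congr (LinearEquiv.refl S (S ⧸ I)) eS ≪≫ₗ TensorProduct.quotTensorEquivQuotSMul M I) :
        (S ⧸ I) ⊗[S] (S' ⊗[Q] M₀) ≃ₗ[S ⧸ I] M ⧸ I • (⊤ : Submodule S M)))
  obtain ⟨h1, h2, -⟩ := FibCrit.ft_fibre (R := R) (S := S₀) (Q := Q) (R' := R) (S' := S) (Q' := S') (M := M₀) q
    hflat e.toEquiv.nontrivial hfib'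
  haveI := h1
  exact ⟨h2, Module.Flat.of_linearEquiv eS.symm⟩

end Groth.Agent.S2106
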