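import Groth.Statements.S2107
import Mathlib
import Groth.Agent.InjFibre.Alg

set_option autoImplicit false
universe u
open CAlg
set_option linter.style.haveILetI false

namespace Groth.Agent.S2107

/-- Let `R → S` be a local homomorphism of local rings with `S` essentially of finite presentation over
`R`, `M`, `N` finitely presented `S`-modules with `N` flat over `R`, and `u : M → N` an `S`-linear
map which is injective modulo `𝔪_R`. Then `u` is injective and its cokernel is flat over `R`. -/
theorem result {R S M N : Type u} [CommRing R] [CommRing S] [IsLocalRing R]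
    [IsLocalRing S] [Algebra R S] [IsLocalHom (algebraMap R S)] (hS : CAlgX.IsEssFinitePresentation R S)
    [AddCommGroup M] [Module S M] [Module R M] [IsScalarTower R S M] [Module.FinitePresentation S M]
    [AddCommGroup N] [Module S N] [Module R N] [IsScalarTower R S N] [Module.FinitePresentation S N] [Module.Flat R N]
    (u : M →ₗ[S] N)
    (hu : ∀ x : M, u x ∈ (IsLocalRing.maximalIdeal R).map (algebraMap R S) • (⊤ : Submodule S N) →
      x ∈ (IsLocalRing.maximalIdeal R).map (algebraMap R S) • (⊤ : Submodule S M)) :
    Function.Injective u ∧ Module.Flat R (N ⧸ LinearMap.range u) := by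
  obtain ⟨S₀, _, _, _, _, MS, _, _⟩ := hS
  let q := (IsLocalRing.maximalIdeal S).comap (algebraMap S₀ S)
  haveI : IsLocalization.AtPrime S q := FibCrit.isLocalization_atPrime_of_local MS q rfl
  have hp : q.comap (algebraMap R S₀) = IsLocalRing.maximalIdeal R := by
    simp only [q, Ideal.comap_comap, ← IsScalarTower.algebraMap_eq]
    exact IsLocalRing.maximalIdeal_comap _
  exact InjFibre.atPrime (R := R) (S := S₀) q u (fun x hx => by rw [hp] at hx ⊢; exact hu x hx)

end Groth.Agent.S2107
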