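import Groth.Statements.S2109
import Groth.Agent.SerreReg.MiracleFinite
import Groth.Agent.RegPow.Basic
-- import your own Groth.Agent.* helpers here

set_option autoImplicit false
universe u
open Smoothing

namespace Groth.Agent.S2109

/-- Let `Λ` be Noetherian, `I ⊆ 𝔮` with `𝔮` prime, `n, e > 0`, such that `𝔮ⁿΛ_𝔮 ⊆ IΛ_𝔮` and `Λ_𝔮` is a
regular local ring of dimension `d`. Then there are `N > 0` and `π_1, …, π_d ∈ Λ` generating `𝔮Λ_𝔮`,
with `π_i^N ∈ I`, such that for each `i` the annihilators of `π_i` and `π_i²` in `Λ/(π_1^e, …,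
π_{i-1}^e)` coincide. -/
theorem result {Λ : Type u} [CommRing Λ] [IsNoetherianRing Λ] (I q : Ideal Λ)
    [q.IsPrime] (hIq : I ≤ q) (n e d : ℕ) (hn : 0 < n) (he : 0 < e)
    (hpow : (q ^ n).map (algebraMap Λ (Localization.AtPrime q)) ≤ I.map (algebraMap Λ (Localization.AtPrime q)))
    [IsRegularLocalRing (Localization.AtPrime q)] (hd : ringKrullDim (Localization.AtPrime q) = d) :
    ∃ (N : ℕ) (π : Fin d → Λ), 0 < N ∧
      Ideal.span (Set.range fun i => algebraMap Λ (Localization.AtPrime q) (π i)) =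
        q.map (algebraMap Λ (Localization.AtPrime q)) ∧
      (∀ i, π i ^ N ∈ I) ∧
      ∀ i : Fin d, ∀ x : Λ ⧸ Ideal.span (Set.range fun j : {j : Fin d // (j : ℕ) < (i : ℕ)} => π j ^ e),
        Ideal.Quotient.mk _ (π i) ^ 2 * x = 0 → Ideal.Quotient.mk _ (π i) * x = 0 := by
  classical
  set L := Localization.AtPrime q
  set f := algebraMap Λ L
  obtain ⟨rs, hlen, hreg, hspan⟩ := Groth.Agent.SerreReg.exists_regular_rsop d L hd
  have hrep : ∀ i : Fin d, ∃ (p₀ : Λ) (u : Lˣ), f p₀ = rs[(i : ℕ)]'(hlen ▸ i.2) * u := by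
    intro i
    obtain ⟨⟨a, s⟩, h⟩ := IsLocalization.surj q.primeCompl (rs[(i : ℕ)]'(hlen ▸ i.2))
    exact ⟨a, (IsLocalization.map_units L s).unit, h.symm⟩
  choose p₀ u hp₀ using hrep
  have hunit : ∀ c : Λ, c ∉ q → IsUnit (f c) := fun c hc =>
    IsLocalization.map_units L (⟨c, hc⟩ : q.primeCompl)
  have hqm : q.map f = IsLocalRing.maximalIdeal L := Localization.AtPrime.map_eq_maximalIdeal
  have hcomap : ∀ (J : Ideal Λ), ∃ s ∉ q, ∀ x : Λ, f x ∈ J.map f → s * x ∈ J := by
    intro J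
    obtain ⟨S, hS⟩ := ((J.map f).comap f).fg_of_isNoetherianRing
    have hx : ∀ x ∈ S, ∃ s ∉ q, s * x ∈ J := by
      intro x hx
      have h : f x ∈ J.map f := (hS ▸ Ideal.subset_span hx : x ∈ (J.map f).comap f)
      obtain ⟨s, hs, hsx⟩ := (IsLocalization.algebraMap_mem_map_algebraMap_iff q.primeCompl L J x).mp h
      exact ⟨s, hs, hsx⟩
    choose! s hs hsx using hx
    refine ⟨∏ x ∈ S, s x, fun h => ?_, fun x hx => ?_⟩
    · obtain ⟨y, hy, hy'⟩ := (Ideal.IsPrime.prod_mem_iff).mp h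
      exact hs y hy hy'
    have hx' : x ∈ Ideal.span (S : Set Λ) := hS.symm ▸ (hx : x ∈ (J.map f).comap f)
    induction hx' using Submodule.span_induction with
    | mem y hy =>
      rw [← Finset.prod_erase_mul S s hy, mul_assoc]
      exact J.mul_mem_left _ (hsx y hy)
    | zero => rw [mul_zero]; exact zero_mem _
    | add a b ha hb iha ihb =>
      rw [mul_add]
      exact add_mem (iha (hS ▸ ha : a ∈ (J.map f).comap f)) (ihb (hS ▸ hb : b ∈ (J.map f).comap f))
    | smul a b hb ih =>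
      rw [smul_eq_mul, mul_left_comm]
      exact J.mul_mem_left _ (ih (hS ▸ hb : b ∈ (J.map f).comap f))
  let J : (Fin d → Λ) → Fin d → Ideal Λ := fun c i =>
    Ideal.span (Set.range fun j : {j : Fin d // (j : ℕ) < (i : ℕ)} => (c j * p₀ j) ^ e)
  suffices hind : ∀ k : ℕ, k ≤ d → ∃ c : Fin d → Λ, (∀ i, c i ∉ q) ∧ ∀ i : Fin d, (i : ℕ) < k →
      (c i * p₀ i) ^ n ∈ I ∧ ∀ x, (c i * p₀ i) ^ 2 * x ∈ J c i → (c i * p₀ i) * x ∈ J c i by
    obtain ⟨c, hc, hP⟩ := hind d le_rfl
    refine ⟨n, fun i => c i * p₀ i, hn, ?_, fun i => (hP i i.2).1, fun i x hx => ?_⟩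
    · rw [hqm, ← hspan]
      refine le_antisymm (Ideal.span_le.mpr ?_) (Ideal.span_le.mpr ?_)
      · rintro _ ⟨i, rfl⟩
        change f (c i * p₀ i) ∈ Ideal.ofList rs
        rw [map_mul, hp₀]
        exact Ideal.mul_mem_left _ _ (Ideal.mul_mem_right _ _ (Ideal.subset_span (List.getElem_mem _)))
      · intro y hy
        obtain ⟨j, hj, rfl⟩ := List.getElem_of_mem hy
        obtain ⟨v, hv⟩ := hunit _ (hc ⟨j, hlen ▸ hj⟩)
        have hmem : f (c ⟨j, hlen ▸ hj⟩ * p₀ ⟨j, hlen ▸ hj⟩) ∈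
            Ideal.span (Set.range fun i => f (c i * p₀ i)) := Ideal.subset_span ⟨_, rfl⟩
        rw [map_mul, hp₀, ← hv, mul_comm (v : L), mul_assoc, ← Units.val_mul] at hmem
        have h' := Ideal.mul_mem_right (((u ⟨j, hlen ▸ hj⟩ * v)⁻¹ : Lˣ) : L) _ hmem
        rw [mul_assoc, Units.mul_inv, mul_one] at h'
        exact h'
    · obtain ⟨y, rfl⟩ := Ideal.Quotient.mk_surjective x
      rw [← map_pow, ← map_mul, Ideal.Quotient.eq_zero_iff_mem] at hx
      rw [← map_mul, Ideal.Quotient.eq_zero_iff_mem]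
      exact (hP i i.2).2 y hx
  intro k hk
  induction k with
  | zero => exact ⟨fun _ => 1, fun _ h => Ideal.IsPrime.ne_top ‹_› ((Ideal.eq_top_iff_one _).mpr h), fun i hi => absurd hi (by omega)⟩
  | succ k ih =>
    obtain ⟨c, hc, hP⟩ := ih (by omega)
    let i₀ : Fin d := ⟨k, by omega⟩
    obtain ⟨s, hs, hsJ⟩ := hcomap (J c i₀)
    obtain ⟨s', hs', hsI⟩ := hcomap I
    let c' := Function.update c i₀ (s * s')
    have hcne : ∀ i, c' i ∉ q := fun i => by
      by_cases h : i = i₀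
      · simp only [c', h, Function.update_self]
        exact fun h' => (Ideal.IsPrime.mem_or_mem ‹_› h').elim hs hs'
      · simp only [c', Function.update_of_ne h]
        exact hc i
    have hJ : ∀ i : Fin d, (i : ℕ) ≤ k → J c' i = J c i := fun i hi => by
      simp only [J]
      congr 1
      refine congrArg Set.range (funext fun j => ?_)
      have hne : (j : Fin d) ≠ i₀ := fun h => by
        have h1 : ((j : Fin d) : ℕ) = k := by rw [h]
        have h2 := j.2
        omega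
      simp only [c', Function.update_of_ne hne]
    refine ⟨c', hcne, fun i hi => ?_⟩
    rw [hJ i (by omega)]
    rcases eq_or_ne i i₀ with rfl | hne
    swap
    · have hne' : (i : ℕ) ≠ k := fun h => hne (Fin.ext h)
      simp only [c', Function.update_of_ne hne]
      exact hP i (by omega)
    simp only [c', Function.update_self]
    constructor
    · have hm : f (p₀ i₀ ^ n) ∈ I.map f := hpow (Ideal.mem_map_of_mem f (Ideal.pow_mem_pow (by
        have h : f (p₀ i₀) ∈ q.map f := by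
          rw [hqm, ← hspan, hp₀]
          exact Ideal.mul_mem_right _ _ (Ideal.subset_span (List.getElem_mem _))
        obtain ⟨w, hw, hwx⟩ := (IsLocalization.algebraMap_mem_map_algebraMap_iff q.primeCompl L q _).mp h
        exact (Ideal.IsPrime.mem_or_mem ‹_› hwx).resolve_left hw) n))
      obtain ⟨n', rfl⟩ : ∃ n', n = n' + 1 := ⟨n - 1, by omega⟩
      rw [mul_pow, mul_pow, show s ^ (n' + 1) * s' ^ (n' + 1) * p₀ i₀ ^ (n' + 1) =
        (s ^ (n' + 1) * s' ^ n') * (s' * p₀ i₀ ^ (n' + 1)) by ring]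
      exact I.mul_mem_left _ (hsI _ hm)
    · intro x hx
      have hkl : k < rs.length := by omega
      have hr := Groth.Agent.RegPow.isSMulRegular_getElem_mod_pow rs hreg e he k hkl
      have hle : (J c i₀).map f = Ideal.ofList ((rs.take k).map (· ^ e)) := by
        simp only [J, Ideal.map_span]
        refine le_antisymm (Ideal.span_le.mpr ?_) (Ideal.span_le.mpr ?_)
        · rintro _ ⟨_, ⟨⟨j, hj⟩, rfl⟩, rfl⟩
          change f ((c j * p₀ j) ^ e) ∈ Ideal.ofList _
          rw [map_pow, map_mul, hp₀, mul_pow, mul_pow]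
          refine Ideal.mul_mem_left _ _ (Ideal.mul_mem_right _ _ (Ideal.subset_span (List.mem_map.mpr ⟨_, ?_, rfl⟩)))
          exact List.mem_take_iff_getElem.mpr ⟨(j : ℕ), by simp only [i₀] at hj; omega, rfl⟩
        · intro y hy
          obtain ⟨z, hz, rfl⟩ := List.mem_map.mp hy
          obtain ⟨j, hj, rfl⟩ := List.mem_take_iff_getElem.mp hz
          have hjk : j < k := by omega
          obtain ⟨v, hv⟩ := hunit _ (hc ⟨j, by omega⟩)
          have hmem : f ((c ⟨j, by omega⟩ * p₀ ⟨j, by omega⟩) ^ e) ∈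
              Ideal.span (f '' Set.range fun j : {j : Fin d // (j : ℕ) < (i₀ : ℕ)} => (c j * p₀ j) ^ e) :=
            Ideal.subset_span ⟨_, ⟨⟨⟨j, by omega⟩, hjk⟩, rfl⟩, rfl⟩
          rw [map_pow, map_mul, hp₀, ← hv, mul_comm (v : L), mul_assoc, mul_pow, ← Units.val_mul,
            ← Units.val_pow_eq_pow_val] at hmem
          have h' := Ideal.mul_mem_right ((((u ⟨j, by omega⟩ * v) ^ e)⁻¹ : Lˣ) : L) _ hmem
          rw [mul_assoc, Units.mul_inv, mul_one] at h'
          exact h'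
      have h1 := Ideal.mem_map_of_mem f hx
      rw [hle, map_mul, map_pow, map_mul, hp₀] at h1
      obtain ⟨w, hw⟩ := (hunit (s * s') (fun h => (Ideal.IsPrime.mem_or_mem ‹_› h).elim hs hs'))
      rw [← hw] at h1
      have h2 : f x ∈ (J c i₀).map f := by
        rw [hle, ← Ideal.Quotient.eq_zero_iff_mem]
        apply hr.pow 2
        change rs[k] ^ 2 • Ideal.Quotient.mk _ (f x) = rs[k] ^ 2 • (0 : L ⧸ _)
        rw [smul_zero, Algebra.smul_def, Ideal.Quotient.algebraMap_eq, ← map_mul, Ideal.Quotient.eq_zero_iff_mem]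
        have h' := Ideal.mul_mem_left _ ((((w * u i₀) ^ 2)⁻¹ : Lˣ) : L) h1
        convert h' using 1
        have h3 : (((w * u i₀) ^ 2)⁻¹ : Lˣ) * ((w : L) * (u i₀ : L)) ^ 2 = 1 := by
          rw [← Units.val_mul, ← Units.val_pow_eq_pow_val, Units.inv_mul]
        linear_combination (-(rs[k] ^ 2 * f x)) * h3
      rw [show s * s' * p₀ i₀ * x = s' * p₀ i₀ * (s * x) by ring]
      exact (J c i₀).mul_mem_left _ (hsJ x h2)


end Groth.Agent.S2109
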