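import Groth.Statements.S2112
import Groth.Agent.SepTensor.Basic

set_option autoImplicit false
universe u
open CAlg Groth.Agent

namespace Groth.Agent.S2112

open TensorProduct in
/-- Let `k` be a separably closed field and `R`, `S` two `k`-algebras each having exactly one minimal
prime ideal. Then `R ⊗_k S` has exactly one minimal prime ideal. -/
theorem result {k R S : Type u} [Field k] [IsSepClosed k] [CommRing R] [CommRing S]
    [Algebra k R] [Algebra k S] (hR : CAlgX.HasUniqueMinimalPrime R) (hS : CAlgX.HasUniqueMinimalPrime S) :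
    CAlgX.HasUniqueMinimalPrime (R ⊗[k] S) := by
  have hiff : ∀ (A : Type u) [CommRing A],
      CAlgX.HasUniqueMinimalPrime A ↔ IrreducibleSpace (PrimeSpectrum A) := by
    intro A _
    rw [PrimeSpectrum.irreducibleSpace_iff_isPrime_nilradical]
    constructor
    · rintro ⟨p, hp, huniq⟩
      have hp' : p.IsPrime := hp.1.1
      have : nilradical A = p := by
        refine le_antisymm (nilradical_le_prime p) ?_
        rw [nilradical_eq_sInf]
        refine le_sInf fun J (hJ : J.IsPrime) => ?_
        obtain ⟨q, hq, hqJ⟩ := Ideal.exists_minimalPrimes_le (I := (⊥ : Ideal A)) (J := J) bot_le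
        have hqp : q = p := huniq q hq
        exact hqp ▸ hqJ
      rw [this]; exact hp'
    · intro h
      refine ⟨nilradical A, ⟨⟨h, bot_le⟩, fun q hq _ => @nilradical_le_prime A _ q hq.1⟩, fun q hq => ?_⟩
      have hq' : q.IsPrime := hq.1.1
      exact le_antisymm (hq.2 ⟨h, bot_le⟩ (nilradical_le_prime q)) (nilradical_le_prime q)
  haveI := (hiff R).1 hR
  haveI := (hiff S).1 hS
  exact (hiff _).2 SepTensor.irreducible_tensor_sepClosed

end Groth.Agent.S2112
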