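import Groth.Statements.S2113
import Mathlib.RingTheory.Ideal.KrullsHeightTheorem
import Mathlib.RingTheory.Jacobson.Ring
import Mathlib.RingTheory.Ideal.MinimalPrime.Noetherian
import Mathlib.RingTheory.Ideal.Quotient.Noetherian

set_option autoImplicit false
universe u
open CAlg

namespace Groth.Agent.S2113

/-- A Noetherian ring in which each prime is maximal or else lies below infinitely many primes is a
Jacobson ring. -/
theorem result {R : Type u} [CommRing R] [IsNoetherianRing R]
    (h : ∀ (p : Ideal R) [p.IsPrime], p.IsMaximal ∨ {q : PrimeSpectrum R | p ≤ q.asIdeal}.Infinite) :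
    IsJacobsonRing R := by
  classical
  have dom : ∀ (D : Type u) [CommRing D] [IsDomain D] [IsNoetherianRing D] (f : D), f ≠ 0 →
      (∀ q : PrimeSpectrum D, q.asIdeal ≠ ⊥ → f ∈ q.asIdeal) → Finite (PrimeSpectrum D) := by
    intro D _ _ _ f hf0 hf
    have hfin := (Ideal.span {f}).finite_minimalPrimes_of_isNoetherianRing D
    refine Set.finite_univ_iff.1 (Set.Finite.subset (((hfin.insert ⊥).preimage (f := PrimeSpectrum.asIdeal) fun a _ b _ h => PrimeSpectrum.ext h)) fun Q _ => ?_)
    rw [Set.mem_preimage, Set.mem_insert_iff]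
    by_contra hQ
    push Not at hQ
    obtain ⟨hQ0, hQM⟩ := hQ
    have hfQ : Ideal.span {f} ≤ Q.asIdeal := (Ideal.span_singleton_le_iff_mem _).2 (hf Q hQ0)
    have hnsub : ¬ (Q.asIdeal : Set D) ⊆ ⋃ q ∈ (hfin.toFinset : Set (Ideal D)), (q : Set D) := by
      rw [Ideal.subset_union_prime ⊥ ⊥ (fun q hq _ _ => (hfin.mem_toFinset.1 hq).1.1)]
      rintro ⟨q, hq, hle⟩
      have hq' := hfin.mem_toFinset.1 hq
      exact hQM (le_antisymm (hq'.2 ⟨Q.isPrime, hfQ⟩ hle) hle ▸ hq')
    obtain ⟨g, hgQ, hg⟩ := Set.not_subset.1 hnsub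
    simp only [Set.mem_iUnion, Finset.mem_coe, hfin.mem_toFinset, SetLike.mem_coe, not_exists] at hg
    obtain ⟨P, hP, hPQ⟩ := Ideal.exists_minimalPrimes_le ((Ideal.span_singleton_le_iff_mem _).2 hgQ : Ideal.span {g} ≤ Q.asIdeal)
    have hg0 : g ≠ 0 := by
      rintro rfl
      obtain ⟨q, hq, -⟩ := Ideal.exists_minimalPrimes_le hfQ
      exact hg q hq q.zero_mem
    have hP0 : P ≠ ⊥ := fun h => hg0 (by simpa [h] using hP.1.2 (Ideal.mem_span_singleton_self g))
    have hPp : P.IsPrime := hP.1.1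
    obtain ⟨q, hq, hqP⟩ := Ideal.exists_minimalPrimes_le ((Ideal.span_singleton_le_iff_mem _).2 (hf ⟨P, hPp⟩ hP0) : Ideal.span {f} ≤ P)
    have hqp : q.IsPrime := hq.1.1
    have hlt : q < P := lt_of_le_of_ne hqP fun h => hg q hq (h ▸ hP.1.2 (Ideal.mem_span_singleton_self g))
    have hlt0 : (⊥ : Ideal D) < q := bot_lt_iff_ne_bot.2 fun h => hf0 (by simpa [h] using hq.1.2 (Ideal.mem_span_singleton_self f))
    have h1 := Ideal.height_le_one_of_isPrincipal_of_mem_minimalPrimes (Ideal.span {g}) P hP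
    have h2 := Ideal.height_strict_mono_of_isPrime hlt
    have h3 := Ideal.height_strict_mono_of_isPrime hlt0
    exact absurd (h2.trans_le h1) (not_lt.2 (Order.one_le_iff_pos.2 (bot_le.trans_lt h3)))
  rw [isJacobsonRing_iff_prime_eq]
  intro p
  induction p using WellFoundedGT.induction with
  | _ p ih =>
    intro hp
    by_contra hne
    obtain ⟨f, hf, hfp⟩ := SetLike.exists_of_lt (lt_of_le_of_ne Ideal.le_jacobson (Ne.symm hne))
    rcases h p with hm | hinf
    · exact hne (Ideal.jacobson_eq_self_of_isMaximal (H := hm))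
    have : Finite (PrimeSpectrum (R ⧸ p)) := by
      refine dom (R ⧸ p) (Ideal.Quotient.mk p f) (fun h0 => hfp (Ideal.Quotient.eq_zero_iff_mem.1 h0)) fun q hq => ?_
      have hle : p ≤ q.asIdeal.comap (Ideal.Quotient.mk p) := fun a ha => by
        rw [Ideal.mem_comap, Ideal.Quotient.eq_zero_iff_mem.2 ha]; exact zero_mem _
      have hlt : p < q.asIdeal.comap (Ideal.Quotient.mk p) := lt_of_le_of_ne hle fun h => hq (by
        rw [← Ideal.map_comap_of_surjective _ Ideal.Quotient.mk_surjective q.asIdeal, ← h, Ideal.map_quotient_self])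
      have h1 := Ideal.jacobson_mono hle hf
      rw [ih _ hlt (Ideal.IsPrime.comap _)] at h1
      exact h1
    refine hinf (Set.Finite.subset (Set.finite_range (PrimeSpectrum.comap (Ideal.Quotient.mk p))) fun q hq => ?_)
    rw [range_comap_of_surjective _ _ Ideal.Quotient.mk_surjective, Ideal.mk_ker]
    exact hq

end Groth.Agent.S2113
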