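import Groth.Statements.S2114
import Groth.Agent.Nagata.Japanese
import Mathlib.RingTheory.ZariskisMainTheorem

set_option autoImplicit false
universe u
open CAlg
open scoped TensorProduct
attribute [local instance] FractionRing.liftAlgebra

namespace Groth.Agent.S2114

/-- Let `R ⊆ S` be an extension of domains which is of finite type and quasi-finite, with `R` Noetherian
and N-2 (integral closures in finite extensions of the fraction field are finite). Then `S` is N-2. -/
theorem result {R S : Type u} [CommRing R] [IsDomain R] [IsNoetherianRing R] [CommRing S]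
    [IsDomain S] [Algebra R S] (hinj : Function.Injective (algebraMap R S)) [Algebra.FiniteType R S]
    [Algebra.QuasiFinite R S] (hR : CAlg.IsN2 R) : CAlg.IsN2 S := by
  classical
  intro L _ _ _ _ hfd
  haveI : FiniteDimensional (FractionRing S) L := hfd
  haveI : FaithfulSMul R S := (faithfulSMul_iff_algebraMap_injective _ _).mpr hinj
  haveI : IsNoetherianRing S := Algebra.FiniteType.isNoetherianRing R S
  let K := FractionRing R
  haveI : Algebra.QuasiFinite R (FractionRing S) := Algebra.QuasiFinite.of_isLocalization (nonZeroDivisors S)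
  haveI : Algebra.QuasiFinite K (FractionRing S) := Algebra.QuasiFinite.of_restrictScalars R K (FractionRing S)
  haveI : Module.Finite K (FractionRing S) := .of_quasiFinite
  letI : Algebra R L := ((algebraMap S L).comp (algebraMap R S)).toAlgebra
  haveI : IsScalarTower R S L := IsScalarTower.of_algebraMap_eq fun _ => rfl
  letI : Algebra K L := ((algebraMap (FractionRing S) L).comp (algebraMap K (FractionRing S))).toAlgebra
  haveI : IsScalarTower K (FractionRing S) L := IsScalarTower.of_algebraMap_eq fun _ => rfl
  haveI : IsScalarTower R K L := IsScalarTower.of_algebraMap_eq fun a => by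
    show algebraMap S L (algebraMap R S a) =
      algebraMap (FractionRing S) L (algebraMap K (FractionRing S) (algebraMap R K a))
    rw [← IsScalarTower.algebraMap_apply R K (FractionRing S), IsScalarTower.algebraMap_apply R S (FractionRing S),
      ← IsScalarTower.algebraMap_apply S (FractionRing S) L]
  haveI : FiniteDimensional K L := Module.Finite.trans (FractionRing S) L
  haveI : FaithfulSMul R L := (faithfulSMul_iff_algebraMap_injective _ _).mpr (by
    rw [IsScalarTower.algebraMap_eq R K L]
    exact (algebraMap K L).injective.comp (IsFractionRing.injective R K))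
  let C := integralClosure R L
  haveI : Module.Finite R C := Nagata.finite_closure_of_frac hR K L
  haveI : IsNoetherianRing C := IsNoetherianRing.of_finite R C
  haveI : IsFractionRing C L := integralClosure.isFractionRing_of_finite_extension K L
  haveI : IsIntegrallyClosed C := integralClosure.isIntegrallyClosedOfFiniteExtension K
  let T := Algebra.adjoin C (Set.range (algebraMap S L))
  let j : S →+* T := (algebraMap S L).codRestrict T.toSubring fun s => Algebra.subset_adjoin ⟨s, rfl⟩
  letI : Algebra S T := j.toAlgebra
  haveI : IsScalarTower S T L := IsScalarTower.of_algebraMap_eq fun _ => rfl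
  haveI : IsScalarTower R S T := IsScalarTower.of_algebraMap_eq fun _ => Subtype.ext rfl
  let θ : C ⊗[R] S →ₐ[C] T := Algebra.TensorProduct.lift (Algebra.ofId C T)
    (IsScalarTower.toAlgHom R S T) fun _ _ => Commute.all _ _
  have hθ : Function.Surjective θ := fun z => by
    suffices hz : z ∈ θ.range.toSubring from hz
    obtain ⟨z, hz⟩ := z
    induction hz using Algebra.adjoin_induction with
    | mem w hw =>
      obtain ⟨s, rfl⟩ := hw
      exact ⟨1 ⊗ₜ[R] s, by simp [θ]; exact Subtype.ext rfl⟩
    | algebraMap a => exact ⟨a ⊗ₜ[R] 1, by simp [θ]; exact Subtype.ext rfl⟩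
    | add y w hy hw ihy ihw =>
      exact (show (⟨y, hy⟩ + ⟨w, hw⟩ : T) ∈ θ.range.toSubring from add_mem ihy ihw)
    | mul y w hy hw ihy ihw =>
      exact (show (⟨y, hy⟩ * ⟨w, hw⟩ : T) ∈ θ.range.toSubring from mul_mem ihy ihw)
  haveI : Algebra.FiniteType C T := Algebra.FiniteType.of_surjective θ hθ
  haveI : Module.Finite S T := by
    let θ' : S ⊗[R] C →ₐ[S] T := Algebra.TensorProduct.lift (Algebra.ofId S T)
      (IsScalarTower.toAlgHom R C T) fun _ _ => Commute.all _ _
    refine Module.Finite.of_surjective θ'.toLinearMap fun z => ?_
    obtain ⟨w, rfl⟩ := hθ z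
    refine ⟨Algebra.TensorProduct.comm R C S w, ?_⟩
    induction w with
    | zero => simp
    | tmul c s => simp [θ, θ', mul_comm]
    | add a b ha hb =>
      rw [map_add, map_add, map_add, ha, hb]
  haveI : Algebra.QuasiFinite R T := Algebra.QuasiFinite.trans R S T
  haveI : Algebra.QuasiFinite C T := Algebra.QuasiFinite.of_restrictScalars R C T
  have hclosed : ∀ z : L, IsIntegral T z → z ∈ T := fun z hz => by
    obtain ⟨P, hP, hPz⟩ := hz
    let D : Ideal T :=
      { carrier := {t | (t : L) * z ∈ T}
        add_mem' := fun {a b} ha hb => by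
          show ((a + b : T) : L) * z ∈ T
          rw [Subalgebra.coe_add, add_mul]; exact add_mem ha hb
        zero_mem' := by
          show ((0 : T) : L) * z ∈ T
          rw [ZeroMemClass.coe_zero, zero_mul]; exact zero_mem T
        smul_mem' := fun a t ht => by
          show ((a * t : T) : L) * z ∈ T
          rw [Subalgebra.coe_mul, mul_assoc]; exact mul_mem a.2 ht }
    suffices hD : D = ⊤ by
      have : (1 : T) ∈ D := hD ▸ Submodule.mem_top
      simpa [D] using this
    by_contra hne
    obtain ⟨Q, hQ, hle⟩ := Ideal.exists_le_maximal _ hne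
    obtain ⟨r, hrQ, hr, hrx⟩ := Algebra.zariskisMainProperty_iff.mp
      (Algebra.ZariskisMainProperty.of_finiteType_of_weaklyQuasiFiniteAt (R := C) Q)
    have hrC : IsIntegral C (r : L) := hr.map (IsScalarTower.toAlgHom C T L)
    obtain ⟨k, hk⟩ := Nagata.exists_pow_mul_isIntegral (r : L) hrC (P.map (algebraMap T L)) (hP.map _) z
      (by rw [Polynomial.eval_map]; exact hPz) fun i => by
        obtain ⟨m, hm⟩ := hrx (P.coeff i)
        exact ⟨m, by
          rw [Polynomial.coeff_map]
          have := hm.map (IsScalarTower.toAlgHom C T L)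
          rwa [map_mul, map_pow] at this⟩
    obtain ⟨c, hc⟩ := IsIntegrallyClosed.isIntegral_iff.mp hk
    refine hrQ (hQ.isPrime.mem_of_pow_mem k (hle ?_))
    show ((r ^ k : T) : L) * z ∈ T
    rw [Subalgebra.coe_pow, ← hc]
    exact T.algebraMap_mem c
  haveI : IsNoetherian S T := isNoetherian_of_isNoetherianRing_of_finite S T
  let f : integralClosure S L →ₗ[S] T :=
    { toFun := fun z => ⟨z, hclosed z ((z.2 : IsIntegral S (z : L)).tower_top)⟩
      map_add' := fun _ _ => rfl
      map_smul' := fun a z => Subtype.ext (by
        rw [RingHom.id_apply, Algebra.smul_def, Algebra.smul_def, Subalgebra.coe_mul, Subalgebra.coe_mul]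
        rfl) }
  exact Module.Finite.of_injective f fun z w h => Subtype.ext (congrArg (fun t : T => (t : L)) h)

end Groth.Agent.S2114
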