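import Groth.Statements.S2115
import Groth.Agent.FPExt.Extend
import Groth.Agent.DQCoh.TopCohom

set_option autoImplicit false
set_option linter.style.haveILetI false
set_option linter.unusedVariables false
set_option backward.isDefEq.respectTransparency false
universe u
open CategoryTheory AlgebraicGeometry
open Mor

namespace Groth.Agent.S2115

/-- Let `X` be quasi-compact and quasi-separated, `F` a quasi-coherent `O_X`-module, `U ⊆ X` a
quasi-compact open and `G` a finitely presented `O_U`-module with a map `φ : G → F|_U`. Then there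
are a finitely presented `O_X`-module `G'` with a map `φ' : G' → F` and an isomorphism `G'|_U ≅ G`
identifying `φ'|_U` with `φ`. -/
theorem result (X : Scheme.{u}) [CompactSpace X] [QuasiSeparatedSpace X]
    (F : X.Modules) (hF : Coh.IsQCoh F) (U : X.Opens) (hU : IsCompact (U : Set X)) (G : (U : Scheme.{u}).Modules)
    (hG : CohB1.IsFP G) (φ : G ⟶ F.restrict U.ι) :
    ∃ (G' : X.Modules) (φ' : G' ⟶ F) (e : G'.restrict U.ι ≅ G), CohB1.IsFP G' ∧
      e.hom ≫ φ = (Scheme.Modules.restrictFunctor U.ι).map φ' := by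
  haveI := Groth.Agent.FPExt.quasiCompact_ι hU
  haveI : Coh.IsQCoh F := hF
  haveI : Coh.IsQCoh G := (Groth.Agent.QC.isQCoh_iff_exists_hasPres.mpr fun y => by
    obtain ⟨W, hy, hW⟩ := Groth.Agent.QC.isFP_iff_exists_hasFinPres.mp hG y
    exact ⟨W, hy, hW.hasPres⟩)
  obtain ⟨H, ψ, e, hH, he⟩ := Groth.Agent.FPExt.exists_qcoh_extension_map U F G φ
  haveI : Coh.IsQCoh H := hH
  have hFP : CohB1.IsFP (H.restrict U.ι) := Groth.Agent.DQCoh.isFP_of_iso e.symm hG
  obtain ⟨S, i, hSq, hSft, hiso⟩ := Groth.Agent.FPExt.exists_ft_sub_iso H hU (Groth.Agent.ModDesc.isFT_of_isFP hFP)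
  haveI := hiso
  haveI : Coh.IsQCoh S := hSq
  obtain ⟨G', p, hG', -, hp⟩ := Groth.Agent.FPExt.exists_fp_epi_iso S hSft hU
    (Groth.Agent.DQCoh.isFP_of_iso (asIso ((Scheme.Modules.restrictFunctor U.ι).map i)).symm hFP)
  haveI := hp
  refine ⟨G', p ≫ i ≫ ψ, asIso ((Scheme.Modules.restrictFunctor U.ι).map p) ≪≫
    asIso ((Scheme.Modules.restrictFunctor U.ι).map i) ≪≫ e, hG', ?_⟩
  simp only [Iso.trans_hom, asIso_hom, Category.assoc, Functor.map_comp, he]

end Groth.Agent.S2115
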