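import Groth.Statements.S2117
import Groth.Agent.S2451
import Groth.Agent.EGA41Adic.Field

set_option autoImplicit false
universe u
open CAlg

namespace Groth.Agent.S2117

/-- Let k be a field of characteristic p > 0 and K a field extension of k. Then K is geometrically
reduced over k (equivalently, K/k is separable: every finitely generated subextension is separably
generated) if and only if the natural base-change map K ⊗_k Ω_{k/ℤ} → Ω_{K/ℤ} on absolute Kähler
differentials is injective. -/
theorem result {k K : Type u} [Field k] [Field K] [Algebra k K] (p : ℕ)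
    [Fact p.Prime] [CharP k p] :
    Algebra.IsGeometricallyReduced k K ↔ Function.Injective (KaehlerDifferential.mapBaseChange ℤ k K) := by
  have hb : IsLocalRing.maximalIdeal K = ⊥ := IsLocalRing.isField_iff_maximalIdeal_eq.mp (Field.toIsField K)
  haveI : IsRegularLocalRing K := inferInstance
  haveI : Module.FaithfullyFlat K (IsLocalRing.ResidueField K) := inferInstance
  rw [← Groth.Agent.S2451.result, ← Module.FaithfullyFlat.lTensor_injective_iff_injective K
    (IsLocalRing.ResidueField K), Groth.Agent.EGA41Adic.injective_iff_indep (k := k) (A := K)]
  constructor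
  · intro h
    refine (Groth.Agent.EGA41Adic.isAdicFormallySmooth_iff.mp ?_).2
    intro B _ _ I hI f _
    obtain ⟨g, hg⟩ := Algebra.FormallySmooth.iff_comp_surjective.mp h I hI f
    exact ⟨g, hg⟩
  · intro h
    have hfs : CAlgX.IsAdicFormallySmooth k K (IsLocalRing.maximalIdeal K) :=
      Groth.Agent.EGA41Adic.isAdicFormallySmooth_of_regular_indep h
    refine Algebra.FormallySmooth.iff_comp_surjective.mpr ?_
    intro B _ _ I hI f
    exact hfs B I hI f ⟨1, fun x hx => by rw [pow_one, hb, Ideal.mem_bot] at hx; rw [hx, map_zero]⟩

end Groth.Agent.S2117
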