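import Groth.Statements.S2118
import Groth.Agent.Lazard.Basic

set_option autoImplicit false
universe u
open CategoryTheory
open CAlg Groth.Agent CategoryTheory

namespace Groth.Agent.S2118

/-- An `R`-module `M` is flat if and only if it is isomorphic to the colimit of a diagram of finite free
`R`-modules indexed by a nonempty directed preorder (in the same universe). -/
theorem result {R : Type u} [CommRing R] (M : Type u) [AddCommGroup M] [Module R M] :
    Module.Flat R M ↔
      ∃ (J : Type u) (_ : Preorder J) (_ : IsDirected J (fun a b => a ≤ b)) (_ : Nonempty J)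
        (F : J ⥤ ModuleCat.{u} R), (∀ j, Module.Finite R (F.obj j) ∧ Module.Free R (F.obj j)) ∧
        Nonempty (Limits.colimit F ≅ ModuleCat.of R M) := by
  constructor
  · intro h
    haveI := Lazard.isFiltered R M
    obtain ⟨J, _, hdir, hne, F, hF⟩ := IsFiltered.exists_directed (Lazard.Obj R M)
    haveI := hF
    refine ⟨J, inferInstance, hdir, hne, F ⋙ Lazard.diag R M, fun j => ⟨?_, ?_⟩, ⟨?_⟩⟩
    · exact inferInstanceAs (Module.Finite R (Fin (F.obj j).n → R))
    · exact inferInstanceAs (Module.Free R (Fin (F.obj j).n → R))
    · exact Functor.Final.colimitIso F (Lazard.diag R M) ≪≫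
        (Limits.colimit.isColimit _).coconePointUniqueUpToIso (Lazard.isColimit R M)
  · rintro ⟨J, _, hdir, hne, F, hF, ⟨e⟩⟩
    haveI : IsDirectedOrder J := hdir
    refine Lazard.flat_of_colimit R M F (fun j => ?_) e
    haveI := (hF j).2
    infer_instance

end Groth.Agent.S2118
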