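import Groth.Statements.S2120
import Mathlib
import Groth.Agent.SepSurj.Basic

set_option autoImplicit false
universe u
open CategoryTheory AlgebraicGeometry
open Mor

namespace Groth.Agent.S2120

/-- Let `f : X → Y` be surjective and universally closed. If `X` is quasi-separated then so is `Y`; if
`X` is separated then so is `Y`. -/
theorem result {X Y : Scheme.{u}} (f : X ⟶ Y) [Surjective f] [UniversallyClosed f] :
    (QuasiSeparatedSpace X → QuasiSeparatedSpace Y) ∧ (X.IsSeparated → Y.IsSeparated) := by
  set_option backward.isDefEq.respectTransparency false in
  refine ⟨fun hX => ?_, fun hX => ?_⟩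
  · haveI : QuasiCompact f := inferInstance
    refine ⟨fun U V hU hU' hV hV' => ?_⟩
    have h := hX.inter_isCompact (f ⁻¹' U) (f ⁻¹' V) (hU.preimage f.continuous)
      (QuasiCompact.isCompact_preimage U hU hU') (hV.preimage f.continuous)
      (QuasiCompact.isCompact_preimage V hV hV')
    have h2 := h.image f.continuous
    rwa [← Set.preimage_inter, Set.image_preimage_eq _ f.surjective] at h2
  · haveI := hX
    haveI : IsSeparated (f ≫ CategoryTheory.Limits.terminal.from Y) := by
      rw [CategoryTheory.Limits.terminal.comp_from]; infer_instance
    exact ⟨Groth.Agent.SepSurj.isSeparated_of_universallyClosed_surjective f _⟩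

end Groth.Agent.S2120
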