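import Groth.Statements.S2123
import Mathlib

set_option linter.style.haveILetI false

set_option autoImplicit false
universe u
open CategoryTheory AlgebraicGeometry
open Mor
open CategoryTheory AlgebraicGeometry

namespace Groth.Agent.S2123

/-- Let `X` be an integral separated scheme and `x, y` points such that the closure of `x` is not
contained in the closure of `y`. Then, inside the function field of `X`, the local ring at `x` is
not contained in the local ring at `y`. -/
theorem result (X : Scheme.{u}) [IsIntegral X] [X.IsSeparated] (x y : X)
    (h : ¬ closure ({x} : Set X) ⊆ closure {y}) :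
    ¬ Set.range (X.presheaf.stalkSpecializes (genericPoint_specializes x)) ⊆
        Set.range (X.presheaf.stalkSpecializes (genericPoint_specializes y)) := by
  intro hsub
  refine h (specializes_iff_closure_subset.1 ?_)
  set i := X.presheaf.stalkSpecializes (genericPoint_specializes y) with hi
  set j := X.presheaf.stalkSpecializes (genericPoint_specializes x) with hj
  have hinj : Function.Injective i.hom := IsFractionRing.injective (X.presheaf.stalk y) X.functionField
  choose φ hφ using fun a => hsub ⟨a, rfl⟩
  let ψ : X.presheaf.stalk x ⟶ X.presheaf.stalk y := CommRingCat.ofHom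
    { toFun := φ
      map_one' := hinj ((hφ 1).trans ((map_one j.hom).trans (map_one i.hom).symm))
      map_mul' := fun a b => hinj ((hφ (a * b)).trans ((map_mul j.hom a b).trans
        ((congrArg₂ (· * ·) (hφ a) (hφ b)).symm.trans (map_mul i.hom _ _).symm)))
      map_zero' := hinj ((hφ 0).trans ((map_zero j.hom).trans (map_zero i.hom).symm))
      map_add' := fun a b => hinj ((hφ (a + b)).trans ((map_add j.hom a b).trans
        ((congrArg₂ (· + ·) (hφ a) (hφ b)).symm.trans (map_add i.hom _ _).symm))) }
  have hcomp : ψ ≫ i = j := CommRingCat.hom_ext (RingHom.ext hφ)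
  haveI : IsDominant (Spec.map i) := ⟨(PrimeSpectrum.denseRange_comap_iff_ker_le_nilRadical _).2
    (((RingHom.injective_iff_ker_eq_bot _).1 hinj).trans_le bot_le)⟩
  have key : Spec.map ψ ≫ X.fromSpecStalk x = X.fromSpecStalk y := by
    refine ext_of_isDominant (Spec.map i) ?_
    rw [← Category.assoc, ← Spec.map_comp, hcomp, Scheme.SpecMap_stalkSpecializes_fromSpecStalk,
      Scheme.SpecMap_stalkSpecializes_fromSpecStalk]
  have hy : y ∈ Set.range (X.fromSpecStalk x).base :=
    ⟨(Spec.map ψ).base (IsLocalRing.closedPoint (X.presheaf.stalk y)), by
      rw [← Scheme.Hom.comp_apply, key, Scheme.fromSpecStalk_closedPoint]⟩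
  rw [Scheme.range_fromSpecStalk] at hy
  exact hy

end Groth.Agent.S2123
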