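import Groth.Statements.S2125
import Groth.Agent.Hensel.BranchCountStrict
-- import your own Groth.Agent.* helpers here

set_option autoImplicit false
universe u
open CAlg

namespace Groth.Agent.S2125

open TensorProduct

theorem comap_mem {W T : Type u} [CommRing W] [CommRing T] (e : W ≃+* T) {q : Ideal T} (hq : q ∈ minimalPrimes T) :
    q.comap e.toRingHom ∈ minimalPrimes W := by
  haveI := hq.1.1
  refine ⟨⟨Ideal.IsPrime.comap _, bot_le⟩, fun J hJ hle => ?_⟩
  haveI := hJ.1
  have h1 : q ≤ J.comap e.symm.toRingHom := hq.2 ⟨Ideal.IsPrime.comap _, bot_le⟩ fun x hx => by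
    have := hle hx
    rw [Ideal.mem_comap] at this
    simpa using this
  intro x hx
  simpa using h1 hx

theorem bijOn_transport {B W T : Type u} [CommRing B] [CommRing W] [CommRing T] (e : W ≃+* T) (f : B →+* T) (g : B →+* W)
    (hg : e.toRingHom.comp g = f) {s : Set (Ideal B)} (h : Set.BijOn (Ideal.comap f) (minimalPrimes T) s) :
    Set.BijOn (fun P : Ideal W => P.comap g) (minimalPrimes W) s := by
  have h2 : ∀ I : Ideal W, (I.comap e.symm.toRingHom).comap e.toRingHom = I := fun I => by
    ext x; simp
  have key : ∀ P : Ideal W, P.comap g = (P.comap e.symm.toRingHom).comap f := fun P => by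
    rw [← hg, ← Ideal.comap_comap, h2]
  refine ⟨fun P hP => ?_, fun P hP P' hP' he => ?_, fun q hq => ?_⟩
  · change P.comap g ∈ s
    rw [key]; exact h.1 (comap_mem e.symm hP)
  · change P.comap g = P'.comap g at he
    rw [key, key] at he
    rw [← h2 P, h.2.1 (comap_mem e.symm hP) (comap_mem e.symm hP') he, h2]
  · obtain ⟨Q, hQ, rfl⟩ := h.2.2 hq
    exact ⟨Q.comap e.toRingHom, comap_mem e hQ, by change (Q.comap e.toRingHom).comap g = _; rw [Ideal.comap_comap, hg]⟩

open TensorProduct in
/-- Let `A` be a local ring with finitely many minimal primes, `A'` the integral closure of `A_red` in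
its total ring of fractions and `A^h` the henselization of `A`. Then contraction along `A^h → A' ⊗_A
A^h` is a bijection from the minimal primes of `A' ⊗_A A^h` onto the minimal primes of `A^h`. -/
theorem result {A Ah : Type u} [CommRing A] [IsLocalRing A]
    (hfin : (minimalPrimes A).Finite) [CommRing Ah] [IsLocalRing Ah] [Algebra A Ah] [IsLocalHom (algebraMap A Ah)]
    [Hensel.IsHenselization A Ah] :
    Set.BijOn (fun P : Ideal ((CAlg2.normRed A) ⊗[A] Ah) =>
        P.comap (Algebra.TensorProduct.includeRight.toRingHom :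
          Ah →+* (CAlg2.normRed A) ⊗[A] Ah))
      (minimalPrimes ((CAlg2.normRed A) ⊗[A] Ah))
      (minimalPrimes Ah) := by
  haveI := Hensel.henselization_faithfullyFlat A Ah
  exact bijOn_transport (W := CAlg2.normRed A ⊗[A] Ah) (T := Hensel.brTensor A Ah)
    (Algebra.TensorProduct.comm A (CAlg2.normRed A) Ah).toRingEquiv _ _ (RingHom.ext fun a => rfl)
    (Hensel.bijOn_minimalPrimes hfin)

end Groth.Agent.S2125
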