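import Groth.Statements.S2129
import Groth.Agent.S1182
import Groth.Agent.S7656
import Groth.Agent.S9812
import Groth.Agent.Hensel.BranchCountStrict
import Groth.Agent.GUField.Field
import Mathlib

set_option autoImplicit false
universe u
open CAlg

namespace Groth.Agent.S2129

open scoped TensorProduct

/-- Smooth maps preserve the number of geometric branches. -/
theorem numGeomBranches_smooth {R S : Type u} [CommRing R] [CommRing S] [Algebra R S] [Algebra.Smooth R S]
    (q : Ideal S) [q.IsPrime] (p : Ideal R) [p.IsPrime] [q.LiesOver p] :
    Brnch.numGeomBranches (Localization.AtPrime q) = Brnch.numGeomBranches (Localization.AtPrime p) := by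
  let A := Localization.AtPrime p
  let C := Localization (Algebra.algebraMapSubmonoid S p.primeCompl)
  haveI : Algebra.IsPushout R A S C :=
    .symm <| Algebra.isPushout_of_isLocalization p.primeCompl _ _ _
  haveI : Algebra.Smooth A C := .of_equiv (Algebra.IsPushout.equiv R A S C)
  have hdisj : Disjoint (Algebra.algebraMapSubmonoid S p.primeCompl : Set S) (q : Set S) := by
    rw [Set.disjoint_left]
    rintro _ ⟨x, hx, rfl⟩ h
    exact hx ((Ideal.mem_of_liesOver q p x).2 h)
  let q' : Ideal C := q.map (algebraMap S C)
  haveI hq' : q'.IsPrime :=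
    IsLocalization.isPrime_of_isPrime_disjoint (Algebra.algebraMapSubmonoid S p.primeCompl) _ q inferInstance hdisj
  have hcomap : q'.comap (algebraMap S C) = q :=
    IsLocalization.comap_map_of_isPrime_disjoint (Algebra.algebraMapSubmonoid S p.primeCompl) C inferInstance hdisj
  let T := Localization.AtPrime q'
  haveI : IsLocalization.AtPrime T q := by
    have := IsLocalization.isLocalization_isLocalization_atPrime_isLocalization
      (S := C) (Algebra.algebraMapSubmonoid S p.primeCompl) T q'
    simpa only [hcomap] using this
  refine (S7656.numGeomBranches_congr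
    (IsLocalization.algEquiv q.primeCompl (Localization.AtPrime q) T).toRingEquiv).trans ?_
  haveI : Module.Flat C T := IsLocalization.flat T q'.primeCompl
  haveI : Module.Flat A T := Module.Flat.trans A C T
  have hlies : q'.comap (algebraMap A C) = IsLocalRing.maximalIdeal A := by
    haveI : (q'.comap (algebraMap A C)).IsPrime := Ideal.IsPrime.comap _
    refine le_antisymm (IsLocalRing.le_maximalIdeal Ideal.IsPrime.ne_top') ?_
    rw [← Localization.AtPrime.map_eq_maximalIdeal, Ideal.map_le_iff_le_comap, Ideal.comap_comap,
      ← IsScalarTower.algebraMap_eq, IsScalarTower.algebraMap_eq R S C, ← Ideal.comap_comap, hcomap]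
    exact (Ideal.LiesOver.over (p := p) (P := q)).le
  haveI : IsLocalHom (algebraMap A T) := ((IsLocalRing.local_hom_TFAE (algebraMap A T)).out 0 4).2 (by
    rw [IsScalarTower.algebraMap_eq A C T, ← Ideal.comap_comap]
    exact (congrArg _ (IsLocalization.AtPrime.comap_maximalIdeal T q')).trans hlies)
  refine GUField.numGeomBranches_eq A T fun p₀ hp₀ Q _ => ?_
  haveI := hp₀.1.1
  refine GUField.gu_tensor_localization (C := C) q'.primeCompl (fun P _ => ?_) Q
  let N := GUField.nrm A p₀
  haveI : IsIntegrallyClosed N := Hensel.isIntegrallyClosed_integralClosure_field _ _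
  refine GUField.gu_of_ringEquiv (W := N ⊗[A] C) (M := C ⊗[A] N) (Algebra.TensorProduct.comm A N C).toRingEquiv (fun P' _ => ?_) P
  obtain ⟨_, _⟩ := S1182.normal_atPrime_of_smooth N (N ⊗[A] C) P'
  exact S9812.result _

/-- Let `R → S` be a smooth ring map, `𝔮` a prime of `S` over `𝔭`, and `A = R_𝔭 → B = S_𝔮` the induced
local homomorphism. Then strict henselizations of `A` and `B` have the same number of minimal prime
ideals (the same number of geometric branches, counted in ℕ∞, infinite counting as ∞). -/
theorem result {R S Ash Bsh : Type u} [CommRing R] [CommRing S] [Algebra R S]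
    [Algebra.Smooth R S] (q : Ideal S) [q.IsPrime] (p : Ideal R) [p.IsPrime] [q.LiesOver p]
    [CommRing Ash] [IsLocalRing Ash] [Algebra (Localization.AtPrime p) Ash]
    [IsLocalHom (algebraMap (Localization.AtPrime p) Ash)] [Hensel.IsStrictHenselization (Localization.AtPrime p) Ash]
    [CommRing Bsh] [IsLocalRing Bsh] [Algebra (Localization.AtPrime q) Bsh]
    [IsLocalHom (algebraMap (Localization.AtPrime q) Bsh)] [Hensel.IsStrictHenselization (Localization.AtPrime q) Bsh] :
    (minimalPrimes Ash).encard = (minimalPrimes Bsh).encard := by
  rw [← ENat.card_coe_set_eq, ← ENat.card_coe_set_eq,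
    Hensel.card_minimalPrimes_strictHenselization (A := Localization.AtPrime p) (S := Ash),
    Hensel.card_minimalPrimes_strictHenselization (A := Localization.AtPrime q) (S := Bsh)]
  exact (numGeomBranches_smooth q p).symm

end Groth.Agent.S2129
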