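import Groth.Statements.S2130
import Groth.Agent.S1182
import Groth.Agent.S9812
import Groth.Agent.Hensel.BranchFlat
import Groth.Agent.GUField.Field
import Groth.Agent.GUField.Branches
import Mathlib
-- import your own Groth.Agent.* helpers here

set_option autoImplicit false
universe u
open CAlg

namespace Groth.Agent.S2130

open scoped TensorProduct

theorem numBranches_congr {A B : Type u} [CommRing A] [CommRing B] [IsLocalRing A] [IsLocalRing B]
    (e : A ≃+* B) : Brnch.numBranches A = Brnch.numBranches B := by
  haveI : IsLocalHom (e : A →+* B) := ⟨fun a h => by simpa using h.map e.symm⟩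
  haveI : IsLocalHom (e.symm : B →+* A) := ⟨fun a h => by simpa using h.map e⟩
  exact le_antisymm (Hensel.numBranches_le_of_flat (e : A →+* B) (RingHom.Flat.of_bijective e.bijective))
    (Hensel.numBranches_le_of_flat (e.symm : B →+* A) (RingHom.Flat.of_bijective e.symm.bijective))

/-- Smooth maps preserve the number of branches. -/
theorem numBranches_smooth {R S : Type u} [CommRing R] [CommRing S] [Algebra R S] [Algebra.Smooth R S]
    (q : Ideal S) [q.IsPrime] (p : Ideal R) [p.IsPrime] [q.LiesOver p]
    (hpi : @IsPurelyInseparable p.ResidueField q.ResidueField _ _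
      (Ideal.ResidueField.mapₐ p q (Algebra.ofId R S) (q.over_def p)).toRingHom.toAlgebra) :
    Brnch.numBranches (Localization.AtPrime q) = Brnch.numBranches (Localization.AtPrime p) := by
  let A := Localization.AtPrime p
  let C := Localization (Algebra.algebraMapSubmonoid S p.primeCompl)
  haveI : Algebra.IsPushout R A S C :=
    .symm <| Algebra.isPushout_of_isLocalization p.primeCompl _ _ _
  haveI : Algebra.Smooth A C := .of_equiv (Algebra.IsPushout.equiv R A S C)
  have hdisj : Disjoint (Algebra.algebraMapSubmonoid S p.primeCompl : Set S) (q : Set S) := by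
    rw [Set.disjoint_left]
    rintro _ ⟨x, hx, rfl⟩ h
    exact hx ((Ideal.mem_of_liesOver q p x).2 h)
  let q' : Ideal C := q.map (algebraMap S C)
  haveI hq' : q'.IsPrime :=
    IsLocalization.isPrime_of_isPrime_disjoint (Algebra.algebraMapSubmonoid S p.primeCompl) _ q inferInstance hdisj
  have hcomap : q'.comap (algebraMap S C) = q :=
    IsLocalization.comap_map_of_isPrime_disjoint (Algebra.algebraMapSubmonoid S p.primeCompl) C inferInstance hdisj
  let T := Localization.AtPrime q'
  haveI : IsLocalization.AtPrime T q := by
    have := IsLocalization.isLocalization_isLocalization_atPrime_isLocalization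
      (S := C) (Algebra.algebraMapSubmonoid S p.primeCompl) T q'
    simpa only [hcomap] using this
  let e := IsLocalization.algEquiv q.primeCompl (Localization.AtPrime q) T
  refine (numBranches_congr e.toRingEquiv).trans ?_
  haveI : Module.Flat C T := IsLocalization.flat T q'.primeCompl
  haveI : Module.Flat A T := Module.Flat.trans A C T
  have hlies : q'.comap (algebraMap A C) = IsLocalRing.maximalIdeal A := by
    haveI : (q'.comap (algebraMap A C)).IsPrime := Ideal.IsPrime.comap _
    refine le_antisymm (IsLocalRing.le_maximalIdeal Ideal.IsPrime.ne_top') ?_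
    rw [← Localization.AtPrime.map_eq_maximalIdeal, Ideal.map_le_iff_le_comap, Ideal.comap_comap,
      ← IsScalarTower.algebraMap_eq, IsScalarTower.algebraMap_eq R S C, ← Ideal.comap_comap, hcomap]
    exact (Ideal.LiesOver.over (p := p) (P := q)).le
  haveI : IsLocalHom (algebraMap A T) := ((IsLocalRing.local_hom_TFAE (algebraMap A T)).out 0 4).2 (by
    rw [IsScalarTower.algebraMap_eq A C T, ← Ideal.comap_comap]
    exact (congrArg _ (IsLocalization.AtPrime.comap_maximalIdeal T q')).trans hlies)
  let φ : p.ResidueField →+* q.ResidueField :=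
    (Ideal.ResidueField.mapₐ p q (Algebra.ofId R S) (q.over_def p)).toRingHom
  let eκ : q.ResidueField ≃+* IsLocalRing.ResidueField T := IsLocalRing.ResidueField.mapEquiv e.toRingEquiv
  obtain ⟨c, hc⟩ := ExpChar.exists p.ResidueField
  haveI : ExpChar (IsLocalRing.ResidueField T) c :=
    expChar_of_injective_ringHom (f := eκ.toRingHom.comp φ) (RingHom.injective _) c
  have hcomm : ∀ a : A, e (Localization.localRingHom p q (algebraMap R S) (q.over_def p) a) = algebraMap A T a := by
    intro a
    refine RingHom.congr_fun (IsLocalization.ringHom_ext p.primeCompl (S := A)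
      (j := e.toRingEquiv.toRingHom.comp (Localization.localRingHom p q (algebraMap R S) (q.over_def p)))
      (k := algebraMap A T) (RingHom.ext fun r => ?_)) a
    change e (Localization.localRingHom p q (algebraMap R S) (q.over_def p) (algebraMap R A r)) = _
    rw [Localization.localRingHom_to_map]
    refine (e.commutes _).trans ?_
    rw [RingHom.comp_apply, ← IsScalarTower.algebraMap_apply R A T, ← IsScalarTower.algebraMap_apply R S T]
  refine GUField.numBranches_eq A T c (fun t => ?_) fun p₀ hp₀ Q _ => ?_
  · letI := φ.toAlgebra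
    haveI : IsPurelyInseparable p.ResidueField q.ResidueField := hpi
    obtain ⟨n, hn⟩ := IsPurelyInseparable.pow_mem p.ResidueField c (IsLocalRing.residue (Localization.AtPrime q) (e.symm t))
    obtain ⟨a', ha'⟩ := hn
    obtain ⟨a, rfl⟩ := IsLocalRing.residue_surjective a'
    refine ⟨n, a, ?_⟩
    rw [← IsLocalRing.residue_eq_zero_iff, map_sub, map_pow, sub_eq_zero, ← hcomm]
    calc IsLocalRing.residue T t ^ c ^ n = eκ (IsLocalRing.residue _ (e.symm t) ^ c ^ n) := by
          rw [map_pow]
          exact congrArg (· ^ c ^ n) (congrArg (IsLocalRing.residue T) (e.apply_symm_apply t)).symm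
      _ = eκ (φ (IsLocalRing.residue _ a)) := congrArg eκ ha'.symm
      _ = _ := rfl
  haveI := hp₀.1.1
  refine GUField.gu_tensor_localization (C := C) q'.primeCompl (fun P _ => ?_) Q
  let N := GUField.nrm A p₀
  haveI : IsIntegrallyClosed N := Hensel.isIntegrallyClosed_integralClosure_field _ _
  refine GUField.gu_of_ringEquiv (W := N ⊗[A] C) (M := C ⊗[A] N) (Algebra.TensorProduct.comm A N C).toRingEquiv (fun P' _ => ?_) P
  obtain ⟨_, _⟩ := S1182.normal_atPrime_of_smooth N (N ⊗[A] C) P'
  exact S9812.result _


/-- Let `R → S` be smooth, `𝔮` a prime of `S` over `𝔭` with `κ(𝔮)/κ(𝔭)` purely inseparable, and `A = R_𝔭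
→ B = S_𝔮`. Then henselizations of `A` and `B` have the same number of minimal prime ideals (the
same number of branches). -/
theorem result {R S Ah Bh : Type u} [CommRing R] [CommRing S]
    [Algebra R S] [Algebra.Smooth R S] (q : Ideal S) [q.IsPrime] (p : Ideal R) [p.IsPrime] [q.LiesOver p]
    (hpi : @IsPurelyInseparable p.ResidueField q.ResidueField _ _
      (Ideal.ResidueField.mapₐ p q (Algebra.ofId R S) (q.over_def p)).toRingHom.toAlgebra)
    [CommRing Ah] [IsLocalRing Ah] [Algebra (Localization.AtPrime p) Ah]
    [IsLocalHom (algebraMap (Localization.AtPrime p) Ah)] [Hensel.IsHenselization (Localization.AtPrime p) Ah]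
    [CommRing Bh] [IsLocalRing Bh] [Algebra (Localization.AtPrime q) Bh]
    [IsLocalHom (algebraMap (Localization.AtPrime q) Bh)] [Hensel.IsHenselization (Localization.AtPrime q) Bh] :
    (minimalPrimes Ah).encard = (minimalPrimes Bh).encard := by
  rw [← ENat.card_coe_set_eq, ← ENat.card_coe_set_eq,
    Hensel.card_minimalPrimes_henselization (A := Localization.AtPrime p) (S := Ah),
    Hensel.card_minimalPrimes_henselization (A := Localization.AtPrime q) (S := Bh)]
  exact (numBranches_smooth q p hpi).symm

end Groth.Agent.S2130
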