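import Groth.Statements.S2131
import Mathlib.Algebra.Module.FinitePresentation
import Mathlib.RingTheory.Spectrum.Prime.Topology

set_option autoImplicit false
universe u
open CAlg

namespace Groth.Agent.S2131

/-- For an `R`-linear map from a finite module to a finitely presented module, the primes at which its
localization is bijective form an open subset of `Spec R`. -/
theorem result {R M N : Type u} [CommRing R] [AddCommGroup M] [Module R M] [Module.Finite R M]
    [AddCommGroup N] [Module R N] [Module.FinitePresentation R N] (φ : M →ₗ[R] N) :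
    IsOpen {p : PrimeSpectrum R | Function.Bijective (LocalizedModule.map p.asIdeal.primeCompl φ)} := by
  refine isOpen_iff_forall_mem_open.2 fun p hp => ?_
  obtain ⟨g, hg, hbij⟩ := Module.FinitePresentation.exists_notMem_bijective φ p.asIdeal (LocalizedModule.mkLinearMap p.asIdeal.primeCompl M)
    (LocalizedModule.mkLinearMap p.asIdeal.primeCompl N) hp
  refine ⟨(PrimeSpectrum.basicOpen g : Set (PrimeSpectrum R)), fun q hq => ?_, PrimeSpectrum.isOpen_basicOpen, hg⟩
  have hkill : ∀ x : M, φ x = 0 → ∃ k : ℕ, g ^ k • x = 0 := fun x hx => by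
    have h0 : LocalizedModule.mk x (1 : Submonoid.powers g) = 0 := hbij.1 (by rw [LocalizedModule.map_mk, hx, map_zero, LocalizedModule.zero_mk])
    obtain ⟨⟨_, k, rfl⟩, hk⟩ := LocalizedModule.mk_eq.1 (h0.trans (LocalizedModule.zero_mk (1 : Submonoid.powers g)).symm)
    exact ⟨k, by simpa [Submonoid.smul_def] using hk⟩
  have hhit : ∀ y : N, ∃ k : ℕ, ∃ x : M, φ x = g ^ k • y := fun y => by
    obtain ⟨z, hz⟩ := hbij.2 (LocalizedModule.mk y 1)
    induction z using LocalizedModule.induction_on with
    | h x s =>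
      rw [LocalizedModule.map_mk] at hz
      obtain ⟨⟨_, k, rfl⟩, hk⟩ := LocalizedModule.mk_eq.1 hz
      obtain ⟨_, j, rfl⟩ := s
      refine ⟨k + j, g ^ k • x, ?_⟩
      rw [map_smul, pow_add, mul_smul]
      simpa [Submonoid.smul_def] using hk
  have hgk : ∀ k : ℕ, g ^ k ∈ q.asIdeal.primeCompl := fun k h => hq (q.isPrime.mem_of_pow_mem k h)
  refine ⟨(injective_iff_map_eq_zero _).2 fun z hz => ?_, fun z => ?_⟩
  · induction z using LocalizedModule.induction_on with
    | h x s =>
      rw [LocalizedModule.map_mk] at hz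
      obtain ⟨t, ht⟩ := LocalizedModule.mk_eq.1 (hz.trans (LocalizedModule.zero_mk (1 : q.asIdeal.primeCompl)).symm)
      have ht' : φ ((t : R) • x) = 0 := by rw [map_smul]; simpa [Submonoid.smul_def] using ht
      obtain ⟨k, hk⟩ := hkill _ ht'
      rw [← LocalizedModule.zero_mk (1 : q.asIdeal.primeCompl), LocalizedModule.mk_eq]
      refine ⟨⟨g ^ k, hgk k⟩ * t, ?_⟩
      simp [Submonoid.smul_def, mul_smul, hk]
  · induction z using LocalizedModule.induction_on with
    | h y s =>
      obtain ⟨k, x, hx⟩ := hhit y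
      refine ⟨LocalizedModule.mk x (⟨g ^ k, hgk k⟩ * s), ?_⟩
      rw [LocalizedModule.map_mk, hx]
      exact LocalizedModule.mk_cancel_common_left ⟨g ^ k, hgk k⟩ s y

end Groth.Agent.S2131
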