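import Groth.Statements.S2132
import Mathlib.RingTheory.Henselian
import Mathlib.Algebra.Category.Ring.FilteredColimits
import Mathlib.Algebra.Category.Ring.Colimits
import Mathlib.CategoryTheory.Limits.ConcreteCategory.Basic
import Mathlib.Algebra.Polynomial.Monic
import Mathlib.Algebra.BigOperators.Fin

set_option autoImplicit false
universe u
open CategoryTheory
open CAlg

namespace Groth.Agent.S2132

/-- Let `F : J ⥤ CommRingCat` be a filtered diagram of henselian local rings with local transition maps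
and `c` a colimit cocone. Then the colimit is a henselian local ring. -/
theorem result {J : Type u} [SmallCategory J] [IsFiltered J] (F : J ⥤ CommRingCat.{u})
    (hF : ∀ j, HenselianLocalRing (F.obj j)) (hloc : ∀ (i j : J) (a : i ⟶ j), IsLocalHom (F.map a).hom)
    (c : Limits.Cocone F) (hc : Limits.IsColimit c) : HenselianLocalRing c.pt := by
  classical
  let L := c.pt
  let ι : ∀ j, F.obj j →+* L := fun j => (c.ι.app j).hom
  have hw : ∀ {i j : J} (a : i ⟶ j) (x : F.obj i), ι j ((F.map a).hom x) = ι i x := fun a x => by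
    show (F.map a ≫ c.ι.app _).hom x = _
    rw [c.w a]
  have hrep : ∀ z : L, ∃ (j : J) (x : F.obj j), ι j x = z := fun z => Limits.Concrete.isColimit_exists_rep F hc z
  have heq : ∀ {i j : J} (x : F.obj i) (y : F.obj j), ι i x = ι j y →
      ∃ (k : J) (a : i ⟶ k) (b : j ⟶ k), (F.map a).hom x = (F.map b).hom y := fun x y h =>
    (Limits.Concrete.isColimit_rep_eq_iff_exists F hc x y).mp h
  have hlocι : ∀ j (x : F.obj j), IsUnit (ι j x) → IsUnit x := by
    intro j x hx
    obtain ⟨z, hz⟩ := hx.exists_right_inv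
    obtain ⟨i, y, rfl⟩ := hrep z
    obtain ⟨l, a, b, -⟩ : ∃ (l : J) (a : j ⟶ l) (b : i ⟶ l), True :=
      ⟨IsFiltered.max j i, IsFiltered.leftToMax j i, IsFiltered.rightToMax j i, trivial⟩
    have h1 : ι l ((F.map a).hom x * (F.map b).hom y) = ι l 1 := by
      rw [map_mul, hw, hw, map_one, hz]
    obtain ⟨m, a', b', hm⟩ := heq _ _ h1
    rw [map_mul, map_one] at hm
    haveI := hloc _ _ (a ≫ a')
    refine isUnit_of_map_unit (F.map (a ≫ a')).hom x ?_
    rw [F.map_comp]
    exact IsUnit.of_mul_eq_one _ hm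
  haveI hnt : Nontrivial L := by
    refine ⟨⟨0, 1, fun h => ?_⟩⟩
    obtain ⟨j⟩ := (IsFiltered.nonempty : Nonempty J)
    haveI := hF j
    have : IsUnit (ι j 0) := by rw [map_zero, h]; exact isUnit_one
    exact not_isUnit_zero (hlocι j 0 this)
  haveI hlocal : IsLocalRing L := by
    refine IsLocalRing.of_isUnit_or_isUnit_one_sub_self fun z => ?_
    obtain ⟨j, x, rfl⟩ := hrep z
    haveI := hF j
    rcases IsLocalRing.isUnit_or_isUnit_one_sub_self x with h | h
    · exact Or.inl (h.map _)
    · exact Or.inr (by simpa using h.map (ι j))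
  refine { is_henselian := fun f hf a₀ h1 h2 => ?_ }
  obtain ⟨j₀, x₀, rfl⟩ := hrep a₀
  let d := f.natDegree
  choose jc xc hxc using fun i : Fin d => hrep (f.coeff i)
  obtain ⟨k, hk⟩ := IsFiltered.sup_objs_exists (insert j₀ (Finset.univ.image jc))
  obtain ⟨a⟩ := hk (Finset.mem_insert_self j₀ _)
  have b := fun i : Fin d => hk (Finset.mem_insert_of_mem (Finset.mem_image_of_mem jc (Finset.mem_univ i)))
  haveI := hF k
  let g : Polynomial (F.obj k) := Polynomial.X ^ d + ∑ i : Fin d, Polynomial.C ((F.map (b i).some).hom (xc i)) * Polynomial.X ^ (i : ℕ)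
  have hg : g.Monic := Polynomial.monic_X_pow_add (by
    refine (Polynomial.degree_sum_le _ _).trans_lt ((Finset.sup_lt_iff (WithBot.bot_lt_coe d)).mpr fun i _ => ?_)
    exact (Polynomial.degree_C_mul_X_pow_le _ _).trans_lt (WithBot.coe_lt_coe.mpr i.2))
  have hgf : g.map (ι k) = f := by
    rw [hf.as_sum]
    simp only [g, Polynomial.map_add, Polynomial.map_pow, Polynomial.map_X, Polynomial.map_sum, Polynomial.map_mul,
      Polynomial.map_C, hw, hxc]
    congr 1
    exact (Fin.sum_univ_eq_sum_range (fun i => Polynomial.C (f.coeff i) * Polynomial.X ^ i) d)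
  let y₀ := (F.map a).hom x₀
  have hy : ι k y₀ = ι j₀ x₀ := hw a x₀
  have e1 : g.eval y₀ ∈ IsLocalRing.maximalIdeal (F.obj k) := by
    rw [IsLocalRing.mem_maximalIdeal] at h1 ⊢
    intro hu
    apply h1
    rw [← hgf, ← hy, Polynomial.eval_map, Polynomial.eval₂_hom]
    exact hu.map _
  have e2 : IsUnit (g.derivative.eval y₀) := by
    apply hlocι
    rw [← Polynomial.eval₂_hom, ← Polynomial.eval_map, ← Polynomial.derivative_map, hgf, hy]
    exact h2
  obtain ⟨y, hy1, hy2⟩ := HenselianLocalRing.is_henselian g hg y₀ e1 e2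
  refine ⟨ι k y, ?_, ?_⟩
  · rw [← hgf]
    show Polynomial.eval (ι k y) (g.map (ι k)) = 0
    rw [Polynomial.eval_map, Polynomial.eval₂_hom, show g.eval y = 0 from hy1, map_zero]
  · rw [← hy, ← map_sub]
    rw [IsLocalRing.mem_maximalIdeal] at hy2 ⊢
    exact fun hu => hy2 (hlocι _ _ hu)

end Groth.Agent.S2132
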