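import Groth.Statements.S2133
import Mathlib.RingTheory.Derivation.Basic
import Mathlib.RingTheory.Localization.Away.Basic
import Mathlib.Algebra.TrivSqZeroExt.Basic
import Mathlib.RingTheory.FiniteType
import Mathlib.RingTheory.LocalProperties.Basic
import Mathlib.Tactic.Ring

set_option autoImplicit false
universe u
open CAlg

namespace Groth.Agent.S2133

/-- Let `R → R'` be an injective ring map of finite type and `g ∈ R` a nonzerodivisor on `R'` such that
every element of `R'` lands in `R` after multiplication by a power of `g` (so `R_g = R'_g`). Then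
for every derivation `D` of `R` there is `N` such that `g^N D` extends to a derivation of `R'`. -/
theorem result {R R' : Type u} [CommRing R] [CommRing R'] [Algebra R R'] [Algebra.FiniteType R R']
    (hinj : Function.Injective (algebraMap R R')) (g : R) (hg : IsSMulRegular R' (algebraMap R R' g))
    (hloc : ∀ x : R', ∃ n : ℕ, (algebraMap R R' g) ^ n * x ∈ Set.range (algebraMap R R')) (D : Derivation ℤ R R) :
    ∃ (N : ℕ) (D' : Derivation ℤ R' R'), ∀ r : R, D' (algebraMap R R' r) = algebraMap R R' (g ^ N * D r) := by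
  classical
  let f := algebraMap R R'
  let L := Localization.Away (f g)
  let ι := algebraMap R' L
  have hι : Function.Injective ι := IsLocalization.injective (M := Submonoid.powers (f g)) L (by
    rintro _ ⟨n, rfl⟩
    refine mem_nonZeroDivisors_iff_right.mpr fun z hz => (hg.pow n) ?_
    show (f g) ^ n * z = (f g) ^ n * 0
    rw [mul_zero, mul_comm]; exact hz)
  have hRL : ∀ r : R, algebraMap R L r = ι (f r) := fun r => IsScalarTower.algebraMap_apply R R' L r
  have hgu : IsUnit (algebraMap R L g) := by rw [hRL]; exact IsLocalization.Away.algebraMap_isUnit (f g)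
  haveI : IsLocalization.Away g L := by
    refine { map_units := ?_, surj := ?_, exists_of_eq := ?_ }
    · rintro ⟨_, n, rfl⟩; rw [map_pow]; exact hgu.pow n
    · intro z
      obtain ⟨⟨x, ⟨_, n, rfl⟩⟩, hz⟩ := IsLocalization.surj (Submonoid.powers (f g)) z
      obtain ⟨m, r, hr⟩ := hloc x
      refine ⟨⟨r, ⟨g ^ (m + n), m + n, rfl⟩⟩, ?_⟩
      show z * algebraMap R L (g ^ (m + n)) = algebraMap R L r
      rw [hRL, hRL, hr, map_mul ι, pow_add, map_mul, map_mul, map_pow f, map_pow f]
      simp only at hz
      rw [← hz]; ring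
    · intro a b hab
      rw [hRL, hRL] at hab
      exact ⟨1, by rw [hinj (hι hab)]⟩
  let t : R →+* TrivSqZeroExt L L :=
    { toFun := fun r => ((algebraMap R L r, algebraMap R L (D r)) : L × L)
      map_one' := TrivSqZeroExt.ext (map_one _) (by
        show algebraMap R L (D 1) = (0 : L)
        rw [Derivation.map_one_eq_zero, map_zero])
      map_zero' := TrivSqZeroExt.ext (map_zero _) (by
        show algebraMap R L (D 0) = (0 : L)
        rw [map_zero, map_zero])
      map_add' := fun a b => TrivSqZeroExt.ext (map_add _ _ _) (by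
        show algebraMap R L (D (a + b)) = algebraMap R L (D a) + algebraMap R L (D b)
        rw [map_add, map_add])
      map_mul' := fun a b => TrivSqZeroExt.ext (map_mul _ _ _) (by
        show algebraMap R L (D (a * b)) = algebraMap R L a * algebraMap R L (D b) + algebraMap R L (D a) * algebraMap R L b
        rw [Derivation.leibniz, smul_eq_mul, smul_eq_mul, map_add, map_mul, map_mul]; ring) }
  have ht1 : ∀ r, TrivSqZeroExt.fst (t r) = algebraMap R L r := fun r => rfl
  have ht2 : ∀ r, TrivSqZeroExt.snd (t r) = algebraMap R L (D r) := fun r => rfl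
  have ht : ∀ y : Submonoid.powers g, IsUnit (t y) := by
    rintro ⟨_, n, rfl⟩
    rw [TrivSqZeroExt.isUnit_iff_isUnit_fst]
    rw [ht1, map_pow]; exact hgu.pow n
  let T : L →+* TrivSqZeroExt L L := IsLocalization.lift (M := Submonoid.powers g) ht
  have hTr : ∀ r, T (algebraMap R L r) = t r := fun r => IsLocalization.lift_eq _ r
  have hfst : ∀ z : L, (T z).fst = z := by
    have : ((TrivSqZeroExt.fstHom L L L).toRingHom).comp T = RingHom.id L := by
      refine IsLocalization.ringHom_ext (Submonoid.powers g) (RingHom.ext fun r => ?_)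
      show (T (algebraMap R L r)).fst = algebraMap R L r
      rw [hTr, ht1]
    exact fun z => RingHom.congr_fun this z
  let δ : L → L := fun z => (T z).snd
  have δadd : ∀ a b, δ (a + b) = δ a + δ b := fun a b => by show TrivSqZeroExt.snd (T (a + b)) = _; rw [map_add]; rfl
  have δmul : ∀ a b, δ (a * b) = a * δ b + δ a * b := fun a b => by
    show TrivSqZeroExt.snd (T (a * b)) = _
    rw [map_mul]
    refine (TrivSqZeroExt.snd_mul (T a) (T b)).trans ?_
    rw [hfst, hfst]; rfl
  have δR : ∀ r : R, δ (algebraMap R L r) = algebraMap R L (D r) := fun r => by show TrivSqZeroExt.snd (T (algebraMap R L r)) = _; rw [hTr, ht2]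
  -- the elements whose derivative has bounded denominators
  have key : ∀ x : R', ∃ N : ℕ, ι (f g) ^ N * δ (ι x) ∈ Set.range ι := by
    intro x
    obtain ⟨n, r, hr⟩ := hloc x
    have h1 : δ (ι (f (g ^ n)) * ι x) = algebraMap R L (D r) := by rw [← δR, hRL, hr, map_pow, map_mul]
    rw [δmul] at h1
    have h2 : δ (ι (f (g ^ n))) = ι (f (D (g ^ n))) := by rw [← hRL, δR, hRL]
    refine ⟨n, f (D r) - f (D (g ^ n)) * x, ?_⟩
    rw [map_sub, map_mul, ← hRL, ← h1, h2, map_pow f, map_pow ι]
    ring
  obtain ⟨G, hG⟩ := (Algebra.FiniteType.out : (⊤ : Subalgebra R R').FG)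
  choose Nf hNf using key
  let N := G.sup Nf
  have hgN : ι (f (g ^ N)) = ι (f g) ^ N := by rw [map_pow, map_pow]
  have hall : ∀ x : R', ι (f g) ^ N * δ (ι x) ∈ Set.range ι := by
    intro x
    have hx : x ∈ Algebra.adjoin R (G : Set R') := hG ▸ Algebra.mem_top
    induction hx using Algebra.adjoin_induction with
    | mem x hx =>
      obtain ⟨w, hw⟩ := hNf x
      refine ⟨(f g) ^ (N - Nf x) * w, ?_⟩
      rw [map_mul, map_pow, hw, ← mul_assoc, ← pow_add, Nat.sub_add_cancel (Finset.le_sup hx)]
    | algebraMap r =>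
      refine ⟨(f g) ^ N * f (D r), ?_⟩
      rw [map_mul, map_pow, ← hRL r, δR, hRL (D r)]
    | add x y _ _ hx hy =>
      obtain ⟨a, ha⟩ := hx; obtain ⟨b, hb⟩ := hy
      exact ⟨a + b, by rw [map_add, map_add, δadd, mul_add, ha, hb]⟩
    | mul x y _ _ hx hy =>
      obtain ⟨a, ha⟩ := hx; obtain ⟨b, hb⟩ := hy
      exact ⟨x * b + a * y, by rw [map_add, map_mul, map_mul, map_mul, δmul, ha, hb]; ring⟩
  choose D' hD' using hall
  let Da : R' →+ R' := AddMonoidHom.mk' D' fun a b => hι (by rw [hD', map_add, map_add, δadd, mul_add, hD', hD'])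
  refine ⟨N, Derivation.mk' Da.toIntLinearMap fun a b => hι (by
    show ι (D' (a * b)) = ι (a • D' b + b • D' a)
    rw [smul_eq_mul, smul_eq_mul, map_add, map_mul, map_mul, hD', hD', hD', map_mul, δmul]; ring), fun r => hι ?_⟩
  show ι (D' (f r)) = _
  rw [hD', ← hRL r, δR, hRL (D r), ← hgN, ← map_mul, ← map_mul]

end Groth.Agent.S2133
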