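import Groth.Statements.S2134
import Mathlib.FieldTheory.IntermediateField.Basic
import Mathlib.Data.Nat.Lattice
import Mathlib.FieldTheory.IntermediateField.Adjoin.Basic

set_option autoImplicit false
universe u
open CAlg

namespace Groth.Agent.S2134

/-- Let `K/k` be a field extension and `(K_α)` a nonempty family of intermediate fields, directed
downwards, with intersection `k`. For a `K`-subspace `V` of `K^n` (`n ≥ 1`), `V` contains a nonzero
vector with all coordinates in `k` if and only if for every `α` it contains a nonzero vector with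
all coordinates in `K_α`. -/
theorem result {k K : Type u} [Field k] [Field K] [Algebra k K] {ι : Type u} [Nonempty ι]
    (F : ι → IntermediateField k K) (hdir : ∀ a b : ι, ∃ c, F c ≤ F a ⊓ F b) (hinf : ⨅ a, F a = ⊥) (n : ℕ) (hn : 1 ≤ n)
    (V : Submodule K (Fin n → K)) :
    (∃ v ∈ V, v ≠ 0 ∧ ∀ i, v i ∈ Set.range (algebraMap k K)) ↔
      ∀ a, ∃ v ∈ V, v ≠ 0 ∧ ∀ i, v i ∈ F a := by
  classical
  constructor
  · rintro ⟨v, hv, hv0, hk⟩ a
    exact ⟨v, hv, hv0, fun i => by obtain ⟨c, hc⟩ := hk i; rw [← hc]; exact (F a).algebraMap_mem c⟩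
  · intro h
    let P : ι → ℕ → Prop := fun a m => ∃ v ∈ V, v ≠ 0 ∧ (∀ i, v i ∈ F a) ∧ (Finset.univ.filter fun i => v i ≠ 0).card = m
    have hP : ∀ a, ∃ m, P a m := fun a => by
      obtain ⟨v, hv, hv0, hva⟩ := h a
      exact ⟨_, v, hv, hv0, hva, rfl⟩
    have hmono : ∀ {a b : ι}, F a ≤ F b → Nat.find (hP b) ≤ Nat.find (hP a) := by
      intro a b hab
      obtain ⟨v, hv, hv0, hva, hc⟩ := Nat.find_spec (hP a)
      exact Nat.find_le ⟨v, hv, hv0, fun i => hab (hva i), hc⟩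
    have hle : ∀ a, Nat.find (hP a) ≤ n := by
      intro a
      obtain ⟨v, -, -, -, hc⟩ := Nat.find_spec (hP a)
      rw [← hc]
      exact (Finset.card_filter_le _ _).trans (by simp)
    obtain ⟨a₀, ha₀⟩ : ∃ a₀, ∀ a, Nat.find (hP a) ≤ Nat.find (hP a₀) := by
      have hne : (Set.range fun a => Nat.find (hP a)).Nonempty := Set.range_nonempty _
      have hbdd : BddAbove (Set.range fun a => Nat.find (hP a)) := ⟨n, by rintro _ ⟨a, rfl⟩; exact hle a⟩
      obtain ⟨a₀, h₀⟩ := Nat.sSup_mem hne hbdd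
      exact ⟨a₀, fun a => (le_csSup hbdd ⟨a, rfl⟩).trans h₀.ge⟩
    obtain ⟨S, hS⟩ : ∃ S : Finset (Fin n), ∀ a, ∃ c, F c ≤ F a ∧ F c ≤ F a₀ ∧ ∃ v ∈ V, v ≠ 0 ∧ (∀ i, v i ∈ F c) ∧ (Finset.univ.filter fun i => v i ≠ 0) = S ∧ S.card = Nat.find (hP a₀) := by
      by_contra hcon
      push Not at hcon
      choose bad hbad using hcon
      have hlow : ∀ T : Finset ι, ∃ c, F c ≤ F a₀ ∧ ∀ t ∈ T, F c ≤ F t := by
        intro T
        induction T using Finset.induction with
        | empty => exact ⟨a₀, le_rfl, by simp⟩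
        | insert t T ht ih =>
          obtain ⟨c, h1, h2⟩ := ih
          obtain ⟨c', hc'⟩ := hdir c t
          refine ⟨c', (hc'.trans inf_le_left).trans h1, fun u hu => ?_⟩
          rcases Finset.mem_insert.mp hu with rfl | hu
          · exact hc'.trans inf_le_right
          · exact (hc'.trans inf_le_left).trans (h2 u hu)
      obtain ⟨c, hc0, hc⟩ := hlow (Finset.univ.image bad)
      obtain ⟨v, hv, hv0, hva, hcard⟩ := Nat.find_spec (hP c)
      refine hbad _ c (hc _ (Finset.mem_image_of_mem _ (Finset.mem_univ _))) hc0 v hv hv0 hva rfl ?_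
      exact hcard.trans (le_antisymm (ha₀ c) (hmono hc0))
    obtain ⟨c₁, -, hc₁, v, hv, hv0, hva, hvS, hScard⟩ := hS a₀
    obtain ⟨i₀, hi₀⟩ : ∃ i, v i ≠ 0 := by
      by_contra hcon
      push Not at hcon
      exact hv0 (funext hcon)
    refine ⟨(v i₀)⁻¹ • v, V.smul_mem _ hv, smul_ne_zero (inv_ne_zero hi₀) hv0, fun i => ?_⟩
    rw [← IntermediateField.mem_bot, ← hinf, ← SetLike.mem_coe, IntermediateField.coe_iInf, Set.mem_iInter]
    intro a
    obtain ⟨c, hca, hc0, w, hw, hw0, hwc, hwS, -⟩ := hS a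
    have hwi : w i₀ ≠ 0 := by
      have : i₀ ∈ S := hvS ▸ Finset.mem_filter.mpr ⟨Finset.mem_univ _, hi₀⟩
      rw [← hwS] at this
      exact (Finset.mem_filter.mp this).2
    have heq : (v i₀)⁻¹ • v = (w i₀)⁻¹ • w := by
      by_contra hne
      have hd0 : (v i₀)⁻¹ • v - (w i₀)⁻¹ • w ≠ 0 := sub_ne_zero.mpr hne
      have hmem : ∀ i, ((v i₀)⁻¹ • v - (w i₀)⁻¹ • w) i ∈ F a₀ := fun i =>
        sub_mem (mul_mem (inv_mem (hc₁ (hva i₀))) (hc₁ (hva i))) (mul_mem (inv_mem (hc0 (hwc i₀))) (hc0 (hwc i)))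
      have h1 : Nat.find (hP a₀) ≤ _ := Nat.find_le ⟨_, V.sub_mem (V.smul_mem _ hv) (V.smul_mem _ hw), hd0, hmem, rfl⟩
      rw [← hScard] at h1
      refine absurd h1 (not_le.mpr (Finset.card_lt_card (Finset.ssubset_iff_of_subset ?_ |>.mpr ⟨i₀, ?_, ?_⟩)))
      · intro j hj
        by_contra hjS
        have e1 : v j = 0 := by
          by_contra e
          exact hjS (hvS ▸ Finset.mem_filter.mpr ⟨Finset.mem_univ _, e⟩)
        have e2 : w j = 0 := by
          by_contra e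
          exact hjS (hwS ▸ Finset.mem_filter.mpr ⟨Finset.mem_univ _, e⟩)
        simp [e1, e2] at hj
      · exact hvS ▸ Finset.mem_filter.mpr ⟨Finset.mem_univ _, hi₀⟩
      · simp [hi₀, hwi]
    rw [heq]
    exact mul_mem (inv_mem (hca (hwc i₀))) (hca (hwc i))

end Groth.Agent.S2134
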