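import Groth.Statements.S2136
-- import your own Groth.Agent.* helpers here
import Groth.Agent.UnibranchEtale.Ring

set_option autoImplicit false
universe u
open CAlg

namespace Groth.Agent.S2136

/-- Let `A` be a domain, `A → B` a ring map of finite type, and `𝔮` a prime of `B` lying over `𝔭 ⊆ A`,
with `A_𝔭` geometrically unibranch, `A → B` unramified at `𝔮` and `A_𝔭 → B_𝔮` injective. Then `B_g`
is étale over `A` for some `g ∉ 𝔮`. (`B` is assumed of finite type over `A` throughout; the
published statement needs this only after inverting an element outside `𝔮`.) -/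
theorem result {A B : Type u} [CommRing A] [IsDomain A] [CommRing B]
    [Algebra A B] (q : Ideal B) [q.IsPrime] (p : Ideal A) [p.IsPrime] [q.LiesOver p]
    (hA : CAlg2.IsGeomUnibranch (Localization.AtPrime p)) [Algebra.FiniteType A B] [Algebra.IsUnramifiedAt A q]
    (hinj : Function.Injective (Localization.localRingHom p q (algebraMap A B) (q.over_def p))) :
    ∃ g : B, g ∉ q ∧ Algebra.Etale A (Localization.Away g) := by
  haveI : IsDomain (Localization.AtPrime p) :=
    IsLocalization.isDomain_localization p.primeCompl_le_nonZeroDivisors
  obtain ⟨P, hP, hPq, hPA⟩ := UnibranchEtale.exists_prime_of_injective p q hinj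
  refine UnibranchEtale.exists_etale_of_domain p q hA ⟨P, hP, hPq, ?_⟩
  rw [hPA]
  exact (RingHom.injective_iff_ker_eq_bot _).1 (IsLocalization.injective _ p.primeCompl_le_nonZeroDivisors)

end Groth.Agent.S2136
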