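import Groth.Statements.S2138
import Mathlib.RingTheory.Flat.Basic
import Mathlib.RingTheory.Localization.AtPrime.Basic
import Mathlib.LinearAlgebra.DirectSum.Finsupp
import Mathlib.LinearAlgebra.FreeModule.Basic
import Mathlib.Algebra.Module.Torsion.Basic
import Mathlib.LinearAlgebra.Dimension.Free
import Mathlib.LinearAlgebra.Basis.VectorSpace

set_option autoImplicit false
universe u
open CAlg

namespace Groth.Agent.S2138

section
variable {R S : Type u} [CommRing R] [CommRing S] [Algebra R S]

theorem range_lTensor_subtype (P : Ideal R) {w : S} (hw : w ⊗ₜ[R] (1 : R) ∈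
    LinearMap.range (LinearMap.lTensor S P.subtype)) : w ∈ P.map (algebraMap R S) := by
  obtain ⟨z, hz⟩ := hw
  have : ∀ z : TensorProduct R S P, TensorProduct.rid R S (LinearMap.lTensor S P.subtype z) ∈
      P.map (algebraMap R S) := by
    intro z
    induction z using TensorProduct.induction_on with
    | zero => simp
    | tmul s r =>
      rw [LinearMap.lTensor_tmul, TensorProduct.rid_tmul, Algebra.smul_def]
      exact Ideal.mul_mem_right _ _ (Ideal.mem_map_of_mem _ r.2)
    | add x y hx hy => rw [map_add, map_add]; exact add_mem hx hy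
  simpa [hz] using this z

variable [Module.Flat R S]

theorem mem_of_tmul_eq_zero (P : Ideal R) {L : Type u} [AddCommGroup L] [Module R L] (ℓ : R →ₗ[R] L)
    (hℓ : LinearMap.ker ℓ ≤ P) {w : S} (hw : w ⊗ₜ[R] ℓ 1 = 0) : w ∈ P.map (algebraMap R S) := by
  have hex : Function.Exact ((LinearMap.ker ℓ).subtype) ℓ := LinearMap.exact_subtype_ker_map ℓ
  have h := (Module.Flat.lTensor_exact S hex (w ⊗ₜ[R] (1 : R))).1 (by simpa using hw)
  exact Ideal.map_mono hℓ (range_lTensor_subtype _ h)

variable (p : Ideal R) [p.IsPrime] {t : S} (ht : t ∉ p.map (algebraMap R S))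
  [(p.map (algebraMap R S)).IsPrime]

include ht in
theorem smul_eq_zero_residue (z : TensorProduct R S
      (Localization.AtPrime p ⧸ IsLocalRing.maximalIdeal (Localization.AtPrime p)))
    (hz : t • z = 0) : z = 0 := by
  let k := Localization.AtPrime p ⧸ IsLocalRing.maximalIdeal (Localization.AtPrime p)
  let ℓ : R →ₗ[R] k := Algebra.linearMap R k
  have hker : LinearMap.ker ℓ ≤ p := by
    intro r hr
    have h1 : Ideal.Quotient.mk _ (algebraMap R (Localization.AtPrime p) r) = 0 := hr
    rw [Ideal.Quotient.eq_zero_iff_mem] at h1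
    exact (IsLocalization.AtPrime.to_map_mem_maximal_iff (Localization.AtPrime p) p r).1 h1
  have hrep : ∀ z : TensorProduct R S k, ∃ (r : p.primeCompl) (w : S),
      (r : R) • z = w ⊗ₜ[R] ℓ 1 := by
    intro z
    induction z using TensorProduct.induction_on with
    | zero => exact ⟨1, 0, by simp⟩
    | tmul s c =>
      obtain ⟨c, rfl⟩ := Ideal.Quotient.mk_surjective c
      obtain ⟨⟨a, r⟩, har⟩ := IsLocalization.surj p.primeCompl c
      refine ⟨r, a • s, ?_⟩
      rw [TensorProduct.smul_tmul, ← TensorProduct.tmul_smul]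
      congr 1
      simp only [ℓ, Algebra.linearMap_apply, map_one, Algebra.smul_def, mul_one,
        IsScalarTower.algebraMap_apply R (Localization.AtPrime p) k, Ideal.Quotient.algebraMap_eq]
      change Ideal.Quotient.mk _ _ * Ideal.Quotient.mk _ c = Ideal.Quotient.mk _ _
      rw [← map_mul, mul_comm, har]
    | add x y hx hy =>
      obtain ⟨r, w, hx⟩ := hx
      obtain ⟨r', w', hy⟩ := hy
      refine ⟨r * r', (r' : R) • w + (r : R) • w', ?_⟩
      rw [TensorProduct.add_tmul, ← TensorProduct.smul_tmul', ← TensorProduct.smul_tmul', ← hx, ← hy,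
        smul_add, smul_smul, smul_smul, Submonoid.coe_mul, mul_comm (r' : R)]
  obtain ⟨r, w, hw⟩ := hrep z
  have h1 : (t * w) ⊗ₜ[R] ℓ 1 = 0 := by
    rw [← smul_eq_mul, ← TensorProduct.smul_tmul', ← hw, smul_comm, hz, smul_zero]
  have h2 := (‹(p.map (algebraMap R S)).IsPrime›.mem_or_mem
    (mem_of_tmul_eq_zero p ℓ hker h1)).resolve_left ht
  have h3 : ∀ w ∈ p.map (algebraMap R S), w ⊗ₜ[R] ℓ 1 = 0 := by
    intro w hw
    refine Submodule.span_induction ?_ (TensorProduct.zero_tmul _ _) (fun a b _ _ ha hb => by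
      rw [TensorProduct.add_tmul, ha, hb, add_zero]) (fun c a _ ha => by
      rw [← TensorProduct.smul_tmul', ha, smul_zero]) hw
    rintro _ ⟨a, ha, rfl⟩
    rw [Algebra.algebraMap_eq_smul_one, TensorProduct.smul_tmul, ← map_smul, smul_eq_mul, mul_one]
    have : ℓ a = 0 := Ideal.Quotient.eq_zero_iff_mem.2
      ((IsLocalization.AtPrime.to_map_mem_maximal_iff (Localization.AtPrime p) p a).2 ha)
    rw [this, TensorProduct.tmul_zero]
  rw [h3 w h2] at hw
  obtain ⟨i, hi⟩ : ∃ i : k, algebraMap R k r * i = 1 :=
    isUnit_iff_exists_inv.1 ((IsLocalization.map_units (Localization.AtPrime p) r).map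
      (Ideal.Quotient.mk (IsLocalRing.maximalIdeal (Localization.AtPrime p))))
  have hmul : ∀ y : TensorProduct R S k,
      LinearMap.lTensor S (LinearMap.mulLeft R i) ((r : R) • y) = y := by
    intro y
    induction y using TensorProduct.induction_on with
    | zero => simp
    | tmul s c =>
      rw [← TensorProduct.tmul_smul, LinearMap.lTensor_tmul, LinearMap.mulLeft_apply,
        Algebra.smul_def, ← mul_assoc, mul_comm i, hi, one_mul]
    | add x y hx hy => rw [smul_add, map_add, hx, hy]
  rw [← hmul z, hw, map_zero]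

include ht in
theorem smul_eq_zero_pow : ∀ (m : ℕ) (L : Type u) [AddCommGroup L] [Module R L]
    [Module (Localization.AtPrime p) L] [IsScalarTower R (Localization.AtPrime p) L],
    (∀ a ∈ IsLocalRing.maximalIdeal (Localization.AtPrime p) ^ m, ∀ x : L, a • x = 0) →
    ∀ z : TensorProduct R S L, t • z = 0 → z = 0 := by
  intro m
  induction m with
  | zero =>
    intro L _ _ _ _ hL z _
    have : Subsingleton L := ⟨fun x y => by
      rw [← one_smul (Localization.AtPrime p) x, ← one_smul (Localization.AtPrime p) y,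
        hL 1 (by simp) x, hL 1 (by simp) y]⟩
    exact Subsingleton.elim _ _
  | succ m ih =>
    intro L _ _ _ _ hL z hz
    let 𝔪 := IsLocalRing.maximalIdeal (Localization.AtPrime p)
    let W : Submodule (Localization.AtPrime p) L := 𝔪 • ⊤
    let i : W →ₗ[R] L := W.subtype.restrictScalars R
    let π : L →ₗ[R] L ⧸ W := W.mkQ.restrictScalars R
    have hex : Function.Exact i π := LinearMap.exact_subtype_mkQ W
    have hcomm : ∀ {X Y : Type u} [AddCommGroup X] [Module R X] [AddCommGroup Y] [Module R Y]
        (f : X →ₗ[R] Y) (y : TensorProduct R S X),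
        f.lTensor S (t • y) = t • f.lTensor S y := by
      intro X Y _ _ _ _ f y
      induction y using TensorProduct.induction_on with
      | zero => simp
      | tmul s c => simp [TensorProduct.smul_tmul']
      | add x y hx hy => rw [smul_add, map_add, map_add, smul_add, hx, hy]
    have htors : Module.IsTorsionBySet (Localization.AtPrime p) (L ⧸ W) 𝔪 := fun x a => by
      obtain ⟨x, rfl⟩ := W.mkQ_surjective x
      rw [← map_smul, Submodule.mkQ_apply, Submodule.Quotient.mk_eq_zero]
      exact Submodule.smul_mem_smul a.2 Submodule.mem_top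
    have h0 : π.lTensor S z = 0 := by
      letI : Field (Localization.AtPrime p ⧸ 𝔪) := Ideal.Quotient.field 𝔪
      letI : Module (Localization.AtPrime p ⧸ 𝔪) (L ⧸ W) := htors.module
      haveI : IsScalarTower R (Localization.AtPrime p ⧸ 𝔪) (L ⧸ W) := htors.isScalarTower
      let b := Module.Free.chooseBasis (Localization.AtPrime p ⧸ 𝔪) (L ⧸ W)
      let e : (L ⧸ W) ≃ₗ[R] (Module.Free.ChooseBasisIndex (Localization.AtPrime p ⧸ 𝔪) (L ⧸ W) →₀
          Localization.AtPrime p ⧸ 𝔪) := b.repr.restrictScalars R
      have h1 : ∀ y, t • y = 0 → e.toLinearMap.lTensor S y = 0 := by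
        intro y hy
        apply (TensorProduct.finsuppRight R S S (Localization.AtPrime p ⧸ 𝔪)
          (Module.Free.ChooseBasisIndex (Localization.AtPrime p ⧸ 𝔪) (L ⧸ W))).injective
        rw [map_zero]
        ext j
        apply smul_eq_zero_residue p ht
        rw [← Finsupp.smul_apply, ← map_smul, ← hcomm, hy, map_zero, map_zero, Finsupp.zero_apply]
      have h2 := h1 (π.lTensor S z) (by rw [← hcomm, hz, map_zero])
      have h3 := congrArg (e.symm.toLinearMap.lTensor S) h2
      rw [← LinearMap.lTensor_comp_apply, LinearEquiv.symm_comp, LinearMap.lTensor_id_apply,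
        map_zero] at h3
      exact h3
    obtain ⟨w, rfl⟩ := (Module.Flat.lTensor_exact S hex z).1 h0
    rw [← hcomm] at hz
    have hi := Module.Flat.lTensor_preserves_injective_linearMap (M := S) i Subtype.val_injective
    rw [ih W (fun a ha x => ?_) w (hi (hz.trans (map_zero _).symm)), map_zero]
    ext
    obtain ⟨x, hx⟩ := x
    change a • x = 0
    refine Submodule.smul_induction_on hx (fun b hb y _ => ?_) fun y y' hy hy' => by
      rw [smul_add, hy, hy', add_zero]
    rw [smul_smul]
    exact hL _ (pow_succ 𝔪 m ▸ Ideal.mul_mem_mul ha hb) y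
end

/-- Let `R → S` be flat and `𝔭` a prime of `R` whose extension `𝔮 = 𝔭S` is prime. Then for every `n` the
extension to `S` of the symbolic power `𝔭^{(n)}` (the contraction of `𝔭ⁿR_𝔭`) equals the symbolic
power `𝔮^{(n)}`. -/
theorem result {R S : Type u} [CommRing R] [CommRing S] [Algebra R S] [Module.Flat R S]
    (p : Ideal R) [p.IsPrime] [(p.map (algebraMap R S)).IsPrime] (n : ℕ) :
    (((p ^ n).map (algebraMap R (Localization.AtPrime p))).comap (algebraMap R (Localization.AtPrime p))).map
        (algebraMap R S) =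
      (((p.map (algebraMap R S)) ^ n).map (algebraMap S (Localization.AtPrime (p.map (algebraMap R S))))).comap
        (algebraMap S (Localization.AtPrime (p.map (algebraMap R S)))) := by
  set q := p.map (algebraMap R S) with hq
  let Rp := Localization.AtPrime p
  let L := Rp ⧸ (p ^ n).map (algebraMap R Rp)
  set P := ((p ^ n).map (algebraMap R Rp)).comap (algebraMap R Rp) with hP
  let ℓ : R →ₗ[R] L := Algebra.linearMap R L
  refine le_antisymm (Ideal.map_le_iff_le_comap.2 fun r hr => ?_) fun y hy => ?_
  · obtain ⟨⟨⟨a, ha⟩, s⟩, has⟩ :=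
      (IsLocalization.mem_map_algebraMap_iff p.primeCompl Rp).1 (Ideal.mem_comap.1 hr)
    rw [← map_mul] at has
    obtain ⟨c, hc⟩ := IsLocalization.exists_of_eq (M := p.primeCompl) has
    have hpk : algebraMap R S ((c : R) * s) ∉ q := by
      intro hmem
      have h1q : (1 : S) ∉ q := fun h1 => Ideal.IsPrime.ne_top' ((Ideal.eq_top_iff_one _).2 h1)
      have := smul_eq_zero_residue p (t := (1 : S)) h1q
      refine h1q (mem_of_tmul_eq_zero p
        (Algebra.linearMap R (Rp ⧸ IsLocalRing.maximalIdeal Rp)) ?_ ?_)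
      · intro r hr
        have h1 : Ideal.Quotient.mk _ (algebraMap R Rp r) = 0 := hr
        rw [Ideal.Quotient.eq_zero_iff_mem] at h1
        exact (IsLocalization.AtPrime.to_map_mem_maximal_iff Rp p r).1 h1
      · obtain ⟨i, hi⟩ : ∃ i : Rp ⧸ IsLocalRing.maximalIdeal Rp,
            algebraMap R _ ((c : R) * s) * i = 1 :=
          isUnit_iff_exists_inv.1 ((IsLocalization.map_units Rp (c * s)).map
            (Ideal.Quotient.mk (IsLocalRing.maximalIdeal Rp)))
        have h2 : ∀ w ∈ q, w ⊗ₜ[R] (1 : Rp ⧸ IsLocalRing.maximalIdeal Rp) = 0 := by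
          intro w hw
          refine Submodule.span_induction ?_ (TensorProduct.zero_tmul _ _) (fun a b _ _ ha hb => by
            rw [TensorProduct.add_tmul, ha, hb, add_zero]) (fun c a _ ha => by
            rw [← TensorProduct.smul_tmul', ha, smul_zero]) hw
          rintro _ ⟨a, ha, rfl⟩
          rw [Algebra.algebraMap_eq_smul_one, TensorProduct.smul_tmul, Algebra.smul_def, mul_one,
            show algebraMap R (Rp ⧸ IsLocalRing.maximalIdeal Rp) a = 0 from
              Ideal.Quotient.eq_zero_iff_mem.2
                ((IsLocalization.AtPrime.to_map_mem_maximal_iff Rp p a).2 ha), TensorProduct.tmul_zero]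
        have h3 := congrArg (LinearMap.lTensor S (LinearMap.mulLeft R i)) (h2 _ hmem)
        rw [LinearMap.lTensor_tmul, map_zero, Algebra.algebraMap_eq_smul_one,
          TensorProduct.smul_tmul, LinearMap.mulLeft_apply, mul_one, Algebra.smul_def, hi] at h3
        simpa using h3
    rw [Ideal.mem_comap]
    refine (IsLocalization.algebraMap_mem_map_algebraMap_iff q.primeCompl _ _ _).2 ⟨_, hpk, ?_⟩
    have h4 : (c : R) * s * r ∈ p ^ n := by
      rw [mul_assoc, mul_comm (s : R), hc]
      exact Ideal.mul_mem_left _ _ ha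
    have h5 := Ideal.mem_map_of_mem (algebraMap R S) h4
    rw [Ideal.map_pow, map_mul] at h5
    exact h5
  · obtain ⟨t, ht, hty⟩ :=
      (IsLocalization.algebraMap_mem_map_algebraMap_iff q.primeCompl _ _ _).1 (Ideal.mem_comap.1 hy)
    have hker : LinearMap.ker ℓ ≤ P := fun r hr => by
      have h1 : Ideal.Quotient.mk _ (algebraMap R Rp r) = 0 := hr
      exact Ideal.mem_comap.2 (Ideal.Quotient.eq_zero_iff_mem.1 h1)
    have h1 : (t * y) ⊗ₜ[R] ℓ 1 = 0 := by
      rw [← Ideal.map_pow] at hty
      refine Submodule.span_induction ?_ (TensorProduct.zero_tmul _ _) (fun a b _ _ ha hb => by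
        rw [TensorProduct.add_tmul, ha, hb, add_zero]) (fun c a _ ha => by
        rw [← TensorProduct.smul_tmul', ha, smul_zero]) hty
      rintro _ ⟨a, ha, rfl⟩
      rw [Algebra.algebraMap_eq_smul_one, TensorProduct.smul_tmul, ← map_smul, smul_eq_mul, mul_one,
        show ℓ a = 0 from Ideal.Quotient.eq_zero_iff_mem.2 (Ideal.mem_map_of_mem _ ha),
        TensorProduct.tmul_zero]
    have hL : ∀ a ∈ IsLocalRing.maximalIdeal Rp ^ n, ∀ x : L, a • x = 0 := by
      intro a ha x
      obtain ⟨x, rfl⟩ := Ideal.Quotient.mk_surjective x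
      refine Ideal.Quotient.eq_zero_iff_mem.2 ?_
      rw [Ideal.map_pow, IsLocalization.AtPrime.map_eq_maximalIdeal p Rp]
      exact Ideal.mul_mem_right _ _ ha
    have h2 : y ⊗ₜ[R] ℓ 1 = 0 := smul_eq_zero_pow p ht n L hL _ (by
      rw [TensorProduct.smul_tmul', smul_eq_mul, h1])
    exact mem_of_tmul_eq_zero P ℓ hker h2

end Groth.Agent.S2138
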