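import Groth.Statements.S6278
import Mathlib
import Groth.Agent.NormalBC.DirLimit
import Groth.Agent.NormalBC.Apps
-- import your own Groth.Agent.* helpers here

set_option autoImplicit false
universe u
open CAlg

namespace Groth.Agent.S6278

/-- A normal ring R (all localizations at primes are integrally closed domains) is integrally closed in
its total ring of fractions. -/
theorem result (R : Type u) [CommRing R] (hR : EGA4.IsNormalRing R) : IsIntegrallyClosedIn R (FractionRing R) := by
  refine isIntegrallyClosedIn_iff.2 ⟨IsFractionRing.injective R (FractionRing R), fun {x} hx => ?_⟩
  obtain ⟨y, hy⟩ := NormalBC.mem_range_of_isIntegral_localization (T' := FractionRing R) (nonZeroDivisors R) le_rfl hR x hx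
  exact ⟨y, hy⟩

end Groth.Agent.S6278
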