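import Groth.Statements.S2140
import Groth.Agent.GenFree.Main

set_option autoImplicit false
universe u
open CAlg Groth.Agent

open scoped TensorProduct

namespace Groth.Agent.S2140

/-- Let `R → S` be an injective ring map of finite type between domains. Then there are nonzero `f ∈ R`
and `g ∈ S` such that `S_{fg}` is a finitely presented `R_f`-algebra. -/
theorem result {R S : Type u} [CommRing R] [IsDomain R] [CommRing S] [IsDomain S]
    [Algebra R S] [Algebra.FiniteType R S] (hinj : Function.Injective (algebraMap R S)) :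
    ∃ (f : R) (g : S), f ≠ 0 ∧ g ≠ 0 ∧
      ∀ (Rf Sfg : Type u) [CommRing Rf] [CommRing Sfg] [Algebra R Rf] [IsLocalization.Away f Rf]
        [Algebra S Sfg] [IsLocalization.Away (algebraMap R S f * g) Sfg] [Algebra Rf Sfg] [Algebra R Sfg]
        [IsScalarTower R S Sfg] [IsScalarTower R Rf Sfg], Algebra.FinitePresentation Rf Sfg := by
  obtain ⟨f, hf, -, -, hfp, -⟩ := GenFree.generic_freeness (R := R) (S := S) (M := S)
  refine ⟨f, 1, hf, one_ne_zero, ?_⟩
  intro Rf Sfg _ _ _ _ _ _ _ _ _ _
  letI : Algebra (Localization.Away f) Rf :=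
    (IsLocalization.Away.lift f (g := algebraMap R Rf) (IsLocalization.Away.algebraMap_isUnit f)).toAlgebra
  haveI : IsScalarTower R (Localization.Away f) Rf := IsScalarTower.of_algebraMap_eq fun r =>
    (IsLocalization.Away.lift_eq f (IsLocalization.Away.algebraMap_isUnit f) r).symm
  haveI := hfp
  haveI : Algebra.FinitePresentation Rf (Rf ⊗[R] S) :=
    Algebra.FinitePresentation.equiv (Algebra.TensorProduct.cancelBaseChange R (Localization.Away f) Rf Rf S)
  haveI : IsLocalization.Away (algebraMap R S f) Sfg := by
    rwa [mul_one] at *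
  haveI : IsLocalization (Algebra.algebraMapSubmonoid S (Submonoid.powers f)) Sfg := by
    rw [Algebra.algebraMapSubmonoid_powers]; infer_instance
  haveI : Algebra.IsPushout R S Rf Sfg := Algebra.isPushout_of_isLocalization (Submonoid.powers f) Rf S Sfg
  haveI : Algebra.IsPushout R Rf S Sfg := Algebra.IsPushout.symm inferInstance
  exact Algebra.FinitePresentation.equiv (R := Rf) (A := Rf ⊗[R] S) (B := Sfg) (Algebra.IsPushout.equiv R Rf S Sfg)

end Groth.Agent.S2140
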