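import Groth.Statements.S2143
import Groth.Agent.CMChart.AffineField
import Groth.Agent.TopDim.Basic

set_option autoImplicit false
universe u
open CAlg

namespace Groth.Agent.S2143

/-- (1) = (3): let `S` be of finite type over a field `k` and `𝔭` a prime of `S`. The local dimension of
`Spec S` at `𝔭` is the infimum of `dim S_𝔪` over the maximal ideals `𝔪 ⊇ 𝔭`. -/
theorem result {k S : Type u} [Field k] [CommRing S] [Algebra k S] [Algebra.FiniteType k S]
    (p : Ideal S) [p.IsPrime] :
    FlatMor.localDim (PrimeSpectrum S) ⟨p, inferInstance⟩ =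
      ⨅ m : {m : Ideal S // m.IsMaximal ∧ p ≤ m}, ringKrullDim (Localization.AtPrime (hp := m.2.1.isPrime') m.1) := by
  let x : PrimeSpectrum S := ⟨p, inferInstance⟩
  have hmax : ∀ (m : Ideal S) (hm : m.IsMaximal), FlatMor.localDim (PrimeSpectrum S) ⟨m, hm.isPrime'⟩ =
      ringKrullDim (Localization.AtPrime (hp := hm.isPrime') m) := fun m hm => by
    haveI := hm
    obtain ⟨b, δ, hb, hD, hδ⟩ := CMChart.localDim_primeSpectrum (k := k) (⟨m, hm.isPrime'⟩ : PrimeSpectrum S)
    haveI : Algebra.FiniteType k m.ResidueField :=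
      Algebra.FiniteType.of_surjective (IsScalarTower.toAlgHom k S m.ResidueField)
        (Ideal.algebraMap_residueField_surjective m)
    haveI : Module.Finite k m.ResidueField := finite_of_finite_type_of_isJacobsonRing _ _
    haveI : Algebra.IsAlgebraic k m.ResidueField := Algebra.IsAlgebraic.of_finite k _
    obtain rfl : δ = 0 := by
      have h0 : Algebra.trdeg k m.ResidueField = 0 := trdeg_eq_zero
      exact_mod_cast hδ.symm.trans h0
    rw [hD, add_zero, ← hb]
  haveI : IsJacobsonRing S := isJacobsonRing_of_finiteType (A := k)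
  refine le_antisymm (le_iInf fun m => ?_) ?_
  · rw [← hmax m.1 m.2.1]
    exact le_iInf fun U => iInf_le_of_le ⟨U.1, (PrimeSpectrum.le_iff_specializes x ⟨m.1, m.2.1.isPrime'⟩).mp m.2.2 |>.mem_open U.1.2 U.2⟩ le_rfl
  · obtain ⟨U, hU, hUd⟩ := TopDim.exists_nhd_eq_localDim x
    obtain ⟨y, ⟨hyU, hy⟩, hyc⟩ := nonempty_inter_closedPoints (Z := (U : Set (PrimeSpectrum S)) ∩ closure {x})
      ⟨x, hU, subset_closure rfl⟩ (U.2.isLocallyClosed.inter isClosed_closure.isLocallyClosed)
    have hym : y.asIdeal.IsMaximal := (PrimeSpectrum.isClosed_singleton_iff_isMaximal y).mp hyc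
    refine iInf_le_of_le ⟨y.asIdeal, hym, (PrimeSpectrum.le_iff_specializes x y).mpr (specializes_iff_mem_closure.mpr hy)⟩ ?_
    rw [← hmax _ hym, ← hUd]
    exact iInf_le _ (⟨U, hyU⟩ : {U : TopologicalSpace.Opens (PrimeSpectrum S) // y ∈ U})

end Groth.Agent.S2143
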