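import Groth.Statements.S2145


set_option autoImplicit false
universe u
open CAlg

namespace Groth.Agent.S2145

theorem lah {A R S P : Type u} [CommRing A] [CommRing R] [CommRing S] [CommRing P] [Algebra A R]
    [Algebra A S] [Algebra A P] [Algebra R S] [IsScalarTower A R S] (x : R) [IsLocalization.Away x S]
    (f : R →ₐ[A] P) (hf : IsUnit (f x)) (r : R) :
    (IsLocalization.Away.liftAlgHom x hf : S →ₐ[A] P) (algebraMap R S r) = f r := by
  rw [IsLocalization.Away.coe_liftAlgHom]
  exact IsLocalization.Away.lift_eq x _ r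

section
variable {R : Type u} [CommRing R] {S C : Type u} [CommRing S] [CommRing C] [Algebra R S] [Algebra R C]

theorem isUnit_of_dvd {a b : C} (h : a ∣ b) : IsUnit (algebraMap C (Localization.Away b) a) :=
  isUnit_of_dvd_unit (map_dvd _ h) (IsLocalization.Away.algebraMap_isUnit b)

/-- The transition map `C_a → C_b` for `a ∣ b`. -/
noncomputable def res {a b : C} (h : a ∣ b) : Localization.Away a →ₐ[R] Localization.Away b :=
  IsLocalization.Away.liftAlgHom (A := R) (R := C) (S := Localization.Away a) (P := Localization.Away b)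
    (f := IsScalarTower.toAlgHom R C (Localization.Away b)) a
    (isUnit_of_dvd h)

theorem res_algebraMap {a b : C} (h : a ∣ b) (x : C) :
    res (R := R) h (algebraMap C _ x) = algebraMap C _ x :=
  lah a _ _ x

/-- Every element of a localisation is a numerator up to units. -/
theorem exists_num {a : C} (x : Localization.Away a) :
    ∃ c : C, Associated (algebraMap C (Localization.Away a) c) x := by
  obtain ⟨n, c, hc⟩ := IsLocalization.Away.surj a x
  exact ⟨c, by rw [← hc]; exact (associated_mul_unit_left _ _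
    ((IsLocalization.Away.algebraMap_isUnit a).pow n))⟩

variable (q : Ideal C) [q.IsPrime]

/-- The map to the local ring. -/
noncomputable def loc {a : C} (ha : a ∉ q) : Localization.Away a →ₐ[R] Localization.AtPrime q :=
  IsLocalization.Away.liftAlgHom (A := R) (R := C) (S := Localization.Away a)
    (P := Localization.AtPrime q) (f := IsScalarTower.toAlgHom R C (Localization.AtPrime q)) a
    (IsLocalization.map_units (M := q.primeCompl) _ ⟨a, ha⟩)

theorem loc_algebraMap {a : C} (ha : a ∉ q) (x : C) :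
    loc (R := R) q ha (algebraMap C _ x) = algebraMap C _ x :=
  lah a _ _ x

theorem loc_res {a b : C} (ha : a ∉ q) (hb : b ∉ q) (h : a ∣ b) (x : Localization.Away a) :
    loc (R := R) q hb (res (R := R) h x) = loc (R := R) q ha x := by
  have : ((loc (R := R) q hb).comp (res (R := R) h)).toRingHom = (loc (R := R) q ha).toRingHom :=
    IsLocalization.ringHom_ext (Submonoid.powers a) (RingHom.ext fun c => by
      simp [res_algebraMap, loc_algebraMap])
  exact RingHom.congr_fun this x

theorem res_res {a b c : C} (h : a ∣ b) (h' : b ∣ c) (x : Localization.Away a) :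
    res (R := R) h' (res (R := R) h x) = res (R := R) (h.trans h') x := by
  have : ((res (R := R) h').comp (res (R := R) h)).toRingHom = (res (R := R) (h.trans h')).toRingHom :=
    IsLocalization.ringHom_ext (Submonoid.powers a) (RingHom.ext fun y => by
      simp [res_algebraMap])
  exact RingHom.congr_fun this x

/-- Equality in the local ring is equality after shrinking. -/
theorem exists_res_eq_zero {a : C} (ha : a ∉ q) {x : Localization.Away a}
    (hx : loc (R := R) q ha x = 0) :
    ∃ c ∉ q, res (R := R) (dvd_mul_right a c) x = 0 := by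
  obtain ⟨n, y, hy⟩ := IsLocalization.Away.surj a x
  have h0 : algebraMap C (Localization.AtPrime q) y = 0 := by
    rw [← loc_algebraMap (R := R) q ha, ← hy, map_mul, hx, zero_mul]
  obtain ⟨c, hc⟩ := (IsLocalization.map_eq_zero_iff q.primeCompl _ _).1 h0
  refine ⟨c, c.2, ?_⟩
  have h1 := congrArg (res (R := R) (dvd_mul_right a (c : C))) hy
  rw [map_mul, map_pow, res_algebraMap, res_algebraMap] at h1
  have hcy : algebraMap C (Localization.Away (a * c)) y = 0 := by
    have := congrArg (algebraMap C (Localization.Away (a * c))) hc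
    rw [map_mul, map_zero] at this
    exact (isUnit_of_dvd (dvd_mul_left (c : C) a)).mul_right_eq_zero.1 this
  rw [hcy] at h1
  exact ((isUnit_of_dvd (dvd_mul_right a (c : C))).pow n).mul_left_eq_zero.1 h1

/-- finitely many equations -/
theorem exists_res_eq_zero_finset {a : C} (ha : a ∉ q) (s : Finset (Localization.Away a))
    (hs : ∀ x ∈ s, loc (R := R) q ha x = 0) :
    ∃ b ∉ q, ∃ h : a ∣ b, ∀ x ∈ s, res (R := R) h x = 0 := by
  classical
  choose c hcq hc using fun x : s => exists_res_eq_zero (R := R) q ha (hs x.1 x.2)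
  refine ⟨a * ∏ x, c x, q.primeCompl.mul_mem ha (q.primeCompl.prod_mem fun x _ => hcq x),
    dvd_mul_right _ _, fun x hx => ?_⟩
  have hd : a * c ⟨x, hx⟩ ∣ a * ∏ x, c x :=
    mul_dvd_mul_left a (Finset.dvd_prod_of_mem _ (Finset.mem_univ _))
  have := congrArg (res (R := R) hd) (hc ⟨x, hx⟩)
  rwa [map_zero, res_res] at this

/-- Two homomorphisms from a finite type algebra agreeing at `q` agree near `q`. -/
theorem exists_res_comp_eq [Algebra.FiniteType R S] {a : C} (ha : a ∉ q)
    (φ ψ : S →ₐ[R] Localization.Away a) (h : ∀ s, loc (R := R) q ha (φ s) = loc (R := R) q ha (ψ s)) :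
    ∃ b ∉ q, ∃ hd : a ∣ b, (res (R := R) hd).comp φ = (res (R := R) hd).comp ψ := by
  classical
  obtain ⟨t, ht⟩ := Algebra.FiniteType.out (R := R) (A := S)
  obtain ⟨b, hb, hd, hbz⟩ := exists_res_eq_zero_finset (R := R) q ha (t.image fun s => φ s - ψ s)
    (fun x hx => by obtain ⟨s, -, rfl⟩ := Finset.mem_image.1 hx; rw [map_sub, h, sub_self])
  refine ⟨b, hb, hd, AlgHom.ext_of_adjoin_eq_top ht fun s hs => sub_eq_zero.1 ?_⟩
  simpa using hbz _ (Finset.mem_image_of_mem (fun s => φ s - ψ s) hs)

/-- Homomorphisms from a finitely presented algebra to the local ring spread out. -/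
theorem exists_lift [Algebra.FinitePresentation R S] (φ : S →ₐ[R] Localization.AtPrime q) :
    ∃ (a : C) (ha : a ∉ q) (ψ : S →ₐ[R] Localization.Away a), ∀ s, loc (R := R) q ha (ψ s) = φ s := by
  classical
  obtain ⟨n, f, hf, hker⟩ := Algebra.FinitePresentation.out (R := R) (A := S)
  obtain ⟨t, ht⟩ := hker
  choose c d hcd using fun i : Fin n =>
    IsLocalization.exists_mk'_eq q.primeCompl (φ (f (MvPolynomial.X i)))
  let a := ∏ i, (d i : C)
  have ha : a ∉ q := q.primeCompl.prod_mem fun i _ => (d i).2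
  have hu : ∀ i, IsUnit (algebraMap C (Localization.Away a) (d i)) := fun i =>
    isUnit_of_dvd (Finset.dvd_prod_of_mem _ (Finset.mem_univ i))
  let g : MvPolynomial (Fin n) R →ₐ[R] Localization.Away a :=
    MvPolynomial.aeval fun i => algebraMap C _ (c i) * ↑(hu i).unit⁻¹
  have hg : (loc (R := R) q ha).comp g = φ.comp f := by
    refine MvPolynomial.algHom_ext fun i => ?_
    simp only [AlgHom.comp_apply, g, MvPolynomial.aeval_X]
    rw [← hcd i, eq_comm, IsLocalization.mk'_eq_iff_eq_mul,
      ← loc_algebraMap (R := R) q ha (d i), ← loc_algebraMap (R := R) q ha (c i), ← map_mul,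
      mul_assoc, IsUnit.val_inv_mul, mul_one]
  obtain ⟨b, hb, hd, hbz⟩ := exists_res_eq_zero_finset (R := R) q ha (t.image g) (fun x hx => by
    obtain ⟨p, hp, rfl⟩ := Finset.mem_image.1 hx
    have hp0 : f p = 0 := ht.le (Submodule.subset_span hp)
    have := DFunLike.congr_fun hg p
    simp only [AlgHom.comp_apply, hp0, map_zero] at this
    exact this)
  have hle : ∀ p, f p = 0 → res (R := R) hd (g p) = 0 := by
    intro p hp
    have hp' : p ∈ RingHom.ker f.toRingHom := hp
    rw [← ht] at hp'
    have : Ideal.span (t : Set (MvPolynomial (Fin n) R)) ≤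
        RingHom.ker ((res (R := R) hd).comp g) :=
      Ideal.span_le.2 fun x hx => hbz _ (Finset.mem_image_of_mem g hx)
    exact this hp'
  let ψ := AlgHom.liftOfSurjective f hf ((res (R := R) hd).comp g) hle
  refine ⟨b, hb, ψ, fun s => ?_⟩
  obtain ⟨p, rfl⟩ := hf s
  have : ψ (f p) = res (R := R) hd (g p) :=
    AlgHom.liftOfSurjective_apply f hf ((res (R := R) hd).comp g) hle p
  rw [this, loc_res (R := R) q ha hb hd]
  exact DFunLike.congr_fun hg p

end


/-- Let `S`, `S'` be finitely presented `R`-algebras and `𝔮 ⊆ S`, `𝔮' ⊆ S'` primes with `S_𝔮 ≅ S'_{𝔮'}`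
as `R`-algebras. Then `S_g ≅ S'_{g'}` as `R`-algebras for some `g ∉ 𝔮`, `g' ∉ 𝔮'`. -/
theorem result {R S S' : Type u} [CommRing R] [CommRing S] [CommRing S'] [Algebra R S]
    [Algebra R S'] [Algebra.FinitePresentation R S] [Algebra.FinitePresentation R S'] (q : Ideal S) [q.IsPrime]
    (q' : Ideal S') [q'.IsPrime] (e : Localization.AtPrime q ≃ₐ[R] Localization.AtPrime q') :
    ∃ (g : S) (g' : S'), g ∉ q ∧ g' ∉ q' ∧ Nonempty (Localization.Away g ≃ₐ[R] Localization.Away g') := by
  classical
  obtain ⟨g₀, hg₀, α₀, hα₀⟩ := exists_lift q'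
    ((e : Localization.AtPrime q →ₐ[R] Localization.AtPrime q').comp
      (IsScalarTower.toAlgHom R S (Localization.AtPrime q)))
  obtain ⟨h₀, hh₀, β₀, hβ₀⟩ := exists_lift q
    ((e.symm : Localization.AtPrime q' →ₐ[R] Localization.AtPrime q).comp
      (IsScalarTower.toAlgHom R S' (Localization.AtPrime q')))
  -- extend `α₀` to `S_{h₀} → S'_g`
  obtain ⟨u, hu⟩ := exists_num (α₀ h₀)
  have hu' : u ∉ q' := by
    have h1 : IsUnit (loc (R := R) q' hg₀ (α₀ h₀)) := by
      rw [hα₀]
      exact (IsLocalization.map_units (M := q.primeCompl) (Localization.AtPrime q) ⟨h₀, hh₀⟩).map e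
    have h2 := (hu.map (loc (R := R) q' hg₀)).isUnit_iff.2 h1
    rw [loc_algebraMap] at h2
    exact (IsLocalization.AtPrime.isUnit_to_map_iff _ q' u).1 h2
  have hg₁ : g₀ * u ∉ q' := q'.primeCompl.mul_mem hg₀ hu'
  let α₁ := (res (R := R) (dvd_mul_right g₀ u)).comp α₀
  have hα₁ : IsUnit (α₁ h₀) := by
    refine ((hu.map (res (R := R) (dvd_mul_right g₀ u))).isUnit_iff).1 ?_
    rw [res_algebraMap]
    exact isUnit_of_dvd (dvd_mul_left u g₀)
  let A₁ : Localization.Away h₀ →ₐ[R] Localization.Away (g₀ * u) :=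
    IsLocalization.Away.liftAlgHom (f := α₁) h₀ hα₁
  have hA₁ : ∀ s, A₁ (algebraMap S _ s) = α₁ s := fun s =>
    lah h₀ _ hα₁ s
  have hAloc : ∀ x, loc (R := R) q' hg₁ (A₁ x) = e (loc (R := R) q hh₀ x) := by
    intro x
    have : ((loc (R := R) q' hg₁).comp A₁).toRingHom =
        ((e : Localization.AtPrime q →ₐ[R] _).comp (loc (R := R) q hh₀)).toRingHom :=
      IsLocalization.ringHom_ext (Submonoid.powers h₀) (RingHom.ext fun s => by
        simp [hA₁, α₁, loc_res (R := R) q' hg₀ hg₁, hα₀, loc_algebraMap])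
    exact RingHom.congr_fun this x
  obtain ⟨g, hg, hd₁, heq₁⟩ := exists_res_comp_eq q' hg₁ (A₁.comp β₀)
    (IsScalarTower.toAlgHom R S' _) (fun s => by
      simp [hAloc, hβ₀, loc_algebraMap])
  let A := (res (R := R) hd₁).comp A₁
  have hAβ : ∀ s, A (β₀ s) = algebraMap S' _ s := fun s => by
    have := DFunLike.congr_fun heq₁ s
    simpa [A, res_algebraMap] using this
  have hAloc' : ∀ x, loc (R := R) q' hg (A x) = e (loc (R := R) q hh₀ x) := fun x => by
    simp [A, loc_res (R := R) q' hg₁ hg, hAloc]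
  -- extend `β₀` to `S'_g → S_{h}` and fix the other composite
  obtain ⟨v, hv⟩ := exists_num (β₀ g)
  have hv' : v ∉ q := by
    have h1 : IsUnit (loc (R := R) q hh₀ (β₀ g)) := by
      rw [hβ₀]
      exact (IsLocalization.map_units (M := q'.primeCompl) (Localization.AtPrime q') ⟨g, hg⟩).map e.symm
    have h2 := (hv.map (loc (R := R) q hh₀)).isUnit_iff.2 h1
    rw [loc_algebraMap] at h2
    exact (IsLocalization.AtPrime.isUnit_to_map_iff _ q v).1 h2
  have hh₁ : h₀ * v ∉ q := q.primeCompl.mul_mem hh₀ hv'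
  let β₁ := (res (R := R) (dvd_mul_right h₀ v)).comp β₀
  have hβ₁ : IsUnit (β₁ g) := by
    refine ((hv.map (res (R := R) (dvd_mul_right h₀ v))).isUnit_iff).1 ?_
    rw [res_algebraMap]
    exact isUnit_of_dvd (dvd_mul_left v h₀)
  let B₁ : Localization.Away g →ₐ[R] Localization.Away (h₀ * v) :=
    IsLocalization.Away.liftAlgHom (f := β₁) g hβ₁
  have hB₁ : ∀ s, B₁ (algebraMap S' _ s) = β₁ s := fun s =>
    lah g _ hβ₁ s
  have hBloc : ∀ x, loc (R := R) q hh₁ (B₁ x) = e.symm (loc (R := R) q' hg x) := by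
    intro x
    have : ((loc (R := R) q hh₁).comp B₁).toRingHom =
        ((e.symm : Localization.AtPrime q' →ₐ[R] _).comp (loc (R := R) q' hg)).toRingHom :=
      IsLocalization.ringHom_ext (Submonoid.powers g) (RingHom.ext fun s => by
        simp [hB₁, β₁, loc_res (R := R) q hh₀ hh₁, hβ₀, loc_algebraMap])
    exact RingHom.congr_fun this x
  obtain ⟨h, hh, hd₂, heq₂⟩ := exists_res_comp_eq q hh₁
    (B₁.comp (A.comp (IsScalarTower.toAlgHom R S _)))
    (IsScalarTower.toAlgHom R S _) (fun s => by
      simp [hBloc, hAloc', loc_algebraMap])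
  let B := (res (R := R) hd₂).comp B₁
  have hdh : h₀ ∣ h := (dvd_mul_right h₀ v).trans hd₂
  have hBA : ∀ s, B (A (algebraMap S _ s)) = algebraMap S _ s := fun s => by
    have := DFunLike.congr_fun heq₂ s
    simpa [B, res_algebraMap] using this
  have hBg : ∀ s, B (algebraMap S' _ s) = res (R := R) hdh (β₀ s) := fun s => by
    simp [B, hB₁, β₁, res_res]
  -- shrink `g` so that `h` becomes invertible
  obtain ⟨w, hw⟩ := exists_num (A (algebraMap S _ h))
  have hw' : w ∉ q' := by
    have h1 : IsUnit (loc (R := R) q' hg (A (algebraMap S _ h))) := by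
      rw [hAloc', loc_algebraMap]
      exact (IsLocalization.map_units (M := q.primeCompl) (Localization.AtPrime q) ⟨h, hh⟩).map e
    have h2 := (hw.map (loc (R := R) q' hg)).isUnit_iff.2 h1
    rw [loc_algebraMap] at h2
    exact (IsLocalization.AtPrime.isUnit_to_map_iff _ q' w).1 h2
  refine ⟨h, g * w, hh, q'.primeCompl.mul_mem hg hw', ?_⟩
  have hdg : g ∣ g * w := dvd_mul_right g w
  let A₂ := (res (R := R) hdg).comp (A.comp (IsScalarTower.toAlgHom R S (Localization.Away h₀)))
  have hA₂ : IsUnit (A₂ h) := by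
    refine ((hw.map (res (R := R) hdg)).isUnit_iff).1 ?_
    rw [res_algebraMap]
    exact isUnit_of_dvd (dvd_mul_left w g)
  let Φ : Localization.Away h →ₐ[R] Localization.Away (g * w) :=
    IsLocalization.Away.liftAlgHom (f := A₂) h hA₂
  have hΦ : ∀ s, Φ (algebraMap S _ s) = A₂ s := fun s =>
    lah h _ hA₂ s
  have hΦr : ∀ x, Φ (res (R := R) hdh x) = res (R := R) hdg (A x) := fun x => by
    have : (Φ.comp (res (R := R) hdh)).toRingHom = ((res (R := R) hdg).comp A).toRingHom :=
      IsLocalization.ringHom_ext (Submonoid.powers h₀) (RingHom.ext fun s => by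
        simp [hΦ, A₂, res_algebraMap])
    exact RingHom.congr_fun this x
  let B₂ := B.comp (IsScalarTower.toAlgHom R S' (Localization.Away g))
  have hBw : IsUnit (B₂ (g * w)) := by
    have hh' : IsUnit (B (A (algebraMap S _ h))) := by
      rw [hBA]; exact IsLocalization.Away.algebraMap_isUnit h
    have h2 := (hw.map B).isUnit_iff.2 hh'
    simp only [B₂, AlgHom.comp_apply, IsScalarTower.coe_toAlgHom', map_mul]
    exact ((IsLocalization.Away.algebraMap_isUnit g).map B).mul h2
  let Ψ : Localization.Away (g * w) →ₐ[R] Localization.Away h :=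
    IsLocalization.Away.liftAlgHom (f := B₂) (g * w) hBw
  have hΨ : ∀ s, Ψ (algebraMap S' _ s) = B₂ s := fun s =>
    lah (g * w) _ hBw s
  have hΨr : ∀ x, Ψ (res (R := R) hdg x) = B x := fun x => by
    have : (Ψ.comp (res (R := R) hdg)).toRingHom = B.toRingHom :=
      IsLocalization.ringHom_ext (Submonoid.powers g) (RingHom.ext fun s => by
        simp [hΨ, B₂, res_algebraMap])
    exact RingHom.congr_fun this x
  refine ⟨AlgEquiv.ofAlgHom Φ Ψ ?_ ?_⟩
  · refine AlgHom.coe_ringHom_injective ?_
    refine IsLocalization.ringHom_ext (Submonoid.powers (g * w)) (RingHom.ext fun s => ?_)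
    simp [hΨ, B₂, hBg, hΦr, hAβ, res_algebraMap]
  · refine AlgHom.coe_ringHom_injective ?_
    refine IsLocalization.ringHom_ext (Submonoid.powers h) (RingHom.ext fun s => ?_)
    simp [hΦ, A₂, hΨr, hBA]

end Groth.Agent.S2145
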