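import Groth.Statements.S2146
import Mathlib.RingTheory.FinitePresentation
import Mathlib.RingTheory.Localization.AtPrime.Basic
import Mathlib.RingTheory.Localization.Away.Basic
import Mathlib.Tactic.LinearCombination
import Mathlib.RingTheory.Ideal.Over

set_option autoImplicit false
universe u
open CAlg

namespace Groth.Agent.S2146

/-- Let `S` be a finitely presented `R`-algebra and `𝔮` a prime of `S` over `𝔭` such that the induced
map `R_𝔭 → S_𝔮` is bijective. Then for some `f ∉ 𝔭` there is an `R_f`-algebra `C` with `S_f ≅ R_f ×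
C` as `R_f`-algebras. -/
theorem result {R S : Type u} [CommRing R] [CommRing S] [Algebra R S]
    [Algebra.FinitePresentation R S] (q : Ideal S) [q.IsPrime] (p : Ideal R) [p.IsPrime] [q.LiesOver p]
    (h : Function.Bijective (Localization.localRingHom p q (algebraMap R S) (q.over_def p))) :
    ∃ f : R, f ∉ p ∧ ∀ (Rf Sf : Type u) [CommRing Rf] [CommRing Sf] [Algebra R Rf] [IsLocalization.Away f Rf]
      [Algebra S Sf] [IsLocalization.Away (algebraMap R S f) Sf] [Algebra Rf Sf] [Algebra R Sf] [IsScalarTower R S Sf]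
      [IsScalarTower R Rf Sf],
      ∃ (C : Type u) (_ : CommRing C) (_ : Algebra Rf C), Nonempty (Sf ≃ₐ[Rf] (Rf × C)) := by
  classical
  let Rp := Localization.AtPrime p
  let Sq := Localization.AtPrime q
  let ψ : Rp →+* Sq := Localization.localRingHom p q (algebraMap R S) (q.over_def p)
  have hψ : ∀ r, ψ (algebraMap R Rp r) = algebraMap S Sq (algebraMap R S r) := fun r => Localization.localRingHom_to_map p q _ _ r
  obtain ⟨k, π, hπ, ⟨KS, hKS⟩⟩ := Algebra.FinitePresentation.out (R := R) (A := S)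
  have hx : ∀ j, ∃ (a : R) (b : p.primeCompl) (v : q.primeCompl),
      (v : S) * (algebraMap R S b * π (MvPolynomial.X j) - algebraMap R S a) = 0 := fun j => by
    obtain ⟨y, hy⟩ := h.2 (algebraMap S Sq (π (MvPolynomial.X j)))
    obtain ⟨⟨a, b⟩, hab⟩ := IsLocalization.surj p.primeCompl y
    have h1 : algebraMap S Sq (algebraMap R S b * π (MvPolynomial.X j)) = algebraMap S Sq (algebraMap R S a) := by
      rw [map_mul, ← hy, ← hψ, ← hψ, ← hab, map_mul, mul_comm]
    obtain ⟨v, hv⟩ := (IsLocalization.eq_iff_exists q.primeCompl Sq).1 h1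
    exact ⟨a, b, v, by rw [mul_sub, hv, sub_self]⟩
  choose a b v hv using hx
  let w : R := ∏ j, (b j : R)
  have hw : w ∈ p.primeCompl := Submonoid.prod_mem _ fun j _ => (b j).2
  let T := Localization.Away w
  have hbT : ∀ j, IsUnit (algebraMap R T (b j)) := fun j =>
    IsLocalization.Away.isUnit_of_dvd (x := w) (Finset.dvd_prod_of_mem (fun j => (b j : R)) (Finset.mem_univ j))
  let φ : MvPolynomial (Fin k) R →ₐ[R] T := MvPolynomial.aeval fun j => algebraMap R T (a j) * ↑(hbT j).unit⁻¹
  let l : T →ₐ[R] Rp := IsLocalization.liftAlgHom (M := Submonoid.powers w) (f := Algebra.ofId R Rp) fun y => by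
    obtain ⟨m, hm⟩ := y.2
    rw [← hm, map_pow]
    exact (IsLocalization.map_units Rp (⟨w, hw⟩ : p.primeCompl)).pow m
  have hl : ∀ z, ψ (l (φ z)) = algebraMap S Sq (π z) := by
    suffices (ψ.comp (l.comp φ).toRingHom) = (algebraMap S Sq).comp π.toRingHom from fun z => RingHom.congr_fun this z
    refine MvPolynomial.ringHom_ext (fun r => ?_) fun j => ?_
    · show ψ (l (φ (MvPolynomial.C r))) = algebraMap S Sq (π (MvPolynomial.C r))
      rw [← MvPolynomial.algebraMap_eq, φ.commutes, l.commutes, π.commutes, hψ]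
    · show ψ (l (φ (MvPolynomial.X j))) = algebraMap S Sq (π (MvPolynomial.X j))
      have hb : IsUnit (algebraMap S Sq (algebraMap R S (b j))) := by
        rw [← hψ]; exact (IsLocalization.map_units Rp (b j)).map ψ
      refine hb.mul_right_inj.1 ?_
      rw [← map_mul (algebraMap S Sq), ← hψ, ← map_mul ψ, ← l.commutes, ← map_mul l]
      have : algebraMap R T (b j) * φ (MvPolynomial.X j) = algebraMap R T (a j) := by
        simp only [φ, MvPolynomial.aeval_X]
        rw [mul_left_comm, IsUnit.mul_val_inv, mul_one]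
      rw [this, l.commutes, hψ]
      refine ((IsLocalization.eq_iff_exists q.primeCompl Sq).2 ⟨v j, ?_⟩).symm
      exact sub_eq_zero.1 (by rw [← mul_sub]; exact hv j)
  let g : S := ∏ j, (v j : S)
  have hg : g ∈ q.primeCompl := Submonoid.prod_mem _ fun j _ => (v j).2
  obtain ⟨G, hG⟩ := hπ g
  have hlift : ∀ z : T, ∃ (n : R) (m : ℕ), z * algebraMap R T w ^ m = algebraMap R T n := fun z => by
    obtain ⟨⟨n, ⟨_, m, rfl⟩⟩, hnm⟩ := IsLocalization.surj (Submonoid.powers w) z
    exact ⟨n, m, by rw [← map_pow]; exact hnm⟩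
  have hlw : ∀ m, IsUnit (l (algebraMap R T w ^ m)) := fun m => by
    rw [map_pow, l.commutes]
    exact (IsLocalization.map_units Rp (⟨w, hw⟩ : p.primeCompl)).pow m
  have hrel : ∀ r : KS, ∃ c : p.primeCompl, algebraMap R T c * φ r = 0 := fun r => by
    obtain ⟨n, m, hnm⟩ := hlift (φ r)
    have h0 : algebraMap R Rp n = 0 := by
      refine h.1 ?_
      rw [map_zero, ← l.commutes, ← hnm, map_mul, map_mul]
      erw [hl, show π (r : MvPolynomial (Fin k) R) = 0 from RingHom.mem_ker.1 (hKS ▸ Ideal.subset_span r.2), map_zero, zero_mul]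
    obtain ⟨c, hc⟩ := (IsLocalization.map_eq_zero_iff p.primeCompl Rp n).1 h0
    refine ⟨c, ((IsLocalization.Away.algebraMap_isUnit (S := T) w).pow m).mul_left_eq_zero.1 ?_⟩
    rw [mul_assoc, hnm, ← map_mul, hc, map_zero]
  choose c hc using hrel
  obtain ⟨n, m, hnm⟩ := hlift (φ G)
  have hn : n ∈ p.primeCompl := by
    intro hmem
    have hu : IsUnit (ψ (algebraMap R Rp n)) := by
      rw [← l.commutes, ← hnm, map_mul, map_mul, hl, hG]
      exact (IsLocalization.map_units Sq (⟨g, hg⟩ : q.primeCompl)).mul ((hlw m).map ψ)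
    obtain ⟨y, hy⟩ := hu.exists_right_inv
    obtain ⟨y, rfl⟩ := h.2 y
    exact (IsLocalization.AtPrime.isUnit_to_map_iff Rp p n).1
      (IsUnit.of_mul_eq_one y (h.1 (by rw [map_mul, map_one]; exact hy))) hmem
  refine ⟨w * n * ∏ r, (c r : R), fun hmem => ?_, ?_⟩
  · exact Submonoid.mul_mem p.primeCompl (Submonoid.mul_mem _ hw hn) (Submonoid.prod_mem _ fun r _ => (c r).2) hmem
  intro Rf Sf _ _ _ _ _ _ _ _ _ _
  let f := w * n * ∏ r, (c r : R)
  have hunit : ∀ {d : R}, d ∣ f → IsUnit (algebraMap R Rf d) := fun {d} hd => IsLocalization.Away.isUnit_of_dvd (x := f) hd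
  let t : T →ₐ[R] Rf := IsLocalization.liftAlgHom (M := Submonoid.powers w) (f := Algebra.ofId R Rf) fun y => by
    obtain ⟨m, hm⟩ := y.2
    rw [← hm, map_pow]
    exact (hunit (dvd_mul_of_dvd_left (Dvd.intro n rfl) _)).pow m
  have hker : RingHom.ker π.toRingHom ≤ RingHom.ker (t.comp φ).toRingHom := by
    rw [← hKS, Ideal.span_le]
    intro r hr
    refine (hunit (d := (c ⟨r, hr⟩ : R)) (dvd_mul_of_dvd_right (Finset.dvd_prod_of_mem (fun r => (c r : R)) (Finset.mem_univ (⟨r, hr⟩ : KS))) _)).mul_right_eq_zero.1 ?_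
    show algebraMap R Rf _ * t (φ r) = 0
    rw [← t.commutes, ← map_mul, hc ⟨r, hr⟩, map_zero]
  let σ : S →ₐ[R] Rf := AlgHom.liftOfSurjective π hπ (t.comp φ) hker
  have hσ : ∀ z, σ (π z) = t (φ z) := fun z => AlgHom.liftOfSurjective_apply π hπ (t.comp φ) hker z
  have hσg : IsUnit (σ g) := by
    rw [← hG, hσ]
    have h1 := congrArg t hnm
    rw [map_mul, map_pow, t.commutes, t.commutes] at h1
    exact isUnit_of_mul_isUnit_left (h1 ▸ hunit (dvd_mul_of_dvd_left (Dvd.intro_left w rfl) _))
  let σ' : Sf →+* Rf := IsLocalization.Away.lift (algebraMap R S f) (g := σ.toRingHom) (by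
    show IsUnit (σ (algebraMap R S f))
    rw [σ.commutes]; exact hunit dvd_rfl)
  have hσ' : ∀ s, σ' (algebraMap S Sf s) = σ s := fun s => IsLocalization.Away.lift_eq _ _ s
  have hret : ∀ r, σ' (algebraMap Rf Sf r) = r := by
    suffices σ'.comp (algebraMap Rf Sf) = RingHom.id Rf from fun r => RingHom.congr_fun this r
    refine IsLocalization.ringHom_ext (Submonoid.powers f) (RingHom.ext fun r => ?_)
    show σ' (algebraMap Rf Sf (algebraMap R Rf r)) = algebraMap R Rf r
    rw [← IsScalarTower.algebraMap_apply, IsScalarTower.algebraMap_apply R S Sf, hσ', σ.commutes]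
  let G' : Sf := algebraMap S Sf g
  have hgen : ∀ j, G' * (algebraMap S Sf (π (MvPolynomial.X j)) - algebraMap Rf Sf (σ (π (MvPolynomial.X j)))) = 0 := fun j => by
    have hb : IsUnit (algebraMap R Rf (b j)) :=
      hunit (dvd_mul_of_dvd_left (dvd_mul_of_dvd_left (Finset.dvd_prod_of_mem (fun j => (b j : R)) (Finset.mem_univ j)) _) _)
    have hbx : algebraMap R Rf (b j) * σ (π (MvPolynomial.X j)) = algebraMap R Rf (a j) := by
      rw [hσ, ← t.commutes, ← map_mul]
      simp only [φ, MvPolynomial.aeval_X]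
      rw [mul_left_comm, IsUnit.mul_val_inv, mul_one, t.commutes]
    refine (hb.map (algebraMap Rf Sf)).mul_right_eq_zero.1 ?_
    rw [mul_left_comm, mul_sub, ← map_mul, hbx, ← IsScalarTower.algebraMap_apply, ← IsScalarTower.algebraMap_apply,
      IsScalarTower.algebraMap_apply R S Sf, IsScalarTower.algebraMap_apply R S Sf (a j), ← map_mul (algebraMap S Sf),
      ← map_sub, ← map_mul (algebraMap S Sf)]
    obtain ⟨d, hd⟩ := Finset.dvd_prod_of_mem (fun j => (v j : S)) (Finset.mem_univ j)
    rw [show g = (v j : S) * d from hd, mul_right_comm, hv j, zero_mul, map_zero]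
  have hall : ∀ s, G' * (algebraMap S Sf s - algebraMap Rf Sf (σ s)) = 0 := fun s => by
    obtain ⟨z, rfl⟩ := hπ s
    induction z using MvPolynomial.induction_on with
    | C r =>
      rw [← MvPolynomial.algebraMap_eq, π.commutes, σ.commutes, ← IsScalarTower.algebraMap_apply, ← IsScalarTower.algebraMap_apply, sub_self, mul_zero]
    | add z y hz hy =>
      simp only [map_add]
      linear_combination hz + hy
    | mul_X z j hz =>
      simp only [map_mul]
      linear_combination (algebraMap S Sf (π (MvPolynomial.X j))) * hz + (algebraMap Rf Sf (σ (π z))) * hgen j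
  have hall' : ∀ z : Sf, G' * (z - algebraMap Rf Sf (σ' z)) = 0 := fun z => by
    obtain ⟨⟨s, ⟨_, i, rfl⟩⟩, hs⟩ := IsLocalization.surj (Submonoid.powers (algebraMap R S f)) z
    have hu : IsUnit (algebraMap S Sf (algebraMap R S f ^ i)) := by
      rw [map_pow]; exact (IsLocalization.Away.algebraMap_isUnit _).pow i
    have h1 := congrArg σ' hs
    rw [map_mul, hσ', hσ', map_pow σ, σ.commutes] at h1
    refine hu.mul_left_eq_zero.1 ?_
    have h2 : algebraMap Rf Sf (algebraMap R Rf f ^ i) = algebraMap S Sf (algebraMap R S f ^ i) := by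
      rw [map_pow, map_pow, ← IsScalarTower.algebraMap_apply, ← IsScalarTower.algebraMap_apply]
    have h3 := congrArg (algebraMap Rf Sf) h1
    rw [map_mul, h2] at h3
    linear_combination hall s + G' * hs - G' * h3
  obtain ⟨y, hy⟩ := hσg.exists_right_inv
  let e : Sf := G' * algebraMap Rf Sf y
  have he1 : σ' e = 1 := by rw [map_mul, hret, hσ', hy]
  have he2 : ∀ z, e * z = e * algebraMap Rf Sf (σ' z) := fun z => by
    linear_combination (algebraMap Rf Sf y) * hall' z
  let I : Ideal Sf := Ideal.span {e}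
  let σA : Sf →ₐ[Rf] Rf := { σ' with commutes' := hret }
  refine ⟨Sf ⧸ I, inferInstance, inferInstance, ⟨AlgEquiv.ofBijective (σA.prod (Ideal.Quotient.mkₐ Rf I)) ⟨?_, ?_⟩⟩⟩
  · rw [injective_iff_map_eq_zero]
    intro z hz
    have h1 : σ' z = 0 := congrArg Prod.fst hz
    obtain ⟨x, hx⟩ := Ideal.mem_span_singleton'.1 (Ideal.Quotient.eq_zero_iff_mem.1 (congrArg Prod.snd hz : Ideal.Quotient.mk I z = 0))
    have h2 := he2 z
    rw [h1, map_zero, mul_zero] at h2
    have h3 : e * e = e := by rw [he2 e, he1, map_one, mul_one]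
    rw [← hx] at h2 ⊢
    linear_combination h2 - x * h3
  · rintro ⟨r, z⟩
    obtain ⟨z, rfl⟩ := Ideal.Quotient.mk_surjective z
    refine ⟨algebraMap Rf Sf r * e + z * (1 - e), Prod.ext ?_ ?_⟩
    · show σ' (algebraMap Rf Sf r * e + z * (1 - e)) = r
      rw [map_add, map_mul σ' z, map_mul σ' (algebraMap Rf Sf r) e, map_sub, map_one, hret, he1, sub_self, mul_zero, mul_one, add_zero]
    · show Ideal.Quotient.mk I _ = Ideal.Quotient.mk I z
      rw [Ideal.Quotient.eq]
      exact Ideal.mem_span_singleton'.2 ⟨algebraMap Rf Sf r - z, by ring⟩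

end Groth.Agent.S2146
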