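import Groth.Statements.S2147
import Groth.Agent.LimImage.Basic
import Groth.Agent.AbsApprox.Main
import Groth.Agent.LimProper.Main
import Groth.Agent.S0591
import Groth.Agent.S2079

set_option autoImplicit false
universe u
open CategoryTheory AlgebraicGeometry
open Lim

set_option backward.isDefEq.respectTransparency false
set_option backward.isDefEq.respectTransparency.types false
set_option linter.style.haveILetI false
set_option maxHeartbeats 1000000

namespace Groth.Agent.S2147

open CategoryTheory CategoryTheory.Limits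

/-- Let `f : X → S` be proper with `S` quasi-compact and quasi-separated. Then `f` is a limit of proper
morphisms `f_i : X_i → S_i` with `S_i` of finite type over `ℤ`: there are cofiltered diagrams of
schemes `X_i`, `S_i` with affine transition morphisms, a natural transformation with proper
components, and limit cones identified with `X` and `S` compatibly with `f`. -/
theorem result {X S : Scheme.{u}} (f : X ⟶ S) [IsProper f] [CompactSpace S]
    [QuasiSeparatedSpace S] :
    ∃ (I : Type u) (_ : SmallCategory I) (_ : IsCofiltered I) (DX DS : I ⥤ Scheme.{u}) (φ : DX ⟶ DS)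
      (cX : Limits.Cone DX) (cS : Limits.Cone DS) (_ : Limits.IsLimit cX) (_ : Limits.IsLimit cS)
      (eX : cX.pt ≅ X) (eS : cS.pt ≅ S),
      (∀ (i j : I) (a : i ⟶ j), IsAffineHom (DX.map a) ∧ IsAffineHom (DS.map a)) ∧
      (∀ i, IsProper (φ.app i) ∧ CompactSpace (DS.obj i) ∧
        LocallyOfFiniteType (Limits.IsTerminal.from specULiftZIsTerminal (DS.obj i))) ∧
      (∀ i, cX.π.app i ≫ φ.app i = eX.hom ≫ f ≫ eS.inv ≫ cS.π.app i) := by
  classical
  obtain ⟨L, _, _, _, DS, π, hl, h1, h2, -⟩ := AbsApprox.hasApprox S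
  haveI : IsCofiltered Lᵒᵖ := inferInstance
  let c : Cone DS := Cone.mk S π
  haveI : ∀ (i j : Lᵒᵖ) (a : i ⟶ j), IsAffineHom (DS.map a) := h1
  haveI : ∀ {i j : Lᵒᵖ} (a : i ⟶ j), IsAffineHom (DS.map a) := fun {i j} a => h1 i j a
  haveI : ∀ l, CompactSpace (DS.obj l) := fun l => (h2 l).1
  haveI : ∀ l, QuasiSeparatedSpace (DS.obj l) := fun l => AbsApprox.quasiSeparatedSpace_of_lft (h2 l).2
  obtain ⟨J, _, _, DP, cP, hcP, eP, -, hp⟩ := S2079.result f
  obtain ⟨l⟩ := IsCofiltered.nonempty (C := J)
  obtain ⟨hcl, hq, hlfp⟩ := hp l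
  let P : Scheme.{u} := (DP.obj l).left
  let q : P ⟶ c.pt := (DP.obj l).hom
  let g : X ⟶ P := (eP.inv ≫ cP.π.app l).left
  haveI : IsProper q := hq
  haveI : LocallyOfFinitePresentation q := hlfp
  haveI : IsClosedImmersion g := by
    haveI := hcl
    haveI : IsIso eP.inv.left := inferInstanceAs (IsIso ((Over.forget S).map eP.inv))
    exact inferInstanceAs (IsClosedImmersion (eP.inv.left ≫ (cP.π.app l).left))
  have hg : g ≫ q = f := Over.w (eP.inv ≫ cP.π.app l)
  obtain ⟨i, Pi, fi, gP, _, _, _, hsq⟩ := S0591.result DS c hl P q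
  haveI : LocallyOfFiniteType fi := inferInstance
  have key : ∀ {A B : Scheme.{u}} (p : A ⟶ B), IsPullback p (𝟙 A) (𝟙 B) p := fun p =>
    IsPullback.of_vert_isIso ⟨by rw [Category.comp_id, Category.id_comp]⟩
  have hid : IsPullback (c.π.app i) (𝟙 c.pt) (𝟙 (DS.obj i)) (c.π.app i) := key (c.π.app i)
  obtain ⟨j, hj⟩ := LimProper.exists_isProper DS c hl fi (𝟙 _) hid hsq
  have hjp : IsProper (LimDesc.toStage DS fi j) := by
    have : ∀ f' : Pi ⟶ DS.obj i, f' = fi ≫ 𝟙 _ → IsProper (LimDesc.toStage DS f' j) := by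
      rintro _ rfl
      haveI := hj
      rw [← LimDesc.stageMap_toStage DS (𝟙 (DS.obj i)) fi j]
      infer_instance
    exact this fi (Category.comp_id fi).symm
  let cT := LimDesc.towerCone DS fi c hsq
  let DK := Over.forget j ⋙ LimDesc.tower DS fi
  let cK : Cone DK := cT.whisker (Over.forget j)
  have hcK : IsLimit cK :=
    (Functor.Initial.isLimitWhiskerEquiv (Over.forget j) cT).symm (LimDesc.isLimitTowerCone DS fi c hsq hl)
  haveI : ∀ {a b : Over j} (m : a ⟶ b), IsAffineHom (DK.map m) := fun {a b} m =>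
    LimDesc.isAffineHom_tower_map DS fi m.left
  obtain ⟨E, τ, cE, hE, e, hτ, haff, hfac⟩ := LimImage.exists_image_system DK cK hcK (g : X ⟶ cK.pt)
  let F := Over.forget j ⋙ Over.forget i
  have hpr : ∀ k : Over j, IsProper (LimDesc.toStage DS fi k.left) := fun k =>
    MorphismProperty.of_isPullback (P := @IsProper) (LimDesc.isPullback_trans DS fi k.hom) hjp
  refine ⟨Over j, inferInstance, inferInstance, E, F ⋙ DS,
    τ ≫ Functor.whiskerLeft (Over.forget j) (LimDesc.towerToStage DS fi), cE, c.whisker F, hE,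
    (Functor.Initial.isLimitWhiskerEquiv (Over.forget j) (c.whisker (Over.forget i))).symm
      ((Functor.Initial.isLimitWhiskerEquiv (Over.forget i) c).symm hl), e, Iso.refl S,
    fun a b m => ⟨haff m, h1 _ _ _⟩, fun k => ⟨?_, (h2 _).1, (h2 _).2⟩, fun k => ?_⟩
  · haveI := hτ k
    haveI := hpr k
    exact inferInstanceAs (IsProper (τ.app k ≫ LimDesc.toStage DS fi k.left))
  · change cE.π.app k ≫ τ.app k ≫ LimDesc.toStage DS fi k.left = e.hom ≫ f ≫ 𝟙 S ≫ π.app (F.obj k)
    rw [← Category.assoc, hfac k, Category.id_comp, ← hg]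
    simp only [Category.assoc]
    exact congrArg (fun m => e.hom ≫ g ≫ m) (LimDesc.proj_toStage DS fi c hsq k.left)

end Groth.Agent.S2147
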