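import Groth.Statements.S2148
import Mathlib.RingTheory.Kaehler.Basic
import Mathlib.FieldTheory.Perfect
import Mathlib.FieldTheory.KummerPolynomial
import Mathlib.FieldTheory.IntermediateField.Adjoin.Basic
import Mathlib.Algebra.DualNumber
import Mathlib.RingTheory.Derivation.Basic
import Mathlib.Algebra.CharP.Algebra
import Mathlib.Algebra.CharP.Lemmas
import Mathlib.Order.Zorn
import Mathlib.Tactic.Ring

set_option autoImplicit false
universe u
open CAlg

namespace Groth.Agent.S2148

/-- Let `k` be a perfect field of characteristic `p > 0` and `K` an extension field of `k`. For `a ∈ K`,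
the differential `da` vanishes in `Ω_{K/k}` if and only if `a` is a `p`-th power in `K`. -/
theorem result {k K : Type u} [Field k] [Field K] [Algebra k K] (p : ℕ) [Fact p.Prime]
    [CharP k p] [PerfectRing k p] (a : K) :
    KaehlerDifferential.D k K a = 0 ↔ ∃ b : K, b ^ p = a := by
  classical
  have : CharP K p := charP_of_injective_algebraMap (algebraMap k K).injective p
  have hp : p.Prime := Fact.out
  constructor
  · intro ha
    by_contra hne
    let P : IntermediateField k K := IntermediateField.adjoin k (Set.range fun x : K => x ^ p)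
    have haP : a ∉ P := by
      have hPeq : P.toSubfield ≤ (frobenius K p).fieldRange := by
        rw [IntermediateField.adjoin_toSubfield, Subfield.closure_le]
        rintro x (⟨c, rfl⟩ | ⟨y, rfl⟩)
        · obtain ⟨d, rfl⟩ := surjective_frobenius k p c
          exact ⟨algebraMap k K d, by simp [frobenius_def]⟩
        · exact ⟨y, rfl⟩
      intro h
      obtain ⟨b, hb⟩ := hPeq h
      exact hne ⟨b, hb⟩
    obtain ⟨L, hPL, hL⟩ := zorn_le_nonempty₀ {L : IntermediateField k K | P ≤ L ∧ a ∉ L} (fun C hC hchain y hy => by
      have hdir : DirectedOn (· ≤ ·) C := hchain.directedOn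
      have : Nonempty C := ⟨⟨y, hy⟩⟩
      refine ⟨sSup C, ⟨(hC hy).1.trans (le_sSup hy), fun h => ?_⟩, fun z hz => le_sSup hz⟩
      have h' : a ∈ ((sSup C : IntermediateField k K) : Set K) := h
      rw [sSup_eq_iSup', IntermediateField.coe_iSup_of_directed hdir.directed_val] at h'
      obtain ⟨_, ⟨⟨i, hi⟩, rfl⟩, hai⟩ := h'
      exact (hC hi).2 hai) P ⟨le_rfl, haP⟩
    obtain ⟨⟨hPL', haL⟩, hmax⟩ := hL
    have hpow : ∀ x : K, x ^ p ∈ L := fun x => hPL' (IntermediateField.subset_adjoin _ _ ⟨x, rfl⟩)
    have hmp : ∀ x : K, x ∉ L → minpoly L x = Polynomial.X ^ p - Polynomial.C (⟨x ^ p, hpow x⟩ : L) := by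
      intro x hx
      symm
      refine minpoly.eq_of_irreducible_of_monic ?_ (by simp [map_sub]) (Polynomial.monic_X_pow_sub_C _ hp.ne_zero)
      refine X_pow_sub_C_irreducible_of_prime hp fun b hb => hx ?_
      have : (b : K) ^ p = x ^ p := congrArg Subtype.val hb
      rw [← frobenius_inj K p this]
      exact b.2
    have hint : ∀ x : K, IsIntegral L x := fun x =>
      ⟨Polynomial.X ^ p - Polynomial.C (⟨x ^ p, hpow x⟩ : L), Polynomial.monic_X_pow_sub_C _ hp.ne_zero, by simp⟩
    have hdeg : ∀ x : K, x ∉ L → Module.finrank L (IntermediateField.adjoin L {x}) = p := fun x hx => by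
      rw [IntermediateField.adjoin.finrank (hint x), hmp x hx, Polynomial.natDegree_X_pow_sub_C]
    have htop : IntermediateField.adjoin L {a} = ⊤ := by
      refine eq_top_iff.mpr fun x _ => ?_
      by_cases hx : x ∈ L
      · exact IntermediateField.algebraMap_mem _ (⟨x, hx⟩ : L)
      · let F := IntermediateField.adjoin L {x}
        have haF : a ∈ F := by
          by_contra h
          have hle : L ≤ F.restrictScalars k := fun y hy => F.algebraMap_mem (⟨y, hy⟩ : L)
          exact hx (hmax ⟨hPL'.trans hle, h⟩ hle (IntermediateField.mem_adjoin_simple_self L x))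
        have hle : IntermediateField.adjoin L {a} ≤ F := by
          rw [IntermediateField.adjoin_simple_le_iff]; exact haF
        have : FiniteDimensional L F := IntermediateField.adjoin.finiteDimensional (hint x)
        rw [IntermediateField.eq_of_le_of_finrank_eq hle (by rw [hdeg a haL, hdeg x hx])]
        exact IntermediateField.mem_adjoin_simple_self L x
    let e := (IntermediateField.equivOfEq htop).trans IntermediateField.topEquiv
    let pb := (IntermediateField.adjoin.powerBasis (hint a)).map e
    have hgen : pb.gen = a := rfl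
    let z : DualNumber K := TrivSqZeroExt.inl a + DualNumber.eps
    have hz : Polynomial.aeval z (minpoly L pb.gen) = 0 := by
      rw [hgen, hmp a haL]
      simp only [map_sub, map_pow, Polynomial.aeval_X, Polynomial.aeval_C]
      have : ExpChar (DualNumber K) p := expChar_of_injective_ringHom (f := algebraMap K (DualNumber K)) (fun x y h => congrArg TrivSqZeroExt.fst h) p
      rw [add_pow_expChar, show TrivSqZeroExt.inl a ^ p = (TrivSqZeroExt.inl (a ^ p) : DualNumber K) from (map_pow (TrivSqZeroExt.inlHom K K) a p).symm]
      have h0 : (DualNumber.eps : DualNumber K) ^ p = 0 := pow_eq_zero_of_le hp.two_le (by rw [pow_two, DualNumber.eps_mul_eps])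
      rw [h0, add_zero, sub_eq_zero]
      rfl
    let v := pb.lift z hz
    have hv : v a = z := by rw [← hgen]; exact pb.lift_gen z hz
    have hfst : (TrivSqZeroExt.fstHom L K K).comp v = AlgHom.id L K :=
      pb.algHom_ext (by rw [hgen]; show (v a).fst = a; rw [hv]; simp [z])
    have hfst' : ∀ x, (v x).fst = x := fun x => AlgHom.congr_fun hfst x
    let δ : Derivation k K K := Derivation.mk'
      { toFun := fun x => (v x).snd
        map_add' := fun x y => by simp
        map_smul' := fun c x => by
          rw [← algebraMap_smul L c x, map_smul, RingHom.id_apply]; exact algebraMap_smul L c (v x).snd }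
      fun x y => by
        simp only [LinearMap.coe_mk, AddHom.coe_mk, map_mul, TrivSqZeroExt.snd_mul, hfst', MulOpposite.smul_eq_mul_unop, MulOpposite.unop_op, smul_eq_mul]
        ring
    have h1 : δ a = 1 := by
      show (v a).snd = 1
      simp [hv, z, DualNumber.snd_eps]
    have h2 := δ.liftKaehlerDifferential_comp_D a
    rw [ha, map_zero, h1] at h2
    exact zero_ne_one h2
  · rintro ⟨b, rfl⟩
    rw [Derivation.leibniz_pow, ← Nat.cast_smul_eq_nsmul K, CharP.cast_eq_zero, zero_smul]

end Groth.Agent.S2148
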