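import Groth.Statements.S2150
import Groth.Agent.SepTensor.Basic
import Mathlib.FieldTheory.PrimitiveElement
import Mathlib.FieldTheory.SeparableClosure

set_option autoImplicit false
universe u
open CAlg Groth.Agent
open scoped IntermediateField TensorProduct

namespace Groth.Agent.S2150

open TensorProduct Polynomial in
theorem isDomain_tensor_finite {k K L : Type u} [Field k] [Field K] [Algebra k K] [Field L]
    [Algebra k L] [FiniteDimensional k L] [Algebra.IsSeparable k L]
    (hK : ∀ α : K, IsSeparable k α → α ∈ Set.range (algebraMap k K)) : IsDomain (L ⊗[k] K) := by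
  obtain ⟨β, hβ⟩ := Field.exists_primitive_element k L
  have hint : IsIntegral k β := IsIntegral.of_finite k β
  set f := minpoly k β with hf
  have hfm : f.Monic := minpoly.monic hint
  have hfirr : Irreducible f := minpoly.irreducible hint
  have hfsep : f.Separable := Algebra.IsSeparable.isSeparable k β
  have hirr : Irreducible (f.map (algebraMap k K)) := by
    rw [(hfm.map _).irreducible_iff_natDegree]
    refine ⟨fun h => ?_, fun g h hg hh hgh => ?_⟩
    · have := congrArg Polynomial.natDegree h
      rw [natDegree_map, natDegree_one] at this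
      exact (minpoly.natDegree_pos hint).ne' this
    · let M := AlgebraicClosure K
      let S : IntermediateField k M := separableClosure k M
      have hroot : ∀ r ∈ (g.map (algebraMap K M)).roots, r ∈ S := by
        intro r hr
        rw [mem_separableClosure_iff]
        have h0 : Polynomial.aeval r f = 0 := by
          rw [← Polynomial.aeval_map_algebraMap K r f, ← hgh, map_mul]
          have : Polynomial.aeval r g = 0 := by
            rw [Polynomial.aeval_def, ← Polynomial.eval_map]
            exact (Polynomial.mem_roots'.1 hr).2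
          rw [this, zero_mul]
        exact hfsep.of_dvd (minpoly.dvd k r h0)
      have hsplit : (g.map (algebraMap K M)).Splits := IsAlgClosed.splits _
      have hprod := hsplit.eq_prod_roots_of_monic (hg.map _)
      have hcoef : ∀ n, (g.map (algebraMap K M)).coeff n ∈ S := by
        have hl : g.map (algebraMap K M) ∈ Polynomial.lifts (S.toSubalgebra.toSubring.subtype) := by
          rw [hprod]
          refine multiset_prod_mem _ fun p hp => ?_
          obtain ⟨r, hr, rfl⟩ := Multiset.mem_map.1 hp
          exact ⟨X - C ⟨r, hroot r hr⟩, by simp; rfl⟩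
        intro n
        obtain ⟨c, hc⟩ := (Polynomial.lifts_iff_coeff_lifts _).1 hl n
        rw [← hc]; exact c.2
      have hlift : g ∈ Polynomial.lifts (algebraMap k K) :=
        (Polynomial.lifts_iff_coeff_lifts g).2 fun n => by
          refine hK _ ?_
          have h1 : IsSeparable k (algebraMap K M (g.coeff n)) :=
            mem_separableClosure_iff.1 (by simpa using hcoef n)
          unfold IsSeparable at h1 ⊢
          rwa [minpoly.algebraMap_eq (algebraMap K M).injective] at h1
      obtain ⟨g₀, hg₀, hdeg, hg₀m⟩ := Polynomial.lifts_and_degree_eq_and_monic hlift hg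
      have hdvd : g₀ ∣ f := (Polynomial.map_dvd_map' (algebraMap k K)).1 ⟨h, by rw [hg₀, hgh]⟩
      rcases hfirr.dvd_iff.1 hdvd with hu | hass
      · left
        rw [← hg₀, natDegree_map]
        exact Polynomial.natDegree_eq_zero_of_isUnit hu
      · right
        have heq : g.natDegree = (f.map (algebraMap k K)).natDegree := by
          rw [← hg₀, natDegree_map, natDegree_map]
          exact (Polynomial.natDegree_eq_of_degree_eq (Polynomial.degree_eq_degree_of_associated hass)).symm
        rw [← hgh, hg.natDegree_mul hh] at heq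
        omega
  haveI := Fact.mk hirr
  let M := AdjoinRoot (f.map (algebraMap k K))
  let pb := IntermediateField.adjoin.powerBasis hint
  let e : k⟮β⟯ ≃ₐ[k] L := (IntermediateField.equivOfEq hβ).trans IntermediateField.topEquiv
  have hr : Polynomial.aeval (AdjoinRoot.root (f.map (algebraMap k K))) (minpoly k pb.gen) = 0 := by
    have h1 : minpoly k pb.gen = f := by
      rw [IntermediateField.adjoin.powerBasis_gen, IntermediateField.minpoly_gen]
    rw [h1, ← Polynomial.aeval_map_algebraMap K, AdjoinRoot.aeval_eq, AdjoinRoot.mk_self]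
  let σ : L →ₐ[k] M := (pb.lift _ hr).comp e.symm.toAlgHom
  let Φ : L ⊗[k] K →ₐ[k] M := Algebra.TensorProduct.lift σ (IsScalarTower.toAlgHom k K M)
    (fun _ _ => Commute.all _ _)
  suffices Function.Injective Φ from Function.Injective.isDomain Φ this
  letI : Algebra K (L ⊗[k] K) := Algebra.TensorProduct.rightAlgebra
  let ΦK : L ⊗[k] K →ₗ[K] M :=
    { toFun := Φ
      map_add' := map_add Φ
      map_smul' := fun c z => by
        rw [Algebra.smul_def, map_mul, RingHom.id_apply, Algebra.smul_def]
        congr 1
        exact (Algebra.TensorProduct.lift_tmul σ (IsScalarTower.toAlgHom k K M)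
          (fun _ _ => Commute.all _ _) 1 c).trans (by simp [AdjoinRoot.algebraMap_eq]) }
  let bK := (pb.basis.map e.toLinearEquiv).baseChange K
  let comm := (Algebra.TensorProduct.comm k K L).toLinearEquiv
  let commK : K ⊗[k] L ≃ₗ[K] L ⊗[k] K :=
    { toFun := comm
      invFun := comm.symm
      left_inv := comm.left_inv
      right_inv := comm.right_inv
      map_add' := map_add comm
      map_smul' := fun c z => by
        rw [Algebra.smul_def, Algebra.smul_def, RingHom.id_apply]
        exact (map_mul (Algebra.TensorProduct.comm k K L) _ _).trans (by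
          congr 1) }
  let bB := bK.map commK
  haveI : Module.Finite K (L ⊗[k] K) := Module.Finite.of_basis bB
  haveI : Module.Finite K M := (AdjoinRoot.powerBasis hirr.ne_zero).finite
  have hsurj : Function.Surjective ΦK := by
    intro m
    obtain ⟨p, rfl⟩ := AdjoinRoot.mk_surjective m
    refine ⟨Polynomial.aeval (β ⊗ₜ[k] (1 : K)) p, ?_⟩
    change Φ _ = _
    have hσ : σ β = AdjoinRoot.root _ := by
      have : e pb.gen = β := rfl
      conv_lhs => rw [← this]
      simp [σ]
    induction p using Polynomial.induction_on' with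
    | add p q hp hq => simp [map_add, hp, hq]
    | monomial n c =>
      rw [Polynomial.aeval_monomial, map_mul, map_pow, ← AdjoinRoot.aeval_eq,
        Polynomial.aeval_monomial]
      congr 1
      · exact (Algebra.TensorProduct.lift_tmul σ (IsScalarTower.toAlgHom k K M)
          (fun _ _ => Commute.all _ _) 1 c).trans (by simp; rfl)
      · simp [Φ, hσ]
  have hdim : Module.finrank K (L ⊗[k] K) = Module.finrank K M := by
    rw [Module.finrank_eq_card_basis bB, (AdjoinRoot.powerBasis hirr.ne_zero).finrank,
      AdjoinRoot.powerBasis_dim, natDegree_map, Fintype.card_fin]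
    rfl
  exact (LinearMap.injective_iff_surjective_of_finrank_eq_finrank hdim).2 hsurj

open TensorProduct in
theorem isDomain_tensor_sepClosure {k K : Type u} [Field k] [Field K] [Algebra k K]
    (hK : ∀ α : K, IsSeparable k α → α ∈ Set.range (algebraMap k K)) :
    IsDomain (SeparableClosure k ⊗[k] K) := by
  classical
  haveI : Nontrivial (SeparableClosure k ⊗[k] K) :=
    Algebra.TensorProduct.nontrivial_of_algebraMap_injective_of_flat_left k _ _
      (algebraMap k K).injective
  haveI : NoZeroDivisors (SeparableClosure k ⊗[k] K) := ⟨fun {x y} hxy => by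
    have hrep : ∀ z : SeparableClosure k ⊗[k] K, ∃ L : IntermediateField k (SeparableClosure k),
        FiniteDimensional k L ∧ z ∈ Set.range (Algebra.TensorProduct.map L.val (AlgHom.id k K)) := by
      intro z
      obtain ⟨s, rfl⟩ := TensorProduct.exists_finset z
      haveI : FiniteDimensional k (IntermediateField.adjoin k ((s.image Prod.fst : Finset _) : Set (SeparableClosure k))) :=
        IntermediateField.finiteDimensional_adjoin fun a _ => Algebra.IsIntegral.isIntegral a
      refine ⟨_, this, ∑ i : s, (⟨i.1.1, IntermediateField.subset_adjoin k _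
        (Finset.mem_image_of_mem _ i.2)⟩ : IntermediateField.adjoin k _) ⊗ₜ[k] i.1.2, ?_⟩
      rw [map_sum, ← Finset.sum_coe_sort s]
      rfl
    obtain ⟨L₁, _, x₁, rfl⟩ := hrep x
    obtain ⟨L₂, _, y₂, rfl⟩ := hrep y
    haveI := isDomain_tensor_finite (L := ↥(L₁ ⊔ L₂)) hK
    let i₁ := Algebra.TensorProduct.map (IntermediateField.inclusion (le_sup_left : L₁ ≤ L₁ ⊔ L₂))
      (AlgHom.id k K)
    let i₂ := Algebra.TensorProduct.map (IntermediateField.inclusion (le_sup_right : L₂ ≤ L₁ ⊔ L₂))
      (AlgHom.id k K)
    let j := Algebra.TensorProduct.map (L₁ ⊔ L₂).val (AlgHom.id k K)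
    have hj : Function.Injective j :=
      Module.Flat.rTensor_preserves_injective_linearMap (M := K) (L₁ ⊔ L₂).val.toLinearMap
        (L₁ ⊔ L₂).val.injective
    have h1 : ∀ z, j (i₁ z) = Algebra.TensorProduct.map L₁.val (AlgHom.id k K) z := fun z => by
      induction z using TensorProduct.induction_on with
      | zero => simp
      | tmul a b => rfl
      | add a b ha hb => simp only [map_add, ha, hb]
    have h2 : ∀ z, j (i₂ z) = Algebra.TensorProduct.map L₂.val (AlgHom.id k K) z := fun z => by
      induction z using TensorProduct.induction_on with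
      | zero => simp
      | tmul a b => rfl
      | add a b ha hb => simp only [map_add, ha, hb]
    rw [← h1, ← h2, ← map_mul, ← map_zero j] at hxy
    obtain h | h := eq_zero_or_eq_zero_of_mul_eq_zero (hj hxy : i₁ x₁ * i₂ y₂ = 0)
    · left; rw [← h1, h, map_zero]
    · right; rw [← h2, h, map_zero]⟩
  exact NoZeroDivisors.to_isDomain (SeparableClosure k ⊗[k] K)


open TensorProduct in
open TensorProduct in
theorem algHom_eq_of_irreducible {k K Ω L₀ : Type u} [Field k] [Field K] [Field Ω] [Field L₀]
    [Algebra k K] [Algebra k Ω] [Algebra k L₀] [FiniteDimensional k L₀] (i : L₀ →ₐ[k] K)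
    [IrreducibleSpace (PrimeSpectrum (Ω ⊗[k] K))] (σ τ : L₀ →ₐ[k] Ω) : σ = τ := by
  let g : Ω ⊗[k] L₀ →ₐ[k] Ω ⊗[k] K := Algebra.TensorProduct.map (AlgHom.id k Ω) i
  haveI : Module.Finite Ω (Ω ⊗[k] L₀) := Module.Finite.base_change k Ω L₀
  haveI : IsArtinianRing (Ω ⊗[k] L₀) := IsArtinianRing.of_finite Ω _
  have hginj : Function.Injective g :=
    Module.Flat.lTensor_preserves_injective_linearMap (M := Ω) i.toLinearMap i.injective
  have hN : (nilradical (Ω ⊗[k] K)).IsPrime :=
    PrimeSpectrum.irreducibleSpace_iff_isPrime_nilradical.1 inferInstance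
  have hnil : (nilradical (Ω ⊗[k] L₀)).IsPrime := by
    have : nilradical (Ω ⊗[k] L₀) = (nilradical (Ω ⊗[k] K)).comap g := by
      ext c
      rw [Ideal.mem_comap, mem_nilradical, mem_nilradical]
      exact ⟨fun hc => hc.map g, fun ⟨n, hn⟩ => ⟨n, hginj (by rw [map_pow, hn, map_zero])⟩⟩
    rw [this]
    exact Ideal.comap_isPrime g _
  haveI := hnil
  let P : (L₀ →ₐ[k] Ω) → PrimeSpectrum (Ω ⊗[k] L₀) := fun ρ =>
    ⟨RingHom.ker (Algebra.TensorProduct.lift (AlgHom.id k Ω) ρ
      (fun _ _ => Commute.all _ _)).toRingHom, RingHom.ker_isPrime _⟩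
  have huniq : ∀ Q : PrimeSpectrum (Ω ⊗[k] L₀), Q.asIdeal = nilradical (Ω ⊗[k] L₀) := fun Q =>
    ((IsArtinianRing.isMaximal_of_isPrime (nilradical (Ω ⊗[k] L₀))).eq_of_le Q.2.ne_top
      (@nilradical_le_prime _ _ Q.asIdeal Q.2)).symm
  refine AlgHom.ext fun x => ?_
  have hmem : (σ x) ⊗ₜ[k] (1 : L₀) - (1 : Ω) ⊗ₜ[k] x ∈ (P σ).asIdeal := by
    simp [P, RingHom.mem_ker]
  rw [huniq, ← huniq (P τ)] at hmem
  simpa [P, RingHom.mem_ker, sub_eq_zero] using hmem

set_option maxHeartbeats 800000 in
/-- For a field extension `K/k`, the spectrum of `k' ⊗_k K` is irreducible for every field extension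
`k'/k` (geometric irreducibility, extensions in the same universe) if and only if every element of
`K` which is separable algebraic over `k` lies in `k`. -/
theorem result {k K : Type u} [Field k] [Field K] [Algebra k K] :
    (∀ (k' : Type u) [Field k'] [Algebra k k'], IrreducibleSpace (PrimeSpectrum (k' ⊗[k] K))) ↔
      ∀ α : K, IsSeparable k α → α ∈ Set.range (algebraMap k K) := by
  constructor
  · intro h α hα
    by_contra hne
    let Ω := AlgebraicClosure k
    have hint : IsIntegral k α := hα.isIntegral
    haveI : FiniteDimensional k k⟮α⟯ := IntermediateField.adjoin.finiteDimensional hint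
    haveI : Algebra.IsSeparable k k⟮α⟯ :=
      (IntermediateField.isSeparable_adjoin_simple_iff_isSeparable k K).2 hα
    have hdeg : 2 ≤ Fintype.card (k⟮α⟯ →ₐ[k] Ω) := by
      rw [AlgHom.card, IntermediateField.adjoin.finrank hint]
      refine (minpoly.two_le_natDegree_iff hint).2 ?_
      rwa [RingHom.mem_range]
    obtain ⟨σ, τ, hne'⟩ := Fintype.exists_pair_of_one_lt_card hdeg
    haveI := h Ω
    exact hne' (algHom_eq_of_irreducible k⟮α⟯.val σ τ)
  · intro hK k' _ _
    haveI := isDomain_tensor_sepClosure hK
    let k₁ := SeparableClosure k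
    let L := AlgebraicClosure k'
    let ι : k₁ →ₐ[k] L := IsAlgClosed.lift
    letI : Algebra k₁ L := ι.toRingHom.toAlgebra
    haveI : IsScalarTower k k₁ L := IsScalarTower.of_algebraMap_eq fun x => (ι.commutes x).symm
    haveI : IrreducibleSpace (PrimeSpectrum (k₁ ⊗[k] K)) := PrimeSpectrum.irreducibleSpace
    haveI := SepTensor.irreducible_tensor_sepClosed (k := k₁) (R := L) (S := k₁ ⊗[k] K)
    let e := Algebra.TensorProduct.cancelBaseChange k k₁ k₁ L K
    haveI : IrreducibleSpace (PrimeSpectrum (L ⊗[k] K)) :=
      (PrimeSpectrum.homeomorphOfRingEquiv e.toRingEquiv).surjective.irreducibleSpace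
        (PrimeSpectrum.homeomorphOfRingEquiv e.toRingEquiv).continuous
    let e' : (k' ⊗[k] K) ⊗[k'] L ≃ₐ[k'] L ⊗[k] K :=
      (Algebra.TensorProduct.comm k' (k' ⊗[k] K) L).trans
        (Algebra.TensorProduct.cancelBaseChange k k' k' L K)
    haveI : IrreducibleSpace (PrimeSpectrum ((k' ⊗[k] K) ⊗[k'] L)) :=
      (PrimeSpectrum.homeomorphOfRingEquiv e'.toRingEquiv).symm.surjective.irreducibleSpace
        (PrimeSpectrum.homeomorphOfRingEquiv e'.toRingEquiv).symm.continuous
    exact (PrimeSpectrum.comap_surjective_of_faithfullyFlat (A := k' ⊗[k] K)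
      (B := (k' ⊗[k] K) ⊗[k'] L)).irreducibleSpace (PrimeSpectrum.continuous_comap _)

end Groth.Agent.S2150
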