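import Groth.Statements.S2158
import Groth.Agent.QC.OmegaAffineSect
import Groth.Agent.QC.Pullback
import Groth.Agent.QC.Support
import Mathlib


set_option linter.style.haveILetI false

set_option autoImplicit false
universe u
open CategoryTheory AlgebraicGeometry
open Mor

namespace Groth.Agent.S2158

/-- Let `f : X → S` be locally of finite type and quasi-separated (so that the diagonal is quasi-compact
and the prelude's sheaf of differentials is the conormal sheaf of the diagonal near every point), `x
∈ X`, `s = f(x)`. Then the stalk `Ω_{X/S,x}` vanishes if and only if `𝔪_s O_{X,x} = 𝔪_x` and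
`κ(x)/κ(s)` is a finite separable extension. -/
theorem result {X S : Scheme.{u}} (f : X ⟶ S) [LocallyOfFiniteType f] [QuasiSeparated f] (x : X) :
    Subsingleton ((Omega.sheaf f).presheaf.stalk x) ↔
      ((IsLocalRing.maximalIdeal (S.presheaf.stalk (f.base x))).map (f.stalkMap x).hom =
          IsLocalRing.maximalIdeal (X.presheaf.stalk x) ∧
        (f.residueFieldMap x).hom.Finite ∧
        @Algebra.IsSeparable (S.residueField (f.base x)) (X.residueField x) _ _ (f.residueFieldMap x).hom.toAlgebra) := by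
  obtain ⟨V, hV, hxV, -⟩ := exists_isAffineOpen_mem_and_subset (U := (⊤ : S.Opens)) (x := f x) trivial
  obtain ⟨U, hU, hxU, hUV⟩ := exists_isAffineOpen_mem_and_subset (U := f ⁻¹ᵁ V) (x := x) hxV
  let h : U ≤ f ⁻¹ᵁ V := hUV
  let R := Γ(S, V)
  let A := Γ(X, U)
  letI : Algebra R A := (f.appLE V U h).hom.toAlgebra
  haveI : Algebra.FiniteType R A := f.finiteType_appLE hV hU h
  obtain ⟨ψ, T, hψ, hψb, hT, hs, -⟩ := Groth.Agent.QC.exists_sectEquiv_omega R A f
    hV.fromSpec hU.fromSpec (hV.SpecMap_appLE_fromSpec f hU h) U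
    (by rw [Scheme.Hom.image_top_eq_opensRange, hU.opensRange_fromSpec])
  have hid : ∀ b, ψ b = b := by
    intro b
    rw [hψ]
    have h1 : ∀ e, hU.fromSpec.appLE U ⊤ e ≫ (Scheme.ΓSpecIso _).hom = 𝟙 Γ(X, U) := by
      intro e
      rw [Scheme.Hom.appLE, hU.fromSpec_app_self, Category.assoc, Category.assoc,
        ← Functor.map_comp_assoc, Subsingleton.elim (_ ≫ _) (𝟙 (Opposite.op (⊤ : (Spec Γ(X, U)).Opens))),
        CategoryTheory.Functor.map_id, Category.id_comp, Iso.inv_hom_id]
    exact congr($(h1 _) b)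
  let e : Γ(Omega.sheaf f, U) ≃ₗ[A] Ω[A⁄R] :=
    { AddEquiv.ofBijective T hT with
      map_smul' := fun a m => (hs a m).trans (by rw [hid]; rfl) }
  haveI : (Omega.sheaf f).IsQuasicoherent :=
    Groth.Agent.QC.isQCoh_pullback _ (Groth.Agent.QC.isQCoh_idealMod _)
  let q := hU.primeIdealOf ⟨x, hxU⟩
  -- the stalk vanishes iff `A` is unramified at the point
  have hstalk : Subsingleton ((Omega.sheaf f).presheaf.stalk x) ↔
      Algebra.IsUnramifiedAt R q.asIdeal := by
    rw [show Algebra.IsUnramifiedAt R q.asIdeal ↔ q ∈ Algebra.unramifiedLocus R A from Iff.rfl,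
      Algebra.unramifiedLocus_eq_compl_support, Set.mem_compl_iff, ← e.support_eq,
      Groth.Agent.QC.mem_moduleSupport_iff hU hxU]
    simp [CohB1.support]
  let Oy := S.presheaf.stalk (f x)
  let Ox := X.presheaf.stalk x
  letI : Algebra Oy Ox := (f.stalkMap x).hom.toAlgebra
  haveI : IsLocalHom (algebraMap Oy Ox) := inferInstanceAs (IsLocalHom (f.stalkMap x).hom)
  haveI : Algebra.EssFiniteType Oy Ox := LocallyOfFiniteType.stalkMap f x
  letI : Algebra A Ox := (X.presheaf.germ U x hxU).hom.toAlgebra
  haveI : IsLocalization.AtPrime Ox q.asIdeal := hU.isLocalization_stalk ⟨x, hxU⟩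
  letI : Algebra R Oy := (S.presheaf.germ V (f x) hxV).hom.toAlgebra
  haveI : IsLocalization.AtPrime Oy (hV.primeIdealOf ⟨f x, hxV⟩).asIdeal :=
    hV.isLocalization_stalk ⟨f x, hxV⟩
  letI : Algebra R Ox := ((algebraMap A Ox).comp (algebraMap R A)).toAlgebra
  haveI : IsScalarTower R A Ox := .of_algebraMap_eq fun _ => rfl
  haveI : IsScalarTower R Oy Ox := .of_algebraMap_eq fun r => by
    change X.presheaf.germ U x hxU (f.appLE V U h r) = f.stalkMap x (S.presheaf.germ V (f x) hxV r)
    rw [Scheme.Hom.germ_stalkMap_apply, Scheme.Hom.appLE, CommRingCat.comp_apply]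
    exact TopCat.Presheaf.germ_res_apply _ _ _ _ _
  haveI : Algebra.FormallyUnramified R Oy :=
    Algebra.FormallyUnramified.of_isLocalization (hV.primeIdealOf ⟨f x, hxV⟩).asIdeal.primeCompl
  have hloc : Algebra.IsUnramifiedAt R q.asIdeal ↔ Algebra.FormallyUnramified Oy Ox := by
    let φ : Localization.AtPrime q.asIdeal ≃ₐ[R] Ox :=
      (IsLocalization.algEquiv q.asIdeal.primeCompl _ Ox).restrictScalars R
    constructor
    · intro _
      haveI : Algebra.FormallyUnramified R Ox := Algebra.FormallyUnramified.of_equiv φ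
      exact Algebra.FormallyUnramified.of_restrictScalars R _ _
    · intro _
      haveI : Algebra.FormallyUnramified R Ox := Algebra.FormallyUnramified.comp R Oy Ox
      exact Algebra.FormallyUnramified.of_equiv φ.symm
  rw [hstalk, hloc, Algebra.FormallyUnramified.iff_map_maximalIdeal_eq]
  have halg : (IsLocalRing.ResidueField.instAlgebra :
      Algebra (IsLocalRing.ResidueField Oy) (IsLocalRing.ResidueField Ox)) =
      (f.residueFieldMap x).hom.toAlgebra := by
    refine Algebra.algebra_ext _ _ fun r => ?_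
    obtain ⟨r, rfl⟩ := IsLocalRing.residue_surjective r
    rfl
  constructor
  · rintro ⟨hsep, hmap⟩
    haveI : Algebra.FormallyUnramified Oy Ox :=
      Algebra.FormallyUnramified.iff_map_maximalIdeal_eq.2 ⟨hsep, hmap⟩
    have hfin : Module.Finite (IsLocalRing.ResidueField Oy) (IsLocalRing.ResidueField Ox) :=
      inferInstance
    have hf2 : (algebraMap (IsLocalRing.ResidueField Oy) (IsLocalRing.ResidueField Ox)).Finite :=
      RingHom.finite_algebraMap.2 hfin
    rw [halg] at hsep hf2
    exact ⟨hmap, hf2, hsep⟩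
  · rintro ⟨hmap, -, hsep⟩
    refine ⟨?_, hmap⟩
    rw [halg]; exact hsep


end Groth.Agent.S2158
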