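import Groth.Statements.S2160
import Mathlib.RingTheory.Ideal.KrullsHeightTheorem
import Mathlib.RingTheory.Spectrum.Prime.Topology
import Mathlib.RingTheory.Ideal.MinimalPrime.Noetherian
import Mathlib.RingTheory.Ideal.Height

set_option autoImplicit false
universe u
open CAlg

namespace Groth.Agent.S2160

/-- Let `R` be a Noetherian local domain of Krull dimension at least `2`. Then every nonempty open
subset of `Spec R` is infinite. -/
theorem result {R : Type u} [CommRing R] [IsDomain R] [IsLocalRing R] [IsNoetherianRing R]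
    (hdim : 2 ≤ ringKrullDim R) (U : Set (PrimeSpectrum R)) (hU : IsOpen U) (hne : U.Nonempty) : U.Infinite := by
  classical
  intro hfin
  obtain ⟨q, hq⟩ := hne
  obtain ⟨_, ⟨f, rfl⟩, hqf, hfU⟩ := PrimeSpectrum.isTopologicalBasis_basic_opens.exists_subset_of_mem_open hq hU
  have hf0 : f ≠ 0 := fun h => hqf (h ▸ q.asIdeal.zero_mem)
  have hfin' : (PrimeSpectrum.basicOpen f : Set (PrimeSpectrum R)).Finite := hfin.subset hfU
  -- the finitely many primes of height at most one
  let A : Set (Ideal R) := (Ideal.span {f}).minimalPrimes ∪ {P | ∃ p ∈ (PrimeSpectrum.basicOpen f : Set (PrimeSpectrum R)), p.asIdeal = P ∧ P.height ≤ 1}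
  have hA : A.Finite := (Ideal.finite_minimalPrimes_of_isNoetherianRing R _).union
    ((hfin'.image PrimeSpectrum.asIdeal).subset (by rintro P ⟨p, hp, rfl, -⟩; exact ⟨p, hp, rfl⟩))
  have hht : ∀ P ∈ A, P.height ≤ 1 ∧ P.IsPrime := by
    rintro P (hP | ⟨p, -, rfl, hp⟩)
    · haveI := hP.1.1
      exact ⟨Ideal.height_le_one_of_isPrincipal_of_mem_minimalPrimes _ P hP, inferInstance⟩
    · exact ⟨hp, p.isPrime⟩
  have hcov : (IsLocalRing.maximalIdeal R : Set R) ⊆ ⋃ P ∈ (↑hA.toFinset : Set (Ideal R)), (P : Set R) := by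
    intro x hx
    rcases eq_or_ne x 0 with rfl | hx0
    · refine Set.mem_biUnion (Finset.mem_coe.2 (hA.mem_toFinset.2 (Or.inr ⟨⟨⊥, Ideal.isPrime_bot⟩, hf0, rfl, ?_⟩))) (Submodule.zero_mem _)
      rw [Ideal.height_bot]; exact bot_le
    · obtain ⟨P, hP⟩ := Ideal.nonempty_minimalPrimes (I := Ideal.span {x}) (fun h => hx (Ideal.span_singleton_eq_top.1 h))
      haveI := hP.1.1
      refine Set.mem_biUnion (Finset.mem_coe.2 (hA.mem_toFinset.2 ?_)) (hP.1.2 (Ideal.mem_span_singleton_self x))
      have hP1 := Ideal.height_le_one_of_isPrincipal_of_mem_minimalPrimes _ P hP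
      by_cases hfP : f ∈ P
      · refine Or.inl ⟨⟨inferInstance, (Ideal.span_singleton_le_iff_mem _).2 hfP⟩, fun Q hQ hQP => ?_⟩
        by_contra hne'
        have hlt : Q < P := lt_of_le_not_ge hQP hne'
        haveI := hQ.1
        have hQ0 : Q ≠ ⊥ := fun h => hf0 (by
          have := hQ.2 (Ideal.mem_span_singleton_self f)
          rw [h] at this; exact this)
        have h2 : (1 : ℕ∞) < P.height := by
          have hbq : (⊥ : Ideal R).height < Q.height := Ideal.height_strict_mono_of_isPrime (bot_lt_iff_ne_bot.2 hQ0)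
          have hQh : (1 : ℕ∞) ≤ Q.height := Order.one_le_iff_pos.2 (lt_of_le_of_lt bot_le hbq)
          exact lt_of_le_of_lt hQh (Ideal.height_strict_mono_of_isPrime hlt)
        exact absurd hP1 (not_le.2 h2)
      · exact Or.inr ⟨⟨P, inferInstance⟩, hfP, rfl, hP1⟩
  rw [Ideal.subset_union_prime ⊥ ⊥ fun P hP _ _ => (hht P (hA.mem_toFinset.1 hP)).2] at hcov
  obtain ⟨P, hP, hle⟩ := hcov
  haveI := (hht P (hA.mem_toFinset.1 hP)).2
  have h1 : P = IsLocalRing.maximalIdeal R := le_antisymm (IsLocalRing.le_maximalIdeal Ideal.IsPrime.ne_top') hle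
  have h2 := (hht P (hA.mem_toFinset.1 hP)).1
  rw [h1] at h2
  have h3 := hdim
  rw [← IsLocalRing.maximalIdeal_height_eq_ringKrullDim] at h3
  exact absurd (h3.trans (WithBot.coe_le_coe.2 h2)) (by decide)

end Groth.Agent.S2160
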