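import Groth.Statements.S2161
import Mathlib.FieldTheory.PurelyInseparable.Basic
import Mathlib.RingTheory.Spectrum.Prime.Topology
import Mathlib.RingTheory.Algebraic.Integral
import Mathlib.Algebra.Polynomial.Lifts
import Mathlib.RingTheory.LocalRing.ResidueField.Ideal
import Mathlib.RingTheory.LocalRing.ResidueField.Fiber
import Mathlib.RingTheory.LocalRing.ResidueField.Instances

set_option autoImplicit false
universe u
open CAlg

namespace Groth.Agent.S2161

/-- Let R → S be a ring map whose kernel consists of nilpotent elements, and suppose S is generated as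
an R-algebra by elements x for which some power (T − x)ⁿ, n > 0, is the image of a polynomial over
R. Then Spec S → Spec R is a homeomorphism, and for every prime 𝔮 of S over 𝔭 the extension
κ(𝔮)/κ(𝔭) is purely inseparable. -/
theorem result {R S : Type u} [CommRing R] [CommRing S] [Algebra R S]
    (hker : ∀ r : R, algebraMap R S r = 0 → IsNilpotent r) (G : Set S) (hG : Algebra.adjoin R G = ⊤)
    (hpow : ∀ x ∈ G, ∃ (n : ℕ) (P : Polynomial R), 0 < n ∧
      Polynomial.map (algebraMap R S) P = (Polynomial.X - Polynomial.C x) ^ n) :
    IsHomeomorph (PrimeSpectrum.comap (algebraMap R S)) ∧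
      ∀ (q : Ideal S) [q.IsPrime] (p : Ideal R) [p.IsPrime] [q.LiesOver p],
        @IsPurelyInseparable p.ResidueField q.ResidueField _ _
          (Ideal.ResidueField.mapₐ p q (Algebra.ofId R S) (q.over_def p)).toRingHom.toAlgebra := by
  classical
  have hint : ∀ s : S, IsIntegral R s := by
    intro s
    have : s ∈ Algebra.adjoin R G := by rw [hG]; trivial
    induction this using Algebra.adjoin_induction with
    | mem x hx =>
      obtain ⟨n, P, hn, hP⟩ := hpow x hx
      have hl : ((Polynomial.X - Polynomial.C x) ^ n) ∈ Polynomial.lifts (algebraMap R S) := ⟨P, hP⟩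
      obtain ⟨Q, hQ, -, hQm⟩ := Polynomial.lifts_and_natDegree_eq_and_monic hl ((Polynomial.monic_X_sub_C x).pow n)
      refine ⟨Q, hQm, ?_⟩
      rw [← Polynomial.eval_map, hQ]
      simp [zero_pow hn.ne']
    | algebraMap r => exact isIntegral_algebraMap
    | add x y _ _ hx hy => exact hx.add hy
    | mul x y _ _ hx hy => exact hx.mul hy
  haveI : Algebra.IsIntegral R S := ⟨hint⟩
  -- two homomorphisms from S to a field agreeing on R are equal
  have huniq : ∀ (Ω : Type u) [Field Ω] (φ ψ : S →+* Ω),
      φ.comp (algebraMap R S) = ψ.comp (algebraMap R S) → φ = ψ := by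
    intro Ω _ φ ψ h
    have : ∀ s, φ s = ψ s := by
      intro s
      have : s ∈ Algebra.adjoin R G := by rw [hG]; trivial
      induction this using Algebra.adjoin_induction with
      | mem x hx =>
        obtain ⟨n, P, hn, hP⟩ := hpow x hx
        have h1 := congrArg (Polynomial.map φ) hP
        have h2 := congrArg (Polynomial.map ψ) hP
        rw [Polynomial.map_map, h, ← Polynomial.map_map, h2] at h1
        have h3 := congrArg (Polynomial.eval (φ x)) h1
        simp [zero_pow hn.ne'] at h3
        exact sub_eq_zero.mp h3.1
      | algebraMap r => exact RingHom.congr_fun h r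
      | add x y _ _ hx hy => simp [hx, hy]
      | mul x y _ _ hx hy => simp [hx, hy]
    exact RingHom.ext this
  have halg : ∀ (q : Ideal S) [q.IsPrime] (p : Ideal R) [p.IsPrime] (h : p = q.comap (algebraMap R S)),
      @Algebra.IsAlgebraic p.ResidueField q.ResidueField _ _
        (Ideal.ResidueField.mapₐ p q (Algebra.ofId R S) h).toRingHom.toAlgebra := by
    intro q _ p _ h
    letI := (Ideal.ResidueField.mapₐ p q (Algebra.ofId R S) h).toRingHom.toAlgebra
    haveI : IsScalarTower R p.ResidueField q.ResidueField :=
      .of_algebraMap_eq fun r => ((Ideal.ResidueField.mapₐ p q (Algebra.ofId R S) h).commutes r).symm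
    constructor
    intro x
    obtain ⟨a, b, -, rfl⟩ := IsFractionRing.div_surjective (S ⧸ q) x
    obtain ⟨a, rfl⟩ := Ideal.Quotient.mk_surjective a
    obtain ⟨b, rfl⟩ := Ideal.Quotient.mk_surjective b
    have hi : ∀ s : S, IsAlgebraic p.ResidueField (algebraMap (S ⧸ q) q.ResidueField (Ideal.Quotient.mk q s)) := by
      intro s
      rw [← Ideal.Quotient.algebraMap_eq, ← IsScalarTower.algebraMap_apply]
      exact ((hint s).map (IsScalarTower.toAlgHom R S q.ResidueField)).tower_top.isAlgebraic
    rw [div_eq_mul_inv]
    exact (hi a).mul (hi b).inv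
  have hsurj : Function.Surjective (PrimeSpectrum.comap (algebraMap R S)) := by
    intro p
    obtain ⟨Q, -, hQ, hQc⟩ := Ideal.exists_ideal_over_prime_of_isIntegral (S := S) p.asIdeal ⊥
      (fun r hr => p.2.mem_of_pow_mem _ (by rw [(hker r (by simpa using hr)).choose_spec]; exact zero_mem _))
    exact ⟨⟨Q, hQ⟩, PrimeSpectrum.ext hQc⟩
  have hinj : Function.Injective (PrimeSpectrum.comap (algebraMap R S)) := by
    intro q q' h
    have hq : q.asIdeal.comap (algebraMap R S) = q'.asIdeal.comap (algebraMap R S) :=
      congrArg PrimeSpectrum.asIdeal h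
    let p := q.asIdeal.comap (algebraMap R S)
    haveI : q.asIdeal.LiesOver p := ⟨rfl⟩
    haveI : q'.asIdeal.LiesOver p := ⟨hq⟩
    letI := (Ideal.ResidueField.mapₐ p q.asIdeal (Algebra.ofId R S) rfl).toRingHom.toAlgebra
    letI := (Ideal.ResidueField.mapₐ p q'.asIdeal (Algebra.ofId R S) hq).toRingHom.toAlgebra
    let Ω := AlgebraicClosure q.asIdeal.ResidueField
    haveI : Algebra.IsAlgebraic p.ResidueField q'.asIdeal.ResidueField := halg q'.asIdeal p hq
    let e : q'.asIdeal.ResidueField →ₐ[p.ResidueField] Ω := IsAlgClosed.lift
    have hh := huniq Ω ((algebraMap q.asIdeal.ResidueField Ω).comp (algebraMap S q.asIdeal.ResidueField))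
      (e.toRingHom.comp (algebraMap S q'.asIdeal.ResidueField)) (by
        ext r
        simp only [RingHom.comp_apply]
        have e1 : algebraMap S q.asIdeal.ResidueField (algebraMap R S r) =
            algebraMap p.ResidueField q.asIdeal.ResidueField (algebraMap R p.ResidueField r) :=
          ((Ideal.ResidueField.mapₐ p q.asIdeal (Algebra.ofId R S) rfl).commutes r).symm
        have e2 : algebraMap S q'.asIdeal.ResidueField (algebraMap R S r) =
            algebraMap p.ResidueField q'.asIdeal.ResidueField (algebraMap R p.ResidueField r) :=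
          ((Ideal.ResidueField.mapₐ p q'.asIdeal (Algebra.ofId R S) hq).commutes r).symm
        rw [e1, e2]
        exact ((IsScalarTower.algebraMap_apply p.ResidueField q.asIdeal.ResidueField Ω _).symm).trans (e.commutes _).symm)
    apply PrimeSpectrum.ext
    ext s
    have := RingHom.congr_fun hh s
    simp only [RingHom.comp_apply] at this
    rw [← Ideal.algebraMap_residueField_eq_zero (I := q.asIdeal), ← Ideal.algebraMap_residueField_eq_zero (I := q'.asIdeal),
      ← map_eq_zero_iff _ (algebraMap q.asIdeal.ResidueField Ω).injective, this]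
    exact map_eq_zero_iff _ e.toRingHom.injective
  refine ⟨(isHomeomorph_iff_continuous_isClosedMap_bijective).mpr
    ⟨PrimeSpectrum.continuous_comap _, PrimeSpectrum.isClosedMap_comap_of_isIntegral _
      (algebraMap_isIntegral_iff.mpr inferInstance), hinj, hsurj⟩, ?_⟩
  intro q _ p _ hqp
  letI := (Ideal.ResidueField.mapₐ p q (Algebra.ofId R S) (q.over_def p)).toRingHom.toAlgebra
  haveI : Algebra.IsAlgebraic p.ResidueField q.ResidueField := halg q p (q.over_def p)
  apply isPurelyInseparable_of_finSepDegree_eq_one
  have : Subsingleton (Field.Emb p.ResidueField q.ResidueField) := ⟨fun f g => by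
    have hh := huniq _ (f.toRingHom.comp (algebraMap S q.ResidueField))
      (g.toRingHom.comp (algebraMap S q.ResidueField)) (by
        ext r
        simp only [RingHom.comp_apply]
        have e1 : algebraMap S q.ResidueField (algebraMap R S r) =
            algebraMap p.ResidueField q.ResidueField (algebraMap R p.ResidueField r) :=
          ((Ideal.ResidueField.mapₐ p q (Algebra.ofId R S) (q.over_def p)).commutes r).symm
        rw [e1]
        exact (f.commutes _).trans (g.commutes _).symm)
    apply AlgHom.coe_ringHom_injective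
    apply Ideal.ResidueField.ringHom_ext
    exact hh⟩
  haveI : Nonempty (Field.Emb p.ResidueField q.ResidueField) := ⟨IsScalarTower.toAlgHom _ _ _⟩
  exact Nat.card_eq_one_iff_unique.mpr ⟨by assumption, inferInstance⟩

end Groth.Agent.S2161
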