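import Groth.Statements.S2163
import Groth.Agent.MLMod.Flat

set_option autoImplicit false
universe u
open CAlg

open Groth.Agent TensorProduct
namespace Groth.Agent.S2163

/-- A ring `R` is coherent — every finitely generated ideal is a finitely presented module — if and only
if for every index set `A` (in the same universe) the product module `R^A` is flat. -/
theorem result {R : Type u} [CommRing R] :
    (∀ I : Ideal R, I.FG → Module.FinitePresentation R I) ↔ ∀ (A : Type u), Module.Flat R (A → R) := by
  classical
  constructor
  · intro h A
    refine Module.Flat.iff_rTensor_injective.mpr fun I hI => ?_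
    haveI : Module.FinitePresentation R I := h I hI
    rw [injective_iff_map_eq_zero]
    intro x hx
    refine MLMod.isML_of_finitePresentation A (fun _ => R) (funext fun a => ?_)
    rw [map_zero, Pi.zero_apply]
    haveI : Module.Flat R R := inferInstance
    refine (Module.Flat.rTensor_preserves_injective_linearMap I.subtype Subtype.val_injective) ?_
    rw [← MLMod.natural (Q := fun _ : A => R), map_zero]
    exact congrFun ((congrArg _ hx).trans (map_zero _)) a
  · intro h I hI
    haveI : Module.Finite R I := Module.Finite.iff_fg.2 hI
    obtain ⟨n, π, hπ⟩ := Module.Finite.exists_fin' R I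
    refine Module.finitePresentation_of_surjective π hπ ?_
    let K := LinearMap.ker π
    haveI := h K
    let co : Fin n → (K → R) := fun j k => (k : Fin n → R) j
    let x : (Fin n → R) ⊗[R] (K → R) := ∑ j, (Pi.single j 1) ⊗ₜ[R] co j
    have hx : π.rTensor (K → R) x = 0 := by
      refine (Module.Flat.rTensor_preserves_injective_linearMap (M := (K → R)) I.subtype Subtype.val_injective) ?_
      apply (TensorProduct.lid R (K → R)).injective
      rw [map_zero, map_zero]
      funext k
      have hk := congrArg Subtype.val (LinearMap.mem_ker.1 k.2)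
      rw [pi_eq_sum_univ' (k : Fin n → R)] at hk
      simp only [x, co, map_sum, LinearMap.rTensor_tmul, TensorProduct.lid_tmul, Finset.sum_apply, Pi.smul_apply, smul_eq_mul, Pi.zero_apply]
      simpa [map_sum, mul_comm] using hk
    obtain ⟨w, hw⟩ := (rTensor_exact (K → R) (LinearMap.exact_subtype_ker_map π) hπ x).1 hx
    obtain ⟨s, g, hs⟩ : ∃ (s : Finset K) (g : K → K → R), w = ∑ l ∈ s, l ⊗ₜ[R] g l := by
      clear hw
      induction w with
      | zero => exact ⟨∅, 0, by simp⟩
      | tmul k f => exact ⟨{k}, fun _ => f, by simp⟩
      | add a b ha hb =>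
        obtain ⟨s, g, rfl⟩ := ha
        obtain ⟨t, g', rfl⟩ := hb
        refine ⟨s ∪ t, fun l => (if l ∈ s then g l else 0) + (if l ∈ t then g' l else 0), ?_⟩
        simp only [TensorProduct.tmul_add, Finset.sum_add_distrib]
        congr 1 <;> [rw [← Finset.sum_subset Finset.subset_union_left (fun l _ hl => by simp [hl])]; rw [← Finset.sum_subset Finset.subset_union_right (fun l _ hl => by simp [hl])]] <;>
          exact Finset.sum_congr rfl fun l hl => by simp [hl]
    rw [Submodule.fg_def]
    refine ⟨Subtype.val '' (s : Set K), s.finite_toSet.image _, le_antisymm (Submodule.span_le.2 ?_) ?_⟩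
    · rintro _ ⟨l, -, rfl⟩; exact l.2
    intro k hk
    have := congrArg (fun z => (TensorProduct.rid R (Fin n → R)) ((LinearMap.lTensor (Fin n → R) (LinearMap.proj (R := R) (φ := fun _ : K => R) ⟨k, hk⟩)) z)) hw
    simp only [hs, x, co, map_sum, LinearMap.rTensor_tmul, LinearMap.lTensor_tmul, LinearMap.proj_apply, TensorProduct.rid_tmul] at this
    have hks : k = ∑ j, k j • (Pi.single j 1 : Fin n → R) := pi_eq_sum_univ' k
    rw [hks, ← this]
    exact sum_mem fun l hl => Submodule.smul_mem _ _ (Submodule.subset_span ⟨l, hl, rfl⟩)

end Groth.Agent.S2163
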