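import Groth.Statements.S2165
import Groth.Agent.S2166

set_option autoImplicit false
set_option linter.style.haveILetI false
set_option backward.isDefEq.respectTransparency false
open Groth.Agent
universe u
open LCI

namespace Groth.Agent.S2165

/-- Let R be a regular ring, p a prime ideal of R and f_1, ..., f_r a regular sequence of R contained in
p. Then the local ring R_p/(f_1, ..., f_r) is a complete intersection: its completion is a regular
local ring modulo a regular sequence. The instance hypothesis that the quotient is local always
holds. -/
theorem result {R : Type u} [CommRing R] [IsRegularRing R]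
    (p : Ideal R) [p.IsPrime] (rs : List R) (hmem : ∀ r ∈ rs, r ∈ p)
    (hreg : RingTheory.Sequence.IsRegular R rs)
    [IsLocalRing (Localization.AtPrime p ⧸
      Ideal.map (algebraMap R (Localization.AtPrime p)) (Ideal.ofList rs))] :
    Pi1.IsCompleteIntersection (Localization.AtPrime p ⧸
      Ideal.map (algebraMap R (Localization.AtPrime p)) (Ideal.ofList rs)) := by
  let L := Localization.AtPrime p
  haveI : IsRegularLocalRing L := IsRegularRing.isRegularLocalRing_localization p
  haveI : Module.Flat R L := IsLocalization.flat L p.primeCompl
  have hle : Ideal.ofList rs ≤ p := Ideal.span_le.2 hmem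
  have hmax : ∀ x ∈ rs.map (algebraMap R L), x ∈ IsLocalRing.maximalIdeal L := by
    intro x hx
    obtain ⟨r, hr, rfl⟩ := List.mem_map.1 hx
    rw [← IsLocalization.AtPrime.map_eq_maximalIdeal p L]
    exact Ideal.mem_map_of_mem _ (hmem r hr)
  refine (Groth.Agent.S2166.result _ ?_).2 ⟨rs.map (algebraMap R L), (Ideal.map_ofList (algebraMap R L) rs).symm,
    (IsLocalRing.isRegular_iff_isWeaklyRegular_of_subset_maximalIdeal hmax).2 hreg.toIsWeaklyRegular.of_flat⟩
  exact ne_top_of_le_ne_top (IsLocalRing.maximalIdeal.isMaximal L).ne_top
    ((Ideal.map_mono hle).trans (IsLocalization.AtPrime.map_eq_maximalIdeal p L).le)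

end Groth.Agent.S2165
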