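import Groth.Statements.S2167
import Groth.Agent.CotT.CI

set_option autoImplicit false
set_option linter.style.haveILetI false
set_option backward.isDefEq.respectTransparency false
open Groth.Agent
universe u
open LCI

namespace Groth.Agent.S2167

/-- Equivalence of (2) and (3), special case with R already a regular local ring: for a regular local
ring R and a proper ideal I, the ideal I is generated by a regular sequence if and only if the
conormal module I/I^2 can be generated by (dim R - dim R/I) elements, the inequality below being the
additive form of that count. -/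
theorem result {R : Type u} [CommRing R] [IsRegularLocalRing R]
    (I : Ideal R) (hI : I ≠ ⊤) :
    (∃ rs : List R, Ideal.ofList rs = I ∧ RingTheory.Sequence.IsRegular R rs) ↔
      (((⊤ : Submodule (R ⧸ I) I.Cotangent).spanFinrank : WithBot ℕ∞) + ringKrullDim (R ⧸ I)
        ≤ ringKrullDim R) := by
  classical
  have hjac : I ≤ Ring.jacobson R := by
    rw [Ring.jacobson_eq_sInf_isMaximal]
    exact le_sInf fun m hm => (IsLocalRing.le_maximalIdeal hI).trans (IsLocalRing.eq_maximalIdeal hm).ge
  constructor
  · rintro ⟨rs, hrs, hreg⟩
    have hne : Ideal.ofList rs ≠ ⊤ := hrs ▸ hI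
    have hd := CotT.dim_of_isWeaklyRegular rs hne hreg.toIsWeaklyRegular
    rw [hrs] at hd
    rw [← hd]
    gcongr
    let v : Fin rs.length → I.Cotangent := fun i =>
      I.toCotangent ⟨rs.get i, hrs.le (Ideal.subset_span (List.get_mem rs i))⟩
    have hsp : Submodule.span (R ⧸ I) (Set.range v) = ⊤ := by
      rw [eq_top_iff]
      intro c _
      obtain ⟨⟨x, hx⟩, rfl⟩ := I.toCotangent_surjective c
      have hx' : x ∈ Submodule.span R (Set.range rs.get) := by
        rw [Set.range_list_get]
        exact hrs.ge hx
      obtain ⟨a, ha⟩ := (Submodule.mem_span_range_iff_exists_fun R).1 hx'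
      have : (⟨x, hx⟩ : I) = ∑ i, a i • (⟨rs.get i, hrs.le (Ideal.subset_span (List.get_mem rs i))⟩ : I) :=
        Subtype.ext (by simp [← ha])
      rw [this, map_sum]
      refine Submodule.sum_mem _ fun i _ => ?_
      rw [map_smul, ← algebraMap_smul (R ⧸ I) (a i)]
      exact Submodule.smul_mem _ _ (Submodule.subset_span ⟨i, rfl⟩)
    rw [← hsp]
    refine (Submodule.spanFinrank_span_le_ncard_of_finite (Set.finite_range v)).trans ?_
    rw [← Nat.card_coe_set_eq]
    refine (Nat.card_le_card_of_surjective (Set.rangeFactorization v) Set.rangeFactorization_surjective).trans ?_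
    simp
  · intro h
    haveI : Module.Finite (R ⧸ I) I.Cotangent := Module.Finite.of_restrictScalars_finite R _ _
    obtain ⟨s, hcard, hspan⟩ := Submodule.FG.exists_span_finset_card_eq_spanFinrank
      (Module.Finite.fg_top (R := R ⧸ I) (M := I.Cotangent))
    have hs : ∀ c : I.Cotangent, ∃ x : I, I.toCotangent x = c := I.toCotangent_surjective
    choose σ hσ using hs
    let rs : List R := s.toList.map fun c => (σ c : R)
    have hle : Ideal.ofList rs ≤ I := Ideal.span_le.2 fun x hx => by
      obtain ⟨c, -, rfl⟩ := List.mem_map.1 hx
      exact (σ c).2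
    have hge : I ≤ Ideal.ofList rs := by
      refine Submodule.le_of_le_smul_of_le_jacobson_bot (IsNoetherian.noetherian I)
        ((IsLocalRing.le_maximalIdeal hI).trans (IsLocalRing.maximalIdeal_le_jacobson _)) ?_
      intro x hx
      let P : Submodule R I.Cotangent := (Submodule.comap I.subtype (Ideal.ofList rs)).map I.toCotangent
      have hP : ∀ c ∈ Submodule.span (R ⧸ I) (s : Set I.Cotangent), c ∈ P := by
        intro c hc
        induction hc using Submodule.span_induction with
        | mem c hc => exact ⟨σ c, Ideal.subset_span (List.mem_map_of_mem (f := fun c => (σ c : R)) (Finset.mem_toList.2 hc)), hσ c⟩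
        | zero => exact Submodule.zero_mem _
        | add a b _ _ ha hb => exact Submodule.add_mem _ ha hb
        | smul q a _ ha =>
          obtain ⟨r, rfl⟩ := Ideal.Quotient.mk_surjective q
          rw [show Ideal.Quotient.mk I r • a = r • a from algebraMap_smul (R ⧸ I) r a]
          exact P.smul_mem r ha
      obtain ⟨y, hy, hyx⟩ := hP (I.toCotangent ⟨x, hx⟩) (by rw [hspan]; trivial)
      rw [Ideal.toCotangent_eq, pow_two] at hyx
      have h1 : x = (y : R) - ((y : R) - x) := by ring
      rw [h1]
      exact Submodule.sub_mem _ (Submodule.mem_sup_left hy) (Submodule.mem_sup_right hyx)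
    have heq : Ideal.ofList rs = I := le_antisymm hle hge
    have hlen : rs.length = (⊤ : Submodule (R ⧸ I) I.Cotangent).spanFinrank := by
      simp [rs, hcard]
    refine ⟨rs, heq, (IsLocalRing.isRegular_iff_isWeaklyRegular_of_subset_maximalIdeal fun x hx =>
      IsLocalRing.le_maximalIdeal hI (heq ▸ Ideal.subset_span hx)).2 (CotT.isWeaklyRegular_of_dim rs (heq ▸ hI) ?_)⟩
    rw [heq]
    refine le_antisymm (hlen ▸ h) ?_
    refine (ringKrullDim_le_ringKrullDim_quotient_add_spanFinrank I hjac).trans ?_
    rw [add_comm]
    gcongr
    rw [← heq]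
    refine (Submodule.spanFinrank_span_le_ncard_of_finite (List.finite_toSet rs)).trans ?_
    rw [← List.coe_toFinset, Set.ncard_coe_finset]
    exact List.toFinset_card_le rs

end Groth.Agent.S2167
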