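import Groth.Statements.S2170
import Groth.Agent.NumType.Form

set_option autoImplicit false
open Finset
open Models

namespace Groth.Agent.S2170

/-- Let A be a symmetric real n × n matrix with non-negative off-diagonal entries and m a vector with
positive entries such that for every i, ∑_{j ≠ i} A_{ij} m_j ≤ −A_{ii} m_i. Then the kernel of A is
the span of the vectors equal to m on an index set I and zero off I, for those I such that A_{ij} =
0 whenever i ∈ I and j ∉ I and such that equality holds in the above inequality for every i ∈ I. The
published statement omits the symmetry of A (without which it fails) and applies it only to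
symmetric matrices; stated here with A symmetric. -/
theorem result {n : ℕ} (A : Matrix (Fin n) (Fin n) ℝ) (m : Fin n → ℝ)
    (hsymm : A.IsSymm) (hA : ∀ i j, i ≠ j → 0 ≤ A i j) (hm : ∀ i, 0 < m i)
    (hle : ∀ i, ∑ j ∈ univ.erase i, A i j * m j ≤ -(A i i * m i)) :
    LinearMap.ker (Matrix.mulVecLin A) = Submodule.span ℝ
      {x : Fin n → ℝ | ∃ I : Finset (Fin n), (∀ i ∈ I, ∀ j ∉ I, A i j = 0) ∧
        (∀ i ∈ I, ∑ j ∈ univ.erase i, A i j * m j = -(A i i * m i)) ∧
        x = fun i => if i ∈ I then m i else 0} := by
  open Groth.Agent.NumType in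
  open Finset in
  have hrow : ∀ i, ∑ j, A i j * m j = A i i * m i + ∑ j ∈ univ.erase i, A i j * m j :=
    fun i => (add_sum_erase univ _ (mem_univ i)).symm
  apply le_antisymm
  · intro x hx
    rw [LinearMap.mem_ker, Matrix.mulVecLin_apply] at hx
    set y : Fin n → ℝ := fun i => x i / m i
    have hxy : ∀ i, m i * y i = x i := fun i => by simp [y, mul_div_cancel₀ _ (hm i).ne']
    have hform := form_nonpos (A := A) (m := m) hsymm hA hm
      (fun i => by rw [hrow]; linarith [hle i]) y
    simp only [hxy] at hform
    have h0 : ∑ i, ∑ j, A i j * x i * x j = 0 := by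
      refine sum_eq_zero fun i _ => ?_
      have := congrFun hx i
      simp only [Matrix.mulVec, dotProduct, Pi.zero_apply] at this
      calc ∑ j, A i j * x i * x j = x i * ∑ j, A i j * x j := by
            rw [mul_sum]; exact sum_congr rfl fun j _ => by ring
        _ = 0 := by rw [this, mul_zero]
    obtain ⟨hz, hc⟩ := hform.2 h0
    have hx' : x = ∑ c ∈ (univ.image y).filter (· ≠ 0),
        c • fun i => if i ∈ univ.filter (fun j => y j = c) then m i else 0 := by
      funext i
      simp only [Finset.sum_apply, Pi.smul_apply, smul_eq_mul, mem_filter, mem_univ, true_and,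
        mul_ite, mul_zero, sum_ite_eq]
      by_cases h : y i = 0
      · rw [if_neg (by simp [h]), ← hxy, h, mul_zero]
      · rw [if_pos ⟨mem_image_of_mem y (mem_univ i), h⟩, ← hxy, mul_comm]
    rw [hx']
    refine Submodule.sum_mem _ fun c hc' => Submodule.smul_mem _ c (Submodule.subset_span
      ⟨univ.filter fun j => y j = c, ?_, ?_, rfl⟩)
    · intro i hi j hj
      by_contra h
      exact hj (by simpa [← hc i j h] using hi)
    · intro i hi
      have := hz i (by rw [(mem_filter.1 hi).2]; exact (mem_filter.1 hc').2)
      rw [hrow] at this; linarith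
  · rw [Submodule.span_le]
    rintro x ⟨I, h1, h2, rfl⟩
    rw [SetLike.mem_coe, LinearMap.mem_ker, Matrix.mulVecLin_apply]
    funext i
    simp only [Matrix.mulVec, dotProduct, Pi.zero_apply, mul_ite, mul_zero]
    by_cases hi : i ∈ I
    · rw [sum_congr rfl (g := fun j => A i j * m j) fun j _ => ?_, hrow]
      · linarith [h2 i hi]
      · split_ifs with h
        · rfl
        · rw [h1 i hi j h, zero_mul]
    · refine sum_eq_zero fun j _ => ?_
      split_ifs with h
      · rw [← hsymm.apply i j, h1 j h i hi, zero_mul]
      · rfl

end Groth.Agent.S2170
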