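import Groth.Statements.S2171
import Groth.Agent.NumType.Form

set_option autoImplicit false
open Finset
open Models

namespace Groth.Agent.S2171

/-- Let A be a symmetric real n by n matrix with non-negative off-diagonal entries, m a vector with
positive entries such that A m = 0, and assume no proper non-empty index set I has A i j = 0 for all
i in I and j outside I. Then x^t A x is at most 0 for every real vector x, with equality exactly
when x is a real multiple of m. -/
theorem result {n : ℕ} (A : Matrix (Fin n) (Fin n) ℝ)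
    (m : Fin n → ℝ) (hsymm : A.IsSymm) (hA : ∀ i j, i ≠ j → 0 ≤ A i j) (hm : ∀ i, 0 < m i)
    (hAm : A.mulVec m = 0)
    (hconn : ∀ I : Finset (Fin n), I.Nonempty → I ≠ univ → ∃ i ∈ I, ∃ j ∉ I, A i j ≠ 0)
    (x : Fin n → ℝ) :
    dotProduct x (A.mulVec x) ≤ 0 ∧ (dotProduct x (A.mulVec x) = 0 ↔ ∃ q : ℝ, x = q • m) := by
  open Groth.Agent.NumType in
  open Finset in
  have hAm' : ∀ i, ∑ j, A i j * m j = 0 := fun i => congrFun hAm i
  have hdot : ∀ x : Fin n → ℝ, dotProduct x (A.mulVec x) = ∑ i, ∑ j, A i j * x i * x j := fun x => by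
    simp only [Matrix.mulVec, dotProduct, mul_sum]
    exact sum_congr rfl fun i _ => sum_congr rfl fun j _ => by ring
  set y : Fin n → ℝ := fun i => x i / m i
  have hxy : ∀ i, m i * y i = x i := fun i => by simp [y, mul_div_cancel₀ _ (hm i).ne']
  have hform := form_nonpos (A := A) (m := m) hsymm hA hm (fun i => (hAm' i).le) y
  simp only [hxy] at hform
  rw [hdot]
  refine ⟨hform.1, fun h => ?_, ?_⟩
  · rcases isEmpty_or_nonempty (Fin n) with hn | ⟨⟨i0⟩⟩
    · exact ⟨0, funext fun i => hn.elim i⟩
    refine ⟨y i0, funext fun i => ?_⟩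
    rw [Pi.smul_apply, smul_eq_mul, ← const_of_connected hconn y (hform.2 h).2 i0 i, ← hxy, mul_comm]
  · rintro ⟨q, rfl⟩
    rw [← hdot, Matrix.mulVec_smul, hAm, smul_zero, dotProduct_zero]

end Groth.Agent.S2171
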