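import Groth.Statements.S2172
import Groth.Agent.NumType.TorsionBound

set_option autoImplicit false
open Finset
open Models

namespace Groth.Agent.S2172

/-- Let A be a symmetric integer n by n matrix with non-negative off-diagonal entries killing an integer
vector m with positive entries, such that no proper non-empty index set is orthogonal to its
complement. Write e for the number of index pairs i < j where A i j > 0, and let l be a prime
dividing none of the nonzero entries of A and none of the m i. Then the l-torsion subgroup of the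
cokernel of A on Z^n has at most l^(1 - n + e) elements, i.e. F_l-dimension at most 1 - n + e (the
exponent is written with truncated subtraction; e + 1 is never smaller than n here). -/
theorem result {n : ℕ} (A : Matrix (Fin n) (Fin n) ℤ)
    (m : Fin n → ℤ) (hsymm : A.IsSymm) (hA : ∀ i j, i ≠ j → 0 ≤ A i j) (hm : ∀ i, 0 < m i)
    (hAm : A.mulVec m = 0)
    (hconn : ∀ I : Finset (Fin n), I.Nonempty → I ≠ univ → ∃ i ∈ I, ∃ j ∉ I, A i j ≠ 0)
    (ℓ : ℕ) (hℓ : ℓ.Prime) (hℓA : ∀ i j, A i j ≠ 0 → ¬ ((ℓ : ℤ) ∣ A i j))
    (hℓm : ∀ i, ¬ ((ℓ : ℤ) ∣ m i)) :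
    Nat.card (Submodule.torsionBy ℤ ((Fin n → ℤ) ⧸ LinearMap.range (Matrix.mulVecLin A)) (ℓ : ℤ))
      ≤ ℓ ^ ((univ.filter fun p : Fin n × Fin n => p.1 < p.2 ∧ 0 < A p.1 p.2).card + 1 - n) := by
  classical
  haveI := Fact.mk hℓ
  rcases Nat.eq_zero_or_pos n with rfl | hn
  · rw [Nat.card_eq_one_iff_unique.2 ⟨inferInstance, inferInstance⟩]
    exact Nat.one_le_pow _ _ hℓ.pos
  let T : Models.NumericalType n :=
    { m := m
      a := A
      w := fun _ => 1
      g := fun _ => 0
      pos := hn
      m_pos := hm
      w_pos := fun _ => one_pos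
      g_nonneg := fun _ => le_rfl
      symm := hsymm
      offDiag_nonneg := hA
      connected := hconn
      mulVec_m := hAm
      w_dvd := fun _ _ => one_dvd _ }
  have hP : T.picMatrix = A := by ext i j; exact Int.ediv_one _
  have h := Groth.Agent.NumType.finite_picTor_and_card_le T ℓ
    (fun i h => hℓm i ((ZMod.intCast_zmod_eq_zero_iff_dvd _ _).1 h))
    (fun p h => hℓA _ _ p.2.2.ne' ((ZMod.intCast_zmod_eq_zero_iff_dvd _ _).1 h))
  have htop : T.topGenus.toNat =
      (univ.filter fun p : Fin n × Fin n => p.1 < p.2 ∧ 0 < A p.1 p.2).card + 1 - n := by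
    rw [Models.NumericalType.topGenus, Models.NumericalType.edgeCount]
    show (1 - (n : ℤ) + ((univ.filter fun p : Fin n × Fin n => p.1 < p.2 ∧ 0 < A p.1 p.2).card : ℤ)).toNat = _
    omega
  rw [← htop]
  have h2 := h.2
  unfold Groth.Agent.NumType.picTor Models.NumericalType.Pic at h2
  rw [hP] at h2
  exact h2

end Groth.Agent.S2172
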