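import Groth.Statements.S2179
import Groth.Agent.NumType.Genus

set_option autoImplicit false
open Finset
open Models Models.NumericalType

namespace Groth.Agent.S2179

/-- For a numerical type T, the map Z^n -> Z^n multiplying the i-th coordinate by w i induces a
well-defined injective homomorphism from Pic(T), the cokernel of (a i j / w i), to the cokernel of
the matrix a. -/
theorem result {n : ℕ} (T : Models.NumericalType n) :
    ∃ f : T.Pic →+ T.CokerA, Function.Injective f ∧
      ∀ x : Fin n → ℤ, f (Submodule.Quotient.mk x) = Submodule.Quotient.mk (fun i => T.w i * x i) := by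
  let D : (Fin n → ℤ) →ₗ[ℤ] (Fin n → ℤ) :=
    { toFun := fun x i => T.w i * x i
      map_add' := fun x y => by funext i; simp only [Pi.add_apply]; ring
      map_smul' := fun c x => by funext i; simp only [Pi.smul_apply, smul_eq_mul, RingHom.id_apply]; ring }
  have key : ∀ z, D (T.picMatrix.mulVec z) = T.a.mulVec z := fun z => by
    funext i
    show T.w i * _ = _
    simp only [Matrix.mulVec, dotProduct, Finset.mul_sum]
    exact Finset.sum_congr rfl fun j _ => by
      rw [← mul_assoc, Models.NumericalType.picMatrix, Int.mul_ediv_cancel' (T.w_dvd i j)]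
  have hle : LinearMap.range (Matrix.mulVecLin T.picMatrix)
      ≤ (LinearMap.range (Matrix.mulVecLin T.a)).comap D := by
    rintro _ ⟨z, rfl⟩; exact ⟨z, (key z).symm⟩
  refine ⟨(Submodule.mapQ _ _ D hle).toAddMonoidHom, ?_, fun x => rfl⟩
  rw [injective_iff_map_eq_zero]
  intro a ha
  obtain ⟨x, rfl⟩ := Submodule.Quotient.mk_surjective _ a
  obtain ⟨z, hz⟩ : D x ∈ LinearMap.range (Matrix.mulVecLin T.a) := (Submodule.Quotient.mk_eq_zero _).1 ha
  rw [Submodule.Quotient.mk_eq_zero]
  refine ⟨z, funext fun i => mul_left_cancel₀ (T.w_pos i).ne' ?_⟩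
  rw [Matrix.mulVecLin_apply] at hz ⊢
  exact (congrFun (key z) i).trans (congrFun hz i)

end Groth.Agent.S2179
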