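import Groth.Statements.S2182
import Groth.Agent.NumType.Genus

set_option autoImplicit false
open Finset
open Models Models.NumericalType

namespace Groth.Agent.S2182

/-- In a numerical type, whenever a i j > 0 one has m i * a i j at most m j * |a j j| and m i * w i at
most m j * |a j j|. -/
theorem result {n : ℕ} (T : Models.NumericalType n) (i j : Fin n) (hij : 0 < T.a i j) :
    T.m i * T.a i j ≤ T.m j * |T.a j j| ∧ T.m i * T.w i ≤ T.m j * |T.a j j| := by
  have hne : j ≠ i := by
    rintro rfl; linarith [Groth.Agent.NumType.diag_nonpos T j]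
  have h1 := Groth.Agent.NumType.term_le T (i := j) (j := i) hne.symm
  have h2 := Groth.Agent.NumType.row_eq T j
  rw [T.symm.apply i j] at h1
  rw [abs_of_nonpos (Groth.Agent.NumType.diag_nonpos T j)]
  have h3 : T.w i ≤ T.a i j := Int.le_of_dvd hij (T.w_dvd i j)
  constructor <;> nlinarith [T.m_pos i]

end Groth.Agent.S2182
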