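import Groth.Statements.S2190
import Groth.Agent.NumType.Genus

set_option autoImplicit false
open Finset
open Models Models.NumericalType

namespace Groth.Agent.S2190

/-- A minimal numerical type of genus zero has a single index, with m = 1, a = 0, w = 1 and g = 0. -/
theorem result {n : ℕ} (T : Models.NumericalType n) (hmin : T.IsMinimal) (hg : T.genus = 0) :
    n = 1 ∧ ∀ i, T.m i = 1 ∧ T.a i i = 0 ∧ T.w i = 1 ∧ T.g i = 0 := by
  have hn : n = 1 := by
    by_contra h
    have := T.pos
    have := Groth.Agent.NumType.one_le_genus T hmin (by omega)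
    omega
  subst hn
  refine ⟨rfl, fun i => ?_⟩
  obtain rfl : i = 0 := Subsingleton.elim _ _
  obtain ⟨ha, hgen⟩ := Groth.Agent.NumType.singleton_vals T
  have hm := T.m_pos 0; have hw := T.w_pos 0; have hg0 := T.g_nonneg 0
  have hg1 : T.g 0 = 0 := by
    by_contra h
    have : 0 ≤ T.m 0 * T.w 0 * (T.g 0 - 1) := mul_nonneg (mul_pos hm hw).le (by omega)
    omega
  have h1 : T.m 0 * T.w 0 = 1 := by rw [hg1] at hgen; linarith
  refine ⟨?_, ha, ?_, hg1⟩
  · exact Int.eq_one_of_mul_eq_one_right hm.le h1
  · exact Int.eq_one_of_mul_eq_one_left hw.le h1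

end Groth.Agent.S2190
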