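import Groth.Statements.S2198
import Groth.Agent.QCGen.Basic
import Groth.Agent.QC.IdealMod
import Groth.Agent.CohQC.QuasiAffine
import Groth.Agent.FPChar.Basic
import Groth.Agent.S2214
import Groth.Agent.SchDense.Unit
import Mathlib.RingTheory.LocalRing.Module

set_option autoImplicit false
set_option maxHeartbeats 400000
set_option linter.style.haveILetI false
set_option backward.isDefEq.respectTransparency false
set_option backward.isDefEq.respectTransparency.types false
universe u
open CategoryTheory AlgebraicGeometry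
open QCohCat

namespace Groth.Agent.S2198

open CategoryTheory.Limits Opposite TopologicalSpace
open scoped TensorProduct
open Groth.Agent.QC (res resO)

attribute [local instance] Cardinal.fact_isRegular_aleph0

/-- A finite module not annihilated outside a prime maps nontrivially to the quotient by the prime. -/
lemma exists_map_quotient {R M : Type u} [CommRing R] [AddCommGroup M] [Module R M] [Module.Finite R M]
    (p : Ideal R) [p.IsPrime] (h : ∀ r, (∀ m : M, r • m = 0) → r ∈ p) :
    ∃ g : M →ₗ[R] R ⧸ p, g ≠ 0 := by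
  classical
  let k := p.ResidueField
  haveI : Nontrivial (k ⊗[R] M) := by
    apply (Module.mem_support_iff_nontrivial_residueField_tensorProduct ⟨p, inferInstance⟩).mp
    rw [Module.support_eq_zeroLocus, PrimeSpectrum.mem_zeroLocus]
    exact fun r hr => h r (Module.mem_annihilator.mp hr)
  obtain ⟨v, hv⟩ := exists_ne (0 : k ⊗[R] M)
  obtain ⟨f, hf⟩ : ∃ f : k ⊗[R] M →ₗ[k] k, f v ≠ 0 := by
    by_contra! H
    exact hv ((Module.forall_dual_apply_eq_zero_iff k v).mp H)
  let g : M →ₗ[R] k := (f.restrictScalars R).comp (TensorProduct.mk R k M 1)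
  have hg : g ≠ 0 := fun H => hf (by
    have : ∀ w, f w = 0 := fun w => by
      induction w using TensorProduct.induction_on with
      | zero => exact map_zero f
      | tmul c m =>
        rw [show c ⊗ₜ[R] m = c • ((1 : k) ⊗ₜ[R] m) by rw [TensorProduct.smul_tmul', smul_eq_mul, mul_one],
          map_smul, show f (1 ⊗ₜ m) = 0 from LinearMap.congr_fun H m, smul_zero]
      | add a b ha hb => rw [map_add, ha, hb, add_zero]
    exact this v)
  obtain ⟨s, hs⟩ := Module.Finite.fg_top (R := R) (M := M)
  obtain ⟨d, hd⟩ := IsLocalization.exist_integer_multiples (nonZeroDivisors (R ⧸ p)) s g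
  obtain ⟨d', hd'⟩ := Ideal.Quotient.mk_surjective (d : R ⧸ p)
  let ι : (R ⧸ p) →ₗ[R] k := (IsScalarTower.toAlgHom R (R ⧸ p) k).toLinearMap
  have hι : Function.Injective ι := IsFractionRing.injective (R ⧸ p) k
  have hmem : ∀ m, (d' • g) m ∈ LinearMap.range ι := by
    intro m
    refine Submodule.span_induction (p := fun m _ => (d' • g) m ∈ LinearMap.range ι) (fun x hx => ?_)
      (by simp) (fun a b _ _ ha hb => by rw [map_add]; exact add_mem ha hb)
      (fun c a _ ha => by rw [map_smul]; exact Submodule.smul_mem _ c ha) (hs ▸ Submodule.mem_top : m ∈ _)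
    obtain ⟨y, hy⟩ := hd x hx
    refine ⟨y, ?_⟩
    change algebraMap (R ⧸ p) k y = d' • g x
    rw [hy, ← hd', ← Ideal.Quotient.algebraMap_eq, algebraMap_smul]
  let e := LinearEquiv.ofInjective ι hι
  refine ⟨e.symm.toLinearMap.comp ((d' • g).codRestrict _ hmem), fun H => hg (LinearMap.ext fun m => ?_)⟩
  have h1 : (d' • g) m = 0 :=
    congrArg Subtype.val (e.symm.map_eq_zero_iff.mp (LinearMap.congr_fun H m))
  have h2 : (d : R ⧸ p) • g m = 0 := by
    rwa [← hd', ← Ideal.Quotient.algebraMap_eq, algebraMap_smul]
  rw [Algebra.smul_def] at h2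
  exact (mul_eq_zero.mp h2).resolve_left fun h3 =>
    nonZeroDivisors.ne_zero d.2 (IsFractionRing.injective (R ⧸ p) k (h3.trans (map_zero _).symm))

variable {X : Scheme.{u}} {R : Type u} [CommRing R] (e : QCohCat.QCoh X ≌ ModuleCat.{u} R)

/-- The structure sheaf as a quasi-coherent module. -/
noncomputable def O (X : Scheme.{u}) : QCohCat.QCoh X := ⟨Coh.structureModule X, QC.isQCoh_unit X⟩

/-- `1` as a section of the structure module. -/
def one (X : Scheme.{u}) (W : X.Opens) : Γ((O X).obj, W) := (1 : Γ(X, W))

lemma res_one {V W : X.Opens} (h : V ≤ W) : res (O X).obj h (one X W) = one X V :=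
  map_one (resO X h)

lemma smul_one' {W : X.Opens} (t : Γ(X, W)) : t • one X W = (show Γ((O X).obj, W) from t) :=
  mul_one t

/-- The action of `R` on the identity functor. -/
noncomputable def act (r : R) (F : QCohCat.QCoh X) : F ⟶ F :=
  e.functor.preimage (ModuleCat.ofHom (r • LinearMap.id (R := R) (M := e.functor.obj F)))

lemma map_act_apply (r : R) (F : QCohCat.QCoh X) (m : e.functor.obj F) :
    e.functor.map (act e r F) m = r • m := by
  rw [act, Functor.map_preimage]
  rfl

lemma map_act (r : R) (F : QCohCat.QCoh X) :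
    e.functor.map (act e r F) = ModuleCat.ofHom (r • LinearMap.id (R := R) (M := e.functor.obj F)) :=
  Functor.map_preimage _ _

lemma act_nat (r : R) {F G : QCohCat.QCoh X} (φ : F ⟶ G) : act e r F ≫ φ = φ ≫ act e r G := by
  apply e.functor.map_injective
  ext m
  rw [Functor.map_comp, Functor.map_comp, ModuleCat.comp_apply, ModuleCat.comp_apply, map_act_apply,
    map_act_apply, map_smul]

lemma act_app_nat (r : R) {F G : QCohCat.QCoh X} (φ : F.obj ⟶ G.obj) (W : X.Opens) (s : Γ(F.obj, W)) :
    φ.app W ((act e r F).hom.app W s) = (act e r G).hom.app W (φ.app W s) :=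
  ConcreteCategory.congr_hom (congrArg (fun ψ => Scheme.Modules.Hom.app ψ W)
    (congrArg InducedCategory.Hom.hom (act_nat e r (ObjectProperty.homMk φ : F ⟶ G)))) s

/-- The function by which `r` acts. -/
noncomputable def fn (r : R) : Γ(X, ⊤) := (act e r (O X)).hom.app ⊤ (one X ⊤)

lemma act_one (r : R) (W : X.Opens) :
    (act e r (O X)).hom.app W (one X W) = resO X le_top (fn e r) := by
  rw [← res_one (le_top : W ≤ ⊤)]
  exact (QC.app_res (act e r (O X)).hom le_top (one X ⊤)).symm

lemma image_le (U V : X.Opens) {W : (U : Scheme.{u}).Opens} (h : W ≤ U.ι ⁻¹ᵁ V) : U.ι ''ᵁ W ≤ V := by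
  rintro _ ⟨y, hy, rfl⟩
  exact h hy

lemma act_app [QuasiSeparatedSpace X] (r : R) (F : QCohCat.QCoh X) (W : X.Opens) (s : Γ(F.obj, W)) :
    (act e r F).hom.app W s = resO X (le_top : W ≤ ⊤) (fn e r) • s := by
  refine QC.section_eq_of_locally fun x hx => ?_
  obtain ⟨U, hU, hxU, hUW⟩ := exists_isAffineOpen_mem_and_subset (x := x) (U := W) hx
  refine ⟨U, hUW, hxU, ?_⟩
  rw [QC.app_res, QC.res_smul, QC.resO_resO]
  generalize res F.obj hUW s = s'
  haveI : IsAffine (U : Scheme.{u}) := hU
  haveI : QuasiCompact U.ι := inferInstance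
  haveI hq : Coh.IsQCoh (F.obj.restrict U.ι) := QC.isQCoh_restrict U.ι F.property
  let G : QCohCat.QCoh X := ⟨(Scheme.Modules.pushforward U.ι).obj (F.obj.restrict U.ι),
    QC.isQCoh_pushforward (hM := hq) U.ι⟩
  let u : F.obj ⟶ G.obj := (Scheme.Modules.restrictAdjunction U.ι).unit.app F.obj
  have hu : Function.Injective (u.app U) := by
    have h : U ≤ U.ι ''ᵁ (U.ι ⁻¹ᵁ U) := fun y hy => ⟨⟨y, hy⟩, hy, rfl⟩
    intro a b hab
    have hab' : res F.obj (image_le U U le_rfl) a = res F.obj (image_le U U le_rfl) b := hab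
    have := congrArg (res F.obj h) hab'
    rwa [QC.res_res, QC.res_res, QC.res_self, QC.res_self] at this
  let t : Γ(G.obj, ⊤) := res F.obj (U.ι_image_le (U.ι ⁻¹ᵁ ⊤)) s'
  have hA : U.ι ''ᵁ (U.ι ⁻¹ᵁ U) ≤ U.ι ''ᵁ (U.ι ⁻¹ᵁ ⊤) := U.ι.image_mono (U.ι.preimage_mono le_top)
  have e1 : u.app U s' = res F.obj (image_le U U le_rfl) s' := rfl
  have e2 : res G.obj (le_top : U ≤ ⊤) t = res F.obj hA t := rfl
  have ht : res G.obj (le_top : U ≤ ⊤) t = u.app U s' :=
    e2.trans ((QC.res_res F.obj hA (U.ι_image_le (U.ι ⁻¹ᵁ ⊤)) s').trans e1.symm)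
  apply hu
  rw [act_app_nat e r u, Scheme.Modules.Hom.app_smul, ← ht,
    ← CohQC.secHom_app_one t U]
  let σ : (O X).obj ⟶ G.obj := CohQC.secHom t
  change (act e r G).hom.app U (σ.app U (one X U)) = resO X le_top (fn e r) • σ.app U (one X U)
  refine (act_app_nat e r σ U (one X U)).symm.trans
    ((congrArg (σ.app U) ?_).trans (Scheme.Modules.Hom.app_smul σ _ _))
  exact (act_one e r U).trans (smul_one' _).symm

/-- The action as a ring homomorphism into functions. -/
noncomputable def fnHom [QuasiSeparatedSpace X] : R →+* Γ(X, ⊤) where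
  toFun := fn e
  map_one' := by
    have : act e (1 : R) (O X) = 𝟙 _ := e.functor.map_injective (by
      ext m; rw [map_act_apply, one_smul, CategoryTheory.Functor.map_id]; rfl)
    rw [fn, this]
    rfl
  map_mul' r r' := by
    have : act e (r * r') (O X) = act e r' (O X) ≫ act e r (O X) := e.functor.map_injective (by
      ext m; rw [map_act_apply, Functor.map_comp, ModuleCat.comp_apply, map_act_apply, map_act_apply, mul_smul])
    rw [fn, this]
    change (act e r (O X)).hom.app ⊤ (fn e r') = _
    refine (act_app e r (O X) ⊤ (fn e r')).trans ?_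
    rw [QC.resO_self]
    rfl
  map_zero' := by
    haveI : e.functor.Additive := Functor.additive_of_preserves_binary_products _
    have : act e (0 : R) (O X) = 0 := e.functor.map_injective (by
      ext m; rw [map_act_apply, zero_smul, Functor.map_zero]; rfl)
    rw [fn, this]
    rfl
  map_add' r r' := by
    haveI : e.functor.Additive := Functor.additive_of_preserves_binary_products _
    have : act e (r + r') (O X) = act e r (O X) + act e r' (O X) := e.functor.map_injective (by
      ext m; rw [map_act_apply, add_smul, Functor.map_add, ModuleCat.hom_add, LinearMap.add_apply,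
        map_act_apply, map_act_apply])
    rw [fn, this]
    rfl

lemma finite_O [CompactSpace X] [QuasiSeparatedSpace X] : Module.Finite R (e.functor.obj (O X)) := by
  haveI : IsFinitelyPresentable.{u} (O X) :=
    (Groth.Agent.S2214.result X (O X)).mpr (SchDense.isFP_unit X)
  haveI : IsFinitelyPresentable.{u} (e.functor.obj (O X)) := isCardinalPresentable_of_equivalence (O X) _ e
  refine FPChar.finite_of_injective _ fun J _ _ F => ?_
  haveI : PreservesColimit F (coyoneda.obj (op (e.functor.obj (O X)))) := inferInstance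
  exact ((isIso_iff_bijective _).mp inferInstance).1

/-- Every point of an affine open lies in a basic open inside it of a function coming from `R`. -/
lemma exists_fn [CompactSpace X] [QuasiSeparatedSpace X] {U : X.Opens} {x : X} (hxU : x ∈ U) :
    ∃ r : R, x ∈ X.basicOpen (fn e r) ∧ X.basicOpen (fn e r) ≤ U := by
  haveI : e.functor.Additive := Functor.additive_of_preserves_binary_products _
  let i := X.fromSpecResidueField x
  haveI : QuasiCompact i := inferInstance
  haveI : QuasiSeparated i := inferInstance
  let T : Scheme.{u} := Spec (X.residueField x)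
  let S : QCohCat.QCoh X := ⟨(Scheme.Modules.pushforward i).obj (Coh.structureModule T),
    QC.isQCoh_pushforward (hM := QC.isQCoh_unit T) i⟩
  haveI : IsDomain Γ(T, ⊤) := MulEquiv.isDomain (X.residueField x)
    (Scheme.ΓSpecIso (X.residueField x)).commRingCatIsoToRingEquiv.toMulEquiv
  let b : R →+* Γ(T, ⊤) := i.appTop.hom.comp (fnHom e)
  let p : Ideal R := RingHom.ker b
  haveI : p.IsPrime := RingHom.ker_isPrime b
  have hix : ∀ y : T, i.base y = x := X.fromSpecResidueField_apply x
  have hcases : ∀ r, r ∉ p → x ∈ X.basicOpen (fn e r) ∧ IsUnit (b r) := by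
    intro r hr
    have hu : IsUnit (b r) := by
      let ε := (Scheme.ΓSpecIso (X.residueField x)).commRingCatIsoToRingEquiv
      rw [← ε.symm_apply_apply (b r)]
      refine (IsUnit.mk0 _ fun h => hr ?_).map ε.symm
      exact RingHom.mem_ker.mpr (ε.injective (h.trans (map_zero _).symm))
    refine ⟨?_, hu⟩
    have h1 : i ⁻¹ᵁ X.basicOpen (fn e r) = ⊤ := by
      rw [Scheme.preimage_basicOpen]
      exact T.basicOpen_of_isUnit hu
    have y : T := IsLocalRing.closedPoint (X.residueField x)
    rw [← hix y]
    exact (show y ∈ i ⁻¹ᵁ X.basicOpen (fn e r) from h1 ▸ trivial)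
  -- the vanishing ideal of the complement
  let Z : TopologicalSpace.Closeds X := ⟨(U : Set X)ᶜ, U.2.isClosed_compl⟩
  let I := Scheme.IdealSheafData.vanishingIdeal Z
  haveI hq : Coh.IsQCoh (Coh.structureModule I.subscheme) := QC.isQCoh_unit _
  let Q : QCohCat.QCoh X := ⟨ClSub.quotMod I, QC.isQCoh_pushforward (hM := hq) I.subschemeι⟩
  have hrange : Set.range I.subschemeι.base = (U : Set X)ᶜ := by
    rw [I.range_subschemeι, Scheme.IdealSheafData.coe_support_vanishingIdeal]
    rfl
  let φ : O X ⟶ Q := ObjectProperty.homMk (ClSub.toSubscheme I)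
  let M := LinearMap.range (e.functor.map φ).hom
  haveI := finite_O e
  haveI : Module.Finite R M := Module.Finite.range _
  obtain ⟨r, hr, hrp⟩ : ∃ r : R, (∀ m : M, r • m = 0) ∧ r ∉ p := by
    by_contra! H
    obtain ⟨g, hg⟩ := exists_map_quotient p H
    -- a nonzero element of the skyscraper
    obtain ⟨n, hn⟩ : ∃ n : e.functor.obj S, n ≠ 0 := by
      by_contra! hz
      have h0 : 𝟙 S = 0 := e.functor.map_injective (by
        rw [CategoryTheory.Functor.map_id, Functor.map_zero]
        ext m; exact hz m)
      exact one_ne_zero (α := Γ(T, ⊤)) (ConcreteCategory.congr_hom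
        (congrArg (fun ψ => Scheme.Modules.Hom.app ψ ⊤) (congrArg InducedCategory.Hom.hom h0))
        (show Γ(S.obj, ⊤) from (1 : Γ(T, ⊤))))
    have hinj : ∀ r : R, r ∉ p → ∀ m : e.functor.obj S, r • m = 0 → m = 0 := by
      intro r hr m hm
      have hu := (hcases r hr).2
      have hS : Mono (act e r S).hom := (QC.mono_iff_app_injective _).mpr fun W => by
        have hiso : ∀ s : Γ(S.obj, W), (act e r S).hom.app W s =
            ((i.app W (resO X le_top (fn e r)) : Γ(T, i ⁻¹ᵁ W)) * (show Γ(T, i ⁻¹ᵁ W) from s) :) :=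
          fun s => act_app e r S W s
        have hu' : IsUnit (i.app W (resO X le_top (fn e r))) := by
          have : i.app W (resO X le_top (fn e r)) = resO T le_top (b r) :=
            ConcreteCategory.congr_hom (i.naturality (homOfLE (le_top : W ≤ ⊤)).op) (fn e r)
          rw [this]
          exact hu.map _
        intro s t hst
        rw [hiso, hiso] at hst
        exact hu'.mul_left_cancel hst
      haveI : Mono (act e r S) := (QCohCat.isQCoh X).ι.mono_of_mono_map hS
      haveI : Mono (e.functor.map (act e r S)) := inferInstance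
      exact (ModuleCat.mono_iff_injective _).mp inferInstance
        (((map_act_apply e r S m).trans hm).trans (map_zero _).symm)
    have hpn : ∀ r ∈ p, r • n = 0 := by
      intro r hr
      have : act e r S = 0 := by
        apply ObjectProperty.hom_ext
        apply Scheme.Modules.hom_ext
        intro W
        ext s
        refine (act_app e r S W s).trans ?_
        have : i.app W (resO X le_top (fn e r)) = resO T le_top (b r) :=
          ConcreteCategory.congr_hom (i.naturality (homOfLE (le_top : W ≤ ⊤)).op) (fn e r)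
        change i.app W (resO X le_top (fn e r)) * (show Γ(T, i ⁻¹ᵁ W) from s) = 0
        rw [this, RingHom.mem_ker.mp hr, map_zero, zero_mul]
      rw [← map_act_apply e r S n, this, Functor.map_zero]
      rfl
    let j : (R ⧸ p) →ₗ[R] e.functor.obj S := Submodule.liftQ p (LinearMap.toSpanSingleton R _ n)
      fun r hr => hpn r hr
    let h : M →ₗ[R] e.functor.obj S := j.comp g
    let q := (e.functor.map φ).hom.rangeRestrict
    let ψ : O X ⟶ S := e.functor.preimage (ModuleCat.ofHom (h.comp q))
    have hψ : ψ = 0 := by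
      -- sections killed by `φ`
      let K : QCohCat.QCoh X := ⟨ClSub.idealMod I, QC.isQCoh_idealMod I⟩
      let κ : K ⟶ O X := ObjectProperty.homMk (ClSub.idealModι I)
      have hκ : κ ≫ ψ = 0 := by
        apply e.functor.map_injective
        rw [Functor.map_comp, Functor.map_preimage, Functor.map_zero]
        ext m
        have h0 : e.functor.map φ (e.functor.map κ m) = 0 := by
          rw [← ModuleCat.comp_apply, ← Functor.map_comp]
          rw [show κ ≫ φ = 0 from ObjectProperty.hom_ext _ (kernel.condition (ClSub.toSubscheme I))]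
          rw [Functor.map_zero]; rfl
        change h (q (e.functor.map κ m)) = 0
        rw [show q (e.functor.map κ m) = 0 from Subtype.ext h0, map_zero]
      have h1 : ψ.hom.app U (one X U) = 0 := by
        obtain ⟨a, ha⟩ := (QC.mem_range_idealModι I U (1 : Γ(X, U))).mpr (by
          have : I.subschemeι ⁻¹ᵁ U = ⊥ := by
            refine le_bot_iff.mp fun y hy => ?_
            exact absurd hy (hrange ▸ Set.mem_range_self y : I.subschemeι.base y ∈ (U : Set X)ᶜ)
          haveI : Subsingleton Γ(I.subscheme, I.subschemeι ⁻¹ᵁ U) := by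
            rw [this]; infer_instance
          exact Subsingleton.elim _ _)
        exact (congrArg (ψ.hom.app U) ha.symm).trans (ConcreteCategory.congr_hom
          (congrArg (fun ψ => Scheme.Modules.Hom.app ψ U) (congrArg InducedCategory.Hom.hom hκ)) a)
      have h2 : ψ.hom.app ⊤ (one X ⊤) = 0 := by
        rw [← res_one (le_top : U ≤ ⊤), ← QC.app_res] at h1
        let c : Γ(T, ⊤) := ψ.hom.app ⊤ (one X ⊤)
        have h1' : resO T (le_top : i ⁻¹ᵁ U ≤ ⊤) c = 0 := h1
        have hle : (⊤ : T.Opens) ≤ i ⁻¹ᵁ U := fun y _ => by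
          change i.base y ∈ U
          rw [hix y]; exact hxU
        have := congrArg (resO T hle) h1'
        rw [QC.resO_resO, map_zero, QC.resO_self] at this
        exact this
      apply ObjectProperty.hom_ext
      apply Scheme.Modules.hom_ext
      intro W
      ext s
      have : ψ.hom.app W (one X W) = 0 := by
        rw [← res_one (le_top : W ≤ ⊤), ← QC.app_res, h2, map_zero]
      have h3 := Scheme.Modules.Hom.app_smul ψ.hom (show Γ(X, W) from s) (one X W)
      rw [this, smul_zero, smul_one'] at h3
      exact h3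
    have hzero : h.comp q = 0 := by
      have := Functor.map_preimage e.functor (ModuleCat.ofHom (h.comp q))
      rw [show e.functor.preimage (ModuleCat.ofHom (h.comp q)) = 0 from hψ, Functor.map_zero] at this
      exact (congrArg ModuleCat.Hom.hom this).symm
    refine hg (LinearMap.ext fun m => ?_)
    obtain ⟨a, rfl⟩ := (e.functor.map φ).hom.surjective_rangeRestrict m
    have h4 : j (g (q a)) = 0 := LinearMap.congr_fun hzero a
    obtain ⟨c, hc⟩ := Ideal.Quotient.mk_surjective (g (q a))
    rw [← hc] at h4
    change g (q a) = 0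
    rw [← hc, Ideal.Quotient.eq_zero_iff_mem]
    by_contra hcp
    exact hn (hinj c hcp n h4)
  refine ⟨r, (hcases r hrp).1, fun z hz => ?_⟩
  by_contra hzU
  have hφ : φ ≫ act e r Q = 0 := e.functor.map_injective (by
    rw [Functor.map_comp, Functor.map_zero]
    ext m
    rw [ModuleCat.comp_apply, map_act_apply]
    exact congrArg Subtype.val (hr ⟨e.functor.map φ m, ⟨m, rfl⟩⟩))
  have h5 : I.subschemeι.appTop (fn e r) = 0 := by
    have := ConcreteCategory.congr_hom (congrArg (fun ψ => Scheme.Modules.Hom.app ψ ⊤)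
      (congrArg InducedCategory.Hom.hom hφ)) (one X ⊤)
    refine Eq.trans ?_ this
    change _ = (act e r Q).hom.app ⊤ ((ClSub.toSubscheme I).app ⊤ (one X ⊤))
    rw [act_app, QC.resO_self]
    change I.subschemeι.app ⊤ (fn e r) = I.subschemeι.app ⊤ (fn e r) * I.subschemeι.app ⊤ (1 : Γ(X, ⊤))
    rw [map_one, mul_one]
  obtain ⟨y, hy⟩ : z ∈ Set.range I.subschemeι.base := hrange ▸ hzU
  have : y ∈ I.subscheme.basicOpen (I.subschemeι.appTop (fn e r)) := by
    rw [← Scheme.preimage_basicOpen_top]
    change I.subschemeι.base y ∈ X.basicOpen (fn e r)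
    rw [hy]; exact hz
  rw [h5, Scheme.basicOpen_zero] at this
  exact this

include e in
lemma isAffine_of_equiv [CompactSpace X] [QuasiSeparatedSpace X] : IsAffine X := by
  let A : Set R := {r | IsAffineOpen (X.basicOpen (fn e r))}
  have hA : ∀ x : X, ∃ r ∈ A, x ∈ X.basicOpen (fn e r) := by
    intro x
    obtain ⟨U, hU, hxU, -⟩ := exists_isAffineOpen_mem_and_subset (x := x) (U := ⊤) trivial
    obtain ⟨r, hxr, hrU⟩ := exists_fn e hxU
    refine ⟨r, ?_, hxr⟩
    have : X.basicOpen (resO X (le_top : U ≤ ⊤) (fn e r)) = X.basicOpen (fn e r) :=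
      (X.basicOpen_res _ _).trans (inf_eq_right.mpr hrU)
    change IsAffineOpen _
    rw [← this]
    exact hU.basicOpen _
  suffices h : Ideal.span A = ⊤ by
    refine isAffine_of_isAffineOpen_basicOpen (fnHom e '' A) ?_ ?_
    · rw [← Ideal.map_span, h, Ideal.map_top]
    · rintro _ ⟨r, hr, rfl⟩; exact hr
  by_contra hne
  obtain ⟨m, hm, hAm⟩ := Ideal.exists_le_maximal _ hne
  let N := ModuleCat.of R (R ⧸ m)
  let F := e.inverse.obj N
  have hF : ∀ r ∈ m, act e r F = 0 := by
    intro r hr
    haveI : e.functor.Additive := Functor.additive_of_preserves_binary_products _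
    apply e.functor.map_injective
    rw [Functor.map_zero]
    ext n
    rw [map_act_apply]
    apply (e.counitIso.app N).toLinearEquiv.injective
    rw [map_smul]
    obtain ⟨a, ha⟩ := Ideal.Quotient.mk_surjective ((e.counitIso.app N).toLinearEquiv n : R ⧸ m)
    rw [← ha]
    refine (Ideal.Quotient.eq_zero_iff_mem.mpr (m.mul_mem_right a hr)).trans (map_zero _).symm
  have h0 : 𝟙 F = 0 := by
    apply ObjectProperty.hom_ext
    apply Scheme.Modules.hom_ext
    intro W
    ext s
    refine QC.section_eq_of_locally fun x hx => ?_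
    obtain ⟨r, hrA, hxr⟩ := hA x
    refine ⟨W ⊓ X.basicOpen (fn e r), inf_le_left, ⟨hx, hxr⟩, ?_⟩
    have hu : IsUnit (resO X (le_top : W ⊓ X.basicOpen (fn e r) ≤ ⊤) (fn e r)) := by
      rw [← QC.resO_resO (inf_le_right : W ⊓ X.basicOpen (fn e r) ≤ _) (X.basicOpen_le (fn e r))]
      exact (RingedSpace.isUnit_res_basicOpen X.toRingedSpace (fn e r)).map _
    have h1 := act_app e r F (W ⊓ X.basicOpen (fn e r)) (res F.obj inf_le_left s)
    rw [hF r (hAm (Ideal.subset_span hrA))] at h1
    change res F.obj _ s = res F.obj _ 0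
    rw [map_zero]
    exact hu.smul_eq_zero.mp h1.symm
  haveI : Nontrivial (R ⧸ m) := Ideal.Quotient.nontrivial_iff.mpr hm.ne_top
  haveI : e.functor.Additive := Functor.additive_of_preserves_binary_products _
  have hz : 𝟙 (e.functor.obj F) = 0 := by rw [← CategoryTheory.Functor.map_id, h0, Functor.map_zero]
  have hN : 𝟙 N = 0 := by
    have h1 : (e.counitIso.app N).inv ≫ 𝟙 (e.functor.obj F) ≫ (e.counitIso.app N).hom = 𝟙 N :=
      (congrArg (_ ≫ ·) (Category.id_comp _)).trans (e.counitIso.app N).inv_hom_id
    rw [← h1, hz]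
    exact (congrArg (_ ≫ ·) zero_comp).trans comp_zero
  exact one_ne_zero (α := R ⧸ m) (ConcreteCategory.congr_hom hN (1 : R ⧸ m))

/-- For a qcqs scheme X: if quasi-coherent O_X-modules form a category equivalent to that of modules
over some commutative ring R, then X is affine. -/
theorem result (X : Scheme.{u}) [CompactSpace X]
    [QuasiSeparatedSpace X] (R : Type u) [CommRing R]
    (e : QCohCat.QCoh X ≌ ModuleCat.{u} R) : IsAffine X := by
  exact isAffine_of_equiv e

end Groth.Agent.S2198
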