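import Groth.Statements.S2201
import Groth.Agent.TorCI.FlatPair

set_option autoImplicit false
set_option linter.style.haveILetI false
set_option backward.isDefEq.respectTransparency false
open Groth.Agent
universe u
open LCI

namespace Groth.Agent.S2201

/-- Let R -> S be a flat local homomorphism of Noetherian local rings with S/m_R S regular, and let I in
R and J in S be proper ideals with I S inside J; give S/J its canonical R/I-algebra structure.
Equivalent: (1) J is cut out by a regular sequence while S/J, as an R/I-module, has finite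
Tor-dimension; (2) the same with only finitely many nonzero Tor_p^{R/I}(S/J, k), k the residue field
of R/I; (3) I and J/IS are each cut out by regular sequences (in R, resp. S/IS). Stated as (1) iff
(3) and (2) iff (3). -/
theorem result {R S : Type u} [CommRing R] [CommRing S] [IsNoetherianRing R]
    [IsNoetherianRing S] [IsLocalRing R] [IsLocalRing S] [Algebra R S] [IsLocalHom (algebraMap R S)]
    [Module.Flat R S]
    [IsRegularLocalRing (S ⧸ Ideal.map (algebraMap R S) (IsLocalRing.maximalIdeal R))]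
    (I : Ideal R) (J : Ideal S) (hI : I ≠ ⊤) (hJ : J ≠ ⊤) (hIJ : I.map (algebraMap R S) ≤ J)
    [Algebra (R ⧸ I) (S ⧸ J)] [IsScalarTower R (R ⧸ I) (S ⧸ J)] :
    let P3 := (∃ rs : List R, Ideal.ofList rs = I ∧ RingTheory.Sequence.IsRegular R rs) ∧
      ∃ rs' : List (S ⧸ I.map (algebraMap R S)),
        Ideal.ofList rs' = J.map (Ideal.Quotient.mk (I.map (algebraMap R S))) ∧
          RingTheory.Sequence.IsRegular (S ⧸ I.map (algebraMap R S)) rs'
    let Jreg := ∃ rs : List S, Ideal.ofList rs = J ∧ RingTheory.Sequence.IsRegular S rs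
    ((Jreg ∧ DRing.HasFiniteTorDim (R ⧸ I) (S ⧸ J)) ↔ P3) ∧
      ((Jreg ∧ Set.Finite {p : ℕ | ¬Subsingleton (DRing.Tor (R ⧸ I) p (S ⧸ J)
        ((R ⧸ I) ⧸ (IsLocalRing.maximalIdeal R).map (Ideal.Quotient.mk I)))}) ↔ P3) := by
  intro P3 Jreg
  refine ⟨⟨fun ⟨hJr, n, hn⟩ => TorCI.split_of_tor I J hJ hIJ n (fun p hp => hn _ p hp) hJr, fun h => ?_⟩,
    ⟨fun ⟨hJr, hfin⟩ => ?_, fun h => ?_⟩⟩
  · obtain ⟨⟨rs, hrs, hreg⟩, rs', hrs', hreg'⟩ := h
    exact TorCI.regular_and_finiteTorDim I J hJ hIJ rs hrs hreg rs' hrs' hreg'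
  · obtain ⟨N, hN⟩ := hfin.bddAbove
    exact TorCI.split_of_tor I J hJ hIJ N (fun p hp => by
      by_contra hne
      exact absurd (hN hne) (not_le.2 hp)) hJr
  · obtain ⟨⟨rs, hrs, hreg⟩, rs', hrs', hreg'⟩ := h
    obtain ⟨hJr, n, hn⟩ := TorCI.regular_and_finiteTorDim I J hJ hIJ rs hrs hreg rs' hrs' hreg'
    refine ⟨hJr, (Set.finite_Iic n).subset fun p hp => ?_⟩
    by_contra hne
    exact hp (hn _ p (not_le.1 hne))

end Groth.Agent.S2201
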