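import Groth.Statements.S2203
import Mathlib

set_option autoImplicit false
universe u
open CategoryTheory
open QCohCat

namespace Groth.Agent.S2203

/-- Ring-isomorphism part of the statement: let A and B be commutative rings whose categories of modules
are equivalent. Then A and B are isomorphic as rings. (The source moreover describes the equivalence
as base change followed by tensoring with an invertible module.) -/
theorem result (A B : Type u) [CommRing A] [CommRing B]
    (F : ModuleCat.{u} A ≌ ModuleCat.{u} B) : Nonempty (A ≃+* B) := by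
  haveI := Functor.additive_of_preserves_binary_products F.functor
  haveI := Functor.additive_of_preserves_binary_products F.inverse
  have key : ∀ a : A, ∃ b : B, ∀ N : ModuleCat.{u} B,
      F.counitInv.app N ≫ F.functor.map (a • 𝟙 (F.inverse.obj N)) ≫ F.counit.app N = b • 𝟙 N := by
    intro a
    let θ : (𝟭 (ModuleCat.{u} B)) ⟶ 𝟭 (ModuleCat.{u} B) :=
      { app := fun N => F.counitInv.app N ≫ F.functor.map (a • 𝟙 (F.inverse.obj N)) ≫ F.counit.app N
        naturality := fun N N' g => by
          have h1 : F.inverse.map g ≫ (a • 𝟙 (F.inverse.obj N')) = (a • 𝟙 (F.inverse.obj N)) ≫ F.inverse.map g := by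
            simp
          have h2 := congrArg F.functor.map h1
          simp only [Functor.map_comp] at h2
          show g ≫ _ ≫ _ ≫ _ = (_ ≫ _ ≫ _) ≫ g
          rw [← Category.assoc g, ← F.counitInv_naturality, Category.assoc, reassoc_of% h2,
            F.counit_naturality]
          simp }
    refine ⟨(θ.app (ModuleCat.of B B)).hom (1 : B), fun N => ?_⟩
    ext x
    have := congr((ModuleCat.Hom.hom $(θ.naturality (ModuleCat.ofHom (LinearMap.toSpanSingleton B N x)))) (1 : B))
    simpa [θ] using this
  choose φ hφ using key
  have hM : ∀ (a : A) (M : ModuleCat.{u} A), F.functor.map (a • 𝟙 M) = φ a • 𝟙 (F.functor.obj M) := by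
    intro a M
    rw [← hφ a]
    have h1 : F.unit.app M ≫ (a • 𝟙 (F.inverse.obj (F.functor.obj M))) = (a • 𝟙 M) ≫ F.unit.app M := by simp
    have h2 := congrArg F.functor.map h1
    simp only [Functor.map_comp] at h2
    rw [Equivalence.counitInv_app_functor, ← Category.assoc, h2, Category.assoc]
    simp
  have huniq : ∀ (b b' : B), (∀ M : ModuleCat.{u} A, b • 𝟙 (F.functor.obj M) = b' • 𝟙 (F.functor.obj M)) → b = b' := by
    intro b b' h
    have h1 := h (F.inverse.obj (ModuleCat.of B B))
    have h2 := congrArg (fun t => F.counitInv.app (ModuleCat.of B B) ≫ t ≫ F.counit.app (ModuleCat.of B B)) h1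
    simp at h2
    simpa using congr((ModuleCat.Hom.hom $h2) (1 : B))
  let f : A →+* B :=
    { toFun := φ
      map_one' := huniq _ _ fun M => by rw [← hM, one_smul, one_smul, F.functor.map_id]
      map_mul' := fun a a' => huniq _ _ fun M => by
        have := F.functor.map_comp (a • 𝟙 M) (a' • 𝟙 M)
        rw [hM, hM, Linear.smul_comp, Category.id_comp, Linear.smul_comp, Category.id_comp, smul_smul, hM,
          smul_smul] at this
        exact this
      map_zero' := huniq _ _ fun M => by rw [← hM, zero_smul, zero_smul, F.functor.map_zero]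
      map_add' := fun a a' => huniq _ _ fun M => by
        rw [← hM, add_smul, F.functor.map_add, hM, hM, add_smul] }
  refine ⟨RingEquiv.ofBijective f ⟨?_, ?_⟩⟩
  · intro a a' h
    have h1 : a • 𝟙 (ModuleCat.of A A) = a' • 𝟙 (ModuleCat.of A A) := F.functor.map_injective (by
      rw [hM, hM]; exact congrArg (· • _) h)
    simpa using congr((ModuleCat.Hom.hom $h1) (1 : A))
  · intro b
    let t : (M : ModuleCat.{u} A) → (M ⟶ M) := fun M => F.functor.preimage (b • 𝟙 (F.functor.obj M))
    have ht : ∀ {M M' : ModuleCat.{u} A} (g : M ⟶ M'), g ≫ t M' = t M ≫ g := by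
      intro M M' g
      apply F.functor.map_injective
      simp [t]
    refine ⟨(t (ModuleCat.of A A)).hom (1 : A), huniq _ _ fun M => ?_⟩
    show φ _ • _ = _
    rw [← hM, show b • 𝟙 (F.functor.obj M) = F.functor.map (t M) by simp [t]]
    congr 1
    ext x
    have := congr((ModuleCat.Hom.hom $(ht (ModuleCat.ofHom (LinearMap.toSpanSingleton A M x)))) (1 : A))
    simpa using this.symm

end Groth.Agent.S2203
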