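import Groth.Statements.S2211
import Mathlib.RingTheory.DividedPowers.Basic
import Mathlib.Data.Nat.Choose.Lucas
import Mathlib.Algebra.BigOperators.Associated
import Mathlib.Data.Nat.Factorization.Basic
-- import your own Groth.Agent.* helpers here

set_option autoImplicit false
universe u
open DPow

namespace Groth.Agent.S2211

theorem not_dvd_uniformBell (p k : ℕ) [Fact p.Prime] : ¬ p ∣ Nat.uniformBell p (p ^ k) := by
  have hp : p.Prime := Fact.out
  rw [Nat.uniformBell_eq, Prime.dvd_finsetProd_iff (Nat.prime_iff.1 hp)]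
  rintro ⟨i, _, hd⟩
  have hpos : 0 < p ^ k := pow_pos hp.pos _
  have h1 : Nat.choose (i * p ^ k + p ^ k - 1) (p ^ k - 1) ≡ 1 [MOD p] := by
    rw [← Int.natCast_modEq_iff]
    refine (Choose.choose_modEq_choose_mul_prod_range_choose k).trans ?_
    rw [Nat.div_eq_of_lt (show p ^ k - 1 < p ^ k by omega), Nat.choose_zero_right, Nat.cast_one, one_mul]
    rw [Finset.prod_eq_one fun j hj => ?_]
    · rfl
    · rw [Finset.mem_range] at hj
      obtain ⟨c, rfl⟩ : ∃ c, k = j + (c + 1) := ⟨k - j - 1, by omega⟩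
      rw [Nat.add_sub_assoc hpos, show i * p ^ (j + (c + 1)) = p ^ j * (p * (i * p ^ c)) by ring,
        Nat.mul_add_div (pow_pos hp.pos _), Nat.mul_add_mod, Nat.choose_self]
      try simp
  have := (h1.symm.trans (Nat.modEq_zero_iff_dvd.2 hd))
  exact hp.ne_one (Nat.dvd_one.1 (Nat.modEq_zero_iff_dvd.1 this))


/-- First part: let p be a prime and A a ring in which every integer prime to p is invertible, I an
ideal of A. Two divided power structures on I coincide exactly when their p-th divided power maps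
agree on I. -/
theorem result {A : Type u} [CommRing A] (p : ℕ) (hp : p.Prime)
    (hA : ∀ n : ℕ, ¬ p ∣ n → IsUnit (n : A)) {I : Ideal A} (γ γ' : DividedPowers I) :
    γ = γ' ↔ ∀ x ∈ I, γ.dpow p x = γ'.dpow p x := by
  refine ⟨fun h x _ => by rw [h], fun h => DividedPowers.ext _ _ fun n => ?_⟩
  induction n using Nat.strong_induction_on with
  | _ n ih =>
    intro x hx
    haveI : Fact p.Prime := ⟨hp⟩
    rcases Nat.eq_zero_or_pos n with rfl | hn
    · rw [γ.dpow_zero hx, γ'.dpow_zero hx]
    obtain ⟨v, m, hm, rfl⟩ := Nat.exists_eq_pow_mul_and_not_dvd hn.ne' p hp.ne_one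
    by_cases hm1 : m = 1
    · subst hm1
      rcases v with _ | v
      · simp only [pow_zero, mul_one]; rw [γ.dpow_one hx, γ'.dpow_one hx]
      · have hk : p ^ v ≠ 0 := pow_ne_zero _ hp.ne_zero
        have e1 := γ.dpow_comp (m := p) hk hx
        have e2 := γ'.dpow_comp (m := p) hk hx
        rw [show p ^ (v + 1) * 1 = p * p ^ v by ring]
        have hlt : p ^ v < p ^ (v + 1) * 1 := by
          rw [mul_one]; exact Nat.pow_lt_pow_right hp.one_lt (Nat.lt_succ_self v)
        rw [h _ (γ.dpow_mem hk hx), ih _ hlt hx, e2] at e1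
        exact ((hA _ (not_dvd_uniformBell p v)).mul_left_cancel e1).symm
    · have hm0 : m ≠ 0 := by rintro rfl; simp at hn
      have ha : 0 < p ^ v := pow_pos hp.pos _
      have hle : p ^ v < p ^ v * m := lt_mul_of_one_lt_right ha (by omega)
      have hb : p ^ v * m - p ^ v < p ^ v * m := by omega
      have e1 := γ.mul_dpow (m := p ^ v) (n := p ^ v * m - p ^ v) hx
      have e2 := γ'.mul_dpow (m := p ^ v) (n := p ^ v * m - p ^ v) hx
      rw [ih _ hle hx, ih _ hb hx, e2, Nat.add_sub_cancel' hle.le] at e1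
      refine ((hA _ fun hd => hm ?_).mul_left_cancel e1).symm
      have h1 : Nat.choose (p ^ v * m) (p ^ v * 1) ≡ Nat.choose m 1 [MOD p] :=
        Choose.choose_pow_mul_pow_mul_modEq_choose_nat
      rw [mul_one, Nat.choose_one_right] at h1
      exact Nat.modEq_zero_iff_dvd.1 (h1.symm.trans (Nat.modEq_zero_iff_dvd.2 hd))

end Groth.Agent.S2211
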