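import Groth.Statements.S2213
import Groth.Agent.DPowLib.Ext
import Groth.Agent.S18420
import Groth.Agent.S18421
-- import your own Groth.Agent.* helpers here

set_option autoImplicit false
universe u
open DPow

namespace Groth.Agent.S2213

open scoped TensorProduct


/-- Let (A, I) be a ring with divided powers and t a natural number. There is a divided power ring (D,
J) with an A-algebra structure making A -> D a divided power homomorphism and elements x_1, ..., x_t
of J, such that for every divided power ring (C, K) with a divided power homomorphism A -> C and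
every choice of k_1, ..., k_t in K there is exactly one divided power homomorphism D -> C over A
sending x_i to k_i (the divided power polynomial algebra). -/
theorem result {A : Type u} [CommRing A] {I : Ideal A} (γ : DividedPowers I) (t : ℕ) :
    ∃ (D : Type u) (_ : CommRing D) (_ : Algebra A D) (J : Ideal D) (δ : DividedPowers J)
      (x : Fin t → D), (∀ i, x i ∈ J) ∧ γ.IsDPMorphism δ (algebraMap A D) ∧
      ∀ (C : Type u) [CommRing C] [Algebra A C] (K : Ideal C) (ε : DividedPowers K),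
        γ.IsDPMorphism ε (algebraMap A C) → ∀ k : Fin t → C, (∀ i, k i ∈ K) →
          ∃! φ : D →ₐ[A] C, (∀ i, φ (x i) = k i) ∧ δ.IsDPMorphism ε φ.toRingHom := by
  classical
  obtain ⟨x₀, b₀, γ₀, h00, h0mul, hb₀, -⟩ := Groth.Agent.DPowLib.exists_int_model t
  let D := A ⊗[ℤ] ↥(Groth.Agent.DPowLib.zdp t)
  let X : Fin t → ℕ → D := fun i n => (1 : A) ⊗ₜ[ℤ] x₀ i n
  have hX0 : ∀ i, X i 0 = 1 := fun i => by simp only [X, h00]; rfl
  let inc : ↥(Groth.Agent.DPowLib.zdp t) →+* D :=
    (Algebra.TensorProduct.includeRight : ↥(Groth.Agent.DPowLib.zdp t) →ₐ[ℤ] D).toRingHom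
  have hXmul : ∀ i n m, X i n * X i m = ((n + m).choose n : D) * X i (n + m) := fun i n m => by
    change inc (x₀ i n) * inc (x₀ i m) = _ * inc (x₀ i (n + m))
    rw [← map_mul, h0mul, map_mul, map_natCast]
  let b : Module.Basis (Fin t →₀ ℕ) A D := b₀.baseChange A
  have hb : ∀ e : Fin t →₀ ℕ, b e = e.prod (fun i k => X i k) := fun e => by
    rw [Module.Basis.baseChange_apply, hb₀, Finsupp.prod, Finsupp.prod]
    change inc (∏ i ∈ e.support, x₀ i (e i)) = ∏ i ∈ e.support, inc (x₀ i (e i))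
    rw [map_prod]
  obtain ⟨δp, hδp⟩ := Groth.Agent.S18420.exists_dp A t D X hX0 hXmul b hb
  obtain ⟨δ, ⟨hδ, hδ2⟩, -⟩ := Groth.Agent.S18421.result A γ (Fin t) D X hX0 hXmul b hb δp hδp
  have hX1 : ∀ i, X i 1 ∈ Ideal.span {y : D | ∃ (l : Fin t) (n : ℕ), 1 ≤ n ∧ y = X l n} :=
    fun i => Ideal.subset_span ⟨i, 1, le_rfl, rfl⟩
  refine ⟨D, inferInstance, inferInstance, _, δ, fun i => X i 1, fun i => Ideal.mem_sup_right (hX1 i), hδ, ?_⟩
  intro C _ _ K ε hε k hk
  obtain ⟨φ, hφ⟩ := Groth.Agent.DPowLib.exists_desc hX0 hXmul b hb (fun i n => ε.dpow n (k i))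
    (fun i => ε.dpow_zero (hk i)) (fun i n m => ε.mul_dpow (hk i))
  have hval : ∀ i n, δ.dpow n (X i 1) = X i n := fun i n => by rw [hδ2 n _ (hX1 i), hδp]
  refine ⟨φ, ⟨fun i => by rw [hφ]; exact ε.dpow_one (hk i), ?_⟩, ?_⟩
  · refine DividedPowers.IsDPMorphism.on_span δ ε
      (S := (algebraMap A D '' (I : Set A)) ∪ {y : D | ∃ (l : Fin t) (n : ℕ), 1 ≤ n ∧ y = X l n})
      (by rw [Ideal.span_union]; rfl) ?_ ?_
    · rintro _ (⟨a, ha, rfl⟩ | ⟨l, n, hn, rfl⟩)
      · change φ (algebraMap A D a) ∈ K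
        rw [AlgHom.commutes]
        exact hε.ideal_comp (Ideal.mem_map_of_mem _ ha)
      · change φ (X l n) ∈ K
        rw [hφ]
        exact ε.dpow_mem (by omega) (hk l)
    · rintro m _ (⟨a, ha, rfl⟩ | ⟨l, n, hn, rfl⟩)
      · change φ (δ.dpow m (algebraMap A D a)) = ε.dpow m (φ (algebraMap A D a))
        rw [hδ.dpow_comp a ha, AlgHom.commutes, AlgHom.commutes, hε.dpow_comp a ha]
      · change φ (δ.dpow m (X l n)) = ε.dpow m (φ (X l n))
        rw [← hval l n, δ.dpow_comp (by omega) (Ideal.mem_sup_right (hX1 l)), hval, hval, map_mul, map_natCast,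
          hφ, hφ, ε.dpow_comp (by omega) (hk l)]
  · rintro ψ ⟨hψ1, hψ⟩
    refine Groth.Agent.DPowLib.algHom_ext hX0 b hb fun i n => ?_
    have h := hψ.dpow_comp (n := n) (X i 1) (Ideal.mem_sup_right (hX1 i))
    rw [hval] at h
    rw [hφ, ← hψ1 i]
    exact h.symm


end Groth.Agent.S2213
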