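import Groth.Statements.S8963
import Groth.Agent.QFDualLib.Open
import Groth.Agent.QFDualLib.Fibre
import Groth.Agent.S8959

set_option autoImplicit false
universe u
open TensorProduct
set_option linter.style.haveILetI false
open QFDual

namespace Groth.Agent.S8963

set_option synthInstance.maxHeartbeats 200000
set_option maxHeartbeats 1000000

/-- Invertibility of the relative dualizing module is a fibrewise condition. Let A → B be a flat
homomorphism of Noetherian rings with a factorization A → B' → B, A → B' finite and Spec B → Spec B'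
an open immersion, so that A → B is quasi-finite and ω_{B/A} = B ⊗_{B'} Hom_A(B', A). The B-module
ω_{B/A} is invertible exactly when, for every prime p of A and every presentation of the fibre rings
B'_p = B' ⊗_A κ(p), B_p = B ⊗_A κ(p) as cocartesian squares over the residue field κ(p) (compatibly
with B' → B), the module ω_{B_p/κ(p)} = B_p ⊗_{B'_p} Hom_{κ(p)}(B'_p, κ(p)) is an invertible
B_p-module. -/
theorem result (A B' B : Type u) [CommRing A] [CommRing B'] [CommRing B] [IsNoetherianRing A] [IsNoetherianRing B] [Algebra A B'] [Algebra B' B] [Algebra A B] [IsScalarTower A B' B] [Module.Flat A B] (hf : QFDual.IsQFFactor A B' B) : Module.Invertible B (QFDual.omega A B' B) ↔ ∀ (p : Ideal A) [p.IsPrime] (B'₁ B₁ : Type u) [CommRing B'₁] [CommRing B₁] [Algebra B' B'₁] [Algebra p.ResidueField B'₁] [Algebra A B'₁] [IsScalarTower A p.ResidueField B'₁] [IsScalarTower A B' B'₁] [Algebra B B₁] [Algebra p.ResidueField B₁] [Algebra A B₁] [IsScalarTower A p.ResidueField B₁] [IsScalarTower A B B₁] [Algebra B'₁ B₁] [Algebra B' B₁] [IsScalarTower B' B'₁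 B₁] [IsScalarTower B' B B₁] [IsScalarTower p.ResidueField B'₁ B₁], Algebra.IsPushout A p.ResidueField B' B'₁ → Algebra.IsPushout A p.ResidueField B B₁ → Module.Invertible B₁ (QFDual.omega p.ResidueField B'₁ B₁) := by
  haveI : Module.Finite A B' := hf.finite
  haveI : Module.FinitePresentation A B' := Module.finitePresentation_of_finite A B'
  haveI hΩfin : Module.Finite B' (Disc.Omega A B') := by
    obtain ⟨S, hS⟩ := Module.Finite.fg_top (R := A) (M := B' →ₗ[A] A)
    classical
    refine ⟨⟨S.image Disc.Omega.mk, top_le_iff.1 fun φ _ => ?_⟩⟩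
    have hφ : φ.toLinearMap ∈ Submodule.span A (S : Set (B' →ₗ[A] A)) := hS ▸ Submodule.mem_top
    suffices ∀ x ∈ Submodule.span A (S : Set (B' →ₗ[A] A)),
        (⟨x⟩ : Disc.Omega A B') ∈ Submodule.span B' (↑(S.image Disc.Omega.mk) : Set (Disc.Omega A B')) by
      convert this _ hφ
    intro x hx
    induction hx using Submodule.span_induction with
    | mem x hx => exact Submodule.subset_span (Finset.mem_image_of_mem _ hx)
    | zero => exact Submodule.zero_mem _
    | add x y _ _ hx hy => exact Submodule.add_mem _ hx hy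
    | smul a x _ hx =>
      rw [show (⟨a • x⟩ : Disc.Omega A B') = algebraMap A B' a • (⟨x⟩ : Disc.Omega A B') from
        Disc.Omega.ext (QFDualLib.algebraMap_smul_toLinearMap a (⟨x⟩ : Disc.Omega A B')).symm]
      exact Submodule.smul_mem _ _ hx
  constructor
  · intro hinv p _ B'₁ B₁ _ _ _ _ _ _ _ _ _ _ _ _ _ _ _ _ _ h hB
    let Λ := LinearEquiv.ofBijective (QFDual.omegaBC (B₁ := B₁) h)
      (S8959.result A B' B p.ResidueField B'₁ B₁ hf h hB)
    exact Module.Invertible.congr
      ((AlgebraTensorModule.cancelBaseChange B' B B₁ B₁ (Disc.Omega A B')).trans Λ)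
  intro H
  have hop := hf.isOpenImmersion
  have hloc : ∀ (q : Ideal B) [q.IsPrime], Nonempty (Localization.AtPrime q ⊗[B] QFDual.omega A B' B ≃ₗ[Localization.AtPrime q] Localization.AtPrime q) := by
    intro q hq
    let T := Localization.AtPrime q
    let q' := q.comap (algebraMap B' B)
    let p := q.comap (algebraMap A B)
    -- `T` is the localization of `B'` at `q'`
    let ρ : Localization.AtPrime q' →ₐ[B'] T :=
      { Localization.localRingHom q' q (algebraMap B' B) rfl with
        commutes' := fun b => by
          show Localization.localRingHom q' q (algebraMap B' B) rfl (algebraMap B' (Localization.AtPrime q') b) = _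
          rw [Localization.localRingHom_to_map, IsScalarTower.algebraMap_apply B' B T] }
    haveI : IsLocalization q'.primeCompl T := IsLocalization.isLocalization_of_algEquiv _
      (AlgEquiv.ofBijective ρ (QFDualLib.localRingHom_bijective hop q))
    haveI : Module.Flat A (Localization.AtPrime q') := QFDualLib.flat_localization hop q
    obtain ⟨g, hg, hgF⟩ := QFDualLib.exists_isFactor (A := A) q'
    let M := T ⊗[B'] Disc.Omega A B'
    haveI : IsLocalizedModule q'.primeCompl (TensorProduct.mk B' T (Disc.Omega A B') 1) :=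
      (isLocalizedModule_iff_isBaseChange q'.primeCompl T _).2 (TensorProduct.isBaseChange _ _ _)
    haveI : IsScalarTower A T M := inferInstance
    haveI : IsScalarTower A B' M := inferInstance
    haveI : Module.Flat A M :=
      QFDualLib.flat_localized q'.primeCompl (TensorProduct.mk B' T (Disc.Omega A B') 1) g hg hgF
    haveI : IsNoetherianRing T := IsLocalization.isNoetherianRing q.primeCompl T inferInstance
    let I : Ideal T := p.map (algebraMap A T)
    have hI : I ≤ IsLocalRing.maximalIdeal T := by
      rw [Ideal.map_le_iff_le_comap]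
      intro a ha
      rw [Ideal.mem_comap, IsScalarTower.algebraMap_apply A B T]
      exact (IsLocalization.AtPrime.to_map_mem_maximal_iff T q _).2 ha
    -- the fibre rings at `p`
    let κ := p.ResidueField
    let B'₁ := κ ⊗[A] B'
    let B₁ := κ ⊗[A] B
    letI : Algebra B' B'₁ := Algebra.TensorProduct.rightAlgebra
    letI : Algebra B B₁ := Algebra.TensorProduct.rightAlgebra
    letI : Algebra B'₁ B₁ :=
      (Algebra.TensorProduct.map (AlgHom.id κ κ) (IsScalarTower.toAlgHom A B' B)).toAlgebra
    letI : Algebra B' B₁ := ((algebraMap B B₁).comp (algebraMap B' B)).toAlgebra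
    haveI : IsScalarTower B' B B₁ := IsScalarTower.of_algebraMap_eq fun _ => rfl
    haveI : IsScalarTower B' B'₁ B₁ := IsScalarTower.of_algebraMap_eq fun b => by
      show (1 : κ) ⊗ₜ[A] algebraMap B' B b = Algebra.TensorProduct.map _ _ ((1 : κ) ⊗ₜ[A] b)
      rw [Algebra.TensorProduct.map_tmul]
      rfl
    haveI : IsScalarTower κ B'₁ B₁ := IsScalarTower.of_algebraMap_eq fun c =>
      ((Algebra.TensorProduct.map (AlgHom.id κ κ) (IsScalarTower.toAlgHom A B' B)).commutes c).symm
    have h : Algebra.IsPushout A κ B' B'₁ := inferInstance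
    have hB : Algebra.IsPushout A κ B B₁ := inferInstance
    haveI : Module.Invertible B₁ (QFDual.omega κ B'₁ B₁) := H p B'₁ B₁ h hB
    let Λ := LinearEquiv.ofBijective (QFDual.omegaBC (B₁ := B₁) h) (S8959.result A B' B κ B'₁ B₁ hf h hB)
    haveI : Module.Invertible B₁ (B₁ ⊗[B'] Disc.Omega A B') := Module.Invertible.congr Λ.symm
    -- `B₁ → T / pT`
    haveI hnt : Nontrivial (T ⧸ I) := Ideal.Quotient.nontrivial_iff.2 fun hIt =>
      (IsLocalRing.maximalIdeal.isMaximal T).ne_top (top_le_iff.1 (hIt ▸ hI))
    haveI : IsLocalRing (T ⧸ I) := IsLocalRing.of_surjective' _ Ideal.Quotient.mk_surjective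
    let k : κ →ₐ[A] T ⧸ I :=
      { Ideal.ResidueField.lift p (algebraMap A (T ⧸ I))
          (fun a ha => by
            rw [RingHom.mem_ker, IsScalarTower.algebraMap_apply A T (T ⧸ I)]
            exact Ideal.Quotient.eq_zero_iff_mem.2 (Ideal.mem_map_of_mem _ ha))
          (fun a ha => by
            show IsUnit (algebraMap A (T ⧸ I) a)
            rw [IsScalarTower.algebraMap_apply A T (T ⧸ I)]
            refine IsUnit.map _ ?_
            rw [IsScalarTower.algebraMap_apply A B T]
            exact IsLocalization.map_units T (⟨_, ha⟩ : q.primeCompl)) with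
        commutes' := fun a => Ideal.ResidueField.lift_algebraMap _ _ _ _ a }
    letI : Algebra B₁ (T ⧸ I) :=
      (Algebra.TensorProduct.productMap k (IsScalarTower.toAlgHom A B (T ⧸ I))).toAlgebra
    haveI : IsScalarTower B' B₁ (T ⧸ I) := IsScalarTower.of_algebraMap_eq fun b => by
      show _ = Algebra.TensorProduct.productMap k (IsScalarTower.toAlgHom A B (T ⧸ I)) ((1 : κ) ⊗ₜ[A] algebraMap B' B b)
      rw [Algebra.TensorProduct.productMap_apply_tmul, map_one, one_mul, IsScalarTower.coe_toAlgHom',
        ← IsScalarTower.algebraMap_apply]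
    haveI : Module.Invertible (T ⧸ I) ((T ⧸ I) ⊗[B₁] (B₁ ⊗[B'] Disc.Omega A B')) := inferInstance
    haveI : Subsingleton (CommRing.Pic (T ⧸ I)) := inferInstance
    obtain ⟨e1⟩ := Module.Invertible.free_iff_linearEquiv.1
      (inferInstance : Module.Free (T ⧸ I) ((T ⧸ I) ⊗[B₁] (B₁ ⊗[B'] Disc.Omega A B')))
    let e : (T ⧸ I) ⊗[T] M ≃ₗ[T ⧸ I] T ⧸ I :=
      (AlgebraTensorModule.cancelBaseChange B' T (T ⧸ I) (T ⧸ I) (Disc.Omega A B')).trans
        ((AlgebraTensorModule.cancelBaseChange B' B₁ (T ⧸ I) (T ⧸ I) (Disc.Omega A B')).symm.trans e1)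
    obtain ⟨E⟩ := QFDualLib.nonempty_equiv_of_fibre (A := A) (T := T) (M := M) p hI (e.restrictScalars T)
    exact ⟨(AlgebraTensorModule.cancelBaseChange B' B T T (Disc.Omega A B')).trans E⟩
  haveI : IsNoetherianRing B' := IsNoetherianRing.of_finite A B'
  haveI : Module.Finite B (QFDual.omega A B' B) := inferInstance
  haveI : Module.FinitePresentation B (QFDual.omega A B' B) := Module.finitePresentation_of_finite B _
  haveI : Module.Projective B (QFDual.omega A B' B) := Module.projective_of_localization_maximal fun I hI => by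
    obtain ⟨e⟩ := hloc I
    exact Module.Projective.of_equiv
      ((LocalizedModule.equivTensorProduct I.primeCompl (QFDual.omega A B' B)).trans e).symm
  refine QFDualLib.invertible_of_rankAtStalk fun q => ?_
  obtain ⟨e⟩ := hloc q.asIdeal
  rw [Module.rankAtStalk_eq_finrank_tensorProduct, e.finrank_eq, Module.finrank_self]

end Groth.Agent.S8963
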