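import Groth.Statements.S2217
import Groth.Agent.QFDualLib.Synt
import Groth.Agent.S8963

set_option autoImplicit false
universe u
open Disc AlgebraicGeometry CategoryTheory
open scoped TensorProduct

namespace Groth.Agent.S2217

set_option linter.style.haveILetI false
set_option synthInstance.maxHeartbeats 200000

/-- Equivalence of (2) and (4) in the affine finite free case: let A be a Noetherian ring and B an
A-algebra which is finite free as an A-module (so A -> B is flat and quasi-finite). Then all fibre
rings kappa(p) tensor_A B are Gorenstein if and only if omega_{B/A} = Hom_A(B, A), with its B-module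
structure through the argument, is an invertible B-module. -/
theorem result {A B : Type u} [CommRing A] [CommRing B]
    [Algebra A B] [IsNoetherianRing A] [Module.Finite A B] [Module.Free A B] :
    (∀ (p : Ideal A) [p.IsPrime], LocCoh.IsGorensteinRing (p.Fiber B)) ↔
      Module.Invertible B (Disc.Omega A B) := by
  haveI : IsNoetherianRing B := IsNoetherianRing.of_finite A B
  have hf : QFDual.IsQFFactor A B B := ⟨inferInstance, by
    rw [Algebra.algebraMap_self]
    exact inferInstanceAs (IsOpenImmersion (Spec.map (𝟙 (CommRingCat.of B))))⟩
  constructor
  · intro hG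
    have hinv : Module.Invertible B (QFDual.omega A B B) := (S8963.result A B B hf).2
        fun p _ B'₁ B₁ _ _ _ _ _ _ _ i9 _ _ _ t9 _ i3 t1 tt t0 h hB => by
      obtain rfl : i3 = i9 := Algebra.algebra_ext i3 i9 fun b =>
        @IsScalarTower.algebraMap_apply B B B₁ _ _ _ _ i9 i3 tt b
      haveI := h
      haveI := hB
      haveI : Module.Finite p.ResidueField B'₁ :=
        Module.Finite.equiv (Algebra.IsPushout.equiv A p.ResidueField B B'₁).toLinearEquiv
      haveI : IsScalarTower A B'₁ B₁ := IsScalarTower.of_algebraMap_eq fun a => by
        rw [IsScalarTower.algebraMap_apply A B B'₁, ← IsScalarTower.algebraMap_apply B B'₁ B₁,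
          ← IsScalarTower.algebraMap_apply A B B₁]
      haveI : Algebra.IsPushout A B p.ResidueField B'₁ := h.symm
      have hpush : Algebra.IsPushout B B B'₁ B₁ :=
        (Algebra.IsPushout.comp_iff A B p.ResidueField B'₁).1 hB.symm
      have hG1 : LocCoh.IsGorensteinRing B₁ :=
        Goren.isGorensteinRing_of_equiv _ _ (Algebra.IsPushout.equiv A p.ResidueField B B₁).toRingEquiv (hG p)
      haveI := hG1
      haveI : IsNoetherianRing B₁ := inferInstance
      exact QFDualLib.invertible_omega_field_of_gorenstein
        (QFDualLib.isOpenImmersion_baseChange hpush.symm hf.isOpenImmersion)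
        fun q _ => hG1.isGorensteinLocalRing_localization q
    haveI := hinv
    exact Module.Invertible.congr (TensorProduct.lid B (Disc.Omega A B))
  · intro hinv p _
    haveI := hinv
    haveI : Module.Invertible B (QFDual.omega A B B) :=
      Module.Invertible.congr (TensorProduct.lid B (Disc.Omega A B)).symm
    letI : Algebra B (p.Fiber B) := Algebra.TensorProduct.rightAlgebra
    haveI : Module.Finite p.ResidueField (p.Fiber B) := inferInstance
    have h : Algebra.IsPushout A p.ResidueField B (p.Fiber B) := inferInstance
    haveI := (S8963.result A B B hf).1 inferInstance p (p.Fiber B) (p.Fiber B) h h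
    have hF : Module.Invertible (p.Fiber B) (Disc.Omega p.ResidueField (p.Fiber B)) :=
      Module.Invertible.congr (TensorProduct.lid (p.Fiber B) (Disc.Omega p.ResidueField (p.Fiber B)))
    haveI : IsNoetherianRing (p.Fiber B) := IsNoetherianRing.of_finite p.ResidueField _
    exact { isGorensteinLocalRing_localization := fun q _ => QFDualLib.gorenstein_of_invertible_omega hF q }

end Groth.Agent.S2217
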