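import Groth.Statements.S2218
import Groth.Agent.DomDual.Basic
import Mathlib

set_option autoImplicit false
universe u v
open Disc

namespace Groth.Agent.S2218

/-- Special case: A -> B finite (the source allows quasi-finite maps). For a finite map of Noetherian
rings and omega = Hom_A(B, A) with its B-module structure through the argument, the associated
primes of the B-module omega are exactly the primes of B whose contraction to A is an associated
prime of A. -/
theorem result {A : Type u} {B : Type v} [CommRing A] [CommRing B]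
    [Algebra A B] [IsNoetherianRing A] [IsNoetherianRing B] [Module.Finite A B] :
    associatedPrimes B (Disc.Omega A B) =
      {q : Ideal B | q.IsPrime ∧ q.comap (algebraMap A B) ∈ associatedPrimes A A} := by
  ext q
  constructor
  · intro hq
    obtain ⟨hqp, φ, hφ⟩ := (isAssociatedPrime_iff.mp (AssociatedPrimes.mem_iff.1 hq) : q.IsPrime ∧ ∃ φ : Disc.Omega A B, q = (⊥ : Submodule B _).colon {φ})
    refine ⟨hqp, ?_⟩
    haveI : (q.comap (algebraMap A B)).IsPrime := Ideal.IsPrime.comap _
    obtain ⟨s, hs⟩ := Module.Finite.fg_top (R := A) (M := B)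
    have hle : s.inf (fun g => (⊥ : Submodule A A).colon {φ.toLinearMap g}) ≤ q.comap (algebraMap A B) := by
      intro a ha
      rw [Ideal.mem_comap, hφ, Submodule.mem_colon_singleton, Submodule.mem_bot]
      have hz : ∀ z : B, a * φ.toLinearMap z = 0 := fun z => by
        have hz : z ∈ Submodule.span A (s : Set B) := by rw [hs]; trivial
        induction hz using Submodule.span_induction with
        | mem g hg =>
          have := (Finset.inf_le (f := fun g => (⊥ : Submodule A A).colon {φ.toLinearMap g}) hg) ha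
          rwa [Submodule.mem_colon_singleton, Submodule.mem_bot, smul_eq_mul] at this
        | zero => simp
        | add x y _ _ hx hy => rw [map_add, mul_add, hx, hy, add_zero]
        | smul c x _ hx => rw [map_smul, smul_eq_mul, ← mul_assoc, mul_comm a c, mul_assoc, hx, mul_zero]
      refine Disc.Omega.ext (LinearMap.ext fun z => ?_)
      rw [Disc.Omega.smul_toLinearMap_apply, ← Algebra.smul_def, map_smul, smul_eq_mul, hz]
      rfl
    obtain ⟨g, hg, hgle⟩ := (Ideal.IsPrime.inf_le' ‹_›).1 hle
    refine AssociatedPrimes.mem_iff.2 (isAssociatedPrime_iff.2 ⟨‹_›, φ.toLinearMap g, le_antisymm (fun a ha => ?_) hgle⟩)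
    rw [Ideal.mem_comap, hφ, Submodule.mem_colon_singleton, Submodule.mem_bot] at ha
    rw [Submodule.mem_colon_singleton, Submodule.mem_bot, smul_eq_mul]
    have h1 : φ.toLinearMap (algebraMap A B a * g) = 0 := by
      rw [← Disc.Omega.smul_toLinearMap_apply, ha]; rfl
    rwa [← Algebra.smul_def, map_smul, smul_eq_mul] at h1
  · rintro ⟨hqp, hq⟩
    obtain ⟨hpp, ι, hι⟩ := (isAssociatedPrime_iff_exists_injective_linearMap (q.comap (algebraMap A B)) A).1 (AssociatedPrimes.mem_iff.1 hq)
    let p := q.comap (algebraMap A B)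
    have hp : p = q.comap (algebraMap A B) := rfl
    haveI : q.LiesOver p := ⟨hp⟩
    haveI : Module.IsTorsionFree (A ⧸ p) (B ⧸ q) :=
      Module.isTorsionFree_iff_algebraMap_injective.2 Ideal.algebraMap_quotient_injective
    haveI : Module.Finite (A ⧸ p) (B ⧸ q) := Module.Finite.of_restrictScalars_finite A _ _
    haveI : Algebra.IsIntegral (A ⧸ p) (B ⧸ q) := Algebra.IsIntegral.of_finite _ _
    obtain ⟨ψ, hψ⟩ := Groth.Agent.DomDual.exists_dual_ne_zero (R := A ⧸ p) (one_ne_zero : (1 : B ⧸ q) ≠ 0)
    let Φ : Disc.Omega A B := ⟨ι.comp ((ψ.restrictScalars A).comp ((Ideal.Quotient.mkₐ A q).toLinearMap))⟩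
    refine AssociatedPrimes.mem_iff.2 (isAssociatedPrime_iff.2 ⟨hqp, Φ, le_antisymm (fun b hb => ?_) fun b hb => ?_⟩)
    · rw [Submodule.mem_colon_singleton, Submodule.mem_bot]
      refine Disc.Omega.ext (LinearMap.ext fun z => ?_)
      show ι (ψ (Ideal.Quotient.mk q (b * z))) = 0
      rw [Ideal.Quotient.eq_zero_iff_mem.2 (q.mul_mem_right z hb), map_zero, map_zero]
    · rw [Submodule.mem_colon_singleton, Submodule.mem_bot] at hb
      by_contra hbq
      have hker : ∀ z : B, ψ (Ideal.Quotient.mk q (b * z)) = 0 := fun z => hι (by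
        rw [map_zero]
        have h := congrArg (fun f : Disc.Omega A B => f.toLinearMap z) hb
        simp only [Φ, Disc.Omega.smul_toLinearMap_apply, Disc.Omega.zero_toLinearMap, LinearMap.zero_apply,
          LinearMap.comp_apply, LinearMap.coe_restrictScalars, AlgHom.toLinearMap_apply, Ideal.Quotient.mkₐ_eq_mk] at h
        exact h)
      have hb0 : Ideal.Quotient.mk q b ≠ 0 := fun h => hbq (Ideal.Quotient.eq_zero_iff_mem.1 h)
      obtain ⟨a, ha, ha0⟩ := Submodule.exists_mem_ne_zero_of_ne_bot
        (Ideal.IsIntegral.comap_ne_bot (R := A ⧸ p) (I := Ideal.span {Ideal.Quotient.mk q b}) (by simpa using hb0))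
      rw [Ideal.mem_comap, Ideal.mem_span_singleton] at ha
      obtain ⟨c, hc⟩ := ha
      obtain ⟨c, rfl⟩ := Ideal.Quotient.mk_surjective c
      apply hψ
      have h1 : ψ (a • (1 : B ⧸ q)) = 0 := by rw [Algebra.smul_def, mul_one, hc, ← map_mul, hker]
      rw [map_smul] at h1
      exact (smul_eq_zero.1 h1).resolve_left ha0

end Groth.Agent.S2218
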