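import Groth.Statements.S2220
import Groth.Agent.QFDualLib.Open
import Groth.Agent.S6283

set_option autoImplicit false
universe u
open AlgebraicGeometry
open Disc CategoryTheory
open scoped TensorProduct

namespace Groth.Agent.S2220

set_option linter.style.haveILetI false
set_option maxHeartbeats 2000000
set_option synthInstance.maxHeartbeats 200000

/-- Part (2): for ring maps A -> B' -> B with B' of finite type over A and Spec B -> Spec B' an open
immersion, the Noether different of B over A is the ideal generated by the image of that of B'. -/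
theorem result {A B' B : Type u} [CommRing A] [CommRing B']
    [CommRing B] [Algebra A B'] [Algebra A B] [Algebra B' B] [IsScalarTower A B' B]
    [Algebra.FiniteType A B']
    (h : IsOpenImmersion (Spec.map (CommRingCat.ofHom (algebraMap B' B)))) :
    Disc.noetherDifferent A B = (Disc.noetherDifferent A B').map (algebraMap B' B) := by
  haveI : Module.Flat B' B := QFDualLib.flat_of_isOpenImmersion h
  haveI : Algebra.IsEpi B' B := by
    haveI := h
    refine CommRingCat.epi_iff_epi.1 ⟨fun {T} g₁ g₂ e => Spec.map_injective ?_⟩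
    rw [← cancel_mono (Spec.map (CommRingCat.ofHom (algebraMap B' B))), ← Spec.map_comp, ← Spec.map_comp, e]
  let f : B' →ₐ[A] B := IsScalarTower.toAlgHom A B' B
  let π : B' ⊗[A] B' →ₐ[A] B ⊗[A] B := Algebra.TensorProduct.map f f
  have hff : (f : B' →+* B).Flat := RingHom.flat_algebraMap_iff.2 inferInstance
  have hπ : (π : B' ⊗[A] B' →+* B ⊗[A] B).Flat := RingHom.Flat.tensorProductMap (S := A) hff hff
  letI : Algebra (B' ⊗[A] B') (B ⊗[A] B) := (π : B' ⊗[A] B' →+* B ⊗[A] B).toAlgebra
  haveI : Module.Flat (B' ⊗[A] B') (B ⊗[A] B) := hπ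
  set I' := KaehlerDifferential.ideal A B' with hI'
  have hI : KaehlerDifferential.ideal A B = I'.map (algebraMap (B' ⊗[A] B') (B ⊗[A] B)) := by
    refine le_antisymm ?_ ?_
    · rw [← KaehlerDifferential.span_range_eq_ideal, Ideal.span_le]
      rintro _ ⟨b, rfl⟩
      let J := I'.map (algebraMap (B' ⊗[A] B') (B ⊗[A] B))
      let q1 : B →+* (B ⊗[A] B) ⧸ J := (Ideal.Quotient.mk J).comp Algebra.TensorProduct.includeLeftRingHom
      let q2 : B →+* (B ⊗[A] B) ⧸ J :=
        (Ideal.Quotient.mk J).comp (Algebra.TensorProduct.includeRight : B →ₐ[A] B ⊗[A] B).toRingHom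
      have hq : ∀ b', q1 (algebraMap B' B b') = q2 (algebraMap B' B b') := fun b' => by
        refine Eq.symm (Ideal.Quotient.eq.2 ?_)
        have hmem : π ((1 : B') ⊗ₜ[A] b' - b' ⊗ₜ[A] (1 : B')) ∈ J :=
          Ideal.mem_map_of_mem _ (KaehlerDifferential.one_smul_sub_smul_one_mem_ideal A b')
        simpa [π, f] using hmem
      let g1 : B →ₐ[B'] (B ⊗[A] B) ⧸ J := ⟨q1, fun _ => rfl⟩
      let g2 : B →ₐ[B'] (B ⊗[A] B) ⧸ J := ⟨q2, fun b' => (hq b').symm⟩
      have h1 := congrArg (Algebra.TensorProduct.lift g1 g2 fun _ _ => Commute.all _ _)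
        ((Algebra.isEpi_iff_forall_one_tmul_eq B' B).1 inferInstance b)
      simp only [Algebra.TensorProduct.lift_tmul, map_one, mul_one, one_mul] at h1
      first
        | exact Ideal.Quotient.eq.1 h1
        | exact Ideal.Quotient.eq.1 h1.symm
    · rw [Ideal.map_le_iff_le_comap, hI', ← KaehlerDifferential.span_range_eq_ideal, Ideal.span_le]
      rintro _ ⟨b', rfl⟩
      show π _ ∈ KaehlerDifferential.ideal A B
      simpa [π, f] using KaehlerDifferential.one_smul_sub_smul_one_mem_ideal A (algebraMap B' B b')
  have hann : Submodule.annihilator (KaehlerDifferential.ideal A B) =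
      (Submodule.annihilator I').map (algebraMap (B' ⊗[A] B') (B ⊗[A] B)) := by
    rw [hI]
    refine le_antisymm (fun r hr => ?_) ?_
    · haveI : Module.Finite (B' ⊗[A] B') I' := Module.Finite.iff_fg.2 (KaehlerDifferential.ideal_fg A B')
      have e := (S6283.result (R := B' ⊗[A] B') (S := B ⊗[A] B) I').2 (by assumption)
      change r ∈ (Module.annihilator (B' ⊗[A] B') I').map _
      rw [e, Module.mem_annihilator]
      let ν : (B ⊗[A] B) ⊗[B' ⊗[A] B'] I' →ₗ[B' ⊗[A] B'] B ⊗[A] B :=
        (TensorProduct.rid _ _).toLinearMap ∘ₗ I'.subtype.lTensor (B ⊗[A] B)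
      have hν : Function.Injective ν := (TensorProduct.rid _ _).injective.comp
        (Module.Flat.lTensor_preserves_injective_linearMap I'.subtype Subtype.val_injective)
      have hrν : ∀ z, r * ν z = 0 ∧ ν (r • z) = r * ν z := by
        intro z
        induction z using TensorProduct.induction_on with
        | zero => simp
        | tmul c i =>
          have hi : r * algebraMap (B' ⊗[A] B') (B ⊗[A] B) (i : B' ⊗[A] B') = 0 :=
            Submodule.mem_annihilator.1 hr _ (Ideal.mem_map_of_mem _ i.2)
          have hv : ∀ c, ν (c ⊗ₜ i) = algebraMap (B' ⊗[A] B') (B ⊗[A] B) (i : B' ⊗[A] B') * c := fun c => by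
            show (i : B' ⊗[A] B') • c = _
            rw [Algebra.smul_def]
          refine ⟨?_, ?_⟩
          · rw [hv, ← mul_assoc, hi, zero_mul]
          · rw [TensorProduct.smul_tmul', hv, hv, smul_eq_mul, mul_left_comm]
        | add u v hu hv =>
          exact ⟨by rw [map_add, mul_add, hu.1, hv.1, add_zero], by rw [smul_add, map_add, hu.2, hv.2, map_add, mul_add]⟩
      intro z
      apply hν
      rw [(hrν z).2, (hrν z).1, map_zero]
    · rw [Ideal.map_le_iff_le_comap]
      intro a ha
      rw [Ideal.mem_comap, Submodule.mem_annihilator]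
      intro x hx
      refine Submodule.span_induction (p := fun x _ => algebraMap _ (B ⊗[A] B) a • x = 0) ?_ (smul_zero _)
        (fun x y _ _ hx hy => by rw [smul_add, hx, hy, add_zero]) (fun c x _ hx => by rw [smul_comm, hx, smul_zero]) hx
      rintro _ ⟨i, hi, rfl⟩
      rw [smul_eq_mul, ← map_mul, show a * i = 0 from Submodule.mem_annihilator.1 ha i hi, map_zero]
  let m : B ⊗[A] B →+* B := (Algebra.TensorProduct.lmul' (S := B) A).toRingHom
  let m' : B' ⊗[A] B' →+* B' := (Algebra.TensorProduct.lmul' (S := B') A).toRingHom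
  have hcomp : m.comp (algebraMap (B' ⊗[A] B') (B ⊗[A] B)) = (algebraMap B' B).comp m' := by
    refine RingHom.ext fun z => ?_
    induction z using TensorProduct.induction_on with
    | zero => simp
    | tmul a b =>
      show Algebra.TensorProduct.lmul' A (π (a ⊗ₜ b)) = algebraMap B' B (Algebra.TensorProduct.lmul' A (a ⊗ₜ b))
      simp [π, f]
    | add x y hx hy => rw [map_add, map_add, hx, hy]
  have key : Ideal.map m (Submodule.annihilator (KaehlerDifferential.ideal A B)) =
      Ideal.map (algebraMap B' B) (Ideal.map m' (Submodule.annihilator I')) := by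
    rw [hann, Ideal.map_map (f := algebraMap (B' ⊗[A] B') (B ⊗[A] B)), Ideal.map_map (f := m'), hcomp]
  exact key

end Groth.Agent.S2220
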