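import Groth.Statements.S2221
import Groth.Agent.S2215
import Groth.Agent.QFDualLib.Different

set_option autoImplicit false
universe u
open Disc
open scoped TensorProduct

namespace Groth.Agent.S2221

set_option linter.style.haveILetI false

/-- Affine finite free case: let A be a Noetherian ring and B an A-algebra which is finite free as an
A-module, and suppose omega = Hom_A(B, A) is an invertible B-module. Then the different of B over A
(the b with b omega inside B Trace) equals the Noether different of B over A. -/
theorem result {A B : Type u} [CommRing A]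
    [CommRing B] [Algebra A B] [IsNoetherianRing A] [Module.Finite A B] [Module.Free A B]
    [Module.Invertible B (Disc.Omega A B)] :
    Disc.differentSet A B = (Disc.noetherDifferent A B : Set B) := by
  rw [S2215.result]
  ext b
  constructor
  · intro hb
    have hall : ∀ x : Module.Dual B (Disc.Omega A B) ⊗[B] Disc.Omega A B,
        ∃ f : Disc.Omega A B →ₗ[B] B, f (Disc.Omega.trace A B) = b * contractLeft B _ x := by
      intro x
      induction x using TensorProduct.induction_on with
      | zero => exact ⟨0, by simp⟩
      | add u v hu hv =>
        obtain ⟨f, hf⟩ := hu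
        obtain ⟨g, hg⟩ := hv
        exact ⟨f + g, by rw [LinearMap.add_apply, hf, hg, map_add, mul_add]⟩
      | tmul f φ =>
        obtain ⟨c, hc⟩ := hb φ.toLinearMap
        refine ⟨c • f, ?_⟩
        have e : b • φ = c • Disc.Omega.trace A B := Disc.Omega.ext (LinearMap.ext hc)
        rw [LinearMap.smul_apply, ← map_smul, ← e, map_smul, contractLeft_apply, smul_eq_mul]
    obtain ⟨x, hx⟩ := (Module.Invertible.linearEquiv B (Disc.Omega A B)).surjective 1
    obtain ⟨f, hf⟩ := hall x
    refine ⟨f, hf.trans ?_⟩
    rw [show contractLeft B _ x = 1 from hx, mul_one]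
  · rintro ⟨f, rfl⟩ φ
    refine ⟨f ⟨φ⟩, fun x => ?_⟩
    exact congrArg (fun ψ : Disc.Omega A B => ψ.toLinearMap x)
      (QFDualLib.apply_smul_comm_of_invertible f (Disc.Omega.trace A B) ⟨φ⟩)

end Groth.Agent.S2221
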