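import Groth.Statements.S2227
import Groth.Agent.NodeFib.DvrChart
-- import your own Groth.Agent.* helpers here

set_option autoImplicit false
set_option backward.isDefEq.respectTransparency false
set_option backward.isDefEq.respectTransparency.types false
set_option maxHeartbeats 1000000
universe u
open CategoryTheory AlgebraicGeometry
open Models

namespace Groth.Agent.S2227

/-- Let R be a discrete valuation ring with uniformizer ϖ and X → Spec R an at-worst-nodal family of
relative dimension one. For every point x of X lying over the closed point of Spec R there are: a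
discrete valuation ring R' with an étale ring map R → R' sending ϖ to a uniformizer of R', an
element h of R'[u, v] which is either 0 or the constant ϖⁿ for some n (via R → R'), a scheme U with
an étale morphism e : U → X whose image contains x, and an étale morphism g : U → Spec(R'[u, v]/(uv
− h)), such that the two composites U → Spec R (through g and through e) agree. (The étaleness of g
is part of the statement here; the published display leaves it implicit.) -/
theorem result (R : Type u) [CommRing R] [IsDomain R]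
    [IsDiscreteValuationRing R] (ϖ : R) (hϖ : Irreducible ϖ) (X : Scheme.{u})
    (p : X ⟶ Spec (CommRingCat.of R)) (hp : Curv2.IsNodalFamily p) (x : X)
    (hx : p.base x = IsLocalRing.closedPoint R) :
    ∃ (R' : Type u) (_ : CommRing R') (_ : IsDomain R') (_ : IsDiscreteValuationRing R')
      (_ : Algebra R R') (_ : Algebra.Etale R R') (_ : Irreducible (algebraMap R R' ϖ))
      (h : MvPolynomial (Fin 2) R') (_ : h = 0 ∨ ∃ n : ℕ, h = MvPolynomial.C (algebraMap R R' ϖ ^ n))
      (U : Scheme.{u}) (e : U ⟶ X) (_ : Etale e) (x' : U) (_ : e.base x' = x)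
      (g : U ⟶ Spec (CommRingCat.of (MvPolynomial (Fin 2) R' ⧸
        Ideal.span {MvPolynomial.X 0 * MvPolynomial.X 1 - h}))) (_ : Etale g),
      g ≫ Spec.map (CommRingCat.ofHom ((Ideal.Quotient.mk _).comp
          (MvPolynomial.C.comp (algebraMap R R')))) = e ≫ p := by
  obtain ⟨hflat, hlfp, hgood⟩ := (NodeFib.isNodalFamily_iff p).1 hp
  haveI := hflat
  haveI := hlfp
  obtain ⟨_, ⟨V₀, hV, rfl⟩, hxV, -⟩ :=
    X.isBasis_affineOpens.exists_subset_of_mem_open (Set.mem_univ x) isOpen_univ
  let φ₀ : R →+* Γ(X, V₀) := (Spec.preimage (hV.fromSpec ≫ p)).hom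
  letI : Algebra R Γ(X, V₀) := φ₀.toAlgebra
  have he : NodeFib.relMor R Γ(X, V₀) = hV.fromSpec ≫ p := Spec.map_preimage (hV.fromSpec ≫ p)
  haveI : Algebra.FinitePresentation R Γ(X, V₀) := by
    have h : LocallyOfFinitePresentation (NodeFib.relMor R Γ(X, V₀)) := by rw [he]; infer_instance
    exact RingHom.finitePresentation_algebraMap.mp
      ((HasRingHomProperty.Spec_iff (P := @LocallyOfFinitePresentation)).mp h)
  haveI : Module.Flat R Γ(X, V₀) := by
    have h : Flat (NodeFib.relMor R Γ(X, V₀)) := by rw [he]; infer_instance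
    exact RingHom.flat_algebraMap_iff.mp (Flat.SpecMap_iff.mp h)
  obtain ⟨z, hz⟩ : x ∈ Set.range hV.fromSpec := hV.range_fromSpec.ge hxV
  have hg : NodeFib.Good (NodeFib.relMor R Γ(X, V₀)) z := by
    simp only [he]
    exact (NodeFib.good_etale_comp hV.fromSpec p z).2 (hgood _)
  have hcl : (NodeFib.relMor R Γ(X, V₀)) z = IsLocalRing.closedPoint R := by
    rw [he, Scheme.Hom.comp_apply]
    exact (congrArg p hz).trans hx
  obtain ⟨R', _, _, _, _, _, hirr, t, E, _, _, ψ, φ, hψ, hφ, p', hp'⟩ :=
    NodeFib.exists_dvr_chart (R := R) ϖ hϖ (A := Γ(X, V₀)) z hg (congrArg PrimeSpectrum.asIdeal hcl)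
  obtain ⟨h, hh, s, w, hts, hhs⟩ : ∃ (h : MvPolynomial (Fin 2) R')
      (_ : h = 0 ∨ ∃ n : ℕ, h = MvPolynomial.C (algebraMap R R' ϖ ^ n)) (s : R') (w : R'ˣ),
      t = w * s ∧ h = MvPolynomial.C s := by
    by_cases ht : t = 0
    · exact ⟨0, Or.inl rfl, 0, 1, by simp [ht], by simp⟩
    · obtain ⟨n, w, hw⟩ := IsDiscreteValuationRing.eq_unit_mul_pow_irreducible ht hirr
      exact ⟨_, Or.inr ⟨n, rfl⟩, _, w, hw, rfl⟩
  obtain ⟨θ, hθ⟩ := NodeFib.exists_rescale t s w hts h hhs
  let g₀ : (MvPolynomial (Fin 2) R' ⧸ Ideal.span {MvPolynomial.X 0 * MvPolynomial.X 1 - h}) →+* E :=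
    φ.toRingHom.comp θ.toRingHom
  have hg₀ : g₀.Etale :=
    RingHom.Etale.stableUnderComposition _ _ (RingHom.Etale.of_bijective hθ) hφ
  refine ⟨R', inferInstance, inferInstance, inferInstance, inferInstance, inferInstance, hirr, h, hh,
    Spec (CommRingCat.of E), Spec.map (CommRingCat.ofHom (S := E) ψ.toRingHom) ≫ hV.fromSpec, ?_, p', ?_,
    Spec.map (CommRingCat.ofHom (S := E) g₀), (HasRingHomProperty.Spec_iff (P := @Etale)).mpr hg₀, ?_⟩
  · haveI : Etale (Spec.map (CommRingCat.ofHom (S := E) ψ.toRingHom)) :=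
      (HasRingHomProperty.Spec_iff (P := @Etale)).mpr hψ
    infer_instance
  · rw [Scheme.Hom.comp_apply, ← hz]
    exact congrArg hV.fromSpec hp'
  · rw [Category.assoc, ← he, ← Spec.map_comp, ← Spec.map_comp, ← CommRingCat.ofHom_comp,
      ← CommRingCat.ofHom_comp]
    congr 2
    refine RingHom.ext fun r => ?_
    show φ (θ (algebraMap R' _ (algebraMap R R' r))) = ψ (algebraMap R _ r)
    rw [θ.commutes, ψ.commutes, ← IsScalarTower.algebraMap_apply, φ.commutes]

end Groth.Agent.S2227
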