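import Groth.Statements.S2237
import Groth.Agent.SyntLib.Hom
import Groth.Agent.S9287

set_option autoImplicit false
universe u
attribute [local instance] HasDerivedCategory.standard
open LCI

namespace Groth.Agent.S2237

/-- Implication (2) to (5), affine form: let A -> B be flat, quasi-finite and a local complete
intersection homomorphism (finite type with a Koszul-regular presentation). Then for every prime q
of B there are g in B outside q, a natural number n and polynomials f_1, ..., f_n in A[x_1, ...,
x_n] such that B_g is isomorphic as an A-algebra to A[x_1, ..., x_n]/(f_1, ..., f_n). -/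
theorem result {A B : Type u} [CommRing A]
    [CommRing B] [Algebra A B] [Module.Flat A B] [Algebra.QuasiFinite A B] (hlci : LCI.IsLCI A B)
    (q : Ideal B) [q.IsPrime] :
    ∃ g : B, g ∉ q ∧ ∃ (n : ℕ) (f : Fin n → MvPolynomial (Fin n) A),
      Nonempty (Localization.Away g ≃ₐ[A]
        (MvPolynomial (Fin n) A ⧸ Ideal.span (Set.range f))) := by
  obtain ⟨g, hg, n, c, F, hF, ⟨e⟩⟩ :=
    Groth.Agent.SyntLib.exists_relGCI_of_isSyntomic ((Groth.Agent.S9287.result A B).mpr ⟨inferInstance, hlci⟩) q
  haveI : Algebra.QuasiFinite B (Localization.Away g) := .of_isLocalization (Submonoid.powers g)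
  haveI : Algebra.QuasiFinite A (Localization.Away g) := .trans A B (Localization.Away g)
  let p : PrimeSpectrum A := ⟨q.comap (algebraMap A B), inferInstance⟩
  have hqg : Disjoint (Submonoid.powers g : Set B) (q : Set B) := by
    rw [Set.disjoint_left]
    rintro _ ⟨k, rfl⟩ hk
    exact hg (Ideal.IsPrime.mem_of_pow_mem inferInstance k hk)
  let q' : Ideal (Localization.Away g) := q.map (algebraMap B (Localization.Away g))
  haveI : q'.IsPrime := IsLocalization.isPrime_of_isPrime_disjoint (Submonoid.powers g) _ q ‹_› hqg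
  have hqp : q'.comap (algebraMap A (Localization.Away g)) = p.asIdeal := by
    have h2 : q'.comap (algebraMap B (Localization.Away g)) = q :=
      IsLocalization.comap_map_of_isPrime_disjoint (Submonoid.powers g) _ ‹q.IsPrime› hqg
    show _ = q.comap (algebraMap A B)
    rw [IsScalarTower.algebraMap_eq A B (Localization.Away g), ← Ideal.comap_comap]
    exact congrArg (Ideal.comap (algebraMap A B)) h2
  obtain ⟨Q, hQ, -⟩ := Groth.Agent.SyntLib.exists_fiber_prime p.asIdeal q' hqp
  haveI : Nontrivial (p.asIdeal.Fiber (Localization.Away g)) :=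
    ⟨⟨0, 1, fun h => hQ.ne_top ((Ideal.eq_top_iff_one _).mpr (h ▸ Q.zero_mem))⟩⟩
  let eF : p.asIdeal.Fiber (Localization.Away g) ≃ₐ[p.asIdeal.ResidueField] p.asIdeal.Fiber (Synt.RelGCIRing A n c F) :=
    Algebra.TensorProduct.congr AlgEquiv.refl e
  haveI : Nontrivial (p.asIdeal.Fiber (Synt.RelGCIRing A n c F)) := eF.toEquiv.symm.nontrivial
  obtain ⟨hcn, hdim⟩ := hF p this
  haveI : IsArtinianRing (p.asIdeal.Fiber (Localization.Away g)) :=
    IsArtinianRing.of_finite p.asIdeal.ResidueField _
  rw [← ringKrullDim_eq_of_ringEquiv eF.toRingEquiv, ringKrullDimZero_iff_ringKrullDim_eq_zero.mp inferInstance] at hdim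
  have hnc : n - c = 0 := by exact_mod_cast hdim.symm
  obtain rfl : c = n := le_antisymm hcn (Nat.sub_eq_zero_iff_le.mp hnc)
  exact ⟨g, hg, c, F, ⟨e⟩⟩


end Groth.Agent.S2237
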