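import Groth.Statements.S2326
import Groth.Agent.TMul.AmpleCrit

set_option autoImplicit false
universe u
open CategoryTheory CategoryTheory.Limits AlgebraicGeometry
open EGA2

namespace Groth.Agent.S2326

/-- Let X be a quasi-compact separated scheme (the source also allows a prescheme with Noetherian
underlying space) and L an invertible module. Suppose that for every quasi-coherent ideal sheaf I of
finite type there are n > 0 and k > 0 with I ⊗ L^{⊗n} a quotient of O_X^k. Then L is ample. -/
theorem result (X : Scheme.{u}) [CompactSpace X] [X.IsSeparated] (L : X.Modules) (hL : PicF.IsInvertible L)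
    (h : ∀ I : X.IdealSheafData, BlowUp.IsFiniteTypeIdeal I →
      ∃ (n k : ℕ) (p : FlatMod.freeMod X k ⟶ CohB1.tensorMod (ClSub.idealMod I) (CohB1.tensorPow L (n + 1))), 0 < k ∧ Epi p) :
    CohB1.IsAmple L := by
  refine ⟨hL, inferInstance, fun x => ?_⟩
  obtain ⟨U, hU, hxU, -⟩ := exists_isAffineOpen_mem_and_subset (x := x) (U := ⊤) trivial
  obtain ⟨I, -, -, -, -, -, -, hfg, hsupp⟩ := Groth.Agent.QC.exists_ftIdeal U hU.isCompact
  obtain ⟨n, k, p, -, hp⟩ := h I hfg
  obtain ⟨s, hxs, hsU⟩ := TMul.exists_genLocus_le_compl (ClSub.idealModι I)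
    (TMul.isInvertible_tensorPow hL (n + 1)) I
    (fun V => Ideal.ext fun c => (Groth.Agent.QC.mem_range_idealModι_affine I V c).symm)
    hsupp hxU p (fun V _ => Groth.Agent.QC.app_injective_of_mono _ V)
  exact ⟨n, s, hxs, TMul.isAffineOpen_genLocus_of_le (TMul.isInvertible_tensorPow hL (n + 1)) s hU hsU⟩

end Groth.Agent.S2326
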