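import Groth.Statements.S2335
import Groth.Agent.DvrDom.Valuative

set_option autoImplicit false
universe u
open CategoryTheory CategoryTheory.Limits AlgebraicGeometry
open EGA2

namespace Groth.Agent.S2335

/-- Let Y be locally Noetherian and f : X → Y of finite type. Then f is proper if and only if for every
discrete valuation ring A with fraction field K and every commutative square Spec K → X, Spec A → Y,
there is exactly one morphism Spec A → X making both triangles commute. -/
theorem result {X Y : Scheme.{u}} [IsLocallyNoetherian Y] (f : X ⟶ Y) [LocallyOfFiniteType f] [QuasiCompact f] :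
    IsProper f ↔ ∀ (A : Type u) [CommRing A] [IsDomain A] [IsDiscreteValuationRing A] (x : (Spec (CommRingCat.of (FractionRing A))) ⟶ X) (y : (Spec (CommRingCat.of A)) ⟶ Y),
      x ≫ f = (Spec.map (CommRingCat.ofHom (algebraMap A (FractionRing A)))) ≫ y → ∃! l : (Spec (CommRingCat.of A)) ⟶ X, l ≫ f = y ∧ (Spec.map (CommRingCat.ofHom (algebraMap A (FractionRing A)))) ≫ l = x := by
  refine ⟨fun _ A _ _ _ x y h ↦ ?_, fun H ↦ Groth.Agent.DvrDom.isProper_of_dvr f H⟩
  let S : ValuativeCommSq f := ⟨A, FractionRing A, x, y, ⟨h⟩⟩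
  have hu : ValuativeCriterion f :=
    (show (ValuativeCriterion ⊓ @QuasiCompact ⊓ @QuasiSeparated ⊓ @LocallyOfFiniteType :
      MorphismProperty Scheme.{u}) f by rw [← IsProper.eq_valuativeCriterion]; assumption).1.1.1
  obtain ⟨hU⟩ := hu S
  refine ⟨hU.default.l, ⟨hU.default.fac_right, hU.default.fac_left⟩, fun l hl ↦ ?_⟩
  exact congrArg CommSq.LiftStruct.l (hU.uniq ⟨l, hl.2, hl.1⟩)

end Groth.Agent.S2335
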