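import Groth.Statements.S2342
import Mathlib.AlgebraicGeometry.FunctionField
import Mathlib.AlgebraicGeometry.ResidueField
import Mathlib.AlgebraicGeometry.Morphisms.Separated
import Mathlib.AlgebraicGeometry.Morphisms.IsIso
import Mathlib.RingTheory.Valuation.ValuationRing

set_option autoImplicit false
set_option linter.style.haveILetI false
set_option backward.isDefEq.respectTransparency false
universe u
open CategoryTheory CategoryTheory.Limits AlgebraicGeometry
open EGA2

namespace Groth.Agent.S2342

theorem specializes_injective {Y : Scheme.{u}} [IsIntegral Y] {y p : Y} (hy : y = genericPoint Y) (h : y ⤳ p) :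
    Function.Injective (Y.presheaf.stalkSpecializes h).hom := by
  subst hy
  exact IsFractionRing.injective (Y.presheaf.stalk p) Y.functionField

/-- Let A be a valuation ring with Y = Spec A, X an integral separated scheme and f : X → Y a morphism
which is closed as a map of topological spaces, such that the fibre over the generic point of Y
consists of exactly one point x and the induced map from the residue field of the generic point of Y
to that of x is bijective. Then f is an isomorphism. -/
theorem result (A : Type u) [CommRing A] [IsDomain A] [ValuationRing A]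
    (X : Scheme.{u}) [IsIntegral X] [X.IsSeparated] (f : X ⟶ Spec (CommRingCat.of A)) (hf : IsClosedMap f.base)
    (x : X) (hx : f.base ⁻¹' {genericPoint (Spec (CommRingCat.of A))} = {x})
    (hres : Function.Bijective (f.residueFieldMap x).hom) : IsIso f := by
  let Y := Spec (CommRingCat.of A)
  haveI : IsIntegral Y := inferInstance
  let ξ := genericPoint X
  have hη : f.base ξ = genericPoint Y := by
    have hfx : f.base x = genericPoint Y := (hx.ge rfl : x ∈ f.base ⁻¹' {genericPoint Y})
    have h1 : f.base ξ ⤳ genericPoint Y :=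
      hfx ▸ ((genericPoint_spec X).specializes (Set.mem_univ x)).map f.continuous
    exact (h1.antisymm ((genericPoint_spec Y).specializes (Set.mem_univ _))).eq
  have hxξ : ξ = x := by simpa using hx.le (show ξ ∈ f.base ⁻¹' {genericPoint Y} from hη)
  subst hxξ
  haveI : IsIso (f.stalkMap ξ) := by
    rw [ConcreteCategory.isIso_iff_bijective]
    have hF : IsField (Y.presheaf.stalk (f.base ξ)) := by
      rw [hη]; exact Field.toIsField Y.functionField
    have hU : Function.Bijective (X.residue ξ).hom :=
      ⟨RingHom.injective (R := X.functionField) (X.residue ξ).hom, X.residue_surjective _⟩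
    letI := hF.toField
    have hV : Function.Bijective (Y.residue (f.base ξ)).hom :=
      ⟨RingHom.injective (R := Y.presheaf.stalk (f.base ξ)) (Y.residue (f.base ξ)).hom, Y.residue_surjective _⟩
    have hc := hres.comp hV
    rw [← RingHom.coe_comp, ← CommRingCat.hom_comp, Scheme.residue_residueFieldMap, CommRingCat.hom_comp,
      RingHom.coe_comp] at hc
    exact (Function.Bijective.of_comp_iff' hU _).1 hc
  have hspX : ∀ x' : X, ξ ⤳ x' := fun x' => (genericPoint_spec X).specializes (Set.mem_univ _)
  have hsp : ∀ x' : X, f.base ξ ⤳ f.base x' := fun x' => (hspX x').map f.continuous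
  have hinjY : ∀ (p : Y) (h : f.base ξ ⤳ p), Function.Injective (Y.presheaf.stalkSpecializes h).hom :=
    fun p h => specializes_injective hη h
  have hinjX : ∀ x' : X, Function.Injective (X.presheaf.stalkSpecializes (hspX x')).hom :=
    fun x' => specializes_injective rfl _
  have hiso : ∀ x' : X, IsIso (f.stalkMap x') := fun x' => by
    rw [ConcreteCategory.isIso_iff_bijective]
    refine ⟨fun a b hab => hinjY _ (hsp x') ?_, fun b => ?_⟩
    · refine (ConcreteCategory.bijective_of_isIso (f.stalkMap ξ)).1 ?_
      refine (Scheme.Hom.stalkSpecializes_stalkMap_apply f ξ x' (hspX x') a).trans ?_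
      refine Eq.trans ?_ (Scheme.Hom.stalkSpecializes_stalkMap_apply f ξ x' (hspX x') b).symm
      exact congrArg _ hab
    · let θ : A →+* X.presheaf.stalk ξ :=
        (f.stalkMap ξ).hom.comp (StructureSheaf.toStalk A (f.base ξ)).hom
      let ρ : A →+* X.presheaf.stalk x' :=
        (f.stalkMap x').hom.comp (StructureSheaf.toStalk A (f.base x')).hom
      have hθ : ∀ a, (X.presheaf.stalkSpecializes (hspX x')).hom (ρ a) = θ a := fun a => by
        refine (Scheme.Hom.stalkSpecializes_stalkMap_apply f ξ x' (hspX x') _).symm.trans ?_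
        exact congrArg (f.stalkMap ξ).hom (congrArg (fun m => m.hom a) (StructureSheaf.toStalk_stalkSpecializes (hsp x')))
      obtain ⟨z, hz⟩ := (ConcreteCategory.bijective_of_isIso (f.stalkMap ξ)).2 ((X.presheaf.stalkSpecializes (hspX x')).hom b)
      letI : Algebra A (Y.presheaf.stalk (f.base ξ)) := (StructureSheaf.toStalk A (f.base ξ)).hom.toAlgebra
      haveI : IsLocalization.AtPrime (Y.presheaf.stalk (f.base ξ)) (PrimeSpectrum.asIdeal (f.base ξ)) :=
        StructureSheaf.IsLocalization.to_stalk A (f.base ξ)
      obtain ⟨⟨a, s⟩, has⟩ := IsLocalization.surj (PrimeSpectrum.asIdeal (f.base ξ)).primeCompl z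
      have hs0 : IsUnit (θ s) :=
        (IsLocalization.map_units (Y.presheaf.stalk (f.base ξ)) s).map (f.stalkMap ξ).hom
      have hb : (X.presheaf.stalkSpecializes (hspX x')).hom b * θ s = θ a := by
        rw [← hz]
        exact (map_mul (f.stalkMap ξ).hom _ _).symm.trans (congrArg (f.stalkMap ξ).hom has)
      obtain ⟨c, hc | hc⟩ := ValuationRing.cond (s : A) a
      · refine ⟨(StructureSheaf.toStalk A (f.base x')).hom c, hinjX x' ?_⟩
        refine (hθ c).trans (hs0.mul_left_inj.1 ?_)
        rw [hb, ← map_mul, mul_comm, hc]
      · have h1 : b * ρ c = 1 ∨ θ a = 0 := by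
          by_cases ha : θ a = 0
          · exact Or.inr ha
          · refine Or.inl (hinjX x' (mul_right_cancel₀ (M₀ := X.functionField) ha ?_))
            rw [map_mul, map_one, one_mul, hθ, mul_assoc]
            conv_lhs => rw [← map_mul, mul_comm c a, hc]
            exact hb
        rcases h1 with h1 | h1
        · have hu : IsUnit ((StructureSheaf.toStalk A (f.base x')).hom c) :=
            isUnit_of_map_unit (f.stalkMap x').hom _ (IsUnit.of_mul_eq_one_right _ h1)
          obtain ⟨w, hw⟩ : ∃ w : Y.presheaf.stalk (f.base x'), w * (show Y.presheaf.stalk (f.base x') from (StructureSheaf.toStalk A (f.base x')).hom c) = 1 :=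
            ⟨(hu.unit⁻¹ : _ˣ).val, hu.val_inv_mul⟩
          refine ⟨w, ?_⟩
          have h2 : (f.stalkMap x').hom w * ρ c = 1 :=
            (map_mul (f.stalkMap x').hom _ _).symm.trans ((congrArg _ hw).trans (map_one _))
          exact (IsUnit.of_mul_eq_one_right _ h1).mul_left_inj.1 (h2.trans h1.symm)
        · refine ⟨0, hinjX x' (hs0.mul_left_inj.1 ?_)⟩
          rw [hb, h1, map_zero, map_zero, zero_mul]
  have hinj : Function.Injective f.base := by
    intro x₁ x₂ h12
    let χ (x' : X) (h : f.base x₁ ⤳ f.base x') : Spec (Y.presheaf.stalk (f.base x₁)) ⟶ X :=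
      haveI := hiso x'
      Spec.map (inv (f.stalkMap x') ≫ Y.presheaf.stalkSpecializes h) ≫ X.fromSpecStalk x'
    have hχ : ∀ (x' : X) (h : f.base x₁ ⤳ f.base x'),
        Spec.map (Y.presheaf.stalkSpecializes (hsp x₁)) ≫ χ x' h = Spec.map (inv (f.stalkMap ξ)) ≫ X.fromSpecStalk ξ := by
      intro x' h
      haveI := hiso x'
      rw [← Scheme.SpecMap_stalkSpecializes_fromSpecStalk (hspX x')]
      simp only [χ, ← Spec.map_comp_assoc, Category.assoc, TopCat.Presheaf.stalkSpecializes_comp]
      congr 2
      rw [IsIso.inv_comp_eq, ← Category.assoc, IsIso.eq_comp_inv]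
      exact Scheme.Hom.stalkSpecializes_stalkMap f ξ x' (hspX x')
    have hclosed : ∀ (x' : X) (h : f.base x₁ ⤳ f.base x') (_ : IsLocalHom (Y.presheaf.stalkSpecializes h).hom),
        χ x' h (IsLocalRing.closedPoint _) = x' := by
      intro x' h _
      haveI := hiso x'
      simp only [χ]
      rw [Scheme.Hom.comp_apply]
      haveI : IsLocalHom (inv (f.stalkMap x') ≫ Y.presheaf.stalkSpecializes h).hom := by
        rw [CommRingCat.hom_comp]; infer_instance
      rw [Spec_closedPoint, Scheme.fromSpecStalk_closedPoint]
    haveI : IsDominant (Spec.map (Y.presheaf.stalkSpecializes (hsp x₁))) := by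
      refine ⟨?_⟩
      refine (PrimeSpectrum.denseRange_comap_iff_ker_le_nilRadical _).2 ?_
      rw [(RingHom.injective_iff_ker_eq_bot _).1 (hinjY _ (hsp x₁))]
      exact bot_le
    have e : χ x₁ specializes_rfl = χ x₂ (specializes_of_eq h12) :=
      ext_of_isDominant (Spec.map (Y.presheaf.stalkSpecializes (hsp x₁))) ((hχ _ _).trans (hχ _ _).symm)
    have hl2 : IsLocalHom (Y.presheaf.stalkSpecializes (specializes_of_eq h12)).hom := by
      haveI : IsIso (Y.presheaf.stalkSpecializes (specializes_of_eq h12)) :=
        (Y.presheaf.stalkCongr (Inseparable.of_eq h12.symm)).isIso_hom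
      infer_instance
    have hl1 : IsLocalHom (Y.presheaf.stalkSpecializes (specializes_rfl (x := f.base x₁))).hom := by
      rw [TopCat.Presheaf.stalkSpecializes_refl]; infer_instance
    rw [← hclosed x₁ specializes_rfl hl1, e, hclosed x₂ _ hl2]
  have hsurj : Function.Surjective f.base := fun y =>
    ((genericPoint_spec Y).specializes (Set.mem_univ y)).mem_closed hf.isClosed_range ⟨ξ, hη⟩
  have hemb : Topology.IsOpenEmbedding f.base :=
    ((isHomeomorph_iff_continuous_isClosedMap_bijective).2 ⟨f.continuous, hf, hinj, hsurj⟩).isOpenEmbedding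
  haveI := hiso
  haveI : IsOpenImmersion f := IsOpenImmersion.of_isIso_stalkMap f hemb
  haveI : Surjective f := ⟨hsurj⟩
  have hall : (MorphismProperty.isomorphisms Scheme) f := by
    rw [isomorphisms_eq_isOpenImmersion_inf_surjective]
    exact ⟨inferInstance, inferInstance⟩
  exact hall

end Groth.Agent.S2342
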