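import Groth.Statements.S2343
import Groth.Agent.Hensel.LocalPiece
import Groth.Agent.Hensel.Local
import Groth.Agent.GrpField.FlatPoint
import Mathlib.AlgebraicGeometry.ZariskisMainTheorem
import Mathlib.AlgebraicGeometry.Morphisms.FlatMono
-- import your own Groth.Agent.* helpers here

set_option autoImplicit false
set_option linter.style.haveILetI false
set_option backward.isDefEq.respectTransparency false
set_option backward.isDefEq.respectTransparency.types false
universe u
open CategoryTheory CategoryTheory.Limits AlgebraicGeometry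
open EGA2

namespace Groth.Agent.S2343

/-- Let A be a complete Noetherian local ring, X a separated scheme locally of finite type over Spec A,
and x a point of X over the closed point which is isolated in its fibre. Then the local ring of X at
x is a finite A-module and the canonical morphism Spec O_{X,x} → X is both an open and a closed
immersion (X is the disjoint sum of Spec O_{X,x} and another open subscheme). -/
theorem result (A : Type u) [CommRing A] [IsLocalRing A] [IsNoetherianRing A]
    [IsAdicComplete (IsLocalRing.maximalIdeal A) A] (X : Scheme.{u}) (f : X ⟶ Spec (CommRingCat.of A)) [LocallyOfFiniteType f] [IsSeparated f]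
    (x : X) (hx : f.base x = IsLocalRing.closedPoint A)
    (hisol : IsOpen ((Subtype.val : (f.base ⁻¹' {IsLocalRing.closedPoint A}) → X) ⁻¹' {x})) :
    ((Scheme.ΓSpecIso (CommRingCat.of A)).inv ≫ f.appTop ≫ X.presheaf.germ ⊤ x trivial).hom.Finite ∧ IsOpenImmersion (X.fromSpecStalk x) ∧ IsClosedImmersion (X.fromSpecStalk x) := by
  haveI : HenselianLocalRing A := (Hensel.henselianLocalRing_iff A).2 inferInstance
  have hq : f.QuasiFiniteAt x := by
    rw [Scheme.Hom.quasiFiniteAt_iff_isOpen_singleton_asFiber, ← (f.fiberHomeo (f x)).isOpen_image,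
      Set.image_singleton, Scheme.Hom.asFiber, Homeomorph.apply_symm_apply]
    let e : (f ⁻¹' {f x}) ≃ₜ (f.base ⁻¹' {IsLocalRing.closedPoint A}) := Homeomorph.setCongr (by rw [← hx])
    rw [← e.isOpen_image, Set.image_singleton]
    convert hisol using 1
    ext z
    exact ⟨fun h => congrArg Subtype.val h, fun h => Subtype.ext h⟩
  obtain ⟨V, hV, hxV, -⟩ := exists_isAffineOpen_mem_and_subset (X := X) (x := x) (U := ⊤) trivial
  have hle : V ≤ f ⁻¹ᵁ ⊤ := fun _ _ => trivial
  let ψ : CommRingCat.of A ⟶ Γ(X, V) := (Scheme.ΓSpecIso (CommRingCat.of A)).inv ≫ f.appLE ⊤ V hle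
  let φ : CommRingCat.of A ⟶ X.presheaf.stalk x :=
    (Scheme.ΓSpecIso (CommRingCat.of A)).inv ≫ f.appTop ≫ X.presheaf.germ ⊤ x trivial
  have hφ : φ = ψ ≫ X.presheaf.germ V x hxV := by
    simp only [φ, ψ, Category.assoc, Scheme.Hom.appLE]
    rw [X.presheaf.germ_res]
    rfl
  let q : Ideal Γ(X, V) := (hV.primeIdealOf ⟨x, hxV⟩).asIdeal
  letI : Algebra A Γ(X, V) := ψ.hom.toAlgebra
  haveI : Algebra.FiniteType A Γ(X, V) := by
    have h1 : (f.appLE ⊤ V hle).hom.FiniteType :=
      LocallyOfFiniteType.finiteType_appLE f (isAffineOpen_top _) hV hle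
    exact RingHom.FiniteType.comp h1 (RingHom.FiniteType.of_surjective _
      (ConcreteCategory.bijective_of_isIso (Scheme.ΓSpecIso (CommRingCat.of A)).inv).2)
  haveI : q.LiesOver (IsLocalRing.maximalIdeal A) := ⟨by
    have h1 := IsAffineOpen.comap_primeIdealOf_appLE (f := f) (x := x) ⊤ (isAffineOpen_top _) V hV hle hxV
    have h2 : (Spec.map ψ) (hV.primeIdealOf ⟨x, hxV⟩) = IsLocalRing.closedPoint A := by
      rw [← hx]
      simp only [ψ, Spec.map_comp, Scheme.Hom.comp_apply]
      change Spec.map (Scheme.ΓSpecIso (CommRingCat.of A)).inv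
        (PrimeSpectrum.comap (f.appLE ⊤ V hle).hom (hV.primeIdealOf ⟨x, hxV⟩)) = _
      rw [show PrimeSpectrum.comap (f.appLE ⊤ V hle).hom (hV.primeIdealOf ⟨x, hxV⟩) =
        (isAffineOpen_top _).primeIdealOf ⟨f x, trivial⟩ from h1, ← Scheme.isoSpec_Spec_inv,
        ← IsAffineOpen.fromSpec_top]
      exact (isAffineOpen_top _).fromSpec_primeIdealOf ⟨f x, trivial⟩
    exact (congrArg PrimeSpectrum.asIdeal h2).symm⟩
  haveI : Algebra.QuasiFiniteAt A q := by
    have h1 : (f.appLE ⊤ V hle).hom.QuasiFiniteAt q := hq.quasiFiniteAt hV (isAffineOpen_top _) hle hxV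
    letI : Algebra Γ(Spec (CommRingCat.of A), ⊤) Γ(X, V) := (f.appLE ⊤ V hle).hom.toAlgebra
    rw [Algebra.QuasiFiniteAt, ← RingHom.quasiFinite_algebraMap]
    rw [RingHom.QuasiFiniteAt, Algebra.QuasiFiniteAt, ← RingHom.quasiFinite_algebraMap] at h1
    refine (congrArg RingHom.QuasiFinite ?_).mp (h1.comp (RingHom.QuasiFinite.of_finite (RingHom.Finite.of_surjective _
      (ConcreteCategory.bijective_of_isIso (Scheme.ΓSpecIso (CommRingCat.of A)).inv).2)))
    rw [IsScalarTower.algebraMap_eq A Γ(X, V) (Localization.AtPrime q),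
      IsScalarTower.algebraMap_eq Γ(Spec (CommRingCat.of A), ⊤) Γ(X, V) (Localization.AtPrime q)]
    rfl
  have hfin : φ.hom.Finite := by
    have h1 : (algebraMap A (Localization.AtPrime q)).Finite :=
      RingHom.finite_algebraMap.2 (Hensel.finite_atPrime A Γ(X, V) q)
    letI : Algebra Γ(X, V) (X.presheaf.stalk x) := X.presheaf.algebra_section_stalk ⟨x, hxV⟩
    haveI : IsLocalization.AtPrime (X.presheaf.stalk x) q := hV.isLocalization_stalk ⟨x, hxV⟩
    let e := IsLocalization.algEquiv q.primeCompl (Localization.AtPrime q) (X.presheaf.stalk x)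
    have h2 := (RingHom.Finite.of_surjective e.toRingEquiv.toRingHom e.surjective).comp h1
    refine (congrArg RingHom.Finite ?_).mp h2
    rw [hφ]
    refine RingHom.ext fun a => ?_
    exact e.commutes _
  refine ⟨hfin, ?_⟩
  let g := X.fromSpecStalk x
  haveI : IsFinite (Spec.map φ) := (IsFinite.SpecMap_iff φ).2 hfin
  have hgf : g ≫ f = Spec.map φ := by
    rw [hφ, Spec.map_comp]
    simp only [g, ψ, Spec.map_comp]
    rw [← IsAffineOpen.fromSpecStalk_eq_fromSpecStalk hV hxV, IsAffineOpen.fromSpecStalk, Category.assoc,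
      ← Scheme.isoSpec_Spec_inv, ← IsAffineOpen.fromSpec_top]
    exact congrArg _ (IsAffineOpen.SpecMap_appLE_fromSpec f (isAffineOpen_top _) hV hle).symm
  haveI : IsFinite (g ≫ f) := by rw [hgf]; infer_instance
  haveI : IsFinite g := MorphismProperty.of_postcomp (W := @IsFinite) (W' := @IsSeparated) g f inferInstance inferInstance
  haveI : Mono g := inferInstanceAs (Mono (X.fromSpecStalk x))
  haveI : IsLocallyNoetherian X := LocallyOfFiniteType.isLocallyNoetherian f
  haveI : Flat g := GrpField.flat_fromSpecStalk x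
  haveI : LocallyOfFinitePresentation g := inferInstance
  exact ⟨IsOpenImmersion.of_flat_of_mono g, (IsClosedImmersion.iff_isProper_and_mono g).2 ⟨inferInstance, inferInstance⟩⟩

end Groth.Agent.S2343
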