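import Groth.Statements.S2345
import Groth.Agent.CurveP1.Basic
import Groth.Agent.CurveNorm.Generic
import Groth.Agent.S4454

set_option autoImplicit false
set_option linter.style.haveILetI false
set_option backward.isDefEq.respectTransparency false
universe u
open CategoryTheory CategoryTheory.Limits AlgebraicGeometry
attribute [local instance] Curv2.stalkAlgebra
open EGA2

namespace Groth.Agent.S2345

/-- Let K be a finitely generated field extension of k of transcendence degree one. Then there is an
integral normal algebraic curve X, proper over k, whose function field is isomorphic to K compatibly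
with the maps from k. -/
theorem result (k : Type u) [Field k] (K : Type u) [Field K] [Algebra k K]
    (hfg : (⊤ : IntermediateField k K).FG) (htr : Algebra.trdeg k K = 1) :
    ∃ (X : Scheme.{u}) (_ : X.Over (Spec (CommRingCat.of k))) (_ : IsIntegral X), IsProper (X ↘ (Spec (CommRingCat.of k))) ∧ Pi1.IsNormalScheme X ∧
      (∀ x : X, IsClosed ({x} : Set X) → ringKrullDim (X.presheaf.stalk x) = 1) ∧
      ∃ e : X.presheaf.stalk (genericPoint X) ≃+* K, ∀ c : k, e (algebraMap k (X.presheaf.stalk (genericPoint X)) c) = algebraMap k K c := by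
  obtain ⟨t, hinj, halg⟩ := CurveP1.exists_aeval k K htr
  let Y : Scheme.{u} := CohB1.ProjSpace 1 k
  let S := Spec (CommRingCat.of k)
  haveI : IsIntegral Y := CurveP1.isIntegral k
  haveI : IsProper (Y ↘ S) := ProjMor.isProper_toSpec 1 k
  let U : Y.Opens := Proj.basicOpen (CohB1.polyGrading 1 k) (MvPolynomial.X 0)
  have hU : IsAffineOpen U := ProjLib.isAffineOpen_basicOpen _ (CurveP1.X_mem k 0) one_pos
  obtain ⟨e, he⟩ := CurveP1.exists_chart k 0
  let e' : Γ(Y, U) ≃+* Polynomial k := e
  haveI : Nonempty U := by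
    by_contra hne
    have hU0 : U = ⊥ := TopologicalSpace.Opens.ext (Set.eq_empty_iff_forall_notMem.2 fun x hx => hne ⟨⟨x, hx⟩⟩)
    haveI : Subsingleton Γ(Y, U) := by
      rw [hU0]; exact CommRingCat.subsingleton_of_isTerminal (Scheme.sheaf Y).isTerminalOfEmpty
    exact not_subsingleton (Polynomial k) (Function.Injective.subsingleton e'.symm.injective)
  haveI := functionField_isFractionRing_of_isAffineOpen Y U hU
  let ψ : Γ(Y, U) →+* K := (Polynomial.aeval t : Polynomial k →ₐ[k] K).toRingHom.comp e'.toRingHom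
  have hψ : Function.Injective ψ := hinj.comp e'.injective
  let φ : Y.functionField →+* K := IsFractionRing.lift hψ
  have hφU : ∀ a, φ (Y.germToFunctionField U a) = ψ a := IsFractionRing.lift_algebraMap hψ
  have hφ : φ.Finite := CurveP1.finite_of_algebraic k φ ((Y.germToFunctionField U).hom.comp e'.symm.toRingHom)
    ((Y.germToFunctionField_injective U).comp e'.symm.injective)
    (RingHom.ext fun p => (hφU _).trans (congrArg (Polynomial.aeval t) (e'.apply_symm_apply p))) hfg halg
  let g : Spec (CommRingCat.of K) ⟶ Y := Spec.map (CommRingCat.ofHom φ) ≫ Y.fromSpecStalk (genericPoint Y)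
  haveI : IsAffineHom (g ≫ (Y ↘ S)) := inferInstance
  haveI : IsAffineHom g := IsAffineHom.of_comp g (Y ↘ S)
  have hclosed : ∀ x : Y, IsClosed ({x} : Set Y) → ringKrullDim (Y.presheaf.stalk x) = 1 :=
    CurveP1.ringKrullDim_stalk k
  obtain ⟨hfin, hnorm, hdim⟩ := Groth.Agent.S4454.result k Y hclosed K φ hφ g rfl
  haveI := hfin
  obtain ⟨θ, hθ⟩ := CurveNorm.exists_functionField_equiv φ g hφ rfl hU
  let i : g.normalization.Over S := ⟨g.fromNormalization ≫ (Y ↘ S)⟩
  refine ⟨g.normalization, i, inferInstance, ?_, hnorm, hdim, θ, fun c => ?_⟩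
  · exact (inferInstance : IsProper (g.fromNormalization ≫ (Y ↘ S)))
  haveI : Nonempty (⊤ : Y.Opens) := ⟨⟨genericPoint Y, trivial⟩⟩
  refine (hθ ⊤ trivial (Coh.toGlobal (Y ↘ S) c)).trans ?_
  have h1 : Y.germToFunctionField U (Groth.Agent.QC.resO Y le_top (Coh.toGlobal (Y ↘ S) c)) =
      Y.germToFunctionField ⊤ (Coh.toGlobal (Y ↘ S) c) :=
    TopCat.Presheaf.germ_res_apply Y.presheaf (homOfLE le_top) _ _ _
  rw [← h1, hφU]
  have h2 := ProjMor.res_toGlobal_base (𝒜 := CohB1.polyGrading 1 k) (CurveP1.X_mem k 0) c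
  refine (congrArg ψ h2).trans ?_
  show Polynomial.aeval t (e _) = _
  rw [he, Polynomial.aeval_C]

end Groth.Agent.S2345
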