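import Groth.Statements.S2346
import Mathlib.AlgebraicGeometry.Properties
import Mathlib.AlgebraicGeometry.Morphisms.Finite
import Mathlib.AlgebraicGeometry.Noetherian

set_option autoImplicit false
set_option linter.style.haveILetI false
universe u
open CategoryTheory CategoryTheory.Limits AlgebraicGeometry
open EGA2

namespace Groth.Agent.S2346

noncomputable local instance specOrd (X : Scheme.{u}) : PartialOrder X := specializationOrder X

theorem facts (X : Scheme.{u}) [IrreducibleSpace X] [AlgebraicGeometry.IsNoetherian X]
    (hX : ∀ x : X, IsClosed ({x} : Set X) → ringKrullDim (X.presheaf.stalk x) = 1) :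
    ¬ IsClosed ({genericPoint (X : Type u)} : Set X) ∧
    (∀ x : X, x ≠ genericPoint (X : Type u) → IsClosed ({x} : Set X)) ∧
    ∀ Z : Set X, IsClosed Z → genericPoint (X : Type u) ∉ Z → Z.Finite := by
  have hle : ∀ x : X, x ≤ genericPoint (X : Type u) := fun x => (genericPoint_spec X).specializes (Set.mem_univ x)
  have hmax : IsMax (genericPoint (X : Type u)) := fun y _ => hle y
  have hd : ∀ x : X, IsClosed ({x} : Set X) → Order.coheight x = 1 := fun x hx => by
    have := hX x hx
    rwa [ringKrullDim_stalk_eq_coheight, WithBot.coe_eq_one] at this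
  have hB : ∀ x : X, x ≠ genericPoint (X : Type u) → IsClosed ({x} : Set X) := fun x hx => by
    obtain ⟨c, hc, hc'⟩ := (isClosed_closure (s := ({x} : Set X))).exists_closed_singleton ⟨x, subset_closure rfl⟩
    rcases eq_or_ne c x with rfl | hne
    · exact hc'
    have hcx : c < x := lt_of_le_of_ne (specializes_iff_mem_closure.2 hc) hne
    have h2 := (Order.coheight_le_coe_iff (n := 1)).1 (hd c hc').le x hcx
    rw [Nat.cast_one, Order.lt_one_iff, Order.coheight_eq_zero] at h2
    exact absurd ((hle x).antisymm (h2 (hle x))) hx
  refine ⟨fun h => ?_, hB, fun Z hZ hη => ?_⟩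
  · have h1 := hd _ h
    rw [Order.coheight_eq_zero.2 hmax] at h1
    exact zero_ne_one h1
  · obtain ⟨S, hS, hScl, hSirr, rfl⟩ := TopologicalSpace.NoetherianSpace.exists_finite_set_isClosed_irreducible hZ
    refine hS.sUnion fun t ht => ?_
    obtain ⟨z, hz⟩ := QuasiSober.sober (α := X) (hSirr t ht) (hScl t ht)
    have hzη : z ≠ genericPoint (X : Type u) := fun h => hη ⟨t, ht, h ▸ hz.mem⟩
    rw [← hz.def, (hB z hzη).closure_eq]
    exact Set.finite_singleton z

/-- Let X and Y be irreducible algebraic curves over k (separated, of finite type, local rings at closed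
points one-dimensional) and f : X → Y a k-morphism. Then f is dominant if and only if every fibre
f⁻¹(y) is a finite set. -/
theorem result (k : Type u) [Field k] (X Y : Scheme.{u}) [X.Over (Spec (CommRingCat.of k))] [Y.Over (Spec (CommRingCat.of k))]
    [LocallyOfFiniteType (X ↘ (Spec (CommRingCat.of k)))] [QuasiCompact (X ↘ (Spec (CommRingCat.of k)))] [IsSeparated (X ↘ (Spec (CommRingCat.of k)))] [LocallyOfFiniteType (Y ↘ (Spec (CommRingCat.of k)))] [QuasiCompact (Y ↘ (Spec (CommRingCat.of k)))] [IsSeparated (Y ↘ (Spec (CommRingCat.of k)))] [IrreducibleSpace X] [IrreducibleSpace Y]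
    (hX : (∀ x : X, IsClosed ({x} : Set X) → ringKrullDim (X.presheaf.stalk x) = 1)) (hY : (∀ x : Y, IsClosed ({x} : Set Y) → ringKrullDim (Y.presheaf.stalk x) = 1))
    (f : X ⟶ Y) (hf : f ≫ (Y ↘ (Spec (CommRingCat.of k))) = X ↘ (Spec (CommRingCat.of k))) :
    IsDominant f ↔ ∀ y : Y, (f.base ⁻¹' {y}).Finite := by
  let pX := X ↘ Spec (CommRingCat.of k)
  let pY := Y ↘ Spec (CommRingCat.of k)
  haveI : IsLocallyNoetherian X := LocallyOfFiniteType.isLocallyNoetherian pX
  haveI : IsLocallyNoetherian Y := LocallyOfFiniteType.isLocallyNoetherian pY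
  haveI : CompactSpace X := QuasiCompact.compactSpace_of_compactSpace pX
  haveI : CompactSpace Y := QuasiCompact.compactSpace_of_compactSpace pY
  haveI : AlgebraicGeometry.IsNoetherian X := ⟨⟩
  haveI : AlgebraicGeometry.IsNoetherian Y := ⟨⟩
  haveI : LocallyOfFiniteType (f ≫ pY) := by rw [show f ≫ pY = pX from hf]; infer_instance
  haveI : LocallyOfFiniteType f := locallyOfFiniteType_of_comp f pY
  haveI : JacobsonSpace Y := LocallyOfFiniteType.jacobsonSpace pY
  haveI : JacobsonSpace X := LocallyOfFiniteType.jacobsonSpace pX
  obtain ⟨hAX, hBX, hCX⟩ := facts X hX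
  obtain ⟨hAY, hBY, hCY⟩ := facts Y hY
  constructor
  · intro hdom y
    have hgen : f.base (genericPoint (X : Type u)) = genericPoint (Y : Type u) := by
      have h1 := (genericPoint_spec X).image f.continuous
      rw [Set.image_univ, f.denseRange.closure_range] at h1
      exact h1.eq (genericPoint_spec Y)
    by_cases hy : y = genericPoint (Y : Type u)
    · subst hy
      refine (Set.finite_singleton (genericPoint (X : Type u))).subset fun x (hx : f.base x = _) => ?_
      by_contra hne
      exact hAY (hx ▸ f.closePoints_subset_preimage_closedPoints (mem_closedPoints_iff.2 (hBX x hne)))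
    · refine hCX _ ((hBY y hy).preimage f.continuous) fun h => hy ?_
      exact (h : f.base (genericPoint (X : Type u)) = y).symm.trans hgen
  · intro hfib
    by_cases hy : f.base (genericPoint (X : Type u)) = genericPoint (Y : Type u)
    · refine ⟨dense_iff_closure_eq.2 (eq_top_iff.2 fun z _ => ?_)⟩
      exact ((genericPoint_spec Y).specializes (Set.mem_univ z)).mem_closed isClosed_closure
        (subset_closure ⟨_, hy⟩)
    · exfalso
      have hcl := (hBY _ hy).preimage f.continuous
      have huniv : f.base ⁻¹' {f.base (genericPoint (X : Type u))} = Set.univ :=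
        Set.eq_univ_of_forall fun z => ((genericPoint_spec X).specializes (Set.mem_univ z)).mem_closed hcl rfl
      have hfinX : (Set.univ : Set X).Finite := huniv ▸ hfib _
      have hall : closedPoints X = Set.univ := by
        have hfc : (closedPoints X).Finite := hfinX.subset (Set.subset_univ _)
        have hclosed : IsClosed (closedPoints X) := by
          rw [← Set.biUnion_of_singleton (closedPoints X)]
          exact hfc.isClosed_biUnion fun z hz => hz
        rw [← hclosed.closure_eq]
        exact closure_closedPoints
      exact hAX (mem_closedPoints_iff.1 (hall ▸ Set.mem_univ _))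

end Groth.Agent.S2346
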