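import Groth.Statements.S2347
import Groth.Agent.IntegralSect.Basic
import Groth.Agent.S9709

set_option autoImplicit false
universe u
open CategoryTheory CategoryTheory.Limits AlgebraicGeometry
open EGA2

namespace Groth.Agent.S2347

/-- Let X be an integral normal scheme, X' an integral scheme and g : X' → X an integral morphism. If g
has a rational section (a morphism s from a dense open U of X to X' with g ∘ s the inclusion of U),
then g is an isomorphism. -/
theorem result {X X' : Scheme.{u}} [IsIntegral X] [IsIntegral X'] (hX : Pi1.IsNormalScheme X)
    (g : X' ⟶ X) [IsIntegralHom g] (U : X.Opens) (hU : Dense (U : Set X)) (s : (U : Scheme.{u}) ⟶ X') (hs : s ≫ g = U.ι) :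
    IsIso g := by
  have hηU : genericPoint (X : Type u) ∈ U :=
    ((genericPoint_spec X).mem_open_set_iff U.2).2 (by simpa using hU.nonempty)
  obtain ⟨s', hs', -⟩ := Groth.Agent.IntegralSect.exists_section g (fun x => (hX x).2) U hηU s hs
  haveI : IsClosedImmersion (s' ≫ g) := by rw [hs']; infer_instance
  haveI : IsClosedImmersion s' := IsClosedImmersion.of_comp s' g
  have hgs : ∀ x : X, g (s' x) = x := fun x => congr($(hs').base x)
  have hsp : genericPoint (X' : Type u) ⤳ s' (genericPoint (X : Type u)) :=
    (genericPoint_spec X').specializes (Set.mem_univ _)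
  have hfib : g (genericPoint (X' : Type u)) = genericPoint (X : Type u) :=
    ((hgs _ ▸ hsp.map g.continuous).antisymm ((genericPoint_spec X).specializes (Set.mem_univ _))).eq
  have heq : s' (genericPoint (X : Type u)) = genericPoint (X' : Type u) := by
    have h := Groth.Agent.S9709.result g (genericPoint (X' : Type u))
    have hm : s' (genericPoint (X : Type u)) ∈
        closure {genericPoint (X' : Type u)} ∩ g.base ⁻¹' {g.base (genericPoint (X' : Type u))} :=
      ⟨specializes_iff_mem_closure.1 hsp, ((hgs _).trans hfib.symm : _)⟩
    rw [h] at hm
    exact hm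
  haveI : Surjective s' := by
    refine ⟨fun y => ?_⟩
    have hy : y ∈ closure (Set.range s') :=
      ((genericPoint_spec X').specializes (Set.mem_univ y)).mem_closed isClosed_closure
        (subset_closure ⟨_, heq⟩)
    rwa [s'.isClosedEmbedding.isClosed_range.closure_eq] at hy
  haveI : IsIso s' := isIso_of_isClosedImmersion_of_surjective s'
  have hg : g = CategoryTheory.inv s' := (CategoryTheory.IsIso.inv_eq_of_hom_inv_id hs').symm
  rw [hg]; infer_instance

end Groth.Agent.S2347
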