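import Groth.Statements.S2349
import Mathlib

set_option autoImplicit false
universe u
open CategoryTheory CategoryTheory.Limits AlgebraicGeometry
open EGA2

namespace Groth.Agent.S2349

/-- Let f : X → Y be separated and of finite type, and let j_i : X_i → X and h_i : Y_i → Y (i in a
finite index type) be closed immersions with morphisms f_i : X_i → Y_i satisfying j_i ≫ f = f_i ≫
h_i, such that the images of the j_i cover X. Then f is proper if and only if every f_i is proper. -/
theorem result {X Y : Scheme.{u}} (f : X ⟶ Y) [IsSeparated f] [LocallyOfFiniteType f] [QuasiCompact f]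
    (ι : Type u) [Finite ι] (Xi Yi : ι → Scheme.{u}) (j : ∀ i, Xi i ⟶ X) (h : ∀ i, Yi i ⟶ Y) (fi : ∀ i, Xi i ⟶ Yi i)
    [∀ i, IsClosedImmersion (j i)] [∀ i, IsClosedImmersion (h i)] (hcomm : ∀ i, j i ≫ f = fi i ≫ h i)
    (hcov : ∀ x : X, ∃ i, x ∈ Set.range (j i).base) : IsProper f ↔ ∀ i, IsProper (fi i) := by
  constructor
  · intro hf i
    haveI : IsProper (fi i ≫ h i) := by rw [← hcomm i]; infer_instance
    exact IsProper.of_comp (fi i) (h i)
  · intro hfi
    haveI hjf : ∀ i, IsProper (j i ≫ f) := fun i => by
      haveI := hfi i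
      rw [hcomm i]
      infer_instance
    haveI : UniversallyClosed f := by
      refine ⟨fun X' T g' g f' hsq0 => ?_⟩
      have hsq := hsq0.flip
      change IsClosedMap f'.base
      intro C hC
      have hP : ∀ i, IsPullback (pullback.snd g' (j i)) (pullback.fst g' (j i) ≫ f') (j i ≫ f) g :=
        fun i => (IsPullback.of_hasPullback g' (j i)).flip.paste_vert hsq
      have hcl : ∀ i, IsClosedMap (pullback.fst g' (j i) ≫ f').base := fun i =>
        (inferInstance : UniversallyClosed (j i ≫ f)).universally_isClosedMap _ _ _ (hP i).flip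
      have hC' : f'.base '' C = ⋃ i, (pullback.fst g' (j i) ≫ f').base ''
          ((pullback.fst g' (j i)).base ⁻¹' C) := by
        refine Set.Subset.antisymm ?_ ?_
        · rintro _ ⟨x, hx, rfl⟩
          obtain ⟨i, hi⟩ := hcov (g' x)
          obtain ⟨w, hw⟩ : x ∈ Set.range (pullback.fst g' (j i)) := by
            rw [Scheme.Pullback.range_fst]; exact hi
          exact Set.mem_iUnion.2 ⟨i, w, show pullback.fst g' (j i) w ∈ C by rw [hw]; exact hx,
            by rw [Scheme.Hom.comp_apply, hw]⟩
        · rintro _ ⟨_, ⟨i, rfl⟩, w, hw, rfl⟩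
          exact ⟨_, hw, (Scheme.Hom.comp_apply _ _ _).symm⟩
      rw [hC']
      exact isClosed_iUnion_of_finite fun i => hcl i _ (hC.preimage (pullback.fst g' (j i)).continuous)
    exact ⟨⟩

end Groth.Agent.S2349
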