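import Groth.Statements.S2357
import Groth.Agent.S4390

set_option autoImplicit false
set_option backward.isDefEq.respectTransparency false
universe u
open CategoryTheory CategoryTheory.Limits AlgebraicGeometry
open EGA2

namespace Groth.Agent.S2357

/-- If A is a graded ring which is Noetherian, then Proj A is a Noetherian scheme. -/
theorem result {R A : Type u} [CommRing R] [CommRing A] [Algebra R A] (𝒜 : ℕ → Submodule R A) [GradedAlgebra 𝒜] [IsNoetherianRing A] :
    IsNoetherian (Proj 𝒜) := by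
  classical
  haveI : Algebra.FiniteType (𝒜 0) A :=
    (Groth.Agent.S4390.result 𝒜).mp (IsNoetherian.noetherian _)
  obtain ⟨s, hs⟩ := IsNoetherian.noetherian (HomogeneousIdeal.irrelevant 𝒜).toIdeal
  let G : Finset (A × ℕ) := s.biUnion fun g => ((DirectSum.decompose 𝒜 g).support.image fun i =>
    ((DirectSum.decompose 𝒜 g i : A), i))
  have hG : ∀ p : G, (p.1.1 : A) ∈ 𝒜 p.1.2 ∧ 0 < p.1.2 := by
    rintro ⟨p, hp⟩
    obtain ⟨g, hg, hp⟩ := Finset.mem_biUnion.mp hp
    obtain ⟨i, hi, rfl⟩ := Finset.mem_image.mp hp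
    refine ⟨(DirectSum.decompose 𝒜 g i).2, Nat.pos_of_ne_zero ?_⟩
    rintro rfl
    have hgI : g ∈ (HomogeneousIdeal.irrelevant 𝒜).toIdeal := hs ▸ Ideal.subset_span hg
    refine DFinsupp.mem_support_iff.mp hi (Subtype.ext ?_)
    have := (HomogeneousIdeal.mem_irrelevant_iff 𝒜 g).mp hgI
    rw [GradedRing.proj_apply] at this
    exact this
  let 𝒰 := Proj.affineOpenCoverOfIrrelevantLESpan 𝒜 (fun p : G => p.1.1) (fun p => (hG p).1)
    (fun p => (hG p).2) (by
      rw [← hs, Submodule.span_le]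
      intro g hg
      rw [SetLike.mem_coe, ← DirectSum.sum_support_decompose 𝒜 g]
      refine Ideal.sum_mem _ fun i hi => Ideal.subset_span ?_
      exact ⟨⟨_, Finset.mem_biUnion.mpr ⟨g, hg, Finset.mem_image.mpr ⟨i, hi, rfl⟩⟩⟩, rfl⟩)
  haveI : Finite 𝒰.openCover.I₀ := inferInstanceAs (Finite G)
  refine (isNoetherian_iff_of_finite_affine_openCover (𝒰 := 𝒰.openCover)).mpr fun p => ?_
  haveI := HomogeneousLocalization.Away.finiteType (𝒜 := 𝒜) _ _ (hG p).1
  haveI : IsNoetherianRing (HomogeneousLocalization.Away 𝒜 (p.1.1 : A)) :=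
    Algebra.FiniteType.isNoetherianRing (𝒜 0) _
  exact isNoetherianRing_of_ringEquiv (HomogeneousLocalization.Away 𝒜 (p.1.1 : A))
    (Scheme.ΓSpecIso (CommRingCat.of (HomogeneousLocalization.Away 𝒜 (p.1.1 : A)))).symm.commRingCatIsoToRingEquiv

end Groth.Agent.S2357
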