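import Groth.Statements.S2457
-- import your own Groth.Agent.* helpers here
import Groth.Agent.EGA41Cohen.Basic

set_option autoImplicit false
universe u
open EGA41

namespace Groth.Agent.S2457

open IsLocalRing in
/-- Let W and W' be Cohen rings with residue fields K and K' and u : K ≅ K' an isomorphism. Then u is
induced by some isomorphism v : W ≅ W'. -/
theorem result {W W' : Type u} [CommRing W] [IsLocalRing W] [CommRing W'] [IsLocalRing W']
    (hW : EGA41.IsCohenRingEGA W) (hW' : EGA41.IsCohenRingEGA W') (u : ResidueField W ≃+* ResidueField W') :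
    ∃ v : W ≃+* W', ∀ x : W, residue W' (v x) = u (residue W x) := by
  rcases hW with ⟨hf, h0⟩ | hW
  · rcases hW' with ⟨hf', h0'⟩ | hW'
    · have b : Function.Bijective (residue W) :=
        ⟨(RingHom.injective_iff_ker_eq_bot _).mpr (by
          rw [IsLocalRing.ker_residue]; exact IsLocalRing.isField_iff_maximalIdeal_eq.mp hf), residue_surjective⟩
      have b' : Function.Bijective (residue W') :=
        ⟨(RingHom.injective_iff_ker_eq_bot _).mpr (by
          rw [IsLocalRing.ker_residue]; exact IsLocalRing.isField_iff_maximalIdeal_eq.mp hf'), residue_surjective⟩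
      refine ⟨((RingEquiv.ofBijective _ b).trans u).trans (RingEquiv.ofBijective _ b').symm, fun x => ?_⟩
      exact (RingEquiv.ofBijective _ b').apply_symm_apply _
    · exfalso
      obtain ⟨p, _, hp, hch, hmax, -⟩ := Groth.Agent.EGA41Cohen.cohen_spec hW'
      haveI := hch; haveI := h0
      haveI : CharP (ResidueField W) p := u.toRingHom.charP u.injective p
      have hm : maximalIdeal W = ⊥ := IsLocalRing.isField_iff_maximalIdeal_eq.mp hf
      have : (p : W) ∈ maximalIdeal W := by rw [← residue_eq_zero_iff, map_natCast, CharP.cast_eq_zero]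
      rw [hm, Ideal.mem_bot, Nat.cast_eq_zero] at this
      exact hp.ne_zero this
  · rcases hW' with ⟨hf', h0'⟩ | hW'
    · exfalso
      obtain ⟨p, _, hp, hch, hmax, -⟩ := Groth.Agent.EGA41Cohen.cohen_spec hW
      haveI := hch; haveI := h0'
      haveI : CharP (ResidueField W') p := u.symm.toRingHom.charP u.symm.injective p
      have hm : maximalIdeal W' = ⊥ := IsLocalRing.isField_iff_maximalIdeal_eq.mp hf'
      have : (p : W') ∈ maximalIdeal W' := by rw [← residue_eq_zero_iff, map_natCast, CharP.cast_eq_zero]
      rw [hm, Ideal.mem_bot, Nat.cast_eq_zero] at this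
      exact hp.ne_zero this
    · obtain ⟨p', _, _, _, _, _, hc', -⟩ := Groth.Agent.EGA41Cohen.cohen_spec hW'
      haveI := hc'
      let π : W' →+* ResidueField W := u.symm.toRingHom.comp (residue W')
      have hπ : Function.Surjective π := u.symm.surjective.comp residue_surjective
      haveI : IsAdicComplete (RingHom.ker π) W' := by
        rw [RingHom.ker_equiv_comp, IsLocalRing.ker_residue]; infer_instance
      obtain ⟨θ, hθ⟩ := Groth.Agent.EGA41Cohen.exists_lift_complete hW π hπ
      have h : ∀ x, residue W' (θ x) = u (residue W x) := fun x => by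
        rw [← hθ x]; exact (u.apply_symm_apply _).symm
      refine ⟨RingEquiv.ofBijective θ (Groth.Agent.EGA41Cohen.hom_bijective hW hW' θ fun a => ?_), h⟩
      obtain ⟨x, hx⟩ := residue_surjective (u.symm a)
      exact ⟨x, (h x).trans (by rw [hx, u.apply_symm_apply])⟩

end Groth.Agent.S2457
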