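import Groth.Statements.S2458
-- import your own Groth.Agent.* helpers here
import Groth.Agent.Cohen.Structure
import Groth.Agent.SerreReg.Regular

set_option autoImplicit false
universe u
open EGA41

namespace Groth.Agent.S2458

open IsLocalRing in
/-- Let A be an Artinian local ring whose maximal ideal 𝔪 satisfies 𝔪² = 0. Then there is a regular
local ring B with maximal ideal 𝔫 such that A ≅ B/𝔫². -/
theorem result {A : Type u} [CommRing A] [IsLocalRing A] [IsArtinianRing A]
    (h : maximalIdeal A ^ 2 = ⊥) :
    ∃ (B : Type u) (_ : CommRing B) (_ : IsRegularLocalRing B), Nonempty (A ≃+* B ⧸ IsLocalRing.maximalIdeal B ^ 2) := by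
  classical
  haveI : IsAdicComplete (maximalIdeal A) A := by
    haveI : IsHausdorff (maximalIdeal A) A := ⟨fun x hx => by
      simpa [h, SModEq.zero] using hx 2⟩
    haveI : IsPrecomplete (maximalIdeal A) A := ⟨fun f hf => ⟨f 2, fun {n} => by
      rcases le_or_gt n 2 with hn | hn
      · exact hf hn
      · have h2 := hf hn.le
        simp only [h, Submodule.bot_smul, SModEq.bot] at h2
        rw [h2]⟩⟩
    exact {}
  obtain ⟨Λ, _, n, f, hΛ, hf⟩ := Groth.Agent.Cohen.exists_presentation A (IsNoetherian.noetherian _)
  haveI := Groth.Agent.Cohen.isRegularLocalRing_coeff hΛ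
  haveI := Groth.Agent.Cohen.isRegularLocalRing_mvPowerSeries Λ n
  have key : ∀ (d : ℕ) (B : Type u) [CommRing B] [IsRegularLocalRing B] (f : B →+* A),
      Function.Surjective f → (maximalIdeal B).spanFinrank = d →
      ∃ (B : Type u) (_ : CommRing B) (_ : IsRegularLocalRing B),
        Nonempty (A ≃+* B ⧸ IsLocalRing.maximalIdeal B ^ 2) := by
    intro d
    induction d using Nat.strong_induction_on with
    | _ d ih =>
      intro B _ _ f hf hd
      by_cases hk : RingHom.ker f ≤ maximalIdeal B ^ 2
      · refine ⟨B, inferInstance, inferInstance, ?_⟩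
        haveI : IsLocalHom f := IsLocalHom.of_surjective f hf
        have : RingHom.ker f = maximalIdeal B ^ 2 := by
          refine le_antisymm hk fun x hx => ?_
          have h2 : (maximalIdeal B ^ 2).map f ≤ maximalIdeal A ^ 2 := by
            rw [Ideal.map_pow]; exact Ideal.pow_right_mono (IsLocalRing.map_maximalIdeal_le f) 2
          exact RingHom.mem_ker.mpr ((Submodule.mem_bot A).mp (h ▸ h2 (Ideal.mem_map_of_mem f hx)))
        exact ⟨(RingHom.quotientKerEquivOfSurjective hf).symm.trans (Ideal.quotEquivOfEq this)⟩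
      · obtain ⟨t, ht, ht2⟩ := SetLike.not_le_iff_exists.mp hk
        have htm : t ∈ maximalIdeal B :=
          IsLocalRing.le_maximalIdeal (RingHom.ker_ne_top f) ht
        obtain ⟨hreg, hnzd⟩ := Groth.Agent.SerreReg.isRegularLocalRing_quot htm ht2
        have hkill : ∀ a ∈ Ideal.span {t}, f a = 0 := fun a ha =>
          RingHom.mem_ker.mp ((Ideal.span_singleton_le_iff_mem _).mpr ht ha)
        haveI := hreg
        refine ih (maximalIdeal (B ⧸ Ideal.span {t})).spanFinrank ?_ (B ⧸ Ideal.span {t})
          (Ideal.Quotient.lift _ f hkill) (Ideal.Quotient.lift_surjective_of_surjective _ hkill hf) rfl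
        have h1 := ringKrullDim_quotient_span_singleton_succ_eq_ringKrullDim hnzd htm
        rw [← IsRegularLocalRing.spanFinrank_maximalIdeal (R := B),
          ← IsRegularLocalRing.spanFinrank_maximalIdeal (R := B ⧸ Ideal.span {t}), hd] at h1
        have h2 : (maximalIdeal (B ⧸ Ideal.span {t})).spanFinrank + 1 = d := by exact_mod_cast h1
        omega
  exact key _ _ f hf rfl

end Groth.Agent.S2458
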