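import Groth.Statements.S2459
-- import your own Groth.Agent.* helpers here
import Groth.Agent.EGA41Cohen.Basic
import Groth.Agent.ArtKit.Cotangent

set_option autoImplicit false
universe u
open EGA41

namespace Groth.Agent.S2459

open IsLocalRing in
/-- Let A be an Artinian local ring with maximal ideal 𝔪 and residue field of characteristic p (p = 0
allowed). Then A is isomorphic to a quotient of a Cohen ring if and only if 𝔪 is generated by p·1. -/
theorem result {A : Type u} [CommRing A] [IsLocalRing A] [IsArtinianRing A]
    (p : ℕ) [CharP (ResidueField A) p] :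
    (∃ (W : Type u) (_ : CommRing W) (I : Ideal W), EGA41.IsCohenRingEGA W ∧ Nonempty (A ≃+* W ⧸ I)) ↔
      maximalIdeal A = Ideal.span {(p : A)} := by
  constructor
  · rintro ⟨W, _, I, hW, ⟨e⟩⟩
    haveI hloc : IsLocalRing W := by
      rcases hW with ⟨hf, -⟩ | ⟨hd, hdvr, -⟩
      · letI := hf.toField
        infer_instance
      · infer_instance
    let q : W →+* A := e.symm.toRingHom.comp (Ideal.Quotient.mk I)
    have hq : Function.Surjective q := e.symm.surjective.comp Ideal.Quotient.mk_surjective
    haveI : IsLocalHom q := IsLocalHom.of_surjective q hq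
    rw [← IsLocalRing.map_maximalIdeal_of_surjective q hq]
    rcases hW with ⟨hf, h0⟩ | hW
    · have hm : maximalIdeal W = ⊥ := IsLocalRing.isField_iff_maximalIdeal_eq.mp hf
      haveI := h0
      letI := hf.toField
      haveI : CharZero (ResidueField A) :=
        charZero_of_injective_ringHom ((residue A).comp q).injective
      have hp : p = 0 := CharP.eq (ResidueField A) inferInstance (CharP.ofCharZero _)
      rw [hm, Ideal.map_bot, hp, Nat.cast_zero, Ideal.span_singleton_eq_bot.mpr rfl]
    · obtain ⟨r, _, hr, hch, hmax, -⟩ := Groth.Agent.EGA41Cohen.cohen_spec hW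
      haveI := hch
      haveI := Fact.mk hr
      have hA : CharP (ResidueField A) r := (CharP.charP_iff_prime_eq_zero hr).mpr (by
        rw [← map_natCast (ResidueField.map q), CharP.cast_eq_zero, map_zero])
      have hp : p = r := CharP.eq (ResidueField A) ‹_› hA
      rw [hmax, Ideal.map_span, Set.image_singleton, map_natCast, hp]
  · intro hm
    obtain ⟨N, hN⟩ := IsArtinianRing.isNilpotent_jacobson_bot (R := A)
    rw [IsLocalRing.jacobson_eq_maximalIdeal ⊥ bot_ne_top, Ideal.zero_eq_bot] at hN
    haveI := Groth.Agent.ArtKit.isPrecomplete_of_pow_eq_bot hN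
    haveI : IsHausdorff (maximalIdeal A) A := inferInstance
    haveI : IsAdicComplete (maximalIdeal A) A := {}
    rcases CharP.char_is_prime_or_zero (ResidueField A) p with hp | rfl
    · haveI := Fact.mk hp
      obtain ⟨Λ, _, _, hΛ, -, hlift⟩ := Groth.Agent.Cohen.exists_cohenRing p (ResidueField A)
      haveI : IsAdicComplete (RingHom.ker (residue A)) A := by rw [IsLocalRing.ker_residue]; infer_instance
      obtain ⟨θ, hθ⟩ := hlift A (residue A) residue_surjective inferInstance
      obtain ⟨r, _, hr, hch, hmax, -, hcΛ, -⟩ := Groth.Agent.EGA41Cohen.cohen_spec hΛ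
      haveI := hch; haveI := hcΛ
      have hker : RingHom.ker ((residue A).comp θ) = maximalIdeal Λ :=
        eq_maximalIdeal (RingHom.ker_isMaximal_of_surjective _ hθ)
      have hI : (maximalIdeal Λ).map θ = maximalIdeal A := by
        refine le_antisymm (Ideal.map_le_iff_le_comap.mpr fun x hx => ?_) ?_
        · rw [Ideal.mem_comap, ← residue_eq_zero_iff]; exact RingHom.mem_ker.mp (hker.ge hx)
        · rw [hm, Ideal.span_singleton_le_iff_mem, ← map_natCast θ]
          refine Ideal.mem_map_of_mem _ (hker.le (RingHom.mem_ker.mpr ?_))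
          rw [RingHom.comp_apply, map_natCast, map_natCast, CharP.cast_eq_zero]
      haveI : IsHausdorff ((maximalIdeal Λ).map θ) A := by rw [hI]; infer_instance
      have hs : Function.Surjective θ := surjective_of_mk_map_comp_surjective (I := maximalIdeal Λ) θ fun z => by
        obtain ⟨z, rfl⟩ := Ideal.Quotient.mk_surjective z
        obtain ⟨c, hc⟩ := hθ (residue A z)
        refine ⟨c, ?_⟩
        rw [RingHom.comp_apply, Ideal.Quotient.eq, hI]
        exact Ideal.Quotient.eq.mp hc
      exact ⟨Λ, inferInstance, RingHom.ker θ, Or.inr hΛ, ⟨(RingHom.quotientKerEquivOfSurjective hs).symm⟩⟩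
    · have hb : maximalIdeal A = ⊥ := by rw [hm, Nat.cast_zero, Ideal.span_singleton_eq_bot.mpr rfl]
      haveI : CharZero (ResidueField A) := CharP.charP_to_charZero _
      haveI : CharZero A := ⟨fun a b h =>
        Nat.cast_injective (R := ResidueField A) (by simpa using congrArg (residue A) h)⟩
      exact ⟨A, inferInstance, ⊥, Or.inl ⟨IsLocalRing.isField_iff_maximalIdeal_eq.mpr hb, inferInstance⟩,
        ⟨(RingEquiv.quotientBot A).symm⟩⟩

end Groth.Agent.S2459
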