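import Groth.Statements.S2462
-- import your own Groth.Agent.* helpers here
import Groth.Agent.EGA41FS.LiftComplete

set_option autoImplicit false
universe u
open EGA41

namespace Groth.Agent.S2462

open IsLocalRing in
/-- Let A carry the 𝔞-adic and B the 𝔟-adic topology with B formally smooth over A; let C be a complete
Noetherian local A-algebra with 𝔞C inside the maximal ideal (continuity of A → C) and J ≠ C an
ideal. Then every A-algebra homomorphism u : B → C/J sending 𝔟 into the maximal ideal of C/J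
(continuity) is induced by an A-algebra homomorphism v : B → C sending 𝔟 into the maximal ideal of
C. -/
theorem result {A B C : Type u} [CommRing A] (𝔞 : Ideal A) [CommRing B] [Algebra A B] (𝔟 : Ideal B)
    (hB : EGA41.IsFormallySmoothAdic A 𝔞 B 𝔟)
    [CommRing C] [IsLocalRing C] [IsNoetherianRing C] [IsAdicComplete (maximalIdeal C) C] [Algebra A C]
    (hA : 𝔞.map (algebraMap A C) ≤ maximalIdeal C) (J : Ideal C) (hJ : J ≠ ⊤)
    (u : B →ₐ[A] C ⧸ J) (hu : 𝔟.map u.toRingHom ≤ (maximalIdeal C).map (Ideal.Quotient.mk J)) :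
    ∃ v : B →ₐ[A] C, 𝔟.map v.toRingHom ≤ maximalIdeal C ∧ (Ideal.Quotient.mkₐ A J).comp v = u := by
  have hJm : J ≤ maximalIdeal C := le_maximalIdeal hJ
  obtain ⟨v, hv, hvu⟩ := Groth.Agent.EGA41FS.exists_lift_of_isAdicComplete hB (maximalIdeal C) J hJm
    (fun x hx => by
      haveI : Nontrivial (C ⧸ J) := Ideal.Quotient.nontrivial_iff.mpr hJ
      rw [← Ideal.Quotient.eq_zero_iff_mem]
      refine IsHausdorff.haus (inferInstance : IsHausdorff (maximalIdeal C) (C ⧸ J)) _ fun n => ?_
      rw [SModEq.zero, Ideal.smul_top_eq_map]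
      have h1 := Ideal.mem_map_of_mem (Ideal.Quotient.mk J) (hx n)
      rw [Ideal.map_sup, Ideal.map_quotient_self, bot_sup_eq] at h1
      exact h1)
    hA u (fun b hb => hu (Ideal.mem_map_of_mem u.toRingHom hb))
  exact ⟨v, Ideal.map_le_iff_le_comap.mpr hv, hvu⟩

end Groth.Agent.S2462
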