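import Groth.Statements.S2464
import Groth.Agent.PBasisLib.Basic

set_option autoImplicit false
universe u
open EGA41 Groth.Agent

namespace Groth.Agent.S2464

/-- Let p be a prime, B a ring of characteristic p and A → B an injective ring map whose image contains
every p-th power, and (x_α) a p-basis of B over A. Let E be an A-algebra and q : E → B a surjective
A-algebra homomorphism whose kernel K has K^p = 0. (i) q admits an A-algebra right inverse if and
only if, for all z ∈ E and a ∈ A with a ↦ q(z)^p in B, the image of a in E is z^p. (ii) When this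
holds, for every family (z_α) in E with q(z_α) = x_α there is a unique A-algebra homomorphism v : B
→ E with v(x_α) = z_α for all α, and q ∘ v is the identity. -/
theorem result (p : ℕ) [Fact p.Prime] {A B : Type u} [CommRing A] [CommRing B] [Algebra A B] [CharP B p]
    (hinj : Function.Injective (algebraMap A B)) (hpow : ∀ b : B, b ^ p ∈ Set.range (algebraMap A B))
    {ι : Type u} (x : ι → B) (hx : EGA41.IsPBasis p A x)
    {E : Type u} [CommRing E] [Algebra A E] (q : E →ₐ[A] B) (hq : Function.Surjective q) (hK : RingHom.ker q.toRingHom ^ p = ⊥) :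
    ((∃ v : B →ₐ[A] E, q.comp v = AlgHom.id A B) ↔ ∀ (z : E) (a : A), algebraMap A B a = q z ^ p → algebraMap A E a = z ^ p) ∧
    ((∀ (z : E) (a : A), algebraMap A B a = q z ^ p → algebraMap A E a = z ^ p) →
      ∀ z : ι → E, (∀ i, q (z i) = x i) →
        (∃! v : B →ₐ[A] E, ∀ i, v (x i) = z i) ∧ ∀ v : B →ₐ[A] E, (∀ i, v (x i) = z i) → q.comp v = AlgHom.id A B) := by
  classical
  have hp : 0 < p := (Fact.out : p.Prime).pos
  constructor
  · constructor
    · rintro ⟨v, hv⟩ z a hza
      have hp0 : ((p : ℕ) : E) = 0 := by
        rw [← map_natCast v, CharP.cast_eq_zero B p, map_zero]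
      have hv' : ∀ b, q (v b) = b := fun b => congrFun (congrArg DFunLike.coe hv) b
      have hk : z - v (q z) ∈ RingHom.ker q.toRingHom := by
        show q (z - v (q z)) = 0
        rw [map_sub, hv', sub_self]
      have h0 : (z - v (q z)) ^ p = 0 := by
        have := Ideal.pow_mem_pow hk p
        rwa [hK, Ideal.mem_bot] at this
      rcases subsingleton_or_nontrivial E with h | h
      · exact Subsingleton.elim _ _
      haveI : CharP E p := (CharP.charP_iff_prime_eq_zero Fact.out).2 hp0
      rw [sub_pow_char, sub_eq_zero] at h0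
      rw [h0, ← map_pow, ← hza, AlgHom.commutes]
    · intro h
      choose z hz using fun i => hq (x i)
      obtain ⟨ψ, hA, hxi⟩ := PBasisLib.exists_algHom hp hinj hpow hx (algebraMap A E) z
        (fun i a ha => (h (z i) a (by rw [hz i]; exact ha)).symm)
      refine ⟨{ ψ with commutes' := hA }, ?_⟩
      refine AlgHom.coe_ringHom_injective (PBasisLib.hom_ext' hp hpow hx.2 (fun a => ?_) fun i => ?_)
      · show q (ψ (algebraMap A B a)) = algebraMap A B a
        rw [hA, AlgHom.commutes]
      · show q (ψ (x i)) = x i
        rw [hxi, hz]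
  · intro h z hz
    obtain ⟨ψ, hA, hxi⟩ := PBasisLib.exists_algHom hp hinj hpow hx (algebraMap A E) z
      (fun i a ha => (h (z i) a (by rw [hz i]; exact ha)).symm)
    refine ⟨⟨{ ψ with commutes' := hA }, hxi, fun w hw => ?_⟩, fun v hv => ?_⟩
    · refine AlgHom.coe_ringHom_injective (PBasisLib.hom_ext' hp hpow hx.2 (fun a => ?_) fun i => ?_)
      · show w (algebraMap A B a) = ψ (algebraMap A B a)
        rw [hA, AlgHom.commutes]
      · show w (x i) = ψ (x i)
        rw [hxi, hw]
    · refine AlgHom.coe_ringHom_injective (PBasisLib.hom_ext' hp hpow hx.2 (fun a => ?_) fun i => ?_)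
      · show q (v (algebraMap A B a)) = algebraMap A B a
        rw [AlgHom.commutes, AlgHom.commutes]
      · show q (v (x i)) = x i
        rw [hv, hz]

end Groth.Agent.S2464
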