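import Groth.Statements.S2465
import Groth.Agent.PBasisLib.Basic
import Mathlib.RingTheory.Derivation.Basic
import Mathlib.Algebra.TrivSqZeroExt.Basic

set_option autoImplicit false
universe u
open EGA41 Groth.Agent

namespace Groth.Agent.S2465

/-- Let p be a prime, B a ring of characteristic p, A → B injective with image containing all p-th
powers, (x_α) a p-basis of B over A, and L a B-module. (i) An additive derivation D : A → L extends
to a derivation of B if and only if D vanishes on the elements of A mapping to p-th powers. (ii) In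
that case, for every family (y_α) in L there is a unique derivation D' of B into L extending D with
D'(x_α) = y_α for all α. -/
theorem result (p : ℕ) [Fact p.Prime] {A B : Type u} [CommRing A] [CommRing B] [Algebra A B] [CharP B p]
    (hinj : Function.Injective (algebraMap A B)) (hpow : ∀ b : B, b ^ p ∈ Set.range (algebraMap A B))
    {ι : Type u} (x : ι → B) (hx : EGA41.IsPBasis p A x)
    (L : Type u) [AddCommGroup L] [Module B L] [Module A L] [IsScalarTower A B L] (D : Derivation ℤ A L) :
    ((∃ D' : Derivation ℤ B L, ∀ a : A, D' (algebraMap A B a) = D a) ↔ ∀ (a : A) (b : B), algebraMap A B a = b ^ p → D a = 0) ∧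
    ((∀ (a : A) (b : B), algebraMap A B a = b ^ p → D a = 0) →
      ∀ y : ι → L, ∃! D' : Derivation ℤ B L, (∀ a : A, D' (algebraMap A B a) = D a) ∧ ∀ i, D' (x i) = y i) := by
  classical
  have hp : 0 < p := (Fact.out : p.Prime).pos
  have hp0 : ((p : ℕ) : B) = 0 := CharP.cast_eq_zero B p
  have hpL : ∀ l : L, p • l = 0 := fun l => by rw [← Nat.cast_smul_eq_nsmul B, hp0, zero_smul]
  have exten : (∀ (a : A) (b : B), algebraMap A B a = b ^ p → D a = 0) → ∀ y : ι → L,
      ∃ D' : Derivation ℤ B L, (∀ a : A, D' (algebraMap A B a) = D a) ∧ ∀ i, D' (x i) = y i := by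
    intro h y
    letI : Module Bᵐᵒᵖ L := Module.compHom _ ((RingHom.id B).fromOpposite mul_comm)
    haveI : IsCentralScalar B L := ⟨fun _ _ => rfl⟩
    let φ : A →+* TrivSqZeroExt B L :=
      { toFun := fun a => TrivSqZeroExt.inl (algebraMap A B a) + TrivSqZeroExt.inr (D a)
        map_one' := by ext <;> simp
        map_mul' := fun a b => by
          refine TrivSqZeroExt.ext ?_ ?_
          · simp
          · simp only [TrivSqZeroExt.snd_mul, TrivSqZeroExt.fst_add, TrivSqZeroExt.snd_add, TrivSqZeroExt.fst_inl,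
              TrivSqZeroExt.fst_inr, TrivSqZeroExt.snd_inl, TrivSqZeroExt.snd_inr, add_zero, zero_add,
              Derivation.leibniz, op_smul_eq_smul, algebraMap_smul]
        map_zero' := by ext <;> simp
        map_add' := fun a b => by ext <;> simp }
    obtain ⟨ψ, hA, hxi⟩ := PBasisLib.exists_algHom hp hinj hpow hx φ
      (fun i => TrivSqZeroExt.inl (x i) + TrivSqZeroExt.inr (y i)) (fun i a ha => by
        refine TrivSqZeroExt.ext ?_ ?_
        · simp [φ, ha]
        · rw [TrivSqZeroExt.snd_pow, hpL]
          simp [φ, h a (x i) ha])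
    have hfst : (TrivSqZeroExt.fstHom B B L).toRingHom.comp ψ = RingHom.id B :=
      PBasisLib.hom_ext' hp hpow hx.2 (fun a => by simp [hA, φ]) (fun i => by simp [hxi])
    have hf : ∀ b, (ψ b).fst = b := fun b => congrFun (congrArg DFunLike.coe hfst) b
    refine ⟨Derivation.mk' (AddMonoidHom.toIntLinearMap
      { toFun := fun b => (ψ b).snd, map_zero' := by simp, map_add' := fun a b => by simp }) (fun a b => ?_),
      fun a => ?_, fun i => ?_⟩
    · show (ψ (a * b)).snd = a • (ψ b).snd + b • (ψ a).snd
      rw [map_mul, TrivSqZeroExt.snd_mul, hf, hf, op_smul_eq_smul]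
    · show (ψ (algebraMap A B a)).snd = D a
      simp [hA, φ]
    · show (ψ (x i)).snd = y i
      simp [hxi]
  refine ⟨⟨?_, fun h => ?_⟩, fun h y => ?_⟩
  · rintro ⟨D', hD'⟩ a b hab
    rw [← hD', hab, Derivation.leibniz_pow, hpL]
  · obtain ⟨D', h1, -⟩ := exten h fun _ => 0
    exact ⟨D', h1⟩
  · obtain ⟨D', h1, h2⟩ := exten h y
    refine ⟨D', ⟨h1, h2⟩, fun E ⟨e1, e2⟩ => Derivation.ext fun b => ?_⟩
    have hb : b ∈ Algebra.adjoin (EGA41.pPowerSubalgebra p A B) (Set.range x) := by
      rw [(PBasisLib.isPGenerating_iff_adjoin hp x).1 hx.2]; trivial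
    induction hb using Algebra.adjoin_induction with
    | mem w hw => obtain ⟨i, rfl⟩ := hw; rw [e2, h2]
    | algebraMap r =>
      obtain ⟨a, ha⟩ := Algebra.mem_bot.1 ((PBasisLib.pPower_eq_bot hpow).le r.2)
      rw [Subalgebra.algebraMap_eq]
      show E (r : B) = D' (r : B)
      rw [← ha, e1, h1]
    | add u v _ _ hu hv => rw [map_add, map_add, hu, hv]
    | mul u v _ _ hu hv => rw [Derivation.leibniz, Derivation.leibniz, hu, hv]

end Groth.Agent.S2465
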