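import Groth.Statements.S2466
import Mathlib.RingTheory.Kaehler.Basic
import Mathlib.Algebra.MvPolynomial.PDeriv

set_option autoImplicit false
universe u
open EGA41

namespace Groth.Agent.S2466

/-- Let p be a prime, B an A-algebra of characteristic p and (x_α) a p-basis of B over A. Then the
family of differentials (d_{B/A} x_α) is a basis of the B-module Ω_{B/A}. -/
theorem result (p : ℕ) [Fact p.Prime] {A B : Type u} [CommRing A] [CommRing B] [Algebra A B] [CharP B p]
    {ι : Type u} (x : ι → B) (hx : EGA41.IsPBasis p A x) :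
    ∃ b : Module.Basis ι B (Ω[B⁄A]), ∀ i, b i = KaehlerDifferential.D A B (x i) := by
  classical
  set C := EGA41.pPowerSubalgebra p A B
  obtain ⟨hind, hgen⟩ := hx
  have hp0 : ((p : ℕ) : B) = 0 := CharP.cast_eq_zero B p
  have hpos : 0 < p := (Fact.out : p.Prime).pos
  let c : ι → C := fun i => ⟨x i ^ p, Algebra.subset_adjoin ⟨x i, rfl⟩⟩
  let ev : MvPolynomial ι C →ₐ[C] B := MvPolynomial.aeval x
  let J : Ideal (MvPolynomial ι C) := Ideal.span (Set.range fun i => MvPolynomial.X i ^ p - MvPolynomial.C (c i))
  have hJev : ∀ P ∈ J, ev P = 0 := fun P hP => by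
    refine (Ideal.span_le.2 ?_ : J ≤ RingHom.ker ev.toRingHom) hP
    rintro _ ⟨i, rfl⟩
    show ev (MvPolynomial.X i ^ p - MvPolynomial.C (c i)) = 0
    simp [ev, c, Subalgebra.algebraMap_eq]
  have hevmon : ∀ e : ι →₀ ℕ, ev (MvPolynomial.monomial e 1) = EGA41.pMonomial x e := fun e => by
    simp [ev, MvPolynomial.aeval_monomial, EGA41.pMonomial]
  -- reduction of monomials
  have hred : ∀ P : MvPolynomial ι C, ∃ R : ({e : ι →₀ ℕ // ∀ i, e i < p}) →₀ C,
      P - R.sum (fun e a => MvPolynomial.monomial e.1 a) ∈ J := by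
    intro P
    induction P using MvPolynomial.induction_on' with
    | monomial d a =>
      let r : ι →₀ ℕ := d.mapRange (· % p) (Nat.zero_mod p)
      refine ⟨Finsupp.single ⟨r, fun i => Nat.mod_lt _ hpos⟩ (a * d.prod fun i n => c i ^ (n / p)), ?_⟩
      rw [Finsupp.sum_single_index (by simp), ← Ideal.Quotient.mk_eq_mk_iff_sub_mem]
      have hX : ∀ i, Ideal.Quotient.mk J (MvPolynomial.X i) ^ p = Ideal.Quotient.mk J (MvPolynomial.C (c i)) := fun i => by
        rw [← map_pow]
        exact Ideal.Quotient.mk_eq_mk_iff_sub_mem _ _ |>.2 (Ideal.subset_span ⟨i, rfl⟩)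
      rw [MvPolynomial.monomial_eq, MvPolynomial.monomial_eq, map_mul, map_mul, MvPolynomial.C_mul, map_mul, mul_assoc]
      congr 1
      simp only [map_finsuppProd, map_pow, r]
      rw [Finsupp.prod_mapRange_index (fun i => by rw [pow_zero]), ← Finsupp.prod_mul]
      refine Finsupp.prod_congr fun i _ => ?_
      rw [← hX i, ← pow_mul, ← pow_add, Nat.div_add_mod]
    | add P Q hP hQ =>
      obtain ⟨R, hR⟩ := hP
      obtain ⟨R', hR'⟩ := hQ
      refine ⟨R + R', ?_⟩
      rw [Finsupp.sum_add_index' (fun e => map_zero _) (fun e a b => map_add _ a b), add_sub_add_comm]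
      exact add_mem hR hR'
  have hker : ∀ P, ev P = 0 → P ∈ J := by
    intro P hP
    obtain ⟨R, hR⟩ := hred P
    have h0 := hJev _ hR
    rw [map_sub, hP, zero_sub, neg_eq_zero, map_finsuppSum] at h0
    have : Finsupp.linearCombination C (fun e : {e : ι →₀ ℕ // ∀ i, e i < p} => EGA41.pMonomial x e.1) R = 0 := by
      rw [Finsupp.linearCombination_apply]
      refine Eq.trans (Finsupp.sum_congr fun e _ => ?_) h0
      rw [← hevmon, ← map_smul, MvPolynomial.smul_monomial, smul_eq_mul, mul_one]
    rw [linearIndependent_iff.1 hind R this, Finsupp.sum_zero_index, sub_zero] at hR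
    exact hR
  have hsurj : Function.Surjective ev := fun b => by
    have hb : b ∈ Submodule.span C (Set.range fun e : {e : ι →₀ ℕ // ∀ i, e i < p} => EGA41.pMonomial x e.1) := by
      rw [hgen]; exact Submodule.mem_top
    refine (Submodule.span_le.2 ?_ : _ ≤ LinearMap.range ev.toLinearMap) hb
    rintro _ ⟨e, rfl⟩
    exact ⟨_, hevmon e.1⟩
  choose σ hσ using hsurj
  have hkill : ∀ i, ∀ P ∈ J, ev (MvPolynomial.pderiv i P) = 0 := by
    intro i P hP
    refine Submodule.span_induction ?_ (by simp) (fun a b _ _ ha hb => by rw [map_add, map_add, ha, hb, add_zero]) ?_ hP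
    · rintro _ ⟨j, rfl⟩
      simp [MvPolynomial.pderiv_pow, hp0, ev]
    · intro q a haJ ha
      rw [smul_eq_mul, MvPolynomial.pderiv_mul, map_add, map_mul, map_mul, ha, hJev a haJ, mul_zero, mul_zero, add_zero]
  have hwd : ∀ i P Q, ev P = ev Q → ev (MvPolynomial.pderiv i P) = ev (MvPolynomial.pderiv i Q) := fun i P Q h => by
    have h2 := hkill i (P - Q) (hker _ (by rw [map_sub, h, sub_self]))
    rwa [map_sub, map_sub, sub_eq_zero] at h2
  let Dv : ι → Derivation A B B := fun i => Derivation.mk'
    { toFun := fun b => ev (MvPolynomial.pderiv i (σ b))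
      map_add' := fun a b => by
        rw [← map_add, ← map_add]; exact hwd i _ _ (by rw [map_add, hσ, hσ, hσ])
      map_smul' := fun a b => by
        rw [RingHom.id_apply, ← algebraMap_smul C a (ev (MvPolynomial.pderiv i (σ b))), ← map_smul, ← Derivation.map_smul]
        exact hwd i _ _ (by rw [map_smul, hσ, hσ, algebraMap_smul]) }
    (fun a b => by
      show ev (MvPolynomial.pderiv i (σ (a * b))) = a • ev (MvPolynomial.pderiv i (σ b)) + b • ev (MvPolynomial.pderiv i (σ a))
      rw [hwd i (σ (a * b)) (σ a * σ b) (by rw [map_mul, hσ, hσ, hσ]), MvPolynomial.pderiv_mul, map_add, map_mul, map_mul,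
        hσ, hσ, smul_eq_mul, smul_eq_mul]
      ring)
  have hDv : ∀ i j, Dv i (x j) = if j = i then 1 else 0 := fun i j => by
    show ev (MvPolynomial.pderiv i (σ (x j))) = _
    rw [hwd i (σ (x j)) (MvPolynomial.X j) (by rw [hσ]; simp [ev]), MvPolynomial.pderiv_X]
    by_cases h : j = i
    · subst h; simp
    · simp [h]
  have hli : LinearIndependent B (fun i => KaehlerDifferential.D A B (x i)) := by
    rw [linearIndependent_iff]
    intro l hl
    ext i
    have h := congrArg (Dv i).liftKaehlerDifferential hl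
    rw [Finsupp.linearCombination_apply, map_finsuppSum, map_zero] at h
    simp only [map_smul, Derivation.liftKaehlerDifferential_comp_D, hDv, smul_eq_mul, mul_ite, mul_one, mul_zero] at h
    rw [Finsupp.sum_ite_eq'] at h
    by_cases hi : i ∈ l.support
    · rw [if_pos hi] at h; exact h
    · exact Finsupp.notMem_support_iff.1 hi
  have hDC : ∀ a : C, KaehlerDifferential.D A B (a : B) = 0 := by
    rintro ⟨a, ha⟩
    induction ha using Algebra.adjoin_induction with
    | mem y hy =>
      obtain ⟨b, rfl⟩ := hy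
      show KaehlerDifferential.D A B (b ^ p) = 0
      rw [Derivation.leibniz_pow, ← Nat.cast_smul_eq_nsmul B, hp0, zero_smul]
    | algebraMap r => exact Derivation.map_algebraMap _ r
    | add y z _ _ hy hz => show KaehlerDifferential.D A B (y + z) = 0; rw [map_add]; erw [hy, hz]; exact add_zero 0
    | mul y z _ _ hy hz => show KaehlerDifferential.D A B (y * z) = 0; rw [Derivation.leibniz]; erw [hy, hz]; simp
  have hspan : ⊤ ≤ Submodule.span B (Set.range fun i => KaehlerDifferential.D A B (x i)) := by
    rw [← KaehlerDifferential.span_range_derivation, Submodule.span_le]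
    rintro _ ⟨b, rfl⟩
    rw [← hσ b]
    generalize σ b = P
    induction P using MvPolynomial.induction_on with
    | C a => simp only [ev, MvPolynomial.aeval_C]; rw [show algebraMap C B a = (a : B) from rfl, hDC]; exact zero_mem _
    | add P Q hP hQ => rw [map_add, map_add]; exact add_mem hP hQ
    | mul_X P i hP =>
      rw [map_mul, Derivation.leibniz]
      refine add_mem (Submodule.smul_mem _ _ ?_) (Submodule.smul_mem _ _ hP)
      simp only [ev, MvPolynomial.aeval_X]
      exact Submodule.subset_span ⟨i, rfl⟩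
  exact ⟨Module.Basis.mk hli hspan, fun i => Module.Basis.mk_apply hli hspan i⟩

end Groth.Agent.S2466
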