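import Groth.Statements.S2468
import Groth.Agent.PBasisLib.Field
import Groth.Agent.S2466

set_option autoImplicit false
universe u
open EGA41 Groth.Agent

namespace Groth.Agent.S2468

/-- Let k ⊆ K be fields of characteristic p > 0 and (x_α) a family of elements of K. Then (x_α) is
p-free over k if and only if the d_{K/k} x_α are linearly independent over K; it is a system of
p-generators of K over k if and only if the d x_α span Ω_{K/k}; and it is a p-basis if and only if
the d x_α form a basis of Ω_{K/k} (stated as the existence of a K-basis of Ω_{K/k} indexed by the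
same index set whose members are the d x_α). (With the empty family the second equivalence
specializes to: Ω_{K/k} = 0 iff K = k(K^p).) -/
theorem result (p : ℕ) [Fact p.Prime] {k K : Type u} [Field k] [Field K] [Algebra k K] [CharP K p]
    {ι : Type u} (x : ι → K) :
    (EGA41.IsPIndependent p k x ↔ LinearIndependent K (fun i => KaehlerDifferential.D k K (x i))) ∧
    (EGA41.IsPGenerating p k x ↔ Submodule.span K (Set.range fun i => KaehlerDifferential.D k K (x i)) = ⊤) ∧
    (EGA41.IsPBasis p k x ↔ ∃ b : Module.Basis ι K (Ω[K⁄k]), ∀ i, b i = KaehlerDifferential.D k K (x i)) := by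
  classical
  let D := KaehlerDifferential.D k K
  have basisOf : ∀ M : Set K, PBasisLib.Indep p k M →
      ∃ (B : Set K) (b : Module.Basis B K (Ω[K⁄k])), M ⊆ B ∧ ∀ i : B, b i = D (i : K) := by
    intro M hM
    obtain ⟨B, hMB, -, hB, hgen⟩ := PBasisLib.exists_maximal (Set.subset_univ M) hM
    have hbas : EGA41.IsPBasis p k (Subtype.val : B → K) :=
      ⟨(PBasisLib.isPIndependent_set_iff B).2 hB, (PBasisLib.isPGenerating_iff _).2 fun b => by
        rw [Subtype.range_coe]; exact hgen (Set.mem_univ b)⟩
    obtain ⟨b, hb⟩ := Groth.Agent.S2466.result p (Subtype.val : B → K) hbas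
    exact ⟨B, b, hMB, hb⟩
  have hindep : EGA41.IsPIndependent p k x ↔ LinearIndependent K (fun i => D (x i)) := by
    rw [PBasisLib.isPIndependent_iff]
    constructor
    · intro h
      have hinj : Function.Injective x := fun a a' e => by
        by_contra hne
        exact h a (PBasisLib.subset_F _ ⟨a', fun h' => hne h'.symm, e.symm⟩)
      have hM : PBasisLib.Indep p k (Set.range x) := by
        rintro _ ⟨a, rfl⟩ hmem
        refine h a (PBasisLib.F_mono ?_ hmem)
        rintro z ⟨⟨b, rfl⟩, hb⟩
        exact ⟨b, fun e => hb (by rw [e]; rfl), rfl⟩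
      obtain ⟨B, b, hMB, hb⟩ := basisOf _ hM
      have h2 := b.linearIndependent.comp (fun i : ι => (⟨x i, hMB ⟨i, rfl⟩⟩ : B)) fun a a' e => hinj (congrArg Subtype.val e)
      simpa [Function.comp_def, hb] using h2
    · intro h a ha
      have h2 := PBasisLib.D_mem_span _ ha
      rw [← Set.image_comp] at h2
      exact h.notMem_span_image (s := {b | b ≠ a}) (by simp) h2
  have hgen : EGA41.IsPGenerating p k x ↔ Submodule.span K (Set.range fun i => D (x i)) = ⊤ := by
    rw [PBasisLib.isPGenerating_iff]
    constructor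
    · intro h
      rw [eq_top_iff, ← KaehlerDifferential.span_range_derivation, Submodule.span_le]
      rintro _ ⟨b, rfl⟩
      have h2 := PBasisLib.D_mem_span _ (h b)
      rwa [← Set.range_comp] at h2
    · intro h y
      by_contra hy
      obtain ⟨M, -, hMS, hM, hSM⟩ := PBasisLib.exists_maximal (p := p) (k := k) (L := ∅) (Set.empty_subset (Set.range x))
        (fun a ha => ha.elim)
      have hyM : y ∉ PBasisLib.F p k M := fun h' => hy (PBasisLib.F_mono hMS h')
      obtain ⟨B, b, hMB, hb⟩ := basisOf _ (hM.insert hyM)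
      have hle : Submodule.span K (Set.range fun i => D (x i)) ≤ Submodule.span K (D '' M) := by
        rw [Submodule.span_le]
        rintro _ ⟨i, rfl⟩
        exact PBasisLib.D_mem_span M (hSM ⟨i, rfl⟩)
      have hyD : D y ∈ Submodule.span K (D '' M) := hle (h ▸ Submodule.mem_top)
      have him : D '' M = b '' {i : B | (i : K) ∈ M} := by
        ext z
        constructor
        · rintro ⟨w, hw, rfl⟩; exact ⟨⟨w, hMB (Set.mem_insert_of_mem _ hw)⟩, hw, hb _⟩
        · rintro ⟨i, hi, rfl⟩; exact ⟨i, hi, (hb i).symm⟩
      rw [him, ← hb ⟨y, hMB (Set.mem_insert y M)⟩] at hyD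
      exact b.linearIndependent.notMem_span_image
        (show (⟨y, hMB (Set.mem_insert y M)⟩ : B) ∉ {i : B | (i : K) ∈ M} from fun h' => hyM (PBasisLib.subset_F M h')) hyD
  refine ⟨hindep, hgen, ⟨fun h => ⟨Module.Basis.mk (hindep.1 h.1) (hgen.1 h.2).ge, fun i => Module.Basis.mk_apply _ _ i⟩, ?_⟩⟩
  rintro ⟨b, hb⟩
  have hfun : (fun i => D (x i)) = b := funext fun i => (hb i).symm
  exact ⟨hindep.2 (hfun ▸ b.linearIndependent), hgen.2 (hfun ▸ b.span_eq)⟩

end Groth.Agent.S2468
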