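import Groth.Statements.S2470
import Mathlib
import Groth.Agent.S0565
import Groth.Agent.S2082
import Groth.Agent.S11564
import Groth.Agent.CMFlat.Local
import Groth.Agent.CMFlat.Quotient

set_option autoImplicit false
universe u
open EGA41

namespace Groth.Agent.S2470

open IsLocalRing in
theorem dim_le {A B : Type u} [CommRing A] [IsLocalRing A] [IsNoetherianRing A] [CommRing B] [IsLocalRing B] [IsNoetherianRing B]
    [Algebra A B] [IsLocalHom (algebraMap A B)] [IsLocalRing (B ⧸ (maximalIdeal A).map (algebraMap A B))] :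
    ringKrullDim B ≤ ringKrullDim A + ringKrullDim (B ⧸ (maximalIdeal A).map (algebraMap A B)) := by
  haveI : (maximalIdeal B).LiesOver (maximalIdeal A) := ⟨(maximalIdeal_comap _).symm⟩
  have hm : (maximalIdeal B).map (Ideal.Quotient.mk ((maximalIdeal A).map (algebraMap A B))) =
      maximalIdeal (B ⧸ (maximalIdeal A).map (algebraMap A B)) :=
    IsLocalRing.map_maximalIdeal_of_surjective _ Ideal.Quotient.mk_surjective
  have h := Ideal.height_le_height_add_of_liesOver (maximalIdeal A) (maximalIdeal B)
  rw [hm] at h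
  rw [← IsLocalRing.maximalIdeal_height_eq_ringKrullDim, ← IsLocalRing.maximalIdeal_height_eq_ringKrullDim,
    ← IsLocalRing.maximalIdeal_height_eq_ringKrullDim]
  exact_mod_cast h

open IsLocalRing in
theorem regular_of_dim_eq {A B : Type u} [CommRing A] [IsLocalRing A] [IsNoetherianRing A] [CommRing B] [IsLocalRing B] [IsNoetherianRing B]
    [Algebra A B] [IsLocalHom (algebraMap A B)] [IsLocalRing (B ⧸ (maximalIdeal A).map (algebraMap A B))]
    (hA : IsRegularLocalRing A) (hF : IsRegularLocalRing (B ⧸ (maximalIdeal A).map (algebraMap A B)))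
    (hdim : ringKrullDim B = ringKrullDim A + ringKrullDim (B ⧸ (maximalIdeal A).map (algebraMap A B))) :
    IsRegularLocalRing B := by
  classical
  let J := (maximalIdeal A).map (algebraMap A B)
  obtain ⟨s, hsc, hs⟩ := Submodule.FG.exists_span_set_encard_eq_spanFinrank (maximalIdeal A).fg_of_isNoetherianRing
  obtain ⟨t, htc, ht⟩ := Submodule.FG.exists_span_set_encard_eq_spanFinrank (maximalIdeal (B ⧸ J)).fg_of_isNoetherianRing
  choose g hg using fun y : B ⧸ J => Ideal.Quotient.mk_surjective y
  have hJ : J ≤ Ideal.span (algebraMap A B '' s ∪ g '' t) := by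
    refine Ideal.map_le_iff_le_comap.2 (hs.symm.le.trans (Ideal.span_le.2 fun a ha => ?_))
    exact Ideal.subset_span (Or.inl ⟨a, ha, rfl⟩)
  have hspan : maximalIdeal B = Ideal.span (algebraMap A B '' s ∪ g '' t) := by
    refine le_antisymm (fun x hx => ?_) (Ideal.span_le.2 ?_)
    · have h1 : Ideal.Quotient.mk J x ∈ Ideal.span t := by
        rw [show Ideal.span t = maximalIdeal (B ⧸ J) from ht,
          ← IsLocalRing.map_maximalIdeal_of_surjective (Ideal.Quotient.mk J) Ideal.Quotient.mk_surjective]
        exact Ideal.mem_map_of_mem _ hx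
      rw [show t = Ideal.Quotient.mk J '' (g '' t) by simp [Set.image_image, hg], ← Ideal.map_span] at h1
      obtain ⟨z, hz, hzx⟩ := (Ideal.mem_map_iff_of_surjective _ Ideal.Quotient.mk_surjective).1 h1
      have h2 : x - z ∈ J := Ideal.Quotient.eq.1 hzx.symm
      have h3 := add_mem (hJ h2) (Ideal.span_mono Set.subset_union_right hz)
      rwa [sub_add_cancel] at h3
    · rintro _ (⟨a, ha, rfl⟩ | ⟨y, hy, rfl⟩)
      · exact map_nonunit _ a (hs ▸ Ideal.subset_span ha)
      · intro hu
        have h1 := hu.map (Ideal.Quotient.mk J)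
        rw [hg] at h1
        exact (ht ▸ Ideal.subset_span hy : y ∈ maximalIdeal (B ⧸ J)) h1
  refine IsRegularLocalRing.of_spanFinrank_maximalIdeal_le B ?_
  have hsf : s.Finite := Set.encard_ne_top_iff.1 (by rw [hsc]; exact ENat.natCast_ne_top _)
  have htf : t.Finite := Set.encard_ne_top_iff.1 (by rw [htc]; exact ENat.natCast_ne_top _)
  rw [hdim, ← hA.spanFinrank_maximalIdeal, ← hF.spanFinrank_maximalIdeal, ← Nat.cast_add, Nat.cast_le, hspan]
  refine (Submodule.spanFinrank_span_le_ncard_of_finite ((hsf.image _).union (htf.image _))).trans ?_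
  refine (Set.ncard_union_le _ _).trans (add_le_add ((Set.ncard_image_le hsf).trans ?_) ((Set.ncard_image_le htf).trans ?_))
  · rw [Set.ncard, hsc, ENat.toNat_natCast]
  · rw [Set.ncard, htc, ENat.toNat_natCast]

open IsLocalRing in
/-- Let A → B be a local homomorphism of Noetherian local rings with maximal ideals 𝔪, 𝔫 and residue
fields k, k', and let B₀ = B/𝔪B be the closed fibre. The following are equivalent: (a) B is regular
and the canonical map (𝔪/𝔪²) ⊗_k k' → 𝔫/𝔫² is injective — stated here through dimensions, as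
rank_{k'} 𝔫/𝔫² = rank_k 𝔪/𝔪² + rank_{k'} of the cotangent space of B₀, which is equivalent since the
cokernel of that map is the cotangent space of B₀; (c) B and B₀ are regular and B is flat over A;
(d) A and B₀ are regular and B is flat over A; (e) A and B₀ are regular and dim B = dim A + dim B₀.
(Condition (b) of the source, on regular systems of parameters, is not stated.) -/
theorem result {A B : Type u} [CommRing A] [IsLocalRing A] [IsNoetherianRing A] [CommRing B] [IsLocalRing B] [IsNoetherianRing B]
    [Algebra A B] [IsLocalHom (algebraMap A B)] [IsLocalRing (B ⧸ (maximalIdeal A).map (algebraMap A B))] :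
    [IsRegularLocalRing B ∧
       Module.finrank (ResidueField B) (CotangentSpace B) =
         Module.finrank (ResidueField A) (CotangentSpace A) +
           Module.finrank (ResidueField (B ⧸ (maximalIdeal A).map (algebraMap A B))) (CotangentSpace (B ⧸ (maximalIdeal A).map (algebraMap A B))),
     IsRegularLocalRing B ∧ IsRegularLocalRing (B ⧸ (maximalIdeal A).map (algebraMap A B)) ∧ Module.Flat A B,
     IsRegularLocalRing A ∧ IsRegularLocalRing (B ⧸ (maximalIdeal A).map (algebraMap A B)) ∧ Module.Flat A B,
     IsRegularLocalRing A ∧ IsRegularLocalRing (B ⧸ (maximalIdeal A).map (algebraMap A B)) ∧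
       ringKrullDim B = ringKrullDim A + ringKrullDim (B ⧸ (maximalIdeal A).map (algebraMap A B))].TFAE := by
  tfae_have 2 → 3 := fun ⟨h1, h2, h3⟩ => by
    haveI := h1; haveI := h3
    exact ⟨S0565.result A B, h2, h3⟩
  tfae_have 3 → 4 := fun ⟨h1, h2, h3⟩ => by
    haveI := h3
    obtain ⟨c, e, hc, he, hce⟩ := CMFlat.dims (R := A) (S := B)
    exact ⟨h1, h2, by rw [hc, he, hce, Nat.cast_add]⟩
  tfae_have 4 → 2 := fun ⟨h1, h2, h3⟩ => by
    have hB := regular_of_dim_eq h1 h2 h3
    haveI := CMFlat.isCohenMacaulayLocalRing_of_isRegularLocalRing B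
    exact ⟨hB, h2, S2082.result h3⟩
  tfae_have 3 → 1 := fun h => by
    obtain ⟨hB, -, -⟩ := tfae_4_to_2 (tfae_3_to_4 h)
    obtain ⟨h1, h2, h3⟩ := h
    haveI := h2; haveI := h3
    exact ⟨hB, (S11564.result A B).trans (add_comm _ _)⟩
  tfae_have 1 → 4 := fun ⟨h1, h2⟩ => by
    obtain ⟨a, ha⟩ := SerreReg.exists_dim_nat A
    obtain ⟨f, hf⟩ := SerreReg.exists_dim_nat (B ⧸ (maximalIdeal A).map (algebraMap A B))
    have hB := dim_le (A := A) (B := B)
    rw [ha, hf, ← h1.spanFinrank_maximalIdeal, spanFinrank_maximalIdeal_eq_finrank_cotangentSpace, h2] at hB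
    have hA' := ringKrullDim_le_spanFinrank_maximalIdeal A
    have hF' := ringKrullDim_le_spanFinrank_maximalIdeal (B ⧸ (maximalIdeal A).map (algebraMap A B))
    rw [spanFinrank_maximalIdeal_eq_finrank_cotangentSpace, ha] at hA'
    rw [spanFinrank_maximalIdeal_eq_finrank_cotangentSpace, hf] at hF'
    norm_cast at hB hA' hF'
    refine ⟨?_, ?_, ?_⟩
    · rw [isRegularLocalRing_iff, spanFinrank_maximalIdeal_eq_finrank_cotangentSpace, ha]
      exact_mod_cast (by omega : _ = a)
    · rw [isRegularLocalRing_iff, spanFinrank_maximalIdeal_eq_finrank_cotangentSpace, hf]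
      exact_mod_cast (by omega : _ = f)
    · rw [← h1.spanFinrank_maximalIdeal, spanFinrank_maximalIdeal_eq_finrank_cotangentSpace, h2, ha, hf]
      exact_mod_cast (by omega : _ = a + f)
  tfae_finish

end Groth.Agent.S2470
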