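import Groth.Statements.S2472
-- import your own Groth.Agent.* helpers here
import Groth.Agent.EGA41SymGr.Model

set_option autoImplicit false
universe u
open EGA41

namespace Groth.Agent.S2472

open IsLocalRing in
/-- Existence part and the range of dimensions: let k ⊆ K be fields. There is a Noetherian local
k-algebra A, formally smooth over k for its adic topology, whose residue field is k-isomorphic to K,
if and only if Υ_{K/k} is a finite-dimensional K-vector space. When this holds, for every integer n
≥ rank Υ_{K/k} there is such an A which is moreover complete and of dimension n. (The source's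
uniqueness-up-to-isomorphism clause for a given dimension is not stated.) -/
theorem result {k K : Type u} [Field k] [Field K] [Algebra k K] :
    ((∃ (A : Type u) (_ : CommRing A) (_ : IsLocalRing A) (_ : IsNoetherianRing A) (_ : Algebra k A),
        CAlgX.IsAdicFormallySmooth k A (maximalIdeal A) ∧ Nonempty (ResidueField A ≃ₐ[k] K)) ↔
      Module.Finite K (EGA41.imperfection ℤ k K)) ∧
    (Module.Finite K (EGA41.imperfection ℤ k K) → ∀ n : ℕ, Module.finrank K (EGA41.imperfection ℤ k K) ≤ n →
      ∃ (A : Type u) (_ : CommRing A) (_ : IsLocalRing A) (_ : IsNoetherianRing A) (_ : Algebra k A),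
        IsAdicComplete (maximalIdeal A) A ∧ CAlgX.IsAdicFormallySmooth k A (maximalIdeal A) ∧
        Nonempty (ResidueField A ≃ₐ[k] K) ∧ ringKrullDim A = n) := by
  open TensorProduct in
  refine ⟨⟨fun ⟨A, _, _, _, _, hA, ⟨e⟩⟩ => ?_, fun h => ?_⟩,
    fun h n hn => @Groth.Agent.EGA41SymGr.Model.exists_model k K _ _ _ h n hn⟩
  swap
  · haveI := h
    obtain ⟨A, i1, i2, i3, i4, _, hA, he, _⟩ := Groth.Agent.EGA41SymGr.Model.exists_model (k := k) (K := K) _ le_rfl
    exact ⟨A, i1, i2, i3, i4, hA, he⟩
  have key : ∀ (L M : Type u) [Field L] [Field M] [Algebra k L] [Algebra k M] (g : L ≃ₐ[k] M) (z : L ⊗[k] Ω[k⁄ℤ]),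
      z ∈ EGA41.imperfection ℤ k L →
        TensorProduct.map g.toLinearMap LinearMap.id z ∈ EGA41.imperfection ℤ k M := by
    intro L M _ _ _ _ g z hz
    letI : Algebra L M := g.toAlgHom.toRingHom.toAlgebra
    haveI : IsScalarTower k L M := IsScalarTower.of_algebraMap_eq fun a => (g.commutes a).symm
    show KaehlerDifferential.mapBaseChange ℤ k M _ = 0
    suffices h : ∀ z, KaehlerDifferential.mapBaseChange ℤ k M (TensorProduct.map g.toLinearMap LinearMap.id z) =
        KaehlerDifferential.map ℤ ℤ L M (KaehlerDifferential.mapBaseChange ℤ k L z) by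
      rw [h, show KaehlerDifferential.mapBaseChange ℤ k L z = 0 from hz, map_zero]
    intro z
    induction z using TensorProduct.induction_on with
    | zero => simp
    | add x y hx hy => simp only [map_add, hx, hy]
    | tmul c ω =>
      rw [TensorProduct.map_tmul, LinearMap.id_apply, KaehlerDifferential.mapBaseChange_tmul,
        KaehlerDifferential.mapBaseChange_tmul, map_smul]
      show g c • _ = _
      rw [show KaehlerDifferential.map ℤ ℤ k M ω = KaehlerDifferential.map ℤ ℤ L M (KaehlerDifferential.map ℤ ℤ k L ω) from ?_,
        ← algebraMap_smul M c (KaehlerDifferential.map ℤ ℤ L M _)]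
      · rfl
      have hω : ω ∈ Submodule.span k (Set.range (KaehlerDifferential.D ℤ k)) := by
        rw [KaehlerDifferential.span_range_derivation]; trivial
      induction hω using Submodule.span_induction with
      | mem x hx =>
        obtain ⟨a, rfl⟩ := hx
        simp only [KaehlerDifferential.map_D, ← IsScalarTower.algebraMap_apply]
      | zero => simp
      | add x y _ _ hx hy => simp only [map_add, hx, hy]
      | smul a x _ hx =>
        rw [map_smul (KaehlerDifferential.map ℤ ℤ k L), map_smul (KaehlerDifferential.map ℤ ℤ k M),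
          ← algebraMap_smul L a (KaehlerDifferential.map ℤ ℤ k L x), map_smul, hx, algebraMap_smul]
  classical
  obtain ⟨s, hs⟩ := (Module.Finite.iff_fg.mp (Groth.Agent.EGA41SymGr.Model.finite_imperfection A hA))
  let r := TensorProduct.map e.toLinearMap (LinearMap.id : Ω[k⁄ℤ] →ₗ[k] _)
  have hr : ∀ (c : ResidueField A) (z), r (c • z) = e c • r z := fun c z => by
    induction z using TensorProduct.induction_on with
    | zero => simp
    | tmul a ω => simp [r, TensorProduct.smul_tmul']
    | add a b ha hb => rw [smul_add, map_add, map_add, smul_add, ha, hb]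
  refine Module.Finite.iff_fg.mpr ⟨s.image r, le_antisymm (Submodule.span_le.mpr fun x hx => ?_) fun x hx => ?_⟩
  · obtain ⟨y, hy, rfl⟩ := Finset.mem_image.mp hx
    exact key _ _ e y (hs.le (Submodule.subset_span hy))
  · have h2 : x = r (TensorProduct.map e.symm.toLinearMap LinearMap.id x) := by
      rw [← LinearMap.comp_apply, ← TensorProduct.map_comp]
      conv_lhs => rw [show x = TensorProduct.map (LinearMap.id : K →ₗ[k] K) (LinearMap.id : Ω[k⁄ℤ] →ₗ[k] _) x by
        rw [TensorProduct.map_id]; rfl]
      congr 2
      · exact LinearMap.ext fun a => (e.apply_symm_apply a).symm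
    rw [h2]
    generalize hy : TensorProduct.map e.symm.toLinearMap LinearMap.id x = y
    have hmem : y ∈ Submodule.span (ResidueField A) (s : Set (ResidueField A ⊗[k] Ω[k⁄ℤ])) :=
      hs.ge (hy ▸ key _ _ e.symm x hx)
    clear hy
    induction hmem using Submodule.span_induction with
    | mem z hz => exact Submodule.subset_span (Finset.mem_image_of_mem r hz)
    | zero => simp
    | add a b _ _ ha hb => rw [map_add]; exact add_mem ha hb
    | smul c z _ hz =>
      rw [hr]
      exact Submodule.smul_mem _ _ hz

end Groth.Agent.S2472
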