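import Groth.Statements.S2474
import Groth.Agent.AdicBasics.Dimension
import Groth.Agent.Nagata.PowerSeries
import Groth.Agent.Nagata.GeomRed
import Groth.Agent.Hensel.Branches

set_option autoImplicit false
set_option linter.style.haveILetI false
set_option maxHeartbeats 800000
universe u
open EGA41

namespace Groth.Agent.S2474

open IsLocalRing TensorProduct

/-- Every element of the completion is congruent to one of the base. -/
theorem exists_sub_algebraMap_mem (A : Type u) [CommRing A] [IsLocalRing A] [IsNoetherianRing A]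
    (w : AdicCompletion (maximalIdeal A) A) :
    ∃ a : A, w - algebraMap A (AdicCompletion (maximalIdeal A) A) a ∈
      maximalIdeal (AdicCompletion (maximalIdeal A) A) := by
  obtain ⟨a, ha⟩ := Ideal.Quotient.mk_surjective (AdicCompletion.evalₐ (maximalIdeal A) 1 w)
  refine ⟨a, (mem_maximalIdeal _).2 fun hu => ?_⟩
  have h1 := hu.map (AdicCompletion.evalₐ (maximalIdeal A) 1)
  rw [map_sub, AlgHom.commutes, show algebraMap A (A ⧸ maximalIdeal A ^ 1) a = Ideal.Quotient.mk _ a from rfl, ha,
    sub_self] at h1
  haveI : Nontrivial (A ⧸ maximalIdeal A ^ 1) := Ideal.Quotient.nontrivial_iff.2 (by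
    rw [pow_one]; exact (maximalIdeal.isMaximal A).ne_top)
  exact not_isUnit_zero h1

/-- Integral domains over a complete ring, birational up to a finite extension, are local with finite residue field. -/
theorem residue_finite_of_complete (W X : Type u) [CommRing W] [IsLocalRing W] [IsNoetherianRing W]
    [HenselianLocalRing W] [IsAdicComplete (maximalIdeal W) W] [CommRing X] [IsDomain X] [Algebra W X] [Algebra.IsIntegral W X]
    (Y : Type u) [CommRing Y] [Algebra W Y] [Module.Finite W Y] (g : Y →ₐ[W] X)
    (hg : ∀ x : X, ∃ a : W, algebraMap W X a ≠ 0 ∧ ∃ y, algebraMap W X a * x = g y) :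
    IsLocalRing X ∧ Module.Finite W X := by
  refine ⟨Hensel.isLocalRing_of_integral_domain W X, ?_⟩
  let P := RingHom.ker (algebraMap W X)
  haveI : P.IsPrime := RingHom.ker_isPrime _
  let R := W ⧸ P
  let L := FractionRing X
  letI : Algebra R X := (Ideal.Quotient.lift P (algebraMap W X) fun _ h => h).toAlgebra
  haveI : IsScalarTower W R X := IsScalarTower.of_algebraMap_eq fun _ => rfl
  haveI : FaithfulSMul R X := (faithfulSMul_iff_algebraMap_injective _ _).2 (RingHom.kerLift_injective _)
  haveI : FaithfulSMul R L := (faithfulSMul_iff_algebraMap_injective _ _).2 (by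
    rw [IsScalarTower.algebraMap_eq R X L]
    exact (IsFractionRing.injective X L).comp (FaithfulSMul.algebraMap_injective R X))
  letI : Algebra (FractionRing R) L := FractionRing.liftAlgebra _ _
  haveI : IsScalarTower R (FractionRing R) L := FractionRing.isScalarTower_liftAlgebra _ _
  obtain ⟨gens, hgens⟩ := Module.finite_def.1 (inferInstance : Module.Finite W Y)
  classical
  let S : Finset L := gens.image fun y => algebraMap X L (g y)
  let V : Submodule (FractionRing R) L := Submodule.span (FractionRing R) (S : Set L)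
  have hY : ∀ y, algebraMap X L (g y) ∈ V := fun y => by
    have hy : y ∈ Submodule.span W (gens : Set Y) := hgens ▸ Submodule.mem_top
    induction hy using Submodule.span_induction with
    | mem x hx => exact Submodule.subset_span (Finset.mem_coe.2 (Finset.mem_image_of_mem _ hx))
    | zero => rw [map_zero, map_zero]; exact V.zero_mem
    | add u v _ _ hu hv => rw [map_add, map_add]; exact V.add_mem hu hv
    | smul a u _ hu =>
      rw [map_smul, Algebra.smul_def, map_mul, ← IsScalarTower.algebraMap_apply W X L,
        IsScalarTower.algebraMap_apply W R L, IsScalarTower.algebraMap_apply R (FractionRing R) L, ← Algebra.smul_def]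
      exact V.smul_mem _ hu
  have hXV : ∀ x : X, algebraMap X L x ∈ V := fun x => by
    obtain ⟨a, ha, y, hay⟩ := hg x
    have h1 : algebraMap (FractionRing R) L (algebraMap R (FractionRing R) (algebraMap W R a)) * algebraMap X L x ∈ V := by
      rw [← IsScalarTower.algebraMap_apply, ← IsScalarTower.algebraMap_apply W R L,
        IsScalarTower.algebraMap_apply W X L, ← map_mul, hay]
      exact hY y
    have h2 : algebraMap R (FractionRing R) (algebraMap W R a) ≠ 0 := fun h => ha (by
      rw [IsScalarTower.algebraMap_apply W R X, (map_eq_zero_iff _ (IsFractionRing.injective R (FractionRing R))).1 h,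
        map_zero])
    have h3 := V.smul_mem (algebraMap R (FractionRing R) (algebraMap W R a))⁻¹ h1
    rwa [← Algebra.smul_def, smul_smul, inv_mul_cancel₀ h2, one_smul] at h3
  haveI : FiniteDimensional (FractionRing R) L := by
    let F' := Algebra.adjoin (FractionRing R) (Set.range (algebraMap X L))
    haveI : Algebra.IsIntegral R X := Algebra.IsIntegral.tower_top W
    have hle : Subalgebra.toSubmodule F' ≤ V := by
      rw [Algebra.adjoin_eq_span, Submodule.span_le]
      intro z hz
      have hz' : z ∈ (algebraMap X L).range := by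
        induction hz using Submonoid.closure_induction with
        | mem w hw => exact hw
        | one => exact one_mem _
        | mul u v _ _ hu hv => exact mul_mem hu hv
      obtain ⟨x, rfl⟩ := hz'
      exact hXV x
    haveI : Module.Finite (FractionRing R) (Subalgebra.toSubmodule F') :=
      Submodule.finiteDimensional_of_le hle
    haveI : Module.Finite (FractionRing R) F' := inferInstanceAs (Module.Finite (FractionRing R) (Subalgebra.toSubmodule F'))
    have hF : F' = ⊤ := top_le_iff.1 fun z _ => by
      obtain ⟨b, c, hc, rfl⟩ := IsFractionRing.div_surjective (A := X) z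
      haveI : IsDomain F' := inferInstance
      have hcF : IsIntegral (FractionRing R) (algebraMap X L c) :=
        (Algebra.IsIntegral.isIntegral (R := FractionRing R)
          (⟨algebraMap X L c, Algebra.subset_adjoin (Set.mem_range_self c)⟩ : F')).map F'.val
      rw [div_eq_mul_inv]
      exact mul_mem (Algebra.subset_adjoin ⟨b, rfl⟩)
        (Algebra.adjoin_le (Set.singleton_subset_iff.2 (Algebra.subset_adjoin (Set.mem_range_self c))) hcF.inv_mem_adjoin)
    exact Module.Finite.equiv ((Subalgebra.equivOfEq F' ⊤ hF).trans Subalgebra.topEquiv).toLinearEquiv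
  have hfin : Module.Finite R (integralClosure R L) := (Nagata.isNagata_of_complete W).2 P L inferInstance
  haveI : Algebra.IsIntegral R X := Algebra.IsIntegral.tower_top W
  let emb : X →ₐ[R] integralClosure R L :=
    (IsScalarTower.toAlgHom R X L).codRestrict _ fun x => (Algebra.IsIntegral.isIntegral (R := R) x).map (IsScalarTower.toAlgHom R X L)
  haveI : Module.Finite R X := Module.Finite.of_injective emb.toLinearMap fun a b h =>
    IsFractionRing.injective X L (congrArg (fun z : integralClosure R L => (z : L)) h)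
  haveI : Module.Finite W R := Module.Finite.of_surjective (Algebra.linearMap W R) Ideal.Quotient.mk_surjective
  exact Module.Finite.trans R X

open IsLocalRing in
/-- Let A be a Noetherian local domain with fraction field K, K' a finite extension of K and A' the
integral closure of A in K'. Then A' has only finitely many maximal ideals, and for every maximal
ideal 𝔪' of A' the field A'/𝔪' is a finite extension of the residue field of A (equivalently a
finite A-module). -/
theorem result {A K' : Type u} [CommRing A] [IsDomain A] [IsLocalRing A] [IsNoetherianRing A]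
    [Field K'] [Algebra A K'] [Algebra (FractionRing A) K'] [IsScalarTower A (FractionRing A) K'] [FiniteDimensional (FractionRing A) K'] :
    {m : Ideal (integralClosure A K') | m.IsMaximal}.Finite ∧
      ∀ (m : Ideal (integralClosure A K')), m.IsMaximal → Module.Finite A (integralClosure A K' ⧸ m) := by
  classical
  let K := FractionRing A
  let W := AdicCompletion (maximalIdeal A) A
  haveI : Module.FaithfullyFlat A W := Module.FaithfullyFlat.of_flat_of_isLocalHom
  haveI hcompl : IsAdicComplete (maximalIdeal W) W :=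
    inferInstanceAs (IsAdicComplete (maximalIdeal (AdicCompletion (maximalIdeal A) A)) (AdicCompletion (maximalIdeal A) A))
  haveI : HenselianLocalRing W := ⟨fun f hf a₀ h₁ h₂ => by
    haveI : HenselianRing W (maximalIdeal W) := IsAdicComplete.henselianRing W (maximalIdeal W)
    exact HenselianRing.is_henselian f hf a₀ h₁ (h₂.map _)⟩
  let C := integralClosure A K'
  -- a finite birational model
  let b := Module.finBasis K K'
  haveI : Algebra.IsIntegral K K' := Algebra.IsIntegral.of_finite K K'
  choose s hs using fun i => IsIntegral.exists_multiple_integral_of_isLocalization (Rₘ := K) (nonZeroDivisors A) (b i)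
    (Algebra.IsIntegral.isIntegral (b i))
  let B := Algebra.adjoin A (Set.range fun i => ((s i : A) • b i))
  have hBC : B ≤ C := Algebra.adjoin_le (by rintro _ ⟨i, rfl⟩; exact hs i)
  haveI : Module.Finite A B := Module.Finite.iff_fg.2
    (fg_adjoin_of_finite (Set.finite_range _) (by rintro _ ⟨i, rfl⟩; exact hs i))
  let iBC : B →ₐ[A] C := Subalgebra.inclusion hBC
  have hinjA : Function.Injective (algebraMap A K') := by
    rw [IsScalarTower.algebraMap_eq A K K']
    exact (algebraMap K K').injective.comp (IsFractionRing.injective A K)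
  have hclear : ∀ c : C, ∃ a : A, a ≠ 0 ∧ ∃ y : B, algebraMap A C a * c = iBC y := by
    suffices h : ∀ z : K', ∃ a : A, a ≠ 0 ∧ algebraMap A K' a * z ∈ B by
      intro c
      obtain ⟨a, ha, hz⟩ := h c
      exact ⟨a, ha, ⟨_, hz⟩, Subtype.ext rfl⟩
    intro z
    have hz : z ∈ Submodule.span K (Set.range b) := b.span_eq ▸ Submodule.mem_top
    induction hz using Submodule.span_induction with
    | mem w hw =>
      obtain ⟨i, rfl⟩ := hw
      refine ⟨s i, nonZeroDivisors.ne_zero (s i).2, ?_⟩
      rw [← Algebra.smul_def]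
      exact Algebra.subset_adjoin ⟨i, rfl⟩
    | zero => exact ⟨1, one_ne_zero, by rw [mul_zero]; exact zero_mem _⟩
    | add u v _ _ hu hv =>
      obtain ⟨a, ha, hu⟩ := hu
      obtain ⟨a', ha', hv⟩ := hv
      refine ⟨a * a', mul_ne_zero ha ha', ?_⟩
      rw [map_mul, show algebraMap A K' a * algebraMap A K' a' * (u + v) =
        algebraMap A K' a' * (algebraMap A K' a * u) + algebraMap A K' a * (algebraMap A K' a' * v) by ring]
      exact add_mem (mul_mem (B.algebraMap_mem _) hu) (mul_mem (B.algebraMap_mem _) hv)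
    | smul k u _ hu =>
      obtain ⟨a, ha, hu⟩ := hu
      obtain ⟨⟨r, t⟩, hrt⟩ := IsLocalization.surj (nonZeroDivisors A) k
      refine ⟨t * a, mul_ne_zero (nonZeroDivisors.ne_zero t.2) ha, ?_⟩
      have h1 := congrArg (algebraMap K K') hrt
      rw [map_mul, ← IsScalarTower.algebraMap_apply, ← IsScalarTower.algebraMap_apply] at h1
      rw [Algebra.smul_def, map_mul, show algebraMap A K' t * algebraMap A K' a * (algebraMap K K' k * u) =
        algebraMap A K' r * (algebraMap A K' a * u) by rw [← h1]; ring]
      exact mul_mem (B.algebraMap_mem _) hu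
  haveI : Algebra.IsIntegral A C := ⟨fun c => IsIntegralClosure.isIntegral A K' c⟩
  let X := W ⊗[A] C
  let X₀ := W ⊗[A] B
  let ι : X₀ →ₐ[W] X := Algebra.TensorProduct.map (AlgHom.id W W) iBC
  have hι : Function.Injective ι := Module.Flat.lTensor_preserves_injective_linearMap iBC.toLinearMap
    (Subalgebra.inclusion_injective hBC)
  have hXint : Algebra.IsIntegral W X := inferInstance
  have hιA : ∀ a : A, ι (algebraMap A X₀ a) = algebraMap A X a := fun a => by
    rw [IsScalarTower.algebraMap_apply A W X₀, AlgHom.commutes, ← IsScalarTower.algebraMap_apply A W X]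
  have hclearX : ∀ x : X, ∃ a : A, a ≠ 0 ∧ ∃ y, algebraMap A X a * x = ι y := fun x => by
    induction x using TensorProduct.induction_on with
    | zero => exact ⟨1, one_ne_zero, 0, by rw [mul_zero, map_zero]⟩
    | tmul w c =>
      obtain ⟨a, ha, y, hy⟩ := hclear c
      refine ⟨a, ha, w ⊗ₜ y, ?_⟩
      rw [Algebra.TensorProduct.map_tmul, ← hy, ← Algebra.smul_def, ← tmul_smul, Algebra.smul_def]
      rfl
    | add u v hu hv =>
      obtain ⟨a, ha, y, hy⟩ := hu
      obtain ⟨a', ha', y', hy'⟩ := hv
      refine ⟨a * a', mul_ne_zero ha ha', algebraMap A X₀ a' * y + algebraMap A X₀ a * y', ?_⟩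
      rw [map_add, map_mul ι, map_mul ι, hιA, hιA, ← hy, ← hy', map_mul]
      ring
  letI : Algebra C X := Algebra.TensorProduct.rightAlgebra
  haveI : IsScalarTower A C X := IsScalarTower.of_algebraMap_eq fun a =>
    ((Algebra.TensorProduct.includeRight : C →ₐ[A] X).commutes a).symm
  haveI : Algebra.IsPushout A W C X := inferInstance
  haveI : Module.FaithfullyFlat C X := Module.FaithfullyFlat.of_linearEquiv C (C ⊗[A] W)
    (Algebra.IsPushout.equiv A C W X).symm.toLinearEquiv
  have hmin : ∀ P₀ ∈ minimalPrimes X, ∀ a : A, a ≠ 0 → algebraMap A X a ∉ P₀ := fun P₀ hP₀ a ha h => by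
    have h1 := Groth.Agent.Hensel.comap_mem_minimalPrimes_of_flat (R := C) hP₀
    rw [IsDomain.minimalPrimes_eq_singleton_bot, Set.mem_singleton_iff] at h1
    have h2 : algebraMap A C a ∈ P₀.comap (algebraMap C X) := by
      rw [Ideal.mem_comap, ← IsScalarTower.algebraMap_apply]; exact h
    rw [h1, Ideal.mem_bot] at h2
    exact ha (hinjA ((congrArg (fun c : C => (c : K')) h2).trans (map_zero (algebraMap A K')).symm))
  have hle : ∀ P₀ ∈ minimalPrimes X, ∀ P₁ ∈ minimalPrimes X, P₁.comap ι ≤ P₀.comap ι → P₁ ≤ P₀ := by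
    intro P₀ h₀ P₁ h₁ hc x hx
    obtain ⟨a, ha, y, hy⟩ := hclearX x
    have h2 : y ∈ P₁.comap ι := by rw [Ideal.mem_comap, ← hy]; exact P₁.mul_mem_left _ hx
    have h3 := hc h2
    rw [Ideal.mem_comap, ← hy] at h3
    exact (h₀.1.1.mem_or_mem h3).resolve_left (hmin P₀ h₀ a ha)
  haveI : IsNoetherianRing X₀ := IsNoetherianRing.of_finite W X₀
  have hfinmin : (minimalPrimes X).Finite := by
    have hmap : ∀ P₀ ∈ minimalPrimes X, P₀.comap ι ∈ minimalPrimes X₀ := fun P₀ hP₀ => by
      haveI := hP₀.1.1
      obtain ⟨Q, hQ, hQle⟩ := Ideal.exists_minimalPrimes_le (I := ⊥) (J := P₀.comap ι) bot_le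
      obtain ⟨P₁, hP₁, hP₁Q⟩ := Ideal.exists_minimalPrimes_comap_eq (I := (⊥ : Ideal X)) ι.toRingHom Q (by
        rw [← RingHom.ker_eq_comap_bot, (RingHom.injective_iff_ker_eq_bot ι.toRingHom).1 hι]; exact hQ)
      have hP₁Q' : P₁.comap ι = Q := hP₁Q
      have h1 : P₁ = P₀ := le_antisymm (hle P₀ hP₀ P₁ hP₁ (hP₁Q'.le.trans hQle))
        (hP₀.2 ⟨hP₁.isPrime, bot_le⟩ (hle P₀ hP₀ P₁ hP₁ (hP₁Q'.le.trans hQle)))
      rw [← h1, hP₁Q']
      exact hQ
    refine Set.Finite.of_finite_image ((minimalPrimes.finite_of_isNoetherianRing X₀).subset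
      (fun Q hQ => by obtain ⟨P₀, hP₀, rfl⟩ := hQ; exact hmap P₀ hP₀)) fun P₀ h₀ P₁ h₁ h => ?_
    exact le_antisymm (hle P₁ h₁ P₀ h₀ (le_of_eq h)) (hle P₀ h₀ P₁ h₁ (le_of_eq h.symm))
  have hloc : ∀ P₀ ∈ minimalPrimes X, IsLocalRing (X ⧸ P₀) ∧
      Module.Finite W (X ⧸ P₀) := fun P₀ hP₀ => by
    haveI := hP₀.1.1
    refine residue_finite_of_complete W (X ⧸ P₀) X₀ ((Ideal.Quotient.mkₐ W P₀).comp ι) fun x => ?_
    obtain ⟨x, rfl⟩ := Ideal.Quotient.mk_surjective x
    obtain ⟨a, ha, y, hy⟩ := hclearX x
    refine ⟨algebraMap A W a, fun h => hmin P₀ hP₀ a ha ?_, y, ?_⟩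
    · rw [← IsScalarTower.algebraMap_apply A W (X ⧸ P₀), IsScalarTower.algebraMap_apply A X (X ⧸ P₀)] at h
      exact Ideal.Quotient.eq_zero_iff_mem.1 h
    · rw [← IsScalarTower.algebraMap_apply A W (X ⧸ P₀), IsScalarTower.algebraMap_apply A X (X ⧸ P₀)]
      show Ideal.Quotient.mk P₀ (algebraMap A X a) * Ideal.Quotient.mk P₀ x = Ideal.Quotient.mk P₀ (ι y)
      rw [← map_mul, hy]
  have hover : ∀ m : Ideal C, m.IsMaximal → ∃ P₀ ∈ minimalPrimes X, ∃ M : Ideal X, M.IsMaximal ∧ P₀ ≤ M ∧
      M.comap (algebraMap C X) = m := fun m hm => by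
    haveI := hm
    have hmX : m.map (algebraMap C X) ≠ ⊤ := fun h => hm.ne_top (by
      rw [← Ideal.comap_map_eq_self_of_faithfullyFlat (B := X) m, h, Ideal.comap_top])
    obtain ⟨M, hM, hmM⟩ := Ideal.exists_le_maximal _ hmX
    haveI := hM
    obtain ⟨P₀, hP₀, hPM⟩ := Ideal.exists_minimalPrimes_le (I := ⊥) (J := M) bot_le
    exact ⟨P₀, hP₀, M, hM, hPM,
      (hm.eq_of_le (Ideal.comap_ne_top _ hM.ne_top) (Ideal.map_le_iff_le_comap.1 hmM)).symm⟩
  constructor
  · have hfinM : {M : Ideal X | M.IsMaximal}.Finite := by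
      have hone : ∀ P₀ ∈ minimalPrimes X, {M : Ideal X | M.IsMaximal ∧ P₀ ≤ M}.Finite := fun P₀ hP₀ => by
        haveI := (hloc P₀ hP₀).1
        refine ((Set.finite_singleton ((maximalIdeal (X ⧸ P₀)).comap (Ideal.Quotient.mk P₀))).subset ?_)
        rintro M ⟨hM, hPM⟩
        rw [Set.mem_singleton_iff]
        haveI := hM
        refine hM.eq_of_le (Ideal.comap_ne_top _ (maximalIdeal.isMaximal (X ⧸ P₀)).ne_top) (Ideal.map_le_iff_le_comap.1 ?_)
        refine IsLocalRing.le_maximalIdeal fun h => hM.ne_top ?_
        rw [← Ideal.comap_map_mk hPM, h, Ideal.comap_top]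
      refine (hfinmin.biUnion hone).subset fun M (hM : M.IsMaximal) => ?_
      obtain ⟨P₀, hP₀, hPM⟩ := Ideal.exists_minimalPrimes_le (I := ⊥) (J := M) bot_le
      exact Set.mem_biUnion hP₀ ⟨hM, hPM⟩
    refine (hfinM.image fun M => M.comap (algebraMap C X)).subset fun m hm => ?_
    obtain ⟨P₀, -, M, hM, -, hMm⟩ := hover m hm
    exact ⟨M, hM, hMm⟩
  · intro m hm
    haveI := hm
    obtain ⟨P₀, hP₀, M, hM, hPM, hMm⟩ := hover m hm
    haveI := hM
    haveI := (hloc P₀ hP₀).2
    haveI : Module.Finite W (X ⧸ M) :=
      Module.Finite.of_surjective (Ideal.Quotient.factorₐ W hPM).toLinearMap (Ideal.Quotient.factor_surjective hPM)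
    -- the residue field of the completion is that of the base
    have hfin : Module.Finite A (X ⧸ M) := by
      obtain ⟨F, hF⟩ := Module.finite_def.1 (inferInstance : Module.Finite W (X ⧸ M))
      have key : ∀ y ∈ Submodule.span W (F : Set (X ⧸ M)), y ∈ Submodule.span A (F : Set (X ⧸ M)) := by
        intro y hy
        induction hy using Submodule.span_induction with
        | mem u hu => exact Submodule.subset_span hu
        | zero => exact zero_mem _
        | add u v _ _ hu hv => exact add_mem hu hv
        | smul w u _ hu =>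
          obtain ⟨a, ha⟩ := exists_sub_algebraMap_mem A w
          have h0 : (w - algebraMap A W a) • u = 0 := by
            rw [← one_mul u, ← smul_mul_assoc, ← Algebra.algebraMap_eq_smul_one,
              IsScalarTower.algebraMap_apply W X (X ⧸ M)]
            have h1 : M.comap (algebraMap W X) = maximalIdeal W :=
              eq_maximalIdeal (Ideal.isMaximal_comap_of_isIntegral_of_isMaximal M)
            rw [← h1, Ideal.mem_comap] at ha
            rw [show algebraMap X (X ⧸ M) _ = 0 from Ideal.Quotient.eq_zero_iff_mem.2 ha]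
            exact zero_mul u
          rw [sub_smul, sub_eq_zero, IsScalarTower.algebraMap_smul] at h0
          rw [h0]
          exact Submodule.smul_mem _ a hu
      exact ⟨⟨F, top_le_iff.1 fun y _ => key y (hF ▸ Submodule.mem_top)⟩⟩
    haveI := hfin
    haveI : IsNoetherian A (X ⧸ M) := isNoetherian_of_isNoetherianRing_of_finite A _
    let emb : (C ⧸ m) →ₐ[A] X ⧸ M :=
      Ideal.Quotient.liftₐ m ((Ideal.Quotient.mkₐ A M).comp (IsScalarTower.toAlgHom A C X)) fun c hc => by
        rw [← hMm] at hc
        exact Ideal.Quotient.eq_zero_iff_mem.2 hc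
    letI := Ideal.Quotient.field m
    exact Module.Finite.of_injective emb.toLinearMap emb.toRingHom.injective

end Groth.Agent.S2474
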