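import Groth.Statements.S2476
-- import your own Groth.Agent.* helpers here
import Groth.Agent.EGA41SymGr.Omega
import Groth.Agent.EGA41FS.SmallStep

set_option autoImplicit false
universe u
open EGA41

namespace Groth.Agent.S2476

open IsLocalRing in
/-- Let k₀ be a field and A a complete Noetherian local k₀-algebra, formally smooth over k₀ for the adic
topology, whose residue field K is a finitely generated extension of k₀. Then the 𝔪-adic completion
Ω̂_{A/k₀} of Ω_{A/k₀} is a free A-module of rank dim A + trdeg_{k₀} K. -/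
theorem result {k₀ A : Type u} [Field k₀] [CommRing A] [IsLocalRing A] [IsNoetherianRing A] [Algebra k₀ A]
    [IsAdicComplete (maximalIdeal A) A] (hfs : CAlgX.IsAdicFormallySmooth k₀ A (maximalIdeal A))
    [Algebra.EssFiniteType k₀ (ResidueField A)] :
    Module.Finite A (AdicCompletion (maximalIdeal A) (Ω[A⁄k₀])) ∧ Module.Free A (AdicCompletion (maximalIdeal A) (Ω[A⁄k₀])) ∧
      (Module.finrank A (AdicCompletion (maximalIdeal A) (Ω[A⁄k₀])) : WithBot ℕ∞) =
        ringKrullDim A + (Cardinal.toNat (Algebra.trdeg k₀ (ResidueField A)) : WithBot ℕ∞) := by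
  open TensorProduct in
  classical
  obtain ⟨hfin, hrank⟩ := Groth.Agent.EGA41SymGr.finrank_residue_tensor_kaehler hfs
  haveI := hfin
  haveI hreg : IsRegularLocalRing A := Groth.Agent.EGA41Adic.isRegularLocalRing_of_isAdicFormallySmooth hfs
  let m := maximalIdeal A
  let z : Ideal k₀ := ⊥
  have hz : ∃ c : ℕ, (z ^ c).map (algebraMap k₀ A) ≤ m :=
    ⟨1, by rw [pow_one, show z = ⊥ from rfl, Ideal.map_bot]; exact bot_le⟩
  have hproj : ∀ n, 1 ≤ n → Module.Projective (A ⧸ m ^ n) ((A ⧸ m ^ n) ⊗[A] Ω[A⁄k₀]) := fun n _ =>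
    Groth.Agent.EGA41FS.projective_of_formallySmoothAdic z m hz
      (Groth.Agent.EGA41FS.isFormallySmoothAdic_of_small z m fun C _ _ I hI _ _ u hu => hfs C I hI u hu)
      (m ^ n) ⟨n, le_rfl⟩
  let b := Module.finBasis (ResidueField A) (ResidueField A ⊗[A] Ω[A⁄k₀])
  obtain ⟨c⟩ := Groth.Agent.EGA41SymGr.exists_completion_basis (R := A) m (M := Ω[A⁄k₀]) b hproj
  have h1 : Module.finrank A (AdicCompletion m (Ω[A⁄k₀])) = Module.finrank (ResidueField A) (ResidueField A ⊗[A] Ω[A⁄k₀]) := by
    rw [Module.finrank_eq_card_basis c, Fintype.card_fin]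
  refine ⟨Module.Finite.of_basis c, Module.Free.of_basis c, ?_⟩
  rw [h1, hrank, Nat.cast_add, ← (IsRegularLocalRing.iff_finrank_cotangentSpace A).mp hreg]

end Groth.Agent.S2476
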