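import Groth.Statements.S2477
-- import your own Groth.Agent.* helpers here
import Groth.Agent.S2476

set_option autoImplicit false
universe u
open EGA41

namespace Groth.Agent.S2477

open IsLocalRing in
/-- Let k be a field and A = k[[T_1, …, T_r]] with its usual k-algebra structure. Then the adic
completion Ω̂_{A/k} of Ω_{A/k} is a free A-module of rank r. -/
theorem result (k : Type u) [Field k] (r : ℕ) :
    Module.Finite (MvPowerSeries (Fin r) k) (AdicCompletion (maximalIdeal (MvPowerSeries (Fin r) k)) (Ω[MvPowerSeries (Fin r) k⁄k])) ∧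
    Module.Free (MvPowerSeries (Fin r) k) (AdicCompletion (maximalIdeal (MvPowerSeries (Fin r) k)) (Ω[MvPowerSeries (Fin r) k⁄k])) ∧
      Module.finrank (MvPowerSeries (Fin r) k) (AdicCompletion (maximalIdeal (MvPowerSeries (Fin r) k)) (Ω[MvPowerSeries (Fin r) k⁄k])) = r := by
  let A := MvPowerSeries (Fin r) k
  haveI : IsAdicComplete (maximalIdeal A) A := Groth.Agent.ArtObs.isAdicComplete_ps k r
  haveI hc : Function.Bijective (algebraMap k (ResidueField A)) := by
    refine ⟨RingHom.injective _, fun y => ?_⟩
    obtain ⟨x, rfl⟩ := residue_surjective y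
    refine ⟨MvPowerSeries.constantCoeff x, ?_⟩
    rw [IsScalarTower.algebraMap_apply k A (ResidueField A)]
    show residue A (algebraMap k A _) = residue A x
    rw [← sub_eq_zero, ← map_sub, residue_eq_zero_iff, Groth.Agent.EGA41SymGr.Model.mem_maximalIdeal_iff, map_sub,
      MvPowerSeries.algebraMap_apply]
    simp
  let e : k ≃ₐ[k] ResidueField A := AlgEquiv.ofBijective (Algebra.ofId k _) hc
  haveI : Module.Finite k (ResidueField A) := Module.Finite.equiv e.toLinearEquiv
  haveI : Algebra.EssFiniteType k (ResidueField A) := inferInstance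
  haveI : Algebra.IsAlgebraic k (ResidueField A) := Algebra.IsAlgebraic.of_finite k _
  obtain ⟨h1, h2, h3⟩ := Groth.Agent.S2476.result (A := A) (Groth.Agent.EGA41Adic.isAdicFormallySmooth_mvPowerSeries k k r)
  refine ⟨h1, h2, ?_⟩
  rw [trdeg_eq_zero, map_zero, Nat.cast_zero, add_zero, Groth.Agent.EGA41SymGr.Model.ringKrullDim_eq] at h3
  exact_mod_cast h3

end Groth.Agent.S2477
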