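import Groth.Statements.S2478
import Mathlib
import Groth.Agent.ConsTop.Maps

set_option autoImplicit false
universe u
open EGA41

namespace Groth.Agent.S2478

open Topology in
/-- Equivalence of (a'') and (b) for X = Spec A affine: a subset E of Spec A is the image of the map
Spec B → Spec A induced by some ring homomorphism A → B if and only if E is an intersection of a
family of constructible subsets of Spec A. -/
theorem result {A : Type u} [CommRing A] (E : Set (PrimeSpectrum A)) :
    (∃ (B : Type u) (_ : CommRing B) (f : A →+* B), Set.range (PrimeSpectrum.comap f) = E) ↔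
      ∃ S : Set (Set (PrimeSpectrum A)), (∀ s ∈ S, IsConstructible s) ∧ E = ⋂₀ S := by
  classical
  constructor
  · rintro ⟨B, _, f, rfl⟩
    have hc : @Continuous (PrimeSpectrum B) (PrimeSpectrum A) (constructibleTopology _) (constructibleTopology _)
        (PrimeSpectrum.comap f) := by
      refine Groth.Agent.ConsTop.continuous_cons _ (PrimeSpectrum.continuous_comap f) fun U hU hUc => ?_
      obtain ⟨s, hs, rfl⟩ := (PrimeSpectrum.isCompact_isOpen_iff).mp ⟨hUc, hU⟩
      exact (PrimeSpectrum.isCompact_isOpen_iff.mpr ⟨(s.image f), by
        rw [Set.preimage_compl, PrimeSpectrum.preimage_comap_zeroLocus, Finset.coe_image]⟩).1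
    have hk := @IsCompact.image _ _ (constructibleTopology _) (constructibleTopology _) _ _
      (Groth.Agent.ConsTop.isCompact_cons (X := PrimeSpectrum B) isOpen_univ isCompact_univ) hc
    rw [Set.image_univ] at hk
    have hcl := @IsCompact.isClosed _ (constructibleTopology (PrimeSpectrum A)) Groth.Agent.ConsTop.t2Space_cons _ hk
    exact ⟨_, fun s hs => hs.1, Groth.Agent.ConsTop.eq_sInter_isConstructible hcl.1⟩
  · rintro ⟨S, hS, rfl⟩
    exact Groth.Agent.ConsTop.exists_ringHom_range_eq (Groth.Agent.ConsTop.isOpen_cons_compl_sInter hS)

end Groth.Agent.S2478
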