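import Groth.Statements.S2481
-- import your own Groth.Agent.* helpers here
import Groth.Agent.EGA41FS.ArtinianTest

set_option autoImplicit false
universe u
open EGA41

namespace Groth.Agent.S2481

open IsLocalRing in
/-- Let A → B be a local homomorphism of Noetherian local rings with the adic topologies, K the residue
field of B. Then B is formally smooth over A if and only if: for every Artinian local ring C with a
local homomorphism A → C, every nilpotent ideal J of C and every local A-algebra homomorphism u : B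
→ C/J inducing a bijection of residue fields (so that C has residue field K and u induces the
identity on it), u is induced by a local A-algebra homomorphism B → C. -/
theorem result {A B : Type u} [CommRing A] [IsLocalRing A] [IsNoetherianRing A] [CommRing B] [IsLocalRing B] [IsNoetherianRing B]
    [Algebra A B] [IsLocalHom (algebraMap A B)] :
    EGA41.IsFormallySmoothAdic A (maximalIdeal A) B (maximalIdeal B) ↔
      ∀ (C : Type u) [CommRing C] [IsLocalRing C] [IsArtinianRing C] [Algebra A C] [IsLocalHom (algebraMap A C)]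
        (J : Ideal C), IsNilpotent J → ∀ [IsLocalRing (C ⧸ J)] (u : B →ₐ[A] C ⧸ J) [IsLocalHom u.toRingHom],
        Function.Bijective (ResidueField.map u.toRingHom) →
        ∃ f : B →ₐ[A] C, IsLocalHom f.toRingHom ∧ (Ideal.Quotient.mkₐ A J).comp f = u := by
  classical
  constructor
  · intro hB C _ _ _ _ _ J hJ _ u _ _
    obtain ⟨k, hk⟩ := IsArtinianRing.isNilpotent_jacobson_bot (R := C)
    rw [jacobson_eq_maximalIdeal ⊥ bot_ne_top] at hk
    have hJm : J ≤ maximalIdeal C := le_maximalIdeal fun h => not_subsingleton (C ⧸ J) (Ideal.Quotient.subsingleton_iff.mpr h)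
    have hmA : (maximalIdeal A).map (algebraMap A C) ≤ maximalIdeal C := ((local_hom_TFAE (algebraMap A C)).out 0 2).mp ‹_›
    have humem : ∀ x ∈ maximalIdeal B, u x ∈ (maximalIdeal C).map (Ideal.Quotient.mk J) := fun x hx => by
      haveI : IsLocalHom (Ideal.Quotient.mk J) := IsLocalHom.of_surjective _ Ideal.Quotient.mk_surjective
      obtain ⟨c, hc⟩ := Ideal.Quotient.mk_surjective (u x)
      rw [← hc]
      refine Ideal.mem_map_of_mem _ ((mem_maximalIdeal _).mpr fun hu' => ?_)
      have h1 : IsUnit (u.toRingHom x) := by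
        show IsUnit (u x)
        rw [← hc]; exact hu'.map _
      exact (mem_maximalIdeal x).mp hx (isUnit_of_map_unit u.toRingHom x h1)
    obtain ⟨f, hf⟩ := hB C J hJ ⟨k, eq_bot_iff.mpr (by rw [Ideal.map_pow]; exact (Ideal.pow_right_mono hmA k).trans (le_of_eq hk))⟩
      u ⟨k, fun x hx => by
        have h1 : (maximalIdeal B).map u.toRingHom ≤ (maximalIdeal C).map (Ideal.Quotient.mk J) :=
          Ideal.map_le_iff_le_comap.mpr humem
        have h2 := Ideal.pow_right_mono h1 k (by rw [← Ideal.map_pow]; exact Ideal.mem_map_of_mem u.toRingHom hx)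
        rw [← Ideal.map_pow, hk, Ideal.zero_eq_bot, Ideal.map_bot] at h2
        exact h2⟩
    exact ⟨f, ⟨fun b hb => isUnit_of_map_unit u.toRingHom b
      (by rw [← hf]; exact hb.map (Ideal.Quotient.mk J))⟩, hf⟩
  · intro htest
    refine Groth.Agent.EGA41FS.isFormallySmoothAdic_of_killed _ _ fun C _ _ J hJ2 hC u hu hN => ?_
    obtain ⟨k₀, hk₀⟩ := hu
    obtain ⟨l, hl⟩ := hC
    let k := k₀ + 1
    have hk : ∀ x ∈ maximalIdeal B ^ k, u x = 0 := fun x hx => hk₀ x (Ideal.pow_le_pow_right (Nat.le_succ _) hx)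
    let Q := B ⧸ maximalIdeal B ^ k
    let ū : Q →ₐ[A] C ⧸ J := Ideal.Quotient.liftₐ _ u hk
    let E : Subalgebra A (C × Q) := AlgHom.equalizer
      ((Ideal.Quotient.mkₐ A J).comp (AlgHom.fst A C Q)) (ū.comp (AlgHom.snd A C Q))
    have hmem : ∀ x : C × Q, x ∈ E ↔ Ideal.Quotient.mk J x.1 = ū x.2 := fun _ => Iff.rfl
    let π : E →ₐ[A] Q := (AlgHom.snd A C Q).comp E.val
    have hπ : Function.Surjective π := fun q => by
      obtain ⟨c, hc⟩ := Ideal.Quotient.mk_surjective (ū q)
      exact ⟨⟨(c, q), (hmem _).mpr hc⟩, rfl⟩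
    let K : Ideal E := RingHom.ker π
    let eK : (E ⧸ K) ≃ₐ[A] Q := Ideal.quotientKerAlgEquivOfSurjective hπ
    haveI : Nontrivial Q := Ideal.Quotient.nontrivial_iff.mpr fun h =>
      (maximalIdeal.isMaximal B).ne_top (top_le_iff.mp (h ▸ Ideal.pow_le_self (Nat.succ_ne_zero _)))
    haveI : IsLocalRing Q := IsLocalRing.of_surjective' (Ideal.Quotient.mk _) Ideal.Quotient.mk_surjective
    have hK2 : K ^ 2 = ⊥ := by
      rw [pow_two, eq_bot_iff, Ideal.mul_le]
      intro x hx y hy
      have hx' : x.1.1 ∈ J := Ideal.Quotient.eq_zero_iff_mem.mp (((hmem _).mp x.2).trans (by rw [show x.1.2 = 0 from hx, map_zero]))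
      have hy' : y.1.1 ∈ J := Ideal.Quotient.eq_zero_iff_mem.mp (((hmem _).mp y.2).trans (by rw [show y.1.2 = 0 from hy, map_zero]))
      refine Subtype.ext (Prod.ext ?_ ?_)
      · show x.1.1 * y.1.1 = 0
        have := Ideal.mul_mem_mul hx' hy'
        rwa [← pow_two, hJ2] at this
      · show x.1.2 * y.1.2 = 0
        rw [show x.1.2 = 0 from hx, zero_mul]
    haveI : Nontrivial E := π.toRingHom.domain_nontrivial
    haveI : IsLocalRing E := by
      have hunit : ∀ x : E, IsUnit (π x) → IsUnit x := fun x hx => by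
        obtain ⟨y, hy⟩ := hπ ↑hx.unit⁻¹
        have h1 : (1 - x * y) ∈ K := by
          show π (1 - x * y) = 0
          rw [map_sub, map_one, map_mul, hy, IsUnit.mul_val_inv, sub_self]
        have h2 : IsNilpotent (1 - x * y) := ⟨2, by
          have := Ideal.pow_mem_pow h1 2
          rwa [hK2] at this⟩
        have h3 := h2.isUnit_one_sub
        rw [sub_sub_cancel] at h3
        exact isUnit_of_mul_isUnit_left h3
      refine IsLocalRing.of_nonunits_add fun a b ha hb hab => ?_
      have := hab.map π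
      rw [map_add] at this
      rcases IsLocalRing.isUnit_or_isUnit_of_isUnit_add this with h | h
      exacts [ha (hunit a h), hb (hunit b h)]
    haveI hπloc : IsLocalHom π.toRingHom := IsLocalHom.of_surjective _ hπ
    have hKm : K ≤ maximalIdeal E := fun x hx => (mem_maximalIdeal x).mpr fun h =>
      not_isUnit_zero (M₀ := Q) ((show π x = 0 from hx) ▸ h.map π)
    have hmK : maximalIdeal E * K = ⊥ := by
      rw [eq_bot_iff, Ideal.mul_le]
      intro x hx y hy
      have hy' : y.1.1 ∈ J := Ideal.Quotient.eq_zero_iff_mem.mp (((hmem _).mp y.2).trans (by rw [show y.1.2 = 0 from hy, map_zero]))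
      refine Subtype.ext (Prod.ext ?_ ?_)
      · show x.1.1 * y.1.1 = 0
        have hxN : x.1.1 ∈ Groth.Agent.EGA41FS.preIdeal J u (maximalIdeal B) := by
          show Ideal.Quotient.mk J x.1.1 ∈ (maximalIdeal B).map u.toRingHom
          rw [(hmem _).mp x.2]
          obtain ⟨b, hb⟩ := Ideal.Quotient.mk_surjective x.1.2
          rw [← hb]
          refine Ideal.mem_map_of_mem u.toRingHom ((mem_maximalIdeal b).mpr fun hb' => ?_)
          have h1 : IsUnit (π.toRingHom x) := by
            show IsUnit x.1.2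
            rw [← hb]; exact hb'.map _
          exact (mem_maximalIdeal x).mp hx (isUnit_of_map_unit π.toRingHom x h1)
        have := Ideal.mul_mem_mul hxN hy'
        rwa [hN] at this
      · show x.1.2 * y.1.2 = 0
        rw [show y.1.2 = 0 from hy, mul_zero]
    haveI : Module.Finite B Q := inferInstance
    haveI : IsArtinianRing Q := by
      refine isArtinianRing_iff_isNoetherianRing_krullDimLE_zero.mpr ⟨inferInstance, ?_⟩
      refine Ring.KrullDimLE.mk₀ fun P hP => ?_
      have : maximalIdeal Q ≤ P := by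
        rw [← IsLocalRing.map_maximalIdeal_of_surjective (Ideal.Quotient.mk (maximalIdeal B ^ k)) Ideal.Quotient.mk_surjective]
        refine Ideal.map_le_iff_le_comap.mpr fun x hx => hP.mem_of_pow_mem k ?_
        rw [← map_pow, Ideal.Quotient.eq_zero_iff_mem.mpr (Ideal.pow_mem_pow hx k)]
        exact zero_mem _
      rw [← (maximalIdeal.isMaximal Q).eq_of_le hP.ne_top this]
      exact maximalIdeal.isMaximal Q
    haveI : IsArtinianRing (E ⧸ K) := eK.symm.toRingEquiv.surjective.isArtinianRing
    let u' : B →ₐ[A] E ⧸ K := eK.symm.toAlgHom.comp (Ideal.Quotient.mkₐ A _)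
    have hu' : Function.Surjective u' := eK.symm.surjective.comp Ideal.Quotient.mk_surjective
    obtain ⟨v, hv⟩ := Groth.Agent.EGA41FS.exists_lift_of_artinian_test K hK2 hKm hmK u' fun H hHK _ => by
      haveI : Nontrivial (E ⧸ H) := Ideal.Quotient.nontrivial_iff.mpr fun h =>
        (maximalIdeal.isMaximal E).ne_top (top_le_iff.mp (h ▸ hHK.trans hKm))
      haveI : IsLocalRing (E ⧸ H) := IsLocalRing.of_surjective' (Ideal.Quotient.mk H) Ideal.Quotient.mk_surjective
      haveI : IsLocalHom (algebraMap A (E ⧸ H)) := ⟨fun a ha => by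
        have h1 : IsUnit (algebraMap A Q a) := by
          have := ha.map ((eK.toAlgHom.comp (Ideal.Quotient.factorₐ A hHK)))
          rwa [AlgHom.commutes] at this
        haveI : IsLocalHom (Ideal.Quotient.mk (maximalIdeal B ^ k)) := IsLocalHom.of_surjective _ Ideal.Quotient.mk_surjective
        exact isUnit_of_map_unit (algebraMap A B) a (isUnit_of_map_unit (Ideal.Quotient.mk (maximalIdeal B ^ k)) _ h1)⟩
      let e2 : ((E ⧸ H) ⧸ K.map (Ideal.Quotient.mk H)) ≃ₐ[A] E ⧸ K := DoubleQuot.quotQuotEquivQuotOfLEₐ A hHK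
      let w : B →ₐ[A] (E ⧸ H) ⧸ K.map (Ideal.Quotient.mk H) := e2.symm.toAlgHom.comp u'
      have hw : Function.Surjective w := e2.symm.surjective.comp hu'
      haveI : IsLocalRing ((E ⧸ H) ⧸ K.map (Ideal.Quotient.mk H)) := by
        haveI : Nontrivial ((E ⧸ H) ⧸ K.map (Ideal.Quotient.mk H)) := (e2.toEquiv.trans eK.toEquiv).nontrivial
        exact IsLocalRing.of_surjective' (Ideal.Quotient.mk _) Ideal.Quotient.mk_surjective
      haveI : IsLocalHom w.toRingHom := IsLocalHom.of_surjective _ hw
      obtain ⟨f, -, hf⟩ := htest (E ⧸ H) (K.map (Ideal.Quotient.mk H))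
        ⟨2, by rw [← Ideal.map_pow, hK2, Ideal.map_bot]; rfl⟩ w ⟨RingHom.injective _, fun y => by
          obtain ⟨y, rfl⟩ := residue_surjective y
          obtain ⟨b, rfl⟩ := hw y
          exact ⟨residue B b, rfl⟩⟩
      refine ⟨f, AlgHom.ext fun b => ?_⟩
      have h1 := congrArg e2 (DFunLike.congr_fun hf b)
      rw [show e2 (w b) = u' b from e2.apply_symm_apply _] at h1
      rw [← h1]
      obtain ⟨x, hx⟩ := Ideal.Quotient.mk_surjective (f b)
      rw [AlgHom.comp_apply, AlgHom.comp_apply, ← hx]
      rfl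
    refine ⟨((AlgHom.fst A C Q).comp E.val).comp v, AlgHom.ext fun b => ?_⟩
    have h1 := congrArg eK (DFunLike.congr_fun hv b)
    rw [show eK (u' b) = Ideal.Quotient.mk _ b from eK.apply_symm_apply _] at h1
    show Ideal.Quotient.mk J (v b).1.1 = u b
    rw [(hmem _).mp (v b).2, show (v b).1.2 = Ideal.Quotient.mk _ b from h1]
    rfl

end Groth.Agent.S2481
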