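import Groth.Statements.S2482
-- import your own Groth.Agent.* helpers here
import Groth.Agent.S2454
import Groth.Agent.S4543

set_option autoImplicit false
universe u
open EGA41

namespace Groth.Agent.S2482

open IsLocalRing in
/-- (a) ⟹ (b): let A, B be complete discrete valuation rings and u : A → B a ring homomorphism with
u(𝔪_A)B = 𝔪_B, such that the residue field L of B is separable over the residue field K of A. Then
for every complete discrete valuation ring B', every homomorphism u' : A → B' with u'(𝔪_A)B' =
𝔪_{B'} and every isomorphism σ of residue fields L ≅ L' compatible with the maps from K, there is an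
isomorphism w : B ≅ B' with u' = w ∘ u inducing σ on residue fields. -/
theorem result {A B B' : Type u} [CommRing A] [IsDomain A] [IsDiscreteValuationRing A] [IsAdicComplete (maximalIdeal A) A]
    [CommRing B] [IsDomain B] [IsDiscreteValuationRing B] [IsAdicComplete (maximalIdeal B) B]
    [CommRing B'] [IsDomain B'] [IsDiscreteValuationRing B'] [IsAdicComplete (maximalIdeal B') B']
    (u : A →+* B) [IsLocalHom u] (hu : (maximalIdeal A).map u = maximalIdeal B)
    (hsep : letI := (ResidueField.map u).toAlgebra; Algebra.IsGeometricallyReduced (ResidueField A) (ResidueField B))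
    (u' : A →+* B') [IsLocalHom u'] (hu' : (maximalIdeal A).map u' = maximalIdeal B')
    (σ : ResidueField B ≃+* ResidueField B') (hσ : (σ : ResidueField B →+* ResidueField B').comp (ResidueField.map u) = ResidueField.map u') :
    ∃ w : B ≃+* B', (w : B →+* B').comp u = u' ∧ ∀ b : B, residue B' (w b) = σ (residue B b) := by
  letI : Algebra A B := u.toAlgebra
  letI : Algebra A B' := u'.toAlgebra
  haveI : IsLocalHom (algebraMap A B) := ‹IsLocalHom u›
  haveI : IsLocalHom (algebraMap A B') := ‹IsLocalHom u'›
  have hflat : ∀ (C : Type u) [CommRing C] [IsDomain C] [IsDiscreteValuationRing C] (f : A →+* C),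
      (maximalIdeal A).map f = maximalIdeal C → letI := f.toAlgebra; Module.Flat A C := by
    intro C _ _ _ f hf
    letI := f.toAlgebra
    haveI : FaithfulSMul A C := by
      rw [faithfulSMul_iff_algebraMap_injective, RingHom.injective_iff_ker_eq_bot]
      by_contra hne
      haveI : (RingHom.ker (algebraMap A C)).IsPrime := RingHom.ker_isPrime _
      have h1 : RingHom.ker (algebraMap A C) = maximalIdeal A :=
        eq_maximalIdeal (Ring.DimensionLEOne.maximalOfPrime hne inferInstance)
      have h2 : maximalIdeal C = ⊥ := by
        rw [← hf, Ideal.map_eq_bot_iff_le_ker]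
        exact h1.ge
      exact IsDiscreteValuationRing.not_isField C (IsLocalRing.isField_iff_maximalIdeal_eq.mpr h2)
    haveI : Module.IsTorsionFree A C :=
      Module.isTorsionFree_iff_algebraMap_injective.mpr (FaithfulSMul.algebraMap_injective A C)
    infer_instance
  haveI : Algebra.IsGeometricallyReduced (ResidueField A) (ResidueField B) := by
    convert hsep
    exact Algebra.algebra_ext _ _ fun r => by obtain ⟨a, rfl⟩ := residue_surjective r; rfl
  have hB : EGA41.IsCohenAlgebra A B :=
    ⟨inferInstance, inferInstance, inferInstance, hflat B u hu, hu, inferInstance⟩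
  haveI : Module.Flat A B' := hflat B' u' hu'
  haveI : IsAdicComplete ((maximalIdeal A).map (algebraMap A B)) B := by
    rw [show (maximalIdeal A).map (algebraMap A B) = maximalIdeal B from hu]; infer_instance
  haveI : IsAdicComplete ((maximalIdeal A).map (algebraMap A B')) B' := by
    rw [show (maximalIdeal A).map (algebraMap A B') = maximalIdeal B' from hu']; infer_instance
  let q : (B ⧸ (maximalIdeal A).map (algebraMap A B)) ≃+* (B' ⧸ (maximalIdeal A).map (algebraMap A B')) :=
    ((Ideal.quotEquivOfEq hu).trans σ).trans (Ideal.quotEquivOfEq hu'.symm)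
  let u₀ : (B ⧸ (maximalIdeal A).map (algebraMap A B)) ≃ₐ[A ⧸ maximalIdeal A]
      (B' ⧸ (maximalIdeal A).map (algebraMap A B')) :=
    { q with
      commutes' := fun x => by
        obtain ⟨a, rfl⟩ := Ideal.Quotient.mk_surjective x
        show Ideal.quotEquivOfEq hu'.symm (σ (ResidueField.map u (residue A a))) = _
        rw [show σ (ResidueField.map u (residue A a)) = ResidueField.map u' (residue A a) from DFunLike.congr_fun hσ _]
        rfl }
  have hfs := Groth.Agent.S2454.result hB
  rw [← show (maximalIdeal A).map (algebraMap A B) = maximalIdeal B from hu] at hfs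
  obtain ⟨w, hw⟩ := Groth.Agent.S4543.result (maximalIdeal A) hu.le hu'.le hfs u₀
  refine ⟨w.toRingEquiv, RingHom.ext w.commutes, fun b => ?_⟩
  exact (Ideal.quotEquivOfEq hu'.symm).injective (hw b)

end Groth.Agent.S2482
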