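import Groth.Statements.S2483
-- import your own Groth.Agent.* helpers here
import Groth.Agent.EGA41Cohen.Basic

set_option autoImplicit false
universe u
open EGA41

namespace Groth.Agent.S2483

open IsLocalRing in
/-- Let C be a complete Noetherian local ring with maximal ideal 𝔍 ≠ 0 and residue field K, and u : K →
C a ring homomorphism which is a section of the residue map. Then u is the only such section if and
only if Ω_{K/ℤ} = 0. -/
theorem result {C : Type u} [CommRing C] [IsLocalRing C] [IsNoetherianRing C] [IsAdicComplete (maximalIdeal C) C]
    (hm : maximalIdeal C ≠ ⊥) (u : ResidueField C →+* C) (hu : ∀ x, residue C (u x) = x) :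
    (∀ v : ResidueField C →+* C, (∀ x, residue C (v x) = x) → v = u) ↔ Subsingleton (Ω[ResidueField C⁄ℤ]) := by
  classical
  constructor
  · intro huniq
    rw [← not_nontrivial_iff_subsingleton]
    intro hnt
    obtain ⟨ω, hω⟩ := exists_ne (0 : Ω[ResidueField C⁄ℤ])
    obtain ⟨l, hl⟩ := Module.Projective.exists_dual_ne_zero (ResidueField C) hω
    let D : ResidueField C →+ ResidueField C :=
      AddMonoidHom.mk' (fun x => l (KaehlerDifferential.D ℤ _ x)) fun a b => by simp only [map_add]
    have hleib : ∀ a b, D (a * b) = a * D b + b * D a := fun a b => by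
      show l _ = _ * l _ + _ * l _
      rw [Derivation.leibniz, map_add, map_smul, map_smul, smul_eq_mul, smul_eq_mul]
    have hone : D 1 = 0 := by
      show l _ = 0
      rw [Derivation.map_one_eq_zero, map_zero]
    have hD : ∃ x, D x ≠ 0 := by
      by_contra h
      push Not at h
      have hle : Submodule.span (ResidueField C) (Set.range (KaehlerDifferential.D ℤ (ResidueField C))) ≤
          LinearMap.ker l := Submodule.span_le.mpr (by rintro _ ⟨x, rfl⟩; exact h x)
      rw [KaehlerDifferential.span_range_derivation] at hle
      exact hl (hle Submodule.mem_top)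
    obtain ⟨x0, hx0⟩ := hD
    have hm2 : ¬ maximalIdeal C ≤ maximalIdeal C ^ 2 := fun h => hm <|
      Submodule.eq_bot_of_le_smul_of_le_jacobson_bot (maximalIdeal C) _ (IsNoetherian.noetherian _)
        (by rwa [smul_eq_mul, ← pow_two]) (IsLocalRing.maximalIdeal_le_jacobson ⊥)
    obtain ⟨t, ht, ht2⟩ := SetLike.not_le_iff_exists.mp hm2
    let F : Subfield (ResidueField C) := ⊥
    haveI : PerfectField F := by
      obtain ⟨q, hq⟩ := CharP.exists (ResidueField C)
      rcases CharP.char_is_prime_or_zero (ResidueField C) q with hp | rfl
      · haveI := Fact.mk hp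
        letI := ZMod.algebra (ResidueField C) q
        haveI : Finite F := by
          show Finite (⊥ : Subfield (ResidueField C))
          rw [Subfield.bot_eq_of_zMod_algebra q]
          exact Finite.of_surjective (algebraMap (ZMod q) (ResidueField C)).rangeRestrictField fun y => by
            obtain ⟨x, hx⟩ := y.2
            exact ⟨x, Subtype.ext hx⟩
        infer_instance
      · haveI : CharZero (ResidueField C) := CharP.charP_to_charZero _
        haveI : CharZero F := ⟨fun a b h => Nat.cast_injective
          (R := ResidueField C) (by simpa using congrArg Subtype.val h)⟩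
        infer_instance
    haveI : Algebra.FormallySmooth F (ResidueField C) := Groth.Agent.FSField.formallySmooth_of_perfectField _ _
    letI : Algebra F C := (u.comp F.subtype).toAlgebra
    have hDF : ∀ a : F, D (a : ResidueField C) = 0 := by
      let S : Subfield (ResidueField C) :=
        { carrier := {x | D x = 0}
          mul_mem' := fun {a b} (ha : D a = 0) (hb : D b = 0) => show D (a * b) = 0 by simp [hleib, ha, hb]
          one_mem' := hone
          add_mem' := fun {a b} (ha : D a = 0) (hb : D b = 0) => show D (a + b) = 0 by rw [map_add, ha, hb, add_zero]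
          zero_mem' := map_zero D
          neg_mem' := fun {a} (ha : D a = 0) => show D (-a) = 0 by rw [map_neg, ha, neg_zero]
          inv_mem' := fun a (ha : D a = 0) => by
            show D a⁻¹ = 0
            by_cases h : a = 0
            · simp [h]
            · have := hleib a a⁻¹
              rw [mul_inv_cancel₀ h, hone, ha, mul_zero, add_zero] at this
              simpa [h] using this.symm }
      exact fun a => (bot_le : ⊥ ≤ S) a.2
    let I := maximalIdeal C ^ 2
    have hmm : ∀ a b : C, Ideal.Quotient.mk I (a * t * (b * t)) = 0 := fun a b =>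
      Ideal.Quotient.eq_zero_iff_mem.mpr (by
        rw [show I = maximalIdeal C * maximalIdeal C from pow_two _]
        exact Ideal.mul_mem_mul (Ideal.mul_mem_left _ _ ht) (Ideal.mul_mem_left _ _ ht))
    let w : ResidueField C →ₐ[F] C ⧸ I :=
      { toFun := fun x => Ideal.Quotient.mk I (u x + u (D x) * t)
        map_one' := by simp [hone]
        map_zero' := by simp
        map_add' := fun a b => by simp [map_add, add_mul]; abel
        map_mul' := fun a b => by
          have h := hmm (u (D a)) (u (D b))
          simp only [map_mul, hleib, smul_eq_mul, map_add] at h ⊢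
          linear_combination -h
        commutes' := fun a => by
          show Ideal.Quotient.mk I (u (a : ResidueField C) + u (D (a : ResidueField C)) * t) = _
          rw [hDF, map_zero, zero_mul, add_zero]
          rfl }
    haveI := Groth.Agent.EGA41Cohen.isAdicComplete_ideal I
      (ne_top_of_le_ne_top (maximalIdeal.isMaximal C).ne_top (Ideal.pow_le_self two_ne_zero))
    obtain ⟨v, hv⟩ := Groth.Agent.EGA41Cohen.exists_lift_formallySmooth I w
    have hv' : ∀ x, v x - (u x + u (D x) * t) ∈ I := fun x => Ideal.Quotient.eq.mp (DFunLike.congr_fun hv x)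
    have hveq : v.toRingHom = u := huniq _ fun x => by
      refine Eq.trans (Ideal.Quotient.eq.mpr ?_) (hu x)
      have := add_mem (Ideal.pow_le_self two_ne_zero (hv' x)) (Ideal.mul_mem_left (maximalIdeal C) (u (D x)) ht)
      convert this using 1
      show v x - u x = _
      ring
    have h := hv' x0
    rw [show v x0 = u x0 from DFunLike.congr_fun hveq x0, show u x0 - (u x0 + u (D x0) * t) = -(u (D x0) * t) by ring,
      neg_mem_iff, Ideal.unit_mul_mem_iff_mem] at h
    · exact ht2 h
    · exact (isUnit_iff_ne_zero.mpr hx0).map u
  · intro hss v hv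
    have h0 : Algebra.FormallyUnramified ℤ (ResidueField C) := ⟨hss⟩
    haveI : @Algebra.FormallyUnramified ℤ (ResidueField C) _ _ (Ring.toIntAlgebra _) := by
      convert h0 using 3
      exact Subsingleton.elim _ _
    refine RingHom.ext fun x => eq_of_sub_eq_zero (IsHausdorff.haus (I := maximalIdeal C) inferInstance _ fun n => ?_)
    rw [SModEq.sub_mem, sub_zero, smul_eq_mul, Ideal.mul_top]
    let π := Ideal.Quotient.mk (maximalIdeal C ^ n)
    have hI : IsNilpotent ((maximalIdeal C).map π) :=
      ⟨n, by rw [← Ideal.map_pow]; exact Ideal.map_quotient_self _⟩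
    refine Ideal.Quotient.eq.mp (DFunLike.congr_fun (Algebra.FormallyUnramified.ext _ hI
      (g₁ := (π.comp v).toIntAlgHom) (g₂ := (π.comp u).toIntAlgHom) fun y => ?_) x)
    refine Ideal.Quotient.eq.mpr ?_
    show π (v y) - π (u y) ∈ _
    rw [← map_sub]
    exact Ideal.mem_map_of_mem π ((residue_eq_zero_iff _).mp (by rw [map_sub, hv, hu, sub_self]))

end Groth.Agent.S2483
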