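import Groth.Statements.S2484
-- import your own Groth.Agent.* helpers here
import Groth.Agent.S4523

set_option autoImplicit false
universe u
open EGA41
open scoped TensorProduct

namespace Groth.Agent.S2484

/-- Let K ⊆ E ⊆ F be fields. (i) If F is a separable extension of E, then Υ_{F/E/K} = 0, i.e. the
canonical map Ω_{E/K} ⊗_E F → Ω_{F/K} is injective. (ii) Conversely, if F is separable over K and
this map is injective, then F is separable over E. (Separable means geometrically reduced.) -/
theorem result {K E F : Type u} [Field K] [Field E] [Field F] [Algebra K E] [Algebra E F] [Algebra K F] [IsScalarTower K E F] :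
    (Algebra.IsGeometricallyReduced E F → Function.Injective (KaehlerDifferential.mapBaseChange K E F)) ∧
    (Algebra.IsGeometricallyReduced K F → Function.Injective (KaehlerDifferential.mapBaseChange K E F) → Algebra.IsGeometricallyReduced E F) := by
  classical
  refine ⟨fun h => ?_, fun hK hinj => ?_⟩
  · refine (injective_iff_map_eq_zero _).mpr fun z hz => (Module.forall_dual_apply_eq_zero_iff F z).mp fun φ => ?_
    let D : Derivation K E F :=
      (φ.restrictScalars E ∘ₗ TensorProduct.mk E F Ω[E⁄K] 1).compDer (KaehlerDifferential.D K E)
    obtain ⟨D', hD'⟩ := (Groth.Agent.S4523.result (k := E) (K := F)).2.mp h (D.restrictScalars ℤ)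
    let DR : Derivation K F F := Derivation.mk'
      { toFun := D'
        map_add' := map_add _
        map_smul' := fun r y => by
          rw [RingHom.id_apply, Algebra.smul_def, Derivation.leibniz, IsScalarTower.algebraMap_apply K E F, hD',
            Derivation.restrictScalars_apply, Derivation.map_algebraMap, smul_zero, add_zero,
            ← IsScalarTower.algebraMap_apply]
          exact algebraMap_smul F r _ }
      fun x y => D'.leibniz x y
    have h3 : φ = DR.liftKaehlerDifferential ∘ₗ KaehlerDifferential.mapBaseChange K E F := by
      refine TensorProduct.AlgebraTensorModule.curry_injective (LinearMap.ext_ring ?_)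
      refine Derivation.liftKaehlerDifferential_unique _ _ (Derivation.ext fun a => ?_)
      simpa [D, DR] using (hD' a).symm
    rw [h3, LinearMap.comp_apply, hz, map_zero]
  · refine (Groth.Agent.S4523.result (k := E) (K := F)).2.mpr fun D => ?_
    obtain ⟨g, hg⟩ := LinearMap.exists_leftInverse_of_injective (KaehlerDifferential.mapBaseChange K E F)
      (LinearMap.ker_eq_bot.mpr hinj)
    obtain ⟨D1, hD1⟩ := (Groth.Agent.S4523.result (k := K) (K := F)).2.mp hK (D.compAlgebraMap K)
    have hD1' : ∀ c : K, D1 (algebraMap K F c) = D (algebraMap K E c) := hD1
    let δ : Derivation K E F := Derivation.mk'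
      { toFun := fun a => D a - D1 (algebraMap E F a)
        map_add' := fun a b => by rw [map_add, map_add, map_add]; abel
        map_smul' := fun c a => by
          simp only [RingHom.id_apply, Algebra.smul_def, Derivation.leibniz, map_mul, ← IsScalarTower.algebraMap_apply,
            hD1', smul_eq_mul]
          ring }
      fun a b => by
        simp only [LinearMap.coe_mk, AddHom.coe_mk, Derivation.leibniz, map_mul, Algebra.smul_def, Algebra.algebraMap_self,
          RingHom.id_apply]
        ring
    let D2 : Derivation K F F := (δ.liftKaehlerDifferential.liftBaseChange F ∘ₗ g).compDer (KaehlerDifferential.D K F)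
    have hD2 : ∀ a, D2 (algebraMap E F a) = δ a := fun a => by
      show δ.liftKaehlerDifferential.liftBaseChange F (g (KaehlerDifferential.D K F (algebraMap E F a))) = δ a
      have h2 : KaehlerDifferential.D K F (algebraMap E F a) =
          KaehlerDifferential.mapBaseChange K E F ((1 : F) ⊗ₜ[E] KaehlerDifferential.D K E a) := by simp
      rw [h2, ← LinearMap.comp_apply g, hg]
      simp
    refine ⟨D1 + D2.restrictScalars ℤ, fun a => ?_⟩
    show D1 (algebraMap E F a) + D2 (algebraMap E F a) = D a
    rw [hD2]
    show D1 (algebraMap E F a) + (D a - D1 (algebraMap E F a)) = D a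
    abel

end Groth.Agent.S2484
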