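import Groth.Statements.S2485
import Mathlib.RingTheory.Kaehler.Basic
import Mathlib.Algebra.Algebra.Epi
import Mathlib.RingTheory.Unramified.Basic
import Mathlib.Algebra.CharP.Lemmas

set_option autoImplicit false
universe u
open EGA41
open scoped TensorProduct

namespace Groth.Agent.S2485

/-- Let p be a prime and A → B a ring homomorphism making B an A-algebra of finite type, with B of
characteristic p, such that for some s ≥ 0 every p^s-th power of an element of B lies in the image
of A. If Ω_{B/A} = 0 then A → B is surjective. -/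
theorem result (p : ℕ) [Fact p.Prime] {A B : Type u} [CommRing A] [CommRing B] [Algebra A B] [CharP B p]
    [Algebra.FiniteType A B] (s : ℕ) (hpow : ∀ b : B, b ^ p ^ s ∈ Set.range (algebraMap A B)) [Subsingleton (Ω[B⁄A])] :
    Function.Surjective (algebraMap A B) := by
  have hidem : IsIdempotentElem (KaehlerDifferential.ideal A B) :=
    (Ideal.cotangent_subsingleton_iff _).mp <| inferInstanceAs <| Subsingleton (Ω[B⁄A])
  haveI : Algebra.EssFiniteType A B := inferInstance
  obtain ⟨e, he, hI⟩ := (Ideal.isIdempotentElem_iff_of_fg _ (KaehlerDifferential.ideal_fg A B)).1 hidem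
  have hchar : ((p : ℕ) : B ⊗[A] B) = 0 := by
    rw [← map_natCast (Algebra.TensorProduct.includeLeft : B →ₐ[A] B ⊗[A] B), CharP.cast_eq_zero, map_zero]
  have hle : KaehlerDifferential.ideal A B ≤ nilradical (B ⊗[A] B) := by
    rw [← KaehlerDifferential.span_range_eq_ideal, Ideal.span_le]
    rintro _ ⟨b, rfl⟩
    refine ⟨p ^ s, ?_⟩
    show ((1 : B) ⊗ₜ[A] b - b ⊗ₜ[A] (1 : B)) ^ p ^ s = 0
    rcases subsingleton_or_nontrivial (B ⊗[A] B) with h | h
    · exact Subsingleton.elim _ _
    haveI : CharP (B ⊗[A] B) p := (CharP.charP_iff_prime_eq_zero Fact.out).2 hchar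
    obtain ⟨a, ha⟩ := hpow b
    rw [sub_pow_char_pow, Algebra.TensorProduct.tmul_pow, Algebra.TensorProduct.tmul_pow, one_pow, ← ha, sub_eq_zero]
    simp [Algebra.algebraMap_eq_smul_one, TensorProduct.tmul_smul, TensorProduct.smul_tmul']
  have he0 : e = 0 := by
    obtain ⟨n, hn⟩ := hle (show e ∈ KaehlerDifferential.ideal A B by rw [hI]; exact Submodule.mem_span_singleton_self e)
    rcases n.eq_zero_or_pos with rfl | hn0
    · rw [pow_zero] at hn; rw [← mul_one e, hn, mul_zero]
    · obtain ⟨m, rfl⟩ : ∃ m, n = m + 1 := ⟨n - 1, by omega⟩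
      rwa [he.pow_succ_eq] at hn
  have hbot : KaehlerDifferential.ideal A B = ⊥ := by rw [hI, he0]; simp
  haveI : Algebra.IsEpi A B := (Algebra.isEpi_iff_forall_one_tmul_eq A B).2 fun b => by
    have hb : (1 : B) ⊗ₜ[A] b - b ⊗ₜ[A] (1 : B) ∈ KaehlerDifferential.ideal A B :=
      KaehlerDifferential.one_smul_sub_smul_one_mem_ideal A b
    rw [hbot, Ideal.mem_bot, sub_eq_zero] at hb
    exact hb
  haveI : Algebra.IsIntegral A B := ⟨fun b => by
    obtain ⟨a, ha⟩ := hpow b
    exact IsIntegral.of_pow (n := p ^ s) (pow_pos (Fact.out : p.Prime).pos s) (ha ▸ isIntegral_algebraMap)⟩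
  haveI : Module.Finite A B := Algebra.IsIntegral.finite
  exact (Algebra.isEpi_iff_surjective_algebraMap_of_finite (R := A) (A := B)).1 inferInstance

end Groth.Agent.S2485
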