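import Groth.Statements.S2486
-- import your own Groth.Agent.* helpers here
import Groth.Agent.S2485

set_option autoImplicit false
universe u
open EGA41

namespace Groth.Agent.S2486

/-- Let p be a prime, B an A-algebra of characteristic p and (x_α) a family of elements of B. Then (a) B
is generated as an A[B^p]-algebra by the x_α if and only if (b) (x_α) is a system of p-generators of
B over A; these imply (c) Ω_{B/A} is generated by the d x_α; and if B is an A[B^p]-algebra of finite
type, (c) implies (a). -/
theorem result (p : ℕ) [Fact p.Prime] {A B : Type u} [CommRing A] [CommRing B] [Algebra A B] [CharP B p]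
    {ι : Type u} (x : ι → B) :
    (Algebra.adjoin (EGA41.pPowerSubalgebra p A B) (Set.range x) = ⊤ ↔ EGA41.IsPGenerating p A x) ∧
    (EGA41.IsPGenerating p A x → Submodule.span B (Set.range fun i => KaehlerDifferential.D A B (x i)) = ⊤) ∧
    (Algebra.FiniteType (EGA41.pPowerSubalgebra p A B) B →
      Submodule.span B (Set.range fun i => KaehlerDifferential.D A B (x i)) = ⊤ → EGA41.IsPGenerating p A x) := by
  classical
  have hp : p.Prime := Fact.out
  let P := EGA41.pPowerSubalgebra p A B
  let N : Submodule P B := Submodule.span P (Set.range fun e : {e : ι →₀ ℕ // ∀ i, e i < p} => EGA41.pMonomial x e.1)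
  have hPpow : ∀ b : B, b ^ p ∈ P := fun b => Algebra.subset_adjoin ⟨b, rfl⟩
  have hmon : ∀ (e : ι →₀ ℕ) (i : ι), x i * EGA41.pMonomial x e = EGA41.pMonomial x (Finsupp.single i 1 + e) :=
    fun e i => by
      simp only [EGA41.pMonomial]
      rw [Finsupp.prod_add_index' (fun a => pow_zero (x a)) (fun a m n => pow_add (x a) m n),
        Finsupp.prod_single_index (h := fun i n => x i ^ n) (pow_zero (x i)), pow_one]
  have hmul : ∀ i, ∀ y ∈ N, x i * y ∈ N := fun i y hy => by
    induction hy using Submodule.span_induction with
    | mem z hz =>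
      obtain ⟨⟨e, he⟩, rfl⟩ := hz
      show x i * EGA41.pMonomial x e ∈ N
      by_cases h : e i + 1 < p
      · rw [hmon]
        refine Submodule.subset_span ⟨⟨Finsupp.single i 1 + e, fun j => ?_⟩, rfl⟩
        by_cases hj : i = j
        · subst hj; simpa [add_comm] using h
        · simpa [hj] using he j
      · have h1 : EGA41.pMonomial x e = x i ^ e i * EGA41.pMonomial x (e.erase i) :=
          (Finsupp.mul_prod_erase' e i (fun j n => x j ^ n) fun j => pow_zero (x j)).symm
        have hi : e i + 1 = p := by have := he i; omega
        rw [h1, ← mul_assoc, ← pow_succ', hi]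
        have h2 : EGA41.pMonomial x (e.erase i) ∈ N := by
          refine Submodule.subset_span ⟨⟨e.erase i, fun j => ?_⟩, rfl⟩
          rw [Finsupp.erase_apply]
          split
          · exact hp.pos
          · exact he j
        exact N.smul_mem (⟨x i ^ p, hPpow _⟩ : P) h2
    | zero => rw [mul_zero]; exact N.zero_mem
    | add a b _ _ ha hb => rw [mul_add]; exact N.add_mem ha hb
    | smul c a _ ha => rw [mul_smul_comm]; exact N.smul_mem c ha
  have h1N : (1 : B) ∈ N := Submodule.subset_span ⟨⟨0, fun i => hp.pos⟩, by simp [EGA41.pMonomial]⟩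
  have hle : Subalgebra.toSubmodule (Algebra.adjoin P (Set.range x)) ≤ N := by
    rw [Algebra.adjoin_eq_span]
    refine Submodule.span_le.mpr fun y hy => ?_
    induction hy using Submonoid.closure_induction_left with
    | one => exact h1N
    | mul_left z hz y _ ih => obtain ⟨i, rfl⟩ := hz; exact hmul i y ih
  have hge : N ≤ Subalgebra.toSubmodule (Algebra.adjoin P (Set.range x)) := by
    refine Submodule.span_le.mpr ?_
    rintro _ ⟨e, rfl⟩
    exact Subalgebra.prod_mem _ fun i _ => Subalgebra.pow_mem _ (Algebra.subset_adjoin (Set.mem_range_self i)) _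
  have hiff : Algebra.adjoin P (Set.range x) = ⊤ ↔ EGA41.IsPGenerating p A x := by
    rw [← Algebra.toSubmodule_eq_top, le_antisymm hle hge]
    rfl
  have hDP : ∀ c ∈ P, KaehlerDifferential.D A B c = 0 := fun c hc => by
    induction hc using Algebra.adjoin_induction with
    | mem y hy => obtain ⟨b, rfl⟩ := hy; rw [Derivation.leibniz_pow, ← Nat.cast_smul_eq_nsmul B, CharP.cast_eq_zero, zero_smul]
    | algebraMap a => exact Derivation.map_algebraMap _ a
    | add a b _ _ ha hb => rw [map_add, ha, hb, add_zero]
    | mul a b _ _ ha hb => rw [Derivation.leibniz, ha, hb, smul_zero, smul_zero, add_zero]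
  refine ⟨hiff, fun h => ?_, fun hft hspan => hiff.mp ?_⟩
  · let W := Submodule.span B (Set.range fun i => KaehlerDifferential.D A B (x i))
    refine eq_top_iff.mpr ((KaehlerDifferential.span_range_derivation A B).ge.trans (Submodule.span_le.mpr ?_))
    rintro _ ⟨b, rfl⟩
    show KaehlerDifferential.D A B b ∈ W
    have hb : b ∈ Algebra.adjoin P (Set.range x) := hiff.mpr h ▸ Algebra.mem_top
    induction hb using Algebra.adjoin_induction with
    | mem y hy => obtain ⟨i, rfl⟩ := hy; exact Submodule.subset_span ⟨i, rfl⟩
    | algebraMap a => rw [hDP (algebraMap P B a) a.2]; exact W.zero_mem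
    | add a b _ _ ha hb => rw [map_add]; exact W.add_mem ha hb
    | mul a b _ _ ha hb => rw [Derivation.leibniz]; exact W.add_mem (W.smul_mem _ hb) (W.smul_mem _ ha)
  · let S := Algebra.adjoin P (Set.range x)
    haveI : Algebra.FiniteType S B := Algebra.FiniteType.of_restrictScalars_finiteType P S B
    let d : Derivation A B (Ω[B⁄S]) := Derivation.mk'
      { toFun := KaehlerDifferential.D S B
        map_add' := map_add _
        map_smul' := fun a b => by
          rw [RingHom.id_apply, Algebra.smul_def, Derivation.leibniz,
            show algebraMap A B a = algebraMap S B (algebraMap P S (algebraMap A P a)) from rfl,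
            Derivation.map_algebraMap, smul_zero, add_zero]
          exact algebraMap_smul B a _ }
      fun a b => (KaehlerDifferential.D S B).leibniz a b
    haveI : Subsingleton (Ω[B⁄S]) := by
      have h0 : ∀ ω, d.liftKaehlerDifferential ω = 0 := fun ω => by
        have hω : ω ∈ Submodule.span B (Set.range fun i => KaehlerDifferential.D A B (x i)) := hspan ▸ Submodule.mem_top
        induction hω using Submodule.span_induction with
        | mem y hy =>
          obtain ⟨i, rfl⟩ := hy
          rw [Derivation.liftKaehlerDifferential_comp_D]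
          exact Derivation.map_algebraMap _ (⟨x i, Algebra.subset_adjoin ⟨i, rfl⟩⟩ : S)
        | zero => rw [map_zero]
        | add a b _ _ ha hb => rw [map_add, ha, hb, add_zero]
        | smul c a _ ha => rw [map_smul, ha, smul_zero]
      refine subsingleton_of_forall_eq 0 fun ω => ?_
      have hω : ω ∈ Submodule.span B (Set.range (KaehlerDifferential.D S B)) :=
        (KaehlerDifferential.span_range_derivation S B).ge Submodule.mem_top
      induction hω using Submodule.span_induction with
      | mem y hy =>
        obtain ⟨b, rfl⟩ := hy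
        have := h0 (KaehlerDifferential.D A B b)
        rwa [Derivation.liftKaehlerDifferential_comp_D] at this
      | zero => rfl
      | add a b _ _ ha hb => rw [ha, hb, add_zero]
      | smul c a _ ha => rw [ha, smul_zero]
    have hsurj := Groth.Agent.S2485.result p (A := S) (B := B) 1 fun b => by
      rw [pow_one]
      exact ⟨algebraMap P S ⟨b ^ p, hPpow b⟩, rfl⟩
    refine eq_top_iff.mpr fun b _ => ?_
    obtain ⟨s, rfl⟩ := hsurj b
    exact s.2

end Groth.Agent.S2486
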