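import Groth.Statements.S4619
import Mathlib
import Groth.Agent.GeomConn.Normal

set_option autoImplicit false
open CategoryTheory AlgebraicGeometry
universe u
open FBase

namespace Groth.Agent.S4619

/-- For a connected scheme: let X be a connected scheme over a field k and x a point of X whose residue
field κ(x) is a primary extension of k, i.e. the separable algebraic closure of k in κ(x) is k
itself (this holds in particular when x is a k-rational point). Then X is geometrically connected
over k. (The published statement concerns the connected component of x in an arbitrary scheme over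
k; this row takes X connected.) -/
theorem result {k : Type u} [Field k] {X : Scheme.{u}}
    [ConnectedSpace X] (f : X ⟶ Spec (CommRingCat.of k)) (x : X)
    (hx : FBase.ResidueFieldProp f x (fun K _ _ => separableClosure k K = ⊥)) :
    GeometricallyConnected f := by
  set_option backward.isDefEq.respectTransparency false in
  refine ⟨geometrically_iff_of_commRing.2 fun K _ _ Z fst snd hZ => ?_⟩
  obtain ⟨φ, hφ, hbot⟩ := hx
  letI := φ.toAlgebra
  let g := Spec.map (CommRingCat.ofHom (algebraMap k (AlgebraicClosure k)))
  haveI := Groth.Agent.GeomConn.irreducibleSpace_primary hbot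
  let m := Limits.pullback.map (X.fromSpecResidueField x ≫ f) g f g (X.fromSpecResidueField x) (𝟙 _) (𝟙 _) (by simp) (by simp)
  haveI : IrreducibleSpace ↥(Limits.pullback (Spec.map (CommRingCat.ofHom φ)) g) :=
    (pullbackSpecIso k (X.residueField x) (AlgebraicClosure k)).hom.homeomorph.irreducibleSpace_iff.2
      (inferInstance : IrreducibleSpace (PrimeSpectrum (TensorProduct k (X.residueField x) (AlgebraicClosure k))))
  haveI : IrreducibleSpace ↥(Limits.pullback (X.fromSpecResidueField x ≫ f) g) :=
    (Limits.pullback.congrHom hφ (rfl : g = g)).hom.homeomorph.irreducibleSpace_iff.1 inferInstance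
  have hfib : (Limits.pullback.fst f g) ⁻¹' {x} = Set.range m := by
    rw [Scheme.Pullback.range_map, Scheme.range_fromSpecResidueField]
    ext t
    exact ⟨fun ht => ⟨ht, ⟨_, rfl⟩⟩, fun ht => ht.1⟩
  have h := Groth.Agent.GeomConn.isConnected_preimage_of_fibre (K := K) f isClosed_connectedComponent
    isConnected_connectedComponent (z := x) mem_connectedComponent (isPreconnected_range m.continuous)
    (hfib ▸ Set.preimage_mono (Set.singleton_subset_iff.2 mem_connectedComponent)) hfib.subset
  rw [PreconnectedSpace.connectedComponent_eq_univ, Set.preimage_univ] at h
  exact hZ.isoPullback.hom.homeomorph.connectedSpace_iff.2 (connectedSpace_iff_univ.2 h)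

end Groth.Agent.S4619
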