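import Groth.Statements.S4625
import Mathlib
import Groth.Agent.GeomConn.Basic
import Groth.Agent.FlatMor.ReducedDescent

set_option autoImplicit false
open CategoryTheory AlgebraicGeometry
universe u
open FBase

namespace Groth.Agent.S4625

/-- Let X be a scheme over a field k and K an extension field of k. Then X is geometrically connected
over k if and only if X ⊗_k K, with its structure of K-scheme, is geometrically connected over K. -/
theorem result {k K : Type u} [Field k] [Field K] [Algebra k K]
    {X : Scheme.{u}} (f : X ⟶ Spec (CommRingCat.of k)) :
    GeometricallyConnected f ↔ GeometricallyConnected (FBase.bcStr f K) := by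
  set_option backward.isDefEq.respectTransparency false in
  haveI : Surjective (Spec.map (CommRingCat.ofHom (algebraMap k K))) :=
    ⟨fun t => ⟨IsLocalRing.closedPoint K, @Subsingleton.elim (PrimeSpectrum k) inferInstance _ _⟩⟩
  refine ⟨fun h => ?_, fun h => ?_⟩
  · haveI := h
    exact (inferInstance : GeometricallyConnected (CategoryTheory.Limits.pullback.snd f _))
  · exact ⟨Groth.Agent.GeomConn.geometrically_descends (ConnectedSpace ·)
      (fun A B q _ hA => Groth.Agent.GeomConn.connectedSpace_of_surjective A B q hA) f
      (Spec.map (CommRingCat.ofHom (algebraMap k K))) h.geometrically_connectedSpace⟩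

end Groth.Agent.S4625
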