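import Groth.Statements.S2551
import Groth.Agent.FibDepth.GlobalSk

set_option autoImplicit false
open CategoryTheory AlgebraicGeometry
set_option backward.isDefEq.respectTransparency false
universe u
open EGA43

namespace Groth.Agent.S2551

/-- Let f : X ⟶ Y be flat and locally of finite presentation and k a natural number. The set of points x
of X such that the local ring at x of the fibre of f through x satisfies Serre's condition (S_k) is
open in X. -/
theorem result {X Y : Scheme.{u}} (f : X ⟶ Y) [Flat f] [LocallyOfFinitePresentation f]
    (k : ℕ) :
    IsOpen {x : X | LocCoh.HasSk k ((f.fiber (f.base x)).presheaf.stalk (f.asFiber x))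
      ((f.fiber (f.base x)).presheaf.stalk (f.asFiber x))} := by
  obtain ⟨O, hO, h⟩ := Groth.Agent.FibDepth.exists_open_flat_sk f k
  convert hO using 1
  ext x
  have := h (f.base x) (f.asFiber x)
  rw [f.fiberι_asFiber] at this
  exact ⟨fun hs => this.2 ⟨AlgebraicGeometry.Flat.stalkMap f x, hs⟩, fun hx => (this.1 hx).2⟩

end Groth.Agent.S2551
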