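import Groth.Statements.S2553
import Groth.Agent.GeomPtInt.Locus
import Groth.Agent.S5935

set_option autoImplicit false
set_option backward.isDefEq.respectTransparency false
set_option backward.isDefEq.respectTransparency.types false
set_option maxHeartbeats 1000000

open CategoryTheory AlgebraicGeometry
universe u
open EGA43

namespace Groth.Agent.S2553

/-- Let f : X ⟶ Y be proper, flat and locally of finite presentation. The set of points y of Y whose
fibre is geometrically integral over the residue field of y is open in Y. -/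
theorem result {X Y : Scheme.{u}} (f : X ⟶ Y) [IsProper f]
    [Flat f] [LocallyOfFinitePresentation f] :
    IsOpen {y : Y | GeometricallyIntegral (f.fiberToSpecResidueField y)} := by
  have hW := Groth.Agent.FibDepth.isOpen_forall_of_fibres f (Groth.Agent.GeomPtInt.isOpen_gpiLocus f)
    (C := fun y z => FBase.IsGeomPtIntegralAt (f.fiberToSpecResidueField y) z)
    fun y z => (Groth.Agent.GeomPtInt.gpi_fibre_iff f y z).symm
  have hN := Groth.Agent.S5935.result f 1 le_rfl
  convert hW.inter hN using 1
  ext y
  rw [Set.mem_inter_iff, Set.mem_ofPred_eq, Set.mem_ofPred_eq, Set.mem_ofPred_eq,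
    Groth.Agent.GeomPtInt.geometricallyIntegral_fibre_iff f y, Nat.cast_one]
  constructor
  · rintro ⟨h, hc⟩
    exact ⟨fun z => (Groth.Agent.GeomPtInt.gpi_fibre_iff f y z).2 (h _ ((f.range_fiberι y).le ⟨z, rfl⟩)),
      ((Groth.Agent.GeomPtInt.forall_gpi_fibre_iff f y).1 h).1, hc⟩
  · rintro ⟨h, -, hc⟩
    refine ⟨fun x hx => ?_, hc⟩
    obtain ⟨z, rfl⟩ := (f.range_fiberι y).ge (show x ∈ f ⁻¹' {y} from hx)
    exact (Groth.Agent.GeomPtInt.gpi_fibre_iff f y z).1 (h z)

end Groth.Agent.S2553
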