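import Groth.Statements.S4938
import Groth.Agent.Unibranch.ComponentDim

set_option autoImplicit false
open CategoryTheory AlgebraicGeometry
universe u v w
open EGA43

namespace Groth.Agent.S4938

/-- Let Y be a locally Noetherian scheme, f : X ⟶ Y a morphism locally of finite type, and y a
geometrically unibranch point of Y, lying on the unique irreducible component Y₀ of Y with generic
point η. The following are equivalent: a) f is universally open at every point of X_y; b) every
point x of X_y lies on an irreducible component Z of X dominating Y₀ with dim_x(Z ∩ X_y) = dim(Z ∩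
X_η); b'') for every open subset U of X, dim(U ∩ X_η) ≥ dim(U ∩ X_y); c) f is open at every point of
X_y. (The published statement assumes Y locally Noetherian only for c) and also lists b′), the
pointwise form of b″) (for every x in X_y and every open U ∋ x, dim(U ∩ X_η) ≥ dim_x(U ∩ X_y)); over
the spectrum of an infinite product of copies of a field, the inclusion of a non-open closed point
satisfies b) and b″) but not a), so this row takes Y locally Noetherian throughout, and b′) is not
listed.) -/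
theorem result {X Y : Scheme.{u}} [IsLocallyNoetherian Y] (f : X ⟶ Y)
    [LocallyOfFiniteType f] (y : Y) (hy : CAlg2.IsGeomUnibranch (Y.presheaf.stalk y)) :
    List.TFAE [∀ x : X, f.base x = y → EGA43.IsUnivOpenAt f x,
      ∀ x : X, f.base x = y → ∀ Y₀ ∈ irreducibleComponents (Y : Type u), y ∈ Y₀ →
        ∃ Z ∈ irreducibleComponents (X : Type u), ∃ hx : x ∈ Z, closure (f.base '' Z) = Y₀ ∧
          ∀ η : Y, closure ({η} : Set Y) = Y₀ →
            FlatMor.localDim ↥(Z ∩ f.base ⁻¹' {f.base x}) ⟨x, ⟨hx, rfl⟩⟩ = topologicalKrullDim ↥(Z ∩ f.base ⁻¹' {η}),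
      ∀ U : X.Opens, ∀ Y₀ ∈ irreducibleComponents (Y : Type u), y ∈ Y₀ → ∀ η : Y, closure ({η} : Set Y) = Y₀ →
        topologicalKrullDim ↥((U : Set X) ∩ f.base ⁻¹' {y}) ≤ topologicalKrullDim ↥((U : Set X) ∩ f.base ⁻¹' {η}),
      ∀ x : X, f.base x = y → EGA43.IsOpenAt f.base x] := by
  open Groth.Agent.Unibranch in
  tfae_have 1 → 4 := fun H x hx ↦ isOpenAt_of_isUnivOpenAt f x (H x hx)
  tfae_have 4 → 3 := fun H U Y₀ hY₀ hyY₀ η hη ↦ by
    refine le_of_forall_natCast_le fun k hk ↦ ?_
    obtain ⟨c, hc, hc'⟩ := (natCast_le_topologicalKrullDim_inter_iff f U.2.isLocallyClosed y).mp hk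
    obtain ⟨η₀, hη₀, hcl⟩ := exists_isMaxPt hY₀
    obtain rfl : η = η₀ := eq_of_closure_eq (hη.trans hcl.symm)
    obtain ⟨ζ, hζx, hfζ, hk'⟩ := exists_hasChain_of_lifts f (z := c 0)
      (specializes_iff_mem_closure.mpr (hη.symm ▸ (hc 0).2.symm ▸ hyY₀)) hη₀
      fun η' _ hη' ↦ exists_specializes_of_isOpenAt f (H _ (hc 0).2) hη'
    refine (natCast_le_topologicalKrullDim_inter_iff f U.2.isLocallyClosed η).mpr
      (hasChain_opens_of_lift hζx hfζ (hk' k ⟨c, fun i ↦
        ⟨specializes_iff_mem_closure.mp (specializes_of_chain c hc' i), (hc i).2.trans (hc 0).2.symm⟩,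
        hc'⟩) (hc 0).1)
  tfae_have 3 → 2 := fun H x hxy Y₀ hY₀ hyY₀ ↦ by
    obtain ⟨d, hd⟩ := exists_fibreDimAt_eq f x
    obtain ⟨z, hzx, hfz, hzmax, hzc⟩ := exists_max_hasChain f x hd.ge
    obtain ⟨Z, hZ, hx, hcl, hdim⟩ := exists_component_dims f x hd hY₀ fun η hηmax hη U hxU ↦ by
      obtain ⟨U', hzU', hU'U, hU'⟩ := exists_opens_maximal f (hzx.mem_open U.2 hxU) η
      obtain ⟨c, hc, hc'⟩ := HasChain.of_specializes (U := U') (hfz.symm ▸ hzc) specializes_rfl hzU'
      have h1 := (natCast_le_topologicalKrullDim_inter_iff f U'.2.isLocallyClosed y).mpr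
        ⟨c, fun i ↦ ⟨(hc i).1.1, (hc i).2.trans (hfz.trans hxy)⟩, hc'⟩
      exact ((natCast_le_topologicalKrullDim_inter_iff f U'.2.isLocallyClosed η).mp
        (h1.trans (H U' Y₀ hY₀ hyY₀ η hη))).mono hU'U
    exact ⟨Z, hZ, hx, hcl, fun η hη ↦ (hdim η hη).1.trans (hdim η hη).2.symm⟩
  tfae_have 2 → 1 := fun H x hxy ↦ by
    obtain ⟨Z, hZ, hx, hcl, hdim⟩ := H x hxy _ (irreducibleComponent_mem_irreducibleComponents y)
      mem_irreducibleComponent
    obtain ⟨η, hη, hηY⟩ := exists_isMaxPt (irreducibleComponent_mem_irreducibleComponents y)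
    obtain ⟨ζ, -, rfl⟩ := exists_isMaxPt hZ
    rw [closure_image_closure_singleton] at hcl
    obtain rfl : η = f ζ := eq_of_closure_eq (hηY.trans hcl.symm)
    exact isUnivOpenAt_of_component f x (hxy.symm ▸ hy) hη (specializes_iff_mem_closure.mpr hx)
      ⟨hx, rfl⟩ (hdim _ hηY).le
  tfae_finish

end Groth.Agent.S4938
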