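import Groth.Statements.S2557
import Groth.Agent.Unibranch.FiniteCover
import Groth.Agent.GoingDown.Components

set_option autoImplicit false
open CategoryTheory AlgebraicGeometry
universe u
open EGA43

namespace Groth.Agent.S2557

open CategoryTheory.Limits in
/-- Let Y be a Noetherian scheme and f : X ⟶ Y locally of finite type. Then f is universally open if and
only if, for every finite morphism Y₁ ⟶ Y, the base change X ×_Y Y₁ ⟶ Y₁ is an open map. -/
theorem result {X Y : Scheme.{u}} [IsNoetherian Y] (f : X ⟶ Y)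
    [LocallyOfFiniteType f] :
    UniversallyOpen f ↔
      ∀ (Y₁ : Scheme.{u}) (g : Y₁ ⟶ Y) [IsFinite g], IsOpenMap (pullback.snd f g).base := by
  open Groth.Agent.Unibranch in
  refine ⟨fun h Y₁ g _ ↦ ?_, fun h ↦
    Groth.Agent.GoingDown.universallyOpen_iff_forall_isUnivOpenAt.mpr fun x ↦ ?_⟩
  · exact (pullback.snd f g).isOpenMap
  · obtain ⟨d, hd⟩ := exists_fibreDimAt_eq f x
    obtain ⟨z, hzx, hfz, -, hzc⟩ := exists_max_hasChain f x hd.ge
    exact isUnivOpenAt_of_finite f hzx hfz ((fibreDimAt_le_iff f x).mp hd.le) hzc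
      fun Y' g _ z' _ U hU ↦ (h Y' g).image_mem_nhds hU

end Groth.Agent.S2557
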