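import Groth.Statements.S2558
import Groth.Agent.GoingDown.AffineSpace

set_option autoImplicit false
open CategoryTheory AlgebraicGeometry
universe u
open EGA43

namespace Groth.Agent.S2558

open CategoryTheory.Limits in
/-- Let f : X ⟶ Y be locally of finite presentation. Suppose that for every irreducible scheme Y' and
every morphism of finite type g : Y' ⟶ Y, each irreducible component of X ×_Y Y' has dense image in
Y'. Then f is universally open. -/
theorem result {X Y : Scheme.{u}} (f : X ⟶ Y) [LocallyOfFinitePresentation f]
    (h : ∀ (Y' : Scheme.{u}) (g : Y' ⟶ Y) [IrreducibleSpace Y'] [LocallyOfFiniteType g] [QuasiCompact g],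
      ∀ Z ∈ irreducibleComponents (↥(pullback f g) : Type u), Dense ((pullback.snd f g).base '' Z)) :
    UniversallyOpen f := by
  refine GoingDown.universallyOpen_of_affineSpace f fun n ↦ ?_
  let A := AffineSpace (ULift.{u} (Fin (n + 1))) Y
  let p : A ⟶ Y := AffineSpace (ULift.{u} (Fin (n + 1))) Y ↘ Y
  have : LocallyOfFinitePresentation (pullback.snd f p) := inferInstance
  refine isOpenMap_of_generalizingMap (pullback.snd f p) ?_
  intro x' η hη
  let C : TopologicalSpace.Closeds A := ⟨closure {η}, isClosed_closure⟩
  let I := Scheme.IdealSheafData.vanishingIdeal C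
  have hr : Set.range I.subschemeι = closure {η} := I.range_subschemeι
  obtain ⟨η'', hη''⟩ : η ∈ Set.range I.subschemeι := hr ▸ subset_closure rfl
  obtain ⟨y'', hy''⟩ : (pullback.snd f p) x' ∈ Set.range I.subschemeι :=
    hr ▸ specializes_iff_mem_closure.mp hη
  have hgen : ∀ z, η'' ⤳ z := fun z ↦ by
    rw [← I.subschemeι.isClosedEmbedding.isInducing.specializes_iff, hη'', specializes_iff_mem_closure, ← hr]
    exact ⟨z, rfl⟩
  have : IrreducibleSpace I.subscheme := by
    rw [irreducibleSpace_def]
    have : (⊤ : Set I.subscheme) = closure {η''} :=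
      (Set.eq_univ_of_forall fun z ↦ (hgen z).mem_closure).symm
    rw [Set.top_eq_univ] at this
    rw [Set.top_eq_univ, this]; exact isIrreducible_singleton.closure
  obtain ⟨x'', hx1, hx2⟩ := Scheme.Pullback.exists_preimage_pullback (f := pullback.snd f p) (g := I.subschemeι) x' y'' hy''.symm
  let e := pullbackLeftPullbackSndIso f p I.subschemeι
  let Z := irreducibleComponent (e.hom x'')
  have : QuasiCompact (I.subschemeι ≫ p) := inferInstance
  have : LocallyOfFiniteType (I.subschemeι ≫ p) := inferInstance
  have hd := h I.subscheme (I.subschemeι ≫ p) Z (irreducibleComponent_mem_irreducibleComponents _)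
  have hZi : IsIrreducible Z := isIrreducible_irreducibleComponent
  have hζ : IsGenericPoint hZi.genericPoint Z := by
    have := hZi.isGenericPoint_genericPoint_closure
    rwa [isClosed_irreducibleComponent.closure_eq] at this
  set ζ := hZi.genericPoint
  have hsnd : pullback.snd f (I.subschemeι ≫ p) ζ = η'' := by
    have h1 : (pullback.snd f (I.subschemeι ≫ p)).base '' Z ⊆ closure {pullback.snd f (I.subschemeι ≫ p) ζ} := by
      rintro _ ⟨z, hz, rfl⟩
      exact ((hζ.specializes hz).map (pullback.snd f (I.subschemeι ≫ p)).continuous).mem_closure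
    have h2 := (hd.mono h1).closure_eq
    rw [closure_closure] at h2
    exact ((specializes_iff_mem_closure.mpr (h2 ▸ Set.mem_univ η'')).antisymm (hgen _)).eq
  refine ⟨pullback.fst (pullback.snd f p) I.subschemeι (e.inv ζ), ?_, ?_⟩
  · rw [← hx1]
    have h3 : ζ ⤳ e.hom x'' := hζ.specializes mem_irreducibleComponent
    have h4 : e.inv (e.hom x'') = x'' :=
      (Scheme.Hom.comp_apply _ _ _).symm.trans (congr($(e.hom_inv_id) x''))
    exact (h4 ▸ h3.map e.inv.continuous).map (pullback.fst (pullback.snd f p) I.subschemeι).continuous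
  · rw [← hη'', ← hsnd, ← Scheme.Hom.comp_apply, pullback.condition, Scheme.Hom.comp_apply]
    congr 1
    rw [← Scheme.Hom.comp_apply]
    have : e.inv ≫ pullback.snd (pullback.snd f p) I.subschemeι = pullback.snd f (I.subschemeι ≫ p) := by
      rw [Iso.inv_comp_eq]; exact (pullbackLeftPullbackSndIso_hom_snd _ _ _).symm
    rw [this]

end Groth.Agent.S2558
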