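import Groth.Statements.S2559
import Groth.Agent.DimFormula.Open
import Groth.Agent.DimFormula.Dims
import Groth.Agent.CInt.Codim

set_option autoImplicit false
open CategoryTheory AlgebraicGeometry
universe u
open EGA43

open Groth.Agent Groth.Agent.DimFormula Groth.Agent.EquidimPt Groth.Agent.Unibranch
set_option backward.isDefEq.respectTransparency false
namespace Groth.Agent.S2559

/-- Let f : X ⟶ Y be a morphism of locally Noetherian schemes, x a point of X and y = f x. Suppose f is
open at the generic point of every irreducible component of the fibre over y passing through x. Then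
dim O_{X,x} = dim O_{Y,y} + dim O_{X_y,x}. -/
theorem result {X Y : Scheme.{u}} [IsLocallyNoetherian X] [IsLocallyNoetherian Y]
    (f : X ⟶ Y) (x : X)
    (h : ∀ z : ↥(f.fiber (f.base x)), f.asFiber x ∈ closure {z} →
      (∀ z' : ↥(f.fiber (f.base x)), z ∈ closure {z'} → z' = z) →
      EGA43.IsOpenAt f.base ((f.fiberι (f.base x)).base z)) :
    ringKrullDim (X.presheaf.stalk x) =
      ringKrullDim (Y.presheaf.stalk (f.base x)) +
        ringKrullDim ((f.fiber (f.base x)).presheaf.stalk (f.asFiber x)) := by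
  classical
  change ringKrullDim (X.presheaf.stalk x) =
      ringKrullDim (Y.presheaf.stalk (f x)) + ringKrullDim ((f.fiber (f x)).presheaf.stalk (f.asFiber x))
  refine le_antisymm ?_ ?_
  · letI := (f.stalkMap x).hom.toAlgebra
    haveI : IsLocalHom (algebraMap (Y.presheaf.stalk (f x)) (X.presheaf.stalk x)) :=
      inferInstanceAs (IsLocalHom (f.stalkMap x).hom)
    obtain ⟨e⟩ := CMFlat.nonempty_fiberStalk_equiv f x
    exact (CInt.ringKrullDim_le_add (A := Y.presheaf.stalk (f x))).trans
      (add_le_add le_rfl (ringKrullDim_eq_of_ringEquiv e).le)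
  obtain ⟨A, hA, hAle, -⟩ := exists_ringKrullDim_stalk x
  let P : ℕ → Prop := fun k => ∃ c : Fin (k + 1) → X, IsChain' c ∧ (∀ i, f (c i) = f x) ∧ c (Fin.last k) = x
  have hbd : ∀ k, P k → k ≤ A := fun k ⟨c, h1, _, h3⟩ => hAle k c h1 h3
  have hP0 : P 0 := ⟨fun _ => x, fun i => i.elim0, fun _ => rfl, rfl⟩
  let b := Nat.findGreatest P A
  obtain ⟨c, hc1, hc2, hc3⟩ : P b := Nat.findGreatest_spec (P := P) (Nat.zero_le A) hP0
  have hfib : ringKrullDim ((f.fiber (f x)).presheaf.stalk (f.asFiber x)) ≤ (b : WithBot ℕ∞) :=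
    (ringKrullDim_fiber_stalk_le_iff f x).mpr fun n d h1 h2 h3 =>
      Nat.le_findGreatest (hbd n ⟨d, h1, h2, h3⟩) ⟨d, h1, h2, h3⟩
  have hmax : IsFibMax f (c 0) := fun w hw hwc => by
    by_contra hne
    have hP : P (b + 1) := ⟨Fin.cons w c, fun i => by
      refine Fin.cases ?_ (fun j => ?_) i
      · simpa only [Fin.castSucc_zero, Fin.cons_zero, Fin.cons_succ] using ⟨hwc, hne⟩
      · simpa only [Fin.castSucc_succ, Fin.cons_succ] using hc1 j,
      fun i => Fin.cases (by simpa using hw.trans (hc2 0)) (fun j => by simpa using hc2 j) i,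
      by rw [← Fin.succ_last, Fin.cons_succ]; exact hc3⟩
    have := Nat.le_findGreatest (hbd _ hP) hP
    omega
  obtain ⟨z, hz⟩ : c 0 ∈ Set.range (f.fiberι (f x)) := by
    rw [Scheme.Hom.range_fiberι]; exact hc2 0
  have hopen : EGA43.IsOpenAt f (c 0) := hz ▸ h z
    (specializes_iff_mem_closure.mp ((f.fiberι (f x)).isEmbedding.isInducing.specializes_iff.mp
      (by rw [hz, f.fiberι_asFiber x]; exact hc3 ▸ specializes_last hc1 0)))
    (fun z' hz' => (f.fiberι (f x)).isEmbedding.injective (by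
      rw [hz]
      have h1 : (f.fiberι (f x)) z' ∈ Set.range (f.fiberι (f x)) := ⟨_, rfl⟩
      rw [Scheme.Hom.range_fiberι] at h1
      exact hmax _ (Eq.trans h1 (hc2 0).symm)
        (hz ▸ (specializes_iff_mem_closure.mpr hz').map (f.fiberι (f x)).continuous)))
  obtain ⟨a, ha, -, ζ, -, -, hage⟩ := exists_ringKrullDim_stalk (c 0)
  have h1 := ringKrullDim_stalk_le_of_isOpenAt f hmax hopen
  rw [hc2 0, ha] at h1
  obtain ⟨n, hn, g, hg, -, hgl⟩ := hage.trans (b := b) ⟨c, hc1, specializes_rfl, hc3⟩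
  have h2 := hAle n g hg hgl
  rw [hA]
  refine le_trans (add_le_add h1 hfib) ?_
  exact_mod_cast (show a + b ≤ A by omega)

end Groth.Agent.S2559
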