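import Groth.Statements.S2563
import Mathlib

set_option autoImplicit false
open TensorProduct
universe u
open EGA43

namespace Groth.Agent.S2563

theorem mem_smul_of_lTensor_eq_zero {A : Type u} [CommRing A] (J : Ideal A) {Q F N : Type u}
    [AddCommGroup Q] [Module A Q] [AddCommGroup F] [Module A F] [AddCommGroup N] [Module A N]
    (π : F →ₗ[A] N) (hπ : Function.Surjective π) (hker : LinearMap.ker π ≤ J • (⊤ : Submodule A F))
    (z : TensorProduct A Q F) (hz : π.lTensor Q z = 0) :
    z ∈ J • (⊤ : Submodule A (TensorProduct A Q F)) := by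
  obtain ⟨w, rfl⟩ := (lTensor_exact Q (LinearMap.exact_subtype_ker_map π) hπ z).mp hz
  induction w with
  | zero => simp
  | add a b ha hb =>
    simp only [map_add] at hz ⊢
    refine add_mem (ha ?_) (hb ?_) <;>
      · rw [← LinearMap.comp_apply, ← LinearMap.lTensor_comp,
          (LinearMap.exact_subtype_ker_map π).linearMap_comp_eq_zero, LinearMap.lTensor_zero]
        rfl
  | tmul b y =>
    rw [LinearMap.lTensor_tmul]
    refine Submodule.smul_induction_on (p := fun f => b ⊗ₜ[A] f ∈ J • (⊤ : Submodule A (TensorProduct A Q F)))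
      (hker y.2) (fun j hj f _ => ?_) (fun f f' hf hf' => ?_)
    · rw [TensorProduct.tmul_smul]
      exact Submodule.smul_mem_smul hj trivial
    · rw [TensorProduct.tmul_add]; exact add_mem hf hf'

/-- Let A be a commutative ring, J a nilpotent ideal of A, and (B_i) a family of commutative A-algebras
such that an element of A vanishing in every B_i is zero. Let M be an A-module such that each B_i
⊗_A M is a free B_i-module and (A/J) ⊗_A M is a free (A/J)-module. Then M is a free A-module. -/
theorem result {A : Type u} [CommRing A] (J : Ideal A) (hJ : IsNilpotent J)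
    {ι : Type u} (B : ι → Type u) [∀ i, CommRing (B i)] [∀ i, Algebra A (B i)]
    (hB : ∀ a : A, (∀ i, algebraMap A (B i) a = 0) → a = 0)
    (M : Type u) [AddCommGroup M] [Module A M]
    (hfree : ∀ i, Module.Free (B i) (B i ⊗[A] M)) (hfreeJ : Module.Free (A ⧸ J) ((A ⧸ J) ⊗[A] M)) :
    Module.Free A M := by
  classical
  obtain ⟨n, hn⟩ := hJ
  let bas := Module.Free.chooseBasis (A ⧸ J) ((A ⧸ J) ⊗[A] M)
  have hmk : Function.Surjective (TensorProduct.mk A (A ⧸ J) M 1) :=
    TensorProduct.mk_surjective A M (A ⧸ J) Ideal.Quotient.mk_surjective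
  choose e he using fun k => hmk (bas k)
  let X : (Module.Free.ChooseBasisIndex (A ⧸ J) ((A ⧸ J) ⊗[A] M) →₀ A) →ₗ[A] M :=
    Finsupp.linearCombination A e
  let π := TensorProduct.mk A (A ⧸ J) M 1 ∘ₗ X
  have hπ : ∀ y k, bas.repr (π y) k = Ideal.Quotient.mk J (y k) := by
    intro y
    induction y using Finsupp.induction_linear with
    | zero => simp
    | add a b ha hb => intro k; simp [map_add, ha k, hb k]
    | single j a =>
      intro k
      have : π (Finsupp.single j a) = Ideal.Quotient.mk J a • bas j := by
        simp only [π, X, LinearMap.comp_apply, Finsupp.linearCombination_single, map_smul, he]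
        rw [← Ideal.Quotient.algebraMap_eq, algebraMap_smul]
      rw [this, map_smul, bas.repr_self]
      by_cases hjk : j = k
      · subst hjk; simp
      · simp [Finsupp.single_eq_of_ne' hjk]
  have hπsurj : Function.Surjective π := by
    intro z
    have hz : z ∈ Submodule.span (A ⧸ J) (Set.range bas) := by rw [bas.span_eq]; trivial
    induction hz using Submodule.span_induction with
    | mem z hz => obtain ⟨k, rfl⟩ := hz; exact ⟨Finsupp.single k 1, by simp [π, X, he]⟩
    | zero => exact ⟨0, map_zero π⟩
    | add a b _ _ ha hb =>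
      obtain ⟨y, rfl⟩ := ha; obtain ⟨y', rfl⟩ := hb; exact ⟨y + y', map_add π y y'⟩
    | smul c a _ ha =>
      obtain ⟨y, rfl⟩ := ha; obtain ⟨c, rfl⟩ := Ideal.Quotient.mk_surjective c
      exact ⟨c • y, by rw [map_smul, ← Ideal.Quotient.algebraMap_eq, algebraMap_smul]⟩
  have hnil : ∀ (P : Type u) [AddCommGroup P] [Module A P] (K L : Submodule A P),
      K ≤ L ⊔ J • K → K ≤ L := by
    intro P _ _ K L h
    have : ∀ m, K ≤ L ⊔ J ^ m • K := by
      intro m
      induction m with
      | zero => simp
      | succ m ih =>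
        refine ih.trans (sup_le le_sup_left ?_)
        refine (Submodule.smul_mono le_rfl h).trans ?_
        rw [Submodule.smul_sup, pow_succ, Submodule.mul_smul]
        exact sup_le_sup Submodule.smul_le_right le_rfl
    simpa [hn] using this n
  have hXsurj : Function.Surjective X := by
    rw [← LinearMap.range_eq_top, eq_top_iff]
    refine hnil M ⊤ _ fun m _ => ?_
    obtain ⟨y, hy⟩ := hπsurj (TensorProduct.mk A (A ⧸ J) M 1 m)
    have h1 : TensorProduct.mk A (A ⧸ J) M 1 (m - X y) = 0 := by
      rw [map_sub, ← hy]; exact sub_self _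
    have h2 := congrArg (TensorProduct.quotTensorEquivQuotSMul M J) h1
    simp only [map_zero, TensorProduct.mk_apply] at h2
    rw [show (1 : A ⧸ J) = Ideal.Quotient.mk J 1 from (map_one _).symm,
      TensorProduct.quotTensorEquivQuotSMul_mk_tmul, one_smul, Submodule.Quotient.mk_eq_zero] at h2
    exact Submodule.mem_sup.mpr ⟨X y, LinearMap.mem_range_self X y, m - X y, h2, by simp⟩
  have hker : LinearMap.ker π ≤ J • (⊤ : Submodule A _) := by
    intro y hy
    rw [← Finsupp.sum_single y]
    refine Submodule.sum_mem _ fun k _ => ?_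
    rw [← Finsupp.smul_single_one]
    refine Submodule.smul_mem_smul ?_ trivial
    rw [← Ideal.Quotient.eq_zero_iff_mem, ← hπ, LinearMap.mem_ker.mp hy]
    simp
  have hinj : ∀ i, Function.Injective (X.lTensor (B i)) := by
    intro i
    haveI := hfree i
    obtain ⟨σ, hσ⟩ := Module.projective_lifting_property (X.baseChange (B i)) LinearMap.id
      (LinearMap.lTensor_surjective (B i) hXsurj)
    let t : (B i ⊗[A] (Module.Free.ChooseBasisIndex (A ⧸ J) ((A ⧸ J) ⊗[A] M) →₀ A)) →ₗ[A] _ :=
      LinearMap.id - (σ.restrictScalars A) ∘ₗ (X.lTensor (B i))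
    have ht : ∀ z, t z ∈ LinearMap.ker (X.lTensor (B i)) := by
      intro z
      have := LinearMap.congr_fun hσ (X.lTensor (B i) z)
      rw [LinearMap.mem_ker]
      simp only [t, LinearMap.sub_apply, LinearMap.id_apply, LinearMap.comp_apply, map_sub,
        LinearMap.coe_restrictScalars]
      exact sub_eq_zero.mpr this.symm
    rw [← LinearMap.ker_eq_bot, eq_bot_iff]
    refine hnil _ _ _ ?_
    intro z hz
    have h1 : π.lTensor (B i) z = 0 := by
      rw [LinearMap.lTensor_comp, LinearMap.comp_apply, LinearMap.mem_ker.mp hz, map_zero]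
    have hz' : t z = z := by simp [t, LinearMap.mem_ker.mp hz]
    refine Submodule.mem_sup_right ?_
    rw [← hz']
    refine Submodule.smul_induction_on (mem_smul_of_lTensor_eq_zero J π hπsurj hker z h1)
      (fun j hj f _ => ?_) (fun f f' hf hf' => ?_)
    · rw [map_smul]
      exact Submodule.smul_mem_smul hj (ht f)
    · rw [map_add]; exact add_mem hf hf'
  have hXinj : Function.Injective X := by
    rw [injective_iff_map_eq_zero]
    intro y hy
    ext k
    refine hB _ fun i => ?_
    have h0 : (1 : B i) ⊗ₜ[A] y = 0 := hinj i (by simp [hy])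
    have h1 := congrArg (fun z => TensorProduct.finsuppScalarRight A A (B i) _ z k) h0
    simpa [TensorProduct.finsuppScalarRight_apply_tmul_apply, Algebra.smul_def] using h1
  exact Module.Free.of_equiv (LinearEquiv.ofBijective X ⟨hXinj, hXsurj⟩)

end Groth.Agent.S2563
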