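import Groth.Statements.S2564
import Groth.Agent.FlatDom.Open
import Groth.Agent.FlatDom.Unit
import Groth.Agent.DerPerf.Local
import Groth.Agent.FlatLimMod.Basic

set_option autoImplicit false
open CategoryTheory AlgebraicGeometry
set_option backward.isDefEq.respectTransparency false
universe u
open EGA43
set_option backward.isDefEq.respectTransparency false

namespace Groth.Agent.S2564

open CategoryTheory.Limits in
/-- Let A ⟶ A' be an injective ring homomorphism making A' integral over A, f : X ⟶ Spec A locally of
finite presentation, x a point of X, and X' = X ×_{Spec A} Spec A'. If X' ⟶ Spec A' is flat at every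
point of X' lying over x, then f is flat at x. -/
theorem result {A A' : Type u} [CommRing A] [CommRing A']
    [Algebra A A'] [Algebra.IsIntegral A A'] (hinj : Function.Injective (algebraMap A A'))
    {X : Scheme.{u}} (f : X ⟶ Spec (CommRingCat.of A)) [LocallyOfFinitePresentation f] (x : X)
    (h : ∀ x' : ↥(pullback f (Spec.map (CommRingCat.ofHom (algebraMap A A')))),
      (pullback.fst f _).base x' = x →
      ((pullback.snd f (Spec.map (CommRingCat.ofHom (algebraMap A A')))).stalkMap x').hom.Flat) :
    (f.stalkMap x).hom.Flat := by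
  let g := Spec.map (CommRingCat.ofHom (algebraMap A A'))
  haveI : IsIntegralHom g := IsIntegralHom.SpecMap_iff.2 (algebraMap_isIntegral_iff.2 inferInstance)
  haveI : UniversallyClosed g := inferInstance
  haveI : IsSchemeTheoreticallyDominant g := by
    refine ⟨Scheme.IdealSheafData.ext_of_isAffine ?_⟩
    rw [Scheme.Hom.ker_apply, Scheme.IdealSheafData.ideal_bot, Pi.bot_apply]
    refine (RingHom.injective_iff_ker_eq_bot _).1 ?_
    intro a b hab
    obtain ⟨a, rfl⟩ := (Scheme.ΓSpecIso (CommRingCat.of A)).symm.commRingCatIsoToRingEquiv.surjective a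
    obtain ⟨b, rfl⟩ := (Scheme.ΓSpecIso (CommRingCat.of A)).symm.commRingCatIsoToRingEquiv.surjective b
    congr 1
    refine hinj ((Scheme.ΓSpecIso (CommRingCat.of A')).symm.commRingCatIsoToRingEquiv.injective ?_)
    exact ((congr($(Scheme.ΓSpecIso_inv_naturality (CommRingCat.ofHom (algebraMap A A'))).hom a)).trans hab).trans
      (congr($(Scheme.ΓSpecIso_inv_naturality (CommRingCat.ofHom (algebraMap A A'))).hom b)).symm
  rw [Groth.Agent.FlatDom.flat_stalkMap_iff]
  refine Groth.Agent.FlatDom.isFlatOverAt_of_universallyClosed f _ (Groth.Agent.QC.isQCoh_unit X)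
    (Groth.Agent.SchDense.isFP_unit X) x g (fun V s hV hs => ⟨V, hV, le_rfl, ?_⟩) fun x' hx' => ?_
  · rw [g.app_injective V (hs.trans (map_zero _).symm), map_zero]
  · exact Groth.Agent.FlatLimMod.isFlatOverAt_of_iso _ (Groth.Agent.DerPerf.pullUnitIso (pullback.fst f g)).symm
      ((Groth.Agent.FlatDom.flat_stalkMap_iff _ x').1 (h x' hx'))

end Groth.Agent.S2564
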