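import Groth.Statements.S2565
import Groth.Agent.FlatDom.PrimaryAt
import Groth.Agent.FlatDom.Scheme
import Groth.Agent.FlatDom.Unit
import Groth.Agent.FlatDom.Strict
import Groth.Agent.DerPerf.Local
import Groth.Agent.FlatLimMod.Basic

set_option autoImplicit false
open CategoryTheory AlgebraicGeometry
universe u
open EGA43
set_option backward.isDefEq.respectTransparency false

namespace Groth.Agent.S2565

open CategoryTheory.Limits IsLocalRing

/-- Flatness at a point over the closed point from one point of a base change along an injective local map. -/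
theorem isFlatOverAt_of_point {A A' : Type u} [CommRing A] [IsDomain A] [IsLocalRing A] [CommRing A'] [IsLocalRing A']
    [Algebra A A'] {X : Scheme.{u}} (f : X ⟶ Spec (CommRingCat.of A)) [LocallyOfFinitePresentation f] (F : X.Modules)
    (hF : Coh.IsQCoh F) (hfp : CohB1.IsFP F) (x : X) (hx : f x = closedPoint A)
    (hinj : Function.Injective (algebraMap A A')) (H : Type u) [CommRing H] [HenselianLocalRing H] [Algebra A H]
    (hflH : Module.Flat A H) (hoverH : (maximalIdeal H).LiesOver (maximalIdeal A)) (hdom : IsDomain H)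
    (hsep : IsSepClosed (ResidueField H)) (x' : ↥(pullback f (Spec.map (CommRingCat.ofHom (algebraMap A A')))))
    (h1 : pullback.fst f (Spec.map (CommRingCat.ofHom (algebraMap A A'))) x' = x)
    (h2 : pullback.snd f (Spec.map (CommRingCat.ofHom (algebraMap A A'))) x' = closedPoint A')
    (h3 : FlatMod.IsFlatOverAt (pullback.snd f (Spec.map (CommRingCat.ofHom (algebraMap A A'))))
      ((Scheme.Modules.pullback (pullback.fst f (Spec.map (CommRingCat.ofHom (algebraMap A A'))))).obj F) x') :
    FlatMod.IsFlatOverAt f F x := by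
  haveI := hdom
  haveI := hsep
  let S := Spec (CommRingCat.of A)
  let S' := Spec (CommRingCat.of A')
  let g : S' ⟶ S := Spec.map (CommRingCat.ofHom (algebraMap A A'))
  let V : S.Opens := ⊤
  have hV : IsAffineOpen V := isAffineOpen_top S
  let O : S'.Opens := ⊤
  have hO : IsAffineOpen O := isAffineOpen_top S'
  obtain ⟨W, hW, hxW, e⟩ := exists_isAffineOpen_mem_and_subset (X := X) (x := x) (U := f ⁻¹ᵁ V) trivial
  let A₀ := Γ(S, V)
  let C := Γ(S', O)
  let B := Γ(X, W)
  let eA : A₀ ≃+* A := (Scheme.ΓSpecIso (CommRingCat.of A)).commRingCatIsoToRingEquiv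
  let eC : C ≃+* A' := (Scheme.ΓSpecIso (CommRingCat.of A')).commRingCatIsoToRingEquiv
  haveI : IsLocalRing A₀ := eA.symm.isLocalRing
  haveI : IsLocalRing C := eC.symm.isLocalRing
  haveI : IsDomain A₀ := eA.injective.isDomain (eA : A₀ →+* A)
  letI : Algebra A₀ C := (g.appLE V O le_top).hom.toAlgebra
  have hAC : ∀ a : A₀, eC (algebraMap A₀ C a) = algebraMap A A' (eA a) := fun a => by
    have h4 : g.appLE V O le_top = g.appTop := Scheme.Hom.appLE_eq_app _
    show eC ((g.appLE V O le_top) a) = _
    rw [h4]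
    exact congr($(Scheme.ΓSpecIso_naturality (CommRingCat.ofHom (algebraMap A A'))).hom a)
  have hinj₀ : Function.Injective (algebraMap A₀ C) := fun a b hab =>
    eA.injective (hinj (by rw [← hAC, ← hAC, hab]))
  letI : Algebra A₀ A := (eA : A₀ →+* A).toAlgebra
  letI : Algebra A₀ H := ((algebraMap A H).comp (eA : A₀ →+* A)).toAlgebra
  haveI : IsScalarTower A₀ A H := IsScalarTower.of_algebraMap_eq fun _ => rfl
  haveI : Module.Flat A₀ A := RingHom.Flat.of_bijective eA.bijective
  haveI : Module.Flat A₀ H := haveI := hflH; Module.Flat.trans A₀ A H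
  haveI : (maximalIdeal H).LiesOver (maximalIdeal A₀) := ⟨by
    show maximalIdeal A₀ = (maximalIdeal H).comap ((algebraMap A H).comp (eA : A₀ →+* A))
    rw [← Ideal.comap_comap]
    have h4 := hoverH.over
    rw [Ideal.under_def] at h4
    rw [← h4]
    haveI : ((maximalIdeal A).comap (eA : A₀ →+* A)).IsMaximal := Ideal.comap_isMaximal_of_surjective _ eA.surjective
    exact (eq_maximalIdeal inferInstance).symm⟩
  letI : Algebra A₀ B := (f.appLE V W e).hom.toAlgebra
  haveI : Algebra.FinitePresentation A₀ B := f.finitePresentation_appLE hV hW e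
  letI : Module A₀ Γ(F, W) := Module.compHom Γ(F, W) (f.appLE V W e).hom
  haveI : IsScalarTower A₀ B Γ(F, W) := IsScalarTower.of_algebraMap_smul fun _ _ => rfl
  haveI := Groth.Agent.LocFree.finitePresentation_sections_of_isFP hF hfp hW
  refine (Groth.Agent.InjFibre.isFlatOverAt_iff f F hF hV hW e x hxW).2 ?_
  have hp : (hV.primeIdealOf ⟨f x, trivial⟩).asIdeal = maximalIdeal A₀ := by
    refine eq_maximalIdeal (hV.primeIdealOf_isMaximal_of_isClosed ⟨f x, trivial⟩ ?_)
    show IsClosed ({f x} : Set S)
    rw [hx]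
    exact (PrimeSpectrum.isClosed_singleton_iff_isMaximal _).2 (maximalIdeal.isMaximal A)
  haveI : (hW.primeIdealOf ⟨x, hxW⟩).asIdeal.LiesOver (maximalIdeal A₀) := ⟨by
    have h4 : PrimeSpectrum.comap (algebraMap A₀ B) (hW.primeIdealOf ⟨x, hxW⟩) = hV.primeIdealOf ⟨f x, trivial⟩ := by
      apply hV.fromSpec.isOpenEmbedding.injective
      show hV.fromSpec _ = hV.fromSpec _
      rw [hV.fromSpec_primeIdealOf]
      refine (congr($(hV.SpecMap_appLE_fromSpec f hW e).base (hW.primeIdealOf ⟨x, hxW⟩))).trans ?_
      exact congrArg f.base (hW.fromSpec_primeIdealOf _)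
    exact hp.symm.trans (congrArg PrimeSpectrum.asIdeal h4).symm⟩
  -- the chart of the base change
  let g' := pullback.fst f g
  let f' := pullback.snd f g
  have hc : IsPullback g' f' f g := IsPullback.of_hasPullback f g
  let W' : (pullback f g).Opens := g' ⁻¹ᵁ W ⊓ f' ⁻¹ᵁ O
  have hW' : IsAffineOpen W' := by
    haveI : IsAffine _ := hV
    haveI : IsAffine _ := hW
    haveI : IsAffine _ := hO
    exact .of_isIso (Scheme.Hom.isPullback_resLE hc (show O ≤ g ⁻¹ᵁ V from le_top) e (rfl : W' = _)).isoPullback.hom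
  have hP := (isIso_pushoutSection_iff hc (show O ≤ g ⁻¹ᵁ V from le_top) e (rfl : W' = _)).1
    (isIso_pushoutSection_of_isAffineOpen hc (show O ≤ g ⁻¹ᵁ V from le_top) e rfl hV hO hW)
  let T' := Γ(pullback f g, W')
  letI : Algebra B T' := (g'.appLE W W' inf_le_left).hom.toAlgebra
  letI : Algebra C T' := (f'.appLE O W' inf_le_right).hom.toAlgebra
  letI : Algebra A₀ T' := ((algebraMap B T').comp (algebraMap A₀ B)).toAlgebra
  haveI : IsScalarTower A₀ B T' := IsScalarTower.of_algebraMap_eq fun _ => rfl
  haveI : IsScalarTower A₀ C T' := IsScalarTower.of_algebraMap_eq fun a => congr($(hP.w).hom a)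
  haveI : Algebra.IsPushout A₀ B C T' := CommRingCat.isPushout_iff_isPushout.1 hP
  haveI : Algebra.IsPushout A₀ C B T' := Algebra.IsPushout.symm inferInstance
  have hxW' : g' x' ∈ W := h1.symm ▸ hxW
  let Pt := hW'.primeIdealOf ⟨x', hxW', trivial⟩
  have hPB : PrimeSpectrum.comap (algebraMap B T') Pt = hW.primeIdealOf ⟨x, hxW⟩ := by
    apply hW.fromSpec.isOpenEmbedding.injective
    show hW.fromSpec _ = hW.fromSpec _
    rw [hW.fromSpec_primeIdealOf]
    refine (congr($(hW.SpecMap_appLE_fromSpec g' hW' inf_le_left).base Pt)).trans ?_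
    show g' (hW'.fromSpec _) = x
    rw [hW'.fromSpec_primeIdealOf]
    exact h1
  have hPC : (Pt.asIdeal).comap (algebraMap C T') = maximalIdeal C := by
    have h4 : PrimeSpectrum.comap (algebraMap C T') Pt = hO.primeIdealOf ⟨f' x', trivial⟩ := by
      apply hO.fromSpec.isOpenEmbedding.injective
      show hO.fromSpec _ = hO.fromSpec _
      rw [hO.fromSpec_primeIdealOf]
      refine (congr($(hO.SpecMap_appLE_fromSpec f' hW' inf_le_right).base Pt)).trans ?_
      show f' (hW'.fromSpec _) = f' x'
      rw [hW'.fromSpec_primeIdealOf]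
    refine (congrArg PrimeSpectrum.asIdeal h4).trans
      (eq_maximalIdeal (hO.primeIdealOf_isMaximal_of_isClosed ⟨f' x', trivial⟩ ?_))
    show IsClosed ({f' x'} : Set S')
    rw [show f' x' = closedPoint A' from h2]
    exact (PrimeSpectrum.isClosed_singleton_iff_isMaximal _).2 (maximalIdeal.isMaximal A')
  have hfl := Groth.Agent.FlatFam.flat_tensor_of_isFlatOverAt hc F hF hW e hO x' hxW' trivial hW'
    (hW.primeIdealOf ⟨x, hxW⟩) (by
      apply hW.fromSpec.isOpenEmbedding.injective
      show hW.fromSpec _ = hW.fromSpec _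
      rw [hW.fromSpec_primeIdealOf, hW.fromSpec_primeIdealOf]
      exact h1) h3
  exact Groth.Agent.FlatDom.flat_at_of_one_point (A := A₀) (B := B) Γ(F, W) _ H C T' hinj₀ Pt.asIdeal
    (congrArg PrimeSpectrum.asIdeal hPB) hPC hfl

open CategoryTheory.Limits in
/-- Let A be a local domain which is geometrically unibranch, A' a local ring and A ⟶ A' an injective
local homomorphism. Let f : X ⟶ Spec A be locally of finite presentation, x a point of X over the
closed point, and X' = X ×_{Spec A} Spec A'. If there is a point x' of X' lying over x and over the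
closed point of Spec A' at which X' ⟶ Spec A' is flat, then f is flat at x. -/
theorem result {A A' : Type u} [CommRing A] [IsDomain A] [IsLocalRing A]
    (hA : CAlg2.IsGeomUnibranch A) [CommRing A'] [IsLocalRing A'] [Algebra A A'] [IsLocalHom (algebraMap A A')]
    (hinj : Function.Injective (algebraMap A A'))
    {X : Scheme.{u}} (f : X ⟶ Spec (CommRingCat.of A)) [LocallyOfFinitePresentation f] (x : X)
    (hx : f.base x = IsLocalRing.closedPoint A)
    (h : ∃ x' : ↥(pullback f (Spec.map (CommRingCat.ofHom (algebraMap A A')))),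
      (pullback.fst f _).base x' = x ∧
      (pullback.snd f (Spec.map (CommRingCat.ofHom (algebraMap A A')))).base x' = IsLocalRing.closedPoint A' ∧
      ((pullback.snd f (Spec.map (CommRingCat.ofHom (algebraMap A A')))).stalkMap x').hom.Flat) :
    (f.stalkMap x).hom.Flat := by
  obtain ⟨x', h1, h2, h3⟩ := h
  obtain ⟨H, _, _, _, hflH, hoverH, hdom, hsep⟩ := Groth.Agent.FlatDom.exists_strict_domain hA
  refine (Groth.Agent.FlatDom.flat_stalkMap_iff f x).2 ?_
  exact isFlatOverAt_of_point f _ (Groth.Agent.QC.isQCoh_unit X) (Groth.Agent.SchDense.isFP_unit X) x hx hinj H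
    hflH hoverH hdom hsep x' h1 h2 (Groth.Agent.FlatLimMod.isFlatOverAt_of_iso _
      (Groth.Agent.DerPerf.pullUnitIso _).symm ((Groth.Agent.FlatDom.flat_stalkMap_iff _ x').1 h3))

end Groth.Agent.S2565
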