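import Groth.Statements.S2566
import Groth.Agent.FlatDom.Scheme
import Groth.Agent.FlatDom.Unit
import Groth.Agent.FlatDom.Unibranch
import Groth.Agent.DerPerf.Local
import Groth.Agent.FlatLimMod.Basic

set_option autoImplicit false
open CategoryTheory AlgebraicGeometry
universe u
open EGA43
set_option backward.isDefEq.respectTransparency false

namespace Groth.Agent.S2566

open CategoryTheory.Limits IsLocalRing

/-- Flatness at a point over the closed point from a local test ring into which the henselization injects. -/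
theorem isFlatOverAt_of_data {A A' : Type u} [CommRing A] [IsLocalRing A] [CommRing A'] [IsLocalRing A'] [Algebra A A']
    {X : Scheme.{u}} (f : X ⟶ Spec (CommRingCat.of A)) [LocallyOfFinitePresentation f] (F : X.Modules)
    (hF : Coh.IsQCoh F) (hfp : CohB1.IsFP F) (x : X) (hx : f x = closedPoint A) (H L : Type u) [CommRing H]
    [HenselianLocalRing H] [Algebra A H] [CommRing L] [IsLocalRing L] (ι : H →+* L) (κ : A' →+* L)
    (hι : IsLocalHom ι) (hκ : IsLocalHom κ) (hcomp : ι.comp (algebraMap A H) = κ.comp (algebraMap A A'))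
    (hιinj : Function.Injective ι) (hflH : Module.Flat A H) (hoverH : (maximalIdeal H).LiesOver (maximalIdeal A))
    (hflat : ∀ x' : ↥(pullback f (Spec.map (CommRingCat.ofHom (algebraMap A A')))),
      pullback.fst f (Spec.map (CommRingCat.ofHom (algebraMap A A'))) x' = x →
      pullback.snd f (Spec.map (CommRingCat.ofHom (algebraMap A A'))) x' = closedPoint A' →
      FlatMod.IsFlatOverAt (pullback.snd f (Spec.map (CommRingCat.ofHom (algebraMap A A'))))
        ((Scheme.Modules.pullback (pullback.fst f (Spec.map (CommRingCat.ofHom (algebraMap A A'))))).obj F) x') :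
    FlatMod.IsFlatOverAt f F x := by
  let S := Spec (CommRingCat.of A)
  let gY : Spec (CommRingCat.of A') ⟶ S := Spec.map (CommRingCat.ofHom (algebraMap A A'))
  let V : S.Opens := ⊤
  have hV : IsAffineOpen V := isAffineOpen_top S
  obtain ⟨W, hW, hxW, e⟩ := exists_isAffineOpen_mem_and_subset (X := X) (x := x) (U := f ⁻¹ᵁ V) trivial
  let A₀ := Γ(S, V)
  let B := Γ(X, W)
  let eA : A₀ ≃+* A := (Scheme.ΓSpecIso (CommRingCat.of A)).commRingCatIsoToRingEquiv
  haveI : IsLocalRing A₀ := eA.symm.isLocalRing
  letI : Algebra A₀ A := (eA : A₀ →+* A).toAlgebra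
  letI : Algebra A₀ H := ((algebraMap A H).comp (eA : A₀ →+* A)).toAlgebra
  haveI : IsScalarTower A₀ A H := IsScalarTower.of_algebraMap_eq fun _ => rfl
  haveI : Module.Flat A₀ A := RingHom.Flat.of_bijective eA.bijective
  haveI : Module.Flat A₀ H := haveI := hflH; Module.Flat.trans A₀ A H
  let p := (hV.primeIdealOf ⟨f x, trivial⟩).asIdeal
  have hp : p = maximalIdeal A₀ := by
    refine eq_maximalIdeal (hV.primeIdealOf_isMaximal_of_isClosed ⟨f x, trivial⟩ ?_)
    show IsClosed ({f x} : Set S)
    rw [hx]
    exact (PrimeSpectrum.isClosed_singleton_iff_isMaximal _).2 (maximalIdeal.isMaximal A)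
  haveI : (maximalIdeal H).LiesOver p := ⟨by
    show p = (maximalIdeal H).comap ((algebraMap A H).comp (eA : A₀ →+* A))
    rw [← Ideal.comap_comap, hp]
    have h1 := hoverH.over
    rw [Ideal.under_def] at h1
    rw [← h1]
    haveI : ((maximalIdeal A).comap (eA : A₀ →+* A)).IsMaximal := Ideal.comap_isMaximal_of_surjective _ eA.surjective
    exact (eq_maximalIdeal inferInstance).symm⟩
  letI : Algebra H L := ι.toAlgebra
  letI : Algebra A₀ L := (ι.comp (algebraMap A₀ H)).toAlgebra
  haveI : IsScalarTower A₀ H L := IsScalarTower.of_algebraMap_eq fun _ => rfl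
  haveI : IsLocalHom (algebraMap H L) := hι
  letI : Algebra A₀ B := (f.appLE V W e).hom.toAlgebra
  haveI : Algebra.FinitePresentation A₀ B := f.finitePresentation_appLE hV hW e
  letI : Module A₀ Γ(F, W) := Module.compHom Γ(F, W) (f.appLE V W e).hom
  haveI : IsScalarTower A₀ B Γ(F, W) := IsScalarTower.of_algebraMap_smul fun _ _ => rfl
  haveI := Groth.Agent.LocFree.finitePresentation_sections_of_isFP hF hfp hW
  refine (Groth.Agent.InjFibre.isFlatOverAt_iff f F hF hV hW e x hxW).2 ?_
  haveI : (hW.primeIdealOf ⟨x, hxW⟩).asIdeal.LiesOver p := ⟨by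
    have h1 : PrimeSpectrum.comap (algebraMap A₀ B) (hW.primeIdealOf ⟨x, hxW⟩) = hV.primeIdealOf ⟨f x, trivial⟩ := by
      apply hV.fromSpec.isOpenEmbedding.injective
      show hV.fromSpec _ = hV.fromSpec _
      rw [hV.fromSpec_primeIdealOf]
      refine (congr($(hV.SpecMap_appLE_fromSpec f hW e).base (hW.primeIdealOf ⟨x, hxW⟩))).trans ?_
      exact congrArg f.base (hW.fromSpec_primeIdealOf _)
    exact (congrArg PrimeSpectrum.asIdeal h1).symm⟩
  refine Groth.Agent.FlatDom.flat_at_of_injective_local (A := A₀) (B := B) Γ(F, W) p _ H L hιinj ?_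
  intro T _ _ _ _ _ _ _
  refine Groth.Agent.FlatDom.ptsFlat_of_isFlatOverAt f F hF x hV hW e hxW gY L (Spec.map (CommRingCat.ofHom κ))
    (fun x' h1 h2 => hflat x' h1 (h2.trans (comap_closedPoint κ))) ?_ T
  have hfs : hV.fromSpec = Spec.map (Scheme.ΓSpecIso (CommRingCat.of A)).inv := by
    have h1 : hV.fromSpec = S.isoSpec.inv := IsAffineOpen.fromSpec_top
    rw [h1, Scheme.isoSpec_Spec_inv]
  rw [hfs, ← Spec.map_comp, ← Spec.map_comp]
  congr 1
  ext a
  show κ (algebraMap A A' a) = ι (algebraMap A H (eA (eA.symm a)))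
  rw [eA.apply_symm_apply]
  exact (RingHom.congr_fun hcomp a).symm

open CategoryTheory.Limits in
/-- Let A be a local domain which is unibranch, A' a local ring and A ⟶ A' an injective local
homomorphism. Let f : X ⟶ Spec A be locally of finite presentation, x a point of X over the closed
point, and X' = X ×_{Spec A} Spec A'. If X' ⟶ Spec A' is flat at every point of X' lying over x and
over the closed point of Spec A', then f is flat at x. -/
theorem result {A A' : Type u} [CommRing A] [IsDomain A] [IsLocalRing A]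
    (hA : CAlg2.IsUnibranch A) [CommRing A'] [IsLocalRing A'] [Algebra A A'] [IsLocalHom (algebraMap A A')]
    (hinj : Function.Injective (algebraMap A A'))
    {X : Scheme.{u}} (f : X ⟶ Spec (CommRingCat.of A)) [LocallyOfFinitePresentation f] (x : X)
    (hx : f.base x = IsLocalRing.closedPoint A)
    (h : ∀ x' : ↥(pullback f (Spec.map (CommRingCat.ofHom (algebraMap A A')))),
      (pullback.fst f _).base x' = x →
      (pullback.snd f (Spec.map (CommRingCat.ofHom (algebraMap A A')))).base x' = IsLocalRing.closedPoint A' →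
      ((pullback.snd f (Spec.map (CommRingCat.ofHom (algebraMap A A')))).stalkMap x').hom.Flat) :
    (f.stalkMap x).hom.Flat := by
  obtain ⟨H, _, _, _, L, _, _, ι, κ, hflH, hoverH, hι, hκ, hcomp, hιinj⟩ :=
    Groth.Agent.FlatDom.exists_injective_over_henselization hA hinj
  refine (Groth.Agent.FlatDom.flat_stalkMap_iff f x).2 ?_
  exact isFlatOverAt_of_data f _ (Groth.Agent.QC.isQCoh_unit X) (Groth.Agent.SchDense.isFP_unit X) x hx H L ι κ
    hι hκ hcomp hιinj hflH hoverH fun x' h1 h2 => Groth.Agent.FlatLimMod.isFlatOverAt_of_iso _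
      (Groth.Agent.DerPerf.pullUnitIso _).symm ((Groth.Agent.FlatDom.flat_stalkMap_iff _ x').1 (h x' h1 h2))

end Groth.Agent.S2566
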