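import Groth.Statements.S2567
import Groth.Agent.UOFlat.RedAscent

set_option autoImplicit false
open CategoryTheory AlgebraicGeometry
universe u
open EGA43

namespace Groth.Agent.S2567

/-- Reduced case (the source only needs f flat and of finite presentation at the point x): let f : X ⟶ Y
be flat and locally of finite presentation, x a point of X with y = f x. If the local ring of Y at y
is reduced and the fibre of f over y is geometrically reduced at x, then the local ring of X at x is
reduced. -/
theorem result {X Y : Scheme.{u}} (f : X ⟶ Y) [Flat f]
    [LocallyOfFinitePresentation f] (x : X) (hy : FBase.IsReducedAt Y (f.base x))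
    (hx : FBase.IsGeomReducedAt (f.fiberToSpecResidueField (f.base x)) (f.asFiber x)) :
    FBase.IsReducedAt X x := by
  haveI : _root_.IsReduced (Y.presheaf.stalk (f.base x)) := hy
  exact Groth.Agent.UOFlat.isReduced_stalk f x ((Groth.Agent.GeomRedAt.isGeomReducedAt_iff f x).mp hx)

end Groth.Agent.S2567
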