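import Groth.Statements.S2568
import Groth.Agent.Unibranch.FibreDim

set_option autoImplicit false
open CategoryTheory AlgebraicGeometry
universe u
open EGA43

namespace Groth.Agent.S2568

/-- Chevalley's criterion in the case of irreducible source and base: let X and Y be irreducible
schemes, all local rings of Y geometrically unibranch, and f : X ⟶ Y a dominant morphism locally of
finite type such that for every point x the local dimension at x of the fibre through x equals the
dimension of the generic fibre (the fibre over the image of the generic point of X). Then f is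
universally open. -/
theorem result {X Y : Scheme.{u}} [IrreducibleSpace X] [IrreducibleSpace Y]
    (hY : ∀ y : Y, CAlg2.IsGeomUnibranch (Y.presheaf.stalk y)) (f : X ⟶ Y) [LocallyOfFiniteType f] [IsDominant f]
    (h : ∀ x : X, FlatMor.fibreDimAt f x = topologicalKrullDim ↥(f.fiber (f.base (genericPoint X)))) :
    UniversallyOpen f := by
  rw [Groth.Agent.GoingDown.universallyOpen_iff_forall_isUnivOpenAt]
  intro x
  let ζ := genericPoint X
  have hη : IsGenericPoint (f ζ) (Set.univ : Set Y) := by
    have := (genericPoint_spec X).image f.continuous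
    rw [Set.image_univ, f.denseRange.closure_range] at this
    exact this
  have hF : FlatMor.fibreDimAt f ζ = topologicalKrullDim ↥(f.fiber (f ζ)) := h ζ
  obtain ⟨s, hs⟩ := Groth.Agent.Unibranch.exists_fibreDimAt_le f ζ
  have hne : Nonempty (TopologicalSpace.IrreducibleCloseds ↥(f.fiber (f ζ))) :=
    ⟨⟨closure {f.asFiber ζ}, isIrreducible_singleton.closure, isClosed_closure⟩⟩
  obtain ⟨e, he⟩ : ∃ e : ℕ, topologicalKrullDim ↥(f.fiber (f ζ)) = (e : WithBot ℕ∞) := by
    rw [hF] at hs
    have hb : topologicalKrullDim ↥(f.fiber (f ζ)) ≠ ⊥ := Order.krullDim_ne_bot_iff.mpr hne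
    revert hs hb
    generalize topologicalKrullDim ↥(f.fiber (f ζ)) = d
    intro hs hb
    cases d with
    | bot => exact absurd rfl hb
    | coe a =>
      obtain ⟨n, rfl⟩ := ENat.ne_top_iff_exists.mp
        (lt_of_le_of_lt (WithBot.coe_le_coe.mp hs) (ENat.natCast_lt_top s)).ne
      exact ⟨n, rfl⟩
  obtain ⟨c, hc⟩ := Groth.Agent.Unibranch.exists_chain_of_le_topologicalKrullDim (k := e) he.ge
  refine Groth.Agent.Unibranch.isUnivOpenAt_of_chains f x (hY _) e ζ (genericPoint_specializes x)
    ⟨⊤, trivial, fun z _ ↦ hη.specializes trivial⟩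
    (Groth.Agent.Unibranch.chain_bound_of_fibreDimAt_le f x ((h x).trans he).le) ?_
  refine ⟨fun i ↦ f.fiberι (f ζ) (c i), fun i ↦ ?_, fun i ↦ ⟨?_, ?_⟩, genericPoint_specializes _⟩
  · exact (f.range_fiberι (f ζ)).le ⟨c i, rfl⟩
  · exact (hc i).1.map (f.fiberι (f ζ)).continuous
  · exact fun e' ↦ (hc i).2 ((f.fiberι (f ζ)).isEmbedding.injective e')

end Groth.Agent.S2568
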