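import Groth.Statements.S2569
import Groth.Agent.ProperAt.Main

set_option autoImplicit false
set_option backward.isDefEq.respectTransparency false
set_option backward.isDefEq.respectTransparency.types false
set_option maxHeartbeats 1000000

open CategoryTheory AlgebraicGeometry
universe u
open EGA43
open Groth.Agent Topology

namespace Groth.Agent.S2569

/-- Let Y be locally Noetherian and f : X ⟶ Y separated, of finite type and universally submersive
(every base change is a topological quotient map onto its target), with all fibres geometrically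
connected. If the fibre over a point y is proper over the residue field of y, then f is proper over
some open neighbourhood of y. -/
theorem result {X Y : Scheme.{u}} [IsLocallyNoetherian Y] (f : X ⟶ Y)
    [IsSeparated f] [LocallyOfFiniteType f] [QuasiCompact f]
    (hsub : MorphismProperty.universally (topologically fun g => Topology.IsQuotientMap g) f)
    (hconn : ∀ y : Y, GeometricallyConnected (f.fiberToSpecResidueField y))
    (y : Y) (hy : IsProper (f.fiberToSpecResidueField y)) :
    ∃ U : Y.Opens, y ∈ U ∧ IsProper (f ∣_ U) := by
  haveI : GeometricallyConnected f := (GeometricallyConnected.iff_geometricallyConnected_fiber f).2 hconn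
  have hpre : ∀ y', y' ⤳ y → ProperAt.GeomPre f Set.univ y' := fun y' _ K _ X' e f' v hsq _ => by
    haveI : GeometricallyConnected f' := MorphismProperty.of_isPullback hsq inferInstance
    haveI := GeometricallyConnected.connectedSpace_of_subsingleton f'
    rw [Set.preimage_univ]
    exact isPreconnected_univ
  have hs : ProperAt.Submersive f Set.univ := by
    rintro X' Y' e f' h hsq E - ⟨W, hW, hWe⟩
    rw [Set.preimage_univ, Set.inter_univ, Set.inter_univ] at hWe
    refine ⟨E, ?_, ?_⟩
    · have hq : Topology.IsQuotientMap f' := hsub e h f' hsq.flip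
      rw [← hq.isOpen_preimage, ← hWe]
      exact hW
    · rw [Set.image_univ, Set.range_eq_univ.2 f.surjective, Set.preimage_univ, Set.inter_univ]
  have hu : IsOpen ((f.fiberι y).base ⁻¹' (Set.univ : Set X)) := by rw [Set.preimage_univ]; exact isOpen_univ
  have htop : (⟨(f.fiberι y).base ⁻¹' (Set.univ : Set X), hu⟩ : (f.fiber y).Opens) = ⊤ :=
    TopologicalSpace.Opens.ext (Set.eq_univ_of_forall fun _ => trivial)
  obtain ⟨U, hyU, hC, hP⟩ := ProperAt.exists_proper_nhd f Set.univ
    (IsLocallyConstructible.univ) y (fun _ _ => ⟨Set.univ, isClosed_univ, fun _ _ => Iff.rfl⟩)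
    (fun _ _ => ⟨Set.univ, isOpen_univ, fun _ _ => Iff.rfl⟩)
    (fun y' _ => by
      obtain ⟨x, hx⟩ := f.surjective y'
      exact ⟨x, trivial, hx⟩)
    hpre hs hu (by
      rw [htop]
      exact (MorphismProperty.cancel_left_of_respectsIso @IsProper (Scheme.topIso _).hom _).2 hy)
  refine ⟨U, hyU, ?_⟩
  let j := (Scheme.IdealSheafData.vanishingIdeal (X := (f ⁻¹ᵁ U : X.Opens).toScheme) (⟨(f ⁻¹ᵁ U).ι.base ⁻¹' Set.univ, hC⟩ :
    TopologicalSpace.Closeds ↥(f ⁻¹ᵁ U))).subschemeι
  haveI : Surjective j := ⟨fun x => by
    have : x ∈ Set.range j := by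
      rw [Scheme.IdealSheafData.range_subschemeι, Scheme.IdealSheafData.coe_support_vanishingIdeal]
      trivial
    exact this⟩
  haveI : IsProper (j ≫ (f ∣_ U)) := hP
  haveI : UniversallyClosed (f ∣_ U) := UniversallyClosed.of_comp_surjective j _
  exact { }

end Groth.Agent.S2569
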