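import Groth.Statements.S2571
import Groth.Agent.S2570
import Groth.Agent.S0021

set_option autoImplicit false
open CategoryTheory AlgebraicGeometry
universe u
open EGA43

namespace Groth.Agent.S2571

open CategoryTheory.Limits in
/-- Let Y be locally Noetherian, f : X ⟶ Y locally of finite type, and g : Y' ⟶ Y locally of finite
type, universally open and surjective. If the base change X ×_Y Y' ⟶ Y' is an affine morphism, then
f is affine. -/
theorem result {X Y Y' : Scheme.{u}} [IsLocallyNoetherian Y]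
    (f : X ⟶ Y) [LocallyOfFiniteType f] (g : Y' ⟶ Y) [LocallyOfFiniteType g] [UniversallyOpen g] [Surjective g]
    [IsAffineHom (pullback.snd f g)] : IsAffineHom f := by
  constructor
  intro U hU
  haveI : IsAffine (U : Scheme.{u}) := hU
  haveI : IsNoetherian (U : Scheme.{u}) := {}
  haveI : LocallyOfFiniteType (g ∣_ U) := IsZariskiLocalAtTarget.restrict (P := @LocallyOfFiniteType) ‹_› U
  haveI : Surjective (g ∣_ U) := IsZariskiLocalAtTarget.restrict (P := @Surjective) ‹_› U
  haveI : UniversallyOpen (g ∣_ U) := IsZariskiLocalAtTarget.restrict (P := @UniversallyOpen) ‹_› U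
  obtain ⟨Y'', h, hfin, hsurj, hsec⟩ := Groth.Agent.S2570.result (g ∣_ U)
  haveI := hfin
  haveI := hsurj
  haveI : IsAffine Y'' := isAffine_of_isAffineHom h
  -- the base change of `f` to `Y''` is affine
  have hbc : IsAffineHom (pullback.snd f (h ≫ U.ι)) := by
    choose V hyV s hs using hsec
    refine IsZariskiLocalAtTarget.of_iSup_eq_top (P := @IsAffineHom) V
      (top_le_iff.mp fun y _ => TopologicalSpace.Opens.mem_iSup.mpr ⟨y, hyV y⟩) fun y => ?_
    let t : (V y : Scheme.{u}) ⟶ Y' := s y ≫ pullback.fst (g ∣_ U) h ≫ (g ⁻¹ᵁ U).ι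
    have ht : t ≫ g = (V y).ι ≫ h ≫ U.ι := by
      simp only [t, Category.assoc, ← morphismRestrict_ι, pullback.condition_assoc,
        reassoc_of% (hs y)]
    have sq0 := IsPullback.of_hasPullback (pullback.snd f g) t
    have sq1 : IsPullback (pullback.fst (pullback.snd f g) t ≫ pullback.fst f g)
        (pullback.snd (pullback.snd f g) t) f (t ≫ g) :=
      sq0.paste_horiz (IsPullback.of_hasPullback f g)
    rw [ht] at sq1
    have sq2 : IsPullback ((pullback.snd f (h ≫ U.ι) ⁻¹ᵁ V y).ι ≫ pullback.fst f (h ≫ U.ι))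
        (pullback.snd f (h ≫ U.ι) ∣_ V y) f ((V y).ι ≫ h ≫ U.ι) :=
      (isPullback_morphismRestrict _ _).flip.paste_horiz (IsPullback.of_hasPullback f (h ≫ U.ι))
    haveI : IsAffineHom (pullback.snd (pullback.snd f g) t) :=
      MorphismProperty.pullback_snd _ _ ‹IsAffineHom (pullback.snd f g)›
    rw [← sq2.isoIsPullback_hom_snd _ _ sq1]
    infer_instance
  haveI := hbc
  haveI : IsAffine (pullback f (h ≫ U.ι)) := isAffine_of_isAffineHom (pullback.snd f (h ≫ U.ι))
  -- which is finite surjective over `f ⁻¹ᵁ U`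
  have sqU : IsPullback (f ⁻¹ᵁ U).ι (f ∣_ U) f U.ι := (isPullback_morphismRestrict f U).flip
  let q : pullback f (h ≫ U.ι) ⟶ (f ⁻¹ᵁ U : Scheme.{u}) :=
    sqU.lift (pullback.fst _ _) (pullback.snd _ _ ≫ h) (by rw [Category.assoc, pullback.condition])
  have sqq : IsPullback q (pullback.snd f (h ≫ U.ι)) (f ∣_ U) h :=
    IsPullback.of_right (by rw [sqU.lift_fst]; exact IsPullback.of_hasPullback f (h ≫ U.ι))
      (sqU.lift_snd _ _ _) sqU
  haveI : IsFinite q := MorphismProperty.of_isPullback sqq.flip hfin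
  haveI : Surjective q := MorphismProperty.of_isPullback sqq.flip hsurj
  haveI : CompactSpace (f ⁻¹ᵁ U : Scheme.{u}) := q.surjective.compactSpace q.continuous
  haveI : IsLocallyNoetherian (f ⁻¹ᵁ U : Scheme.{u}) :=
    LocallyOfFiniteType.isLocallyNoetherian (f ∣_ U)
  haveI : IsNoetherian (f ⁻¹ᵁ U : Scheme.{u}) := {}
  exact (Groth.Agent.S0021.result q : IsAffine (f ⁻¹ᵁ U : Scheme.{u}))

end Groth.Agent.S2571
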