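import Groth.Statements.S2572
import Groth.Agent.GoingDown.Dedekind

set_option autoImplicit false
open CategoryTheory AlgebraicGeometry
universe u
open EGA43

namespace Groth.Agent.S2572

/-- Let Y be an irreducible locally Noetherian scheme whose local rings are regular of dimension at most
one, f : X ⟶ Y locally of finite type, and y a point of Y. If every irreducible component of X
meeting the fibre over y has dense image in Y, then there is an open subset U of X containing that
fibre such that the restriction of f to U is universally open. -/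
theorem result {X Y : Scheme.{u}} [IsLocallyNoetherian Y]
    [IrreducibleSpace Y]
    (hY : ∀ y : Y, IsRegularLocalRing (Y.presheaf.stalk y) ∧ ringKrullDim (Y.presheaf.stalk y) ≤ 1)
    (f : X ⟶ Y) [LocallyOfFiniteType f] (y : Y)
    (h : ∀ Z ∈ irreducibleComponents (X : Type u), (Z ∩ f.base ⁻¹' {y}).Nonempty → Dense (f.base '' Z)) :
    ∃ U : X.Opens, f.base ⁻¹' {y} ⊆ (U : Set X) ∧ UniversallyOpen (U.ι ≫ f) := by
  classical
  have : IsLocallyNoetherian X := LocallyOfFiniteType.isLocallyNoetherian f
  let η := genericPoint Y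
  have hη : ∀ w : Y, η ⤳ w := fun w ↦ (genericPoint_spec Y).specializes trivial
  have hηmax : Groth.Agent.GoingDown.IsMaximalPt η := fun w hw ↦ (hw.antisymm (hη w)).eq
  let Good : Set X := {x | ∀ ξ, Groth.Agent.GoingDown.IsMaximalPt ξ → ξ ⤳ x → f ξ = η}
  have hopen : IsOpen Good := by
    refine isOpen_iff_forall_mem_open.mpr fun x hx ↦ ?_
    obtain ⟨SA, hSA, hxA, -⟩ := X.isBasis_affineOpens.exists_subset_of_mem_open (Set.mem_univ x) isOpen_univ
    obtain ⟨A, hA, rfl⟩ : ∃ V : X.Opens, IsAffineOpen V ∧ (V : Set X) = SA := hSA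
    let S : Set X := {ξ | ξ ∈ A ∧ Groth.Agent.GoingDown.IsMaximalPt ξ} ∩ {ξ | f ξ ≠ η}
    have hS : S.Finite := (Groth.Agent.GoingDown.finite_maximalPt_of_isAffineOpen hA).inter_of_left _
    refine ⟨(A : Set X) \ ⋃ ξ ∈ S, closure {ξ}, ?_, A.isOpen.sdiff (hS.isClosed_biUnion fun _ _ ↦ isClosed_closure),
      hxA, ?_⟩
    · rintro w ⟨hwA, hw⟩ ξ hξ hξw
      by_contra hne
      exact hw (Set.mem_biUnion ⟨⟨hξw.mem_open A.isOpen hwA, hξ⟩, hne⟩ (specializes_iff_mem_closure.mp hξw))
    · simp only [Set.mem_iUnion, not_exists]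
      rintro ξ ⟨⟨-, hξ⟩, hne⟩ hξx
      exact hne (hx ξ hξ (specializes_iff_mem_closure.mpr hξx))
  let U : X.Opens := ⟨Good, hopen⟩
  refine ⟨U, ?_, ?_⟩
  · intro x hxy ξ hξ hξx
    have hd := h _ (Groth.Agent.GoingDown.closure_mem_irreducibleComponents hξ)
      ⟨x, specializes_iff_mem_closure.mp hξx, hxy⟩
    refine hηmax _ (specializes_iff_mem_closure.mpr ?_)
    refine closure_minimal ?_ isClosed_closure (hd η)
    rintro _ ⟨w, hw, rfl⟩
    exact specializes_iff_mem_closure.mp ((specializes_iff_mem_closure.mpr hw).map f.continuous)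
  · let C : TopologicalSpace.Closeds U.toScheme := ⊤
    let i := (Scheme.IdealSheafData.vanishingIdeal C).subschemeι
    have hri : Set.range i = Set.univ := Groth.Agent.DvrDom.range_vanishingIdeal_subschemeι C
    have := Groth.Agent.DvrDom.isReduced_vanishingIdeal_subscheme C
    have : Surjective i := ⟨Set.range_eq_univ.mp hri⟩
    let g := i ≫ U.ι ≫ f
    have : LocallyOfFiniteType g := inferInstanceAs (LocallyOfFiniteType (i ≫ U.ι ≫ f))
    have : Flat g := by
      refine (Flat.iff_flat_stalkMap g).mpr fun t ↦ ?_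
      obtain ⟨hdom, hpid⟩ : ∃ _ : IsDomain (Y.presheaf.stalk (g t)), IsPrincipalIdealRing (Y.presheaf.stalk (g t)) :=
        @Groth.Agent.GoingDown.isPrincipalIdealRing_of_regular _ _ (hY _).1 (hY _).2
      refine Groth.Agent.GoingDown.flat_stalkMap_of_maximal g t fun ξ hξ _ ↦ ?_
      have hmax : Groth.Agent.GoingDown.IsMaximalPt (U.ι (i ξ)) := fun w hw ↦ by
        obtain ⟨w', rfl⟩ : w ∈ Set.range U.ι := by
          rw [Scheme.Opens.range_ι]; exact hw.mem_open U.isOpen (i ξ).2
        obtain ⟨w'', rfl⟩ : w' ∈ Set.range i := hri ▸ trivial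
        have := hξ w'' (i.isClosedEmbedding.isEmbedding.isInducing.specializes_iff.mp
          (U.ι.isOpenEmbedding.isInducing.specializes_iff.mp hw))
        rw [this]
      have hg : g ξ = η := by
        have := (i ξ).2 (U.ι (i ξ)) hmax specializes_rfl
        exact ((Scheme.Hom.comp_apply _ _ _).trans (Scheme.Hom.comp_apply _ _ _)).trans this
      rw [hg]
      exact hηmax
    have : UniversallyOpen (i ≫ U.ι ≫ f) := inferInstanceAs (UniversallyOpen g)
    exact Groth.Agent.GoingDown.universallyOpen_of_comp_surjective i (U.ι ≫ f)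

end Groth.Agent.S2572
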