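import Groth.Statements.S2573
import Groth.Agent.GenFreeIrr.Basic
import Groth.Agent.InjFibre.Loc

set_option autoImplicit false
universe u
open EGA43

namespace Groth.Agent.S2573

open TensorProduct

/-- Let A be a commutative ring whose spectrum is irreducible, with unique minimal prime p, let B be a
finitely presented A-algebra and M a finitely presented B-module. If the localization M_p is flat
over A_p, then there is t ∉ p such that M_t is a free A_t-module. -/
theorem result {A B : Type u} [CommRing A] [CommRing B] [Algebra A B]
    [Algebra.FinitePresentation A B] (p : Ideal A) [p.IsPrime] (hp : minimalPrimes A = {p})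
    (M : Type u) [AddCommGroup M] [Module B M] [Module A M] [IsScalarTower A B M] [Module.FinitePresentation B M]
    (hflat : Module.Flat (Localization.AtPrime p) (LocalizedModule p.primeCompl M)) :
    ∃ t : A, t ∉ p ∧ Module.Free (Localization.Away t) (LocalizedModule (Submonoid.powers t) M) := by
  have hnil : nilradical A = p := by
    rw [nilradical, Ideal.zero_eq_bot, ← Ideal.sInf_minimalPrimes]
    rw [show (⊥ : Ideal A).minimalPrimes = {p} from hp, sInf_singleton]
  haveI hfA : Module.Flat A (LocalizedModule p.primeCompl M) := Module.Flat.trans A (Localization.AtPrime p) _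
  obtain ⟨t, ht, hflt⟩ := Groth.Agent.GenFreeIrr.exists_flat_away p M (fun q hq =>
    (Groth.Agent.InjFibre.flat_localized_comap_iff (A := A) (B := A) (C := B) p.primeCompl).1 hfA q
      fun s hs hs' => hs (hq hs'))
  haveI hft : Module.Flat A (LocalizedModule (Submonoid.powers t) M) :=
    (Groth.Agent.InjFibre.flat_localized_comap_iff (A := A) (B := A) (C := B) (Submonoid.powers t)).2
      fun r hr => hflt r (hr t (Submonoid.mem_powers t))
  let M₁ := LocalizedModule (Submonoid.powers (algebraMap A B t)) M
  let g : M →ₗ[A] M₁ := (LocalizedModule.mkLinearMap (Submonoid.powers (algebraMap A B t)) M).restrictScalars A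
  haveI : IsLocalizedModule (Submonoid.powers t) g := IsLocalizedModule.restrictScalars_powers ..
  let e₁ : LocalizedModule (Submonoid.powers t) M ≃ₗ[A] M₁ := IsLocalizedModule.iso (Submonoid.powers t) g
  haveI : Module.Flat A M₁ := Module.Flat.of_linearEquiv e₁.symm
  let B₁ := Localization.Away (algebraMap A B t)
  haveI : Algebra.FinitePresentation B B₁ := IsLocalization.Away.finitePresentation (algebraMap A B t)
  haveI : Algebra.FinitePresentation A B₁ := Algebra.FinitePresentation.trans A B B₁
  haveI : Module.FinitePresentation B₁ M₁ := inferInstance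
  obtain ⟨t₂, ht₂, hfree⟩ := Groth.Agent.GenFreeIrr.exists_free_of_flat (B := B₁)
    (hnil ▸ (inferInstance : p.IsPrime)) M₁
  refine ⟨t * t₂, fun h => (Ideal.IsPrime.mem_or_mem (inferInstance : p.IsPrime) h).elim ht (hnil ▸ ht₂), ?_⟩
  let At := Localization.Away t
  let A' := Localization.Away (t * t₂)
  have hu : IsUnit (algebraMap A A' (t * t₂)) := IsLocalization.Away.algebraMap_isUnit (S := A') (t * t₂)
  rw [map_mul] at hu
  letI : Algebra At A' := (IsLocalization.Away.lift (S := At) t (g := algebraMap A A')
    (isUnit_of_mul_isUnit_left hu)).toAlgebra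
  haveI : IsScalarTower A At A' := IsScalarTower.of_algebraMap_eq fun x => (IsLocalization.Away.lift_eq _ _ x).symm
  letI : Algebra (Localization.Away t₂) A' := (IsLocalization.Away.lift (S := Localization.Away t₂) t₂
    (g := algebraMap A A') (isUnit_of_mul_isUnit_right hu)).toAlgebra
  haveI : IsScalarTower A (Localization.Away t₂) A' :=
    IsScalarTower.of_algebraMap_eq fun x => (IsLocalization.Away.lift_eq _ _ x).symm
  haveI : Module.Free A' (A' ⊗[A] M₁) := Module.Free.of_equiv
    (TensorProduct.AlgebraTensorModule.cancelBaseChange A (Localization.Away t₂) A' A' M₁)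
  let N := LocalizedModule (Submonoid.powers t) M
  let eN : N ≃ₗ[At] At ⊗[A] M :=
    (IsLocalizedModule.isBaseChange (Submonoid.powers t) At
      (LocalizedModule.mkLinearMap (Submonoid.powers t) M)).equiv.symm
  haveI := IsLocalization.tensorProduct_compatibleSMul (R := A) (Submonoid.powers t) At A' N
  exact Module.Free.of_equiv
    ((TensorProduct.AlgebraTensorModule.congr (LinearEquiv.refl A' A') e₁.symm).trans
      ((TensorProduct.equivOfCompatibleSMul A At A' A' N).symm.trans
        ((TensorProduct.AlgebraTensorModule.congr (LinearEquiv.refl A' A') eN).trans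
          ((TensorProduct.AlgebraTensorModule.cancelBaseChange A At A' A' M).trans
            (IsLocalizedModule.isBaseChange (Submonoid.powers (t * t₂)) A'
              (LocalizedModule.mkLinearMap (Submonoid.powers (t * t₂)) M)).equiv))))

end Groth.Agent.S2573
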