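import Groth.Statements.S2574
import Mathlib

set_option autoImplicit false
open TensorProduct
universe u
open EGA43

namespace Groth.Agent.S2574

section
variable {A : Type u} [CommRing A] (M : Type u) [AddCommGroup M] [Module A M]

/-- tensoring with `M` preserves injections of modules killed by `I` -/
def Good (I : Ideal A) : Prop :=
  ∀ (X : Type u) [AddCommGroup X] [Module A X], (∀ a ∈ I, ∀ x : X, a • x = 0) →
    ∀ N : Submodule A X, Function.Injective (N.subtype.rTensor M)

variable {M}

theorem Good.inj {I : Ideal A} (h : Good M I) {X Y : Type u} [AddCommGroup X] [Module A X]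
    [AddCommGroup Y] [Module A Y] (f : Y →ₗ[A] X) (hf : Function.Injective f)
    (hX : ∀ a ∈ I, ∀ x : X, a • x = 0) : Function.Injective (f.rTensor M) := by
  have e : f = (LinearMap.range f).subtype ∘ₗ (LinearEquiv.ofInjective f hf).toLinearMap := by
    ext y; rfl
  rw [e, LinearMap.rTensor_comp, LinearMap.coe_comp]
  exact (h X hX _).comp (LinearEquiv.rTensor M (LinearEquiv.ofInjective f hf)).injective

theorem Good.mono {I I' : Ideal A} (h : Good M I) (hle : I ≤ I') : Good M I' :=
  fun X _ _ hX N => h X (fun a ha x => hX a (hle ha) x) N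

theorem good_of_flat_quot (J : Ideal A) (h : Module.Flat (A ⧸ J) ((A ⧸ J) ⊗[A] M)) : Good M J := by
  intro X _ _ hX N
  letI : Module (A ⧸ J) X := Module.IsTorsionBySet.module (fun x a => hX a.1 a.2 x)
  haveI : IsScalarTower A (A ⧸ J) X := ⟨fun a b x => by
    induction b using Quotient.inductionOn' with | h b => exact mul_smul a b x⟩
  let N' : Submodule (A ⧸ J) X :=
    { N.toAddSubmonoid with
      smul_mem' := fun b x hx => by
        induction b using Quotient.inductionOn' with | h b => exact N.smul_mem b hx }
  let g : ↥N' →ₗ[A] X := N'.subtype.restrictScalars A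
  have hg : Function.Injective (g.rTensor M) := by
    have h1 := Module.Flat.rTensor_preserves_injective_linearMap (M := (A ⧸ J) ⊗[A] M) N'.subtype
      Subtype.val_injective
    let e1 := AlgebraTensorModule.cancelBaseChange A (A ⧸ J) (A ⧸ J) ↥N' M
    let e2 := AlgebraTensorModule.cancelBaseChange A (A ⧸ J) (A ⧸ J) X M
    have hc : ∀ z, e2 (N'.subtype.rTensor _ z) = g.rTensor M (e1 z) := by
      intro z
      induction z using TensorProduct.induction_on with
      | zero => simp
      | add a b ha hb => simp only [map_add, ha, hb]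
      | tmul n w =>
        induction w using TensorProduct.induction_on with
        | zero => simp
        | add a b ha hb => simp only [map_add, tmul_add, ha, hb]
        | tmul b m => simp [e1, e2, g, AlgebraTensorModule.cancelBaseChange_tmul]
    intro a b hab
    obtain ⟨a, rfl⟩ := e1.surjective a
    obtain ⟨b, rfl⟩ := e1.surjective b
    rw [← hc, ← hc] at hab
    rw [h1 (e2.injective hab)]
  let i : ↥N →ₗ[A] ↥N' := ⟨⟨fun x => ⟨x.1, x.2⟩, fun _ _ => rfl⟩, fun _ _ => rfl⟩
  let j : ↥N' →ₗ[A] ↥N := ⟨⟨fun x => ⟨x.1, x.2⟩, fun _ _ => rfl⟩, fun _ _ => rfl⟩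
  have hi : Function.Injective (i.rTensor M) := by
    apply Function.LeftInverse.injective (g := j.rTensor M)
    intro z
    rw [← LinearMap.rTensor_comp_apply]
    have : j ∘ₗ i = LinearMap.id := by ext x; rfl
    rw [this, LinearMap.rTensor_id, LinearMap.id_apply]
  have hN : N.subtype = g ∘ₗ i := by ext x; rfl
  rw [hN, LinearMap.rTensor_comp, LinearMap.coe_comp]
  exact hg.comp hi

theorem inj_of_layer {J : Ideal A} (hJ : Good M J) {F₀ F : Type u} [AddCommGroup F₀] [Module A F₀]
    [AddCommGroup F] [Module A F] (j : F₀ →ₗ[A] F) (hj : Function.Injective (j.rTensor M))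
    (R : Submodule A F) (hjR : ∀ p, j p ∈ R) (hT : ∀ a ∈ J, ∀ z : F, a • z ∈ LinearMap.range j) :
    Function.Injective (R.subtype.rTensor M) := by
  let jR : F₀ →ₗ[A] R := j.codRestrict R hjR
  let q : F →ₗ[A] F ⧸ LinearMap.range j := (LinearMap.range j).mkQ
  let qR : R →ₗ[A] R.map q := q.submoduleMap R
  have hqR : Function.Surjective qR := q.submoduleMap_surjective R
  have hex : Function.Exact jR qR := by
    intro r
    constructor
    · intro h
      have h' : q r.1 = 0 := congrArg Subtype.val h
      obtain ⟨p, hp⟩ := (Submodule.Quotient.mk_eq_zero _).1 h'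
      exact ⟨p, Subtype.ext hp⟩
    · rintro ⟨p, rfl⟩
      exact Subtype.ext ((Submodule.Quotient.mk_eq_zero _).2 ⟨p, rfl⟩)
  have hT' : ∀ a ∈ J, ∀ z : F ⧸ LinearMap.range j, a • z = 0 := by
    intro a ha z
    obtain ⟨z, rfl⟩ := Submodule.mkQ_surjective _ z
    rw [← map_smul]
    exact (Submodule.Quotient.mk_eq_zero _).2 (hT a ha z)
  refine (injective_iff_map_eq_zero _).2 fun z hz => ?_
  have h1 : qR.rTensor M z = 0 := by
    apply (hJ.inj (R.map q).subtype Subtype.val_injective hT')
    rw [map_zero, ← LinearMap.rTensor_comp_apply]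
    have : (R.map q).subtype ∘ₗ qR = q ∘ₗ R.subtype := by ext r; rfl
    rw [this, LinearMap.rTensor_comp_apply, hz, map_zero]
  obtain ⟨w, rfl⟩ := (rTensor_exact M hex hqR z).1 h1
  rw [← LinearMap.rTensor_comp_apply] at hz
  have : R.subtype ∘ₗ jR = j := by ext p; rfl
  rw [this, ← map_zero (j.rTensor M)] at hz
  rw [hj hz, map_zero]

theorem inj_descend {F X : Type u} [AddCommGroup F] [Module A F] [AddCommGroup X] [Module A X]
    (π : F →ₗ[A] X) (hπ : Function.Surjective π) (N : Submodule A X)
    (hR : Function.Injective ((N.comap π).subtype.rTensor M)) :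
    Function.Injective (N.subtype.rTensor M) := by
  let R : Submodule A F := N.comap π
  let ρ : R →ₗ[A] N := π.restrict (fun r hr => hr)
  have hρ : Function.Surjective ρ := fun n => by
    obtain ⟨r, hr⟩ := hπ n.1
    exact ⟨⟨r, by simp [R, hr]⟩, Subtype.ext hr⟩
  let K := LinearMap.ker π
  have hKR : K ≤ R := fun k hk => by
    show π k ∈ N
    rw [LinearMap.mem_ker.1 hk]; exact N.zero_mem
  refine (injective_iff_map_eq_zero _).2 fun z hz => ?_
  obtain ⟨w, rfl⟩ := LinearMap.rTensor_surjective M hρ z
  have h2 : π.rTensor M (R.subtype.rTensor M w) = 0 := by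
    rw [← hz, ← LinearMap.rTensor_comp_apply, ← LinearMap.rTensor_comp_apply]
    rfl
  obtain ⟨k, hk⟩ :=
    (rTensor_exact M (f := K.subtype) (g := π) (LinearMap.exact_subtype_ker_map π) hπ _).1 h2
  have : w = (Submodule.inclusion hKR).rTensor M k := by
    apply hR
    rw [← LinearMap.rTensor_comp_apply, Submodule.subtype_comp_inclusion]
    exact hk.symm
  rw [this, ← LinearMap.rTensor_comp_apply]
  have : ρ ∘ₗ Submodule.inclusion hKR = 0 := by
    ext k; exact LinearMap.mem_ker.1 k.2
  rw [this, LinearMap.rTensor_zero, LinearMap.zero_apply]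

theorem finsupp_inj {B C : Type u} [AddCommGroup B] [Module A B] [AddCommGroup C] [Module A C]
    (f : B →ₗ[A] C) (hf : Function.Injective (f.rTensor M)) (X : Type u) :
    Function.Injective ((Finsupp.mapRange.linearMap (α := X) f).rTensor M) := by
  classical
  have hc : ∀ z, TensorProduct.finsuppLeft A A C M X
        ((Finsupp.mapRange.linearMap (α := X) f).rTensor M z) =
      Finsupp.mapRange.linearMap (f.rTensor M) (TensorProduct.finsuppLeft A A B M X z) := by
    intro z
    induction z using TensorProduct.induction_on with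
    | zero => simp
    | add a b ha hb => simp only [map_add, ha, hb]
    | tmul p m =>
      ext x
      simp [TensorProduct.finsuppLeft_apply_tmul_apply]
  intro a b hab
  apply (TensorProduct.finsuppLeft A A B M X).injective
  refine Finsupp.mapRange_injective _ (map_zero _) hf ?_
  have := congrArg (TensorProduct.finsuppLeft A A C M X) hab
  rw [hc, hc] at this
  exact this

theorem free_layer (J : Ideal A) (hJ : Good M J) {Q : Type u} [AddCommGroup Q] [Module A Q]
    (q : A →ₗ[A] Q) (hq : Function.Surjective q)
    (hinj : Function.Injective ((Submodule.map q J).subtype.rTensor M)) (X : Type u)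
    (R : Submodule A (X →₀ Q)) (hR : ∀ a ∈ J, ∀ x : X, Finsupp.single x (q a) ∈ R) :
    Function.Injective (R.subtype.rTensor M) := by
  refine inj_of_layer hJ (Finsupp.mapRange.linearMap (α := X) (Submodule.map q J).subtype)
    (finsupp_inj _ hinj X) R ?_ ?_
  · intro p
    induction p using Finsupp.induction_linear with
    | zero => simp
    | add a b ha hb => rw [map_add]; exact add_mem ha hb
    | single x c =>
      obtain ⟨c, hc⟩ := c
      obtain ⟨a, ha, rfl⟩ := Submodule.mem_map.1 hc
      rw [Finsupp.mapRange.linearMap_apply, Finsupp.mapRange_single, Submodule.subtype_apply]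
      exact hR a ha x
  · intro a ha z
    induction z using Finsupp.induction_linear with
    | zero => simp
    | add u v hu hv => rw [smul_add]; exact add_mem hu hv
    | single x c =>
      obtain ⟨c, rfl⟩ := hq c
      refine ⟨Finsupp.single x ⟨q (a * c), Submodule.mem_map_of_mem (J.mul_mem_right _ ha)⟩, ?_⟩
      rw [Finsupp.mapRange.linearMap_apply, Finsupp.mapRange_single, Finsupp.smul_single,
        ← map_smul, smul_eq_mul, Submodule.subtype_apply]

/-- the map `(X →₀ Q) → X`, `single x (q a) ↦ a • x` -/
theorem exists_free_cover (I : Ideal A) (X : Type u) [AddCommGroup X] [Module A X]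
    (hX : ∀ a ∈ I, ∀ x : X, a • x = 0) :
    ∃ π : (X →₀ A ⧸ I) →ₗ[A] X, ∀ (x : X) (a : A), π (Finsupp.single x (I.mkQ a)) = a • x := by
  refine ⟨Finsupp.lsum ℕ fun x => Submodule.liftQ I (LinearMap.toSpanSingleton A X x)
    (fun a ha => ?_), fun x a => ?_⟩
  · rw [LinearMap.mem_ker, LinearMap.toSpanSingleton_apply]; exact hX a ha x
  · rw [Finsupp.lsum_single, Submodule.mkQ_apply, Submodule.liftQ_apply,
      LinearMap.toSpanSingleton_apply]

theorem step_one (I J : Ideal A) (hJ : Good M J)
    (hinj : Function.Injective ((Submodule.map I.mkQ J).subtype.rTensor M))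
    (X : Type u) [AddCommGroup X] [Module A X] (hX : ∀ a ∈ I, ∀ x : X, a • x = 0)
    (N : Submodule A X) (hN : ∀ a ∈ J, ∀ x : X, a • x ∈ N) :
    Function.Injective (N.subtype.rTensor M) := by
  obtain ⟨π, hπ⟩ := exists_free_cover I X hX
  refine inj_descend π (fun x => ⟨Finsupp.single x (I.mkQ 1), by rw [hπ, one_smul]⟩) N ?_
  refine free_layer J hJ I.mkQ (Submodule.mkQ_surjective I) hinj X _ fun a ha x => ?_
  rw [Submodule.mem_comap, hπ]
  exact hN a ha x

theorem good_of_pow_le (I J : Ideal A) (hJ : Good M J)
    (hinj : Function.Injective ((Submodule.map I.mkQ J).subtype.rTensor M))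
    {n : ℕ} (hn : J ^ n ≤ I) : Good M I := by
  suffices key : ∀ (k : ℕ) (X : Type u) [AddCommGroup X] [Module A X],
      (∀ a ∈ I, ∀ x : X, a • x = 0) → ∀ N : Submodule A X,
      (∀ a ∈ J ^ k, ∀ x : X, a • x ∈ N) → Function.Injective (N.subtype.rTensor M) by
    intro X _ _ hX N
    exact key n X hX N fun a ha x => by rw [hX a (hn ha) x]; exact N.zero_mem
  intro k
  induction k with
  | zero =>
      intro X _ _ hX N hN
      have e : N = ⊤ := eq_top_iff.2 fun x _ => by
        simpa using hN 1 (by simp) x
      subst e
      exact (LinearEquiv.rTensor M (Submodule.topEquiv : (⊤ : Submodule A X) ≃ₗ[A] X)).injective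
  | succ k ih' =>
      intro X _ _ hX N hN
      let X1 : Submodule A X := N ⊔ J • ⊤
      have h1 : Function.Injective (X1.subtype.rTensor M) :=
        step_one I J hJ hinj X hX X1 fun a ha x =>
          Submodule.mem_sup_right (Submodule.smul_mem_smul ha Submodule.mem_top)
      have h2 : Function.Injective ((Submodule.inclusion (le_sup_left : N ≤ X1)).rTensor M) := by
        -- X1 / N is killed by J ^ k
        let N1 : Submodule A X1 := N.comap X1.subtype
        have hN1 : ∀ a ∈ J ^ k, ∀ x : X1, a • x ∈ N1 := by
          intro a ha x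
          show a • (x : X) ∈ N
          have hx := x.2
          obtain ⟨u, hu, v, hv, huv⟩ := Submodule.mem_sup.1 hx
          rw [← huv, smul_add]
          refine add_mem (N.smul_mem _ hu) ?_
          refine Submodule.smul_induction_on hv (fun b hb y _ => ?_) (fun y y' hy hy' => ?_)
          · rw [← mul_smul]; exact hN _ (by rw [pow_succ]; exact Ideal.mul_mem_mul ha hb) y
          · rw [smul_add]; exact add_mem hy hy'
        have h3 := ih' X1 (fun a ha x => Subtype.ext (hX a ha x.1)) N1 hN1
        let e : N ≃ₗ[A] N1 := (Submodule.comapSubtypeEquivOfLe (le_sup_left : N ≤ X1)).symm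
        have : Submodule.inclusion (le_sup_left : N ≤ X1) = N1.subtype ∘ₗ e.toLinearMap := by
          ext x; rfl
        rw [this, LinearMap.rTensor_comp, LinearMap.coe_comp]
        exact h3.comp (LinearEquiv.rTensor M e).injective
      have : N.subtype = X1.subtype ∘ₗ Submodule.inclusion (le_sup_left : N ≤ X1) := rfl
      rw [this, LinearMap.rTensor_comp, LinearMap.coe_comp]
      exact h1.comp h2

theorem sup_pow_le (I J : Ideal A) (n : ℕ) : (I ⊔ J) ^ (n + 1) ≤ I ⊔ J ^ (n + 1) := by
  induction n with
  | zero => rw [pow_one, pow_one]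
  | succ n ih =>
    rw [pow_succ (I ⊔ J) (n + 1), pow_succ J (n + 1)]
    generalize (I ⊔ J) ^ (n + 1) = P at ih ⊢
    generalize J ^ (n + 1) = Q at ih ⊢
    rw [Ideal.mul_le]
    intro a ha b hb
    obtain ⟨u, hu, v, hv, rfl⟩ := Submodule.mem_sup.1 (ih ha)
    obtain ⟨u', hu', v', hv', rfl⟩ := Submodule.mem_sup.1 hb
    rw [show (u + v) * (u' + v') = (u * (u' + v') + v * u') + v * v' by ring]
    exact Submodule.add_mem_sup (add_mem (I.mul_mem_right _ hu) (I.mul_mem_left _ hu'))
      (Ideal.mul_mem_mul hv hv')

theorem good_induction [IsNoetherianRing A] (J : Ideal A) (hJ : Good M J)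
    (S : Set (Ideal A)) (hS : ∀ p ∈ S, ∃ _ : p.IsPrime, Module.Flat A (LocalizedModule p.primeCompl M)) :
    ∀ (n : ℕ) (I : Ideal A), J ^ n ≤ I → (∀ a ∉ I, ∃ p ∈ S, ∀ t, t * a ∈ I → t ∈ p) → Good M I := by
  intro n
  induction n with
  | zero =>
    intro I hI _ X _ _ hX N
    have hz : Subsingleton (N ⊗[A] M) := by
      have : Subsingleton N := ⟨fun a b => by
        have ha := hX 1 (hI (by simp)) a.1
        have hb := hX 1 (hI (by simp)) b.1
        apply Subtype.ext; simp only [one_smul] at ha hb; rw [ha, hb]⟩
      infer_instance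
    exact fun a b _ => Subsingleton.elim a b
  | succ n ih =>
    intro I hI hIS
    let K : Ideal A := Submodule.colon I (J : Set A)
    have hK : ∀ a, a ∈ K ↔ ∀ j ∈ J, a * j ∈ I := fun a => by
      simp [K, Submodule.mem_colon, smul_eq_mul]
    have hKn : J ^ n ≤ K := fun a ha => (hK a).2 fun j hj =>
      hI (by rw [pow_succ]; exact Ideal.mul_mem_mul ha hj)
    have hIK : I ≤ K := fun a ha => (hK a).2 fun j _ => I.mul_mem_right _ ha
    have hKS : ∀ a ∉ K, ∃ p ∈ S, ∀ t, t * a ∈ K → t ∈ p := by
      intro a ha
      rw [hK] at ha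
      push_neg at ha
      obtain ⟨j, hj, haj⟩ := ha
      obtain ⟨p, hp, hp'⟩ := hIS _ haj
      exact ⟨p, hp, fun t ht => hp' t (by rw [← mul_assoc]; exact (hK _).1 ht j hj)⟩
    have gK : Good M K := ih K hKn hKS
    have gJI : Good M (I ⊔ J) := hJ.mono le_sup_right
    refine good_of_pow_le I (I ⊔ J) gJI ?_ (n := n + 1) ?_
    swap
    · calc (I ⊔ J) ^ (n + 1) ≤ I ⊔ J ^ (n + 1) := sup_pow_le I J n
        _ ≤ I := sup_le le_rfl hI
    let Jb : Submodule A (A ⧸ I) := Submodule.map I.mkQ (I ⊔ J)
    let L : Submodule A (A ⧸ I) := Jb ⊓ Submodule.map I.mkQ K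
    have hL : ∀ a ∈ I ⊔ J, ∀ x : L, a • x = 0 := by
      intro a ha x
      apply Subtype.ext
      obtain ⟨k, hk, hk'⟩ := Submodule.mem_map.1 (Submodule.mem_inf.1 x.2).2
      show a • (x : A ⧸ I) = 0
      rw [← hk', ← map_smul, Submodule.mkQ_apply, Submodule.Quotient.mk_eq_zero, smul_eq_mul, mul_comm]
      obtain ⟨u, hu, v, hv, rfl⟩ := Submodule.mem_sup.1 ha
      rw [mul_add]
      exact add_mem (I.mul_mem_left _ hu) ((hK k).1 hk v hv)
    have hLinj : Function.Injective (L.subtype.rTensor M) := by
      refine (injective_iff_map_eq_zero _).2 fun x hx => ?_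
      let T : Ideal A := LinearMap.ker (LinearMap.toSpanSingleton A _ x)
      have hT : ∀ t, t ∈ T ↔ t • x = 0 := fun t => by simp [T]
      obtain ⟨s, hs⟩ := (IsNoetherian.noetherian T : T.FG)
      -- `l` killed by `T` must vanish
      have hker : ∀ l : L, (∀ t ∈ T, t • l = 0) → l = 0 := by
        intro l hl
        by_contra h0
        obtain ⟨a, ha⟩ := Submodule.mkQ_surjective I l.1
        have haI : a ∉ I := fun h => h0 (Subtype.ext (by
          rw [← ha, ZeroMemClass.coe_zero, Submodule.mkQ_apply, Submodule.Quotient.mk_eq_zero]; exact h))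
        obtain ⟨p, hp, hp'⟩ := hIS a haI
        obtain ⟨_, hflat⟩ := hS p hp
        have hTp : ∀ t ∈ T, t ∈ p := fun t ht => hp' t (by
          have := congrArg Subtype.val (hl t ht)
          rw [SetLike.val_smul, ← ha, ← map_smul, ZeroMemClass.coe_zero, Submodule.mkQ_apply,
            Submodule.Quotient.mk_eq_zero] at this
          exact this)
        let f := LocalizedModule.mkLinearMap p.primeCompl M
        have h1 : f.lTensor L x = 0 := by
          apply Module.Flat.rTensor_preserves_injective_linearMap L.subtype Subtype.val_injective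
          rw [map_zero]
          rw [← LinearMap.comp_apply, LinearMap.rTensor_comp_lTensor, ← LinearMap.lTensor_comp_rTensor,
            LinearMap.comp_apply, hx, map_zero]
        have h1' : AlgebraTensorModule.rTensor A L f (TensorProduct.comm A L M x) = 0 := by
          have hcm : ∀ y, AlgebraTensorModule.rTensor A L f (TensorProduct.comm A L M y) =
              TensorProduct.comm A L _ (f.lTensor L y) := fun y => by
            induction y using TensorProduct.induction_on with
            | zero => simp
            | add a b ha hb => simp only [map_add, ha, hb]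
            | tmul a b => rfl
          rw [hcm, h1, map_zero]
        obtain ⟨c, hc⟩ :=
          (IsLocalizedModule.eq_zero_iff p.primeCompl (AlgebraTensorModule.rTensor A L f)).1 h1'
        refine c.2 (hTp _ ((hT _).2 ((TensorProduct.comm A L M).injective ?_)))
        rw [map_zero, map_smul]; exact hc
      classical
      let g : L →ₗ[A] (s → L) := LinearMap.pi fun t => LinearMap.lsmul A L t.1
      have hg : Function.Injective g := by
        rw [← LinearMap.ker_eq_bot, eq_bot_iff]
        intro l hl
        refine hker l fun t ht => ?_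
        rw [← hs] at ht
        induction ht using Submodule.span_induction with
        | mem t ht => exact congrFun (LinearMap.mem_ker.1 hl) ⟨t, ht⟩
        | zero => simp
        | add a b _ _ ha hb => rw [add_smul, ha, hb, add_zero]
        | smul r a _ ha => rw [smul_eq_mul, mul_smul, ha, smul_zero]
      have : g.rTensor M x = 0 := by
        apply (TensorProduct.piLeft A M (fun _ : s => L)).injective
        rw [map_zero]
        funext t
        have h2 : (LinearMap.lsmul A L t.1).rTensor M x = 0 := by
          have : LinearMap.lsmul A L t.1 = t.1 • LinearMap.id := by ext; simp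
          rw [this, LinearMap.rTensor_smul, LinearMap.rTensor_id]
          exact (hT _).1 (hs ▸ Submodule.subset_span t.2)
        rw [Pi.zero_apply, ← h2]
        generalize x = y
        induction y using TensorProduct.induction_on with
        | zero => simp
        | add a b ha hb => simp only [map_add, Pi.add_apply, ha, hb]
        | tmul l m => simp [g, TensorProduct.piLeft, TensorProduct.smul_tmul']
      have hinj2 := gJI.inj g hg (fun a ha v => funext fun t => hL a ha (v t))
      rw [← map_zero (g.rTensor M)] at this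
      exact hinj2 this
    refine (injective_iff_map_eq_zero _).2 fun x hx => ?_
    let r : (A ⧸ I) →ₗ[A] (A ⧸ K) := Submodule.factor hIK
    let q : Jb →ₗ[A] Jb.map r := r.submoduleMap Jb
    let i : L →ₗ[A] Jb := Submodule.inclusion inf_le_left
    have hex : Function.Exact i q := by
      intro y
      constructor
      · intro h
        have h' : r y.1 = 0 := congrArg Subtype.val h
        refine ⟨⟨y.1, y.2, ?_⟩, rfl⟩
        obtain ⟨a, ha⟩ := Submodule.mkQ_surjective I y.1
        refine ⟨a, ?_, ha⟩
        rw [← ha] at h'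
        exact (Submodule.Quotient.mk_eq_zero _).1 h'
      · rintro ⟨l, rfl⟩
        apply Subtype.ext
        obtain ⟨k, hk, hk'⟩ := Submodule.mem_map.1 (Submodule.mem_inf.1 l.2).2
        show r l.1 = 0
        rw [← hk']
        exact (Submodule.Quotient.mk_eq_zero _).2 hk
    have hKz : ∀ a ∈ K, ∀ z : A ⧸ K, a • z = 0 := by
      intro a ha z
      obtain ⟨z, rfl⟩ := Submodule.mkQ_surjective _ z
      rw [← map_smul]
      exact (Submodule.Quotient.mk_eq_zero _).2 (K.mul_mem_right _ ha)
    have h1 : q.rTensor M x = 0 := by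
      apply gK.inj (Jb.map r).subtype Subtype.val_injective hKz
      rw [map_zero, ← LinearMap.rTensor_comp_apply]
      have : (Jb.map r).subtype ∘ₗ q = r ∘ₗ Jb.subtype := by ext y; rfl
      rw [this, LinearMap.rTensor_comp_apply, hx, map_zero]
    obtain ⟨w, rfl⟩ := (rTensor_exact M hex (r.submoduleMap_surjective Jb) x).1 h1
    rw [← LinearMap.rTensor_comp_apply] at hx
    have : Jb.subtype ∘ₗ i = L.subtype := Submodule.subtype_comp_inclusion _ _ _
    rw [this, ← map_zero (L.subtype.rTensor M)] at hx
    rw [hLinj hx, map_zero]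
end


/-- Let A be a Noetherian ring, J a nilpotent ideal of A and M an A-module. Then M is flat over A if and
only if (A/J) ⊗_A M is flat over A/J and, for every associated prime p of A, the localization M_p is
flat over A_p. -/
theorem result {A : Type u} [CommRing A] [IsNoetherianRing A]
    (J : Ideal A) (hJ : IsNilpotent J) (M : Type u) [AddCommGroup M] [Module A M] :
    Module.Flat A M ↔
      Module.Flat (A ⧸ J) ((A ⧸ J) ⊗[A] M) ∧
        ∀ p : associatedPrimes A A,
          haveI : p.1.IsPrime := IsAssociatedPrime.isPrime p.2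
          Module.Flat (Localization.AtPrime p.1) (LocalizedModule p.1.primeCompl M) := by
  constructor
  · intro h
    refine ⟨Module.Flat.baseChange A (A ⧸ J) M, fun p => ?_⟩
    haveI : p.1.IsPrime := IsAssociatedPrime.isPrime p.2
    infer_instance
  · rintro ⟨h1, h2⟩
    let S : Set (Ideal A) := associatedPrimes A A
    have hS : ∀ p ∈ S, ∃ _ : p.IsPrime, Module.Flat A (LocalizedModule p.primeCompl M) := by
      intro p hp
      haveI := IsAssociatedPrime.isPrime hp
      haveI : Module.Flat (Localization.AtPrime p) (LocalizedModule p.primeCompl M) := h2 ⟨p, hp⟩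
      haveI : Module.Flat A (Localization.AtPrime p) := IsLocalization.flat _ p.primeCompl
      exact ⟨inferInstance, Module.Flat.trans A (Localization.AtPrime p) _⟩
    obtain ⟨n, hn⟩ := hJ
    have hg : Good M (⊥ : Ideal A) := by
      refine good_induction J (good_of_flat_quot J h1) S hS n ⊥ (by rw [hn]; exact bot_le) fun a ha => ?_
      obtain ⟨p, hp, hle⟩ := exists_le_isAssociatedPrime_of_isNoetherianRing A a ha
      exact ⟨p, hp, fun t ht => hle (by simpa [Submodule.mem_colon_singleton] using ht)⟩
    rw [Module.Flat.iff_rTensor_injective']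
    exact fun I => hg A (fun a ha x => by rw [Ideal.mem_bot.1 ha, zero_smul]) I

end Groth.Agent.S2574
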