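import Groth.Statements.S2586
import Mathlib
import Groth.Agent.InjFibre.RegSeq

set_option autoImplicit false
open TensorProduct
universe u
open EGA43 TensorProduct
set_option linter.style.haveILetI false

namespace Groth.Agent.S2586

theorem top_eq_of_surjective {B N V : Type u} [CommRing B] [AddCommGroup N] [Module B N] [AddCommGroup V] [Module B V]
    (f : N →ₗ[B] V) (hf : Function.Surjective f) (I : Ideal B) (h : (⊤ : Submodule B N) = I • ⊤) :
    (⊤ : Submodule B V) = I • ⊤ := by
  have := congrArg (Submodule.map f) h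
  rwa [Submodule.map_smul'', Submodule.map_top, LinearMap.range_eq_top.2 hf] at this

/-- Let A ⟶ B be a ring map with B finitely presented over A, M a finitely presented B-module, q a prime
of B with contraction p, and g₁, …, gₙ elements of q. Suppose the localization M_q is flat over A
and the gᵢ form a regular sequence on the localization at q of the fibre module M ⊗_A κ(p). Then the
gᵢ form a regular sequence on M_q, and for every i the localization at q of M/(g₁, …, gᵢ)M is flat
over A. -/
theorem result {A B : Type u} [CommRing A] [CommRing B] [Algebra A B]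
    [Algebra.FinitePresentation A B] (M : Type u) [AddCommGroup M] [Module B M] [Module A M] [IsScalarTower A B M]
    [Module.FinitePresentation B M] (q : Ideal B) [q.IsPrime] (g : List B) (hg : ∀ b ∈ g, b ∈ q)
    (hflat : Module.Flat A (LocalizedModule q.primeCompl M))
    (hreg : RingTheory.Sequence.IsRegular
      (LocalizedModule q.primeCompl (M ⊗[A] (q.comap (algebraMap A B)).ResidueField)) g) :
    RingTheory.Sequence.IsRegular (LocalizedModule q.primeCompl M) g ∧
      ∀ i ≤ g.length, Module.Flat A
        (LocalizedModule q.primeCompl (M ⧸ (Ideal.span {b | b ∈ g.take i} • (⊤ : Submodule B M)))) := by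
  classical
  let S' := Localization.AtPrime q
  let N := LocalizedModule q.primeCompl M
  let p := q.comap (algebraMap A B)
  let κ := p.ResidueField
  let J : Ideal S' := p.map (algebraMap A S')
  haveI : IsScalarTower A S' N := IsScalarTower.of_algebraMap_smul fun a x => by
    rw [IsScalarTower.algebraMap_apply A B S', algebraMap_smul, algebraMap_smul]
  haveI : Module.FinitePresentation S' N := inferInstance
  let V := N ⧸ J • (⊤ : Submodule S' N)
  have hψ : ∀ a ∈ p.primeCompl, IsUnit (algebraMap A (S' ⧸ J) a) := fun a ha => by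
    rw [IsScalarTower.algebraMap_apply A S' (S' ⧸ J), IsScalarTower.algebraMap_apply A B S']
    exact (IsLocalization.map_units S' (⟨algebraMap A B a, ha⟩ : q.primeCompl)).map _
  let ψ : κ →ₐ[A] S' ⧸ J := Ideal.ResidueField.liftₐ p (Algebra.ofId A _)
    (fun a ha => by
      rw [RingHom.mem_ker, Algebra.ofId_apply,
        IsScalarTower.algebraMap_apply A S' (S' ⧸ J)]
      exact Ideal.Quotient.eq_zero_iff_mem.2 (Ideal.mem_map_of_mem _ ha))
    fun a ha => hψ a ha
  let μ : M →ₗ[B] V := ((J • (⊤ : Submodule S' N)).mkQ.restrictScalars B) ∘ₗ LocalizedModule.mkLinearMap q.primeCompl M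
  let μ' : N →ₗ[B] V := (J • (⊤ : Submodule S' N)).mkQ.restrictScalars B
  have hμ' : Function.Surjective μ' := Submodule.mkQ_surjective _
  let φ : M ⊗[A] κ →ₗ[B] V := TensorProduct.AlgebraTensorModule.lift
    { toFun := fun m =>
        { toFun := fun k => ψ k • μ m
          map_add' := fun a b => by rw [map_add, add_smul]
          map_smul' := fun a k => by rw [map_smul, RingHom.id_apply, smul_assoc] }
      map_add' := fun a b => LinearMap.ext fun k => by simp [smul_add]
      map_smul' := fun c m => LinearMap.ext fun k => by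
        simp only [map_smul, LinearMap.coe_mk, AddHom.coe_mk, LinearMap.smul_apply, RingHom.id_apply]
        exact smul_comm _ _ _ }
  have hφ1 : ∀ m, φ (m ⊗ₜ 1) = μ m := fun m => by simp [φ]
  have hden : ∀ x : M ⊗[A] κ, ∃ d : A, d ∉ p ∧ ∃ m, algebraMap A B d • x = m ⊗ₜ 1 := by
    intro x
    induction x with
    | zero => exact ⟨1, fun h => (Ideal.IsPrime.ne_top inferInstance) ((Ideal.eq_top_iff_one _).2 h), 0, by simp⟩
    | tmul m k =>
      obtain ⟨a, b, hb, rfl⟩ := IsFractionRing.div_surjective (A := A ⧸ p) k
      obtain ⟨a, rfl⟩ := Ideal.Quotient.mk_surjective a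
      obtain ⟨b, rfl⟩ := Ideal.Quotient.mk_surjective b
      refine ⟨b, fun h => nonZeroDivisors.ne_zero hb (Ideal.Quotient.eq_zero_iff_mem.2 h), a • m, ?_⟩
      rw [algebraMap_smul, ← TensorProduct.tmul_smul, TensorProduct.smul_tmul, ← Algebra.algebraMap_eq_smul_one a]
      congr 1
      rw [Algebra.smul_def, IsScalarTower.algebraMap_apply A (A ⧸ p) κ, IsScalarTower.algebraMap_apply A (A ⧸ p) κ,
        Ideal.Quotient.algebraMap_eq]
      exact mul_div_cancel₀ _ (IsFractionRing.to_map_ne_zero_of_mem_nonZeroDivisors hb)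
    | add x y hx hy =>
      obtain ⟨c, hc, m, hm⟩ := hx
      obtain ⟨d, hd, n, hn⟩ := hy
      refine ⟨c * d, fun h => (Ideal.IsPrime.mem_or_mem inferInstance h).elim hc hd, d • m + c • n, ?_⟩
      rw [smul_add, map_mul, TensorProduct.add_tmul, ← algebraMap_smul B d m, ← algebraMap_smul B c n,
        ← TensorProduct.smul_tmul', ← TensorProduct.smul_tmul', ← hm, ← hn, smul_smul, smul_smul, mul_comm]
  haveI hloc : IsLocalizedModule q.primeCompl φ := by
    refine ⟨fun s => (Module.End.isUnit_iff _).2 ?_, fun y => ?_, fun {x y} h => ?_⟩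
    · convert (IsLocalization.map_units S' s).smul_bijective (β := V) using 1
      exact funext fun z => (algebraMap_smul S' (s : B) z).symm
    · obtain ⟨z, rfl⟩ := Submodule.mkQ_surjective _ y
      obtain ⟨⟨m, s⟩, hms⟩ := IsLocalizedModule.surj q.primeCompl (LocalizedModule.mkLinearMap q.primeCompl M) z
      refine ⟨(m ⊗ₜ 1, s), ?_⟩
      rw [hφ1]
      exact congrArg (Submodule.mkQ (J • (⊤ : Submodule S' N))) hms
    · obtain ⟨d, hd, m, hm⟩ := hden (x - y)
      have hm0 : μ m = 0 := by rw [← hφ1, ← hm, map_smul, map_sub, h, sub_self, smul_zero]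
      have h1 : LocalizedModule.mkLinearMap q.primeCompl M m ∈ p • (⊤ : Submodule A N) :=
        (InjFibre.mem_smul_top_iff p _).1 ((Submodule.Quotient.mk_eq_zero _).1 hm0)
      have h2 : ∃ t : q.primeCompl, ∃ z ∈ p • (⊤ : Submodule A M),
          (t : B) • LocalizedModule.mkLinearMap q.primeCompl M m = LocalizedModule.mkLinearMap q.primeCompl M z := by
        generalize LocalizedModule.mkLinearMap q.primeCompl M m = w at h1 ⊢
        refine Submodule.smul_induction_on h1 (fun r hr n _ => ?_) fun a b ha hb => ?_
        · obtain ⟨⟨z, t⟩, hzt⟩ := IsLocalizedModule.surj q.primeCompl (LocalizedModule.mkLinearMap q.primeCompl M) n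
          refine ⟨t, r • z, Submodule.smul_mem_smul hr trivial, ?_⟩
          rw [← algebraMap_smul B r z, map_smul, ← hzt, algebraMap_smul, Submonoid.smul_def, smul_comm]
        · obtain ⟨t, z, hz, e⟩ := ha
          obtain ⟨t', z', hz', e'⟩ := hb
          have hcl : ∀ (c : B) (w : M), w ∈ p • (⊤ : Submodule A M) → c • w ∈ p • (⊤ : Submodule A M) := fun c w hw =>
            (InjFibre.mem_smul_top_iff p _).1 (Submodule.smul_mem _ c ((InjFibre.mem_smul_top_iff p w).2 hw))
          refine ⟨t * t', (t' : B) • z + (t : B) • z', add_mem (hcl _ _ hz) (hcl _ _ hz'), ?_⟩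
          rw [map_add, map_smul, map_smul, ← e, ← e', smul_add, smul_smul, smul_smul, Submonoid.coe_mul, mul_comm (t' : B)]
      obtain ⟨t, z, hz, e⟩ := h2
      rw [← map_smul] at e
      obtain ⟨c, hc⟩ := IsLocalizedModule.exists_of_eq (S := q.primeCompl) e
      have h3 : z ⊗ₜ[A] (1 : κ) = 0 := by
        refine Submodule.smul_induction_on hz (fun r hr n _ => ?_) fun a b ha hb => by
          rw [TensorProduct.add_tmul, ha, hb, add_zero]
        rw [TensorProduct.smul_tmul, ← Algebra.algebraMap_eq_smul_one,
          show algebraMap A κ r = 0 from Ideal.algebraMap_residueField_eq_zero.2 hr, TensorProduct.tmul_zero]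
      refine ⟨c * t * ⟨algebraMap A B d, hd⟩, ?_⟩
      simp only [Submonoid.smul_def, Submonoid.coe_mul] at hc ⊢
      rw [← sub_eq_zero, ← smul_sub, mul_smul, hm, TensorProduct.smul_tmul', mul_smul, hc, ← TensorProduct.smul_tmul', h3,
        smul_zero]
  let eV : LocalizedModule q.primeCompl (M ⊗[A] κ) ≃ₗ[B] V := IsLocalizedModule.iso q.primeCompl φ
  have hV : RingTheory.Sequence.IsRegular V g := (eV.isRegular_congr g).1 hreg
  let g' := g.map (algebraMap B S')
  haveI : Module.Flat A N := hflat
  obtain ⟨hw, hfl⟩ := InjFibre.regSeq_atPrime q N g'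
    ((RingTheory.Sequence.isWeaklyRegular_map_algebraMap_iff S' V g).2 hV.toIsWeaklyRegular)
  refine ⟨⟨(RingTheory.Sequence.isWeaklyRegular_map_algebraMap_iff S' N g).1 hw, fun htop => hV.top_ne_smul ?_⟩, fun i hi => ?_⟩
  · exact top_eq_of_surjective μ' hμ' _ htop
  · let I : Ideal B := Ideal.span {b | b ∈ g.take i}
    haveI := hfl i (by simpa [g'] using hi)
    let P : Submodule B M := I • ⊤
    have hP : P.localized' S' q.primeCompl (LocalizedModule.mkLinearMap q.primeCompl M) =
        Ideal.ofList (g'.take i) • (⊤ : Submodule S' N) := by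
      have h1 : Ideal.ofList (g'.take i) = I.map (algebraMap B S') := by
        rw [← List.map_take, ← Ideal.map_ofList]
      simp only [P, Submodule.localized'_smul, Submodule.localized'_top]
      rw [h1, Submodule.localized'_eq_span]
      rfl
    exact Module.Flat.of_linearEquiv
      ((IsLocalizedModule.iso q.primeCompl (P.toLocalizedQuotient' S' q.primeCompl (LocalizedModule.mkLinearMap q.primeCompl M))).restrictScalars A ≪≫ₗ
        (Submodule.quotEquivOfEq _ _ hP).restrictScalars A)

end Groth.Agent.S2586
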