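import Groth.Statements.S2591
import Groth.Agent.FlatModBC.StratRing

set_option autoImplicit false
open TensorProduct
universe u
set_option linter.style.haveILetI false
set_option backward.isDefEq.respectTransparency false
open EGA43

namespace Groth.Agent.S2591

/-- Let A be a commutative ring, B a finitely presented A-algebra and M a finitely presented B-module
which is flat over A. Then there are finitely many elements f₁, …, fₙ of A generating the unit ideal
such that, for each i < n, writing A' for the localization of A at f_{i+1} modulo the ideal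
generated by f₁, …, fᵢ, the module A' ⊗_A M is free over A'. -/
theorem result {A B : Type u} [CommRing A] [CommRing B] [Algebra A B]
    [Algebra.FinitePresentation A B] (M : Type u) [AddCommGroup M] [Module B M] [Module A M] [IsScalarTower A B M]
    [Module.FinitePresentation B M] [Module.Flat A M] :
    ∃ l : List A, Ideal.span {a | a ∈ l} = ⊤ ∧
      ∀ (i : ℕ) (hi : i < l.length),
        letI J : Ideal (Localization.Away l[i]) :=
          (Ideal.span {a | a ∈ l.take i}).map (algebraMap A (Localization.Away l[i]))
        Module.Free (Localization.Away l[i] ⧸ J) ((Localization.Away l[i] ⧸ J) ⊗[A] M) := by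
  obtain ⟨l, J, hl, -, hfg, hrad, -, hfree⟩ :=
    FlatModBC.exists_strat (A := A) (fun _ : Unit => B) (fun _ : Unit => M)
  refine ⟨l, hl, fun i hi => ?_⟩
  let L := Localization.Away l[i]
  let I : Ideal L := (Ideal.span {a | a ∈ l.take i}).map (algebraMap A L)
  let C := L ⧸ I
  let N : Ideal C := (J i).map (algebraMap A C)
  have hnil : IsNilpotent N := by
    rw [Ideal.FG.isNilpotent_iff_le_nilradical (Ideal.FG.map (hfg i) _)]
    refine (Ideal.map_mono (hrad i)).trans ((Ideal.map_radical_le _).trans (Ideal.radical_mono ?_))
    rw [Ideal.map_le_iff_le_comap]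
    intro a ha
    rw [Ideal.mem_comap, IsScalarTower.algebraMap_apply A L C]
    exact Ideal.mem_bot.2 (Ideal.Quotient.eq_zero_iff_mem.2 (Ideal.mem_map_of_mem _ ha))
  refine FlatModBC.free_of_flat_of_nilpotent N hnil (C ⊗[A] M) ?_
  have hu : IsUnit ((algebraMap A (C ⧸ N) : A →+* C ⧸ N) l[i]) := by
    rw [IsScalarTower.algebraMap_apply A L (C ⧸ N)]
    exact (IsLocalization.Away.algebraMap_isUnit l[i]).map _
  haveI : Module.Free (C ⧸ N) ((C ⧸ N) ⊗[A] M) := hfree i hi () (C ⧸ N) (by
    rw [IsScalarTower.algebraMap_eq A C (C ⧸ N), ← Ideal.map_map]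
    exact Ideal.map_quotient_self N) hu
  exact Module.Free.of_equiv (AlgebraTensorModule.cancelBaseChange A C (C ⧸ N) (C ⧸ N) M).symm

end Groth.Agent.S2591
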