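import Groth.Statements.S2593
import Groth.Agent.Unibranch.Chains

set_option autoImplicit false
open CategoryTheory AlgebraicGeometry
universe u
open EGA43

namespace Groth.Agent.S2593

/-- Chevalley's criterion for universal openness: let Y be a locally Noetherian scheme all of whose
local rings are geometrically unibranch and f : X ⟶ Y a morphism locally of finite type which is
equidimensional at every point of X. Then f is universally open. (The published statement has an
arbitrary base; a locally Noetherian base is assumed here, and without it the statement fails, e.g.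
for the inclusion of a non-open closed point of the spectrum of an infinite product of copies of
𝔽₂.) -/
theorem result {X Y : Scheme.{u}} [IsLocallyNoetherian Y]
    (hY : ∀ y : Y, CAlg2.IsGeomUnibranch (Y.presheaf.stalk y)) (f : X ⟶ Y) [LocallyOfFiniteType f]
    (h : ∀ x : X, EGA43.IsEquidimAt f x) : UniversallyOpen f := by
  rw [Groth.Agent.GoingDown.universallyOpen_iff_forall_isUnivOpenAt]
  intro x
  obtain ⟨e, U, hxU, hdom, hdim⟩ := h x
  have : QuasiSober ↥U := U.2.isOpenEmbedding_subtypeVal.quasiSober
  let Z := irreducibleComponent (⟨x, hxU⟩ : U)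
  obtain ⟨ζ, hζ⟩ : ∃ ζ, IsGenericPoint ζ Z :=
    QuasiSober.sober isIrreducible_irreducibleComponent isClosed_irreducibleComponent
  have hZ := irreducibleComponent_mem_irreducibleComponents (⟨x, hxU⟩ : U)
  obtain ⟨W, hW, hyW, hWZ⟩ := hdom Z hZ
  have hζmax : ∀ z : U, z ⤳ ζ → z = ζ := fun z hz ↦ by
    have h1 : Z ⊆ closure {z} := by
      rw [← hζ.def]
      exact closure_minimal (Set.singleton_subset_iff.mpr hz.mem_closure) isClosed_closure
    have h2 := hZ.2 isIrreducible_singleton.closure h1
    exact ((hζ.specializes (h2 (subset_closure rfl))).antisymm hz).eq.symm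
  have hgenW : IsGenericPoint (f (U.ι ζ)) W := by
    have := hζ.image (U.ι ≫ f).continuous
    have h2 : IsGenericPoint ((U.ι ≫ f) ζ) W := by
      rw [← hWZ]
      exact this
    rw [Scheme.Hom.comp_apply] at h2
    exact h2
  have hζx : U.ι ζ ⤳ x := (hζ.specializes mem_irreducibleComponent).map U.ι.continuous
  have hη := Groth.Agent.Unibranch.exists_opens_forall_specializes (hY (f x))
    (hgenW.specializes hyW) (fun z hz ↦ by
      have h1 : W ⊆ closure {z} := by
        rw [← hgenW.def]
        exact closure_minimal (Set.singleton_subset_iff.mpr hz.mem_closure) isClosed_closure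
      have h2 := hW.2 isIrreducible_singleton.closure h1
      exact ((hgenW.specializes (h2 (subset_closure rfl))).antisymm hz).eq.symm)
    (Groth.Agent.Unibranch.exists_opens_finite_components _)
  refine Groth.Agent.Unibranch.isUnivOpenAt_of_chains f x (hY _) e (U.ι ζ) hζx hη
    ⟨U, hxU, fun k c hc hc' ↦
      Groth.Agent.Unibranch.chain_bound_of_fibre_components f U (f x) (hdim ⟨x, hxU⟩) c hc hc'⟩
    (Groth.Agent.Unibranch.exists_chain_of_fibre_component f U ζ hζmax (hdim ζ))

end Groth.Agent.S2593
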