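import Groth.Statements.S2594
import Groth.Agent.EquidimPt.Qf

set_option autoImplicit false
open CategoryTheory AlgebraicGeometry
universe u
open EGA43

namespace Groth.Agent.S2594

open CategoryTheory.Limits in
/-- Let f : X ⟶ Y be locally of finite type and equidimensional at a point x, and g : Y' ⟶ Y a flat
morphism with Y' locally Noetherian (the source states this for arbitrary Y', but its proof reduces
to the case where every irreducible component passes through the point, which needs the irreducible
components to be locally finite). Then the base change X ×_Y Y' ⟶ Y' is equidimensional at every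
point lying over x. -/
theorem result {X Y Y' : Scheme.{u}} (f : X ⟶ Y) [LocallyOfFiniteType f] (g : Y' ⟶ Y) [Flat g] [IsLocallyNoetherian Y']
    (x : X) (h : EGA43.IsEquidimAt f x) (x' : ↥(pullback f g)) (hx' : (pullback.fst f g).base x' = x) :
    EGA43.IsEquidimAt (pullback.snd f g) x' := by
  open Groth.Agent.EquidimPt Groth.Agent.Unibranch in
  obtain ⟨e, U, gU, hxU, hgU, hqf, hmax⟩ := exists_quasiFinite_of_isEquidimAt f x h
  haveI := hqf
  let σ := ULift.{u} (Fin e)
  let p₁ := pullback.fst f g
  let p₂ := pullback.snd f g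
  haveI : Flat p₁ := MorphismProperty.pullback_fst f g inferInstance
  haveI : IsLocallyNoetherian (pullback f g) := LocallyOfFiniteType.isLocallyNoetherian p₂
  let U' : (pullback f g).Opens := p₁ ⁻¹ᵁ U
  have hA := (AffineSpace.isPullback_map (n := σ) g).flip
  let q : (U' : Scheme.{u}) ⟶ (U : Scheme.{u}) := p₁ ∣_ U
  have hq : IsPullback q U'.ι U.ι p₁ := isPullback_morphismRestrict p₁ U
  let g' : (U' : Scheme.{u}) ⟶ AffineSpace σ Y' := hA.lift (U'.ι ≫ p₂) (q ≫ gU) (by
    rw [Category.assoc, Category.assoc]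
    erw [hgU]
    rw [reassoc_of% hq.w, ← pullback.condition])
  have hg' : g' ≫ (AffineSpace σ Y' ↘ Y') = U'.ι ≫ p₂ := hA.lift_fst _ _ _
  have hg'' : g' ≫ AffineSpace.map σ g = q ≫ gU := hA.lift_snd _ _ _
  -- the square over the affine spaces is cartesian
  have hbig : IsPullback q (U'.ι ≫ p₂) (U.ι ≫ f) g :=
    hq.paste_vert (IsPullback.of_hasPullback f g)
  have hsq : IsPullback q g' gU (AffineSpace.map σ g) :=
    IsPullback.of_bot (v₂₁ := AffineSpace σ Y' ↘ Y') (v₂₂ := AffineSpace σ Y ↘ Y) (h₃₁ := g)
      (by rw [hg', hgU]; exact hbig) hg''.symm hA.flip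
  haveI : LocallyQuasiFinite g' := MorphismProperty.of_isPullback hsq hqf
  haveI : Flat q := inferInstanceAs (Flat (p₁ ∣_ U))
  refine isEquidimAt_of_quasiFinite p₂ x' U' g' (by show p₁ x' ∈ U; rw [hx']; exact hxU) hg'
    fun ζ hζ P hP => ?_
  have h0 : IsMaxPt (q ζ) := fun z hz => by
    obtain ⟨w, hw, hwz⟩ := Flat.generalizingMap q hz
    rw [← hwz, hζ w hw]
  have hφ : AffineSpace.map σ g P = gU (q ζ) := by
    refine hmax _ h0 _ ?_
    rw [← Scheme.Hom.comp_apply, ← hg'', Scheme.Hom.comp_apply]
    exact hP.map (AffineSpace.map σ g).continuous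
  obtain ⟨w, hw, hwP⟩ := exists_specializes_of_isPullback hsq ζ hP hφ
  rw [← hwP, hζ w hw]

end Groth.Agent.S2594
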