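import Groth.Statements.S5761
-- import your own Groth.Agent.* helpers here
import Groth.Agent.EGA41CM.Localize

set_option autoImplicit false
universe u
open EGA41

namespace Groth.Agent.S5761

/-- Let A be a Noetherian local ring, M a nonzero finitely generated Cohen-Macaulay A-module and p a
prime ideal in the support of M. Then the localization M_p is a Cohen-Macaulay module over A_p. -/
theorem result (A : Type u) [CommRing A] [IsLocalRing A]
    [IsNoetherianRing A] (M : Type u) [AddCommGroup M] [Module A M] [Module.Finite A M]
    (hM : LocCoh.IsCohenMacaulayModule A M) (p : PrimeSpectrum A) (hp : p ∈ Module.support A M) :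
    LocCoh.IsCohenMacaulayModule (Localization.AtPrime p.asIdeal)
      (LocalizedModule p.asIdeal.primeCompl M) := by
  obtain ⟨r, xs, h1, h2, h3, h4⟩ := Groth.Agent.EGA41CM.exists_cut hM p hp
  exact (Groth.Agent.EGA41CM.localized hM p h1 h2 h3 h4 hp).2

end Groth.Agent.S5761
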