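import Groth.Statements.S9440
import Groth.Agent.Nagata.AnalUnram
import Groth.Agent.Nagata.Japanese
import Groth.Agent.S4562
import Mathlib.FieldTheory.PurelyInseparable.Exponent

set_option autoImplicit false
universe u
open CAlg
attribute [local instance] FractionRing.liftAlgebra

namespace Groth.Agent.S9440

/-- (1) ⇔ (3): a Noetherian local ring R is a Nagata ring if and only if for every finite local
homomorphism R → S of local rings with S a domain, the completion of S is reduced. -/
theorem result (R : Type u) [CommRing R]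
    [IsLocalRing R] [IsNoetherianRing R] :
    CAlg.IsNagata R ↔ ∀ (S : Type u) [CommRing S] [IsDomain S] [IsLocalRing S] [Algebra R S]
      [IsLocalHom (algebraMap R S)] [Module.Finite R S],
      IsReduced (AdicCompletion (IsLocalRing.maximalIdeal S) S) := by
  classical
  refine ⟨fun hR S _ _ _ _ _ _ => ?_, fun h => ⟨inferInstance, fun p hp => ?_⟩⟩
  · have h1 := Nagata.isReduced_completion_jacobson hR S
    rwa [IsLocalRing.jacobson_eq_maximalIdeal ⊥ bot_ne_top] at h1
  let A := R ⧸ p
  haveI : Nontrivial A := Ideal.Quotient.nontrivial_iff.mpr hp.ne_top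
  haveI : IsLocalRing A := IsLocalRing.of_surjective' (Ideal.Quotient.mk p) Ideal.Quotient.mk_surjective
  refine S4562.result A fun K' _ _ _ _ hfd hpi => ?_
  let K := FractionRing A
  haveI : FiniteDimensional K K' := hfd
  haveI : IsPurelyInseparable K K' := hpi
  obtain ⟨c, hc⟩ := ExpChar.exists K
  haveI : ExpChar K' c := expChar_of_injective_algebraMap (algebraMap K K').injective c
  let e := IsPurelyInseparable.exponent K K'
  let q := c ^ e
  have hq : 0 < q := pow_pos (expChar_pos K c) e
  have hAK' : Function.Injective (algebraMap A K') := by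
    rw [IsScalarTower.algebraMap_eq A K K']
    exact (algebraMap K K').injective.comp (IsFractionRing.injective A K)
  choose w hw using IsPurelyInseparable.exponent_def' K (L := K') c
  let b := Module.finBasis K K'
  choose a s hs has using fun i => IsFractionRing.div_surjective A (w (b i))
  have hs0 : ∀ i, algebraMap A K' (s i) ≠ 0 := fun i h0 =>
    nonZeroDivisors.ne_zero (hs i) (hAK' (h0.trans (map_zero _).symm))
  let g : Fin (Module.finrank K K') → K' := fun i => algebraMap A K' (s i) * b i
  have hgq : ∀ i, g i ^ q ∈ (algebraMap A K').range := fun i => by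
    refine ⟨s i ^ (q - 1) * a i, ?_⟩
    rw [mul_pow, ← hw (b i), ← has i, map_div₀, ← IsScalarTower.algebraMap_apply, ← IsScalarTower.algebraMap_apply,
      map_mul, map_pow]
    have := hs0 i
    rw [show (algebraMap A K') (s i) ^ q = (algebraMap A K') (s i) ^ (q - 1) * algebraMap A K' (s i) by
      rw [← pow_succ, Nat.sub_add_cancel hq]]
    field_simp
  let B := Algebra.adjoin A (Set.range g)
  haveI : Module.Finite A B := Module.Finite.iff_fg.mpr (fg_adjoin_of_finite (Set.finite_range g) fun z hz => by
    obtain ⟨i, rfl⟩ := hz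
    obtain ⟨r, hr⟩ := hgq i
    exact IsIntegral.of_pow hq (hr ▸ isIntegral_algebraMap))
  have hBq : ∀ z : B, (z : K') ^ q ∈ (algebraMap A K').range := by
    rintro ⟨z, hz⟩
    induction hz using Algebra.adjoin_induction with
    | mem w hw => obtain ⟨i, rfl⟩ := hw; exact hgq i
    | algebraMap r => exact ⟨r ^ q, map_pow _ r q⟩
    | add y w _ _ hy hw => rw [add_pow_expChar_pow]; exact add_mem hy hw
    | mul y w _ _ hy hw => rw [mul_pow]; exact mul_mem hy hw
  haveI : Algebra.IsIntegral A B := Algebra.IsIntegral.of_finite A B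
  have huniq : ∀ M : Ideal B, M.IsMaximal → ∀ z : B, z ∈ M ↔
      ∃ r ∈ IsLocalRing.maximalIdeal A, algebraMap A K' r = (z : K') ^ q := fun M hM z => by
    have hm : M.comap (algebraMap A B) = IsLocalRing.maximalIdeal A :=
      IsLocalRing.eq_maximalIdeal (Ideal.isMaximal_comap_of_isIntegral_of_isMaximal (R := A) M)
    obtain ⟨r, hr⟩ := hBq z
    have hrz : algebraMap A B r = z ^ q := Subtype.ext hr
    constructor
    · intro hz
      refine ⟨r, hm.le ?_, hr⟩
      rw [Ideal.mem_comap, hrz]
      exact M.pow_mem_of_mem hz q hq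
    · rintro ⟨r', hr', hr'z⟩
      obtain rfl : r' = r := hAK' (hr'z.trans hr.symm)
      refine hM.isPrime.mem_of_pow_mem q ?_
      rw [← hrz]
      exact hm.ge hr'
  haveI : IsLocalRing B := IsLocalRing.of_unique_max_ideal (by
    obtain ⟨M, hM⟩ := Ideal.exists_maximal B
    exact ⟨M, hM, fun N hN => Ideal.ext fun z => (huniq N hN z).trans (huniq M hM z).symm⟩)
  letI : Algebra R B := ((algebraMap A B).comp (Ideal.Quotient.mk p)).toAlgebra
  haveI : IsScalarTower R A B := IsScalarTower.of_algebraMap_eq fun _ => rfl
  haveI : Module.Finite R B := Module.Finite.trans A B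
  haveI : Algebra.IsIntegral R B := Algebra.IsIntegral.of_finite R B
  haveI : IsLocalHom (algebraMap R B) := ⟨fun r hr => by
    by_contra hr'
    have hm := IsLocalRing.eq_maximalIdeal
      (Ideal.isMaximal_comap_of_isIntegral_of_isMaximal (R := R) (IsLocalRing.maximalIdeal B))
    exact hm.ge hr' hr⟩
  haveI : IsNoetherianRing B := IsNoetherianRing.of_finite A B
  haveI : IsFractionRing B K' := by
    haveI : FaithfulSMul B K' := (faithfulSMul_iff_algebraMap_injective _ _).mpr Subtype.val_injective
    refine IsFractionRing.of_field B K' fun z => ?_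
    rw [← b.sum_repr z]
    obtain ⟨d, hd⟩ := IsLocalization.exist_integer_multiples (nonZeroDivisors A) Finset.univ
      (fun i => b.repr z i / algebraMap A K (s i))
    choose m hm using fun i => hd i (Finset.mem_univ i)
    refine ⟨∑ i, algebraMap A B (m i) * ⟨g i, Algebra.subset_adjoin ⟨i, rfl⟩⟩, algebraMap A B d, ?_⟩
    have hd0 : algebraMap A K' (d : A) ≠ 0 := fun h0 =>
      nonZeroDivisors.coe_ne_zero d (hAK' (h0.trans (map_zero _).symm))
    rw [map_sum, ← IsScalarTower.algebraMap_apply A B K', Finset.sum_div]
    refine Finset.sum_congr rfl fun i _ => ?_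
    rw [map_mul, ← IsScalarTower.algebraMap_apply A B K', show algebraMap B K' ⟨g i, _⟩ = g i from rfl, eq_div_iff hd0,
      IsScalarTower.algebraMap_apply A K K' (m i), hm i, Algebra.smul_def, Algebra.smul_def, map_mul, map_div₀,
      ← IsScalarTower.algebraMap_apply A K K', ← IsScalarTower.algebraMap_apply A K K']
    have := hs0 i
    simp only [g]
    field_simp
  haveI := Nagata.finite_closure_of_reduced (R := B) (h B) (Nagata.isNagata_of_complete _) K'
  exact Nagata.finite_closure_of_tower (B1 := B) inferInstance

end Groth.Agent.S9440
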