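import Groth.Statements.S5040
-- import your own Groth.Agent.* helpers here
import Groth.Agent.GRingCpl.FormalCat
import Groth.Agent.Hensel.HenselizationMore

set_option autoImplicit false
universe u
open Hensel

namespace Groth.Agent.S5040

/-- Let R be a Noetherian local ring with henselization S. If R is formally catenary (the completion of
R/p is equidimensional for every prime ideal p), then S is formally catenary. -/
theorem result (R S : Type u) [CommRing R] [IsLocalRing R] [IsNoetherianRing R]
    [CommRing S] [IsLocalRing S] [Algebra R S] [IsLocalHom (algebraMap R S)] [Hensel.IsHenselization R S]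
    (h : EGA4.IsFormallyCatenary R) : EGA4.IsFormallyCatenary S := by
  haveI : IsNoetherianRing S := (Groth.Agent.Hensel.henselization_isNoetherianRing_iff R S).1 inferInstance
  haveI := Groth.Agent.Hensel.henselization_flat R S
  exact Groth.Agent.GRingCpl.isFormallyCatenary_henselization (Groth.Agent.Hensel.henselization_map_maximalIdeal R S)
    (Groth.Agent.Hensel.henselization_exists_sub_mem R S) (Groth.Agent.Hensel.henselization_unramifiedFibres R S) h

end Groth.Agent.S5040
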