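import Groth.Statements.S2903
import Groth.Agent.EtDD.Proper
import Groth.Agent.FpqcDescent.Sep
import Groth.Agent.SubDescent.Basic
import Mathlib.AlgebraicGeometry.ZariskisMainTheorem

set_option autoImplicit false
open CategoryTheory CategoryTheory.Limits AlgebraicGeometry Opposite
universe u
open SGA1

namespace Groth.Agent.S2903

/-- Let g : S' ⟶ S be proper, surjective and locally of finite presentation. Then every descent datum
relative to g whose underlying scheme is a finite etale cover of S' is isomorphic to the canonical
descent datum of a finite etale cover of S. (Descent data relative to g are taken in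
functor-of-points form.) -/
theorem result {S' S : Scheme.{u}} (g : S' ⟶ S) [IsProper g] [Surjective g]
    [LocallyOfFinitePresentation g] (D : Desc.SchDD g) [IsFinite D.obj.hom] [Etale D.obj.hom] :
    ∃ U : Over S, IsFinite U.hom ∧ Etale U.hom ∧ Nonempty ((Desc.toDD g).obj U ≅ D) := by
  have hg := Purity.univSubmersive_of_universallyClosed g
  obtain ⟨U, hq, hs, he, ⟨e⟩⟩ := EtDD.exists_effective_qc hg
    (EtDD.hasSecAll_proper g D inferInstance inferInstance)
  haveI : IsIso e.hom.hom := ⟨e.inv.hom, congrArg (fun f => Desc.SchDD.Hom.hom f) e.hom_inv_id,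
    congrArg (fun f => Desc.SchDD.Hom.hom f) e.inv_hom_id⟩
  haveI : IsIso e.hom.hom.left := inferInstanceAs (IsIso ((Over.forget _).map e.hom.hom))
  haveI : IsFinite (pullback.fst g U.hom) := by
    rw [show pullback.fst g U.hom = e.hom.hom.left ≫ D.obj.hom from (Over.w e.hom.hom).symm]
    exact (MorphismProperty.cancel_left_of_respectsIso @IsFinite e.hom.hom.left D.obj.hom).2 ‹IsFinite D.obj.hom›
  haveI : UniversallyClosed U.hom :=
    SubDescent.universallyClosed_of_isPullback (IsPullback.of_hasPullback g U.hom).flip hg
  haveI : IsProper U.hom := ⟨⟩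
  haveI : LocallyQuasiFinite U.hom := FpqcDescent.locallyQuasiFinite_of_etale U.hom
  exact ⟨U, IsFinite.of_isProper_of_locallyQuasiFinite U.hom, he, ⟨e⟩⟩

end Groth.Agent.S2903
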