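import Groth.Statements.S2906
import Groth.Agent.SchDescent.QuasiAffine
import Groth.Agent.QA.Props
import Groth.Agent.FpqcDescent.Sep
import Mathlib.AlgebraicGeometry.Morphisms.LocalFlatDescent

set_option autoImplicit false
open CategoryTheory CategoryTheory.Limits AlgebraicGeometry Opposite
universe u
open SGA1

namespace Groth.Agent.S2906

/-- Let g : S' ⟶ S be flat, surjective and quasi-compact. Then every descent datum relative to g whose
underlying scheme is etale, separated and quasi-compact over S' is isomorphic to the canonical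
descent datum of a scheme etale, separated and quasi-compact over S. (Descent data relative to g are
taken in functor-of-points form.) -/
theorem result {S' S : Scheme.{u}} (g : S' ⟶ S) [Flat g] [Surjective g] [QuasiCompact g]
    (D : Desc.SchDD g) [QuasiCompact D.obj.hom] [IsSeparated D.obj.hom] [Etale D.obj.hom] :
    ∃ U : Over S, QuasiCompact U.hom ∧ IsSeparated U.hom ∧ Etale U.hom ∧ Nonempty ((Desc.toDD g).obj U ≅ D) := by
  have := Groth.Agent.FpqcDescent.locallyQuasiFinite_of_etale D.obj.hom
  have hqa := Groth.Agent.QA.of_locallyQuasiFinite D.obj.hom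
  obtain ⟨U, ⟨e⟩⟩ := Groth.Agent.SchDescent.effective_of_isQuasiAffine D hqa
  have hQ : (@Surjective ⊓ @Flat ⊓ @QuasiCompact : MorphismProperty Scheme.{u}) g :=
    ⟨⟨‹_›, ‹_›⟩, ‹_›⟩
  have : IsIso e.hom.hom := ⟨e.inv.hom, congrArg (fun f ↦ Desc.SchDD.Hom.hom f) e.hom_inv_id,
    congrArg (fun f ↦ Desc.SchDD.Hom.hom f) e.inv_hom_id⟩
  have : IsIso e.hom.hom.left := inferInstanceAs (IsIso ((Over.forget _).map e.hom.hom))
  have hw : e.hom.hom.left ≫ D.obj.hom = pullback.fst g U.hom := Over.w e.hom.hom
  have hq : QuasiCompact (pullback.fst g U.hom) := hw ▸ (inferInstance : QuasiCompact (e.hom.hom.left ≫ D.obj.hom))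
  have hs : IsSeparated (pullback.fst g U.hom) := hw ▸ (inferInstance : IsSeparated (e.hom.hom.left ≫ D.obj.hom))
  have he : Etale (pullback.fst g U.hom) := hw ▸ (inferInstance : Etale (e.hom.hom.left ≫ D.obj.hom))
  have hd : IsSeparated U.hom := by
    have : MorphismProperty.DescendsAlong @IsSeparated
        (@Surjective ⊓ @Flat ⊓ @QuasiCompact : MorphismProperty Scheme.{u}) := inferInstance
    exact MorphismProperty.of_pullback_fst_of_descendsAlong hQ hs
  exact ⟨U, MorphismProperty.of_pullback_fst_of_descendsAlong hQ hq, hd,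
    MorphismProperty.of_pullback_fst_of_descendsAlong hQ he, ⟨e⟩⟩

end Groth.Agent.S2906
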