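import Groth.Statements.S2917
import Groth.Agent.SubDescent.Basic

set_option autoImplicit false
open CategoryTheory CategoryTheory.Limits AlgebraicGeometry Opposite
universe u
open SGA1

namespace Groth.Agent.S2917

/-- Let g : S' ⟶ S be universally submersive, f : X ⟶ Y a morphism of S-schemes (Y ⟶ S the structure
map) and f' its base change along S' ⟶ S, realised as X ×_S S' ⟶ Y ×_S S'. If f' is open (resp.
closed) then so is f; if f' is universally open (resp. universally closed, resp. separated) then so
is f; and if moreover g is quasi-compact and f locally of finite type, then f is proper as soon as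
f' is. -/
theorem result {S' S X Y : Scheme.{u}} (g : S' ⟶ S) (hg : SGA1.UnivSubmersive g)
    (f : X ⟶ Y) (q : Y ⟶ S) :
    (IsOpenMap (pullback.map (f ≫ q) g q g f (𝟙 S') (𝟙 S) (Category.comp_id _) ((Category.comp_id _).trans (Category.id_comp _).symm)).base → IsOpenMap f.base) ∧
    (IsClosedMap (pullback.map (f ≫ q) g q g f (𝟙 S') (𝟙 S) (Category.comp_id _) ((Category.comp_id _).trans (Category.id_comp _).symm)).base → IsClosedMap f.base) ∧
    (UniversallyOpen (pullback.map (f ≫ q) g q g f (𝟙 S') (𝟙 S) (Category.comp_id _) ((Category.comp_id _).trans (Category.id_comp _).symm)) → UniversallyOpen f) ∧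
    (UniversallyClosed (pullback.map (f ≫ q) g q g f (𝟙 S') (𝟙 S) (Category.comp_id _) ((Category.comp_id _).trans (Category.id_comp _).symm)) → UniversallyClosed f) ∧
    (IsSeparated (pullback.map (f ≫ q) g q g f (𝟙 S') (𝟙 S) (Category.comp_id _) ((Category.comp_id _).trans (Category.id_comp _).symm)) → IsSeparated f) ∧
    (QuasiCompact g → LocallyOfFiniteType f →
      IsProper (pullback.map (f ≫ q) g q g f (𝟙 S') (𝟙 S) (Category.comp_id _) ((Category.comp_id _).trans (Category.id_comp _).symm)) → IsProper f) := by
  have hw : pullback.fst (f ≫ q) g ≫ f = pullback.map (f ≫ q) g q g f (𝟙 S') (𝟙 S)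
      (Category.comp_id _) ((Category.comp_id _).trans (Category.id_comp _).symm) ≫
        pullback.fst q g := (Groth.Agent.SubDescent.map_fst ..).symm
  have H : IsPullback (pullback.fst (f ≫ q) g) (pullback.map (f ≫ q) g q g f (𝟙 S') (𝟙 S)
      (Category.comp_id _) ((Category.comp_id _).trans (Category.id_comp _).symm)) f
      (pullback.fst q g) := by
    refine IsPullback.of_bot ?_ hw (IsPullback.of_hasPullback q g)
    simpa using IsPullback.of_hasPullback (f ≫ q) g
  have hh : SGA1.UnivSubmersive (pullback.fst q g) :=
    (MorphismProperty.universally_isStableUnderBaseChange _).of_isPullback (IsPullback.of_hasPullback q g).flip hg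
  have hq := Groth.Agent.SubDescent.isQuotientMap_of_univSubmersive hg
    (IsPullback.of_hasPullback q g)
  refine ⟨Groth.Agent.SubDescent.isOpenMap_of_isPullback H hq,
    Groth.Agent.SubDescent.isClosedMap_of_isPullback H hq,
    fun _ => Groth.Agent.SubDescent.universallyOpen_of_isPullback H hh,
    fun _ => Groth.Agent.SubDescent.universallyClosed_of_isPullback H hh,
    fun _ => Groth.Agent.SubDescent.isSeparated_of_isPullback H hh, fun _ _ _ => ?_⟩
  have := Groth.Agent.SubDescent.universallyClosed_of_isPullback H hh
  have := Groth.Agent.SubDescent.isSeparated_of_isPullback H hh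
  exact {}

end Groth.Agent.S2917
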