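import Groth.Statements.S2921
import Groth.Agent.SegreDim.Noether
import Mathlib.RingTheory.RegularLocalRing.Defs
import Mathlib.RingTheory.Etale.Basic
import Mathlib.FieldTheory.IsAlgClosed.AlgebraicClosure

set_option autoImplicit false
set_option backward.isDefEq.respectTransparency false
set_option linter.style.haveILetI false
universe u
open IsLocalRing
open SGA1

namespace Groth.Agent.S2921

open IsLocalRing

theorem dim_le_quotient {A : Type u} [CommRing A] (I : Ideal A) (h : ∀ P : Ideal A, P.IsPrime → I ≤ P) :
    ringKrullDim A ≤ ringKrullDim (A ⧸ I) := by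
  refine Order.krullDim_le_of_strictMono (fun P : PrimeSpectrum A => (⟨P.asIdeal.map (Ideal.Quotient.mk I),
    Ideal.map_isPrime_of_surjective Ideal.Quotient.mk_surjective (by rw [Ideal.mk_ker]; exact h _ P.2)⟩ : PrimeSpectrum (A ⧸ I))) ?_
  intro P Q hPQ
  refine lt_of_le_of_ne (Ideal.map_mono (show P.asIdeal ≤ Q.asIdeal from hPQ.le)) fun e => hPQ.ne (PrimeSpectrum.ext ?_)
  have := congrArg (Ideal.comap (Ideal.Quotient.mk I)) (congrArg PrimeSpectrum.asIdeal e)
  simpa [Ideal.comap_map_of_surjective _ Ideal.Quotient.mk_surjective, ← RingHom.ker_eq_comap_bot, h _ P.2, h _ Q.2] using this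

theorem isRegular (A : Type u) [CommRing A] [IsRegularLocalRing A] (S : Type u) [CommRing S] [Algebra A S]
    [Algebra.FiniteType A S] {r : ℕ} (f : Fin r → A) (hm : ∀ i, f i ∈ maximalIdeal A)
    (hf : LinearIndependent (ResidueField A) (fun i => (maximalIdeal A).toCotangent ⟨f i, hm i⟩))
    (n : Fin r → ℕ) (hn : ∀ i, 1 ≤ n i) (t : Fin r → S) (ht : ∀ i, t i ^ n i = algebraMap A S (f i))
    (hadj : Algebra.adjoin A (Set.range t) = ⊤)
    (hex : ∀ (C : Type u) [CommRing C] [Algebra A C] (c : Fin r → C),
      (∀ i, c i ^ n i = algebraMap A C (f i)) → ∃ g : S →ₐ[A] C, ∀ i, g (t i) = c i) :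
    IsRegularLocalRing S := by
  classical
  haveI : IsNoetherianRing S := Algebra.FiniteType.isNoetherianRing A S
  haveI : Algebra.IsIntegral A S := ⟨fun x => by
    have hle : Algebra.adjoin A (Set.range t) ≤ integralClosure A S := by
      refine Algebra.adjoin_le ?_
      rintro _ ⟨i, rfl⟩
      exact IsIntegral.of_pow (hn i) (by rw [ht]; exact isIntegral_algebraMap)
    exact hle (by rw [hadj]; trivial)⟩
  have hlift : ∀ P : Ideal A, P.IsPrime → RingHom.ker (algebraMap A S) ≤ P := by
    intro P hP x hx
    letI : Algebra A (AlgebraicClosure (FractionRing (A ⧸ P))) :=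
      ((algebraMap (FractionRing (A ⧸ P)) (AlgebraicClosure (FractionRing (A ⧸ P)))).comp ((algebraMap (A ⧸ P) _).comp (Ideal.Quotient.mk P))).toAlgebra
    choose z hz using fun i => IsAlgClosed.exists_pow_nat_eq (algebraMap A (AlgebraicClosure (FractionRing (A ⧸ P))) (f i)) (hn i)
    obtain ⟨φ, -⟩ := hex _ z hz
    rw [RingHom.mem_ker] at hx
    have hφ := φ.commutes x
    rw [hx, map_zero, RingHom.algebraMap_toAlgebra, RingHom.comp_apply, RingHom.comp_apply] at hφ
    have h0 : Ideal.Quotient.mk P x = 0 := by
      refine IsFractionRing.injective (A ⧸ P) (FractionRing (A ⧸ P)) ((algebraMap (FractionRing (A ⧸ P)) (AlgebraicClosure (FractionRing (A ⧸ P)))).injective ?_)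
      rw [map_zero, map_zero]
      exact hφ.symm
    exact Ideal.Quotient.eq_zero_iff_mem.mp h0
  have hdim : ringKrullDim A ≤ ringKrullDim S := by
    letI : Algebra (A ⧸ RingHom.ker (algebraMap A S)) S := (RingHom.kerLift (algebraMap A S)).toAlgebra
    haveI : IsScalarTower A (A ⧸ RingHom.ker (algebraMap A S)) S := IsScalarTower.of_algebraMap_eq fun _ => rfl
    haveI : Algebra.IsIntegral (A ⧸ RingHom.ker (algebraMap A S)) S := Algebra.IsIntegral.tower_top A
    exact (dim_le_quotient _ hlift).trans
      (Groth.Agent.SegreDim.ringKrullDim_eq_of_injective_integral (RingHom.kerLift_injective _)).le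
  haveI : Nontrivial S := by
    by_contra h
    rw [not_nontrivial_iff_subsingleton] at h
    exact (IsLocalRing.maximalIdeal.isMaximal A).ne_top (top_le_iff.mp (fun x _ =>
      hlift _ inferInstance (Subsingleton.elim _ _)))
  -- generators of the maximal ideal
  obtain ⟨W, hW⟩ := Submodule.exists_isCompl (Submodule.span (ResidueField A) (Set.range fun i => (maximalIdeal A).toCotangent ⟨f i, hm i⟩))
  let bW := Module.finBasis (ResidueField A) W
  choose s hs using fun j => (maximalIdeal A).toCotangent_surjective (bW j : CotangentSpace A)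
  let gen : Fin r ⊕ Fin (Module.finrank (ResidueField A) W) → maximalIdeal A := Sum.elim (fun i => ⟨f i, hm i⟩) s
  have hgen : Submodule.span A (Set.range gen) = ⊤ := by
    rw [← CotangentSpace.span_image_eq_top_iff, ← Set.range_comp, ← top_le_iff]
    have e1 : W = Submodule.span (ResidueField A) (Set.range fun j => (bW j : CotangentSpace A)) := by
      conv_lhs => rw [← W.range_subtype, ← Submodule.map_top, ← bW.span_eq, Submodule.map_span, ← Set.range_comp]
      rfl
    rw [← hW.sup_eq_top]
    refine sup_le (Submodule.span_mono ?_) (e1.le.trans (Submodule.span_mono ?_))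
    · rintro _ ⟨i, rfl⟩
      exact ⟨Sum.inl i, rfl⟩
    · rintro _ ⟨j, rfl⟩
      exact ⟨Sum.inr j, hs j⟩
  let u : Fin r ⊕ Fin (Module.finrank (ResidueField A) W) → S := Sum.elim t (fun j => algebraMap A S (s j))
  have hmem : ∀ M : Ideal S, M.IsMaximal → Ideal.span (Set.range u) ≤ M := by
    intro M hM
    have hc : M.comap (algebraMap A S) = maximalIdeal A :=
      IsLocalRing.eq_maximalIdeal (Ideal.isMaximal_comap_of_isIntegral_of_isMaximal M)
    refine Ideal.span_le.mpr ?_
    rintro _ ⟨i | j, rfl⟩
    · refine hM.isPrime.mem_of_pow_mem (n i) ?_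
      show t i ^ n i ∈ M
      rw [ht, ← Ideal.mem_comap, hc]
      exact hm i
    · show algebraMap A S (s j : A) ∈ M
      rw [← Ideal.mem_comap, hc]
      exact (s j).2
  have hmax : ∀ M : Ideal S, M.IsMaximal → M = Ideal.span (Set.range u) := by
    intro M hM
    refine le_antisymm (fun x hx => ?_) (hmem M hM)
    have key : ∀ a ∈ maximalIdeal A, algebraMap A S a ∈ Ideal.span (Set.range u) := by
      intro a ha
      have : (⟨a, ha⟩ : maximalIdeal A) ∈ Submodule.span A (Set.range gen) := by rw [hgen]; trivial
      obtain ⟨c, hc⟩ := (Submodule.mem_span_range_iff_exists_fun A).mp this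
      have hc' := congrArg (fun y : maximalIdeal A => algebraMap A S (y : A)) hc
      simp only [AddSubmonoidClass.coe_finsetSum, Submodule.coe_smul, smul_eq_mul, map_sum, map_mul] at hc'
      rw [← hc']
      refine Ideal.sum_mem _ fun k _ => Ideal.mul_mem_left _ _ ?_
      rcases k with i | j
      · show algebraMap A S (f i) ∈ _
        rw [← ht]
        exact Ideal.pow_mem_of_mem _ (Ideal.subset_span (Set.mem_range_self (f := u) (Sum.inl i))) _ (hn i)
      · exact Ideal.subset_span ⟨Sum.inr j, rfl⟩
    obtain ⟨a, w, hw, rfl⟩ : ∃ a w, w ∈ Ideal.span (Set.range u) ∧ x = algebraMap A S a + w := by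
      have : x ∈ Algebra.adjoin A (Set.range t) := by rw [hadj]; trivial
      clear hx
      induction this using Algebra.adjoin_induction with
      | mem y hy =>
        obtain ⟨i, rfl⟩ := hy
        exact ⟨0, t i, Ideal.subset_span ⟨Sum.inl i, rfl⟩, by simp⟩
      | algebraMap c => exact ⟨c, 0, zero_mem _, by simp⟩
      | add y z _ _ hy hz =>
        obtain ⟨a, v, hv, rfl⟩ := hy
        obtain ⟨b, v', hv', rfl⟩ := hz
        exact ⟨a + b, v + v', add_mem hv hv', by rw [map_add]; ring⟩
      | mul y z _ _ hy hz =>
        obtain ⟨a, v, hv, rfl⟩ := hy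
        obtain ⟨b, v', hv', rfl⟩ := hz
        exact ⟨a * b, algebraMap A S a * v' + v * (algebraMap A S b + v'), add_mem (Ideal.mul_mem_left _ _ hv') (Ideal.mul_mem_right _ _ hv), by rw [map_mul]; ring⟩
    refine add_mem (key a ?_) hw
    rw [← IsLocalRing.eq_maximalIdeal (Ideal.isMaximal_comap_of_isIntegral_of_isMaximal (R := A) M), Ideal.mem_comap]
    simpa using sub_mem hx (hmem M hM hw)
  haveI : IsLocalRing S := by
    obtain ⟨M, hM⟩ := Ideal.exists_maximal S
    exact IsLocalRing.of_unique_max_ideal ⟨M, hM, fun M' hM' => (hmax M' hM').trans (hmax M hM).symm⟩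
  refine IsRegularLocalRing.of_spanFinrank_maximalIdeal_le _ (le_trans ?_ hdim)
  rw [hmax _ (IsLocalRing.maximalIdeal.isMaximal S), ← IsRegularLocalRing.spanFinrank_maximalIdeal (R := A),
    spanFinrank_maximalIdeal_eq_finrank_cotangentSpace, Nat.cast_le, ← Submodule.finrank_add_eq_of_isCompl hW,
    finrank_span_eq_card hf]
  refine (Submodule.spanFinrank_span_le_ncard_of_finite (Set.finite_range u)).trans ?_
  rw [← Set.image_univ]
  exact (Set.ncard_image_le Set.finite_univ).trans (by simp)

theorem etale (A : Type u) [CommRing A] [IsLocalRing A] (S : Type u) [CommRing S] [Algebra A S]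
    [Algebra.FinitePresentation A S] {r : ℕ} (f : Fin r → A)
    (n : Fin r → ℕ) (hn : ∀ i, 1 ≤ n i) (hnu : ∀ i, (n i : A) ∉ maximalIdeal A)
    (T : Fin r → S) (hT : ∀ i, T i ^ n i = algebraMap A S (f i)) (hadj : Algebra.adjoin A (Set.range T) = ⊤)
    (hex : ∀ (C : Type u) [CommRing C] [Algebra A C] (c : Fin r → C),
      (∀ i, c i ^ n i = algebraMap A C (f i)) → ∃ g : S →ₐ[A] C, ∀ i, g (T i) = c i) :
    letI := (Localization.awayMap (algebraMap A S) (∏ i, f i)).toAlgebra
    Algebra.Etale (Localization.Away (∏ i, f i)) (Localization.Away (algebraMap A S (∏ i, f i))) := by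
  letI alg := (Localization.awayMap (algebraMap A S) (∏ i, f i)).toAlgebra
  let F := ∏ i, f i
  let B := Localization.Away (algebraMap A S F)
  haveI : IsScalarTower A (Localization.Away F) B := IsScalarTower.of_algebraMap_eq fun a => by
    show algebraMap A B a = Localization.awayMap (algebraMap A S) F (algebraMap A _ a)
    rw [Localization.awayMap, IsLocalization.Away.map, IsLocalization.map_eq]
    exact IsScalarTower.algebraMap_apply A S B a
  haveI : Algebra.FinitePresentation S B := IsLocalization.Away.finitePresentation (algebraMap A S F)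
  haveI : Algebra.FinitePresentation A B := Algebra.FinitePresentation.trans A S B
  let t : Fin r → B := fun i => algebraMap S B (T i)
  have ht : ∀ i, t i ^ n i = algebraMap A B (f i) := by
    intro i
    rw [IsScalarTower.algebraMap_apply A S B, ← map_pow, hT]
  have hFu : IsUnit (algebraMap A B F) := by
    rw [IsScalarTower.algebraMap_apply A S B]
    exact IsLocalization.Away.algebraMap_isUnit _
  have htu : ∀ i, IsUnit (t i) := by
    intro i
    rw [← isUnit_pow_iff (show n i ≠ 0 by have := hn i; omega), ht]
    exact isUnit_of_dvd_unit ((algebraMap A B).map_dvd (Finset.dvd_prod_of_mem f (Finset.mem_univ i))) hFu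
  have hext : ∀ {C : Type u} [CommRing C] [Algebra A C] (g h : B →ₐ[A] C), (∀ i, g (t i) = h (t i)) → g = h := by
    intro C _ _ g h e
    refine IsLocalization.algHom_ext (Submonoid.powers (algebraMap A S F)) ?_
    refine AlgHom.ext_of_adjoin_eq_top hadj ?_
    rintro _ ⟨i, rfl⟩
    exact e i
  haveI : Algebra.FormallyEtale A B := by
    rw [Algebra.FormallyEtale.iff_comp_bijective]
    intro C _ _ I hI
    have sq : ∀ a ∈ I, ∀ b ∈ I, a * b = 0 := fun a ha b hb => by
      have := Ideal.mul_mem_mul ha hb
      rwa [← sq, hI, Ideal.mem_bot] at this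
    have lin : ∀ (c e : C), e ∈ I → ∀ m : ℕ, (c + e) ^ m = c ^ m + m * c ^ (m - 1) * e := by
      intro c e he m
      induction m with
      | zero => simp
      | succ m ih =>
        rw [pow_succ, ih]
        rcases m with _ | m
        · simp
        · have : e * e = 0 := sq e he e he
          push_cast
          simp only [Nat.add_sub_cancel, pow_succ]
          linear_combination ((m : C) + 1) * c ^ m * this
    have hnC : ∀ i, IsUnit ((n i : ℕ) : C) := fun i => by
      rw [← map_natCast (algebraMap A C)]
      exact (IsLocalRing.notMem_maximalIdeal.mp (hnu i)).map _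
    have unitI : ∀ c : C, IsUnit (Ideal.Quotient.mk I c) → IsUnit c := by
      intro c hc
      obtain ⟨d, hd⟩ := Ideal.Quotient.mk_surjective ((hc.unit⁻¹ : (C ⧸ I)ˣ) : C ⧸ I)
      have h1 : c * d - 1 ∈ I := by
        rw [← Ideal.Quotient.eq, map_mul, hd, map_one, IsUnit.mul_val_inv]
      exact isUnit_of_dvd_one ⟨d * (1 - (c * d - 1)), by linear_combination sq _ h1 _ h1⟩
    constructor
    · intro g h e
      refine hext g h fun i => ?_
      have hmem : h (t i) - g (t i) ∈ I := Ideal.Quotient.eq.mp (AlgHom.congr_fun e (t i)).symm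
      have h2 := lin (g (t i)) _ hmem (n i)
      have e1 : g (t i) ^ n i = algebraMap A C (f i) := (map_pow g (t i) (n i)).symm.trans (by rw [ht, AlgHom.commutes])
      have e2 : h (t i) ^ n i = algebraMap A C (f i) := (map_pow h (t i) (n i)).symm.trans (by rw [ht, AlgHom.commutes])
      rw [add_sub_cancel, e1, e2, left_eq_add] at h2
      exact (sub_eq_zero.mp (((hnC i).mul (((htu i).map g).pow _)).mul_right_eq_zero.mp h2)).symm
    · intro ψ
      choose c hc using fun i => Ideal.Quotient.mk_surjective (ψ (t i))
      have hcu : ∀ i, IsUnit (c i) := fun i => unitI _ (by rw [hc]; exact (htu i).map ψ)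
      have he : ∀ i, c i ^ n i - algebraMap A C (f i) ∈ I := fun i => by
        rw [← Ideal.Quotient.eq, map_pow, hc, ← map_pow, ht, AlgHom.commutes]
        rfl
      choose v hv using fun i => ((hnC i).mul ((hcu i).pow (n i - 1))).exists_right_inv
      let c' : Fin r → C := fun i => c i + -(v i * (c i ^ n i - algebraMap A C (f i)))
      have hc' : ∀ i, c' i ^ n i = algebraMap A C (f i) := fun i => by
        rw [lin (c i) _ (neg_mem (I.mul_mem_left _ (he i)))]
        linear_combination -(c i ^ n i - algebraMap A C (f i)) * hv i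
      have hred : ∀ i, Ideal.Quotient.mk I (c' i) = ψ (t i) := fun i => by
        rw [map_add, map_neg, Ideal.Quotient.eq_zero_iff_mem.mpr (I.mul_mem_left _ (he i)), neg_zero, add_zero, hc]
      obtain ⟨g0, hg0⟩ := hex C c' hc'
      have hF : ∀ y : Submonoid.powers (algebraMap A S F), IsUnit (g0 y) := by
        rintro ⟨_, m, rfl⟩
        show IsUnit (g0 (algebraMap A S F ^ m))
        rw [map_pow, AlgHom.commutes]
        refine IsUnit.pow _ ?_
        rw [show F = ∏ i, f i from rfl, map_prod]
        refine IsUnit.prod_iff.mpr fun i _ => ?_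
        rw [← hc']
        refine IsUnit.pow _ (unitI _ ?_)
        rw [hred]
        exact (htu i).map ψ
      refine ⟨IsLocalization.liftAlgHom (M := Submonoid.powers (algebraMap A S F)) hF, hext _ ψ fun i => ?_⟩
      show Ideal.Quotient.mk I (IsLocalization.lift hF (algebraMap S B (T i))) = _
      rw [IsLocalization.lift_eq]
      show Ideal.Quotient.mk I (g0 (T i)) = _
      rw [hg0, hred]
  haveI : Algebra.Etale A B := ⟨inferInstance, inferInstance⟩
  haveI : Algebra.Etale A (Localization.Away F) := Algebra.Etale.of_isLocalizationAway F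
  exact Algebra.Etale.of_restrictScalars (R := A) (A := Localization.Away F) (B := B)

/-- Regularity and etaleness; the tameness assertion is not stated: Let A be a regular local ring, f_1,
…, f_r elements of the maximal ideal whose images in the cotangent space are linearly independent
(part of a regular system of parameters), and n_1, …, n_r ≥ 1. Then A' = A[T_1, …, T_r]/(T_i^{n_i} −
f_i) is a regular local ring; and if each n_i is invertible in the residue field of A, then A'
becomes etale over A after inverting f_1 ⋯ f_r. -/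
theorem result (A : Type u) [CommRing A] [IsRegularLocalRing A] (r : ℕ) (f : Fin r → A)
    (hm : ∀ i, f i ∈ maximalIdeal A)
    (hf : LinearIndependent (ResidueField A) (fun i => (maximalIdeal A).toCotangent ⟨f i, hm i⟩))
    (n : Fin r → ℕ) (hn : ∀ i, 1 ≤ n i) :
    IsRegularLocalRing (SGA1.kummerAlg A f n) ∧
    ((∀ i, IsUnit ((n i : ℕ) : ResidueField A)) →
      letI := (Localization.awayMap (algebraMap A (SGA1.kummerAlg A f n)) (∏ i, f i)).toAlgebra
      Algebra.Etale (Localization.Away (∏ i, f i)) (Localization.Away (algebraMap A (SGA1.kummerAlg A f n) (∏ i, f i)))) := by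
  let K := Ideal.span (Set.range fun i => (MvPolynomial.X i : MvPolynomial (Fin r) A) ^ n i - MvPolynomial.C (f i))
  let t : Fin r → SGA1.kummerAlg A f n := fun i => Ideal.Quotient.mk K (MvPolynomial.X i)
  have ht : ∀ i, t i ^ n i = algebraMap A (SGA1.kummerAlg A f n) (f i) := by
    intro i
    refine (map_pow _ _ _).symm.trans (Ideal.Quotient.eq.mpr ?_)
    exact Ideal.subset_span ⟨i, rfl⟩
  have hex : ∀ (C : Type u) [CommRing C] [Algebra A C] (c : Fin r → C),
      (∀ i, c i ^ n i = algebraMap A C (f i)) → ∃ g : SGA1.kummerAlg A f n →ₐ[A] C, ∀ i, g (t i) = c i := by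
    intro C _ _ c hc
    refine ⟨Ideal.Quotient.liftₐ K (MvPolynomial.aeval c) (fun a ha => ?_), fun i => ?_⟩
    · have : K ≤ RingHom.ker (MvPolynomial.aeval c : MvPolynomial (Fin r) A →ₐ[A] C) := by
        refine Ideal.span_le.mpr ?_
        rintro _ ⟨i, rfl⟩
        simp [hc]
      exact this ha
    · exact MvPolynomial.aeval_X c i
  have hadj : Algebra.adjoin A (Set.range t) = ⊤ := by
    rw [show Set.range t = (Ideal.Quotient.mkₐ A K) '' (Set.range MvPolynomial.X) from Set.range_comp _ _,
      ← AlgHom.map_adjoin, MvPolynomial.adjoin_range_X, Algebra.map_top, AlgHom.range_eq_top]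
    exact Ideal.Quotient.mkₐ_surjective _ _
  haveI : Algebra.FinitePresentation A (SGA1.kummerAlg A f n) :=
    Algebra.FinitePresentation.quotient (Submodule.fg_span (Set.finite_range _))
  refine ⟨isRegular A (SGA1.kummerAlg A f n) f hm hf n hn t ht hadj hex, fun hu => ?_⟩
  refine etale A (SGA1.kummerAlg A f n) f n hn (fun i => ?_) t ht hadj hex
  by_contra h
  exact (hu i).ne_zero (by
      rw [← map_natCast (IsLocalRing.residue A)]
      exact (IsLocalRing.residue_eq_zero_iff _).mpr h)

end Groth.Agent.S2921
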