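import Groth.Statements.S2923
import Groth.Agent.AbsAbh.Main
import Groth.Agent.AbsAbh.Cofinal
import Groth.Agent.S2921
-- import your own Groth.Agent.* helpers here

set_option autoImplicit false
universe u
open IsLocalRing
open SGA1

namespace Groth.Agent.S2923

open AlgebraicGeometry CategoryTheory CategoryTheory.Limits in
/-- The Kummer coverings are cofinal among tame covers: let A be a strictly henselian regular local ring
(henselian with separably closed residue field), f_1, …, f_r part of a regular system of parameters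
with each (f_i) a prime ideal, U ⊆ X = Spec A the open where f_1 ⋯ f_r is invertible, and V a
connected finite etale cover of U tamely ramified along each f_i. Then for some exponents n_i ≥ 1
invertible in the residue field there is a surjective U-morphism from the restriction to U of the
Kummer covering Spec A[T_1, …, T_r]/(T_i^{n_i} − f_i) onto V. -/
theorem result (A : Type u) [CommRing A] [IsRegularLocalRing A] [IsDomain A] (r : ℕ) (f : Fin r → A)
    (hm : ∀ i, f i ∈ maximalIdeal A)
    (hf : LinearIndependent (ResidueField A) (fun i => (maximalIdeal A).toCotangent ⟨f i, hm i⟩))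
    [∀ i, (Ideal.span {f i}).IsPrime]
    [HenselianLocalRing A] [IsSepClosed (ResidueField A)]
    (V : FEt.Cat ((SGA1.specBasicOpen A (∏ i, f i)) : Scheme.{u})) [ConnectedSpace V.left] (htame : SGA1.IsTameAlong f (((V.hom ≫ ((SGA1.specBasicOpen A (∏ i, f i))).ι).appTop).hom.comp (Scheme.ΓSpecIso (CommRingCat.of A)).inv.hom)) :
    ∃ n : Fin r → ℕ, (∀ i, 1 ≤ n i) ∧ (∀ i, IsUnit ((n i : ℕ) : ResidueField A)) ∧
      ∃ φ : (↑((Spec.map (CommRingCat.ofHom (algebraMap A (SGA1.kummerAlg A f n)))) ⁻¹ᵁ (SGA1.specBasicOpen A (∏ i, f i))) : Scheme.{u}) ⟶ V.left, φ ≫ V.hom = (Spec.map (CommRingCat.ofHom (algebraMap A (SGA1.kummerAlg A f n)))) ∣_ (SGA1.specBasicOpen A (∏ i, f i)) ∧ Surjective φ := by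
  
  classical
  haveI := Groth.Agent.AbsAbh.isAffine_left V
  letI := (Groth.Agent.AbsAbh.sectionsMap V).toAlgebra
  obtain ⟨het, hunit, hint⟩ := Groth.Agent.AbsAbh.sections_props V
  haveI : Algebra.Etale A Γ(V.left, ⊤) := het
  haveI : ConnectedSpace (Spec Γ(V.left, ⊤)) :=
    (Scheme.Hom.homeomorph V.left.isoSpec.hom).surjective.connectedSpace (Scheme.Hom.homeomorph V.left.isoSpec.hom).continuous
  haveI : ConnectedSpace (PrimeSpectrum Γ(V.left, ⊤)) := ‹ConnectedSpace (Spec Γ(V.left, ⊤))›
  haveI : Nontrivial Γ(V.left, ⊤) := PrimeSpectrum.nonempty_iff_nontrivial.1 inferInstance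
  obtain ⟨n, hn, hu, hC⟩ := Groth.Agent.AbsAbh.exists_kummer_etale hm hf htame hunit hint
  refine ⟨n, hn, hu, ?_⟩
  obtain ⟨hreg, -, -, hloc⟩ := Groth.Agent.AbsAbh.kummer_params f n hm hf hn
  haveI := hreg
  haveI := hloc
  haveI : Module.Finite A (SGA1.kummerAlg A f n) := Groth.Agent.AbsAbh.finite_kummer f n hn
  obtain ⟨hh, hsc⟩ : EtCoh.IsStrictlyHenselianLocalRing (SGA1.kummerAlg A f n) :=
    Groth.Agent.S14620.result (algebraMap A (SGA1.kummerAlg A f n)) (RingHom.finite_algebraMap.2 inferInstance)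
      ⟨inferInstance, inferInstance⟩
  haveI := hh
  haveI := hsc
  haveI := Groth.Agent.RegLoc.isDomain (A := SGA1.kummerAlg A f n)
  haveI := hC.1
  haveI := hC.2
  have hinj := Groth.Agent.AbsAbh.injective_kummer f n hn
  have hF : (∏ i, f i) ≠ 0 := Finset.prod_ne_zero_iff.2 fun i _ =>
    ((show Groth.Agent.AbsAbh.CotIndep f hm from hf).prime i).1
  obtain ⟨g⟩ := Groth.Agent.AbsAbh.exists_hom_away (A' := SGA1.kummerAlg A f n) (Γ := Γ(V.left, ⊤)) hinj (∏ i, f i) hF hint
  have hK := (Groth.Agent.S2921.result A r f hm hf n hn).2 hu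
  exact Groth.Agent.AbsAbh.dominates V (SGA1.kummerAlg A f n) hinj hF hK g

end Groth.Agent.S2923
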