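import Groth.Statements.S2926
import Groth.Agent.SerrePn.SheafHomExt
import Groth.Agent.K0Coh.Basic

set_option backward.isDefEq.respectTransparency false
set_option backward.isDefEq.respectTransparency.types false

set_option autoImplicit false
universe u
open CategoryTheory AlgebraicGeometry
attribute [local instance] HasDerivedCategory.standard
open ProjDual

namespace Groth.Agent.S2926

/-- Serre duality on projective space, for a finite locally free module: let k be a field, X = P^r_k and
F a finite locally free O_X-module; assume the internal Hom functor Hom_{O_X}(F, −) exists as the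
right adjoint of − ⊗ F (an instance binder). For every i ≤ r the k-dual of H^i(X, F) is k-linearly
isomorphic to H^{r−i}(X, Hom_{O_X}(F, O_X(−r−1))). (The published statement is for coherent F, with
Ext^{r−i}(F, O_X(−r−1)) on the right; stated here in the locally free case.) -/
theorem result (k : Type u) [Field k] (r : ℕ) (F : (CohB1.ProjSpace r k).Modules) (hF : FlatMod.IsFinLocFree F) [DCoh.HasSheafHom F] (i : ℕ) (hi : i ≤ r) : Nonempty (Module.Dual k (Coh.HH (CohB1.ProjSpace r k) F i) ≃ₗ[k] Coh.HH (CohB1.ProjSpace r k) ((DCoh.sheafHom F).obj (Twist.twistProjSpace r k (-((r : ℤ) + 1)))) (r - i)) := by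
  haveI : HasExt.{u} (CohB1.ProjSpace r k).Modules :=
    haveI : IsGrothendieckAbelian.{u} (CohB1.ProjSpace r k).Modules :=
      Groth.Agent.ModSiteGro.isGrothendieckAbelian (R := (CohB1.ProjSpace r k).ringCatSheaf)
    inferInstance
  obtain ⟨e⟩ := (Groth.Agent.SerrePn.serre_duality k r F (Groth.Agent.K0Coh.isCoh_of_isFinLocFree hF) (r - i)).1
    (Nat.sub_le r i)
  obtain ⟨f⟩ := Groth.Agent.SerrePn.ext_equiv_hh k F hF (r - i) (Twist.twistProjSpace r k (-((r : ℤ) + 1)))
  rw [Nat.sub_sub_self hi] at e
  exact ⟨e.symm.trans f⟩

end Groth.Agent.S2926
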