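import Groth.Statements.S2931
import Groth.Agent.SGA2Fin.Affine
import Groth.Agent.LocH.AdjDepthChange
import Groth.Agent.FlatDepth.SkTensor
import Groth.Agent.Catenary.Ring
-- import your own Groth.Agent.* helpers here

set_option autoImplicit false
universe u
open LocCoh

namespace Groth.Agent.S2931

open IsLocalRing

theorem exists_chain {S : Type u} [CommRing S] [IsRegularRing S] {A : Type u} [CommRing A] (π : S →+* A)
    (hπ : Function.Surjective π) (p₀ p q : PrimeSpectrum A) (h₀ : p₀ ≤ p) (hpq : p ⋖ q) :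
    ∃ l : LTSeries (Set.Ici p₀), l.last = ⟨p, h₀⟩ ∧
      Order.height (⟨q, h₀.trans hpq.le⟩ : Set.Ici p₀) ≤ ((l.length + 1 : ℕ) : ℕ∞) := by
  let e := Catenary.surjectiveEmbedding π hπ
  have hfin : ∀ z : PrimeSpectrum A, ∃ n : ℕ, (e z).asIdeal.height = (n : ℕ∞) := fun z =>
    (ENat.ne_top_iff_exists.1 ((e z).asIdeal.height_ne_top (e z).isPrime.ne_top)).imp fun _ h => h.symm
  obtain ⟨h0, hh0⟩ := hfin p₀
  have hbound : ∀ (l : LTSeries (Set.Ici p₀)), ((h0 + l.length : ℕ) : ℕ∞) ≤ (e l.last).asIdeal.height := by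
    intro l
    rw [PrimeSpectrum.height_eq_orderHeight (e l.last.1)]
    refine le_trans ?_ (LocH.height_add_length_le (l.map (fun z => e z.1) fun a b hab => e.lt_iff_lt.mpr hab))
    rw [LTSeries.head_map, Nat.cast_add, ← hh0, PrimeSpectrum.height_eq_orderHeight (e p₀)]
    exact add_le_add (Order.height_mono (e.monotone l.head.2)) le_rfl
  obtain ⟨hp', hhp'⟩ := hfin p
  have htfin : Order.height (⟨p, h₀⟩ : Set.Ici p₀) ≠ ⊤ := by
    refine ne_top_of_le_ne_top (ENat.natCast_ne_top hp') (Order.height_le fun l hl => ?_)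
    have h := hbound l
    rw [hl, hhp', Nat.cast_le] at h
    exact_mod_cast (by omega : l.length ≤ hp')
  obtain ⟨t, ht⟩ := ENat.ne_top_iff_exists.1 htfin
  obtain ⟨l, hl, hlen⟩ := Order.exists_series_of_height_eq_coe _ ht.symm
  refine ⟨l, hl, ?_⟩
  have hcov : ∀ i : Fin l.length, e (l i.castSucc).1 ⋖ e (l i.succ).1 := by
    intro i
    refine ⟨e.lt_iff_lt.mpr (l.step i), fun z hz1 hz2 => ?_⟩
    obtain ⟨w, rfl⟩ : z ∈ Set.range e := by
      rw [Catenary.range_surjectiveEmbedding]
      exact (show RingHom.ker π ≤ (e (l i.castSucc).1).asIdeal from Ideal.comap_mono bot_le).trans hz1.le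
    let w' : Set.Ici p₀ := ⟨w, (l i.castSucc).2.trans (e.lt_iff_lt.mp hz1).le⟩
    have h1 := Order.length_le_height (p := l.insertNth i w' (e.lt_iff_lt.mp hz1) (e.lt_iff_lt.mp hz2))
      (x := ⟨p, h₀⟩) (by
        show Fin.insertNth (α := fun _ => Set.Ici p₀) (Fin.castSucc i.succ) w' l.toFun (Fin.last (l.length + 1)) ≤ _
        rw [show Fin.last (l.length + 1) = (Fin.castSucc i.succ).succAbove (Fin.last l.length) from
          (Fin.succ_last _).symm.trans (Fin.succAbove_of_le_castSucc _ _ (Fin.castSucc_le_castSucc_iff.2 (Fin.le_last _))).symm,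
          Fin.insertNth_apply_succAbove]
        exact hl.le)
    rw [← ht, Nat.cast_le, RelSeries.insertNth_length] at h1
    omega
  have hh : ∀ i : Fin (l.length + 1), (e (l i).1).asIdeal.height = ((h0 + i : ℕ) : ℕ∞) := by
    intro i
    induction i using Fin.induction with
    | zero =>
      have : (l 0 : PrimeSpectrum A) = p₀ := by
        refine ((l 0).2.eq_or_lt.resolve_right fun hlt => ?_).symm
        have h1 := Order.length_le_height (p := l.cons ⟨p₀, Set.self_mem_Ici⟩ hlt) (x := ⟨p, h₀⟩)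
          (by rw [RelSeries.last_cons, hl])
        rw [← ht, Nat.cast_le, RelSeries.cons_length] at h1
        omega
      rw [this, hh0, Fin.val_zero, add_zero]
    | succ i ih =>
      rw [SGA2Fin.height_eq_add_one_of_covBy (hcov i), ih, Fin.val_succ, Fin.val_castSucc, ← Nat.cast_one, ← Nat.cast_add]
      rfl
  refine Order.height_le fun m hm => ?_
  have hq : (e q).asIdeal.height = ((h0 + l.length + 1 : ℕ) : ℕ∞) := by
    have h1 : e p ⋖ e q := by
      refine ⟨e.lt_iff_lt.mpr hpq.1, fun z hz1 hz2 => ?_⟩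
      obtain ⟨w, rfl⟩ : z ∈ Set.range e := by
        rw [Catenary.range_surjectiveEmbedding]
        exact (show RingHom.ker π ≤ (e p).asIdeal from Ideal.comap_mono bot_le).trans hz1.le
      exact hpq.2 (e.lt_iff_lt.mp hz1) (e.lt_iff_lt.mp hz2)
    have h2 := hh (Fin.last l.length)
    rw [show (l (Fin.last l.length)).1 = p from congrArg Subtype.val hl] at h2
    rw [SGA2Fin.height_eq_add_one_of_covBy h1, h2, Fin.val_last, Nat.cast_add (h0 + l.length) 1, Nat.cast_one]
  have h := hbound m
  rw [hm, hq, Nat.cast_le] at h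
  exact_mod_cast (by omega : m.length ≤ l.length + 1)

/-- Affine form (coherence of R^p i_*(F) for p < n being finiteness of H^i_I for i ≤ n). Let A be a
Noetherian ring which is a quotient of a regular ring, I an ideal and M a finite A-module such that
M_p is zero or Cohen–Macaulay for every prime p not containing I. Then H^i_I(M) is a finite A-module
for every i ≤ n if and only if for every prime p not containing I which is minimal in the support of
M, the codimension of V(p) ∩ V(I) in V(p) is greater than n. -/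
theorem result (R : Type u) [CommRing R] [IsRegularRing R] (A : Type u) [CommRing A] [IsNoetherianRing A] (π : R →+* A) (hπ : Function.Surjective π) (I : Ideal A) (M : Type u) [AddCommGroup M] [Module A M] [Module.Finite A M] (hCM : ∀ p : PrimeSpectrum A, ¬ I ≤ p.asIdeal → Subsingleton (LocalizedModule p.asIdeal.primeCompl M) ∨ LocCoh.IsCohenMacaulayModule (Localization.AtPrime p.asIdeal) (LocalizedModule p.asIdeal.primeCompl M)) (n : ℕ) : (∀ i : ℕ, i ≤ n → Module.Finite A (LocCoh.H I i M)) ↔ ∀ p : PrimeSpectrum A, ¬ I ≤ p.asIdeal → p.asIdeal ∈ (Module.annihilator A M).minimalPrimes → (n : ℕ∞) < SGA2.relCodim I p := by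
  constructor
  · intro h p hIp hmin
    have h1 := SGA2Fin.lt_depth_add_relCodim π hπ I M (fun p' hIp' h1 => by
      obtain ⟨q, hIq, hpq⟩ := SGA2Fin.exists_covBy_of_relCodim_eq_one h1
      exact SGA2Fin.le_depth_of_finite h hIp' hIq hpq) p hIp
    rwa [LocH.depth_eq_zero_of_associated M
      (Module.associatedPrimes.minimalPrimes_annihilator_subset_associatedPrimes A M hmin), zero_add] at h1
  · intro h
    refine SGA2Fin.finite_of_le_depth π hπ I M fun p hIp hc1 => ?_
    rcases hCM p hIp with h0 | hCMp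
    · rw [LocCoh.depth, LocCoh.idealDepth, if_pos (Subsingleton.elim _ _)]
      exact le_top
    obtain ⟨q, hIq, hpq⟩ := SGA2Fin.exists_covBy_of_relCodim_eq_one hc1
    have hsupp : p ∈ Module.support A M := by
      rw [Module.mem_support_iff]
      refine not_subsingleton_iff_nontrivial.1 fun hsub => ?_
      unfold LocCoh.IsCohenMacaulayModule at hCMp
      rw [Module.supportDim_eq_bot_of_subsingleton] at hCMp
      exact WithBot.bot_ne_coe hCMp
    rw [Module.support_eq_zeroLocus, PrimeSpectrum.mem_zeroLocus] at hsupp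
    obtain ⟨P, hP, hPp⟩ := Ideal.exists_minimalPrimes_le (J := p.asIdeal) hsupp
    let p₀ : PrimeSpectrum A := ⟨P, hP.1.1⟩
    have hIp₀ : ¬ I ≤ p₀.asIdeal := fun hle => hIp (hle.trans hPp)
    obtain ⟨l, hl, hq⟩ := exists_chain π hπ p₀ p q hPp hpq
    have h1 : (n : ℕ∞) < ((l.length + 1 : ℕ) : ℕ∞) :=
      lt_of_lt_of_le (h p₀ hIp₀ hP) (le_trans (iInf_le (fun q : {q : PrimeSpectrum A // p₀ ≤ q ∧ I ≤ q.asIdeal} =>
        Order.height (⟨q.1, q.2.1⟩ : Set.Ici p₀)) ⟨q, (show p₀ ≤ p from hPp).trans hpq.le, hIq⟩) hq)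
    have hn : n ≤ l.length := by rw [Nat.cast_lt] at h1; omega
    have hmem : ∀ i, (l i).1 ∈ Module.support A M ∧ (l i).1.asIdeal ≤ p.asIdeal := fun i => by
      refine ⟨?_, ?_⟩
      · rw [Module.support_eq_zeroLocus, PrimeSpectrum.mem_zeroLocus]
        exact hP.1.2.trans (l i).2
      · have h2 : l i ≤ l.last := l.monotone (Fin.le_last i)
        rw [hl] at h2
        exact h2
    let l' : LTSeries {x : PrimeSpectrum A // x ∈ Module.support A M ∧ x.asIdeal ≤ p.asIdeal} :=
      { length := l.length, toFun := fun i => ⟨(l i).1, hmem i⟩, step := fun i => l.step i }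
    have h3 : ((l.length : ℕ) : WithBot ℕ∞) ≤
        Module.supportDim (Localization.AtPrime p.asIdeal) (LocalizedModule p.asIdeal.primeCompl M) := by
      rw [FlatDepth.supportDim_localized_eq]
      exact Order.LTSeries.length_le_krullDim l'
    unfold LocCoh.IsCohenMacaulayModule at hCMp
    rw [hCMp] at h3
    exact le_trans (Nat.cast_le.2 hn) (WithBot.coe_le_coe.1 h3)

end Groth.Agent.S2931
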