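import Groth.Statements.S2933
import Groth.Agent.Easy3.Hartshorne

set_option autoImplicit false
universe u
open LocCoh

namespace Groth.Agent.S2933

/-- Let A be a Noetherian ring with connected spectrum and d ≥ 1 an integer such that every prime p with
dim A_p ≥ d has depth A_p ≥ 2. Then for any two minimal primes p', p'' of A there is a finite
sequence of minimal primes starting at p' and ending at p'' such that any two consecutive members
are both contained in some prime of height at most d − 1 (Spec A is connected in codimension d − 1). -/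
theorem result (A : Type u) [CommRing A] [IsNoetherianRing A] [ConnectedSpace (PrimeSpectrum A)] (d : ℕ) (hd : 1 ≤ d) (h : ∀ p : PrimeSpectrum A, (d : ℕ∞) ≤ p.asIdeal.height → (2 : ℕ∞) ≤ LocCoh.depth (Localization.AtPrime p.asIdeal) (Localization.AtPrime p.asIdeal)) (p' p'' : PrimeSpectrum A) (hp' : p'.asIdeal ∈ minimalPrimes A) (hp'' : p''.asIdeal ∈ minimalPrimes A) : ∃ l : List (PrimeSpectrum A), l.head? = some p' ∧ l.getLast? = some p'' ∧ (∀ p ∈ l, p.asIdeal ∈ minimalPrimes A) ∧ List.IsChain (fun p q => ∃ r : PrimeSpectrum A, p ≤ r ∧ q ≤ r ∧ r.asIdeal.height ≤ (d - 1 : ℕ)) l := by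
  classical
  let rel : PrimeSpectrum A → PrimeSpectrum A → Prop := fun p q =>
    q.asIdeal ∈ minimalPrimes A ∧ ∃ r : PrimeSpectrum A, p ≤ r ∧ q ≤ r ∧ r.asIdeal.height ≤ (d - 1 : ℕ)
  have key : Relation.ReflTransGen rel p' p'' := by
    by_contra hne
    let Mn : Set (PrimeSpectrum A) := {q | q.asIdeal ∈ minimalPrimes A}
    have hfin : Mn.Finite :=
      Set.Finite.of_finite_image ((minimalPrimes.finite_of_isNoetherianRing A).subset
        (by rintro _ ⟨q, hq, rfl⟩; exact hq)) (fun a _ b _ hab => PrimeSpectrum.ext hab)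
    let Z1 : Set (PrimeSpectrum A) := ⋃ q ∈ {q ∈ Mn | Relation.ReflTransGen rel p' q}, closure {q}
    let Z2 : Set (PrimeSpectrum A) := ⋃ q ∈ {q ∈ Mn | ¬ Relation.ReflTransGen rel p' q}, closure {q}
    have c1 : IsClosed Z1 := (hfin.subset fun q hq => hq.1).isClosed_biUnion fun q _ => isClosed_closure
    have c2 : IsClosed Z2 := (hfin.subset fun q hq => hq.1).isClosed_biUnion fun q _ => isClosed_closure
    have m1 : ∀ {r : PrimeSpectrum A}, r ∈ Z1 ↔ ∃ q, q ∈ Mn ∧ Relation.ReflTransGen rel p' q ∧ q ≤ r := by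
      intro r
      simp only [Z1, Set.mem_iUnion, Set.mem_setOf_eq, ← specializes_iff_mem_closure,
        ← PrimeSpectrum.le_iff_specializes, exists_prop, and_assoc]
    have m2 : ∀ {r : PrimeSpectrum A}, r ∈ Z2 ↔ ∃ q, q ∈ Mn ∧ ¬ Relation.ReflTransGen rel p' q ∧ q ≤ r := by
      intro r
      simp only [Z2, Set.mem_iUnion, Set.mem_setOf_eq, ← specializes_iff_mem_closure,
        ← PrimeSpectrum.le_iff_specializes, exists_prop, and_assoc]
    have hh : ∀ r ∈ Z1 ∩ Z2, (d : ℕ∞) ≤ r.asIdeal.height := by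
      rintro r ⟨h1, h2⟩
      obtain ⟨q1, -, hr1, hq1⟩ := m1.1 h1
      obtain ⟨q2, hm2, hr2, hq2⟩ := m2.1 h2
      by_contra hlt
      refine hr2 (hr1.tail ⟨hm2, r, hq1, hq2, ?_⟩)
      rw [not_le] at hlt
      have hne : r.asIdeal.height ≠ ⊤ := ne_top_of_lt hlt
      obtain ⟨m, hm⟩ := ENat.ne_top_iff_exists.1 hne
      rw [← hm] at hlt ⊢
      exact_mod_cast Nat.le_sub_one_of_lt (by exact_mod_cast hlt)
    have hZ : PrimeSpectrum.zeroLocus (PrimeSpectrum.vanishingIdeal (Z1 ∩ Z2) : Set A) = Z1 ∩ Z2 := by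
      rw [PrimeSpectrum.zeroLocus_vanishingIdeal_eq_closure, (c1.inter c2).closure_eq]
    have hc := Easy3.Hartshorne.isPreconnected_compl (A := A) (PrimeSpectrum.vanishingIdeal (Z1 ∩ Z2))
      (fun r _ hr => h ⟨r, inferInstance⟩ (hh _ (by rw [← hZ]; exact hr)))
    rw [hZ] at hc
    have hcov : (Z1 ∩ Z2)ᶜ ⊆ Z1 ∪ Z2 := fun r _ => by
      obtain ⟨q, hq, hqr⟩ := Ideal.exists_minimalPrimes_le (J := r.asIdeal) (I := ⊥) bot_le
      by_cases hQ : Relation.ReflTransGen rel p' ⟨q, hq.1.1⟩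
      · exact Or.inl (m1.2 ⟨⟨q, hq.1.1⟩, hq, hQ, hqr⟩)
      · exact Or.inr (m2.2 ⟨⟨q, hq.1.1⟩, hq, hQ, hqr⟩)
    have h0 : ∀ q : PrimeSpectrum A, q.asIdeal ∈ minimalPrimes A → q ∉ Z1 ∩ Z2 := fun q hq hqZ => by
      have h1 := hh q hqZ
      rw [Ideal.height_eq_zero_iff.2 hq] at h1
      simp at h1
      omega
    obtain ⟨r, hr, hr'⟩ := isPreconnected_closed_iff.1 hc Z1 Z2 c1 c2 hcov
      ⟨p', h0 p' hp', m1.2 ⟨p', hp', Relation.ReflTransGen.refl, le_rfl⟩⟩
      ⟨p'', h0 p'' hp'', m2.2 ⟨p'', hp'', hne, le_rfl⟩⟩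
    exact hr hr'
  clear hp''
  induction key using Relation.ReflTransGen.head_induction_on with
  | refl =>
    refine ⟨[p''], rfl, rfl, ?_, List.isChain_singleton _⟩
    intro p hp
    obtain rfl := List.mem_singleton.1 hp
    exact hp'
  | @head a b hab _ ih =>
    obtain ⟨l, hl1, hl2, hl3, hl4⟩ := ih hab.1
    refine ⟨a :: l, rfl, ?_, ?_, ?_⟩
    · rw [List.getLast?_cons, hl2]; rfl
    · intro p hp
      rcases List.mem_cons.1 hp with rfl | hp
      · exact hp'
      · exact hl3 p hp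
    · refine List.isChain_cons.2 ⟨fun y hy => ?_, hl4⟩
      rw [hl1, Option.mem_def, Option.some_inj] at hy
      exact hy ▸ hab.2

end Groth.Agent.S2933
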