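import Groth.Statements.S2934
import Groth.Agent.CotT.RegQuot
import Groth.Agent.SGA2Fin.Affine
import Groth.Agent.SGA2Fin.DualKill
import Groth.Agent.Catenary.CM
-- import your own Groth.Agent.* helpers here

set_option autoImplicit false
universe u
open LocCoh

namespace Groth.Agent.S2934

/-- Let A be a Noetherian local ring which is a quotient of a regular local ring, m its maximal ideal, M
a finite A-module and i ≥ 0. Then H^i_m(M) is an A-module of finite length if and only if for every
prime p ≠ m, writing e = dim A/p, the local cohomology H^{i−e} of M_p with support in the maximal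
ideal of A_p vanishes (no condition when e > i). -/
theorem result (R : Type u) [CommRing R] [IsRegularLocalRing R] (A : Type u) [CommRing A] [IsLocalRing A] [IsNoetherianRing A] (π : R →+* A) (hπ : Function.Surjective π) (M : Type u) [AddCommGroup M] [Module A M] [Module.Finite A M] (i : ℕ) : IsFiniteLength A (LocCoh.H (IsLocalRing.maximalIdeal A) i M) ↔ ∀ p : PrimeSpectrum A, p.asIdeal ≠ IsLocalRing.maximalIdeal A → ∀ (e j : ℕ), ringKrullDim (A ⧸ p.asIdeal) = e → j + e = i → Subsingleton (LocCoh.H (IsLocalRing.maximalIdeal (Localization.AtPrime p.asIdeal)) j (LocalizedModule p.asIdeal.primeCompl M)) := by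
  classical
  have : IsRegularRing R := CotT.isRegularRing_of_local R
  rw [SGA2Fin.isFiniteLength_H_iff]
  refine ⟨fun hfin p hp e j he hje => ?_, fun h => S2929.result R A π hπ _ M i fun p hIp c j hc hj =>
    h p (fun e => hIp e.ge) c j (by rw [← SGA2Fin.relCodim_maximalIdeal, hc]; rfl) hj⟩
  letI : Algebra R A := π.toAlgebra
  letI : Module R M := Module.compHom M π
  have : IsScalarTower R A M := ⟨fun x y z => mul_smul (π x) y z⟩
  have : Module.Finite R A := Module.Finite.of_surjective (Algebra.linearMap R A) hπ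
  have : Module.Finite R M := Module.Finite.trans A M
  rw [SGA2Fin.subsingleton_H_comap (S := R) hπ M p.asIdeal j]
  let P := p.asIdeal.comap (algebraMap R A)
  have hmax : (IsLocalRing.maximalIdeal R).map (algebraMap R A) = IsLocalRing.maximalIdeal A :=
    LocH.map_maximalIdeal_of_surjective hπ
  have hPne : ¬ IsLocalRing.maximalIdeal R ≤ P := fun hle => hp (le_antisymm (IsLocalRing.le_maximalIdeal p.isPrime.ne_top)
    (hmax ▸ Ideal.map_le_iff_le_comap.2 hle))
  obtain ⟨d, hd⟩ := SerreReg.exists_dim_nat R
  have : LocCoh.IsCohenMacaulayLocalRing R := CMFlat.isCohenMacaulayLocalRing_of_isRegularLocalRing R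
  obtain ⟨h', hh'⟩ := ENat.ne_top_iff_exists.1 (P.height_ne_top (Ideal.IsPrime.ne_top inferInstance))
  have hsum : e + h' = d := by
    have h1 := Catenary.height_add_dim P
    let g := Ideal.quotientMap p.asIdeal (algebraMap R A) (le_refl P)
    have hg : Function.Bijective g := ⟨Ideal.quotientMap_injective, Ideal.quotientMap_surjective hπ⟩
    rw [ringKrullDim_eq_of_ringEquiv (RingEquiv.ofBijective g hg), he, ← hh', hd] at h1
    have h2 : ((e + h' : ℕ) : WithBot ℕ∞) = ((d : ℕ) : WithBot ℕ∞) := by rw [← h1]; push_cast; rfl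
    exact_mod_cast h2
  by_cases hid : d < i
  · refine SGA2Fin.subsingleton_H_of_height_lt M P ?_
    rw [← hh']
    exact_mod_cast (by omega : h' < j)
  obtain ⟨φ, hφ⟩ := LocH.exists_semilinearEquiv (R' := A) (I := IsLocalRing.maximalIdeal R) i M
  have hfin' : Module.Finite A (LocCoh.H ((IsLocalRing.maximalIdeal R).map (algebraMap R A)) i M) := hmax.symm ▸ hfin
  obtain ⟨N, hN⟩ := @LocH.exists_pow_killed_of_finite A _ _ ((IsLocalRing.maximalIdeal R).map (algebraMap R A)) i
    (ModuleCat.of A M) hfin'
  obtain ⟨a, ha, haP⟩ := SetLike.not_le_iff_exists.1 hPne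
  let M' : SGA2Fin.FMod R := ⟨ModuleCat.of R M, inferInstanceAs (Module.Finite R M)⟩
  refine SGA2Fin.subsingleton_of_kill_cocycle M' P (k := d - i) (by rw [← hh']; exact_mod_cast (by omega : h' = j + (d - i)))
    fun ψ hψ => ⟨a ^ N, fun hmem => haP ((Ideal.IsPrime.mem_of_pow_mem inferInstance N hmem)), ?_⟩
  refine SGA2Fin.smul_cocycle_eq (d := d) hd M' (j := i) (by omega) (a ^ N) (fun y => ?_) ψ hψ
  obtain ⟨x, rfl⟩ := φ.surjective y
  rw [← hφ]
  exact (congrArg φ (hN _ (by rw [map_pow]; exact Ideal.pow_mem_pow (Ideal.mem_map_of_mem _ ha) N) x)).trans (map_zero φ)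

end Groth.Agent.S2934
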