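import Groth.Statements.S2936
import Groth.Agent.DualCx.MatlisDual
import Groth.Agent.S0374
import Groth.Agent.S0376
import Groth.Agent.DualSch.Lowest

set_option autoImplicit false
universe u
open LocCoh

namespace Groth.Agent.S2936

/-- (iii), for a complete local ring. Let A be a complete Noetherian local ring with maximal ideal m, κ
→ E an injective hull of the residue field, and M a nonzero finite A-module whose support has
dimension n. Then for every i the A-module Hom_A(H^i_m(M), E) is finite with support of dimension at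
most i; for i = n its support has dimension exactly n and its associated primes are exactly the
associated primes p of M with dim A/p = n. -/
theorem result (A : Type u) [CommRing A] [IsLocalRing A] [IsNoetherianRing A] [IsAdicComplete (IsLocalRing.maximalIdeal A) A] (E : Type u) [AddCommGroup E] [Module A E] (f : IsLocalRing.ResidueField A →ₗ[A] E) (hf : InjHull.IsInjectiveHull f) (M : Type u) [AddCommGroup M] [Module A M] [Module.Finite A M] [Nontrivial M] (n : ℕ) (hn : Module.supportDim A M = n) : (∀ i : ℕ, Module.Finite A (LocCoh.H (IsLocalRing.maximalIdeal A) i M →ₗ[A] E) ∧ Module.supportDim A (LocCoh.H (IsLocalRing.maximalIdeal A) i M →ₗ[A] E) ≤ (i : WithBot ℕ∞)) ∧ Module.supportDim A (LocCoh.H (IsLocalRing.maximalIdeal A) n M →ₗ[A] E) = n ∧ associatedPrimes A (LocCoh.H (IsLocalRing.maximalIdeal A) n M →ₗ[A] E) = {p | p ∈ associatedPrimes A M ∧ ringKrullDim (A ⧸ p) = n} := by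
  obtain ⟨w, hw⟩ := Groth.Agent.S0376.result A
  obtain ⟨s, hs⟩ := Groth.Agent.DualCx.exists_normalized_shift hw
  have hω := Groth.Agent.DualCx.isDualizing_shift hw s
  let ω := w⟦s⟧
  have e : ∀ i : ℕ, Nonempty (Groth.Agent.DualCx.T ω M (-(i : ℤ)) ≃ₗ[A]
      (LocCoh.H (IsLocalRing.maximalIdeal A) i M →ₗ[A] E)) := fun i =>
    Groth.Agent.S0374.result A ω hω hs E f hf M i
  refine ⟨fun i => ?_, ?_, ?_⟩
  · obtain ⟨e⟩ := e i
    haveI := Groth.Agent.DualCx.finite_T hω M (-(i : ℤ))
    refine ⟨Module.Finite.equiv e, ?_⟩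
    rw [← Module.supportDim_eq_of_equiv e]
    exact (Groth.Agent.DualCx.supportDim_T_le hω hs _).trans_eq (by simp)
  · obtain ⟨e⟩ := e n
    rw [← Module.supportDim_eq_of_equiv e]
    exact Groth.Agent.DualCx.supportDim_T_top hω hs hn
  · obtain ⟨e⟩ := e n
    rw [← LinearEquiv.AssociatedPrimes.eq e]
    exact Groth.Agent.DualCx.associatedPrimes_T_top hω hs hn

end Groth.Agent.S2936
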