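import Groth.Statements.S2949
import Groth.Agent.LeffAmple.Pic
import Groth.Agent.FormAlg.CIPic
import Groth.Agent.LefDiv.Restrict

set_option autoImplicit false
universe u
open CategoryTheory CategoryTheory.Limits AlgebraicGeometry
open Lef

namespace Groth.Agent.S2949

/-- Case 'resp.' with the parafactoriality hypothesis. Let k be a field, X a proper k-scheme, 𝓘 a
quasi-coherent ideal sheaf whose ideal module 𝓘O_X is invertible with ample inverse L (so X₀ = V(𝓘)
is an effective Cartier divisor with O_X(X₀) = L ample and X is projective), and let ι : X₀ → X be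
the closed immersion. Assume: every closed point of X has depth O_{X,x} ≥ 2; H^i(X, (𝓘O_X)^{⊗m} ⊗
O_X/𝓘) = 0 for all m ≥ 1 and i = 1, 2 (these are the groups H^i(X₀, O_{X₀}(−m))); and for every
closed point x ∉ X₀ every invertible module on the punctured spectrum of O_{X,x} is trivial (O_{X,x}
parafactorial). Then pullback along ι induces a bijection on isomorphism classes of invertible
modules: invertible M, M' on X with ι^*M ≅ ι^*M' are isomorphic, and every invertible O_{X₀}-module
is isomorphic to ι^*M for some invertible M on X. -/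
theorem result (k : Type u) [Field k] (X : Scheme.{u}) [X.Over (Spec (CommRingCat.of k))] [IsProper (X ↘ (Spec (CommRingCat.of k)))] (𝓘 : X.IdealSheafData) (L : X.Modules) (hL : ClSub.IsInverseOf L (ClSub.idealMod 𝓘)) (hamp : CohB1.IsAmple L) (hdepth : ∀ x : X, IsClosed ({x} : Set X) → (2 : ℕ∞) ≤ LocCoh.depth (X.presheaf.stalk x) (X.presheaf.stalk x)) (hH : ∀ m : ℕ, 1 ≤ m → ∀ i : ℕ, (i = 1 ∨ i = 2) → Subsingleton (Coh.HH X ((DCoh.tensorBi.obj (CohB1.tensorPow (ClSub.idealMod 𝓘) m)).obj (ClSub.quotMod 𝓘)) i)) (hpf : ∀ x : X, IsClosed ({x} : Set X) → x ∉ (𝓘.support : Set X) → ∀ N : (↑(FEt.puncturedSpec (X.presheaf.stalk x)) : Scheme.{u}).Modules, PicF.IsInvertible N → Nonempty (N ≅ Coh.structureModule _)) : (∀ M M' : X.Modules, PicF.IsInvertible M → PicF.IsInvertible M' → Nonempty ((Scheme.Modules.pullback 𝓘.subschemeι).obj M ≅ (Scheme.Modules.pullback 𝓘.subschemeι).obj M') → Nonempty (M ≅ M')) ∧ ∀ N : (𝓘.subscheme).Modules, PicF.IsInvertible N → ∃ M : X.Modules, PicF.IsInvertible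 M ∧ Nonempty ((Scheme.Modules.pullback 𝓘.subschemeι).obj M ≅ N) := by
  haveI : IsLocallyNoetherian X := LocallyOfFiniteType.isLocallyNoetherian (X ↘ Spec (CommRingCat.of k))
  have hi : PicF.IsInvertible (ClSub.idealMod 𝓘) :=
    (Groth.Agent.S8914.result 𝓘).2 (Groth.Agent.LeffAmple.isEffCartier_of_inverse hL)
  have hinv : ClSub.IsInverseOf (ClSub.idealMod 𝓘) L := ⟨TMul.commIso _ _ ≪≫ hL.some⟩
  obtain ⟨m₀, hm₀⟩ := Groth.Agent.LefDiv.exists_vanishing k 2 hdepth hamp hi hinv
  have hLeff : LefX.LeffCond X 𝓘 := Groth.Agent.LeffAmple.leff_of_structure k hL hamp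
    (Groth.Agent.LefDiv.lefCond k hL hamp hdepth)
    (fun P hP => Groth.Agent.LefDiv.homToFormal_coherent k hL hamp hdepth P
      (Groth.Agent.K0Coh.isCoh_of_isFinLocFree (Groth.Agent.ResDesc.isFinLocFree_of_isInvertible hP)))
    ⟨m₀, hm₀⟩ ⟨1, fun m hm => hH m hm 1 (Or.inl rfl)⟩
  have h3 : ∀ U : X.Opens, (𝓘.support : Set X) ⊆ (U : Set X) → ∀ x : X, x ∉ U →
      ParaF.IsParafactorialLocalRing (X.presheaf.stalk x) := fun U hU x hx => by
    let f := X ↘ Spec (CommRingCat.of k)
    have hc := Groth.Agent.LefDiv.isClosed_asFiber_of_disjoint f 𝓘 L hL hamp (U : Set X)ᶜ U.2.isClosed_compl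
      (Set.disjoint_left.2 fun w hw hwI => hw (hU hwI)) x hx
    have hsurj : Set.range (f.fiberι (f x)) = Set.univ := by
      rw [Scheme.Hom.range_fiberι]
      exact Set.eq_univ_of_forall fun w => Subsingleton.elim (α := ↥(Spec (CommRingCat.of k))) _ _
    have hemb : Topology.IsClosedEmbedding (f.fiberι (f x)) :=
      ⟨(f.fiberι (f x)).isEmbedding, by rw [hsurj]; exact isClosed_univ⟩
    have hxc := hemb.isClosedMap _ hc
    rw [Set.image_singleton, Scheme.Hom.fiberι_asFiber] at hxc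
    exact (Groth.Agent.S2824.result _).2 ⟨Groth.Agent.FormAlg.bijective_restrict_punctured _ (hdepth x hxc),
      hpf x hxc fun h => hx (hU h)⟩
  obtain ⟨h1, h2⟩ := Groth.Agent.LeffAmple.pic_thickening k hL hLeff 0 (fun m hm i hi => hH m (by omega) i hi) h3
  have key : ∀ J : X.IdealSheafData, J = 𝓘 ^ (0 + 1) →
      Formal2.PicPullbackInjective J.subschemeι ∧ Formal2.PicPullbackSurjective J.subschemeι := fun J hJ => by
    subst hJ; exact ⟨h1, h2⟩
  obtain ⟨hinj, hsur⟩ := key 𝓘 (pow_one 𝓘).symm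
  exact ⟨fun M M' hM hM' he => Groth.Agent.LeffAmple.nonempty_iso_of_injective _ hinj hM hM' he.some,
    fun N hN => hsur N hN⟩

end Groth.Agent.S2949
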