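import Groth.Statements.S2954
import Groth.Agent.RootSys.BaseGen

set_option autoImplicit false
open RootPairing
open scoped Pointwise
universe u
open RootD

namespace Groth.Agent.S2954

open Groth.Agent.RootSys

/-- For a finite crystallographic reduced root pairing (over a domain of characteristic zero), the Weyl
group acts freely and transitively on bases: for two bases b, b' there is exactly one element of the
Weyl group carrying the set of simple roots of b onto that of b'. -/
theorem result {ι R M N : Type*} [CommRing R] [CharZero R] [IsDomain R] [AddCommGroup M] [Module R M]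
    [AddCommGroup N] [Module R N] (P : RootPairing ι R M N) [Finite ι] [P.IsCrystallographic] [P.IsReduced]
    (b b' : P.Base) :
    ∃! g : P.weylGroup, (fun i : ι => (g : P.Aut) • i) '' (b.support : Set ι) = (b'.support : Set ι) := by
  obtain ⟨g, hg, he⟩ := base_transitive b b'
  refine ⟨⟨g, hg⟩, he, fun w hw => Subtype.ext ?_⟩
  have h : g⁻¹ * (w : P.Aut) = 1 := by
    refine base_eq_one b (mul_mem (inv_mem hg) w.2) fun j hj => ?_
    obtain ⟨a, ha, ea⟩ : (w : P.Aut) • j ∈ (fun i : ι => g • i) '' (b.support : Set ι) := by
      rw [he]; exact hw.le ⟨j, hj, rfl⟩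
    rw [mul_smul, ← show g • a = (w : P.Aut) • j from ea, inv_smul_smul]
    exact RootPairing.Base.isPos_of_mem_support ha
  exact (inv_mul_eq_one.mp h).symm

end Groth.Agent.S2954
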