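import Groth.Statements.S2955
import Groth.Agent.RootSys.BaseGen

set_option autoImplicit false
open RootPairing
open scoped Pointwise Classical
universe u
open RootD

namespace Groth.Agent.S2955

open Groth.Agent.RootSys

/-- Let P be a finite crystallographic reduced root pairing over a domain of characteristic zero, with a
base b, and write 2ρ for the sum of the positive roots with respect to b. Then for every simple root
β (an index in the support of b) the reflection in β sends 2ρ to 2ρ − 2β (equivalently, the coroot
of β pairs to 1 with ρ; only the reflection identity is asserted). -/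
theorem result {ι R M N : Type*} [CommRing R] [CharZero R] [IsDomain R] [AddCommGroup M] [Module R M]
    [AddCommGroup N] [Module R N] (P : RootPairing ι R M N) [Finite ι] [P.IsCrystallographic] [P.IsReduced]
    [Fintype ι] (b : P.Base) (j : ι) (hj : j ∈ b.support) :
    P.reflection j (∑ i, if b.IsPos i then P.root i else 0) =
      (∑ i, if b.IsPos i then P.root i else 0) - (2 : R) • P.root j := by
  classical
  let s := RootPairing.Equiv.reflection P j
  let Q : Finset ι := Finset.univ.filter fun i => b.IsPos i ∧ i ≠ j
  have hpj : b.IsPos j := RootPairing.Base.isPos_of_mem_support hj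
  have hsum : (∑ i, if b.IsPos i then P.root i else 0) = P.root j + ∑ i ∈ Q, P.root i := by
    rw [← Finset.sum_filter, ← Finset.add_sum_erase _ _ (show j ∈ Finset.univ.filter (fun i => b.IsPos i) by simp [hpj])]
    congr 1
    exact Finset.sum_congr (Finset.ext fun i => by simp [Q, and_comm]) fun _ _ => rfl
  have hperm : ∀ i ∈ Q, s • i ∈ Q := by
    intro i hi
    simp only [Q, Finset.mem_filter, Finset.mem_univ, true_and] at hi ⊢
    refine ⟨hi.1.reflectionPerm hj hi.2, fun h => ?_⟩
    have e := congrArg (fun x => s • x) h
    simp only [← mul_smul, show s * s = 1 from greflection_mul_self j, one_smul] at e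
    rw [e, show s • j = P.reflectionPerm j j from rfl, isPos_opp_iff b] at hi
    exact hi.1 hpj
  have hQ : ∑ i ∈ Q, P.root (s • i) = ∑ i ∈ Q, P.root i :=
    Finset.sum_nbij' (fun i => s • i) (fun i => s • i) hperm hperm
      (fun i _ => by simp only [← mul_smul, show s * s = 1 from greflection_mul_self j, one_smul])
      (fun i _ => by simp only [← mul_smul, show s * s = 1 from greflection_mul_self j, one_smul])
      (fun i _ => rfl)
  rw [hsum, map_add, map_sum, P.reflection_apply_self]
  have e : ∀ i, P.reflection j (P.root i) = P.root (s • i) := fun i => (P.root_reflectionPerm j i).symm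
  simp only [e, hQ]
  rw [two_smul]
  abel

end Groth.Agent.S2955
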