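import Groth.Statements.S2957
import Groth.Agent.RootSys.Deletion
set_option autoImplicit false
open RootPairing
open scoped Pointwise
universe u
open RootD

namespace Groth.Agent.S2957
section Aux

variable {ι R M N : Type*} [CommRing R] [CharZero R] [AddCommGroup M] [Module R M]
  [AddCommGroup N] [Module R N] {P : RootPairing ι R M N} (b : P.Base)

local notation "σ" => RootPairing.Equiv.reflection P

lemma root_smul (g : P.Aut) (i : ι) : P.root (g • i) = g • P.root i :=
  RootPairing.Equiv.root_indexEquiv_eq_smul P i g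

lemma smul_opp (g : P.Aut) (i : ι) : g • P.reflectionPerm i i = P.reflectionPerm (g • i) (g • i) :=
  P.root.injective (by rw [root_smul, P.root_reflectionPerm, P.root_reflectionPerm, P.reflection_apply_self, P.reflection_apply_self, root_smul, smul_neg])

lemma conj_reflection (g : P.Aut) (i : ι) : g * σ i * g⁻¹ = σ (g • i) := by
  refine RootPairing.Equiv.weightHom_injective P (LinearEquiv.ext fun x => ?_)
  show (g * σ i * g⁻¹) • x = σ (g • i) • x
  rw [mul_smul, mul_smul, RootPairing.Equiv.reflection_smul, RootPairing.Equiv.reflection_smul,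
    P.reflection_apply, P.reflection_apply, smul_sub, smul_inv_smul, smul_comm g, root_smul]
  congr 2
  have e := LinearMap.congr_fun
    (RootPairing.Hom.weight_coweight_transpose_apply P P (P.coroot (g • i)) g.toHom) (g⁻¹ • x)
  rw [RootPairing.Hom.coroot_coweightMap_apply, show g.toHom.indexEquiv.symm (g • i) = i from
    g.toHom.indexEquiv.symm_apply_apply i] at e
  have e' : P.toLinearMap (g • g⁻¹ • x) (P.coroot (g • i)) = P.toLinearMap (g⁻¹ • x) (P.coroot i) := e
  rw [smul_inv_smul] at e'
  exact e'.symm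

lemma refl_mul_self (i : ι) : σ i * σ i = 1 := by
  nth_rw 2 [← RootPairing.Equiv.reflection_inv P i]
  exact mul_inv_cancel _

lemma height_lin {i j k : ι} {s t : ℤ} (hk : P.root k = s • P.root i + t • P.root j) :
    b.height k = s * b.height i + t * b.height j := by
  obtain ⟨f, -, -, hf⟩ := b.exists_root_eq_sum_int i
  obtain ⟨g, -, -, hg⟩ := b.exists_root_eq_sum_int j
  have hfg : P.root k = ∑ l ∈ b.support, (s • f + t • g) l • P.root l := by
    simp_rw [Pi.add_apply, Pi.smul_apply, add_smul, smul_assoc, Finset.sum_add_distrib, ← Finset.smul_sum,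
      ← hf, ← hg, hk]
  simp_rw [RootPairing.Base.height_eq_sum hf, RootPairing.Base.height_eq_sum hg, RootPairing.Base.height_eq_sum hfg,
    Pi.add_apply, Pi.smul_apply, Finset.sum_add_distrib, smul_eq_mul, Finset.mul_sum]

lemma coeff_sign {i j k : ι} (hi : i ∈ b.support) (hj : j ∈ b.support) (hij : i ≠ j) {s t : ℤ}
    (hk : P.root k = s • P.root i + t • P.root j) : (0 ≤ s ∧ 0 ≤ t) ∨ (s ≤ 0 ∧ t ≤ 0) := by
  classical
  obtain ⟨f, hf₀, hf₁, hf⟩ := b.exists_root_eq_sum_int k
  let g : ι → ℤ := Pi.single i s + Pi.single j t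
  have hg : P.root k = ∑ l ∈ b.support, g l • P.root l := by
    simp only [g, Pi.add_apply, add_smul, Finset.sum_add_distrib]
    rw [Finset.sum_eq_single_of_mem i hi (fun l _ h => by simp [h]),
      Finset.sum_eq_single_of_mem j hj (fun l _ h => by simp [h])]
    simpa using hk
  have key : ∀ l ∈ b.support, f l = g l := fun l hl => by
    rw [hf, b.support.sum_subtype (p := (· ∈ b.support)) (by simp) (F := inferInstance),
      b.support.sum_subtype (p := (· ∈ b.support)) (by simp) (F := inferInstance)] at hg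
    exact Fintype.linearIndependent_iffₛ.mp (b.linearIndepOn_root.restrict_scalars' ℤ) (f ∘ (↑)) (g ∘ (↑))
      (by simpa using hg) ⟨l, hl⟩
  have es : f i = s := by simpa [g, hij] using key i hi
  have et : f j = t := by simpa [g, hij.symm] using key j hj
  rcases hf₁ with h | h
  · exact Or.inl ⟨es ▸ h.le i, et ▸ h.le j⟩
  · exact Or.inr ⟨es ▸ h.le i, et ▸ h.le j⟩

variable [P.IsCrystallographic]

lemma root_refl_smul (j k : ι) : P.root (σ j • k) = P.root k - P.pairingIn ℤ k j • P.root j := by
  show P.root (P.reflectionPerm j k) = _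
  rw [P.root_reflectionPerm, RootPairing.reflection_apply_root' ℤ]

lemma smul_mem_span {i j : ι} {u : P.Aut} (hu : u ∈ Subgroup.closure {σ i, σ j}) :
    ∀ x ∈ Submodule.span ℤ {P.root i, P.root j}, u • x ∈ Submodule.span ℤ {P.root i, P.root j} := by
  set L := Submodule.span ℤ {P.root i, P.root j}
  have hgen : ∀ l ∈ ({i, j} : Set ι), ∀ x ∈ L, σ l • x ∈ L := by
    intro l hl x hx
    have hlL : P.root l ∈ L := Submodule.subset_span (by rcases hl with rfl | rfl <;> simp)
    induction hx using Submodule.span_induction with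
    | mem y hy =>
      obtain ⟨k, hkmem, rfl⟩ : ∃ k, P.root k ∈ L ∧ P.root k = y := by
        rcases hy with rfl | rfl <;> exact ⟨_, Submodule.subset_span (by simp), rfl⟩
      rw [← root_smul, root_refl_smul]
      exact L.sub_mem hkmem (L.smul_mem _ hlL)
    | zero => simp
    | add y z _ _ hy hz => rw [smul_add]; exact L.add_mem hy hz
    | smul c y _ hy => rw [smul_comm]; exact L.smul_mem _ hy
  induction hu using Subgroup.closure_induction'' with
  | one => simp
  | mem x hx =>
    rcases hx with rfl | rfl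
    · exact hgen i (by simp)
    · exact hgen j (by simp)
  | inv_mem x hx =>
    rcases hx with rfl | rfl
    · rw [RootPairing.Equiv.reflection_inv]; exact hgen i (by simp)
    · rw [RootPairing.Equiv.reflection_inv]; exact hgen j (by simp)
  | mul x y _ _ hx hy => intro z hz; rw [mul_smul]; exact hx _ (hy _ hz)

variable [Finite ι] [IsDomain R] [P.IsReduced]

lemma pos_opp_iff (i : ι) : b.IsPos (P.reflectionPerm i i) ↔ ¬ b.IsPos i :=
  RootPairing.Base.IsPos.neg_iff_not b i

lemma reflData : Groth.Agent.RootSys.ReflData (RootPairing.Equiv.reflection P) b.IsPos (b.support : Set ι) where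
  mul_self i _ := refl_mul_self i
  conj g _ i := conj_reflection g i
  pos_simple _ hi := RootPairing.Base.isPos_of_mem_support hi
  neg_smul g _ j _ hp := by
    have e : g • σ j • j = P.reflectionPerm (g • j) (g • j) := smul_opp g j
    rw [e] at hp
    exact (pos_opp_iff b _).mp hp
  moves i hi j _ g _ hp hn := by
    by_contra h
    exact hn (hp.reflectionPerm hi h)

lemma mem_closure {w : P.Aut} (hw : w ∈ P.weylGroup) :
    w ∈ Subgroup.closure (RootPairing.Equiv.reflection P '' (b.support : Set ι)) := by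
  set H := Subgroup.closure (RootPairing.Equiv.reflection P '' (b.support : Set ι))
  refine (Subgroup.closure_le H).mpr ?_ hw
  rintro _ ⟨i, rfl⟩
  refine b.induction_reflect i (p := fun i => σ i ∈ H) (fun i hi => ?_)
    (fun i hi => Subgroup.subset_closure ⟨i, hi, rfl⟩) (fun i j hi hj => ?_)
  · show σ (σ i • i) ∈ H
    rw [← conj_reflection]
    exact H.mul_mem (H.mul_mem hi hi) (H.inv_mem hi)
  · show σ (σ j • i) ∈ H
    have hj' : σ j ∈ H := Subgroup.subset_closure ⟨j, hj, rfl⟩
    rw [← conj_reflection]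
    exact H.mul_mem (H.mul_mem hj' hi) (H.inv_mem hj')

/-- The number of positive roots sent to negative ones. -/
noncomputable def negCount (w : P.Aut) : ℕ := Nat.card {i : ι // b.IsPos i ∧ ¬ b.IsPos (w • i)}

lemma negCount_lt {w : P.Aut} {j : ι} (hj : j ∈ b.support) (h : ¬ b.IsPos (w • j)) :
    negCount b (w * σ j) < negCount b w := by
  have hne : ∀ i : {i : ι // b.IsPos i ∧ ¬ b.IsPos ((w * σ j) • i)}, i.1 ≠ j := fun i e => i.2.2 (by
    rw [e, mul_smul, show σ j • j = P.reflectionPerm j j from rfl, smul_opp]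
    exact (pos_opp_iff b _).mpr h)
  let f : {i : ι // b.IsPos i ∧ ¬ b.IsPos ((w * σ j) • i)} → {i : ι // b.IsPos i ∧ ¬ b.IsPos (w • i)} :=
    fun i => ⟨σ j • i.1, i.2.1.reflectionPerm hj (hne i), by rw [← mul_smul]; exact i.2.2⟩
  classical
  letI := Fintype.ofFinite ι
  unfold negCount
  rw [Nat.card_eq_fintype_card, Nat.card_eq_fintype_card]
  refine Fintype.card_lt_of_injective_of_notMem f (fun x y e => Subtype.ext
    (MulAction.injective (σ j) (congrArg Subtype.val e))) (b := ⟨j, RootPairing.Base.isPos_of_mem_support hj, h⟩) ?_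
  rintro ⟨⟨i, hi⟩, e⟩
  have e' : σ j • i = j := congrArg Subtype.val e
  have : i = P.reflectionPerm j j := by
    rw [← one_smul P.Aut i, ← refl_mul_self j, mul_smul, e']
    rfl
  exact (pos_opp_iff b j).mp (this ▸ hi.1) (RootPairing.Base.isPos_of_mem_support hj)

lemma exists_chain : ∀ (n : ℕ) (w : P.Aut), w ∈ P.weylGroup → ∀ α β : ι, negCount b w = n →
    α ∈ b.support → β ∈ b.support → w • α = β →
    ∃ (m : ℕ) (a : Fin (m + 1) → ι) (ws : Fin m → P.Aut),
      (∀ i, a i ∈ b.support) ∧ a 0 = α ∧ a (Fin.last m) = β ∧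
      (∀ i, ws i ∈ P.weylGroup) ∧
      w = (List.ofFn fun i : Fin m => ws (Fin.rev i)).prod ∧
      (∀ i : Fin m, ws i • a (Fin.castSucc i) = a (Fin.succ i)) ∧
      ∀ i : Fin m, ∃ γ ∈ b.support,
        ws i ∈ Subgroup.closure {σ (a (Fin.castSucc i)), σ γ} ∧
        (a (Fin.castSucc i) ≠ a (Fin.succ i) → γ = a (Fin.succ i)) := by
  intro n
  induction n using Nat.strong_induction_on with
  | _ n ih =>
  intro w hw α β hn hα hβ hwα
  by_cases hall : ∀ j ∈ b.support, b.IsPos (w • j)
  · obtain rfl : w = 1 := (reflData b).eq_one_of_pos (mem_closure b hw) hall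
    rw [one_smul] at hwα
    exact ⟨0, fun _ => α, Fin.elim0, fun _ => hα, rfl, hwα, fun i => i.elim0, by simp, fun i => i.elim0,
      fun i => i.elim0⟩
  · push Not at hall
    obtain ⟨γ, hγ, hneg⟩ := hall
    have hne : α ≠ γ := fun e => hneg (by rw [← e, hwα]; exact RootPairing.Base.isPos_of_mem_support hβ)
    set K := Subgroup.closure {σ α, σ γ}
    have hKW : K ≤ P.weylGroup := (Subgroup.closure_le _).mpr (by
      rintro x (rfl | rfl) <;> exact P.reflection_mem_weylGroup _)
    have hsα : σ α ∈ K := Subgroup.subset_closure (by simp)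
    have hsγ : σ γ ∈ K := Subgroup.subset_closure (by simp)
    classical
    have hex : ∃ c : ℕ, ∃ v : P.Aut, v⁻¹ * w ∈ K ∧ negCount b v = c := ⟨_, w, by simp [K.one_mem], rfl⟩
    obtain ⟨v, hvK, hvc⟩ := Nat.find_spec hex
    have hmin : ∀ v' : P.Aut, v'⁻¹ * w ∈ K → negCount b v ≤ negCount b v' := fun v' h' =>
      hvc ▸ Nat.find_min' hex ⟨v', h', rfl⟩
    have hpos : ∀ δ ∈ b.support, σ δ ∈ K → b.IsPos (v • δ) := fun δ hδ hδK => by
      by_contra hc
      have := hmin (v * σ δ) (by rw [mul_inv_rev, mul_assoc]; exact K.mul_mem (K.inv_mem hδK) hvK)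
      exact absurd (negCount_lt b hδ hc) (not_lt.mpr this)
    have hlt : negCount b v < n := hn ▸ lt_of_le_of_lt
      (hmin (w * σ γ) (by rw [mul_inv_rev, mul_assoc, inv_mul_cancel, mul_one]; exact K.inv_mem hsγ))
      (negCount_lt b hγ hneg)
    set u := v⁻¹ * w with hu
    have hvu : v * u = w := by rw [hu, mul_inv_cancel_left]
    have hvW : v ∈ P.weylGroup := by
      rw [show v = w * u⁻¹ by rw [hu, mul_inv_rev, inv_inv, mul_inv_cancel_left]]
      exact mul_mem hw (inv_mem (hKW hvK))
    obtain ⟨s, t, hst⟩ := Submodule.mem_span_pair.mp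
      (smul_mem_span hvK (P.root α) (Submodule.subset_span (by simp)))
    rw [← root_smul] at hst
    have hβeq : P.root β = s • P.root (v • α) + t • P.root (v • γ) := by
      rw [← hwα, ← hvu, mul_smul, root_smul v, ← hst, smul_add, root_smul, root_smul, smul_comm v, smul_comm v]
    have h1 := height_lin b hβeq
    rw [RootPairing.Base.height_one_of_mem_support hβ] at h1
    have hp : 0 < b.height (v • α) := hpos α hα hsα
    have hq : 0 < b.height (v • γ) := hpos γ hγ hsγ
    have hcases : (s = 1 ∧ t = 0) ∨ (s = 0 ∧ t = 1) := by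
      rcases coeff_sign b hα hγ hne hst.symm with ⟨hs, ht⟩ | ⟨hs, ht⟩
      · have e1 : s ≤ 1 := by nlinarith
        have e2 : t ≤ 1 := by nlinarith
        interval_cases s <;> interval_cases t <;> omega
      · nlinarith
    have hα' : u • α = α ∨ u • α = γ := by
      rcases hcases with ⟨rfl, rfl⟩ | ⟨rfl, rfl⟩
      · exact Or.inl (P.root.injective (by simpa using hst.symm))
      · exact Or.inr (P.root.injective (by simpa using hst.symm))
    have hmemα' : u • α ∈ b.support := by rcases hα' with e | e <;> rw [e] <;> assumption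
    obtain ⟨m, a, ws, h1, h2, h3, h4, h5, h6, h7⟩ := ih _ hlt v hvW (u • α) β rfl hmemα' hβ
      (by rw [← mul_smul, hvu, hwα])
    refine ⟨m + 1, Fin.cons α a, Fin.cons u ws, ?_, rfl, ?_, ?_, ?_, ?_, ?_⟩
    · exact Fin.cases hα h1
    · rw [← Fin.succ_last, Fin.cons_succ, h3]
    · exact Fin.cases (hKW hvK) h4
    · rw [List.ofFn_succ', List.concat_eq_append, List.prod_append, List.prod_singleton, Fin.rev_last,
        Fin.cons_zero, ← hvu, h5]
      simp [Fin.rev_castSucc]
    · refine Fin.cases ?_ fun i => ?_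
      · simp [h2]
      · simpa [← Fin.succ_castSucc] using h6 i
    · refine Fin.cases ?_ fun i => ?_
      · refine ⟨γ, hγ, by simpa using hvK, fun hne' => ?_⟩
        rw [Fin.castSucc_zero, Fin.cons_zero, Fin.cons_succ, h2] at hne'
        rw [Fin.cons_succ, h2, (hα'.resolve_left (Ne.symm hne'))]
      · simpa [← Fin.succ_castSucc] using h7 i

end Aux

/-- For a finite crystallographic reduced root pairing with a base b: let α, β be simple roots and w an
element of the Weyl group with w(α) = β. Then there are simple roots α = α_0, ..., α_m = β and Weyl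
group elements w_0, ..., w_{m-1} with w = w_{m-1} ... w_0, w_i(α_i) = α_{i+1}, and each w_i lying in
the subgroup generated by the reflections in α_i and in a simple root γ_i, where γ_i = α_{i+1}
whenever α_i ≠ α_{i+1}. -/
theorem result {ι R M N : Type*} [CommRing R] [CharZero R] [IsDomain R] [AddCommGroup M] [Module R M]
    [AddCommGroup N] [Module R N] (P : RootPairing ι R M N) [Finite ι] [P.IsCrystallographic] [P.IsReduced]
    (b : P.Base) (α β : ι) (hα : α ∈ b.support) (hβ : β ∈ b.support) (w : P.Aut) (hw : w ∈ P.weylGroup)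
    (hwα : w • α = β) :
    ∃ (m : ℕ) (a : Fin (m + 1) → ι) (ws : Fin m → P.Aut),
      (∀ i, a i ∈ b.support) ∧ a 0 = α ∧ a (Fin.last m) = β ∧
      (∀ i, ws i ∈ P.weylGroup) ∧
      w = (List.ofFn fun i : Fin m => ws (Fin.rev i)).prod ∧
      (∀ i : Fin m, ws i • a (Fin.castSucc i) = a (Fin.succ i)) ∧
      ∀ i : Fin m, ∃ γ ∈ b.support,
        ws i ∈ Subgroup.closure {Equiv.reflection P (a (Fin.castSucc i)), Equiv.reflection P γ} ∧
        (a (Fin.castSucc i) ≠ a (Fin.succ i) → γ = a (Fin.succ i)) := by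
  classical
  obtain ⟨m, a, ws, h⟩ := exists_chain b (negCount b w) w hw α β rfl hα hβ hwα
  exact ⟨m, a, ws, h⟩


end Groth.Agent.S2957
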