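import Groth.Statements.S2960
import Groth.Agent.DynPar.EtaleBorel
-- import your own Groth.Agent.* helpers here

set_option autoImplicit false
open CategoryTheory MonoidalCategory CartesianMonoidalCategory MonObj GrpObj AlgebraicGeometry
universe u
open RedX

set_option backward.isDefEq.respectTransparency false

namespace Groth.Agent.S2960

/-- Let G be a reductive group scheme over a scheme S. Then locally for the étale topology on S, G has a
Borel subgroup: every point of S is in the image of an étale morphism U → S over which the
pulled-back group has a Borel subgroup (a smooth closed subgroup scheme with Borel geometric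
fibres). The classical input over an algebraically closed field — that a pinned reductive group has
a Borel subgroup containing the torus of the pinning and through which the root morphisms of all
positive roots factor — is not proved here but carried as the first hypothesis. -/
theorem result
    (hNormAlgClosed : ∀ (K : Type u) [Field K] [IsAlgClosed K] (H : Over (Spec (CommRingCat.of K))) [GrpObj H]
      (D : Red.Pinning H), ∃ (B : Over (Spec (CommRingCat.of K))) (_ : GrpObj B) (b : B ⟶ H),
        Red.IsBorel b ∧ (∃ t : D.T ⟶ B, t ≫ b = D.i) ∧
        ∀ a, D.P.root a ∈ AddSubmonoid.closure (D.P.root '' (D.base.support : Set D.idx)) →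
          ∃ v : Red.Ga (Spec (CommRingCat.of K)) ⟶ B, v ≫ b = D.u a)
    {S : Scheme.{u}} (G : Over S) [GrpObj G] (hG : Red.IsReductive G) (s : S) :
    ∃ (U : Scheme.{u}) (f : U ⟶ S) (_ : Etale f), s ∈ Set.range f.base ∧
      ∃ (B : Over U) (_ : GrpObj B) (b : B ⟶ (Over.pullback f).obj G), Red.IsBorel b := by
  haveI := hG.1
  haveI : Smooth G.hom := hG.2.1
  obtain ⟨A, _, u, hu, hsu, -, B, _, v, hv, hvs, T, _, i, hi, r, hr⟩ :=
    Groth.Agent.S3002.result S G (Groth.Agent.RedCartan.isConnected_fibre_of_isReductive hG) s (hG.2.2 s)
  haveI := hu; haveI := hv; haveI := hvs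
  refine ⟨Spec (CommRingCat.of B), v ≫ u, inferInstance, ?_,
    Groth.Agent.DynPar.exists_borel_of_split (Groth.Agent.DynPar.isReductive_bc (v ≫ u) hG) i hi hr⟩
  obtain ⟨a, rfl⟩ := hsu
  obtain ⟨b, rfl⟩ := v.surjective a
  exact ⟨b, Scheme.Hom.comp_apply v u b⟩

end Groth.Agent.S2960
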