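import Groth.Statements.S2965


set_option autoImplicit false
universe u
open SGA3t2b

namespace Groth.Agent.S2965

open Polynomial in
/-- Implication (iv) ⇒ (i) (global form, finite free module): let u be an endomorphism of a finite free
module M over a commutative ring A whose characteristic polynomial is X^r · Q with Q(0) invertible.
Then M is the direct sum of two u-stable submodules M', M'' such that u is nilpotent on M' and
bijective on M''. -/
theorem result {A : Type u} [CommRing A] {M : Type u} [AddCommGroup M] [Module A M]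
    [Module.Free A M] [Module.Finite A M] (u : M →ₗ[A] M) (r : ℕ) (Q : A[X]) (hQ : IsUnit (Q.coeff 0))
    (h : u.charpoly = X ^ r * Q) :
    ∃ M' M'' : Submodule A M, IsCompl M' M'' ∧ (∀ x ∈ M', u x ∈ M') ∧ (∀ x ∈ M'', u x ∈ M'') ∧
      (∃ n : ℕ, ∀ x ∈ M', (u ^ n) x = 0) ∧ Set.BijOn u M'' M'' := by
  have hu : u ^ r = aeval u ((X : A[X]) ^ r) := by simp
  obtain ⟨a, ha⟩ : (X : A[X]) ∣ Q - C (Q.coeff 0) := X_dvd_iff.mpr (by simp)
  obtain ⟨c, hc⟩ := hQ
  have hcop1 : IsCoprime (X : A[X]) Q := by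
    refine ⟨- C (↑c⁻¹ : A) * a, C (↑c⁻¹ : A), ?_⟩
    have : C (↑c⁻¹ : A) * C (Q.coeff 0) = 1 := by rw [← C_mul, ← hc, Units.inv_mul, C_1]
    linear_combination C (↑c⁻¹ : A) * ha + this
  have hcop : IsCoprime ((X : A[X]) ^ r) Q := hcop1.pow_left
  have hann : aeval u (X ^ r * Q) = 0 := h ▸ LinearMap.aeval_self_charpoly u
  have hcomm : ∀ (p : A[X]) (y : M), aeval u p (u y) = u (aeval u p y) := fun p y => by
    have h1 : aeval u (p * X) = aeval u (X * p) := by rw [mul_comm]
    rw [aeval_mul, aeval_mul, aeval_X] at h1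
    exact LinearMap.congr_fun h1 y
  refine ⟨LinearMap.ker (aeval u ((X : A[X]) ^ r)), LinearMap.ker (aeval u Q),
    ⟨disjoint_ker_aeval_of_isCoprime u hcop, ?_⟩, ?_, ?_, ⟨r, fun y hy => ?_⟩, ?_⟩
  · rw [codisjoint_iff, sup_ker_aeval_eq_ker_aeval_mul_of_coprime u hcop, hann, LinearMap.ker_zero]
  · intro y hy
    rw [LinearMap.mem_ker] at hy ⊢
    rw [hcomm, hy, map_zero]
  · intro y hy
    rw [LinearMap.mem_ker] at hy ⊢
    rw [hcomm, hy, map_zero]
  · rw [hu]; exact hy
  · obtain ⟨s, t, hst⟩ := hcop1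
    have key : ∀ y ∈ LinearMap.ker (aeval u Q), aeval u s (u y) = y ∧ u (aeval u s y) = y := by
      intro y hy
      have h1 := congrArg (fun p => aeval u p y) hst
      simp only [map_add, map_mul, aeval_X, map_one, LinearMap.add_apply, Module.End.mul_apply,
        LinearMap.mem_ker.mp hy, map_zero, add_zero, Module.End.one_apply] at h1
      exact ⟨h1, (hcomm s y).symm.trans h1⟩
    refine ⟨fun y hy => ?_, fun y hy z hz hyz => ?_, fun y hy => ⟨aeval u s y, ?_, (key y hy).2⟩⟩
    · rw [SetLike.mem_coe, LinearMap.mem_ker] at hy ⊢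
      rw [hcomm, hy, map_zero]
    · rw [← (key y hy).1, hyz, (key z hz).1]
    · rw [SetLike.mem_coe, LinearMap.mem_ker] at hy ⊢
      rw [← Module.End.mul_apply, ← map_mul, mul_comm, map_mul, Module.End.mul_apply, hy, map_zero]

end Groth.Agent.S2965
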