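import Groth.Statements.S2967


set_option autoImplicit false
universe u
open SGA3t2b

namespace Groth.Agent.S2967

/-- A commutative p-Lie algebra over a field k of characteristic p is recorded as a k-vector space g
together with its p-th power map φ, which is additive and Frobenius-semilinear. Let g be
finite-dimensional and non-zero, and assume every element of g is killed by some iterate of φ (g is
unipotent). Then the k-subspace of g spanned by the image φ(g) is a proper subspace. -/
theorem result {k : Type u} [Field k] (p : ℕ) [Fact p.Prime] [CharP k p]
    {V : Type u} [AddCommGroup V] [Module k V] [FiniteDimensional k V] [Nontrivial V]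
    (φ : V →ₛₗ[frobenius k p] V) (hφ : ∀ x : V, ∃ n : ℕ, φ^[n] x = 0) :
    Submodule.span k (Set.range φ) ≠ ⊤ := by
  intro h
  have hn : ∀ n, Submodule.span k (Set.range (φ^[n])) = ⊤ := by
    intro n
    induction n with
    | zero => simp
    | succ n ih =>
      rw [eq_top_iff, ← h, Submodule.span_le]
      rintro _ ⟨v, rfl⟩
      have hv : v ∈ Submodule.span k (Set.range (φ^[n])) := ih ▸ Submodule.mem_top
      induction hv using Submodule.span_induction with
      | mem w hw =>
        obtain ⟨u, rfl⟩ := hw
        exact Submodule.subset_span ⟨u, Function.iterate_succ_apply' φ n u⟩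
      | zero => rw [map_zero]; exact zero_mem _
      | add a b _ _ ha hb => rw [map_add]; exact add_mem ha hb
      | smul c a _ ha => rw [LinearMap.map_smulₛₗ]; exact Submodule.smul_mem _ _ ha
  let b := Module.finBasis k V
  choose N hN using fun i => hφ (b i)
  let M := ∑ i, N i
  have hzero : ∀ v : V, φ^[M] v = 0 := by
    intro v
    have hb : ∀ i, φ^[M] (b i) = 0 := by
      intro i
      obtain ⟨d, hd⟩ := Nat.exists_eq_add_of_le (Finset.single_le_sum (f := N) (fun _ _ => Nat.zero_le _)
        (Finset.mem_univ i))
      show φ^[M] (b i) = 0
      rw [show M = d + N i from hd.trans (Nat.add_comm _ _), Function.iterate_add_apply, hN]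
      exact Function.iterate_fixed (map_zero φ) d
    have hadd : ∀ (m : ℕ) (x y : V), φ^[m] (x + y) = φ^[m] x + φ^[m] y := by
      intro m
      induction m with
      | zero => simp
      | succ m ih => intro x y; simp only [Function.iterate_succ_apply', ih, map_add]
    have hsmul : ∀ (m : ℕ) (c : k) (x : V), φ^[m] x = 0 → φ^[m] (c • x) = 0 := by
      intro m
      induction m with
      | zero => intro c x hx; simp only [Function.iterate_zero_apply] at hx ⊢; simp [hx]
      | succ m ih =>
        intro c x hx
        rw [Function.iterate_succ_apply, LinearMap.map_smulₛₗ]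
        exact ih _ _ (by rw [← Function.iterate_succ_apply]; exact hx)
    rw [← b.sum_repr v]
    refine Finset.sum_induction _ (fun w => φ^[M] w = 0) ?_ (Function.iterate_fixed (map_zero φ) M) ?_
    · intro x y hx hy; rw [hadd, hx, hy, add_zero]
    · intro i _; exact hsmul M _ _ (hb i)
  have := hn M
  rw [show Set.range (φ^[M]) = {0} from Set.range_eq_singleton_iff.2 hzero, Submodule.span_zero_singleton] at this
  exact bot_ne_top this

end Groth.Agent.S2967
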