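import Groth.Statements.S2983
import Groth.Agent.MultT.Connected

set_option autoImplicit false
universe u
open TensorProduct SGA3b
open SGA3b

open Groth.Agent

namespace Groth.Agent.S2983

/-- Let R be a ring with connected spectrum (no idempotents other than 0 and 1), G = Spec A a
diagonalisable R-group of finite type, and H = Spec (A/J) a closed subgroup (J a Hopf ideal) which
is of multiplicative type. Then H is diagonalisable. (Affine group schemes over an affine base are
taken in Hopf-algebra form; base change is the tensor product.) -/
theorem result (R : Type u) [CommRing R] (A : Type u) [CommRing A] [HopfAlgebra R A] [Nontrivial R] (hconn : ∀ e : R, IsIdempotentElem e → e = 0 ∨ e = 1)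
    (hG : IsDiagFT R A) (J : Ideal A) [J.IsHopfIdeal R] (hH : IsMultType R (A ⧸ J)) : IsDiag R (A ⧸ J) := by
  obtain ⟨M, _, -, ⟨e⟩⟩ := hG
  refine MultT.isDiag_of_span_connected hH hconn (top_unique fun b htriv => ?_)
  clear htriv
  obtain ⟨a, rfl⟩ := Ideal.Quotient.mk_surjective b
  obtain ⟨z, rfl⟩ : ∃ z, e.symm z = a := ⟨e a, e.symm_apply_apply a⟩
  let q := Bialgebra.Quotient.mkBialgHom (R := R) J
  show q (e.symm z) ∈ _
  induction z using MonoidAlgebra.induction_linear with
  | zero => simp
  | add x y hx hy => rw [map_add, map_add]; exact add_mem hx hy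
  | single m r =>
    rw [show MonoidAlgebra.single m r = r • MonoidAlgebra.single m (1 : R) by
      rw [MonoidAlgebra.smul_single, smul_eq_mul, mul_one], map_smul, map_smul]
    exact Submodule.smul_mem _ r (Submodule.subset_span
      (((MonoidAlgebra.isGroupLikeElem_single_one m).map e.symm).map q))

end Groth.Agent.S2983
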