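import Groth.Statements.S2989
import Groth.Agent.RedCartan.Global
import Groth.Agent.Chev.CentCover
import Groth.Agent.RedR1.GaSpace
-- import your own Groth.Agent.* helpers here

set_option autoImplicit false
open CategoryTheory CategoryTheory.Limits MonoidalCategory CartesianMonoidalCategory MonObj GrpObj AlgebraicGeometry
universe u
open Red

set_option backward.isDefEq.respectTransparency false

namespace Groth.Agent.S2989

/-- First assertion (H¹(G, k) = 0 for k with trivial action). Let k be a field and G a reductive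
k-group. Then every homomorphism of k-groups from G to the additive group is trivial. -/
theorem result (k : Type u) [Field k] (G : Over (Spec (CommRingCat.of k))) [GrpObj G]
    (hG : Red.IsReductive G) (φ : G ⟶ Red.Ga (Spec (CommRingCat.of k))) [IsMonHom φ] :
    φ = toUnit G ≫ η[Red.Ga (Spec (CommRingCat.of k))] := by
  rw [← Hom.one_def]
  let S := Spec (CommRingCat.of k)
  let s : S := IsLocalRing.closedPoint k
  let kk := Red.geomPt s
  let K := AlgebraicClosure (S.residueField s)
  obtain ⟨hGa, hGs, hGc, hrad⟩ := hG.2.2 s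
  haveI := hGa; haveI := hGs; haveI := hGc
  haveI : IsAffine G.left := (RedCartan.basic_of_isReductive hG).1
  haveI := hG.2.1
  haveI : Subsingleton S := inferInstanceAs (Subsingleton (PrimeSpectrum k))
  haveI : Surjective kk := ⟨fun x => ⟨IsLocalRing.closedPoint K, Subsingleton.elim _ _⟩⟩
  haveI : PreservesLimitsOfShape WalkingCospan (Over.pullback kk) :=
    (Adjunction.rightAdjoint_preservesLimits (Over.mapPullbackAdj kk)).preservesLimitsOfShape
  let G' := Red.geomFibre s G
  let e := RedR1.gaBC S kk
  haveI : IsIso e.hom.hom.hom := inferInstanceAs (IsIso ((Grp.forget _).map e.hom))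
  let ψ : G' ⟶ Red.Ga (Spec (CommRingCat.of K)) := (Over.pullback kk).map φ ≫ e.hom.hom.hom
  haveI : IsMonHom e.hom.hom.hom := e.hom.hom.isMonHom_hom
  haveI hψm : IsMonHom ψ := inferInstanceAs (IsMonHom ((Over.pullback kk).map φ ≫ e.hom.hom.hom))
  obtain ⟨T, B, _, _, t, b, htm, -, hb, htb, -⟩ := Chev.Borel.exists_maxTorus G'
  haveI := htm; haveI := hb.1; haveI := htb.2.1
  have hc := RedCartan.isCentralizerOf_self_algClosed (hG.2.2 s) (t ≫ b) htb
  obtain ⟨U, hUne, hU⟩ := Chev.Borel.exists_open_conj (t ≫ b) htb (t ≫ b) hc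
  have ht1 : (t ≫ b) ≫ ψ = 1 :=
    MTBridge.eq_one_Ga _ T (MTBridge.isMultTypeFT_of_isTorus T htb.2.2.1) ((t ≫ b) ≫ ψ)
  haveI : IsReduced G'.left := SmoothRed.isReduced_of_smooth_scheme G'.hom
  haveI : GeometricallyIrreducible G'.hom := GrpField.geometricallyIrreducible_of_connected G'
  haveI : IrreducibleSpace G'.left := GrpField.irreducibleSpace_of_nhds (GrpField.exists_irreducible_nhd G')
  have hψ : ψ = 1 := by
    haveI := RedR1.smooth_ga K
    haveI : LocallyOfFiniteType (Red.Ga (Spec (CommRingCat.of K))).hom := inferInstance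
    haveI : IsSeparated (Red.Ga (Spec (CommRingCat.of K))).hom := GrpField.isSeparated_hom _
    haveI : LocallyOfFiniteType (ψ.left ≫ (Red.Ga (Spec (CommRingCat.of K))).hom) := by rw [Over.w ψ]; infer_instance
    refine Over.OverMorphism.ext (ext_of_apply_eq (Red.Ga (Spec (CommRingCat.of K))).hom (U : Set G'.left) U.2.isLocallyClosed
      (U.2.dense hUne) (fun w hw hwc => ?_) ((Over.w ψ).trans (Over.w (1 : G' ⟶ Red.Ga (Spec (CommRingCat.of K)))).symm))
    obtain ⟨x, rfl⟩ := SubGen.exists_rpt (mem_closedPoints_iff.2 hwc)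
    rw [SubGen.map_rpt, SubGen.map_rpt]
    obtain ⟨g, y, rfl⟩ := hU x hw
    haveI : IsMonHom ψ := hψm
    rw [MonObj.comp_one]
    rw [MonObj.mul_comp (g := ψ), MonObj.mul_comp (g := ψ), GrpObj.inv_comp (g := ψ), Category.assoc y, ht1, MonObj.comp_one, _root_.mul_one, mul_inv_cancel]
  have h1 : (Over.pullback kk).map φ = (Over.pullback kk).map (1 : G ⟶ Red.Ga S) := by
    rw [← cancel_mono e.hom.hom.hom]
    refine hψ.trans ?_
    rw [Functor.map_one, MonObj.one_comp]
  haveI : Surjective (Limits.pullback.fst G.hom kk) := MorphismProperty.pullback_fst (P := @Surjective) _ _ inferInstance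
  haveI : Flat (Limits.pullback.fst G.hom kk) := inferInstance
  refine Over.OverMorphism.ext ?_
  haveI : Epi (Limits.pullback.fst G.hom kk) := Flat.epi_of_flat_of_surjective _
  rw [← cancel_epi (Limits.pullback.fst G.hom kk)]
  have h2 := congrArg (fun m => m.left ≫ Limits.pullback.fst (Red.Ga S).hom kk) h1
  erw [MTBridge.map_left_fst, MTBridge.map_left_fst] at h2
  exact h2

end Groth.Agent.S2989
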