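import Groth.Statements.S2990
import Groth.Agent.RootIntrinsic.FixRoots
import Groth.Agent.RedCartan.Global
-- import your own Groth.Agent.* helpers here

set_option autoImplicit false
set_option backward.isDefEq.respectTransparency false
set_option maxHeartbeats 1000000
open CategoryTheory MonoidalCategory CartesianMonoidalCategory MonObj GrpObj AlgebraicGeometry
universe u
open Red

set_option backward.isDefEq.respectTransparency false

namespace Groth.Agent.S2990

open Groth.Agent.HomDiag

/-- Let G be a reductive S-group scheme with a pinning (a split maximal torus T, a root datum with a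
chosen base, and root homomorphisms u_a), and let g be an S-point of G such that the inner
automorphism int(g) normalises T and commutes with the root homomorphism u_a of every simple root a.
Then int(g) is the identity: g centralises every point of G with values in any S-scheme. (This is
the case of an inner automorphism respecting the pinning without permuting the simple roots.) -/
theorem result {S : Scheme.{u}} {G : Over S} [GrpObj G] (D : Red.Pinning G)
    (g : 𝟙_ (Over S) ⟶ G)
    (hT : ∀ (X : Over S) (t : X ⟶ D.T), ∃ t' : X ⟶ D.T, (toUnit X ≫ g) * (t ≫ D.i) * (toUnit X ≫ g)⁻¹ = t' ≫ D.i)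
    (hu : ∀ a ∈ D.base.support, ∀ (X : Over S) (x : X ⟶ Red.Ga S),
      (toUnit X ≫ g) * (x ≫ D.u a) * (toUnit X ≫ g)⁻¹ = x ≫ D.u a) :
    ∀ (X : Over S) (y : X ⟶ G), (toUnit X ≫ g) * y * (toUnit X ≫ g)⁻¹ = y := by
  haveI := D.maximalTorus.1
  haveI := D.maximalTorus.2.1
  obtain ⟨τ, hτ0⟩ := hT D.T (𝟙 _)
  have hτ : ∀ (X : Over S) (t : X ⟶ D.T), (toUnit X ≫ g) * (t ≫ D.i) * (toUnit X ≫ g)⁻¹ = (t ≫ τ) ≫ D.i := fun X t => by
    have h := congrArg (fun z => t ≫ z) hτ0
    simp only [MonObj.comp_mul, GrpObj.comp_inv, Category.id_comp, ← Category.assoc] at h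
    rwa [toUnit_unique (t ≫ toUnit D.T) (toUnit X)] at h
  have hinv : ∀ X : Over S, ∀ n : Multiplicative D.M, ∀ t : X ⟶ D.T, IsUnit (ch (t ≫ D.split.hom.hom.hom) n) :=
    fun X n t => (Group.isUnit n).map _
  -- spreading over the lattice of roots
  have spread : ∀ (X : Over S) (u v : Multiplicative D.M →* Γ(X.left, ⊤)),
      (∀ a ∈ D.base.support, u (Multiplicative.ofAdd (D.P.root a)) = v (Multiplicative.ofAdd (D.P.root a))) →
      ∀ a : D.idx, u (Multiplicative.ofAdd (D.P.root a)) = v (Multiplicative.ofAdd (D.P.root a)) := by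
    intro X u v h a
    have hmon : ∀ m ∈ AddSubmonoid.closure (D.P.root '' (D.base.support : Set D.idx)),
        u (Multiplicative.ofAdd m) = v (Multiplicative.ofAdd m) := fun m hm => by
      induction hm using AddSubmonoid.closure_induction with
      | mem x hx => obtain ⟨b, hb, rfl⟩ := hx; exact h b hb
      | zero => rw [ofAdd_zero, map_one, map_one]
      | add x y _ _ hx hy => rw [ofAdd_add, map_mul, map_mul, hx, hy]
    rcases D.base.root_mem_or_neg_mem a with h' | h'
    · exact hmon _ h'
    · have h1 := hmon _ h'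
      refine ((Group.isUnit (Multiplicative.ofAdd (-D.P.root a))).map u).mul_left_cancel ?_
      have e : ∀ f : Multiplicative D.M →* Γ(X.left, ⊤),
          f (Multiplicative.ofAdd (-D.P.root a)) * f (Multiplicative.ofAdd (D.P.root a)) = 1 := fun f => by
        rw [← map_mul f, ← ofAdd_add, neg_add_cancel, ofAdd_zero, map_one]
      exact (e u).trans (((congrArg (· * _) h1).trans (e v)).symm)
  -- the simple roots are fixed
  have hsimple : ∀ a ∈ D.base.support, ∀ (X : Over S) (t : X ⟶ D.T),
      ch ((t ≫ τ) ≫ D.split.hom.hom.hom) (Multiplicative.ofAdd (D.P.root a)) =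
        ch (t ≫ D.split.hom.hom.hom) (Multiplicative.ofAdd (D.P.root a)) := fun a ha X t => by
    haveI := (D.rootHom a).1
    haveI := (D.rootHom a).2.1
    haveI : Mono (D.u a) := (Over.forget _).mono_of_mono_map (show Mono (D.u a).left from inferInstance)
    let x : X ⟶ Red.Ga S := Groth.Agent.BGaNotS.gaPt (1 : Γ(X.left, ⊤))
    obtain ⟨y, hy, hy'⟩ := (D.rootHom a).2.2 X t x
    obtain ⟨z, hz, hz'⟩ := (D.rootHom a).2.2 X (t ≫ τ) x
    have e1 : (t ≫ τ) ≫ D.i = (toUnit X ≫ g) * (t ≫ D.i) * (toUnit X ≫ g)⁻¹ := (hτ X t).symm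
    rw [e1] at hz
    have h2 : z ≫ D.u a = y ≫ D.u a := by
      rw [hz]
      conv_rhs => rw [← hu a ha X y, hy]
      conv_lhs => rw [← hu a ha X x]
      group
    rw [(cancel_mono (D.u a)).1 h2, hy', Groth.Agent.BGaNotS.gaFn_gaPt, _root_.mul_one, _root_.mul_one,
      ← Category.assoc, ← Category.assoc (t ≫ τ), Groth.Agent.RootIntrinsic.gmFn_chi,
      Groth.Agent.RootIntrinsic.gmFn_chi] at hz'
    exact hz'.symm
  have hid : τ = 𝟙 D.T := Groth.Agent.RootIntrinsic.torus_fixed D.toSplitRed g τ hτ fun a X t =>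
    spread X _ _ (fun b hb => hsimple b hb X t) a
  obtain ⟨t₀, ht₀⟩ := ((Groth.Agent.RedCartan.centralizer_self_of_isReductive D.reductive D.i D.maximalTorus).2.2 _ g).2
    fun X' x s => by
      have h := hτ X' s
      rw [hid, Category.comp_id, mul_inv_eq_iff_eq_mul] at h
      rwa [toUnit_unique x (toUnit X')]
  have hone : ∀ a ∈ D.base.support,
      ch (t₀ ≫ D.split.hom.hom.hom) (Multiplicative.ofAdd (D.P.root a)) = 1 := fun a ha => by
    haveI := (D.rootHom a).1
    haveI := (D.rootHom a).2.1
    haveI : Mono (D.u a) := (Over.forget _).mono_of_mono_map (show Mono (D.u a).left from inferInstance)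
    let x : 𝟙_ (Over S) ⟶ Red.Ga S := Groth.Agent.BGaNotS.gaPt (1 : Γ((𝟙_ (Over S)).left, ⊤))
    obtain ⟨y, hy, hy'⟩ := (D.rootHom a).2.2 _ t₀ x
    have h := hu a ha _ x
    rw [toUnit_unique (toUnit (𝟙_ (Over S))) (𝟙 _), Category.id_comp, ← ht₀] at h
    rw [h] at hy
    rw [(cancel_mono (D.u a)).1 hy, Groth.Agent.BGaNotS.gaFn_gaPt, _root_.mul_one, ← Category.assoc,
      Groth.Agent.RootIntrinsic.gmFn_chi] at hy'
    exact hy'.symm
  intro X y
  obtain ⟨c, hc⟩ := Groth.Agent.RootIntrinsic.exists_factor_kerRoots D.toSplitRed (toUnit X ≫ t₀) fun a =>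
    GmPts.gmFn_injective (by
      show Red.gmFn _ = Red.gmFn _
      rw [← Category.assoc, Groth.Agent.RootIntrinsic.gmFn_chi, Groth.Agent.RootIntrinsic.gmFn_one_eq, Category.assoc,
        ch_comp, spread _ _ 1 (fun b hb => by rw [MonoidHom.one_apply]; exact hone b hb) a, MonoidHom.one_apply, map_one])
  have h := Groth.Agent.RootIntrinsic.kerRoots_central D.toSplitRed c y
  rw [hc, Category.assoc, ht₀] at h
  rw [h, mul_inv_cancel_right]

end Groth.Agent.S2990
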