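import Groth.Statements.S2992
import Groth.Agent.GrpHomRep.Main

set_option autoImplicit false
open CategoryTheory MonoidalCategory CartesianMonoidalCategory MonObj GrpObj AlgebraicGeometry
universe u
open Red

namespace Groth.Agent.S2992

/-- For H a torus (the source allows any group of multiplicative type and of finite type). Let H be an
S-torus and G an S-group which is smooth and affine over S. Then the functor of group homomorphisms
from H to G is representable: there are an S-scheme A, smooth and separated over S, and a family of
homomorphisms H ⟶ G parametrised by A through which every such family parametrised by an S-scheme T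
factors through exactly one S-morphism T ⟶ A. -/
theorem result {S : Scheme.{u}} (H G : Over S) [GrpObj H] [GrpObj G]
    (hH : Red.IsTorus H) (hG : Smooth G.hom) (hGa : IsAffineHom G.hom) :
    ∃ (A : Over S) (υ : H ⊗ A ⟶ G), AutFam.RepresentsHom H G A υ ∧ Smooth A.hom ∧ IsSeparated A.hom := by
  exact Groth.Agent.GrpHomRep.exists_hom_multType H G
    (Groth.Agent.MTBridge.locally_of_isMultTypeFT' H (Groth.Agent.MTBridge.isMultTypeFT_of_isTorus H hH)) hG hGa

end Groth.Agent.S2992
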