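import Groth.Statements.S2993
import Groth.Agent.AffDim1.Basic
import Groth.Agent.GrpField.Kernel
import Groth.Agent.GrpField.FibreHom

set_option backward.isDefEq.respectTransparency false
set_option backward.isDefEq.respectTransparency.types false
set_option synthInstance.maxHeartbeats 400000
set_option maxHeartbeats 1000000

set_option autoImplicit false
universe u
open Par

namespace Groth.Agent.S2993

open AlgebraicGeometry CategoryTheory in
/-- In the case proved in the text (G smooth over S; the editors note that flatness suffices): let S be
a locally Noetherian scheme of dimension ≤ 1, G and H two S-group schemes of finite type and f : G →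
H a homomorphism of S-groups which is quasi-finite and separated. If G is smooth over S then f is
affine. -/
theorem result {S : Scheme.{u}} [IsLocallyNoetherian S] (hS : topologicalKrullDim S ≤ 1)
    (G H : Over S) [GrpObj G] [GrpObj H] [LocallyOfFiniteType G.hom] [QuasiCompact G.hom] [LocallyOfFiniteType H.hom] [QuasiCompact H.hom]
    [Smooth G.hom] (f : G ⟶ H) [IsMonHom f] [LocallyQuasiFinite f.left] [QuasiCompact f.left] [IsSeparated f.left] :
    IsAffineHom f.left := by
  open MonoidalCategory MonObj in
  open scoped CategoryTheory.Obj in
  haveI : LocallyOfFiniteType (f.left ≫ H.hom) := by rw [Over.w]; infer_instance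
  haveI : LocallyOfFiniteType f.left := locallyOfFiniteType_of_comp _ H.hom
  refine Groth.Agent.AffDim1.isAffineHom_of_fibres hS f fun s => ?_
  let Gs := Groth.Agent.GrpField.fib G s
  let Hs := Groth.Agent.GrpField.fib H s
  let fs := Groth.Agent.GrpField.fibHom f s
  have sq := Groth.Agent.GrpField.isPullback_fibHom f s
  haveI : LocallyOfFiniteType Gs.hom := inferInstanceAs (LocallyOfFiniteType (Limits.pullback.snd G.hom _))
  haveI : LocallyOfFiniteType Hs.hom := inferInstanceAs (LocallyOfFiniteType (Limits.pullback.snd H.hom _))
  haveI : QuasiCompact fs.left := MorphismProperty.of_isPullback sq ‹QuasiCompact f.left›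
  haveI : LocallyQuasiFinite fs.left := MorphismProperty.of_isPullback sq ‹LocallyQuasiFinite f.left›
  haveI : LocallyOfFiniteType fs.left := MorphismProperty.of_isPullback sq ‹LocallyOfFiniteType f.left›
  haveI : IsFinite (Limits.pullback.snd fs.left (η[Hs] : 𝟙_ _ ⟶ Hs).left) := by
    haveI : IsLocallyArtinian (𝟙_ (Over (Spec (CommRingCat.of (S.residueField s))))).left :=
      inferInstanceAs (IsLocallyArtinian (Spec (CommRingCat.of (S.residueField s))))
    exact IsFinite.of_locallyQuasiFinite _
  haveI : IsLocallyNoetherian (Spec (CommRingCat.of (S.residueField s))) := inferInstance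
  haveI : Nonempty ↥(Spec (CommRingCat.of (S.residueField s))) := ⟨IsLocalRing.closedPoint _⟩
  haveI : IsProper fs.left := Groth.Agent.GrpField.isProper_of_kernel fs
  exact IsFinite.of_isProper_of_locallyQuasiFinite fs.left

end Groth.Agent.S2993
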