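import Groth.Statements.S2996
import Groth.Agent.ParStd.ConjMain

set_option autoImplicit false
universe u
open Par

namespace Groth.Agent.S2996

open AlgebraicGeometry CategoryTheory MonoidalCategory CartesianMonoidalCategory MonObj GrpObj in
/-- Let G be a reductive S-group, P a parabolic subgroup of G with unipotent radical U, and L, L' two
Levi subgroups of P. Then there is a unique u ∈ U(S) such that conjugation by u carries L onto L'
(i.e. there is an isomorphism L ≅ L' over P identifying L' with the conjugate of L by u). (The
published statement is for subgroups of type (RC), which include parabolic subgroups; here it is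
stated for a parabolic subgroup.) -/
theorem result {S : Scheme.{u}} (G P U L L' : Over S) [GrpObj G] [GrpObj P] [GrpObj U] [GrpObj L] [GrpObj L']
    (hG : Red.IsReductive G) (p : P ⟶ G) (hp : Red.IsParabolic p) (uU : U ⟶ P) (hU : Par.IsUnipotentRadical uU)
    (l : L ⟶ P) (l' : L' ⟶ P) (hl : Par.IsLevi l) (hl' : Par.IsLevi l') :
    ∃! x : 𝟙_ (Over S) ⟶ U, ∃ e : L ≅ L',
      e.hom ≫ l' = (toUnit L ≫ x ≫ uU) * l * (toUnit L ≫ x ≫ uU)⁻¹ := by
  exact Groth.Agent.ParStd.existsUnique_conj hG p hp l hl l' hl' uU hU

end Groth.Agent.S2996
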