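import Groth.Statements.S2999
import Groth.Agent.ParStd.OppositeMain

set_option autoImplicit false
universe u
open Par

namespace Groth.Agent.S2999

open AlgebraicGeometry CategoryTheory in
/-- Let G be a reductive S-group, P a parabolic subgroup and L a Levi subgroup of P. Then there is a
parabolic subgroup P' of G with P ∩ P' = L (L → P' making L the fibre product P ×_G P'), and P' is
unique: two such parabolic subgroups coincide as subgroups of G. -/
theorem result {S : Scheme.{u}} (G P L : Over S) [GrpObj G] [GrpObj P] [GrpObj L]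
    (hG : Red.IsReductive G) (p : P ⟶ G) (hp : Red.IsParabolic p) (l : L ⟶ P) (hl : Par.IsLevi l) :
    (∃ (P' : Over S) (_ : GrpObj P') (p' : P' ⟶ G) (m : L ⟶ P'), Red.IsParabolic p' ∧ IsPullback l m p p') ∧
    ∀ (P₁ P₂ : Over S) [GrpObj P₁] [GrpObj P₂] (p₁ : P₁ ⟶ G) (p₂ : P₂ ⟶ G) (m₁ : L ⟶ P₁) (m₂ : L ⟶ P₂),
      Red.IsParabolic p₁ → Red.IsParabolic p₂ → IsPullback l m₁ p p₁ → IsPullback l m₂ p p₂ →
      ∃ e : P₁ ≅ P₂, e.hom ≫ p₂ = p₁ := by
  exact ⟨Groth.Agent.ParStd.exists_opposite hG p hp hl,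
    fun P₁ P₂ _ _ p₁ p₂ m₁ m₂ h₁ h₂ s₁ s₂ => Groth.Agent.ParStd.opposite_unique hG p hp hl h₁ h₂ s₁ s₂⟩

end Groth.Agent.S2999
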