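import Groth.Statements.S3000
import Groth.Agent.ParStd.OpenCellMain

set_option autoImplicit false
universe u
open Par

namespace Groth.Agent.S3000

open AlgebraicGeometry CategoryTheory MonoidalCategory CartesianMonoidalCategory MonObj GrpObj in
/-- Let G be a reductive S-group scheme, P and Q parabolic subgroups, U the unipotent radical of P, and
L = P ∩ Q (the fibre product over G, a subgroup of both). Assume moreover, as the hypothesis h411,
that over every algebraically closed field two parabolic subgroups of a reductive group contain a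
common maximal torus. Then L is a Levi subgroup of P and of Q if and only if the morphism U ×_S Q →
G, (u, q) ↦ uq, is an open immersion. -/
theorem result {S : Scheme.{u}} (G P Q U L : Over S) [GrpObj G] [GrpObj P] [GrpObj Q] [GrpObj U] [GrpObj L]
    (hG : Red.IsReductive G) (p : P ⟶ G) (q : Q ⟶ G) (hp : Red.IsParabolic p) (hq : Red.IsParabolic q)
    (uU : U ⟶ P) (hU : Par.IsUnipotentRadical uU)
    (h411 : ∀ (K : Type u) [Field K] [IsAlgClosed K] (H P₁ Q₁ : Over (Spec (CommRingCat.of K))) [GrpObj H] [GrpObj P₁] [GrpObj Q₁]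
      (p₁ : P₁ ⟶ H) (q₁ : Q₁ ⟶ H), Red.IsReductive H → Red.IsParabolic p₁ → Red.IsParabolic q₁ →
      ∃ (T : Over (Spec (CommRingCat.of K))) (_ : GrpObj T) (i : T ⟶ H), Red.IsMaximalTorus i ∧
        (∃ a : T ⟶ P₁, a ≫ p₁ = i) ∧ ∃ b : T ⟶ Q₁, b ≫ q₁ = i)
    (l : L ⟶ P) (m : L ⟶ Q) [IsMonHom l] [IsMonHom m] (hL : IsPullback l m p q) :
    (Par.IsLevi l ∧ Par.IsLevi m) ↔ IsOpenImmersion (((uU ≫ p) ⊗ₘ q) ≫ μ).left := by
  refine ⟨fun h => Groth.Agent.ParStd.isOpenImmersion_of_levi hG p hp q hq hU h.1 hL, fun hj => ?_⟩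
  have hl := Groth.Agent.ParStd.isLevi_of_isOpenImmersion hG p hp q hq hU h411 hL hj
  exact ⟨hl, Groth.Agent.ParStd.isLevi_opposite hG p hp q hq hl hL⟩

end Groth.Agent.S3000
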