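import Groth.Statements.S3001
import Groth.Agent.DynPar.SplitTorus
-- import your own Groth.Agent.* helpers here

set_option autoImplicit false
universe u
open Par

set_option backward.isDefEq.respectTransparency false

namespace Groth.Agent.S3001

open AlgebraicGeometry CategoryTheory in
/-- Let G be a reductive S-group, Q a subgroup scheme of G which is a split torus (Q ≅ D_S(M)), and Z =
Centr_G(Q) its centralizer. Then there is a parabolic subgroup P of G containing Z as a Levi
subgroup. -/
theorem result {S : Scheme.{u}} (G Q Z : Over S) [GrpObj G] [GrpObj Q] [GrpObj Z]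
    (hG : Red.IsReductive G) (j : Q ⟶ G) [IsMonHom j] [Mono j] (M : Type) [AddCommGroup M] (hQt : Red.IsTorus Q) (hQ : Red.IsSplitTorusWith M Q)
    (z : Z ⟶ G) [IsMonHom z] (hZ : Red.IsCentralizerOf j z) :
    ∃ (P : Over S) (_ : GrpObj P) (p : P ⟶ G) (l : Z ⟶ P), Red.IsParabolic p ∧ l ≫ p = z ∧ Par.IsLevi l := by
  exact DynPar.exists_parabolic_of_splitTorus hG j hQt hQ z hZ

end Groth.Agent.S3001
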