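import Groth.Statements.S3004
import Groth.Agent.RootBase.IsoSplit
-- import your own Groth.Agent.* helpers here

set_option autoImplicit false
universe u
open CategoryTheory MonoidalCategory CartesianMonoidalCategory MonObj GrpObj AlgebraicGeometry
open Red

set_option backward.isDefEq.respectTransparency false

namespace Groth.Agent.S3004

/-- Let S be a non-empty scheme and G, G' two pinned reductive S-groups (this prelude's `Red.Pinning`: a
split maximal torus T ≅ D_S(M), the root datum, root homomorphisms u_a : 𝔾_a → G for all roots, and
a system of simple roots). Let h be an isomorphism from the root datum of G' to that of G (Mathlib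
`RootPairing.Equiv`, lattice map M' → M) carrying simple roots to simple roots. Then there is a
unique isomorphism of S-group schemes f : G ≅ G' which induces D_S(h) on the tori (through the
splittings) and satisfies f ∘ u_{h(a')} = u'_{a'} for every simple root a' of G'. -/
theorem result (S : Scheme.{u}) [Nonempty S] (G G' : Over S) [GrpObj G] [GrpObj G'] (D : Red.Pinning G) (D' : Red.Pinning G') (h : RootPairing.Equiv D'.P D.P) (hΔ : ∀ a' : D'.idx, a' ∈ D'.base.support ↔ h.indexEquiv a' ∈ D.base.support) : ∃! f : G ≅ G', IsMonHom f.hom ∧ D.i ≫ f.hom = D.split.hom.hom.hom ≫ Red.DSmap S h.weightMap.toAddMonoidHom ≫ D'.split.inv.hom.hom ≫ D'.i ∧ ∀ a' : D'.idx, a' ∈ D'.base.support → D.u (h.indexEquiv a') ≫ f.hom = D'.u a' := by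
  refine (existsUnique_congr fun f => ?_).1 (RootBase.existsUnique_iso_split D.toSplitRed D'.toSplitRed h D.base)
  exact and_congr_right fun _ => and_congr_right fun _ => forall_congr' fun a' => by rw [hΔ a']

end Groth.Agent.S3004
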