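import Groth.Statements.S3010
import Groth.Agent.RedOpen.Semisimple
-- import your own Groth.Agent.* helpers here

set_option autoImplicit false
universe u
open CategoryTheory MonoidalCategory CartesianMonoidalCategory MonObj GrpObj AlgebraicGeometry
open Red

set_option backward.isDefEq.respectTransparency false

namespace Groth.Agent.S3010
open Groth.Agent

/-- Let G be an S-group scheme which is affine and smooth over S with connected fibres. Then the set of
points s ∈ S whose geometric fibre G_{s̄} is semisimple is open. (Only the semisimple case is
stated; the corresponding openness for reductive geometric fibres and the local constancy of the
reductive and semisimple ranks, which the published statement also contains, are not stated here.) -/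
theorem result (S : Scheme.{u}) (G : Over S) [GrpObj G] [IsAffineHom G.hom] [Smooth G.hom] (hconn : ∀ s : S, _root_.IsConnected (G.hom.base ⁻¹' {s})) : IsOpen {s : S | Red.IsSemisimpleOver (AlgebraicClosure (S.residueField s)) (Red.geomFibre s G)} := by
  exact RedOpen.isOpen_semisimple G hconn

end Groth.Agent.S3010
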