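import Groth.Statements.S3011
import Groth.Agent.RootBase.IsoSplit
import Groth.Agent.RootBase.SplitBC
import Groth.Agent.RootBase.GlobalSplit
import Mathlib.Analysis.Complex.Polynomial.Basic
-- import your own Groth.Agent.* helpers here

set_option autoImplicit false
universe u
open CategoryTheory MonoidalCategory CartesianMonoidalCategory MonObj GrpObj AlgebraicGeometry
open Red

set_option backward.isDefEq.respectTransparency false

namespace Groth.Agent.S3011
open Groth.Agent.RootBase in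
theorem exists_splitting (G : Over (Spec (CommRingCat.of (ULift.{u} ℤ)))) [GrpObj G] (hG : Red.IsReductive G)
    (hT : ∃ (T : Over _) (_ : GrpObj T) (i : T ⟶ G), Red.IsMaximalTorus i ∧ ∃ r : ℕ, Red.IsSplitTorusWith (Fin r → ℤ) T) :
    Nonempty (Red.SplitRed G) := by
  obtain ⟨T, _, i, hi, r, ⟨E⟩⟩ := hT
  haveI : IsAffineHom G.hom := hG.1
  haveI : IsAffine G.left := isAffine_of_isAffineHom G.hom
  haveI : Smooth G.hom := hG.2.1
  haveI : IsPrincipalIdealRing (ULift.{u} ℤ) :=
    IsPrincipalIdealRing.of_surjective (ULift.ringEquiv.{0, u} (R := ℤ)).symm.toRingHom (ULift.ringEquiv.{0, u} (R := ℤ)).symm.surjective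
  haveI : IsDomain (ULift.{u} ℤ) := (ULift.ringEquiv.{0, u} (R := ℤ)).toMulEquiv.isDomain ℤ
  haveI : IrreducibleSpace ↥(Spec (CommRingCat.of (ULift.{u} ℤ))) :=
    inferInstanceAs (IrreducibleSpace (PrimeSpectrum (ULift.{u} ℤ)))
  have hc := isMaximalTorus_DS hi E
  haveI := hc.1
  obtain ⟨D, -, -⟩ := exists_splitRed hG hi E (exists_splitOn_principal hG hc)
  exact ⟨D⟩



/-- Uniqueness of Chevalley schemes: let G and G' be reductive group schemes over Spec ℤ each possessing
a split maximal torus. If the base changes of G and G' to Spec ℂ are split of the same type (admit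
splittings with the same root datum), then G and G' are isomorphic as group schemes over Spec ℤ.
Conjugacy of maximal tori in reductive groups over algebraically closed fields (any two maximal tori
T, T' of such a group H are conjugate by a point of H, in the sense that conjugating T by it lands
in T' on points with values in any scheme) is carried as the hypothesis hconj. -/
theorem result (hconj : ∀ (K : Type u) [Field K] [IsAlgClosed K] (H : Over (Spec (CommRingCat.of K))) [GrpObj H], Red.IsReductive H → ∀ (T T' : Over (Spec (CommRingCat.of K))) [GrpObj T] [GrpObj T'] (i : T ⟶ H) (i' : T' ⟶ H), Red.IsMaximalTorus i → Red.IsMaximalTorus i' → ∃ g : 𝟙_ (Over (Spec (CommRingCat.of K))) ⟶ H, ∀ (X : Over (Spec (CommRingCat.of K))) (t : X ⟶ T), ∃ t' : X ⟶ T', (toUnit X ≫ g) * (t ≫ i) * (toUnit X ≫ g)⁻¹ = t' ≫ i') (G G' : Over (Spec (CommRingCat.of (ULift.{u} ℤ)))) [GrpObj G] [GrpObj G'] (hG : Red.IsReductive G) (hG' : Red.IsReductive G') (hT : ∃ (T : Over _)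 (_ : GrpObj T) (i : T ⟶ G), Red.IsMaximalTorus i ∧ ∃ r : ℕ, Red.IsSplitTorusWith (Fin r → ℤ) T) (hT' : ∃ (T' : Over _) (_ : GrpObj T') (i' : T' ⟶ G'), Red.IsMaximalTorus i' ∧ ∃ r : ℕ, Red.IsSplitTorusWith (Fin r → ℤ) T') {ι' M' N' : Type} [AddCommGroup M'] [Module ℤ M'] [AddCommGroup N'] [Module ℤ N'] (Q : RootPairing ι' ℤ M' N') (hC : Red.IsSplitOfType Q (Red.bc (Spec.map (CommRingCat.ofHom ((ULift.ringEquiv.{0, u} (R := ℂ)).symm.toRingHom.comp ((Int.castRingHom ℂ).comp (ULift.ringEquiv.{0, u} (R := ℤ)).toRingHom)))) G)) (hC' : Red.IsSplitOfType Q (Red.bc (Spec.map (CommRingCat.ofHom ((ULift.ringEquiv.{0, u} (R := ℂ)).symm.toRingHom.comp ((Int.castRingHom ℂ).comp (ULift.ringEquiv.{0, u} (R := ℤ)).toRingHom)))) G')) : Nonempty (Grp.mk G ≅ Grp.mk G') := by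
  obtain ⟨D⟩ := exists_splitting G hG hT
  obtain ⟨D'⟩ := exists_splitting G' hG' hT'
  haveI : IsAlgClosed (ULift.{u} ℂ) := IsAlgClosed.of_exists_root _ fun g hg hirr => by
    let e : ULift.{u} ℂ ≃+* ℂ := ULift.ringEquiv
    obtain ⟨z, hz⟩ := IsAlgClosed.exists_root (g.map e.toRingHom) (by
      rw [Polynomial.degree_map]
      exact (Polynomial.degree_pos_of_irreducible hirr).ne')
    refine ⟨e.symm z, e.injective ?_⟩
    rw [Polynomial.IsRoot, Polynomial.eval_map] at hz
    rw [map_zero]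
    show e.toRingHom (g.eval (e.symm z)) = 0
    rw [← Polynomial.eval₂_at_apply]
    simpa using hz
  obtain ⟨Ds, ⟨e⟩⟩ := RootBase.exists_bc D (Spec.map (CommRingCat.ofHom ((ULift.ringEquiv.{0, u} (R := ℂ)).symm.toRingHom.comp ((Int.castRingHom ℂ).comp (ULift.ringEquiv.{0, u} (R := ℤ)).toRingHom))))
  obtain ⟨Ds', ⟨e'⟩⟩ := RootBase.exists_bc D' (Spec.map (CommRingCat.ofHom ((ULift.ringEquiv.{0, u} (R := ℂ)).symm.toRingHom.comp ((Int.castRingHom ℂ).comp (ULift.ringEquiv.{0, u} (R := ℤ)).toRingHom))))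
  obtain ⟨Q₁, ⟨q₁⟩⟩ := hC
  obtain ⟨Q₂, ⟨q₂⟩⟩ := hC'
  obtain ⟨c₁⟩ := RootBase.nonempty_equiv_of_algClosed Q₁ Ds
  obtain ⟨c₂⟩ := RootBase.nonempty_equiv_of_algClosed Ds' Q₂
  refine RootBase.nonempty_iso_of_equiv D D' (RootPairing.Equiv.comp e ?_)
  exact RootPairing.Equiv.comp c₁ (RootPairing.Equiv.comp (RootPairing.Equiv.symm _ _ q₁)
    (RootPairing.Equiv.comp q₂ (RootPairing.Equiv.comp c₂ (RootPairing.Equiv.symm _ _ e'))))

end Groth.Agent.S3011
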