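import Groth.Statements.S3012
import Groth.Agent.RootBase.IsoSplit
import Groth.Agent.RootBase.SplitMap
import Groth.Agent.S2958
import Groth.Agent.RedLR.Main
import Groth.Agent.AffQuot.Red
-- import your own Groth.Agent.* helpers here

set_option autoImplicit false
universe u
open CategoryTheory MonoidalCategory CartesianMonoidalCategory MonObj GrpObj AlgebraicGeometry
open Red
open CategoryTheory.Limits

set_option backward.isDefEq.respectTransparency false
set_option maxHeartbeats 1000000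
set_option synthInstance.maxHeartbeats 400000

namespace Groth.Agent.S3012
theorem reductive_of_iso {K : Type u} [Field K] {G G' : Over (Spec (CommRingCat.of K))} [GrpObj G] [GrpObj G']
    (e : Grp.mk G ≅ Grp.mk G') (h : Red.IsReductiveOver K G) : Red.IsReductiveOver K G' := by
  exact RedLR.isReductiveOver_of_grpIso e h

theorem isReductive_of_grpIso {S : Scheme.{u}} {G G' : Over S} [GrpObj G] [GrpObj G'] (e : Grp.mk G ≅ Grp.mk G')
    (h : Red.IsReductive G) : Red.IsReductive G' := by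
  let f : G ≅ G' := (Grp.forget _).mapIso e
  haveI : IsMonHom f.hom := e.hom.hom.isMonHom_hom
  exact AffQuot.isReductive_of_iso f h



/-- Let S be a scheme, G a reductive S-group, G' an S-group scheme which is affine and smooth over S
with connected fibres, and s ∈ S a point at which the geometric fibres G_{s̄} and G'_{s̄} are
isomorphic. Then there is an étale morphism Spec B → S whose image contains s over which the base
changes of G and G' are isomorphic. Conjugacy of maximal tori in reductive groups over algebraically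
closed fields is carried as the hypothesis hconj. -/
theorem result (hconj : ∀ (K : Type u) [Field K] [IsAlgClosed K] (H : Over (Spec (CommRingCat.of K))) [GrpObj H], Red.IsReductive H → ∀ (T T' : Over (Spec (CommRingCat.of K))) [GrpObj T] [GrpObj T'] (i : T ⟶ H) (i' : T' ⟶ H), Red.IsMaximalTorus i → Red.IsMaximalTorus i' → ∃ g : 𝟙_ (Over (Spec (CommRingCat.of K))) ⟶ H, ∀ (X : Over (Spec (CommRingCat.of K))) (t : X ⟶ T), ∃ t' : X ⟶ T', (toUnit X ≫ g) * (t ≫ i) * (toUnit X ≫ g)⁻¹ = t' ≫ i') (S : Scheme.{u}) (G G' : Over S) [GrpObj G] [GrpObj G'] (hG : Red.IsReductive G) [IsAffineHom G'.hom] [Smooth G'.hom] (hconn : ∀ s : S, _root_.IsConnected (G'.hom.base ⁻¹' {s})) (s : S) (h : Nonempty (Grp.mk (Red.geomFibre s G) ≅ Grp.mk (Red.geomFibre s G'))) : ∃ (B : Type u) (_ : CommRing B) (v : Spec (CommRingCat.of B) ⟶ S), Etale v ∧ s ∈ Set.range v.base ∧ Nonempty (Grp.mk (Red.bc v G) ≅ Grp.mk (Red.bc v G')) := by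
  obtain ⟨φ⟩ := h
  have hs' : Red.IsReductiveOver (AlgebraicClosure (S.residueField s)) (Red.geomFibre s G') :=
    reductive_of_iso φ (hG.2.2 s)
  -- a splitting of each group near the point
  obtain ⟨U₁, f₁, hf₁, ⟨x₁, hx₁⟩, ⟨D₁⟩⟩ := S2958.result G hG s
  haveI : LocallyOfFinitePresentation G'.hom := inferInstance
  haveI : Flat G'.hom := inferInstance
  obtain ⟨A, _, u, hu, ⟨a, ha⟩, hred, B, _, v, hv, hvs, T, _, i, hT, r, ⟨E⟩⟩ := S3002.result S G' hconn s hs'
  haveI := hu; haveI := hv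
  obtain ⟨b, hb⟩ := hvs.surj a
  have hredB : Red.IsReductive (Red.bc (v ≫ u) G') := isReductive_of_grpIso (MTBridge.bcComp u v G').symm (DynPar.isReductive_bc v hred)
  obtain ⟨V, hbV, hV⟩ := RootBase.exists_split_nhd hredB (RootBase.isMaximalTorus_DS hT E) b
  obtain ⟨D₂', -, -⟩ := RootBase.exists_splitRed_bc V.ι hredB hT E (hV V.ι (by rw [V.range_ι]))
  obtain ⟨D₂, -⟩ := RootBase.exists_map D₂' (MTBridge.bcComp (v ≫ u) V.ι G').symm
    (isReductive_of_grpIso (MTBridge.bcComp (v ≫ u) V.ι G').symm (DynPar.isReductive_bc V.ι hredB))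
  let f₂ : (V : Scheme.{u}) ⟶ S := V.ι ≫ v ≫ u
  haveI := hf₁
  haveI : Etale f₂ := inferInstanceAs (Etale (V.ι ≫ v ≫ u))
  -- an affine etale neighbourhood dominating both
  obtain ⟨z, hz₁, hz₂⟩ := Scheme.Pullback.exists_preimage_pullback (f := f₁) (g := f₂) x₁ (⟨b, hbV⟩ : (V : Scheme.{u}))
    (by rw [hx₁]; show s = u (v b); rw [hb, ha])
  obtain ⟨W, hW, hzW, -⟩ := exists_isAffineOpen_mem_and_subset (x := z) (U := ⊤) trivial
  let p₁ : Spec Γ(Limits.pullback f₁ f₂, W) ⟶ U₁ := hW.fromSpec ≫ pullback.fst f₁ f₂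
  let p₂ : Spec Γ(Limits.pullback f₁ f₂, W) ⟶ (V : Scheme.{u}) := hW.fromSpec ≫ pullback.snd f₁ f₂
  let g : Spec Γ(Limits.pullback f₁ f₂, W) ⟶ S := p₁ ≫ f₁
  have hg : p₂ ≫ f₂ = g := by simp only [g, p₁, p₂, Category.assoc, pullback.condition]
  haveI : Etale g := inferInstanceAs (Etale ((hW.fromSpec ≫ pullback.fst f₁ f₂) ≫ f₁))
  obtain ⟨E₁, -⟩ := RootBase.exists_bc_comp p₁ (rfl : p₁ ≫ f₁ = g) hG D₁
  obtain ⟨w, hw⟩ : ∃ w, hW.fromSpec w = z := by
    have : z ∈ Set.range hW.fromSpec := by rw [hW.range_fromSpec]; exact hzW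
    exact this
  have hgw : g w = s := by
    show f₁ (pullback.fst f₁ f₂ (hW.fromSpec w)) = s
    rw [hw, hz₁, hx₁]
  refine ⟨Γ(Limits.pullback f₁ f₂, W), inferInstance, g, inferInstance, ⟨w, hgw⟩, ?_⟩
  have hredW : Red.IsReductive (Red.bc g G') := by
    rw [← hg]
    exact isReductive_of_grpIso (MTBridge.bcComp f₂ p₂ G').symm (DynPar.isReductive_bc p₂ D₂.reductive)
  obtain ⟨E₂', -⟩ := RootBase.exists_bc D₂ p₂
  obtain ⟨E₂, -⟩ := RootBase.exists_map E₂' ((MTBridge.bcComp f₂ p₂ G').symm ≪≫ MTBridge.bcCongr hg G') hredW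
  -- compare the two types at a geometric point
  set K := AlgebraicClosure ((Spec Γ(Limits.pullback f₁ f₂, W)).residueField w)
  subst hgw
  set k := AlgebraicClosure (S.residueField (g w))
  let r : S.residueField (g w) →+* K :=
    (algebraMap ((Spec Γ(Limits.pullback f₁ f₂, W)).residueField w) K).comp (Scheme.Hom.residueFieldMap g w).hom
  letI : Algebra (S.residueField (g w)) K := r.toAlgebra
  let ι' : k →ₐ[S.residueField (g w)] K := IsAlgClosed.lift
  let q := Spec.map (CommRingCat.ofHom ι'.toRingHom)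
  have hq : q ≫ Red.geomPt (g w) = Red.geomPt w ≫ g := by
    rw [Red.geomPt, Red.geomPt, Category.assoc, ← Scheme.Hom.SpecMap_residueFieldMap_fromSpecResidueField,
      ← Spec.map_comp_assoc, ← Spec.map_comp_assoc]
    congr 2
    ext x
    exact ι'.commutes x
  have e : Grp.mk (Red.bc (Red.geomPt w) (Red.bc g G)) ≅ Grp.mk (Red.bc (Red.geomPt w) (Red.bc g G')) :=
    (MTBridge.bcComp g (Red.geomPt w) G).symm ≪≫ (MTBridge.bcCongr hq G).symm ≪≫
      MTBridge.bcComp (Red.geomPt (g w)) q G ≪≫ MTBridge.bcMapIso q φ ≪≫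
      (MTBridge.bcComp (Red.geomPt (g w)) q G').symm ≪≫ MTBridge.bcCongr hq G' ≪≫
      MTBridge.bcComp g (Red.geomPt w) G'
  obtain ⟨F₁, ⟨q₁⟩⟩ := RootBase.exists_bc E₁ (Red.geomPt w)
  obtain ⟨F₂, ⟨q₂⟩⟩ := RootBase.exists_bc E₂ (Red.geomPt w)
  obtain ⟨F₁', ⟨q₁'⟩⟩ := RootBase.exists_map F₁ e (DynPar.isReductive_bc _ hredW)
  obtain ⟨c⟩ := RootBase.nonempty_equiv_of_algClosed F₂ F₁'
  exact RootBase.nonempty_iso_of_equiv E₁ E₂ (RootPairing.Equiv.comp q₁ (RootPairing.Equiv.comp q₁'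
    (RootPairing.Equiv.comp c (RootPairing.Equiv.symm _ _ q₂))))

end Groth.Agent.S3012
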