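import Groth.Statements.S3013
import Groth.Agent.RootBase.IsoSplit
import Groth.Agent.RootBase.SplitMap
import Groth.Agent.S5516
import Mathlib.FieldTheory.IsAlgClosed.AlgebraicClosure
import Mathlib.FieldTheory.SeparableClosure
-- import your own Groth.Agent.* helpers here

set_option autoImplicit false
universe u
open CategoryTheory MonoidalCategory CartesianMonoidalCategory MonObj GrpObj AlgebraicGeometry
open Red

set_option backward.isDefEq.respectTransparency false

namespace Groth.Agent.S3013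

/-- Let k be a field and G, G' two reductive k-group schemes whose base changes to an algebraic closure
of k are isomorphic as group schemes. Then there is a finite separable field extension K of k over
which G and G' become isomorphic. Conjugacy of maximal tori in reductive groups over algebraically
closed fields (any maximal torus is carried into any other by conjugation by some rational point),
which the published proof takes as known, is carried as the hypothesis hconj. -/
theorem result (hconj : ∀ (K : Type u) [Field K] [IsAlgClosed K] (H : Over (Spec (CommRingCat.of K))) [GrpObj H], Red.IsReductive H → ∀ (T T' : Over (Spec (CommRingCat.of K))) [GrpObj T] [GrpObj T'] (i : T ⟶ H) (i' : T' ⟶ H), Red.IsMaximalTorus i → Red.IsMaximalTorus i' → ∃ g : 𝟙_ (Over (Spec (CommRingCat.of K))) ⟶ H, ∀ (X : Over (Spec (CommRingCat.of K))) (t : X ⟶ T), ∃ t' : X ⟶ T', (toUnit X ≫ g) * (t ≫ i) * (toUnit X ≫ g)⁻¹ = t' ≫ i') (k : Type u) [Field k] (G G' : Over (Spec (CommRingCat.of k))) [GrpObj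 G] [GrpObj G'] (hG : Red.IsReductive G) (hG' : Red.IsReductive G') (h : Nonempty (Grp.mk (Red.bc (Spec.map (CommRingCat.ofHom (algebraMap k (AlgebraicClosure k)))) G) ≅ Grp.mk (Red.bc (Spec.map (CommRingCat.ofHom (algebraMap k (AlgebraicClosure k)))) G'))) : ∃ (K : Type u) (_ : Field K) (_ : Algebra k K), Module.Finite k K ∧ Algebra.IsSeparable k K ∧ Nonempty (Grp.mk (Red.bc (Spec.map (CommRingCat.ofHom (algebraMap k K))) G) ≅ Grp.mk (Red.bc (Spec.map (CommRingCat.ofHom (algebraMap k K))) G')) := by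
  obtain ⟨φ⟩ := h
  obtain ⟨K₁, _, _, f₁, s₁, ⟨D₁⟩⟩ := S5516.result k G hG
  obtain ⟨K₂, _, _, f₂, s₂, ⟨D₂⟩⟩ := S5516.result k G' hG'
  let Ω := AlgebraicClosure k
  let σ₁ : K₁ →ₐ[k] Ω := IsAlgClosed.lift
  let σ₂ : K₂ →ₐ[k] Ω := IsAlgClosed.lift
  let L : IntermediateField k Ω := σ₁.fieldRange ⊔ σ₂.fieldRange
  haveI := f₁; haveI := f₂; haveI := s₁; haveI := s₂
  haveI : Module.Finite k σ₁.fieldRange := Module.Finite.equiv (AlgEquiv.ofInjectiveField σ₁).toLinearEquiv
  haveI : Module.Finite k σ₂.fieldRange := Module.Finite.equiv (AlgEquiv.ofInjectiveField σ₂).toLinearEquiv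
  haveI : Algebra.IsSeparable k σ₁.fieldRange := Algebra.IsSeparable.of_algHom k K₁ (AlgEquiv.ofInjectiveField σ₁).symm.toAlgHom
  haveI : Algebra.IsSeparable k σ₂.fieldRange := Algebra.IsSeparable.of_algHom k K₂ (AlgEquiv.ofInjectiveField σ₂).symm.toAlgHom
  haveI : FiniteDimensional k L := IntermediateField.finiteDimensional_sup _ _
  haveI : Algebra.IsSeparable k L := IntermediateField.isSeparable_sup k Ω σ₁.fieldRange σ₂.fieldRange
  let τ₁ : K₁ →ₐ[k] L :=
    (IntermediateField.inclusion (show σ₁.fieldRange ≤ L from le_sup_left)).comp (AlgEquiv.ofInjectiveField σ₁).toAlgHom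
  let τ₂ : K₂ →ₐ[k] L :=
    (IntermediateField.inclusion (show σ₂.fieldRange ≤ L from le_sup_right)).comp (AlgEquiv.ofInjectiveField σ₂).toAlgHom
  let g := Spec.map (CommRingCat.ofHom (algebraMap k L))
  let j₁ := Spec.map (CommRingCat.ofHom τ₁.toRingHom)
  let j₂ := Spec.map (CommRingCat.ofHom τ₂.toRingHom)
  have e₁ : j₁ ≫ Spec.map (CommRingCat.ofHom (algebraMap k K₁)) = g := by
    rw [← Spec.map_comp, ← CommRingCat.ofHom_comp]; exact congrArg (fun r => Spec.map (CommRingCat.ofHom r)) (RingHom.ext fun x => τ₁.commutes x)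
  have e₂ : j₂ ≫ Spec.map (CommRingCat.ofHom (algebraMap k K₂)) = g := by
    rw [← Spec.map_comp, ← CommRingCat.ofHom_comp]; exact congrArg (fun r => Spec.map (CommRingCat.ofHom r)) (RingHom.ext fun x => τ₂.commutes x)
  obtain ⟨E₁, -⟩ := RootBase.exists_bc_comp j₁ e₁ hG D₁
  obtain ⟨E₂, -⟩ := RootBase.exists_bc_comp j₂ e₂ hG' D₂
  refine ⟨L, inferInstance, inferInstance, inferInstance, inferInstance, ?_⟩
  let ι' := Spec.map (CommRingCat.ofHom (algebraMap L Ω))
  have e : ι' ≫ g = Spec.map (CommRingCat.ofHom (algebraMap k Ω)) := by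
    rw [← Spec.map_comp, ← CommRingCat.ofHom_comp, ← IsScalarTower.algebraMap_eq]
  obtain ⟨F₁, ⟨p₁⟩⟩ := RootBase.exists_bc_comp ι' e hG E₁
  obtain ⟨F₂, ⟨p₂⟩⟩ := RootBase.exists_bc_comp ι' e hG' E₂
  obtain ⟨F₁', ⟨p₁'⟩⟩ := RootBase.exists_map F₁ φ (DynPar.isReductive_bc _ hG')
  obtain ⟨c⟩ := RootBase.nonempty_equiv_of_algClosed F₂ F₁'
  exact RootBase.nonempty_iso_of_equiv E₁ E₂ (RootPairing.Equiv.comp p₁ (RootPairing.Equiv.comp p₁'
    (RootPairing.Equiv.comp c (RootPairing.Equiv.symm _ _ p₂))))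

end Groth.Agent.S3013
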