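import Groth.Statements.S3014
import Groth.Agent.MTBridge.Basic
import Groth.Agent.FinHopf.GrpScheme
import Groth.Agent.HopfGeomIso.Basic

set_option autoImplicit false
universe u
open CategoryTheory MonoidalCategory CartesianMonoidalCategory MonObj GrpObj AlgebraicGeometry
open Red
open CategoryTheory.Limits TensorProduct
open scoped CategoryTheory.Obj

set_option linter.style.haveILetI false
set_option synthInstance.maxHeartbeats 400000

namespace Groth.Agent.S3014

/-- (i)⇒(ii): Let G and G' be reductive S-groups and f : S' → S a surjective morphism such that the base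
changes of G and G' to S' are isomorphic as group schemes. Then for every s ∈ S the geometric fibres
G_{s̄} and G'_{s̄} are isomorphic. -/
theorem result (S : Scheme.{u}) (G G' : Over S) [GrpObj G] [GrpObj G'] (hG : Red.IsReductive G) (hG' : Red.IsReductive G') (S' : Scheme.{u}) (f : S' ⟶ S) [Surjective f] (hiso : Nonempty (Grp.mk (Red.bc f G) ≅ Grp.mk (Red.bc f G'))) (s : S) : Nonempty (Grp.mk (Red.geomFibre s G) ≅ Grp.mk (Red.geomFibre s G')) := by
  obtain ⟨s', rfl⟩ := f.surjective s
  set k := AlgebraicClosure (S.residueField (f s'))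
  set K := AlgebraicClosure (S'.residueField s')
  let r : S.residueField (f s') →+* K :=
    (algebraMap (S'.residueField s') K).comp (Scheme.Hom.residueFieldMap f s').hom
  letI : Algebra (S.residueField (f s')) K := r.toAlgebra
  let i : k →ₐ[S.residueField (f s')] K := IsAlgClosed.lift
  letI : Algebra k K := i.toRingHom.toAlgebra
  let q := Spec.map (CommRingCat.ofHom (algebraMap k K))
  have hq : q ≫ Red.geomPt (f s') = Red.geomPt s' ≫ f := by
    rw [Red.geomPt, Red.geomPt, Category.assoc, ← Scheme.Hom.SpecMap_residueFieldMap_fromSpecResidueField,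
      ← Spec.map_comp_assoc, ← Spec.map_comp_assoc]
    congr 2
    ext x
    exact i.commutes x
  obtain ⟨e⟩ := hiso
  let e' : Grp.mk (Red.bc q (Red.geomFibre (f s') G)) ≅ Grp.mk (Red.bc q (Red.geomFibre (f s') G')) :=
    (MTBridge.bcComp (Red.geomPt (f s')) q G).symm ≪≫ MTBridge.bcCongr hq G ≪≫
      MTBridge.bcComp f (Red.geomPt s') G ≪≫ MTBridge.bcMapIso (Red.geomPt s') e ≪≫
      (MTBridge.bcComp f (Red.geomPt s') G').symm ≪≫ (MTBridge.bcCongr hq G').symm ≪≫
      MTBridge.bcComp (Red.geomPt (f s')) q G'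
  have mk : ∀ (H : Over S) [GrpObj H], Red.IsReductive H →
      ∃ (A : CommRingCat.{u}) (_ : HopfAlgebra k A), Algebra.FiniteType k A ∧
        Nonempty (MTBridge.specGrp k A ≅ Grp.mk (Red.geomFibre (f s') H)) := by
    intro H _ hH
    haveI := (hH.2.2 (f s')).1
    haveI := (hH.2.2 (f s')).2.1
    obtain ⟨A, hA, eA, heA⟩ := FinHopf.exists_hopf (R := CommRingCat.of k) (Red.geomFibre (f s') H)
    haveI : IsIso eA.hom.left := inferInstanceAs (IsIso ((Over.forget _).map eA.hom))
    have hft : LocallyOfFiniteType (Spec.map (CommRingCat.ofHom (algebraMap k A))) := by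
      rw [show Spec.map (CommRingCat.ofHom (algebraMap k A)) = eA.hom.left ≫ (Red.geomFibre (f s') H).hom
        from (Over.w eA.hom).symm]
      haveI : LocallyOfFiniteType (Red.geomFibre (f s') H).hom := inferInstance
      haveI : IsOpenImmersion eA.hom.left := IsOpenImmersion.of_isIso _
      haveI : LocallyOfFiniteType eA.hom.left := locallyOfFiniteType_of_isOpenImmersion (f := eA.hom.left)
      exact locallyOfFiniteType_comp eA.hom.left (Red.geomFibre (f s') H).hom
    refine ⟨A, hA, RingHom.finiteType_algebraMap.mp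
      ((HasRingHomProperty.Spec_iff (P := @LocallyOfFiniteType)).mp hft), ⟨?_⟩⟩
    exact @Grp.mkIso' _ _ _ _ _ eA _ _ heA
  obtain ⟨A, hA, hAf, ⟨eA⟩⟩ := mk G hG
  obtain ⟨B, hB, hBf, ⟨eB⟩⟩ := mk G' hG'
  obtain ⟨bA⟩ := MTBridge.nonempty_bc_specGrp k K A
  obtain ⟨bB⟩ := MTBridge.nonempty_bc_specGrp k K B
  obtain ⟨Φ⟩ := MTBridge.nonempty_bialgEquiv
    (bA.symm ≪≫ MTBridge.bcMapIso q eA ≪≫ e' ≪≫ (MTBridge.bcMapIso q eB).symm ≪≫ bB)
  obtain ⟨φ⟩ := HopfGeomIso.nonempty_bialgEquiv Φ
  obtain ⟨ψ⟩ := MTBridge.nonempty_specGrp_iso φ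
  exact ⟨eA.symm ≪≫ ψ ≪≫ eB⟩

end Groth.Agent.S3014
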