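import Groth.Statements.S3021
import Mathlib

set_option autoImplicit false
universe u
open CategoryTheory MonoidalCategory CartesianMonoidalCategory MonObj GrpObj AlgebraicGeometry TensorProduct
open SGA3

namespace Groth.Agent.S3021

/-- Let A be a commutative ring, C an A-coalgebra which is projective as an A-module, V a C-comodule and
M an A-submodule of V. Then there is a smallest subcomodule of V containing M, and it is finitely
generated over A when M is. -/
theorem result (A : Type u) [CommRing A] (C : Type u) [AddCommGroup C] [Module A C]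
    [Coalgebra A C] [Module.Projective A C] (V : Type u) [AddCommGroup V] [Module A V] [HopfRep.Comod A C V]
    (M : Submodule A V) :
    ∃ W : Submodule A V, HopfRep.IsSubcomod (k := A) (A := C) W ∧ M ≤ W ∧
      (∀ W' : Submodule A V, HopfRep.IsSubcomod (k := A) (A := C) W' → M ≤ W' → W ≤ W') ∧
      (M.FG → W.FG) := by
  classical
  obtain ⟨s, hs⟩ := Module.Projective.out (R := A) (P := C)
  let ρ := HopfRep.Comod.coact (k := A) (A := C) (V := V)
  let W := Submodule.span A
    {w | ∃ (φ : C →ₗ[A] A) (m : V), m ∈ M ∧ w = TensorProduct.rid A V (φ.lTensor V (ρ m))}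
  have hexp : ∀ t : V ⊗[A] C, ∃ w : C →₀ V,
      (∀ c, w c = TensorProduct.rid A V ((Finsupp.lapply c ∘ₗ s).lTensor V t)) ∧
      t = w.sum fun c v => v ⊗ₜ[A] c := by
    intro t
    refine ⟨TensorProduct.finsuppScalarRight A A V C (s.lTensor V t), fun c => ?_, ?_⟩
    · induction t using TensorProduct.induction_on with
      | zero => simp
      | tmul v d => simp [TensorProduct.finsuppScalarRight_apply_tmul_apply]
      | add p q hp hq => simp [hp, hq]
    · induction t using TensorProduct.induction_on with
      | zero => simp
      | tmul v d =>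
        rw [LinearMap.lTensor_tmul, TensorProduct.finsuppScalarRight_apply_tmul, Finsupp.sum_sum_index
          (by simp) (by simp [TensorProduct.add_tmul])]
        conv_lhs => rw [← hs d]
        rw [Finsupp.linearCombination_apply, Finsupp.sum, TensorProduct.tmul_sum]
        refine Finset.sum_congr rfl fun c _ => ?_
        beta_reduce
        rw [Finsupp.sum_single_index (by simp), TensorProduct.smul_tmul]
        rfl
      | add p q hp hq =>
        rw [map_add, map_add, Finsupp.sum_add_index (by simp) (by simp [TensorProduct.add_tmul]), ← hp, ← hq]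
  have hMW : M ≤ W := fun m hm => by
    refine Submodule.subset_span ⟨Coalgebra.counit, m, hm, ?_⟩
    have h := LinearMap.congr_fun (HopfRep.Comod.counit_comp (k := A) (A := C) (V := V)) m
    rw [show (Coalgebra.counit (R := A) (A := C)).lTensor V (ρ m) = _ from h]
    simp
  refine ⟨W, ?_, hMW, ?_, ?_⟩
  · intro w hw
    obtain ⟨f, hf1, hf2⟩ := hexp (ρ w)
    show ρ w ∈ _
    rw [hf2]
    refine Submodule.sum_mem _ fun c _ => ?_
    suffices h : f c ∈ W by exact ⟨(⟨f c, h⟩ : W) ⊗ₜ[A] c, by simp⟩
    rw [hf1]
    clear hf1 hf2
    induction hw using Submodule.span_induction with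
    | zero => simp
    | add p q _ _ hp hq => simp only [map_add]; exact W.add_mem hp hq
    | smul r p _ hp => simp only [map_smul]; exact W.smul_mem r hp
    | mem p hp =>
      obtain ⟨φ, m, hm, rfl⟩ := hp
      refine Submodule.subset_span ⟨(TensorProduct.lid A A).toLinearMap ∘ₗ
        TensorProduct.map (Finsupp.lapply c ∘ₗ s) φ ∘ₗ Coalgebra.comul, m, hm, ?_⟩
      set ψ := Finsupp.lapply (R := A) c ∘ₗ s
      have h1 : ∀ t : V ⊗[A] C, ψ.lTensor V (ρ (TensorProduct.rid A V (φ.lTensor V t))) =
          (TensorProduct.rid A (V ⊗[A] A)) ((φ.lTensor (V ⊗[A] A))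
            ((ψ.lTensor V).rTensor C (ρ.rTensor C t))) := by
        intro t
        induction t using TensorProduct.induction_on with
        | zero => simp
        | tmul v d => simp
        | add p q hp hq => simp [hp, hq]
      have h2 : ∀ z : (V ⊗[A] C) ⊗[A] C,
          TensorProduct.rid A V ((TensorProduct.rid A (V ⊗[A] A)) ((φ.lTensor (V ⊗[A] A))
            ((ψ.lTensor V).rTensor C z))) =
          TensorProduct.rid A V (((TensorProduct.lid A A).toLinearMap ∘ₗ TensorProduct.map ψ φ).lTensor V
            (TensorProduct.assoc A V C C z)) := by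
        intro z
        induction z using TensorProduct.induction_on with
        | zero => simp
        | add p q hp hq => simp [hp, hq]
        | tmul p d =>
          induction p using TensorProduct.induction_on with
          | zero => simp
          | tmul v e => simp [smul_smul, mul_comm]
          | add p q hp hq => simp_all [TensorProduct.add_tmul]
      have h3 := LinearMap.congr_fun (HopfRep.Comod.coassoc (k := A) (A := C) (V := V)) m
      simp only [LinearMap.coe_comp, LinearEquiv.coe_coe, Function.comp_apply] at h3
      rw [h1, h2, h3, ← LinearMap.lTensor_comp_apply, LinearMap.comp_assoc]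
  · intro W' hW' hMW'
    refine Submodule.span_le.mpr ?_
    rintro _ ⟨φ, m, hm, rfl⟩
    obtain ⟨t, ht⟩ := hW' m (hMW' hm)
    show TensorProduct.rid A V (φ.lTensor V (ρ m)) ∈ W'
    rw [show ρ m = W'.subtype.rTensor C t from ht.symm]
    clear ht
    induction t using TensorProduct.induction_on with
    | zero => simp
    | tmul v d => simp [W'.smul_mem]
    | add p q hp hq => simp only [map_add]; exact W'.add_mem hp hq
  · rintro ⟨T, hT⟩
    choose f hf1 hf2 using fun m => hexp (ρ m)
    refine ⟨T.biUnion fun m => (f m).support.image (f m), le_antisymm (Submodule.span_le.mpr ?_)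
      (Submodule.span_le.mpr ?_)⟩
    · intro w hw
      rw [Finset.mem_coe, Finset.mem_biUnion] at hw
      obtain ⟨m, hm, hw⟩ := hw
      obtain ⟨c, -, rfl⟩ := Finset.mem_image.mp hw
      exact Submodule.subset_span ⟨_, m, hT ▸ Submodule.subset_span hm, hf1 m c⟩
    · rintro _ ⟨φ, m, hm, rfl⟩
      rw [← hT] at hm
      induction hm using Submodule.span_induction with
      | zero => simp
      | add p q _ _ hp hq => simp only [SetLike.mem_coe, map_add] at hp hq ⊢; exact Submodule.add_mem _ hp hq
      | smul r p _ hp => simp only [SetLike.mem_coe, map_smul] at hp ⊢; exact Submodule.smul_mem _ r hp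
      | mem p hp =>
        rw [hf2 p, Finsupp.sum]
        simp only [map_sum, LinearMap.lTensor_tmul, TensorProduct.rid_tmul, SetLike.mem_coe]
        refine Submodule.sum_mem _ fun c hc => Submodule.smul_mem _ _ (Submodule.subset_span ?_)
        rw [Finset.mem_coe, Finset.mem_biUnion]
        exact ⟨p, hp, Finset.mem_image_of_mem _ hc⟩

end Groth.Agent.S3021
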