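import Groth.Statements.S3031
import Groth.Agent.GrpComp.Identity
import Groth.Agent.GrpField.SchImg
import Mathlib

set_option autoImplicit false
universe u
open CategoryTheory MonoidalCategory CartesianMonoidalCategory MonObj GrpObj AlgebraicGeometry TensorProduct
open SGA3

namespace Groth.Agent.S3031

/-- With X connected and possessing a rational point over the identity, a case of 'geometrically
connected with e ∈ f(X)': let G be a group scheme over a field k, X a connected, geometrically
reduced k-scheme, x a k-point of X and f : X → G a k-morphism with f(x) the identity. Then the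
smallest closed subgroup scheme of G through which f factors is connected. -/
theorem result (k : Type u) [Field k] (G X : Over (Spec (CommRingCat.of k))) [GrpObj G]
    [GeometricallyReduced X.hom] [ConnectedSpace X.left] (x : 𝟙_ (Over (Spec (CommRingCat.of k))) ⟶ X) (f : X ⟶ G)
    (hx : x ≫ f = η[G])
    (Γ : Over (Spec (CommRingCat.of k))) [GrpObj Γ] (i : Γ ⟶ G) [IsMonHom i] [IsClosedImmersion i.left]
    (hf : ∃ f' : X ⟶ Γ, f' ≫ i = f)
    (hmin : ∀ (Γ' : Over (Spec (CommRingCat.of k))) (_ : GrpObj Γ') (i' : Γ' ⟶ G), IsMonHom i' → IsClosedImmersion i'.left →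
        (∃ f'' : X ⟶ Γ', f'' ≫ i' = f) → ∃ j : Γ ⟶ Γ', j ≫ i' = i) :
    ConnectedSpace Γ.left := by
  obtain ⟨f', hf'⟩ := hf
  obtain ⟨G₀, h0, incl, hm0, hci, hfl, hr, -, -, -⟩ := GrpComp.exists_identity_subgroup Γ
  letI := h0
  haveI := hm0
  haveI := hci
  haveI := hfl
  haveI : Mono i := GrpField.SchImg.mono_of_isClosedImmersion i
  have hx' : x ≫ f' = η[Γ] := by rw [← cancel_mono i, Category.assoc, hf', hx, IsMonHom.one_hom i]
  have hsub : Set.range f'.left ⊆ Set.range incl.left := by
    rw [hr]
    have hp : _root_.IsPreconnected (Set.range f'.left) := isPreconnected_range f'.left.continuous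
    exact hp.subset_connectedComponent ⟨x.left (IsLocalRing.closedPoint k), by
      rw [← Scheme.Hom.comp_apply, ← Over.comp_left, hx']; rfl⟩
  obtain ⟨g, hg⟩ := GrpComp.exists_factor_flat incl.left f'.left hsub
  let g' : X ⟶ G₀ := Over.homMk g (by rw [← Over.w incl, reassoc_of% hg, Over.w])
  have hg' : g' ≫ incl = f' := Over.OverMorphism.ext hg
  haveI : IsClosedImmersion (incl ≫ i).left := by rw [Over.comp_left]; infer_instance
  obtain ⟨j, hj⟩ := hmin G₀ h0 (incl ≫ i) inferInstance inferInstance ⟨g', by rw [reassoc_of% hg', hf']⟩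
  have hj' : j ≫ incl = 𝟙 Γ := by rw [← cancel_mono i, Category.assoc, hj, Category.id_comp]
  have huniv : connectedComponent (GrpComp.ept Γ) = Set.univ := by
    rw [← hr]
    refine Set.eq_univ_of_forall fun z => ⟨j.left z, ?_⟩
    rw [← Scheme.Hom.comp_apply, ← Over.comp_left, hj']
    rfl
  exact connectedSpace_iff_connectedComponent.2 ⟨GrpComp.ept Γ, huniv⟩

end Groth.Agent.S3031
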