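import Groth.Statements.S3033
import Groth.Agent.GrpField.Dimension
import Groth.Agent.GrpAct.Basic
import Groth.Agent.SubGen.SpreadBase

set_option autoImplicit false
universe u
open CategoryTheory MonoidalCategory CartesianMonoidalCategory MonObj GrpObj AlgebraicGeometry TensorProduct
open SGA3 CategoryTheory.Limits

namespace Groth.Agent.S3033
open Groth.Agent.GrpField in
/-- all closed points of a homogeneous space over a local artinian ring have the same codimension -/
theorem coheight_eq {A : Type u} [CommRing A] [IsArtinianRing A] [IsLocalRing A]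
    {G X : Over (Spec (CommRingCat.of A))} [GrpObj G] [LocallyOfFiniteType G.hom] [LocallyOfFiniteType X.hom]
    (a : AlgGrp.Action G X) (hΦ : Surjective (lift a.act (snd G X)).left)
    {x y : X.left} (hx : IsClosed ({x} : Set X.left)) (hy : IsClosed ({y} : Set X.left)) :
    Order.coheight x = Order.coheight y := by
  let k := IsLocalRing.ResidueField A
  let K := AlgebraicClosure k
  let r := Spec.map (CommRingCat.ofHom (IsLocalRing.residue A))
  let g := Spec.map (CommRingCat.ofHom (algebraMap k K))
  haveI : IsClosedImmersion r := IsClosedImmersion.spec_of_surjective _ IsLocalRing.residue_surjective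
  haveI : Subsingleton ↥(Spec (CommRingCat.of A)) := inferInstanceAs (Subsingleton (PrimeSpectrum A))
  haveI : Subsingleton ↥(Spec (CommRingCat.of k)) := inferInstanceAs (Subsingleton (PrimeSpectrum k))
  haveI : Surjective r := ⟨fun _ => ⟨IsLocalRing.closedPoint k, Subsingleton.elim _ _⟩⟩
  haveI : Surjective g := ⟨fun _ => ⟨IsLocalRing.closedPoint K, Subsingleton.elim _ _⟩⟩
  haveI : IsIntegralHom g := IsIntegralHom.SpecMap_iff.2 Algebra.IsIntegral.isIntegral
  haveI : Flat g := Flat.SpecMap_iff.2 (RingHom.Flat.of_isField (Field.toIsField k) _)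
  let T : Over (Spec (CommRingCat.of A)) := Over.mk (g ≫ r)
  let Z := (X ⊗ T).left
  let q1 := pullback.fst X.hom r
  let q2 := pullback.fst (pullback.snd X.hom r) g
  let e : Z ≅ pullback (pullback.snd X.hom r) g := (pullbackLeftPullbackSndIso X.hom r g).symm
  let π : Z ⟶ X.left := e.hom ≫ q2 ≫ q1
  have hπ : π = (fst X T).left := pullbackLeftPullbackSndIso_inv_fst X.hom r g
  have hq1 : IsHomeomorph q1 := isHomeomorph_iff_isEmbedding_surjective.mpr
    ⟨q1.isClosedEmbedding.isEmbedding, q1.surjective⟩
  have hco : ∀ z : Z, Order.coheight z = Order.coheight (π z) := fun z => by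
    haveI : Flat (e.hom ≫ q2) := inferInstance
    haveI : IsIntegralHom (e.hom ≫ q2) := inferInstance
    rw [coheight_eq_of_flat_isIntegralHom (e.hom ≫ q2) z]
    exact hq1.isOpenEmbedding.coheight_eq.symm
  haveI : LocallyOfFiniteType (snd X T).left := inferInstanceAs (LocallyOfFiniteType (pullback.snd X.hom T.hom))
  haveI : JacobsonSpace T.left := inferInstanceAs (JacobsonSpace (PrimeSpectrum K))
  haveI : JacobsonSpace Z := LocallyOfFiniteType.jacobsonSpace (snd X T).left
  haveI : Surjective π := inferInstance
  have hlift : ∀ w : X.left, IsClosed ({w} : Set X.left) → ∃ z : Z, IsClosed ({z} : Set Z) ∧ π z = w := by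
    intro w hw
    obtain ⟨v, hv⟩ := π.surjective w
    obtain ⟨z, hz, hzc⟩ := nonempty_inter_closedPoints (Z := π ⁻¹' {w}) ⟨v, hv⟩
      (hw.preimage π.continuous).isLocallyClosed
    exact ⟨z, hzc, hz⟩
  obtain ⟨x', hx', rfl⟩ := hlift x hx
  obtain ⟨y', hy', rfl⟩ := hlift y hy
  rw [← hco, ← hco]
  let t : T.left := IsLocalRing.closedPoint K
  let p : Z ⟶ Spec (CommRingCat.of K) := (snd X T).left
  have hp : ∀ (z : Z) (hz : IsClosed ({z} : Set Z)), (pointOfClosedPoint p z hz ≫ (fst X T).left) ≫ X.hom = g ≫ r := by
    intro z hz
    rw [Category.assoc, show (fst X T).left ≫ X.hom = p ≫ g ≫ r from pullback.condition,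
      reassoc_of% (pointOfClosedPoint_comp p z hz)]
  let pt : ∀ (z : Z), IsClosed ({z} : Set Z) → (T ⟶ X) := fun z hz =>
    Over.homMk (pointOfClosedPoint p z hz ≫ (fst X T).left) (hp z hz)
  have hpt : ∀ (z : Z) (hz : IsClosed ({z} : Set Z)), (lift (pt z hz) (𝟙 T)).left t = z := by
    intro z hz
    have h : (lift (pt z hz) (𝟙 T)).left = pointOfClosedPoint p z hz := by
      apply pullback.hom_ext
      · exact congrArg (fun k : T ⟶ X => k.left) (lift_fst (pt z hz) (𝟙 T))
      · exact (congrArg (fun k : T ⟶ T => k.left) (lift_snd (pt z hz) (𝟙 T))).trans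
          (pointOfClosedPoint_comp p z hz).symm
    rw [h]
    exact pointOfClosedPoint_apply p z hz t
  let ξ := pt x' hx'
  let υ := pt y' hy'
  haveI : LocallyOfFiniteType (lift a.act (snd G X)).left := by
    haveI : LocallyOfFiniteType ((lift a.act (snd G X)).left ≫ (X ⊗ X).hom) := by
      rw [Over.w]
      show LocallyOfFiniteType (pullback.fst G.hom X.hom ≫ G.hom)
      infer_instance
    exact locallyOfFiniteType_of_comp _ (X ⊗ X).hom
  obtain ⟨q, hq⟩ := Groth.Agent.SubGen.Spread.exists_lift (lift a.act (snd G X)) (g ≫ r) (lift υ ξ)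
    (hΦ.surj _)
  let gg : T ⟶ G := q ≫ fst G X
  have hq2 : q ≫ snd G X = ξ := by
    have := congrArg (fun k : T ⟶ X ⊗ X => k ≫ snd X X) hq
    simpa using this
  have hgg : lift gg ξ ≫ a.act = υ := by
    have h1 : q = lift gg ξ := by
      apply CartesianMonoidalCategory.hom_ext
      · simp [gg]
      · simpa using hq2
    have := congrArg (fun k : T ⟶ X ⊗ X => k ≫ fst X X) hq
    simpa [h1] using this
  let τ : X ⊗ T ≅ X ⊗ T :=
    { hom := lift (lift (snd X T ≫ gg) (fst X T) ≫ a.act) (snd X T)
      inv := lift (lift (snd X T ≫ gg⁻¹) (fst X T) ≫ a.act) (snd X T)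
      hom_inv_id := by
        apply CartesianMonoidalCategory.hom_ext
        · simp [GrpAct.comp_smul, ← GrpAct.mul_smul, GrpObj.comp_inv, GrpAct.one_smul']
        · simp
      inv_hom_id := by
        apply CartesianMonoidalCategory.hom_ext
        · simp [GrpAct.comp_smul, ← GrpAct.mul_smul, GrpObj.comp_inv, GrpAct.one_smul']
        · simp }
  let h : Z ≅ Z := (Over.forget _).mapIso τ
  have hh : h.hom x' = y' := by
    show τ.hom.left x' = y'
    rw [← hpt x' hx', ← hpt y' hy', ← Scheme.Hom.comp_apply, ← Over.comp_left,
      show lift ξ (𝟙 T) ≫ τ.hom = lift υ (𝟙 T) by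
        apply CartesianMonoidalCategory.hom_ext
        · simp [τ, GrpAct.comp_smul, hgg]
        · simp [τ]]
  rw [← hh]
  exact (h.hom.homeomorph.isOpenEmbedding.coheight_eq (x := x')).symm

/-- a scheme with all closed points of one codimension: its connected components have that dimension -/
theorem dim_connectedComponent {A : Type u} [CommRing A] [IsArtinianRing A]
    {X : Over (Spec (CommRingCat.of A))} [LocallyOfFiniteType X.hom] {d : ℕ∞}
    (hd : ∀ z : X.left, IsClosed ({z} : Set X.left) → Order.coheight z = d) (x : X.left) :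
    topologicalKrullDim ↥(connectedComponent x) = (d : WithBot ℕ∞) := by
  haveI : IsLocallyNoetherian X.left := LocallyOfFiniteType.isLocallyNoetherian X.hom
  haveI : JacobsonSpace X.left := LocallyOfFiniteType.jacobsonSpace X.hom
  refine le_antisymm ((topologicalKrullDim_subspace_le _ _).trans ?_) ?_
  · rw [show topologicalKrullDim X.left = Order.krullDim X.left from
      Order.krullDim_eq_of_orderIso (irreducibleSetEquivPoints (α := X.left)), Order.krullDim_eq_iSup_coheight]
    · refine iSup_le fun z => ?_
      obtain ⟨w, hw, hwc⟩ := nonempty_inter_closedPoints (Z := closure ({z} : Set X.left))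
        ⟨z, subset_closure rfl⟩ isClosed_closure.isLocallyClosed
      exact WithBot.coe_le_coe.2 ((Order.coheight_anti
        (show w ≤ z from specializes_iff_mem_closure.2 hw)).trans (hd w hwc).le)
  · obtain ⟨W, hW, hne, hWZ⟩ := Groth.Agent.GrpField.exists_open_subset_component X.left
      (irreducibleComponent_mem_irreducibleComponents x)
    obtain ⟨z, hz, hzc⟩ := nonempty_inter_closedPoints hne hW.isLocallyClosed
    rw [← hd z hzc]
    exact Groth.Agent.GrpField.coheight_le_topologicalKrullDim _ isClosed_connectedComponent.isLocallyClosed z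
      fun v hv => irreducibleComponent_subset_connectedComponent (hWZ (hv.mem_open hW hz))


/-- Let A be a local artinian ring and G a group scheme locally of finite type over A acting on a
nonempty A-scheme X locally of finite type, such that the morphism G ×_A X → X ×_A X, (g, x) ↦ (g·x,
x), is surjective. Then all connected components of X have the same dimension. The published
statement also asserts that the connected components are irreducible; that is not asserted here (it
is stated separately). -/
theorem result (A : Type u) [CommRing A] [IsArtinianRing A] [IsLocalRing A]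
    (G X : Over (Spec (CommRingCat.of A))) [GrpObj G] [LocallyOfFiniteType G.hom] [LocallyOfFiniteType X.hom] [Nonempty X.left]
    (a : AlgGrp.Action G X) (hΦ : Surjective (lift a.act (snd G X)).left) (x y : X.left) :
    topologicalKrullDim ↥(connectedComponent x) = topologicalKrullDim ↥(connectedComponent y) := by
  haveI : JacobsonSpace X.left := LocallyOfFiniteType.jacobsonSpace X.hom
  obtain ⟨z₀, -, hz₀⟩ := nonempty_inter_closedPoints (Z := (Set.univ : Set X.left)) Set.univ_nonempty
    isClosed_univ.isLocallyClosed
  have h := fun z hz => coheight_eq a hΦ (x := z) (y := z₀) hz hz₀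
  rw [dim_connectedComponent h x, dim_connectedComponent h y]

end Groth.Agent.S3033
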