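import Groth.Statements.S3045
import Mathlib

set_option autoImplicit false
universe u
open TensorProduct
open SGA3

namespace Groth.Agent.S3045

/-- Let A be a commutative Hopf algebra over a commutative ring k (the coordinate ring of an affine
group G = Spec A) and φ, ψ two k[ε]-valued points of G reducing to the unit point modulo ε (tangent
vectors at the identity). Then for every a ∈ A the ε-component of the product point φ · ψ at a — the
product of points being convolution, formed here as the triple convolution of φ, ψ and the unit
point — is the sum of the ε-components of φ(a) and ψ(a): on tangent vectors at the identity the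
group law of G induces addition. -/
theorem result (k : Type u) [CommRing k] (A : Type u) [CommRing A] [HopfAlgebra k A]
    (φ ψ : LieHopf.LiePts k A) (a : A) :
    TrivSqZeroExt.snd (Dyn.conv3 k A φ.1 ψ.1 ((Algebra.ofId k (DualNumber k)).comp (Bialgebra.counitAlgHom k A)) a) =
      LieHopf.LiePts.tangent k A φ a + LieHopf.LiePts.tangent k A ψ a := by
  let ε := Bialgebra.counitAlgHom k A
  let p := LieHopf.LiePts.tangent k A φ
  let q := LieHopf.LiePts.tangent k A ψ
  let P : A →ₗ[k] k :=
    { toFun := p, map_add' := fun a b => by simp [p, LieHopf.LiePts.tangent], map_smul' := fun r a => by simp [p, LieHopf.LiePts.tangent] }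
  let Q : A →ₗ[k] k :=
    { toFun := q, map_add' := fun a b => by simp [q, LieHopf.LiePts.tangent], map_smul' := fun r a => by simp [q, LieHopf.LiePts.tangent] }
  let one : A →ₐ[k] DualNumber k := (Algebra.ofId k (DualNumber k)).comp ε
  have hc : Dyn.conv3 k A φ.1 ψ.1 one a = (WithConv.toConv φ.1 * WithConv.toConv ψ.1 * WithConv.toConv one) a := by
    have key : ∀ x y : A →ₐ[k] DualNumber k, ∀ b, (Algebra.TensorProduct.lmul' (S := DualNumber k) k).comp
        (Algebra.TensorProduct.map x y) (Coalgebra.comul (R := k) b) = (WithConv.toConv x * WithConv.toConv y) b := by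
      intro x y b
      rw [AlgHom.convMul_apply]
      induction Coalgebra.comul (R := k) b using TensorProduct.induction_on with
      | zero => simp
      | add u v hu hv => simp only [map_add, hu, hv]
      | tmul u v => simp
    rw [Dyn.conv3, AlgHom.convMul_apply]
    simp only [AlgHom.comp_apply, Bialgebra.comulAlgHom_apply]
    induction Coalgebra.comul (R := k) a using TensorProduct.induction_on with
    | zero => simp
    | add u v hu hv => simp only [map_add, hu, hv]
    | tmul u v => simp [← key]
  have hone : WithConv.toConv one = 1 := WithConv.ext (AlgHom.ext fun x => by simp [one, ε, Algebra.ofId_apply])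
  rw [hc, hone, show ∀ x : WithConv (A →ₐ[k] DualNumber k), x * 1 = x from fun x => by exact mul_one x, AlgHom.convMul_apply]
  show _ = P a + Q a
  have h1 : a = TensorProduct.rid k A ((Coalgebra.counit (R := k)).lTensor A (Coalgebra.comul (R := k) a)) := by simp
  have h2 : a = TensorProduct.lid k A ((Coalgebra.counit (R := k)).rTensor A (Coalgebra.comul (R := k) a)) := by simp
  rw [congrArg P h1, congrArg Q h2]
  induction Coalgebra.comul (R := k) a using TensorProduct.induction_on with
  | zero => simp
  | add u v hu hv =>
    simp only [map_add, TrivSqZeroExt.snd_add, hu, hv]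
    abel
  | tmul u v =>
    simp [P, Q, p, q, LieHopf.LiePts.tangent, φ.2, ψ.2, ε]
    ring

end Groth.Agent.S3045
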