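import Groth.Statements.S3046
import Mathlib

set_option autoImplicit false
universe u
open TensorProduct
open SGA3

namespace Groth.Agent.S3046

/-- Let A be a commutative Hopf algebra over a commutative ring k, D and E two ε-derivations A → k
(tangent vectors at the identity of G = Spec A), R a commutative k-algebra and t, t' ∈ R with t² = 0
= t'². Let x = e + tD and y = e + t'E be the corresponding R-points of G. Then the commutator x y
x⁻¹ y⁻¹ (product of points; the inverse of a point is its composite with the antipode) is the point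
a ↦ ε(a) + [D, E](a) · t t', where [D, E] = D ⋆ E − E ⋆ D is the convolution commutator. -/
theorem result (k : Type u) [CommRing k] (A : Type u) [CommRing A] [HopfAlgebra k A]
    (D E : LieHopf.Lie k A) (R : Type u) [CommRing R] [Algebra k R] (t t' : R) (ht : t * t = 0) (ht' : t' * t' = 0)
    (a : A) :
    Dyn.conv3 k A
        (Dyn.conv3 k A (LieHopf.ptOfLie D R t ht) (LieHopf.ptOfLie E R t' ht')
          ((LieHopf.ptOfLie D R t ht).comp (HopfAlgebra.antipodeAlgHom k A)))
        ((LieHopf.ptOfLie E R t' ht').comp (HopfAlgebra.antipodeAlgHom k A))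
        ((Algebra.ofId k R).comp (Bialgebra.counitAlgHom k A)) a =
      algebraMap k R (Bialgebra.counitAlgHom k A a) + algebraMap k R (LieHopf.bracketLin D E a) * (t * t') := by
  let ι : (A →ₗ[k] k) → WithConv (A →ₗ[k] R) := fun d => WithConv.toConv (Algebra.linearMap k R ∘ₗ d)
  let T : R → WithConv (A →ₗ[k] R) → WithConv (A →ₗ[k] R) := fun r f =>
    WithConv.toConv (LinearMap.mulLeft k r ∘ₗ f.ofConv)
  have hTT : ∀ r s f g, T r f * T s g = T (r * s) (f * g) := by
    intro r s f g
    refine WithConv.ext (LinearMap.ext fun b => ?_)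
    rw [LinearMap.convMul_apply]
    show _ = r * s * (f * g).ofConv b
    rw [LinearMap.convMul_apply]
    induction Coalgebra.comul (R := k) b using TensorProduct.induction_on with
    | zero => simp
    | add u v hu hv => simp only [map_add, mul_add, hu, hv]
    | tmul u v => simp [T]; ring
  have hT1 : ∀ f, T 1 f = f := fun f => WithConv.ext (LinearMap.ext fun b => by simp [T])
  have hT0 : ∀ f, T 0 f = 0 := fun f => WithConv.ext (LinearMap.ext fun b => by simp [T])
  have hTneg : ∀ r f, T r (-f) = -T r f := fun r f => WithConv.ext (LinearMap.ext fun b => by simp [T])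
  let lin : (A →ₐ[k] R) → WithConv (A →ₗ[k] R) := fun f => WithConv.toConv f.toLinearMap
  let d := ι (LieHopf.dlin D)
  let e := ι (LieHopf.dlin E)
  have hpt : ∀ (G : LieHopf.Lie k A) (s : R) (hs : s * s = 0),
      lin (LieHopf.ptOfLie G R s hs) = 1 + T s (ι (LieHopf.dlin G)) := by
    intro G s hs
    refine WithConv.ext (LinearMap.ext fun b => ?_)
    simp [lin, T, ι, LinearMap.convOne_apply, LieHopf.ptOfLie, mul_comm]
  have hS : ∀ f : A →ₐ[k] R, lin f * lin (f.comp (HopfAlgebra.antipodeAlgHom k A)) = 1 := by
    intro f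
    refine WithConv.ext (LinearMap.ext fun b => ?_)
    rw [LinearMap.convMul_apply, LinearMap.convOne_apply]
    have h := congrArg f (HopfAlgebra.mul_antipode_lTensor_comul_apply (R := k) b)
    rw [AlgHom.commutes] at h
    rw [← h]
    induction Coalgebra.comul (R := k) b using TensorProduct.induction_on with
    | zero => simp
    | add u v hu hv => simp only [map_add, hu, hv]
    | tmul u v => simp [lin]
  have hinv : ∀ (G : LieHopf.Lie k A) (s : R) (hs : s * s = 0),
      lin ((LieHopf.ptOfLie G R s hs).comp (HopfAlgebra.antipodeAlgHom k A)) = 1 - T s (ι (LieHopf.dlin G)) := by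
    intro G s hs
    refine (left_inv_eq_right_inv ?_ (hS (LieHopf.ptOfLie G R s hs))).symm
    rw [hpt, sub_mul, one_mul, mul_add, mul_one, hTT, hs, hT0, add_zero, add_sub_cancel_right]
  have hc : ∀ f g h : A →ₐ[k] R, lin (Dyn.conv3 k A f g h) = lin f * lin g * lin h := by
    intro f g h
    refine WithConv.ext (LinearMap.ext fun b => ?_)
    show Dyn.conv3 k A f g h b = _
    rw [Dyn.conv3, LinearMap.convMul_apply]
    simp only [AlgHom.comp_apply, Bialgebra.comulAlgHom_apply]
    induction Coalgebra.comul (R := k) b using TensorProduct.induction_on with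
    | zero => simp
    | add u v hu hv => simp only [map_add, hu, hv]
    | tmul u v =>
      simp only [Algebra.TensorProduct.map_tmul, Bialgebra.comulAlgHom_apply, AlgHom.comp_apply,
        Algebra.TensorProduct.lmul'_apply_tmul, AlgHom.coe_id, id_eq, TensorProduct.map_tmul, LinearMap.mul'_apply,
        WithConv.ofConv_toConv, lin, AlgHom.toLinearMap_apply, LinearMap.convMul_apply]
      congr 1
  have hone : lin ((Algebra.ofId k R).comp (Bialgebra.counitAlgHom k A)) = 1 :=
    WithConv.ext (LinearMap.ext fun b => by simp [lin, LinearMap.convOne_apply, Algebra.ofId_apply])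
  show lin (Dyn.conv3 k A _ _ _) a = _
  rw [hc, hc, hone, mul_one, hpt, hpt, hinv, hinv]
  have hprod : (1 + T t d) * (1 + T t' e) * (1 - T t d) * (1 - T t' e) = 1 + T (t * t') (d * e - e * d) := by
    have h1 : T t' e * T t d = T (t * t') (e * d) := by rw [hTT, mul_comm t' t]
    have h2 : T t d * T t' e = T (t * t') (d * e) := hTT _ _ _ _
    have h3 : ∀ X, T t d * (X * T t d) = 0 ∨ True := fun _ => Or.inr trivial
    have hTsub : ∀ r (f g : WithConv (A →ₗ[k] R)), T r (f - g) = T r f - T r g := fun r f g =>
      WithConv.ext (LinearMap.ext fun b => by simp [T, mul_sub])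
    have z1 : T t d * T t d = 0 := by rw [hTT, ht, hT0]
    have z2 : T t' e * T t' e = 0 := by rw [hTT, ht', hT0]
    have z3 : T t d * T t' e * T t d = 0 := by rw [hTT, hTT, mul_right_comm, ht, zero_mul, hT0]
    have z4 : T t' e * T t d * T t' e = 0 := by rw [hTT, hTT, mul_right_comm, ht', zero_mul, hT0]
    have z5 : T t d * T t' e * T t' e = 0 := by rw [mul_assoc, z2, mul_zero]
    have z6 : T t d * T t d * T t' e = 0 := by rw [z1, zero_mul]
    rw [hTsub, ← h1, ← h2]
    simp only [mul_add, add_mul, mul_sub, sub_mul, one_mul, mul_one, z1, z2, z3, z4, z5, zero_mul]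
    abel
  have := congrArg (fun f : WithConv (A →ₗ[k] R) => f.ofConv a) hprod
  refine this.trans ?_
  have hι : ∀ u v : A →ₗ[k] k, (ι u * ι v).ofConv a = algebraMap k R (LieHopf.conv u v a) := by
    intro u v
    rw [LinearMap.convMul_apply]
    show _ = algebraMap k R (LinearMap.mul' k k (TensorProduct.map u v (Coalgebra.comul (R := k) a)))
    induction Coalgebra.comul (R := k) a using TensorProduct.induction_on with
    | zero => simp
    | add x y hx hy => simp only [map_add, hx, hy]
    | tmul x y => simp [ι]
  simp only [WithConv.ofConv_add, LinearMap.add_apply, T, WithConv.ofConv_sub, LinearMap.comp_apply,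
    LinearMap.mulLeft_apply, LinearMap.sub_apply, d, e, hι, LinearMap.convOne_apply]
  rw [show LieHopf.bracketLin D E a = LieHopf.conv (LieHopf.dlin D) (LieHopf.dlin E) a -
    LieHopf.conv (LieHopf.dlin E) (LieHopf.dlin D) a from rfl, map_sub]
  simp [mul_comm]

end Groth.Agent.S3046
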