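import Groth.Statements.S3051
import Groth.Agent.EtShDesc.Charts
import Groth.Agent.EtH0Pair.ProperSets

set_option autoImplicit false
open CategoryTheory CategoryTheory.Limits AlgebraicGeometry Opposite
universe u
open EtDesc

namespace Groth.Agent.S3051

/-- Let f : X' -> X be a surjective morphism of schemes which is proper. Then f is a morphism of
effective descent for etale sheaves of sets: every sheaf F' on X'_et equipped with an isomorphism
pr_1^* F' = pr_2^* F' on X' x_X X' satisfying the cocycle condition on the triple fibre product is,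
compatibly with that datum, the inverse image of a sheaf on X_et. -/
theorem result {X' X : Scheme.{u}} (f : X' ⟶ X) [Surjective f] [IsProper f]
    (F' : EtDesc.Sh X')
    (φ : (EtDesc.pullSh (pullback.fst f f)).obj F' ≅ (EtDesc.pullSh (pullback.snd f f)).obj F')
    (hφ : EtDesc.IsCocycle F' φ) : EtDesc.IsEffective f F' φ := by
  refine Groth.Agent.EtShDesc.isEffective_of_charts f (fun p => ⟨⊤, pullback f (⊤ : X.Opens).ι,
    pullback.snd f (⊤ : X.Opens).ι, pullback.fst f (⊤ : X.Opens).ι, trivial, pullback.condition,
    Groth.Agent.EtShDesc.uq_of_closed _, fun G => ?_, fun G => ?_⟩) F' φ hφ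
  · exact Groth.Agent.EtH0Pair.isIso_baseChange0Sh_proper _ _ _ _ (IsPullback.of_hasPullback _ _) G
  · exact Groth.Agent.EtH0Pair.isIso_baseChange0Sh_proper _ _ _ _ (IsPullback.of_hasPullback _ _) G

end Groth.Agent.S3051
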