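import Groth.Statements.S3055
import Groth.Agent.EtStalk.Applications
import Mathlib

set_option autoImplicit false
set_option backward.isDefEq.respectTransparency false
open CategoryTheory CategoryTheory.Limits AlgebraicGeometry Opposite
universe u
open EtDesc

set_option backward.isDefEq.respectTransparency false

namespace Groth.Agent.S3055

/-- For a separably closed field k and X = Spec k, the global sections functor from sheaves of sets on
X_et (valued one universe up) to sets is an equivalence of categories. -/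
theorem result (k : Type u) [Field k] [IsSepClosed k] :
    ((sheafSections (Spec (CommRingCat.of k)).smallEtaleTopology (Type (u + 1))).obj
      (op (EtCoh.top (Spec (CommRingCat.of k))))).IsEquivalence := by
  set X := Spec (CommRingCat.of k) with hX
  let Φ := Scheme.pointSmallEtale (S := X) (Ω := k) (𝟙 X)
  let x₀ : Φ.fiber.obj (EtCoh.top X) := (Over.homMk (𝟙 _) (Category.comp_id _) :
    Over.mk (𝟙 X) ⟶ (Scheme.Etale.forget X).obj (EtCoh.top X))
  have hsub : ∀ z : Φ.fiber.obj (EtCoh.top X), z = x₀ := fun z => by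
    let z' : Over.mk (𝟙 X) ⟶ (Scheme.Etale.forget X).obj (EtCoh.top X) := z
    exact Over.OverMorphism.ext ((Category.comp_id z'.left).symm.trans (Over.w z'))
  have hsec : ∀ (U : X.Etale) (z : Φ.fiber.obj U), ∃ e : EtCoh.top X ⟶ U, Φ.fiber.map e x₀ = z := by
    intro U z
    let z' : Over.mk (𝟙 X) ⟶ (Scheme.Etale.forget X).obj U := z
    refine ⟨MorphismProperty.Over.homMk z'.left (Over.w z') trivial, Over.OverMorphism.ext ?_⟩
    exact Category.id_comp _
  -- the fibre is the global sections
  let τ : (sheafSections X.smallEtaleTopology (Type (u + 1))).obj (op (EtCoh.top X)) ⟶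
      Φ.sheafFiber (A := Type (u + 1)) :=
    { app := fun F => Φ.toPresheafFiber (EtCoh.top X) x₀ F.obj
      naturality := fun F G a => (Φ.toPresheafFiber_naturality a.hom (EtCoh.top X) x₀).symm }
  have hbij : ∀ P : X.Etaleᵒᵖ ⥤ Type (u + 1),
      IsIso (Φ.toPresheafFiber (EtCoh.top X) x₀ P) := fun P => by
    rw [isIso_iff_bijective]
    constructor
    · intro a b hab
      obtain ⟨V, g, y, hy, hg⟩ := (Φ.toPresheafFiber_eq_iff' _ _ _ _).mp hab
      obtain ⟨e, he⟩ := hsec V y
      have h1 : e ≫ g = 𝟙 _ := by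
        refine MorphismProperty.Over.Hom.ext ?_
        refine (Category.comp_id _).symm.trans ?_
        exact (MorphismProperty.Over.w (e ≫ g)).trans rfl
      have h2 : ∀ c, P.map e.op (P.map g.op c) = c := fun c => by
        rw [← ConcreteCategory.comp_apply, ← Functor.map_comp, ← op_comp, h1, op_id, P.map_id]
        rfl
      have := congrArg (P.map e.op) hg
      rwa [h2, h2] at this
    · intro q
      obtain ⟨V, y, s, rfl⟩ := Φ.toPresheafFiber_jointly_surjective (P := P) q
      obtain ⟨e, rfl⟩ := hsec V y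
      exact ⟨P.map e.op s, ConcreteCategory.congr_hom (Φ.toPresheafFiber_w e x₀ P) s⟩
  haveI : ∀ F, IsIso (τ.app F) := fun F => hbij F.obj
  haveI : IsIso τ := NatIso.isIso_of_isIso_app τ
  let adj := Φ.skyscraperSheafAdjunction (A := Type (u + 1))
  haveI : Unique (Φ.fiber.obj (EtCoh.top X)) := ⟨⟨x₀⟩, hsub⟩
  haveI : ∀ M, IsIso (adj.counit.app M) := fun M => by
    haveI := hbij (Φ.skyscraperPresheaf M)
    have h1 : Φ.toPresheafFiber (EtCoh.top X) x₀ (Φ.skyscraperPresheaf M) ≫ adj.counit.app M =
        Pi.π (fun _ : Φ.fiber.obj (EtCoh.top X) => M) x₀ := by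
      rw [← adj.homEquiv_symm_id M]
      erw [Φ.skyscraperSheafAdjunction_homEquiv_symm_apply, Φ.toPresheafFiber_skyscraperPresheafHomEquiv_symm]
      exact Category.id_comp _
    have h2 : IsIso (Pi.π (fun _ : Φ.fiber.obj (EtCoh.top X) => M) x₀) :=
      ⟨⟨Pi.lift fun _ => 𝟙 M, Pi.hom_ext _ _ fun z => by rw [hsub z]; simp, by simp⟩⟩
    haveI : IsIso (Φ.toPresheafFiber (EtCoh.top X) x₀ (Φ.skyscraperPresheaf M) ≫ adj.counit.app M) := by
      rw [h1]; exact h2
    exact IsIso.of_isIso_comp_left (Φ.toPresheafFiber (EtCoh.top X) x₀ (Φ.skyscraperPresheaf M)) _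
  haveI : ∀ F, IsIso (adj.unit.app F) := fun F => by
    have h1 : IsIso (Φ.sheafFiber.map (adj.unit.app F)) := by
      haveI : IsIso (Φ.sheafFiber.map (adj.unit.app F) ≫ adj.counit.app (Φ.sheafFiber.obj F)) := by
        rw [adj.left_triangle_components F]; exact IsIso.id _
      exact IsIso.of_isIso_comp_right _ (adj.counit.app (Φ.sheafFiber.obj F))
    let P : ∀ (Ω : Type u) [Field Ω] [IsSepClosed Ω], (Spec (CommRingCat.of Ω) ⟶ X) → Prop := fun Ω _ _ ξ =>
      Function.Bijective ((Scheme.pointSmallEtale ξ).presheafFiber.map (adj.unit.app F).hom)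
    have hP : Groth.Agent.EtStalk.Covers P := fun s =>
      ⟨k, inferInstance, inferInstance, 𝟙 X, (isIso_iff_bijective _).mp h1,
        Subsingleton.elim (α := Spec (CommRingCat.of k)) _ _⟩
    have : Sheaf.IsLocallyInjective (adj.unit.app F) :=
      Groth.Agent.EtStalk.isLocallyInjective_of_covers _ hP fun Ω _ _ ξ hξ => hξ.1
    have : Sheaf.IsLocallySurjective (adj.unit.app F) :=
      Groth.Agent.EtStalk.isLocallySurjective_of_covers _ hP fun Ω _ _ ξ hξ => hξ.2
    exact (Sheaf.isLocallyBijective_iff_isIso _).mp ⟨inferInstance, inferInstance⟩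
  haveI : IsIso adj.unit := NatIso.isIso_of_isIso_app _
  haveI : IsIso adj.counit := NatIso.isIso_of_isIso_app _
  haveI : (Φ.sheafFiber (A := Type (u + 1))).IsEquivalence := adj.toEquivalence.isEquivalence_functor
  exact Functor.isEquivalence_of_iso (asIso τ).symm

end Groth.Agent.S3055
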