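import Groth.Statements.S3076
import Groth.Agent.QCTopos.Site
import Groth.Agent.QCTopos.Colim
import Groth.Agent.QCTopos.Algebraic

set_option autoImplicit false
open CategoryTheory CategoryTheory.Limits Opposite
universe u
open ToposFin

namespace Groth.Agent.S3076

/-- For a topos of sheaves of sets on a small site admitting a generating family of quasi-compact
objects: let g : Y -> Z and let (f_i : X_i -> Y) be a jointly epimorphic family of quasi-compact
morphisms. If every g o f_i is quasi-separated then g is quasi-separated; if moreover the family is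
finite and every g o f_i is coherent, then g is coherent. -/
theorem result {C : Type u} [SmallCategory C] {J : GrothendieckTopology C} (hE : ToposFin.HasQCGenerators J) {Y Z : ToposFin.Sh J}
    (g : Y ⟶ Z) :
    (∀ {ι : Type u} (X : ι → ToposFin.Sh J) (f : ∀ i, X i ⟶ Y), Epi (Sigma.desc f) →
      (∀ i, ToposFin.IsQCHom (f i)) → (∀ i, ToposFin.IsQSHom (f i ≫ g)) → ToposFin.IsQSHom g) ∧
    (∀ {n : ℕ} (X : Fin n → ToposFin.Sh J) (f : ∀ k, X k ⟶ Y), Epi (Sigma.desc f) →
      (∀ k, ToposFin.IsQCHom (f k)) → (∀ k, ToposFin.IsCohHom (f k ≫ g)) → ToposFin.IsCohHom g) := by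
  exact ⟨fun X f hf h1 h2 => Groth.Agent.QCTopos.qshom_of_cover_source (Groth.Agent.QCTopos.epi_desc_iff.1 hf) h1 h2,
    fun {n} X f hf h1 h2 => ⟨Groth.Agent.QCTopos.qchom_of_cover_source (Groth.Agent.QCTopos.epi_desc_iff.1 hf) fun k => (h2 k).1,
      Groth.Agent.QCTopos.qshom_of_cover_source (F := fun k : ULift.{u} (Fin n) => X k.down) (f := fun k => f k.down)
        ((Groth.Agent.QCTopos.epi_desc_iff.1 hf).of_factor (fun k => ⟨k⟩) (fun k => 𝟙 _) (fun k => Category.id_comp _))
        (fun k => h1 k.down) (fun k => (h2 k.down).2)⟩⟩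

end Groth.Agent.S3076
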