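import Groth.Statements.S3081
import Groth.Agent.SheafExt.Coprod
import Groth.Agent.EquivRelSh.Basic

set_option autoImplicit false
universe u
open CategoryTheory
open SGA4

namespace Groth.Agent.S3081

open CategoryTheory.Limits in
/-- c): in the category of sheaves of u-small sets on a u-small site, every u-small family has a
coproduct which is disjoint and stable under base change, and every equivalence relation is
effective with universally effective-epimorphic quotient map. -/
theorem result {C : Type u} [SmallCategory C] (J : GrothendieckTopology C) :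
    SGA4.HasDisjointUniversalCoproducts.{u + 1, u} (Sheaf J (Type u)) ∧
    ∀ (R A : Sheaf J (Type u)) (p₁ p₂ : R ⟶ A), SGA4.IsEquivRel p₁ p₂ → SGA4.IsEffectiveUniversalEquivRel p₁ p₂ := by
  haveI : Reflective (sheafToPresheaf J (Type u)) := ⟨presheafToSheaf J (Type u), sheafificationAdjunction J (Type u)⟩
  haveI : ∀ ι : Type u, HasColimitsOfShape (Discrete ι) (Sheaf J (Type u)) := fun ι =>
    hasColimitsOfShape_of_reflective (sheafToPresheaf J (Type u))
  refine ⟨fun ι X => ⟨_, coproductIsCoproduct X, Groth.Agent.SheafExt.coproductDisjoint_sheaf J X,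
    (Groth.Agent.SheafExt.isVanKampen_sheaf J _ (coproductIsCoproduct X)).isUniversal⟩, fun R A p₁ p₂ hR => ?_⟩
  haveI hj : JointlyMono₂ p₁ p₂ := ⟨fun T f g h₁ h₂ => (hR T).1 (Prod.ext h₁ h₂)⟩
  obtain ⟨r, hr₁, hr₂⟩ := (hR A).2.refl (𝟙 A)
  obtain ⟨σ, hσ₁, hσ₂⟩ := (hR R).2.symm ⟨𝟙 R, Category.id_comp p₁, Category.id_comp p₂⟩
  haveI : IsEquivalenceRelation p₁ p₂ := ⟨⟨{
    r := r
    reflexivity₁ := hr₁
    reflexivity₂ := hr₂
    s := σ
    symmetry₁ := hσ₁
    symmetry₂ := hσ₂
    c := PullbackCone.mk (pullback.fst p₂ p₁) (pullback.snd p₂ p₁) pullback.condition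
    isLimit := (IsPullback.of_hasPullback p₂ p₁).isLimit
    t := ((hR _).2.trans ⟨pullback.fst p₂ p₁, rfl, rfl⟩ ⟨pullback.snd p₂ p₁, pullback.condition.symm, rfl⟩).choose
    transitivity₁ := ((hR _).2.trans ⟨pullback.fst p₂ p₁, rfl, rfl⟩ ⟨pullback.snd p₂ p₁, pullback.condition.symm, rfl⟩).choose_spec.1
    transitivity₂ := ((hR _).2.trans ⟨pullback.fst p₂ p₁, rfl, rfl⟩ ⟨pullback.snd p₂ p₁, pullback.condition.symm, rfl⟩).choose_spec.2 }⟩⟩
  obtain ⟨⟨e⟩⟩ := Groth.Agent.EquivRelSh.universallyEffective_sheaf J p₁ p₂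
  exact ⟨e.B, e.π, e.isKernelPair, e.isPushout, fun B' g => e.universally_effectiveEpi_π _ _ _ (IsPullback.of_hasPullback e.π g).flip⟩

end Groth.Agent.S3081
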