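import Groth.Statements.S3084
import Groth.Agent.OpenClosed.Glue

set_option autoImplicit false
set_option linter.style.haveILetI false
universe u
open CategoryTheory
open SGA4

namespace Groth.Agent.S3084

open CategoryTheory.Limits in
/-- For sheaves of sets on a small site: let U be an open, j^* = (X ↦ U × X over U) the restriction to
the open subtopos E/U and i^* any left adjoint of the inclusion of the closed complement of U. A
morphism m of E is an isomorphism if and only if both j^*(m) and i^*(m) are isomorphisms. -/
theorem result {C : Type u} [SmallCategory C] (J : GrothendieckTopology C)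
    (U : Sheaf J (Type u)) (hU : SGA4.IsOpen U)
    (L : Sheaf J (Type u) ⥤ (SGA4.closedCompl U).FullSubcategory) (adj : L ⊣ (SGA4.closedCompl U).ι)
    {X Y : Sheaf J (Type u)} (m : X ⟶ Y) :
    IsIso m ↔ IsIso ((Over.star U).map m) ∧ IsIso (L.map m) := by
  open Groth.Agent.OpenClosed in
  constructor
  · intro h
    exact ⟨inferInstance, inferInstance⟩
  · rintro ⟨h₁, h₂⟩
    haveI := h₂
    exact (Groth.Agent.OpenClosed.isPullback_unit_of_bijective hU L adj m
      ((Groth.Agent.OpenClosed.isIso_star_map_iff hU m).1 h₁)).isIso_fst_of_isIso

end Groth.Agent.S3084
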