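import Groth.Statements.S3092
import Groth.Agent.LocTrivFib.Main

set_option autoImplicit false
universe u
open CategoryTheory
open Hyper

set_option backward.isDefEq.respectTransparency false
set_option backward.isDefEq.respectTransparency.types false

namespace Groth.Agent.S3092

open Opposite CategoryTheory.Limits in
/-- In the topos of sheaves of sets on a small site; coskeleta assumed to exist: let v : K -> L be a
morphism of simplicial sheaves of sets and n ≥ 0 such that v_p is an isomorphism for p < n, v_n is
an epimorphism, and K, L are n-coskeletal (the units K -> cosk_n K, L -> cosk_n L are isomorphisms).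
Then every v_p is an epimorphism and v induces a quasi-isomorphism between the chain complexes of
free abelian sheaves Z[K] -> Z[L]. -/
theorem result {C : Type u} [SmallCategory C] (J : GrothendieckTopology C)
    [∀ (n : ℕ) (F : (SimplexCategory.Truncated n)ᵒᵖ ⥤ Sheaf J (Type u)),
      (SimplexCategory.Truncated.inclusion n).op.HasRightKanExtension F]
    {K L : SimplicialObject (Sheaf J (Type u))} (v : K ⟶ L) (n : ℕ)
    (h1 : ∀ p : ℕ, p < n → IsIso (v.app (op (SimplexCategory.mk p))))
    (h2 : Epi (v.app (op (SimplexCategory.mk n))))
    (h3 : IsIso ((SimplicialObject.coskAdj n).unit.app K) ∧ IsIso ((SimplicialObject.coskAdj n).unit.app L)) :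
    (∀ p : ℕ, Epi (v.app (op (SimplexCategory.mk p)))) ∧
    QuasiIso ((AlgebraicTopology.alternatingFaceMapComplex _).map
      (Functor.whiskerRight v (Sheaf.composeAndSheafify J AddCommGrpCat.free.{u}))) := by
  have hsk : ∀ (X : SimplicialObject (Sheaf J (Type u))), IsIso ((SimplicialObject.coskAdj n).unit.app X) →
      SimplicialObject.IsCoskeletal (X ⋙ sheafToPresheaf J (Type u)) n := fun X hX => by
    haveI := (SimplicialObject.isCoskeletal_iff_isIso X n).2 hX
    have hp := Functor.isPointwiseRightKanExtensionOfIsRightKanExtension X
      (𝟙 ((SimplexCategory.Truncated.inclusion n).op ⋙ X))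
    have hq : (Functor.RightExtension.mk (X ⋙ sheafToPresheaf J (Type u))
        (𝟙 ((SimplexCategory.Truncated.inclusion n).op ⋙
          X ⋙ sheafToPresheaf J (Type u)))).IsPointwiseRightKanExtension := fun P =>
      IsLimit.ofIsoLimit (isLimitOfPreserves (sheafToPresheaf J (Type u)) (hp P))
        (Cone.ext (Iso.refl _) fun j => by ext U x; simp; rfl)
    exact ⟨hq.isRightKanExtension⟩
  haveI := hsk K h3.1
  haveI := hsk L h3.2
  let f := Functor.whiskerRight v (sheafToPresheaf J (Type u))
  have h1' : ∀ p : ℕ, p < n → IsIso (f.app (op (SimplexCategory.mk p))) := fun p hp => by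
    haveI := h1 p hp
    exact inferInstanceAs (IsIso ((sheafToPresheaf J (Type u)).map (v.app (op (SimplexCategory.mk p)))))
  have h2' : Presheaf.IsLocallySurjective J (f.app (op (SimplexCategory.mk n))) :=
    (Sheaf.isLocallySurjective_iff_epi _).2 h2
  refine ⟨fun p => ?_, Groth.Agent.LocTrivFib.quasiIso_free (J := J) f n h1' h2'⟩
  exact (Sheaf.isLocallySurjective_iff_epi _).1 (Groth.Agent.LocTrivFib.locallySurjective_app f n h1' h2' _)

end Groth.Agent.S3092
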