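import Groth.Statements.S3093
import Groth.Agent.PtTopLib.Shrink

set_option autoImplicit false
universe u
open CohTop

namespace Groth.Agent.S3093

/-- Let X be a topological space and K ⊆ X a compact subset such that any two distinct points of K have
disjoint open neighbourhoods in X. If A and B are subsets of K that are closed in K and W is an open
subset of X containing A ∩ B, then there are open subsets U ⊇ A and V ⊇ B of X with U ∩ V ⊆ W. -/
theorem result {X : Type u} [TopologicalSpace X] {K : Set X} (hK : IsCompact K)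
    (hsep : ∀ x ∈ K, ∀ y ∈ K, x ≠ y → ∃ U V : Set X, IsOpen U ∧ IsOpen V ∧ x ∈ U ∧ y ∈ V ∧ Disjoint U V)
    {A B W : Set X} (hA : A ⊆ K) (hB : B ⊆ K) (hAc : IsClosed (Subtype.val ⁻¹' A : Set K))
    (hBc : IsClosed (Subtype.val ⁻¹' B : Set K)) (hW : IsOpen W) (hABW : A ∩ B ⊆ W) :
    ∃ U V : Set X, IsOpen U ∧ IsOpen V ∧ A ⊆ U ∧ B ⊆ V ∧ U ∩ V ⊆ W := by
  have sub : ∀ S : Set X, S ⊆ K → IsClosed (Subtype.val ⁻¹' S : Set K) → IsCompact S := fun S hS hc => by
    haveI := isCompact_iff_compactSpace.1 hK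
    have := hc.isCompact.image (continuous_subtype_val)
    rwa [Subtype.image_preimage_coe, Set.inter_eq_right.2 hS] at this
  obtain ⟨U, V, hU, hV, hAU, hBV, hd⟩ := Groth.Agent.PtTopLib.separate hsep ((sub A hA hAc).diff hW)
    ((sub B hB hBc).diff hW) (fun x hx => hA hx.1) (fun x hx => hB hx.1)
    (Set.disjoint_left.2 fun x hx hx' => hx.2 (hABW ⟨hx.1, hx'.1⟩))
  refine ⟨U ∪ W, V ∪ W, hU.union hW, hV.union hW, fun x hx => ?_, fun x hx => ?_, ?_⟩
  · by_cases h : x ∈ W
    · exact Or.inr h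
    · exact Or.inl (hAU ⟨hx, h⟩)
  · by_cases h : x ∈ W
    · exact Or.inr h
    · exact Or.inl (hBV ⟨hx, h⟩)
  · rintro x ⟨hx | hx, hx' | hx'⟩
    exacts [absurd hx' (Set.disjoint_left.1 hd hx), hx', hx, hx]

end Groth.Agent.S3093
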