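import Groth.Statements.S3099
import Groth.Agent.EtPur.Global

set_option autoImplicit false
universe u
open CategoryTheory CategoryTheory.Limits AlgebraicGeometry Opposite
open EtPBC

namespace Groth.Agent.S3099

/-- Cohomological purity, the assertions about the open complement: let f : X → S be smooth of relative
dimension m + c and h : Y → S smooth of relative dimension m with c > 0, i : Y → X a closed
immersion over S, and j : U → X an open immersion whose image is the complement of the image of i.
Let n be invertible on X and F a finite locally constant abelian sheaf on the small étale site of X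
killed by n. Then the unit F → j_* j^* F is an isomorphism, and R^q j_* (j^* F) = 0 for every q
other than 0 and 2c − 1. (The published statement allows any smooth pair of codimension c, which is
this situation locally, and more general coefficients; continuity of the site functor of j is
assumed as an instance binder.) -/
theorem result {X Y U S : Scheme.{u}} (f : X ⟶ S) (h : Y ⟶ S) (i : Y ⟶ X)
    (m c : ℕ) (hc : 0 < c) [SmoothOfRelativeDimension (m + c) f] [SmoothOfRelativeDimension m h]
    [IsClosedImmersion i] (w : i ≫ f = h) (j : U ⟶ X) [IsOpenImmersion j]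
    (hU : Set.range j = (Set.range i)ᶜ) [EtCoh.BCCont j]
    (n : ℕ) (hn : IsUnit (n : Γ(X, ⊤))) (F : EtCoh.Ab X) (hF : EtCoh.IsFiniteLocallyConstant F)
    (hFn : EtCoh.KilledBy n F) :
    IsIso ((EtCoh.pullPushAdj j).unit.app F) ∧
      ∀ q : ℕ, q ≠ 0 → q ≠ 2 * c - 1 → IsZero ((EtCoh.Rpush j q).obj ((EtCoh.pull j).obj F)) := by
  obtain ⟨h1, -⟩ := Groth.Agent.EtPur.purity_of_local i j c F fun x =>
    Groth.Agent.EtPur.exists_purity_nhd f h i m c hc w j hU n hn F hF hFn x
  constructor
  · haveI := Groth.Agent.EtMV.preservesFiniteLimits_secSupp j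
    have h0 : IsZero ((EtDual.secSupp j).obj F) :=
      (h1 0 (by omega)).of_iso ((EtDual.secSupp j).rightDerivedZeroIsoSelf.app F).symm
    haveI : Mono (EtDual.unitApp j F) := Preadditive.mono_of_kernel_zero (h0.eq_of_src _ _)
    obtain ⟨e⟩ := Groth.Agent.EtMV.nonempty_locCoh_one j F
    haveI : Epi (EtDual.unitApp j F) :=
      Preadditive.epi_of_cokernel_zero (((h1 1 (by omega)).of_iso e).eq_of_tgt _ _)
    exact isIso_of_mono_of_epi (EtDual.unitApp j F)
  · intro q hq0 hq
    obtain ⟨a⟩ := Groth.Agent.EtMV.nonempty_locCoh_succ j F q (by omega)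
    exact (h1 (q + 1) (by omega)).of_iso a

end Groth.Agent.S3099
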