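import Groth.Statements.S3103
import Groth.Agent.EtGmKummer.Basic
import Groth.Agent.UFDLib.Regular

set_option backward.isDefEq.respectTransparency false
set_option backward.isDefEq.respectTransparency.types false
set_option linter.style.haveILetI false
set_option maxHeartbeats 1000000
set_option synthInstance.maxHeartbeats 400000

set_option autoImplicit false
universe u
open CategoryTheory CategoryTheory.Limits AlgebraicGeometry Opposite
open EtDual

namespace Groth.Agent.S3103

open IsLocalRing

/-- Units of a henselian local ring with separably closed residue field are powers. -/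
theorem exists_root (R : Type u) [CommRing R] [HenselianLocalRing R] [IsSepClosed (ResidueField R)] {n : ℕ}
    (hn : IsUnit (n : R)) (a : Rˣ) : ∃ b : Rˣ, b ^ n = a := by
  have hp0 : (n : ResidueField R) ≠ 0 := by
    have h := (hn.map (residue R)).ne_zero
    rwa [map_natCast] at h
  have hn0 : n ≠ 0 := fun h => hp0 (by rw [h, Nat.cast_zero])
  haveI : NeZero (n : ResidueField R) := ⟨hp0⟩
  obtain ⟨z, hz⟩ := IsSepClosed.exists_pow_nat_eq (residue R (a : R)) n
  obtain ⟨z, rfl⟩ := residue_surjective z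
  have hzu : IsUnit z := by
    by_contra h
    have h0 : residue R z = 0 := (residue_eq_zero_iff z).2 h
    exact (a.isUnit.map (residue R)).ne_zero (by rw [← hz, h0, zero_pow hn0])
  have hmo : ((Polynomial.X : Polynomial R) ^ n - Polynomial.C (a : R)).Monic :=
    Polynomial.monic_X_pow_sub_C _ hn0
  have h1 : ((Polynomial.X : Polynomial R) ^ n - Polynomial.C (a : R)).eval z ∈ maximalIdeal R := by
    rw [← residue_eq_zero_iff, Polynomial.eval_sub, Polynomial.eval_pow, Polynomial.eval_X, Polynomial.eval_C,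
      map_sub, map_pow, hz, sub_self]
  have h2 : IsUnit (((Polynomial.X : Polynomial R) ^ n - Polynomial.C (a : R)).derivative.eval z) := by
    rw [Polynomial.derivative_sub, Polynomial.derivative_X_pow, Polynomial.derivative_C, sub_zero,
      Polynomial.eval_mul, Polynomial.eval_C, Polynomial.eval_pow, Polynomial.eval_X]
    exact hn.mul (hzu.pow _)
  obtain ⟨b, hb, -⟩ := HenselianLocalRing.is_henselian _ hmo z h1 h2
  rw [Polynomial.IsRoot, Polynomial.eval_sub, Polynomial.eval_pow, Polynomial.eval_X, Polynomial.eval_C,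
    sub_eq_zero] at hb
  exact ⟨((isUnit_pow_iff hn0).1 (hb ▸ a.isUnit)).unit, Units.ext hb⟩

/-- The units of a localisation at a prime element. -/
theorem units_away {A : Type u} [CommRing A] [IsDomain A] {x : A} (hp : Prime x)
    (ξ : (Localization.Away x)ˣ) (hξ : (ξ : Localization.Away x) = algebraMap A _ x) (a : (Localization.Away x)ˣ) :
    ∃ (v : Aˣ) (j : ℤ), a = Units.map (algebraMap A (Localization.Away x)).toMonoidHom v * ξ ^ j := by
  obtain ⟨k, c, hc⟩ := IsLocalization.Away.surj x (a : Localization.Away x)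
  obtain ⟨l, d, hd⟩ := IsLocalization.Away.surj x ((a⁻¹ : (Localization.Away x)ˣ) : Localization.Away x)
  have hinj : Function.Injective (algebraMap A (Localization.Away x)) :=
    IsLocalization.injective (M := Submonoid.powers x) _ (Submonoid.powers_le.2 (mem_nonZeroDivisors_of_ne_zero hp.ne_zero))
  have hcd : c * d = x ^ (k + l) := hinj (by
    rw [map_mul, ← hc, ← hd, map_pow, mul_mul_mul_comm, Units.mul_inv, one_mul, ← pow_add])
  obtain ⟨i, -, hi⟩ := (dvd_prime_pow hp (k + l)).1 ⟨d, hcd.symm⟩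
  obtain ⟨v, hv⟩ := hi.symm
  refine ⟨v, (i : ℤ) - k, Units.ext ?_⟩
  have h : (a : Localization.Away x) * (ξ : Localization.Away x) ^ k =
      algebraMap A _ (v : A) * (ξ : Localization.Away x) ^ i := by
    rw [hξ, hc, ← hv, map_mul, map_pow, mul_comm]
  have h' : a * ξ ^ k = Units.map (algebraMap A (Localization.Away x)).toMonoidHom v * ξ ^ i :=
    Units.ext (by simpa using h)
  rw [zpow_sub, zpow_natCast, zpow_natCast, ← mul_assoc, ← h']
  simp

theorem zpow_eq_unit {A : Type u} [CommRing A] [IsDomain A] {x : A} (hp : Prime x)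
    (ξ : (Localization.Away x)ˣ) (hξ : (ξ : Localization.Away x) = algebraMap A _ x) (m : ℤ) (v : Aˣ)
    (h : ξ ^ m = Units.map (algebraMap A (Localization.Away x)).toMonoidHom v) : m = 0 := by
  have hinj : Function.Injective (algebraMap A (Localization.Away x)) :=
    IsLocalization.injective (M := Submonoid.powers x) _ (Submonoid.powers_le.2 (mem_nonZeroDivisors_of_ne_zero hp.ne_zero))
  have key : ∀ (k : ℕ) (w : Aˣ), ξ ^ k = Units.map (algebraMap A (Localization.Away x)).toMonoidHom w → k = 0 := by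
    intro k w hk
    have h1 := congrArg Units.val hk
    rw [Units.val_pow_eq_pow_val, hξ, ← map_pow] at h1
    have h2 : x ^ k = (w : A) := hinj h1
    by_contra hk0
    exact hp.not_unit ((isUnit_pow_iff hk0).1 (h2 ▸ w.isUnit))
  obtain ⟨k, rfl | rfl⟩ := Int.eq_nat_or_neg m
  · rw [zpow_natCast] at h
    simp [key k v h]
  · rw [zpow_neg, zpow_natCast, inv_eq_iff_eq_inv, ← map_inv] at h
    simp [key k v⁻¹ h]

theorem nonempty_equiv_zmod {H : Type*} [AddCommGroup H] (n : ℕ) (ψ : ℤ →+ H) (hs : Function.Surjective ψ)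
    (hk : ∀ i : ℤ, ψ i = 0 ↔ (n : ℤ) ∣ i) : Nonempty (H ≃+ ZMod n) := by
  refine ⟨((QuotientAddGroup.quotientKerEquivOfSurjective ψ hs).symm.trans
    (QuotientAddGroup.quotientAddEquivOfEq ?_)).trans (Int.quotientZMultiplesNatEquivZMod n)⟩
  ext i
  rw [AddMonoidHom.mem_ker, Int.mem_zmultiples_iff, hk]

/-- Let A be a regular local ring which is strictly henselian, x an element of the maximal ideal not in
its square, n an integer invertible in A, and U = Spec A[1/x]. Then H^1(U, mu_n) is isomorphic to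
Z/n. (The source also computes H^0(U, mu_n) = mu_n(A) and gives a canonical isomorphism; only the
existence of an isomorphism is stated here.) -/
theorem result (A : Type u) [CommRing A] [IsRegularLocalRing A]
    (hA : EtCoh.IsStrictlyHenselianLocalRing A) (x : A) (hx : x ∈ IsLocalRing.maximalIdeal A)
    (hx2 : x ∉ (IsLocalRing.maximalIdeal A) ^ 2) (n : ℕ) (hn : IsUnit (n : A)) :
    Nonempty (EtCoh.H (Spec (CommRingCat.of (Localization.Away x)))
      (EtCoh.mu (Spec (CommRingCat.of (Localization.Away x))) n) 1 ≃+ ZMod n) := by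
  obtain ⟨_, hsc⟩ := hA
  haveI : IsDomain A := Groth.Agent.RegLoc.isDomain A
  haveI : UniqueFactorizationMonoid A := Groth.Agent.UFDLib.ufd_of_isRegularLocalRing A
  have hx0 : x ≠ 0 := fun h => hx2 (h ▸ zero_mem _)
  have hp : Prime x := by
    refine UniqueFactorizationMonoid.irreducible_iff_prime.1 ⟨(IsLocalRing.mem_maximalIdeal x).1 hx, ?_⟩
    intro b c hbc
    by_contra h
    push Not at h
    apply hx2
    rw [hbc, pow_two]
    exact Ideal.mul_mem_mul ((IsLocalRing.mem_maximalIdeal b).2 h.1) ((IsLocalRing.mem_maximalIdeal c).2 h.2)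
  let R := Localization.Away x
  haveI : IsDomain R := IsLocalization.isDomain_of_le_nonZeroDivisors (M := Submonoid.powers x)
    (S := Localization.Away x) (Submonoid.powers_le.2 (mem_nonZeroDivisors_of_ne_zero hx0))
  haveI : UniqueFactorizationMonoid R :=
    inferInstanceAs (UniqueFactorizationMonoid (Localization (Submonoid.powers x)))
  let X := Spec (CommRingCat.of R)
  have hu : IsUnit (n : Γ(X, ⊤)) := by
    rw [← map_natCast ((Scheme.ΓSpecIso (CommRingCat.of R)).inv.hom.comp (algebraMap A R))]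
    exact hn.map _
  have hm : Epi (EtCoh.powMap X n) := Groth.Agent.S0108.result X n hu
  let e : Rˣ ≃* (Γ(X, ⊤) : Type u)ˣ :=
    Units.mapEquiv (Scheme.ΓSpecIso (CommRingCat.of R)).symm.commRingCatIsoToRingEquiv.toMulEquiv
  let Φ : Additive Rˣ →+ EtCoh.H X (EtCoh.mu X n) 1 :=
    (EtGmKummer.kum hm).comp e.toMonoidHom.toAdditive
  have hΦs : Function.Surjective Φ := fun y => by
    obtain ⟨a, ha⟩ := EtGmKummer.kum_surjective hm (EtGmKummer.subsingleton_H1_Gm_ufd R) y
    refine ⟨Additive.ofMul (e.symm a.toMul), ?_⟩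
    show EtGmKummer.kum hm (Additive.ofMul (e (e.symm a.toMul))) = y
    rw [e.apply_symm_apply]
    exact ha
  have hΦn : ∀ a : Rˣ, Φ (Additive.ofMul (a ^ n)) = 0 := fun a => by
    show EtGmKummer.kum hm (Additive.ofMul (e (a ^ n))) = 0
    rw [map_pow, ofMul_pow]
    exact EtGmKummer.kum_nsmul hm _
  let ξ : Rˣ := (IsLocalization.Away.algebraMap_isUnit (S := R) x).unit
  have hξ : (ξ : R) = algebraMap A R x := rfl
  let ι := Units.map (algebraMap A R).toMonoidHom
  have hΦv : ∀ v : Aˣ, Φ (Additive.ofMul (ι v)) = 0 := fun v => by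
    obtain ⟨b, rfl⟩ := exists_root A hn v
    rw [map_pow]
    exact hΦn _
  have hΦz : ∀ (v : Aˣ) (j : ℤ), Φ (Additive.ofMul (ι v * ξ ^ j)) = j • Φ (Additive.ofMul ξ) := fun v j => by
    rw [ofMul_mul, map_add, hΦv, zero_add, ofMul_zpow, map_zsmul]
  refine nonempty_equiv_zmod n (zmultiplesHom _ (Φ (Additive.ofMul ξ))) (fun y => ?_) (fun i => ?_)
  · obtain ⟨a, rfl⟩ := hΦs y
    obtain ⟨v, j, hj⟩ := units_away hp ξ hξ a.toMul
    refine ⟨j, ?_⟩
    show j • Φ (Additive.ofMul ξ) = Φ (Additive.ofMul a.toMul)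
    rw [hj]
    exact (hΦz v j).symm
  · show i • Φ (Additive.ofMul ξ) = 0 ↔ _
    constructor
    · intro h
      rw [← map_zsmul, ← ofMul_zpow] at h
      obtain ⟨b, hb⟩ := EtGmKummer.exists_pow_of_kum_eq_zero hm (e (ξ ^ i)) h
      obtain ⟨v, j, hj⟩ := units_away hp ξ hξ (e.symm b)
      have h1 : ξ ^ i = ι (v ^ n) * ξ ^ (j * n) := by
        rw [zpow_mul, zpow_natCast, map_pow, ← mul_pow, ← hj, ← map_pow, hb, e.symm_apply_apply]
      have h2 : ξ ^ (i - j * n) = ι (v ^ n) := by
        rw [zpow_sub, h1, mul_assoc, mul_inv_cancel, mul_one]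
      exact ⟨j, by rw [mul_comm]; exact sub_eq_zero.1 (zpow_eq_unit hp ξ hξ _ _ h2)⟩
    · rintro ⟨j, rfl⟩
      rw [← map_zsmul, ← ofMul_zpow, mul_comm, zpow_mul, zpow_natCast]
      exact hΦn _

end Groth.Agent.S3103
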