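import Groth.Statements.S3107
import Groth.Agent.PurFib.Main

set_option autoImplicit false
universe u
open CategoryTheory CategoryTheory.Limits AlgebraicGeometry
open Pi1

namespace Groth.Agent.S3107

/-- Let f : X -> S be smooth and j : U -> X an open immersion such that for every point s of S, every
point of the fibre X_s not lying over the image of j has local ring in X_s of Krull dimension at
least 2 (the complement of U has codimension at least 2 in every fibre). Then restriction of finite
etale covers from X to U is an equivalence of categories. -/
theorem result {X U S : Scheme.{u}} (f : X ⟶ S) [Smooth f]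
    (j : U ⟶ X) [IsOpenImmersion j]
    (hcodim : ∀ (s : S) (z : f.fiber s), (f.fiberι s).base z ∉ Set.range j →
      (2 : WithBot ℕ∞) ≤ ringKrullDim ((f.fiber s).presheaf.stalk z)) :
    (FEt.restrict j).IsEquivalence := by
  have hU : ∀ x : X, x ∉ j.opensRange →
      (2 : WithBot ℕ∞) ≤ ringKrullDim ((f.fiber (f x)).presheaf.stalk (f.asFiber x)) := fun x hx => by
    refine hcodim (f x) (f.asFiber x) ?_
    rw [show (f.fiberι (f x)).base (f.asFiber x) = x from f.fiberι_asFiber x]
    exact hx
  haveI := Groth.Agent.PurFib.restrict_isEquivalence_of_fibre f j.opensRange hU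
  haveI := Groth.Agent.LefEssSurj.restrict_isEquivalence_of_isIso j.isoOpensRange.hom
  exact Functor.isEquivalence_of_iso (Groth.Agent.LefEssSurj.restrictComp j.isoOpensRange.hom j.opensRange.ι j
    (Scheme.Hom.isoOpensRange_hom_ι j)).symm

end Groth.Agent.S3107
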