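import Groth.Statements.S3113
import Groth.Agent.EtRshriek.Comp

set_option backward.isDefEq.respectTransparency false
set_option backward.isDefEq.respectTransparency.types false
set_option linter.style.haveILetI false
set_option maxHeartbeats 1000000
attribute [local instance] HasDerivedCategory.standard
open Groth.Agent.EtRshriek
-- import your own Groth.Agent.* helpers here

set_option autoImplicit false
universe u
open CategoryTheory CategoryTheory.Limits AlgebraicGeometry Opposite
open EtDual

namespace Groth.Agent.S3113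

/-- Let j₁ : U -> X and j₂ : V -> Y be open immersions and g : U -> V, f : X -> Y proper morphisms with
j₁ ≫ f = g ≫ j₂. Then for every abelian sheaf F on the small etale site of U killed by some n > 0
and every q, the sheaves j₂! (R^q g_* F) and R^q f_* (j₁! F) are isomorphic. (The source's statement
is that a canonical arrow between total derived functors is an isomorphism, for complexes of modules
over a torsion ring, under a bound on the fibre dimension needed for unbounded complexes; it is
stated here degree by degree, as the existence of an isomorphism, without the dimension bound.) -/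
theorem result {U V X Y : Scheme.{u}} (j₁ : U ⟶ X) [IsOpenImmersion j₁] (j₂ : V ⟶ Y)
    [IsOpenImmersion j₂] (g : U ⟶ V) [IsProper g] [EtCoh.BCCont g] (f : X ⟶ Y) [IsProper f] [EtCoh.BCCont f]
    (w : j₁ ≫ f = g ≫ j₂) (n : ℕ) (hn : 0 < n) (F : EtCoh.Ab U) (hF : EtCoh.KilledBy n F) (q : ℕ) :
    Nonempty ((EtShriek.extZero j₂).obj ((EtCoh.Rpush g q).obj F) ≅
      (EtCoh.Rpush f q).obj ((EtShriek.extZero j₁).obj F)) := by
  have ht : EtCoh.IsTorsion F := fun A s x => ⟨A, 𝟙 A, ⟨x, rfl⟩,
    isOfFinAddOrder_iff_nsmul_eq_zero.2 ⟨n, hn, hF A _⟩⟩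
  -- factor through the preimage of the open
  let W := pullback f j₂
  let i : W ⟶ X := pullback.fst f j₂
  let g' : W ⟶ V := pullback.snd f j₂
  let k : U ⟶ W := pullback.lift j₁ g w
  have hki : k ≫ i = j₁ := pullback.lift_fst _ _ _
  have hkg : k ≫ g' = g := pullback.lift_snd _ _ _
  haveI : IsProper g' := MorphismProperty.of_isPullback (P := @IsProper) (IsPullback.of_hasPullback f j₂) ‹IsProper f›
  haveI : IsOpenImmersion (k ≫ i) := by rw [hki]; infer_instance
  haveI : IsOpenImmersion k := IsOpenImmersion.of_comp k i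
  haveI : IsProper (k ≫ g') := by rw [hkg]; infer_instance
  haveI : IsProper k := IsProper.of_comp k g'
  haveI := EtShriekStalk.preservesFiniteLimits (𝟙 U)
  haveI := EtShriekStalk.preservesFiniteLimits k
  haveI := EtShriekStalk.preservesFiniteLimits i
  haveI := EtShriekStalk.preservesFiniteLimits j₁
  haveI := EtShriekStalk.preservesFiniteLimits j₂
  haveI := hasRpushEt k
  haveI := hasRpushEt g'
  haveI := hasRpushEt g
  haveI := hasRpushEt f
  let M := EtBC.single U F
  have hM : M.IsGE 0 := inferInstanceAs (DerivedCategory.IsGE ((DerivedCategory.singleFunctor _ 0).obj F) 0)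
  have htM : ∀ m, EtCoh.IsTorsion (DCoh.HDEt M m) := by
    intro m
    by_cases h : m = 0
    · subst h
      exact EtTorsPoint.isTorsion_of_iso (WayOut.singleHomologyIso F 0) ht
    · exact isTorsion_of_isZero (by
        rcases lt_or_gt_of_ne h with h' | h'
        · exact DerivedCategory.isZero_of_isGE M 0 m h'
        · haveI : M.IsLE 0 := inferInstanceAs (DerivedCategory.IsLE ((DerivedCategory.singleFunctor _ 0).obj F) 0)
          exact DerivedCategory.isZero_of_isLE M 0 m h')
  obtain ⟨a₁⟩ := nonempty_Rpush_extZero_iso (𝟙 U) k k (Category.id_comp k) M 0 hM htM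
  obtain ⟨a₂⟩ := nonempty_map_single (EtShriek.extZero (𝟙 U)) F
  let a₃ : (DEt.extZeroD (𝟙 U)).obj M ≅ M :=
    a₂ ≪≫ (DerivedCategory.singleFunctor _ 0).mapIso ((extZeroIdIso U).app F)
  have hkM : ((DEt.extZeroD k).obj M).IsGE 0 := WayOut.preservesGE_mapDerived _ M 0 hM
  obtain ⟨a₄⟩ := nonempty_Rpush_comp k g' g hkg M
  obtain ⟨a₅⟩ := nonempty_properPush i f j₂ g' (IsPullback.of_hasPullback f j₂) ((DEt.extZeroD k).obj M) 0 hkM
    (isTorsion_mapDerived _ (isTorsion_extZero k) M htM)
  obtain ⟨a₆⟩ := nonempty_mapDerived_comp (EtShriek.extZero k) (EtShriek.extZero i) (EtShriek.extZero j₁)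
    (extZeroCompIso k i j₁ hki) M
  obtain ⟨a₇⟩ := nonempty_map_single (EtShriek.extZero j₁) F
  let D : (DEt.extZeroD j₂).obj ((DCoh.RpushEt U g).obj M) ≅
      (DCoh.RpushEt X f).obj (EtBC.single X ((EtShriek.extZero j₁).obj F)) :=
    (DEt.extZeroD j₂).mapIso (a₄ ≪≫ (DCoh.RpushEt W g').mapIso ((DCoh.RpushEt U k).mapIso a₃.symm ≪≫ a₁.symm)) ≪≫
      a₅ ≪≫ (DCoh.RpushEt X f).mapIso (a₆ ≪≫ a₇)
  obtain ⟨b₁⟩ := nonempty_H_single_nat g F q
  obtain ⟨b₂⟩ := nonempty_H_single_nat f ((EtShriek.extZero j₁).obj F) q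
  exact ⟨((EtShriek.extZero j₂).mapIso b₁).symm ≪≫ (WayOut.mapDerivedHomologyIso _ _ (q : ℤ)).symm ≪≫
    (DerivedCategory.homologyFunctor (EtCoh.Ab Y) (q : ℤ)).mapIso D ≪≫ b₂⟩

end Groth.Agent.S3113
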