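import Groth.Statements.S3114
import Groth.Agent.EtCons.FlcNear
import Groth.Agent.EtCons.UHDescent
-- import your own Groth.Agent.* helpers here

set_option autoImplicit false
universe u
open CategoryTheory CategoryTheory.Limits AlgebraicGeometry Opposite
open EtPBC

namespace Groth.Agent.S3114

/-- Abelian case on a locally noetherian scheme (locally noetherian schemes are 'locally arcwise
connected' in the sense of the source): let F be an abelian sheaf on the small etale site of X all
of whose geometric stalks are finite. Then F is finite locally constant if and only if for every two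
geometric points ξ, ξ' of X and every morphism of the corresponding points of the etale site from ξ'
to ξ (a specialization arrow), the induced specialization map on stalks F_ξ -> F_ξ' is an
isomorphism. -/
theorem result (X : Scheme.{u}) [IsLocallyNoetherian X] (F : EtCoh.Ab X)
    (hfin : ∀ (Ω : Type u) [Field Ω] [IsSepClosed Ω] (ξ : Spec (CommRingCat.of Ω) ⟶ X),
      Finite ((EtCoh.stalk ξ).obj F)) :
    EtCoh.IsFiniteLocallyConstant F ↔
      ∀ (Ω Ω' : Type u) [Field Ω] [IsSepClosed Ω] [Field Ω'] [IsSepClosed Ω']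
        (ξ : Spec (CommRingCat.of Ω) ⟶ X) (ξ' : Spec (CommRingCat.of Ω') ⟶ X)
        (φ : Scheme.pointSmallEtale ξ' ⟶ Scheme.pointSmallEtale ξ),
        IsIso ((GrothendieckTopology.Point.Hom.sheafFiber (A := AddCommGrpCat.{u + 1}) φ).app F) := by
  classical
  constructor
  · intro hflc Ω Ω' _ _ _ _ ξ ξ' φ
    exact EtCons.isIso_spec_of_flc_nhd F (O := ⊤) (TopologicalSpace.Opens.mem_top _)
      (EtCons.isFLC_pull _ hflc) ξ rfl ξ' φ
  · intro h
    have hc : EtPBC.IsConstructible F := EtCons.isConstructible_of_spec_mono F hfin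
      fun Ω Ω' _ _ _ _ ξ ξ' φ => by haveI := h Ω Ω' ξ ξ' φ; infer_instance
    have hnhd : ∀ x : X, ∃ O : X.Opens, x ∈ O ∧ EtCoh.IsFiniteLocallyConstant ((EtCoh.pull O.ι).obj F) := by
      intro x
      obtain ⟨Ω, _, _, ξ, -, hξ⟩ := EtStalk.covers_all (X := X) x
      exact EtCons.exists_flc_nhd_of_spec F hc x ξ hξ fun Ω' _ _ ξ' φ => h Ω Ω' ξ ξ' φ
    choose O hO hflc using hnhd
    refine EtCons.isFLC_of_openCover O ?_ hflc
    exact eq_top_iff.2 fun x _ => TopologicalSpace.Opens.mem_iSup.2 ⟨x, hO x⟩


end Groth.Agent.S3114
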