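import Groth.Statements.S3119
import Groth.Agent.EtR2.Main

set_option autoImplicit false
universe u
open CategoryTheory CategoryTheory.Limits AlgebraicGeometry Opposite
open EtDual

namespace Groth.Agent.S3119

/-- Let f : X -> S be proper and smooth of relative dimension 1 whose geometric fibres are irreducible,
and n an integer invertible on S. Then R^2 f_* mu_n is isomorphic to the constant sheaf Z/n on the
small etale site of S. (The source constructs a canonical trace map R^2 f_! Z/n(1) -> Z/n for
compactifiable smooth curves and proves it is an isomorphism under this fibre hypothesis; only the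
existence of an isomorphism, for proper f, is stated here.) -/
theorem result {X S : Scheme.{u}} (f : X ⟶ S) [IsProper f]
    [SmoothOfRelativeDimension 1 f] [EtCoh.BCCont f]
    (hirr : ∀ (Ω : Type u) [Field Ω] [IsSepClosed Ω] (s : Spec (CommRingCat.of Ω) ⟶ S),
      IrreducibleSpace ↑(pullback f s))
    (n : ℕ) (hn : IsUnit (n : Γ(S, ⊤))) :
    Nonempty ((EtCoh.Rpush f 2).obj (EtCoh.mu X n) ≅ EtCoh.const S (ZMod n)) := by
  obtain ⟨e⟩ := Groth.Agent.EtR2.nonempty_Rpush_iso f (EtCoh.mu X n)
  rcases Nat.eq_zero_or_pos n with rfl | hn₁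
  · have hS : IsEmpty S := ⟨fun s => by
      have h := hn.map (S.presheaf.Γgerm s).hom
      rw [Nat.cast_zero, map_zero] at h
      exact not_isUnit_zero h⟩
    have hz : ∀ G : EtCoh.Ab S, IsZero G := fun G => by
      rw [IsZero.iff_id_eq_zero]
      refine ObjectProperty.hom_ext _ (NatTrans.ext (funext fun W => ConcreteCategory.hom_ext _ _ fun s => ?_))
      haveI : IsEmpty W.unop.left := ⟨fun w => hS.false (W.unop.hom w)⟩
      exact (Groth.Agent.EtStalk.subsingleton_of_isEmpty G W.unop inferInstance).elim _ _
    exact ⟨(hz _).iso (hz _)⟩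
  · obtain ⟨e'⟩ := Groth.Agent.EtR2.nonempty_R2_iso f n hirr hn hn₁
    exact ⟨e ≪≫ e'⟩

end Groth.Agent.S3119
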