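import Groth.Statements.S3121
import Groth.Agent.EtPur.HenselLine

set_option autoImplicit false
universe u
open CategoryTheory CategoryTheory.Limits AlgebraicGeometry Opposite
open EtDual

namespace Groth.Agent.S3121

/-- Let A be a strictly henselian local ring, P the ideal of A[x] generated by the maximal ideal of A
and x, B a henselization of the local ring A[x]_P (equivalently a strict henselization, the residue
field being separably closed), y the image of x in B, U = Spec B[1/y], and n an integer invertible
in A. Then H^1(U, mu_n) is isomorphic to Z/n and H^q(U, mu_n) = 0 for all q ≥ 2. (The source also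
gives H^0(U, mu_n) = mu_n(A).) -/
theorem result (A : Type u) [CommRing A] [IsLocalRing A]
    (hA : EtCoh.IsStrictlyHenselianLocalRing A) (P : Ideal (Polynomial A)) [P.IsMaximal]
    (hP : P = (IsLocalRing.maximalIdeal A).map Polynomial.C ⊔ Ideal.span {Polynomial.X})
    (B : Type u) [CommRing B] [IsLocalRing B] [Algebra (Localization.AtPrime P) B]
    [IsLocalHom (algebraMap (Localization.AtPrime P) B)] [Hensel.IsHenselization (Localization.AtPrime P) B]
    (n : ℕ) (hn : IsUnit (n : A)) :
    Nonempty (EtCoh.H (Spec (CommRingCat.of (Localization.Away
        (algebraMap (Localization.AtPrime P) B (algebraMap (Polynomial A) (Localization.AtPrime P) Polynomial.X)))))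
      (EtCoh.mu (Spec (CommRingCat.of (Localization.Away
        (algebraMap (Localization.AtPrime P) B (algebraMap (Polynomial A) (Localization.AtPrime P) Polynomial.X))))) n) 1 ≃+
      ZMod n) ∧
    ∀ q : ℕ, 2 ≤ q → Subsingleton (EtCoh.H (Spec (CommRingCat.of (Localization.Away
        (algebraMap (Localization.AtPrime P) B (algebraMap (Polynomial A) (Localization.AtPrime P) Polynomial.X)))))
      (EtCoh.mu (Spec (CommRingCat.of (Localization.Away
        (algebraMap (Localization.AtPrime P) B (algebraMap (Polynomial A) (Localization.AtPrime P) Polynomial.X))))) n) q) := by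
  obtain ⟨_, _⟩ := hA
  exact Groth.Agent.EtPur.cohomology_henselPunct A P hP B n hn

end Groth.Agent.S3121
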