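import Groth.Agent.EtAcycX.EtRestLA
import Groth.Prelude.Def_SGA4h

set_option autoImplicit false
universe u
open CategoryTheory CategoryTheory.Limits AlgebraicGeometry
open SGA4h

namespace Groth.Agent.S3126

/-- Let A be a strictly henselian Noetherian local ring, S = Spec A, n an integer invertible in A and f
: X → S a morphism which is locally acyclic (in the sense of vanishing cycles for ℤ/n-coefficients
prime to the residue characteristics), quasi-compact and quasi-separated (the last two are assumed
here in addition to the published hypotheses). Assume that every geometric fibre X_t of f has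
H^0(X_t, ℤ/n) ≅ ℤ/n and H^q(X_t, ℤ/n) = 0 for q > 0. Then the unit ℤ/n → f_* f^* ℤ/n is an
isomorphism and R^q f_* (ℤ/n) = 0 for q > 0. (Local acyclicity and the fibre hypothesis are stated
for all separably closed fields Ω, a priori more than algebraic geometric points; as hypotheses this
only weakens the statement.) -/
theorem result {X : Scheme.{u}} (A : Type u) [CommRing A] [IsNoetherianRing A]
    (hA : EtCoh.IsStrictlyHenselianLocalRing A) (n : ℕ) (hn : IsUnit (n : A)) (f : X ⟶ Spec (CommRingCat.of A))
    [QuasiCompact f] [QuasiSeparated f] (hf : EtRest.IsLocallyAcyclic f)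
    (hfib : ∀ (Ω : Type u) [Field Ω] [IsSepClosed Ω] (t : Spec (CommRingCat.of Ω) ⟶ Spec (CommRingCat.of A)),
      Nonempty (EtCoh.H (pullback f t) (EtCoh.const (pullback f t) (ZMod n)) 0 ≃+ ZMod n) ∧
      ∀ q : ℕ, 0 < q → Subsingleton (EtCoh.H (pullback f t) (EtCoh.const (pullback f t) (ZMod n)) q)) :
    IsIso ((EtCoh.pullPushAdj f).unit.app (EtCoh.const (Spec (CommRingCat.of A)) (ZMod n))) ∧
    ∀ q : ℕ, 0 < q → IsZero ((EtCoh.Rpush f q).obj (EtCoh.const X (ZMod n))) := by
  obtain ⟨hH, -⟩ := hA
  have hn0 : 0 < n := Nat.pos_of_ne_zero fun h => by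
    subst h
    simp at hn
  refine Groth.Agent.EtAcycX.acyclic_const f hn0 (fun x h0 => ?_) hf hfib
  have hu := hn.map ((Scheme.ΓSpecIso (CommRingCat.of A)).inv ≫ f.appTop ≫ X.presheaf.germ ⊤ x trivial ≫ X.residue x).hom
  rw [map_natCast] at hu
  exact hu.ne_zero h0

end Groth.Agent.S3126
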