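import Groth.Statements.S3127
import Groth.Agent.LAcyc.CompLA

set_option autoImplicit false
universe u
open CategoryTheory CategoryTheory.Limits AlgebraicGeometry
open SGA4h

namespace Groth.Agent.S3127

/-- Let f : X -> Y and g : Y -> Z be morphisms of locally noetherian schemes. If f and g are locally
acyclic (for ℤ/n-coefficients prime to the residue characteristics) then so is g ∘ f. (The notion of
local acyclicity used here quantifies over all separably closed fields Ω, not only over algebraic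
geometric points; the published statement is phrased for geometric points.) -/
theorem result {X Y Z : Scheme.{u}} [IsLocallyNoetherian X] [IsLocallyNoetherian Y] [IsLocallyNoetherian Z]
    (f : X ⟶ Y) (g : Y ⟶ Z) (hf : EtRest.IsLocallyAcyclic f) (hg : EtRest.IsLocallyAcyclic g) :
    EtRest.IsLocallyAcyclic (f ≫ g) := by
  intro x RS RX _ _ _ _ iA iL iS _ _ _ _ _ hc Ω _ _ _ n hn
  let QX : Groth.Agent.EtBCQ.SH X x := { R := RX }
  let QZ : Groth.Agent.EtBCQ.SH Z (g.base (f.base x)) := { R := RS, alg := iA, lh := iL, sh := iS }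
  haveI : HenselianLocalRing RX := QX.sh.henselian
  haveI : IsSepClosed (IsLocalRing.ResidueField RX) := QX.sh.isSepClosure.1
  haveI : HenselianLocalRing RS := QZ.sh.henselian
  have hsp : Spec.map (CommRingCat.ofHom (algebraMap RS RX)) ≫ QZ.spec = QX.spec ≫ (f ≫ g) :=
    Groth.Agent.EtAcycX.spec_of_comp_alg (f ≫ g) QZ QX (algebraMap RS RX) hc
  let QY := Groth.Agent.EtBCQ.mkSH Y (f.base x)
  obtain ⟨φ, hφl, hφ⟩ := Groth.Agent.EtBCQ.exists_strict_hom QY (QX.spec ≫ f) (by
    rw [Scheme.Hom.comp_apply, QX.spec_closed])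
  haveI := hφl
  obtain ⟨ψ, ⟨hψ, hφψ⟩, -⟩ := Groth.Agent.EtBCQ.existsUnique_strict QZ (B := QY.R) (C := RX) (QY.spec ≫ g)
    (algebraMap RS RX) φ (by rw [← Category.assoc, hφ, Category.assoc, hsp])
  haveI : IsLocalHom ψ := ⟨fun a ha => isUnit_of_map_unit (algebraMap RS RX) a (by rw [← hφψ]; exact ha.map φ)⟩
  have hcomp : Spec.map (CommRingCat.ofHom φ) ≫ Spec.map (CommRingCat.ofHom ψ) =
      Spec.map (CommRingCat.ofHom (algebraMap RS RX)) := by
    rw [← Spec.map_comp, ← CommRingCat.ofHom_comp, hφψ]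
  have key := fun (l : ℕ) (hl : l.Prime) (hx : (l : X.residueField x) ≠ 0) =>
    Groth.Agent.EtAcycX.acyclic_const_of_iso
      (pullback.congrHom hcomp rfl ≪≫ pullbackSpecIso RS RX Ω)
      (Groth.Agent.LAcyc.acyclic_comp hf hg QZ QY QX φ hφ ψ hψ hl hx Ω
        (Spec.map (CommRingCat.ofHom (algebraMap RS Ω))))
  have hn0 : 0 < n := Nat.pos_of_ne_zero fun h => hn (by rw [h, Nat.cast_zero])
  have hdvd : ∀ l : ℕ, l ∣ n → (l : X.residueField x) ≠ 0 := fun l ⟨r, hr⟩ h0 =>
    hn (by rw [hr, Nat.cast_mul, h0, zero_mul])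
  refine ⟨fun q hq => Groth.Agent.LAcyc.subsingleton_H_zmod n hn0 fun l hl hd => (key l hl (hdvd l hd)).1 q hq, ?_⟩
  rcases (Nat.succ_le_of_lt hn0).eq_or_lt with h1 | h1
  · obtain rfl : n = 1 := h1.symm
    haveI := Groth.Agent.LAcyc.subsingleton_H_zmod (W := Spec (CommRingCat.of (EtRest.vcRing RS RX Ω))) (q := 0) 1
      one_pos (fun l hl hd => absurd (Nat.dvd_one.1 hd) hl.ne_one)
    exact ⟨{ toFun := fun _ => 0, invFun := fun _ => 0, left_inv := fun _ => @Subsingleton.elim _ this _ _,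
             right_inv := fun _ => Subsingleton.elim _ _, map_add' := fun _ _ => by simp }⟩
  · obtain ⟨l, hl, hd⟩ := Nat.exists_prime_and_dvd h1.ne'
    haveI := (Groth.Agent.EtAcycX.nonempty_connected_of_H_zero hl.one_lt (key l hl (hdvd l hd)).2).2
    exact Groth.Agent.LAcyc.nonempty_H_zero_const _

end Groth.Agent.S3127
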