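import Groth.Statements.S3128
import Mathlib.FieldTheory.Finite.Extension

set_option autoImplicit false
open BigOperators
open SGA4h

namespace Groth.Agent.S3128

open Polynomial

section
variable {F : Type} [Field F] [Fintype F] {R : Type} [CommRing R] (χ : MulChar F R) (ψ : AddChar F R)

/-- the multiplicative function on monic polynomials -/
noncomputable def lam (f : F[X]) : R := χ ((-1) ^ f.natDegree * f.coeff 0) * ψ (-f.nextCoeff)

lemma lam_one : lam χ ψ 1 = 1 := by simp [lam, nextCoeff]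

lemma lam_mul {f g : F[X]} (hf : f.Monic) (hg : g.Monic) : lam χ ψ (f * g) = lam χ ψ f * lam χ ψ g := by
  simp only [lam, hf.natDegree_mul hg, mul_coeff_zero, hf.nextCoeff_mul hg, neg_add, AddChar.map_add_eq_mul]
  rw [pow_add, mul_mul_mul_comm, map_mul]
  ring

lemma lam_pow {f : F[X]} (hf : f.Monic) (j : ℕ) : lam χ ψ (f ^ j) = lam χ ψ f ^ j := by
  induction j with
  | zero => simp [lam_one]
  | succ j ih => rw [pow_succ, lam_mul χ ψ (hf.pow j) hf, ih, pow_succ]

open scoped Classical in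
/-- monic polynomials of degree d -/
noncomputable def monics (F : Type) [Field F] [Fintype F] (d : ℕ) : Finset F[X] :=
  Finset.univ.image fun v : Fin d → F => ((monicEquivDegreeLT d).symm ((degreeLTEquiv F d).symm v)).1

lemma mem_monics {d : ℕ} {f : F[X]} : f ∈ monics F d ↔ f.Monic ∧ f.natDegree = d := by
  classical
  simp only [monics, Finset.mem_image, Finset.mem_univ, true_and]
  constructor
  · rintro ⟨v, rfl⟩
    exact ((monicEquivDegreeLT d).symm _).2
  · intro h
    exact ⟨degreeLTEquiv F d (monicEquivDegreeLT d ⟨f, h⟩), by simp⟩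

/-- the sum over monic polynomials of degree d -/
noncomputable def S (d : ℕ) : R := ∑ f ∈ monics F d, lam χ ψ f

lemma S_zero : S χ ψ 0 = 1 := by
  have : monics F 0 = {1} := by
    ext f
    simp only [mem_monics, Finset.mem_singleton]
    exact ⟨fun h => Monic.natDegree_eq_zero h.1 |>.1 h.2, fun h => by simp [h]⟩
  rw [S, this, Finset.sum_singleton, lam_one]

lemma S_one : S χ ψ 1 = ∑ x : F, χ x * ψ x := by
  symm
  refine Finset.sum_bij (fun x _ => X - C x) (fun x _ => mem_monics.2 ⟨monic_X_sub_C x, natDegree_X_sub_C x⟩)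
    (fun a _ b _ h => by simpa using h) (fun f hf => ?_) (fun x _ => ?_)
  · obtain ⟨hm, hd⟩ := mem_monics.1 hf
    refine ⟨-f.coeff 0, Finset.mem_univ _, ?_⟩
    rw [map_neg, sub_neg_eq_add]
    exact (hm.eq_X_add_C hd).symm
  · simp [lam, nextCoeff_X_sub_C]

lemma S_of_two_le [IsDomain R] (hψ : ψ ≠ 1) {d : ℕ} (hd : 2 ≤ d) : S χ ψ d = 0 := by
  obtain ⟨a, ha⟩ : ∃ a, ψ (-a) ≠ 1 := by
    obtain ⟨b, hb⟩ := AddChar.ne_one_iff.1 hψ
    exact ⟨-b, by rwa [neg_neg]⟩
  let t : F → F[X] → F[X] := fun a f => f + C a * X ^ (d - 1)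
  have hlt : ∀ a : F, ∀ f ∈ monics F d, degree (C a * X ^ (d - 1)) < degree f := fun a f hf => by
    obtain ⟨hm, hd'⟩ := mem_monics.1 hf
    rw [degree_eq_natDegree hm.ne_zero, hd']
    exact (degree_C_mul_X_pow_le _ _).trans_lt (by exact_mod_cast (by omega : d - 1 < d))
  have hmem : ∀ a : F, ∀ f ∈ monics F d, t a f ∈ monics F d := fun a f hf => by
    obtain ⟨hm, hd'⟩ := mem_monics.1 hf
    exact mem_monics.2 ⟨hm.add_of_left (hlt a f hf),
      (natDegree_add_eq_left_of_degree_lt (hlt a f hf)).trans hd'⟩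
  have hval : ∀ f ∈ monics F d, lam χ ψ (t a f) = ψ (-a) * lam χ ψ f := fun f hf => by
    obtain ⟨hm, hd'⟩ := mem_monics.1 hf
    obtain ⟨hm', hd''⟩ := mem_monics.1 (hmem a f hf)
    have h0 : d ≠ 0 := by omega
    have h1 : d - 1 ≠ 0 := by omega
    simp only [lam, nextCoeff_of_natDegree_pos (hd''.symm ▸ Nat.pos_of_ne_zero h0),
      nextCoeff_of_natDegree_pos (hd'.symm ▸ Nat.pos_of_ne_zero h0), hd', hd'']
    simp only [t, coeff_add, coeff_C_mul_X_pow, if_true, if_neg h1.symm, add_zero, neg_add, AddChar.map_add_eq_mul]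
    ring
  have h : S χ ψ d = ψ (-a) * S χ ψ d := by
    rw [S, Finset.mul_sum]
    symm
    refine Finset.sum_nbij' (t a) (t (-a)) (hmem a) (hmem (-a)) ?_ ?_ (fun f hf => (hval f hf).symm) <;>
      intro f _ <;> simp [t]
  exact eq_zero_of_mul_eq_self_left ha h.symm

open scoped Classical in
/-- prime powers of degree m -/
noncomputable def pairs (F : Type) [Field F] [Fintype F] (m : ℕ) : Finset (F[X] × ℕ) :=
  (((Finset.range (m + 1)).biUnion (monics F)) ×ˢ Finset.Icc 1 m).filter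
    (fun q => Irreducible q.1 ∧ q.2 * q.1.natDegree = m)

lemma mem_pairs {m : ℕ} {q : F[X] × ℕ} :
    q ∈ pairs F m ↔ Irreducible q.1 ∧ q.1.Monic ∧ 1 ≤ q.2 ∧ q.2 * q.1.natDegree = m := by
  classical
  simp only [pairs, Finset.mem_filter, Finset.mem_product, Finset.mem_biUnion, Finset.mem_range, Finset.mem_Icc,
    mem_monics]
  constructor
  · rintro ⟨⟨⟨e, -, hm, -⟩, h1, -⟩, hi, h⟩
    exact ⟨hi, hm, h1, h⟩
  · rintro ⟨hi, hm, h1, h⟩
    have hp := hi.natDegree_pos
    exact ⟨⟨⟨q.1.natDegree, Nat.lt_succ_of_le (h ▸ Nat.le_mul_of_pos_left _ h1), hm, rfl⟩, h1,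
      h ▸ Nat.le_mul_of_pos_right _ hp⟩, hi, h⟩

/-- coefficient of the logarithmic derivative -/
noncomputable def cS (m : ℕ) : R := ∑ q ∈ pairs F m, (q.1.natDegree : R) * lam χ ψ q.1 ^ q.2

open scoped Classical in
lemma natDegree_eq_sum {d : ℕ} {f : F[X]} (hf : f ∈ monics F d) :
    (d : R) = ∑ m ∈ Finset.Icc 1 d, ∑ q ∈ pairs F m, if q.1 ^ q.2 ∣ f then (q.1.natDegree : R) else 0 := by
  obtain ⟨hm, hd⟩ := mem_monics.1 hf
  have hf0 := hm.ne_zero
  let Φ := UniqueFactorizationMonoid.normalizedFactors f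
  have hmem : ∀ p, p ∈ Φ ↔ Irreducible p ∧ p.Monic ∧ p ∣ f := fun p => Polynomial.mem_normalizedFactors_iff hf0
  have hprod : Φ.prod = f := by
    have := UniqueFactorizationMonoid.prod_normalizedFactors_eq hf0
    rwa [hm.normalize_eq_self] at this
  have hdeg : d = ∑ p ∈ Φ.toFinset, Φ.count p * p.natDegree := by
    rw [← hd, ← hprod, natDegree_multiset_prod_of_monic _ (fun p hp => ((hmem p).1 hp).2.1),
      Finset.sum_multiset_map_count]
    rfl
  have hdvd : ∀ (p : F[X]) (j : ℕ), Irreducible p → p.Monic → (p ^ j ∣ f ↔ j ≤ Φ.count p) := fun p j hi hpm => by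
    rw [pow_dvd_iff_le_emultiplicity, UniqueFactorizationMonoid.le_emultiplicity_iff_replicate_le_normalizedFactors hi hf0,
      hpm.normalize_eq_self, Multiset.le_count_iff_replicate_le]
  have hbound : ∀ p ∈ Φ.toFinset, Φ.count p * p.natDegree ≤ d := fun p hp => by
    rw [hdeg]; exact Finset.single_le_sum (f := fun p => Φ.count p * p.natDegree) (fun _ _ => Nat.zero_le _) hp
  rw [Finset.sum_sigma', ← Finset.sum_filter, hdeg, Nat.cast_sum]
  have h1 : ∀ p ∈ Φ.toFinset, ((Φ.count p * p.natDegree : ℕ) : R) =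
      ∑ _j ∈ Finset.Icc 1 (Φ.count p), (p.natDegree : R) := fun p _ => by simp
  rw [Finset.sum_congr rfl h1, Finset.sum_sigma']
  refine Finset.sum_nbij' (fun a => ⟨a.2 * a.1.natDegree, (a.1, a.2)⟩) (fun b => ⟨b.2.1, b.2.2⟩) ?_ ?_ ?_ ?_ ?_
  · rintro ⟨p, j⟩ ha
    simp only [Finset.mem_coe, Finset.mem_sigma, Finset.mem_Icc, Multiset.mem_toFinset] at ha
    obtain ⟨hp, h1, h2⟩ := ha
    obtain ⟨hi, hpm, -⟩ := (hmem p).1 hp
    have := hbound p (Multiset.mem_toFinset.2 hp)
    have hle : j * p.natDegree ≤ d := le_trans (Nat.mul_le_mul_right _ h2) this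
    have hpos : 1 ≤ j * p.natDegree := Nat.mul_pos h1 hi.natDegree_pos
    simp only [Finset.mem_coe, Finset.mem_filter, Finset.mem_sigma, Finset.mem_Icc, mem_pairs]
    exact ⟨⟨⟨hpos, hdeg ▸ hle⟩, hi, hpm, h1, trivial⟩, (hdvd p j hi hpm).2 h2⟩
  · rintro ⟨m, p, j⟩ hb
    simp only [Finset.mem_coe, Finset.mem_filter, Finset.mem_sigma, Finset.mem_Icc, mem_pairs] at hb
    obtain ⟨⟨-, hi, hpm, h1, -⟩, hdv⟩ := hb
    simp only [Finset.mem_coe, Finset.mem_sigma, Finset.mem_Icc, Multiset.mem_toFinset]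
    exact ⟨(hmem p).2 ⟨hi, hpm, (dvd_pow_self p (by omega)).trans hdv⟩, h1, (hdvd p j hi hpm).1 hdv⟩
  · intro a _; rfl
  · rintro ⟨m, p, j⟩ hb
    simp only [Finset.mem_coe, Finset.mem_filter, Finset.mem_sigma, mem_pairs] at hb
    obtain ⟨⟨-, -, -, -, rfl⟩, -⟩ := hb
    rfl
  · intro a _; rfl

lemma log_deriv (d : ℕ) : (d : R) * S χ ψ d = ∑ m ∈ Finset.Icc 1 d, cS χ ψ m * S χ ψ (d - m) := by
  classical
  rw [S, Finset.mul_sum, Finset.sum_congr rfl fun f hf => by rw [natDegree_eq_sum hf (R := R)]]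
  simp only [Finset.sum_mul, ite_mul, zero_mul]
  rw [Finset.sum_comm]
  refine Finset.sum_congr rfl fun m hm => ?_
  rw [Finset.sum_comm, cS, Finset.sum_mul]
  refine Finset.sum_congr rfl fun q hq => ?_
  obtain ⟨hi, hqm, h1, hdeg⟩ := mem_pairs.1 hq
  obtain ⟨hm1, hmd⟩ := Finset.mem_Icc.1 hm
  rw [← Finset.sum_filter, S, Finset.mul_sum]
  symm
  have hM := hqm.pow q.2
  refine Finset.sum_bij (fun g _ => q.1 ^ q.2 * g) (fun g hg => ?_) (fun a _ b _ h => mul_left_cancel₀ hM.ne_zero h)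
    (fun f hf => ?_) (fun g hg => ?_)
  · obtain ⟨hgm, hgd⟩ := mem_monics.1 hg
    exact Finset.mem_filter.2 ⟨mem_monics.2 ⟨hM.mul hgm, by
      rw [hM.natDegree_mul hgm, hqm.natDegree_pow, hdeg, hgd]; omega⟩, dvd_mul_right _ _⟩
  · obtain ⟨hf, g, rfl⟩ := Finset.mem_filter.1 hf
    obtain ⟨hfm, hfd⟩ := mem_monics.1 hf
    have hgm : g.Monic := hM.of_mul_monic_left hfm
    rw [hM.natDegree_mul hgm, hqm.natDegree_pow, hdeg] at hfd
    exact ⟨g, mem_monics.2 ⟨hgm, by omega⟩, rfl⟩
  · rw [lam_mul χ ψ hM (mem_monics.1 hg).1, lam_pow χ ψ hqm]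
    ring

lemma cS_one : cS χ ψ 1 = ∑ x : F, χ x * ψ x := by
  have h := log_deriv χ ψ 1
  rw [S_one, Finset.Icc_self, Finset.sum_singleton, Nat.sub_self, S_zero, Nat.cast_one, one_mul, mul_one] at h
  exact h.symm

lemma cS_rec [IsDomain R] (hψ : ψ ≠ 1) (d : ℕ) (hd : 2 ≤ d) :
    cS χ ψ d = -(cS χ ψ (d - 1) * ∑ x : F, χ x * ψ x) := by
  classical
  have h := log_deriv χ ψ d
  rw [S_of_two_le χ ψ hψ hd, mul_zero, ← Finset.sum_subset (s₁ := {d - 1, d})] at h
  · rw [Finset.sum_pair (by omega), Nat.sub_self, S_zero, mul_one, show d - (d - 1) = 1 by omega, S_one] at h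
    linear_combination -h
  · intro x hx
    simp only [Finset.mem_insert, Finset.mem_singleton] at hx
    exact Finset.mem_Icc.2 ⟨by omega, by omega⟩
  · intro x hx hx'
    simp only [Finset.mem_insert, Finset.mem_singleton, Finset.mem_Icc] at hx hx'
    rw [S_of_two_le χ ψ hψ (by omega), mul_zero]

lemma cS_finrank {F' : Type} [Field F'] [Fintype F'] [Algebra F F'] :
    cS χ ψ (Module.finrank F F') = ∑ x : F', χ (Algebra.norm F x) * ψ (Algebra.trace F F' x) := by
  classical
  let g : F' → F[X] × ℕ := fun x => (minpoly F x, Module.finrank (IntermediateField.adjoin F {x}) F')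
  have hg : ∀ x : F', g x ∈ pairs F (Module.finrank F F') := fun x => by
    have hx : IsIntegral F x := .of_finite F x
    refine mem_pairs.2 ⟨minpoly.irreducible hx, minpoly.monic hx, Module.finrank_pos, ?_⟩
    rw [← IntermediateField.adjoin.finrank hx, mul_comm]
    exact Module.finrank_mul_finrank F _ F'
  rw [← Finset.sum_fiberwise_of_maps_to (g := g) (fun x _ => hg x), cS]
  refine Finset.sum_congr rfl fun q hq => ?_
  obtain ⟨hi, hqm, h1, hdeg⟩ := mem_pairs.1 hq
  have hval : ∀ x : F', g x = q →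
      χ (Algebra.norm F x) * ψ (Algebra.trace F F' x) = lam χ ψ q.1 ^ q.2 := fun x hx => by
    subst hx
    have hx : IsIntegral F x := .of_finite F x
    have hN : Algebra.norm F x = ((-1) ^ (minpoly F x).natDegree * (minpoly F x).coeff 0) ^
        Module.finrank (IntermediateField.adjoin F {x}) F' := by
      rw [Algebra.norm_eq_norm_adjoin F x]
      congr 1
      have := Algebra.PowerBasis.norm_gen_eq_coeff_zero_minpoly (IntermediateField.adjoin.powerBasis hx)
      simpa [IntermediateField.minpoly_gen] using this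
    rw [hN, trace_eq_finrank_mul_minpoly_nextCoeff F x, ← nsmul_eq_mul, AddChar.map_nsmul_eq_pow, map_pow,
      lam, mul_pow]
  rw [Finset.sum_congr rfl fun x hx => hval x (Finset.mem_filter.1 hx).2, Finset.sum_const, nsmul_eq_mul]
  congr 1
  norm_cast
  have hsep : q.1.Separable := PerfectField.separable_of_irreducible hi
  have hspl : Splits (q.1.map (algebraMap F F')) := by
    have hX : q.1 ∣ X ^ Nat.card F ^ Module.finrank F F' - X :=
      (hi.natDegree_dvd_iff_dvd_X_pow_card_pow_sub_X).1 (Dvd.intro_left _ hdeg)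
    refine Splits.of_dvd ?_ (map_ne_zero ?_) (map_dvd (algebraMap F F') hX)
    · rw [Polynomial.map_sub, Polynomial.map_pow, map_X, Nat.card_eq_fintype_card,
        ← Module.card_eq_pow_finrank (K := F) (V := F'), splits_iff_card_roots,
        FiniteField.roots_X_pow_card_sub_X, FiniteField.X_pow_card_sub_X_natDegree_eq _ Fintype.one_lt_card]
      rfl
    · exact FiniteField.X_pow_card_pow_sub_X_ne_zero _ Module.finrank_pos.ne' Finite.one_lt_card
  rw [← card_rootSet_eq_natDegree hsep hspl, ← Nat.card_eq_fintype_card, Nat.card_coe_set_eq,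
    ← Set.ncard_coe_finset]
  refine congrArg (fun s : Set F' => (s.ncard : R)) ?_
  ext x
  simp only [Finset.coe_filter, Finset.mem_univ, true_and, Set.mem_setOf_eq, mem_rootSet_of_ne hi.ne_zero]
  constructor
  · intro hx
    refine Prod.ext (minpoly.eq_of_irreducible_of_monic hi hx hqm).symm ?_
    have hx' : IsIntegral F x := .of_finite F x
    have h2 : Module.finrank (IntermediateField.adjoin F {x}) F' * q.1.natDegree = Module.finrank F F' := by
      rw [minpoly.eq_of_irreducible_of_monic hi hx hqm, ← IntermediateField.adjoin.finrank hx', mul_comm]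
      exact Module.finrank_mul_finrank F _ F'
    exact Nat.eq_of_mul_eq_mul_right hi.natDegree_pos (h2.trans hdeg.symm)
  · intro hx
    rw [← hx]
    exact minpoly.aeval F x

end

/-- Let F ⊂ F' be finite fields with [F' : F] = n, χ a multiplicative character of F and ψ a nontrivial
additive character of F, with values in a domain of characteristic zero. Writing τ(χ, ψ) = -Σ_x χ(x)
ψ(x), one has τ(χ ∘ N_{F'/F}, ψ ∘ Tr_{F'/F}) = τ(χ, ψ)^n. (The source writes χ⁻¹ inside τ; replacing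
χ by χ⁻¹ gives the same family of identities.) -/
theorem result (F F' : Type) [Field F] [Fintype F] [Field F'] [Fintype F'] [Algebra F F']
    (R : Type) [CommRing R] [IsDomain R] [CharZero R] (χ : MulChar F R) (ψ : AddChar F R) (hψ : ψ ≠ 1) :
    -(∑ x : F', χ (Algebra.norm F x) * ψ (Algebra.trace F F' x)) =
      (-(∑ x : F, χ x * ψ x)) ^ Module.finrank F F' := by
  classical
  have hn : 0 < Module.finrank F F' := Module.finrank_pos
  have key : ∀ n, 1 ≤ n → cS χ ψ n = (-1) ^ (n - 1) * (∑ x : F, χ x * ψ x) ^ n := by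
    intro n hn
    induction n using Nat.strong_induction_on with
    | _ n ih =>
      rcases Nat.lt_or_ge n 2 with h | h
      · obtain rfl : n = 1 := by omega
        rw [cS_one]; simp
      · have := cS_rec χ ψ hψ n h
        obtain ⟨m, rfl⟩ : ∃ m, n = m + 2 := ⟨n - 2, by omega⟩
        rw [show m + 2 - 1 = m + 1 by omega] at this ⊢
        rw [ih (m + 1) (by omega) (by omega), show m + 1 - 1 = m by omega] at this
        linear_combination this
  rw [← cS_finrank χ ψ, key _ hn, neg_pow (∑ x : F, χ x * ψ x)]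
  obtain ⟨m, hm⟩ : ∃ m, Module.finrank F F' = m + 1 := ⟨Module.finrank F F' - 1, by omega⟩
  rw [hm, Nat.add_sub_cancel, pow_succ (-1 : R) m]
  ring

end Groth.Agent.S3128
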