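import Groth.Statements.S3129


set_option autoImplicit false
open BigOperators
open SGA4h

namespace Groth.Agent.S3129

/-- Let F be a finite field with q elements, N ≥ 1, χ₀, …, χ_N multiplicative characters of F with
values in a domain, not all trivial and with product 1, and Ψ a nontrivial additive character of F.
Put τ(χ, Ψ) = −Σ_{x ∈ F} Ψ(x) χ⁻¹(x) and J(χ) = (−1)^{N−1} Σ χ₁⁻¹(x₁) ⋯ χ_N⁻¹(x_N), the sum over x₁,
…, x_N ∈ F^* with x₁ + ⋯ + x_N = −1. Then q · J(χ) = τ(χ₀, Ψ) ⋯ τ(χ_N, Ψ). -/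
theorem result (F : Type) [Field F] [Fintype F] [DecidableEq F] (R : Type) [CommRing R] [IsDomain R]
    (N : ℕ) (hN : 1 ≤ N) (χ : Fin (N + 1) → MulChar F R) (hprod : ∏ i, χ i = 1) (hnt : ∃ i, χ i ≠ 1)
    (Ψ : AddChar F R) (hΨ : Ψ ≠ 1) :
    (Fintype.card F : R) * ((-1) ^ (N - 1) *
        ∑ x ∈ (Finset.univ : Finset (Fin N → Fˣ)).filter (fun x => ∑ i, ((x i : Fˣ) : F) = -1),
          ∏ i : Fin N, (χ i.succ)⁻¹ ((x i : Fˣ) : F)) =
      ∏ i : Fin (N + 1), (-(∑ y : F, Ψ y * (χ i)⁻¹ y)) := by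
  have hsplit : ∀ f : F → R, ∑ x : F, f x = f 0 + ∑ u : Fˣ, f (u : F) := fun f => by
    rw [Fintype.sum_eq_add_sum_compl (0 : F)]
    congr 1
    refine Finset.sum_bij' (fun x hx => Units.mk0 x (by simpa using hx)) (fun u _ => (u : F)) ?_ ?_ ?_ ?_ ?_ <;>
      simp
  let φ : Fin (N + 1) → MulChar F R := fun i => (χ i)⁻¹
  have hφ : ∀ t : Fˣ, ∏ i, φ i (t : F) = 1 := fun t => by
    have h : ∀ s : Finset (Fin (N + 1)), ∏ i ∈ s, φ i (t : F) = (∏ i ∈ s, φ i) (t : F) := fun s => by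
      induction s using Finset.induction with
      | empty => simp
      | insert a s ha ih => simp [Finset.prod_insert ha, ih]
    rw [h]
    have : ∏ i, φ i = 1 := by
      simp only [φ, Finset.prod_inv_distrib, hprod, inv_one]
    rw [this, MulChar.one_apply_coe]
  -- the product of the Gauss sums
  let f : (Fin N → Fˣ) → R := fun x => ∏ i : Fin N, φ i.succ (x i : F)
  have hg : ∀ i, ∑ y : F, Ψ y * φ i y = ∑ u : Fˣ, Ψ (u : F) * φ i (u : F) := fun i => by
    rw [hsplit, MulChar.map_nonunit _ not_isUnit_zero, mul_zero, zero_add]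
  have hmain : ∏ i, (∑ y : F, Ψ y * φ i y) =
      ∑ x : Fin N → Fˣ, (∑ t : Fˣ, Ψ ((t : F) * (1 + ∑ i, ((x i : Fˣ) : F)))) * f x := by
    simp only [hg]
    rw [Fintype.prod_sum, ← (Fin.consEquiv fun _ => Fˣ).sum_comp, Fintype.sum_prod_type]
    simp only [Finset.sum_mul]
    rw [Finset.sum_comm (γ := Fin N → Fˣ)]
    refine Finset.sum_congr rfl fun t _ => ?_
    rw [← (Equiv.piCongrRight fun _ : Fin N => Equiv.mulLeft t).sum_comp]
    refine Finset.sum_congr rfl fun x _ => ?_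
    simp only [Fin.consEquiv_apply, Fin.prod_univ_succ, Fin.cons_zero, Fin.cons_succ, Equiv.piCongrRight_apply,
      Pi.map_apply, Equiv.coe_mulLeft, Units.val_mul, map_mul, Finset.prod_mul_distrib, f]
    rw [mul_add, mul_one, AddChar.map_add_eq_mul, Finset.mul_sum]
    rw [show Ψ (∑ i, (t : F) * (x i : F)) = ∏ i, Ψ ((t : F) * (x i : F)) from
      map_prod Ψ.toMonoidHom (fun i => Multiplicative.ofAdd ((t : F) * (x i : F))) Finset.univ]
    have h1 := hφ t
    rw [Fin.prod_univ_succ] at h1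
    linear_combination (Ψ (t : F) * (∏ i : Fin N, Ψ ((t : F) * (x i : F))) * ∏ i : Fin N, φ i.succ (x i : F)) * h1
  have hinner : ∀ c : F, ∑ t : Fˣ, Ψ ((t : F) * c) = (if c = 0 then (Fintype.card F : R) else 0) - 1 := fun c => by
    have h := AddChar.sum_mulShift c (AddChar.IsPrimitive.of_ne_one hΨ)
    rw [hsplit, zero_mul, AddChar.map_zero_eq_one] at h
    rw [eq_sub_iff_add_eq, add_comm, h]
    split_ifs <;> simp
  have hzero : ∑ x : Fin N → Fˣ, f x = 0 := by
    simp only [f]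
    rw [← Fintype.prod_sum (fun (i : Fin N) (u : Fˣ) => φ i.succ (u : F))]
    obtain ⟨i, hi⟩ : ∃ i : Fin N, χ i.succ ≠ 1 := by
      by_contra h
      push Not at h
      obtain ⟨i, hi⟩ := hnt
      rcases Fin.eq_zero_or_eq_succ i with rfl | ⟨j, rfl⟩
      · rw [Fin.prod_univ_succ, Finset.prod_eq_one fun j _ => h j, mul_one] at hprod
        exact hi hprod
      · exact hi (h j)
    refine Finset.prod_eq_zero (Finset.mem_univ i) ?_
    have h0 := MulChar.sum_eq_zero_of_ne_one (R' := R) (χ := φ i.succ) (inv_ne_one.2 hi)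
    rwa [hsplit, MulChar.map_nonunit _ not_isUnit_zero, zero_add] at h0
  have hneg : ∀ z : R, (-1 : R) ^ (N + 1) * z = (-1) ^ (N - 1) * z := fun z => by
    obtain ⟨M, rfl⟩ : ∃ M, N = M + 1 := ⟨N - 1, by omega⟩
    simp [pow_succ]
  rw [Finset.prod_neg, Finset.card_univ, Fintype.card_fin]
  change _ = (-1) ^ (N + 1) * ∏ i, (∑ y : F, Ψ y * φ i y)
  rw [hneg, hmain]
  simp only [hinner, sub_mul, one_mul, ite_mul, zero_mul, Finset.sum_sub_distrib, hzero, sub_zero]
  rw [← Finset.sum_filter, ← Finset.mul_sum, ← mul_assoc, mul_comm (Fintype.card F : R), mul_assoc]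
  congr 2
  refine Finset.sum_congr ?_ fun x _ => rfl
  ext x
  simp [add_comm (1 : F), ← eq_neg_iff_add_eq_zero]

end Groth.Agent.S3129
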