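import Groth.Statements.S3131
import Groth.Agent.NearCyc.LAOutside

set_option autoImplicit false
set_option backward.isDefEq.respectTransparency false
set_option backward.isDefEq.respectTransparency.types false
set_option linter.auxLemma false
universe u
open CategoryTheory CategoryTheory.Limits AlgebraicGeometry
open SGA4h
open scoped TensorProduct

namespace Groth.Agent.S3131

attribute [local instance 100000] EtCoh.H._proof_1 Groth.Agent.EtMV.hext
attribute [local instance 200000] Groth.Agent.EtMV.hextAb

/-- Let f : X -> S be proper with S noetherian, n invertible on S and F a constructible abelian sheaf on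
X killed by n such that every R^i f_* F is locally constant (equivalently finite locally constant,
these sheaves being constructible by finiteness for proper morphisms). Let T be a closed subscheme
of X, i : T -> X its closed immersion, with T finite over S such that f is locally acyclic relative
to F at every point outside the image of T. Then f is locally acyclic relative to F. -/
theorem result {X S T : Scheme.{u}} [IsNoetherian S] (f : X ⟶ S) [IsProper f]
    (n : ℕ) (hn : IsUnit (n : Γ(S, ⊤))) (F : EtCoh.Ab X) (hF : EtPBC.IsConstructible F) (hFn : EtCoh.KilledBy n F)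
    (hlc : ∀ i : ℕ, EtCoh.IsFiniteLocallyConstant ((EtCoh.Rpush f i).obj F))
    (i : T ⟶ X) [IsClosedImmersion i] [IsFinite (i ≫ f)]
    (hla : ∀ x : X, x ∉ Set.range i.base → SGA4h.IsLARelAt f F x) : SGA4h.IsLARel f F := by
  intro x RS RX _ _ _ _ _ _ _ _ _ _ _ _ hcomp Ω _ _ _ _ q
  haveI : Nontrivial (S.presheaf.stalk (f.base x)) := inferInstance
  have hn0 : 0 < n := by
    rcases Nat.eq_zero_or_pos n with rfl | h
    · have h1 := hn.map (S.presheaf.germ ⊤ (f.base x) trivial).hom
      rw [map_natCast, Nat.cast_zero] at h1
      exact absurd h1 not_isUnit_zero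
    · exact h
  let QS : Groth.Agent.EtBCQ.SH S (f.base x) := { R := RS }
  let QX : Groth.Agent.EtBCQ.SH X x := { R := RX }
  haveI : IsLocalHom (algebraMap QS.R QX.R : QS.R →+* QX.R) := ‹IsLocalHom (algebraMap RS RX)›
  have hψ : Spec.map (CommRingCat.ofHom (algebraMap RS RX)) ≫ QS.spec = QX.spec ≫ f := by
    refine (Groth.Agent.EtBCQ.spec_comp_spec QS (algebraMap RS RX)).trans ?_
    show Spec.map (CommRingCat.ofHom ((algebraMap RS RX).comp (algebraMap (S.presheaf.stalk (f.base x)) RS))) ≫ _ =
      (Spec.map _ ≫ X.fromSpecStalk x) ≫ f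
    rw [hcomp, CommRingCat.ofHom_comp, Spec.map_comp, CommRingCat.ofHom_hom, Category.assoc, Category.assoc,
      Scheme.SpecMap_stalkMap_fromSpecStalk]
  exact Groth.Agent.NearCyc.bijective_Hpull_strict f F i hla QS hn0 hFn hlc QX (algebraMap RS RX) hψ Ω
    (algebraMap RS Ω) (Spec.map (CommRingCat.ofHom (algebraMap RX (RX ⊗[RS] Ω))))
    (Groth.Agent.EtAcycX.vcProj RS RX Ω)
    (isPullback_SpecMap_of_isPushout _ _ _ _ (CommRingCat.isPushout_tensorProduct RS RX Ω)).flip q

end Groth.Agent.S3131
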