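import Groth.Statements.S3133
import Mathlib

set_option linter.style.haveILetI false

set_option autoImplicit false
open Polynomial
open SGA4h

namespace Groth.Agent.S3133

/-- Let A be a square matrix over a commutative ring and n ≥ 1, and let B be the matrix on n blocks of
the endomorphism (x_1, …, x_n) ↦ (A x_n, x_1, …, x_{n-1}). Then det(1 − B·T) = det(1 − A·Tⁿ), i.e.
the reverse characteristic polynomial of B is that of A expanded by n. -/
theorem result (R : Type) [CommRing R] (m : Type) [Fintype m] [DecidableEq m]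
    (A : Matrix m m R) (n : ℕ) (hn : 1 ≤ n) :
    (Matrix.of fun (p q : Fin n × m) =>
        if p.1.val = 0 then (if q.1.val = n - 1 then A p.2 q.2 else 0)
        else (if q.1.val + 1 = p.1.val ∧ p.2 = q.2 then 1 else 0)).charpolyRev =
      Polynomial.expand R n A.charpolyRev := by
  classical
  set B : Matrix (Fin n × m) (Fin n × m) R := Matrix.of fun (p q : Fin n × m) =>
        if p.1.val = 0 then (if q.1.val = n - 1 then A p.2 q.2 else 0)
        else (if q.1.val + 1 = p.1.val ∧ p.2 = q.2 then 1 else 0) with hB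
  let M : Matrix (Fin n × m) (Fin n × m) R[X] := 1 - (X : R[X]) • B.map C
  let L : Matrix (Fin n × m) (Fin n × m) R[X] :=
    Matrix.of fun p q => if q.1.val ≤ p.1.val ∧ p.2 = q.2 then X ^ (p.1.val - q.1.val) else 0
  let z : Fin n := ⟨0, hn⟩
  let w : Fin n := ⟨n - 1, by omega⟩
  have hM0 : ∀ (i : m) (q : Fin n × m), (M * L) (z, i) q =
      L (z, i) q - X * ∑ j, C (A i j) * L (w, j) q := by
    intro i q
    show ((1 - (X : R[X]) • B.map C) * L) (z, i) q = _
    rw [Matrix.sub_mul, Matrix.one_mul, Matrix.smul_mul, Matrix.sub_apply, Matrix.smul_apply,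
      smul_eq_mul, Matrix.mul_apply, Fintype.sum_prod_type]
    congr 2
    rw [Finset.sum_eq_single w]
    · simp [hB, z, w]
    · intro l _ hl
      have : l.val ≠ n - 1 := fun e => hl (Fin.ext e)
      simp [hB, z, this]
    · simp
  have hMk : ∀ (k : Fin n) (i : m) (q : Fin n × m) (hk : k.val ≠ 0), (M * L) (k, i) q =
      L (k, i) q - X * L (⟨k.val - 1, by omega⟩, i) q := by
    intro k i q hk
    show ((1 - (X : R[X]) • B.map C) * L) (k, i) q = _
    rw [Matrix.sub_mul, Matrix.one_mul, Matrix.smul_mul, Matrix.sub_apply, Matrix.smul_apply,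
      smul_eq_mul, Matrix.mul_apply]
    congr 2
    rw [Finset.sum_eq_single (⟨k.val - 1, by omega⟩, i)]
    · simp [hB, hk, show k.val - 1 + 1 = k.val by omega]
    · rintro ⟨l, j⟩ _ hl
      have : ¬(l.val + 1 = k.val ∧ i = j) := fun ⟨e, e'⟩ =>
        hl (Prod.ext (Fin.ext (show l.val = k.val - 1 by omega)) e'.symm)
      simp [hB, hk, this]
    · simp
  have htri : (M * L).BlockTriangular Prod.fst := by
    rintro ⟨k, i⟩ ⟨l, j⟩ h
    have h' : l.val < k.val := h
    rw [hMk k i _ (by omega)]
    simp only [L, Matrix.of_apply]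
    by_cases hij : i = j
    · rw [if_pos ⟨h'.le, hij⟩, if_pos ⟨by omega, hij⟩, ← pow_succ',
        show k.val - 1 - l.val + 1 = k.val - l.val by omega, sub_self]
    · simp [hij]
  have hLtri : L.transpose.BlockTriangular Prod.fst := by
    rintro ⟨k, i⟩ ⟨l, j⟩ h
    have h' : l.val < k.val := h
    simp only [L, Matrix.transpose_apply, Matrix.of_apply]
    rw [if_neg (fun h2 => absurd h2.1 (not_le.mpr h'))]
  have hblk : ∀ k : Fin n, k.val ≠ 0 → ((M * L).toSquareBlock Prod.fst k).det = 1 := by
    intro k hk
    rw [show (M * L).toSquareBlock Prod.fst k = 1 from ?_, Matrix.det_one]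
    refine Matrix.ext fun p q => ?_
    obtain ⟨⟨a, i⟩, ha⟩ := p
    obtain ⟨⟨b, j⟩, hb⟩ := q
    obtain rfl : a = k := ha
    obtain rfl : b = a := hb
    rw [Matrix.toSquareBlock_def, Matrix.of_apply]
    show (M * L) (b, i) (b, j) = _
    rw [hMk b i _ hk]
    by_cases hij : i = j
    · subst hij
      simp only [L, Matrix.of_apply, Matrix.one_apply_eq]
      rw [if_pos ⟨le_rfl, trivial⟩, if_neg (fun h2 => absurd h2.1 (show ¬ b.val ≤ b.val - 1 by omega))]
      simp
    · rw [Matrix.one_apply_ne (fun e => hij (congrArg (fun q => q.1.2) e))]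
      simp [L, hij]
  have hL : L.det = 1 := by
    rw [← Matrix.det_transpose, hLtri.det_fintype]
    refine Finset.prod_eq_one fun k _ => ?_
    rw [show L.transpose.toSquareBlock Prod.fst k = 1 from ?_, Matrix.det_one]
    refine Matrix.ext fun p q => ?_
    obtain ⟨⟨a, i⟩, ha⟩ := p
    obtain ⟨⟨b, j⟩, hb⟩ := q
    obtain rfl : a = k := ha
    obtain rfl : b = a := hb
    rw [Matrix.toSquareBlock_def, Matrix.of_apply, Matrix.transpose_apply]
    by_cases hij : i = j
    · subst hij; simp [L]
    · rw [Matrix.one_apply_ne (fun e => hij (congrArg (fun q => q.1.2) e))]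
      simp [L, Ne.symm hij]
  let e : m ≃ {p : Fin n × m // p.1 = z} :=
    ⟨fun i => ⟨(z, i), rfl⟩, fun p => p.1.2, fun i => rfl, fun ⟨⟨a, i⟩, (ha : a = z)⟩ => by subst ha; rfl⟩
  calc B.charpolyRev = M.det * L.det := by rw [hL, mul_one]; rfl
    _ = ((M * L).toSquareBlock Prod.fst z).det := by
        rw [← Matrix.det_mul, htri.det_fintype]
        exact Finset.prod_eq_single z (fun k _ hk => hblk k fun e0 => hk (Fin.ext e0)) (by simp)
    _ = Polynomial.expand R n A.charpolyRev := by
        rw [Matrix.charpolyRev, AlgHom.map_det, ← Matrix.det_submatrix_equiv_self e]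
        congr 1
        refine Matrix.ext fun i j => ?_
        simp only [Matrix.submatrix_apply, Matrix.toSquareBlock_def, Matrix.of_apply,
          AlgHom.mapMatrix_apply, Matrix.map_apply, Matrix.sub_apply, Matrix.smul_apply, smul_eq_mul,
          map_sub, map_mul, Polynomial.expand_X, Polynomial.expand_C]
        show (M * L) (z, i) (z, j) = _
        rw [hM0]
        simp only [L, Matrix.of_apply, z, w, le_refl, Nat.zero_le, true_and, Nat.sub_zero,
          mul_ite, mul_zero, Finset.sum_ite_eq', Finset.mem_univ, if_true, Nat.sub_self, pow_zero]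
        by_cases hij : i = j
        · subst hij
          rw [if_pos rfl, Matrix.one_apply_eq, map_one, mul_left_comm, ← pow_succ',
            show n - 1 + 1 = n by omega, mul_comm (C _)]
        · rw [if_neg hij, Matrix.one_apply_ne hij, map_zero, mul_left_comm, ← pow_succ',
            show n - 1 + 1 = n by omega, mul_comm (C _)]

end Groth.Agent.S3133
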