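import Groth.Statements.S3139
import Groth.Agent.CharSeries.Basic
import Mathlib

set_option autoImplicit false
universe u
open CategoryTheory
open CategoryTheory.Pretriangulated
attribute [local instance] HasDerivedCategory.standard
open SGA4h

namespace Groth.Agent.S3139

/-- Let A be a commutative ring, K and K' bounded cochain complexes of finite free A-modules with
endomorphisms u and u', and suppose (K, u) and (K', u') are isomorphic in the derived category D(A):
there is an isomorphism K ≅ K' in D(A) intertwining the images of u and u'. Then det(1 - u t, K) =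
det(1 - u' t, K'), where det(1 - u t, K) = ∏ᵢ det(1 - u t, Kⁱ)^{(-1)^i}; the equality is stated
cross-multiplied, as ∏_{i even} det(1 - u t, Kⁱ) · ∏_{i odd} det(1 - u' t, K'ⁱ) = ∏_{i odd} det(1 -
u t, Kⁱ) · ∏_{i even} det(1 - u' t, K'ⁱ) in A[t]. (The source works with finite projective modules;
finite free is the special case stated here.) -/
theorem result (A : Type u) [CommRing A]
    (K K' : CochainComplex (ModuleCat.{u} A) ℤ) (a b : ℤ) [K.IsStrictlyGE a] [K.IsStrictlyLE b] [K'.IsStrictlyGE a] [K'.IsStrictlyLE b]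
    (hK : ∀ i : ℤ, Module.Finite A (K.X i) ∧ Module.Free A (K.X i)) (hK' : ∀ i : ℤ, Module.Finite A (K'.X i) ∧ Module.Free A (K'.X i))
    (u : K ⟶ K) (u' : K' ⟶ K') (φ : DerivedCategory.Q.obj K ≅ DerivedCategory.Q.obj K')
    (hφ : DerivedCategory.Q.map u ≫ φ.hom = φ.hom ≫ DerivedCategory.Q.map u') :
    SGA4h.detEven K u * SGA4h.detOdd K' u' = SGA4h.detOdd K u * SGA4h.detEven K' u' := by
  haveI := fun i => (hK i).1
  haveI := fun i => (hK i).2
  haveI := fun i => (hK' i).1
  haveI := fun i => (hK' i).2
  haveI : ∀ i, Projective (K.X i) := fun i =>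
    (IsProjective.iff_projective (R := A) (K.X i)).1 inferInstance
  haveI : ∀ i, Projective (K'.X i) := fun i =>
    (IsProjective.iff_projective (R := A) (K'.X i)).1 inferInstance
  haveI := CochainComplex.isKProjective_of_projective K b
  obtain ⟨F, hF⟩ := (CochainComplex.IsKProjective.Qh_map_bijective K
    ((HomotopyCategory.quotient _ _).obj K')).surjective φ.hom
  obtain ⟨f, rfl⟩ := (HomotopyCategory.quotient _ _).map_surjective F
  have hQ : DerivedCategory.Q.map f = φ.hom := hF
  have hcomm : (HomotopyCategory.quotient _ _).map (f ≫ u') = (HomotopyCategory.quotient _ _).map (u ≫ f) := by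
    apply (CochainComplex.IsKProjective.Qh_map_bijective K _).injective
    show DerivedCategory.Q.map (f ≫ u') = DerivedCategory.Q.map (u ≫ f)
    rw [Functor.map_comp, Functor.map_comp, hQ, hφ]
  let H := HomotopyCategory.homotopyOfEq _ _ hcomm
  let M := CochainComplex.mappingCone f
  let w : M ⟶ M := CochainComplex.mappingCone.mapOfHomotopy (φ₁ := f) (φ₂ := f) (a := u) (b := u') H
  let p1 : ∀ i, M.X i ⟶ K.X (i + 1) := fun i => (CochainComplex.mappingCone.fst f).1.v i (i + 1) rfl
  let p2 : ∀ i, M.X i ⟶ K'.X i := fun i => (CochainComplex.mappingCone.snd f).v i i (add_zero i)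
  let i1 : ∀ i, K.X (i + 1) ⟶ M.X i := fun i =>
    (CochainComplex.mappingCone.inl f).v (i + 1) i (by lia)
  let i2 : ∀ i, K'.X i ⟶ M.X i := fun i => (CochainComplex.mappingCone.inr f).f i
  have q11 : ∀ i, i1 i ≫ p1 i = 𝟙 _ := fun i => CochainComplex.mappingCone.inl_v_fst_v f _ _ _
  have q12 : ∀ i, i1 i ≫ p2 i = 0 := fun i => CochainComplex.mappingCone.inl_v_snd_v f _ _ _
  have q21 : ∀ i, i2 i ≫ p1 i = 0 := fun i => CochainComplex.mappingCone.inr_f_fst_v f _ _ _
  have q22 : ∀ i, i2 i ≫ p2 i = 𝟙 _ := fun i => CochainComplex.mappingCone.inr_f_snd_v f _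
  have qid : ∀ i, p1 i ≫ i1 i + p2 i ≫ i2 i = 𝟙 _ := fun i => CochainComplex.mappingCone.id_X f _ _ _
  let e : ∀ i, M.X i ≃ₗ[A] (K.X (i + 1) × K'.X i) := fun i =>
    LinearEquiv.ofLinear ((p1 i).hom.prod (p2 i).hom) ((i1 i).hom.coprod (i2 i).hom)
      (by
        ext x
        · simpa using LinearMap.congr_fun (congrArg ModuleCat.Hom.hom (q11 i)) x
        · simpa using LinearMap.congr_fun (congrArg ModuleCat.Hom.hom (q12 i)) x
        · simpa using LinearMap.congr_fun (congrArg ModuleCat.Hom.hom (q21 i)) x
        · simpa using LinearMap.congr_fun (congrArg ModuleCat.Hom.hom (q22 i)) x)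
      (by
        ext x
        simpa using LinearMap.congr_fun (congrArg ModuleCat.Hom.hom (qid i)) x)
  have hM : ∀ i, Module.Finite A (M.X i) ∧ Module.Free A (M.X i) := fun i =>
    ⟨Module.Finite.equiv (e i).symm, Module.Free.of_equiv (e i).symm⟩
  have hzK : ∀ i, i < a ∨ b < i → Limits.IsZero (K.X i) := fun i hi => hi.elim
    (fun h => K.isZero_of_isStrictlyGE a i h) (fun h => K.isZero_of_isStrictlyLE b i h)
  have hzK' : ∀ i, i < a ∨ b < i → Limits.IsZero (K'.X i) := fun i hi => hi.elim
    (fun h => K'.isZero_of_isStrictlyGE a i h) (fun h => K'.isZero_of_isStrictlyLE b i h)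
  have hz : ∀ i, i < a - 1 ∨ b < i → Limits.IsZero (M.X i) := fun i hi => by
    haveI := ModuleCat.subsingleton_of_isZero (hzK (i + 1) (by lia))
    haveI := ModuleCat.subsingleton_of_isZero (hzK' i (by lia))
    haveI := (e i).toEquiv.subsingleton
    exact ModuleCat.isZero_of_subsingleton _
  haveI : M.IsStrictlyLE b := (CochainComplex.isStrictlyLE_iff M b).2 fun i hi => hz i (Or.inr hi)
  haveI : ∀ i, Projective (M.X i) := fun i => by
    haveI := (hM i).2
    exact (IsProjective.iff_projective (R := A) (M.X i)).1 inferInstance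
  haveI := CochainComplex.isKProjective_of_projective M b
  have hcone : Limits.IsZero (DerivedCategory.Q.obj M) := by
    have hT : DerivedCategory.Q.mapTriangle.obj (CochainComplex.mappingCone.triangle f) ∈
        distTriang (DerivedCategory (ModuleCat.{u} A)) :=
      (DerivedCategory.mem_distTriang_iff _).2 ⟨K, K', f, ⟨Iso.refl _⟩⟩
    refine (Pretriangulated.Triangle.isZero₃_iff_isIso₁ _ hT).2 ?_
    show IsIso (DerivedCategory.Q.map f)
    rw [hQ]
    infer_instance
  have hnull : (HomotopyCategory.quotient _ _).map (𝟙 M) = (HomotopyCategory.quotient _ _).map 0 := by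
    apply (CochainComplex.IsKProjective.Qh_map_bijective M _).injective
    exact hcone.eq_of_src _ _
  have key := Groth.Agent.CharSeries.detEven_eq_detOdd w (a - 1) b hz hM (HomotopyCategory.homotopyOfEq _ _ hnull)
  have hw : ∀ i, SGA4h.detOneSub (M.X i) (w.f i) =
      SGA4h.detOneSub (K.X (i + 1)) (u.f (i + 1)) * SGA4h.detOneSub (K'.X i) (u'.f i) := by
    intro i
    haveI := (hM i).1
    haveI := (hM i).2
    have hi2 : i2 i ≫ w.f i = u'.f i ≫ i2 i := by
      have := HomologicalComplex.congr_hom (CochainComplex.mappingCone.triangleMapOfHomotopy_comm₂ H) i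
      simpa [w, i2] using this
    have hi1 : i1 i ≫ w.f i ≫ p1 i = u.f (i + 1) := by
      simp [i1, w, p1, CochainComplex.mappingCone.mapOfHomotopy]
    rw [Groth.Agent.CharSeries.detOneSub_split (w.f i) (p1 i ≫ i1 i) (p2 i ≫ i2 i) (qid i) (by
      rw [Category.assoc, ← Category.assoc (i2 i), hi2, Category.assoc, ← Category.assoc (i2 i), q21]
      simp)]
    congr 1
    · rw [Category.assoc, Groth.Agent.CharSeries.detOneSub_comm, Category.assoc, hi1]
    · rw [Category.assoc, Groth.Agent.CharSeries.detOneSub_comm, hi2, Category.assoc, q22, Category.comp_id]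
  let k : ℤ → Polynomial A := fun i => SGA4h.detOneSub (K.X i) (u.f i)
  let k' : ℤ → Polynomial A := fun i => SGA4h.detOneSub (K'.X i) (u'.f i)
  have hk : ∀ i, i < a ∨ b < i → k i = 1 := fun i hi => Groth.Agent.CharSeries.detOneSub_of_isZero (hzK i hi) _
  have hk' : ∀ i, i < a ∨ b < i → k' i = 1 := fun i hi => Groth.Agent.CharSeries.detOneSub_of_isZero (hzK' i hi) _
  have heven : SGA4h.detEven M w = SGA4h.detOdd K u * SGA4h.detEven K' u' := by
    calc _ = Groth.Agent.CharSeries.prodP Even (fun i => k (i + 1) * k' i) := by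
          simp only [SGA4h.detEven, Groth.Agent.CharSeries.prodP, hw, k, k']
      _ = _ := by
          rw [Groth.Agent.CharSeries.prodP_mul (Groth.Agent.CharSeries.finite_mulSupport_shift hk)
            (Groth.Agent.CharSeries.finite_mulSupport hk'), Groth.Agent.CharSeries.prodP_even_shift]
          rfl
  have hodd : SGA4h.detOdd M w = SGA4h.detEven K u * SGA4h.detOdd K' u' := by
    calc _ = Groth.Agent.CharSeries.prodP Odd (fun i => k (i + 1) * k' i) := by
          simp only [SGA4h.detOdd, Groth.Agent.CharSeries.prodP, hw, k, k']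
      _ = _ := by
          rw [Groth.Agent.CharSeries.prodP_mul (Groth.Agent.CharSeries.finite_mulSupport_shift hk)
            (Groth.Agent.CharSeries.finite_mulSupport hk'), Groth.Agent.CharSeries.prodP_odd_shift]
          rfl
  rw [← hodd, ← heven, key]

end Groth.Agent.S3139
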