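import Groth.Statements.S3141
import Groth.Agent.EtPur.RegDivisor

set_option autoImplicit false
universe u
open CategoryTheory CategoryTheory.Limits AlgebraicGeometry Opposite
open EtDual

namespace Groth.Agent.S3141

/-- Let X be a Noetherian separated scheme all of whose local rings are regular, n an integer invertible
on X, i : D ⟶ X a closed immersion with D regular and of codimension 1 at each of its points (a
regular divisor), and j : U ⟶ X the open immersion of the complement. Then the local cohomology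
sheaves H^p_D(X, μ_n) (right derived functors of sections supported off U, applied to the sheaf of
n-th roots of unity) vanish for p = 0 and p = 1, and H^2_D(X, μ_n) is isomorphic to i_*(ℤ/n). (The
source adds that H^2_D(X, μ_n) is generated by the class of D.) -/
theorem result {X D U : Scheme.{u}} [IsNoetherian X] [X.IsSeparated]
    (hXreg : ∀ x : X, IsRegularLocalRing (X.presheaf.stalk x))
    (n : ℕ) (hn : IsUnit (n : Γ(X, ⊤)))
    (i : D ⟶ X) [IsClosedImmersion i] (hDreg : ∀ y : D, IsRegularLocalRing (D.presheaf.stalk y))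
    (hcodim : ∀ y : D, ringKrullDim (X.presheaf.stalk (i.base y)) = ringKrullDim (D.presheaf.stalk y) + 1)
    (j : U ⟶ X) [IsOpenImmersion j] (hU : Set.range j = (Set.range i)ᶜ) [EtCoh.BCCont j] [EtCoh.BCCont i] :
    IsZero ((EtDual.locCoh j 0).obj (EtCoh.mu X n)) ∧ IsZero ((EtDual.locCoh j 1).obj (EtCoh.mu X n)) ∧
      Nonempty ((EtDual.locCoh j 2).obj (EtCoh.mu X n) ≅ (EtCoh.push i).obj (EtCoh.const D (ZMod n))) := by
  rcases n.eq_zero_or_pos with hn0 | hn0
  · subst hn0
    haveI hXe : IsEmpty X := ⟨fun x => not_isUnit_zero (M₀ := X.presheaf.stalk x)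
      (by have := hn.map (X.presheaf.germ ⊤ x trivial).hom; rwa [Nat.cast_zero, map_zero] at this)⟩
    exact ⟨Groth.Agent.EtMV.isZero_of_isEmpty _, Groth.Agent.EtMV.isZero_of_isEmpty _,
      ⟨(Groth.Agent.EtMV.isZero_of_isEmpty _).iso (Groth.Agent.EtMV.isZero_of_isEmpty _)⟩⟩
  have hu := Groth.Agent.EtPur.isIso_unit_mu_regular i j hXreg hcodim hU hn0 hn
  obtain ⟨h0, h1⟩ := (Groth.Agent.EtPur.isIso_unit_iff_locCoh j _).1 hu
  obtain ⟨d⟩ := Groth.Agent.EtPur.nonempty_pull_mu j n
  obtain ⟨c⟩ := Groth.Agent.EtMV.nonempty_locCoh_succ j (EtCoh.mu X n) 1 le_rfl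
  obtain ⟨e⟩ := Groth.Agent.EtPur.nonempty_rpush_mu_regular i j hXreg hDreg hcodim hU n hn0 hn
  exact ⟨h0, h1, ⟨c.symm ≪≫ (EtCoh.Rpush j 1).mapIso d ≪≫ e⟩⟩

end Groth.Agent.S3141
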