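import Groth.Statements.S3145
import Groth.Agent.EtCurveBidual.Biduality

set_option autoImplicit false
universe u
open CategoryTheory CategoryTheory.Limits AlgebraicGeometry Opposite
attribute [local instance] HasDerivedCategory.standard
open EtModD

namespace Groth.Agent.S3145

/-- Let S be a Noetherian separated scheme whose local rings are regular of dimension at most 1, n
invertible on S, Λ = ℤ/n, and D(−) = RHom_Λ(−, Λ_S) the duality functor with respect to the constant
sheaf Λ placed in degree 0. Let K be a cochain complex of Λ-module sheaves on S_ét whose image in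
D(S_ét, Λ) is bounded with constructible cohomology sheaves, and M a complex representing D(K) (the
derived functors - ⊗^L K, - ⊗^L M and their right adjoints being assumed to exist). Then D(K) is
again bounded with constructible cohomology, and K is isomorphic to D(D(K)) = D(M) in D(S_ét, Λ).
(The published statement proves that the canonical biduality morphism is an isomorphism; here the
existence of an isomorphism is asserted.) -/
theorem result (n : ℕ) {S : Scheme.{u}} [IsNoetherian S] [S.IsSeparated]
    (hreg : ∀ s : S, IsRegularLocalRing (S.presheaf.stalk s)) (hdim : ∀ s : S, ringKrullDim (S.presheaf.stalk s) ≤ 1)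
    (hn : IsUnit (n : Γ(S, ⊤)))
    (K : CochainComplex (EtModW.Mod (ULift.{u+1} (ZMod n)) S) ℤ) (hK : EtModD.IsDbc (DerivedCategory.Q.obj K))
    [EtModD.HasLTensorCx K] [EtModD.HasRHom K]
    (M : CochainComplex (EtModW.Mod (ULift.{u+1} (ZMod n)) S) ℤ) (hM : Nonempty (DerivedCategory.Q.obj M ≅ EtModD.dual (DerivedCategory.Q.obj ((CochainComplex.singleFunctor (EtModW.Mod (ULift.{u+1} (ZMod n)) S) 0).obj (EtModW.constMod (ULift.{u+1} (ZMod n)) S (ULift.{u+1} (ZMod n))))) K))
    [EtModD.HasLTensorCx M] [EtModD.HasRHom M] :
    EtModD.IsDbc (DerivedCategory.Q.obj M) ∧ Nonempty (DerivedCategory.Q.obj K ≅ EtModD.dual (DerivedCategory.Q.obj ((CochainComplex.singleFunctor (EtModW.Mod (ULift.{u+1} (ZMod n)) S) 0).obj (EtModW.constMod (ULift.{u+1} (ZMod n)) S (ULift.{u+1} (ZMod n))))) M) := by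
  exact Groth.Agent.EtCurveBidual.biduality n hreg hdim hn K hK M hM

end Groth.Agent.S3145
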