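import Groth.Statements.S3192
import Groth.Agent.K0Filt.Localization

set_option autoImplicit false
set_option backward.isDefEq.respectTransparency false
set_option backward.isDefEq.respectTransparency.types false
universe u
open CategoryTheory CategoryTheory.Limits AlgebraicGeometry
attribute [local instance] HasDerivedCategory.standard
open SGA6

namespace Groth.Agent.S3192

/-- Let X be a Noetherian scheme, i : X' ⟶ X a closed immersion and j : U ⟶ X the open immersion of the
complement. With K_•(−) = K₀ of coherent modules, i_* (exact; carried as instance hypotheses, and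
sending coherent modules to coherent modules — hypothesis hi) and j^* (exact, preserving coherence —
hypothesis hj) induce homomorphisms K_•(X') ⟶ K_•(X) ⟶ K_•(U); then j^* is surjective and its kernel
is the image of i_*. -/
theorem result {X X' U : Scheme.{u}} [IsNoetherian X] (i : X' ⟶ X) [IsClosedImmersion i]
    (j : U ⟶ X) [IsOpenImmersion j] (hU : Set.range j = (Set.range i)ᶜ)
    [(Scheme.Modules.pushforward i).Additive] [PreservesFiniteLimits (Scheme.Modules.pushforward i)] [PreservesFiniteColimits (Scheme.Modules.pushforward i)]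
    [PreservesFiniteLimits (Scheme.Modules.restrictFunctor j)]
    (hi : ∀ M : X'.Modules, Coh.IsCoh M → Coh.IsCoh ((Scheme.Modules.pushforward i).obj M))
    (hj : ∀ M : X.Modules, Coh.IsCoh M → Coh.IsCoh ((Scheme.Modules.restrictFunctor j).obj M)) :
    Function.Surjective (SGA6.mapSub (Scheme.Modules.restrictFunctor j) (fun M : (X).Modules => Coh.IsCoh M) (fun M : (U).Modules => Coh.IsCoh M) hj) ∧
      (SGA6.mapSub (Scheme.Modules.restrictFunctor j) (fun M : (X).Modules => Coh.IsCoh M) (fun M : (U).Modules => Coh.IsCoh M) hj).ker =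
        (SGA6.mapSub (Scheme.Modules.pushforward i) (fun M : (X').Modules => Coh.IsCoh M) (fun M : (X).Modules => Coh.IsCoh M) hi).range := by
  let Uo := j.opensRange
  let w : U ≅ Uo.toScheme := j.isoOpensRange
  haveI : IsNoetherian Uo.toScheme := Groth.Agent.LocImmFT.isNoetherian_opens Uo
  haveI : IsLocallyNoetherian U := isLocallyNoetherian_of_isOpenImmersion w.hom
  haveI : CompactSpace U := w.inv.homeomorph.compactSpace
  haveI : IsNoetherian U := { }
  have hw : w.hom ≫ Uo.ι = j := Scheme.Hom.isoOpensRange_hom_ι j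
  have hb := Groth.Agent.K0Filt.resK_bijective w
  obtain ⟨hs, hk⟩ := Groth.Agent.K0Filt.localization i hi Uo hU (Groth.Agent.K0Filt.isCoh_restrict Uo.ι)
  have hc := Groth.Agent.K0Filt.resK_comp w.hom Uo.ι j hw
  refine ⟨fun y => ?_, AddSubgroup.ext fun x => ?_⟩
  · obtain ⟨z, rfl⟩ := hb.2 y
    obtain ⟨x, rfl⟩ := hs z
    exact ⟨x, hc x⟩
  · show _ ↔ x ∈ Groth.Agent.K0Filt.Rg i hi
    rw [← hk, AddMonoidHom.mem_ker, AddMonoidHom.mem_ker]
    show Groth.Agent.K0Filt.resK j x = 0 ↔ Groth.Agent.K0Filt.resK Uo.ι x = 0
    rw [hc]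
    exact ⟨fun h => hb.1 (h.trans (map_zero _).symm), fun h => by rw [h, map_zero]⟩

end Groth.Agent.S3192
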