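import Groth.Statements.S3194
import Mathlib

set_option autoImplicit false
universe u
open CategoryTheory
open SGA6

namespace Groth.Agent.S3194

/-- Let A be a principal ideal domain and K_•(Spec A) = K₀ of the category of finitely generated
A-modules (free abelian group on finitely generated modules modulo short exact sequences). The
homomorphism ℤ ⟶ K_•(Spec A) sending k to k·[A] is bijective. -/
theorem result (A : Type u) [CommRing A] [IsDomain A] [IsPrincipalIdealRing A] :
    Function.Bijective (fun k : ℤ => k • KZero.clSub (fun M : ModuleCat.{u} A => Module.Finite A M) (ModuleCat.of A A)) := by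
  let P : ObjectProperty (ModuleCat.{u} A) := fun M => Module.Finite A M
  let c : ModuleCat.{u} A → KZero.K0sub P := KZero.clSub P
  have hrel : ∀ (M : ModuleCat.{u} A) [Module.Finite A M] {N L : ModuleCat.{u} A} [Module.Finite A N] [Module.Finite A L]
      (f : N →ₗ[A] M) (g : M →ₗ[A] L), Function.Injective f → Function.Surjective g → Function.Exact f g →
      c M = c N + c L := by
    intro M hM N L hN hL f g hf hg hfg
    have hS : (ShortComplex.mk (ModuleCat.ofHom f) (ModuleCat.ofHom g) (ModuleCat.hom_ext hfg.linearMap_comp_eq_zero)).ShortExact :=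
      { exact := (ShortComplex.ShortExact.moduleCat_exact_iff_function_exact _).2 hfg
        mono_f := (ModuleCat.mono_iff_injective _).2 hf
        epi_g := (ModuleCat.epi_iff_surjective _).2 hg }
    simp only [c, KZero.clSub, dif_pos (show P M from hM), dif_pos (show P N from hN), dif_pos (show P L from hL)]
    rw [← sub_eq_zero, ← sub_sub]
    exact (QuotientAddGroup.eq_zero_iff _).2 (AddSubgroup.subset_closure ⟨_, hN, hM, hL, hS, rfl⟩)
  let a := c (ModuleCat.of A A)
  have hfree : ∀ (n : ℕ) (M : ModuleCat.{u} A), (M ≃ₗ[A] (Fin n → A)) → c M = (n : ℤ) • a := by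
    intro n
    induction n with
    | zero =>
      intro M e
      haveI : Module.Finite A M := Module.Finite.equiv e.symm
      haveI : Subsingleton M := e.toEquiv.subsingleton
      have := hrel M (N := M) (L := M) LinearMap.id LinearMap.id Function.injective_id Function.surjective_id
        (fun x => ⟨fun _ => ⟨x, rfl⟩, fun _ => Subsingleton.elim _ _⟩)
      simpa using this
    | succ n ih =>
      intro M e
      haveI : Module.Finite A M := Module.Finite.equiv e.symm
      let f : A →ₗ[A] M := e.symm.toLinearMap ∘ₗ LinearMap.single A (fun _ : Fin (n + 1) => A) 0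
      let g : M →ₗ[A] (Fin n → A) := LinearMap.funLeft A A Fin.succ ∘ₗ e.toLinearMap
      rw [hrel M (N := ModuleCat.of A A) (L := ModuleCat.of A (Fin n → A)) f g ?_ ?_ ?_,
        ih (ModuleCat.of A (Fin n → A)) (LinearEquiv.refl A _)]
      · push_cast
        rw [add_zsmul, one_zsmul, add_comm]
      · exact e.symm.injective.comp (Pi.single_injective (M := fun _ : Fin (n + 1) => A) 0)
      · exact (LinearMap.funLeft_surjective_of_injective A A _ (Fin.succ_injective n)).comp e.surjective
      · intro x
        constructor
        · intro hx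
          refine ⟨e x 0, e.injective ?_⟩
          show e (e.symm (Pi.single 0 (e x 0))) = e x
          rw [LinearEquiv.apply_symm_apply]
          funext i
          refine Fin.cases (by simp) (fun j => ?_) i
          rw [Pi.single_eq_of_ne (Fin.succ_ne_zero j)]
          exact (congrFun hx j).symm
        · rintro ⟨y, rfl⟩
          funext j
          show e (e.symm (Pi.single 0 y)) j.succ = 0
          rw [LinearEquiv.apply_symm_apply, Pi.single_eq_of_ne (Fin.succ_ne_zero j)]
  let r : Subtype P → ℤ := fun M => (Module.finrank A M.1 : ℤ)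
  have hr : KZero.relSub P ≤ (FreeAbelianGroup.lift r).ker := by
    refine (AddSubgroup.closure_le _).2 ?_
    rintro _ ⟨S, h₁, h₂, h₃, hS, rfl⟩
    haveI : Module.Finite A S.X₁ := h₁
    haveI : Module.Finite A S.X₂ := h₂
    haveI : Module.Finite A S.X₃ := h₃
    have hex := (ShortComplex.ShortExact.moduleCat_exact_iff_function_exact _).1 hS.exact
    have hinj := (ModuleCat.mono_iff_injective _).1 hS.mono_f
    have hsur := (ModuleCat.epi_iff_surjective _).1 hS.epi_g
    have e1 := Submodule.finrank_quotient_add_finrank (LinearMap.range S.f.hom)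
    rw [LinearMap.finrank_range_of_inj hinj] at e1
    have e2 : Module.finrank A (S.X₂ ⧸ LinearMap.range S.f.hom) = Module.finrank A S.X₃ := (hex.linearEquivOfSurjective hsur).finrank_eq
    rw [e2] at e1
    simp only [SetLike.mem_coe, AddMonoidHom.mem_ker, map_sub, FreeAbelianGroup.lift_apply_of, r]
    omega
  let rk : KZero.K0sub P →+ ℤ := QuotientAddGroup.lift _ (FreeAbelianGroup.lift r) hr
  have hone : rk a = 1 := by
    have hA : P (ModuleCat.of A A) := (inferInstance : Module.Finite A A)
    simp only [a, c, KZero.clSub, dif_pos hA, rk]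
    show FreeAbelianGroup.lift r (FreeAbelianGroup.of _) = 1
    rw [FreeAbelianGroup.lift_apply_of]
    simp [r]
  refine ⟨fun k l h => ?_, fun z => ?_⟩
  · have := congrArg rk h
    simp only [map_zsmul] at this
    rw [show rk (KZero.clSub _ (ModuleCat.of A A)) = 1 from hone] at this
    simpa using this
  · suffices z ∈ AddSubgroup.zmultiples a from AddSubgroup.mem_zmultiples_iff.1 this
    obtain ⟨y, rfl⟩ := QuotientAddGroup.mk_surjective z
    induction y using FreeAbelianGroup.induction_on with
    | zero => exact zero_mem _
    | neg X hX => exact neg_mem hX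
    | add x y hx hy => exact add_mem hx hy
    | of M =>
      obtain ⟨M, hM⟩ := M
      haveI : Module.Finite A M := hM
      obtain ⟨n, p, hp⟩ := Module.Finite.exists_fin' A M
      obtain ⟨m, b⟩ := Submodule.basisOfPid (Pi.basisFun A (Fin n)) (LinearMap.ker p)
      have h := hrel (ModuleCat.of A (Fin n → A)) (N := ModuleCat.of A (LinearMap.ker p)) (L := M)
        (LinearMap.ker p).subtype p Subtype.val_injective hp (LinearMap.exact_subtype_ker_map p)
      rw [hfree n (ModuleCat.of A (Fin n → A)) (LinearEquiv.refl A _), hfree m (ModuleCat.of A (LinearMap.ker p)) b.equivFun] at h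
      have : c M = (n : ℤ) • a - (m : ℤ) • a := by rw [h]; abel
      have hc : c M = QuotientAddGroup.mk (FreeAbelianGroup.of ⟨M, hM⟩) := dif_pos hM
      rw [← hc, this]
      exact sub_mem (AddSubgroup.zsmul_mem_zmultiples _ _) (AddSubgroup.zsmul_mem_zmultiples _ _)

end Groth.Agent.S3194
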