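import Groth.Statements.S3198
import Groth.Agent.K0Hom.GenSurj

set_option autoImplicit false
set_option backward.isDefEq.respectTransparency false
set_option backward.isDefEq.respectTransparency.types false
universe u
open CategoryTheory CategoryTheory.Limits AlgebraicGeometry
attribute [local instance] HasDerivedCategory.standard
open SGA6

namespace Groth.Agent.S3198

/-- Let f : X ⟶ S be a flat morphism of Noetherian schemes such that for every point s of S the map ℤ ⟶
K₀(Coh X_s), k ↦ k·[O_{X_s}], is bijective. Pullback along f is exact (instance hypotheses) and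
preserves coherence (hypothesis hf); the induced homomorphism f^* : K₀(Coh S) ⟶ K₀(Coh X) is
surjective. (The source adds that f^* is bijective when f has a section of finite tor-dimension.) -/
theorem result {X S : Scheme.{u}} [IsNoetherian X] [IsNoetherian S] (f : X ⟶ S) [Flat f]
    [(Scheme.Modules.pullback f).Additive] [PreservesFiniteLimits (Scheme.Modules.pullback f)] [PreservesFiniteColimits (Scheme.Modules.pullback f)]
    (hf : ∀ M : S.Modules, Coh.IsCoh M → Coh.IsCoh ((Scheme.Modules.pullback f).obj M))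
    (hfib : ∀ s : S, Function.Bijective (fun k : ℤ => k • KZero.clSub (fun M : (f.fiber s).Modules => Coh.IsCoh M) (Coh.structureModule (f.fiber s)))) :
    Function.Surjective (SGA6.mapSub (Scheme.Modules.pullback f) (fun M : (S).Modules => Coh.IsCoh M) (fun M : (X).Modules => Coh.IsCoh M) hf) := by
  have hfl : FlatMod.IsFinLocFree (Coh.structureModule X) := Groth.Agent.ResDesc.isFinLocFree_structureModule X
  have hgen : Groth.Agent.K0Hom.FibGen f (fun _ : Fin 1 => Coh.structureModule X) := fun s => by
    rw [eq_top_iff]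
    intro w _
    obtain ⟨k, rfl⟩ := (hfib s).2 w
    show k • KZero.clSub (fun M : (f.fiber s).Modules => Coh.IsCoh M) (Coh.structureModule (f.fiber s)) ∈ _
    refine AddSubgroup.zsmul_mem _ (AddSubgroup.subset_closure (Set.mem_range.2 ⟨(0 : Fin 1), ?_⟩)) k
    exact Groth.Agent.K0Dev.cl_iso (fun _ _ e h => Groth.Agent.K0Coh.isCoh_of_iso e h) (fun _ h => have hM : Coh.IsCoh ((Scheme.Modules.pullback (f.fiberι s)).obj (Coh.structureModule X)) := Groth.Agent.QC.isCoh_pullback _ (Groth.Agent.K0Coh.isCoh_of_isFinLocFree hfl)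
      Groth.Agent.K0Coh.isCoh_of_iso ((Limits.isZero_cokernel_of_epi (𝟙 _)).iso h) (Groth.Agent.QC.isCoh_cokernel hM.1 hM (𝟙 _))) (Groth.Agent.DerPerf.pullUnitIso (f.fiberι s))
  intro y
  obtain ⟨x, hx⟩ := Groth.Agent.K0Hom.surjective_sumGen (f := f) (fun _ => hfl) hgen y
  refine ⟨x 0, Eq.trans ?_ hx⟩
  rw [Groth.Agent.K0Hom.sumGen_apply, Fin.sum_univ_one]
  refine DFunLike.congr_fun (Groth.Agent.K0Filt.hom_ext_cl _ fun M hM => ?_) (x 0)
  rw [Groth.Agent.K0Filt.mapSub_cl _ _ _ _ hM]
  refine (Eq.trans ?_ (Groth.Agent.K0Hom.genE_cl f _ hfl hM).symm)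
  exact Groth.Agent.K0Hom.clM_iso (TMul.leftUnitIso _).symm (hf M hM)

end Groth.Agent.S3198
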