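import Groth.Statements.S3207
-- import your own Groth.Agent.* helpers here
import Groth.Agent.SpQS.DegStrat
import Groth.Agent.UnibranchEtale.Components

set_option autoImplicit false
universe u
open CategoryTheory CategoryTheory.Limits AlgebraicGeometry
open SGA7

namespace Groth.Agent.S3207

/-- Let g : T -> S be locally quasi-finite, of finite presentation, separated and flat. If for every
maximal point s of S (a point with no proper generization) the fibre of g over s is either empty or
mapped isomorphically onto Spec κ(s) (rank at most 1), then g is an open immersion. -/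
theorem result {T S : Scheme.{u}} (g : T ⟶ S) [LocallyQuasiFinite g]
    [LocallyOfFinitePresentation g] [QuasiCompact g] [IsSeparated g] [Flat g]
    (h : ∀ s : S, (∀ t : S, t ⤳ s → t = s) →
      IsEmpty ↑(pullback g (S.fromSpecResidueField s)) ∨ IsIso (pullback.snd g (S.fromSpecResidueField s))) :
    IsOpenImmersion g := by
  have hlqf := ‹LocallyQuasiFinite g›
  have hfin : SpQS.FinFib g := fun y => IsFinite.of_locallyQuasiFinite _
  have hle : ∀ s : S, SpQS.fdeg g s ≤ 1 := by
    intro s
    by_contra hs
    obtain ⟨η, hη, hmax⟩ := UnibranchEtale.exists_generic (irreducibleComponent_mem_irreducibleComponents s)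
    have h2 : η ∈ {y | 2 ≤ SpQS.fdeg g y} :=
      (hη.specializes mem_irreducibleComponent).mem_open (SpQS.isOpen_le_fdeg g hfin 2) (by
        change 2 ≤ SpQS.fdeg g s
        omega)
    change 2 ≤ SpQS.fdeg g η at h2
    unfold SpQS.fdeg at h2
    haveI := hfin η
    rcases h η hmax with he | hi
    · have : Surjective (pullback.snd g (S.fromSpecResidueField η)) :=
        (Scheme.Hom.one_le_finrank_iff_surjective _).1 fun y => by
          rw [Subsingleton.elim y (IsLocalRing.closedPoint _)]
          exact le_trans one_le_two h2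
      obtain ⟨z, -⟩ := (pullback.snd g (S.fromSpecResidueField η)).surjective (IsLocalRing.closedPoint _)
      exact he.false z
    · have h3 := congrFun (Scheme.Hom.finrank_eq_one_of_isIso (pullback.snd g (S.fromSpecResidueField η)))
        (IsLocalRing.closedPoint _)
      have h4 := h2.trans h3.le
      change (2 : ℕ) ≤ 1 at h4
      omega
  have hW : IsOpen (Set.range g) := g.isOpenMap.isOpen_range
  let W : S.Opens := ⟨_, hW⟩
  have hsq := isPullback_morphismRestrict g W
  haveI : Surjective (g ∣_ W) := ⟨fun y => by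
    obtain ⟨x, hx⟩ := y.2
    refine ⟨⟨x, show g x ∈ W from hx.symm ▸ y.2⟩, W.ι.injective ?_⟩
    rw [← Scheme.Hom.comp_apply, morphismRestrict_ι, Scheme.Hom.comp_apply]
    exact hx⟩
  haveI : Flat (g ∣_ W) := IsZariskiLocalAtTarget.restrict ‹Flat g› W
  haveI : LocallyOfFinitePresentation (g ∣_ W) := IsZariskiLocalAtTarget.restrict ‹LocallyOfFinitePresentation g› W
  haveI : LocallyQuasiFinite (g ∣_ W) := IsZariskiLocalAtTarget.restrict hlqf W
  haveI : IsSeparated (g ∣_ W) := IsZariskiLocalAtTarget.restrict ‹IsSeparated g› W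
  have hfinW : SpQS.FinFib (g ∣_ W) := hfin.baseChange hsq.flip
  have heq : ∀ w, SpQS.fdeg (g ∣_ W) w = 1 := by
    intro w
    refine le_antisymm ((SpQS.fdeg_baseChange hfin hsq.flip w).trans_le (hle _)) ?_
    unfold SpQS.fdeg
    haveI := hfinW w
    haveI : Surjective (pullback.snd (g ∣_ W) (W.toScheme.fromSpecResidueField w)) :=
      MorphismProperty.pullback_snd (P := @Surjective) _ _ inferInstance
    exact (Scheme.Hom.one_le_finrank_iff_surjective _).2 inferInstance _
  haveI := SpQS.isFinite_of_fdeg_eq (g ∣_ W) hfinW 1 heq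
  haveI : IsIso (g ∣_ W) := (Scheme.Hom.isIso_iff_finrank_eq _).2
    (funext fun w => by rw [← SpQS.fdeg_of_isFinite, heq w, Pi.one_apply])
  haveI : IsIso (g ⁻¹ᵁ W).ι := by
    refine (isIso_iff_isOpenImmersion_and_surjective _).2 ⟨inferInstance, ⟨fun x => ⟨⟨x, ?_⟩, rfl⟩⟩⟩
    exact ⟨x, rfl⟩
  rw [← MorphismProperty.cancel_left_of_respectsIso @IsOpenImmersion (g ⁻¹ᵁ W).ι, ← morphismRestrict_ι]
  infer_instance

end Groth.Agent.S3207
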