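import Groth.Statements.S3208
import Mathlib.LinearAlgebra.FreeModule.PID
import Mathlib.Algebra.Ring.GeomSum
import Mathlib.Data.Nat.Choose.Dvd
import Mathlib.Tactic.Ring
import Mathlib.Tactic.LinearCombination
import Mathlib.Data.Nat.Factors
import Mathlib.RingTheory.Int.Basic
import Mathlib.RingTheory.Coprime.Lemmas


set_option autoImplicit false
set_option linter.style.haveILetI false

open SGA7

namespace Groth.Agent.S3208

theorem eq_zero_of_div (E : Type) [CommRing E] [NoZeroSMulDivisors ℤ E] [Module.Finite ℤ E] (l : ℕ) (hl : 2 ≤ l)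
    (z t : E) (h : z = (l : E) * t * z) : z = 0 := by
  classical
  haveI : Module.Free ℤ E := Module.free_of_finite_type_torsion_free'
  have hk : ∀ k : ℕ, ∃ w : E, z = ((l : ℤ) ^ k) • w := fun k => by
    induction k with
    | zero => exact ⟨z, by simp⟩
    | succ k ih =>
      obtain ⟨w, hw⟩ := ih
      refine ⟨t * w, ?_⟩
      rw [h]
      conv_lhs => rw [hw]
      simp only [zsmul_eq_mul, Int.cast_pow, Int.cast_natCast]
      ring
  let b := Module.Free.chooseBasis ℤ E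
  refine b.ext_elem fun i => ?_
  rw [map_zero, Finsupp.zero_apply]
  by_contra hne
  obtain ⟨w, hw⟩ := hk (b.repr z i).natAbs
  have hd : (l : ℤ) ^ (b.repr z i).natAbs ∣ b.repr z i := by
    conv_rhs => rw [hw, map_smul, Finsupp.smul_apply, smul_eq_mul]
    exact dvd_mul_right _ _
  have h1 := Nat.le_of_dvd (Int.natAbs_pos.2 hne) (Int.natAbs_dvd_natAbs.2 hd)
  rw [Int.natAbs_pow, Int.natAbs_natCast] at h1
  exact absurd h1 (not_le.2 ((b.repr z i).natAbs.lt_pow_self hl))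

theorem prime_order (E : Type) [CommRing E] [NoZeroSMulDivisors ℤ E] [Module.Finite ℤ E] (l a : ℕ) (hl : l.Prime)
    (ha : 1 ≤ a) (hla : l ≠ 2 ∨ 2 ≤ a) (w : E) (q : ℕ) (hq : q.Prime) (hw : w ^ q = 1)
    (hcong : ∃ x : E, w = 1 + (l : E) ^ a * x) : w = 1 := by
  classical
  obtain ⟨x, hx⟩ := hcong
  set y : E := (l : E) ^ a * x with hy
  have key : ∀ k : ℕ, ∃ s : E, (∑ i ∈ Finset.range k, w ^ i) = (k : E) + (k.choose 2 : ℕ) * y + y ^ 2 * s := by
    have hp : ∀ i : ℕ, ∃ s : E, w ^ i = 1 + (i : E) * y + y ^ 2 * s := fun i => by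
      induction i with
      | zero => exact ⟨0, by simp⟩
      | succ i ih =>
        obtain ⟨s, hs⟩ := ih
        refine ⟨(i : E) + s + y * s, ?_⟩
        rw [pow_succ, hs, hx]; push_cast; ring
    intro k
    induction k with
    | zero => exact ⟨0, by simp⟩
    | succ k ih =>
      obtain ⟨s, hs⟩ := ih
      obtain ⟨r, hr⟩ := hp k
      refine ⟨s + r, ?_⟩
      rw [Finset.sum_range_succ, hs, hr, Nat.choose_succ_succ', Nat.choose_one_right]
      push_cast; ring
  have h0 : (w - 1) * ∑ i ∈ Finset.range q, w ^ i = 0 := by rw [mul_geom_sum, hw, sub_self]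
  obtain ⟨s, hs⟩ := key q
  rw [hs] at h0
  refine sub_eq_zero.1 ?_
  set z := w - 1
  obtain ⟨b, rfl⟩ : ∃ b, a = b + 1 := ⟨a - 1, by omega⟩
  by_cases hql : q = l
  · subst hql
    obtain ⟨c, hc⟩ : ∃ c : E, (q.choose 2 : ℕ) * y = (q : E) ^ 2 * c := by
      rcases hla with h2 | h2
      · obtain ⟨j, hj⟩ := Nat.Prime.dvd_choose_self hl (by norm_num : 2 ≠ 0) (lt_of_le_of_ne hl.two_le (Ne.symm h2))
        exact ⟨(j : E) * (q : E) ^ b * x, by rw [hj, hy]; push_cast; ring⟩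
      · obtain ⟨d, rfl⟩ : ∃ d, b = d + 1 := ⟨b - 1, by omega⟩
        exact ⟨(q.choose 2 : ℕ) * (q : E) ^ d * x, by rw [hy]; ring⟩
    rw [hc, show y ^ 2 * s = (q : E) ^ 2 * ((q : E) ^ (2 * b) * x ^ 2 * s) by rw [hy]; ring] at h0
    have h1 : z * (1 + (q : E) * (c + (q : E) ^ (2 * b) * x ^ 2 * s)) = 0 := by
      have h2 : (q : ℤ) • (z * (1 + (q : E) * (c + (q : E) ^ (2 * b) * x ^ 2 * s))) = 0 := by
        rw [zsmul_eq_mul, Int.cast_natCast]; linear_combination h0
      exact (smul_eq_zero.1 h2).resolve_left (by exact_mod_cast hl.ne_zero)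
    exact eq_zero_of_div E q hl.two_le z (-(c + (q : E) ^ (2 * b) * x ^ 2 * s)) (by linear_combination h1)
  · obtain ⟨c, d, hcd⟩ : ∃ c d : ℤ, c * q + d * l = 1 :=
      Int.isCoprime_iff_nat_coprime.2 (by simpa using (Nat.coprime_primes hq hl).2 hql)
    have hcdE : (c : E) * q + (d : E) * l = 1 := by exact_mod_cast congrArg (Int.cast : ℤ → E) hcd
    refine eq_zero_of_div E l hl.two_le z ((d : E) - (c : E) * ((q.choose 2 : ℕ) * (l : E) ^ b * x + (l : E) ^ b * x * y * s)) ?_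
    rw [show y = (l : E) * ((l : E) ^ b * x) by rw [hy]; ring] at h0 ⊢
    linear_combination (c : E) * h0 - z * hcdE

theorem eq_one (E : Type) [CommRing E] [NoZeroSMulDivisors ℤ E] [Module.Finite ℤ E] (l a : ℕ) (hl : l.Prime)
    (ha : 1 ≤ a) (hla : l ≠ 2 ∨ 2 ≤ a) : ∀ (m : ℕ) (w : E), 0 < m → w ^ m = 1 →
      (∃ x : E, w = 1 + (l : E) ^ a * x) → w = 1 := by
  intro m
  induction m using Nat.strong_induction_on with
  | _ m ih =>
    intro w hm hw hc
    rcases eq_or_ne m 1 with rfl | h1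
    · simpa using hw
    obtain ⟨q, hq, k, rfl⟩ := Nat.exists_prime_and_dvd h1
    have hk : 0 < k := Nat.pos_of_mul_pos_left hm
    refine ih k (lt_mul_of_one_lt_left hk hq.one_lt) w hk ?_ hc
    refine prime_order E l a hl ha hla (w ^ k) q hq (by rw [← pow_mul, mul_comm]; exact hw) ?_
    obtain ⟨x, hx⟩ := hc
    clear hw ih hm hk h1
    induction k with
    | zero => exact ⟨0, by simp⟩
    | succ k ihk =>
      obtain ⟨y, hy⟩ := ihk
      exact ⟨x + y + (l : E) ^ a * x * y, by rw [pow_succ, hy, hx]; ring⟩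

theorem main (E : Type) [CommRing E] [NoZeroSMulDivisors ℤ E] [Module.Finite ℤ E] (u : E) (m : ℕ) (hm : 0 < m)
    (hu : u ^ m = 1) (n : ℕ) (hn : 2 ≤ n) (hcong : ∃ v : E, 1 - u = (n : E) * v) :
    u ^ 2 = 1 ∧ (3 ≤ n → u = 1) := by
  obtain ⟨v, hv⟩ := hcong
  have hd : ∀ l a : ℕ, l ^ a ∣ n → ∃ x : E, u = 1 + (l : E) ^ a * x := fun l a h => by
    obtain ⟨j, hj⟩ := h
    refine ⟨-((j : E) * v), ?_⟩
    rw [hj] at hv; push_cast at hv; linear_combination -hv
  have h3 : 3 ≤ n → u = 1 := fun h => by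
    rcases Nat.four_dvd_or_exists_odd_prime_and_dvd_of_two_lt (by omega : 2 < n) with h4 | ⟨l, hl, hdl, hodd⟩
    · exact eq_one E 2 2 Nat.prime_two (by omega) (Or.inr le_rfl) m u hm hu (hd 2 2 h4)
    · exact eq_one E l 1 hl le_rfl (Or.inl fun e => Nat.not_even_iff_odd.2 hodd (e ▸ even_two)) m u hm hu (hd l 1 (by simpa using hdl))
  refine ⟨?_, h3⟩
  rcases Nat.lt_or_ge n 3 with h | h
  · obtain rfl : n = 2 := by omega
    obtain ⟨x, hx⟩ := hd 2 1 (by simp)
    exact eq_one E 2 2 Nat.prime_two (by omega) (Or.inr le_rfl) m (u ^ 2) hm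
      (by rw [← pow_mul, mul_comm, pow_mul, hu, one_pow]) ⟨x + x ^ 2, by rw [hx]; push_cast; ring⟩
  · rw [h3 h, one_pow]


/-- Let E be a commutative ring which is finitely generated and torsion-free as an additive group, u an
element of E of finite multiplicative order (u^m = 1 for some m > 0), and n ≥ 2 an integer with u ≡
1 modulo nE (i.e. 1 - u = n·v for some v ∈ E). Then u² = 1, and if n ≥ 3 then u = 1. -/
theorem result (E : Type) [CommRing E] [NoZeroSMulDivisors ℤ E] [Module.Finite ℤ E] (u : E) (m : ℕ) (hm : 0 < m)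
    (hu : u ^ m = 1) (n : ℕ) (hn : 2 ≤ n) (hcong : ∃ v : E, 1 - u = (n : E) * v) :
    u ^ 2 = 1 ∧ (3 ≤ n → u = 1) := by
  exact Groth.Agent.S3208.main E u m hm hu n hn hcong

end Groth.Agent.S3208
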