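import Groth.Statements.S3209


set_option autoImplicit false
universe u
open TensorProduct
open SGA7

namespace Groth.Agent.S3209

/-- Let f : B' → B be a surjective map of R-algebras with kernel J, g : C → B a map of R-algebras, P =
B' ×_B C their fibre product (the equalizer of f ∘ pr₁ and g ∘ pr₂ in B' × C) and S an R-algebra
such that S ⊗_R J → S ⊗_R B' is injective (this holds when Tor_1^R(B, S) = 0, the published
hypothesis, and in particular when S is flat). Then the canonical map S ⊗_R P → (S ⊗_R B') ×_{S ⊗_R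
B} (S ⊗_R C) is bijective: it is injective, and every pair with the same image in S ⊗_R B comes from
S ⊗_R P. -/
theorem result (R B' B C S : Type u) [CommRing R] [CommRing B'] [CommRing B] [CommRing C]
    [CommRing S] [Algebra R B'] [Algebra R B] [Algebra R C] [Algebra R S]
    (f : B' →ₐ[R] B) (hf : Function.Surjective f) (g : C →ₐ[R] B)
    (hJ : Function.Injective (LinearMap.lTensor S (LinearMap.ker f.toLinearMap).subtype)) :
    letI P := AlgHom.equalizer (f.comp (AlgHom.fst R B' C)) (g.comp (AlgHom.snd R B' C))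
    letI φ₁ := Algebra.TensorProduct.map (AlgHom.id R S) ((AlgHom.fst R B' C).comp P.val)
    letI φ₂ := Algebra.TensorProduct.map (AlgHom.id R S) ((AlgHom.snd R B' C).comp P.val)
    Function.Injective (fun z : S ⊗[R] ↥P => (φ₁ z, φ₂ z)) ∧
    ∀ (x : S ⊗[R] B') (y : S ⊗[R] C),
      Algebra.TensorProduct.map (AlgHom.id R S) f x = Algebra.TensorProduct.map (AlgHom.id R S) g y →
        ∃ z : S ⊗[R] ↥P, φ₁ z = x ∧ φ₂ z = y := by
  let P := AlgHom.equalizer (f.comp (AlgHom.fst R B' C)) (g.comp (AlgHom.snd R B' C))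
  let φ₁ := Algebra.TensorProduct.map (AlgHom.id R S) ((AlgHom.fst R B' C).comp P.val)
  let φ₂ := Algebra.TensorProduct.map (AlgHom.id R S) ((AlgHom.snd R B' C).comp P.val)
  show Function.Injective (fun z : S ⊗[R] ↥P => (φ₁ z, φ₂ z)) ∧
    ∀ (x : S ⊗[R] B') (y : S ⊗[R] C),
      Algebra.TensorProduct.map (AlgHom.id R S) f x = Algebra.TensorProduct.map (AlgHom.id R S) g y →
        ∃ z : S ⊗[R] ↥P, φ₁ z = x ∧ φ₂ z = y
  let p₁ : ↥P →ₗ[R] B' := ((AlgHom.fst R B' C).comp P.val).toLinearMap
  let p₂ : ↥P →ₗ[R] C := ((AlgHom.snd R B' C).comp P.val).toLinearMap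
  have hap : ∀ {D E : Type u} [CommRing D] [CommRing E] [Algebra R D] [Algebra R E] (h : D →ₐ[R] E) (z : S ⊗[R] D),
      Algebra.TensorProduct.map (AlgHom.id R S) h z = LinearMap.lTensor S h.toLinearMap z := by
    intro D E _ _ _ _ h z
    induction z using TensorProduct.induction_on with
    | zero => simp
    | tmul s d => simp
    | add a b ha hb => rw [map_add, map_add, ha, hb]
  have h₁ : ∀ z, φ₁ z = LinearMap.lTensor S p₁ z := hap _
  have h₂ : ∀ z, φ₂ z = LinearMap.lTensor S p₂ z := hap _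
  let ι : LinearMap.ker f.toLinearMap →ₗ[R] ↥P :=
    { toFun := fun j => ⟨((j : B'), 0), (AlgHom.mem_equalizer _ _ _).2 (j.2.trans (map_zero g).symm)⟩
      map_add' := fun a b => Subtype.ext (Prod.ext rfl (add_zero 0).symm)
      map_smul' := fun r a => Subtype.ext (Prod.ext rfl (smul_zero r).symm) }
  have hsurj : Function.Surjective p₂ := fun c => by
    obtain ⟨b, hb⟩ := hf (g c)
    exact ⟨⟨(b, c), (AlgHom.mem_equalizer _ _ _).2 hb⟩, rfl⟩
  have hex : Function.Exact ι p₂ := fun x => by
    refine ⟨fun hx => ⟨⟨x.1.1, ?_⟩, Subtype.ext (Prod.ext rfl hx.symm)⟩, ?_⟩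
    · rw [LinearMap.mem_ker]
      have := (AlgHom.mem_equalizer _ _ _).1 x.2
      exact (this.trans (congrArg g hx)).trans (map_zero g)
    · rintro ⟨j, rfl⟩
      rfl
  have hS := lTensor_exact S hex hsurj
  have hι : ∀ w, LinearMap.lTensor S p₁ (LinearMap.lTensor S ι w) =
      LinearMap.lTensor S (LinearMap.ker f.toLinearMap).subtype w := fun w => by
    rw [← LinearMap.comp_apply, ← LinearMap.lTensor_comp]
    rfl
  refine ⟨fun z z' h => ?_, fun x y h => ?_⟩
  · have e₁ : φ₁ z = φ₁ z' := congrArg Prod.fst h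
    have e₂ : φ₂ z = φ₂ z' := congrArg Prod.snd h
    rw [h₁, h₁] at e₁
    rw [h₂, h₂] at e₂
    obtain ⟨w, hw⟩ := (hS (z - z')).1 (by rw [map_sub, e₂, sub_self])
    have hw0 : LinearMap.lTensor S (LinearMap.ker f.toLinearMap).subtype w = 0 := by
      rw [← hι, hw, map_sub, e₁, sub_self]
    rw [← sub_eq_zero, ← hw, hJ (hw0.trans (map_zero _).symm), map_zero]
  · obtain ⟨z, hz⟩ := LinearMap.lTensor_surjective S hsurj y
    have hker : Function.Exact (LinearMap.ker f.toLinearMap).subtype f.toLinearMap :=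
      LinearMap.exact_subtype_ker_map _
    have hc : LinearMap.lTensor S f.toLinearMap (LinearMap.lTensor S p₁ z) =
        LinearMap.lTensor S g.toLinearMap (LinearMap.lTensor S p₂ z) := by
      rw [← LinearMap.comp_apply, ← LinearMap.lTensor_comp, ← LinearMap.comp_apply, ← LinearMap.lTensor_comp]
      congr 2
      exact LinearMap.ext fun v => (AlgHom.mem_equalizer _ _ _).1 v.2
    rw [hap, hap] at h
    obtain ⟨w, hw⟩ := (lTensor_exact S hker hf (x - LinearMap.lTensor S p₁ z)).1 (by
      rw [map_sub, hc, hz, h, sub_self])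
    refine ⟨z + LinearMap.lTensor S ι w, ?_, ?_⟩
    · rw [h₁, map_add, hι, hw, add_sub_cancel]
    · rw [h₂, map_add, hz, (hS _).2 ⟨w, rfl⟩, add_zero]

end Groth.Agent.S3209
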