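import Groth.Statements.S3210
import Groth.Agent.TorsInertia.Core
import Groth.Agent.Rigid.Integral
import Groth.Agent.Rigid.Smooth

set_option backward.isDefEq.respectTransparency false
set_option backward.isDefEq.respectTransparency.types false

set_option autoImplicit false
universe u
open CategoryTheory CategoryTheory.Limits AlgebraicGeometry MonObj
open SGA7
open MonoidalCategory CartesianMonoidalCategory
open scoped CategoryTheory.Obj

namespace Groth.Agent.S3210

/-- Direction (i) ⇒ (v bis) of the Néron–Ogg–Chafarévitch criterion (only this direction of the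
criterion is stated): let R be a discrete valuation ring with fraction field K and residue
characteristic different from the prime ℓ, Ω a separable closure of K, W a valuation subring of Ω
lying over R, and A an abelian variety over K (a proper, geometrically integral group scheme). If A
extends to an abelian scheme over R (a proper smooth group scheme over Spec R with connected
geometric fibres whose generic fibre is K-isomorphic to A), then for every ν every element of the
inertia group at W fixes all the ℓ^ν-torsion Ω-points of A. -/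
theorem result (R K Ω : Type u) [CommRing R] [IsDomain R] [IsDiscreteValuationRing R] [Field K]
    [Algebra R K] [IsFractionRing R K] [Field Ω] [Algebra K Ω] [IsSepClosure K Ω]
    (W : ValuationSubring Ω) (hW : SGA7.LiesOver K R W) (ℓ : ℕ) (hℓ : ℓ.Prime) (hℓp : (ℓ : IsLocalRing.ResidueField R) ≠ 0)
    (A : Over (Spec (CommRingCat.of K))) [GrpObj A] [IsProper A.hom] [GeometricallyIntegral A.hom]
    (hgood : (∃ (B : Over (Spec (CommRingCat.of R))) (_ : GrpObj B), IsProper B.hom ∧ Smooth B.hom ∧
        (∀ (k' : Type u) [Field k'] (t : Spec (CommRingCat.of k') ⟶ Spec (CommRingCat.of R)), ConnectedSpace ↑(pullback B.hom t)) ∧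
        Nonempty ((Over.pullback (Spec.map (CommRingCat.ofHom (algebraMap R K)))).obj B ≅ A))) :
    ∀ (ν : ℕ) (σ : Ω ≃ₐ[K] Ω), SGA7.IsInertia W σ → ∀ x : SGA7.Pts Ω A, x ^ (ℓ ^ ν) = 1 → SGA7.galAct σ x = x := by
  obtain ⟨B, hBg, hBp, hBs, hBc, ⟨e⟩⟩ := hgood
  intro ν σ hσ x hx
  haveI := hBp
  haveI := hBs
  haveI : GeometricallyConnected B.hom := ⟨fun L _ t Z fst snd h => by
    haveI := hBc L t
    exact h.isoPullback.inv.homeomorph.surjective.connectedSpace h.isoPullback.inv.continuous⟩
  haveI : IsCommMonObj B := Groth.Agent.Rigid.isCommMonObj_of_goodFibres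
    (Groth.Agent.Rigid.goodFibres_of_smooth B.hom) Groth.Agent.Rigid.isPreconnected_fibre
  let A' := (Over.pullback (Spec.map (CommRingCat.ofHom (algebraMap R K)))).obj B
  letI : GrpObj A' := inferInstanceAs (GrpObj ((Over.pullback (Spec.map (CommRingCat.ofHom (algebraMap R K)))).obj B))
  haveI : IsSeparated A'.hom :=
    inferInstanceAs (IsSeparated (pullback.snd B.hom (Spec.map (CommRingCat.ofHom (algebraMap R K)))))
  let h : A ⟶ A' := e.inv * (toUnit A ≫ (η[A] ≫ e.inv))⁻¹
  have hh : η[A] ≫ h = η[A'] := by
    rw [MonObj.comp_mul, GrpObj.comp_inv, ← Category.assoc η[A] (toUnit A),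
      toUnit_unique (η[A] ≫ toUnit A) (𝟙 _), Category.id_comp, mul_inv_cancel, Hom.one_def,
      toUnit_unique (toUnit _) (𝟙 _), Category.id_comp]
  haveI : Flat A.hom := inferInstance
  haveI : LocallyOfFinitePresentation A.hom := inferInstance
  haveI : IsMonHom h := Groth.Agent.Rigid.isMonHom_of_unit
    (Groth.Agent.Rigid.goodFibres_of_geometricallyIntegral A.hom)
    (Groth.Agent.Rigid.isPreconnected_fibre_of_geometricallyIntegral A.hom) h hh
  have hn : IsUnit ((ℓ ^ ν : ℕ) : R) := by
    rw [Nat.cast_pow]
    refine IsUnit.pow _ ?_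
    by_contra hu
    exact hℓp (by rw [← map_natCast (IsLocalRing.residue R)]; exact Ideal.Quotient.eq_zero_iff_mem.mpr hu)
  have hy : (x ≫ h) ^ (ℓ ^ ν) = 1 := by
    rw [← MonObj.pow_comp, hx, MonObj.one_comp]
  have hfix := Groth.Agent.TorsInertia.fixed hW B hn hσ (x ≫ h) hy
  rw [SGA7.galAct] at hfix ⊢
  rw [← Category.assoc] at hfix
  have hsplit : ∀ z : SGA7.Pts Ω A, z ≫ e.inv = (z ≫ h) * (toUnit (SGA7.pt Ω) ≫ η[A] ≫ e.inv) := fun z => by
    rw [MonObj.comp_mul, GrpObj.comp_inv, ← Category.assoc z (toUnit A), comp_toUnit,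
      inv_mul_cancel_right]
  refine (cancel_mono e.inv).mp ?_
  rw [hsplit, hsplit, hfix]

end Groth.Agent.S3210
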