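import Groth.Statements.S3211
import Groth.Agent.NeronGrp.Transfer
import Groth.Agent.S18483
import Groth.Agent.S11098
import Groth.Agent.S17449

set_option backward.isDefEq.respectTransparency false
set_option backward.isDefEq.respectTransparency.types false

set_option autoImplicit false
universe u
open CategoryTheory CategoryTheory.Limits AlgebraicGeometry MonObj
open SGA7

namespace Groth.Agent.S3211

open MonoidalCategory CartesianMonoidalCategory in
/-- A Néron model of a group scheme is a group scheme. -/
theorem exists_grpObj {R : Type u} [CommRing R] [IsDomain R]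
    {A : Over (Spec (CommRingCat.of (FractionRing R)))} [GrpObj A]
    {N : Over (Spec (CommRingCat.of R))} {e : (Neron.genericFibre R).obj N ≅ A}
    (hN : Neron.IsNeronModelOf R N A e) : Nonempty (GrpObj N) := by
  haveI : Smooth N.hom := hN.1
  have hprod : ∀ Y Z : Over (Spec (CommRingCat.of R)), Smooth Y.hom → Smooth Z.hom → Smooth (Y ⊗ Z).hom :=
    fun Y Z _ _ => inferInstanceAs (Smooth (pullback.fst Y.hom Z.hom ≫ Y.hom))
  have h0 : Smooth (𝟙_ (Over (Spec (CommRingCat.of R)))).hom :=
    inferInstanceAs (Smooth (𝟙 (Spec (CommRingCat.of R))))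
  exact ⟨Groth.Agent.NeronGrp.grpObjOfBijective (Neron.genericFibre R) e.hom (fun Y => Smooth Y.hom)
    hN.2.2.2.2 h0 inferInstance (hprod _ _ inferInstance inferInstance)
    (hprod _ _ (hprod _ _ inferInstance inferInstance) inferInstance)
    (hprod _ _ h0 inferInstance) (hprod _ _ inferInstance h0)⟩

/-- Base change in two steps. -/
theorem geometricallyConnected_pullback_snd {X S T T' : Scheme.{u}} (f : X ⟶ S) (g : T ⟶ S) (r : T' ⟶ T)
    (g' : T' ⟶ S) (h : r ≫ g = g') [GeometricallyConnected (pullback.snd f g)] :
    GeometricallyConnected (pullback.snd f g') := by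
  subst h
  exact MorphismProperty.of_isPullback (P := @GeometricallyConnected)
    (IsPullback.of_right' (IsPullback.of_hasPullback f (r ≫ g)) (IsPullback.of_hasPullback f g)) inferInstance

/-- A field-valued point over the generic point factors through the function field. -/
theorem exists_lift_genPt {R : Type u} [CommRing R] [IsDomain R] (L : Type u) [Field L] (φ : R →+* L)
    (h : Function.Injective φ) : ∃ r : Spec (CommRingCat.of L) ⟶ Spec (CommRingCat.of (FractionRing R)),
      r ≫ Neron.genPt R = Spec.map (CommRingCat.ofHom φ) := by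
  refine ⟨Spec.map (CommRingCat.ofHom (IsFractionRing.lift h)), ?_⟩
  rw [← Spec.map_comp, ← CommRingCat.ofHom_comp]
  exact congrArg (fun k => Spec.map (CommRingCat.ofHom k)) (RingHom.ext (IsFractionRing.lift_algebraMap h))

/-- Geometric connectedness of every fibre of a proper Néron model of an abelian variety. -/
theorem geometricallyConnected_of_isProper {R : Type u} [CommRing R] [IsDomain R] [IsNoetherianRing R]
    (N : Over (Spec (CommRingCat.of R))) [GrpObj N] [IsProper N.hom] [Smooth N.hom]
    [GeometricallyConnected ((Neron.genericFibre R).obj N).hom] :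
    GeometricallyConnected N.hom := by
  haveI : Surjective N.hom := ⟨fun x => ⟨(η[N]).left x, by
    rw [← Scheme.Hom.comp_apply, Over.w (η[N])]; rfl⟩⟩
  refine Groth.Agent.S17449.result N.hom fun Z ξ hZ hξ =>
    ⟨?_, MorphismProperty.pullback_snd (P := @Smooth) _ _ inferInstance⟩
  have hZu : Z = Set.univ := by
    rw [irreducibleComponents_eq_singleton] at hZ; exact hZ
  subst hZu
  let φ : CommRingCat.of R ⟶ (Spec (CommRingCat.of R)).residueField ξ :=
    Spec.preimage ((Spec (CommRingCat.of R)).fromSpecResidueField ξ)
  have hφ : Spec.map φ = (Spec (CommRingCat.of R)).fromSpecResidueField ξ := Spec.map_preimage _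
  have hker : RingHom.ker φ.hom = ⊥ := by
    have h1 : PrimeSpectrum.comap φ.hom (⊥ : PrimeSpectrum _) = ξ := by
      have := Scheme.fromSpecResidueField_apply ξ (⊥ : PrimeSpectrum _)
      rw [← hφ] at this
      exact this
    have h2 : (ξ : PrimeSpectrum R).asIdeal ≤ ⊥ := by
      have := (PrimeSpectrum.le_iff_specializes ξ (⊥ : PrimeSpectrum R)).mpr
        (hξ.specializes (Set.mem_univ _))
      exact this
    exact le_bot_iff.mp ((le_of_eq (congrArg PrimeSpectrum.asIdeal h1)).trans h2)
  have hinj : Function.Injective φ.hom := (RingHom.injective_iff_ker_eq_bot _).mpr hker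
  obtain ⟨r, hr⟩ := exists_lift_genPt ((Spec (CommRingCat.of R)).residueField ξ) φ.hom hinj
  rw [CommRingCat.ofHom_hom] at hr
  replace hr := hr.trans hφ
  haveI : GeometricallyConnected (pullback.snd N.hom (Neron.genPt R)) :=
    ‹GeometricallyConnected ((Neron.genericFibre R).obj N).hom›
  exact geometricallyConnected_pullback_snd N.hom (Neron.genPt R) r _ hr

/-- (i) ⟺ (iv): let R be a discrete valuation ring with fraction field K, A an abelian variety over K (a
proper, geometrically integral group scheme) and N a Néron model of A over Spec R. Then A extends to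
an abelian scheme over R (a proper smooth group scheme with connected geometric fibres and generic
fibre K-isomorphic to A) if and only if N is proper over Spec R. -/
theorem result (R : Type u) [CommRing R] [IsDomain R] [IsDiscreteValuationRing R]
    (A : Over (Spec (CommRingCat.of (FractionRing R)))) [GrpObj A] [IsProper A.hom] [GeometricallyIntegral A.hom]
    (N : Over (Spec (CommRingCat.of R))) (e : (Neron.genericFibre R).obj N ≅ A) (hN : Neron.IsNeronModelOf R N A e) :
    (∃ (B : Over (Spec (CommRingCat.of R))) (_ : GrpObj B), IsProper B.hom ∧ Smooth B.hom ∧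
        (∀ (k' : Type u) [Field k'] (t : Spec (CommRingCat.of k') ⟶ Spec (CommRingCat.of R)), ConnectedSpace ↑(pullback B.hom t)) ∧
        Nonempty ((Over.pullback (Spec.map (CommRingCat.ofHom (algebraMap R (FractionRing R))))).obj B ≅ A)) ↔ IsProper N.hom := by
  constructor
  · rintro ⟨B, _, hBp, hBs, -, ⟨eB⟩⟩
    haveI := hBp
    haveI := hBs
    obtain ⟨h1, h2, h3, h4, h5⟩ := Groth.Agent.S18483.result R B
    have hB : Neron.IsNeronModelOf R B A eB := by
      refine ⟨h1, h2, h3, h4, fun Y hY => ?_⟩
      have := (show Function.Bijective fun f : (Neron.genericFibre R).obj Y ⟶ _ => f ≫ eB.hom from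
        ⟨fun a b h => (cancel_mono eB.hom).mp h, fun f => ⟨f ≫ eB.inv, by simp⟩⟩).comp (h5 Y hY)
      simpa [Function.comp_def] using this
    obtain ⟨⟨ψ, hψ, -⟩, hiso⟩ := Groth.Agent.S11098.result R A N B e eB hN hB
    haveI := hiso ψ hψ
    rw [← Over.w ψ]
    haveI : IsIso ψ.left := inferInstanceAs (IsIso ((Over.forget _).map ψ))
    infer_instance
  · intro hp
    obtain ⟨hG⟩ := exists_grpObj hN
    haveI : Smooth N.hom := hN.1
    haveI : GeometricallyConnected A.hom := ⟨fun K _ y Y fst snd h => by
      haveI := GeometricallyIntegral.geometrically_isIntegral (f := A.hom) y fst snd h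
      infer_instance⟩
    haveI : GeometricallyConnected ((Neron.genericFibre R).obj N).hom := by
      rw [← Over.w e.hom]
      exact (MorphismProperty.cancel_left_of_respectsIso @GeometricallyConnected _ _).mpr inferInstance
    haveI := geometricallyConnected_of_isProper N
    exact ⟨N, hG, hp, hN.1, fun k' _ t => GeometricallyConnected.geometrically_connectedSpace
      (f := N.hom) t _ _ (IsPullback.of_hasPullback N.hom t), ⟨e⟩⟩

end Groth.Agent.S3211
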