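import Groth.Statements.S3214
import Mathlib

set_option autoImplicit false
open Polynomial
universe u
open SGA7II

namespace Groth.Agent.S3214

/-- In the recursive form established in its proof: let A = Z[X_1, ..., X_a] (a >= 1), P = prod_i (T -
X_i) in A[T] and S_i the i-th elementary symmetric function. Writing a_j for the coefficient of
T^{a-1} in the remainder of T^{a-1+j} modulo P, one has a_0 = 1 and sum_{i=0}^{a} (-1)^i S_i a_{j-i}
= 0 for every j > 0 (with a_m = 0 for m < 0); equivalently sum_j (-1)^j a_j is the inverse of sum_i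
S_i. (The source works in formal power series; the identity involves only polynomials.) -/
theorem result (a : ℕ) (ha : 0 < a) :
    let P : (MvPolynomial (Fin a) ℤ)[X] := ∏ i : Fin a, (X - C (MvPolynomial.X i))
    let coef : ℤ → MvPolynomial (Fin a) ℤ := fun j =>
      if j < 0 then 0 else ((X : (MvPolynomial (Fin a) ℤ)[X]) ^ (a - 1 + j.toNat) %ₘ P).coeff (a - 1)
    coef 0 = 1 ∧ ∀ j : ℕ, 0 < j →
      (∑ i ∈ Finset.range (a + 1), (-1 : MvPolynomial (Fin a) ℤ) ^ i * MvPolynomial.esymm (Fin a) ℤ i *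
        coef ((j : ℤ) - i)) = 0 := by
  intro P coef
  have hm : P.Monic := monic_prod_of_monic _ _ fun i _ ↦ monic_X_sub_C _
  have hdeg : P.natDegree = a := by
    rw [natDegree_prod_of_monic _ _ fun i _ ↦ monic_X_sub_C _]
    simp only [natDegree_X_sub_C, Finset.sum_const, Finset.card_univ, Fintype.card_fin, smul_eq_mul, mul_one]
  have hlow : ∀ n, n < a → ((X : (MvPolynomial (Fin a) ℤ)[X]) ^ n %ₘ P) = X ^ n := fun n hn ↦
    (modByMonic_eq_self_iff hm).mpr (by
      rw [degree_X_pow, degree_eq_natDegree hm.ne_zero, hdeg]; exact_mod_cast hn)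
  let L : (MvPolynomial (Fin a) ℤ)[X] →ₗ[MvPolynomial (Fin a) ℤ] MvPolynomial (Fin a) ℤ :=
    (lcoeff _ (a - 1)).comp (modByMonicHom P)
  have hL : ∀ (j i : ℕ), 0 < j → i ≤ a → coef ((j : ℤ) - i) = L (X ^ (j - 1 + (a - i))) := fun j i hj hi ↦ by
    show (if _ then _ else _) = (X ^ (j - 1 + (a - i)) %ₘ P).coeff (a - 1)
    split_ifs with h
    · rw [hlow _ (by omega), coeff_X_pow, if_neg (by omega)]
    · rw [show a - 1 + ((j : ℤ) - i).toNat = j - 1 + (a - i) by omega]
  refine ⟨?_, fun j hj ↦ ?_⟩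
  · show (if _ then _ else _) = _
    rw [if_neg (by simp), hlow _ (by simp; omega)]
    simp
  · have hP : P = ∑ i ∈ Finset.range (a + 1),
        ((-1 : MvPolynomial (Fin a) ℤ) ^ i * MvPolynomial.esymm (Fin a) ℤ i) • (X : (MvPolynomial (Fin a) ℤ)[X]) ^ (a - i) := by
      have := Multiset.prod_X_sub_X_eq_sum_esymm (Finset.univ.val.map fun i : Fin a ↦ (MvPolynomial.X i : MvPolynomial (Fin a) ℤ))
      rw [Multiset.map_map, Multiset.card_map, Finset.card_val, Finset.card_univ, Fintype.card_fin] at this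
      refine this.trans (Finset.sum_congr rfl fun i _ ↦ ?_)
      rw [smul_eq_C_mul, ← MvPolynomial.esymm_eq_multiset_esymm, map_mul, map_pow, map_neg, map_one, mul_assoc]
    have h0 : L (X ^ (j - 1) * P) = 0 := by
      show ((X ^ (j - 1) * P) %ₘ P).coeff (a - 1) = 0
      rw [(modByMonic_eq_zero_iff_dvd hm).mpr (dvd_mul_left P _), coeff_zero]
    nth_rewrite 1 [hP] at h0
    rw [Finset.mul_sum, map_sum] at h0
    rw [← h0]
    refine Finset.sum_congr rfl fun i hi ↦ ?_
    rw [Finset.mem_range] at hi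
    rw [hL j i hj (by omega), mul_smul_comm, ← pow_add, map_smul, smul_eq_mul]

end Groth.Agent.S3214
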