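import Groth.Statements.S3215
import Groth.Agent.CliffSm.TableForm

set_option autoImplicit false
universe u
open SGA7II

namespace Groth.Agent.S3215

/-- Let A be a commutative ring and Q(x) = sum over pairs i <= j of a_{ij} x_i x_j a quadratic form in
2m variables on the free module A^{2m} (the source allows a locally free module, which is free
Zariski-locally; the variables indexed by two copies of Fin m, ordered first copy then second),
whose polar bilinear form (matrix entries 2a_{ii} on the diagonal, a_{ij} for i < j) has invertible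
determinant (Q is ordinary). Then there are finitely many etale A-algebras B_t whose spectra jointly
cover Spec A and, over each B_t, an invertible matrix g with Q(g x) = sum_j x_j x_{m+j}, the split
form. -/
theorem result (A : Type u) [CommRing A] (m : ℕ)
    (a : (Fin m ⊕ Fin m) → (Fin m ⊕ Fin m) → A) :
    let rk : Fin m ⊕ Fin m → ℕ := Sum.elim Fin.val (fun k => m + k.val)
    let QB : ∀ (B : Type u) [CommRing B] [Algebra A B], ((Fin m ⊕ Fin m) → B) → B :=
      fun B _ _ x => ∑ i, ∑ j, if rk i ≤ rk j then algebraMap A B (a i j) * x i * x j else 0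
    IsUnit (Matrix.det (Matrix.of fun i j : Fin m ⊕ Fin m =>
      if i = j then a i i + a i i else if rk i ≤ rk j then a i j else a j i)) →
    ∃ (n : ℕ) (B : Fin n → Type u) (_ : ∀ t, CommRing (B t)) (_ : ∀ t, Algebra A (B t)),
      (∀ t, Algebra.Etale A (B t)) ∧
      (∀ p : PrimeSpectrum A, ∃ (t : Fin n) (q : PrimeSpectrum (B t)),
        q.asIdeal.comap (algebraMap A (B t)) = p.asIdeal) ∧
      ∀ t, ∃ g : Matrix (Fin m ⊕ Fin m) (Fin m ⊕ Fin m) (B t), IsUnit g.det ∧
        ∀ x : Fin m ⊕ Fin m → B t, QB (B t) (g.mulVec x) = ∑ j : Fin m, x (Sum.inl j) * x (Sum.inr j) := by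
  intro rk QB hdet
  let a' : (Fin m ⊕ Fin m) → (Fin m ⊕ Fin m) → A := fun i j => if rk i ≤ rk j then a i j else 0
  have hrk : Function.Injective rk := by
    rintro (i | i) (j | j) h <;> simp only [rk, Sum.elim_inl, Sum.elim_inr] at h
    · exact congrArg Sum.inl (Fin.ext h)
    · omega
    · omega
    · exact congrArg Sum.inr (Fin.ext (by omega))
  have hreg : QuadGrp.IsRegular (Groth.Agent.CliffSm.tableForm a') := by
    refine Groth.Agent.CliffSm.isRegular_tableForm a' ?_
    convert hdet using 3
    ext i j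
    simp only [Matrix.of_apply, a']
    rcases eq_or_ne i j with rfl | hij
    · simp
    · have hne : rk i ≠ rk j := fun h => hij (hrk h)
      rw [if_neg hij]
      split_ifs <;> first | omega | simp
  let b : Module.Basis (Fin (2 * m)) A ((Fin m ⊕ Fin m) → A) :=
    (Pi.basisFun A (Fin m ⊕ Fin m)).reindex (finSumFinEquiv.trans (finCongr (two_mul m).symm))
  choose s hs S iC iA het hrange P P' hfr using Groth.Agent.CliffSm.exists_etale_split_at b hreg
  obtain ⟨T, hT⟩ := Groth.Agent.CliffSm.exists_finite_cover s hs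
  refine ⟨T.card, fun t => S (T.equivFin.symm t), fun t => iC _, fun t => iA _, fun t => het _, fun p => ?_,
    fun t => ?_⟩
  · obtain ⟨r, hr, hp⟩ := hT p
    obtain ⟨q, hq⟩ := hrange r p hp
    have e : (T.equivFin.symm (T.equivFin ⟨r, hr⟩) : PrimeSpectrum A) = r := by rw [Equiv.symm_apply_apply]
    have key : ∀ r', r' = r → ∃ q : PrimeSpectrum (S r'), q.asIdeal.comap (algebraMap A (S r')) = p.asIdeal := by
      rintro _ rfl
      exact ⟨q, congrArg PrimeSpectrum.asIdeal hq⟩
    exact ⟨T.equivFin ⟨r, hr⟩, key _ e⟩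
  · dsimp only
    let r : PrimeSpectrum A := T.equivFin.symm t
    change ∃ g : Matrix (Fin m ⊕ Fin m) (Fin m ⊕ Fin m) (S r), IsUnit g.det ∧ ∀ x : Fin m ⊕ Fin m → S r,
      QB (S r) (g.mulVec x) = ∑ j : Fin m, x (Sum.inl j) * x (Sum.inr j)
    let β := (Pi.basisFun A (Fin m ⊕ Fin m)).baseChange (S r)
    have h := hfr r
    let g : Matrix (Fin m ⊕ Fin m) (Fin m ⊕ Fin m) (S r) := β.toMatrix (Sum.elim (P r) (P' r))
    refine ⟨g, h.isUnit_det β, fun x => ?_⟩
    have hx : g.mulVec x = β.equivFun (∑ j, (x (Sum.inl j) • P r j + x (Sum.inr j) • P' r j)) := by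
      funext i
      simp only [g, Matrix.mulVec, dotProduct, Module.Basis.toMatrix_apply, Module.Basis.equivFun_apply, map_sum,
        map_add, map_smul, Finsupp.finsetSum_apply, Finsupp.add_apply, Finsupp.smul_apply, smul_eq_mul,
        Fintype.sum_sum_type, Sum.elim_inl, Sum.elim_inr, Finset.sum_add_distrib]
      simp [mul_comm]
    rw [← h.apply_sum (fun j => x (Sum.inl j)) (fun j => x (Sum.inr j)), Groth.Agent.CliffSm.baseChange_tableForm,
      ← hx, Groth.Agent.CliffSm.tableForm_apply]
    refine Finset.sum_congr rfl fun i _ => Finset.sum_congr rfl fun j _ => ?_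
    simp only [a']
    split_ifs <;> simp [mul_assoc]

end Groth.Agent.S3215
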