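import Groth.Statements.S3248
import Mathlib.Algebra.Azumaya.Basic
import Mathlib.RingTheory.SimpleRing.Basic
import Groth.Agent.Azumaya.CSA
import Mathlib.Algebra.Azumaya.Defs
import Mathlib.RingTheory.Flat.Basic
import Mathlib.RingTheory.TensorProduct.Maps
import Mathlib.LinearAlgebra.Matrix.ToLin
import Mathlib.LinearAlgebra.FiniteDimensional.Lemmas
import Mathlib.LinearAlgebra.Dimension.Constructions

set_option autoImplicit false
universe u
open TensorProduct
open scoped TensorProduct
open Dix
open scoped TensorProduct

namespace Groth.Agent.S3248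

/-- Stated for a commutative subalgebra: let A be a central simple algebra of dimension r² over a field
k and L a commutative k-algebra embedded in A by an injective k-algebra homomorphism ι, such that A
is free of rank r for the right L-module structure a · l = a ι(l) (given here as a module structure
together with that compatibility). Then L ⊗_k A is isomorphic as an L-algebra to the matrix algebra
M_r(L). (Only the existence of an isomorphism is stated; the text names the map a ⊗ l ↦ (y ↦ a y
l).) -/
theorem result (k : Type u) [Field k] (A : Type u) [Ring A] [Algebra k A] [Algebra.IsCentral k A] [IsSimpleRing A] [FiniteDimensional k A] (L : Type u) [CommRing L] [Algebra k L] (ι : L →ₐ[k] A) (hι : Function.Injective ι) [Module L A] (hmod : ∀ (l : L) (a : A), l • a = a * ι l) [Module.Free L A] (r : ℕ) (hr : 0 < r) (hA : Module.finrank k A = r ^ 2) (hrank : Module.finrank L A = r) : Nonempty ((L ⊗[k] A) ≃ₐ[L] Matrix (Fin r) (Fin r) L) := by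
  classical
  haveI : Nontrivial L := ⟨⟨1, 0, fun h => one_ne_zero (α := A) (by rw [← map_one ι, h, map_zero])⟩⟩
  haveI : Module.Finite L A := Module.finite_of_finrank_pos (hrank ▸ hr)
  haveI : Module.Finite k L := Module.Finite.of_injective ι.toLinearMap hι
  have hAz : Function.Bijective (AlgHom.mulLeftRight k A) := Groth.Agent.Azumaya.mulLeftRight_bijective k A
  haveI : IsScalarTower k L A := ⟨fun c l a => by rw [hmod, hmod, map_smul, mul_smul_comm]⟩
  haveI : SMulCommClass k L A := ⟨fun c l a => by rw [hmod, hmod, smul_mul_assoc]⟩
  let g : A →ₐ[k] Module.End L A :=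
    { toFun := fun a =>
        { toFun := fun x => a * x
          map_add' := fun x y => mul_add a x y
          map_smul' := fun l x => by rw [RingHom.id_apply, hmod, hmod, mul_assoc] }
      map_one' := LinearMap.ext fun x => one_mul x
      map_mul' := fun a b => LinearMap.ext fun x => mul_assoc a b x
      map_zero' := LinearMap.ext fun x => zero_mul x
      map_add' := fun a b => LinearMap.ext fun x => add_mul a b x
      commutes' := fun c => LinearMap.ext fun x => by
        show algebraMap k A c * x = c • x
        rw [Algebra.smul_def] }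
  let φ : L ⊗[k] A →ₐ[L] Module.End L A :=
    Algebra.TensorProduct.lift (Algebra.ofId L (Module.End L A)) g (fun l a => LinearMap.ext fun x => by
      show l • (a * x) = a * (l • x)
      rw [hmod, hmod, mul_assoc])
  let j : L →ₐ[k] Aᵐᵒᵖ := ι.toOpposite fun x y => by rw [Commute, SemiconjBy, ← map_mul, mul_comm, map_mul]
  have hj : Function.Injective j := fun x y h => hι (MulOpposite.op_injective h)
  let i : L ⊗[k] A →ₗ[k] A ⊗[k] Aᵐᵒᵖ := (TensorProduct.comm k Aᵐᵒᵖ A).toLinearMap ∘ₗ j.toLinearMap.rTensor A
  have hi : Function.Injective i := (TensorProduct.comm k Aᵐᵒᵖ A).injective.comp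
    (Module.Flat.rTensor_preserves_injective_linearMap (M := A) j.toLinearMap hj)
  have hcomp : ∀ z x, φ z x = AlgHom.mulLeftRight k A (i z) x := fun z x => by
    induction z using TensorProduct.induction_on with
    | zero => simp
    | tmul l a =>
      show ((Algebra.ofId L (Module.End L A)) l * g a) x = AlgHom.mulLeftRight k A (a ⊗ₜ j l) x
      rw [AlgHom.mulLeftRight_apply]
      show l • (a * x) = a * x * ι l
      rw [hmod]
    | add y z hy hz => rw [map_add, map_add, map_add, LinearMap.add_apply, hy, hz, LinearMap.add_apply]
  have hinj : Function.Injective φ := fun y z h => hi (hAz.1 (LinearMap.ext fun x => by rw [← hcomp, ← hcomp, h]))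
  have hl : Module.finrank k L = r := by
    have h1 := Module.finrank_mul_finrank k L A
    rw [hrank, hA, pow_two] at h1
    exact Nat.eq_of_mul_eq_mul_right hr h1
  have h1 : Module.finrank k (L ⊗[k] A) = r * (r * r) := by rw [Module.finrank_tensorProduct, hl, hA, pow_two]
  let e := Module.finBasisOfFinrankEq L A hrank
  let ψ : L ⊗[k] A →ₐ[L] Matrix (Fin r) (Fin r) L := (algEquivMatrix e).toAlgHom.comp φ
  have hψ : Function.Injective ψ := (algEquivMatrix e).injective.comp hinj
  have h2 : Module.finrank k (L ⊗[k] A) = Module.finrank k (Matrix (Fin r) (Fin r) L) := by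
    rw [h1, Module.finrank_matrix, hl]; simp; ring
  exact ⟨AlgEquiv.ofBijective ψ ⟨hψ, (LinearMap.injective_iff_surjective_of_finrank_eq_finrank h2
    (f := (ψ.restrictScalars k).toLinearMap)).1 hψ⟩⟩

end Groth.Agent.S3248
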