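import Groth.Statements.S3253
import Groth.Agent.Castel.InterNeg

set_option autoImplicit false
universe u
open AlgebraicGeometry CategoryTheory CategoryTheory.Limits
open ArSurf

set_option backward.isDefEq.respectTransparency false
set_option backward.isDefEq.respectTransparency.types false

namespace Groth.Agent.S3253

/-- Let R be a discrete valuation ring, X an arithmetic surface over Spec R (regular, integral,
2-dimensional, flat and projective), Γ_1, …, Γ_r vertical prime divisors of X over the closed point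
(integral curves over the residue field, closed in X) and L_1, …, L_r invertible O_X-modules with
L_j ⊗ I(Γ_j) ≅ O_X (L_j = O_X(Γ_j)). Then for all integers a_1, …, a_r, Σ_{i,j} a_i a_j (Γ_i · Γ_j)
≤ 0, where Γ_i · Γ_j = deg over the residue field of L_j restricted to Γ_i. -/
theorem result (R : Type u) [CommRing R] [IsDomain R] [IsDiscreteValuationRing R]
    (X : Over (Spec (CommRingCat.of R))) (hX : ArSurf.IsArithSurface R X)
    {r : ℕ} (Γ : Fin r → ArSurf.VertComp R X) (L : Fin r → X.left.Modules)
    (hL : ∀ j, ClSub.IsInverseOf (L j) (ClSub.idealMod ((Γ j).ι.ker))) (a : Fin r → ℤ) :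
    (Finset.univ : Finset (Fin r × Fin r)).sum
      (fun p => a p.1 * a p.2 * ArSurf.inter R X (L p.2) (Γ p.1)) ≤ 0 := by
  classical
  let s : Finset (Set X.left) := Finset.univ.image fun i => Set.range (Γ i).ι
  have hex : ∀ c : s, ∃ i, Set.range (Γ i).ι = c.1 := fun c => by
    obtain ⟨i, -, hi⟩ := Finset.mem_image.1 c.2
    exact ⟨i, hi⟩
  choose rep hrep using hex
  let σ := s.equivFin
  let Γ' : Fin s.card → ArSurf.VertComp R X := fun i => Γ (rep (σ.symm i))
  have hinj : Function.Injective fun i => Set.range (Γ' i).ι := fun i j h => by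
    refine σ.symm.injective (Subtype.ext ?_)
    rw [← hrep (σ.symm i), ← hrep (σ.symm j)]
    exact h
  let c : Fin r → Fin s.card := fun i => σ ⟨Set.range (Γ i).ι, Finset.mem_image.2 ⟨i, Finset.mem_univ _, rfl⟩⟩
  have hc : ∀ i, Set.range (Γ' (c i)).ι = Set.range (Γ i).ι := fun i => by
    simp only [Γ', c, Equiv.symm_apply_apply, hrep]
  haveI := Groth.Agent.Castel.isProper_hom_of_isArithSurface hX
  obtain ⟨hsym, hoff, J, -, hrow⟩ := Groth.Agent.Castel.interMat_facts hX Γ' hinj
  have hM : ∀ p q, ArSurf.inter R X (L q) (Γ p) = Groth.Agent.Castel.interMat Γ' (c p) (c q) := fun p q => by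
    rw [Groth.Agent.Castel.inter_eq_neg_degI (Γ p) (Groth.Agent.Castel.isEffCartierIdeal_ker hX (Γ q)) (hL q),
      Groth.Agent.Castel.interMat, Groth.Agent.Castel.degI_congr (hc p).symm (Groth.Agent.Castel.isEffCartierIdeal_ker hX (Γ q)),
      (Groth.Agent.Castel.exists_iso_of_range (Γ' (c q)).ι (Γ q).ι (hc q)).1]
  let x : Fin s.card → ℤ := fun i => ∑ p ∈ Finset.univ.filter (fun p => c p = i), a p
  have hkey : ∑ i, ∑ j, x i * x j * Groth.Agent.Castel.interMat Γ' i j =
      ∑ p, ∑ q, a p * a q * ArSurf.inter R X (L q) (Γ p) := by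
    rw [← Finset.sum_fiberwise Finset.univ c (fun p => ∑ q, a p * a q * ArSurf.inter R X (L q) (Γ p))]
    refine Finset.sum_congr rfl fun i _ => ?_
    have h1 : ∀ p ∈ Finset.univ.filter (fun p => c p = i), ∑ q, a p * a q * ArSurf.inter R X (L q) (Γ p) =
        ∑ j, a p * x j * Groth.Agent.Castel.interMat Γ' i j := fun p hp => by
      rw [← Finset.sum_fiberwise Finset.univ c (fun q => a p * a q * ArSurf.inter R X (L q) (Γ p))]
      refine Finset.sum_congr rfl fun j _ => ?_
      simp only [x, Finset.mul_sum, Finset.sum_mul]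
      refine Finset.sum_congr rfl fun q hq => ?_
      rw [hM, (Finset.mem_filter.1 hp).2, (Finset.mem_filter.1 hq).2]
    rw [Finset.sum_congr rfl h1, Finset.sum_comm]
    refine Finset.sum_congr rfl fun j _ => ?_
    simp only [x, Finset.sum_mul]
  rw [← Finset.univ_product_univ, Finset.sum_product, ← hkey]
  exact (Groth.Agent.Castel.quad_nonpos _ hsym (fun i j h => (hoff i j h).1) _ (fun i => (hrow i).1)
    (fun i => (hrow i).2.1) x).1

end Groth.Agent.S3253
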