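import Groth.Statements.S3254
import Groth.Agent.Castel.ArithY

set_option autoImplicit false
universe u
open AlgebraicGeometry CategoryTheory CategoryTheory.Limits
open ArSurf

set_option backward.isDefEq.respectTransparency false
set_option backward.isDefEq.respectTransparency.types false

namespace Groth.Agent.S3254

/-- Castelnuovo's criterion, existence of the contraction: let R be a discrete valuation ring with
residue field k, X an arithmetic surface over Spec R, and E a vertical prime divisor of X over the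
closed point such that, for some finite field extension k' of k, E is k-isomorphic to the projective
line over k', and E · E = −[k' : k], where E · E = deg_k(L|_E) for an invertible L with L ⊗ I(E) ≅
O_X. Then there are an arithmetic surface Y over Spec R, an R-morphism f : X → Y and a closed point
y of Y such that f maps E onto y, the inverse image of Y minus y is exactly X minus E, and f
restricts to an isomorphism from X minus E onto Y minus y. -/
theorem result (R : Type u) [CommRing R] [IsDomain R] [IsDiscreteValuationRing R]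
    (X : Over (Spec (CommRingCat.of R))) (hX : ArSurf.IsArithSurface R X) (E : ArSurf.VertComp R X)
    (k' : Type u) [Field k'] [Algebra (IsLocalRing.ResidueField R) k'] [FiniteDimensional (IsLocalRing.ResidueField R) k']
    (e : E.curve.left ≅ CohB1.ProjSpace 1 k')
    (he : e.hom ≫ (CohB1.ProjSpace 1 k' ↘ Spec (CommRingCat.of k')) ≫
      Spec.map (CommRingCat.ofHom (algebraMap (IsLocalRing.ResidueField R) k')) = E.curve.hom)
    (L : X.left.Modules) (hL : ClSub.IsInverseOf L (ClSub.idealMod E.ι.ker))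
    (hself : ArSurf.inter R X L E = -(Module.finrank (IsLocalRing.ResidueField R) k' : ℤ)) :
    ∃ (Y : Over (Spec (CommRingCat.of R))) (f : X ⟶ Y) (y : Y.left) (hy : IsClosed ({y} : Set Y.left)),
      ArSurf.IsArithSurface R Y ∧ Set.range (E.ι ≫ f.left) = {y} ∧
      (f.left ⁻¹ᵁ (⟨{y}ᶜ, hy.isOpen_compl⟩ : Y.left.Opens) : Set X.left) = (Set.range E.ι)ᶜ ∧
      IsIso (f.left ∣_ (⟨{y}ᶜ, hy.isOpen_compl⟩ : Y.left.Opens)) := by
  obtain ⟨hI, hLi, ⟨e₁⟩⟩ := Groth.Agent.Castel.vert_conormal hX E e he L hL (d := 1) (by rw [one_mul]; exact hself)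
  have hE : Models.IsExcCurve E.ι := ⟨hI, k', inferInstance, e.symm, ⟨e₁⟩⟩
  have hX' := hX
  obtain ⟨hXr, hXi, hXd, -, hXp⟩ := hX'
  haveI := hXi
  haveI := Groth.Agent.PtBlow.isProper_of_isProjectiveOver (Z := X) hXp
  obtain ⟨L₀, hL₀⟩ := Groth.Agent.Castel.exists_ample_of_proj hXp
  obtain ⟨Y, b, g, y₀, hb, hbg, hg, hbp, hfib, happ, hoff, -, L', hL', -⟩ :=
    Groth.Agent.Castel.exists_ample_contraction X.hom L₀ hL₀ E.ι hE L hL hLi
  haveI := hg
  haveI := hbp
  obtain ⟨-, -, y, hy, hyr, hyreg, hydim, -⟩ := hb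
  have hne : (Set.range E.ι).Nonempty := ⟨E.ι (genericPoint E.curve.left), _, rfl⟩
  have hyy : y = y₀ := by
    obtain ⟨x, z, rfl⟩ := hne
    have h1 : b (E.ι z) = y := hyr.subset ⟨z, rfl⟩
    have h2 : b (E.ι z) = y₀ := hfib.ge ⟨z, rfl⟩
    exact h1.symm.trans h2
  subst hyy
  obtain ⟨hYi, hYd, hYf, hYp, hYr⟩ := Groth.Agent.Castel.surface_facts hX b g hbg y hy (hfib ▸ hne) happ hoff hL'
  refine ⟨Over.mk g, Over.homMk b hbg, y, hy, ⟨fun z => ?_, hYi, le_antisymm hYd ?_, hYf, hYp⟩, hyr, ?_,
    hoff _ fun h => h rfl⟩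
  · by_cases hz : z = y
    · subst hz; exact hyreg
    · exact hYr z hz
  · exact hydim ▸ Groth.Agent.Castel.ringKrullDim_stalk_le_dim y
  · rw [← hfib]
    rfl

end Groth.Agent.S3254
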