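import Groth.Statements.S3257
import Groth.Agent.PtBlow.Structure
import Groth.Agent.PtBlow.RatMap

set_option autoImplicit false
universe u
open AlgebraicGeometry CategoryTheory CategoryTheory.Limits
open ArSurf

set_option backward.isDefEq.respectTransparency false
set_option backward.isDefEq.respectTransparency.types false

namespace Groth.Agent.S3257

/-- Let R be a Dedekind domain, X and Y arithmetic surfaces over Spec R, f : X -> Y an R-morphism and y
a closed point of Y such that f restricts to an isomorphism over Y minus y while the fibre of f over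
y is irreducible and has more than one point (so the exceptional locus of the birational morphism f
is irreducible). Then f is the blowing-up of Y at y: it has the universal property of the blow-up
along the ideal of the reduced closed point y (BlowUp.IsBlowUp). (The factorization result of the
source says more generally that every birational morphism of regular fibered surfaces is a finite
sequence of blow-ups of closed points.) -/
theorem result {R : Type u} [CommRing R] [IsDedekindDomain R]
    (X Y : Over (Spec (CommRingCat.of R))) (hX : ArSurf.IsArithSurface R X) (hY : ArSurf.IsArithSurface R Y)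
    (f : X ⟶ Y) (y : Y.left) (hy : IsClosed ({y} : Set Y.left))
    (hiso : IsIso (f.left ∣_ (⟨{y}ᶜ, hy.isOpen_compl⟩ : Y.left.Opens)))
    (hirr : IsPreirreducible (f.left.base ⁻¹' {y}))
    (hbig : ∃ x x' : X.left, x ≠ x' ∧ f.left.base x = y ∧ f.left.base x' = y) :
    BlowUp.IsBlowUp f.left (Scheme.IdealSheafData.vanishingIdeal ⟨{y}, hy⟩) := by
  obtain ⟨hXr, hXi, hXd, -, hXp⟩ := hX
  obtain ⟨hYr, hYi, hYd, -, hYp⟩ := hY
  haveI := hXi
  haveI := hYi
  haveI : IsProper X.hom := PtBlow.isProper_of_isProjectiveOver hXp
  haveI : IsProper Y.hom := PtBlow.isProper_of_isProjectiveOver hYp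
  haveI : IsLocallyNoetherian X.left := LocallyOfFiniteType.isLocallyNoetherian X.hom
  haveI : IsLocallyNoetherian Y.left := LocallyOfFiniteType.isLocallyNoetherian Y.hom
  haveI : CompactSpace X.left := QuasiCompact.compactSpace_of_compactSpace X.hom
  haveI : CompactSpace Y.left := QuasiCompact.compactSpace_of_compactSpace Y.hom
  haveI : IsNoetherian X.left := {}
  haveI : IsNoetherian Y.left := {}
  haveI : IsProper f.left := by
    haveI : IsProper (f.left ≫ Y.hom) := by rw [Over.w f]; infer_instance
    exact IsProper.of_comp f.left Y.hom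
  haveI := hiso
  refine PtBlow.isBlowUp_of_irreducible f.left hXr hXd.le hYr hYd.le ⟨⟨{y}ᶜ, hy.isOpen_compl⟩, ?_, hiso⟩ y hy hiso hirr
    (fun hmem => ?_)
  · refine ⟨genericPoint Y.left, fun h => ?_⟩
    have hgy : genericPoint Y.left = y := h
    obtain ⟨x, x', hne, hx, hx'⟩ := hbig
    have htriv : ∀ z : Y.left, z = y := fun z =>
      Set.mem_singleton_iff.1 ((genericPoint_specializes z).mem_closed hy (Set.mem_singleton_iff.2 hgy))
    haveI : Subsingleton Y.left := ⟨fun a b => (htriv a).trans (htriv b).symm⟩
    haveI : Nonempty Y.left := inferInstance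
    have h0 : topologicalKrullDim Y.left ≤ 0 := topologicalKrullDim_zero_of_discreteTopology Y.left
    rw [hYd] at h0
    exact absurd h0 (by decide)
  obtain ⟨x, x', hne, hx, hx'⟩ := hbig
  obtain ⟨⟨W, hW⟩, hyW⟩ := TopologicalSpace.Opens.mem_iSup.1 hmem
  have h := (f.left ∣_ W).homeomorph.injective (a₁ := ⟨x, show f.left x ∈ W from hx.symm ▸ hyW⟩)
    (a₂ := ⟨x', show f.left x' ∈ W from hx'.symm ▸ hyW⟩) (Subtype.ext (by
      have e1 : f.left x = f.left x' := hx.trans hx'.symm
      simpa using e1))
  exact hne (congrArg Subtype.val h)

end Groth.Agent.S3257
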