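import Groth.Statements.S3259
import Groth.Agent.S19202
import Groth.Agent.SchImg.IdealTools
import Groth.Agent.SmDesc.Scheme
import Groth.Agent.PnReg.BaseChange
import Groth.Agent.HQProj.Basic
import Groth.Agent.InfLift.SchemeSmallExt

set_option autoImplicit false
universe u
open AlgebraicGeometry CategoryTheory CategoryTheory.Limits
open ArSurf

set_option backward.isDefEq.respectTransparency false
set_option backward.isDefEq.respectTransparency.types false

namespace Groth.Agent.S3259

/-- Let R be a Dedekind domain with fraction field K and C a smooth projective curve over K (smooth,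
proper, of dimension 1, admitting a closed immersion into some P^n_K). Then there are a non-empty
open subscheme U of Spec R containing the generic point and a smooth proper morphism 𝒞 -> U whose
fibre over the generic point is K-isomorphic to C. In particular C has good reduction at every
closed point of U, that is, at all but finitely many closed points. (Stated in the form the
published proof gives.) -/
theorem result {R : Type u} [CommRing R] [IsDedekindDomain R]
    (C : Over (Spec (CommRingCat.of (FractionRing R)))) [Smooth C.hom] [IsProper C.hom]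
    (hdim : topologicalKrullDim C.left = 1) (hproj : Neron.IsProjectiveOver (FractionRing R) C) :
    ∃ (U : (Spec (CommRingCat.of R)).Opens) (ξ : Spec (CommRingCat.of (FractionRing R)) ⟶ (U : Scheme.{u}))
      (𝒞 : Scheme.{u}) (π : 𝒞 ⟶ (U : Scheme.{u})),
      ξ ≫ U.ι = Neron.genPt R ∧ Smooth π ∧ IsProper π ∧
      Nonempty (Over.mk (pullback.snd π ξ) ≅ C) := by
  obtain ⟨n, i, hi, hiw⟩ := hproj
  let g := Neron.genPt R
  haveI hgflat : Flat g := by
    rw [HasRingHomProperty.Spec_iff (P := @Flat)]
    exact RingHom.flat_algebraMap_iff.mpr inferInstance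
  haveI hgpre : IsPreimmersion g := IsPreimmersion.of_isLocalization (nonZeroDivisors R)
  haveI : IsAffineHom g := inferInstanceAs (IsAffineHom (Spec.map _))
  have sqP : IsPullback (KRR.projSpaceMap n g)
      (CohB1.ProjSpaceOver.toBase n (Spec (CommRingCat.of (FractionRing R))))
      (CohB1.ProjSpaceOver.toBase n (Spec (CommRingCat.of R))) g := Groth.Agent.PnReg.isPullback_map g
  let P := CohB1.ProjSpaceOver.toBase n (Spec (CommRingCat.of R))
  haveI : IsProper P := Groth.Agent.HQProj.isProper_toBase n _
  haveI : IsAffineHom (KRR.projSpaceMap n g) :=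
    MorphismProperty.of_isPullback (P := @IsAffineHom) sqP.flip inferInstance
  let j := i ≫ KRR.projSpaceMap n g
  have hjw : j ≫ P = C.hom ≫ g := by
    simp only [j, P, Category.assoc]
    rw [sqP.w, ← Category.assoc, hiw]
  haveI : QuasiCompact j := inferInstance
  haveI hCflat : Flat C.hom := inferInstance
  haveI : Flat (C.hom ≫ g) := inferInstance
  let q : j.image ⟶ Spec (CommRingCat.of R) := j.imageι ≫ P
  haveI : Flat q := Groth.Agent.S19202.result R (C.hom ≫ g) P j hjw
  haveI : IsProper q := inferInstance
  haveI : LocallyOfFinitePresentation q := Groth.Agent.InfLift.lfp_of_lft q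
  -- the generic fibre is `C`
  let a := pullback.fst q g
  let b := pullback.snd q g
  have sqX : IsPullback a b q g := IsPullback.of_hasPullback q g
  let h : C.left ⟶ pullback q g := pullback.lift j.toImage C.hom (by simp only [q]; rw [← Category.assoc, Scheme.Hom.toImage_imageι, hjw])
  have hha : h ≫ a = j.toImage := pullback.lift_fst _ _ _
  have hhb : h ≫ b = C.hom := pullback.lift_snd _ _ _
  let m : pullback q g ⟶ CohB1.ProjSpaceOver n (Spec (CommRingCat.of (FractionRing R))) :=
    sqP.lift (a ≫ j.imageι) b (by rw [Category.assoc]; exact sqX.w)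
  have sqm : IsPullback a m j.imageι (KRR.projSpaceMap n g) :=
    IsPullback.of_bot (by rw [IsPullback.lift_snd]; exact sqX) (IsPullback.lift_fst _ _ _ _).symm sqP
  haveI : IsClosedImmersion m := MorphismProperty.of_isPullback (P := @IsClosedImmersion) sqm inferInstance
  haveI : IsClosedImmersion h := by
    haveI : IsClosedImmersion (h ≫ m) := by
      rw [show h ≫ m = i from sqP.hom_ext
        (by rw [Category.assoc, IsPullback.lift_fst, ← Category.assoc, hha, Scheme.Hom.toImage_imageι])
        (by rw [Category.assoc, IsPullback.lift_snd, hhb]; exact hiw.symm)]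
      exact hi
    exact IsClosedImmersion.of_comp h m
  have sqh : IsPullback (𝟙 C.left) h j.toImage a := by
    refine IsPullback.of_bot ?_ (by rw [Category.id_comp, hha]) sqX
    rw [hhb, show j.toImage ≫ q = C.hom ≫ g by simp only [q]; rw [← Category.assoc, Scheme.Hom.toImage_imageι, hjw]]
    refine ⟨⟨(Category.id_comp _)⟩, ⟨PullbackCone.IsLimit.mk _ (fun s => s.fst) (fun s => Category.comp_id _)
      (fun s => ?_) (fun s t ht _ => by simpa using ht)⟩⟩
    rw [← cancel_mono g, Category.assoc]
    exact s.condition
  haveI : Flat a := MorphismProperty.of_isPullback (P := @Flat) sqX.flip inferInstance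
  haveI : IsSchemeTheoreticallyDominant j.toImage := Groth.Agent.SchImg.isSchemeTheoreticallyDominant_toImage j
  haveI : IsSchemeTheoreticallyDominant h := IsSchemeTheoreticallyDominant.of_isPullback sqh
  haveI : IsIso h := IsClosedImmersion.isIso_of_ker_eq h (𝟙 _) h (Category.comp_id _)
    (by rw [Scheme.Hom.ker_eq_bot h, Scheme.Hom.ker_eq_bot_of_isIso])
  haveI : LocallyOfFinitePresentation b := MorphismProperty.of_isPullback sqX inferInstance
  haveI : Smooth b := by
    rw [show b = inv h ≫ C.hom by rw [← hhb, IsIso.inv_hom_id_assoc]]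
    infer_instance
  -- the open set over which `q` is smooth
  let Z : Set (Spec (CommRingCat.of R)) := q.base '' (q.smoothLocus : Set j.image)ᶜ
  have hZ : IsClosed Z := q.isClosedMap _ q.smoothLocus.2.isClosed_compl
  let U : (Spec (CommRingCat.of R)).Opens := ⟨Zᶜ, hZ.isOpen_compl⟩
  have hgU : Set.range g.base ⊆ Set.range U.ι.base := by
    rw [Scheme.Opens.range_ι]
    rintro _ ⟨z, rfl⟩ ⟨x, hx, hxz⟩
    obtain ⟨w, hw, -⟩ := Scheme.Pullback.exists_preimage_pullback (f := q) (g := g) x z hxz
    exact hx (hw ▸ Groth.Agent.SmDesc.mem_smoothLocus_of_isPullback sqX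
      (show _ ∈ b.smoothLocus by rw [Scheme.Hom.smoothLocus_eq_top]; trivial))
  let ξ := IsOpenImmersion.lift U.ι g hgU
  have hξ : ξ ≫ U.ι = g := IsOpenImmersion.lift_fac _ _ _
  let π := q ∣_ U
  haveI : LocallyOfFinitePresentation π := MorphismProperty.of_isPullback
    (isPullback_morphismRestrict q U).flip inferInstance
  haveI : IsProper π := MorphismProperty.of_isPullback (isPullback_morphismRestrict q U).flip inferInstance
  haveI : Smooth π := by
    rw [← Scheme.Hom.smoothLocus_eq_top_iff, eq_top_iff]
    intro x _
    refine Groth.Agent.SmDesc.preimage_smoothLocus_le (isPullback_morphismRestrict q U).flip ?_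
    by_contra hc
    exact x.2 ⟨x.1, hc, rfl⟩
  refine ⟨U, ξ, _, π, hξ, inferInstance, inferInstance, ?_⟩
  have sq1 : IsPullback (pullback.fst π ξ ≫ (q ⁻¹ᵁ U).ι) (pullback.snd π ξ) q g := by
    have := (IsPullback.of_hasPullback π ξ).paste_horiz (isPullback_morphismRestrict q U).flip
    rwa [hξ] at this
  refine ⟨Over.isoMk (sq1.isoIsPullback _ _ sqX ≪≫ (asIso h).symm) ?_⟩
  simp only [Over.mk_hom, Iso.trans_hom, Iso.symm_hom, asIso_inv, Category.assoc]
  rw [show inv h ≫ C.hom = b by rw [← hhb, IsIso.inv_hom_id_assoc]]
  exact IsPullback.isoIsPullback_hom_snd _ _ _ _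

end Groth.Agent.S3259
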