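import Groth.Statements.S3286
import Groth.Agent.Lambda.Split

set_option autoImplicit false
universe u
open Finset
open LambdaRing

namespace Groth.Agent.S3286

open LambdaRing Groth.Agent.Lambda

/-- In a λ-ring with positive structure having the splitting property, ψ^i (ψ^j (x)) = ψ^(i j) (x) for
all i, j and x. -/
theorem result (K : Type u) [CommRing K] [LambdaRing.LambdaOps K] (P : LambdaRing.PosStructure K) (hK : LambdaRing.HasSplitting K P) (i j : ℕ) (x : K) :
    LambdaRing.adams P i (LambdaRing.adams P j x) = LambdaRing.adams P (i * j) x := by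
  rcases Nat.eq_zero_or_pos i with rfl | hi
  · rw [zero_mul, adams_zero, adams_zero, aug_adams hK]
  rcases Nat.eq_zero_or_pos j with rfl | hj
  · rw [mul_zero, adams_zero, adams_eq P hi]
    exact (map_intCast (adamsHom i hi (adamsOp_one_pos P hi) (adamsOp_mul_pos hK hi)) _)
  rw [adams_eq P hi, adams_eq P hj, adams_eq P (Nat.mul_pos hi hj), adamsOp_adamsOp_pos hK hi hj]

end Groth.Agent.S3286
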