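import Groth.Statements.S3288
import Groth.Agent.Lambda.Split

set_option autoImplicit false
universe u
open Finset
open LambdaRing

namespace Groth.Agent.S3288

open LambdaRing Groth.Agent.Lambda

/-- In a λ-ring with positive structure having the splitting property, for a positive element e the
augmentation of λ^i(e) is the binomial coefficient C(ε(e), i). -/
theorem result (K : Type u) [CommRing K] [LambdaRing.LambdaOps K] (P : LambdaRing.PosStructure K) (hK : LambdaRing.HasSplitting K P) (e : K) (he : e ∈ P.pos)
    (i : ℕ) : P.aug (LambdaRing.LambdaOps.lam i e) = ((P.aug e).toNat.choose i : ℤ) := by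
  obtain ⟨L, f, hf, -, s, hs1, hs2, hcard⟩ := exists_split hK he
  rw [← hf.aug_comp, hf.isLambdaHom, ← hs2, lam_sum_lines hs1, ← hcard, Int.toNat_natCast,
    map_esymm', Multiset.map_congr rfl fun u hu => (hs1 u hu).2, Multiset.map_const',
    Multiset.esymm]
  rw [Multiset.map_congr rfl (g := fun _ => (1 : ℤ)) fun t ht => Multiset.prod_eq_one fun x hx =>
    Multiset.eq_of_mem_replicate (Multiset.mem_of_le (Multiset.mem_powersetCard.mp ht).1 hx)]
  simp [Multiset.card_powersetCard]

end Groth.Agent.S3288
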