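import Groth.Statements.S3289
import Mathlib.RingTheory.PowerSeries.Substitution
import Mathlib.RingTheory.PowerSeries.WellKnown
import Mathlib.Algebra.BigOperators.NatAntidiagonal

set_option autoImplicit false
universe u
open Finset
open LambdaRing

namespace Groth.Agent.S3289

open LambdaRing PowerSeries in
theorem gamma_eq_coeff {K : Type*} [CommRing K] [LambdaOps K] (k : ℕ) (x : K) :
    gamma k x = coeff k ((lamSeries x).subst (X * mk (1 : ℕ → K))) := by
  have ha : HasSubst (X * mk (1 : ℕ → K)) := HasSubst.of_constantCoeff_zero' (by simp)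
  rw [coeff_subst' ha, finsum_eq_sum_of_support_subset (s := Finset.range (k + 1))]
  · rw [gamma]
    match k with
    | 0 => simp [lamSeries, LambdaOps.lam_zero]
    | k + 1 =>
      rw [if_neg (by omega)]
      refine Finset.sum_congr rfl fun j hj => ?_
      rw [Finset.mem_range] at hj
      match j with
      | 0 => simp
      | j + 1 =>
        rw [mul_pow, mk_one_pow_eq_mk_choose_add, coeff_X_pow_mul', if_neg (Nat.succ_ne_zero j),
          if_pos (show j + 1 ≤ k + 1 by omega)]
        simp only [lamSeries, coeff_mk, smul_eq_mul]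
        rw [show j + (k + 1 - (j + 1)) = k by omega, show k + 1 - 1 = k by omega,
          show j + 1 - 1 = j by omega, mul_comm]
  · intro j hj
    simp only [Function.mem_support, ne_eq] at hj
    by_contra hjk
    simp only [Finset.coe_range, Set.mem_Iio, not_lt] at hjk
    refine hj ?_
    rw [mul_pow, coeff_X_pow_mul', if_neg (by omega), smul_zero]

/-- The γ-operations of a λ-ring, γ^0 = 1 and γ^k(x) = Σ_{j=1}^{k} C(k−1, j−1) λ^j(x) for k ≥ 1 (the
coefficients of λ_(t/(1−t))(x)), satisfy γ^k(x + y) = Σ_{i=0}^{k} γ^i(x) γ^(k−i)(y). -/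
theorem result (K : Type u) [CommRing K] [LambdaRing.LambdaOps K] (k : ℕ) (x y : K) :
    LambdaRing.gamma k (x + y) = ∑ i ∈ range (k + 1), LambdaRing.gamma i x * LambdaRing.gamma (k - i) y := by
  have hs : LambdaRing.lamSeries (x + y) = LambdaRing.lamSeries x * LambdaRing.lamSeries y := by
    ext n
    rw [PowerSeries.coeff_mul, Finset.Nat.sum_antidiagonal_eq_sum_range_succ_mk]
    simp [LambdaRing.lamSeries, LambdaRing.LambdaOps.lam_add]
  simp only [gamma_eq_coeff]
  rw [hs, PowerSeries.subst_mul (PowerSeries.HasSubst.of_constantCoeff_zero' (by simp)),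
    PowerSeries.coeff_mul, Finset.Nat.sum_antidiagonal_eq_sum_range_succ_mk]

end Groth.Agent.S3289
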