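import Groth.Statements.S3315
import Groth.Agent.Castel.PicApps

set_option autoImplicit false
universe u
open CategoryTheory CategoryTheory.Limits AlgebraicGeometry
open Models

set_option backward.isDefEq.respectTransparency false
set_option backward.isDefEq.respectTransparency.types false

namespace Groth.Agent.S3315

/-- Let R be a discrete valuation ring with fraction field K, C a smooth proper curve over K with H^0(C,
O_C) = K, X a regular proper model of C with generic-fibre inclusion g : C → X, Γ_1, …, Γ_n the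
irreducible components of the closed fibre and L_i ⊗ I(Γ_i) ≅ O_X. If M is an invertible O_X-module
whose pullback to C is trivial, then there are natural numbers a_i, b_i with M ⊗ L_1^{a_1} ⊗ ⋯ ⊗
L_n^{a_n} ≅ L_1^{b_1} ⊗ ⋯ ⊗ L_n^{b_n}, i.e. M ≅ O_X(Σ (b_i - a_i) Γ_i). -/
theorem result (R : Type u) [CommRing R] [IsDomain R] [IsDiscreteValuationRing R]
    (C X : Scheme.{u}) (f : C ⟶ Spec (CommRingCat.of (FractionRing R))) (p : X ⟶ Spec (CommRingCat.of R))
    (hC : Curve.IsSmoothProperCurve (FractionRing R) C f) (hH0 : IsIso f.appTop)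
    (hX : Models.IsRegularProperModel R X p C f)
    {n : ℕ} (Γ : Fin n → ArSurf.VertComp R (Over.mk p)) (hΓ : Models.IsComponentList R (Over.mk p) Γ)
    (g : C ⟶ X) (hg : IsPullback g f p (Spec.map (CommRingCat.ofHom (algebraMap R (FractionRing R)))))
    (L : Fin n → X.Modules) (hL : ∀ i, ClSub.IsInverseOf (L i) (ClSub.idealMod (Γ i).ι.ker)) (M : X.Modules) (hM : PicF.IsInvertible M)
    (htriv : Nonempty ((Scheme.Modules.pullback g).obj M ≅ Coh.structureModule C)) :
    ∃ a b : Fin n → ℕ, Nonempty (CohB1.tensorMod M (FGA.multiTwist L a) ≅ FGA.multiTwist L b) := by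
  letI := @W7Cube.law
  have hA := Castel.isArithSurface_of_regularProper hC hX
  have hc : W7Cube.pull g (PicGrp.cls M hM) = (1 : PicLoc.PicSet C) :=
    ((Castel.pull_eq_iff g hM (PicLoc.isInvertible_structureModule C)).1 htriv).trans Castel.cls_structure
  obtain ⟨v, hv⟩ := Castel.exists_picO_of_pull_eq_one hC hH0 hX Γ hΓ hg _ hc
  refine ⟨fun i => (-v i).toNat, fun i => (v i).toNat, ?_⟩
  obtain ⟨ha, ea⟩ := Castel.cls_twist hA Γ L hL fun i => (-v i).toNat
  obtain ⟨hb, eb⟩ := Castel.cls_twist hA Γ L hL fun i => (v i).toNat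
  refine (Castel.nonempty_iso_iff (TMul.isInvertible_tensorMod hM ha) hb).2 ?_
  refine (Castel.cls_tensor hM ha).trans ?_
  rw [hv]
  refine (congrArg _ ea).trans (Eq.trans ?_ eb.symm)
  refine (Castel.picO_add Γ _ _).symm.trans (congrArg _ (funext fun i => ?_))
  show v i + ((-v i).toNat : ℤ) = ((v i).toNat : ℤ)
  omega

end Groth.Agent.S3315
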