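import Groth.Statements.S3324
import Groth.Agent.Castel.DivField

set_option autoImplicit false
universe u
open CategoryTheory CategoryTheory.Limits AlgebraicGeometry
open Models

set_option backward.isDefEq.respectTransparency false
set_option backward.isDefEq.respectTransparency.types false

namespace Groth.Agent.S3324

/-- In the following situation (R a discrete valuation ring with residue field k, C a smooth proper
curve over its fraction field K with H^0(C, O_C) = K, X a regular proper model, Γ_1, …, Γ_n the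
irreducible components of the closed fibre with multiplicities m_i) let d = gcd(m_1, …, m_n) and let
D be the closed subscheme Σ (m_i/d) Γ_i, with ideal sheaf Π I(Γ_i)^{m_i/d}. Then κ = H^0(D, O_D) is
a field and 1 - g_C = d [κ : k] (1 - g_D), where g_C = dim_K H^1(C, O_C) and g_D = dim_κ H^1(D,
O_D). Here the right hand side is written as d (dim_k H^0(D, O_D) - dim_k H^1(D, O_D)), the
k-dimensions being computed as R-lengths of the cohomology groups of O_D on X. -/
theorem result (R : Type u) [CommRing R] [IsDomain R] [IsDiscreteValuationRing R]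
    (C X : Scheme.{u}) (f : C ⟶ Spec (CommRingCat.of (FractionRing R))) (p : X ⟶ Spec (CommRingCat.of R))
    (hC : Curve.IsSmoothProperCurve (FractionRing R) C f) (hH0 : IsIso f.appTop)
    (hX : Models.IsRegularProperModel R X p C f)
    {n : ℕ} (Γ : Fin n → ArSurf.VertComp R (Over.mk p)) (hΓ : Models.IsComponentList R (Over.mk p) Γ) :
    IsField ↑(Γ((∏ i, (Γ i).ι.ker ^ (Models.mult R (Over.mk p) (Γ i) / Models.multGcd R (Over.mk p) Γ)).subscheme, ⊤)) ∧
      (1 : ℤ) - (Models.curveGenus (FractionRing R) C f : ℤ) =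
        (Models.multGcd R (Over.mk p) Γ : ℤ) * ((Models.lengthH R (Over.mk p) (ClSub.quotMod (∏ i, (Γ i).ι.ker ^ (Models.mult R (Over.mk p) (Γ i) / Models.multGcd R (Over.mk p) Γ))) 0 : ℤ) -
          (Models.lengthH R (Over.mk p) (ClSub.quotMod (∏ i, (Γ i).ι.ker ^ (Models.mult R (Over.mk p) (Γ i) / Models.multGcd R (Over.mk p) Γ))) 1 : ℤ)) := by
  obtain ⟨s, a, h0, hl, -, hg⟩ := Castel.exists_chain hC hH0 hX Γ hΓ
  have hgood := hg (Fin.last s)
  rw [hl] at hgood
  refine ⟨hgood.1, ?_⟩
  let d := Models.multGcd R (Over.mk p) Γ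
  let e : Fin n → ℕ := fun i => Models.mult R (Over.mk p) (Γ i) / d
  have hA := Castel.isArithSurface_of_regularProper hC hX
  obtain ⟨hn, hpos, hdvd, hd, -⟩ := Castel.mult_facts hC hH0 hX Γ hΓ
  obtain ⟨T, hm, ha, -, -, -⟩ := Castel.exists_numType hC hH0 hX Γ hΓ
  have hde : ∀ i, (d : ℤ) * (e i : ℤ) = (Models.mult R (Over.mk p) (Γ i) : ℤ) := fun i => by
    exact_mod_cast Nat.mul_div_cancel' (hdvd i)
  have hz : ∀ i, ∑ j, (Models.mult R (Over.mk p) (Γ j) : ℤ) * Castel.interMat Γ i j = 0 := fun i => by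
    rw [← (show ∑ j, T.a i j * T.m j = 0 from congrFun T.mulVec_m i)]
    exact Finset.sum_congr rfl fun j _ => by rw [hm, ha]; ring
  have hze : ∀ i, ∑ j, (e j : ℤ) * Castel.interMat Γ i j = 0 := fun i => by
    refine (mul_eq_zero.1 ?_).resolve_left (show (d : ℤ) ≠ 0 by exact_mod_cast hd.ne')
    rw [Finset.mul_sum, ← hz i]
    exact Finset.sum_congr rfl fun j _ => by rw [← mul_assoc, hde]
  have hquad : ∀ b : Fin n → ℕ, (∀ i, ∑ j, (b j : ℤ) * Castel.interMat Γ i j = 0) →
      ∑ i, ∑ j, (b i : ℤ) * b j * Castel.interMat Γ i j = 0 := fun b hb => Finset.sum_eq_zero fun i _ => by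
    rw [Finset.sum_congr rfl fun j _ => mul_assoc (b i : ℤ) (b j) (Castel.interMat Γ i j), ← Finset.mul_sum, hb,
      mul_zero]
  obtain ⟨-, h1⟩ := Castel.chiL_divI hA Γ hΓ.1 e
  obtain ⟨-, h2⟩ := Castel.chiL_divI hA Γ hΓ.1 (fun i => Models.mult R (Over.mk p) (Γ i))
  rw [hquad e hze, neg_zero, zero_add] at h1
  rw [hquad _ hz, neg_zero, zero_add] at h2
  rw [show Castel.divI Γ (fun i => Models.mult R (Over.mk p) (Γ i)) = Castel.fibreIdeal (Over.mk p) from
    (Castel.fibreIdeal_eq_prod hA Γ hΓ.1 (Castel.componentList_cover hΓ)).symm, Castel.chiL_fibre hC hX,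
    (haveI : IsProper f := hC.1; Castel.hRank_zero_eq_one hH0)] at h2
  have key : 2 * ((1 : ℤ) - Models.curveGenus (FractionRing R) C f) =
      2 * ((d : ℤ) * Castel.chiL R (Over.mk p) (ClSub.quotMod (Castel.divI Γ e))) := by
    rw [mul_left_comm, h1, Finset.mul_sum]
    rw [Nat.cast_one] at h2
    rw [h2]
    refine Finset.sum_congr rfl fun i _ => ?_
    rw [← mul_assoc, hde]
  exact mul_left_cancel₀ two_ne_zero key

end Groth.Agent.S3324
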