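import Groth.Statements.S3330
import Groth.Agent.Castel.MinModel

set_option autoImplicit false
universe u
open CategoryTheory CategoryTheory.Limits AlgebraicGeometry
open Models

set_option backward.isDefEq.respectTransparency false
set_option backward.isDefEq.respectTransparency.types false

namespace Groth.Agent.S3330

/-- Let R be a discrete valuation ring with fraction field K and C a smooth proper curve over K with
H^0(C, O_C) = K and positive genus dim_K H^1(C, O_C) > 0. If X₁ and X₂ are minimal models of C with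
generic-fibre inclusions g₁, g₂, then there is a unique isomorphism X₁ ≅ X₂ of models (over R,
carrying g₁ to g₂). -/
theorem result (R : Type u) [CommRing R] [IsDomain R] [IsDiscreteValuationRing R]
    (C X₁ X₂ : Scheme.{u}) (f : C ⟶ Spec (CommRingCat.of (FractionRing R)))
    (p₁ : X₁ ⟶ Spec (CommRingCat.of R)) (p₂ : X₂ ⟶ Spec (CommRingCat.of R))
    (hC : Curve.IsSmoothProperCurve (FractionRing R) C f) (hH0 : IsIso f.appTop)
    (hg : 0 < Models.curveGenus (FractionRing R) C f)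
    (h₁ : Models.IsMinimalModel R X₁ p₁ C f) (h₂ : Models.IsMinimalModel R X₂ p₂ C f)
    (g₁ : C ⟶ X₁) (hg₁ : IsPullback g₁ f p₁ (Spec.map (CommRingCat.ofHom (algebraMap R (FractionRing R)))))
    (g₂ : C ⟶ X₂) (hg₂ : IsPullback g₂ f p₂ (Spec.map (CommRingCat.ofHom (algebraMap R (FractionRing R))))) :
    ∃! e : X₁ ≅ X₂, e.hom ≫ p₂ = p₁ ∧ g₁ ≫ e.hom = g₂ := by
  obtain ⟨a, ⟨ha, ha'⟩, -, huniq⟩ := Castel.exists_contraction_of_minimal hC hg h₂ h₁.1 hg₂ hg₁
  obtain ⟨b, ⟨hb, hb'⟩, -, -⟩ := Castel.exists_contraction_of_minimal hC hg h₁ h₂.1 hg₁ hg₂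
  obtain ⟨c, -, -, hc⟩ := Castel.exists_contraction_of_minimal hC hg h₁ h₁.1 hg₁ hg₁
  obtain ⟨d, -, -, hd⟩ := Castel.exists_contraction_of_minimal hC hg h₂ h₂.1 hg₂ hg₂
  have e₁ : a ≫ b = 𝟙 X₁ := (hc _ (by rw [Category.assoc, hb, ha]) (by rw [← Category.assoc, ha', hb'])).trans
    (hc _ (Category.id_comp _) (Category.comp_id _)).symm
  have e₂ : b ≫ a = 𝟙 X₂ := (hd _ (by rw [Category.assoc, ha, hb]) (by rw [← Category.assoc, hb', ha'])).trans
    (hd _ (Category.id_comp _) (Category.comp_id _)).symm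
  exact ⟨⟨a, b, e₁, e₂⟩, ⟨ha, ha'⟩, fun e he => Iso.ext (huniq _ he.1 he.2)⟩

end Groth.Agent.S3330
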