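import Groth.Statements.S3337
import Groth.Agent.Castel.GenusZeroApps
import Groth.Agent.S3338

set_option autoImplicit false
universe u
open CategoryTheory CategoryTheory.Limits AlgebraicGeometry
open Models

set_option backward.isDefEq.respectTransparency false
set_option backward.isDefEq.respectTransparency.types false

namespace Groth.Agent.S3337

/-- Let R be a discrete valuation ring with fraction field K and C a smooth proper curve over K with
H^0(C, O_C) = K. If C has a proper smooth model over R (good reduction), then every minimal model of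
C is smooth over R. -/
theorem result (R : Type u) [CommRing R] [IsDomain R] [IsDiscreteValuationRing R]
    (C X : Scheme.{u}) (f : C ⟶ Spec (CommRingCat.of (FractionRing R))) (p : X ⟶ Spec (CommRingCat.of R))
    (hC : Curve.IsSmoothProperCurve (FractionRing R) C f) (hH0 : IsIso f.appTop)
    (hgood : Models.HasGoodReduction R C f) (hX : Models.IsMinimalModel R X p C f) :
    Smooth p := by
  obtain ⟨X', p', hM, hp, hs⟩ := hgood
  haveI := hp; haveI := hs
  have hX' := Groth.Agent.S3338.result R C X' f p' hC hH0 hM
  by_cases hl : Castel.HasLineFibre R X p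
  · exact Castel.smooth_of_hasLineFibre hC hX.1 hl
  obtain ⟨g, hg⟩ : ∃ g : C ⟶ X, IsPullback g f p (Neron.genPt R) := hX.1.1.2.2.2
  obtain ⟨g', hg'⟩ : ∃ g' : C ⟶ X', IsPullback g' f p' (Neron.genPt R) := hM.2.2.2
  obtain ⟨e, he, -⟩ := Castel.exists_iso_to_nonline hC hH0 hX hl hX' hg hg'
  have h : p = e.inv ≫ p' := by rw [← he, e.inv_hom_id_assoc]
  rw [h]
  infer_instance

end Groth.Agent.S3337
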