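import Groth.Statements.S3346
import Groth.Agent.Castel.ContractInter
import Groth.Agent.Castel.ProperArith
import Groth.Agent.Castel.MinDesc

set_option autoImplicit false
universe u
open CategoryTheory CategoryTheory.Limits AlgebraicGeometry
open Models

set_option backward.isDefEq.respectTransparency false
set_option backward.isDefEq.respectTransparency.types false

namespace Groth.Agent.S3346

/-- In the following situation (R a discrete valuation ring with residue field k, C a smooth proper
curve over its fraction field K with H^0(C, O_C) = K, X a regular proper model with generic-fibre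
inclusion g, Γ_0, …, Γ_n the irreducible components of the closed fibre with multiplicities m_i, L_j
⊗ I(Γ_j) ≅ O_X, a_ij = deg_k(L_j|Γ_i)) assume the last component Γ_n is an exceptional curve of the
first kind and let b : X → X' be a contraction of Γ_n over R (X' Noetherian, p = b ≫ p'). Then X'
(with g ≫ b) is a regular proper model of C, the irreducible components of its closed fibre are
exactly the images Γ'_i = b(Γ_i), i < n, and for any enumeration Γ' of them with these images and
any L'_j ⊗ I(Γ'_j) ≅ O_{X'} one has m'_i = m_i and a'_ij · a_nn = a_ij · a_nn - a_in · a_jn (that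
is, a'_ij = a_ij - a_in a_jn / a_nn, cleared of the denominator a_nn ≠ 0). -/
theorem result (R : Type u) [CommRing R] [IsDomain R] [IsDiscreteValuationRing R]
    (C X X' : Scheme.{u}) (f : C ⟶ Spec (CommRingCat.of (FractionRing R))) (p : X ⟶ Spec (CommRingCat.of R))
    (p' : X' ⟶ Spec (CommRingCat.of R))
    (hC : Curve.IsSmoothProperCurve (FractionRing R) C f) (hH0 : IsIso f.appTop)
    (hX : Models.IsRegularProperModel R X p C f) (g : C ⟶ X) (hg : IsPullback g f p (Spec.map (CommRingCat.ofHom (algebraMap R (FractionRing R)))))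
    {n : ℕ} (Γ : Fin (n + 1) → ArSurf.VertComp R (Over.mk p)) (hΓ : Models.IsComponentList R (Over.mk p) Γ)
    (L : Fin (n + 1) → X.Modules) (hL : ∀ i, ClSub.IsInverseOf (L i) (ClSub.idealMod (Γ i).ι.ker))
    (hexc : Models.IsExcCurve (Γ (Fin.last n)).ι)
    (b : X ⟶ X') (hb : Models.IsContractionOf (Γ (Fin.last n)).ι b) (hcomm : b ≫ p' = p) :
    Models.IsRegularProperModel R X' p' C f ∧
      Models.fibreComponents R (Over.mk p') =
        Set.range (fun i : Fin n => b.base '' Set.range ((Γ i.castSucc).ι.base : (Γ i.castSucc).curve.left → X)) ∧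
      ∀ (Γ' : Fin n → ArSurf.VertComp R (Over.mk p')),
        (∀ i, Set.range ((Γ' i).ι.base : (Γ' i).curve.left → X') =
          b.base '' Set.range ((Γ i.castSucc).ι.base : (Γ i.castSucc).curve.left → X)) →
        (∀ i, Models.mult R (Over.mk p') (Γ' i) = Models.mult R (Over.mk p) (Γ i.castSucc)) ∧
        ∀ (L' : Fin n → X'.Modules), (∀ j, ClSub.IsInverseOf (L' j) (ClSub.idealMod (Γ' j).ι.ker)) →
          ∀ i j : Fin n,
            ArSurf.inter R (Over.mk p') (L' j) (Γ' i) * ArSurf.inter R (Over.mk p) (L (Fin.last n)) (Γ (Fin.last n)) =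
              ArSurf.inter R (Over.mk p) (L j.castSucc) (Γ i.castSucc) * ArSurf.inter R (Over.mk p) (L (Fin.last n)) (Γ (Fin.last n)) -
                ArSurf.inter R (Over.mk p) (L (Fin.last n)) (Γ i.castSucc) * ArSurf.inter R (Over.mk p) (L (Fin.last n)) (Γ j.castSucc) := by
  have hA := Castel.isArithSurface_of_regularProper hC hX
  obtain ⟨y, F⟩ := Castel.exists_contractFacts hA (Γ (Fin.last n)) hexc b hb p' hcomm
  haveI : IsProper p' := F.proper
  haveI := F.properb
  have hpull : IsPullback (g ≫ b) f p' (Neron.genPt R) := by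
    let G : Over.mk p ⟶ Over.mk p' := Over.homMk b hcomm
    let V : X'.Opens := ⟨({y} : Set X')ᶜ, F.closed.isOpen_compl⟩
    haveI : IsIso (G.left ∣_ V) := F.iso V fun h => h rfl
    haveI := Castel.isIso_genericFibre_map G V fun v hv hvy => by
      rw [Set.mem_singleton_iff.1 hvy] at hv
      exact Castel.base_ne_bot_of_closed (IsDiscreteValuationRing.not_isField R) p' F.closed hv
    haveI : IsIso ((Neron.genericFibre R).map G).left :=
      inferInstanceAs (IsIso ((Over.forget _).map ((Neron.genericFibre R).map G)))
    let m : pullback p (Neron.genPt R) ⟶ pullback p' (Neron.genPt R) := ((Neron.genericFibre R).map G).left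
    haveI : IsIso m := inferInstanceAs (IsIso ((Neron.genericFibre R).map G).left)
    refine IsPullback.of_iso_pullback ⟨by rw [Category.assoc, hcomm, hg.w]⟩ (hg.isoPullback ≪≫ asIso m) ?_ ?_
    · rw [Iso.trans_hom, asIso_hom, Category.assoc,
        show m ≫ pullback.fst p' (Neron.genPt R) = pullback.fst p (Neron.genPt R) ≫ b from pullback.lift_fst _ _ _,
        IsPullback.isoPullback_hom_fst_assoc]
    · rw [Iso.trans_hom, asIso_hom, Category.assoc,
        show m ≫ pullback.snd p' (Neron.genPt R) = pullback.snd p (Neron.genPt R) from pullback.lift_snd _ _ _,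
        IsPullback.isoPullback_hom_snd]
  haveI : Flat p' := F.arith.2.2.2.1
  refine ⟨⟨⟨inferInstance, inferInstance, inferInstance, g ≫ b, hpull⟩, F.proper, F.arith.1⟩,
    F.components hA hexc Γ hΓ rfl, fun Γ' hΓ' => ⟨fun i => ?_, fun L' hL' i j => ?_⟩⟩
  · exact F.mult_image (Γ i.castSucc) (fun e => Fin.castSucc_ne_last i (hΓ.1 e)) (Γ' i) (hΓ' i)
  · rw [Castel.inter_eq_interMat F.arith Γ' (hL' j), Castel.inter_eq_interMat hA Γ (hL (Fin.last n)),
      Castel.inter_eq_interMat hA Γ (hL j.castSucc), Castel.inter_eq_interMat hA Γ (hL (Fin.last n)),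
      Castel.inter_eq_interMat hA Γ (hL (Fin.last n))]
    exact F.inter_image hA Γ hΓ rfl Γ' hΓ' i j

end Groth.Agent.S3346
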