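import Groth.Statements.S3347
import Groth.Agent.Castel.ProperArith
import Groth.Agent.Castel.ExcComp

set_option autoImplicit false
universe u
open CategoryTheory CategoryTheory.Limits AlgebraicGeometry
open Models

set_option backward.isDefEq.respectTransparency false
set_option backward.isDefEq.respectTransparency.types false

namespace Groth.Agent.S3347

/-- In the following situation (R a discrete valuation ring with residue field k, C a smooth proper
curve over its fraction field K with H^0(C, O_C) = K, X a regular proper model, Γ_1, …, Γ_n the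
irreducible components of the closed fibre, L_i ⊗ I(Γ_i) ≅ O_X) the following are equivalent: X is a
minimal model (no vertical prime divisor of X is an exceptional curve of the first kind); the
numerical type of X is minimal, i.e. there is no index i with g_i = 0 (H^1(Γ_i, O) = 0) and (Γ_i ·
Γ_i) = deg_k(L_i|Γ_i) = -[κ_i : k] = -dim_k H^0(Γ_i, O). -/
theorem result (R : Type u) [CommRing R] [IsDomain R] [IsDiscreteValuationRing R]
    (C X : Scheme.{u}) (f : C ⟶ Spec (CommRingCat.of (FractionRing R))) (p : X ⟶ Spec (CommRingCat.of R))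
    (hC : Curve.IsSmoothProperCurve (FractionRing R) C f) (hH0 : IsIso f.appTop)
    (hX : Models.IsRegularProperModel R X p C f)
    {n : ℕ} (Γ : Fin n → ArSurf.VertComp R (Over.mk p)) (hΓ : Models.IsComponentList R (Over.mk p) Γ)
    (L : Fin n → X.Modules) (hL : ∀ i, ClSub.IsInverseOf (L i) (ClSub.idealMod (Γ i).ι.ker)) :
    Models.IsMinimalModel R X p C f ↔
      ∀ i, ¬ (Models.h1 R (Over.mk p) (Γ i) = 0 ∧ ArSurf.inter R (Over.mk p) (L i) (Γ i) = -(Models.wdeg R (Over.mk p) (Γ i) : ℤ)) := by
  have hA := Castel.isArithSurface_of_regularProper hC hX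
  refine ⟨fun h i hi => h.2 (Γ i) (Castel.isExcCurve_of_numbers hA (Γ i) (hL i) hi.1 hi.2), fun h => ⟨hX, fun E hE => ?_⟩⟩
  obtain ⟨i, hi⟩ := Castel.exists_exc_component Γ hΓ E hE
  obtain ⟨-, k, _, e, ⟨c⟩⟩ := hi
  have hI := Castel.isEffCartierIdeal_ker hA (Γ i)
  haveI : IsProper p := hX.2.1
  obtain ⟨h1, h2⟩ := Castel.vert_line_numbers (Γ i) e
    (Castel.isInvertible_of_isInverseOf ((Groth.Agent.S8914.result _).2 hI) (hL i)) (hL i) (m := 1) c
  exact h i ⟨h1, by rw [h2, one_mul]⟩

end Groth.Agent.S3347
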