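import Groth.Statements.S3348
import Groth.Agent.Castel.PicApps

set_option autoImplicit false
universe u
open CategoryTheory CategoryTheory.Limits AlgebraicGeometry
open Models

set_option backward.isDefEq.respectTransparency false
set_option backward.isDefEq.respectTransparency.types false

namespace Groth.Agent.S3348

/-- In the following situation (R a discrete valuation ring with residue field k, C a smooth proper
curve over its fraction field K with H^0(C, O_C) = K, X a regular proper model with generic-fibre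
inclusion g, Γ_1, …, Γ_n the irreducible components of the closed fibre, L_j ⊗ I(Γ_j) ≅ O_X, a_ij =
deg_k(L_j|Γ_i), w_i = dim_k H^0(Γ_i, O)) let N be an invertible O_C-module and M an invertible
O_X-module restricting to N. Then the degree vector (deg_k(M|Γ_i))_i is of the form (Σ_j a_ij v_j)_i
for an integer vector v (the class (deg_k(M|Γ_i)/w_i)_i vanishes in the Picard group of the
numerical type, which does not depend on the choice of M) if and only if N is the restriction of an
invertible O_X-module M' with deg_k(M'|Γ_i) = 0 for all i. -/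
theorem result (R : Type u) [CommRing R] [IsDomain R] [IsDiscreteValuationRing R]
    (C X : Scheme.{u}) (f : C ⟶ Spec (CommRingCat.of (FractionRing R))) (p : X ⟶ Spec (CommRingCat.of R))
    (hC : Curve.IsSmoothProperCurve (FractionRing R) C f) (hH0 : IsIso f.appTop)
    (hX : Models.IsRegularProperModel R X p C f)
    {n : ℕ} (Γ : Fin n → ArSurf.VertComp R (Over.mk p)) (hΓ : Models.IsComponentList R (Over.mk p) Γ)
    (g : C ⟶ X) (hg : IsPullback g f p (Spec.map (CommRingCat.ofHom (algebraMap R (FractionRing R))))) (L : Fin n → X.Modules) (hL : ∀ i, ClSub.IsInverseOf (L i) (ClSub.idealMod (Γ i).ι.ker))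
    (N : C.Modules) (hN : PicF.IsInvertible N)
    (M : X.Modules) (hM : PicF.IsInvertible M) (hMN : Nonempty ((Scheme.Modules.pullback g).obj M ≅ N)) :
    (∃ v : Fin n → ℤ, ∀ i, ArSurf.inter R (Over.mk p) M (Γ i) = ∑ j, ArSurf.inter R (Over.mk p) (L j) (Γ i) * v j) ↔
      ∃ M' : X.Modules, PicF.IsInvertible M' ∧ Nonempty ((Scheme.Modules.pullback g).obj M' ≅ N) ∧
        ∀ i, ArSurf.inter R (Over.mk p) M' (Γ i) = 0 := by
  letI := @W7Cube.law
  haveI : IsProper (Over.mk p).hom := hX.2.1
  have hA := Castel.isArithSurface_of_regularProper hC hX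
  have hp := (Castel.pull_eq_iff g hM hN).1 hMN
  have hm : ∀ (v : Fin n → ℤ) i, ∑ j, ArSurf.inter R (Over.mk p) (L j) (Γ i) * v j =
      ∑ j, Castel.interMat Γ i j * v j := fun v i =>
    Finset.sum_congr rfl fun j _ => by rw [Castel.inter_eq_interMat hA Γ (hL j)]
  have key := Castel.exists_deg_zero_iff hC hH0 hX Γ hΓ hg (PicGrp.cls M hM)
  constructor
  · rintro ⟨v, hv⟩
    obtain ⟨c, hc, hd⟩ := key.1 ⟨v, fun i => ((Castel.degP_cls (Γ i) hM).trans (hv i)).trans (hm v i)⟩
    obtain ⟨M', hM', rfl⟩ := PicGrp.exists_eq_cls c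
    exact ⟨M', hM', (Castel.pull_eq_iff g hM' hN).2 (hc.trans hp),
      fun i => (Castel.degP_cls (Γ i) hM').symm.trans (hd i)⟩
  · rintro ⟨M', hM', hN', hd⟩
    obtain ⟨v, hv⟩ := key.2 ⟨PicGrp.cls M' hM', ((Castel.pull_eq_iff g hM' hN).1 hN').trans hp.symm,
      fun i => (Castel.degP_cls (Γ i) hM').trans (hd i)⟩
    exact ⟨v, fun i => (((Castel.degP_cls (Γ i) hM).symm.trans (hv i))).trans (hm v i).symm⟩

end Groth.Agent.S3348
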