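import Groth.Statements.S3351
import Mathlib.LinearAlgebra.BilinearForm.Orthogonal
import Mathlib.LinearAlgebra.FreeModule.PID
import Mathlib.LinearAlgebra.Dual.Lemmas
import Mathlib.LinearAlgebra.Dimension.Finite
import Mathlib.LinearAlgebra.Dimension.Localization

set_option autoImplicit false
open Models

namespace Groth.Agent.S3351

/-- Let L be a finite free Z-module with a positive definite symmetric integral bilinear form, A ⊆ L a
submodule with L/A torsion free and B the orthogonal complement of A. Write M^# for the dual lattice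
of a sublattice M, identified here with the Z-dual Hom(M, Z) through the form. Then the natural maps
L/(A ⊕ B) → B^#/B and L/(A ⊕ B) → A^#/A are injective: an element x of L whose functional ⟨x, -⟩ on
B (resp. on A) is represented by an element of B (resp. of A) lies in A ⊕ B. Moreover the
restriction maps L^# → B^# and L^# → A^# are surjective, so that the cokernels of the two injections
are quotients of L^#/L. -/
theorem result {L : Type} [AddCommGroup L] [Module.Finite ℤ L] [Module.Free ℤ L]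
    (B : LinearMap.BilinForm ℤ L) (hsymm : B.IsSymm) (hpos : ∀ x, x ≠ 0 → 0 < B x x)
    (A : Submodule ℤ L) (htf : ∀ (c : ℤ) (x : L), c ≠ 0 → c • x ∈ A → x ∈ A) :
    (∀ x : L, (∃ b ∈ B.orthogonal A, ∀ b' ∈ B.orthogonal A, B x b' = B b b') → x ∈ A ⊔ B.orthogonal A) ∧
      (∀ x : L, (∃ a ∈ A, ∀ a' ∈ A, B x a' = B a a') → x ∈ A ⊔ B.orthogonal A) ∧
      (∀ ψ : Module.Dual ℤ ↥(B.orthogonal A), ∃ φ : Module.Dual ℤ L, φ ∘ₗ (B.orthogonal A).subtype = ψ) ∧
      (∀ ψ : Module.Dual ℤ ↥A, ∃ φ : Module.Dual ℤ L, φ ∘ₗ A.subtype = ψ) := by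
  classical
  have hproj : ∀ (S : Submodule ℤ L), (∀ (c : ℤ) (x : L), c ≠ 0 → c • x ∈ S → x ∈ S) →
      ∃ p : L →ₗ[ℤ] ↥S, ∀ a : S, p a = a := by
    intro S hS
    have : Module.IsTorsionFree ℤ (L ⧸ S) := by
      rw [Module.isTorsionFree_iff_smul_eq_zero]
      intro c q hq
      obtain ⟨x, rfl⟩ := Submodule.Quotient.mk_surjective _ q
      rcases eq_or_ne c 0 with hc | hc
      · exact Or.inl hc
      rw [← Submodule.Quotient.mk_smul, Submodule.Quotient.mk_eq_zero] at hq
      exact Or.inr ((Submodule.Quotient.mk_eq_zero _).2 (hS c x hc hq))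
    have : Module.Free ℤ (L ⧸ S) := inferInstance
    obtain ⟨s, hs⟩ := Module.projective_lifting_property S.mkQ LinearMap.id S.mkQ_surjective
    refine ⟨LinearMap.codRestrict S (LinearMap.id - s ∘ₗ S.mkQ) fun x => ?_, fun a => ?_⟩
    · rw [← Submodule.Quotient.mk_eq_zero]
      have := LinearMap.congr_fun hs (S.mkQ x)
      simp only [LinearMap.comp_apply, LinearMap.id_apply, Submodule.mkQ_apply] at this
      simp only [LinearMap.sub_apply, LinearMap.id_apply, LinearMap.comp_apply, Submodule.mkQ_apply,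
        Submodule.Quotient.mk_sub, this, sub_self]
    · apply Subtype.ext
      simp [LinearMap.codRestrict_apply, (Submodule.Quotient.mk_eq_zero _).2 a.2]
  have horth : ∀ {x : L}, x ∈ B.orthogonal A ↔ ∀ a ∈ A, B a x = 0 := LinearMap.BilinForm.mem_orthogonal_iff
  have htf' : ∀ (c : ℤ) (x : L), c ≠ 0 → c • x ∈ B.orthogonal A → x ∈ B.orthogonal A := by
    intro c x hc h
    rw [horth] at h ⊢
    intro a ha
    have := h a ha
    rw [map_smul, smul_eq_mul] at this
    exact (mul_eq_zero.1 this).resolve_left hc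
  have hself : ∀ x, B x x = 0 → x = 0 := fun x hx => by
    by_contra h; exact (hpos x h).ne' hx
  have hdis : A ⊓ B.orthogonal A = ⊥ := by
    rw [eq_bot_iff]; rintro x ⟨hxA, hxo⟩
    exact hself x ((horth.1 hxo) x hxA)
  have htors : ∀ y : L, ∃ c : ℤ, c ≠ 0 ∧ c • y ∈ A ⊔ B.orthogonal A := by
    intro y
    let φ : L →ₗ[ℤ] Module.Dual ℤ ↥A := B.compl₂ A.subtype
    have hk : LinearMap.ker φ = B.orthogonal A := by
      ext x
      rw [LinearMap.mem_ker, horth]
      refine ⟨fun h a ha => (hsymm.eq a x).trans (LinearMap.congr_fun h ⟨a, ha⟩), fun h => ?_⟩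
      ext ⟨a, ha⟩
      exact (hsymm.eq x a).trans (h a ha)
    have h1 : Module.finrank ℤ (L ⧸ LinearMap.ker φ) + Module.finrank ℤ (LinearMap.ker φ)
        = Module.finrank ℤ L := Submodule.finrank_quotient_add_finrank _
    have h2 : Module.finrank ℤ (L ⧸ LinearMap.ker φ) ≤ Module.finrank ℤ A := by
      rw [φ.quotKerEquivRange.finrank_eq]
      refine (Submodule.finrank_le _).trans (le_of_eq ?_)
      exact (LinearEquiv.finrank_eq (Module.Free.chooseBasis ℤ A).toDualEquiv).symm
    let ψ : ↥A × ↥(B.orthogonal A) →ₗ[ℤ] L :=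
      A.subtype.coprod (B.orthogonal A).subtype
    have hψ : Function.Injective ψ := by
      rw [← LinearMap.ker_eq_bot, LinearMap.ker_eq_bot']
      rintro ⟨a, b⟩ h
      have ha : (a : L) ∈ A ⊓ B.orthogonal A := by
        refine ⟨a.2, ?_⟩
        have e : (a : L) = -(b : L) := eq_neg_of_add_eq_zero_left h
        rw [SetLike.mem_coe, e]; exact neg_mem b.2
      rw [hdis, Submodule.mem_bot] at ha
      simp only [ψ, LinearMap.coprod_apply, Submodule.subtype_apply, ha, zero_add] at h
      exact Prod.ext (Subtype.ext ha) (Subtype.ext h)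
    have h3 : LinearMap.range ψ = A ⊔ B.orthogonal A := by simp [ψ, LinearMap.range_coprod]
    have h4 : Module.finrank ℤ (L ⧸ (A ⊔ B.orthogonal A)) = 0 := by
      have := Submodule.finrank_quotient_add_finrank (A ⊔ B.orthogonal A)
      have h5 : Module.finrank ℤ ↥(A ⊔ B.orthogonal A)
          = Module.finrank ℤ ↥A + Module.finrank ℤ ↥(B.orthogonal A) := by
        rw [← h3, LinearMap.finrank_range_of_inj hψ, Module.finrank_prod]
      rw [hk] at h1 h2
      omega
    obtain ⟨c, hc⟩ := Module.finrank_eq_zero_iff.1 h4 (Submodule.Quotient.mk y)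
    refine ⟨c, hc.1, ?_⟩
    rw [← Submodule.Quotient.mk_eq_zero, Submodule.Quotient.mk_smul]
    exact hc.2
  refine ⟨fun x ⟨b, hb, h⟩ => ?_, fun x ⟨a, ha, h⟩ => ?_, fun ψ => ?_, fun ψ => ?_⟩
  · have hy : x - b ∈ A := by
      obtain ⟨c, hc, hm⟩ := htors (x - b)
      obtain ⟨a, ha, b', hb', e⟩ := Submodule.mem_sup.1 hm
      refine htf c _ hc ?_
      have hb0 : b' = 0 := hself b' (by
        have e1 : B (c • (x - b)) b' = B a b' + B b' b' := by
          rw [← e, map_add, LinearMap.add_apply]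
        rw [(horth.1 hb') a ha, zero_add, map_smul, LinearMap.smul_apply, map_sub,
          LinearMap.sub_apply, h b' hb', sub_self, smul_zero] at e1
        exact e1.symm)
      rw [← e, hb0, add_zero]; exact ha
    exact Submodule.mem_sup.2 ⟨x - b, hy, b, hb, sub_add_cancel x b⟩
  · refine Submodule.mem_sup.2 ⟨a, ha, x - a, horth.2 fun a' ha' => ?_, add_sub_cancel a x⟩
    rw [hsymm.eq a' (x - a), map_sub, LinearMap.sub_apply, h a' ha', sub_self]
  · obtain ⟨p, hp⟩ := hproj _ htf'
    exact ⟨ψ ∘ₗ p, LinearMap.ext fun a => congrArg ψ (hp a)⟩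
  · obtain ⟨p, hp⟩ := hproj A htf
    exact ⟨ψ ∘ₗ p, LinearMap.ext fun a => congrArg ψ (hp a)⟩

end Groth.Agent.S3351
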