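import Groth.Statements.S3352
import Mathlib.LinearAlgebra.BilinearForm.Orthogonal
import Mathlib.LinearAlgebra.FreeModule.PID
import Mathlib.LinearAlgebra.Dual.Lemmas
import Mathlib.LinearAlgebra.Dimension.Finite
import Mathlib.LinearAlgebra.Dimension.Localization

set_option autoImplicit false
open Models

namespace Groth.Agent.S3352

/-- Let L₀, L₁ be finite free ℤ-modules with positive definite symmetric integral bilinear forms, the
form on L₀ unimodular (x ↦ ⟨x, −⟩ is a bijection L₀ → Hom(L₀, ℤ)), and let d : L₀ → L₁ and d* : L₁ →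
L₀ be adjoint. Identify Im(d)^# (the dual lattice of Im(d)) with Hom(Im(d), ℤ) through the form on
L₁. Then there is an isomorphism Φ from the torsion subgroup of Coker(d* d) onto Im(d)^#/Im(d),
determined by: for x ∈ L₀ whose class is torsion, Φ[x] is the class of the functional d(y') ↦ ⟨x,
y'⟩ (equivalently the class of (1/a)·d(y) when a·x = d* d(y)). -/
theorem result {L₀ L₁ : Type} [AddCommGroup L₀] [AddCommGroup L₁]
    [Module.Finite ℤ L₀] [Module.Free ℤ L₀] [Module.Finite ℤ L₁] [Module.Free ℤ L₁]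
    (B₀ : LinearMap.BilinForm ℤ L₀) (B₁ : LinearMap.BilinForm ℤ L₁) (h₀s : B₀.IsSymm) (h₁s : B₁.IsSymm)
    (h₀p : ∀ x, x ≠ 0 → 0 < B₀ x x) (h₁p : ∀ x, x ≠ 0 → 0 < B₁ x x) (huni : Function.Bijective B₀)
    (d : L₀ →ₗ[ℤ] L₁) (ds : L₁ →ₗ[ℤ] L₀) (hadj : ∀ x y, B₁ (d x) y = B₀ x (ds y)) :
    ∃ Φ : ↥(Submodule.torsion ℤ (L₀ ⧸ LinearMap.range (ds ∘ₗ d))) ≃ₗ[ℤ]
        (Module.Dual ℤ ↥(LinearMap.range d) ⧸
          LinearMap.range ((B₁.compl₂ (LinearMap.range d).subtype) ∘ₗ (LinearMap.range d).subtype)),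
      ∀ (x : L₀) (hx : Submodule.Quotient.mk x ∈ Submodule.torsion ℤ (L₀ ⧸ LinearMap.range (ds ∘ₗ d)))
        (ψ : Module.Dual ℤ ↥(LinearMap.range d)),
        (∀ y' : L₀, ψ ⟨d y', LinearMap.mem_range_self d y'⟩ = B₀ x y') →
          Φ ⟨Submodule.Quotient.mk x, hx⟩ = Submodule.Quotient.mk ψ := by
  classical
  set R := LinearMap.range d
  set M := LinearMap.range (ds ∘ₗ d)
  set ι : ↥R →ₗ[ℤ] Module.Dual ℤ ↥R := (B₁.compl₂ R.subtype) ∘ₗ R.subtype
  let E : L₀ ≃ₗ[ℤ] Module.Dual ℤ L₀ := LinearEquiv.ofBijective B₀ huni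
  let back : Module.Dual ℤ ↥R →ₗ[ℤ] L₀ := E.symm.toLinearMap ∘ₗ d.rangeRestrict.dualMap
  have hback : ∀ (ψ : Module.Dual ℤ ↥R) (y' : L₀),
      B₀ (back ψ) y' = ψ ⟨d y', LinearMap.mem_range_self d y'⟩ := fun ψ y' => by
    show E (E.symm _) y' = _
    rw [E.apply_symm_apply]; rfl
  have hadj' : ∀ y y' : L₀, B₁ (d y) (d y') = B₀ (ds (d y)) y' := fun y y' => by
    rw [h₁s.eq (d y) (d y'), hadj, h₀s.eq y' (ds (d y))]
  have hι : ∀ y : L₀, back (ι ⟨d y, LinearMap.mem_range_self d y⟩) = ds (d y) := fun y =>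
    huni.1 (LinearMap.ext fun y' => by rw [hback, ← hadj']; rfl)
  let Ψ : Module.Dual ℤ ↥R →ₗ[ℤ] L₀ ⧸ M := M.mkQ ∘ₗ back
  have hker : LinearMap.range ι = LinearMap.ker Ψ := by
    apply le_antisymm
    · rintro _ ⟨⟨_, y, rfl⟩, rfl⟩
      show Submodule.Quotient.mk _ = 0
      rw [Submodule.Quotient.mk_eq_zero, hι]
      exact ⟨y, rfl⟩
    · intro ψ hψ
      obtain ⟨y, hy⟩ := (Submodule.Quotient.mk_eq_zero M).1 hψ
      refine ⟨⟨d y, LinearMap.mem_range_self d y⟩, LinearMap.ext fun ⟨_, y', hy'⟩ => ?_⟩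
      subst hy'
      rw [← hback ψ, ← hy]
      exact hadj' y y'
  have hιinj : Function.Injective ι := by
    rw [← LinearMap.ker_eq_bot, LinearMap.ker_eq_bot']
    intro r hr
    by_contra hne
    exact (h₁p r fun e => hne (Subtype.ext e)).ne' (LinearMap.congr_fun hr r)
  have htors : ∀ ψ : Module.Dual ℤ ↥R, ∃ a : ℤ, a ≠ 0 ∧ a • ψ ∈ LinearMap.range ι := by
    intro ψ
    have h := Submodule.finrank_quotient_add_finrank (LinearMap.range ι)
    have h0 : Module.finrank ℤ (Module.Dual ℤ ↥R ⧸ LinearMap.range ι) = 0 := by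
      rw [LinearMap.finrank_range_of_inj hιinj,
        ← (Module.Free.chooseBasis ℤ R).toDualEquiv.finrank_eq] at h
      omega
    obtain ⟨a, ha⟩ := Module.finrank_eq_zero_iff.1 h0 (Submodule.Quotient.mk ψ)
    exact ⟨a, ha.1, by rw [← Submodule.Quotient.mk_eq_zero, Submodule.Quotient.mk_smul]; exact ha.2⟩
  have hrange : LinearMap.range Ψ = Submodule.torsion ℤ (L₀ ⧸ M) := by
    apply le_antisymm
    · rintro _ ⟨ψ, rfl⟩
      obtain ⟨a, ha, h⟩ := htors ψ
      rw [Submodule.mem_torsion_iff]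
      refine ⟨⟨a, mem_nonZeroDivisors_of_ne_zero ha⟩, ?_⟩
      show a • Ψ ψ = 0
      rw [← map_smul, ← LinearMap.mem_ker, ← hker]; exact h
    · intro q hq
      obtain ⟨x, rfl⟩ := Submodule.Quotient.mk_surjective _ q
      obtain ⟨⟨a, ha⟩, h⟩ := (Submodule.mem_torsion_iff _).1 hq
      have h' : (a • Submodule.Quotient.mk x : L₀ ⧸ M) = 0 := h
      rw [← Submodule.Quotient.mk_smul, Submodule.Quotient.mk_eq_zero] at h'
      obtain ⟨y, hy⟩ := h'
      have hd : LinearMap.ker d.rangeRestrict ≤ LinearMap.ker (B₀ x) := by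
        intro y' hy'
        have hy0 : d y' = 0 := congrArg Subtype.val (LinearMap.mem_ker.1 hy')
        have h1 : B₀ (a • x) y' = 0 := by
          rw [← hy, LinearMap.comp_apply, ← hadj', hy0, map_zero]
        rw [map_smul, LinearMap.smul_apply, smul_eq_mul] at h1
        exact (mul_eq_zero.1 h1).resolve_left (nonZeroDivisors.ne_zero ha)
      let eR := LinearMap.quotKerEquivOfSurjective d.rangeRestrict (LinearMap.surjective_rangeRestrict d)
      let ψ : Module.Dual ℤ ↥R := (Submodule.liftQ _ (B₀ x) hd) ∘ₗ eR.symm.toLinearMap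
      refine ⟨ψ, ?_⟩
      show Submodule.Quotient.mk (back ψ) = _
      congr 1
      refine huni.1 (LinearMap.ext fun y' => ?_)
      rw [hback]
      show Submodule.liftQ _ (B₀ x) hd (eR.symm _) = _
      rw [show (⟨d y', LinearMap.mem_range_self d y'⟩ : ↥R) = eR (Submodule.Quotient.mk y') from rfl,
        LinearEquiv.symm_apply_apply]
      rfl
  refine ⟨(((Submodule.quotEquivOfEq _ _ hker).trans Ψ.quotKerEquivRange).trans
    (LinearEquiv.ofEq _ _ hrange)).symm, fun x hx ψ hψ => ?_⟩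
  rw [LinearEquiv.symm_apply_eq]
  apply Subtype.ext
  show Submodule.Quotient.mk x = Ψ ψ
  show _ = Submodule.Quotient.mk (back ψ)
  congr 1
  exact huni.1 (LinearMap.ext fun y' => by rw [hback, hψ])

end Groth.Agent.S3352
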