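import Groth.Statements.S3354
import Groth.Agent.LeffPunct.Basic

set_option autoImplicit false
universe u
open CategoryTheory CategoryTheory.Limits AlgebraicGeometry
open ParaF

namespace Groth.Agent.S3354

/-- Let A be a Noetherian local ring which is a quotient of a regular local ring, t an A-regular element
of the maximal ideal such that A is complete for the t-adic topology, X the punctured spectrum of A
and Y = V(t) ∩ X (the punctured spectrum of B = A/tA, as the closed subscheme of X cut out by t).
Assume (a) A_p has depth ≥ 2 for every prime p with dim A/p = 1 (the closed points of X) and (b) B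
has depth ≥ 3. Then the map Pic(X) → Pic(Y) has trivial kernel: an invertible O_X-module whose
pull-back to Y is trivial is trivial. In particular, if B is parafactorial then A is parafactorial. -/
theorem result (R : Type u) [CommRing R] [IsRegularLocalRing R] (A : Type u) [CommRing A] [IsLocalRing A] [IsNoetherianRing A] (π : R →+* A) (hπ : Function.Surjective π) (t : A) (ht : t ∈ IsLocalRing.maximalIdeal A) (hreg : IsSMulRegular A t) [IsAdicComplete (Ideal.span {t}) A] (ha : ∀ p : PrimeSpectrum A, ringKrullDim (A ⧸ p.asIdeal) = 1 → (2 : ℕ∞) ≤ LocCoh.depth (Localization.AtPrime p.asIdeal) (Localization.AtPrime p.asIdeal)) [IsLocalRing (A ⧸ Ideal.span {t})] (hb : (3 : ℕ∞) ≤ LocCoh.depth (A ⧸ Ideal.span {t}) (A ⧸ Ideal.span {t})) : Formal2.PicPullbackInjective (((Spec.map (CommRingCat.ofHom (Ideal.Quotient.mk (Ideal.span {t})))).ker.comap (FEt.puncturedSpec A).ι)).subschemeι ∧ (ParaF.IsParafactorialLocalRing (A ⧸ Ideal.span {t}) → ParaF.IsParafactorialLocalRing A) := by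
  haveI : IsRegularRing R := Groth.Agent.CotT.isRegularRing_of_local R
  have hC := Groth.Agent.FormAlg.lefCond_punctured π hπ t ht hreg ha
  have hinj : Formal2.PicPullbackInjective
      ((Groth.Agent.FormAlg.divisorIdeal (FEt.puncturedSpec A) t) ^ (0 + 1)).subschemeι :=
    Groth.Agent.FormAlg.LefPic.picPullbackInjective_thickening hC (fun k _ =>
      Groth.Agent.LeffPunct.subsingleton_kernel _ t hreg (Groth.Agent.FormAlg.puncturedSpec_eq A) 0
        (Groth.Agent.LeffPunct.subsingleton_H_quot t ht (d := 3) hb 2 (by norm_num)) k) (le_refl 0)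
  rw [zero_add, pow_one] at hinj
  refine ⟨hinj, fun hB => (Groth.Agent.S2824.result A).2 ⟨Groth.Agent.FormAlg.bijective_restrict_punctured A
    (Groth.Agent.LeffPunct.depth_le_of_quot t ht hreg (le_trans (by norm_num) hb)), fun L hL => hinj L hL ?_⟩⟩
  exact (Groth.Agent.LeffPunct.picTrivial_iff t ht).2 ((Groth.Agent.S2824.result _).1 hB).2 _
    (_root_.PicLoc.isInvertible_pullback _ hL)

end Groth.Agent.S3354
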