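import Groth.Statements.S3355
import Groth.Agent.LeffPunct.Basic

set_option autoImplicit false
universe u
open CategoryTheory CategoryTheory.Limits AlgebraicGeometry
open ParaF

namespace Groth.Agent.S3355

/-- Let A be a Noetherian local ring which is a quotient of a regular local ring, t an A-regular element
of the maximal ideal with A complete for the t-adic topology, X the punctured spectrum of A and Y =
V(t) ∩ X, and assume (a) depth A_p ≥ 2 for every prime p with dim A/p = 1. Assume moreover (c) depth
A_p ≥ 3 for every prime p containing t with dim A/p = 1 (the closed points of Y), (d) depth A/tA ≥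
4, and (e) A_p is parafactorial for every prime p not containing t with dim A/p = 1, i.e. at the
closed points of X outside Y (the published statement places this hypothesis at the points of Y;
here it is taken at the closed points of X outside Y; the letters (a), (c), (d), (e) match the names
of the hypotheses in the Lean statement). Then pull-back along Y → X induces a bijection Pic(X) →
Pic(Y) (trivial kernel and every invertible O_Y-module comes from an invertible O_X-module); in
particular A is parafactorial if and only if A/tA is. -/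
theorem result (R : Type u) [CommRing R] [IsRegularLocalRing R] (A : Type u) [CommRing A] [IsLocalRing A] [IsNoetherianRing A] (π : R →+* A) (hπ : Function.Surjective π) (t : A) (ht : t ∈ IsLocalRing.maximalIdeal A) (hreg : IsSMulRegular A t) [IsAdicComplete (Ideal.span {t}) A] (ha : ∀ p : PrimeSpectrum A, ringKrullDim (A ⧸ p.asIdeal) = 1 → (2 : ℕ∞) ≤ LocCoh.depth (Localization.AtPrime p.asIdeal) (Localization.AtPrime p.asIdeal)) (hc : ∀ p : PrimeSpectrum A, t ∈ p.asIdeal → ringKrullDim (A ⧸ p.asIdeal) = 1 → (3 : ℕ∞) ≤ LocCoh.depth (Localization.AtPrime p.asIdeal) (Localization.AtPrime p.asIdeal)) [IsLocalRing (A ⧸ Ideal.span {t})] (hd : (4 : ℕ∞) ≤ LocCoh.depth (A ⧸ Ideal.span {t}) (A ⧸ Ideal.span {t})) (he : ∀ p : PrimeSpectrum A, t ∉ p.asIdeal → ringKrullDim (A ⧸ p.asIdeal) = 1 → ParaF.IsParafactorialLocalRing (Localization.AtPrime p.asIdeal)) : (Formal2.PicPullbackInjective (((Spec.map (CommRingCat.ofHom (Ideal.Quotient.mk (Ideal.span {t})))).ker.comap (FEt.puncturedSpec A).ι)).subschemeι ∧ Formal2.PicPullbackSurjective (((Spec.map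 (CommRingCat.ofHom (Ideal.Quotient.mk (Ideal.span {t})))).ker.comap (FEt.puncturedSpec A).ι)).subschemeι) ∧ (ParaF.IsParafactorialLocalRing A ↔ ParaF.IsParafactorialLocalRing (A ⧸ Ideal.span {t})) := by
  haveI : IsRegularRing R := Groth.Agent.CotT.isRegularRing_of_local R
  haveI : TopologicalSpace.NoetherianSpace (Spec (CommRingCat.of A)) :=
    inferInstanceAs (TopologicalSpace.NoetherianSpace (PrimeSpectrum A))
  haveI : IsLocallyNoetherian (↑(FEt.puncturedSpec A) : Scheme.{u}) :=
    LocallyOfFiniteType.isLocallyNoetherian (FEt.puncturedSpec A).ι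
  have hL := Groth.Agent.LeffPunct.leffCond_punctured t π hπ ht hreg ha hc
  have hinj : Formal2.PicPullbackInjective
      ((Groth.Agent.FormAlg.divisorIdeal (FEt.puncturedSpec A) t) ^ (0 + 1)).subschemeι :=
    Groth.Agent.FormAlg.LefPic.picPullbackInjective_thickening hL.1 (fun k _ =>
      Groth.Agent.LeffPunct.subsingleton_kernel _ t hreg (Groth.Agent.FormAlg.puncturedSpec_eq A) 0
        (Groth.Agent.LeffPunct.subsingleton_H_quot t ht (d := 4) hd 2 (by norm_num)) k) (le_refl 0)
  have hsurj : Formal2.PicPullbackSurjective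
      ((Groth.Agent.FormAlg.divisorIdeal (FEt.puncturedSpec A) t) ^ (0 + 1)).subschemeι :=
    Groth.Agent.FormAlg.LefPic.picPullbackSurjective_thickening hL (fun k _ =>
      Groth.Agent.LeffPunct.subsingleton_kernel _ t hreg (Groth.Agent.FormAlg.puncturedSpec_eq A) 1
        (Groth.Agent.LeffPunct.subsingleton_H_quot t ht (d := 4) hd 3 (by norm_num)) k)
      (Groth.Agent.LeffPunct.parafactorial_outside t ht he) (le_refl 0)
  rw [zero_add, pow_one] at hinj hsurj
  have hd2 : (2 : ℕ∞) ≤ LocCoh.depth (A ⧸ Ideal.span {t}) (A ⧸ Ideal.span {t}) := le_trans (by norm_num) hd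
  refine ⟨⟨hinj, hsurj⟩, fun hA => (Groth.Agent.S2824.result _).2
      ⟨Groth.Agent.FormAlg.bijective_restrict_punctured _ hd2, (Groth.Agent.LeffPunct.picTrivial_iff t ht).1 ?_⟩,
    fun hB => (Groth.Agent.S2824.result A).2 ⟨Groth.Agent.FormAlg.bijective_restrict_punctured A
      (Groth.Agent.LeffPunct.depth_le_of_quot t ht hreg hd2), fun L hL' => hinj L hL' ?_⟩⟩
  · intro N hN
    obtain ⟨L, hL', ⟨e⟩⟩ := hsurj N hN
    obtain ⟨τ⟩ := ((Groth.Agent.S2824.result A).1 hA).2 L hL'
    exact ⟨e.symm ≪≫ (Scheme.Modules.pullback _).mapIso τ ≪≫ _root_.PicLoc.pullbackStructureIso _⟩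
  · exact (Groth.Agent.LeffPunct.picTrivial_iff t ht).2 ((Groth.Agent.S2824.result _).1 hB).2 _
      (_root_.PicLoc.isInvertible_pullback _ hL')

end Groth.Agent.S3355
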