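import Groth.Statements.S3359
import Groth.Agent.LefRel.Bound

set_option autoImplicit false
set_option backward.isDefEq.respectTransparency false
set_option backward.isDefEq.respectTransparency.types false
universe u
open CategoryTheory CategoryTheory.Limits AlgebraicGeometry
open Lef

namespace Groth.Agent.S3359

/-- Let A be a Noetherian ring, X a proper flat A-scheme and 𝓘 a quasi-coherent ideal of O_X whose ideal
module is invertible with ample inverse L (so 𝓘 is the ideal of the zero scheme Y of a regular
section of the ample invertible module L, and X is projective over A). Let n ≥ 0 and assume that for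
every point s of Spec A the fibre X_s has depth > n at each of its closed points. Then the canonical
map from H^i(X, O_X) to the inverse limit over m of the H^i(X, O_X/𝓘^{m+1}), the transition maps
being induced by the quotient maps, is injective for i ≤ n and surjective for i < n. The published
statement factors this map through the cohomology of the formal completion of X along Y and is over
a general base and for a coherent module flat over it, rather than over Spec A and for O_X; the
depth hypothesis is read here at the points that are closed in their fibre. -/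
theorem result (A : Type u) [CommRing A] [IsNoetherianRing A] (X : Scheme.{u}) [X.Over (Spec (CommRingCat.of A))] [IsProper (X ↘ Spec (CommRingCat.of A))] [Flat (X ↘ Spec (CommRingCat.of A))] (𝓘 : X.IdealSheafData) (L : X.Modules) (hL : ClSub.IsInverseOf L (ClSub.idealMod 𝓘)) (hamp : CohB1.IsAmple L) (n : ℕ) (hdepth : ∀ x : X, IsClosed ({((X ↘ Spec (CommRingCat.of A))).asFiber x} : Set ↥(((X ↘ Spec (CommRingCat.of A))).fiber (((X ↘ Spec (CommRingCat.of A))).base x))) → (n : ℕ∞) < LocCoh.depth ↑(CInt.fiberStalk (X ↘ Spec (CommRingCat.of A)) x) ↑(CInt.fiberStalk (X ↘ Spec (CommRingCat.of A)) x)) (i : ℕ) : (i ≤ n → ∀ x : Coh.HH X (Coh.structureModule X) i, (∀ m : ℕ, Sheaf.H.map ((SheafOfModules.toSheaf X.ringCatSheaf).map (ClSub.toSubscheme (𝓘 ^ (m + 1)))) i x = 0) → x = 0) ∧ (i < n → ∀ y : (∀ m : ℕ, Coh.HH X (ClSub.quotMod (𝓘 ^ (m + 1))) i), (∀ m : ℕ, Sheaf.H.map ((SheafOfModules.toSheaf X.ringCatSheaf).map (Lef.quotMap (Lef.pow_succ_le 𝓘 m))) i (y (m + 1)) = y m) → ∃ x : Coh.HH X (Coh.structureModule X) i, ∀ m : ℕ, Sheaf.H.map ((SheafOfModules.toSheaf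 X.ringCatSheaf).map (ClSub.toSubscheme (𝓘 ^ (m + 1)))) i x = y m) := by
  obtain ⟨hflat', hd⟩ := LefRel.structure_hyp A (X := X) (n + 1) fun x hx => by
    have := hdepth x hx
    rw [Nat.cast_succ]
    exact Order.add_one_le_of_lt this
  haveI : IsLocallyNoetherian X := LocallyOfFiniteType.isLocallyNoetherian (X ↘ Spec (CommRingCat.of A))
  obtain ⟨-, m₀, hm₀⟩ := LefRel.exists_bound A hL hamp (Coh.structureModule X) RefStalk.isCoh_structureModule
    hflat' (n + 1) hd
  have hv : ∀ m, m₀ ≤ m → ∀ j, j ≤ n → Subsingleton (Coh.HH X (ClSub.idealMod (𝓘 ^ (m + 1))) j) :=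
    fun m hm j hj => CohQC.hh_subsingleton_of_iso (SecTwist.unitorR _) j (hm₀ m hm j (Nat.lt_succ_of_le hj))
  refine ⟨fun hi x hx => LefDiv.injective_of_vanish _ i (hv m₀ le_rfl i hi) ((hx m₀).trans (map_zero _).symm),
    fun hi y hy => LefRel.limit_of_eventually _ _ (fun m x => ?_) m₀
      (fun m hm => LefDiv.injective_of_vanish _ i (hv m hm i hi.le))
      (fun m hm => LefDiv.surjective_of_vanish _ i (hv m hm (i + 1) hi)) y hy⟩
  rw [LefRel.map_comp_H, LefDiv.toSubscheme_quotMap]

end Groth.Agent.S3359
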