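import Groth.Statements.S3362
import Groth.Agent.PunctDim.Basic
import Groth.Agent.S11670

set_option autoImplicit false
universe u
open CategoryTheory CategoryTheory.Limits AlgebraicGeometry TopologicalSpace
open LefX

namespace Groth.Agent.S3362

/-- Let A be a complete Noetherian local ring, X' the punctured spectrum of A and k ≥ 1. Assume (a_k)
every irreducible component of X' has dimension ≥ k + 1, and (b_k) X' is connected in dimension ≥ k,
i.e. X' minus any closed subset of dimension < k is connected. Let 0 ≤ m ≤ k and let f_1, …, f_m be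
elements of the maximal ideal, B = A/(f_1, …, f_m), Y' the punctured spectrum of B. Then Y'
satisfies (a_{k−m}) and (b_{k−m}); in particular Y' is connected. -/
theorem result (A : Type u) [CommRing A] [IsNoetherianRing A] [IsLocalRing A] [IsAdicComplete (IsLocalRing.maximalIdeal A) A] (k : ℕ) (hk : 1 ≤ k) (ha : ∀ Z ∈ irreducibleComponents ↥(FEt.puncturedSpec A), ((k + 1 : ℕ) : WithBot ℕ∞) ≤ topologicalKrullDim ↥Z) (hb : LefX.ConnectedInDim ↥(FEt.puncturedSpec A) k) (m : ℕ) (hm : m ≤ k) (f : Fin m → A) (hf : ∀ i, f i ∈ IsLocalRing.maximalIdeal A) [IsLocalRing (A ⧸ Ideal.span (Set.range f))] : (∀ Z ∈ irreducibleComponents ↥(FEt.puncturedSpec (A ⧸ Ideal.span (Set.range f))), ((k - m + 1 : ℕ) : WithBot ℕ∞) ≤ topologicalKrullDim ↥Z) ∧ LefX.ConnectedInDim ↥(FEt.puncturedSpec (A ⧸ Ideal.span (Set.range f))) (k - m) := by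
  classical
  have hb' : LefX.ConnectedInDim ↥(PunctDim.punct A) k := hb
  have hne := PunctDim.nonempty_of_connectedInDim hb'
  have ha' : ∀ Z ∈ irreducibleComponents ↥(PunctDim.punct A),
      ((k + 1 : ℕ) : WithBot ℕ∞) ≤ topologicalKrullDim ↥Z := ha
  have hsub := PunctDim.le_subdim hne ha'
  have hconn := PunctDim.le_connDim hb'
  set a := Ideal.span (Set.range f) with hadef
  have haT : a ≠ ⊤ := ne_top_of_le_ne_top (Ideal.IsPrime.ne_top inferInstance : IsLocalRing.maximalIdeal A ≠ ⊤)
    (Ideal.span_le.2 (Set.range_subset_iff.2 hf))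
  let s : Finset A := Finset.univ.image f
  have hs : (Ideal.span (s : Set A)).radical = a.radical := by
    rw [Finset.coe_image, Finset.coe_univ, Set.image_univ]
  have hcard : s.card ≤ m := Finset.card_image_le.trans (by simp)
  obtain ⟨j, hj⟩ : ∃ j, k = m + j := ⟨k - m, by omega⟩
  have hkm : k - m = j := by omega
  have hc2 : ((j + 1 : ℕ) : WithBot ℕ∞) ≤ LocCoh.connDim (PrimeSpectrum (A ⧸ a)) := by
    have h1 : ((k + 2 : ℕ) : WithBot ℕ∞) ≤ min (LocCoh.connDim (PrimeSpectrum A) + 1) (LocCoh.subdim (PrimeSpectrum A)) :=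
      le_min (by rw [show k + 2 = k + 1 + 1 by omega, Nat.cast_add, Nat.cast_one]; exact add_le_add hconn le_rfl)
        (by rw [show k + 2 = k + 1 + 1 by omega]; exact hsub)
    have h2 := h1.trans (S11670.result A a haT s hs)
    revert h2
    generalize LocCoh.connDim (PrimeSpectrum (A ⧸ a)) = x
    intro h2
    induction x with
    | bot => simp at h2
    | coe y =>
      rcases eq_or_ne y ⊤ with rfl | hy
      · exact WithBot.coe_le_coe.2 le_top
      · obtain ⟨z, rfl⟩ := ENat.ne_top_iff_exists.1 hy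
        have h2' : ((k + 2 : ℕ) : WithBot ℕ∞) ≤ ((z + s.card + 1 : ℕ) : WithBot ℕ∞) := by
          push_cast at h2 ⊢; exact h2
        have h3 : k + 2 ≤ z + s.card + 1 := Nat.cast_le.1 h2'
        exact_mod_cast (show j + 1 ≤ z by omega)
  refine ⟨?_, ?_⟩
  · show ∀ Z ∈ irreducibleComponents ↥(PunctDim.punct (A ⧸ a)),
      ((k - m + 1 : ℕ) : WithBot ℕ∞) ≤ topologicalKrullDim ↥Z
    intro Z hZ
    obtain ⟨C, hC, rfl⟩ := PunctDim.exists_component_of_punct hZ
    refine PunctDim.punct_dim_ge (isClosed_of_mem_irreducibleComponents C hC) ?_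
    have hq : PrimeSpectrum.vanishingIdeal C ∈ minimalPrimes (A ⧸ a) := by
      rw [← PrimeSpectrum.vanishingIdeal_irreducibleComponents]; exact ⟨C, hC, rfl⟩
    set q := PrimeSpectrum.vanishingIdeal C with hqdef
    have hCq : C = PrimeSpectrum.zeroLocus (q : Set (A ⧸ a)) := by
      rw [hqdef, PrimeSpectrum.zeroLocus_vanishingIdeal_eq_closure,
        (isClosed_of_mem_irreducibleComponents C hC).closure_eq]
    haveI hqp := Ideal.minimalPrimes_isPrime hq
    rw [hCq, HLVT.topDim_zeroLocus]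
    set p := q.comap (Ideal.Quotient.mk a) with hpdef
    have hp : p ∈ a.minimalPrimes := by
      rw [Ideal.minimalPrimes_eq_comap]; exact ⟨q, hq, rfl⟩
    haveI hpp : p.IsPrime := hp.1.1
    have hle : ringKrullDim ((A ⧸ a) ⧸ q) = ringKrullDim (A ⧸ p) := by
      refine (ringKrullDim_eq_of_ringEquiv (RingEquiv.ofBijective (Ideal.quotientMap q (Ideal.Quotient.mk a) le_rfl)
        ⟨Ideal.quotientMap_injective, Ideal.quotientMap_surjective Ideal.Quotient.mk_surjective⟩)).symm
    rw [hle]
    obtain ⟨P, hP, hPp⟩ := Ideal.exists_minimalPrimes_le (bot_le : ⊥ ≤ p)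
    haveI hPprime := Ideal.minimalPrimes_isPrime hP
    have hPdim : ((k + 1 + 1 : ℕ) : WithBot ℕ∞) ≤ ringKrullDim (A ⧸ P) := hsub.trans (HLVT.subdim_le hP)
    by_contra hlt
    have hz : ringKrullDim (A ⧸ p) ≤ ((j + 1 : ℕ) : WithBot ℕ∞) := by
      rw [hkm] at hlt
      revert hlt
      generalize ringKrullDim (A ⧸ p) = x
      intro hlt
      induction x with
      | bot => exact bot_le
      | coe y =>
        rcases eq_or_ne y ⊤ with rfl | hy
        · exact absurd (WithBot.coe_le_coe.2 le_top) hlt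
        · obtain ⟨w, rfl⟩ := ENat.ne_top_iff_exists.1 hy
          show ((w : ℕ) : WithBot ℕ∞) ≤ ((j + 1 : ℕ) : WithBot ℕ∞)
          refine Nat.cast_le.2 ?_
          by_contra hw
          refine hlt ?_
          show ((j + 1 + 1 : ℕ) : WithBot ℕ∞) ≤ ((w : ℕ) : WithBot ℕ∞)
          exact Nat.cast_le.2 (by omega)
    have h5 := hPdim.trans (HLVT.dim_component_le hPp hp s hs hz)
    have h6 : k + 1 + 1 ≤ j + 1 + s.card := by exact_mod_cast h5
    omega
  · show LefX.ConnectedInDim ↥(PunctDim.punct (A ⧸ a)) (k - m)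
    refine PunctDim.connectedInDim_of_le ?_
    rw [hkm]
    exact hc2

end Groth.Agent.S3362
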