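import Groth.Statements.S3363
import Groth.Agent.VdimTwo.Normal
import Groth.Agent.Purity.CompFF

set_option autoImplicit false
universe u
open CategoryTheory CategoryTheory.Limits AlgebraicGeometry TopologicalSpace
open LefX

namespace Groth.Agent.S3363

/-- Let A be a normal complete Noetherian local domain of dimension ≥ k + 2, X' its punctured spectrum,
f_1, …, f_k elements of the maximal ideal and Y' = X' ∩ V(f_1, …, f_k), the closed subscheme of X'
cut out by the f_i. Then Y' is connected and restriction of finite étale covers from X' to Y' is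
fully faithful (for the fundamental groups: π₁(Y') → π₁(X') is surjective). -/
theorem result (A : Type u) [CommRing A] [IsDomain A] [IsNoetherianRing A] [IsLocalRing A] [IsIntegrallyClosed A] [IsAdicComplete (IsLocalRing.maximalIdeal A) A] (k : ℕ) (hdim : ((k + 2 : ℕ) : WithBot ℕ∞) ≤ ringKrullDim A) (f : Fin k → A) (hf : ∀ i, f i ∈ IsLocalRing.maximalIdeal A) : ConnectedSpace ↥(((Spec.map (CommRingCat.ofHom (Ideal.Quotient.mk (Ideal.span (Set.range f))))).ker.comap (FEt.puncturedSpec A).ι).subscheme) ∧ (FEt.restrict ((Spec.map (CommRingCat.ofHom (Ideal.Quotient.mk (Ideal.span (Set.range f))))).ker.comap (FEt.puncturedSpec A).ι).subschemeι).Full ∧ (FEt.restrict ((Spec.map (CommRingCat.ofHom (Ideal.Quotient.mk (Ideal.span (Set.range f))))).ker.comap (FEt.puncturedSpec A).ι).subschemeι).Faithful := by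
  classical
  set U := FEt.puncturedSpec A with hU
  set 𝓘 := ((Spec.map (CommRingCat.ofHom (Ideal.Quotient.mk (Ideal.span (Set.range f))))).ker.comap U.ι)
  have hsupp : Set.range 𝓘.subschemeι = {y : (U : Scheme.{u}) | Ideal.span (Set.range f) ≤
      (U.ι y : PrimeSpectrum A).asIdeal} := by
    rw [Scheme.IdealSheafData.range_subschemeι, Scheme.IdealSheafData.support_comap,
      TopologicalSpace.Closeds.coe_preimage, Scheme.Hom.support_ker]
    have h : closure (Set.range (Spec.map (CommRingCat.ofHom (Ideal.Quotient.mk (Ideal.span (Set.range f)))))) =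
        (PrimeSpectrum.zeroLocus (Ideal.span (Set.range f) : Set A) : Set (PrimeSpectrum A)) := by
      show closure (Set.range (PrimeSpectrum.comap (Ideal.Quotient.mk (Ideal.span (Set.range f))))) = _
      rw [range_comap_of_surjective _ _ Ideal.Quotient.mk_surjective, Ideal.mk_ker,
        (PrimeSpectrum.isClosed_zeroLocus _).closure_eq]
    ext y
    exact Set.ext_iff.1 h (U.ι y)
  have hclo : ∀ (Z : Scheme.{u}) (π : Z ⟶ (U : Scheme.{u})), IsFinite π → Etale π →
      ∀ C : Set ↥(pullback π 𝓘.subschemeι), IsClopen C →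
        ∃! W : Set Z, IsClopen W ∧ pullback.fst π 𝓘.subschemeι ⁻¹' W = C := fun Z π hfi het C hC => by
    haveI := hfi
    haveI := het
    refine VdimTwo.existsUnique_clopen_normal A Z π hdim f hf (pullback.fst π 𝓘.subschemeι)
      (pullback.fst π 𝓘.subschemeι).isEmbedding ?_ C hC
    rw [Scheme.Pullback.range_fst, hsupp]
    rfl
  refine ⟨?_, Purity.restrict_full_faithful_of_clopen _ hclo⟩
  have hne : IsLocalRing.maximalIdeal A ≠ ⊥ := by
    intro h
    rw [ringKrullDim_eq_zero_of_isField (IsLocalRing.isField_iff_maximalIdeal_eq.2 h)] at hdim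
    exact absurd (Nat.cast_le.1 (hdim : ((k + 2 : ℕ) : WithBot ℕ∞) ≤ ((0 : ℕ) : WithBot ℕ∞))) (by omega)
  haveI : Nonempty (U : Scheme.{u}) :=
    ⟨⟨(⟨⊥, Ideal.isPrime_bot⟩ : PrimeSpectrum A), fun h => hne (congrArg PrimeSpectrum.asIdeal h).symm⟩⟩
  haveI : IsIntegral (U : Scheme.{u}) := inferInstance
  have h := VdimTwo.isConnected_preimage_zeroLocus A (𝟙 (U : Scheme.{u})) hdim f hf
  rw [Category.id_comp, ← hsupp] at h
  haveI : ConnectedSpace ↥(Set.range 𝓘.subschemeι) := isConnected_iff_connectedSpace.1 h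
  exact 𝓘.subschemeι.isEmbedding.toHomeomorph.symm.surjective.connectedSpace
    𝓘.subschemeι.isEmbedding.toHomeomorph.symm.continuous

end Groth.Agent.S3363
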