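import Groth.Statements.S3365
import Groth.Agent.EtDepthX.Points

set_option autoImplicit false
universe u
open CategoryTheory CategoryTheory.Limits AlgebraicGeometry Opposite
open EtDepth

namespace Groth.Agent.S3365

/-- For an abelian sheaf. Let X be a scheme and j : U → X a quasi-compact open immersion (U retrocompact
in X) with closed complement Y, F an abelian sheaf on the small étale site of X and n ≥ 0. Then the
Y-étale depth of F is ≥ n if and only if for every point y of Y the étale depth of F at y is ≥ n,
the latter meaning: on every strict henselization of O_{X,y} the pull-back of F has depth ≥ n along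
the closed point. -/
theorem result {X U : Scheme.{u}} (j : U ⟶ X) [IsOpenImmersion j] [QuasiCompact j] [EtCoh.BCCont j] (F : EtCoh.Ab X) (n : ℕ) : EtDepth.DepthGE j F n ↔ ∀ y : X, y ∉ Set.range j.base → EtDepth.DepthAtGE X F y n := by
  exact Groth.Agent.EtDepthX.depthGE_iff_depthAtGE j n F

end Groth.Agent.S3365
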