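import Groth.Statements.S3372
import Groth.Agent.FormAlg.FinCoh

set_option autoImplicit false
universe u
open CategoryTheory CategoryTheory.Limits AlgebraicGeometry
open Formal

namespace Groth.Agent.S3372

/-- Let A be a Noetherian local ring which is a quotient of a regular ring, and t a member of the
maximal ideal for which A is separated and complete in the t-adic topology; let X be the punctured
spectrum of A and F a coherent O_X-module on which multiplication by t is injective. Let n be a
natural number and assume that for every closed point x of X (the primes p with dim A/p = 1) the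
stalk F_x has depth ≥ n + 1 over O_{X,x}. Then the canonical map H^i(X, F) → lim_k H^i(X,
F/t^(k+1)F) is bijective for i < n and injective for i = n. -/
theorem result (R : Type u) [CommRing R] [IsRegularRing R] (A : Type u) [CommRing A] [IsLocalRing A] [IsNoetherianRing A] (π : R →+* A) (hπ : Function.Surjective π) (t : A) (ht : t ∈ IsLocalRing.maximalIdeal A) [IsAdicComplete (Ideal.span {t}) A] (F : (↑(FEt.puncturedSpec A) : Scheme.{u}).Modules) (hF : Coh.IsCoh F) (hreg : Mono (Formal.smulMod A F t)) (n : ℕ) (hdepth : ∀ x : (↑(FEt.puncturedSpec A) : Scheme.{u}), IsClosed ({x} : Set (↑(FEt.puncturedSpec A) : Scheme.{u})) → ((n + 1 : ℕ) : ℕ∞) ≤ LocCoh.depth ((↑(FEt.puncturedSpec A) : Scheme.{u}).presheaf.stalk x) (F.presheaf.stalk x)) (i : ℕ) : (i < n → Function.Bijective (Formal.toHHlim (Ideal.span {t}) F i)) ∧ (i = n → Function.Injective (Formal.toHHlim (Ideal.span {t}) F i)) := by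
  have hU : FEt.puncturedSpec A = EGA4.openCompl A (IsLocalRing.maximalIdeal A) := by
    refine TopologicalSpace.Opens.ext (Set.ext fun q => not_congr ?_)
    show q = IsLocalRing.closedPoint A ↔ IsLocalRing.maximalIdeal A ≤ q.asIdeal
    exact ⟨fun h => h ▸ le_rfl, fun h => PrimeSpectrum.ext
      (((IsLocalRing.maximalIdeal.isMaximal A).eq_of_le q.isPrime.ne_top h).symm)⟩
  refine FormAlg.toHHlim_of_depth π hπ (IsLocalRing.maximalIdeal A) t _ hU F hF hreg n (fun x hx => hdepth x ?_) i
  rw [← closure_eq_iff_isClosed, Set.Subset.antisymm_iff]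
  refine ⟨fun y hy => ?_, subset_closure⟩
  obtain ⟨xx, exx⟩ : ∃ z : PrimeSpectrum A, z = (FEt.puncturedSpec A).ι.base x := ⟨_, rfl⟩
  obtain ⟨yy, eyy⟩ : ∃ z : PrimeSpectrum A, z = (FEt.puncturedSpec A).ι.base y := ⟨_, rfl⟩
  have hxy : xx ≤ yy := by
    rw [PrimeSpectrum.le_iff_specializes, exx, eyy]
    exact
      ((specializes_iff_mem_closure.2 hy).map (FEt.puncturedSpec A).ι.base.hom.continuous)
  rcases eq_or_lt_of_le hxy with h | h
  · exact Set.mem_singleton_iff.2 ((FEt.puncturedSpec A).ι.isOpenEmbedding.injective ((eyy.symm.trans h.symm).trans exx))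
  exfalso
  have hlt : yy < IsLocalRing.closedPoint A :=
    lt_of_le_of_ne (IsLocalRing.le_maximalIdeal (Ideal.IsPrime.ne_top inferInstance)) (fun e => y.2 (eyy.symm.trans e))
  let a : Set.Ici xx := ⟨xx, Set.mem_Ici.2 le_rfl⟩
  let b : Set.Ici xx := ⟨yy, hxy⟩
  let c : Set.Ici xx := ⟨IsLocalRing.closedPoint A, hxy.trans hlt.le⟩
  have h2 : (2 : ℕ∞) ≤ SGA2.relCodim (IsLocalRing.maximalIdeal A) xx := by
    refine le_iInf fun q => ?_
    have hq : q.1 = IsLocalRing.closedPoint A :=
      PrimeSpectrum.ext (((IsLocalRing.maximalIdeal.isMaximal A).eq_of_le q.1.isPrime.ne_top q.2.2).symm)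
    have hac : (⟨q.1, q.2.1⟩ : Set.Ici xx) = c := Subtype.ext hq
    rw [hac]
    calc (2 : ℕ∞) = 0 + 1 + 1 := by norm_num
      _ ≤ Order.height a + 1 + 1 := by gcongr; exact zero_le
      _ ≤ Order.height b + 1 := by gcongr; exact Order.height_add_one_le (show a < b from h)
      _ ≤ Order.height c := Order.height_add_one_le (show b < c from hlt)
  rw [exx, hx] at h2
  exact absurd h2 (by decide)

end Groth.Agent.S3372
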