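import Groth.Statements.S3375
import Groth.Agent.EtTopDeg.Main

set_option autoImplicit false
set_option backward.isDefEq.respectTransparency false
set_option backward.isDefEq.respectTransparency.types false
set_option linter.auxLemma false
universe u
open CategoryTheory CategoryTheory.Limits AlgebraicGeometry Opposite
open EtDepth

namespace Groth.Agent.S3375

attribute [local instance 100000] EtCoh.H._proof_1 Groth.Agent.EtMV.hext
attribute [local instance 200000] Groth.Agent.EtMV.hextAb

/-- Let K be a field, ℓ a prime number invertible in K, and F a nonzero constructible ℓ-torsion abelian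
sheaf on the small étale site of Spec K. Suppose the ℓ-cohomological dimension of K is exactly n
(cohomology of ℓ-torsion sheaves vanishes above degree n, and not above any smaller degree). Then
there is a finite separable extension L of K such that H^n(Spec L, F|_L) is nonzero. -/
theorem result (K : Type u) [Field K] (ℓ : ℕ) (hℓ : ℓ.Prime) (hℓK : (ℓ : K) ≠ 0) (F : EtCoh.Ab (Spec (CommRingCat.of K))) (hF : EtDepth.IsLTorsion ℓ F) (hFc : EtPBC.IsConstructible F) (hF0 : ¬ IsZero F) (n : ℕ) (hcd : EtDepth.CohDimLLE (Spec (CommRingCat.of K)) ℓ n) (hcd' : ∀ d : ℕ, d < n → ¬ EtDepth.CohDimLLE (Spec (CommRingCat.of K)) ℓ d) : ∃ (L : Type u) (_ : Field L) (_ : Algebra K L) (_ : Module.Finite K L) (_ : Algebra.IsSeparable K L), Nontrivial (EtCoh.H (Spec (CommRingCat.of L)) ((EtCoh.pull (Spec.map (CommRingCat.ofHom (algebraMap K L)))).obj F) n) := by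
  haveI := Fact.mk hℓ
  obtain ⟨K₁, _, _, _, _, hK₁⟩ := EtTopDeg.exists_nontrivial_H_zmod K n hcd hcd'
  haveI := hK₁
  let j₁ := Spec.map (CommRingCat.ofHom (algebraMap K K₁))
  haveI : Surjective j₁ := ⟨fun x => ⟨default, Subsingleton.elim _ _⟩⟩
  obtain ⟨L, iL, iA, iF, iS, π, hπ⟩ := EtTopDeg.exists_const_quot K₁ ((EtCoh.pull j₁).obj F)
    (EtTopDeg.isLTorsion_pull j₁ hℓ hF) (EtCons.isConstructible_pull j₁ hFc)
    (fun h => hF0 (EtTopDeg.isZero_of_isZero_pull j₁ F h))
  letI : Algebra K L := ((algebraMap K₁ L).comp (algebraMap K K₁)).toAlgebra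
  haveI : IsScalarTower K K₁ L := IsScalarTower.of_algebraMap_eq fun _ => rfl
  haveI : Module.Finite K L := Module.Finite.trans K₁ L
  haveI : Algebra.IsSeparable K L := Algebra.IsSeparable.trans K K₁ L
  refine ⟨L, iL, inferInstance, inferInstance, inferInstance, ?_⟩
  let j₂ := Spec.map (CommRingCat.ofHom (algebraMap K₁ L))
  obtain ⟨c⟩ := EtCons.nonempty_pull_pull j₂ j₁ (Spec.map (CommRingCat.ofHom (algebraMap K L))) (by
    rw [IsScalarTower.algebraMap_eq K K₁ L, CommRingCat.ofHom_comp, Spec.map_comp])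
  have hcd₁ := EtTopDeg.cd_ext (L := K₁) hℓ hcd
  have hcdL := EtTopDeg.cd_ext (K := K₁) (L := L) hℓ hcd₁
  haveI := EtTopDeg.nontrivial_H_ext (K := K₁) (L := L) hℓ hcd₁
  haveI := hπ
  exact EtTopDeg.nontrivial_of_surjective_H hℓ hcdL ((c.app F).inv ≫ π) (EtTopDeg.isLTorsion_pull _ hℓ hF)

end Groth.Agent.S3375
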