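import Groth.Statements.S3380
import Groth.Agent.LefDepth.Struct
-- import your own Groth.Agent.* helpers here

set_option autoImplicit false
set_option backward.isDefEq.respectTransparency false
set_option backward.isDefEq.respectTransparency.types false
universe u
open CategoryTheory CategoryTheory.Limits AlgebraicGeometry
open Lef

namespace Groth.Agent.S3380

/-- Let k be a field, P a proper k-scheme, L an ample invertible O_P-module, s a global section of L
(not necessarily regular) with zero scheme Q and ideal 𝓘, Q_m the closed subscheme defined by 𝓘^m.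
Assume depth(O_{P,p}) + dim cl(p) > n for every point p of P outside Q. Then the canonical map
H^i(P, O_P) → lim_m H^i(P, O_P/𝓘^(m+1)) (the groups H^i(Q_{m+1}, O_{Q_{m+1}}) computed on P through
the closed immersions) is bijective for i < n: injective, and every compatible family comes from a
class on P. -/
theorem result (k : Type u) [Field k] (X : Scheme.{u}) (f : X ⟶ Spec (CommRingCat.of k)) [IsProper f] (L : X.Modules) (hL : CohB1.IsAmple L) (s : Coh.structureModule X ⟶ L) (n : ℕ) (hd : ∀ p : X, p ∉ ((PicF2.zeroScheme L s).support : Set X) → (n : WithBot ℕ∞) < (LocCoh.depth (X.presheaf.stalk p) (X.presheaf.stalk p) : WithBot ℕ∞) + topologicalKrullDim ↥(closure ({p} : Set X))) (i : ℕ) (hi : i < n) : (∀ x : Coh.HH X (Coh.structureModule X) i, (∀ m : ℕ, Sheaf.H.map ((SheafOfModules.toSheaf X.ringCatSheaf).map (ClSub.toSubscheme ((PicF2.zeroScheme L s) ^ (m + 1)))) i x = 0) → x = 0) ∧ (∀ y : (∀ m : ℕ, Coh.HH X (ClSub.quotMod ((PicF2.zeroScheme L s) ^ (m + 1))) i), (∀ m : ℕ, Sheaf.H.map ((SheafOfModules.toSheaf X.ringCatSheaf).map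 (Lef.quotMap (Lef.pow_succ_le (PicF2.zeroScheme L s) m))) i (y (m + 1)) = y m) → ∃ x : Coh.HH X (Coh.structureModule X) i, ∀ m : ℕ, Sheaf.H.map ((SheafOfModules.toSheaf X.ringCatSheaf).map (ClSub.toSubscheme ((PicF2.zeroScheme L s) ^ (m + 1)))) i x = y m) := by
  letI : X.Over (Spec (CommRingCat.of k)) := ⟨f⟩
  haveI : IsProper (X ↘ Spec (CommRingCat.of k)) := inferInstanceAs (IsProper f)
  haveI : IsLocallyNoetherian X := LocallyOfFiniteType.isLocallyNoetherian f
  let I := PicF2.zeroScheme L s
  have hO : Coh.IsCoh (Coh.structureModule X) := RefStalk.isCoh_structureModule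
  choose v hv using fun m : ℕ => LefDepth.exists_iso_quotMod I (m + 1) hO.1
  have hd' : ∀ p : X, p ∉ (I.support : Set X) → (n : WithBot ℕ∞) <
      (LocCoh.depth (X.presheaf.stalk p) ((Coh.structureModule X).presheaf.stalk p) : WithBot ℕ∞) +
        topologicalKrullDim ↥(closure ({p} : Set X)) := fun p hp => by
    rw [DepthExtend.depth_structureModule p]
    exact hd p hp
  exact ⟨fun x hx => LefDepth.eq_zero_of_formal k hL s hO n hd' (fun m => ClSub.quotMod (I ^ (m + 1)))
      (fun m => ClSub.toSubscheme (I ^ (m + 1))) v hv i (Nat.le_of_lt hi) x hx,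
    fun y hy => LefDepth.exists_of_formal k hL s hO n hd' (fun m => ClSub.quotMod (I ^ (m + 1)))
      (fun m => ClSub.toSubscheme (I ^ (m + 1))) v hv (fun m => Lef.quotMap (Lef.pow_succ_le I m))
      (fun m => LefDiv.toSubscheme_quotMap _) i hi y hy⟩

end Groth.Agent.S3380
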