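import Groth.Statements.S3385
import Groth.Agent.EtDepthX.Transfer

set_option autoImplicit false
universe u
open CategoryTheory CategoryTheory.Limits AlgebraicGeometry Opposite
open EtDepth

namespace Groth.Agent.S3385

/-- For a single abelian sheaf (r = 0) and a single prime ℓ. Let f : X → S be a morphism of schemes, j :
U → X and k : V → S quasi-compact open immersions with closed complements Y and Z such that f(Y) ⊆ Z
and the local rings of X at the points of Y are Noetherian. Let p, q ≥ 0, ℓ a prime and F an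
ℓ-torsion abelian sheaf on the small étale site of S. Assume (a) f is locally (p + q − 2)-acyclic
for ℓ, (b) the Z-étale depth of F is ≥ p, and (c) for every point s of Z the fibre X_s has étale
depth ≥ q along Y ∩ X_s for the constant sheaf Z/ℓ. Then the Y-étale depth of f^*F is ≥ p + q. -/
theorem result {X U S V : Scheme.{u}} (f : X ⟶ S) (j : U ⟶ X) [IsOpenImmersion j] [QuasiCompact j] [EtCoh.BCCont j] (k : V ⟶ S) [IsOpenImmersion k] [QuasiCompact k] [EtCoh.BCCont k] (hYZ : ∀ y : X, y ∉ Set.range j.base → f.base y ∉ Set.range k.base) (hnoeth : ∀ y : X, y ∉ Set.range j.base → IsNoetherianRing (X.presheaf.stalk y)) (p q : ℕ) (ℓ : ℕ) (hℓ : ℓ.Prime) (F : EtCoh.Ab S) (hF : EtDepth.IsLTorsion ℓ F) (ha : EtDepth.IsLocAcyclicLE f ℓ (p + q - 2)) (hb : EtDepth.DepthGE k F p) (hc : ∀ s : S, s ∉ Set.range k.base → EtDepth.DepthGE (pullback.snd j (f.fiberι s)) (EtCoh.const (f.fiber s) (ZMod ℓ)) q) : EtDepth.DepthGE j ((EtCoh.pull f).obj F) (p + q) := by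
  refine (Groth.Agent.EtDepthX.depthGE_iff_depthAtGE j (p + q) _).2 fun y hy =>
    Groth.Agent.EtDepthX.depthAtGE_pull f y (hnoeth y hy) hℓ F hF ha
      ((Groth.Agent.EtDepthX.depthGE_iff_depthAtGE k p F).1 hb (f.base y) (hYZ y hy)) (q := q)
      (fun x' hx' => ?_) (p + q) le_rfl (by omega)
  refine (Groth.Agent.EtDepthX.depthGE_iff_depthAtGE (pullback.snd j (f.fiberι (f.base y))) _ _).1 (hc (f.base y) (hYZ y hy)) x' ?_
  rintro ⟨w, hw⟩
  refine hy ⟨pullback.fst j (f.fiberι (f.base y)) w, ?_⟩
  show j (pullback.fst j (f.fiberι (f.base y)) w) = y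
  rw [← Scheme.Hom.comp_apply, pullback.condition, Scheme.Hom.comp_apply]
  exact (congrArg (f.fiberι (f.base y)) hw).trans hx'

end Groth.Agent.S3385
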