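import Groth.Statements.S3389
import Groth.Agent.Unibranch.UpperSemicont

set_option autoImplicit false
open CategoryTheory AlgebraicGeometry
universe u
open EGA43

namespace Groth.Agent.S3389

/-- Let Y be a quasi-compact scheme and f : X ⟶ Y a morphism of finite type. Then there is a natural
number n bounding the dimension of every fibre of f. -/
theorem result {X Y : Scheme.{u}} [CompactSpace Y] (f : X ⟶ Y)
    [LocallyOfFiniteType f] [QuasiCompact f] :
    ∃ n : ℕ, ∀ y : Y, topologicalKrullDim ↥(f.fiber y) ≤ n := by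
  haveI : CompactSpace X := QuasiCompact.compactSpace_of_compactSpace f
  have : ∀ x : X, ∃ (d : ℕ) (U : X.Opens), x ∈ U ∧ ∀ y, Unibranch.ChainsLE f U y d := fun x => by
    obtain ⟨d, hd⟩ := Unibranch.exists_fibreDimAt_eq f x
    obtain ⟨U, hxU, hU⟩ := (Unibranch.fibreDimAt_le_iff f x).mp hd.le
    obtain ⟨U', hxU', -, hU'⟩ := Unibranch.exists_opens_chainsLE f hxU hU
    exact ⟨d, U', hxU', hU'⟩
  choose d U hxU hU using this
  obtain ⟨s, hs⟩ := isCompact_univ.elim_finite_subcover (fun x => (U x : Set X)) (fun x => (U x).2)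
    (fun x _ => Set.mem_iUnion.mpr ⟨x, hxU x⟩)
  refine ⟨s.sup d, fun y => (Unibranch.topologicalKrullDim_le_iff f (f.fiberι y).isEmbedding
    (S := Set.univ) (by rw [Scheme.Hom.range_fiberι, Set.univ_inter])).mpr fun k c hc hc' => ?_⟩
  obtain ⟨x, hx, hlast⟩ := Set.mem_iUnion₂.mp (hs (Set.mem_univ (c (Fin.last k))))
  refine le_trans (hU x y k c (fun i => ⟨?_, (hc i).2⟩) hc') (Finset.le_sup hx)
  refine (show c i ⤳ c (Fin.last k) from ?_).mem_open (U x).2 hlast
  induction i using Fin.reverseInduction with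
  | last => exact specializes_rfl
  | cast j hj => exact (hc' j).1.trans hj

end Groth.Agent.S3389
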