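import Groth.Statements.S3390
import Groth.Agent.DimFormula.Open

set_option autoImplicit false
open CategoryTheory AlgebraicGeometry
universe u
open EGA43

namespace Groth.Agent.S3390
open Groth.Agent.Unibranch Groth.Agent.EquidimPt Groth.Agent.DimFormula TopologicalSpace

/-- Let Y be an irreducible locally Noetherian scheme with generic point η and X an irreducible scheme,
and let f : X ⟶ Y be dominant and locally of finite type. Take a point x of X and write y = f x.
Suppose dim O_{X,x} = dim O_{Y,y} + dim O_{X_y,x}. Then the local dimension of the fibre X_y at x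
(FlatMor.fibreDimAt f x) equals the dimension of the generic fibre X_η (i.e. f is equidimensional at
x). -/
theorem result {X Y : Scheme.{u}} [IrreducibleSpace X] [IrreducibleSpace Y]
    [IsLocallyNoetherian Y] (f : X ⟶ Y) [LocallyOfFiniteType f] [IsDominant f] (x : X)
    (h : ringKrullDim (X.presheaf.stalk x) =
        ringKrullDim (Y.presheaf.stalk (f.base x)) + ringKrullDim ((f.fiber (f.base x)).presheaf.stalk (f.asFiber x))) :
    FlatMor.fibreDimAt f x = topologicalKrullDim ↥(f.fiber (genericPoint Y)) := by
  haveI : IsLocallyNoetherian X := LocallyOfFiniteType.isLocallyNoetherian f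
  let ζ := genericPoint X
  have hη : f ζ = genericPoint Y := by
    have h1 : IsGenericPoint (f ζ) (Set.univ : Set Y) := by
      have := (genericPoint_spec X).image f.continuous
      rwa [Set.image_univ, f.denseRange.closure_range] at this
    exact h1.eq (genericPoint_spec Y)
  obtain ⟨A, hA, -, ξ, hξ, hξx, hgen⟩ := exists_ringKrullDim_stalk x
  obtain rfl : ξ = ζ := (hξ ζ (genericPoint_specializes ξ)).symm
  obtain ⟨c, hc, hcle, -⟩ := exists_ringKrullDim_stalk (f x)
  obtain ⟨b, δ, hb, hD, -, hδ, -⟩ := exists_fibre_dims f x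
  have h' : ringKrullDim (X.presheaf.stalk x) =
      ringKrullDim (Y.presheaf.stalk (f x)) + ringKrullDim ((f.fiber (f x)).presheaf.stalk (f.asFiber x)) := h
  rw [hA, hc, hb, ← Nat.cast_add, Nat.cast_inj] at h'
  obtain ⟨e, hele, hege, -⟩ := exists_dim_closure_eq f ζ
  obtain ⟨U, hxU, hU⟩ := (fibreDimAt_le_iff f x).mp hD.le
  have h1 := dimension_inequality f hξx hgen
    (show GenLE (f ζ) (f x) c from fun n g h1 _ h3 => hcle n g h1 h3) hδ hele
  have he : e = b + δ := le_antisymm
    (hege.le (chainsLE_of_specializes f hξx hxU (hU.mono Set.inter_subset_left))) (by omega)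
  rw [hD, ← he, ← hη]
  have hr : Set.range (f.fiberι (f ζ)) = closure {ζ} ∩ f ⁻¹' {f ζ} := by
    rw [Scheme.Hom.range_fiberι, (genericPoint_spec X).def, Set.univ_inter]
  exact le_antisymm ((natCast_le_topologicalKrullDim_iff f (f.fiberι (f ζ)).isEmbedding hr).mpr hege)
    ((topologicalKrullDim_le_iff f (f.fiberι (f ζ)).isEmbedding hr).mpr hele)

end Groth.Agent.S3390
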