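import Groth.Statements.S3391
import Groth.Agent.Catenary.FibreGen
import Groth.Agent.Unibranch.FibreDims

set_option autoImplicit false
open CategoryTheory AlgebraicGeometry
universe u
open EGA43

namespace Groth.Agent.S3391

/-- With X, Y, f, x, y as in the first assertion, suppose O_{Y,y} is universally catenary and the local
dimension at x of the fibre through x equals the dimension of the generic fibre. Then dim O_{X,x} =
dim O_{Y,y} + dim O_{X_y,x}. -/
theorem result {X Y : Scheme.{u}} [IrreducibleSpace X] [IrreducibleSpace Y]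
    [IsLocallyNoetherian Y] (f : X ⟶ Y) [LocallyOfFiniteType f] [IsDominant f] (x : X)
    (hcat : CAlg.IsUniversallyCatenary (Y.presheaf.stalk (f.base x)))
    (h : FlatMor.fibreDimAt f x = topologicalKrullDim ↥(f.fiber (genericPoint Y))) :
    ringKrullDim (X.presheaf.stalk x) =
        ringKrullDim (Y.presheaf.stalk (f.base x)) + ringKrullDim ((f.fiber (f.base x)).presheaf.stalk (f.asFiber x)) := by
  haveI : IsLocallyNoetherian X := LocallyOfFiniteType.isLocallyNoetherian f
  obtain ⟨b, δ, hb, hD, hδle, hδge, -⟩ := Groth.Agent.DimFormula.exists_fibre_dims f x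
  obtain ⟨C, hC, hCle, -⟩ := Groth.Agent.DimFormula.exists_ringKrullDim_stalk (f x)
  obtain ⟨A, hA, hAle, -⟩ := Groth.Agent.DimFormula.exists_ringKrullDim_stalk x
  have hζx : genericPoint X ⤳ x := genericPoint_specializes x
  have hfζ : f (genericPoint X) = genericPoint Y := by
    have h1 := (genericPoint_spec X).image f.continuous
    rw [Set.image_univ, f.denseRange.closure_range] at h1
    exact h1.eq (genericPoint_spec Y)
  obtain ⟨e, hele, hege, he⟩ := Groth.Agent.Unibranch.exists_dim_closure_eq f (genericPoint X)
  have hfib : topologicalKrullDim ↥(f.fiber (genericPoint Y)) = (e : WithBot ℕ∞) := by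
    rw [← he, IsHomeomorph.topologicalKrullDim_eq _ ((f.fiberHomeo (genericPoint Y)).trans
      (Homeomorph.setCongr (show f ⁻¹' {genericPoint Y} = closure {genericPoint X} ∩ f ⁻¹' {f (genericPoint X)} by
        rw [show closure ({genericPoint X} : Set X) = Set.univ from genericPoint_spec X, Set.univ_inter, hfζ]))).isHomeomorph]
  have he' : e = b + δ := by exact_mod_cast (hfib.symm.trans (h.symm.trans hD))
  obtain ⟨a, hale, hage⟩ := Groth.Agent.DimFormula.exists_genLE_hasGen hζx
  obtain ⟨c, hcle, hcge⟩ := Groth.Agent.DimFormula.exists_genLE_hasGen (hζx.map f.continuous)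
  have h1 := Groth.Agent.Catenary.dimension_formula f hζx hcat hale hcge hδle hege
  have h2 : C ≤ c := by
    obtain ⟨-, ζ', -, -, n, h1, h2, h3⟩ := (Groth.Agent.DimFormula.ringKrullDim_stalk_eq_iff (f x)).mp hC
    exact hcle C n h1 (by rw [hfζ]; exact genericPoint_specializes _) h3
  have h3 : a ≤ A := by
    obtain ⟨g, hg, -, hgl⟩ := hage
    exact hAle a g hg hgl
  refine le_antisymm (Groth.Agent.FibreDim.ringKrullDim_stalk_le_add_fiber f x) ?_
  rw [hA, hC, hb]
  exact_mod_cast (show C + b ≤ A by omega)

end Groth.Agent.S3391
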