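import Groth.Statements.S3392
import Groth.Agent.Catenary.FibreGen

set_option autoImplicit false
open CategoryTheory AlgebraicGeometry
universe u
open EGA43

namespace Groth.Agent.S3392

/-- Let Y be an irreducible locally Noetherian scheme, f : X ⟶ Y a morphism of finite type and y a point
of Y. Condition (a): for every point x of the fibre over y, dim O_{X,x} = dim O_{Y,y} + dim
O_{X_y,x}. Condition (b): for every point z of the fibre over y at which the local ring of the fibre
has dimension 0 (the generic points of the irreducible components of the fibre), dim O_{X,z} = dim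
O_{Y,y}. Then (a) implies (b), and (b) implies (a) if O_{Y,y} is universally catenary. -/
theorem result {X Y : Scheme.{u}} [IrreducibleSpace Y] [IsLocallyNoetherian Y]
    (f : X ⟶ Y) [LocallyOfFiniteType f] [QuasiCompact f] (y : Y) :
    ((∀ x : X, f.base x = y → ringKrullDim (X.presheaf.stalk x) =
        ringKrullDim (Y.presheaf.stalk (f.base x)) + ringKrullDim ((f.fiber (f.base x)).presheaf.stalk (f.asFiber x))) →
      (∀ z : X, f.base z = y → ringKrullDim ((f.fiber (f.base z)).presheaf.stalk (f.asFiber z)) = 0 →
        ringKrullDim (X.presheaf.stalk z) = ringKrullDim (Y.presheaf.stalk (f.base z)))) ∧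
    (CAlg.IsUniversallyCatenary (Y.presheaf.stalk y) →
      (∀ z : X, f.base z = y → ringKrullDim ((f.fiber (f.base z)).presheaf.stalk (f.asFiber z)) = 0 →
        ringKrullDim (X.presheaf.stalk z) = ringKrullDim (Y.presheaf.stalk (f.base z))) →
      (∀ x : X, f.base x = y → ringKrullDim (X.presheaf.stalk x) =
        ringKrullDim (Y.presheaf.stalk (f.base x)) + ringKrullDim ((f.fiber (f.base x)).presheaf.stalk (f.asFiber x)))) := by
  haveI : IsLocallyNoetherian X := LocallyOfFiniteType.isLocallyNoetherian f
  refine ⟨fun h z hz hz0 => ?_, fun _ h x hx => ?_⟩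
  · rw [h z hz, hz0, add_zero]
  · obtain ⟨b, δ, hb, -, -, -, -, m, hfm, -, hm, hbm, -⟩ := Groth.Agent.DimFormula.exists_fibre_dims f x
    obtain ⟨bm, δm, hbm', -, -, -, -, m', hfm', hm'm, -, hgen, -⟩ := Groth.Agent.DimFormula.exists_fibre_dims f m
    obtain rfl := hm m' hfm' hm'm
    obtain rfl : bm = 0 := Nat.le_zero.mp ((Groth.Agent.DimFormula.genLE_self m').le_of_hasGen hgen)
    refine le_antisymm (Groth.Agent.FibreDim.ringKrullDim_stalk_le_add_fiber f x) ?_
    refine le_trans (le_of_eq ?_) (Groth.Agent.Catenary.dim_add_le_of_hasGen hbm)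
    rw [h m' (hfm.trans hx) (by simpa using hbm'), hb]
    congr 1
    exact congrArg (fun y => ringKrullDim (Y.presheaf.stalk y)) hfm.symm

end Groth.Agent.S3392
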