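import Groth.Statements.S3393
import Groth.Agent.Catenary.FibreGen
import Groth.Agent.Unibranch.FibreDims

set_option autoImplicit false
open CategoryTheory AlgebraicGeometry
universe u
open EGA43

namespace Groth.Agent.S3393

/-- Let Y be an irreducible locally Noetherian scheme with generic point η, f : X ⟶ Y a morphism of
finite type and y a point of Y. Condition (b): for every point z of the fibre over y at which the
local ring of the fibre has dimension 0, dim O_{X,z} = dim O_{Y,y}. Condition (c): for every such z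
there is an irreducible component X' of X containing z such that the dimension of X' ∩ f⁻¹(η)
(topology induced from X) equals the local dimension at z of the fibre over y (the dimension of the
irreducible component of the fibre with generic point z). Then (b) implies (c), and (c) implies (b)
if O_{Y,y} is universally catenary. -/
theorem result {X Y : Scheme.{u}} [IrreducibleSpace Y] [IsLocallyNoetherian Y]
    (f : X ⟶ Y) [LocallyOfFiniteType f] [QuasiCompact f] (y : Y) :
    ((∀ z : X, f.base z = y → ringKrullDim ((f.fiber (f.base z)).presheaf.stalk (f.asFiber z)) = 0 →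
        ringKrullDim (X.presheaf.stalk z) = ringKrullDim (Y.presheaf.stalk (f.base z))) →
      (∀ z : X, f.base z = y → ringKrullDim ((f.fiber (f.base z)).presheaf.stalk (f.asFiber z)) = 0 →
        ∃ X' ∈ irreducibleComponents (X : Type u), z ∈ X' ∧
          topologicalKrullDim ↥(X' ∩ f.base ⁻¹' {genericPoint Y}) = FlatMor.fibreDimAt f z)) ∧
    (CAlg.IsUniversallyCatenary (Y.presheaf.stalk y) →
      (∀ z : X, f.base z = y → ringKrullDim ((f.fiber (f.base z)).presheaf.stalk (f.asFiber z)) = 0 →
        ∃ X' ∈ irreducibleComponents (X : Type u), z ∈ X' ∧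
          topologicalKrullDim ↥(X' ∩ f.base ⁻¹' {genericPoint Y}) = FlatMor.fibreDimAt f z) →
      (∀ z : X, f.base z = y → ringKrullDim ((f.fiber (f.base z)).presheaf.stalk (f.asFiber z)) = 0 →
        ringKrullDim (X.presheaf.stalk z) = ringKrullDim (Y.presheaf.stalk (f.base z)))) := by
  haveI : IsLocallyNoetherian X := LocallyOfFiniteType.isLocallyNoetherian f
  have hdata : ∀ z : X, f z = y → ringKrullDim ((f.fiber (f z)).presheaf.stalk (f.asFiber z)) = 0 →
      (∀ w, f w = f z → w ⤳ z → w = z) ∧ ∃ d : ℕ, FlatMor.fibreDimAt f z = (d : WithBot ℕ∞) ∧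
        Groth.Agent.Unibranch.ChainsLE f (closure {z}) (f z) d ∧ Groth.Agent.Unibranch.HasChain f (closure {z}) (f z) d := by
    intro z _ h0
    obtain ⟨b, δ, hb, hD, hle, hge, hgen, -⟩ := Groth.Agent.DimFormula.exists_fibre_dims f z
    obtain rfl : b = 0 := by exact_mod_cast hb.symm.trans h0
    refine ⟨fun w hw hwz => by_contra fun hne => ?_, δ, by simpa using hD, hle, hge⟩
    have := hgen w hw hwz 1 ![w, z] (fun i => by fin_cases i; exact ⟨hwz, hne⟩) specializes_rfl rfl
    omega
  refine ⟨fun h z hz h0 => ?_, fun hcat h z hz h0 => ?_⟩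
  · obtain ⟨hmax, d, hD, hdle, hdge⟩ := hdata z hz h0
    obtain ⟨C, hC, hCle, -⟩ := Groth.Agent.DimFormula.exists_ringKrullDim_stalk (f z)
    have hzdim := h z hz h0
    rw [hC] at hzdim
    obtain ⟨hzle, ζ, hζ, hζz, hge⟩ := (Groth.Agent.DimFormula.ringKrullDim_stalk_eq_iff z).mp hzdim
    obtain ⟨c', hc'le, hc'ge⟩ := Groth.Agent.DimFormula.exists_genLE_hasGen (hζz.map f.continuous)
    obtain ⟨e, hele, hege, he⟩ := Groth.Agent.Unibranch.exists_dim_closure_eq f ζ
    have h1 := Groth.Agent.DimFormula.dimension_inequality f hζz hge hc'le hdge hele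
    have hc'C : c' ≤ C := by
      obtain ⟨g, hg, -, hgl⟩ := hc'ge
      exact hCle c' g hg hgl
    obtain ⟨z', -, hz'z, hfz', hz'⟩ := Groth.Agent.Catenary.exists_fibre_point f hζz hege
    obtain rfl := hmax z' hfz' hz'z
    have h2 : e ≤ d := hz'.le hdle
    have hed : e = d := by omega
    have hη : f ζ = genericPoint Y := by
      by_contra hne
      obtain ⟨g, hg, hg0, hgl⟩ := hc'ge
      have hη0 : genericPoint Y ⤳ f ζ := genericPoint_specializes _
      obtain ⟨n, hn, g', hg', -, hg'l⟩ := Groth.Agent.DimFormula.HasGen.trans (a := 1) (b := c')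
        (ζ := genericPoint Y) (m := f ζ) (x := f z')
        ⟨![genericPoint Y, f ζ], fun i => by fin_cases i; exact ⟨hη0, Ne.symm hne⟩, specializes_rfl, rfl⟩ ⟨g, hg, hg0, hgl⟩
      have := hCle n g' hg' hg'l
      omega
    refine ⟨closure {ζ}, Groth.Agent.Unibranch.IsMaxPt.mem_irreducibleComponents hζ, hζz.mem_closure, ?_⟩
    rw [hD, ← hed, ← hη]
    exact he
  · obtain ⟨hmax, d, hD, hdle, hdge⟩ := hdata z hz h0
    obtain ⟨X', hX', hzX', hdim⟩ := h z hz h0
    obtain ⟨C, hC, hCle, -⟩ := Groth.Agent.DimFormula.exists_ringKrullDim_stalk (f z)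
    obtain ⟨A, hA, hAle, -⟩ := Groth.Agent.DimFormula.exists_ringKrullDim_stalk z
    obtain ⟨ζ, hζ, rfl⟩ := Groth.Agent.Unibranch.exists_isMaxPt hX'
    have hζz : ζ ⤳ z := specializes_iff_mem_closure.mpr hzX'
    obtain ⟨e, hele, hege, he⟩ := Groth.Agent.Unibranch.exists_dim_closure_eq f ζ
    have hη : f ζ = genericPoint Y := by
      rcases isEmpty_or_nonempty ↥(closure ({ζ} : Set X) ∩ f.base ⁻¹' {genericPoint Y}) with hE | ⟨⟨w, hw, hfw⟩⟩
      · have h0' : topologicalKrullDim ↥(closure ({ζ} : Set X) ∩ f.base ⁻¹' {genericPoint Y}) = ⊥ := by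
          haveI : IsEmpty (TopologicalSpace.IrreducibleCloseds ↥(closure ({ζ} : Set X) ∩ f.base ⁻¹' {genericPoint Y})) :=
            ⟨fun T => hE.elim T.isIrreducible.1.some⟩
          exact Order.krullDim_eq_bot
        rw [h0', hD] at hdim
        exact absurd hdim.symm (WithBot.natCast_ne_bot d)
      · have h1 := (specializes_iff_mem_closure.mpr hw).map f.continuous
        rw [show f w = genericPoint Y from hfw] at h1
        exact (h1.antisymm (genericPoint_specializes _)).eq
    have hed : e = d := by
      rw [← hη] at hdim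
      exact_mod_cast he.symm.trans (hdim.trans hD)
    obtain ⟨a, hale, hage⟩ := Groth.Agent.DimFormula.exists_genLE_hasGen hζz
    obtain ⟨c, hcle, hcge⟩ := Groth.Agent.DimFormula.exists_genLE_hasGen (hζz.map f.continuous)
    have h1 := Groth.Agent.Catenary.dimension_formula f hζz (hz.symm ▸ hcat) hale hcge hdle hege
    have h2 : C ≤ c := by
      obtain ⟨-, ζ', -, -, n, h1, h2, h3⟩ := (Groth.Agent.DimFormula.ringKrullDim_stalk_eq_iff (f z)).mp hC
      exact hcle C n h1 (by rw [hη]; exact genericPoint_specializes _) h3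
    have h3 : a ≤ A := by
      obtain ⟨g, hg, -, hgl⟩ := hage
      exact hAle a g hg hgl
    refine le_antisymm ((Groth.Agent.FibreDim.ringKrullDim_stalk_le_add_fiber f z).trans (by rw [h0, add_zero])) ?_
    rw [hA, hC]
    exact_mod_cast (show C ≤ A by omega)

end Groth.Agent.S3393
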