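import Groth.Statements.S3394
import Groth.Agent.FibNoether.Basic

set_option autoImplicit false
open CategoryTheory AlgebraicGeometry
universe u
open EGA43
set_option backward.isDefEq.respectTransparency false
open CategoryTheory Limits AlgebraicGeometry TensorProduct

namespace Groth.Agent.S3394

open CategoryTheory.Limits in
/-- Let X and Y be affine schemes, f : X ⟶ Y a morphism of finite type, y a point of f(X) and e the
dimension of the fibre of f over y. Then there is a Y-morphism g from X to the affine space of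
dimension e over Y such that the morphism induced by g on the fibres over y is finite (here written
as the base change of g along the inclusion of the fibre of the affine space over y). -/
theorem result {X Y : Scheme.{u}} [IsAffine X] [IsAffine Y] (f : X ⟶ Y)
    [LocallyOfFiniteType f] (y : Y) (hy : y ∈ Set.range f.base) (e : ℕ)
    (he : topologicalKrullDim ↥(f.fiber y) = e) :
    ∃ g : X ⟶ 𝔸(ULift.{u} (Fin e); Y), g ≫ (𝔸(ULift.{u} (Fin e); Y) ↘ Y) = f ∧
      IsFinite (pullback.snd g ((𝔸(ULift.{u} (Fin e); Y) ↘ Y).fiberι y)) := by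
  let R := Γ(Y, ⊤)
  let S := Γ(X, ⊤)
  let L := Y.residueField y
  letI : Algebra R S := f.appTop.hom.toAlgebra
  haveI : Algebra.FiniteType R S := (HasRingHomProperty.iff_of_isAffine (P := @LocallyOfFiniteType)).mp ‹_›
  obtain ⟨φ, hφ⟩ := Spec.map_surjective (Y.fromSpecResidueField y ≫ Y.isoSpec.hom)
  haveI : IsPreimmersion (Spec.map φ) := by rw [hφ]; infer_instance
  letI : Algebra R L := φ.hom.toAlgebra
  have hL : (algebraMap R L).SurjectiveOnStalks := ((IsPreimmersion.SpecMap_iff φ).mp ‹_›).2
  have hφ' : Spec.map (CommRingCat.ofHom (algebraMap R L)) = Y.fromSpecResidueField y ≫ Y.isoSpec.hom := hφ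
  have hf : f ≫ Y.isoSpec.hom = X.isoSpec.hom ≫ Spec.map (CommRingCat.ofHom (algebraMap R S)) :=
    (Scheme.isoSpec_hom_naturality f).symm
  -- the fibre is the spectrum of the fibre ring
  have sqf : IsPullback (f.fiberι y ≫ X.isoSpec.hom) (f.fiberToSpecResidueField y)
      (Spec.map (CommRingCat.ofHom (algebraMap R S))) (Spec.map (CommRingCat.ofHom (algebraMap R L))) :=
    (IsPullback.of_hasPullback f (Y.fromSpecResidueField y)).of_iso (Iso.refl _) X.isoSpec (Iso.refl _) Y.isoSpec
      (Category.id_comp _).symm (by simp [Scheme.Hom.fiberToSpecResidueField]) hf (by rw [Iso.refl_hom, Category.id_comp, hφ'])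
  let efib := sqf.isoIsPullback _ _
    (isPullback_SpecMap_of_isPushout _ _ _ _ (CommRingCat.isPushout_tensorProduct R L S)).flip
  have hdim : ringKrullDim (L ⊗[R] S) = (e : WithBot ℕ∞) := by
    rw [← PrimeSpectrum.topologicalKrullDim_eq_ringKrullDim, ← he]
    exact (IsHomeomorph.topologicalKrullDim_eq _ efib.hom.homeomorph.isHomeomorph).symm
  obtain ⟨x, hx⟩ := hy
  have hne : Nontrivial (L ⊗[R] S) := by
    subst hx
    exact PrimeSpectrum.nonempty_iff_nontrivial.mp ⟨efib.hom (f.asFiber x)⟩
  obtain ⟨t, ht⟩ := Groth.Agent.FibNoether.exists_aeval_finite (S := S) hL e hdim.le hne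
  let P := MvPolynomial (ULift.{u} (Fin e)) R
  let ψ : P →ₐ[R] S := MvPolynomial.aeval t
  let π := 𝔸(ULift.{u} (Fin e); Y) ↘ Y
  let E : 𝔸(ULift.{u} (Fin e); Y) ≅ Spec (CommRingCat.of P) := AffineSpace.isoOfIsAffine (ULift.{u} (Fin e)) Y
  have hE : π ≫ Y.isoSpec.hom = E.hom ≫ Spec.map (CommRingCat.ofHom (algebraMap R P)) := by
    rw [← Iso.inv_comp_eq, ← Category.assoc, AffineSpace.isoOfIsAffine_inv_over, Category.assoc,
      Iso.inv_hom_id, Category.comp_id]
    rfl
  refine ⟨X.isoSpec.hom ≫ Spec.map (CommRingCat.ofHom ψ.toRingHom) ≫ E.inv, ?_, ?_⟩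
  · rw [← cancel_mono Y.isoSpec.hom]
    simp only [Category.assoc]
    rw [hE, Iso.inv_hom_id_assoc, ← Spec.map_comp, ← CommRingCat.ofHom_comp,
      show ψ.toRingHom.comp (algebraMap R P) = algebraMap R S from RingHom.ext ψ.commutes]
    exact hf.symm
  · have sqπ : IsPullback (π.fiberι y ≫ E.hom) (π.fiberToSpecResidueField y)
        (Spec.map (CommRingCat.ofHom (algebraMap R P))) (Spec.map (CommRingCat.ofHom (algebraMap R L))) :=
      (IsPullback.of_hasPullback π (Y.fromSpecResidueField y)).of_iso (Iso.refl _) E (Iso.refl _) Y.isoSpec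
        (Category.id_comp _).symm (by simp [Scheme.Hom.fiberToSpecResidueField]) hE (by rw [Iso.refl_hom, Category.id_comp, hφ'])
    have sqP := (isPullback_SpecMap_of_isPushout _ _ _ _ (CommRingCat.isPushout_tensorProduct R L P)).flip
    have sqS := (isPullback_SpecMap_of_isPushout _ _ _ _ (CommRingCat.isPushout_tensorProduct R L S)).flip
    let ι := sqπ.isoIsPullback _ _ sqP
    let γ := (Algebra.TensorProduct.map (AlgHom.id R L) ψ).toRingHom
    haveI : IsFinite (Spec.map (CommRingCat.ofHom γ)) := (IsFinite.SpecMap_iff (f := CommRingCat.ofHom γ)).mpr ht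
    have sqX : IsPullback (Spec.map (CommRingCat.ofHom (Algebra.TensorProduct.includeRight : S →ₐ[R] L ⊗[R] S).toRingHom))
        (Spec.map (CommRingCat.ofHom γ)) (Spec.map (CommRingCat.ofHom ψ.toRingHom))
        (Spec.map (CommRingCat.ofHom (Algebra.TensorProduct.includeRight : P →ₐ[R] L ⊗[R] P).toRingHom)) := by
      refine IsPullback.of_bot ?_ ?_ sqP
      · convert sqS using 1
        · rw [← Spec.map_comp, ← CommRingCat.ofHom_comp]
          congr 2
          exact RingHom.ext fun l => by simp [γ]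
        · rw [← Spec.map_comp, ← CommRingCat.ofHom_comp,
            show ψ.toRingHom.comp (algebraMap R P) = algebraMap R S from RingHom.ext ψ.commutes]
      · rw [← Spec.map_comp, ← Spec.map_comp, ← CommRingCat.ofHom_comp, ← CommRingCat.ofHom_comp]
        congr 2
    have hιh : ι.hom ≫ Spec.map (CommRingCat.ofHom (Algebra.TensorProduct.includeRight : P →ₐ[R] L ⊗[R] P).toRingHom)
        = π.fiberι y ≫ E.hom := sqπ.isoIsPullback_hom_fst _ _ sqP
    have sq2 : IsPullback (Spec.map (CommRingCat.ofHom (Algebra.TensorProduct.includeRight : S →ₐ[R] L ⊗[R] S).toRingHom) ≫ X.isoSpec.inv)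
        (Spec.map (CommRingCat.ofHom γ) ≫ ι.inv)
        (X.isoSpec.hom ≫ Spec.map (CommRingCat.ofHom ψ.toRingHom) ≫ E.inv) (π.fiberι y) :=
      sqX.of_iso (Iso.refl _) X.isoSpec.symm ι.symm E.symm (by simp) (by simp) (by simp)
        (by rw [Iso.symm_hom, Iso.symm_hom, Iso.eq_inv_comp, ← Category.assoc, hιh, Category.assoc,
          Iso.hom_inv_id, Category.comp_id])
    haveI : IsFinite (Spec.map (CommRingCat.ofHom γ) ≫ ι.inv) := inferInstance
    rw [← IsPullback.isoIsPullback_inv_snd _ _ sq2 (IsPullback.of_hasPullback _ _)]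
    infer_instance

end Groth.Agent.S3394
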