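import Groth.Statements.S3395
import Mathlib
import Groth.Agent.Unibranch.Chains

set_option autoImplicit false
open CategoryTheory AlgebraicGeometry
universe u
open EGA43

namespace Groth.Agent.S3395

open CategoryTheory.Limits in
/-- Let X and Y be affine schemes, f : X ⟶ Y of finite type, y a point of f(X), e the dimension of the
fibre over y, and g a Y-morphism from X to the affine space of dimension e over Y whose base change
to the fibre of the affine space over y is finite. Then that base change is surjective, and g is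
locally quasi-finite on some open U ⊆ X that contains the fibre f⁻¹(y). -/
theorem result {X Y : Scheme.{u}} [IsAffine X] [IsAffine Y]
    (f : X ⟶ Y) [LocallyOfFiniteType f] (y : Y) (hy : y ∈ Set.range f.base) (e : ℕ)
    (he : topologicalKrullDim ↥(f.fiber y) = e) (g : X ⟶ 𝔸(ULift.{u} (Fin e); Y)) (hg : g ≫ (𝔸(ULift.{u} (Fin e); Y) ↘ Y) = f)
    (hfin : IsFinite (pullback.snd g ((𝔸(ULift.{u} (Fin e); Y) ↘ Y).fiberι y))) :
    Function.Surjective (pullback.snd g ((𝔸(ULift.{u} (Fin e); Y) ↘ Y).fiberι y)).base ∧
      ∃ U : X.Opens, f.base ⁻¹' {y} ⊆ (U : Set X) ∧ LocallyQuasiFinite (U.ι ≫ g) := by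
  let n : Type u := ULift.{u} (Fin e)
  let q : 𝔸(n; Y) ⟶ Y := 𝔸(n; Y) ↘ Y
  let P := pullback g (q.fiberι y)
  let h : P ⟶ q.fiber y := pullback.snd g (q.fiberι y)
  have : IsFinite h := hfin
  have : LocallyOfFiniteType g := by
    have : LocallyOfFiniteType (g ≫ q) := by rw [hg]; infer_instance
    exact locallyOfFiniteType_of_comp g q
  -- the source of `h` is the fibre of `f`
  let eP : P ≅ f.fiber y :=
    pullbackRightPullbackFstIso q (Y.fromSpecResidueField y) g ≪≫ pullback.congrHom hg rfl
  have hPdim : topologicalKrullDim ↥P = (e : WithBot ℕ∞) :=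
    (IsHomeomorph.topologicalKrullDim_eq eP.hom (Scheme.Hom.homeomorph eP.hom).isHomeomorph).trans he
  -- the fibre of affine space
  let eA : Spec (CommRingCat.of (MvPolynomial n (Y.residueField y))) ≅ q.fiber y :=
    (AffineSpace.SpecIso n (Y.residueField y)).symm ≪≫
      (AffineSpace.isPullback_map (Y.fromSpecResidueField y) (n := n)).isoPullback
  have hAdim : topologicalKrullDim ↥(q.fiber y) = (e : WithBot ℕ∞) := by
    rw [← IsHomeomorph.topologicalKrullDim_eq eA.hom (Scheme.Hom.homeomorph eA.hom).isHomeomorph]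
    show topologicalKrullDim (PrimeSpectrum (MvPolynomial n (Y.residueField y))) = _
    rw [PrimeSpectrum.topologicalKrullDim_eq_ringKrullDim,
      MvPolynomial.ringKrullDim_of_isNoetherianRing, ringKrullDim_eq_zero_of_field]
    simp [n]
  have : IrreducibleSpace ↥(q.fiber y) := inferInstance
  constructor
  · -- surjectivity
    obtain ⟨c, hc⟩ := Unibranch.exists_chain_of_le_topologicalKrullDim (k := e) hPdim.ge
    have hstep : ∀ i : Fin e, h (c i.castSucc) ⤳ h (c i.succ) ∧ h (c i.castSucc) ≠ h (c i.succ) :=
      fun i ↦ ⟨(hc i).1.map h.continuous, fun heq ↦ (hc i).2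
        ((h.isDiscrete_preimage_singleton (h (c i.castSucc))).eq_of_specializes (hc i).1 rfl heq.symm)⟩
    have hgen : h (c 0) = genericPoint ↥(q.fiber y) := by
      by_contra hne
      have hle : ((e + 1 : ℕ) : WithBot ℕ∞) ≤ topologicalKrullDim ↥(q.fiber y) := by
        refine Unibranch.natCast_le_topologicalKrullDim
          (Fin.cons (genericPoint ↥(q.fiber y)) fun i ↦ h (c i)) fun i ↦ ?_
        refine Fin.cases ?_ (fun j ↦ ?_) i
        · rw [Fin.castSucc_zero, Fin.cons_zero, Fin.cons_succ]
          exact ⟨genericPoint_specializes _, Ne.symm hne⟩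
        · rw [← Fin.succ_castSucc, Fin.cons_succ, Fin.cons_succ]
          exact hstep j
      rw [hAdim] at hle
      exact absurd (ENat.natCast_le_natCast.mp (WithBot.coe_le_coe.mp hle)) (by omega)
    rw [← Set.range_eq_univ]
    refine Set.eq_univ_iff_forall.mpr fun z ↦ ?_
    exact (genericPoint_specializes z).mem_closed h.isClosedMap.isClosed_range ⟨c 0, hgen⟩
  · refine ⟨g.quasiFiniteLocus, fun x hx ↦ ?_, ?_⟩
    · rw [SetLike.mem_coe, Scheme.Hom.mem_quasiFiniteLocus,
        Scheme.Hom.quasiFiniteAt_iff_isOpen_singleton_asFiber]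
      have hd : _root_.IsDiscrete (g.base ⁻¹' {g.base x}) := by
        have hqx : q.base (g.base x) = y := by
          have : (g ≫ q).base x = y := by rw [hg]; exact hx
          exact this
        obtain ⟨t, ht⟩ : g.base x ∈ Set.range (q.fiberι y) := by
          rw [Scheme.Hom.range_fiberι]; exact hqx
        refine ((h.isDiscrete_preimage_singleton t).image
          (pullback.fst g (q.fiberι y)).isEmbedding.isInducing).mono ?_
        intro x' hx'
        obtain ⟨p, hp₁, hp₂⟩ := Scheme.Pullback.exists_preimage_pullback (f := g)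
          (g := q.fiberι y) x' t ((hx' : g.base x' = g.base x).trans ht.symm)
        exact ⟨p, hp₂, hp₁⟩
      have : DiscreteTopology ↥(g.fiber (g.base x)) := by
        have := hd.to_subtype
        exact (g.fiberHomeo (g.base x)).symm.discreteTopology
      exact @isOpen_discrete _ _ this _
    · rw [← Scheme.Hom.quasiFiniteLocus_eq_top_iff, Scheme.Hom.quasiFiniteLocus_comp]
      ext z
      exact ⟨fun _ ↦ trivial, fun _ ↦ z.2⟩

end Groth.Agent.S3395
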