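import Groth.Statements.S3399
import Mathlib
import Groth.Agent.ConsTop.Maps

set_option autoImplicit false
open CategoryTheory AlgebraicGeometry Topology
universe u
open EGA41

namespace Groth.Agent.S3399

/-- Let f : X' ⟶ X be a morphism locally of finite presentation and E' an ind-constructible subset of
X'. Then f(E') is ind-constructible in X; in particular f(X') is ind-constructible. -/
theorem result {X' X : Scheme.{u}} (f : X' ⟶ X)
    [LocallyOfFinitePresentation f] (E' : Set X') (hE' : ProCons.IsIndConstructible E') :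
    ProCons.IsIndConstructible (f.base '' E') := by
  refine ConsTop.indCons_iff_affine.mpr fun W hW => ?_
  obtain ⟨_, _, _, _⟩ := ConsTop.affine_instances hW
  refine (@isOpen_iff_forall_mem_open _ (constructibleTopology ↥(W : Set X)) _).mpr ?_
  rintro ⟨y, hy⟩ ⟨z, hz, rfl⟩
  obtain ⟨V, hV, hzV, hsub⟩ := exists_isAffineOpen_mem_and_subset (U := f ⁻¹ᵁ W) (show z ∈ f ⁻¹ᵁ W from hy)
  obtain ⟨_, _, _, _⟩ := ConsTop.affine_instances hV
  obtain ⟨B, hB, hzB, hBE⟩ := ConsTop.exists_isConstructible_subset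
    (ConsTop.indCons_iff_affine.mp hE' V hV) (show (⟨z, hzV⟩ : ↥(V : Set X')) ∈ Subtype.val ⁻¹' E' from hz)
  have e : V ≤ f ⁻¹ᵁ W := hsub
  haveI : IsAffine W.toScheme := hW
  haveI : CompactSpace V.toScheme := isCompact_iff_compactSpace.mp hV.isCompact
  haveI : CompactSpace W.toScheme := isCompact_iff_compactSpace.mp hW.isCompact
  haveI : QuasiCompact (f.resLE W V e) := HasAffineProperty.iff_of_isAffine.mpr ‹CompactSpace V.toScheme›
  haveI : QuasiSeparatedSpace W.toScheme :=
    (isQuasiSeparated_iff_quasiSeparatedSpace _ W.2).mp hW.isQuasiSeparated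
  haveI : LocallyOfFinitePresentation (f.resLE W V e) := IsZariskiLocalAtSource.resLE e ‹_›
  refine ⟨(f.resLE W V e) '' B, ?_, (ConsTop.isClopen_of_isConstructible ((f.resLE W V e).isConstructible_image hB)).1,
    ⟨⟨z, hzV⟩, hzB, Subtype.ext (f.coe_resLE_apply (e := e) _)⟩⟩
  rintro _ ⟨x, hx, rfl⟩
  exact ⟨x.1, hBE hx, (f.coe_resLE_apply (e := e) x).symm⟩

end Groth.Agent.S3399
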