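import Groth.Statements.S3404
import Groth.Agent.Unibranch.LiftDim

set_option autoImplicit false
open CategoryTheory AlgebraicGeometry
universe u
open EGA41

namespace Groth.Agent.S3404

/-- Let f : X ⟶ Y be a morphism of schemes, x a point of X and y = f x. If f is open at x then every
generization of y is the image of a generization of x; when f is locally of finite presentation the
converse holds. -/
theorem result {X Y : Scheme.{u}} (f : X ⟶ Y) (x : X) :
    (EGA43.IsOpenAt f.base x → ∀ y' : Y, y' ⤳ f.base x → ∃ x' : X, x' ⤳ x ∧ f.base x' = y') ∧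
    (LocallyOfFinitePresentation f →
      ((EGA43.IsOpenAt f.base x) ↔ ∀ y' : Y, y' ⤳ f.base x → ∃ x' : X, x' ⤳ x ∧ f.base x' = y')) := by
  refine ⟨fun h y' hy' ↦ Unibranch.exists_specializes_of_isOpenAt f h hy', fun hf ↦
    ⟨fun h y' hy' ↦ Unibranch.exists_specializes_of_isOpenAt f h hy', fun h U hU ↦ ?_⟩⟩
  obtain ⟨O, hOU, hO, hxO⟩ := mem_nhds_iff.mp hU
  obtain ⟨V, W, hV, hW, hxW, hWV, hWO⟩ := Unibranch.exists_chart_le f (U := ⟨O, hO⟩) (x := x) hxO
  have hfp := hf.finitePresentation_appLE hV hW hWV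
  set s : Set (PrimeSpectrum Γ(Y, V)) :=
    PrimeSpectrum.comap (f.appLE V W hWV).hom '' Set.univ with hs
  have hcons : Topology.IsConstructible s :=
    PrimeSpectrum.isConstructible_comap_image hfp .univ
  have hmem : s ∈ nhds (hV.primeIdealOf ⟨f x, hWV hxW⟩) := by
    refine GoingDown.mem_nhds_of_isConstructible hcons fun q₀ hq₀ ↦ ?_
    have hsp : hV.fromSpec q₀ ⤳ f x := by
      have := ((PrimeSpectrum.le_iff_specializes _ _).mp hq₀).map hV.fromSpec.continuous
      rwa [hV.fromSpec_primeIdealOf] at this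
    obtain ⟨x', hx', hfx'⟩ := h _ hsp
    have hx'W : x' ∈ W := hx'.mem_open W.2 hxW
    refine ⟨hW.primeIdealOf ⟨x', hx'W⟩, trivial, hV.fromSpec.isOpenEmbedding.injective ?_⟩
    rw [Unibranch.fromSpec_comap_appLE f hV hW hWV, hW.fromSpec_primeIdealOf]
    exact hfx'
  have h2 := hV.fromSpec.isOpenEmbedding.isOpenMap.image_mem_nhds hmem
  rw [hV.fromSpec_primeIdealOf] at h2
  refine Filter.mem_of_superset h2 ?_
  rintro _ ⟨p, ⟨q, -, rfl⟩, rfl⟩
  refine ⟨hW.fromSpec q, hOU (hWO ?_), (Unibranch.fromSpec_comap_appLE f hV hW hWV q).symm⟩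
  show hW.fromSpec q ∈ (W : Set X)
  rw [← hW.range_fromSpec]; exact ⟨q, rfl⟩

end Groth.Agent.S3404
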