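import Groth.Statements.S3406
import Groth.Agent.HilbSam.Main
import Mathlib.RingTheory.Support
import Mathlib.RingTheory.Artinian.Ring

set_option autoImplicit false
universe u
open EGA41 Groth.Agent

namespace Groth.Agent.S3406

/-- The equality s(M) = dim(M): let A be a Noetherian ring with finitely many maximal ideals, r its
Jacobson radical and M a nonzero finitely generated A-module. Then the dimension of M (the Krull
dimension of its support) is the least n for which there are elements x_1, …, x_n of r such that
M/(x_1 M + ⋯ + x_n M) has finite length. -/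
theorem result (A : Type u) [CommRing A] [IsNoetherianRing A]
    [Finite (MaximalSpectrum A)] (M : Type u) [AddCommGroup M] [Module A M] [Module.Finite A M] [Nontrivial M] :
    Module.supportDim A M =
      sInf {k : WithBot ℕ∞ | ∃ (n : ℕ) (x : Fin n → A), k = n ∧ (∀ i, x i ∈ Ring.jacobson A) ∧
        IsFiniteLength A (M ⧸ (Ideal.span (Set.range x) • (⊤ : Submodule A M)))} := by
  classical
  obtain ⟨P, hPN, hdeg⟩ := HilbSam.main (A := A) (M := M)
  refine le_antisymm (le_sInf ?_) ?_
  · rintro _ ⟨n, x, rfl, hx, hfl⟩
    rw [← hdeg]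
    refine Nat.cast_le.2 ?_
    set xs := List.ofFn x with hxs
    have hI : Ideal.ofList xs = Ideal.span (Set.range x) := by
      rw [Ideal.ofList]; congr 1; ext; simp [hxs, List.mem_ofFn]
    have hmax : ∀ Q : Ideal A, Q.IsPrime → Ideal.ofList xs ≤ Q → Module.annihilator A M ≤ Q → Q.IsMaximal := by
      intro Q hQ hxQ hMQ
      let N := M ⧸ (Ideal.span (Set.range x) • (⊤ : Submodule A M))
      obtain ⟨hnN, haN⟩ := isFiniteLength_iff_isNoetherian_isArtinian.1 hfl
      obtain ⟨g, gen, hgen⟩ := Module.Finite.exists_fin (R := A) (M := N)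
      let φ : A →ₗ[A] (Fin g → N) := LinearMap.pi fun i => LinearMap.toSpanSingleton A N (gen i)
      have hker : LinearMap.ker φ = Module.annihilator A N := by
        ext a
        simp only [LinearMap.mem_ker, φ, funext_iff, LinearMap.pi_apply, LinearMap.toSpanSingleton_apply, Pi.zero_apply,
          Module.mem_annihilator]
        refine ⟨fun h y => ?_, fun h i => h _⟩
        have hy : y ∈ Submodule.span A (Set.range gen) := hgen ▸ Submodule.mem_top
        obtain ⟨c, rfl⟩ := (Submodule.mem_span_range_iff_exists_fun A).1 hy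
        simp [Finset.smul_sum, smul_comm a, h]
      haveI : IsArtinian A (A ⧸ Module.annihilator A N) :=
        isArtinian_of_injective ((Submodule.liftQ _ φ hker.ge)) (by
          rw [← LinearMap.ker_eq_bot, Submodule.ker_liftQ, hker, Submodule.mkQ_map_self])
      haveI : IsArtinianRing (A ⧸ Module.annihilator A N) := isArtinian_of_tower A inferInstance
      have hQN : Module.annihilator A N ≤ Q := by
        have h : (⟨Q, hQ⟩ : PrimeSpectrum A) ∈ Module.support A N := by
          rw [Module.support_quotient]
          exact ⟨Module.mem_support_iff_of_finite.2 hMQ, hI ▸ hxQ⟩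
        exact Module.mem_support_iff_of_finite.1 h
      haveI := Ideal.map_isPrime_of_surjective (f := Ideal.Quotient.mk (Module.annihilator A N))
        Ideal.Quotient.mk_surjective (I := Q) (by rw [Ideal.mk_ker]; exact hQN)
      have hm := IsArtinianRing.isMaximal_of_isPrime (Q.map (Ideal.Quotient.mk (Module.annihilator A N)))
      have := Ideal.comap_isMaximal_of_surjective (f := Ideal.Quotient.mk (Module.annihilator A N)) Ideal.Quotient.mk_surjective (K := Q.map (Ideal.Quotient.mk (Module.annihilator A N)))
      rwa [Ideal.comap_map_of_surjective _ Ideal.Quotient.mk_surjective, ← RingHom.ker_eq_comap_bot, Ideal.mk_ker,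
        sup_eq_left.2 hQN] at this
    obtain ⟨Q, hQdeg, hQ⟩ := HilbSam.evPoly_hs (M := M) xs hmax
    obtain ⟨N, hN⟩ := hPN
    have hle : P.natDegree ≤ xs.length := by
      refine HilbSam.natDegree_le_of_le_pow (K := ∑ i ∈ Finset.range (xs.length + 1), |Q.coeff i|)
        ((Filter.eventually_ge_atTop N).mono fun n hn => ?_) ?_
      · obtain ⟨l, -, hl⟩ := hN n hn; rw [← hl]; exact Nat.cast_nonneg _
      filter_upwards [hQ, Filter.eventually_ge_atTop N, Filter.eventually_gt_atTop 0] with m hm' hm hm0
      obtain ⟨l, hl, hl'⟩ := hN m hm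
      rw [← hl']
      refine le_trans (b := Q.eval (m : ℚ)) ?_ ?_
      · rw [← hm']
        refine Nat.cast_le.2 ?_
        have hmono := HilbSam.hs_mono (M := M) (r := Ring.jacobson A) (q := Ideal.ofList xs)
          (Ideal.span_le.2 fun y hy => by
            obtain ⟨i, rfl⟩ := List.mem_ofFn.1 (by simpa [hxs] using hy : y ∈ List.ofFn x)
            exact hx i) m
        have := ENat.toNat_le_toNat hmono (HilbSam.hs_ne_top hmax m)
        rwa [HilbSam.hs, hl, ENat.toNat_natCast] at this
      · have hnd : Q.natDegree < xs.length + 1 := by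
          rcases eq_or_ne Q 0 with h | h
          · simp [h]
          · exact (Polynomial.natDegree_lt_iff_degree_lt h).2 hQdeg
        rw [Polynomial.eval_eq_sum_range' hnd, Finset.sum_mul]
        refine Finset.sum_le_sum fun i hi => ?_
        refine mul_le_mul (le_abs_self _) ?_ (pow_nonneg (Nat.cast_nonneg _) _) (abs_nonneg _)
        exact pow_le_pow_right₀ (by exact_mod_cast hm0) (Nat.lt_succ_iff.1 (Finset.mem_range.1 hi))
    simpa [hxs] using hle
  · obtain ⟨xs, hlen, hxs, hmax⟩ := HilbSam.exists_params P.natDegree (Module.annihilator A M) fun s hs' => by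
      let s' : LTSeries (Module.support A M) :=
        { length := s.length
          toFun := fun i => ⟨s i, Module.mem_support_iff_of_finite.2 (hs'.trans (s.monotone (Fin.zero_le i)))⟩
          step := fun i => s.step i }
      have := Order.LTSeries.length_le_krullDim s'
      rw [← Module.supportDim, ← hdeg] at this
      exact_mod_cast this
    refine le_trans (sInf_le (a := (xs.length : WithBot ℕ∞)) (show (xs.length : WithBot ℕ∞) ∈ {k : WithBot ℕ∞ | ∃ (n : ℕ) (x : Fin n → A), k = n ∧ (∀ i, x i ∈ Ring.jacobson A) ∧ IsFiniteLength A (M ⧸ (Ideal.span (Set.range x) • (⊤ : Submodule A M)))} from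
      ⟨xs.length, fun i => xs.get i, rfl, fun i => hxs _ (List.get_mem _ _), ?_⟩)) ?_
    · rw [← Module.length_ne_top_iff]
      refine HilbSam.length_ne_top_of_ann _ (Ideal.ofList xs ⊔ Module.annihilator A M) ?_ fun Q hQ hle =>
        hmax Q hQ (le_sup_left.trans hle) (le_sup_right.trans hle)
      refine sup_le ?_ fun a ha => Module.mem_annihilator.2 fun y => ?_
      · refine Ideal.span_le.2 fun a ha => Module.mem_annihilator.2 fun y => ?_
        obtain ⟨y, rfl⟩ := Submodule.mkQ_surjective _ y
        rw [Submodule.mkQ_apply, ← Submodule.Quotient.mk_smul, Submodule.Quotient.mk_eq_zero]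
        obtain ⟨i, hi⟩ := List.mem_iff_get.1 ha
        exact Submodule.smul_mem_smul (Ideal.subset_span ⟨i, hi⟩) Submodule.mem_top
      · obtain ⟨y, rfl⟩ := Submodule.mkQ_surjective _ y
        rw [← map_smul, Module.mem_annihilator.1 ha, map_zero]
    · rw [← hdeg]; exact_mod_cast hlen

end Groth.Agent.S3406
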