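import Groth.Statements.S3408
import Groth.Agent.UOFlat.RedAscent
import Groth.Agent.S4963

set_option autoImplicit false
open CategoryTheory AlgebraicGeometry
universe u
open EGA43

namespace Groth.Agent.S3408

/-- Let Y be locally Noetherian, f : X ⟶ Y locally of finite type, x a point of X and y = f x. Suppose f
is universally open at the generic point of every irreducible component of X_y passing through x,
X_y is geometrically reduced at x, and the local ring O_{Y,y} is reduced. Then there is an open
neighbourhood U of x such that the restriction of f to U is flat and U is a reduced scheme. -/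
theorem result {X Y : Scheme.{u}} [IsLocallyNoetherian Y] (f : X ⟶ Y)
    [LocallyOfFiniteType f] (x : X)
    (hopen : ∀ z : ↥(f.fiber (f.base x)), f.asFiber x ∈ closure {z} →
      (∀ z' : ↥(f.fiber (f.base x)), z ∈ closure {z'} → z' = z) →
      EGA43.IsUnivOpenAt f ((f.fiberι (f.base x)).base z))
    (hred : FBase.IsGeomReducedAt (f.fiberToSpecResidueField (f.base x)) (f.asFiber x))
    (hy : _root_.IsReduced (Y.presheaf.stalk (f.base x))) :
    ∃ U : X.Opens, x ∈ U ∧ Flat (U.ι ≫ f) ∧ IsReduced (U : Scheme.{u}) := by
  haveI := hy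
  have hgr := (Groth.Agent.GeomRedAt.isGeomReducedAt_iff f x).mp hred
  have hflat := Groth.Agent.UOFlat.flat_stalkMap f x (Groth.Agent.UOFlat.forall_maximal_of_fiber f x hopen) hgr
  haveI := Groth.Agent.ConsEngine.lfp_of_lft f
  let U : X.Opens := ⟨_, Groth.Agent.S4963.result f⟩
  haveI : Flat (U.ι ≫ f) := Flat.of_stalkMap _ fun u ↦ by
    rw [Scheme.Hom.stalkMap_comp]
    exact RingHom.Flat.comp (f := (f.stalkMap (U.ι u)).hom) (g := (U.ι.stalkMap u).hom) u.2.1 (Flat.stalkMap U.ι u)
  exact Groth.Agent.UOFlat.exists_nhd_flat_reduced f x U ⟨hflat, hred⟩ hgr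

end Groth.Agent.S3408
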