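import Groth.Statements.S3409
import Groth.Agent.UOFlat.Equidim
import Groth.Agent.EquidimPt.Char

set_option autoImplicit false
open CategoryTheory AlgebraicGeometry
universe u
open EGA43

namespace Groth.Agent.S3409

/-- Let Y be locally Noetherian, f : X ⟶ Y locally of finite type, x a point of X and y = f x. Suppose f
is universally open at the generic point of every irreducible component of X_y through x, X_y is
geometrically reduced at x, and all irreducible components of X_y passing through x have the same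
dimension. Then f is equidimensional at x. -/
theorem result {X Y : Scheme.{u}} [IsLocallyNoetherian Y] (f : X ⟶ Y)
    [LocallyOfFiniteType f] (x : X)
    (hopen : ∀ z : ↥(f.fiber (f.base x)), f.asFiber x ∈ closure {z} →
      (∀ z' : ↥(f.fiber (f.base x)), z ∈ closure {z'} → z' = z) →
      EGA43.IsUnivOpenAt f ((f.fiberι (f.base x)).base z))
    (hred : FBase.IsGeomReducedAt (f.fiberToSpecResidueField (f.base x)) (f.asFiber x))
    (heq : ∃ e : ℕ, ∀ Z ∈ irreducibleComponents (↥(f.fiber (f.base x)) : Type u), f.asFiber x ∈ Z →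
      topologicalKrullDim (↥Z : Type u) = e) :
    EGA43.IsEquidimAt f x := by
  obtain ⟨e, he⟩ := heq
  have hred' := (GeomRedAt.isGeomReducedAt_iff f x).mp hred
  haveI : IsLocallyNoetherian X := LocallyOfFiniteType.isLocallyNoetherian f
  obtain ⟨U, hxU, hUo, -⟩ := UOFlat.exists_nhd_universallyOpen f x (UOFlat.forall_maximal_of_fiber f x hopen) hred'
  haveI := hUo
  -- the components of the fibre
  let ι := f.fiberι (f.base x)
  have hcomp : ∀ z, z ⤳ x → f z = f x → (∀ z', z' ⤳ z → f z' = f x → z' = z) →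
      ∃ Z ∈ irreducibleComponents (↥(f.fiber (f.base x)) : Type u), f.asFiber x ∈ Z ∧
        Set.range (fun q : Z => ι q.1) = closure {z} ∩ f ⁻¹' {f x} := by
    intro z hz hfz hzmax
    obtain ⟨z₀, hz₀⟩ : z ∈ Set.range ι := (f.range_fiberι _).ge hfz
    have hmax : ∀ w, w ⤳ z₀ → w = z₀ := fun w hw => ι.isEmbedding.injective (by
      rw [hz₀]
      exact hzmax _ (hz₀ ▸ hw.map ι.continuous) ((f.range_fiberι _).le ⟨w, rfl⟩))
    have hsp : z₀ ⤳ f.asFiber x := ι.isEmbedding.isInducing.specializes_iff.mp (by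
      rw [hz₀, show ι (f.asFiber x) = x from f.fiberι_asFiber x]; exact hz)
    refine ⟨closure {z₀}, Unibranch.IsMaxPt.mem_irreducibleComponents hmax, hsp.mem_closure, ?_⟩
    ext v
    constructor
    · rintro ⟨⟨q, hq⟩, rfl⟩
      exact ⟨(hz₀ ▸ (specializes_iff_mem_closure.mpr hq).map ι.continuous : z ⤳ ι q).mem_closure,
        (f.range_fiberι _).le ⟨q, rfl⟩⟩
    · rintro ⟨hv, hfv⟩
      obtain ⟨q, rfl⟩ : v ∈ Set.range ι := (f.range_fiberι _).ge hfv
      refine ⟨⟨q, (ι.isEmbedding.isInducing.specializes_iff.mp ?_).mem_closure⟩, rfl⟩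
      rw [hz₀]
      exact specializes_iff_mem_closure.mpr hv
  have hfe : ∀ z, z ⤳ x → f z = f x → (∀ z', z' ⤳ z → f z' = f x → z' = z) →
      Unibranch.HasChain f (closure {z}) (f x) e := by
    intro z hz hfz hzmax
    obtain ⟨Z, hZ, hxZ, hrange⟩ := hcomp z hz hfz hzmax
    haveI := (isClosed_of_mem_irreducibleComponents _ hZ).isClosedEmbedding_subtypeVal.quasiSober
    exact (Unibranch.natCast_le_topologicalKrullDim_iff f (ι.isEmbedding.comp Topology.IsEmbedding.subtypeVal) hrange).mp
      (he Z hZ hxZ).ge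
  refine EquidimPt.isEquidimAt_of_components f x (e := e) (fun ζ hζm hζx w hw => ?_)
    (fun ζ hζm hζx => UOFlat.hasChain_generic f U hxU hred' hfe hζm hζx) ?_
  · obtain ⟨ζ', hζ', hfζ'⟩ := Unibranch.exists_specializes_of_isOpenAt f (z := ζ) (η := w) (fun N hN => by
      obtain ⟨u, hu⟩ : ζ ∈ Set.range U.ι := U.range_ι.ge (hζx.mem_open U.2 hxU)
      subst hu
      have := (U.ι ≫ f).isOpenMap.image_mem_nhds (U.ι.continuous.continuousAt.preimage_mem_nhds hN)
      rw [Scheme.Hom.comp_apply] at this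
      exact Filter.mem_of_superset this (by rintro _ ⟨b, hb, rfl⟩; exact ⟨U.ι b, hb, (Scheme.Hom.comp_apply _ _ _).symm⟩)) hw
    rw [← hfζ', hζm ζ' hζ']
  · obtain ⟨d, hd⟩ := Unibranch.exists_fibreDimAt_eq f x
    obtain ⟨m, hmx, hfm, hm, hch⟩ := Unibranch.exists_max_hasChain f x hd.ge
    obtain ⟨Z, hZ, hxZ, hrange⟩ := hcomp m hmx hfm fun z' hz' hfz' => hm z' hfz' hz'
    haveI := (isClosed_of_mem_irreducibleComponents _ hZ).isClosedEmbedding_subtypeVal.quasiSober
    have h1 := (Unibranch.natCast_le_topologicalKrullDim_iff f (ι.isEmbedding.comp Topology.IsEmbedding.subtypeVal) hrange).mpr hch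
    rw [show topologicalKrullDim (↥Z : Type u) = e from he Z hZ hxZ] at h1
    exact (Unibranch.fibreDimAt_le_iff f x).mp (hd ▸ h1)

end Groth.Agent.S3409
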