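import Groth.Statements.S3411
import Groth.Agent.Weighting.GeomCardOpen

set_option autoImplicit false
open CategoryTheory AlgebraicGeometry
universe u
open EGA43

namespace Groth.Agent.S3411

/-- Let Y be locally Noetherian and f : X ⟶ Y separated and quasi-finite; for z in Y let n(z) be the
geometric number of points of the fibre over z (equivalently, since the fibres are finite, the
geometric number of its connected components). If y is a point such that f is universally open at
every point of the fibre over y, then n is lower semicontinuous at y: n(y) ≤ n(z) for all z in a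
neighbourhood of y. -/
theorem result {X Y : Scheme.{u}} [IsLocallyNoetherian Y] (f : X ⟶ Y)
    [IsSeparated f] [LocallyQuasiFinite f] [LocallyOfFiniteType f] [QuasiCompact f] (y : Y)
    (h : ∀ x : X, f.base x = y → EGA43.IsUnivOpenAt f x) :
    ∃ V ∈ nhds y, ∀ z ∈ V, MoreMor.nGeomConnComp f y ≤ MoreMor.nGeomConnComp f z := by
  classical
  have hfin : ∀ z : Y, (f ⁻¹' {z}).Finite := fun z => f.finite_preimage_singleton z
  let N : Y → ℤ := MoreMor.fibreIntegral f fun _ => (1 : ℤ)
  have hn : ∀ z, MoreMor.nGeomConnComp f z = ((N z).toNat : ℕ∞) := Groth.Agent.Weighting.nGeomConnComp_eq f hfin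
  refine ⟨_, Groth.Agent.Weighting.lowerSemicontinuousAt_fibreCard hfin y h (N y - 1) (show N y - 1 < N y by omega), fun z hz => ?_⟩
  have hz' : N y - 1 < N z := hz
  rw [hn, hn]
  exact Nat.cast_le.2 (Int.toNat_le_toNat (by omega))

end Groth.Agent.S3411
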