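import Groth.Statements.S3412
import Groth.Agent.Weighting.GeomCardOpen

set_option autoImplicit false
open CategoryTheory AlgebraicGeometry
universe u
open EGA43

namespace Groth.Agent.S3412

/-- Let Y be locally Noetherian, f : X ⟶ Y separated and quasi-finite, n(z) the geometric number of
points of the fibre over z, and y a point such that f is universally open at every point of the
fibre over y. If n is constant on a neighbourhood of y, then f is proper at y: there is an open
neighbourhood U of y such that the restriction of f over U is proper. -/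
theorem result {X Y : Scheme.{u}} [IsLocallyNoetherian Y] (f : X ⟶ Y)
    [IsSeparated f] [LocallyQuasiFinite f] [LocallyOfFiniteType f] [QuasiCompact f] (y : Y)
    (h : ∀ x : X, f.base x = y → EGA43.IsUnivOpenAt f x)
    (hc : ∃ V ∈ nhds y, ∀ z ∈ V, MoreMor.nGeomConnComp f z = MoreMor.nGeomConnComp f y) :
    ∃ U : Y.Opens, y ∈ U ∧ IsProper (f ∣_ U) := by
  classical
  have hfin : ∀ z : Y, (f ⁻¹' {z}).Finite := fun z => f.finite_preimage_singleton z
  let N : Y → ℤ := MoreMor.fibreIntegral f fun _ => (1 : ℤ)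
  have hn : ∀ z, MoreMor.nGeomConnComp f z = ((N z).toNat : ℕ∞) := Groth.Agent.Weighting.nGeomConnComp_eq f hfin
  have hnn : ∀ z, 0 ≤ N z := fun z => finsum_nonneg fun _ => by simp
  obtain ⟨V, hV, hVc⟩ := hc
  obtain ⟨O, hOV, hOo, hyO⟩ := mem_nhds_iff.1 hV
  have hO : ∀ z ∈ (⟨O, hOo⟩ : Y.Opens), N z = N y := fun z hz => by
    have h1 := hVc z (hOV hz)
    rw [hn, hn, Nat.cast_inj] at h1
    have := hnn z
    have := hnn y
    omega
  obtain ⟨D, hyD, -, hUC⟩ := Groth.Agent.Weighting.exists_universallyClosed_nhd hfin y h (N y) ⟨O, hOo⟩ hyO hO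
  haveI := hUC
  exact ⟨D, hyD, ⟨⟩⟩

end Groth.Agent.S3412
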