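import Groth.Statements.S3417
import Groth.Agent.Unibranch.DvrConn

set_option autoImplicit false
open CategoryTheory AlgebraicGeometry
universe u
open EGA43

namespace Groth.Agent.S3417

/-- Let A be a discrete valuation ring, Y = Spec A with closed point a and generic point b, and f : X ⟶
Y a morphism locally of finite type which is open (as a map of spaces). If X is connected and the
fibre over a is a reduced scheme, then the fibre over b is connected. (Stated with 'preconnected',
which also covers the empty case; a is the closed point and b the point specialising to every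
point.) -/
theorem result (A : Type u) [CommRing A] [IsDomain A]
    [IsDiscreteValuationRing A] {X : Scheme.{u}} (f : X ⟶ Spec (CommRingCat.of A)) [LocallyOfFiniteType f]
    (hopen : IsOpenMap f.base) [PreconnectedSpace X]
    (a b : ↥(Spec (CommRingCat.of A))) (ha : IsClosed ({a} : Set ↥(Spec (CommRingCat.of A))))
    (hb : ∀ z : ↥(Spec (CommRingCat.of A)), b ⤳ z)
    (hred : AlgebraicGeometry.IsReduced (f.fiber a)) :
    PreconnectedSpace ↥(f.fiber b) := by
  have ha' : a = IsLocalRing.closedPoint A :=
    PrimeSpectrum.ext (IsLocalRing.eq_maximalIdeal ((PrimeSpectrum.isClosed_singleton_iff_isMaximal a).mp ha))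
  have hb' : b = (⟨⊥, Ideal.isPrime_bot⟩ : PrimeSpectrum A) :=
    PrimeSpectrum.ext (eq_bot_iff.mpr ((PrimeSpectrum.le_iff_specializes b ⟨⊥, Ideal.isPrime_bot⟩).mpr (hb _)))
  have hne : b ≠ a := fun h => IsDiscreteValuationRing.not_a_field A
    (congrArg PrimeSpectrum.asIdeal (ha'.symm.trans (h.symm.trans hb')))
  have hmax : ∀ t : ↥(Spec (CommRingCat.of A)), t ≠ a → t = b := fun t ht => by
    by_contra h
    have : t.asIdeal.IsMaximal := t.2.isMaximal fun h0 => h ((PrimeSpectrum.ext h0).trans hb'.symm)
    exact ht (ha' ▸ PrimeSpectrum.ext (IsLocalRing.eq_maximalIdeal this))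
  have h := Groth.Agent.Unibranch.isPreconnected_generic_fibre f ha hne hmax hred fun w hw => by
    obtain ⟨ζ, h1, h2⟩ := Groth.Agent.Unibranch.exists_specializes_of_isOpenAt f
      (fun U hU => hopen.image_mem_nhds hU) (η := b) (hb (f w))
    exact ⟨ζ, h1, h2⟩
  have : PreconnectedSpace ↥(f.base ⁻¹' {b}) := isPreconnected_iff_preconnectedSpace.mp h
  exact ⟨(f.fiberHomeo b).symm.surjective.range_eq ▸ isPreconnected_range (f.fiberHomeo b).symm.continuous⟩

end Groth.Agent.S3417
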