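import Groth.Statements.S3418
import Groth.Agent.Weighting.GeomCard

set_option autoImplicit false
open CategoryTheory AlgebraicGeometry
universe u
open EGA43

namespace Groth.Agent.S3418

/-- Let f : X ⟶ Y be flat, locally of finite presentation, separated and quasi-finite, and let n(y) be
the geometric number of points of the fibre over y. Then n is lower semicontinuous on Y, and if n is
constant on a neighbourhood of a point y₀ then f is proper over some open neighbourhood of y₀. -/
theorem result {X Y : Scheme.{u}} (f : X ⟶ Y) [Flat f]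
    [LocallyOfFinitePresentation f] [IsSeparated f] [LocallyQuasiFinite f] [QuasiCompact f] :
    LowerSemicontinuous (fun z : Y => MoreMor.nGeomConnComp f z) ∧
      ∀ y₀ : Y, (∃ V ∈ nhds y₀, ∀ z ∈ V, MoreMor.nGeomConnComp f z = MoreMor.nGeomConnComp f y₀) →
        ∃ U : Y.Opens, y₀ ∈ U ∧ IsProper (f ∣_ U) := by
  classical
  have hfin : ∀ y : Y, (f ⁻¹' {y}).Finite := fun y => f.finite_preimage_singleton y
  let N : Y → ℤ := MoreMor.fibreIntegral f fun _ => (1 : ℤ)
  have hn : ∀ z, MoreMor.nGeomConnComp f z = ((N z).toNat : ℕ∞) := Groth.Agent.Weighting.nGeomConnComp_eq f hfin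
  have hN : LowerSemicontinuous N := Groth.Agent.Weighting.lowerSemicontinuous_fibreCard hfin
  refine ⟨fun y c hc => ?_, fun y₀ ⟨V, hV, hVc⟩ => ?_⟩
  · change c < MoreMor.nGeomConnComp f y at hc
    rw [hn] at hc
    obtain ⟨k, rfl⟩ := WithTop.ne_top_iff_exists.1 (ne_top_of_lt hc)
    have hk : (k : ℤ) < N y := Int.lt_toNat.1 (Nat.cast_lt.1 hc)
    filter_upwards [hN y (k : ℤ) hk] with z hz
    show (k : ℕ∞) < MoreMor.nGeomConnComp f z
    rw [hn]
    exact Nat.cast_lt.2 (Int.lt_toNat.2 hz)
  · obtain ⟨U, hUV, hUo, hy₀⟩ := mem_nhds_iff.1 hV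
    have hnn : ∀ z, 0 ≤ N z := fun z => finsum_nonneg fun _ => by simp
    have hU : ∀ z ∈ (⟨U, hUo⟩ : Y.Opens), N z = N y₀ := fun z hz => by
      have h := hVc z (hUV hz)
      rw [hn, hn, Nat.cast_inj] at h
      have := hnn z
      have := hnn y₀
      omega
    haveI := Groth.Agent.Weighting.isFinite_restrict_of_fibreCard_eq hfin (N y₀) ⟨U, hUo⟩ hU
    exact ⟨⟨U, hUo⟩, hy₀, inferInstance⟩

end Groth.Agent.S3418
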