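import Groth.Statements.S4952
import Mathlib
import Groth.Agent.Unibranch.SectionComp

set_option autoImplicit false
open CategoryTheory AlgebraicGeometry
universe u v w
open EGA43

namespace Groth.Agent.S4952

/-- Let Y be a locally Noetherian scheme, f : X ⟶ Y a morphism locally of finite type and g : Y ⟶ X a
section of f; for z in Y let X_z^0 be the connected component of the fibre f⁻¹(z) containing g z (a
subset of X with the induced topology). Let y be a point of Y and y' a generization of y. (i) If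
there is an irreducible component Z of f⁻¹(y') containing g y' with dim Z = dim X_{y'}^0, then dim
X_y^0 ≥ dim X_{y'}^0. (ii) If moreover X_y^0 is irreducible and dim X_y^0 = dim X_{y'}^0, then X_y^0
is contained in the closure of X_{y'}^0 in X. -/
theorem result {X Y : Scheme.{u}} [IsLocallyNoetherian Y] (f : X ⟶ Y)
    [LocallyOfFiniteType f] (g : Y ⟶ X) (hg : g ≫ f = 𝟙 Y) (y y' : Y) (hy : y' ⤳ y)
    (hZ : ∃ Z : Set X, Z ⊆ f.base ⁻¹' {y'} ∧ IsIrreducible Z ∧
      (∀ Z' : Set X, IsIrreducible Z' → Z' ⊆ f.base ⁻¹' {y'} → Z ⊆ Z' → Z' = Z) ∧ g.base y' ∈ Z ∧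
      topologicalKrullDim ↥Z = topologicalKrullDim ↥(connectedComponentIn (f.base ⁻¹' {y'}) (g.base y'))) :
    topologicalKrullDim ↥(connectedComponentIn (f.base ⁻¹' {y'}) (g.base y')) ≤ topologicalKrullDim ↥(connectedComponentIn (f.base ⁻¹' {y}) (g.base y)) ∧
      (IsIrreducible (connectedComponentIn (f.base ⁻¹' {y}) (g.base y)) → topologicalKrullDim ↥(connectedComponentIn (f.base ⁻¹' {y}) (g.base y)) = topologicalKrullDim ↥(connectedComponentIn (f.base ⁻¹' {y'}) (g.base y')) →
        connectedComponentIn (f.base ⁻¹' {y}) (g.base y) ⊆ closure (connectedComponentIn (f.base ⁻¹' {y'}) (g.base y'))) := by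
  obtain ⟨Z, hZf, hZirr, hZmax, hgZ, hZdim⟩ := hZ
  obtain ⟨ζ, hζ⟩ := QuasiSober.sober hZirr.closure isClosed_closure
  have hgy' : f.base (g.base y') = y' := hZf hgZ
  have hgy : f.base (g.base y) = y := by
    have : (g ≫ f).base y = y := by rw [hg]; rfl
    exact this
  have hζg : ζ ⤳ g.base y' := hζ.specializes (subset_closure hgZ)
  have hfζ : f.base ζ = y' := by
    refine ((hgy' ▸ hζg.map f.continuous).antisymm ?_).eq
    have h1 : f.base ζ ∈ closure (f.base '' Z) :=
      image_closure_subset_closure_image f.continuous ⟨ζ, hζ.mem, rfl⟩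
    exact specializes_iff_mem_closure.mpr (closure_mono (Set.image_subset_iff.mpr hZf) h1)
  have hirr : IsIrreducible (closure {ζ} ∩ f.base ⁻¹' {y'}) := by
    rw [← isIrreducible_iff_closure, show closure (closure ({ζ} : Set X) ∩ f.base ⁻¹' {y'}) = closure {ζ} from
      (closure_minimal Set.inter_subset_left isClosed_closure).antisymm
        (closure_mono (Set.singleton_subset_iff.mpr ⟨subset_closure rfl, hfζ⟩))]
    exact isIrreducible_singleton.closure
  obtain ⟨d, hd₁, hd₂, hd⟩ := Unibranch.exists_dim_closure_eq f ζ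
  rw [hfζ] at hd₁ hd₂ hd
  have hZeq : Z = closure {ζ} ∩ f.base ⁻¹' {y'} :=
    (hZmax _ hirr Set.inter_subset_right fun z hz ↦ ⟨hζ.def ▸ subset_closure hz, hZf hz⟩).symm
  have hdim' : topologicalKrullDim ↥(connectedComponentIn (f.base ⁻¹' {y'}) (g.base y')) = (d : WithBot ℕ∞) := by
    rw [← hZdim, hZeq]; exact hd
  have hζy : ζ ⤳ g.base y := hζg.trans (hy.map g.continuous)
  have hchain := Unibranch.exists_hasChain_closure_component f hζy
    (show Unibranch.HasChain f (closure {ζ}) (f ζ) d by rw [show f ζ = y' from hfζ]; exact hd₂)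
  rw [show f.base (g.base y) = y from hgy] at hchain
  have hO := Unibranch.exists_opens_inter_eq f y hgy
  obtain ⟨O, hO⟩ := hO
  constructor
  · rw [hdim', ← hO]
    obtain ⟨c, hc, hch⟩ := hchain
    refine (Unibranch.natCast_le_topologicalKrullDim_inter_iff f O.2.isLocallyClosed y).mpr
      ⟨c, fun i ↦ ⟨(hO.ge (hc i).1.2).1, (hc i).2⟩, hch⟩
  · intro hCirr hCdim
    obtain ⟨ξ, hξC, hξy, -, hCeq, e, hCe, he₁, -, -⟩ :=
      Unibranch.exists_genericPoint_connectedComponent f hgy hCirr
    have hed : e = d := by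
      have := (hCe.symm.trans (hCdim.trans hdim'))
      exact_mod_cast this
    subst hed
    obtain ⟨c, hc, hch⟩ := hchain
    have hξc : ξ ⤳ c 0 := specializes_iff_mem_closure.mpr (hCeq.le (hc 0).1.2).1
    have hc0 : c 0 = ξ := by
      by_contra hne
      have := he₁ (e + 1) (Fin.cons ξ c) (fun i ↦ ?_) (fun i ↦ ?_)
      · omega
      · refine Fin.cases ⟨subset_closure rfl, hξy⟩ (fun j ↦ ?_) i
        rw [Fin.cons_succ]
        exact ⟨(hCeq.le (hc j).1.2).1, (hc j).2⟩
      · refine Fin.cases ?_ (fun j ↦ ?_) i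
        · rw [Fin.castSucc_zero, Fin.cons_zero, Fin.cons_succ]
          exact ⟨hξc, Ne.symm hne⟩
        · rw [← Fin.succ_castSucc, Fin.cons_succ, Fin.cons_succ]
          exact hch j
    have hζξ : ξ ∈ closure ({ζ} : Set X) := hc0 ▸ (hc 0).1.1
    have hζC' : ζ ∈ connectedComponentIn (f.base ⁻¹' {y'}) (g.base y') :=
      hirr.isConnected.isPreconnected.subset_connectedComponentIn ⟨specializes_iff_mem_closure.mp hζg, hgy'⟩
        Set.inter_subset_right ⟨subset_closure rfl, hfζ⟩
    intro z hz
    rw [hCeq] at hz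
    refine closure_mono (Set.singleton_subset_iff.mpr hζC') ?_
    exact closure_minimal (Set.singleton_subset_iff.mpr hζξ) isClosed_closure hz.1

end Groth.Agent.S4952
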