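import Groth.Statements.S3430
import Groth.Agent.DimAffMap.Basic

set_option autoImplicit false
open CategoryTheory AlgebraicGeometry
universe u
open EGA42

namespace Groth.Agent.S3430

/-- Let X be a scheme of finite type over a field k and n a natural number. Then: dim X ≥ n if and only
if there are a dense open subscheme U of X and a surjective k-morphism from U to affine n-space over
k; dim X ≤ n if and only if there are such U and g with g finite; dim X = n if and only if there are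
such U and g with g finite and surjective. -/
theorem result (k : Type u) [Field k] {X : Scheme.{u}}
    (f : X ⟶ Spec (CommRingCat.of k)) [LocallyOfFiniteType f] [QuasiCompact f] (n : ℕ) :
    ((n : WithBot ℕ∞) ≤ topologicalKrullDim (X : Type u) ↔
      ∃ (U : X.Opens) (g : (U : Scheme.{u}) ⟶ 𝔸(ULift.{u} (Fin n); Spec (CommRingCat.of k))),
        Dense (U : Set X) ∧ g ≫ (𝔸(ULift.{u} (Fin n); Spec (CommRingCat.of k)) ↘ Spec (CommRingCat.of k)) = U.ι ≫ f ∧ Function.Surjective g.base) ∧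
    (topologicalKrullDim (X : Type u) ≤ n ↔
      ∃ (U : X.Opens) (g : (U : Scheme.{u}) ⟶ 𝔸(ULift.{u} (Fin n); Spec (CommRingCat.of k))),
        Dense (U : Set X) ∧ g ≫ (𝔸(ULift.{u} (Fin n); Spec (CommRingCat.of k)) ↘ Spec (CommRingCat.of k)) = U.ι ≫ f ∧ IsFinite g) ∧
    (topologicalKrullDim (X : Type u) = n ↔
      ∃ (U : X.Opens) (g : (U : Scheme.{u}) ⟶ 𝔸(ULift.{u} (Fin n); Spec (CommRingCat.of k))),
        Dense (U : Set X) ∧ g ≫ (𝔸(ULift.{u} (Fin n); Spec (CommRingCat.of k)) ↘ Spec (CommRingCat.of k)) = U.ι ≫ f ∧ IsFinite g ∧ Function.Surjective g.base) := by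
  haveI : IsLocallyNoetherian X := LocallyOfFiniteType.isLocallyNoetherian f
  haveI : CompactSpace X := QuasiCompact.compactSpace_of_compactSpace f
  haveI : IsNoetherian X := {}
  obtain ⟨U, hU, hUd⟩ := PiSmooth.exists_dense_isAffineOpen X
  have hdim : ringKrullDim Γ(X, U) = topologicalKrullDim (X : Type u) := by
    rw [← DimAffMap.dim_opens f U hUd, hU.isoSpec.hom.homeomorph.isHomeomorph.topologicalKrullDim_eq]
    exact (PrimeSpectrum.topologicalKrullDim_eq_ringKrullDim Γ(X, U)).symm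
  letI := (WeilLib.secStr f U).toAlgebra
  haveI : Algebra.FiniteType k Γ(X, U) := WeilLib.finiteType_secStr f hU
  obtain ⟨h1, h2⟩ := DimAffMap.exists_noether (k := k) Γ(X, U) n
  rw [hdim] at h1 h2
  have hA := DimAffMap.dim_affineSpace (k := k) n
  have hsurj : ∀ (V : X.Opens) (g : (V : Scheme.{u}) ⟶ 𝔸(ULift.{u} (Fin n); Spec (CommRingCat.of k))),
      Dense (V : Set X) → g ≫ (𝔸(ULift.{u} (Fin n); Spec (CommRingCat.of k)) ↘ Spec (CommRingCat.of k)) = V.ι ≫ f →
      Function.Surjective g.base → (n : WithBot ℕ∞) ≤ topologicalKrullDim (X : Type u) := by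
    intro V g hV hg hs
    rw [← DimAffMap.dim_opens f V hV, ← hA]
    exact DimAffMap.dim_le_of_surjective (V.ι ≫ f) _ g hg hs
  have hfin : ∀ (V : X.Opens) (g : (V : Scheme.{u}) ⟶ 𝔸(ULift.{u} (Fin n); Spec (CommRingCat.of k))),
      Dense (V : Set X) → g ≫ (𝔸(ULift.{u} (Fin n); Spec (CommRingCat.of k)) ↘ Spec (CommRingCat.of k)) = V.ι ≫ f →
      IsFinite g → topologicalKrullDim (X : Type u) ≤ n := by
    intro V g hV hg hf
    rw [← DimAffMap.dim_opens f V hV, ← hA]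
    exact DimAffMap.dim_le_of_finite (V.ι ≫ f) _ g hg
  refine ⟨⟨fun h => ?_, fun ⟨V, g, a, b, c⟩ => hsurj V g a b c⟩, ⟨fun h => ?_, fun ⟨V, g, a, b, c⟩ => hfin V g a b c⟩,
    ⟨fun h => ?_, fun ⟨V, g, a, b, c, d⟩ => le_antisymm (hfin V g a b c) (hsurj V g a b d)⟩⟩
  · obtain ⟨φ, hφ⟩ := h1 h
    obtain ⟨g, hg, -, hs⟩ := DimAffMap.exists_hom f U hU n φ
    exact ⟨U, g, hUd, hg, hs hφ⟩
  · obtain ⟨φ, hφ, -⟩ := h2 h
    obtain ⟨g, hg, hf, -⟩ := DimAffMap.exists_hom f U hU n φ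
    exact ⟨U, g, hUd, hg, hf hφ⟩
  · obtain ⟨φ, hφ, hφs⟩ := h2 h.le
    obtain ⟨g, hg, hf, hs⟩ := DimAffMap.exists_hom f U hU n φ
    exact ⟨U, g, hUd, hg, hf hφ, hs (hφs h)⟩

end Groth.Agent.S3430
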