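import Groth.Statements.S3431
import Groth.Agent.JacLib.Basic

set_option autoImplicit false
universe u
open EGA43

namespace Groth.Agent.S3431

/-- Let A be a Noetherian ring. Then A is a Jacobson ring if and only if there is no prime ideal p of A
such that A/p is semi-local (finitely many maximal ideals) of Krull dimension 1. -/
theorem result (A : Type u) [CommRing A] [IsNoetherianRing A] :
    IsJacobsonRing A ↔
      ∀ (p : Ideal A) [p.IsPrime], ¬ (Finite (MaximalSpectrum (A ⧸ p)) ∧ ringKrullDim (A ⧸ p) = 1) := by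
  rw [PrimeSpectrum.isJacobsonRing_iff_jacobsonSpace]
  constructor
  · intro hX p _ ⟨hfin, hdim⟩
    let R := A ⧸ p
    have hJ : JacobsonSpace (PrimeSpectrum R) :=
      JacobsonSpace.of_isClosedEmbedding
        (PrimeSpectrum.isClosedEmbedding_comap_of_surjective _ (Ideal.Quotient.mk p) Ideal.Quotient.mk_surjective)
    have hfield : IsField R := by
      let b : PrimeSpectrum R := ⟨⊥, Ideal.isPrime_bot⟩
      have hcp : (closedPoints (PrimeSpectrum R)).Finite := by
        refine (Set.finite_range fun M : MaximalSpectrum R => M.toPrimeSpectrum).subset fun x hx => ?_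
        exact ⟨⟨x.asIdeal, (PrimeSpectrum.isClosed_singleton_iff_isMaximal x).mp hx⟩, rfl⟩
      have hclosed : IsClosed (closedPoints (PrimeSpectrum R)) := by
        rw [← Set.biUnion_of_singleton (closedPoints (PrimeSpectrum R))]
        exact hcp.isClosed_biUnion fun x hx => hx
      have hb : b ∈ closedPoints (PrimeSpectrum R) := by
        rw [← hclosed.closure_eq, closure_closedPoints]; trivial
      have hmax := (PrimeSpectrum.isClosed_singleton_iff_isMaximal b).mp hb
      by_contra hnf
      obtain ⟨M, hM0, hM⟩ := Ring.not_isField_iff_exists_prime.mp hnf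
      exact hM0 (hmax.eq_of_le hM.ne_top bot_le).symm
    letI := hfield.toField
    exact zero_ne_one ((ringKrullDim_eq_zero_of_field R).symm.trans hdim)
  · intro h
    rw [jacobsonSpace_iff_locallyClosed]
    intro Z hne hZ
    obtain ⟨U, F, hU, hF, rfl⟩ := hZ
    obtain ⟨z, hz⟩ := hne
    obtain ⟨_, ⟨f, rfl⟩, hzf, hfU⟩ :=
      PrimeSpectrum.isTopologicalBasis_basic_opens.exists_subset_of_mem_open hz.1 hU
    let e := PrimeSpectrum.comap (algebraMap A (Localization.Away f))
    have he := PrimeSpectrum.localization_away_isOpenEmbedding (Localization.Away f) f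
    obtain ⟨z', rfl⟩ : z ∈ Set.range e :=
      (PrimeSpectrum.localization_away_comap_range (Localization.Away f) f).ge hzf
    obtain ⟨q, hq, hqc⟩ := (hF.preimage he.continuous).exists_closed_singleton ⟨z', hz.2⟩
    have hp : IsLocallyClosed ({e q} : Set (PrimeSpectrum A)) := by
      have := hqc.isLocallyClosed.image he.isInducing he.isOpen_range.isLocallyClosed
      rwa [Set.image_singleton] at this
    refine ⟨e q, ⟨hfU ((PrimeSpectrum.localization_away_comap_range (Localization.Away f) f).le ⟨q, rfl⟩), hq⟩, ?_⟩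
    rw [mem_closedPoints_iff, PrimeSpectrum.isClosed_singleton_iff_isMaximal]
    obtain ⟨g, hg, hgh⟩ := JacLib.exists_mem_of_isLocallyClosed _ hp
    obtain ⟨hg', hh'⟩ := JacLib.quotient_hf (e q).asIdeal hg hgh
    by_contra hmax
    refine h (e q).asIdeal ⟨JacLib.finite_maximalSpectrum hg' hh', ?_⟩
    refine le_antisymm ((Ring.krullDimLE_iff).mp (Ring.KrullDimLE.mk₁' fun I hI0 hI =>
      haveI := hI; JacLib.isMaximal_of_ne_bot hg' hh' I hI0)) ?_
    obtain ⟨M, hM, hle⟩ := (e q).asIdeal.exists_le_maximal (e q).2.ne_top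
    have hlt : (e q).asIdeal < M := lt_of_le_of_ne hle fun he' => hmax (he' ▸ hM)
    by_contra h1
    have h0 : ringKrullDim (A ⧸ (e q).asIdeal) ≤ 0 := by
      have h0 : (0 : WithBot ℕ∞) ≤ ringKrullDim (A ⧸ (e q).asIdeal) :=
        ringKrullDim_nonneg_of_nontrivial
      change ¬ ((1 : WithBot ℕ∞) ≤ ringKrullDim (A ⧸ (e q).asIdeal)) at h1
      revert h0 h1
      generalize ringKrullDim (A ⧸ (e q).asIdeal) = d
      induction d using WithBot.recBotCoe with
      | bot => intro _ _; exact bot_le
      | coe n =>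
        intro _ h1
        have : ¬ (1 : ℕ∞) ≤ n := fun h => h1 (by exact_mod_cast h)
        have : n = 0 := ENat.lt_one_iff_eq_zero.mp (not_le.mp this)
        rw [this]; rfl
    haveI : Ring.KrullDimLE 0 (A ⧸ (e q).asIdeal) := Ring.krullDimLE_iff.mpr (by exact_mod_cast h0)
    exact hmax (Ideal.Quotient.maximal_of_isField _ Ring.KrullDimLE.isField_of_isDomain)

end Groth.Agent.S3431
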