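import Groth.Statements.S3432
import Groth.Agent.JacLib.Basic

set_option autoImplicit false
open CategoryTheory AlgebraicGeometry
universe u
open EGA43

namespace Groth.Agent.S3432

/-- Let X be a locally Noetherian scheme and Y a closed subset of X such that every nonempty closed
subset of X meets Y. Then the open subscheme X ∖ Y (equivalently, the subspace X ∖ Y) is a Jacobson
space. -/
theorem result (X : Scheme.{u}) [IsLocallyNoetherian X] (Y : Set X)
    (hY : IsClosed Y) (hmeet : ∀ Z : Set X, IsClosed Z → Z.Nonempty → (Z ∩ Y).Nonempty) :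
    JacobsonSpace ↥(Yᶜ) := by
  rw [jacobsonSpace_iff_locallyClosed]
  intro Z hne hZ
  have hYo : IsOpen (Yᶜ) := hY.isOpen_compl
  have hemb := hYo.isOpenEmbedding_subtypeVal
  obtain ⟨_, ⟨a, haZ, rfl⟩, hx⟩ := JacLib.exists_isLocallyClosed_singleton (X := X)
    (hZ.image hemb.isInducing hemb.isOpen_range.isLocallyClosed) (hne.image _)
  refine ⟨a, haZ, ?_⟩
  rw [mem_closedPoints_iff, ← closure_eq_iff_isClosed]
  refine Set.Subset.antisymm (fun b hb => ?_) subset_closure
  by_contra hba
  have hxz : a.1 ⤳ b.1 := (specializes_iff_mem_closure.mpr hb).map continuous_subtype_val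
  have hc := JacLib.isClosed_singleton_of_specializes hx hxz fun h => hba (Subtype.ext h)
  obtain ⟨w, hw, hwY⟩ := hmeet {b.1} hc (Set.singleton_nonempty _)
  exact b.2 (Set.mem_singleton_iff.mp hw ▸ hwY)

end Groth.Agent.S3432
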