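import Groth.Statements.S3434
import Groth.Agent.DvrDom.Generic

set_option autoImplicit false
open CategoryTheory AlgebraicGeometry
universe u
open EGA43

namespace Groth.Agent.S3434

/-- Let Y be an integral locally Noetherian scheme, X an integral scheme, f : X ⟶ Y separated, dominant
and of finite type, and y a point of Y; write K for the function field of X (the local ring at its
generic point ξ), into which O_{Y,y} maps through O_{Y,f ξ}. Then f is proper over some open
neighbourhood of y if and only if every discrete valuation ring of K which dominates (the image of)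
O_{Y,y} dominates (the image of) O_{X,x} for some point x of X; such an x lies over y. -/
theorem result {X Y : Scheme.{u}} [IsIntegral X] [IsIntegral Y] [IsLocallyNoetherian Y]
    (f : X ⟶ Y) [IsSeparated f] [IsDominant f] [LocallyOfFiniteType f] [QuasiCompact f] (y : Y)
    (hξ : f.base (genericPoint X) ⤳ y) :
    (∃ U : Y.Opens, y ∈ U ∧ IsProper (f ∣_ U)) ↔
      ∀ A : ValuationSubring X.functionField, IsDiscreteValuationRing A →
        (∀ r : Y.presheaf.stalk y, A.valuation ((Y.presheaf.stalkSpecializes hξ ≫ f.stalkMap (genericPoint X)) r) ≤ 1) →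
        (∀ r ∈ IsLocalRing.maximalIdeal (Y.presheaf.stalk y),
            A.valuation ((Y.presheaf.stalkSpecializes hξ ≫ f.stalkMap (genericPoint X)) r) < 1) →
        ∃ x : X, f.base x = y ∧
          (∀ r : X.presheaf.stalk x, A.valuation (X.presheaf.stalkSpecializes (genericPoint_specializes x) r) ≤ 1) ∧
          (∀ r ∈ IsLocalRing.maximalIdeal (X.presheaf.stalk x),
            A.valuation (X.presheaf.stalkSpecializes (genericPoint_specializes x) r) < 1) := by
  constructor
  · rintro ⟨U, hyU, hU⟩ A _ h1 h2
    obtain ⟨V, rfl⟩ : ∃ V : ValuationSubring (X.residueField (genericPoint X)), Groth.Agent.DvrDom.toFF V = A := by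
      let e := RingEquiv.ofBijective (Groth.Agent.DvrDom.ffRes (X := X)) Groth.Agent.DvrDom.ffRes_bijective
      refine ⟨A.comap e.symm.toRingHom, ?_⟩
      ext z
      show e.symm (e z) ∈ A ↔ z ∈ A
      rw [e.symm_apply_apply]
    have hmem : ∀ a, (Groth.Agent.DvrDom.toResidue f (genericPoint X) hξ).hom a ∈ V := fun a ↦
      ((Groth.Agent.DvrDom.toFF V).valuation_le_one_iff _).mp (h1 a)
    have hm := fun a ha ↦ (Groth.Agent.DvrDom.valuation_toFF_lt_one V _).mp (h2 a ha)
    obtain ⟨l, hl, hl'⟩ := Groth.Agent.DvrDom.lifts_of_isProper_restrict f (genericPoint X) hyU hξ V hmem hm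
    obtain ⟨x, hxy, h3, h4⟩ := Groth.Agent.DvrDom.dominated_of_lift f hm hl hl'
    exact ⟨x, hxy, fun r ↦ ((Groth.Agent.DvrDom.toFF V).valuation_le_one_iff _).mpr (h3 r), h4⟩
  · intro H
    refine Groth.Agent.DvrDom.exists_nhd_isProper_of_lifts f y fun x₀ ↦
      Groth.Agent.DvrDom.lifts_of_generic f ?_ x₀
    intro hy V hmem hm
    refine Groth.Agent.DvrDom.exists_lift_of_dvr f (genericPoint X) hy V hmem hm fun W hW hWmem hWm ↦ ?_
    obtain ⟨x, hxy, h3, h4⟩ := H (Groth.Agent.DvrDom.toFF W)
      (Groth.Agent.DvrDom.isDiscreteValuationRing_toFF W)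
      (fun r ↦ ((Groth.Agent.DvrDom.toFF W).valuation_le_one_iff _).mpr (hWmem r))
      (fun r hr ↦ (Groth.Agent.DvrDom.valuation_toFF_lt_one W _).mpr (hWm r hr))
    exact Groth.Agent.DvrDom.lift_of_dominated f hWmem hWm hxy
      (fun r ↦ ((Groth.Agent.DvrDom.toFF W).valuation_le_one_iff _).mp (h3 r)) h4

end Groth.Agent.S3434
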