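import Groth.Statements.S3435
-- import your own Groth.Agent.* helpers here
import Mathlib

set_option autoImplicit false
universe u
open EGA41

namespace Groth.Agent.S3435

open TensorProduct in
/-- Let Λ → A → B → C be ring homomorphisms. The homomorphism Ω_{B/Λ} ⊗_B C → Ω_{B/A} ⊗_B C maps the
imperfection module Υ_{C/B/Λ} (the kernel of Ω_{B/Λ} ⊗_B C → Ω_{C/Λ}) onto the imperfection module
Υ_{C/B/A} (the kernel of Ω_{B/A} ⊗_B C → Ω_{C/A}): every element of Υ_{C/B/A} is the image of some
element of Υ_{C/B/Λ}. -/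
theorem result (Λ A B C : Type u) [CommRing Λ] [CommRing A] [CommRing B] [CommRing C]
    [Algebra Λ A] [Algebra Λ B] [Algebra Λ C] [Algebra A B] [Algebra A C] [Algebra B C]
    [IsScalarTower Λ A B] [IsScalarTower Λ A C] [IsScalarTower Λ B C] [IsScalarTower A B C] :
    ∀ ω ∈ EGA41.imperfection A B C, ∃ η ∈ EGA41.imperfection Λ B C,
      (KaehlerDifferential.map Λ A B B).baseChange C η = ω := by
  open TensorProduct in
  intro ω hω
  let m := KaehlerDifferential.map Λ A B B
  have hm : Function.Surjective (m.baseChange C) :=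
    LinearMap.lTensor_surjective C (KaehlerDifferential.map_surjective Λ A B)
  obtain ⟨η₀, hη₀⟩ := hm ω
  have hsq : ∀ η, KaehlerDifferential.mapBaseChange A B C (m.baseChange C η) =
      KaehlerDifferential.map Λ A C C (KaehlerDifferential.mapBaseChange Λ B C η) := by
    refine LinearMap.congr_fun (f := (KaehlerDifferential.mapBaseChange A B C) ∘ₗ m.baseChange C)
      (g := (KaehlerDifferential.map Λ A C C) ∘ₗ KaehlerDifferential.mapBaseChange Λ B C) ?_
    refine TensorProduct.AlgebraTensorModule.curry_injective (LinearMap.ext_ring ?_)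
    refine Derivation.liftKaehlerDifferential_unique _ _ (Derivation.ext fun b => ?_)
    simp [m]
  have h1 : KaehlerDifferential.map Λ A C C (KaehlerDifferential.mapBaseChange Λ B C η₀) = 0 := by
    rw [← hsq, hη₀]
    exact hω
  obtain ⟨ξ, hξ⟩ := (KaehlerDifferential.exact_mapBaseChange_map Λ A C _).mp h1
  let j : C ⊗[A] Ω[A⁄Λ] →ₗ[C] C ⊗[B] Ω[B⁄Λ] :=
    LinearMap.liftBaseChange C ((TensorProduct.mk B C Ω[B⁄Λ] 1).restrictScalars A ∘ₗ KaehlerDifferential.map Λ Λ A B)
  refine ⟨η₀ - j ξ, ?_, ?_⟩
  · show KaehlerDifferential.mapBaseChange Λ B C (η₀ - j ξ) = 0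
    rw [map_sub, sub_eq_zero, ← hξ]
    refine LinearMap.congr_fun (f := KaehlerDifferential.mapBaseChange Λ A C)
      (g := KaehlerDifferential.mapBaseChange Λ B C ∘ₗ j) ?_ ξ
    refine TensorProduct.AlgebraTensorModule.curry_injective (LinearMap.ext_ring ?_)
    refine Derivation.liftKaehlerDifferential_unique _ _ (Derivation.ext fun a => ?_)
    simp [j, ← IsScalarTower.algebraMap_apply]
  · show m.baseChange C (η₀ - j ξ) = ω
    have h0 : m.baseChange C ∘ₗ j = 0 := by
      refine TensorProduct.AlgebraTensorModule.curry_injective (LinearMap.ext_ring ?_)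
      refine Derivation.liftKaehlerDifferential_unique _ _ (Derivation.ext fun a => ?_)
      simp [j, m]
    rw [map_sub, hη₀, show m.baseChange C (j ξ) = 0 from LinearMap.congr_fun h0 ξ, sub_zero]

end Groth.Agent.S3435
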