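import Groth.Statements.S3441
-- import your own Groth.Agent.* helpers here
import Groth.Agent.EGA41FS.Rel

set_option autoImplicit false
universe u
open EGA41

namespace Groth.Agent.S3441

open TensorProduct in
/-- Let A → B → C be ring homomorphisms. The canonical C-linear map Ω_{B/A} ⊗_B C → Ω_{C/A} is left
invertible (has a C-linear left inverse) if and only if C is a formally smooth B-algebra relative to
A for the discrete topologies: every B-algebra homomorphism from C to a quotient C'/J of a B-algebra
C' by an ideal J of square zero that lifts to C' as an A-algebra homomorphism also lifts to C' as a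
B-algebra homomorphism. (The published definition of relative formal smoothness tests every
nilpotent ideal J; its reduction to ideals of square zero does not carry over to the relative
setting, and the square-zero form, which is what the published proof of this statement uses, is the
one taken here.) -/
theorem result (A B C : Type u) [CommRing A] [CommRing B]
    [CommRing C] [Algebra A B] [Algebra B C] [Algebra A C] [IsScalarTower A B C] :
    (∃ l : Ω[C⁄A] →ₗ[C] C ⊗[B] Ω[B⁄A], l ∘ₗ KaehlerDifferential.mapBaseChange A B C = LinearMap.id) ↔
      EGA41.IsFormallySmoothRel A B C := by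
  constructor
  · rintro ⟨l, hl⟩ C' _ _ _ _ J hJ u₀ ⟨u, hu⟩
    have hu' : ∀ c, Ideal.Quotient.mk J (u c) = u₀ c := fun c => DFunLike.congr_fun hu c
    have hJJ : ∀ x ∈ J, ∀ y ∈ J, x * y = 0 := fun x hx y hy =>
      (Submodule.mem_bot _).mp (hJ ▸ (pow_two J).symm ▸ Ideal.mul_mem_mul hx hy)
    let N := Groth.Agent.EGA41FS.Twist J
    letI iC : Module C N := Module.compHom N u.toRingHom
    letI iB : Module B N := Module.compHom N (u.toRingHom.comp (algebraMap B C))
    letI iA : Module A N := Module.compHom N (algebraMap A C')
    have hsC : ∀ (c : C) (j : N), Groth.Agent.EGA41FS.Twist.val (c • j) = u c * Groth.Agent.EGA41FS.Twist.val j :=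
      fun c j => rfl
    have hsB : ∀ (c : B) (j : N), Groth.Agent.EGA41FS.Twist.val (c • j) =
        u (algebraMap B C c) * Groth.Agent.EGA41FS.Twist.val j := fun c j => rfl
    have hsA : ∀ (c : A) (j : N), Groth.Agent.EGA41FS.Twist.val (c • j) =
        algebraMap A C' c * Groth.Agent.EGA41FS.Twist.val j := fun c j => rfl
    haveI : IsScalarTower B C N := IsScalarTower.of_algebraMap_smul fun c j =>
      Groth.Agent.EGA41FS.Twist.val_injective (by rw [hsC, hsB])
    haveI : IsScalarTower A B N := IsScalarTower.of_algebraMap_smul fun a j =>
      Groth.Agent.EGA41FS.Twist.val_injective (by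
        rw [hsB, hsA, ← IsScalarTower.algebraMap_apply A B C, AlgHom.commutes])
    have hmemd : ∀ b, u (algebraMap B C b) - algebraMap B C' b ∈ J := fun b => Ideal.Quotient.eq.mp <| by
      rw [hu', AlgHom.commutes]; rfl
    let dD : Derivation A B N :=
      { toFun := fun b => Groth.Agent.EGA41FS.Twist.mk _ (hmemd b)
        map_add' := fun x y => Groth.Agent.EGA41FS.Twist.val_injective (by simp [sub_add_sub_comm])
        map_smul' := fun a x => Groth.Agent.EGA41FS.Twist.val_injective <| by
          simp only [RingHom.id_apply, hsA, Groth.Agent.EGA41FS.Twist.val_mk]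
          rw [Algebra.smul_def, map_mul, map_mul, map_mul, ← IsScalarTower.algebraMap_apply A B C,
            ← IsScalarTower.algebraMap_apply A B C', AlgHom.commutes, mul_sub]
        map_one_eq_zero' := Groth.Agent.EGA41FS.Twist.val_injective (by
          show Groth.Agent.EGA41FS.Twist.val (Groth.Agent.EGA41FS.Twist.mk _ (hmemd 1)) = _
          simp)
        leibniz' := fun x y => Groth.Agent.EGA41FS.Twist.val_injective <| by
          show Groth.Agent.EGA41FS.Twist.val (Groth.Agent.EGA41FS.Twist.mk _ (hmemd (x * y))) =
            Groth.Agent.EGA41FS.Twist.val (x • Groth.Agent.EGA41FS.Twist.mk _ (hmemd y) +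
              y • Groth.Agent.EGA41FS.Twist.mk _ (hmemd x))
          have h := hJJ _ (hmemd x) _ (hmemd y)
          simp only [map_add, hsB, Groth.Agent.EGA41FS.Twist.val_mk, map_mul] at h ⊢
          linear_combination -h }
    let ℓ : C ⊗[B] Ω[B⁄A] →ₗ[C] N := dD.liftKaehlerDifferential.liftBaseChange C
    let δ : C → C' := fun c => Groth.Agent.EGA41FS.Twist.val (ℓ (l (KaehlerDifferential.D A C c)))
    have hδJ : ∀ c, δ c ∈ J := fun c => Groth.Agent.EGA41FS.Twist.val_mem _
    have hδadd : ∀ x y, δ (x + y) = δ x + δ y := fun x y => by simp [δ]
    have hδalg : ∀ b, δ (algebraMap B C b) = u (algebraMap B C b) - algebraMap B C' b := fun b => by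
      have h1 := LinearMap.congr_fun hl ((1 : C) ⊗ₜ KaehlerDifferential.D A B b)
      rw [LinearMap.comp_apply, KaehlerDifferential.mapBaseChange_tmul, one_smul, LinearMap.id_apply,
        KaehlerDifferential.map_D] at h1
      simp only [δ, h1, ℓ, LinearMap.liftBaseChange_tmul, one_smul, Derivation.liftKaehlerDifferential_comp_D]
      rfl
    have hδmul : ∀ x y, δ (x * y) = u x * δ y + u y * δ x := fun x y => by
      simp only [δ, Derivation.leibniz, map_add, map_smul, hsC]
    refine ⟨{ toFun := fun c => u c - δ c
              map_one' := ?_
              map_mul' := fun x y => ?_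
              map_zero' := ?_
              map_add' := fun x y => by rw [map_add, hδadd]; ring
              commutes' := fun b => ?_ }, AlgHom.ext fun c => ?_⟩
    · rw [map_one, ← map_one (algebraMap B C), hδalg, map_one, map_one, map_one, sub_self, sub_zero]
    · rw [map_mul, hδmul]
      linear_combination -(hJJ _ (hδJ x) _ (hδJ y))
    · rw [map_zero, ← map_zero (algebraMap B C), hδalg, map_zero, map_zero, map_zero, sub_self, sub_zero]
    · show u (algebraMap B C b) - δ (algebraMap B C b) = algebraMap B C' b
      rw [hδalg, sub_sub_cancel]
    · show Ideal.Quotient.mk J (u c - δ c) = u₀ c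
      rw [map_sub, hu', Ideal.Quotient.eq_zero_iff_mem.mpr (hδJ c), sub_zero]
  · intro h
    let M := C ⊗[B] Ω[B⁄A]
    let φ : B →ₐ[A] TrivSqZeroExt C M :=
      { toFun := fun b => TrivSqZeroExt.inl (algebraMap B C b) +
          TrivSqZeroExt.inr ((1 : C) ⊗ₜ KaehlerDifferential.D A B b)
        map_one' := by simp
        map_zero' := by simp
        map_add' := fun x y => by apply TrivSqZeroExt.ext <;> simp [TensorProduct.tmul_add]
        map_mul' := fun x y => by
          apply TrivSqZeroExt.ext
          · simp
          · simp only [TrivSqZeroExt.snd_add, TrivSqZeroExt.snd_inl, TrivSqZeroExt.snd_inr, zero_add,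
              TrivSqZeroExt.snd_mul, TrivSqZeroExt.fst_add, TrivSqZeroExt.fst_inl, TrivSqZeroExt.fst_inr, add_zero,
              op_smul_eq_smul, Derivation.leibniz, TensorProduct.tmul_add, TensorProduct.tmul_smul, algebraMap_smul]
        commutes' := fun a => by
          apply TrivSqZeroExt.ext
          · simp [TrivSqZeroExt.algebraMap_eq_inl', ← IsScalarTower.algebraMap_apply]
          · simp [TrivSqZeroExt.algebraMap_eq_inl'] }
    letI : Algebra B (TrivSqZeroExt C M) := φ.toRingHom.toAlgebra
    haveI := IsScalarTower.of_algebraMap_eq (R := A) (S := B) (A := TrivSqZeroExt C M) fun a => (φ.commutes a).symm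
    let π : TrivSqZeroExt C M →ₐ[B] C :=
      { TrivSqZeroExt.fstHom A C M with
        commutes' := fun b => by
          show (φ b).fst = algebraMap B C b
          simp [φ] }
    have hπ : Function.Surjective π := fun c => ⟨TrivSqZeroExt.inl c, rfl⟩
    have hJ : RingHom.ker π ^ 2 = ⊥ := by
      rw [pow_two, eq_bot_iff, Ideal.mul_le]
      intro x hx y hy
      have hx1 : x.fst = 0 := RingHom.mem_ker.mp hx
      have hy1 : y.fst = 0 := RingHom.mem_ker.mp hy
      rw [Ideal.mem_bot]
      exact TrivSqZeroExt.ext (by simp [hx1]) (by simp [hx1, hy1])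
    let e := Ideal.quotientKerAlgEquivOfSurjective hπ
    obtain ⟨v, hv⟩ := h (TrivSqZeroExt C M) (RingHom.ker π) hJ e.symm.toAlgHom
      ⟨TrivSqZeroExt.inlAlgHom A C M, AlgHom.ext fun c => e.injective <| by
        show π (TrivSqZeroExt.inl c) = e (e.symm c)
        rw [AlgEquiv.apply_symm_apply]; rfl⟩
    have hfst : ∀ c, (v c).fst = c := fun c => by
      have h1 := congrArg e (DFunLike.congr_fun hv c)
      rw [AlgEquiv.coe_toAlgHom, AlgEquiv.apply_symm_apply] at h1
      exact h1
    let D : Derivation A C M :=
      { toFun := fun x => (v x).snd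
        map_add' := fun x y => by simp
        map_smul' := fun a x => by
          show (v (a • x)).snd = a • (v x).snd
          rw [show a • x = algebraMap B C (algebraMap A B a) * x by
            rw [← IsScalarTower.algebraMap_apply, ← Algebra.smul_def], map_mul, AlgHom.commutes,
            ← IsScalarTower.algebraMap_apply A B (TrivSqZeroExt C M)]
          simp [TrivSqZeroExt.algebraMap_eq_inl']
        map_one_eq_zero' := by
          show (v 1).snd = 0
          simp
        leibniz' := fun x y => by
          show (v (x * y)).snd = x • (v y).snd + y • (v x).snd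
          rw [map_mul, TrivSqZeroExt.snd_mul, hfst, hfst, op_smul_eq_smul] }
    refine ⟨D.liftKaehlerDifferential, LinearMap.ext fun z => ?_⟩
    induction z using TensorProduct.induction_on with
    | zero => simp only [map_zero]
    | add x y hx hy => rw [map_add, hx, hy, map_add]
    | tmul c ω =>
      have hω : ω ∈ Submodule.span B (Set.range (KaehlerDifferential.D A B)) := by
        rw [KaehlerDifferential.span_range_derivation]; trivial
      have key : D.liftKaehlerDifferential (KaehlerDifferential.map A A B C ω) = (1 : C) ⊗ₜ ω := by
        induction hω using Submodule.span_induction with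
        | mem x hx =>
          obtain ⟨b, rfl⟩ := hx
          rw [KaehlerDifferential.map_D, Derivation.liftKaehlerDifferential_comp_D]
          show (v (algebraMap B C b)).snd = _
          rw [AlgHom.commutes]
          show (φ b).snd = _
          simp [φ]
        | zero => simp
        | add x y _ _ hx hy => rw [map_add, map_add, hx, hy, TensorProduct.tmul_add]
        | smul b x _ hx =>
          rw [map_smul, TensorProduct.tmul_smul, ← hx, ← algebraMap_smul C b, ← algebraMap_smul C b, map_smul]
      rw [LinearMap.comp_apply, KaehlerDifferential.mapBaseChange_tmul, map_smul, key, LinearMap.id_apply,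
        TensorProduct.smul_tmul', smul_eq_mul, mul_one]

end Groth.Agent.S3441
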