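import Groth.Statements.S3442
-- import your own Groth.Agent.* helpers here
import Groth.Agent.S3441

set_option autoImplicit false
universe u
open EGA41

namespace Groth.Agent.S3442

open TensorProduct in
/-- Let Λ → A → B → C be ring homomorphisms and suppose B is a formally smooth A-algebra relative to Λ
(for the discrete topologies, tested on ideals of square zero). Then Υ^C_{B/A/Λ} = 0, i.e. the
C-linear map Ω_{A/Λ} ⊗_A C → Ω_{B/Λ} ⊗_B C is injective; it is written here as the base change to C
of the B-linear map Ω_{A/Λ} ⊗_A B → Ω_{B/Λ}, whose source C ⊗_B (B ⊗_A Ω_{A/Λ}) is canonically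
Ω_{A/Λ} ⊗_A C. -/
theorem result (Λ A B C : Type u) [CommRing Λ] [CommRing A]
    [CommRing B] [CommRing C] [Algebra Λ A] [Algebra Λ B] [Algebra A B] [IsScalarTower Λ A B] [Algebra B C]
    (h : EGA41.IsFormallySmoothRel Λ A B) :
    Function.Injective ((KaehlerDifferential.mapBaseChange Λ A B).baseChange C) := by
  obtain ⟨l, hl⟩ := (Groth.Agent.S3441.result Λ A B).mpr h
  intro x y hxy
  have h1 : (l.baseChange C).comp ((KaehlerDifferential.mapBaseChange Λ A B).baseChange C) = LinearMap.id := by
    rw [← LinearMap.baseChange_comp, hl, LinearMap.baseChange_id]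
  rw [← LinearMap.id_apply (R := C) x, ← LinearMap.id_apply (R := C) y, ← h1, LinearMap.comp_apply, LinearMap.comp_apply, hxy]

end Groth.Agent.S3442
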