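import Groth.Statements.S3449
import Groth.Agent.Catenary.Jacobson

set_option autoImplicit false
open CategoryTheory AlgebraicGeometry
universe u
open EGA43

namespace Groth.Agent.S3449

theorem trdeg_residue_comp {X Y Z : Scheme.{u}} (f : X ⟶ Y) (g : Y ⟶ Z) (x : X) :
    @Algebra.trdeg (Z.residueField (g (f x))) (Y.residueField (f x)) _ _ (g.residueFieldMap (f x)).hom.toAlgebra +
      @Algebra.trdeg (Y.residueField (f x)) (X.residueField x) _ _ (f.residueFieldMap x).hom.toAlgebra =
      @Algebra.trdeg (Z.residueField ((f ≫ g) x)) (X.residueField x) _ _ ((f ≫ g).residueFieldMap x).hom.toAlgebra := by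
  letI a1 := (g.residueFieldMap (f x)).hom.toAlgebra
  letI a2 := (f.residueFieldMap x).hom.toAlgebra
  letI a3 : Algebra (Z.residueField (g (f x))) (X.residueField x) := ((f ≫ g).residueFieldMap x).hom.toAlgebra
  haveI : IsScalarTower (Z.residueField (g (f x))) (Y.residueField (f x)) (X.residueField x) :=
    IsScalarTower.of_algebraMap_eq fun r => by
      show ((f ≫ g).residueFieldMap x).hom r = _
      rw [Scheme.residueFieldMap_comp]
      rfl
  exact trdeg_add_eq _ _

/-- Let S be a locally Noetherian scheme which is Jacobson, whose local rings are universally catenary,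
and whose irreducible components S' are equidimensional in the sense that for every closed point s
of S' the dimension of S' equals the dimension of S' at s (the Krull dimension of the set of
generizations of s inside S'). Let X and Y be S-schemes, each locally of finite type over the base
S, and let f : X ⟶ Y be a morphism over S, with X irreducible and f dominant; let η be the generic
point of Y and e the dimension of the fibre over η. Then dim X = dim Y + e. -/
theorem result {X Y S : Scheme.{u}} [IsLocallyNoetherian S]
    [JacobsonSpace S] (h2 : ∀ s : S, CAlg.IsUniversallyCatenary (S.presheaf.stalk s))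
    (h3 : ∀ S' ∈ irreducibleComponents (S : Type u), ∀ s ∈ S', IsClosed ({s} : Set S) →
      topologicalKrullDim (↥S' : Type u) = topologicalKrullDim ↥{t : S | t ∈ S' ∧ t ⤳ s})
    (p : X ⟶ S) (q : Y ⟶ S) [LocallyOfFiniteType p] [LocallyOfFiniteType q] (f : X ⟶ Y) (hf : f ≫ q = p)
    [IrreducibleSpace X] [IrreducibleSpace Y] [IsDominant f] :
    topologicalKrullDim (X : Type u) =
      topologicalKrullDim (Y : Type u) + topologicalKrullDim ↥(f.fiber (genericPoint Y)) := by
  subst hf
  haveI : LocallyOfFiniteType f := locallyOfFiniteType_of_comp f q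
  haveI : IsLocallyNoetherian Y := LocallyOfFiniteType.isLocallyNoetherian q
  haveI : JacobsonSpace X := LocallyOfFiniteType.jacobsonSpace (f ≫ q)
  haveI : JacobsonSpace Y := LocallyOfFiniteType.jacobsonSpace q
  have hS := Groth.Agent.Catenary.closedDim_of_equidim h2 h3
  have hfξ : f (genericPoint X) = genericPoint Y := by
    have h1 := (genericPoint_spec X).image f.continuous
    rw [Set.image_univ, f.denseRange.closure_range] at h1
    exact h1.eq (genericPoint_spec Y)
  obtain ⟨DX, tX, hDX, htX, hX⟩ := Groth.Agent.Catenary.closedDim_lft hS h2 (f ≫ q) (genericPoint X)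
  obtain ⟨DY, tY, hDY, htY, hY⟩ := Groth.Agent.Catenary.closedDim_lft hS h2 q (f (genericPoint X))
  obtain ⟨e, he, hele, hege⟩ := Groth.Agent.DimFormula.exists_trdeg_eq f (genericPoint X)
  have htr := trdeg_residue_comp f q (genericPoint X)
  rw [htY, he, htX] at htr
  have htr' : tY + e = tX := by exact_mod_cast htr
  obtain ⟨s, hs, hσs⟩ := Groth.Agent.Catenary.exists_closedPt (q (f (genericPoint X)))
  obtain rfl : DX = DY := le_antisymm ((hDY s hs hσs).1.le_of_hasGen (hDX s hs hσs).2)
    ((hDX s hs hσs).1.le_of_hasGen (hDY s hs hσs).2)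
  have hdX : topologicalKrullDim (X : Type u) = ((DX + tX : ℕ) : WithBot ℕ∞) := by
    rw [← Groth.Agent.Catenary.dim_closure hX, IsHomeomorph.topologicalKrullDim_eq _
      ((Homeomorph.setCongr (show closure ({genericPoint X} : Set X) = Set.univ from genericPoint_spec X)).trans
        (Homeomorph.Set.univ X)).isHomeomorph]
  have hdY : topologicalKrullDim (Y : Type u) = ((DX + tY : ℕ) : WithBot ℕ∞) := by
    rw [← Groth.Agent.Catenary.dim_closure hY, IsHomeomorph.topologicalKrullDim_eq _
      ((Homeomorph.setCongr (show closure ({f (genericPoint X)} : Set Y) = Set.univ by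
        rw [hfξ]; exact genericPoint_spec Y)).trans (Homeomorph.Set.univ Y)).isHomeomorph]
  have hfib : topologicalKrullDim ↥(f.fiber (genericPoint Y)) = (e : WithBot ℕ∞) := by
    rw [← Groth.Agent.Unibranch.topologicalKrullDim_inter_eq f isClosed_closure.isLocallyClosed
      (f (genericPoint X)) hele hege,
      IsHomeomorph.topologicalKrullDim_eq _ ((f.fiberHomeo (genericPoint Y)).trans
      (Homeomorph.setCongr (show f ⁻¹' {genericPoint Y} = closure {genericPoint X} ∩ f ⁻¹' {f (genericPoint X)} by
        rw [show closure ({genericPoint X} : Set X) = Set.univ from genericPoint_spec X, Set.univ_inter, hfξ]))).isHomeomorph]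
  rw [hdX, hdY, hfib, ← Nat.cast_add]
  exact congrArg (fun k : ℕ => (k : WithBot ℕ∞)) (by omega)

end Groth.Agent.S3449
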