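import Groth.Statements.S3450
import Mathlib
import Groth.Agent.S0568
import Groth.Agent.Hensel.Branches
import Groth.Agent.H4Easy.Batch19
import Groth.Agent.Unibranch.Lifting

set_option autoImplicit false
universe u
open EGA43

namespace Groth.Agent.S3450

/-- A maximal proper prime: nothing strictly between it and the maximal ideal. -/
def DimOne {A : Type u} [CommRing A] [IsLocalRing A] (P : Ideal A) : Prop :=
  P.IsPrime ∧ P ≠ IsLocalRing.maximalIdeal A ∧
    ∀ Q : Ideal A, Q.IsPrime → P < Q → Q = IsLocalRing.maximalIdeal A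

theorem exists_dimOne_not_mem {A : Type u} [CommRing A] [IsLocalRing A] [IsNoetherianRing A]
    [IsReduced A] (hA : ¬ IsField A) {x : A} (hx : x ≠ 0) : ∃ P : Ideal A, DimOne P ∧ x ∉ P := by
  have h0 : x ∉ sInf (minimalPrimes A) := by
    rw [show minimalPrimes A = (⊥ : Ideal A).minimalPrimes from rfl, Ideal.sInf_minimalPrimes,
      show (⊥ : Ideal A).radical = nilradical A from rfl, nilradical_eq_zero]
    exact hx
  rw [Submodule.mem_sInf] at h0
  push Not at h0
  obtain ⟨(q : Ideal A), hq, hxq⟩ := h0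
  haveI : q.IsPrime := hq.1.1
  have hqm : q < IsLocalRing.maximalIdeal A := by
    refine lt_of_le_of_ne (IsLocalRing.le_maximalIdeal Ideal.IsPrime.ne_top') fun e => hA ?_
    have hbot : IsLocalRing.maximalIdeal A = ⊥ := by
      refine le_bot_iff.1 ?_
      rw [← Ideal.zero_eq_bot, ← nilradical_eq_zero A, nilradical_eq_sInf]
      refine le_sInf fun J hJ => ?_
      subst e
      exact hq.2 ⟨hJ, bot_le⟩ (IsLocalRing.le_maximalIdeal hJ.ne_top)
    exact IsLocalRing.isField_iff_maximalIdeal_eq.2 hbot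
  obtain ⟨p, hp, -, hpm, hxp, b, hb⟩ := Unibranch.exists_prime_dim_one hqm hxq
  refine ⟨p, ⟨hp, hpm.ne, fun Q hQ hlt => ?_⟩, hxp⟩
  by_contra hne
  haveI := hp
  haveI := hQ
  exact hlt.ne' (Unibranch.eq_of_lt_of_mem_minimalPrimes hb hlt.le
    (lt_of_le_of_ne (IsLocalRing.le_maximalIdeal hQ.ne_top) hne))

theorem exists_toDVR (A : Type u) [CommRing A] [IsNoetherianRing A] [IsLocalRing A]
    [IsAdicComplete (IsLocalRing.maximalIdeal A) A] (P : Ideal A) (hP : DimOne P) :
    ∃ (V : Type u) (_ : CommRing V) (_ : IsDomain V) (_ : IsDiscreteValuationRing V) (φ : A →+* V),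
      IsLocalHom φ ∧ φ.Finite ∧ RingHom.ker φ = P := by
  obtain ⟨hPp, hPm, hmax⟩ := hP
  haveI := hPp
  haveI : Module.Finite (A ⧸ P) (integralClosure (A ⧸ P) (FractionRing (A ⧸ P))) :=
    (Groth.Agent.S0568.result A).2 P (FractionRing (A ⧸ P)) inferInstance
  let V := integralClosure (A ⧸ P) (FractionRing (A ⧸ P))
  haveI : IsScalarTower A (A ⧸ P) V := IsScalarTower.of_algebraMap_eq fun _ => rfl
  haveI : Module.Finite A V := Module.Finite.trans (A ⧸ P) V
  haveI : Algebra.IsIntegral A V := Algebra.IsIntegral.of_finite A V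
  haveI : HenselianLocalRing A :=
    { is_henselian := fun f hf a₀ h₁ h₂ =>
        HenselianRing.is_henselian f hf a₀ h₁ (h₂.map _) }
  haveI : IsLocalRing V := Hensel.isLocalRing_of_integral_domain A V
  haveI : IsNoetherianRing V := IsNoetherianRing.of_finite A V
  have hinj : Function.Injective (algebraMap (A ⧸ P) V) := fun a b h =>
    IsFractionRing.injective (A ⧸ P) (FractionRing (A ⧸ P)) (congrArg Subtype.val h)
  haveI : IsIntegrallyClosed V :=
    integralClosure.isIntegrallyClosedOfFiniteExtension (FractionRing (A ⧸ P))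
  have hker : RingHom.ker (algebraMap A V) = P := by
    ext a
    rw [RingHom.mem_ker, IsScalarTower.algebraMap_apply A (A ⧸ P) V,
      map_eq_zero_iff _ hinj, Ideal.Quotient.algebraMap_eq, Ideal.Quotient.eq_zero_iff_mem]
  have hbot : ∀ Q : Ideal V, Q.IsPrime → Q ≠ ⊥ → Q.comap (algebraMap A V) = IsLocalRing.maximalIdeal A := by
    intro Q hQ hQb
    refine hmax _ inferInstance (lt_of_le_of_ne ?_ ?_)
    · exact (le_of_eq hker.symm).trans (Ideal.ker_le_comap _)
    · intro e
      refine hQb (Ideal.eq_bot_of_comap_eq_bot (R := A ⧸ P) ?_)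
      ext y
      obtain ⟨a, rfl⟩ := Ideal.Quotient.mk_surjective y
      rw [Ideal.mem_comap, Ideal.mem_bot, Ideal.Quotient.eq_zero_iff_mem, ← Ideal.Quotient.algebraMap_eq,
        ← IsScalarTower.algebraMap_apply]
      conv_rhs => rw [e]
      rfl
  haveI : Ring.DimensionLEOne V := ⟨fun {Q} hQb hQ => by
    haveI := hQ
    refine Ideal.isMaximal_of_isIntegral_of_isMaximal_comap (R := A) Q ?_
    rw [hbot Q hQ hQb]
    infer_instance⟩
  have hnf : ¬ IsField V := fun hf => hPm (by
    haveI : (⊥ : Ideal V).IsMaximal := IsLocalRing.isField_iff_maximalIdeal_eq.1 hf ▸ inferInstance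
    have h2 : ((⊥ : Ideal V).comap (algebraMap A V)).IsMaximal :=
      Ideal.isMaximal_comap_of_isIntegral_of_isMaximal _
    rw [← RingHom.ker_eq_comap_bot, hker] at h2
    exact IsLocalRing.eq_maximalIdeal h2)
  haveI : IsDedekindDomain V := { }
  haveI : IsPrincipalIdealRing V := IsPrincipalIdealRing.of_finite_maximals (by
    refine (Set.finite_singleton (IsLocalRing.maximalIdeal V)).subset fun M hM => ?_
    exact IsLocalRing.eq_maximalIdeal hM)
  haveI : IsDiscreteValuationRing V :=
    { not_a_field' := fun h => hnf (IsLocalRing.isField_iff_maximalIdeal_eq.2 h) }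
  refine ⟨V, inferInstance, inferInstance, inferInstance, algebraMap A V, ?_,
    RingHom.finite_algebraMap.2 inferInstance, hker⟩
  exact ((IsLocalRing.local_hom_TFAE _).out 0 4).2 (IsLocalRing.eq_maximalIdeal
    (Ideal.isMaximal_comap_of_isIntegral_of_isMaximal _))

theorem exists_finset_le_pow (A : Type u) [CommRing A] [IsNoetherianRing A] [IsLocalRing A]
    [IsReduced A] [IsAdicComplete (IsLocalRing.maximalIdeal A) A] (hA : ¬ IsField A) (n : ℕ) :
    ∃ F : Finset (Ideal A), (∀ P ∈ F, DimOne P) ∧ F.inf id ≤ IsLocalRing.maximalIdeal A ^ n := by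
  classical
  set m := IsLocalRing.maximalIdeal A
  have hb : ∀ b : ℕ, ∃ F : Finset (Ideal A), (∀ P ∈ F, DimOne P) ∧
      ∀ P, DimOne P → F.inf id ≤ P ⊔ m ^ b := by
    intro b
    haveI : Ring.KrullDimLE 0 (A ⧸ m ^ b) := Ring.KrullDimLE.mk₀ fun P hP => by
      have h1 : m ^ b ≤ P.comap (Ideal.Quotient.mk (m ^ b)) := fun x hx => by
        simp [Ideal.Quotient.eq_zero_iff_mem.2 hx]
      have h2 : P.comap (Ideal.Quotient.mk (m ^ b)) = m :=
        le_antisymm (IsLocalRing.le_maximalIdeal (Ideal.IsPrime.ne_top inferInstance))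
          (fun x hx => (Ideal.IsPrime.comap (Ideal.Quotient.mk (m ^ b))).mem_of_pow_mem b
            (h1 (Ideal.pow_mem_pow hx b)))
      rw [← Ideal.map_comap_of_surjective _ Ideal.Quotient.mk_surjective P, h2]
      refine Ideal.IsMaximal.map_of_surjective_of_ker_le Ideal.Quotient.mk_surjective ?_
      rw [Ideal.mk_ker]
      exact h1.trans h2.le
    haveI : IsArtinianRing (A ⧸ m ^ b) := IsNoetherianRing.isArtinianRing_of_krullDimLE_zero
    obtain ⟨_, ⟨F, hF, rfl⟩, hmin⟩ := IsArtinian.set_has_minimal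
      {J : Ideal (A ⧸ m ^ b) | ∃ F : Finset (Ideal A), (∀ P ∈ F, DimOne P) ∧
        (F.inf id).map (Ideal.Quotient.mk (m ^ b)) = J} ⟨_, ∅, by simp, rfl⟩
    refine ⟨F, hF, fun P hP => ?_⟩
    have hle : ((insert P F).inf id).map (Ideal.Quotient.mk (m ^ b)) =
        (F.inf id).map (Ideal.Quotient.mk (m ^ b)) := by
      refine eq_of_le_of_not_lt (Ideal.map_mono (Finset.inf_mono (Finset.subset_insert _ _))) ?_
      exact hmin _ ⟨insert P F, by simpa [hP] using hF, rfl⟩
    intro x hx
    have hx' : Ideal.Quotient.mk (m ^ b) x ∈ P.map (Ideal.Quotient.mk (m ^ b)) :=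
      Ideal.map_mono (Finset.inf_le (f := id) (Finset.mem_insert_self P F))
        (hle ▸ Ideal.mem_map_of_mem _ hx)
    rwa [← Ideal.mem_comap, Ideal.comap_map_of_surjective _ Ideal.Quotient.mk_surjective,
      ← RingHom.ker_eq_comap_bot, Ideal.mk_ker] at hx'
  choose F hF hFle using hb
  let G : ℕ → Finset (Ideal A) := fun k => (Finset.range (k + 1)).biUnion F
  have hbot : ⨅ k, (G k).inf id = ⊥ := by
    refine eq_bot_iff.2 fun x hx => ?_
    rw [Submodule.mem_bot]
    by_contra hx0
    obtain ⟨P, hP, hxP⟩ := exists_dimOne_not_mem hA hx0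
    haveI := hP.1
    refine hxP (Ideal.Quotient.eq_zero_iff_mem.1 ?_)
    rw [← Ideal.mem_bot, ← Ideal.iInf_pow_eq_bot_of_isLocalRing
      (m.map (Ideal.Quotient.mk P)) ?_, Submodule.mem_iInf]
    · intro b
      have h1 : x ∈ P ⊔ m ^ b := hFle b P hP
        (SetLike.le_def.1 (Finset.inf_mono (f := id) (Finset.subset_biUnion_of_mem F (Finset.self_mem_range_succ b)))
          ((Submodule.mem_iInf _).1 hx b))
      have h2 := Ideal.mem_map_of_mem (Ideal.Quotient.mk P) h1
      rwa [Ideal.map_sup, Ideal.map_quotient_self, bot_sup_eq, Ideal.map_pow] at h2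
    · intro htop
      have h3 := congrArg (Ideal.comap (Ideal.Quotient.mk P)) htop
      rw [Ideal.comap_map_of_surjective _ Ideal.Quotient.mk_surjective, ← RingHom.ker_eq_comap_bot,
        Ideal.mk_ker, Ideal.comap_top, sup_eq_left.2 (IsLocalRing.le_maximalIdeal hP.1.ne_top)] at h3
      exact Ideal.IsPrime.ne_top' h3
  obtain ⟨N, hN⟩ := H4Easy.adic_chevalley (fun k => (G k).inf id)
    (fun i j hij => Finset.inf_mono (Finset.biUnion_subset_biUnion_of_subset_left F
      (Finset.range_subset_range.2 (by omega)))) hbot n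
  refine ⟨G N, fun P hP => ?_, hN⟩
  obtain ⟨b, -, hb⟩ := Finset.mem_biUnion.1 hP
  exact hF b P hb


/-- Let A be a Noetherian local ring which is reduced, complete (for the topology defined by its maximal
ideal m) and not a field. Then for every n there are finitely many local homomorphisms φ_i : A → V_i
into discrete valuation rings, each making V_i a finite A-algebra, such that the intersection of
their kernels is contained in mⁿ. (Equivalently: such finite intersections form a base of
neighbourhoods of 0 for the m-adic topology.) -/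
theorem result (A : Type u) [CommRing A] [IsNoetherianRing A]
    [IsLocalRing A] [IsReduced A] [IsAdicComplete (IsLocalRing.maximalIdeal A) A] (hA : ¬ IsField A) (n : ℕ) :
    ∃ (k : ℕ) (V : Fin k → Type u) (_ : ∀ i, CommRing (V i)) (_ : ∀ i, IsDomain (V i))
      (_ : ∀ i, IsDiscreteValuationRing (V i)) (φ : ∀ i, A →+* V i),
      (∀ i, IsLocalHom (φ i) ∧ (φ i).Finite) ∧
        ⨅ i, RingHom.ker (φ i) ≤ IsLocalRing.maximalIdeal A ^ n := by
  obtain ⟨F, hF, hle⟩ := exists_finset_le_pow A hA n
  choose V cr dom dvr φ hloc hfin hker using fun P : {P // P ∈ F} => exists_toDVR A P.1 (hF P.1 P.2)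
  refine ⟨F.card, fun i => V (F.equivFin.symm i), fun i => cr _, fun i => dom _, fun i => dvr _,
    fun i => φ _, fun i => ⟨hloc _, hfin _⟩, le_trans ?_ hle⟩
  refine Finset.le_inf fun P hP => ?_
  refine (iInf_le _ (F.equivFin ⟨P, hP⟩)).trans ?_
  simp only [Equiv.symm_apply_apply, hker, id]
  exact le_rfl

end Groth.Agent.S3450
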