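import Groth.Statements.S3456
import Groth.Agent.EquidimPt.Char

set_option autoImplicit false
open CategoryTheory AlgebraicGeometry
universe u
open EGA43

namespace Groth.Agent.S3456

/-- Let Y be locally Noetherian, f : X ⟶ Y locally of finite type and x a point of X; let X_j run over
the (finitely many) irreducible components of X containing x. Then f is equidimensional at x if and
only if there is a natural number e such that for every X_j: the closure Y_j of f(X_j) is an
irreducible component of Y; for every point η of Y whose closure equals Y_j (i.e. the generic point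
of Y_j), the fibre X_j ∩ f⁻¹(η) has topological Krull dimension e; and the local dimension at x of
X_j ∩ f⁻¹(f x) is e. All subsets of X carry the induced topology. -/
theorem result {X Y : Scheme.{u}} [IsLocallyNoetherian Y] (f : X ⟶ Y)
    [LocallyOfFiniteType f] (x : X) :
    EGA43.IsEquidimAt f x ↔
      ∃ e : ℕ, ∀ Xj ∈ irreducibleComponents (X : Type u), ∀ hx : x ∈ Xj,
        closure (f.base '' Xj) ∈ irreducibleComponents (Y : Type u) ∧
        (∀ η : Y, closure ({η} : Set Y) = closure (f.base '' Xj) →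
          topologicalKrullDim ↥(Xj ∩ f.base ⁻¹' {η}) = e) ∧
        FlatMor.localDim ↥(Xj ∩ f.base ⁻¹' {f.base x}) ⟨x, ⟨hx, Set.mem_singleton (f.base x)⟩⟩ = e := by
  haveI : IsLocallyNoetherian X := LocallyOfFiniteType.isLocallyNoetherian f
  open Groth.Agent.Unibranch Groth.Agent.EquidimPt in
  constructor
  · intro h
    obtain ⟨e, U, hxU, hmax, hle, hge⟩ := (isEquidimAt_iff f x).mp h
    refine ⟨e, fun Xj hXj hx => ?_⟩
    obtain ⟨ζ, hζm, rfl⟩ := exists_isMaxPt hXj
    have hζx : ζ ⤳ x := specializes_iff_mem_closure.mpr hx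
    have hζU : ζ ∈ U := hζx.mem_open U.2 hxU
    obtain ⟨hη, hηx⟩ := hmax ζ hζU hζm
    have hch := (hge ζ hζU (isFibMax_of_isMaxPt f hζm)).mono Set.inter_subset_right
    have hle' : ChainsLE f (closure {ζ}) (f ζ) e :=
      chainsLE_of_specializes f hζx hxU ((hle _).mono Set.inter_subset_left)
    refine ⟨by rw [closure_image_closure_singleton]; exact hη.mem_irreducibleComponents,
      fun η hη' => ?_, le_antisymm ?_ ?_⟩
    · rw [closure_image_closure_singleton] at hη'
      obtain rfl := eq_of_closure_eq hη'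
      exact topologicalKrullDim_inter_eq f isClosed_closure.isLocallyClosed _ hle' hch
    · exact (localDim_inter_le_iff f isClosed_closure.isLocallyClosed _).mpr
        ⟨U, hxU, (hle _).mono Set.inter_subset_left⟩
    · exact (natCast_le_localDim_inter_iff f isClosed_closure.isLocallyClosed _).mpr
        fun O hO => hch.of_specializes hζx hO
  · rintro ⟨e, h⟩
    refine isEquidimAt_of_components f x (e := e) (fun ζ hζm hζx => ?_) (fun ζ hζm hζx => ?_) ?_
    · obtain ⟨h1, -, -⟩ := h _ hζm.mem_irreducibleComponents (specializes_iff_mem_closure.mp hζx)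
      obtain ⟨η, hη, hcl⟩ := exists_isMaxPt h1
      rw [closure_image_closure_singleton] at hcl
      rwa [eq_of_closure_eq hcl.symm]
    · obtain ⟨-, h2, -⟩ := h _ hζm.mem_irreducibleComponents (specializes_iff_mem_closure.mp hζx)
      exact (natCast_le_topologicalKrullDim_inter_iff f isClosed_closure.isLocallyClosed _).mp
        (h2 (f ζ) (closure_image_closure_singleton f ζ).symm).ge
    · -- the fibre near `x` is covered by the finitely many components through `x`
      obtain ⟨U₀, hxU₀, hU₀⟩ := exists_opens_maxPt_specializes x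
      obtain ⟨U₁, hxU₁, hfin⟩ := exists_opens_finite_components x
      let M : Set (U₁ : Scheme.{u}) := {ζ | IsMaxPt ζ ∧ U₁.ι ζ ⤳ x}
      have hM : M.Finite := (hfin.preimage (f := fun a : (U₁ : Scheme.{u}) => closure {a})
        fun a _ b _ e => eq_of_closure_eq e).subset fun ζ hζ => hζ.1.mem_irreducibleComponents
      have hO : ∀ ζ : M, ∃ O : X.Opens, x ∈ O ∧
          ChainsLE f ((O : Set X) ∩ closure {U₁.ι ζ.1}) (f x) e := fun ⟨ζ, hζ⟩ => by
        have hm := (isMaxPt_opens_iff U₁ ζ).mp hζ.1
        obtain ⟨-, -, h3⟩ := h _ hm.mem_irreducibleComponents (specializes_iff_mem_closure.mp hζ.2)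
        exact (localDim_inter_le_iff f isClosed_closure.isLocallyClosed _).mp h3.le
      choose O hxO hO using hO
      haveI := hM.to_subtype
      let V : Set X := ((U₀ : Set X) ∩ U₁) ∩ ⋂ ζ : M, (O ζ : Set X)
      have hV : IsOpen V := (U₀.2.inter U₁.2).inter (isOpen_iInter_of_finite fun ζ => (O ζ).2)
      refine ⟨⟨V, hV⟩, ⟨⟨hxU₀, hxU₁⟩, Set.mem_iInter.mpr hxO⟩, fun k c hc hc' => ?_⟩
      obtain ⟨ζ, hζm, hζc⟩ := exists_isMaxPt_specializes (c 0)
      have hζ₁ : ζ ∈ U₁ := hζc.mem_open U₁.2 (hc 0).1.1.2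
      have hζx : ζ ⤳ x := hU₀ ζ (hζc.mem_open U₀.2 (hc 0).1.1.1) hζm
      let ζ' : M := ⟨⟨ζ, hζ₁⟩, (isMaxPt_opens_iff U₁ ⟨ζ, hζ₁⟩).mpr hζm, hζx⟩
      exact hO ζ' k c (fun i => ⟨⟨Set.mem_iInter.mp (hc i).1.2 ζ',
        specializes_iff_mem_closure.mp (hζc.trans (specializes_of_chain c hc' i))⟩, (hc i).2⟩) hc'

end Groth.Agent.S3456
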