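import Groth.Statements.S3458
import Mathlib
import Groth.Agent.Unibranch.SectionBaseChange
import Groth.Agent.S4952
import Groth.Agent.GoingDown.Scheme

set_option autoImplicit false
open CategoryTheory AlgebraicGeometry
universe u
open EGA43

namespace Groth.Agent.S3458

/-- Let Y be locally Noetherian, f : X ⟶ Y locally of finite type, g a section of f, and X⁰_y the
connected component of f⁻¹(y) containing g(y). Suppose that every X⁰_y is geometrically irreducible:
for every field extension K of κ(y), the preimage of X⁰_y in the base change of the fibre X_y to K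
is irreducible. Then for every point y such that z ↦ dim X⁰_z is constant on a neighbourhood of y, f
is universally open at every point of X⁰_y. -/
theorem result {X Y : Scheme.{u}} [IsLocallyNoetherian Y]
    (f : X ⟶ Y) [LocallyOfFiniteType f] (g : Y ⟶ X) (hg : g ≫ f = 𝟙 Y)
    (hgi : ∀ (y : Y) (K : Type u) [Field K] [Algebra (IsLocalRing.ResidueField (Y.presheaf.stalk y)) K],
      IsIrreducible ((FBase.bcπ (f.fiberToSpecResidueField y) K ≫ f.fiberι y).base ⁻¹' (connectedComponentIn (f.base ⁻¹' {y}) (g.base y))))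
    (y : Y)
    (hc : ∃ V ∈ nhds y, ∀ z ∈ V, topologicalKrullDim ↥(connectedComponentIn (f.base ⁻¹' {z}) (g.base z)) = topologicalKrullDim ↥(connectedComponentIn (f.base ⁻¹' {y}) (g.base y))) :
    ∀ x ∈ connectedComponentIn (f.base ⁻¹' {y}) (g.base y), EGA43.IsUnivOpenAt f x := by
  intro x hx
  obtain ⟨V, hV, hVc⟩ := hc
  obtain ⟨O, hOV, hO, hyO⟩ := mem_nhds_iff.mp hV
  have hfx : f.base x = y := connectedComponentIn_subset (f.base ⁻¹' {y}) _ hx
  refine GoingDown.isUnivOpenAt_of_dvrGoingDown x fun A _ _ _ g₀ hg₀ x' hx' hx'c ↦ ?_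
  let f' := Limits.pullback.snd f g₀
  let g' : Spec (CommRingCat.of A) ⟶ Limits.pullback f g₀ :=
    Limits.pullback.lift (g₀ ≫ g) (𝟙 _) (by rw [Category.assoc, hg, Category.comp_id, Category.id_comp])
  have hg' : g' ≫ f' = 𝟙 _ := Limits.pullback.lift_snd _ _ _
  have hge : g' ≫ Limits.pullback.fst f g₀ = g₀ ≫ g := Limits.pullback.lift_fst _ _ _
  have hgi' : Unibranch.GeomIrredComp f g := hgi
  have H := fun t ↦ hgi'.component_baseChange hg (IsPullback.of_hasPullback f g₀) hg' hge t
  let c : ↥(Spec (CommRingCat.of A)) := IsLocalRing.closedPoint A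
  let η : ↥(Spec (CommRingCat.of A)) := ⟨⊥, Ideal.isPrime_bot⟩
  have hηc : η ⤳ c := (PrimeSpectrum.le_iff_specializes η c).mp bot_le
  have hc' : g₀.base c = y := by rw [← hfx]; exact hg₀
  have hgη : f'.base (g'.base η) = η := by
    have : (g' ≫ f').base η = η := by rw [hg']; rfl
    exact this
  have hirrη := (H η).2.1
  have hdims : topologicalKrullDim ↥(connectedComponentIn (f'.base ⁻¹' {c}) (g'.base c)) =
      topologicalKrullDim ↥(connectedComponentIn (f'.base ⁻¹' {η}) (g'.base η)) := by
    rw [(H c).2.2, (H η).2.2, hc', hVc (g₀.base η) (hOV ((hc' ▸ hηc.map g₀.continuous).mem_open hO hyO))]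
  have hsub := (S4952.result f' g' hg' c η hηc ⟨connectedComponentIn (f'.base ⁻¹' {η}) (g'.base η),
    connectedComponentIn_subset _ _, hirrη, fun Z' hZ' hsub hle ↦ hle.antisymm'
      (hZ'.isConnected.isPreconnected.subset_connectedComponentIn (hle (mem_connectedComponentIn hgη)) hsub),
    mem_connectedComponentIn hgη, rfl⟩).2 (H c).2.1 hdims
  obtain ⟨ξ, -, hξη, -, hcl, -⟩ := Unibranch.exists_genericPoint_connectedComponent f' hgη hirrη
  have hx'C : x' ∈ connectedComponentIn (f'.base ⁻¹' {c}) (g'.base c) := by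
    rw [(H c).1, hc']
    exact ⟨hx'c, show (Limits.pullback.fst f g₀).base x' ∈ _ from hx'.symm ▸ hx⟩
  refine ⟨ξ, specializes_iff_mem_closure.mpr ?_, fun h ↦ ?_⟩
  · have h1 := hsub hx'C
    rw [hcl] at h1
    exact closure_minimal Set.inter_subset_left isClosed_closure h1
  · have h2 : η = c := hξη.symm.trans h
    have h3 : (⊥ : Ideal A) = IsLocalRing.maximalIdeal A := congrArg PrimeSpectrum.asIdeal h2
    exact IsDiscreteValuationRing.not_a_field A h3.symm

end Groth.Agent.S3458
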