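import Groth.Statements.S3459
import Groth.Agent.UOFlat.UniqueComponent

set_option autoImplicit false
open CategoryTheory AlgebraicGeometry
universe u
open EGA43

namespace Groth.Agent.S3459

/-- Let Y be an irreducible locally Noetherian scheme with generic point η, f : X ⟶ Y locally of finite
type, x a point of X and y = f x. Suppose (1) x lies on exactly one irreducible component Z of the
fibre X_y, and (2) X_y is geometrically reduced at the generic point of Z. Call an irreducible
component X' of X containing x admissible when the local dimension at x of X' ∩ f⁻¹(y) equals that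
of f⁻¹(y) and the restriction of f to X' (with its reduced structure) is universally open at the
generic points of the irreducible components of X' ∩ f⁻¹(y) containing x. Then there is at most one
admissible X'; and if X' is admissible, the fibre X_η is geometrically reduced at the generic point
of X'. -/
theorem result {X Y : Scheme.{u}} [IrreducibleSpace Y]
    [IsLocallyNoetherian Y] (f : X ⟶ Y) [LocallyOfFiniteType f] (x : X)
    (h1 : ∃! Zc : Set ↥(f.fiber (f.base x)), Zc ∈ irreducibleComponents (↥(f.fiber (f.base x)) : Type u) ∧ f.asFiber x ∈ Zc)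
    (h2 : ∀ z : ↥(f.fiber (f.base x)), f.asFiber x ∈ closure {z} →
      (∀ z' : ↥(f.fiber (f.base x)), z ∈ closure {z'} → z' = z) →
      FBase.IsGeomReducedAt (f.fiberToSpecResidueField (f.base x)) z) :
    letI adm : TopologicalSpace.Closeds X → Prop := fun X' =>
      (X' : Set X) ∈ irreducibleComponents (X : Type u) ∧ ∃ hx : x ∈ X',
        FlatMor.localDim ↥((X' : Set X) ∩ f.base ⁻¹' {f.base x}) ⟨x, ⟨hx, Set.mem_singleton (f.base x)⟩⟩ =
          FlatMor.fibreDimAt f x ∧
        ∀ w : ↥(Scheme.IdealSheafData.vanishingIdeal X').subscheme,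
          f.base ((Scheme.IdealSheafData.vanishingIdeal X').subschemeι.base w) = f.base x →
          x ∈ closure {(Scheme.IdealSheafData.vanishingIdeal X').subschemeι.base w} →
          (∀ t : X, t ∈ (X' : Set X) → f.base t = f.base x →
              (Scheme.IdealSheafData.vanishingIdeal X').subschemeι.base w ∈ closure {t} →
              t = (Scheme.IdealSheafData.vanishingIdeal X').subschemeι.base w) →
          EGA43.IsUnivOpenAt ((Scheme.IdealSheafData.vanishingIdeal X').subschemeι ≫ f) w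
    {X' : TopologicalSpace.Closeds X | adm X'}.Subsingleton ∧
      ∀ X' : TopologicalSpace.Closeds X, adm X' →
        ∀ ζ : ↥(f.fiber (genericPoint Y)), closure {(f.fiberι (genericPoint Y)).base ζ} = (X' : Set X) →
          FBase.IsGeomReducedAt (f.fiberToSpecResidueField (genericPoint Y)) ζ := by
  let y := f.base x
  let ι₀ := f.fiberι y
  haveI : IsLocallyNoetherian X := LocallyOfFiniteType.isLocallyNoetherian f
  -- the generic point of the component of the fibre
  have hmax : ∀ z : ↥(f.fiber y), f.asFiber x ∈ closure {z} → (∀ z' : ↥(f.fiber y), z ∈ closure {z'} → z' = z) →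
      closure {z} ∈ irreducibleComponents (↥(f.fiber y) : Type u) := fun z _ hz =>
    Unibranch.IsMaxPt.mem_irreducibleComponents fun w hw => hz w (specializes_iff_mem_closure.mp hw)
  obtain ⟨Zc, ⟨hZc, hxZc⟩, hZuniq⟩ := h1
  obtain ⟨z₀, hz₀, hz₀Z⟩ := Unibranch.exists_isMaxPt hZc
  have hGR : GeomRedAt.GR f (ι₀ z₀) := by
    have hred := h2 z₀ (hz₀Z.symm ▸ hxZc) fun z' hz' => hz₀ z' (specializes_iff_mem_closure.mpr hz')
    have key : ∀ (b : Y) (q : ↥(f.fiber b)) (x : X), f.fiberι b q = x →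
        FBase.IsGeomReducedAt (f.fiberToSpecResidueField b) q → GeomRedAt.GR f x := by
      intro b q x hqx h
      obtain rfl : f.base x = b := hqx ▸ (f.range_fiberι b).le ⟨q, rfl⟩
      obtain rfl : q = f.asFiber x := (f.fiberι _).isEmbedding.injective
        (hqx.trans (f.fiberι_asFiber x).symm)
      exact (GeomRedAt.isGeomReducedAt_iff _ _).mp h
    exact key _ _ _ rfl hred
  set z := ι₀ z₀ with hzdef
  have hfz : f z = y := (f.range_fiberι y).le ⟨z₀, rfl⟩
  have hzx : z ⤳ x := by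
    have := (specializes_iff_mem_closure.mpr (hz₀Z.symm ▸ hxZc) : z₀ ⤳ f.asFiber x).map ι₀.continuous
    rwa [show ι₀ (f.asFiber x) = x from f.fiberι_asFiber x] at this
  have hzmax : ∀ v, v ⤳ z → f v = y → v = z := fun v hv hfv => by
    obtain ⟨q, rfl⟩ : v ∈ Set.range ι₀ := (f.range_fiberι y).ge hfv
    rw [hz₀ q (ι₀.isEmbedding.isInducing.specializes_iff.mp hv)]
  have honly : ∀ v, v ⤳ x → f v = y → (∀ v', v' ⤳ v → f v' = y → v' = v) → v = z := fun v hv hfv hvmax => by
    obtain ⟨q, rfl⟩ : v ∈ Set.range ι₀ := (f.range_fiberι y).ge hfv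
    have hqx : q ⤳ f.asFiber x := ι₀.isEmbedding.isInducing.specializes_iff.mp (by
      rw [show ι₀ (f.asFiber x) = x from f.fiberι_asFiber x]; exact hv)
    have hqmax : ∀ q', q ∈ closure {q'} → q' = q := fun q' hq' => ι₀.isEmbedding.injective
      (hvmax _ ((specializes_iff_mem_closure.mpr hq').map ι₀.continuous) ((f.range_fiberι y).le ⟨q', rfl⟩))
    have h3 := hZuniq _ ⟨hmax q hqx.mem_closure hqmax, hqx.mem_closure⟩
    rw [hzdef, Unibranch.eq_of_closure_eq (h3.trans hz₀Z.symm)]
  -- data attached to an admissible component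
  have hdata : ∀ X' : TopologicalSpace.Closeds X, (X' : Set X) ∈ irreducibleComponents (X : Type u) → ∀ hx : x ∈ X',
      FlatMor.localDim ↥((X' : Set X) ∩ f.base ⁻¹' {f.base x}) ⟨x, ⟨hx, Set.mem_singleton (f.base x)⟩⟩ =
          FlatMor.fibreDimAt f x →
      (∀ w : ↥(Scheme.IdealSheafData.vanishingIdeal X').subscheme,
          f.base ((Scheme.IdealSheafData.vanishingIdeal X').subschemeι.base w) = f.base x →
          x ∈ closure {(Scheme.IdealSheafData.vanishingIdeal X').subschemeι.base w} →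
          (∀ t : X, t ∈ (X' : Set X) → f.base t = f.base x →
              (Scheme.IdealSheafData.vanishingIdeal X').subschemeι.base w ∈ closure {t} →
              t = (Scheme.IdealSheafData.vanishingIdeal X').subschemeι.base w) →
          EGA43.IsUnivOpenAt ((Scheme.IdealSheafData.vanishingIdeal X').subschemeι ≫ f) w) → ∃ (w : ↥(Scheme.IdealSheafData.vanishingIdeal X').subscheme) (ζ : X),
      (Scheme.IdealSheafData.vanishingIdeal X').subschemeι w = z ∧
      EGA43.IsUnivOpenAt ((Scheme.IdealSheafData.vanishingIdeal X').subschemeι ≫ f) w ∧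
      (∀ t, ζ ⤳ (Scheme.IdealSheafData.vanishingIdeal X').subschemeι t) ∧ ζ ⤳ z ∧
      Unibranch.IsMaxPt ζ ∧ closure {ζ} = (X' : Set X) ∧ f ζ = genericPoint Y := by
    intro X' hX' hx hdim hopen
    let ι := (Scheme.IdealSheafData.vanishingIdeal X').subschemeι
    have hrange : Set.range ι = (X' : Set X) := by
      rw [Scheme.IdealSheafData.range_subschemeι, Scheme.IdealSheafData.coe_support_vanishingIdeal]
    obtain ⟨d, hd⟩ := Unibranch.exists_fibreDimAt_eq f x
    obtain ⟨U, hxU, hU⟩ := (Unibranch.fibreDimAt_le_iff f x).mp hd.le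
    obtain ⟨U', hxU', hU'U, hU'⟩ := Unibranch.exists_opens_maximal f hxU y
    obtain ⟨c, hc, hc'⟩ := (Unibranch.natCast_le_localDim_inter_iff f X'.isClosed.isLocallyClosed
      (show x ∈ (X' : Set X) ∩ f ⁻¹' {y} from ⟨hx, rfl⟩)).mp (hd ▸ hdim.ge) U' hxU'
    obtain ⟨m, hmx, hmc, hfm, hmU, hm⟩ := hU' _ (hc 0).1.1 (hc 0).2
    have hzc : z = c 0 := by
      rw [← honly m hmx hfm fun v' hv' hfv' => hm v' hfv' hv']
      by_contra hne
      have h' := hU (d + 1) (Fin.cons m c) (fun i ↦ ?_) (fun i ↦ ?_)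
      · omega
      · refine Fin.cases ⟨hU'U hmU, hfm⟩ (fun j ↦ ?_) i
        rw [Fin.cons_succ]
        exact ⟨hU'U (hc j).1.1, (hc j).2⟩
      · refine Fin.cases ?_ (fun j ↦ ?_) i
        · rw [Fin.castSucc_zero, Fin.cons_zero, Fin.cons_succ]
          exact ⟨hmc, hne⟩
        · rw [← Fin.succ_castSucc, Fin.cons_succ, Fin.cons_succ]
          exact hc' j
    obtain ⟨w, hw⟩ : z ∈ Set.range ι := hrange.ge (hzc ▸ (hc 0).1.2)
    have hu := hopen w ((congrArg f.base hw).trans hfz)
      (by rw [show ι.base w = z from hw]; exact hzx.mem_closure)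
      (fun t _ hft ht => by
        rw [show ι.base w = z from hw] at ht ⊢
        exact hzmax t (specializes_iff_mem_closure.mpr ht) hft)
    obtain ⟨ζ, hζm, hζ⟩ := Unibranch.exists_isMaxPt hX'
    have hζt : ∀ t, ζ ⤳ ι t := fun t => specializes_iff_mem_closure.mpr (hζ ▸ hrange.le ⟨t, rfl⟩)
    refine ⟨w, ζ, hw, hu, hζt, hw ▸ hζt w, hζm, hζ, ?_⟩
    obtain ⟨q, hq, hfq⟩ := Unibranch.exists_specializes_of_isOpenAt (ι ≫ f) (z := w) (η := genericPoint Y)
      (fun N hN => by
        have hH : IsPullback (Limits.pullback.fst (ι ≫ f) (𝟙 Y)) (Limits.pullback.snd (ι ≫ f) (𝟙 Y)) (ι ≫ f) (𝟙 Y) :=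
          IsPullback.of_hasPullback _ _
        obtain ⟨w', hw'⟩ := (Limits.pullback.fst (ι ≫ f) (𝟙 Y)).surjective w
        have := hu Y (𝟙 Y) w' hw' _ ((Limits.pullback.fst (ι ≫ f) (𝟙 Y)).continuous.continuousAt.preimage_mem_nhds (hw'.symm ▸ hN))
        have e2 : ∀ r, Limits.pullback.snd (ι ≫ f) (𝟙 Y) r = (ι ≫ f) (Limits.pullback.fst (ι ≫ f) (𝟙 Y) r) := fun r => by
          rw [← Scheme.Hom.comp_apply (Limits.pullback.fst (ι ≫ f) (𝟙 Y)), Limits.pullback.condition, Category.comp_id]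
        rw [e2, hw'] at this
        exact Filter.mem_of_superset this (by rintro _ ⟨b, hb, rfl⟩; exact ⟨_, hb, (e2 b).symm⟩))
      (genericPoint_specializes _)
    have h4 : f ζ ⤳ genericPoint Y := by
      rw [← hfq, Scheme.Hom.comp_apply]
      exact (hζt q).map f.continuous
    exact (h4.antisymm (genericPoint_specializes _)).eq
  refine ⟨fun X₁ h₁ X₂ h₂ => SetLike.coe_injective ?_, fun X' hX' ξ hξ => ?_⟩
  · obtain ⟨w₁, ζ₁, hw₁, hu₁, hζ₁, hζ₁z, hm₁, hc₁, hf₁⟩ := hdata X₁ h₁.1 h₁.2.1 h₁.2.2.1 h₁.2.2.2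
    obtain ⟨w₂, ζ₂, hw₂, hu₂, hζ₂, hζ₂z, hm₂, hc₂, hf₂⟩ := hdata X₂ h₂.1 h₂.2.1 h₂.2.2.1 h₂.2.2.2
    suffices ζ₁ = ζ₂ by rw [← hc₁, ← hc₂, this]
    by_cases hne : y = genericPoint Y
    · rw [hzmax ζ₁ hζ₁z (hf₁.trans hne.symm), hzmax ζ₂ hζ₂z (hf₂.trans hne.symm)]
    · obtain ⟨-, h21⟩ := UOFlat.eq_of_isUnivOpenAt f (genericPoint_specializes _) (hfz.symm ▸ hne)
        (fun v hv hfv => hzmax v hv (hfv.trans hfz)) hGR _ _ hw₁ hw₂ hu₁ hu₂ hζ₁ hζ₂ hf₁ hf₂
      exact (hm₁ ζ₂ h21).symm
  · obtain ⟨w, ζ, hw, hu, hζ, hζz, hm, hc, hfζ⟩ := hdata X' hX'.1 hX'.2.1 hX'.2.2.1 hX'.2.2.2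
    obtain ⟨U, hzU, -, hU⟩ := UOFlat.exists_nhd_universallyOpen f z (fun v hv hfv _ => by
      rw [hzmax v hv (hfv.trans hfz), ← hw]; exact UOFlat.isUnivOpenAt_of_comp _ f hu) hGR
    have hg := hU ζ (hζz.mem_open U.2 hzU)
    have key : ∀ (b : Y) (q : ↥(f.fiber b)) (x : X), f.fiberι b q = x → GeomRedAt.GR f x →
        FBase.IsGeomReducedAt (f.fiberToSpecResidueField b) q := by
      intro b q x hqx h
      obtain rfl : f.base x = b := hqx ▸ (f.range_fiberι b).le ⟨q, rfl⟩
      obtain rfl : q = f.asFiber x := (f.fiberι _).isEmbedding.injective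
        (hqx.trans (f.fiberι_asFiber x).symm)
      exact (GeomRedAt.isGeomReducedAt_iff _ _).mpr h
    exact key _ _ ζ (Unibranch.eq_of_closure_eq (hξ.trans hc.symm)) hg

end Groth.Agent.S3459
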