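import Groth.Statements.S3460
-- import your own Groth.Agent.* helpers here

set_option autoImplicit false
open CategoryTheory AlgebraicGeometry
universe u
open EGA43

namespace Groth.Agent.S3460

/-- Let Y be locally Noetherian and f : X ⟶ Y of finite type. Then there exist a scheme Z, a proper
morphism g : X ⟶ Z and an immersion h : Z ⟶ Y with f = g ≫ h if and only if f is proper at every
point of f(X), i.e. every point of f(X) has an open neighbourhood U in Y over which the restriction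
of f is proper. -/
theorem result {X Y : Scheme.{u}} [IsLocallyNoetherian Y]
    (f : X ⟶ Y) [LocallyOfFiniteType f] [QuasiCompact f] :
    (∃ (Z : Scheme.{u}) (g : X ⟶ Z) (h : Z ⟶ Y), IsProper g ∧ IsImmersion h ∧ g ≫ h = f) ↔
      ∀ x : X, ∃ U : Y.Opens, f.base x ∈ U ∧ IsProper (f ∣_ U) := by
  constructor
  · rintro ⟨Z, g, h, hg, hh, rfl⟩ x
    let U : Y.Opens := h.coborderRange
    have hr : ∀ z : Z, h z ∈ U := fun z =>
      subset_coborder (s := Set.range h) ⟨z, rfl⟩
    refine ⟨U, hr (g x), ?_⟩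
    have e : (g ≫ h) ∣_ U = ((g ≫ h) ⁻¹ᵁ U).ι ≫ g ≫ h.liftCoborder := by
      rw [← cancel_mono U.ι, morphismRestrict_ι, Category.assoc, Category.assoc]
      congr 2
      exact (Scheme.Hom.liftCoborder_ι h).symm
    rw [e]
    have : Surjective ((g ≫ h) ⁻¹ᵁ U).ι := ⟨fun y => ⟨⟨y, hr (g y)⟩, rfl⟩⟩
    have : Epi ((g ≫ h) ⁻¹ᵁ U).ι.base := (TopCat.epi_iff_surjective _).2 ((g ≫ h) ⁻¹ᵁ U).ι.surjective
    have : IsIso ((g ≫ h) ⁻¹ᵁ U).ι := IsOpenImmersion.isIso _
    infer_instance
  · intro hf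
    choose U hxU hU using hf
    let W : Y.Opens := ⨆ x, U x
    have hW : Set.range f ⊆ Set.range W.ι := by
      rintro _ ⟨x, rfl⟩
      rw [Scheme.Opens.range_ι]
      exact TopologicalSpace.Opens.mem_iSup.2 ⟨x, hxU x⟩
    let g := IsOpenImmersion.lift W.ι f hW
    have hg : g ≫ W.ι = f := IsOpenImmersion.lift_fac _ _ _
    refine ⟨W, g, W.ι, ?_, inferInstance, hg⟩
    have Hg : IsPullback (𝟙 X) g f W.ι := by
      refine ⟨⟨by rw [Category.id_comp, hg]⟩, ⟨Limits.PullbackCone.IsLimit.mk _ (fun s => s.fst) (fun s => Category.comp_id _)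
        (fun s => ?_) (fun s m h1 _ => ?_)⟩⟩
      · rw [← cancel_mono W.ι, Category.assoc, hg]
        exact s.condition
      · exact (Category.comp_id m).symm.trans h1
    refine IsZariskiLocalAtTarget.of_iSup_eq_top (P := @IsProper) (fun x => W.ι ⁻¹ᵁ U x) ?_ fun x => ?_
    · rw [eq_top_iff]
      intro y _
      obtain ⟨x, hx⟩ := TopologicalSpace.Opens.mem_iSup.1 y.2
      exact TopologicalSpace.Opens.mem_iSup.2 ⟨x, hx⟩
    · let V : W.toScheme.Opens := W.ι ⁻¹ᵁ U x
      have hk : Set.range (V.ι ≫ W.ι) ⊆ Set.range (U x).ι := by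
        rw [Scheme.Opens.range_ι]
        rintro _ ⟨v, rfl⟩
        exact v.2
      let k := IsOpenImmersion.lift (U x).ι (V.ι ≫ W.ι) hk
      have e : k ≫ (U x).ι = V.ι ≫ W.ι := IsOpenImmersion.lift_fac _ _ _
      have H1 := (isPullback_morphismRestrict g V).flip.paste_horiz Hg
      have H2 := (isPullback_morphismRestrict f (U x)).flip
      rw [← e] at H1
      exact MorphismProperty.of_isPullback (IsPullback.of_right
        (h₁₁ := H2.lift ((g ⁻¹ᵁ V).ι ≫ 𝟙 X) (g ∣_ V ≫ k) (by rw [Category.assoc]; exact H1.w))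
        (by rwa [H2.lift_fst]) (H2.lift_snd _ _ _) H2) (hU x)

end Groth.Agent.S3460
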