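import Groth.Statements.S3461
import Groth.Agent.ProperAt.Main
import Groth.Agent.ProperAt.Fibres

set_option autoImplicit false
open CategoryTheory AlgebraicGeometry
universe u
open EGA43
set_option backward.isDefEq.respectTransparency false
set_option linter.style.haveILetI false

namespace Groth.Agent.S3461

open CategoryTheory.Limits in
/-- Let f : X ⟶ Y be separated and of finite presentation. Suppose there is a surjective morphism of
finite presentation g : Y' ⟶ Y which is proper or flat, together with a Y-morphism Y' ⟶ X, and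
suppose every fibre of f is geometrically connected. Then the set U of points y of Y whose fibre X_y
is proper over κ(y) is open in Y, and the restriction of f over U is proper. -/
theorem result {X Y Y' : Scheme.{u}} (f : X ⟶ Y)
    [IsSeparated f] [LocallyOfFinitePresentation f] [QuasiCompact f] [QuasiSeparated f]
    (g : Y' ⟶ Y) [Surjective g] [LocallyOfFinitePresentation g] [QuasiCompact g] [QuasiSeparated g]
    (hg : IsProper g ∨ Flat g) (σ : Y' ⟶ X) (hσ : σ ≫ f = g)
    (hconn : ∀ y : Y, MoreMor.nGeomConnComp f y ≤ 1) :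
    ∃ U : Y.Opens, (U : Set Y) = {y : Y | IsProper (f.fiberToSpecResidueField y)} ∧ IsProper (f ∣_ U) := by
  haveI : Surjective (σ ≫ f) := by rw [hσ]; infer_instance
  haveI : Surjective f := Surjective.of_comp σ f
  have hpre : ∀ y, Groth.Agent.ProperAt.GeomPre f Set.univ y := by
    intro y K _ X' e f' v hsq hv
    refine Groth.Agent.ProperAt.isPreconnected_of_extension f (L := AlgebraicClosure K) hsq ?_
    have hw := (Groth.Agent.GeomFib.nGeom_eq f
      (Spec.map (CommRingCat.ofHom (algebraMap K (AlgebraicClosure K))) ≫ v) y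
      ((congrArg v (Subsingleton.elim _ _)).trans hv)).2
    have hle := hconn y
    rw [hw] at hle
    haveI := (ENat.card_le_one_iff_subsingleton _).mp hle
    rw [Set.preimage_univ]
    haveI : PreconnectedSpace ↥(Limits.pullback f
        (Spec.map (CommRingCat.ofHom (algebraMap K (AlgebraicClosure K))) ≫ v)) :=
      preconnectedSpace_iff_connectedComponent.mpr fun x => Set.eq_univ_of_forall fun z =>
      _root_.ConnectedComponents.coe_eq_coe'.mp (Subsingleton.elim
        (_root_.ConnectedComponents.mk z)
        (_root_.ConnectedComponents.mk x))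
    exact isPreconnected_univ
  have hsub : Groth.Agent.ProperAt.Submersive f Set.univ := by
    rintro X' Y' e f' h hsq E hE ⟨W, hW, hWe⟩
    refine ⟨E, ?_, by rw [Set.image_univ, f.surjective.range_eq, Set.preimage_univ, Set.inter_univ]⟩
    rw [Set.preimage_univ, Set.inter_univ, Set.inter_univ] at hWe
    let g' := Limits.pullback.snd g h
    let s : Limits.pullback g h ⟶ X' := hsq.lift (Limits.pullback.fst g h ≫ σ) g'
      (by rw [Category.assoc, hσ]; exact Limits.pullback.condition)
    have hs : s ≫ f' = g' := hsq.lift_snd _ _ _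
    haveI : Surjective g' := MorphismProperty.pullback_snd _ _ inferInstance
    haveI : LocallyOfFinitePresentation g' := MorphismProperty.pullback_snd _ _ inferInstance
    have hqm : Topology.IsQuotientMap g' := by
      rcases hg with hg | hg
      · haveI : IsProper g' := MorphismProperty.pullback_snd _ _ hg
        exact g'.isClosedMap.isQuotientMap g'.continuous g'.surjective
      · haveI : Flat g' := MorphismProperty.pullback_snd _ _ hg
        exact g'.isOpenMap.isQuotientMap g'.continuous g'.surjective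
    refine hqm.isOpen_preimage.mp ?_
    have hEW : g' ⁻¹' E = s ⁻¹' W := by
      refine Set.ext fun t => ?_
      rw [hWe, Set.mem_preimage, Set.mem_preimage, Set.mem_preimage, ← Scheme.Hom.comp_apply s f', hs]
    rw [hEW]
    exact hW.preimage s.continuous
  have key : ∀ y, IsProper (f.fiberToSpecResidueField y) → ∃ U : Y.Opens, y ∈ U ∧ IsProper (f ∣_ U) := by
    intro y hy
    haveI := hy
    have hfib : ∀ y', Groth.Agent.ProperAt.FibClosed f Set.univ y' ∧ Groth.Agent.ProperAt.FibOpen f Set.univ y' :=
      fun y' => ⟨⟨Set.univ, isClosed_univ, fun _ _ => Iff.rfl⟩, ⟨Set.univ, isOpen_univ, fun _ _ => Iff.rfl⟩⟩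
    have hop : IsOpen ((f.fiberι y).base ⁻¹' (Set.univ : Set X)) := isOpen_univ
    have hprop : IsProper (Scheme.Opens.ι (⟨(f.fiberι y).base ⁻¹' (Set.univ : Set X), hop⟩ : (f.fiber y).Opens) ≫
        f.fiberToSpecResidueField y) := by
      rw [show (⟨(f.fiberι y).base ⁻¹' (Set.univ : Set X), hop⟩ : (f.fiber y).Opens) = ⊤ from rfl,
        ← Scheme.topIso_hom]
      infer_instance
    obtain ⟨U, hyU, hC, hP⟩ := Groth.Agent.ProperAt.exists_proper_nhd f Set.univ
      Topology.IsConstructible.univ.isLocallyConstructible y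
      (fun y' _ => (hfib y').1) (fun y' _ => (hfib y').2)
      (fun y' _ => (f.surjective y').elim fun x hx => ⟨x, trivial, hx⟩) (fun y' _ => hpre y') hsub hop hprop
    refine ⟨U, hyU, ?_⟩
    haveI := hP
    let c := (Scheme.IdealSheafData.vanishingIdeal (X := (f ⁻¹ᵁ U).toScheme)
      (⟨(f ⁻¹ᵁ U).ι.base ⁻¹' (Set.univ : Set X), hC⟩ : TopologicalSpace.Closeds ↥(f ⁻¹ᵁ U))).subschemeι
    haveI : Surjective c := ⟨fun x => by
      have h : x ∈ Set.range c := by
        rw [Scheme.IdealSheafData.range_subschemeι, Scheme.IdealSheafData.coe_support_vanishingIdeal]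
        exact trivial
      exact h⟩
    haveI : UniversallyClosed (c ≫ f ∣_ U) := inferInstanceAs (UniversallyClosed (c ≫ f ∣_ U))
    haveI : UniversallyClosed (f ∣_ U) := UniversallyClosed.of_comp_surjective c (f ∣_ U)
    exact ⟨⟩
  have back : ∀ (U : Y.Opens) (y : Y), y ∈ U → IsProper (f ∣_ U) → IsProper (f.fiberToSpecResidueField y) := by
    intro U y hy hP
    have hr : Set.range (Y.fromSpecResidueField y) ⊆ Set.range U.ι := by
      rw [Scheme.range_fromSpecResidueField, Scheme.Opens.range_ι, Set.singleton_subset_iff]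
      exact hy
    let v₀ := IsOpenImmersion.lift U.ι (Y.fromSpecResidueField y) hr
    have hv₀ : v₀ ≫ U.ι = Y.fromSpecResidueField y := IsOpenImmersion.lift_fac _ _ _
    have sq : IsPullback (f ⁻¹ᵁ U).ι (f ∣_ U) f U.ι := (isPullback_morphismRestrict f U).flip
    have sq₀ : IsPullback (sq.lift (f.fiberι y) (f.fiberToSpecResidueField y ≫ v₀)
        (by rw [Category.assoc, hv₀]; exact Limits.pullback.condition))
        (f.fiberToSpecResidueField y) (f ∣_ U) v₀ :=
      IsPullback.of_right (by rw [sq.lift_fst, hv₀]; exact IsPullback.of_hasPullback _ _) (sq.lift_snd _ _ _) sq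
    exact MorphismProperty.of_isPullback sq₀ hP
  choose V hV hVP using key
  let U : Y.Opens := ⨆ (y : Y) (h : IsProper (f.fiberToSpecResidueField y)), V y h
  refine ⟨U, ?_, ?_⟩
  · refine Set.ext fun y => ⟨fun hy => ?_, fun hy => ?_⟩
    · obtain ⟨z, hz, hyz⟩ : ∃ z hz, y ∈ V z hz := by
        simpa [U] using hy
      exact back _ y hyz (hVP z hz)
    · exact (le_iSup₂ (f := fun z hz => V z hz) y hy) (hV y hy)
  · let ι := {y : Y // IsProper (f.fiberToSpecResidueField y)}
    refine (IsZariskiLocalAtTarget.iff_of_iSup_eq_top (P := @IsProper)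
      (fun i : ι => U.ι ⁻¹ᵁ V i.1 i.2) ?_).mpr fun i => ?_
    · refine eq_top_iff.mpr fun t _ => ?_
      obtain ⟨z, hz, hyz⟩ : ∃ z hz, (t.1 : Y) ∈ V z hz := by
        simpa [U] using t.2
      exact TopologicalSpace.Opens.mem_iSup.mpr ⟨⟨z, hz⟩, hyz⟩
    · rw [MorphismProperty.arrow_mk_iso_iff @IsProper (morphismRestrictRestrict f U (U.ι ⁻¹ᵁ V i.1 i.2))]
      have he : U.ι ''ᵁ (U.ι ⁻¹ᵁ V i.1 i.2) = V i.1 i.2 := by
        refine TopologicalSpace.Opens.ext (Set.ext fun t => ⟨?_, fun ht => ?_⟩)
        · rintro ⟨s, hs, rfl⟩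
          exact hs
        · exact ⟨⟨t, (le_iSup₂ (f := fun z hz => V z hz) i.1 i.2) ht⟩, ht, rfl⟩
      rw [he]
      exact hVP i.1 i.2

end Groth.Agent.S3461
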