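import Groth.Agent.EtAcycX.LocFib

set_option autoImplicit false
universe u
open CategoryTheory CategoryTheory.Limits AlgebraicGeometry Opposite
open EtAcyc

namespace Groth.Agent.S3471

/-- Let g : X → Y be a morphism of schemes, L a set of primes containing at least one prime, n a natural
number. Then g is locally n-acyclic for L if and only if for every point x of X and all strict
henselizations R_Y, R_X of the local rings at g x and x with a compatible local map R_Y → R_X, every
geometric fibre of Spec R_X → Spec R_Y at a separably closed field algebraic over a residue field of
Spec R_Y is an n-acyclic scheme for L. The source does not require L to contain a prime; with L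
empty the left side always holds while the right side asks for connected nonempty fibres, so that
hypothesis is added here. -/
theorem result {X Y : Scheme.{u}} (g : X ⟶ Y)
    (L : Set ℕ) (hL : ∃ ℓ ∈ L, ℓ.Prime) (n : ℕ) :
    EtAcyc.IsLocAcyclicN g L n ↔
      EtAcyc.OnStrictLocalizations g (fun _ _ h => EtAcyc.GeomFibresAcyclicN L n h) := by
  exact ⟨Groth.Agent.EtAcycX.onStrict_fibres_of_isLocAcyclicN g hL,
    Groth.Agent.EtAcycX.isLocAcyclicN_of_fibres g⟩

end Groth.Agent.S3471
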