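import Groth.Statements.S3477
import Groth.Agent.LAcyc.FieldInv

set_option autoImplicit false
universe u
open CategoryTheory CategoryTheory.Limits AlgebraicGeometry Opposite
open EtAcyc

namespace Groth.Agent.S3477

/-- Let K/k be a field extension and L the set of primes different from the characteristic of k. Then
Spec K → Spec k is universally locally acyclic for L (universally locally n-acyclic for every n); if
moreover k and K are separably closed, then Spec K → Spec k is universally n-acyclic for L for every
n. -/
theorem result (k K : Type u) [Field k] [Field K] [Algebra k K] :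
    EtAcyc.IsULocAcyclic (Spec.map (CommRingCat.ofHom (algebraMap k K))) {ℓ | ℓ.Prime ∧ ℓ ≠ ringChar k} ∧
      (IsSepClosed k → IsSepClosed K →
        ∀ n : ℕ, EtAcyc.IsUAcyclicN (Spec.map (CommRingCat.ofHom (algebraMap k K))) {ℓ | ℓ.Prime ∧ ℓ ≠ ringChar k} n) := by
  refine ⟨fun n => LAcyc.isULocAcyclicN_field k K n, fun hk hK n => ?_⟩
  exact @LAcyc.isUAcyclicN_field k K _ hk _ hK _ n

end Groth.Agent.S3477
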