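import Groth.Statements.S3478
import Groth.Agent.LAcyc.FieldInv

set_option autoImplicit false
universe u
open CategoryTheory CategoryTheory.Limits AlgebraicGeometry Opposite
open EtAcyc

namespace Groth.Agent.S3478

/-- Let K/k be an extension of separably closed fields, p the characteristic of k, X a scheme over k,
and F an abelian sheaf on the small etale site of X which is L-torsion for L the set of primes
different from p. Then the pullback map H^q(X, F) → H^q(X_K, F_K) is bijective for every q, where
X_K = X ×_k Spec K. -/
theorem result (k K : Type u) [Field k] [IsSepClosed k] [Field K] [IsSepClosed K]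
    [Algebra k K] {X : Scheme.{u}} (a : X ⟶ Spec (CommRingCat.of k)) (F : EtCoh.Ab X)
    (hF : EtAcyc.IsLTorsion {ℓ | ℓ.Prime ∧ ℓ ≠ ringChar k} F)
    [PreservesFiniteLimits (EtCoh.pull (pullback.fst a (Spec.map (CommRingCat.ofHom (algebraMap k K)))))]
    (q : ℕ) :
    Function.Bijective (EtCore.Hpull (pullback.fst a (Spec.map (CommRingCat.ofHom (algebraMap k K)))) F q) := by
  exact LAcyc.bijective_Hpull_field a F hF q

end Groth.Agent.S3478
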