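import Groth.Statements.S3480
import Groth.Agent.LAcyc.ProperFLCMain
import Groth.Agent.S0184

set_option autoImplicit false
universe u
open CategoryTheory CategoryTheory.Limits AlgebraicGeometry Opposite
open EtAcyc

namespace Groth.Agent.S3480

/-- Let f : X → Y be proper and of finite presentation, L a set of primes, n a natural number, and
suppose f is locally n-acyclic for L. Let F be an abelian L-torsion sheaf on the small etale site of
X which is finite locally constant. Then R^q f_* F is finite locally constant for every q ≤ n. -/
theorem result {X Y : Scheme.{u}} (f : X ⟶ Y) [IsProper f]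
    [LocallyOfFinitePresentation f] (L : Set ℕ) (n : ℕ) (hf : EtAcyc.IsLocAcyclicN f L n)
    (F : EtCoh.Ab X) (hF : EtAcyc.IsLTorsion L F) (hlc : EtCoh.IsFiniteLocallyConstant F) (q : ℕ) (hq : q ≤ n) :
    EtCoh.IsFiniteLocallyConstant ((EtCoh.Rpush f q).obj F) := by
  exact Groth.Agent.LAcyc.isFLC_rpush_locAcyclic (fun {X S} f _ _ _ n hn F hF hFn q => Groth.Agent.S0184.result f n hn F hF hFn q) f L n hf F hF hlc q hq

end Groth.Agent.S3480
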