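import Groth.Agent.EtAcycX.GenPt
import Groth.Prelude.Def_EtAcyc
import Groth.Prelude.Def_EtRestW
import Groth.Prelude.Def_Pi1
import Mathlib.AlgebraicGeometry.FunctionField

set_option backward.isDefEq.respectTransparency false

set_option autoImplicit false
universe u
open CategoryTheory CategoryTheory.Limits AlgebraicGeometry Opposite
open EtAcyc

namespace Groth.Agent.S3481

/-- Abelian case: let Y be a normal integral scheme whose generic point y₁ has separably closed residue
field, f : X → Y a morphism locally n-acyclic for the set of primes L, X₁ = X ×_Y Spec κ(y₁) the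
generic fibre with projection g₁ : X₁ → X, and F a locally constant abelian L-torsion sheaf on the
small étale site of X. Then H^q(X, F) → H^q(X₁, g₁⁻¹F) is bijective for q ≤ n and injective for q =
n + 1. (The published text says bijective for q = n; bijectivity holds for every q ≤ n, which is
what is stated. Exactness of the inverse image along g₁ is carried as an instance hypothesis.) -/
theorem result {X Y : Scheme.{u}} [IsIntegral Y]
    (hY : Pi1.IsNormalScheme Y) [IsSepClosed (Y.residueField (genericPoint Y))]
    (f : X ⟶ Y) (L : Set ℕ) (n : ℕ) (hf : EtAcyc.IsLocAcyclicN f L n)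
    (F : EtCoh.Ab X) (hF : EtAcyc.IsLTorsion L F) (hlc : EtRest.IsLocallyConstant F)
    [PreservesFiniteLimits (EtCoh.pull (pullback.fst f (Y.fromSpecResidueField (genericPoint Y))))] :
    (∀ q : ℕ, q ≤ n →
      Function.Bijective (EtCore.Hpull (pullback.fst f (Y.fromSpecResidueField (genericPoint Y))) F q)) ∧
    Function.Injective (EtCore.Hpull (pullback.fst f (Y.fromSpecResidueField (genericPoint Y))) F (n + 1)) := by
  by_cases hL : ∃ ℓ ∈ L, ℓ.Prime
  · haveI : Finite (Spec (Y.residueField (genericPoint Y))) := inferInstance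
    haveI : QuasiCompact (Y.fromSpecResidueField (genericPoint Y)) := ⟨fun U _ _ => (Set.toFinite _).isCompact⟩
    exact Groth.Agent.EtAcycX.comp_genericFibre hY f hL hf hF hlc
  · have hz := Groth.Agent.EtAcycX.isZero_of_noPrimes hL hF
    have h0 : ∀ q : ℕ, Subsingleton (EtCoh.H X F q) ∧ Subsingleton (EtCoh.H _
        ((EtCoh.pull (pullback.fst f (Y.fromSpecResidueField (genericPoint Y)))).obj F) q) := fun q => by
      constructor
      · exact subsingleton_of_forall_eq 0 fun x => by
          rw [← x.comp_mk₀_id, hz.eq_of_src (𝟙 F) 0, CategoryTheory.Abelian.Ext.mk₀_zero, CategoryTheory.Abelian.Ext.comp_zero]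
      · exact subsingleton_of_forall_eq 0 fun x => by
          rw [← x.comp_mk₀_id, ((EtCoh.pull _).map_isZero hz).eq_of_src (𝟙 _) 0, CategoryTheory.Abelian.Ext.mk₀_zero,
            CategoryTheory.Abelian.Ext.comp_zero]
    exact ⟨fun q _ => ⟨fun a b _ => (h0 q).1.elim a b, fun b => ⟨0, (h0 q).2.elim _ b⟩⟩,
      fun a b _ => (h0 (n + 1)).1.elim a b⟩

end Groth.Agent.S3481
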