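import Groth.Statements.S3483
import Groth.Agent.EtPBC.CdTrdegLower
import Groth.Agent.EtPBC.CdReal

set_option autoImplicit false
universe u
open CategoryTheory CategoryTheory.Limits AlgebraicGeometry Opposite
open EtCd

namespace Groth.Agent.S3483

/-- Let k'/k be a finitely generated field extension of transcendence degree t and ℓ a prime different
from the characteristic of k. If cd_ℓ(k') < cd_ℓ(k) + t, that is, if for some d the cohomology of
ℓ-primary torsion sheaves on Spec k' vanishes above degree d while either d < t or cd_ℓ(k) ≤ d - t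
fails, then ℓ = 2, k admits an ordering making it an ordered field, and k' admits none. -/
theorem result (k k' : Type u) [Field k] [Field k'] [Algebra k k']
    (hfg : ∃ s : Finset k', IntermediateField.adjoin k (s : Set k') = ⊤) (ℓ : ℕ) (hℓ : ℓ.Prime) (hℓk : (ℓ : k) ≠ 0)
    (t : ℕ) (ht : Algebra.trdeg k k' = t)
    (hlt : ∃ d : ℕ, Dix.CohDimLEAt (Spec (CommRingCat.of k')) ℓ d ∧
      (d < t ∨ ¬ Dix.CohDimLEAt (Spec (CommRingCat.of k)) ℓ (d - t))) :
    ℓ = 2 ∧ (∃ _ : LinearOrder k, IsStrictOrderedRing k) ∧ ¬ (∃ _ : LinearOrder k', IsStrictOrderedRing k') := by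
  haveI : Fact ℓ.Prime := ⟨hℓ⟩
  obtain ⟨d, hd, hlt⟩ := hlt
  have hd' := Groth.Agent.EtPBC.kVanOn_of_cohDimLEAt hd
  have key : ¬ (ℓ ≠ 2 ∨ ¬ ∃ _ : LinearOrder k, IsStrictOrderedRing k) := by
    intro hord
    obtain ⟨h1, h2⟩ := Groth.Agent.EtPBC.kVanOn_of_fg_extension ℓ t k k' hfg hℓk hord ht d hd'
    exact hlt.elim (fun h => absurd h1 (by omega)) fun h => h (Groth.Agent.EtPBC.cohDimLEAt_of_kVanOn h2)
  obtain ⟨h2, hord⟩ := not_or.1 key
  have hl : ℓ = 2 := not_not.1 h2
  refine ⟨hl, not_not.1 hord, fun h => ?_⟩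
  subst hl
  exact Groth.Agent.EtPBC.not_kVanOn_two_of_orderable k' h d hd'

end Groth.Agent.S3483
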