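import Groth.Statements.S3484
import Groth.Agent.EtPBC.HensDvrPerfect

set_option autoImplicit false
universe u
open CategoryTheory CategoryTheory.Limits AlgebraicGeometry Opposite
open EtCd

namespace Groth.Agent.S3484

/-- Let R be a henselian discrete valuation ring with fraction field K and residue field k, and ℓ a
prime. Assume either (i) ℓ is nonzero in k, or (ii) ℓ is nonzero in K, k is perfect and cd_ℓ(k) is
finite. Then cd_ℓ(K) = cd_ℓ(k) + 1: for every d, cd_ℓ(k) ≤ d if and only if cd_ℓ(K) ≤ d + 1, and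
cd_ℓ(K) is not ≤ 0 (cd_ℓ meaning vanishing of etale cohomology of ℓ-primary torsion sheaves above
the given degree). -/
theorem result (R K : Type u) [CommRing R] [IsDomain R] [IsDiscreteValuationRing R]
    [HenselianLocalRing R] [Field K] [Algebra R K] [IsFractionRing R K] (ℓ : ℕ) (hℓ : ℓ.Prime)
    (h : (ℓ : IsLocalRing.ResidueField R) ≠ 0 ∨
      ((ℓ : K) ≠ 0 ∧ PerfectField (IsLocalRing.ResidueField R) ∧
        ∃ d : ℕ, Dix.CohDimLEAt (Spec (CommRingCat.of (IsLocalRing.ResidueField R))) ℓ d)) :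
    (∀ d : ℕ, Dix.CohDimLEAt (Spec (CommRingCat.of (IsLocalRing.ResidueField R))) ℓ d ↔
        Dix.CohDimLEAt (Spec (CommRingCat.of K)) ℓ (d + 1)) ∧
      ¬ Dix.CohDimLEAt (Spec (CommRingCat.of K)) ℓ 0 := by
  haveI : Fact ℓ.Prime := ⟨hℓ⟩
  have hneg : ∀ hK0 : (ℓ : K) ≠ 0, ¬ Dix.CohDimLEAt (Spec (CommRingCat.of K)) ℓ 0 := fun hK0 h =>
    EtPBC.not_kVanOn_zero ℓ R K hK0 (EtPBC.kVanOn_of_cohDimLEAt h)
  by_cases hl : (ℓ : IsLocalRing.ResidueField R) = 0
  · obtain ⟨hK0, hperf, -⟩ := h.resolve_left (fun h' => h' hl)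
    haveI := hperf
    refine ⟨fun d => ⟨fun hd => ?_, fun hd => ?_⟩, hneg hK0⟩
    · exact EtPBC.cohDimLEAt_of_kVanOn
        (EtPBC.kVanOn_succ_of_perfect ℓ R K hl hK0 (EtPBC.kVanOn_of_cohDimLEAt hd))
    · refine EtPBC.cohDimLEAt_of_kVanOn ?_
      cases d with
      | zero => exact EtPBC.kVanOn_zero_residueField ℓ R K hl hK0 (EtPBC.kVanOn_of_cohDimLEAt hd)
      | succ d =>
        haveI : CharP (IsLocalRing.ResidueField R) ℓ := (CharP.charP_iff_prime_eq_zero hℓ).2 hl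
        exact (EtPBC.kVanOn_one_of_cdOne ℓ _ (EtPBC.cdOne_of_charP ℓ _)).mono (Nat.succ_le_succ (Nat.zero_le d))
  · have hu : IsUnit (ℓ : R) := by
      rw [← IsLocalRing.notMem_maximalIdeal, ← IsLocalRing.residue_eq_zero_iff, map_natCast]
      exact hl
    have hK0 : (ℓ : K) ≠ 0 := by
      rw [← map_natCast (algebraMap R K)]
      exact (hu.map _).ne_zero
    refine ⟨fun d => ⟨fun hd => ?_, fun hd => ?_⟩, hneg hK0⟩
    · exact EtPBC.cohDimLEAt_of_kVanOn
        ((EtPBC.kVanOn_iff_of_isUnit ℓ R K hu d).1 (EtPBC.kVanOn_of_cohDimLEAt hd))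
    · exact EtPBC.cohDimLEAt_of_kVanOn
        ((EtPBC.kVanOn_iff_of_isUnit ℓ R K hu d).2 (EtPBC.kVanOn_of_cohDimLEAt hd))

end Groth.Agent.S3484
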