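import Groth.Statements.S7138
import Groth.Agent.KrasnerLift.Main

set_option autoImplicit false
universe u
open EtAlg

namespace Groth.Agent.S7138

open Polynomial in
/-- Approximating an element of the completion by an element of the ring. -/
theorem exists_approx {A : Type u} [CommRing A] (I : Ideal A) (hI : I.FG) (N : ℕ)
    (x : AdicCompletion I A) :
    ∃ a : A, x - algebraMap A (AdicCompletion I A) a ∈
      (I ^ N).map (algebraMap A (AdicCompletion I A)) := by
  obtain ⟨a, ha⟩ := Submodule.Quotient.mk_surjective _ (x.val N)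
  refine ⟨a, ?_⟩
  rw [← Submodule.restrictScalars_mem A, ← Ideal.smul_top_eq_map,
    AdicCompletion.pow_smul_top_eq_ker_eval hI, LinearMap.mem_ker, map_sub, AdicCompletion.algebraMap_apply]
  simp only [AdicCompletion.eval_apply, sub_eq_zero]
  exact ha.symm

open Polynomial in
/-- Clearing the denominators of a polynomial over the fraction field. -/
theorem exists_scaled {B : Type u} [CommRing B] [IsDomain B] (F : Type u) [Field F] [Algebra B F]
    [IsFractionRing B F] (p : F[X]) :
    ∃ (c : B) (p₀ : B[X]), c ≠ 0 ∧ p₀.map (algebraMap B F) = C (algebraMap B F c) * p := by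
  obtain ⟨b, hb⟩ := IsLocalization.integerNormalization_map_to_map (nonZeroDivisors B) p
  exact ⟨b, _, nonZeroDivisors.coe_ne_zero b, by rw [hb, ← smul_eq_C_mul, algebraMap_smul]⟩

open TensorProduct Polynomial in
/-- Let A be a discrete valuation ring, K its field of fractions, A^ its completion and K^ the fraction
field of A^. Every finite separable extension M of K^ arises by base change: M ≅ K^ ⊗_K L as
K^-algebras for some finite separable extension L/K. -/
theorem result (A K : Type u) [CommRing A] [IsDomain A]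
    [IsDiscreteValuationRing A] [Field K] [Algebra A K] [IsFractionRing A K]
    (Kh : Type u) [Field Kh] [Algebra (AdicCompletion (IsLocalRing.maximalIdeal A) A) Kh]
    [IsFractionRing (AdicCompletion (IsLocalRing.maximalIdeal A) A) Kh] [Algebra A Kh] [Algebra K Kh]
    [IsScalarTower A (AdicCompletion (IsLocalRing.maximalIdeal A) A) Kh] [IsScalarTower A K Kh]
    (M : Type u) [Field M] [Algebra Kh M] [FiniteDimensional Kh M] [Algebra.IsSeparable Kh M] :
    ∃ (L : Type u) (_ : Field L) (_ : Algebra K L), FiniteDimensional K L ∧ Algebra.IsSeparable K L ∧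
      Nonempty ((Kh ⊗[K] L) ≃ₐ[Kh] M) := by
  classical
  let m := IsLocalRing.maximalIdeal A
  let B := AdicCompletion m A
  obtain ⟨_, _⟩ := (Groth.Agent.S0549.result A).1 ⟨inferInstance, inferInstance⟩
  obtain ⟨π, hπ⟩ := IsDiscreteValuationRing.exists_irreducible A
  let t : B := algebraMap A B π
  have hmap : m.map (algebraMap A B) = Ideal.span {t} :=
    (congr_arg (Ideal.map (algebraMap A B)) hπ.maximalIdeal_eq).trans
      (by rw [Ideal.map_span, Set.image_singleton])
  have hBm : IsLocalRing.maximalIdeal B = Ideal.span {t} := by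
    rw [AdicCompletion.maximalIdeal_eq_map]; exact hmap
  haveI : IsAdicComplete (Ideal.span {t}) B := hBm ▸
    (inferInstance : IsAdicComplete (IsLocalRing.maximalIdeal B) B)
  have ht : Irreducible t := (IsDiscreteValuationRing.irreducible_iff_uniformizer t).2 hBm
  letI : Algebra B M := ((algebraMap Kh M).comp (algebraMap B Kh)).toAlgebra
  haveI : IsScalarTower B Kh M := IsScalarTower.of_algebraMap_eq' rfl
  -- an integral primitive element
  obtain ⟨β, hβ⟩ := Field.exists_primitive_element Kh M
  obtain ⟨c₀, hc₀⟩ := IsIntegral.exists_multiple_integral_of_isLocalization (nonZeroDivisors B) β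
    (IsIntegral.of_finite Kh β)
  set α : M := c₀ • β with hαdef
  have hαK : IsIntegral Kh α := IsIntegral.of_finite Kh α
  have hα : IntermediateField.adjoin Kh ({α} : Set M) = ⊤ := by
    rw [eq_top_iff, ← hβ, IntermediateField.adjoin_simple_le_iff]
    have hc : (algebraMap B Kh (c₀ : B)) ≠ 0 :=
      IsFractionRing.to_map_ne_zero_of_mem_nonZeroDivisors c₀.2
    have hb : β = (algebraMap B Kh (c₀ : B))⁻¹ • α := by
      rw [hαdef, Submonoid.smul_def, ← algebraMap_smul Kh (c₀ : B) β, inv_smul_smul₀ hc]
    rw [hb]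
    exact IntermediateField.smul_mem _ (IntermediateField.mem_adjoin_simple_self Kh α)
  set n := Module.finrank Kh M
  have hdeg : ∀ z : M, IntermediateField.adjoin Kh ({z} : Set M) = ⊤ → (minpoly Kh z).natDegree = n :=
    fun z hz => by
      rw [← IntermediateField.adjoin.finrank (IsIntegral.of_finite Kh z), hz, IntermediateField.finrank_top']
  set f : B[X] := minpoly B α with hfdef
  have hfK : minpoly Kh α = f.map (algebraMap B Kh) :=
    minpoly.isIntegrallyClosed_eq_field_fractions' Kh hc₀
  have hf : f.Monic := minpoly.monic hc₀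
  have hfn : f.natDegree = n := by
    rw [← hdeg α hα, hfK, hf.natDegree_map]
  -- a Bezout identity over `B`
  obtain ⟨a', b', hab⟩ : IsCoprime (f.map (algebraMap B Kh)) (derivative (f.map (algebraMap B Kh))) := by
    rw [← hfK]; exact Algebra.IsSeparable.isSeparable Kh α
  obtain ⟨ca, a₀, hca, ha₀⟩ := exists_scaled (B := B) Kh a'
  obtain ⟨cb, b₀, hcb, hb₀⟩ := exists_scaled (B := B) Kh b'
  obtain ⟨j, u, hju⟩ := IsDiscreteValuationRing.eq_unit_mul_pow_irreducible (mul_ne_zero hca hcb) ht
  let a : B[X] := C ((↑u⁻¹ : B) * cb) * a₀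
  let b : B[X] := C ((↑u⁻¹ : B) * ca) * b₀
  have hbez : a * f + b * derivative f = C (t ^ j) := by
    apply Polynomial.map_injective _ (IsFractionRing.injective B Kh)
    have h1 : t ^ j = (↑u⁻¹ : B) * (ca * cb) := by rw [hju, Units.inv_mul_cancel_left]
    simp only [a, b, h1, Polynomial.map_add, Polynomial.map_mul, Polynomial.map_C, ha₀, hb₀, map_mul,
      ← derivative_map]
    linear_combination (C (algebraMap B Kh (↑u⁻¹ : B)) * C (algebraMap B Kh ca) *
      C (algebraMap B Kh cb)) * hab
  -- approximating `f` over `A`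
  let N := 2 * j + 2
  let q := Ideal.Quotient.mk (Ideal.span {t ^ N})
  haveI : Nontrivial (B ⧸ Ideal.span {t ^ N}) := Ideal.Quotient.nontrivial_iff.2 (by
    rw [Ne, Ideal.span_singleton_eq_top, isUnit_pow_iff (by omega)]
    exact ht.not_isUnit)
  obtain ⟨g₀, hg₀, hg₀d, hg₀m⟩ : ∃ g₀ : A[X], g₀.map (q.comp (algebraMap A B)) = f.map q ∧
      g₀.degree = (f.map q).degree ∧ g₀.Monic := by
    refine Polynomial.lifts_and_degree_eq_and_monic ?_ (hf.map q)
    rw [Polynomial.lifts_iff_coeff_lifts]
    intro i
    obtain ⟨c, hc⟩ := exists_approx m (IsNoetherian.noetherian m) N (f.coeff i)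
    refine ⟨c, ?_⟩
    rw [coeff_map, RingHom.comp_apply, Eq.comm, ← sub_eq_zero, ← map_sub, Ideal.Quotient.eq_zero_iff_mem]
    rwa [Ideal.map_pow, hmap, Ideal.span_singleton_pow] at hc
  set g := g₀.map (algebraMap A B) with hgdef
  have hg : g.Monic := hg₀m.map _
  have hgn : g.natDegree = n := by
    rw [hgdef, hg₀m.natDegree_map, natDegree_eq_of_degree_eq hg₀d, hf.natDegree_map, hfn]
  obtain ⟨e, he⟩ : C (t ^ N) ∣ g - f := by
    rw [C_dvd_iff_dvd_coeff]
    intro i
    rw [← Ideal.mem_span_singleton, ← Ideal.Quotient.eq_zero_iff_mem, coeff_sub, map_sub, sub_eq_zero]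
    have h := congr_arg (fun p => coeff p i) hg₀
    simp only [← Polynomial.map_map, coeff_map] at h
    rw [hgdef, coeff_map]
    exact h
  have hgf : g = f + C (t ^ N) * e := by linear_combination he
  have hfα : aeval α f = 0 := minpoly.aeval B α
  have hbz : ∀ z : M, aeval z a * aeval z f + aeval z b * aeval z (derivative f) =
      algebraMap B M t ^ j := fun z => by
    simpa only [map_add, map_mul, map_pow, aeval_C] using congr_arg (aeval z) hbez
  -- a root of `g` near `α`
  obtain ⟨x, hxα, hx⟩ := KrasnerLift.exists_root_adjoin t α hc₀ g b (C t * e)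
    (C (t ^ (j + 1)) * b * derivative e) (t ^ j) (by
      have h := hbz α
      rw [hfα] at h
      rw [hgf, derivative_add, derivative_C_mul]
      simp only [map_add, map_mul, aeval_C, map_pow, N]
      linear_combination h) (by
      simp only [hgf, map_add, map_mul, aeval_C, map_pow, hfα, N]
      ring)
  have hxB : IsIntegral B x := ⟨g, hg, hx⟩
  -- a root of `f` near `x`
  obtain ⟨y, hyx, hy⟩ := KrasnerLift.exists_root_adjoin t x hxB f b (C (-t) * e)
    (C (t ^ (j + 1)) * a * e) (t ^ j) (by
      have h := hbz x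
      have h0 : aeval x f = -(algebraMap B M t ^ N * aeval x e) := by
        rw [hgf, map_add, map_mul, aeval_C, map_pow] at hx
        linear_combination hx
      rw [h0] at h
      simp only [map_mul, aeval_C, map_pow, N] at h ⊢
      linear_combination h) (by
      rw [hgf, map_add, map_mul, aeval_C, map_pow] at hx
      simp only [map_mul, aeval_C, map_pow, N] at hx ⊢
      rw [map_neg]
      linear_combination hx)
  have hfirr : Irreducible (f.map (algebraMap B Kh)) := hfK ▸ minpoly.irreducible hαK
  have hyK : minpoly Kh y = f.map (algebraMap B Kh) :=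
    (minpoly.eq_of_irreducible_of_monic hfirr (by rwa [aeval_map_algebraMap]) (hf.map _)).symm
  have hxtop : IntermediateField.adjoin Kh ({x} : Set M) = ⊤ := by
    have hytop : IntermediateField.adjoin Kh ({y} : Set M) = ⊤ := by
      refine IntermediateField.eq_of_le_of_finrank_eq le_top ?_
      rw [IntermediateField.finrank_top', IntermediateField.adjoin.finrank (IsIntegral.of_finite Kh y),
        hyK, hf.natDegree_map, hfn]
    rw [eq_top_iff, ← hytop, IntermediateField.adjoin_simple_le_iff]
    have hle : Algebra.adjoin B ({x} : Set M) ≤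
        (IntermediateField.adjoin Kh ({x} : Set M)).toSubalgebra.restrictScalars B :=
      Algebra.adjoin_le (Set.singleton_subset_iff.2 (IntermediateField.mem_adjoin_simple_self Kh x))
    exact hle hyx
  set gK : K[X] := g₀.map (algebraMap A K) with hgKdef
  have hgKh : gK.map (algebraMap K Kh) = g.map (algebraMap B Kh) := by
    rw [hgKdef, hgdef, Polynomial.map_map, Polynomial.map_map, ← IsScalarTower.algebraMap_eq,
      ← IsScalarTower.algebraMap_eq]
  have hmin : minpoly Kh x = gK.map (algebraMap K Kh) := by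
    refine (eq_of_monic_of_dvd_of_natDegree_le (minpoly.monic (IsIntegral.of_finite Kh x))
      (by rw [hgKh]; exact hg.map _) (minpoly.dvd Kh x (by rwa [hgKh, aeval_map_algebraMap])) ?_).symm
    rw [hdeg x hxtop, hgKh, hg.natDegree_map, hgn]
  have hgKm : gK.Monic := hg₀m.map _
  haveI : Fact (Irreducible gK) := ⟨hgKm.irreducible_of_irreducible_map (algebraMap K Kh) gK
    (hmin ▸ minpoly.irreducible (IsIntegral.of_finite Kh x))⟩
  have hgKsep : gK.Separable := (Polynomial.separable_map (algebraMap K Kh)).1
    (hmin ▸ Algebra.IsSeparable.isSeparable Kh x)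
  haveI : FiniteDimensional K (AdjoinRoot gK) := (AdjoinRoot.powerBasis hgKm.ne_zero).finite
  refine ⟨AdjoinRoot gK, inferInstance, inferInstance, inferInstance, ?_, ?_⟩
  · have hrsep : IsSeparable K (AdjoinRoot.root gK) := by
      rw [IsSeparable, AdjoinRoot.minpoly_root hgKm.ne_zero, hgKm.leadingCoeff, inv_one, C_1, mul_one]
      exact hgKsep
    have hr : ∀ z, z ∈ IntermediateField.adjoin K ({AdjoinRoot.root gK} : Set (AdjoinRoot gK)) :=
      fun z => IntermediateField.algebra_adjoin_le_adjoin _ _
        (by rw [AdjoinRoot.adjoinRoot_eq_top]; exact Algebra.mem_top)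
    haveI := (IntermediateField.isSeparable_adjoin_simple_iff_isSeparable K (AdjoinRoot gK)).2 hrsep
    refine ⟨fun z => ?_⟩
    have h := Algebra.IsSeparable.isSeparable K
      (⟨z, hr z⟩ : IntermediateField.adjoin K ({AdjoinRoot.root gK} : Set (AdjoinRoot gK)))
    rwa [IsSeparable, ← minpoly.algHom_eq (IntermediateField.val _) Subtype.val_injective] at h
  letI : Algebra K M := ((algebraMap Kh M).comp (algebraMap K Kh)).toAlgebra
  haveI : IsScalarTower K Kh M := IsScalarTower.of_algebraMap_eq' rfl
  have hx0 : gK.eval₂ (Algebra.ofId K M) x = 0 := by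
    have h := minpoly.aeval Kh x
    rwa [hmin, aeval_map_algebraMap] at h
  let ψ : AdjoinRoot gK →ₐ[K] M := AdjoinRoot.liftAlgHom gK (Algebra.ofId K M) x hx0
  let Φ : Kh ⊗[K] AdjoinRoot gK →ₐ[Kh] M :=
    Algebra.TensorProduct.lift (Algebra.ofId Kh M) ψ (fun _ _ => Commute.all _ _)
  have hΦ : Function.Surjective Φ := by
    rw [← AlgHom.range_eq_top, eq_top_iff, ← IntermediateField.top_toSubalgebra, ← hxtop,
      IntermediateField.adjoin_simple_toSubalgebra_of_isAlgebraic (Algebra.IsAlgebraic.isAlgebraic x),
      Algebra.adjoin_le_iff, Set.singleton_subset_iff]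
    exact ⟨1 ⊗ₜ AdjoinRoot.root gK, by simp [Φ, ψ]⟩
  have hfr : Module.finrank Kh (Kh ⊗[K] AdjoinRoot gK) = Module.finrank Kh M := by
    rw [Module.finrank_baseChange, (AdjoinRoot.powerBasis hgKm.ne_zero).finrank, AdjoinRoot.powerBasis_dim,
      hgKdef, hg₀m.natDegree_map, ← hg₀m.natDegree_map (algebraMap A B), ← hgdef, hgn]
  exact ⟨AlgEquiv.ofBijective Φ ⟨(LinearMap.injective_iff_surjective_of_finrank_eq_finrank hfr
    (f := Φ.toLinearMap)).2 hΦ, hΦ⟩⟩

end Groth.Agent.S7138
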