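import Groth.Statements.S3485
import Groth.Agent.HensComplete.Main
import Groth.Agent.S7138
import Groth.Agent.S0549

set_option autoImplicit false
universe u
open CategoryTheory CategoryTheory.Limits AlgebraicGeometry Opposite
open EtCd

namespace Groth.Agent.S3485

/-- Let R be a henselian discrete valuation ring with fraction field K, let R^ be its completion (adic
completion at the maximal ideal) and K^ the fraction field of R^. Then base change along Spec K^ →
Spec K is an equivalence from the category of finite etale schemes over Spec K to that over Spec K^
(equivalently the absolute Galois groups agree). -/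
theorem result (R K Khat : Type u) [CommRing R] [IsDomain R]
    [IsDiscreteValuationRing R] [HenselianLocalRing R] [Field K] [Algebra R K] [IsFractionRing R K]
    [Field Khat] [Algebra (AdicCompletion (IsLocalRing.maximalIdeal R) R) Khat]
    [IsFractionRing (AdicCompletion (IsLocalRing.maximalIdeal R) R) Khat]
    [Algebra R Khat] [IsScalarTower R (AdicCompletion (IsLocalRing.maximalIdeal R) R) Khat]
    [Algebra K Khat] [IsScalarTower R K Khat] :
    (FEt.restrict (Spec.map (CommRingCat.ofHom (algebraMap K Khat)))).IsEquivalence := by
  let Rh := AdicCompletion (IsLocalRing.maximalIdeal R) R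
  obtain ⟨hdom, hdvr⟩ := (Groth.Agent.S0549.result R).1 ⟨inferInstance, inferInstance⟩
  haveI := hdom
  haveI := hdvr
  refine HensComplete.isEquivalence_restrict K Khat (fun L _ _ _ _ => ?_) (fun M _ _ _ _ => ?_)
  · refine HensComplete.isField_baseChange R K Rh Khat AdicCompletion.maximalIdeal_eq_map (fun y => ?_) L
    obtain ⟨a, ha⟩ := S7138.exists_approx (IsLocalRing.maximalIdeal R) (IsNoetherian.noetherian _) 1 y
    refine ⟨a, ?_⟩
    rw [AdicCompletion.maximalIdeal_eq_map]
    simpa using ha
  · exact S7138.result R K Khat M

end Groth.Agent.S3485
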