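import Groth.Statements.S3486
import Groth.Agent.EtPBC.CdDimOne

set_option autoImplicit false
universe u
open CategoryTheory CategoryTheory.Limits AlgebraicGeometry Opposite
open EtCd

namespace Groth.Agent.S3486

/-- Let A be a Noetherian henselian local ring of dimension 1 with residue field k, and ℓ a prime
invertible in A. The ring of rational functions of Spec A is the product of the local rings at the
minimal primes P, whose ℓ-cohomological dimension is that of the fields Frac(A/P); the result: for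
every minimal prime P, cd_ℓ(Frac(A/P)) ≤ cd_ℓ(k) + 1, and if ℓ ≠ 2 or k is not orderable then
cd_ℓ(Frac(A/P)) = cd_ℓ(k) + 1 exactly. -/
theorem result (A : Type u) [CommRing A] [IsNoetherianRing A] [HenselianLocalRing A]
    (hdim : ringKrullDim A = 1) (ℓ : ℕ) (hℓ : ℓ.Prime) (hℓA : IsUnit (ℓ : A))
    (P : Ideal A) (hP : P ∈ minimalPrimes A) :
    (∀ d : ℕ, Dix.CohDimLEAt (Spec (CommRingCat.of (IsLocalRing.ResidueField A))) ℓ d →
        Dix.CohDimLEAt (Spec (CommRingCat.of (FractionRing (A ⧸ P)))) ℓ (d + 1)) ∧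
    ((ℓ ≠ 2 ∨ ¬ ∃ _ : LinearOrder (IsLocalRing.ResidueField A), IsStrictOrderedRing (IsLocalRing.ResidueField A)) →
      (∀ d : ℕ, Dix.CohDimLEAt (Spec (CommRingCat.of (IsLocalRing.ResidueField A))) ℓ d ↔
          Dix.CohDimLEAt (Spec (CommRingCat.of (FractionRing (A ⧸ P)))) ℓ (d + 1)) ∧
        ¬ Dix.CohDimLEAt (Spec (CommRingCat.of (FractionRing (A ⧸ P)))) ℓ 0) := by
  haveI : Fact ℓ.Prime := ⟨hℓ⟩
  haveI : P.IsPrime := hP.1.1
  haveI : IsLocalRing (A ⧸ P) := IsLocalRing.of_surjective' _ Ideal.Quotient.mk_surjective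
  haveI : Algebra.IsIntegral A (A ⧸ P) :=
    ⟨RingHom.isIntegral_of_surjective _ Ideal.Quotient.mk_surjective⟩
  haveI : HenselianLocalRing (A ⧸ P) := Hensel.henselianLocalRing_finite A (A ⧸ P)
  haveI : Ring.KrullDimLE 1 (A ⧸ P) := Ring.krullDimLE_iff.2 ((ringKrullDim_quotient_le P).trans_eq hdim)
  have hC : ¬ IsField (A ⧸ P) := by
    intro hF
    have hmax := Ideal.Quotient.maximal_of_isField P hF
    have hle : ∀ q : PrimeSpectrum A, q.asIdeal = P := fun q => le_antisymm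
      ((IsLocalRing.eq_maximalIdeal hmax) ▸ IsLocalRing.le_maximalIdeal q.isPrime.ne_top)
      (hP.2 ⟨q.isPrime, bot_le⟩ ((IsLocalRing.eq_maximalIdeal hmax) ▸ IsLocalRing.le_maximalIdeal q.isPrime.ne_top))
    haveI : Subsingleton (PrimeSpectrum A) := ⟨fun a b => PrimeSpectrum.ext ((hle a).trans (hle b).symm)⟩
    have h1 : ringKrullDim A ≤ 0 := Order.krullDim_nonpos_iff_forall_isMax.2 fun a b _ => (Subsingleton.elim b a).le
    rw [hdim] at h1
    exact absurd (WithBot.coe_le_coe.1 h1 : (1 : ℕ∞) ≤ 0) (by decide)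
  have hu : IsUnit (ℓ : A ⧸ P) := by simpa using hℓA.map (Ideal.Quotient.mk P)
  obtain ⟨h1, h2, h3⟩ := Groth.Agent.EtPBC.cd_fractionField_dimOne ℓ (A ⧸ P) hC hu (FractionRing (A ⧸ P))
  haveI : IsLocalHom (Ideal.Quotient.mk P) := IsLocalHom.of_surjective _ Ideal.Quotient.mk_surjective
  let f := IsLocalRing.ResidueField.map (Ideal.Quotient.mk P)
  have hf : Function.Bijective f := ⟨f.injective, fun y => by
    obtain ⟨y, rfl⟩ := IsLocalRing.residue_surjective y
    obtain ⟨a, rfl⟩ := Ideal.Quotient.mk_surjective y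
    exact ⟨IsLocalRing.residue A a, rfl⟩⟩
  let e := (RingEquiv.ofBijective f hf).toCommRingCatIso
  have hres : ∀ d, Groth.Agent.EtPBC.KVanOn {ℓ} (Spec (CommRingCat.of (IsLocalRing.ResidueField (A ⧸ P)))) d ↔
      Groth.Agent.EtPBC.KVanOn {ℓ} (Spec (CommRingCat.of (IsLocalRing.ResidueField A))) d := fun d =>
    ⟨fun h => h.of_isIntegralHom (Scheme.Spec.mapIso e.op).inv, fun h => h.of_isIntegralHom (Scheme.Spec.mapIso e.op).hom⟩
  refine ⟨fun d hd => Groth.Agent.EtPBC.cohDimLEAt_of_kVanOn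
      (h1 d ((hres d).2 (Groth.Agent.EtPBC.kVanOn_of_cohDimLEAt hd))),
    fun hord => ⟨fun d => ⟨fun hd => ?_, fun hd => ?_⟩,
      fun h => h3 (Groth.Agent.EtPBC.kVanOn_of_cohDimLEAt h)⟩⟩
  · exact Groth.Agent.EtPBC.cohDimLEAt_of_kVanOn (h1 d ((hres d).2 (Groth.Agent.EtPBC.kVanOn_of_cohDimLEAt hd)))
  · exact Groth.Agent.EtPBC.cohDimLEAt_of_kVanOn ((hres d).1
      (h2 (hord.imp_right fun h => Groth.Agent.EtPBC.not_orderable_of_ringHom f h) d
        (Groth.Agent.EtPBC.kVanOn_of_cohDimLEAt hd)))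

end Groth.Agent.S3486
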