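import Groth.Statements.S3487
import Groth.Agent.EtPBC.CdDimSum

set_option autoImplicit false
universe u
open CategoryTheory CategoryTheory.Limits AlgebraicGeometry Opposite
open EtCd

namespace Groth.Agent.S3487

/-- Let A be a Noetherian local ring with residue field k and ℓ a prime invertible in A; assume ℓ ≠ 2 or
that no residue field of Spec A is orderable. Then cd_ℓ(R(A)) ≥ cd_ℓ(k) + dim A, where R(A) is the
ring of rational functions of Spec A: if for some d the cohomology of ℓ-primary torsion sheaves on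
Spec Frac(A/P) vanishes above degree d for every minimal prime P, then dim A ≤ d and cd_ℓ(k) ≤ d -
dim A. -/
theorem result (A : Type u) [CommRing A] [IsNoetherianRing A] [IsLocalRing A]
    (ℓ : ℕ) (hℓ : ℓ.Prime) (hℓA : IsUnit (ℓ : A))
    (hord : ℓ ≠ 2 ∨ ∀ p : PrimeSpectrum A, ¬ ∃ _ : LinearOrder (FractionRing (A ⧸ p.asIdeal)),
      IsStrictOrderedRing (FractionRing (A ⧸ p.asIdeal)))
    (m : ℕ) (hm : ringKrullDim A = m) (d : ℕ)
    (hd : ∀ P ∈ minimalPrimes A, Dix.CohDimLEAt (Spec (CommRingCat.of (FractionRing (A ⧸ P)))) ℓ d) :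
    m ≤ d ∧ Dix.CohDimLEAt (Spec (CommRingCat.of (IsLocalRing.ResidueField A))) ℓ (d - m) := by
  haveI : Fact ℓ.Prime := ⟨hℓ⟩
  -- a minimal prime of coheight `m`
  obtain ⟨l, hl⟩ := Order.le_krullDim_iff.1 hm.ge
  obtain ⟨P, hP, hPl⟩ := Ideal.exists_minimalPrimes_le (I := (⊥ : Ideal A)) (J := l.head.asIdeal) bot_le
  haveI : P.IsPrime := hP.1.1
  have hdim : ringKrullDim (A ⧸ P) = m := by
    refine le_antisymm ((ringKrullDim_quotient_le P).trans_eq hm) ?_
    rw [ringKrullDim_quotient]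
    exact Order.le_krullDim_iff.2 ⟨⟨l.length, fun i => ⟨l i, fun a ha => (l.head_le i) (hPl ha)⟩,
      fun i => l.step i⟩, hl⟩
  haveI : IsLocalRing (A ⧸ P) := IsLocalRing.of_surjective' _ Ideal.Quotient.mk_surjective
  have hu : IsUnit (ℓ : A ⧸ P) := by simpa using hℓA.map (Ideal.Quotient.mk P)
  have hK := Groth.Agent.EtPBC.kVanOn_of_cohDimLEAt (hd P hP)
  refine ⟨?_, ?_⟩
  · have h := Groth.Agent.EtPBC.ringKrullDim_le_of_kVanOn ℓ d (A ⧸ P) hu (FractionRing (A ⧸ P)) hK
    rw [hdim] at h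
    exact_mod_cast h
  have hord' : ℓ ≠ 2 ∨ ∀ (F : Type u) [Field F] (_ : A ⧸ P →+* F),
      ¬ ∃ _ : LinearOrder F, IsStrictOrderedRing F := by
    refine hord.imp_right fun h F _ g => ?_
    let q : PrimeSpectrum A := ⟨RingHom.ker (g.comp (Ideal.Quotient.mk P)), RingHom.ker_isPrime _⟩
    haveI : q.asIdeal.IsPrime := q.isPrime
    obtain ⟨ψ, -⟩ := Groth.Agent.EtPBC.exists_extend_field (A ⧸ q.asIdeal) (FractionRing (A ⧸ q.asIdeal)) F
      (RingHom.kerLift (g.comp (Ideal.Quotient.mk P))) (RingHom.kerLift_injective _)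
    exact Groth.Agent.EtPBC.not_orderable_of_ringHom ψ (h q)
  have h1 := Groth.Agent.EtPBC.kVanOn_residueField_of_kVanOn ℓ m (A ⧸ P) hu hord' hdim (FractionRing (A ⧸ P)) d hK
  haveI : IsLocalHom (Ideal.Quotient.mk P) := IsLocalHom.of_surjective _ Ideal.Quotient.mk_surjective
  let f := IsLocalRing.ResidueField.map (Ideal.Quotient.mk P)
  have hf : Function.Bijective f := ⟨f.injective, fun y => by
    obtain ⟨y, rfl⟩ := IsLocalRing.residue_surjective y
    obtain ⟨a, rfl⟩ := Ideal.Quotient.mk_surjective y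
    exact ⟨IsLocalRing.residue A a, rfl⟩⟩
  exact Groth.Agent.EtPBC.cohDimLEAt_of_kVanOn
    (h1.of_isIntegralHom (Scheme.Spec.mapIso (RingEquiv.ofBijective f hf).toCommRingCatIso.op).inv)

end Groth.Agent.S3487
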