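import Groth.Statements.S3488
import Groth.Agent.EtPBC.CdDimLower
import Groth.Agent.EtPBC.CdDimRing
import Groth.Agent.KummerLib.Torsion

set_option autoImplicit false
universe u
open CategoryTheory CategoryTheory.Limits AlgebraicGeometry Opposite
open EtCd

namespace Groth.Agent.S3488

/-- Let X be a Noetherian scheme and ℓ a prime invertible on X. Then cd_ℓ(R(X)) ≥ dim X, where R(X) is
the ring of rational functions (the product of the local rings at the maximal points): if for some d
the cohomology of ℓ-primary torsion sheaves on Spec κ(x) vanishes above degree d for every maximal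
point x of X (generic point of an irreducible component), then dim X ≤ d. -/
theorem result (X : Scheme.{u}) [IsNoetherian X] (ℓ : ℕ) (hℓ : ℓ.Prime)
    (hℓX : Dix.InvertibleOn X ℓ) (d : ℕ)
    (hd : ∀ x : X, closure {x} ∈ irreducibleComponents (X : Type u) →
      Dix.CohDimLEAt (Spec (X.residueField x)) ℓ d) :
    topologicalKrullDim X ≤ d := by
  haveI : Fact ℓ.Prime := ⟨hℓ⟩
  refine iSup_le fun l => ?_
  obtain ⟨W, hW, hlW⟩ : ∃ W ∈ irreducibleComponents (X : Type u), (l.last : Set X) ⊆ W :=
    exists_mem_irreducibleComponents_subset_of_isIrreducible _ l.last.isIrreducible'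
  have hWc : IsClosed W := isClosed_of_mem_irreducibleComponents W hW
  obtain ⟨x, hx⟩ := QuasiSober.sober hW.1 hWc
  choose z hz using fun i => QuasiSober.sober (l i).isIrreducible' (l i).isClosed'
  let y := z 0
  have hzy : ∀ i, z i ⤳ y := fun i => (hz i).specializes
    (show (y : X) ∈ (l i : Set X) from l.monotone (Fin.zero_le i) (hz 0).mem)
  have hxy : x ⤳ y := hx.specializes (hlW (l.monotone (Fin.le_last 0) (hz 0).mem))
  let A := X.presheaf.stalk y
  have hrange : ∀ w : X, w ⤳ y → ∃ p : PrimeSpectrum A, X.fromSpecStalk y p = w := fun w hw => by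
    have h : w ∈ Set.range (X.fromSpecStalk y) := by
      rw [Scheme.range_fromSpecStalk]; exact hw
    obtain ⟨p, hp⟩ := h
    exact ⟨p, hp⟩
  obtain ⟨p, hp⟩ := hrange x hxy
  choose q hq using fun i => hrange (z i) (hzy i)
  have hemb := (X.fromSpecStalk y).isEmbedding
  have hle : ∀ (a b : PrimeSpectrum A), X.fromSpecStalk y a ⤳ X.fromSpecStalk y b → a ≤ b := fun a b h =>
    (PrimeSpectrum.le_iff_specializes a b).2 (hemb.isInducing.specializes_iff.1 h)
  have hpq : ∀ i, p ≤ q i := fun i => hle _ _ (by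
    rw [hp, hq]; exact hx.specializes (hlW (l.monotone (Fin.le_last i) (hz i).mem)))
  have hqlt : ∀ i : Fin l.length, q i.succ < q i.castSucc := fun i => by
    refine lt_of_le_of_ne (hle _ _ ?_) fun heq => ?_
    · rw [hq, hq]
      exact (hz _).specializes (l.monotone (Fin.castSucc_le_succ i) (hz _).mem)
    · have h1 : z i.succ = z i.castSucc := by rw [← hq, ← hq, heq]
      refine (l.step i).ne (TopologicalSpace.IrreducibleCloseds.ext ?_)
      exact (hz i.castSucc).def.symm.trans ((congrArg (fun w => closure ({w} : Set X)) h1.symm).trans (hz i.succ).def)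
  have hdim : (l.length : WithBot ℕ∞) ≤ ringKrullDim (A ⧸ p.asIdeal) := by
    rw [ringKrullDim_quotient]
    refine Order.le_krullDim_iff.2 ⟨⟨l.length, fun i => ⟨q i.rev, fun a ha => hpq i.rev ha⟩, fun i => ?_⟩, rfl⟩
    show q i.castSucc.rev < q i.succ.rev
    rw [Fin.rev_castSucc, Fin.rev_succ]
    exact hqlt i.rev
  have hd' := EtPBC.kVanOn_of_cohDimLEAt (hd (X.fromSpecStalk y p) (by rw [hp, hx.def]; exact hW))
  have h1 := EtPBC.kVanOn_residueField_preimmersion (X.fromSpecStalk y) p hd'
  have h2 : EtPBC.KVanOn {ℓ} (Spec (CommRingCat.of p.asIdeal.ResidueField)) d :=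
    h1.of_isIntegralHom (Scheme.Spec.mapIso (Scheme.Spec.residueFieldIso A p).op).hom
  let e : FractionRing (A ⧸ p.asIdeal) ≃ₐ[A ⧸ p.asIdeal] p.asIdeal.ResidueField := FractionRing.algEquiv _ _
  have h3 : EtPBC.KVanOn {ℓ} (Spec (CommRingCat.of (FractionRing (A ⧸ p.asIdeal)))) d :=
    h2.of_isIntegralHom (Scheme.Spec.mapIso e.toRingEquiv.toCommRingCatIso.op).inv
  haveI : IsLocalRing (A ⧸ p.asIdeal) := IsLocalRing.of_surjective' _ Ideal.Quotient.mk_surjective
  have hu : IsUnit (ℓ : A ⧸ p.asIdeal) := by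
    have h := (KummerLib.isUnit_natCast ℓ hℓX).map ((Ideal.Quotient.mk p.asIdeal).comp
      (X.presheaf.germ ⊤ y trivial).hom)
    rwa [map_natCast] at h
  have hfin := hdim.trans (EtPBC.ringKrullDim_le_of_kVanOn ℓ d (A ⧸ p.asIdeal) hu
    (FractionRing (A ⧸ p.asIdeal)) h3)
  exact_mod_cast hfin

end Groth.Agent.S3488
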