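import Groth.Statements.S3498
import Groth.Agent.EtPBC.CdLefLocal

set_option autoImplicit false
universe u
open CategoryTheory CategoryTheory.Limits AlgebraicGeometry Opposite
open EtCd

namespace Groth.Agent.S3498

/-- Let Y be a scheme locally of finite type over a field k, y a point of Y, R a strict henselization of
the local ring of Y at y with dim R ≤ d, and U an affine open subscheme of Spec R. Then cd(U) ≤ d:
the etale cohomology of every torsion abelian sheaf on U vanishes above degree d. -/
theorem result (k : Type u) [Field k] (Y : Scheme.{u})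
    (g : Y ⟶ Spec (CommRingCat.of k)) [LocallyOfFiniteType g] (y : Y)
    (R : Type u) [CommRing R] [IsLocalRing R] [Algebra (Y.presheaf.stalk y) R]
    [IsLocalHom (algebraMap (Y.presheaf.stalk y) R)] [Hensel.IsStrictHenselization (Y.presheaf.stalk y) R]
    (d : ℕ) (hd : ringKrullDim R ≤ d) (U : (Spec (CommRingCat.of R)).Opens) (hU : IsAffineOpen U) :
    EtCoh.CohDimLE (U : Scheme.{u}) d := by
  intro F hF q hq
  obtain ⟨B, _, _, _, y', alg, hloc, hsh⟩ := Groth.Agent.EtPBC.exists_chart_sh g y R
  letI := alg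
  haveI := hloc
  haveI := hsh
  haveI : IsAffine (U : Scheme.{u}) := hU
  haveI : IsAffineHom U.ι := isAffineHom_of_isAffine _
  refine Groth.Agent.EtPBC.subsingleton_H_over_sh k B y' R U.ι F hF (fun x => Or.inr ?_) q hq
  have hle := (ringKrullDim_quotient_le (U.ι.base x).asIdeal).trans hd
  obtain ⟨e, he⟩ : ∃ e : ℕ∞, ringKrullDim (R ⧸ (U.ι.base x).asIdeal) = e := by
    haveI : Nontrivial (R ⧸ (U.ι.base x).asIdeal) := Ideal.Quotient.nontrivial_iff.2 (U.ι.base x).isPrime.ne_top
    exact ⟨_, (WithBot.coe_unbot _ (fun h => by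
      have h0 := ringKrullDim_nonneg_of_nontrivial (R := R ⧸ (U.ι.base x).asIdeal)
      rw [h] at h0
      exact absurd h0 (by simp))).symm⟩
  rw [he] at hle
  have h2 : e ≤ (d : ℕ∞) := WithBot.coe_le_coe.1 hle
  obtain ⟨a, rfl⟩ := ENat.ne_top_iff_exists.1 (h2.trans_lt (ENat.natCast_lt_top d)).ne
  refine ⟨a, 0, he, ?_, by simpa using h2⟩
  rw [Groth.Agent.EtPBC.trdg_eq_zero_of_isIntegral _ (RingHom.isIntegral_of_surjective _
    (Groth.Agent.EtPBC.surjective_residueFieldMap U.ι x))]
  rfl

end Groth.Agent.S3498
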