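import Groth.Statements.S3489
import Groth.Agent.S3498
import Groth.Agent.EtPBC.CdDimGeneric
import Groth.Agent.EtPBC.CdDimLower
import Groth.Agent.Hensel.HenselizationNoeth

set_option autoImplicit false
universe u
open CategoryTheory CategoryTheory.Limits AlgebraicGeometry Opposite
open EtCd

namespace Groth.Agent.S3489

/-- Let X be a scheme of finite type over a field k, ℓ a prime nonzero in k, x a point of X and A a
strict henselization of the local ring of X at x. Then cd_ℓ(R(A)) = dim A, where R(A) is the product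
of the local rings of A at its minimal primes: for every d, the cohomology of ℓ-primary torsion
sheaves on Spec Frac(A/P) vanishes above degree d for all minimal primes P of A if and only if dim A
≤ d. -/
theorem result (k : Type u) [Field k] (X : Scheme.{u})
    (f : X ⟶ Spec (CommRingCat.of k)) [LocallyOfFiniteType f] [QuasiCompact f] (ℓ : ℕ) (hℓ : ℓ.Prime) (hℓk : (ℓ : k) ≠ 0)
    (x : X) (R : Type u) [CommRing R] [IsLocalRing R] [Algebra (X.presheaf.stalk x) R]
      [IsLocalHom (algebraMap (X.presheaf.stalk x) R)] [Hensel.IsStrictHenselization (X.presheaf.stalk x) R] (d : ℕ) :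
    (∀ P ∈ minimalPrimes R, Dix.CohDimLEAt (Spec (CommRingCat.of (FractionRing (R ⧸ P)))) ℓ d) ↔
      ringKrullDim R ≤ d := by
  haveI : Fact ℓ.Prime := ⟨hℓ⟩
  haveI : IsLocallyNoetherian X := LocallyOfFiniteType.isLocallyNoetherian f
  haveI : IsNoetherianRing R :=
    (Hensel.strictHenselization_isNoetherianRing_iff (X.presheaf.stalk x) R).1 inferInstance
  refine ⟨fun h => ?_, fun hd P hP => ?_⟩
  · refine iSup_le fun l => ?_
    obtain ⟨P, hP, hPl⟩ := Ideal.exists_minimalPrimes_le (I := (⊥ : Ideal R)) (J := l.head.asIdeal) bot_le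
    haveI : P.IsPrime := hP.1.1
    haveI : IsLocalRing (R ⧸ P) := IsLocalRing.of_surjective' _ Ideal.Quotient.mk_surjective
    have hu : IsUnit (ℓ : R ⧸ P) := by
      have h1 : IsUnit (ℓ : k) := isUnit_iff_ne_zero.2 hℓk
      have h2 := h1.map ((Ideal.Quotient.mk P).comp ((algebraMap (X.presheaf.stalk x) R).comp
        ((X.presheaf.germ ⊤ x trivial).hom.comp (f.appTop.hom.comp (Scheme.ΓSpecIso (CommRingCat.of k)).inv.hom))))
      rwa [map_natCast] at h2
    have hfin := Groth.Agent.EtPBC.ringKrullDim_le_of_kVanOn ℓ d (R ⧸ P) hu (FractionRing (R ⧸ P))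
      (Groth.Agent.EtPBC.kVanOn_of_cohDimLEAt (h P hP))
    refine le_trans ?_ hfin
    rw [ringKrullDim_quotient]
    exact Order.le_krullDim_iff.2 ⟨⟨l.length, fun i => ⟨l i, fun a ha => (l.head_le i) (hPl ha)⟩,
      fun i => l.step i⟩, rfl⟩
  · haveI : P.IsPrime := hP.1.1
    let p : PrimeSpectrum R := ⟨P, inferInstance⟩
    have h1 := Groth.Agent.EtPBC.kVanOn_residueField_of_affineOpens (X := Spec (CommRingCat.of R)) p d
      (fun V hV _ => Groth.Agent.S3498.result k X f x R d hd V hV)
    have h2 : Groth.Agent.EtPBC.KVanOn {ℓ} (Spec (CommRingCat.of p.asIdeal.ResidueField)) d :=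
      (h1.univ.on _).of_isIntegralHom (Scheme.Spec.mapIso (Scheme.Spec.residueFieldIso (CommRingCat.of R) p).op).hom
    let e : FractionRing (R ⧸ P) ≃ₐ[R ⧸ P] p.asIdeal.ResidueField := FractionRing.algEquiv _ _
    exact Groth.Agent.EtPBC.cohDimLEAt_of_kVanOn
      (h2.of_isIntegralHom (Scheme.Spec.mapIso e.toRingEquiv.toCommRingCatIso.op).inv)

end Groth.Agent.S3489
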