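import Groth.Statements.S3490
import Groth.Agent.EtPBC.CdShDvr
import Groth.Agent.EtPBC.CdDimLower
import Groth.Agent.EtPBC.FieldDescent
import Groth.Agent.Hensel.Local
import Groth.Agent.EtPBC.ShDim
import Groth.Agent.Hensel.HenselizationNoeth

set_option autoImplicit false
universe u
open CategoryTheory CategoryTheory.Limits AlgebraicGeometry Opposite
open EtCd

namespace Groth.Agent.S3490

/-- Case of a discrete valuation ring as base: let V be a discrete valuation ring, X a scheme of finite
type over Spec V, ℓ a prime invertible in V, x a point of X and A a strict henselization of the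
local ring of X at x. Then cd_ℓ(R(A)) = dim A in the sense of the field case: for every d, the
cohomology of ℓ-primary torsion sheaves on Spec Frac(A/P) vanishes above degree d for all minimal
primes P of A if and only if dim A ≤ d. -/
theorem result (V : Type u) [CommRing V] [IsDomain V] [IsDiscreteValuationRing V]
    (X : Scheme.{u}) (f : X ⟶ Spec (CommRingCat.of V)) [LocallyOfFiniteType f] [QuasiCompact f]
    (ℓ : ℕ) (hℓ : ℓ.Prime) (hℓV : IsUnit (ℓ : V))
    (x : X) (R : Type u) [CommRing R] [IsLocalRing R] [Algebra (X.presheaf.stalk x) R]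
      [IsLocalHom (algebraMap (X.presheaf.stalk x) R)] [Hensel.IsStrictHenselization (X.presheaf.stalk x) R] (d : ℕ) :
    (∀ P ∈ minimalPrimes R, Dix.CohDimLEAt (Spec (CommRingCat.of (FractionRing (R ⧸ P)))) ℓ d) ↔
      ringKrullDim R ≤ d := by
  classical
  haveI : Fact ℓ.Prime := ⟨hℓ⟩
  haveI : IsLocallyNoetherian X := LocallyOfFiniteType.isLocallyNoetherian f
  haveI : IsNoetherianRing R :=
    (Hensel.strictHenselization_isNoetherianRing_iff (X.presheaf.stalk x) R).1 inferInstance
  let A : Type u := X.presheaf.stalk x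
  let cV : V →+* A := ((Scheme.ΓSpecIso (CommRingCat.of V)).inv ≫ f.appLE ⊤ ⊤ le_top ≫ X.presheaf.germ ⊤ x trivial).hom
  have hu0 : IsUnit (ℓ : A) := map_natCast cV ℓ ▸ hℓV.map cV
  refine ⟨fun h => ?_, fun hd P hP => ?_⟩
  · refine iSup_le fun l => ?_
    obtain ⟨P, hP, hPl⟩ := Ideal.exists_minimalPrimes_le (I := (⊥ : Ideal R)) (J := l.head.asIdeal) bot_le
    haveI : P.IsPrime := hP.1.1
    haveI : IsLocalRing (R ⧸ P) := IsLocalRing.of_surjective' _ Ideal.Quotient.mk_surjective
    have hu : IsUnit (ℓ : R ⧸ P) :=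
      map_natCast ((Ideal.Quotient.mk P).comp (algebraMap A R)) ℓ ▸ hu0.map _
    have hfin := Groth.Agent.EtPBC.ringKrullDim_le_of_kVanOn ℓ d (R ⧸ P) hu (FractionRing (R ⧸ P))
      (Groth.Agent.EtPBC.kVanOn_of_cohDimLEAt (h P hP))
    refine le_trans ?_ hfin
    rw [ringKrullDim_quotient]
    exact Order.le_krullDim_iff.2 ⟨⟨l.length, fun i => ⟨l i, fun a ha => (l.head_le i) (hPl ha)⟩,
      fun i => l.step i⟩, rfl⟩
  · haveI : P.IsPrime := hP.1.1
    haveI := (Hensel.strictHenselization_faithfullyFlat A R)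
    haveI : HenselianLocalRing R := (inferInstance : Hensel.IsStrictHenselization A R).henselian
    haveI hκ := (inferInstance : Hensel.IsStrictHenselization A R).isSepClosure
    haveI : IsSepClosed (IsLocalRing.ResidueField R) := hκ.sep_closed
    letI : Algebra V A := cV.toAlgebra
    haveI : Algebra.EssFiniteType V A := by
      obtain ⟨_, ⟨U, hU, rfl⟩, hxU, -⟩ := X.isBasis_affineOpens.exists_subset_of_mem_open (Set.mem_univ x) isOpen_univ
      letI : Algebra V Γ(X, U) := ((Scheme.ΓSpecIso (CommRingCat.of V)).inv ≫ f.appLE ⊤ U le_top).hom.toAlgebra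
      haveI : Algebra.FiniteType V Γ(X, U) := by
        have h1 := f.finiteType_appLE (isAffineOpen_top _) hU le_top
        exact RingHom.FiniteType.comp h1 (RingHom.FiniteType.of_surjective _
          (Scheme.ΓSpecIso (CommRingCat.of V)).commRingCatIsoToRingEquiv.symm.surjective)
      letI : Algebra Γ(X, U) A := (X.presheaf.germ U x hxU).hom.toAlgebra
      haveI : IsScalarTower V Γ(X, U) A := IsScalarTower.of_algebraMap_eq' (by
        show ((Scheme.ΓSpecIso (CommRingCat.of V)).inv ≫ f.appLE ⊤ ⊤ le_top ≫ X.presheaf.germ ⊤ x trivial).hom =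
          ((Scheme.ΓSpecIso (CommRingCat.of V)).inv ≫ f.appLE ⊤ U le_top ≫ X.presheaf.germ U x hxU).hom
        rw [← Scheme.Hom.appLE_map f le_top (homOfLE (le_top : U ≤ ⊤)).op, Category.assoc, X.presheaf.germ_res])
      haveI : IsLocalization.AtPrime A (hU.primeIdealOf ⟨x, hxU⟩).asIdeal := hU.isLocalization_stalk ⟨x, hxU⟩
      haveI : Algebra.EssFiniteType Γ(X, U) A :=
        Algebra.EssFiniteType.of_isLocalization _ (hU.primeIdealOf ⟨x, hxU⟩).asIdeal.primeCompl
      exact Algebra.EssFiniteType.comp V Γ(X, U) _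
    let q : Ideal A := P.under A
    haveI : q.IsPrime := Ideal.IsPrime.under A P
    haveI : IsLocalRing (A ⧸ q) := IsLocalRing.of_surjective' _ Ideal.Quotient.mk_surjective
    haveI : IsLocalRing (R ⧸ P) := IsLocalRing.of_surjective' _ Ideal.Quotient.mk_surjective
    haveI : HenselianLocalRing (R ⧸ P) := Hensel.henselianLocalRing_finite R (R ⧸ P)
    haveI : IsLocalHom (Ideal.Quotient.mk P) := .of_surjective _ Ideal.Quotient.mk_surjective
    haveI : IsSepClosed (IsLocalRing.ResidueField (R ⧸ P)) := Hensel.isSepClosed_of_ringEquiv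
      (RingEquiv.ofBijective (IsLocalRing.ResidueField.map (Ideal.Quotient.mk P))
        ⟨RingHom.injective _, fun y => by
          obtain ⟨y, rfl⟩ := IsLocalRing.residue_surjective y
          obtain ⟨r, rfl⟩ := Ideal.Quotient.mk_surjective y
          exact ⟨IsLocalRing.residue R r, rfl⟩⟩)
    haveI : IsLocalHom (Ideal.Quotient.mk q) := .of_surjective _ Ideal.Quotient.mk_surjective
    haveI : IsLocalHom (algebraMap (A ⧸ q) (R ⧸ P)) := ⟨fun a ha => by
      obtain ⟨a, rfl⟩ := Ideal.Quotient.mk_surjective a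
      refine IsUnit.map _ (isUnit_of_map_unit (algebraMap A R) a (isUnit_of_map_unit (Ideal.Quotient.mk P) _ ?_))
      exact ha⟩
    haveI := Groth.Agent.EtPBC.isAlgebraic_sh_quotient (A := A) (R := R) P
    haveI : Algebra.EssFiniteType V (A ⧸ q) := Algebra.EssFiniteType.comp V A (A ⧸ q)
    have hdim : ringKrullDim (A ⧸ q) ≤ d := (ringKrullDim_quotient_le q).trans
      ((Hensel.strictHenselization_ringKrullDim (R := A) (S := R)).symm.trans_le hd)
    refine Groth.Agent.EtPBC.cohDimLEAt_of_kVanOn (Groth.Agent.EtPBC.kVanOn_fractionRing_le_dim_dvr ℓ V hℓV (A ⧸ q) (R ⧸ P)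
      ?_ d hdim)
    refine (injective_iff_map_eq_zero _).2 fun a ha => ?_
    obtain ⟨a, rfl⟩ := Ideal.Quotient.mk_surjective a
    exact Ideal.Quotient.eq_zero_iff_mem.2 (Ideal.mem_comap.2 (Ideal.Quotient.eq_zero_iff_mem.1 ha))

end Groth.Agent.S3490
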