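import Groth.Statements.S3494
import Groth.Agent.EtPBC.CdPBound
import Groth.Agent.CohQC.Push

set_option autoImplicit false
universe u
open CategoryTheory CategoryTheory.Limits AlgebraicGeometry Opposite
open EtCd

namespace Groth.Agent.S3494

/-- Let p be a prime and X a Noetherian scheme of characteristic p (a scheme over Spec(Z/p)). Then
cd_p(X) ≤ cd_qc(X) + 1: if the Zariski cohomology of every quasi-coherent O_X-module vanishes above
degree d, then the etale cohomology of every p-primary torsion abelian sheaf on X vanishes above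
degree d + 1. -/
theorem result (p : ℕ) [Fact p.Prime] (X : Scheme.{u}) [IsNoetherian X]
    (a : X ⟶ Spec (CommRingCat.of (ULift.{u} (ZMod p)))) (d : ℕ)
    (hqc : ∀ M : X.Modules, Coh.IsQCoh M → ∀ q : ℕ, d < q → Subsingleton (Coh.HH X M q)) :
    Dix.CohDimLEAt X p (d + 1) := by
  haveI : CompactSpace (X : Scheme.{u}) := inferInstance
  have hb : (p : Γ(Spec (CommRingCat.of (ULift.{u} (ZMod p))), ⊤)) = 0 := by
    rw [← map_natCast (Scheme.ΓSpecIso (CommRingCat.of (ULift.{u} (ZMod p)))).inv.hom,
      show (p : ULift.{u} (ZMod p)) = 0 from ULift.ext _ _ (by simp), map_zero]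
  have h0 : (p : Γ(X, ⊤)) = 0 := Groth.Agent.EtPBC.natCast_eq_zero_of_hom p a hb
  have hfin : Groth.Agent.EtPBC.FinQCVan X d := fun T g hg q hq => by
    haveI : QuasiCompact g := inferInstance
    haveI : (Coh.structureModule T).IsQuasicoherent := Groth.Agent.QC.isQCoh_unit T
    have hM : Coh.IsQCoh ((Coh.push g).obj (Coh.structureModule T)) := Groth.Agent.QC.isQCoh_pushforward g
    haveI := hqc _ hM q hq
    obtain ⟨e⟩ := Groth.Agent.CohQC.hu_push_affine g (Coh.structureModule T) ⊤ q
    have h1 := Groth.Agent.SiteCoh.huTerminalEquiv (Opens.grothendieckTopology T) isTerminalTop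
      (Coh.toAb (Coh.structureModule T)) q
    have h2 := Groth.Agent.SiteCoh.huTerminalEquiv (Opens.grothendieckTopology X) isTerminalTop
      (Coh.toAb ((Coh.push g).obj (Coh.structureModule T))) q
    haveI : Subsingleton (CohSite.HU (Coh.toAb ((Coh.push g).obj (Coh.structureModule T))) q ⊤) :=
      h2.symm.toEquiv.subsingleton
    haveI : Subsingleton (CohSite.HU (Coh.toAb (Coh.structureModule T)) q ⊤) := e.toEquiv.subsingleton
    exact h1.toEquiv.subsingleton
  obtain ⟨N, hN⟩ := Groth.Agent.EtPBC.exists_kVanOn_noetherian p h0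
  exact Groth.Agent.EtPBC.cohDimLEAt_of_kVanOn (Groth.Agent.EtPBC.kVanOn_of_finQCVan p h0 hfin hN)

end Groth.Agent.S3494
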