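import Groth.Statements.S3497
import Groth.Agent.EtPBC.CdLefLocal

set_option autoImplicit false
universe u
open CategoryTheory CategoryTheory.Limits AlgebraicGeometry Opposite
open EtCd

namespace Groth.Agent.S3497

/-- Let Y be a scheme locally of finite type over a field k, y a point of Y, R a strict henselization of
the local ring of Y at y (so Y' = Spec R is a strict localization of an algebraic scheme), f' : X' →
Spec R an affine morphism of finite type, and F' a torsion abelian sheaf on the small etale site of
X' such that δ(F') ≤ d, where for a point x of X' over the prime y' of R one puts δ(x) = dim(R/y') +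
trdeg(κ(x)/κ(y')) and δ(F') is the supremum of δ(x) over the points x at which F' has a nonzero
geometric stalk. Then H^q(X', F') = 0 for q > d. -/
theorem result (k : Type u) [Field k] (Y : Scheme.{u})
    (g : Y ⟶ Spec (CommRingCat.of k)) [LocallyOfFiniteType g] (y : Y)
    (R : Type u) [CommRing R] [IsLocalRing R] [Algebra (Y.presheaf.stalk y) R]
    [IsLocalHom (algebraMap (Y.presheaf.stalk y) R)] [Hensel.IsStrictHenselization (Y.presheaf.stalk y) R]
    (X' : Scheme.{u}) (f' : X' ⟶ Spec (CommRingCat.of R)) [IsAffineHom f'] [LocallyOfFiniteType f']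
    (F : EtCoh.Ab X') (hF : EtCoh.IsTorsion F) (d : ℕ)
    (hδ : ∀ x ∈ EtPBC.supp F, ∃ a b : ℕ,
      ringKrullDim (R ⧸ (f'.base x).asIdeal) = a ∧
      (letI := (f'.residueFieldMap x).hom.toAlgebra
       Algebra.trdeg ((Spec (CommRingCat.of R)).residueField (f'.base x)) (X'.residueField x)) = b ∧ a + b ≤ d)
    (q : ℕ) (hq : d < q) : Subsingleton (EtCoh.H X' F q) := by
  obtain ⟨B, _, _, _, y', alg, hloc, hsh⟩ := Groth.Agent.EtPBC.exists_chart_sh g y R
  letI := alg
  haveI := hloc
  haveI := hsh
  refine Groth.Agent.EtPBC.subsingleton_H_over_sh k B y' R f' F hF (fun x => ?_) q hq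
  by_cases hx : x ∈ EtPBC.supp F
  · exact Or.inr (hδ x hx)
  · exact Or.inl (Groth.Agent.EtPBC.zeroAt_of_notMem_supp F hx)

end Groth.Agent.S3497
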