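import Groth.Statements.S3501
import Groth.Agent.PicSurjDimOne.Basic
import Groth.Agent.S8533

set_option autoImplicit false
universe u
open CategoryTheory CategoryTheory.Limits AlgebraicGeometry Opposite
open EtCd

namespace Groth.Agent.S3501

/-- Let A be a Noetherian henselian local ring, f : X → Spec A a proper morphism all of whose fibres
have dimension at most 1, and i : X₀' → X a closed immersion whose image is exactly the closed fibre
of f. Then Pic(X) → Pic(X₀') is surjective: every invertible module on X₀' is isomorphic to the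
pullback of an invertible module on X. -/
theorem result (A : Type u) [CommRing A] [IsNoetherianRing A]
    [HenselianLocalRing A] (X : Scheme.{u}) (f : X ⟶ Spec (CommRingCat.of A)) [IsProper f]
    (hrel : ∀ s : Spec (CommRingCat.of A),
      topologicalKrullDim ↥(pullback f ((Spec (CommRingCat.of A)).fromSpecResidueField s)) ≤ 1)
    (X₀' : Scheme.{u}) (i : X₀' ⟶ X) [IsClosedImmersion i]
    (hi : Set.range i.base = f.base ⁻¹' {IsLocalRing.closedPoint A})
    (c : PicF.Cl X₀') (hc : PicF.IsInvertibleCl c) :
    ∃ d : PicF.Cl X, PicF.IsInvertibleCl d ∧ PicF.pullCl i d = c := by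
  obtain ⟨L, rfl, hL⟩ := hc
  haveI : IsNoetherian X :=
    { toIsLocallyNoetherian := LocallyOfFiniteType.isLocallyNoetherian f
      toCompactSpace := QuasiCompact.compactSpace_of_compactSpace f }
  have hdim : topologicalKrullDim ↥X₀' ≤ 1 := by
    let c : ↥(Spec (CommRingCat.of A)) := IsLocalRing.closedPoint A
    have hr : Set.range i.base = Set.range (f.fiberι c) := by
      rw [hi, Scheme.Hom.range_fiberι]; rfl
    have h := hrel c
    have e₁ : ↥X₀' ≃ₜ ↥(f.fiber c) :=
      (i.isClosedEmbedding.isEmbedding.toHomeomorph.trans (Homeomorph.setCongr hr)).trans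
        (f.fiberι c).isEmbedding.toHomeomorph.symm
    exact e₁.isInducing.topologicalKrullDim_le.trans h
  have hb : ∀ Y : Set X, IsClosed Y → Y.Nonempty → _root_.IsConnected Y →
      (Y ∩ Set.range i.base).Nonempty ∧ _root_.IsConnected (Y ∩ Set.range i.base) := by
    intro Y hY hne hconn
    let I := Scheme.IdealSheafData.vanishingIdeal ⟨Y, hY⟩
    let j := I.subschemeι
    have hj : Set.range j = Y := by
      rw [Scheme.IdealSheafData.range_subschemeι, Scheme.IdealSheafData.coe_support_vanishingIdeal]
      rfl
    haveI : ConnectedSpace ↥I.subscheme := by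
      haveI : ConnectedSpace ↥Y := isConnected_iff_connectedSpace.1 hconn
      exact ((j.isClosedEmbedding.isEmbedding.toHomeomorph.trans (Homeomorph.setCongr hj)).symm.surjective.connectedSpace
        (Homeomorph.continuous _))
    let c : ↥(Spec (CommRingCat.of A)) := (IsLocalRing.closedPoint A : PrimeSpectrum A)
    have hbij := Groth.Agent.S8533.result A (j ≫ f)
    haveI : ConnectedSpace ↥((j ≫ f).fiber c) := by
      obtain ⟨x₀, -⟩ := ConnectedComponents.surjective_coe (hbij.2 (ConnectedComponents.mk (Classical.arbitrary _))).choose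
      exact connectedSpace_iff_connectedComponent.2 ⟨x₀, Set.eq_univ_of_forall fun y =>
        ConnectedComponents.coe_eq_coe'.1 (hbij.1 (Subsingleton.elim _ _))⟩
    have h2 : _root_.IsConnected (j '' Set.range ((j ≫ f).fiberι c)) :=
      (isConnected_range ((j ≫ f).fiberι c).continuous).image _ j.continuous.continuousOn
    have heq : j '' Set.range ((j ≫ f).fiberι c) = Y ∩ Set.range i.base := by
      rw [Scheme.Hom.range_fiberι, hi, ← hj]
      ext x
      constructor
      · rintro ⟨w, hw, rfl⟩
        exact ⟨⟨w, rfl⟩, hw⟩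
      · rintro ⟨⟨w, rfl⟩, hx⟩
        exact ⟨w, hx, rfl⟩
    exact heq ▸ ⟨h2.nonempty, h2⟩
  obtain ⟨N, hN, ⟨e⟩⟩ := Groth.Agent.PicSurjDimOne.exists_pullback_iso i hdim
    (Groth.Agent.PicSurjDimOne.isolates_of_connected i hb) L hL
  exact ⟨PicF.cl N, ⟨N, rfl, hN⟩, Quot.sound ⟨e⟩⟩

end Groth.Agent.S3501
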