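import Groth.Statements.S3502
import Groth.Agent.EtPBC.Curve
-- import your own Groth.Agent.* helpers here

set_option autoImplicit false
universe u
open CategoryTheory CategoryTheory.Limits AlgebraicGeometry Opposite
open EtCd

namespace Groth.Agent.S3502

/-- Let X be a Noetherian scheme of dimension at most 1 and n ≥ 1 an integer invertible on X; assume
that cd_ℓ(κ(x)) ≤ 1 for every maximal point x of X and every prime ℓ dividing n (so that the ring of
rational functions of X has ℓ-cohomological dimension ≤ 1), and that the residue field of every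
closed point of X is separably closed. Then H^q(X, μ_n) = 0 for every q > 2. -/
theorem result (X : Scheme.{u}) [IsNoetherian X] (hdim : topologicalKrullDim X ≤ 1)
    (n : ℕ) (hn : 0 < n) (hinv : Dix.InvertibleOn X n)
    (hcd : ∀ x : X, closure {x} ∈ irreducibleComponents (X : Type u) →
      ∀ ℓ : ℕ, ℓ.Prime → ℓ ∣ n → Dix.CohDimLEAt (Spec (X.residueField x)) ℓ 1)
    (hcl : ∀ x : X, IsClosed ({x} : Set X) → IsSepClosed (X.residueField x)) (q : ℕ) (hq : 2 < q) :
    Subsingleton (EtCoh.H X (EtCoh.mu X n) q) := by
  refine Groth.Agent.EtPBC.subsingleton_H_of_killed_of_cd hdim hcl n hn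
    (fun x hx ℓ hℓ hd => hcd x (Groth.Agent.EtPBC.closure_mem_irreducibleComponents hx) ℓ hℓ hd)
    _ ((Groth.Agent.EtPBC.killed_iff _ _).2 ?_) q hq
  haveI : Mono (EtCoh.muι X n) := inferInstanceAs (Mono (kernel.ι (EtCoh.powMap X n)))
  rw [← cancel_mono (EtCoh.muι X n), zero_comp, Preadditive.nsmul_comp, Category.id_comp,
    ← Category.comp_id (EtCoh.muι X n), ← Preadditive.comp_nsmul]
  exact kernel.condition (EtCoh.powMap X n)

end Groth.Agent.S3502
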