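import Groth.Statements.S3507
import Groth.Agent.LAcyc.HenselLine

set_option autoImplicit false
universe u
open CategoryTheory CategoryTheory.Limits AlgebraicGeometry Opposite
open EtAcyc

namespace Groth.Agent.S3507

/-- Let A be a henselian local ring with residue characteristic p, let P be the ideal of A[t] generated
by the maximal ideal of A and t, and let B = A{t} be a henselization of the local ring A[t]_P. Then
every geometric fibre of Spec A{t} → Spec A (at any separably closed field over a residue field of
Spec A) is an n-acyclic scheme for every n and for the set L of primes different from p: it is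
nonempty, connected, and H^q(-, Z/ℓ) = 0 for all ℓ ∈ L and q ≥ 1. -/
theorem result (A : Type u) [CommRing A] [HenselianLocalRing A]
    (P : Ideal (Polynomial A)) (hP : P = (IsLocalRing.maximalIdeal A).map Polynomial.C ⊔ Ideal.span {Polynomial.X})
    [P.IsPrime] (B : Type u) [CommRing B] [IsLocalRing B] [Algebra (Localization.AtPrime P) B]
    [IsLocalHom (algebraMap (Localization.AtPrime P) B)] [Hensel.IsHenselization (Localization.AtPrime P) B]
    (φ : A →+* B) (hφ : φ = (algebraMap (Localization.AtPrime P) B).comp
      ((algebraMap (Polynomial A) (Localization.AtPrime P)).comp Polynomial.C)) (n : ℕ)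
    (y : Spec (CommRingCat.of A)) (Ω : Type u) [Field Ω] [IsSepClosed Ω]
    [Algebra ((Spec (CommRingCat.of A)).residueField y) Ω] :
    EtAcyc.IsAcyclicSchemeN {ℓ | ℓ.Prime ∧ (ℓ : IsLocalRing.ResidueField A) ≠ 0} n
      (pullback (Spec.map (CommRingCat.ofHom φ)) (EtAcyc.geomPt (Spec (CommRingCat.of A)) y Ω)) := by
  subst hφ
  letI : Algebra A B := ((algebraMap (Localization.AtPrime P) B).comp
    ((algebraMap (Polynomial A) (Localization.AtPrime P)).comp Polynomial.C)).toAlgebra
  haveI : IsScalarTower A (Localization.AtPrime P) B := IsScalarTower.of_algebraMap_eq fun a =>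
    congrArg (algebraMap (Localization.AtPrime P) B) (IsScalarTower.algebraMap_apply A (Polynomial A) _ a).symm
  exact Groth.Agent.LAcyc.isAcyclicSchemeN_henselLine A P hP B n Ω _

end Groth.Agent.S3507
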