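import Groth.Statements.S3508
import Groth.Agent.EtCons.Presentation

set_option autoImplicit false
universe u
open CategoryTheory CategoryTheory.Limits AlgebraicGeometry Opposite
open EtCd

namespace Groth.Agent.S3508

/-- Let X be a quasi-compact and quasi-separated scheme. An abelian sheaf F on the small etale site of X
is constructible if and only if it is isomorphic to the cokernel of a morphism ⨁_j j_{V_j !} Z/m_j →
⨁_i j_{U_i !} Z/n_i for finite families of affine etale X-schemes U_i, V_j (the source first states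
it with quasi-compact quasi-separated objects and then notes that U_i, V_j may even be taken affine)
and positive integers n_i, m_j (j_! the extension by zero of the constant sheaf). -/
theorem result (X : Scheme.{u}) [CompactSpace X] [QuasiSeparatedSpace X]
    (F : EtCoh.Ab X) :
    EtPBC.IsConstructible F ↔
      ∃ (a b : ℕ) (U : Fin a → X.Etale) (V : Fin b → X.Etale) (n : Fin a → ℕ) (m : Fin b → ℕ),
        (∀ i, 0 < n i ∧ IsAffine (U i).left) ∧ (∀ j, 0 < m j ∧ IsAffine (V j).left) ∧
        ∃ φ : (⨁ fun j => EtPBC.extZeroConst (V j) (ZMod (m j))) ⟶ (⨁ fun i => EtPBC.extZeroConst (U i) (ZMod (n i))),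
          Nonempty (F ≅ cokernel φ) := by
  classical
  have hcons : ∀ (a : ℕ) (U : Fin a → X.Etale) (n : Fin a → ℕ), (∀ i, 0 < n i ∧ IsAffine (U i).left) →
      EtPBC.IsConstructible (⨁ fun i => EtPBC.extZeroConst (U i) (ZMod (n i))) := fun a U n h =>
    Groth.Agent.EtCons.isConstructible_biproduct _ fun i => by
      haveI := (h i).2
      exact Groth.Agent.EtCons.isConstructible_extConst (U i) (n i) (h i).1
  constructor
  · intro hF
    obtain ⟨a, U, hU, n, hn, f, hf⟩ := Groth.Agent.EtCons.exists_generators F hF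
    have hP := hcons a U n fun i => ⟨hn i, hU i⟩
    obtain ⟨b, V, hV, m, hm, g, hg⟩ := Groth.Agent.EtCons.exists_generators (kernel f)
      (Groth.Agent.EtCons.isConstructible_kernel_cokernel f hP hF).1
    refine ⟨a, b, U, V, n, m, fun i => ⟨hn i, hU i⟩, fun j => ⟨hm j, hV j⟩, g ≫ kernel.ι f, ⟨?_⟩⟩
    have hc : g ≫ kernel.ι f ≫ cokernel.π (kernel.ι f) = 0 := by simp
    haveI := hg
    exact ((Abelian.epiIsCokernelOfKernel _ (kernelIsKernel f)).coconePointUniqueUpToIso
      (cokernelIsCokernel (kernel.ι f))) ≪≫ (cokernelEpiComp g (kernel.ι f)).symm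
  · rintro ⟨a, b, U, V, n, m, hU, hV, φ, ⟨e⟩⟩
    exact Groth.Agent.EtCons.isConstructible_of_iso e.symm
      (Groth.Agent.EtCons.isConstructible_kernel_cokernel φ (hcons b V m hV) (hcons a U n hU)).2

end Groth.Agent.S3508
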