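import Groth.Statements.S3509
import Groth.Agent.S3487
import Groth.Agent.S3492
import Groth.Agent.EtPBC.CdDimRing
import Groth.Agent.KummerLib.Torsion

set_option autoImplicit false
universe u
open CategoryTheory CategoryTheory.Limits AlgebraicGeometry Opposite
open EtCd

namespace Groth.Agent.S3509

/-- Let X be a Noetherian scheme of dimension at most m and ℓ a prime invertible on X; assume that for
all points x, y with y in the closure of x, every strict henselization R of the local ring at y and
every prime P of R minimal over p_x R one has cd_ℓ(Frac(R/P)) ≤ dim(R/p_x R), and that ℓ ≠ 2 or no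
residue field of X is orderable. Then cd_ℓ(X) ≤ cd_ℓ(R(X)) + dim X: if cd_ℓ(κ(η)) ≤ c for every
maximal point η of X, then the etale cohomology of every ℓ-primary torsion abelian sheaf on X
vanishes above degree c + m. -/
theorem result (X : Scheme.{u}) [IsNoetherian X] (m : ℕ) (hm : topologicalKrullDim X ≤ m)
    (ℓ : ℕ) (hℓ : ℓ.Prime) (hℓX : Dix.InvertibleOn X ℓ)
    (h2 : ∀ (x y : X) (hxy : x ⤳ y), ∀ (R : Type u) [CommRing R] [IsLocalRing R] [Algebra (X.presheaf.stalk y) R]
    [IsLocalHom (algebraMap (X.presheaf.stalk y) R)] [Hensel.IsStrictHenselization (X.presheaf.stalk y) R],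
      ∀ P ∈ ((RingHom.ker (Cyc.specMap y x hxy)).map (algebraMap (X.presheaf.stalk y) R)).minimalPrimes,
        ∀ e : ℕ, ringKrullDim (R ⧸ (RingHom.ker (Cyc.specMap y x hxy)).map (algebraMap (X.presheaf.stalk y) R)) = e →
          Dix.CohDimLEAt (Spec (CommRingCat.of (FractionRing (R ⧸ P)))) ℓ e)
    (hord : ℓ ≠ 2 ∨ ∀ x : X, ¬ ∃ _ : LinearOrder (X.residueField x), IsStrictOrderedRing (X.residueField x))
    (c : ℕ) (hc : ∀ x : X, closure {x} ∈ irreducibleComponents (X : Type u) →
      Dix.CohDimLEAt (Spec (X.residueField x)) ℓ c) :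
    Dix.CohDimLEAt X ℓ (c + m) := by
  haveI : Fact ℓ.Prime := ⟨hℓ⟩
  intro F hF q hq
  have key : ∀ (y : X) (p : PrimeSpectrum (X.presheaf.stalk y)), ∃ _ : (X.residueField (X.fromSpecStalk y p)) →+*
      FractionRing ((X.presheaf.stalk y) ⧸ p.asIdeal), ∀ d, Groth.Agent.EtPBC.KVanOn {ℓ}
        (Spec (X.residueField (X.fromSpecStalk y p))) d →
      Groth.Agent.EtPBC.KVanOn {ℓ} (Spec (CommRingCat.of (FractionRing ((X.presheaf.stalk y) ⧸ p.asIdeal)))) d := by
    intro y p
    let A := X.presheaf.stalk y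
    let i := Scheme.Spec.residueFieldIso A p
    let e : FractionRing (A ⧸ p.asIdeal) ≃ₐ[A ⧸ p.asIdeal] p.asIdeal.ResidueField := FractionRing.algEquiv _ _
    refine ⟨e.symm.toRingEquiv.toRingHom.comp (i.hom.hom.comp ((X.fromSpecStalk y).residueFieldMap p).hom), fun d h => ?_⟩
    have h1 := Groth.Agent.EtPBC.kVanOn_residueField_preimmersion (X.fromSpecStalk y) p h
    have h2 : Groth.Agent.EtPBC.KVanOn {ℓ} (Spec (CommRingCat.of p.asIdeal.ResidueField)) d :=
      h1.of_isIntegralHom (Scheme.Spec.mapIso i.op).hom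
    exact h2.of_isIntegralHom (Scheme.Spec.mapIso e.toRingEquiv.toCommRingCatIso.op).inv
  have h1 : ∀ (y : X) (j : ℕ), ringKrullDim (X.presheaf.stalk y) = j →
      2 * j ≤ c + m ∧ Dix.CohDimLEAt (Spec (X.residueField y)) ℓ (c + m - 2 * j) := by
    intro y j hj
    have hjm : j ≤ m := by
      have h0 : ringKrullDim (X.presheaf.stalk y) ≤ topologicalKrullDim X := by
        let g : PrimeSpectrum (X.presheaf.stalk y) → (TopologicalSpace.IrreducibleCloseds X)ᵒᵈ := fun p =>
          OrderDual.toDual ⟨closure {X.fromSpecStalk y p}, isIrreducible_singleton.closure, isClosed_closure⟩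
        refine (Order.krullDim_le_of_strictMono g fun p q hpq => ?_).trans_eq Order.krullDim_orderDual
        have hs : X.fromSpecStalk y p ⤳ X.fromSpecStalk y q :=
          ((PrimeSpectrum.le_iff_specializes p q).1 hpq.le).map (X.fromSpecStalk y).continuous
        refine lt_of_le_of_ne (OrderDual.toDual_le_toDual.2 (specializes_iff_closure_subset.1 hs)) fun h => hpq.ne ?_
        refine (X.fromSpecStalk y).isEmbedding.injective ?_
        exact IsGenericPoint.eq isGenericPoint_closure ((congrArg (fun S : TopologicalSpace.IrreducibleCloseds X =>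
          (S : Set X)) (OrderDual.toDual.injective h)).symm : closure {X.fromSpecStalk y q} = closure {X.fromSpecStalk y p})
      rw [hj] at h0
      exact_mod_cast h0.trans hm
    have hu : IsUnit (ℓ : X.presheaf.stalk y) := by
      have h := (Groth.Agent.KummerLib.isUnit_natCast ℓ hℓX).map (X.presheaf.germ ⊤ y trivial).hom
      rwa [map_natCast] at h
    have hord' : ℓ ≠ 2 ∨ ∀ p : PrimeSpectrum (X.presheaf.stalk y), ¬ ∃ _ : LinearOrder
        (FractionRing ((X.presheaf.stalk y) ⧸ p.asIdeal)),
        IsStrictOrderedRing (FractionRing ((X.presheaf.stalk y) ⧸ p.asIdeal)) :=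
      hord.imp_right fun h p => Groth.Agent.EtPBC.not_orderable_of_ringHom (key y p).choose (h _)
    have hd : ∀ P ∈ minimalPrimes (X.presheaf.stalk y),
        Dix.CohDimLEAt (Spec (CommRingCat.of (FractionRing ((X.presheaf.stalk y) ⧸ P)))) ℓ c := by
      intro P hP
      let p : PrimeSpectrum (X.presheaf.stalk y) := ⟨P, hP.1.1⟩
      haveI : p.asIdeal.IsPrime := p.isPrime
      refine Groth.Agent.EtPBC.cohDimLEAt_of_kVanOn ((key y p).choose_spec c
        (Groth.Agent.EtPBC.kVanOn_of_cohDimLEAt (hc _ ?_)))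
      obtain ⟨S, hS, hxS⟩ := exists_mem_irreducibleComponents_subset_of_isIrreducible
        (closure {X.fromSpecStalk y p}) isIrreducible_singleton.closure
      obtain ⟨z, hz⟩ := QuasiSober.sober hS.1 (isClosed_of_mem_irreducibleComponents S hS)
      have hzx : z ⤳ X.fromSpecStalk y p := hz.specializes (hxS (subset_closure rfl))
      obtain ⟨r, hr⟩ : ∃ r : PrimeSpectrum (X.presheaf.stalk y), X.fromSpecStalk y r = z := by
        show z ∈ Set.range (X.fromSpecStalk y)
        have hy : X.fromSpecStalk y p ∈ Set.range (X.fromSpecStalk y) := ⟨p, rfl⟩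
        rw [Scheme.range_fromSpecStalk] at hy ⊢
        exact hzx.trans hy
      have hrp : r ≤ p := (PrimeSpectrum.le_iff_specializes r p).2
        ((X.fromSpecStalk y).isEmbedding.isInducing.specializes_iff.1 (by rw [hr]; exact hzx))
      have : r = p := le_antisymm hrp (hP.2 ⟨r.isPrime, bot_le⟩ hrp)
      rw [← this, hr, hz.def]
      exact hS
    obtain ⟨hjc, hκ⟩ := Groth.Agent.S3487.result (X.presheaf.stalk y) ℓ hℓ hu hord' j hj c hd
    refine ⟨by omega, Groth.Agent.EtPBC.cohDimLEAt_of_kVanOn ?_⟩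
    exact (Groth.Agent.EtPBC.kVanOn_of_cohDimLEAt hκ).mono (by omega)
  exact Groth.Agent.S3492.result X ℓ hℓ (c + m) h1 h2 0 F hF (fun y _ => Groth.Agent.EtPBC.exists_dim_fibre.exists_nat_ringKrullDim
    (X.presheaf.stalk y) |>.choose_spec.symm ▸ by exact_mod_cast Nat.zero_le _) q (by omega)

end Groth.Agent.S3509
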