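import Groth.Statements.S3511
import Groth.Agent.EtFinCrit.Acyclic

set_option autoImplicit false
universe u
open CategoryTheory CategoryTheory.Limits AlgebraicGeometry Opposite
open EtAcyc

namespace Groth.Agent.S3511

/-- Let g : X → Y be quasi-compact and quasi-separated, L a set of primes containing at least one prime,
and n a natural number. (The published statement does not ask that L contain a prime; with L empty
the equivalence fails, e.g. for the empty scheme over a field, so that hypothesis is added here.)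
Then g is n-acyclic for L if and only if g is surjective and, for every locally quasi-finite
morphism (locally of finite type with discrete fibres) Y' → Y with base change g' : X' = X ×_Y Y' →
Y', every prime ℓ ∈ L and every ν ≥ 1, the pullback map H^q(Y', Z/ℓ^ν) → H^q(X', g'⁻¹(Z/ℓ^ν)) is
surjective for 0 ≤ q ≤ n. -/
theorem result {X Y : Scheme.{u}} (g : X ⟶ Y)
    [QuasiCompact g] [QuasiSeparated g] (L : Set ℕ) (hL : ∃ ℓ ∈ L, ℓ.Prime) (n : ℕ) :
    EtAcyc.IsAcyclicN g L n ↔
      Function.Surjective g.base ∧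
        ∀ (Y' : Scheme.{u}) (i : Y' ⟶ Y) [LocallyQuasiFinite i] [LocallyOfFiniteType i] (ℓ : ℕ), ℓ.Prime → ℓ ∈ L →
          ∀ (ν : ℕ), 1 ≤ ν → ∀ [PreservesFiniteLimits (EtCoh.pull (pullback.snd g i))] (q : ℕ), q ≤ n →
            Function.Surjective (EtCore.Hpull (pullback.snd g i) (EtCoh.const Y' (ZMod (ℓ ^ ν))) q) := by
  constructor
  · intro hg
    refine ⟨Groth.Agent.EtFinCrit.surjective_of_isAcyclicN g hL hg, fun Y' i _ _ ℓ hℓ hℓL ν hν _ q hq => ?_⟩
    have hc := Groth.Agent.EtFinCrit.compN_bc_lqf g i hg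
    refine ((hc (EtCoh.const Y' (ZMod (ℓ ^ ν))) ?_).1 q hq).2
    exact Groth.Agent.EtAcycX.Kd.isLTorsion (m := ℓ ^ ν) ⟨pow_pos hℓ.pos ν, fun r hr hd =>
      ((Nat.prime_dvd_prime_iff_eq hr hℓ).1 (hr.dvd_of_dvd_pow hd)) ▸ hℓL⟩
      (Groth.Agent.EtAcycX.kd_obj_of_group (fun z => by rw [nsmul_eq_mul, ZMod.natCast_self, zero_mul]) _)
  · rintro ⟨hs, h⟩
    haveI : Surjective g := ⟨hs⟩
    exact Groth.Agent.EtFinCrit.isAcyclicN_of_const g h

end Groth.Agent.S3511
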