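import Groth.Statements.S3515
import Groth.Agent.EtOpenBC.Back
import Groth.Agent.EtBCBridge.Main
import Groth.Agent.EtBCVcomp.Local

set_option autoImplicit false
set_option backward.isDefEq.respectTransparency false
set_option backward.isDefEq.respectTransparency.types false
set_option maxHeartbeats 1000000
set_option linter.style.haveILetI false
universe u
open CategoryTheory CategoryTheory.Limits AlgebraicGeometry Opposite
attribute [local instance] HasDerivedCategory.standard
open EtAcyc

namespace Groth.Agent.S3515

/-- (i) ⇔ (iv): let g : X → Y be a morphism of schemes, L a set of primes, n a natural number. Then g is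
locally n-acyclic for L (every induced morphism of strict localizations is n-acyclic for L) if and
only if: for every locally quasi-finite i : Y' → Y (locally of finite type with discrete fibres)
with base change g' : X' = X ×_Y Y' → Y', every quasi-compact open immersion i' : Y'' → Y' with base
change j' : X'' = X' ×_{Y'} Y'' → X' and g'' : X'' → Y'', and every abelian L-torsion sheaf F on
Y'', the base change maps g'⁻¹ R^q i'_* F → R^q j'_* g''⁻¹ F (cohomology sheaves of the derived base
change morphism) are isomorphisms for q ≤ n and a monomorphism for q = n + 1. -/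
theorem result {X Y : Scheme.{u}} (g : X ⟶ Y) (L : Set ℕ) (n : ℕ) :
    EtAcyc.IsLocAcyclicN g L n ↔
      ∀ (Y' : Scheme.{u}) (i : Y' ⟶ Y) [LocallyQuasiFinite i] [LocallyOfFiniteType i]
        (Y'' : Scheme.{u}) (i' : Y'' ⟶ Y') [IsOpenImmersion i'] [QuasiCompact i']
        [PreservesFiniteLimits (EtCoh.pull (pullback.snd g i))]
        [PreservesFiniteLimits (EtCoh.pull (pullback.snd (pullback.snd g i) i'))]
        [DCoh.HasRpushEt Y'' i'] [DCoh.HasRpushEt (pullback (pullback.snd g i) i') (pullback.fst (pullback.snd g i) i')]
        [DCoh.HasRpushEt (pullback g i) (pullback.snd g i)]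
        (adj : EtBC.pullD (pullback.snd g i) ⊣ DCoh.RpushEt (pullback g i) (pullback.snd g i))
        (F : EtCoh.Ab Y''), EtAcyc.IsLTorsion L F →
        (∀ q : ℤ, q ≤ n → IsIso ((DerivedCategory.homologyFunctor (EtCoh.Ab (pullback g i)) q).map
          (EtBC.bcMap i' (pullback.snd g i) (pullback.fst (pullback.snd g i) i') (pullback.snd (pullback.snd g i) i')
            pullback.condition.symm adj (EtBC.single Y'' F)))) ∧
        Mono ((DerivedCategory.homologyFunctor (EtCoh.Ab (pullback g i)) ((n : ℤ) + 1)).map
          (EtBC.bcMap i' (pullback.snd g i) (pullback.fst (pullback.snd g i) i') (pullback.snd (pullback.snd g i) i')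
            pullback.condition.symm adj (EtBC.single Y'' F))) := by
  constructor
  · intro hg Y' i _ _ Y'' i' _ _ _ _ _ _ _ adj F hF
    obtain ⟨h1, h2⟩ := Groth.Agent.EtOpenBC.bcQ_open_of_locAcyclic g i i' hg F hF
    refine ⟨(Groth.Agent.EtBCBridge.isIso_homology_bcMap_le_iff i' (pullback.snd g i) _ _
      pullback.condition.symm adj F (n : ℤ)).2 fun q hq => h1 q (by exact_mod_cast hq), ?_⟩
    exact (Groth.Agent.EtBCBridge.mono_homology_bcMap_iff i' (pullback.snd g i) _ _ pullback.condition.symm adj F
      (n + 1)).2 h2
  · intro H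
    refine Groth.Agent.EtOpenBC.isLocAcyclicN_of_bcOpen g fun Y' i _ _ Y'' i' _ _ _ F hF q hq => ?_
    haveI := Groth.Agent.EtPullExact.pull_preservesFiniteLimits (pullback.snd g i)
    haveI := Groth.Agent.EtBCVcomp.hasRpushEt i'
    haveI := Groth.Agent.EtBCVcomp.hasRpushEt (pullback.fst (pullback.snd g i) i')
    haveI := Groth.Agent.EtBCVcomp.hasRpushEt (pullback.snd g i)
    obtain ⟨adj, -⟩ := Groth.Agent.EtBCBridge.exists_adj (pullback.snd g i)
    exact (Groth.Agent.EtBCBridge.isIso_homology_bcMap_le_iff i' (pullback.snd g i) _ _ pullback.condition.symm adj F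
      (n : ℤ)).1 (H Y' i Y'' i' adj F hF).1 q (by exact_mod_cast hq)

end Groth.Agent.S3515
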