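import Groth.Statements.S3524
import Mathlib
import Groth.Agent.TorKunneth.Filtration
import Groth.Agent.TorBalance.LESFlip

set_option linter.style.haveILetI false

set_option autoImplicit false
universe u
attribute [local instance] HasDerivedCategory.standard
open HTor

namespace Groth.Agent.S3524

open CategoryTheory CategoryTheory.Limits in
/-- Consequence of the biregular Künneth/hypertor spectral sequence; cochain indexing. Let L and M be
complexes of A-modules vanishing in large degrees, every term of L flat (so that L ⊗ M computes the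
hypertor of L and M). If Tor_p^A(H^i(L), H^j(M)) = 0 for all p ≥ 0 and all i, j with i + j - p = n
(vanishing stated as Subsingleton), then H^n(L ⊗ M) = 0. (Tor is Mathlib's, left derived in the
second variable.) -/
theorem result (A : Type u) [CommRing A] (L M : DRing.Cx A)
    (hL : DRing.TermwiseFlat L) (bL : ∃ b : ℤ, DRing.VanishesAbove L b)
    (bM : ∃ b : ℤ, DRing.VanishesAbove M b) (n : ℤ)
    (h : ∀ (p : ℕ) (i j : ℤ), i + j - p = n → Subsingleton (DRing.Tor A p (L.homology i) (M.homology j))) :
    IsZero ((HTor.tensorCx L M).homology n) := by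
  obtain ⟨bL, hbL⟩ := bL
  obtain ⟨bM, hbM⟩ := bM
  have hK := DRingKP.isKFlat_of_bounded hbL hL
  have hbM' : ∀ j, bM < j → IsZero (M.homology j) := fun j hj =>
    ShortComplex.isZero_homology_of_isZero_X₂ _ (hbM j hj)
  have hT : ∀ p : ℕ, Subsingleton (HTor.TorSum L M n (p + 1)) := fun p =>
    subsingleton_of_forall_eq 0 fun t => DFinsupp.ext fun ij =>
      @Subsingleton.elim _ (h (p + 1) _ _ ij.2) _ _
  haveI hsum : Subsingleton (HTor.KunnethSum L M n) := subsingleton_of_forall_eq 0 fun t => DFinsupp.ext fun ij => by
    haveI := h 0 ij.1.1 ij.1.2 (by have := ij.2; push_cast; omega)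
    let X := ModuleCat.of A (L.homology ij.1.1)
    haveI : PreservesFiniteColimits ((MonoidalCategory.tensoringLeft (ModuleCat.{u} A)).obj X) :=
      inferInstanceAs (PreservesFiniteColimits (MonoidalCategory.tensorLeft X))
    let e : DRing.Tor A 0 (L.homology ij.1.1) (M.homology ij.1.2) ≃ₗ[A] TensorProduct A (L.homology ij.1.1) (M.homology ij.1.2) :=
      (((MonoidalCategory.tensoringLeft (ModuleCat.{u} A)).obj X).leftDerivedZeroIsoSelf.app
        (ModuleCat.of A (M.homology ij.1.2))).toLinearEquiv
    exact e.symm.injective (Subsingleton.elim _ _)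
  haveI : Subsingleton ((HTor.tensorCx L M).homology n) :=
    (TorKunneth.kMap_surjective_of_tor hL hK n bL bM hbL hbM' hT).subsingleton
  exact ModuleCat.isZero_of_subsingleton _

end Groth.Agent.S3524
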