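import Groth.Statements.S3525
import Mathlib
import Groth.Agent.HomolFiltered.Basic

set_option linter.style.haveILetI false

set_option autoImplicit false
universe u
open HTor

namespace Groth.Agent.S3525

section Pre
open CategoryTheory CategoryTheory.Limits CategoryTheory.MonoidalCategory
variable {A : Type u} [CommRing A]

/-- `M ↦ M ⊗ P` for a complex `P`. -/
noncomputable def tensorCx (P : ChainComplex (ModuleCat.{u} A) ℕ) :
    ModuleCat.{u} A ⥤ ChainComplex (ModuleCat.{u} A) ℕ where
  obj M := (((tensoringLeft (ModuleCat.{u} A)).obj M).mapHomologicalComplex _).obj P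
  map f := (NatTrans.mapHomologicalComplex ((tensoringLeft (ModuleCat.{u} A)).map f) _).app P
  map_id M := by ext n : 1; simp
  map_comp f g := by ext n : 1; simp

theorem preservesColimits_tensorRight (X : ModuleCat.{u} A) :
    PreservesColimitsOfSize.{u, u} (tensorRight X) :=
  have : PreservesColimitsOfSize.{u, u} (tensorLeft X) := (ihom.adjunction X).leftAdjoint_preservesColimits
  preservesColimits_of_natIso (BraidedCategory.tensorLeftIsoTensorRight X)

theorem preservesColimitsOfShape_tensorCx (P : ChainComplex (ModuleCat.{u} A) ℕ) (J : Type u)
    [SmallCategory J] : PreservesColimitsOfShape J (tensorCx P) := by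
  refine ⟨fun {K} => ⟨fun {t} ht => ⟨HomologicalComplex.isColimitOfEval _ _ fun n => ?_⟩⟩⟩
  have := preservesColimits_tensorRight (P.X n)
  exact isColimitOfPreserves (tensorRight (P.X n)) ht

/-- `Tor` is computed by a fixed resolution, naturally in the first variable. -/
noncomputable def torIso (p : ℕ) (N : ModuleCat.{u} A) (P : ProjectiveResolution N) :
    (CategoryTheory.Tor (ModuleCat.{u} A) p).flip.obj N ≅
      tensorCx P.complex ⋙ HomologicalComplex.homologyFunctor (ModuleCat.{u} A) (ComplexShape.down ℕ) p :=
  NatIso.ofComponents (fun M => P.isoLeftDerivedObj ((tensoringLeft (ModuleCat.{u} A)).obj M) p) (fun {M M'} f => by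
    show (NatTrans.leftDerived ((tensoringLeft (ModuleCat.{u} A)).map f) p).app N ≫ _ = _
    rw [ProjectiveResolution.leftDerived_app_eq _ P, Category.assoc, Category.assoc]
    refine (congrArg (_ ≫ ·) (congrArg (_ ≫ ·) (Iso.inv_hom_id _))).trans ?_
    rw [Category.comp_id]
    rfl)
end Pre


open CategoryTheory CategoryTheory.Limits in
/-- For a commutative ring A, an A-module N and p ≥ 0, the functor M ↦ Tor_p^A(M, N) preserves filtered
colimits. (Tor is Mathlib's, left derived in the second variable; this is the case of single modules
rather than complexes.) -/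
theorem result (A : Type u) [CommRing A] (p : ℕ) (N : ModuleCat.{u} A)
    (J : Type u) [SmallCategory J] [IsFiltered J] :
    PreservesColimitsOfShape J ((CategoryTheory.Tor (ModuleCat.{u} A) p).flip.obj N) := by
  have := preservesColimitsOfShape_tensorCx (projectiveResolution N).complex J
  have := Groth.Agent.HomolFiltered.preservesColimitsOfShape_homologyFunctor (A := A) (c := ComplexShape.down ℕ) J p
  exact preservesColimitsOfShape_of_natIso (torIso p N (projectiveResolution N)).symm

end Groth.Agent.S3525
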