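import Groth.Statements.S3532
import Groth.Agent.MLTower.Basic
-- import your own Groth.Agent.* helpers here

set_option autoImplicit false
universe u
open HomAlg3

namespace Groth.Agent.S3532

open CategoryTheory CategoryTheory.Limits Opposite

open CategoryTheory in
/-- Category of abelian groups, system indexed by the natural numbers: Let (A_k)_{k ≥ 0} be an inverse
system of abelian groups. For p ≤ k write Im_k(A_p) for the image of A_k → A_p, and K_p for the
kernel of A_p → A_{p-1} (K_0 = A_0). Then (A_k) satisfies the Mittag-Leffler condition (for each p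
the subgroups Im_k(A_p) are eventually constant in k) if and only if for each p the subgroups
Im_k(A_p) ∩ K_p are eventually constant in k. -/
theorem result (F : ℕᵒᵖ ⥤ AddCommGrpCat.{u}) :
    (F ⋙ forget AddCommGrpCat).IsMittagLeffler ↔
      ((∃ k₀ : ℕ, ∀ (k : ℕ) (hk : k₀ ≤ k),
          (F.map (homOfLE (Nat.zero_le k)).op).hom.range = (F.map (homOfLE (Nat.zero_le k₀)).op).hom.range) ∧
        ∀ p : ℕ, ∃ k₀ : ℕ, ∃ h₀ : p + 1 ≤ k₀, ∀ (k : ℕ) (hk : k₀ ≤ k),
          (F.map (homOfLE (h₀.trans hk)).op).hom.range ⊓ (F.map (homOfLE (Nat.le_succ p)).op).hom.ker =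
            (F.map (homOfLE h₀).op).hom.range ⊓ (F.map (homOfLE (Nat.le_succ p)).op).hom.ker) := by
  have hmap : ∀ {p q r : ℕ} (h₁ : p ≤ q) (h₂ : q ≤ r) (x : F.obj (op r)),
      (F.map (homOfLE h₁).op).hom ((F.map (homOfLE h₂).op).hom x) = (F.map (homOfLE (h₁.trans h₂)).op).hom x :=
    fun h₁ h₂ x => Groth.Agent.MLTower.map_map' F _ _ _ x
  have hanti : ∀ {p k k' : ℕ} (h : p ≤ k) (h' : k ≤ k'),
      (F.map (homOfLE (h.trans h')).op).hom.range ≤ (F.map (homOfLE h).op).hom.range := by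
    rintro p k k' h h' _ ⟨x, rfl⟩
    exact ⟨_, hmap h h' x⟩
  constructor
  · intro hF
    have key : ∀ p : ℕ, ∃ k₀ : ℕ, ∃ h₀ : p ≤ k₀, ∀ (k : ℕ) (hk : k₀ ≤ k),
        (F.map (homOfLE (h₀.trans hk)).op).hom.range = (F.map (homOfLE h₀).op).hom.range := by
      intro p
      obtain ⟨i, f, hf⟩ := hF (op p)
      refine ⟨i.unop, leOfHom f.unop, fun k hk => le_antisymm (hanti _ hk) ?_⟩
      exact fun y hy => hf (homOfLE ((leOfHom f.unop).trans hk)).op hy
    refine ⟨?_, fun p => ?_⟩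
    · obtain ⟨k₀, h₀, h⟩ := key 0
      exact ⟨k₀, fun k hk => h k hk⟩
    · obtain ⟨k₀, h₀, h⟩ := key (p + 1)
      exact ⟨k₀, h₀, fun k hk => by rw [h k hk]⟩
  · rintro ⟨⟨k₁, hk₁⟩, hgr⟩
    have key : ∀ p : ℕ, ∃ k₀ : ℕ, ∃ h₀ : p ≤ k₀, ∀ (k : ℕ) (hk : k₀ ≤ k),
        (F.map (homOfLE h₀).op).hom.range ≤ (F.map (homOfLE (h₀.trans hk)).op).hom.range := by
      intro p
      induction p with
      | zero => exact ⟨k₁, Nat.zero_le _, fun k hk => (hk₁ k hk).ge⟩
      | succ p ih =>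
        obtain ⟨k₀, h₀, hst⟩ := ih
        obtain ⟨k₂, h₂, hgr₂⟩ := hgr p
        have h₃ : p + 1 ≤ max k₀ k₂ := h₂.trans (le_max_right _ _)
        refine ⟨max k₀ k₂, h₃, fun k hk => ?_⟩
        rintro _ ⟨x, rfl⟩
        let x₁ := (F.map (homOfLE h₃).op).hom x
        have hx₁ : (F.map (homOfLE (Nat.le_succ p)).op).hom x₁ ∈ (F.map (homOfLE h₀).op).hom.range := by
          rw [hmap]
          exact hanti h₀ (le_max_left k₀ k₂) ⟨x, rfl⟩
        obtain ⟨y, hy⟩ := hst k ((le_max_left _ _).trans hk) hx₁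
        have hd : x₁ - (F.map (homOfLE (h₃.trans hk)).op).hom y ∈ (F.map (homOfLE h₂).op).hom.range ⊓
            (F.map (homOfLE (Nat.le_succ p)).op).hom.ker := by
          refine ⟨(F.map (homOfLE h₂).op).hom.range.sub_mem ?_ ?_, ?_⟩
          · exact hanti h₂ (le_max_right k₀ k₂) ⟨x, rfl⟩
          · exact hanti h₂ ((le_max_right k₀ k₂).trans hk) ⟨y, rfl⟩
          · exact AddMonoidHom.mem_ker.2 (by rw [map_sub, hmap, hmap, hy]; simp only [x₁, hmap, sub_self])
        rw [← hgr₂ k ((le_max_right _ _).trans hk)] at hd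
        obtain ⟨z, hz⟩ := hd.1
        exact ⟨z + y, by rw [map_add, hz, sub_add_cancel]⟩
    intro j
    obtain ⟨k₀, h₀, h⟩ := key j.unop
    refine ⟨op k₀, (homOfLE h₀).op, fun {k} g => ?_⟩
    rintro _ ⟨x, rfl⟩
    obtain ⟨y, hy⟩ := h (max k₀ k.unop) (le_max_left _ _) ⟨x, rfl⟩
    exact ⟨(F.map (homOfLE (le_max_right k₀ k.unop)).op).hom y,
      (Groth.Agent.MLTower.map_map' F _ g _ y).trans hy⟩

end Groth.Agent.S3532
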