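import Groth.Statements.S3534
import Mathlib
import Groth.Agent.TorFlatBC.Basic

set_option linter.style.haveILetI false

set_option autoImplicit false
universe u
open HTor

namespace Groth.Agent.S3534

/-- Let S be a multiplicative subset of a commutative ring A, A' = S⁻¹A, and P, Q two A'-modules, viewed
as A-modules by restriction of scalars. Then for every n there is a bijective map Tor_n^A(P, Q) →
Tor_n^{A'}(P, Q) which is semilinear over A → A' (so that, in particular, every s ∈ S acts
bijectively on Tor_n^A(P, Q)). (Tor is taken as the left derived functor of the tensor product in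
the second variable. The published statement gives a canonical isomorphism, for hyper-Tor of
complexes; this is the case of single modules.) -/
theorem result (A A' : Type u) [CommRing A] [CommRing A'] [Algebra A A']
    (S : Submonoid A) [IsLocalization S A'] (P Q : Type u) [AddCommGroup P] [Module A' P] [Module A P]
    [IsScalarTower A A' P] [AddCommGroup Q] [Module A' Q] [Module A Q] [IsScalarTower A A' Q] (n : ℕ) :
    ∃ φ : DRing.Tor A n P Q →ₛₗ[algebraMap A A'] DRing.Tor A' n P Q, Function.Bijective φ := by
  haveI : Module.Flat A A' := IsLocalization.flat A' S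
  haveI : IsLocalizedModule S (LinearMap.id : Q →ₗ[A] Q) :=
    { map_units := fun x => by
        rw [Module.End.isUnit_iff]
        have hu : IsUnit (algebraMap A A' x) := IsLocalization.map_units A' x
        obtain ⟨v, hv⟩ := hu
        have hx : ∀ q : Q, algebraMap A (Module.End A Q) (x : A) q = (v : A') • q := fun q => by
          rw [Module.algebraMap_end_apply, hv, algebraMap_smul]
        refine ⟨fun q q' h => ?_, fun q => ⟨((v⁻¹ : A'ˣ) : A') • q, ?_⟩⟩
        · rw [hx, hx] at h
          have := congrArg (((v⁻¹ : A'ˣ) : A') • ·) h
          simpa [smul_smul] using this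
        · rw [hx, smul_smul, Units.mul_inv, one_smul]
      surj := fun q => ⟨(q, 1), by simp⟩
      exists_of_eq := fun {q q'} h => ⟨1, by simpa using h⟩ }
  have hbc : IsBaseChange A' (LinearMap.id : Q →ₗ[A] Q) :=
    (isLocalizedModule_iff_isBaseChange S A' _).mp inferInstance
  obtain ⟨φ, hφ⟩ := Groth.Agent.TorFlatBC.exists_tor_bc P (ModuleCat.of A Q) (A' := A') n
  let e : (Groth.Agent.TorFlatBC.bcFun A A').obj (ModuleCat.of A Q) ≅ ModuleCat.of A' Q :=
    hbc.equiv.toModuleIso
  let E := ((CategoryTheory.Tor (ModuleCat.{u} A') n).obj (ModuleCat.of A' P)).mapIso e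
  refine ⟨
    { toFun := fun t => E.hom.hom (φ t)
      map_add' := fun a b => by rw [map_add, map_add]
      map_smul' := fun a t => by
        rw [LinearMap.map_smulₛₗ, map_smul] }, ?_⟩
  exact E.toLinearEquiv.bijective.comp hφ

end Groth.Agent.S3534
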