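import Groth.Statements.S3536
import Groth.Agent.CechStair.Total
import Groth.Agent.DescAdams.Hyper

set_option backward.isDefEq.respectTransparency false
set_option backward.isDefEq.respectTransparency.types false
set_option linter.style.haveILetI false

set_option autoImplicit false
universe u
open CechTot

namespace Groth.Agent.S3536

open CategoryTheory CategoryTheory.Limits TopologicalSpace in
/-- Let X be a topological space, U = (U_i) an open cover of X and K a complex of abelian sheaves on X
with K^i = 0 for i < a. If H^q(U_{i_0} ∩ … ∩ U_{i_p}, K^i) = 0 for all q > 0, all i and all finite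
families of indices, then for every n the Čech hypercohomology group Ȟ^n(U, K) (cohomology of the
total complex of the double complex C^p(U, K^q)) is isomorphic to the hypercohomology group H^n(X,
K) (maps from the free abelian sheaf on X to K[n] in the derived category). (The published statement
gives a canonical isomorphism; here only the existence of an additive isomorphism is asserted, and K
is taken bounded below.) -/
theorem result {X : TopCat.{u}} [HasDerivedCategory.{u} (CohTop.Ab X)]
    {ι : Type u} (U : ι → Opens X) (hcov : iSup U = ⊤) (K : CochainComplex (CohTop.Ab X) ℤ) (a : ℤ)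
    (ha : ∀ i : ℤ, i < a → IsZero (K.X i))
    (h : ∀ (p : ℕ) (c : Fin (p + 1) → ι) (i : ℤ) (q : ℕ),
      Subsingleton (CohTop.HU (K.X i) (q + 1) (iInf fun k => U (c k)))) (n : ℤ) :
    Nonempty (↑(CechTot.hyperH U ((CechTot.presheafCx X).obj K) n) ≃+
      CohCx.HDU (DerivedCategory.Q.obj K) n (⊤ : Opens X)) := by
  haveI hK : K.IsStrictlyGE a := (K.isStrictlyGE_iff a).2 fun i hi => ha i hi
  obtain ⟨I, f, hf, hI, hIa⟩ := CochainComplex.Plus.modelCategoryQuillen.exists_quasiIso_injective K a
  haveI : I.IsKInjective := CochainComplex.isKInjective_of_injective I a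
  have hsub : ∀ (p : ℕ) (c : Fin (p + 1) → ι) (i : ℤ) (q : ℕ),
      Subsingleton (CohTop.HU (K.X i) (q + 1) (Groth.Agent.SiteCoh.tupleProd U c)) := by
    intro p c i q
    have e : Groth.Agent.SiteCoh.tupleProd U c = iInf fun k => U (c k) :=
      le_antisymm (le_iInf fun k => (Limits.Pi.π (U ∘ c) k).le)
        (Groth.Agent.CechStair.le_tupleProd c _ fun k => iInf_le _ k)
    rw [e]
    exact h p c i q
  haveI := Groth.Agent.CechStair.quasiIso_tot_map U f a
    (fun p c i q => Groth.Agent.CechStair.isZero_rightDerived_secF _ _ q (hsub p c i q)) hI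
  obtain ⟨e1⟩ := Groth.Agent.CechStair.nonempty_tot_iso_glob (U := U) I hcov hI a
    (fun m hm => I.isZero_of_isStrictlyGE a m hm) n
  obtain ⟨e2⟩ := Groth.Agent.DescAdams.nonempty_HHof_kInjective
    (CohCx.freeSheaf (Opens.grothendieckTopology X) (⊤ : Opens X)) I n
  exact ⟨((asIso (HomologicalComplex.homologyMap (HomologicalComplex₂.total.map
    (((cechComplexFunctor (A := AddCommGrpCat.{u}) U ⋙
      ComplexShape.embeddingUpNat.extendFunctor AddCommGrpCat.{u}).mapHomologicalComplex (ComplexShape.up ℤ)).map
        ((CechTot.presheafCx X).map f)) (ComplexShape.up ℤ)) n)) ≪≫ e1).addCommGroupIsoToAddEquiv.trans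
      (e2.symm.trans (Groth.Agent.DescAdams.HHofCongr _ (asIso (DerivedCategory.Q.map f)) n).symm)⟩

end Groth.Agent.S3536
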