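import Groth.Statements.S3541
import Groth.Agent.HTorBC.Derived
import Groth.Agent.DRingKP.GlobalDim

set_option autoImplicit false
set_option linter.style.haveILetI false
universe u
attribute [local instance] HasDerivedCategory.standard
open HTor

namespace Groth.Agent.S3541

open CategoryTheory CategoryTheory.Limits AlgebraicGeometry in
/-- Let A be a ring all of whose modules have projective dimension ≤ d, X a scheme with a quasi-compact
separated morphism f : X → Spec A, covered by N + 1 affine opens, and P a complex of quasi-coherent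
O_X-modules with P^k = 0 unless a ≤ k ≤ b. Then RΓ(X, P) ∈ D(A) is represented by a complex L of
projective A-modules with L^k = 0 unless a - d ≤ k ≤ b + N. (The published statement gives a
canonical isomorphism, in a more general relative setting with several factors; here only one factor
over the base Spec A is treated and only the existence of an isomorphism in D(A) is asserted.) -/
theorem result (A : Type u) [CommRing A] (d : ℕ)
    (hA : ∀ M : ModuleCat.{u} A, HasProjectiveDimensionLT M (d + 1)) (X : Scheme.{u})
    (f : X ⟶ Spec (CommRingCat.of A)) [QuasiCompact f] [IsSeparated f] [HTor.HasRΓA f]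
    (N : ℕ) (U : Fin (N + 1) → X.Opens) (hU : ∀ i, IsAffineOpen (U i)) (hcov : ⨆ i, U i = ⊤)
    (P : CochainComplex X.Modules ℤ) (hq : ∀ i : ℤ, Coh.IsQCoh (P.X i)) (a b : ℤ)
    (hab : ∀ i : ℤ, i < a ∨ b < i → IsZero (P.X i)) :
    ∃ L : DRing.Cx A, (∀ i : ℤ, Module.Projective A (L.X i)) ∧ DRing.VanishesOutside L (a - d) (b + N) ∧
      HTor.Computes f L (DCoh.toD X P) := by
  letI : X.Over (Spec (CommRingCat.of A)) := ⟨f⟩
  haveI : CompactSpace X := QuasiCompact.compactSpace_of_compactSpace f
  haveI : X.IsSeparated := ⟨by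
    rw [show terminal.from X = f ≫ terminal.from _ from terminal.hom_ext _ _]
    infer_instance⟩
  haveI : HTor.HasRΓA (X ↘ Spec (CommRingCat.of A)) := ‹HTor.HasRΓA f›
  obtain ⟨K, hK, hKa, ⟨e⟩⟩ := Groth.Agent.HTorBC.exists_computes (A := A) U hU hcov P hq b fun i hi => hab i (Or.inr hi)
  have hz : ∀ i, (i < a - d + d ∨ b + N < i) →
      IsZero ((DerivedCategory.homologyFunctor (ModuleCat.{u} A) i).obj (DRing.toD K)) := fun i hi => by
    refine IsZero.of_iso ?_ ((DerivedCategory.homologyFunctorFactors (ModuleCat.{u} A) i).app K)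
    refine (HomologicalComplex.exactAt_iff_isZero_homology _ _).1 (HomologicalComplex.ExactAt.of_isZero ?_)
    rcases hi with hi | hi
    · exact hKa a (fun j hj => hab j (Or.inl hj)) i (by omega)
    · exact hK i hi
  obtain ⟨L, hL, hLp, ⟨eL⟩⟩ := Groth.Agent.DRingKP.exists_projRep (a - d) (b + N) d hA (DRing.toD K) hz
  exact ⟨L, hLp, hL, ⟨eL ≪≫ e⟩⟩

end Groth.Agent.S3541
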