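import Groth.Statements.S3551
import Groth.Agent.GrT.GammaFinite

set_option autoImplicit false
universe u
open CategoryTheory CategoryTheory.Limits AlgebraicGeometry
open EGA2

namespace Groth.Agent.S3551

/-- Let S be a graded ring whose irrelevant ideal S_+ is generated by finitely many elements of degree
one, and X = Proj S. Then every quasi-coherent O_X-module of finite type is isomorphic to N~ for
some finitely generated graded S-module N (graded in nonnegative degrees). -/
theorem result {R A : Type u} [CommRing R] [CommRing A] [Algebra R A] (𝒜 : ℕ → Submodule R A) [GradedAlgebra 𝒜]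
    (s : Finset A) (hs1 : ∀ f ∈ s, f ∈ 𝒜 1)
    (hs : (HomogeneousIdeal.irrelevant 𝒜).toIdeal = Ideal.span (s : Set A))
    (F : (Proj 𝒜).Modules) (hF : Coh.IsQCoh F) (hFT : CohB1.IsFT F) :
    ∃ (N : Type u) (_ : AddCommGroup N) (_ : Module R N) (_ : Module A N) (_ : IsScalarTower R A N)
      (𝒩 : ℕ → Submodule R N) (_ : DirectSum.Decomposition 𝒩) (_ : SetLike.GradedSMul 𝒜 𝒩),
      Module.Finite A N ∧ Nonempty (GrTilde.tilde 𝒜 𝒩 0 ≅ F) := by
  have hcov : ∀ x : ProjectiveSpectrum 𝒜, ∃ i : {f // f ∈ s}, (i : A) ∉ x.asHomogeneousIdeal := fun x => by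
    by_contra h
    push Not at h
    exact x.not_irrelevant_le
      (show (HomogeneousIdeal.irrelevant 𝒜).toIdeal ≤ x.asHomogeneousIdeal.toIdeal from
        hs ▸ Ideal.span_le.mpr fun f hf => h ⟨f, hf⟩)
  haveI := GrT.isIso_toTilde (hv := fun i : {f // f ∈ s} => hs1 i.1 i.2) hF hcov
  exact GrT.exists_finite (v := fun i : {f // f ∈ s} => (i : A)) (fun i => hs1 i.1 i.2) hF hFT hcov

end Groth.Agent.S3551
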