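import Groth.Statements.S3552
import Groth.Agent.ProjLib.ClosedSub

set_option autoImplicit false
set_option backward.isDefEq.respectTransparency false
universe u
open CategoryTheory CategoryTheory.Limits AlgebraicGeometry
open EGA2

namespace Groth.Agent.S3552

/-- In the case where the induced morphism is defined on all of Proj S: let φ : S' → S be a homomorphism
of graded rings such that S_+ is contained in the ideal generated by φ(S'_+). Then the induced
morphism from Proj S to Proj S' is affine. -/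
theorem result {R A : Type u} [CommRing R] [CommRing A] [Algebra R A] (𝒜 : ℕ → Submodule R A) [GradedAlgebra 𝒜]
    {B : Type u} [CommRing B] [Algebra R B] (ℬ : ℕ → Submodule R B) [GradedAlgebra ℬ]
    (φ : 𝒜 →+*ᵍ ℬ) (hφ : HomogeneousIdeal.irrelevant ℬ ≤ (HomogeneousIdeal.irrelevant 𝒜).map φ) :
    IsAffineHom (Proj.map φ hφ) := by
  refine isAffineHom_of_forall_exists_isAffineOpen _ fun x => ?_
  obtain ⟨s, q, rfl⟩ : ∃ (s : Σ i : PNat, 𝒜 i) (q : _),
      Proj.awayι 𝒜 (s.2 : A) s.2.2 s.1.2 q = x :=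
    ⟨_, (Proj.affineOpenCover 𝒜).openCover.exists_eq x |>.choose_spec⟩
  refine ⟨Proj.basicOpen 𝒜 (s.2 : A), ?_, ProjLib.isAffineOpen_basicOpen 𝒜 s.2.2 s.1.2, ?_⟩
  · rw [← Proj.opensRange_awayι 𝒜 (s.2 : A) s.2.2 s.1.2]; exact ⟨q, rfl⟩
  · rw [Proj.map_preimage_basicOpen]
    exact ProjLib.isAffineOpen_basicOpen ℬ (Graded.map_mem φ s.2.2) s.1.2

end Groth.Agent.S3552
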