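import Groth.Statements.S3553


set_option autoImplicit false
set_option backward.isDefEq.respectTransparency false
universe u
open CategoryTheory CategoryTheory.Limits AlgebraicGeometry
open EGA2

namespace Groth.Agent.S3553

/-- In the case where the induced morphism is defined on all of Proj S: let φ : S' → S be a homomorphism
of graded rings such that S_+ is contained in the ideal generated by φ(S'_+), and suppose every
element of the kernel of φ is nilpotent. Then the induced morphism from Proj S to Proj S' has dense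
image. -/
theorem result {R A : Type u} [CommRing R] [CommRing A] [Algebra R A] (𝒜 : ℕ → Submodule R A) [GradedAlgebra 𝒜]
    {B : Type u} [CommRing B] [Algebra R B] (ℬ : ℕ → Submodule R B) [GradedAlgebra ℬ]
    (φ : 𝒜 →+*ᵍ ℬ) (hφ : HomogeneousIdeal.irrelevant ℬ ≤ (HomogeneousIdeal.irrelevant 𝒜).map φ)
    (hker : ∀ a : A, φ a = 0 → IsNilpotent a) :
    DenseRange (Proj.map φ hφ).base := by
  classical
  intro x
  rw [mem_closure_iff]
  intro o ho hxo
  obtain ⟨_, ⟨f, rfl⟩, hxf, hfo⟩ :=
    (ProjectiveSpectrum.isTopologicalBasis_basic_opens 𝒜).exists_subset_of_mem_open hxo ho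
  have hxi := x.not_irrelevant_le
  obtain ⟨d, hd, g, hgd, hgx⟩ : ∃ d, 0 < d ∧ ∃ g ∈ 𝒜 d, g ∉ x.asHomogeneousIdeal := by
    by_contra! hno
    exact hxi ((HomogeneousIdeal.toIdeal_irrelevant_le _).mpr fun i hi a ha => hno i hi a ha)
  obtain ⟨j, hj⟩ : ∃ j, (DirectSum.decompose 𝒜 f j : A) ∉ x.asHomogeneousIdeal := by
    by_contra! hno
    apply hxf
    rw [← DirectSum.sum_support_decompose 𝒜 f]
    exact Ideal.sum_mem _ fun j _ => hno j
  set h := g * (DirectSum.decompose 𝒜 f j : A) with hh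
  have hhd : h ∈ 𝒜 (d + j) := SetLike.mul_mem_graded hgd (DirectSum.decompose 𝒜 f j).2
  have hhx : x ∈ Proj.basicOpen 𝒜 h := fun hm => (x.isPrime.mem_or_mem hm).elim hgx hj
  have hhf : Proj.basicOpen 𝒜 h ≤ Proj.basicOpen 𝒜 f := by
    rw [hh, Proj.basicOpen_mul, Proj.basicOpen_eq_iSup_proj 𝒜 f]
    exact inf_le_right.trans (le_iSup (fun i => Proj.basicOpen 𝒜 (GradedRing.proj 𝒜 i f)) j)
  have hnn : ¬ IsNilpotent (φ h) := fun ⟨k, hk⟩ => hhx (x.isPrime.mem_of_pow_mem _ (by
    obtain ⟨l, hl⟩ := hker (h ^ k) (by rw [map_pow]; exact hk)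
    refine x.isPrime.mem_of_pow_mem l ?_
    rw [hl]; exact Ideal.zero_mem _))
  have hne : ∃ y : Proj ℬ, y ∈ Proj.basicOpen ℬ (φ h) := by
    by_contra! hno
    haveI : Nontrivial (HomogeneousLocalization.Away ℬ (φ h)) := by
      refine ⟨⟨1, 0, fun e => hnn ?_⟩⟩
      have := congrArg HomogeneousLocalization.val e
      rw [HomogeneousLocalization.val_one, HomogeneousLocalization.val_zero] at this
      exact (IsLocalization.subsingleton_iff (M := Submonoid.powers (φ h))
        (S := Localization (Submonoid.powers (φ h)))).mp (subsingleton_of_zero_eq_one this.symm)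
    obtain ⟨q⟩ : Nonempty (PrimeSpectrum (HomogeneousLocalization.Away ℬ (φ h))) := inferInstance
    refine hno (Proj.awayι ℬ (φ h) (Graded.map_mem φ hhd) (Nat.add_pos_left hd j) q) ?_
    rw [← Proj.opensRange_awayι ℬ (φ h) (Graded.map_mem φ hhd) (Nat.add_pos_left hd j)]
    exact ⟨q, rfl⟩
  obtain ⟨y, hy⟩ := hne
  refine ⟨(Proj.map φ hφ).base y, hfo (hhf ?_), y, rfl⟩
  rw [← Proj.map_preimage_basicOpen φ hφ] at hy
  exact hy

end Groth.Agent.S3553
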