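import Groth.Statements.S9571
import Groth.Agent.GrT.Alg

set_option autoImplicit false
universe u
open CategoryTheory CategoryTheory.Limits AlgebraicGeometry TopologicalSpace Opposite
open Constr

namespace Groth.Agent.S9571

/-- Let S be a graded ring, X = Proj S and d ≥ 1; let W_d be the union of the opens D_+(ab) over pairs
of homogeneous a, b with deg a = deg b + d (the open over which the twisting sheaves O_X(nd) are
invertible with compatible multiplications). For n ≥ 1 and f homogeneous of degree nd, with s the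
section of O_X(nd) over W_d defined by f, the non-vanishing locus (W_d)_s equals D_+(f) ∩ W_d.
Pointwise: for p in some D_+(ab) as above, p ∈ D_+(f) if and only if the value f/1 of s at p
generates the module of degree-nd fractions at p (the span of the fractions c/t with t ∉ p and deg c
= deg t + nd, over the degree-zero local ring at p). -/
theorem result {R A : Type u} [CommRing R] [CommRing A] [Algebra R A] (𝒜 : ℕ → Submodule R A) [GradedAlgebra 𝒜]
    {d : ℕ} (hd : 0 < d) {i j : ℕ} {a b : A} (ha : a ∈ 𝒜 i) (hb : b ∈ 𝒜 j) (hij : i = j + d)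
    (p : ProjectiveSpectrum 𝒜) (hp : p ∈ ProjectiveSpectrum.basicOpen 𝒜 (a * b))
    {n : ℕ} (hn : 0 < n) (f : 𝒜 (n * d)) :
    p ∈ ProjectiveSpectrum.basicOpen 𝒜 (f : A) ↔
      Submodule.span (Twist.A0 𝒜 p) {(Twist.globalOf 𝒜 f).1 ⟨p, trivial⟩} = ⊤ := by
  have hab := (ProjectiveSpectrum.mem_basicOpen 𝒜 _ p).mp hp
  have ha' := GrT.not_mem_pow 𝒜 (GrT.left_not_mem 𝒜 hab) n
  have hb' := GrT.not_mem_pow 𝒜 (GrT.right_not_mem 𝒜 hab) n
  rw [ProjectiveSpectrum.mem_basicOpen]
  set P : Ideal A := p.asHomogeneousIdeal.toIdeal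
  have h1 : (1 : A) ∉ p.asHomogeneousIdeal := fun h =>
    p.isPrime.ne_top ((Ideal.eq_top_iff_one _).mpr h)
  set e := (Twist.globalOf 𝒜 f).1 ⟨p, trivial⟩ with he
  have hev : (e : Twist.Loc 𝒜 p) = Localization.mk (f : A) ⟨1, h1⟩ := rfl
  constructor
  · intro hf
    rw [Submodule.eq_top_iff']
    rintro ⟨q, hq⟩
    rw [Submodule.mem_span_singleton]
    suffices h : ∃ c : Twist.A0 𝒜 p, c.val * Localization.mk (f : A) ⟨1, h1⟩ = q by
      obtain ⟨c, hc⟩ := h
      exact ⟨c, Subtype.ext ((Twist.coe_smul_val _ _ c e).trans (hev ▸ hc))⟩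
    induction hq using Submodule.span_induction with
    | mem x hx =>
      obtain ⟨k, l, u, s, hs, hkl, rfl⟩ := hx
      have hkl' : k = l + n * d := by exact_mod_cast hkl
      refine ⟨HomogeneousLocalization.mk ⟨k, u,
        ⟨s.1 * f.1, hkl' ▸ SetLike.mul_mem_graded s.2 f.2⟩,
        GrT.not_mem_mul 𝒜 hs hf⟩, ?_⟩
      rw [HomogeneousLocalization.val_mk, Localization.mk_mul, Localization.mk_eq_mk_iff,
        Localization.r_iff_exists]
      exact ⟨1, by simp only [Submonoid.coe_mul, OneMemClass.coe_one, one_mul, mul_one]; ring⟩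
    | zero => exact ⟨0, by simp⟩
    | add x y _ _ hx hy =>
      obtain ⟨c, hc⟩ := hx; obtain ⟨c', hc'⟩ := hy
      exact ⟨c + c', by rw [HomogeneousLocalization.val_add, add_mul, hc, hc']⟩
    | smul r x _ hx =>
      obtain ⟨c, hc⟩ := hx
      exact ⟨r * c, by
        rw [HomogeneousLocalization.val_mul, mul_assoc, hc, Algebra.smul_def,
          HomogeneousLocalization.algebraMap_apply]⟩
  · intro htop hf
    have hg : Localization.mk (a ^ n) ⟨b ^ n, hb'⟩ ∈ Twist.twistAt 𝒜 ((n * d : ℕ) : ℤ) p :=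
      Submodule.subset_span ⟨n • i, n • j, ⟨_, SetLike.pow_mem_graded n ha⟩,
        ⟨_, SetLike.pow_mem_graded n hb⟩, hb',
        by simp only [smul_eq_mul, hij, Nat.cast_mul, Nat.cast_add]; ring, rfl⟩
    have hmem : (⟨_, hg⟩ : Twist.twistAt 𝒜 ((n * d : ℕ) : ℤ) p) ∈
        Submodule.span (Twist.A0 𝒜 p) {e} := htop ▸ Submodule.mem_top
    obtain ⟨c, hc⟩ := Submodule.mem_span_singleton.mp hmem
    obtain ⟨c, rfl⟩ := HomogeneousLocalization.mk_surjective c
    have hc' : c.embedding * Localization.mk (f : A) ⟨1, h1⟩ = Localization.mk (a ^ n) ⟨b ^ n, hb'⟩ :=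
      ((Twist.coe_smul_val _ _ _ e).symm.trans (congrArg Subtype.val hc))
    rw [show c.embedding = Localization.mk (c.num : A) ⟨c.den, c.den_mem⟩ from rfl,
      Localization.mk_mul, Localization.mk_eq_mk_iff, Localization.r_iff_exists] at hc'
    obtain ⟨w, hw⟩ := hc'
    simp only [Submonoid.coe_mul, mul_one] at hw
    have : (w : A) * ((c.den : A) * a ^ n) ∈ p.asHomogeneousIdeal := by
      rw [← hw]
      exact Ideal.mul_mem_left _ _ (Ideal.mul_mem_left _ _ (Ideal.mul_mem_left _ _ hf))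
    exact GrT.not_mem_mul 𝒜 w.2 (GrT.not_mem_mul 𝒜 c.den_mem ha') this

end Groth.Agent.S9571
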