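import Groth.Statements.S3555
import Groth.Agent.S9571
-- import your own Groth.Agent.* helpers here

set_option autoImplicit false
set_option backward.isDefEq.respectTransparency false
universe u
open CategoryTheory CategoryTheory.Limits AlgebraicGeometry
open EGA2

namespace Groth.Agent.S3555

/-- Let S be a graded ring whose irrelevant ideal S_+ is generated by the degree-one elements, X = Proj
S, and f homogeneous of degree d > 0. Then D_+(f) is the set of points p of X at which the global
section f/1 of O_X(d) does not vanish, i.e. at which its value generates the module of degree-d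
fractions at p. -/
theorem result {R A : Type u} [CommRing R] [CommRing A] [Algebra R A] (𝒜 : ℕ → Submodule R A) [GradedAlgebra 𝒜]
    (hgen : (HomogeneousIdeal.irrelevant 𝒜).toIdeal = Ideal.span (𝒜 1 : Set A))
    {d : ℕ} (hd : 0 < d) (f : 𝒜 d) (p : ProjectiveSpectrum 𝒜) :
    p ∈ ProjectiveSpectrum.basicOpen 𝒜 (f : A) ↔
      Submodule.span (Twist.A0 𝒜 p) {(Twist.globalOf 𝒜 f).1 ⟨p, trivial⟩} = ⊤ := by
  have h1 : ∃ a : A, a ∈ 𝒜 1 ∧ a ∉ p.asHomogeneousIdeal := by
    by_contra hc
    push Not at hc
    refine p.not_irrelevant_le fun x hx => ?_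
    have hx' : x ∈ (HomogeneousIdeal.irrelevant 𝒜).toIdeal := hx
    rw [hgen] at hx'
    exact Ideal.span_le.2 (fun y hy => hc y hy) hx'
  obtain ⟨a, ha, hap⟩ := h1
  have haP : a ^ d ∉ p.asHomogeneousIdeal := fun h => hap (p.isPrime.mem_of_pow_mem d h)
  have key : ∀ (m : ℕ), 1 * d = m → ∀ f : 𝒜 m, p ∈ ProjectiveSpectrum.basicOpen 𝒜 (f : A) ↔
      Submodule.span (Twist.A0 𝒜 p) {(Twist.globalOf 𝒜 f).1 ⟨p, trivial⟩} = ⊤ := by
    rintro _ rfl f
    exact Groth.Agent.S9571.result 𝒜 hd (i := d) (j := 0) (a := a ^ d) (b := 1)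
      (by simpa using SetLike.pow_mem_graded d ha) SetLike.GradedOne.one_mem (by simp) p
      (by rw [mul_one, ProjectiveSpectrum.mem_basicOpen]; exact haP) one_pos f
  exact key d (one_mul d) f

end Groth.Agent.S3555
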