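import Groth.Statements.S3560
import Groth.Agent.S3558

set_option autoImplicit false
set_option backward.isDefEq.respectTransparency false
universe u
open CategoryTheory CategoryTheory.Limits AlgebraicGeometry
open EGA2

namespace Groth.Agent.S3560

/-- Let S be a graded ring whose irrelevant ideal S_+ is finitely generated. Then Proj S is empty if and
only if there is n such that S_k = 0 for all k ≥ n. -/
theorem result {R A : Type u} [CommRing R] [CommRing A] [Algebra R A] (𝒜 : ℕ → Submodule R A) [GradedAlgebra 𝒜]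
    (hfg : (HomogeneousIdeal.irrelevant 𝒜).toIdeal.FG) :
    IsEmpty (Proj 𝒜) ↔ ∃ n : ℕ, ∀ k : ℕ, n ≤ k → 𝒜 k = ⊥ := by
  classical
  set I := (HomogeneousIdeal.irrelevant 𝒜).toIdeal with hI
  obtain ⟨s, hs⟩ := hfg
  let D := s.sup fun g => (DirectSum.decompose 𝒜 g).support.sup id
  let G : Finset (A × ℕ) := s.biUnion fun g => (DirectSum.decompose 𝒜 g).support.image fun i =>
    ((DirectSum.decompose 𝒜 g i : A), i)
  have hG : ∀ p ∈ G, p.1 ∈ 𝒜 p.2 ∧ 1 ≤ p.2 ∧ p.2 ≤ D ∧ p.1 ∈ I := by
    intro p hp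
    obtain ⟨g, hg, hp⟩ := Finset.mem_biUnion.mp hp
    obtain ⟨i, hi, rfl⟩ := Finset.mem_image.mp hp
    have hgI : g ∈ I := hs ▸ Ideal.subset_span hg
    refine ⟨(DirectSum.decompose 𝒜 g i).2, ?_, ?_,
      (HomogeneousIdeal.irrelevant 𝒜).is_homogeneous' i hgI⟩
    · by_contra h
      obtain rfl : i = 0 := by omega
      refine DFinsupp.mem_support_iff.mp hi ?_
      apply Subtype.ext
      have := (HomogeneousIdeal.mem_irrelevant_iff 𝒜 g).mp hgI
      rw [GradedRing.proj_apply] at this
      exact this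
    · exact (Finset.le_sup (f := id) hi).trans
        (Finset.le_sup (f := fun g => (DirectSum.decompose 𝒜 g).support.sup id) hg)
  have hspan : I ≤ Ideal.span ((G.image Prod.fst : Finset A) : Set A) := by
    rw [← hs, Submodule.span_le]
    intro g hg
    rw [SetLike.mem_coe, ← DirectSum.sum_support_decompose 𝒜 g]
    refine Ideal.sum_mem _ fun i hi => Ideal.subset_span ?_
    exact Finset.mem_image.mpr ⟨_, Finset.mem_biUnion.mpr ⟨g, hg, Finset.mem_image.mpr ⟨i, hi, rfl⟩⟩, rfl⟩
  have key : ∀ m k, m * D < k → ∀ a ∈ 𝒜 k, a ∈ I ^ (m + 1) := by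
    intro m
    induction m with
    | zero =>
      intro k hk a ha
      rw [pow_one]
      exact HomogeneousIdeal.mem_irrelevant_of_mem 𝒜 (by omega) ha
    | succ m ih =>
      intro k hk a ha
      have haI : a ∈ I := HomogeneousIdeal.mem_irrelevant_of_mem 𝒜 (by omega) ha
      obtain ⟨c, hc⟩ := Submodule.mem_span_finset.mp (hspan haI)
      rw [← DirectSum.decompose_of_mem_same 𝒜 ha, ← hc.2, DirectSum.decompose_sum, DFinsupp.finsetSum_apply,
        AddSubmonoidClass.coe_finsetSum]
      refine Ideal.sum_mem _ fun x hx => ?_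
      obtain ⟨p, hp, rfl⟩ := Finset.mem_image.mp hx
      obtain ⟨hp1, hp2, hpD, hpI⟩ := hG p hp
      rw [smul_eq_mul, DirectSum.coe_decompose_mul_of_right_mem_of_le 𝒜 hp1 (by nlinarith), pow_succ]
      exact Ideal.mul_mem_mul (ih (k - p.2) (by
        rw [Nat.add_mul, one_mul] at hk; omega) _ (DirectSum.decompose 𝒜 (c p.1) _).2) hpI
  constructor
  · intro he
    have hnil : IsNilpotent I := (Ideal.FG.isNilpotent_iff_le_nilradical ⟨s, hs⟩).mpr
      fun f hf => mem_nilradical.mpr ((Groth.Agent.S3558.result 𝒜).mp he f hf)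
    obtain ⟨N, hN⟩ := hnil
    refine ⟨N * D + 1, fun k hk => eq_bot_iff.mpr fun a ha => ?_⟩
    have h1 := Ideal.pow_le_pow_right (show N ≤ N + 1 by omega) (key N k (by omega) a ha)
    rw [hN] at h1
    exact h1
  · rintro ⟨n, hn⟩
    refine (Groth.Agent.S3558.result 𝒜).mpr fun f hf => ?_
    have hle : I ≤ nilradical A := by
      refine hspan.trans (Ideal.span_le.mpr fun x hx => ?_)
      obtain ⟨p, hp, rfl⟩ := Finset.mem_image.mp hx
      obtain ⟨hp1, hp2, -, -⟩ := hG p hp
      refine mem_nilradical.mpr ⟨n + 1, ?_⟩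
      have := SetLike.pow_mem_graded (n + 1) hp1
      rw [hn _ (le_trans (by omega : n ≤ n + 1) (by rw [smul_eq_mul]; exact Nat.le_mul_of_pos_right _ hp2))] at this
      exact (Submodule.mem_bot R).mp this
    exact mem_nilradical.mp (hle hf)

end Groth.Agent.S3560
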