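import Groth.Statements.S3564
import Groth.Prelude.Def_GrQuot
import Groth.Agent.ProjLib.ClosedSub

set_option autoImplicit false
universe u
open CategoryTheory CategoryTheory.Limits AlgebraicGeometry
open EGA2

namespace Groth.Agent.S3564

set_option backward.isDefEq.respectTransparency false

open HomogeneousLocalization

variable {R A : Type u} [CommRing R] [CommRing A] [Algebra R A] (𝒜 : ℕ → Submodule R A)
  [GradedAlgebra 𝒜] {Z : Scheme.{u}} (i : Z ⟶ Proj 𝒜)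

/-- Restriction of sections of `O_Proj` to `Z` over `D₊(f)`, precomposed with `(A_f)₀`. -/
noncomputable def ψ (f : A) : Away 𝒜 f →+* Γ(Z, i ⁻¹ᵁ Proj.basicOpen 𝒜 f) :=
  (Proj.awayToSection 𝒜 f ≫ i.app (Proj.basicOpen 𝒜 f)).hom

lemma ψ_res {f g x : A} {e : ℕ} (hg : g ∈ 𝒜 e) (hx : x = f * g) (y : Away 𝒜 f) :
    ψ 𝒜 i x (awayMap 𝒜 hg hx y) =
      (Z.presheaf.map (homOfLE (i.preimage_mono (Proj.basicOpen_mono 𝒜 f x ⟨g, hx⟩))).op).hom
        (ψ 𝒜 i f y) := by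
  have h : (CommRingCat.ofHom (awayMap 𝒜 hg hx) ≫ Proj.awayToSection 𝒜 x) ≫
      i.app (Proj.basicOpen 𝒜 x) =
      (Proj.awayToSection 𝒜 f ≫ i.app (Proj.basicOpen 𝒜 f)) ≫
      Z.presheaf.map (homOfLE (i.preimage_mono (Proj.basicOpen_mono 𝒜 f x ⟨g, hx⟩))).op := by
    rw [Proj.awayMap_awayToSection, Category.assoc, i.naturality, ← Category.assoc]
    rfl
  exact congrArg (fun (χ : CommRingCat.of (Away 𝒜 f) ⟶ Γ(Z, i ⁻¹ᵁ Proj.basicOpen 𝒜 x)) =>
    χ.hom y) h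

variable (s : Finset A) (hs1 : ∀ f ∈ s, f ∈ 𝒜 1)

lemma mem_smul_one {n : ℕ} {a : A} (ha : a ∈ 𝒜 n) : a ∈ 𝒜 (n • 1) := by
  rwa [smul_eq_mul, mul_one]

/-- `a/f^n` for `a` of degree `n` and `f` of degree one. -/
noncomputable def fr {f : A} (hf : f ∈ 𝒜 1) {n : ℕ} (a : A) (ha : a ∈ 𝒜 n) : Away 𝒜 f :=
  Away.mk 𝒜 hf n a (mem_smul_one 𝒜 ha)

lemma fr_mul {f : A} (hf : f ∈ 𝒜 1) {m n : ℕ} (a b : A) (ha : a ∈ 𝒜 m) (hb : b ∈ 𝒜 n) :
    fr 𝒜 hf (a * b) (SetLike.mul_mem_graded ha hb) = fr 𝒜 hf a ha * fr 𝒜 hf b hb := by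
  refine val_injective _ ?_
  rw [val_mul, fr, fr, fr, Away.val_mk, Away.val_mk, Away.val_mk, Localization.mk_mul]
  congr 1
  exact Subtype.ext (pow_add f m n)

lemma fr_add {f : A} (hf : f ∈ 𝒜 1) {n : ℕ} (a b : A) (ha : a ∈ 𝒜 n) (hb : b ∈ 𝒜 n) :
    fr 𝒜 hf (a + b) (add_mem ha hb) = fr 𝒜 hf a ha + fr 𝒜 hf b hb := by
  refine val_injective _ ?_
  rw [val_add, fr, fr, fr, Away.val_mk, Away.val_mk, Away.val_mk, Localization.add_mk_self]

lemma fr_zero {f : A} (hf : f ∈ 𝒜 1) (n : ℕ) :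
    fr 𝒜 hf (n := n) 0 (zero_mem _) = 0 := by
  refine val_injective _ ?_
  rw [val_zero, fr, Away.val_mk, Localization.mk_zero]

lemma fr_congr {f : A} (hf : f ∈ 𝒜 1) {m n : ℕ} {a b : A} (ha : a ∈ 𝒜 m) (hb : b ∈ 𝒜 n)
    (hmn : m = n) (h : a = b) : fr 𝒜 hf a ha = fr 𝒜 hf b hb := by
  subst hmn
  subst h
  rfl

/-- The homogeneous ideal of `Z`: all components vanish on `Z` after dehomogenising. -/
noncomputable def J : Ideal A where
  carrier := {a | ∀ (n : ℕ) (f : A) (hf : f ∈ s),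
    ψ 𝒜 i f (fr 𝒜 (hs1 f hf) _ (DirectSum.decompose 𝒜 a n).2) = 0}
  zero_mem' n f hf := by
    rw [fr_congr 𝒜 (hs1 f hf) (DirectSum.decompose 𝒜 0 n).2 (zero_mem _) rfl (by simp),
      fr_zero, map_zero]
  add_mem' {a b} ha hb n f hf := by
    rw [fr_congr 𝒜 (hs1 f hf) (DirectSum.decompose 𝒜 (a + b) n).2
        (add_mem (DirectSum.decompose 𝒜 a n).2 (DirectSum.decompose 𝒜 b n).2) rfl (by simp),
      fr_add 𝒜 (hs1 f hf) _ _ (DirectSum.decompose 𝒜 a n).2 (DirectSum.decompose 𝒜 b n).2,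
      map_add, ha n f hf, hb n f hf, add_zero]
  smul_mem' c a ha := by
    rw [smul_eq_mul]
    induction c using DirectSum.Decomposition.inductionOn 𝒜 with
    | zero =>
      intro n f hf
      rw [fr_congr 𝒜 (hs1 f hf) (DirectSum.decompose 𝒜 (0 * a) n).2 (zero_mem _) rfl (by simp),
        fr_zero, map_zero]
    | @homogeneous m c =>
      intro n f hf
      by_cases hmn : m ≤ n
      · rw [fr_congr 𝒜 (hs1 f hf) (DirectSum.decompose 𝒜 ((c : A) * a) n).2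
            (SetLike.mul_mem_graded c.2 (DirectSum.decompose 𝒜 a (n - m)).2)
            (Nat.add_sub_cancel' hmn).symm
            (DirectSum.coe_decompose_mul_of_left_mem_of_le 𝒜 c.2 hmn),
          fr_mul 𝒜 (hs1 f hf) _ _ c.2 (DirectSum.decompose 𝒜 a (n - m)).2, map_mul,
          ha (n - m) f hf, mul_zero]
      · rw [fr_congr 𝒜 (hs1 f hf) (DirectSum.decompose 𝒜 ((c : A) * a) n).2 (zero_mem _) rfl
            (DirectSum.coe_decompose_mul_of_left_mem_of_not_le 𝒜 c.2 hmn),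
          fr_zero, map_zero]
    | add c c' hc hc' =>
      intro n f hf
      rw [fr_congr 𝒜 (hs1 f hf) (DirectSum.decompose 𝒜 ((c + c') * a) n).2
          (add_mem (DirectSum.decompose 𝒜 (c * a) n).2 (DirectSum.decompose 𝒜 (c' * a) n).2) rfl
          (by simp [add_mul]),
        fr_add 𝒜 (hs1 f hf) _ _ (DirectSum.decompose 𝒜 (c * a) n).2
          (DirectSum.decompose 𝒜 (c' * a) n).2, map_add, hc n f hf, hc' n f hf, add_zero]

lemma mem_J_iff_of_mem {n : ℕ} {a : A} (ha : a ∈ 𝒜 n) :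
    a ∈ J 𝒜 i s hs1 ↔ ∀ (f : A) (hf : f ∈ s), ψ 𝒜 i f (fr 𝒜 (hs1 f hf) a ha) = 0 := by
  constructor
  · intro h f hf
    rw [← fr_congr 𝒜 (hs1 f hf) (DirectSum.decompose 𝒜 a n).2 ha rfl
      (DirectSum.decompose_of_mem_same 𝒜 ha)]
    exact h n f hf
  · intro h m f hf
    rcases eq_or_ne n m with rfl | hne
    · rw [fr_congr 𝒜 (hs1 f hf) (DirectSum.decompose 𝒜 a n).2 ha rfl
        (DirectSum.decompose_of_mem_same 𝒜 ha)]
      exact h f hf
    · rw [fr_congr 𝒜 (hs1 f hf) (DirectSum.decompose 𝒜 a m).2 (zero_mem _) rfl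
        (DirectSum.decompose_of_mem_ne 𝒜 ha hne), fr_zero, map_zero]

instance isHomog_J : GrQuot.IsHomog 𝒜 (J 𝒜 i s hs1) where
  mem_of_mem n a ha :=
    (mem_J_iff_of_mem 𝒜 i s hs1 (DirectSum.decompose 𝒜 a n).2).mpr fun f hf => ha n f hf

variable {𝒜 i s}

/-- If `a/f^n` vanishes on `Z`, then `(f^k a)/g^(k+n)` vanishes on `Z` for some `k`. -/
lemma exists_pow_fr_eq_zero [IsAffineHom i] {f g : A} (hf : f ∈ 𝒜 1) (hg : g ∈ 𝒜 1) {n : ℕ}
    {a : A} (ha : a ∈ 𝒜 n) (h : ψ 𝒜 i f (fr 𝒜 hf a ha) = 0) :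
    ∃ k : ℕ, ∀ m (hm : f ^ m * a ∈ 𝒜 (m + n)), k ≤ m →
      ψ 𝒜 i g (fr 𝒜 hg (f ^ m * a) hm) = 0 := by
  set u := ψ 𝒜 i g (Away.isLocalizationElem hg hf) with hu_def
  set t := ψ 𝒜 i g (fr 𝒜 hg a ha) with ht_def
  have hU : IsAffineOpen (i ⁻¹ᵁ Proj.basicOpen 𝒜 g) :=
    (ProjLib.isAffineOpen_basicOpen 𝒜 hg one_pos).preimage i
  have hu : Z.basicOpen u = i ⁻¹ᵁ Proj.basicOpen 𝒜 (g * f) := by
    rw [← ProjLib.basicOpen_awayToSection 𝒜 hf hg one_pos one_pos, Scheme.preimage_basicOpen]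
    rfl
  have hz : ψ 𝒜 i (g * f) (awayMap 𝒜 hf rfl (fr 𝒜 hg a ha)) = 0 := by
    have hgf : g * f ∈ 𝒜 (1 + 1) := SetLike.mul_mem_graded hg hf
    have hc : f ^ n * f ^ n ∈ 𝒜 (n • (1 + 1)) := by
      rw [← pow_add]
      have h2 : n • (1 + 1) = (n + n) • 1 := by simp [mul_two]
      rw [h2]
      exact SetLike.pow_mem_graded _ hf
    have he : awayMap 𝒜 hf rfl (fr 𝒜 hg a ha) =
        awayMap 𝒜 hg (mul_comm g f) (fr 𝒜 hf a ha) * Away.mk 𝒜 hgf n (f ^ n * f ^ n) hc := by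
      rw [fr, fr, awayMap_mk, awayMap_mk]
      refine val_injective _ ?_
      simp only [val_mul, Away.val_mk]
      rw [Localization.mk_mul, Localization.mk_eq_mk_iff, Localization.r_iff_exists]
      exact ⟨1, by simp only [Submonoid.coe_mul, OneMemClass.coe_one]; ring⟩
    rw [he, map_mul, ψ_res 𝒜 i hg (mul_comm g f), h, map_zero, zero_mul]
  rw [ψ_res 𝒜 i hf rfl] at hz
  obtain ⟨k, hk⟩ := exists_pow_mul_eq_zero_of_res_basicOpen_eq_zero_of_isAffineOpen Z hU t u (by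
    have hz' := congrArg (Z.presheaf.map (homOfLE hu.le).op).hom hz
    rw [map_zero, ← CommRingCat.comp_apply, ← Functor.map_comp] at hz'
    exact hz')
  refine ⟨k, fun m hm hkm => ?_⟩
  have hm' : fr 𝒜 hg (f ^ m * a) hm =
      Away.isLocalizationElem hg hf ^ m * fr 𝒜 hg a ha := by
    refine val_injective _ ?_
    rw [val_mul, val_pow, fr, fr, Away.isLocalizationElem, Away.val_mk, Away.val_mk, Away.val_mk,
      Localization.mk_pow, Localization.mk_mul, pow_one]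
    congr 1
    refine Subtype.ext ?_
    simp only [Submonoid.coe_mul, SubmonoidClass.coe_pow, pow_one, pow_add]
  obtain ⟨l, rfl⟩ := Nat.exists_eq_add_of_le hkm
  rw [hm', map_mul, map_pow, ← hu_def, ← ht_def, add_comm, pow_add, mul_assoc, hk, mul_zero]

variable (𝒜 i s)

/-- The quotient map `A → A/J` as a graded ring homomorphism. -/
noncomputable def φ : 𝒜 →+*ᵍ GrQuot.quot 𝒜 (J 𝒜 i s hs1) where
  __ := Ideal.Quotient.mk (J 𝒜 i s hs1)
  map_mem h := GrQuot.mk_mem_quot 𝒜 _ h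

lemma φ_eq_zero_iff (a : A) : φ 𝒜 i s hs1 a = 0 ↔ a ∈ J 𝒜 i s hs1 :=
  Ideal.Quotient.eq_zero_iff_mem

lemma φ_surjective : Function.Surjective (φ 𝒜 i s hs1) :=
  Ideal.Quotient.mk_surjective

lemma away_map_φ_eq_zero_iff [IsAffineHom i] {f : A} (hf : f ∈ s) (x : Away 𝒜 f) :
    Away.map (φ 𝒜 i s hs1) f x = 0 ↔ ψ 𝒜 i f x = 0 := by
  obtain ⟨n, a, ha, rfl⟩ := Away.mk_surjective 𝒜 (hs1 f hf) x
  rw [ProjLib.away_map_mk_eq_zero_iff]
  simp only [φ_eq_zero_iff]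
  have ha' : a ∈ 𝒜 n := by simpa using ha
  have hmem : ∀ m, f ^ m * a ∈ 𝒜 (m + n) := fun m =>
    SetLike.mul_mem_graded (by simpa using SetLike.pow_mem_graded m (hs1 f hf)) ha'
  constructor
  · rintro ⟨k, hk⟩
    have h := (mem_J_iff_of_mem 𝒜 i s hs1 (hmem k)).mp hk f hf
    have e : fr 𝒜 (hs1 f hf) (f ^ k * a) (hmem k) = Away.mk 𝒜 (hs1 f hf) n a ha := by
      refine val_injective _ ?_
      rw [fr, Away.val_mk, Away.val_mk, Localization.mk_eq_mk_iff, Localization.r_iff_exists]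
      exact ⟨1, by simp only [OneMemClass.coe_one, one_mul]; ring⟩
    rwa [e] at h
  · intro h
    classical
    choose k hk using fun g : s =>
      exists_pow_fr_eq_zero (i := i) (hs1 f hf) (hs1 g g.2) ha' h
    refine ⟨s.attach.sup k, (mem_J_iff_of_mem 𝒜 i s hs1 (hmem _)).mpr fun g hg => ?_⟩
    exact hk ⟨g, hg⟩ _ _ (Finset.le_sup (s.mem_attach ⟨g, hg⟩))

lemma ker_map_eq [IsClosedImmersion i]
    (hs : (HomogeneousIdeal.irrelevant 𝒜).toIdeal = Ideal.span (s : Set A))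
    (hφ : HomogeneousIdeal.irrelevant (GrQuot.quot 𝒜 (J 𝒜 i s hs1)) ≤
      (HomogeneousIdeal.irrelevant 𝒜).map (φ 𝒜 i s hs1))
    [IsClosedImmersion (Proj.map (φ 𝒜 i s hs1) hφ)] :
    (Proj.map (φ 𝒜 i s hs1) hφ).ker = i.ker := by
  refine Scheme.IdealSheafData.ext_of_iSup_eq_top
    (fun f : s => ⟨Proj.basicOpen 𝒜 f.1,
      ProjLib.isAffineOpen_basicOpen 𝒜 (hs1 f.1 f.2) one_pos⟩)
    (Proj.iSup_basicOpen_eq_top 𝒜 (fun f : s => f.1) (by rw [hs]; exact Ideal.span_mono fun x hx => ⟨⟨x, hx⟩, rfl⟩))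
    fun f => ?_
  rw [Scheme.Hom.ker_apply, Scheme.Hom.ker_apply]
  ext y
  obtain ⟨x, rfl⟩ := (ProjLib.awayToSection_bijective 𝒜 (hs1 f.1 f.2) one_pos).2 y
  rw [RingHom.mem_ker, RingHom.mem_ker]
  rw [show ((i.app (Proj.basicOpen 𝒜 f.1)).hom ((Proj.awayToSection 𝒜 f.1).hom x)) =
    ψ 𝒜 i f.1 x from rfl, ← away_map_φ_eq_zero_iff 𝒜 i s hs1 f.2]
  refine (Iff.of_eq (congrArg (· = 0)
    (ProjLib.map_app_awayToSection 𝒜 (φ 𝒜 i s hs1) hφ (hs1 f.1 f.2) x))).trans ?_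
  exact map_eq_zero_iff _ (ProjLib.awayToSection_bijective (GrQuot.quot 𝒜 (J 𝒜 i s hs1))
    (Graded.map_mem (φ 𝒜 i s hs1) (hs1 f.1 f.2)) one_pos).1

end Groth.Agent.S3564

namespace Groth.Agent.S3564

/-- Let S be a graded ring whose irrelevant ideal S_+ is generated by finitely many elements of degree
one, X = Proj S, and Z → X a closed immersion. Then Z is X-isomorphic to Proj S' for a graded
quotient S' of S (a surjective homomorphism of graded rings S → S'), the isomorphism being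
compatible with the morphism Proj S' → X induced by the quotient map. (The source moreover
identifies the kernel: the largest graded ideal with this property, the inverse image of Γ_*(J)
under α; that description is not stated here.) -/
theorem result {R A : Type u} [CommRing R] [CommRing A] [Algebra R A] (𝒜 : ℕ → Submodule R A) [GradedAlgebra 𝒜]
    (s : Finset A) (hs1 : ∀ f ∈ s, f ∈ 𝒜 1)
    (hs : (HomogeneousIdeal.irrelevant 𝒜).toIdeal = Ideal.span (s : Set A))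
    {Z : Scheme.{u}} (i : Z ⟶ Proj 𝒜) [IsClosedImmersion i] :
    ∃ (B : Type u) (_ : CommRing B) (_ : Algebra R B) (ℬ : ℕ → Submodule R B) (_ : GradedAlgebra ℬ)
      (φ : 𝒜 →+*ᵍ ℬ) (_ : Function.Surjective φ)
      (hφ : HomogeneousIdeal.irrelevant ℬ ≤ (HomogeneousIdeal.irrelevant 𝒜).map φ)
      (e : Z ≅ Proj ℬ), e.hom ≫ Proj.map φ hφ = i := by
  have hφ := ProjLib.irrelevant_le_map_of_surjective 𝒜 (φ 𝒜 i s hs1) (φ_surjective 𝒜 i s hs1)
  haveI := ProjLib.isClosedImmersion_map 𝒜 (φ 𝒜 i s hs1) hφ (φ_surjective 𝒜 i s hs1)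
  have hker := ker_map_eq 𝒜 i s hs1 hs hφ
  refine ⟨A ⧸ J 𝒜 i s hs1, inferInstance, inferInstance, GrQuot.quot 𝒜 (J 𝒜 i s hs1),
    inferInstance, φ 𝒜 i s hs1, φ_surjective 𝒜 i s hs1, hφ, ?_⟩
  haveI := IsClosedImmersion.isIso_lift (Proj.map (φ 𝒜 i s hs1) hφ) i hker
  exact ⟨asIso (IsClosedImmersion.lift (Proj.map (φ 𝒜 i s hs1) hφ) i hker.le),
    IsClosedImmersion.lift_fac _ _ _⟩

end Groth.Agent.S3564
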