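import Groth.Statements.S3567
import Groth.Agent.Blanchard.Sections

set_option autoImplicit false
universe u
open CategoryTheory CategoryTheory.Limits AlgebraicGeometry
open EGA2

namespace Groth.Agent.S3567

/-- Let h : U → V be a surjective morphism of schemes such that the map of sheaves of rings O_V → h_*O_U
is an isomorphism and the underlying space of V carries the quotient topology of that of U. Then for
every scheme W, composition with h is a bijection from the morphisms V → W onto the morphisms U → W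
whose underlying map is constant on each fibre of h. -/
theorem result {U V : Scheme.{u}} (h : U ⟶ V) [Surjective h]
    [IsIso h.c] (hq : Topology.IsQuotientMap h.base) (W : Scheme.{u}) :
    (∀ v₁ v₂ : V ⟶ W, h ≫ v₁ = h ≫ v₂ → v₁ = v₂) ∧
      ∀ u : U ⟶ W, (∀ x y : U, h.base x = h.base y → u.base x = u.base y) → ∃ v : V ⟶ W, h ≫ v = u := by
  have hi : ∀ O : V.Opens, IsIso (h.app O) := fun O => (inferInstance : IsIso (h.c.app (Opposite.op O)))
  have := Groth.Agent.Blanchard.epi_of_isIso_app h hi
  refine ⟨fun v₁ v₂ e => (cancel_epi h).1 e, fun u hu => ?_⟩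
  refine Groth.Agent.Blanchard.exists_desc h hi u fun z => ?_
  obtain ⟨x, rfl⟩ := h.surjective z
  obtain ⟨A, hA, hxA, -⟩ := exists_isAffineOpen_mem_and_subset (X := W) (x := u x) (U := ⊤) trivial
  have hsat : h.base ⁻¹' (h.base '' (u ⁻¹ᵁ A : Set U)) = (u ⁻¹ᵁ A : Set U) := by
    refine Set.Subset.antisymm (fun a ha => ?_) (Set.subset_preimage_image _ _)
    obtain ⟨b, hb, e⟩ := ha
    show u.base a ∈ A
    rw [← hu b a e]
    exact hb
  exact ⟨⟨h.base '' (u ⁻¹ᵁ A : Set U), hq.isOpen_preimage.mp (by rw [hsat]; exact (u ⁻¹ᵁ A).isOpen)⟩,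
    A, ⟨x, hxA, rfl⟩, hA, fun a ha => hsat.le ha⟩

end Groth.Agent.S3567
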