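import Groth.Statements.S3568
import Groth.Agent.NormSect.Basic
import Mathlib.AlgebraicGeometry.Morphisms.UniversallyInjective
import Mathlib.AlgebraicGeometry.Morphisms.Integral
import Mathlib.AlgebraicGeometry.ResidueField

set_option autoImplicit false
set_option linter.style.haveILetI false
universe u
open CategoryTheory CategoryTheory.Limits AlgebraicGeometry
open EGA2

namespace Groth.Agent.S3568

theorem surjective_of_integral {A B K K' : Type u} [CommRing A] [IsDomain A] [IsIntegrallyClosed A] [CommRing B]
    [Field K] [CommRing K'] [Algebra A K] [IsFractionRing A K] (e : K →+* K') (he : Function.Bijective e)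
    (φ : A →+* B) (γ : B →+* K') (hγ : Function.Injective γ) (hcomm : ∀ a, γ (φ a) = e (algebraMap A K a))
    (hint : φ.IsIntegral) : Function.Surjective φ := fun b => by
  obtain ⟨c, hc⟩ := he.2 (γ b)
  obtain ⟨p, hp1, hp2⟩ := hint b
  have hci : _root_.IsIntegral A c := by
    refine ⟨p, hp1, he.1 ?_⟩
    rw [Polynomial.hom_eval₂, map_zero, hc, show e.comp (algebraMap A K) = γ.comp φ from RingHom.ext fun a => (hcomm a).symm,
      ← Polynomial.hom_eval₂, hp2, map_zero]
  obtain ⟨a, ha⟩ := IsIntegrallyClosed.isIntegral_iff.1 hci
  exact ⟨a, hγ (by rw [hcomm, ha, hc])⟩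

theorem isFractionRing_of_eq {V : Scheme.{u}} [AlgebraicGeometry.IsIntegral V] {W : V.Opens} (hW : IsAffineOpen W)
    [Nonempty W] (y : V) (hy : y = genericPoint V) (hyW : y ∈ W) :
    letI := (V.presheaf.germ W y hyW).hom.toAlgebra
    IsFractionRing Γ(V, W) (V.presheaf.stalk y) := by
  subst hy
  exact functionField_isFractionRing_of_isAffineOpen V W hW

/-- Let U be an integral scheme, V a normal integral scheme (all local rings integrally closed domains)
and h : U → V a morphism which is universally closed, radicial (universally injective) and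
birational (it sends the generic point of U to that of V and induces an isomorphism of the residue
fields there). Then h is an isomorphism. (The source assumes only V normal; integrality of V, needed
here to speak of its generic point, follows from the other hypotheses.) -/
theorem result {U V : Scheme.{u}} [AlgebraicGeometry.IsIntegral U] [AlgebraicGeometry.IsIntegral V]
    (hN : Pi1.IsNormalScheme V) (h : U ⟶ V) [UniversallyClosed h]
    [UniversallyInjective h] (hgen : h.base (genericPoint U) = genericPoint V)
    (hbir : Function.Bijective (h.residueFieldMap (genericPoint U)).hom) :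
    IsIso h := by
  haveI : IsAffineHom h := isAffineHom_of_isInducing h
    (Topology.IsClosedEmbedding.of_continuous_injective_isClosedMap h.continuous h.injective h.isClosedMap).isInducing
    h.isClosedMap.isClosed_range
  haveI : IsIntegralHom h := IsIntegralHom.iff_universallyClosed_and_isAffineHom.mpr ⟨inferInstance, inferInstance⟩
  have hbij : Function.Bijective (h.stalkMap (genericPoint U)).hom := by
    have hF : IsField (V.presheaf.stalk (h.base (genericPoint U))) := by
      rw [hgen]; exact Field.toIsField V.functionField
    have hU : Function.Bijective (U.residue (genericPoint U)).hom :=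
      ⟨(U.residue (genericPoint U)).hom.injective, U.residue_surjective _⟩
    letI := hF.toField
    have hV : Function.Bijective (V.residue (h.base (genericPoint U))).hom :=
      ⟨(V.residue (h.base (genericPoint U))).hom.injective, V.residue_surjective _⟩
    have hc := hbir.comp hV
    rw [← RingHom.coe_comp, ← CommRingCat.hom_comp, Scheme.residue_residueFieldMap, CommRingCat.hom_comp,
      RingHom.coe_comp] at hc
    exact (Function.Bijective.of_comp_iff' hU _).1 hc
  refine (IsZariskiLocalAtTarget.iff_of_iSup_eq_top (P := MorphismProperty.isomorphisms Scheme) _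
    (iSup_affineOpens_eq_top V)).2 fun W => ?_
  show IsIso (h ∣_ W.1)
  rw [isIso_morphismRestrict_iff_isIso_app h W.2, ConcreteCategory.isIso_iff_bijective]
  by_cases hW : Nonempty W.1
  · have hξW : genericPoint U ∈ h ⁻¹ᵁ W.1 := by
      show h.base (genericPoint U) ∈ W.1
      rw [hgen]
      exact ((genericPoint_spec V).mem_open_set_iff W.1.isOpen).mpr (by simpa using Set.nonempty_coe_sort.1 hW)
    haveI : Nonempty (h ⁻¹ᵁ W.1) := ⟨⟨_, hξW⟩⟩
    have hnat : ∀ a, U.presheaf.germ (h ⁻¹ᵁ W.1) (genericPoint U) hξW (h.app W.1 a) =
        (h.stalkMap (genericPoint U)).hom (V.presheaf.germ W.1 (h.base (genericPoint U)) hξW a) := fun a =>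
      (Scheme.Hom.germ_stalkMap_apply h W.1 (genericPoint U) hξW a).symm
    refine ⟨fun a b hab => ?_, fun b => ?_⟩
    · exact germ_injective_of_isIntegral V _ hξW (hbij.1 (by rw [← hnat, ← hnat]; exact congrArg _ hab))
    · haveI := NormSect.isIntegrallyClosed_sections W.1 fun x _ => (hN x).2
      letI := (V.presheaf.germ W.1 (h.base (genericPoint U)) hξW).hom.toAlgebra
      haveI := isFractionRing_of_eq W.2 (h.base (genericPoint U)) hgen hξW
      have hF : IsField (V.presheaf.stalk (h.base (genericPoint U))) := by
        rw [hgen]; exact Field.toIsField V.functionField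
      letI := hF.toField
      exact surjective_of_integral (h.stalkMap (genericPoint U)).hom hbij (h.app W.1).hom
        (U.presheaf.germ (h ⁻¹ᵁ W.1) (genericPoint U) hξW).hom (germ_injective_of_isIntegral U _ hξW)
        hnat (h.isIntegral_app W.1 W.2) b
  · have hW0 : W.1 = ⊥ := TopologicalSpace.Opens.ext (Set.eq_empty_iff_forall_notMem.2 fun x hx => hW ⟨⟨x, hx⟩⟩)
    haveI : Subsingleton Γ(U, h ⁻¹ᵁ W.1) := by
      rw [hW0]; exact CommRingCat.subsingleton_of_isTerminal (Scheme.sheaf U).isTerminalOfEmpty
    haveI : Subsingleton Γ(V, W.1) := by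
      rw [hW0]; exact CommRingCat.subsingleton_of_isTerminal (Scheme.sheaf V).isTerminalOfEmpty
    exact ⟨Function.injective_of_subsingleton _, fun b => ⟨0, Subsingleton.elim _ _⟩⟩

end Groth.Agent.S3568
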