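import Groth.Statements.S3569
import Mathlib


set_option linter.style.haveILetI false
universe v
open CategoryTheory AlgebraicGeometry CategoryTheory.Limits TopologicalSpace
namespace Groth.Agent.S3569

variable {X Y S : Scheme.{v}} (f : X ⟶ S) [IsAffineHom f] (g : Y ⟶ S)

/-- The morphism to `X` on the piece over an affine open of `S` given by a map of sections. -/
noncomputable def piece (W : S.affineOpens) (a : Γ(X, f ⁻¹ᵁ W.1) ⟶ Γ(Y, g ⁻¹ᵁ W.1)) :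
    (g ⁻¹ᵁ W.1).toScheme ⟶ X :=
  (g ⁻¹ᵁ W.1).toSpecΓ ≫ Spec.map a ≫ (W.2.preimage f).fromSpec

lemma piece_injective (W : S.affineOpens) : Function.Injective (piece f g W) := by
  intro a b hab
  have h1 : (g ⁻¹ᵁ W.1).toSpecΓ ≫ Spec.map a = (g ⁻¹ᵁ W.1).toSpecΓ ≫ Spec.map b := by
    rw [← cancel_mono (W.2.preimage f).fromSpec, Category.assoc, Category.assoc]; exact hab
  have h2 := congrArg (fun φ => Scheme.Hom.appTop φ) h1
  simpa only [Scheme.Hom.comp_appTop, Scheme.Opens.toSpecΓ_appTop, Scheme.ΓSpecIso_naturality_assoc,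
    Iso.cancel_iso_hom_left, cancel_mono] using h2

omit [IsAffineHom f] in
lemma preimage_over (h : Y ⟶ X) (hh : h ≫ f = g) (W : S.Opens) :
    g ⁻¹ᵁ W ≤ h ⁻¹ᵁ (f ⁻¹ᵁ W) := by
  rw [← Scheme.Hom.comp_preimage, hh]

omit [IsAffineHom f] in
lemma algHom_app (h : Y ⟶ X) (hh : h ≫ f = g) (W : S.Opens) :
    (AffAlg.algHom f g h hh).app (Opposite.op W) =
      h.appLE (f ⁻¹ᵁ W) (g ⁻¹ᵁ W) (preimage_over f g h hh W) := by
  subst hh
  simp [AffAlg.algHom, Scheme.Hom.appLE, Scheme.Hom.app]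
  rfl

lemma ι_comp_eq_piece (h : Y ⟶ X) (hh : h ≫ f = g) (W : S.affineOpens) :
    (g ⁻¹ᵁ W.1).ι ≫ h =
      piece f g W (h.appLE (f ⁻¹ᵁ W.1) (g ⁻¹ᵁ W.1) (preimage_over f g h hh W.1)) := by
  rw [piece, Scheme.Opens.toSpecΓ_SpecMap_appLE_assoc, ← (W.2.preimage f).isoSpec_hom,
    (W.2.preimage f).isoSpec_hom_fromSpec, Scheme.Hom.resLE_comp_ι]

lemma piece_restrict (ω : AffAlg.alg f ⟶ AffAlg.alg g) (W' W : S.affineOpens) (hle : W'.1 ≤ W.1) :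
    Y.homOfLE (g.preimage_mono hle) ≫ piece f g W (ω.app (Opposite.op W.1)) =
      piece f g W' (ω.app (Opposite.op W'.1)) := by
  rw [piece, piece, ← (W.2.preimage f).map_fromSpec (W'.2.preimage f)
    (homOfLE (f.preimage_mono hle)).op]
  have hnat : X.presheaf.map (homOfLE (f.preimage_mono hle)).op ≫ ω.app (Opposite.op W'.1) =
      ω.app (Opposite.op W.1) ≫ Y.presheaf.map (homOfLE (g.preimage_mono hle)).op :=
    ω.naturality (homOfLE hle).op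
  rw [← Spec.map_comp_assoc, hnat, Spec.map_comp_assoc]
  have h3 : (g ⁻¹ᵁ W'.1).toSpecΓ ≫ Spec.map (Y.presheaf.map (homOfLE (g.preimage_mono hle)).op) =
      Y.homOfLE (g.preimage_mono hle) ≫ (g ⁻¹ᵁ W.1).toSpecΓ := by simp
  rw [reassoc_of% h3]

lemma piece_comp (ω : AffAlg.alg f ⟶ AffAlg.alg g) (hω : f.c ≫ ω = g.c) (W : S.affineOpens) :
    piece f g W (ω.app (Opposite.op W.1)) ≫ f = (g ⁻¹ᵁ W.1).ι ≫ g := by
  rw [piece, Category.assoc, Category.assoc,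
    ← W.2.SpecMap_appLE_fromSpec f (W.2.preimage f) le_rfl, ← Spec.map_comp_assoc,
    Scheme.Hom.appLE_eq_app]
  have hc : f.app W.1 ≫ ω.app (Opposite.op W.1) = g.app W.1 := congr($(hω).app (Opposite.op W.1))
  rw [hc, ← Scheme.Hom.appLE_eq_app, Scheme.Opens.toSpecΓ_SpecMap_appLE_assoc, ← W.2.isoSpec_hom,
    W.2.isoSpec_hom_fromSpec, Scheme.Hom.resLE_comp_ι]

/-- Morphisms given on the pieces over the affine opens, compatibly with inclusions, agree on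
overlaps. -/
lemma pieces_compatible (m : ∀ W : S.affineOpens, (g ⁻¹ᵁ W.1).toScheme ⟶ X)
    (hm : ∀ (W' W : S.affineOpens) (hle : W'.1 ≤ W.1),
      Y.homOfLE (g.preimage_mono hle) ≫ m W = m W')
    (W₁ W₂ : S.affineOpens) :
    pullback.fst (g ⁻¹ᵁ W₁.1).ι (g ⁻¹ᵁ W₂.1).ι ≫ m W₁ =
      pullback.snd (g ⁻¹ᵁ W₁.1).ι (g ⁻¹ᵁ W₂.1).ι ≫ m W₂ := by
  let d := pullback.fst (g ⁻¹ᵁ W₁.1).ι (g ⁻¹ᵁ W₂.1).ι ≫ (g ⁻¹ᵁ W₁.1).ι
  let K := {W : S.affineOpens // W.1 ≤ W₁.1 ∧ W.1 ≤ W₂.1}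
  have hcov : (⨆ W : K, d ⁻¹ᵁ (g ⁻¹ᵁ W.1.1)) = ⊤ := by
    refine top_le_iff.1 fun z _ => ?_
    have h1 : g (d z) ∈ W₁.1 := (pullback.fst (g ⁻¹ᵁ W₁.1).ι (g ⁻¹ᵁ W₂.1).ι z).2
    have h2 : g (d z) ∈ W₂.1 := by
      have : d = pullback.snd _ _ ≫ (g ⁻¹ᵁ W₂.1).ι := pullback.condition
      rw [this]
      exact (pullback.snd (g ⁻¹ᵁ W₁.1).ι (g ⁻¹ᵁ W₂.1).ι z).2
    obtain ⟨_, ⟨W, hW, rfl⟩, hzW, hle⟩ :=
      S.isBasis_affineOpens.exists_subset_of_mem_open (show g (d z) ∈ (W₁.1 ⊓ W₂.1 : S.Opens)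
        from ⟨h1, h2⟩) (W₁.1 ⊓ W₂.1).isOpen
    exact Opens.mem_iSup.2
      ⟨⟨⟨W, hW⟩, fun y hy => (hle hy).1, fun y hy => (hle hy).2⟩, hzW⟩
  refine Scheme.Cover.hom_ext (Scheme.openCoverOfIsOpenCover _ _ (.mk hcov)) _ _ fun W => ?_
  let r := d.resLE (g ⁻¹ᵁ W.1.1) (d ⁻¹ᵁ (g ⁻¹ᵁ W.1.1)) le_rfl
  have h1 : (d ⁻¹ᵁ (g ⁻¹ᵁ W.1.1)).ι ≫ pullback.fst _ _ =
      r ≫ Y.homOfLE (g.preimage_mono W.2.1) := by
    rw [← cancel_mono (g ⁻¹ᵁ W₁.1).ι, Category.assoc, Category.assoc, Scheme.homOfLE_ι]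
    exact (Scheme.Hom.resLE_comp_ι _ _).symm
  have h2 : (d ⁻¹ᵁ (g ⁻¹ᵁ W.1.1)).ι ≫ pullback.snd _ _ =
      r ≫ Y.homOfLE (g.preimage_mono W.2.2) := by
    rw [← cancel_mono (g ⁻¹ᵁ W₂.1).ι, Category.assoc, Category.assoc, Scheme.homOfLE_ι]
    exact (congrArg ((d ⁻¹ᵁ (g ⁻¹ᵁ W.1.1)).ι ≫ ·) pullback.condition.symm).trans
      (Scheme.Hom.resLE_comp_ι _ _).symm
  change (d ⁻¹ᵁ (g ⁻¹ᵁ W.1.1)).ι ≫ _ = (d ⁻¹ᵁ (g ⁻¹ᵁ W.1.1)).ι ≫ _
  rw [reassoc_of% h1, reassoc_of% h2, hm W.1 W₁ W.2.1, hm W.1 W₂ W.2.2]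

end Groth.Agent.S3569


set_option autoImplicit false
universe u
open CategoryTheory CategoryTheory.Limits AlgebraicGeometry
open EGA2

namespace Groth.Agent.S3569

/-- Let f : X → S be an affine morphism and g : Y → S any morphism. Then h ↦ A(h) = f_*(h^♯) is a
bijection from the set of S-morphisms Y → X onto the set of O_S-algebra homomorphisms f_*O_X →
g_*O_Y (morphisms of sheaves of rings compatible with the structure maps from O_S). -/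
theorem result {X Y S : Scheme.{u}} (f : X ⟶ S) [IsAffineHom f] (g : Y ⟶ S) :
    Function.Bijective (AffAlg.algOf f g) := by
  let 𝒰 : Y.OpenCover := Y.openCoverOfIsOpenCover (fun W : S.affineOpens => g ⁻¹ᵁ W.1)
    (.mk (by rw [← Scheme.Hom.preimage_iSup, iSup_affineOpens_eq_top, Scheme.Hom.preimage_top]))
  constructor
  · intro a b he
    obtain ⟨h, hh⟩ := a
    obtain ⟨h', hh'⟩ := b
    have he' : AffAlg.algHom f g h hh = AffAlg.algHom f g h' hh' := congrArg Subtype.val he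
    apply Subtype.ext
    refine Scheme.Cover.hom_ext 𝒰 _ _ fun W => ?_
    change (g ⁻¹ᵁ W.1).ι ≫ h = (g ⁻¹ᵁ W.1).ι ≫ h'
    rw [ι_comp_eq_piece f g h hh W, ι_comp_eq_piece f g h' hh' W, ← algHom_app f g h hh,
      ← algHom_app f g h' hh', he']
  · intro a
    obtain ⟨ω, hω⟩ := a
    let m : ∀ W : S.affineOpens, (g ⁻¹ᵁ W.1).toScheme ⟶ X := fun W =>
      piece f g W (ω.app (Opposite.op W.1))
    have hglue : ∀ W₁ W₂ : S.affineOpens,
        pullback.fst (𝒰.f W₁) (𝒰.f W₂) ≫ m W₁ = pullback.snd (𝒰.f W₁) (𝒰.f W₂) ≫ m W₂ :=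
      fun W₁ W₂ => pieces_compatible g m (piece_restrict f g ω) W₁ W₂
    let h := 𝒰.glueMorphisms m hglue
    have hι : ∀ W : S.affineOpens, (g ⁻¹ᵁ W.1).ι ≫ h = m W :=
      fun W => 𝒰.ι_glueMorphisms m hglue W
    have hh : h ≫ f = g := Scheme.Cover.hom_ext 𝒰 _ _ fun W => by
      change (g ⁻¹ᵁ W.1).ι ≫ h ≫ f = (g ⁻¹ᵁ W.1).ι ≫ g
      rw [← Category.assoc, hι, piece_comp f g ω hω]
    refine ⟨⟨h, hh⟩, Subtype.ext ?_⟩
    have haff : ∀ W : S.affineOpens,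
        (AffAlg.algHom f g h hh).app (Opposite.op W.1) = ω.app (Opposite.op W.1) := by
      intro W
      apply piece_injective f g W
      rw [algHom_app f g h hh, ← ι_comp_eq_piece f g h hh W]
      exact hι W
    apply NatTrans.ext
    funext ⟨V⟩
    ext s
    refine Y.sheaf.eq_of_locally_eq'
      (fun W : {W : S.affineOpens // W.1 ≤ V} => g ⁻¹ᵁ W.1.1) (g ⁻¹ᵁ V)
      (fun W => homOfLE (g.preimage_mono W.2)) ?_ _ _ fun W => ?_
    · intro y hy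
      obtain ⟨_, ⟨W, hW, rfl⟩, hyW, hle⟩ :=
        S.isBasis_affineOpens.exists_subset_of_mem_open (show g y ∈ V from hy) V.isOpen
      exact TopologicalSpace.Opens.mem_iSup.2 ⟨⟨⟨W, hW⟩, hle⟩, hyW⟩
    · have n1 := (AffAlg.algHom f g h hh).naturality (homOfLE W.2).op
      have n2 := ω.naturality (homOfLE W.2).op
      exact (congr($(n1.symm) s)).trans ((congr($(haff W.1) _)).trans (congr($(n2) s)))


end Groth.Agent.S3569
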