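import Groth.Statements.S3570
import Groth.Agent.Pinch.Lift
import Groth.Prelude.Def_AffAlg

set_option autoImplicit false
universe u
open CategoryTheory CategoryTheory.Limits AlgebraicGeometry
open EGA2

open CategoryTheory Limits AlgebraicGeometry Groth.Agent
set_option backward.isDefEq.respectTransparency false
namespace Groth.Agent.S3570

/-- Let f : X → S and g : Y → S be affine morphisms and h : Y → X an S-morphism. Then h is an
isomorphism if and only if A(h) : f_*O_X → g_*O_Y is an isomorphism (of presheaves of rings on S). -/
theorem result {X Y S : Scheme.{u}} (f : X ⟶ S) [IsAffineHom f] (g : Y ⟶ S)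
    [IsAffineHom g] (h : Y ⟶ X) (w : h ≫ f = g) :
    IsIso h ↔ IsIso (AffAlg.algHom f g h w) := by
  subst w
  constructor
  · intro _
    simp only [AffAlg.algHom, eqToHom_refl, Category.comp_id]
    infer_instance
  · intro hiso
    refine Pinch.isIso_of_pieces h (fun U : S.affineOpens => f ⁻¹ᵁ U.1) ?_ (fun U => U.2.preimage f)
      (fun U => by rw [← Scheme.Hom.comp_preimage]; exact U.2.preimage (h ≫ f)) fun U => ?_
    · rw [← Scheme.Hom.preimage_iSup, iSup_affineOpens_eq_top]; rfl
    · have := NatIso.isIso_app_of_isIso (AffAlg.algHom f (h ≫ f) h rfl) (Opposite.op U.1)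
      simp only [AffAlg.algHom, eqToHom_refl, Category.comp_id] at this
      exact this

end Groth.Agent.S3570
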