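import Groth.Statements.S3576
import Groth.Agent.PConeLib.Fibre

set_option autoImplicit false
set_option backward.isDefEq.respectTransparency false
set_option backward.isDefEq.respectTransparency.types false
set_option maxHeartbeats 1000000
universe u
open CategoryTheory CategoryTheory.Limits AlgebraicGeometry TopologicalSpace
open EGA2
open HomogeneousLocalization

namespace Groth.Agent.S3576

/-- Over an affine base Spec R: let S be a graded R-algebra whose irrelevant ideal is generated by its
degree-one elements, E the pointed affine cone of S and π : E → X = Proj S the canonical retraction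
(the morphism restricting on each chart D(f), f homogeneous of positive degree, to Spec S_f → Spec
S_(f) → Proj S). Then π is of finite type, and for every point x of X the fibre of π at x is
isomorphic over the residue field κ(x) to Spec κ(x)[T, T⁻¹]. -/
theorem result {R A : Type u} [CommRing R] [CommRing A] [Algebra R A] (𝒜 : ℕ → Submodule R A) [GradedAlgebra 𝒜]
    (hgen : (HomogeneousIdeal.irrelevant 𝒜).toIdeal = Ideal.span (𝒜 1 : Set A))
    (π : (Cone.pointed 𝒜 : Scheme.{u}) ⟶ Proj 𝒜)
    (hπ : ∀ (d : ℕ) (f : A) (hd : 0 < d) (hf : f ∈ 𝒜 d),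
        Cone.chart hf hd ≫ π =
          Spec.map (CommRingCat.ofHom (algebraMap (HomogeneousLocalization.Away 𝒜 f) (Localization.Away f))) ≫
            Proj.awayι 𝒜 f hf hd)
    (x : Proj 𝒜) :
    LocallyOfFiniteType π ∧ QuasiCompact π ∧
      ∃ e : pullback π ((Proj 𝒜).fromSpecResidueField x) ≅
          Spec (CommRingCat.of (LaurentPolynomial ((Proj 𝒜).residueField x))),
        e.hom ≫ Spec.map (CommRingCat.ofHom (algebraMap ((Proj 𝒜).residueField x)
          (LaurentPolynomial ((Proj 𝒜).residueField x)))) = pullback.snd π ((Proj 𝒜).fromSpecResidueField x) := by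
  classical
  have key : ∀ (f : A) (hf : f ∈ 𝒜 1), ∃ p : Spec (CommRingCat.of (LaurentPolynomial (Away 𝒜 f))) ⟶ (Cone.pointed 𝒜 : Scheme.{u}),
      IsPullback p (Spec.map (CommRingCat.ofHom (algebraMap (Away 𝒜 f) (LaurentPolynomial (Away 𝒜 f))))) π
        (Proj.awayι 𝒜 f hf Nat.one_pos) := by
    intro f hf
    obtain ⟨ψ, hψ⟩ := PConeLib.exists_laurentEquiv (𝒜 := 𝒜) hf
    haveI := PConeLib.isOpenImmersion_cone_chart hf Nat.one_pos
    have sq : IsPullback (Spec.map (CommRingCat.ofHom (algebraMap (Away 𝒜 f) (Localization.Away f))))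
        (Cone.chart hf Nat.one_pos) (Proj.awayι 𝒜 f hf Nat.one_pos) π := by
      refine IsOpenImmersion.isPullback _ _ _ _ (hπ 1 f Nat.one_pos hf) ?_
      rw [Proj.opensRange_awayι, PConeLib.cone_preimage_basicOpen hπ Nat.one_pos hf]
      ext z
      exact (PConeLib.mem_range_cone_chart hf Nat.one_pos z).symm
    let I : Spec (CommRingCat.of (LaurentPolynomial (Away 𝒜 f))) ≅ Spec (CommRingCat.of (Localization.Away f)) :=
      Scheme.Spec.mapIso ψ.toCommRingCatIso.symm.op
    refine ⟨I.hom ≫ Cone.chart hf Nat.one_pos, ?_⟩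
    refine IsPullback.of_iso sq.flip I.symm (Iso.refl _) (Iso.refl _) (Iso.refl _) ?_ ?_ (by simp) (by simp)
    · simp
    · rw [Iso.refl_hom, Category.comp_id]
      change _ = Spec.map _ ≫ Spec.map _
      rw [← Spec.map_comp]
      congr 1
      exact CommRingCat.hom_ext (RingHom.ext fun c => (hψ c).symm)
  obtain ⟨h1, h2⟩ := PConeLib.finiteType_of_charts hgen π (fun f => LaurentPolynomial (Away 𝒜 f)) key
  refine ⟨h1, h2, ?_⟩
  obtain ⟨f, hf, hx⟩ := PConeLib.exists_degOne_mem hgen x
  obtain ⟨p, hp⟩ := key f hf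
  rw [← Proj.opensRange_awayι 𝒜 f hf Nat.one_pos] at hx
  exact PConeLib.exists_fibre_iso π _ _ _ p hp x hx _ fun _ => ⟨AddMonoidAlgebra.scalarTensorEquiv (Away 𝒜 f) _⟩

end Groth.Agent.S3576
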