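import Groth.Statements.S3578
import Mathlib.RingTheory.GradedAlgebra.Basic


set_option autoImplicit false
set_option linter.style.haveILetI false

universe u
open EGA2

namespace Groth.Agent.S3578

/-- Via the correspondence between closed subsets of Proj S and radical graded ideals of S_+: let S be a
graded ring and Z a closed subset of Proj S, with J = S_+ ∩ (vanishing ideal of Z). Then Z is
irreducible if and only if J is a prime ideal of the ring-without-unit S_+: J ≠ S_+ and a product of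
two elements of S_+ lies in J only if one factor does. -/
theorem result {R A : Type u} [CommRing R] [CommRing A] [Algebra R A] (𝒜 : ℕ → Submodule R A) [GradedAlgebra 𝒜]
    (Z : Set (ProjectiveSpectrum 𝒜)) (hZ : IsClosed Z) :
    IsIrreducible Z ↔
      (¬ (HomogeneousIdeal.irrelevant 𝒜).toIdeal ≤ (ProjectiveSpectrum.vanishingIdeal Z).toIdeal ∧
        ∀ f ∈ (HomogeneousIdeal.irrelevant 𝒜).toIdeal, ∀ g ∈ (HomogeneousIdeal.irrelevant 𝒜).toIdeal,
          f * g ∈ (ProjectiveSpectrum.vanishingIdeal Z).toIdeal →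
            f ∈ (ProjectiveSpectrum.vanishingIdeal Z).toIdeal ∨ g ∈ (ProjectiveSpectrum.vanishingIdeal Z).toIdeal) := by
  classical
  constructor
  · rintro ⟨⟨x, hx⟩, hirr⟩
    refine ⟨fun h => x.not_irrelevant_le ?_, fun f _ g _ hfg => ?_⟩
    · intro a ha
      exact (ProjectiveSpectrum.mem_vanishingIdeal Z a).1 (h ha) x hx
    · have hsub : Z ⊆ ProjectiveSpectrum.zeroLocus 𝒜 {f} ∪ ProjectiveSpectrum.zeroLocus 𝒜 {g} := fun y hy => by
        rcases y.isPrime.mem_or_mem ((ProjectiveSpectrum.mem_vanishingIdeal Z _).1 hfg y hy) with h | h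
        · exact Or.inl (by simpa using h)
        · exact Or.inr (by simpa using h)
      rcases isPreirreducible_iff_isClosed_union_isClosed.1 hirr _ _
        (ProjectiveSpectrum.isClosed_zeroLocus 𝒜 _) (ProjectiveSpectrum.isClosed_zeroLocus 𝒜 _) hsub with h | h
      · exact Or.inl ((ProjectiveSpectrum.mem_vanishingIdeal Z f).2 fun y hy => by simpa using h hy)
      · exact Or.inr ((ProjectiveSpectrum.mem_vanishingIdeal Z g).2 fun y hy => by simpa using h hy)
  · rintro ⟨hne, hmul⟩
    refine ⟨?_, isPreirreducible_iff_isClosed_union_isClosed.2 fun Z₁ Z₂ h₁ h₂ hsub => ?_⟩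
    · by_contra he
      exact hne fun a _ => (ProjectiveSpectrum.mem_vanishingIdeal Z a).2 fun y hy => absurd ⟨y, hy⟩ he
    · by_contra hc
      rw [not_or, Set.not_subset, Set.not_subset] at hc
      obtain ⟨⟨x, hx, hx₁⟩, ⟨y, hy, hy₂⟩⟩ := hc
      have sep : ∀ (Z' : Set (ProjectiveSpectrum 𝒜)) (z : ProjectiveSpectrum 𝒜), IsClosed Z' → z ∉ Z' →
          ∃ f ∈ (HomogeneousIdeal.irrelevant 𝒜).toIdeal, f ∉ z.asHomogeneousIdeal.toIdeal ∧
            ∀ w ∈ Z', f ∈ w.asHomogeneousIdeal.toIdeal := by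
        intro Z' z hZ' hz
        obtain ⟨s, rfl⟩ := (ProjectiveSpectrum.isClosed_iff_zeroLocus 𝒜 _).1 hZ'
        rw [ProjectiveSpectrum.mem_zeroLocus, Set.not_subset] at hz
        obtain ⟨f, hfs, hf⟩ := hz
        obtain ⟨h, hh, hhz⟩ := SetLike.not_le_iff_exists.1 z.not_irrelevant_le
        exact ⟨f * h, Ideal.mul_mem_left _ f hh, fun hm => (z.isPrime.mem_or_mem hm).elim hf hhz,
          fun w hw => Ideal.mul_mem_right _ _ (hw hfs)⟩
      obtain ⟨f, hf, hfx, hf₁⟩ := sep Z₁ x h₁ hx₁
      obtain ⟨g, hg, hgy, hg₂⟩ := sep Z₂ y h₂ hy₂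
      have hfg : f * g ∈ (ProjectiveSpectrum.vanishingIdeal Z).toIdeal :=
        (ProjectiveSpectrum.mem_vanishingIdeal Z _).2 fun w hw => by
          rcases hsub hw with h | h
          · exact Ideal.mul_mem_right _ _ (hf₁ w h)
          · exact Ideal.mul_mem_left _ _ (hg₂ w h)
      rcases hmul f hf g hg hfg with h | h
      · exact hfx ((ProjectiveSpectrum.mem_vanishingIdeal Z f).1 h x hx)
      · exact hgy ((ProjectiveSpectrum.mem_vanishingIdeal Z g).1 h y hy)

end Groth.Agent.S3578
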