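import Groth.Statements.S3579
import Groth.Agent.S4402
import Groth.Agent.GrT.TwistTensor
import Groth.Agent.SerrePn.HomTwist

set_option autoImplicit false
universe u
open CategoryTheory CategoryTheory.Limits AlgebraicGeometry
open EGA2

open Groth.Agent
set_option backward.isDefEq.respectTransparency false
namespace Groth.Agent.S3579

/-- Let S be a graded ring whose irrelevant ideal S_+ is generated by finitely many elements of degree
one, X = Proj S, and let F be an O_X-module that is quasi-coherent and of finite type. Then for some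
n₀ and all n ≥ n₀, the twist F(n) = F ⊗ O_X(n) is a quotient of a finite free module O_X^k (k
depending on n); in particular F(n) is generated by finitely many global sections. -/
theorem result {R A : Type u} [CommRing R] [CommRing A] [Algebra R A] (𝒜 : ℕ → Submodule R A) [GradedAlgebra 𝒜]
    (s : Finset A) (hs1 : ∀ f ∈ s, f ∈ 𝒜 1)
    (hs : (HomogeneousIdeal.irrelevant 𝒜).toIdeal = Ideal.span (s : Set A))
    (F : (Proj 𝒜).Modules) (hF : Coh.IsQCoh F) (hFT : CohB1.IsFT F) :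
    ∃ n₀ : ℕ, ∀ n : ℕ, n₀ ≤ n →
      ∃ (k : ℕ) (p : FlatMod.freeMod (Proj 𝒜) k ⟶ Twist.twistBy 𝒜 F (n : ℤ)), Epi p := by
  obtain ⟨n₀, h⟩ := S4402.result 𝒜 s hs1 hs F hF hFT
  have hcov : ∀ x : ProjectiveSpectrum 𝒜, ∃ f ∈ 𝒜 1, f ∉ x.asHomogeneousIdeal := fun x => by
    by_contra h
    push Not at h
    exact x.not_irrelevant_le
      (show (HomogeneousIdeal.irrelevant 𝒜).toIdeal ≤ x.asHomogeneousIdeal.toIdeal from
        hs ▸ Ideal.span_le.mpr fun f hf => h f (hs1 f hf))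
  refine ⟨n₀, fun n hn => ?_⟩
  obtain ⟨k, p, hp⟩ := h n hn
  obtain ⟨z⟩ := GrT.nonempty_twist_zero_iso (𝒜 := 𝒜)
  obtain ⟨a⟩ := GrT.nonempty_tensor_iso (a := -(n : ℤ)) (b := (n : ℤ)) (c := 0) 𝒜 hcov (by omega)
  obtain ⟨b⟩ := GrT.nonempty_tensor_iso (a := (n : ℤ)) (b := -(n : ℤ)) (c := 0) 𝒜 hcov (by omega)
  let θ : CohB1.tensorMod (Twist.twist 𝒜 (-(n : ℤ))) (Twist.twist 𝒜 (n : ℤ)) ≅
      Coh.structureModule (Proj 𝒜) := a ≪≫ z
  let θ' : CohB1.tensorMod (Twist.twist 𝒜 (n : ℤ)) (Twist.twist 𝒜 (-(n : ℤ))) ≅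
      Coh.structureModule (Proj 𝒜) := b ≪≫ z
  let T := SerrePn.tens (Twist.twist 𝒜 (n : ℤ))
  haveI : T.IsEquivalence := (SerrePn.tensEquiv θ' θ).isEquivalence_functor
  let c : FlatMod.freeMod (Proj 𝒜) k ≅ T.obj (∐ fun _ : Fin k => Twist.twist 𝒜 (-(n : ℤ))) :=
    Sigma.mapIso (fun _ : Fin k => θ.symm) ≪≫
      (PreservesCoproduct.iso T (fun _ : Fin k => Twist.twist 𝒜 (-(n : ℤ)))).symm
  exact ⟨k, c.hom ≫ T.map p, epi_comp _ _⟩

end Groth.Agent.S3579
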