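import Groth.Statements.S3583
import Mathlib

set_option linter.style.haveILetI false

set_option autoImplicit false
universe u
open CategoryTheory AlgebraicGeometry Opposite
open EGA2

namespace Groth.Agent.S3583

/-- In the form stated after its proof: let f : X → S and f' : X' → S be affine morphisms and h : X' → X
an S-morphism such that the O_S-algebra homomorphism A(h) : f_*O_X → f'_*O_{X'} is surjective (as a
map of quasi-coherent O_S-modules, i.e. on sections over every affine open of S). Then h is a closed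
immersion. -/
theorem result {X X' S : Scheme.{u}} (f : X ⟶ S) [IsAffineHom f]
    (f' : X' ⟶ S) [IsAffineHom f'] (h : X' ⟶ X) (w : h ≫ f = f')
    (hsurj : ∀ U : S.affineOpens, Function.Surjective ((AffAlg.algHom f f' h w).app (op U.1)).hom) :
    IsClosedImmersion h := by
  subst w
  refine IsZariskiLocalAtTarget.of_iSup_eq_top (fun U : S.affineOpens => f ⁻¹ᵁ U.1)
    (by rw [← Scheme.Hom.preimage_iSup, iSup_affineOpens_eq_top, Scheme.Hom.preimage_top]) fun U => ?_
  haveI : IsAffine (f ⁻¹ᵁ U.1 : Scheme) := U.2.preimage f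
  haveI : IsAffine (h ⁻¹ᵁ (f ⁻¹ᵁ U.1) : Scheme) := U.2.preimage (h ≫ f)
  refine IsClosedImmersion.of_surjective_of_isAffine _ ?_
  have hs : Function.Surjective (h.app (f ⁻¹ᵁ U.1)).hom := by
    intro b
    obtain ⟨a, ha⟩ := hsurj U b
    exact ⟨a, ha⟩
  have hW : ∀ W : X.Opens, W = f ⁻¹ᵁ U.1 → Function.Surjective (h.app W).hom := by rintro W rfl; exact hs
  rw [Scheme.Hom.appTop, morphismRestrict_app]
  exact (ConcreteCategory.bijective_of_isIso (X'.presheaf.map
    (eqToHom (image_morphismRestrict_preimage h (f ⁻¹ᵁ U.1) ⊤)).op)).2.comp (hW _ (by simp))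

end Groth.Agent.S3583
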