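import Groth.Statements.S3585
import Groth.Agent.S3564
import Groth.Agent.QProjRows.Basic
import Groth.Agent.ProjOverIso.Basic
import Groth.Agent.RelProjLib.ProjMap

set_option autoImplicit false
universe u
open CategoryTheory CategoryTheory.Limits AlgebraicGeometry
open EGA2

namespace Groth.Agent.S3585

/-- Let A be a ring and f : X → Spec A a proper morphism, and suppose X carries an invertible O_X-module
which is ample relative to f (so f is quasi-projective). Then f is projective: X is isomorphic over
Spec A to Proj S for some graded A-algebra S whose degree-zero part is the image of A and whose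
irrelevant ideal is generated by finitely many elements of degree one. -/
theorem result {A : Type u} [CommRing A] {X : Scheme.{u}}
    (f : X ⟶ Spec (CommRingCat.of A)) [IsProper f]
    (L : X.Modules) (hL : PicF.IsInvertible L) (hamp : RelAmple.IsRelAmple f L) :
    ∃ (S : Type u) (_ : CommRing S) (_ : Algebra A S) (𝒮 : ℕ → Submodule A S) (_ : GradedAlgebra 𝒮) (s : Finset S),
      Function.Surjective (algebraMap A (𝒮 0)) ∧ (∀ g ∈ s, g ∈ 𝒮 1) ∧
      (HomogeneousIdeal.irrelevant 𝒮).toIdeal = Ideal.span (s : Set S) ∧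
      ∃ e : X ≅ Proj 𝒮, e.hom ≫ Proj.toSpecZero 𝒮 ≫ Spec.map (CommRingCat.ofHom (algebraMap A (𝒮 0))) = f := by
  classical
  obtain ⟨n, j, hj, hjf⟩ := (Groth.Agent.QProjRows.closedImmersion_iff f (Groth.Agent.QProjRows.exists_isAmple_Spec A)).2
    ⟨inferInstance, L, (TMul.isRelAmple_iff_isAmple (f := f)).1 hamp⟩
  obtain ⟨e₀, he₀⟩ := Groth.Agent.ProjOverIso.exists_iso n A
  let i : X ⟶ Proj (CohB1.polyGrading n A) := j ≫ e₀.hom
  haveI : IsClosedImmersion i := by
    haveI := hj
    exact inferInstanceAs (IsClosedImmersion (j ≫ e₀.hom))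
  let s : Finset (MvPolynomial (Fin (n + 1)) A) := Finset.univ.image MvPolynomial.X
  have hs1 : ∀ g ∈ s, g ∈ CohB1.polyGrading n A 1 := fun g hg => by
    obtain ⟨k, -, rfl⟩ := Finset.mem_image.1 hg
    exact MvPolynomial.isHomogeneous_X A k
  have hs : (HomogeneousIdeal.irrelevant (CohB1.polyGrading n A)).toIdeal =
      Ideal.span (s : Set (MvPolynomial (Fin (n + 1)) A)) := by
    refine le_antisymm ?_ (Ideal.span_le.2 fun g hg => HomogeneousIdeal.mem_irrelevant_of_mem _ one_pos (hs1 g hg))
    rw [HomogeneousIdeal.irrelevant_eq_span, Ideal.span_le]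
    intro p hp
    obtain ⟨d, hp⟩ := Set.mem_iUnion.1 hp
    simp only [Set.mem_iUnion] at hp
    obtain ⟨hd, hp⟩ := hp
    rw [SetLike.mem_coe, p.as_sum]
    refine sum_mem fun m hm => ?_
    obtain ⟨k, hk⟩ : ∃ k, m k ≠ 0 := by
      by_contra! h
      have := hp (MvPolynomial.mem_support_iff.1 hm)
      rw [show m = 0 from Finsupp.ext h] at this
      simp at this
      omega
    rw [show MvPolynomial.monomial m (MvPolynomial.coeff m p) =
        MvPolynomial.monomial (m - Finsupp.single k 1) (MvPolynomial.coeff m p) * MvPolynomial.X k by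
      rw [MvPolynomial.X, MvPolynomial.monomial_mul, mul_one, tsub_add_cancel_of_le]
      exact Finsupp.single_le_iff.2 (Nat.one_le_iff_ne_zero.2 hk)]
    exact Ideal.mul_mem_left _ _ (Ideal.subset_span (Finset.mem_image_of_mem _ (Finset.mem_univ k)))
  let φ := Groth.Agent.S3564.φ (CohB1.polyGrading n A) i s hs1
  have hφs : Function.Surjective φ := Groth.Agent.S3564.φ_surjective (CohB1.polyGrading n A) i s hs1
  have hφ := ProjLib.irrelevant_le_map_of_surjective (CohB1.polyGrading n A) φ hφs
  haveI := ProjLib.isClosedImmersion_map (CohB1.polyGrading n A) φ hφ hφs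
  have hker := Groth.Agent.S3564.ker_map_eq (CohB1.polyGrading n A) i s hs1 hs hφ
  haveI := IsClosedImmersion.isIso_lift (Proj.map φ hφ) i hker
  refine ⟨_, inferInstance, inferInstance,
    GrQuot.quot (CohB1.polyGrading n A) (Groth.Agent.S3564.J (CohB1.polyGrading n A) i s hs1),
    inferInstance, s.image φ, ?_, ?_, ?_, asIso (IsClosedImmersion.lift (Proj.map φ hφ) i hker.le), ?_⟩
  · intro y
    obtain ⟨x, hx⟩ := hφs (y : _)
    have h1 : φ (MvPolynomial.C (MvPolynomial.coeff 0 x)) = (y : _) := by
      have h2 := φ.map_directSumDecompose (x := x) (i := 0)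
      rw [hx, DirectSum.decompose_of_mem_same _ y.2] at h2
      rw [← h2]
      congr 1
      refine (MvPolynomial.homogeneousComponent_zero x).symm.trans ?_
      exact (MvPolynomial.decomposition.decompose'_apply (R := A) (σ := Fin (n + 1)) _ _).symm
    exact ⟨MvPolynomial.coeff 0 x, Subtype.ext h1⟩
  · intro g hg
    obtain ⟨a, ha, rfl⟩ := Finset.mem_image.1 hg
    exact φ.map_mem (hs1 a ha)
  · refine le_antisymm (fun x hx => (?_ : _ ≤ Ideal.span _) (hφ hx)) (Ideal.span_le.2 fun g hg => ?_)
    · show Ideal.map φ _ ≤ _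
      rw [hs, Ideal.map_span]
      simp [s, Finset.coe_image]
    · obtain ⟨a, ha, rfl⟩ := Finset.mem_image.1 hg
      exact HomogeneousIdeal.mem_irrelevant_of_mem _ one_pos (φ.map_mem (hs1 a ha))
  · have h1 := IsClosedImmersion.lift_fac (Proj.map φ hφ) i hker.le
    have h2 : Proj.map φ hφ ≫ CohB1.ProjSpace.toSpec n A =
        Proj.toSpecZero (GrQuot.quot (CohB1.polyGrading n A)
          (Groth.Agent.S3564.J (CohB1.polyGrading n A) i s hs1)) ≫
          Spec.map (CommRingCat.ofHom (algebraMap A _)) := by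
      rw [CohB1.ProjSpace.toSpec]
      exact (Groth.Agent.RelProjLib.map_toSpecZero_assoc φ hφ _).trans (by rw [← Spec.map_comp]; rfl)
    rw [asIso_hom, ← h2]
    refine (Category.assoc _ _ _).symm.trans ((congrArg (· ≫ CohB1.ProjSpace.toSpec n A) h1).trans ?_)
    exact (Category.assoc _ _ _).trans ((congrArg (j ≫ ·) he₀).trans hjf)

end Groth.Agent.S3585
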