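import Groth.Statements.S3589
import Groth.Agent.ProjMor.Sym
import Groth.Agent.ProjMor.Over

set_option autoImplicit false
set_option backward.isDefEq.respectTransparency false
set_option backward.isDefEq.respectTransparency.types false
set_option maxHeartbeats 1000000
universe u
open CategoryTheory CategoryTheory.Limits AlgebraicGeometry TopologicalSpace Opposite
open EGA2
open Groth.Agent.QC (res resO res_res res_smul resO_resO res_self)
open TMul (IsGen homOf)

namespace Groth.Agent.S3589

/-- Two generated invertible modules on an affine scheme with the same relations between generators. -/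
theorem exists_iso_of_relations {X : Scheme.{u}} [IsAffine X] {L L' : X.Modules}
    (hL : PicF.IsInvertible L) (hL' : PicF.IsInvertible L') {m : ℕ} (t : Fin m → Γ(L, ⊤)) (t' : Fin m → Γ(L', ⊤))
    (ht : ProjUP.GeneratedBy L t) (ht' : ProjUP.GeneratedBy L' t')
    (h : ∀ c : Fin m → Γ(X, ⊤), ∑ i, c i • t i = 0 → ∑ i, c i • t' i = 0) :
    ∃ τ : L ≅ L', ∀ i, τ.hom.app ⊤ (t i) = t' i := by
  classical
  choose i hi using fun x : X => ProjMor.exists_mem_genLocus hL t ht x
  choose f hfle hxf using fun x : X =>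
    (isAffineOpen_top X).exists_basicOpen_le (V := CohB1.genLocus L (homOf (t (i x)))) ⟨x, hi x⟩ trivial
  have he : ∀ x, IsGen (res L (le_top : X.basicOpen (f x) ≤ ⊤) (t (i x))) := fun x => by
    have := (ProjMor.isGen_homOf (t (i x))).res (hfle x)
    rwa [res_res] at this
  have hcoef : ∀ (x : X) (j : Fin m), ∃ c : Γ(X, X.basicOpen (f x)),
      res L (le_top : X.basicOpen (f x) ≤ ⊤) (t j) = c • res L (le_top : X.basicOpen (f x) ≤ ⊤) (t (i x)) ∧
      res L' (le_top : X.basicOpen (f x) ≤ ⊤) (t' j) = c • res L' (le_top : X.basicOpen (f x) ≤ ⊤) (t' (i x)) := by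
    intro x j
    obtain ⟨c, hc⟩ := (he x _ le_rfl).2 (res L le_top (t j))
    simp only [res_self] at hc
    refine ⟨c, hc.symm, ?_⟩
    haveI := (isAffineOpen_top X).isLocalization_basicOpen (f x)
    obtain ⟨⟨a, ⟨_, k, rfl⟩⟩, ha⟩ := IsLocalization.surj (Submonoid.powers (f x)) c
    change c * algebraMap Γ(X, ⊤) Γ(X, X.basicOpen (f x)) (f x ^ k) = algebraMap Γ(X, ⊤) Γ(X, X.basicOpen (f x)) a at ha
    have halg : ∀ z : Γ(X, ⊤), algebraMap Γ(X, ⊤) Γ(X, X.basicOpen (f x)) z =
        resO X (le_top : X.basicOpen (f x) ≤ ⊤) z := fun z => rfl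
    rw [halg, halg] at ha
    have hz : res L (X.basicOpen_le (f x)) (f x ^ k • t j - a • t (i x)) = 0 := by
      rw [map_sub, res_smul, res_smul, sub_eq_zero, ← hc, smul_smul, _root_.mul_comm]
      exact congrArg (fun z : Γ(X, X.basicOpen (f x)) => z • res L le_top (t (i x))) ha
    haveI : L.IsQuasicoherent := TMul.isQCoh_of_isInvertible hL
    obtain ⟨l, hl⟩ := (Groth.Agent.QC.isLoc_of_isQCoh (isAffineOpen_top X) (M := L)).exists_pow_smul_eq_zero _ _ hz
    let v : Fin m → Γ(X, ⊤) := Pi.single j (f x ^ (l + k)) - Pi.single (i x) (f x ^ l * a)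
    have hsum : ∀ (M : X.Modules) (s : Fin m → Γ(M, ⊤)),
        ∑ q, v q • s q = f x ^ l • (f x ^ k • s j - a • s (i x)) := by
      intro M s
      simp only [v, Pi.sub_apply, sub_smul, Finset.sum_sub_distrib, Pi.single_apply, ite_smul, zero_smul,
        Finset.sum_ite_eq', Finset.mem_univ, if_true, smul_sub, smul_smul, pow_add]
    have h' := congrArg (res L' (X.basicOpen_le (f x))) (h v ((hsum L t).trans hl))
    rw [hsum, res_smul, map_sub, res_smul, res_smul, map_zero] at h'
    have hu : IsUnit (resO X (X.basicOpen_le (f x)) (f x)) := IsLocalization.Away.algebraMap_isUnit (f x)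
    rw [map_pow] at h'
    have h'' := (hu.pow l).smul_left_cancel.1 (h'.trans (smul_zero _).symm)
    rw [sub_eq_zero, ← ha, _root_.mul_comm, mul_smul, map_pow] at h''
    exact (hu.pow k).smul_left_cancel.1 h''
  have hf : ∀ x, IsGen (res L' (le_top : X.basicOpen (f x) ≤ ⊤) (t' (i x))) := by
    intro x
    suffices hle : X.basicOpen (f x) ≤ CohB1.genLocus L' (homOf (t' (i x))) by
      have := (ProjMor.isGen_homOf (t' (i x))).res hle
      rwa [res_res] at this
    intro y hy
    obtain ⟨j, hj⟩ := ProjMor.exists_mem_genLocus hL' t' ht' y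
    obtain ⟨V, e, hyV, he'⟩ := TMul.exists_isGen hL' y
    let W := V ⊓ X.basicOpen (f x)
    have hg : IsGen (res L' (inf_le_left : W ≤ V) e) := he'.res _
    obtain ⟨a, ha⟩ := (hg W le_rfl).2 (res L' le_top (t' (i x)))
    simp only [res_res] at ha
    obtain ⟨c, -, hc⟩ := hcoef x j
    have hb := congrArg (res L' (inf_le_right : W ≤ X.basicOpen (f x))) hc
    rw [res_res, res_smul, res_res, ← ha, smul_smul] at hb
    refine (TMul.mem_genLocus_iff_isUnit _ hg ((TMul.val_homOf _ _).trans ha.symm) ⟨hyV, hy⟩).mpr ?_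
    have := (TMul.mem_genLocus_iff_isUnit _ hg ((TMul.val_homOf _ _).trans hb) ⟨hyV, hy⟩).mp hj
    rw [map_mul] at this
    exact isUnit_of_mul_isUnit_right this
  choose c hc hc' using hcoef
  let P : TMul.GenPair L L' X :=
    { U := fun x => X.basicOpen (f x)
      cover := fun x => ⟨x, hxf x⟩
      e := fun x => t (i x)
      f := fun x => t' (i x)
      he := he
      hf := hf
      hc := fun x y => ⟨resO X inf_le_left (c x (i y)), by
        constructor
        · have := congrArg (res L (inf_le_left : X.basicOpen (f x) ⊓ X.basicOpen (f y) ≤ _)) (hc x (i y))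
          rwa [res_res, res_smul, res_res] at this
        · have := congrArg (res L' (inf_le_left : X.basicOpen (f x) ⊓ X.basicOpen (f y) ≤ _)) (hc' x (i y))
          rwa [res_res, res_smul, res_res] at this⟩ }
  exact ⟨P.iso, fun j => P.iso_app_eq fun x => ⟨c x j, hc x j, hc' x j⟩⟩

/-- For E = O_Y^{n+1} over an affine base Y = Spec R (injectivity of the correspondence): a section s of
projective n-space over R is determined by the submodule F(s) of R^{n+1} formed by the R-linear
relations among the pulled-back coordinates s^*T_0, …, s^*T_n in the global sections of s^*O(1). -/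
theorem result {R : Type u} [CommRing R] (n : ℕ)
    (s₁ s₂ : Spec (CommRingCat.of R) ⟶ CohB1.ProjSpace n R)
    (h₁ : s₁ ≫ CohB1.ProjSpace.toSpec n R = 𝟙 _) (h₂ : s₂ ≫ CohB1.ProjSpace.toSpec n R = 𝟙 _)
    (h : ProjUP.secKernel n R s₁ = ProjUP.secKernel n R s₂) :
    s₁ = s₂ := by
  classical
  have gen : ∀ s : Spec (CommRingCat.of R) ⟶ CohB1.ProjSpace n R,
      ProjUP.GeneratedBy ((Scheme.Modules.pullback s).obj (Twist.twistProjSpace n R 1))
        (fun i => ProjUP.pullSec s (Twist.twistProjSpace n R 1) (ProjUP.coord n R i)) :=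
    fun s => ProjMor.generatedBy_of_mem_genLocus _ fun x => by
      obtain ⟨g, hg, hgx⟩ := ProjMor.exists_notMem (ProjMor.genDegOne_projSpace n R) (s x)
      obtain ⟨c, rfl⟩ := ProjMor.exists_of_mem_one (ProjMor.linForms_mem n R) (ProjMor.adjoin_linForms n R) hg
      obtain ⟨i, hi⟩ : ∃ i, (MvPolynomial.X i : MvPolynomial (Fin (n + 1)) R) ∉ (s x).asHomogeneousIdeal.toIdeal := by
        by_contra hno
        push Not at hno
        refine hgx ?_
        rw [ProjMor.linForms, Fintype.linearCombination_apply]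
        refine Ideal.sum_mem _ fun i _ => ?_
        rw [Algebra.smul_def]
        exact Ideal.mul_mem_left _ _ (hno i)
      have hX : (MvPolynomial.X i : MvPolynomial (Fin (n + 1)) R) ∈ CohB1.polyGrading n R 1 :=
        MvPolynomial.isHomogeneous_X R i
      refine ⟨i, ?_⟩
      exact (ProjMor.genLocus_pull1 (ProjMor.genDegOne_projSpace n R) s hX).ge hi
  let φ := (Scheme.ΓSpecIso (CommRingCat.of R)).inv.hom
  have key : ∀ (s : Spec (CommRingCat.of R) ⟶ CohB1.ProjSpace n R) (r : Fin (n + 1) → R),
      r ∈ ProjUP.secKernel n R s ↔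
        ∑ i, φ (r i) • ProjUP.pullSec s (Twist.twistProjSpace n R 1) (ProjUP.coord n R i) = 0 := fun s r => by
    letI : Module R (ProjUP.Γm ((Scheme.Modules.pullback s).obj (Twist.twistProjSpace n R 1))) :=
      Module.compHom _ φ
    change Fintype.linearCombination R
      (fun i => ProjUP.pullSec s (Twist.twistProjSpace n R 1) (ProjUP.coord n R i)) r = 0 ↔ _
    rw [Fintype.linearCombination_apply]
    rfl
  obtain ⟨τ, hτ⟩ := exists_iso_of_relations (ProjMor.isInvertible_pull1 (ProjMor.genDegOne_projSpace n R) s₁)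
    (ProjMor.isInvertible_pull1 (ProjMor.genDegOne_projSpace n R) s₂) _ _ (gen s₁) (gen s₂) fun c hc => by
      have hsurj : Function.Surjective φ := (ConcreteCategory.bijective_of_isIso (Scheme.ΓSpecIso (CommRingCat.of R)).inv).2
      choose r hr using fun i => hsurj (c i)
      simp only [← hr] at hc ⊢
      exact (key s₂ r).1 (h ▸ (key s₁ r).2 hc)
  exact ProjMor.eq_of_iso_projSpace s₁ s₂ (h₁.trans h₂.symm) τ hτ

end Groth.Agent.S3589
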