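import Groth.Statements.S3593
import Groth.Agent.PConeLib.Basic

set_option autoImplicit false
set_option backward.isDefEq.respectTransparency false
set_option backward.isDefEq.respectTransparency.types false
set_option maxHeartbeats 1000000
universe u
open CategoryTheory CategoryTheory.Limits AlgebraicGeometry TopologicalSpace
open EGA2
open HomogeneousLocalization

namespace Groth.Agent.S3593

/-- Evaluation at `z = 1`. -/
theorem exists_ev {A B : Type u} [CommRing A] [CommRing B] [Algebra A B] (z : B)
    (hhat : Function.Bijective (Polynomial.aeval (R := A) z)) :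
    ∃ ev : B →ₐ[A] A, ev z = 1 ∧ ∀ b, ∃ P : Polynomial A, Polynomial.aeval z P = b ∧ ev b = P.eval 1 := by
  let e := AlgEquiv.ofBijective (Polynomial.aeval (R := A) z) hhat
  refine ⟨(Polynomial.aeval (1 : A)).comp e.symm.toAlgHom, ?_, fun b => ⟨e.symm b, e.apply_symm_apply b, ?_⟩⟩
  · have : e.symm z = Polynomial.X := by
      rw [AlgEquiv.symm_apply_eq]; exact (Polynomial.aeval_X z).symm
    simp [this]
  · simp [Polynomial.coe_aeval_eq_eval]

variable {R A : Type u} [CommRing R] [CommRing A] [Algebra R A] {𝒜 : ℕ → Submodule R A} [GradedAlgebra 𝒜]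
  {B : Type u} [CommRing B] [Algebra R B] {ℬ : ℕ → Submodule R B} [GradedAlgebra ℬ] [Algebra A B]

/-- A homogeneous element of `A[z]` killed by `z ↦ 1` vanishes. -/
theorem eq_zero_of_ev (φ : 𝒜 →+*ᵍ ℬ) (hφ : ∀ a : A, φ a = algebraMap A B a) (z : B) (hz : z ∈ ℬ 1)
    (hhat : Function.Bijective (Polynomial.aeval (R := A) z)) {n : ℕ} {b : B} (hb : b ∈ ℬ n)
    (P : Polynomial A) (hP : Polynomial.aeval z P = b) (h0 : P.eval 1 = 0) : b = 0 := by
  classical
  let N := P.natDegree + 1
  let c : ℕ → A := fun i => if i ≤ n then (DirectSum.decompose 𝒜 (P.coeff i) (n - i) : A) else 0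
  have hb' : b = ∑ i ∈ Finset.range N, φ (P.coeff i) * z ^ i := by
    rw [← hP, Polynomial.aeval_eq_sum_range]
    exact Finset.sum_congr rfl fun i _ => by rw [Algebra.smul_def, hφ]
  have hpiece : ∀ i, (DirectSum.decompose ℬ (φ (P.coeff i) * z ^ i) n : B) = φ (c i) * z ^ i := by
    intro i
    have hzi : z ^ i ∈ ℬ i := by simpa using SetLike.pow_mem_graded i hz
    rw [DirectSum.coe_decompose_mul_of_right_mem (𝒜 := ℬ) n hzi]
    by_cases h : i ≤ n
    · rw [if_pos h]
      simp only [c, if_pos h]
      rw [GradedRingHom.map_directSumDecompose 𝒜 ℬ φ]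
    · rw [if_neg h]
      simp [c, if_neg h]
  let P' : Polynomial A := ∑ i ∈ Finset.range N, Polynomial.monomial i (c i)
  have hP' : Polynomial.aeval z P' = b := by
    rw [← DirectSum.decompose_of_mem_same ℬ hb]
    conv_rhs => rw [hb', DirectSum.decompose_sum, DFinsupp.finsetSum_apply, AddSubmonoidClass.coe_finsetSum]
    rw [map_sum]
    exact Finset.sum_congr rfl fun i _ => by
      rw [hpiece, Polynomial.aeval_monomial, hφ]
  have hPP : P = P' := hhat.1 (hP.trans hP'.symm)
  have hc : ∀ i ∈ Finset.range N, c i = 0 := by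
    intro i hi
    by_cases h : i ≤ n
    · have hsum : ∑ j ∈ Finset.range N, c j = 0 := by
        rw [← h0, hPP, Polynomial.eval_finset_sum]
        exact Finset.sum_congr rfl fun j _ => by simp
      have h1 := congrArg (GradedRing.proj 𝒜 (n - i)) hsum
      rw [map_sum, map_zero, Finset.sum_eq_single i] at h1
      · simp only [c, if_pos h, GradedRing.proj_apply, DirectSum.decompose_coe, DirectSum.of_eq_same] at h1
        simpa [c, if_pos h] using h1
      · intro j hj hji
        rw [GradedRing.proj_apply]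
        by_cases hjn : j ≤ n
        · simp only [c, if_pos hjn]
          exact DirectSum.decompose_of_mem_ne 𝒜 (SetLike.coe_mem _) (by omega)
        · simp [c, if_neg hjn]
      · exact fun hni => absurd hi hni
    · simp [c, if_neg h]
  rw [← hP', map_sum]
  exact Finset.sum_eq_zero fun i hi => by rw [hc i hi]; simp

/-- Let S be a graded R-algebra, Ŝ a graded R-algebra with a graded homomorphism φ : S → Ŝ making Ŝ an
S-algebra, and z an element of Ŝ of degree one such that the S-algebra map S[X] → Ŝ, X ↦ z, is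
bijective (so Ŝ = S[z] with z in degree one, the graded ring of the projective cone of S). Then
there is a ring isomorphism S ≅ Ŝ_(z) onto the degree-zero localization at z, sending a homogeneous
a of degree n to φ(a)/z^n. (This is the isomorphism that identifies the affine cone Spec S with the
open D_+(z) of the projective cone Proj Ŝ; that identification itself is not asserted here.) -/
theorem result {R A : Type u} [CommRing R] [CommRing A] [Algebra R A] (𝒜 : ℕ → Submodule R A) [GradedAlgebra 𝒜]
    {B : Type u} [CommRing B] [Algebra R B] (ℬ : ℕ → Submodule R B) [GradedAlgebra ℬ]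
    [Algebra A B] [IsScalarTower R A B] (φ : 𝒜 →+*ᵍ ℬ) (hφ : ∀ a : A, φ a = algebraMap A B a)
    (z : B) (hz : z ∈ ℬ 1) (hhat : Function.Bijective (Polynomial.aeval (R := A) z)) :
    ∃ θ : A ≃+* HomogeneousLocalization.Away ℬ z,
      ∀ (n : ℕ) (a : A), a ∈ 𝒜 n → (θ a).val = Localization.mk (φ a) ⟨z ^ n, pow_mem (Submonoid.mem_powers z) n⟩ := by
  classical
  obtain ⟨ev, hevz, hev⟩ := exists_ev z hhat
  have hevφ : ∀ a : A, ev (φ a) = a := fun a => by rw [hφ, AlgHom.commutes]; rfl
  let ρ₀ : Localization.Away z →+* A := Localization.awayLift ev.toRingHom z (by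
    rw [AlgHom.toRingHom_eq_coe, RingHom.coe_coe, hevz]; exact isUnit_one)
  let ρ : Away ℬ z →+* A := ρ₀.comp (algebraMap (Away ℬ z) (Localization.Away z))
  have hρ : ∀ (n : ℕ) (b : B) (hb : b ∈ ℬ (n • 1)), ρ (Away.mk ℬ hz n b hb) = ev b := fun n b hb => by
    change ρ₀ (Away.mk ℬ hz n b hb).val = _
    rw [Away.val_mk, Localization.mk_eq_mk']
    refine (IsLocalization.lift_mk'_spec _ _ _ _).2 ?_
    change ev b = ev (z ^ n) * ev b
    rw [map_pow, hevz, one_pow, one_mul]
  have hbij : Function.Bijective ρ := by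
    refine ⟨(injective_iff_map_eq_zero ρ).2 fun x hx => ?_, fun a => ?_⟩
    · obtain ⟨n, b, hb, rfl⟩ := Away.mk_surjective ℬ hz x
      rw [hρ] at hx
      obtain ⟨P, hP, hPev⟩ := hev b
      refine val_injective _ ?_
      rw [Away.val_mk, val_zero, eq_zero_of_ev φ hφ z hz hhat hb P hP (hPev.symm.trans hx), Localization.mk_zero]
    · rw [← DirectSum.sum_support_decompose 𝒜 a]
      refine ⟨∑ i ∈ (DirectSum.decompose 𝒜 a).support,
        Away.mk ℬ hz i (φ (DirectSum.decompose 𝒜 a i : A)) (by rw [smul_eq_mul, mul_one]; exact φ.2 (SetLike.coe_mem _)), ?_⟩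
      rw [map_sum]
      exact Finset.sum_congr rfl fun i _ => by rw [hρ, hevφ]
  refine ⟨(RingEquiv.ofBijective ρ hbij).symm, fun n a ha => ?_⟩
  have : (RingEquiv.ofBijective ρ hbij).symm a = Away.mk ℬ hz n (φ a) (by rw [smul_eq_mul, mul_one]; exact φ.2 ha) := by
    rw [RingEquiv.symm_apply_eq, RingEquiv.ofBijective_apply, hρ, hevφ]
  rw [this, Away.val_mk]

end Groth.Agent.S3593
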