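import Groth.Statements.S3594
import Groth.Agent.PConeLib.Basic

set_option autoImplicit false
set_option backward.isDefEq.respectTransparency false
set_option backward.isDefEq.respectTransparency.types false
set_option maxHeartbeats 1000000
universe u
open CategoryTheory CategoryTheory.Limits AlgebraicGeometry TopologicalSpace
open EGA2
open HomogeneousLocalization

namespace Groth.Agent.S3594

/-- The closed immersion at infinity of a projective cone: let S be a graded R-algebra and Ŝ a graded
R-algebra over S such that the structure map φ : S → Ŝ is a graded homomorphism and Ŝ = S[z] is the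
polynomial algebra on an element z of degree one (evaluation at z is a bijection S[T] → Ŝ); let ψ :
Ŝ → S be a graded homomorphism retracting φ and killing z, with S₊ contained in the ideal generated
by ψ(Ŝ₊) so that j = Proj(ψ) : X = Proj S → Ĉ = Proj Ŝ is defined (it is the canonical closed
immersion). Then the image of j is exactly the complement of the open subset D₊(z) of Proj Ŝ (which
is the affine cone C = Spec S). -/
theorem result {R A : Type u} [CommRing R] [CommRing A] [Algebra R A] (𝒜 : ℕ → Submodule R A) [GradedAlgebra 𝒜]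
    {B : Type u} [CommRing B] [Algebra R B] (ℬ : ℕ → Submodule R B) [GradedAlgebra ℬ]
    [Algebra A B] [IsScalarTower R A B] (φ : 𝒜 →+*ᵍ ℬ) (hφ : ∀ a : A, φ a = algebraMap A B a)
    (z : B) (hz : z ∈ ℬ 1) (hhat : Function.Bijective (Polynomial.aeval (R := A) z))
    (ψ : ℬ →+*ᵍ 𝒜) (hψφ : ∀ a : A, ψ (φ a) = a) (hψz : ψ z = 0)
    (hψ : HomogeneousIdeal.irrelevant 𝒜 ≤ (HomogeneousIdeal.irrelevant ℬ).map ψ) :
    Set.range (Proj.map ψ hψ).base = ((Proj.basicOpen ℬ z : Set (Proj ℬ)))ᶜ := by
  have hdec : ∀ b : B, φ (ψ b) - b ∈ Ideal.span {z} := fun b => by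
    obtain ⟨P, rfl⟩ := hhat.2 b
    induction P using Polynomial.induction_on with
    | C a => rw [Polynomial.aeval_C, ← hφ, hψφ, sub_self]; exact Ideal.zero_mem _
    | add p q hp hq =>
      rw [map_add, map_add, map_add]
      have := Ideal.add_mem _ hp hq
      rwa [show φ (ψ (Polynomial.aeval z p)) + φ (ψ (Polynomial.aeval z q)) -
        (Polynomial.aeval z p + Polynomial.aeval z q) = (φ (ψ (Polynomial.aeval z p)) - Polynomial.aeval z p) +
          (φ (ψ (Polynomial.aeval z q)) - Polynomial.aeval z q) by ring]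
    | monomial k a _ =>
      rw [map_mul, map_pow, Polynomial.aeval_X, map_mul, map_pow, hψz, zero_pow (Nat.succ_ne_zero k), mul_zero,
        map_zero, zero_sub]
      exact (Ideal.neg_mem_iff _).2 (Ideal.mul_mem_left _ _ (Ideal.pow_mem_of_mem _ (Ideal.mem_span_singleton_self z) _
        (Nat.succ_pos k)))
  ext x
  constructor
  · rintro ⟨y, rfl⟩ h
    have h' : y ∈ Proj.map ψ hψ ⁻¹ᵁ Proj.basicOpen ℬ z := h
    rw [Proj.map_preimage_basicOpen, hψz, Proj.basicOpen_zero] at h'
    exact h'.elim
  · intro hx
    have hzx : z ∈ x.asHomogeneousIdeal.toIdeal := not_not.1 hx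
    let q : HomogeneousIdeal 𝒜 := x.asHomogeneousIdeal.comap φ
    have hmem : ∀ b : B, b ∈ x.asHomogeneousIdeal.toIdeal ↔ ψ b ∈ q.toIdeal := fun b => by
      have hd : φ (ψ b) - b ∈ x.asHomogeneousIdeal.toIdeal :=
        (Ideal.span_singleton_le_iff_mem _).2 hzx (hdec b)
      refine ⟨fun h => ?_, fun h => ?_⟩
      · have := Ideal.add_mem _ hd h; rwa [sub_add_cancel] at this
      · have := Ideal.sub_mem _ (show φ (ψ b) ∈ x.asHomogeneousIdeal.toIdeal from h) hd; rwa [sub_sub_cancel] at this
    have hirr : ¬ HomogeneousIdeal.irrelevant 𝒜 ≤ q := by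
      intro hle
      refine x.not_irrelevant_le fun b hb => ?_
      refine (hmem b).2 (hle ?_)
      rw [HomogeneousIdeal.mem_irrelevant_iff, GradedRing.proj_apply]
      rw [← GradedRingHom.map_directSumDecompose ℬ 𝒜 ψ, ← GradedRing.proj_apply,
        (HomogeneousIdeal.mem_irrelevant_iff _ _).mp hb, map_zero]
    let y : ProjectiveSpectrum 𝒜 := ⟨q, x.isPrime.comap φ.toRingHom, hirr⟩
    exact ⟨y, ProjectiveSpectrum.ext (HomogeneousIdeal.ext (Ideal.ext fun b => (hmem b).symm))⟩

end Groth.Agent.S3594
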