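import Groth.Statements.S3595
import Mathlib.AlgebraicGeometry.ProjectiveSpectrum.Proper

set_option autoImplicit false
set_option backward.isDefEq.respectTransparency false
set_option backward.isDefEq.respectTransparency.types false
set_option maxHeartbeats 1000000
universe u
open CategoryTheory CategoryTheory.Limits AlgebraicGeometry TopologicalSpace
open EGA2
open HomogeneousLocalization

namespace Groth.Agent.S3595

variable {R A : Type u} [CommRing R] [CommRing A] [Algebra R A] {𝒜 : ℕ → Submodule R A} [GradedAlgebra 𝒜]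
  {B : Type u} [CommRing B] [Algebra R B] {ℬ : ℕ → Submodule R B} [GradedAlgebra ℬ] (φ : 𝒜 →+*ᵍ ℬ)

theorem map_awayMap {d e : ℕ} {f g : A} (hf : f ∈ 𝒜 d) (hg : g ∈ 𝒜 e) (x : A) (hx : x = f * g)
    (hx' : φ x = φ f * φ g) :
    (awayMap ℬ (φ.2 hg) hx').comp (Away.map φ f) = (Away.map φ x).comp (awayMap 𝒜 hg hx) := by
  refine RingHom.ext fun z => ?_
  obtain ⟨n, a, ha, rfl⟩ := Away.mk_surjective 𝒜 hf z
  refine val_injective _ ?_
  simp only [RingHom.comp_apply, Away.map_mk, awayMap_mk, Away.val_mk, map_mul, map_pow]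
  rfl

theorem awayι_congr {x : A} {m m' : ℕ} (hm : m = m') (h : x ∈ 𝒜 m) (h' : x ∈ 𝒜 m') (p : 0 < m) (p' : 0 < m') :
    Proj.awayι 𝒜 x h p = Proj.awayι 𝒜 x h' p' := by
  subst hm; rfl

/-- Let φ : S′ → S be a homomorphism of graded rings and G(φ) ⊆ Proj S the open union of the basic opens
D_+(φ(f′)) for f′ ∈ S′ homogeneous of positive degree. There is exactly one morphism p : G(φ) → Proj
S′ whose restriction to each chart Spec S_(φ(f′)) of G(φ) is Spec of the induced map S′_(f′) →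
S_(φ(f′)) followed by Spec S′_(f′) ≅ D_+(f′) ⊆ Proj S′. -/
theorem result {R A : Type u} [CommRing R] [CommRing A] [Algebra R A] (𝒜 : ℕ → Submodule R A) [GradedAlgebra 𝒜]
    {B : Type u} [CommRing B] [Algebra R B] (ℬ : ℕ → Submodule R B) [GradedAlgebra ℬ] (φ : 𝒜 →+*ᵍ ℬ) :
    ∃! p : (PCone.dom φ : Scheme.{u}) ⟶ Proj 𝒜,
      ∀ (d : ℕ) (f : A) (hd : 0 < d) (hf : f ∈ 𝒜 d),
        PCone.chart φ hf hd ≫ p =
          Spec.map (CommRingCat.ofHom (HomogeneousLocalization.Away.map φ f)) ≫ Proj.awayι 𝒜 f hf hd := by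
  classical
  let ι' := Σ' (d : ℕ) (f : A), 0 < d ∧ f ∈ 𝒜 d
  have hrange : ∀ (d : ℕ) (f : A) (hd : 0 < d) (hf : f ∈ 𝒜 d),
      PCone.chart φ hf hd ≫ (PCone.dom φ).ι = Proj.awayι ℬ (φ f) (φ.2 hf) hd :=
    fun d f hd hf => IsOpenImmersion.lift_fac _ _ _
  have hoi : ∀ (d : ℕ) (f : A) (hd : 0 < d) (hf : f ∈ 𝒜 d), IsOpenImmersion (PCone.chart φ hf hd) :=
    fun d f hd hf => by
      haveI : IsOpenImmersion (PCone.chart φ hf hd ≫ (PCone.dom φ).ι) := by rw [hrange]; infer_instance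
      exact IsOpenImmersion.of_comp _ (PCone.dom φ).ι
  let 𝒰 : (PCone.dom φ : Scheme.{u}).OpenCover := Scheme.Cover.mkOfCovers ι'
    (fun i => Spec (CommRingCat.of (Away ℬ (φ i.2.1))))
    (fun i => PCone.chart φ i.2.2.2 i.2.2.1)
    (fun z => by
      obtain ⟨⟨f, d, hd, hf⟩, hz⟩ := Opens.mem_iSup.mp z.2
      rw [← Proj.opensRange_awayι ℬ (φ f) (φ.2 hf) hd] at hz
      obtain ⟨w, hw⟩ := hz
      refine ⟨⟨d, f, hd, hf⟩, w, (PCone.dom φ).ι.isOpenEmbedding.injective ?_⟩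
      rw [← Scheme.Hom.comp_apply, hrange]
      exact hw)
    (fun i => hoi _ _ _ _)
  let tgt : ∀ i : ι', Spec (CommRingCat.of (Away ℬ (φ i.2.1))) ⟶ Proj 𝒜 := fun i =>
    Spec.map (CommRingCat.ofHom (Away.map φ i.2.1)) ≫ Proj.awayι 𝒜 i.2.1 i.2.2.2 i.2.2.1
  have compat : ∀ i j : ι', pullback.fst (𝒰.f i) (𝒰.f j) ≫ tgt i = pullback.snd (𝒰.f i) (𝒰.f j) ≫ tgt j := by
    rintro ⟨d, f, hd, hf⟩ ⟨e, g, he, hg⟩
    change pullback.fst (PCone.chart φ hf hd) (PCone.chart φ hg he) ≫ tgt ⟨d, f, hd, hf⟩ =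
      pullback.snd (PCone.chart φ hf hd) (PCone.chart φ hg he) ≫ tgt ⟨e, g, he, hg⟩
    have hc : pullback.fst (PCone.chart φ hf hd) (PCone.chart φ hg he) ≫ Proj.awayι ℬ (φ f) (φ.2 hf) hd =
        pullback.snd (PCone.chart φ hf hd) (PCone.chart φ hg he) ≫ Proj.awayι ℬ (φ g) (φ.2 hg) he := by
      rw [← hrange d f hd hf, ← hrange e g he hg, pullback.condition_assoc]
    let I := Proj.pullbackAwayιIso ℬ (φ.2 hf) hd (φ.2 hg) he (map_mul φ f g)
    have e1 := congrArg (pullback.lift _ _ hc ≫ ·)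
      (Proj.pullbackAwayιIso_hom_SpecMap_awayMap_left ℬ (φ.2 hf) hd (φ.2 hg) he (map_mul φ f g))
    have e2 := congrArg (pullback.lift _ _ hc ≫ ·)
      (Proj.pullbackAwayιIso_hom_SpecMap_awayMap_right ℬ (φ.2 hf) hd (φ.2 hg) he (map_mul φ f g))
    have e1' := e1.trans (pullback.lift_fst _ _ hc)
    have e2' := e2.trans (pullback.lift_snd _ _ hc)
    refine (congrArg (· ≫ tgt ⟨d, f, hd, hf⟩) e1'.symm).trans
      (Eq.trans ?_ (congrArg (· ≫ tgt ⟨e, g, he, hg⟩) e2'))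
    change (_ ≫ _ ≫ _) ≫ (_ ≫ _) = (_ ≫ _ ≫ _) ≫ (_ ≫ _)
    simp only [Category.assoc]
    congr 2
    rw [← Spec.map_comp_assoc, ← CommRingCat.ofHom_comp, map_awayMap φ hf hg (f * g) rfl (map_mul φ f g),
      CommRingCat.ofHom_comp, Spec.map_comp_assoc, Proj.SpecMap_awayMap_awayι,
      ← Spec.map_comp_assoc, ← CommRingCat.ofHom_comp,
      map_awayMap φ hg hf (f * g) (mul_comm f g) ((map_mul φ f g).trans (mul_comm _ _)),
      CommRingCat.ofHom_comp, Spec.map_comp_assoc, Proj.SpecMap_awayMap_awayι]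
    congr 1
  refine ⟨Scheme.Cover.glueMorphisms 𝒰 tgt compat, fun d f hd hf => ?_, fun p hp => ?_⟩
  · exact Scheme.Cover.ι_glueMorphisms 𝒰 tgt compat ⟨d, f, hd, hf⟩
  · refine Scheme.Cover.hom_ext 𝒰 _ _ fun i => ?_
    rw [Scheme.Cover.ι_glueMorphisms]
    exact hp _ _ _ _

end Groth.Agent.S3595
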