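import Groth.Statements.S3597
import Groth.Agent.PConeLib.Basic

set_option autoImplicit false
set_option backward.isDefEq.respectTransparency false
set_option backward.isDefEq.respectTransparency.types false
set_option maxHeartbeats 1000000
universe u
open CategoryTheory CategoryTheory.Limits AlgebraicGeometry TopologicalSpace
open EGA2
open HomogeneousLocalization

namespace Groth.Agent.S3597

/-- Let S be a graded algebra over a ring and Ŝ = S[z] the graded S-algebra obtained by adjoining a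
variable z in degree 1 (an S-algebra with an element z of degree 1 such that S[T] → Ŝ, T ↦ z, is
bijective), with φ : S → Ŝ the graded structure map and ψ : Ŝ → S the graded retraction with ψ ∘ φ =
id and ψ(z) = 0 (the irrelevant-ideal containment needed to define Proj(ψ) on all of X = Proj S
carried as a hypothesis). Let Ê ⊆ Ĉ = Proj Ŝ be the pointed projective cone, the open union of the
D_+(φ f) for f ∈ S homogeneous of positive degree, and p : Ê → X a morphism which on each chart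
D_+(φ f) = Spec Ŝ_{(φ f)} is induced by S_{(f)} → Ŝ_{(φ f)} (the canonical retraction). Then p is
surjective, and the closed immersion j = Proj(ψ) : X → Ĉ factors through Ê with p ∘ j = id_X. -/
theorem result {R A : Type u} [CommRing R] [CommRing A] [Algebra R A] (𝒜 : ℕ → Submodule R A) [GradedAlgebra 𝒜]
    {B : Type u} [CommRing B] [Algebra R B] (ℬ : ℕ → Submodule R B) [GradedAlgebra ℬ]
    [Algebra A B] [IsScalarTower R A B] (φ : 𝒜 →+*ᵍ ℬ) (hφ : ∀ a : A, φ a = algebraMap A B a)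
    (z : B) (hz : z ∈ ℬ 1) (hhat : Function.Bijective (Polynomial.aeval (R := A) z))
    (ψ : ℬ →+*ᵍ 𝒜) (hψφ : ∀ a : A, ψ (φ a) = a) (hψz : ψ z = 0)
    (hψ : HomogeneousIdeal.irrelevant 𝒜 ≤ (HomogeneousIdeal.irrelevant ℬ).map ψ)
    (p : (PCone.dom φ : Scheme.{u}) ⟶ Proj 𝒜) (hp : ∀ (d : ℕ) (f : A) (hd : 0 < d) (hf : f ∈ 𝒜 d),
        PCone.chart φ hf hd ≫ p =
          Spec.map (CommRingCat.ofHom (HomogeneousLocalization.Away.map φ f)) ≫ Proj.awayι 𝒜 f hf hd) :
    Surjective p ∧ ∃ j : Proj 𝒜 ⟶ (PCone.dom φ : Scheme.{u}), j ≫ (PCone.dom φ).ι = Proj.map ψ hψ ∧ j ≫ p = 𝟙 (Proj 𝒜) := by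
  have hrange : Set.range (Proj.map ψ hψ).base ⊆ Set.range (PCone.dom φ).ι.base := by
    rw [Scheme.Opens.range_ι]
    rintro _ ⟨y, rfl⟩
    obtain ⟨d, f, hd, hf, hy⟩ := PConeLib.exists_homogeneous_not_mem y
    refine Opens.mem_iSup.mpr ⟨⟨f, d, hd, hf⟩, ?_⟩
    have : y ∈ Proj.map ψ hψ ⁻¹ᵁ Proj.basicOpen ℬ (φ f) := by
      rw [Proj.map_preimage_basicOpen, hψφ]; exact hy
    exact this
  let j := IsOpenImmersion.lift (PCone.dom φ).ι (Proj.map ψ hψ) hrange
  have hj : j ≫ (PCone.dom φ).ι = Proj.map ψ hψ := IsOpenImmersion.lift_fac _ _ _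
  have key : j ≫ p = 𝟙 (Proj 𝒜) := by
    refine (Proj.affineOpenCover 𝒜).openCover.hom_ext _ _ fun i => ?_
    rw [Scheme.AffineOpenCover.openCover_f, Proj.affineOpenCover_f, Category.comp_id]
    obtain ⟨⟨d, hd⟩, f, hf⟩ := i
    change Proj.awayι 𝒜 f hf hd ≫ j ≫ p = Proj.awayι 𝒜 f hf hd
    have h1 : Proj.awayι 𝒜 (ψ (φ f)) (ψ.2 (φ.2 hf)) hd ≫ j =
        Spec.map (CommRingCat.ofHom (Away.map ψ (φ f))) ≫ PCone.chart φ hf hd := by
      rw [← cancel_mono (PCone.dom φ).ι, Category.assoc, hj, Category.assoc, PConeLib.chart_ι,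
        Proj.awayι_comp_map ψ hψ hd (φ f) (φ.2 hf)]
    have h2 : Proj.awayι 𝒜 (ψ (φ f)) (ψ.2 (φ.2 hf)) hd ≫ j ≫ p =
        Spec.map (CommRingCat.ofHom ((Away.map ψ (φ f)).comp (Away.map φ f))) ≫ Proj.awayι 𝒜 f hf hd := by
      rw [← Category.assoc, h1, Category.assoc, hp d f hd hf, ← Spec.map_comp_assoc, ← CommRingCat.ofHom_comp]
    have h3 : ∀ (x : A), x = f → ∀ (hx : x ∈ 𝒜 d) (k : Away 𝒜 f →+* Away 𝒜 x),
        (∀ (n : ℕ) (a : A) (ha : a ∈ 𝒜 (n • d)), (k (Away.mk 𝒜 hf n a ha)).val =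
          Localization.mk a (⟨x ^ n, n, rfl⟩ : Submonoid.powers x)) →
        Proj.awayι 𝒜 x hx hd ≫ j ≫ p = Spec.map (CommRingCat.ofHom k) ≫ Proj.awayι 𝒜 f hf hd →
        Proj.awayι 𝒜 f hf hd ≫ j ≫ p = Proj.awayι 𝒜 f hf hd := by
      rintro x rfl hx k hk h
      refine h.trans ?_
      have : k = RingHom.id _ := RingHom.ext fun a => by
        obtain ⟨n, a, ha, rfl⟩ := Away.mk_surjective 𝒜 hx a
        refine val_injective _ ?_
        rw [RingHom.id_apply, Away.val_mk]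
        exact hk n a ha
      rw [this]
      simp
    refine h3 (ψ (φ f)) (hψφ f) (ψ.2 (φ.2 hf)) _ (fun n a ha => ?_) h2
    simp only [RingHom.comp_apply, Away.map_mk, Away.val_mk]
    simp only [hψφ]
  exact ⟨⟨fun x => ⟨j x, by rw [← Scheme.Hom.comp_apply, key]; rfl⟩⟩, j, hj, key⟩

end Groth.Agent.S3597
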