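import Groth.Statements.S3598
import Groth.Agent.PConeLib.Fibre

set_option autoImplicit false
set_option backward.isDefEq.respectTransparency false
set_option backward.isDefEq.respectTransparency.types false
set_option maxHeartbeats 1000000
universe u
open CategoryTheory CategoryTheory.Limits AlgebraicGeometry TopologicalSpace
open EGA2
open HomogeneousLocalization

namespace Groth.Agent.S3598

/-- Let S be a graded algebra over a ring (an affine base) whose irrelevant ideal is generated by its
degree-one elements, and let Ŝ = S[z] be the graded S-algebra obtained by adjoining a variable z of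
degree 1 (given as a graded S-algebra together with z of degree 1 such that S[T] → Ŝ, T ↦ z, is
bijective). Let Ê be the pointed projective cone, covered by the charts Spec Ŝ_(f) for f ∈ S
homogeneous of positive degree, and p : Ê → X = Proj S the canonical retraction, i.e. the morphism
which on each chart Spec Ŝ_(f) is induced by S_(f) → Ŝ_(f). Then p is of finite type (locally of
finite type and quasi-compact) and its fibre at every point x of X is isomorphic over k(x) to the
affine line Spec k(x)[T]. -/
theorem result {R A : Type u} [CommRing R] [CommRing A] [Algebra R A] (𝒜 : ℕ → Submodule R A) [GradedAlgebra 𝒜]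
    {B : Type u} [CommRing B] [Algebra R B] (ℬ : ℕ → Submodule R B) [GradedAlgebra ℬ]
    [Algebra A B] [IsScalarTower R A B] (φ : 𝒜 →+*ᵍ ℬ) (hφ : ∀ a : A, φ a = algebraMap A B a)
    (z : B) (hz : z ∈ ℬ 1) (hhat : Function.Bijective (Polynomial.aeval (R := A) z))
    (hgen : (HomogeneousIdeal.irrelevant 𝒜).toIdeal = Ideal.span (𝒜 1 : Set A))
    (p : (PCone.dom φ : Scheme.{u}) ⟶ Proj 𝒜) (hp : ∀ (d : ℕ) (f : A) (hd : 0 < d) (hf : f ∈ 𝒜 d),
        PCone.chart φ hf hd ≫ p =
          Spec.map (CommRingCat.ofHom (HomogeneousLocalization.Away.map φ f)) ≫ Proj.awayι 𝒜 f hf hd) (x : Proj 𝒜) :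
    LocallyOfFiniteType p ∧ QuasiCompact p ∧
      ∃ e : pullback p ((Proj 𝒜).fromSpecResidueField x) ≅
          Spec (CommRingCat.of (Polynomial ((Proj 𝒜).residueField x))),
        e.hom ≫ Spec.map (CommRingCat.ofHom (algebraMap ((Proj 𝒜).residueField x)
          (Polynomial ((Proj 𝒜).residueField x)))) = pullback.snd p ((Proj 𝒜).fromSpecResidueField x) := by
  classical
  let L : A → Type u := fun f => Polynomial (Away 𝒜 f)
  have key : ∀ (f : A) (hf : f ∈ 𝒜 1), ∃ q : Spec (CommRingCat.of (Polynomial (Away 𝒜 f))) ⟶ (PCone.dom φ : Scheme.{u}),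
      IsPullback q (Spec.map (CommRingCat.ofHom (algebraMap (Away 𝒜 f) (Polynomial (Away 𝒜 f))))) p
        (Proj.awayι 𝒜 f hf Nat.one_pos) := by
    intro f hf
    obtain ⟨ψ, hψ⟩ := PConeLib.exists_polyEquiv φ hφ z hz hhat hf
    haveI := PConeLib.isOpenImmersion_chart φ hf Nat.one_pos
    have sq : IsPullback (Spec.map (CommRingCat.ofHom (Away.map φ f)))
        (PCone.chart φ hf Nat.one_pos) (Proj.awayι 𝒜 f hf Nat.one_pos) p := by
      refine IsOpenImmersion.isPullback _ _ _ _ (hp 1 f Nat.one_pos hf) ?_
      rw [Proj.opensRange_awayι, PConeLib.preimage_basicOpen hp Nat.one_pos hf]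
      ext z
      exact (PConeLib.mem_opensRange_chart φ hf Nat.one_pos z).symm
    let I : Spec (CommRingCat.of (Polynomial (Away 𝒜 f))) ≅ Spec (CommRingCat.of (Away ℬ (φ f))) :=
      Scheme.Spec.mapIso ψ.toCommRingCatIso.symm.op
    refine ⟨I.hom ≫ PCone.chart φ hf Nat.one_pos, ?_⟩
    refine IsPullback.of_iso sq.flip I.symm (Iso.refl _) (Iso.refl _) (Iso.refl _) ?_ ?_ (by simp) (by simp)
    · simp
    · rw [Iso.refl_hom, Category.comp_id]
      change _ = Spec.map _ ≫ Spec.map _
      rw [← Spec.map_comp]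
      congr 1
      exact CommRingCat.hom_ext (RingHom.ext fun c => (hψ c).symm)
  obtain ⟨h1, h2⟩ := PConeLib.finiteType_of_charts hgen p (fun f => Polynomial (Away 𝒜 f)) key
  refine ⟨h1, h2, ?_⟩
  obtain ⟨f, hf, hx⟩ := PConeLib.exists_degOne_mem hgen x
  obtain ⟨q, hq⟩ := key f hf
  rw [← Proj.opensRange_awayι 𝒜 f hf Nat.one_pos] at hx
  exact PConeLib.exists_fibre_iso p _ _ _ q hq x hx _ fun _ => ⟨(polyEquivTensor' (Away 𝒜 f) _).symm⟩

end Groth.Agent.S3598
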