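import Groth.Statements.S3599
import Groth.Agent.FinBirat.NormDesc

set_option autoImplicit false
set_option backward.isDefEq.respectTransparency false
universe u
open CategoryTheory CategoryTheory.Limits AlgebraicGeometry
open EGA2

namespace Groth.Agent.S3599

/-- Let Y be an affine scheme, X a Noetherian reduced scheme, f : X → Y a quasi-compact morphism, g : X'
→ X a finite surjective morphism, and W an open subset of X such that at every point x of W either
the local ring of X is an integrally closed domain or the direct image of the structure sheaf of X'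
is locally free on some open neighbourhood of x inside W. Then there are a reduced scheme Z and a
finite birational morphism h : Z → X (birational in the sense that h is an isomorphism over some
dense open of X whose inverse image is dense in Z) which is an isomorphism over W, such that for
every invertible O_X-module L whose inverse image on X' is ample relative to f ∘ g, the inverse
image of L on Z is ample relative to f ∘ h. -/
theorem result {X X' Y : Scheme.{u}} [IsAffine Y]
    [IsNoetherian X] [IsReduced X] (f : X ⟶ Y) [QuasiCompact f] (g : X' ⟶ X) [IsFinite g] [Surjective g]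
    (W : X.Opens)
    (hW : ∀ x ∈ W, (IsDomain (X.presheaf.stalk x) ∧ IsIntegrallyClosed (X.presheaf.stalk x)) ∨
      ∃ T : X.Opens, x ∈ T ∧ T ≤ W ∧ FlatMod.IsFinLocFree (((Coh.push g).obj (Coh.structureModule X')).restrict T.ι)) :
    ∃ (Z : Scheme.{u}) (_ : IsReduced Z) (h : Z ⟶ X) (_ : IsFinite h),
      IsIso (h ∣_ W) ∧
        (∃ V : X.Opens, Dense (V : Set X) ∧ Dense ((h ⁻¹ᵁ V : Z.Opens) : Set Z) ∧ IsIso (h ∣_ V)) ∧
        ∀ L : X.Modules, PicF.IsInvertible L →
          RelAmple.IsRelAmple (g ≫ f) ((Scheme.Modules.pullback g).obj L) →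
            RelAmple.IsRelAmple (h ≫ f) ((Scheme.Modules.pullback h).obj L) := by
  classical
  obtain ⟨O, Z, h, hfin, hred, hWO, hO, hdZ, hiso, D, hD, ⟨N⟩⟩ :=
    Groth.Agent.FinBirat.exists_model (g := g) W (fun x hx => by
      rcases hW x hx with hn | ⟨T, hxT, -, hT⟩
      · exact Or.inl hn
      · exact Groth.Agent.FinBirat.normalOrFreeAt_of_locallyFree hxT hT)
  haveI := hiso
  refine ⟨Z, hred, h, hfin, ?_, ⟨O, hO, hdZ, hiso⟩, fun L hL hA => ?_⟩
  · haveI : IsOpenImmersion (X.homOfLE hWO) := inferInstance
    exact (MorphismProperty.isomorphisms.iff _).mp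
      (((MorphismProperty.isomorphisms Scheme.{u}).arrow_mk_iso_iff
        (morphismRestrictRestrict h O (O.ι ⁻¹ᵁ W) ≪≫ morphismRestrictEq h (by
          rw [Scheme.Hom.image_preimage_eq_opensRange_inf, Scheme.Opens.opensRange_ι, inf_eq_right.mpr hWO]))).mp
        (IsZariskiLocalAtTarget.restrict ((MorphismProperty.isomorphisms.iff _).mpr hiso) _))
  · haveI : CompactSpace Z := QuasiCompact.compactSpace_of_compactSpace h
    rw [TMul.isRelAmple_iff_isAmple] at hA ⊢
    exact Groth.Agent.FinBirat.isAmple_of_normTo hD N hL hA

end Groth.Agent.S3599
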