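import Groth.Statements.S3609
import Groth.Agent.LCIShriek.Local

set_option autoImplicit false
universe u
open CategoryTheory CategoryTheory.Limits AlgebraicGeometry
attribute [local instance] HasDerivedCategory.standard
open Dual3

set_option backward.isDefEq.respectTransparency false
set_option backward.isDefEq.respectTransparency.types false

namespace Groth.Agent.S3609

/-- Let S be a Noetherian scheme, X and Y schemes separated and of finite type over S and f : X → Y a
morphism over S; compute f^! through a compactification f = j ∘ p (j : X → X' an open immersion, p :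
X' → Y proper, Rp_* on D_QCoh assumed to exist and to preserve quasi-coherence of cohomology, a a
right adjoint of Rp_*, restriction of modules to opens assumed exact), so that f^!K = a(K)|_X. If f
is a local complete intersection morphism (affine-locally given by local complete intersection ring
maps) and O denotes the structure sheaf of Y in degree 0, then f^!O is an invertible object of
D(O_X): every point of X has an open neighbourhood over which it is isomorphic to a shift of the
structure sheaf. -/
theorem result (S X Y : Scheme.{u}) [IsNoetherian S] (p : X ⟶ S) (q : Y ⟶ S) [Dual3.IsSepFT p] [Dual3.IsSepFT q] (f : X ⟶ Y) (w : f ≫ q = p) (hf : Dual3.IsLCIMor f) (c : DEt.Compactification f) [DCoh.HasRpush c.fbar] (hc : DCoh.RpushPreservesQCoh c.fbar) (a : DCoh.DQCoh Y ⥤ DCoh.DQCoh c.Xbar) (adj : DCoh.RpushQ c.fbar hc ⊣ a) [∀ (U V : Scheme.{u}) (j : U ⟶ V) [IsOpenImmersion j], PreservesFiniteLimits (Scheme.Modules.restrictFunctor j)] (O : DCoh.DQCoh Y) (hO : Nonempty (O.obj ≅ DCoh.inD Y (Coh.structureModule Y))) : Dual3.IsInvertibleD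 ((Dual3.shriekC c a).obj O) := by
  haveI : IsNoetherian X := Groth.Agent.DCohShriek.isNoetherian_of_isSepFT p
  haveI : IsNoetherian Y := Groth.Agent.DCohShriek.isNoetherian_of_isSepFT q
  obtain ⟨eO⟩ := hO
  have hge : DerivedCategory.IsGE O.obj 0 :=
    (DerivedCategory.isGE_iff _ _).2 fun i hi => ((DerivedCategory.isGE_iff (DCoh.inD Y _) 0).1
      (inferInstanceAs (((DerivedCategory.singleFunctor Y.Modules 0).obj _).IsGE 0)) i hi).of_iso
        ((DerivedCategory.homologyFunctor _ i).mapIso eO)
  intro x
  obtain ⟨W, w, hw, ⟨z, hz⟩, h⟩ := Groth.Agent.LCIShriek.exists_local_shriek hf c adj x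
  obtain ⟨m, ⟨e⟩⟩ := (h ⟨O, 0, hge⟩).1 ⟨eO⟩
  obtain ⟨u⟩ := Groth.Agent.Dual3Nu.nonempty_RD_inD w.isoOpensRange.inv
  exact ⟨w.opensRange, m, ⟨z, hz⟩, ⟨(Groth.Agent.DQCoh.rdCongr w.isoOpensRange_inv_comp.symm).app _ ≪≫
    (Groth.Agent.DQCoh.rdComp w.isoOpensRange.inv w).app _ ≪≫
    (Groth.Agent.DQCoh.RD w.isoOpensRange.inv).mapIso e ≪≫
    ((Groth.Agent.DQCoh.RD w.isoOpensRange.inv).commShiftIso m).app _ ≪≫
    (CategoryTheory.shiftFunctor _ m).mapIso u⟩⟩

end Groth.Agent.S3609
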