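import Groth.Statements.S3610
import Groth.Agent.LCIShriek.Local

set_option autoImplicit false
universe u
open CategoryTheory CategoryTheory.Limits AlgebraicGeometry
attribute [local instance] HasDerivedCategory.standard
open Dual3

set_option backward.isDefEq.respectTransparency false
set_option backward.isDefEq.respectTransparency.types false

namespace Groth.Agent.S3610

/-- Let S be a Noetherian scheme, X and Y schemes separated and of finite type over S and f : X → Y a
morphism over S; compute f^! through a compactification f = j ∘ p (j : X → X' an open immersion, p :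
X' → Y proper, Rp_* on D_QCoh assumed to exist and to preserve quasi-coherence of cohomology, a a
right adjoint of Rp_*, restriction of modules to opens assumed exact), so that f^!K = a(K)|_X. If f
is a local complete intersection morphism then for every bounded below K in D_QCoh(O_Y) which is
perfect, f^!K is a perfect object of D(O_X). -/
theorem result (S X Y : Scheme.{u}) [IsNoetherian S] (p : X ⟶ S) (q : Y ⟶ S) [Dual3.IsSepFT p] [Dual3.IsSepFT q] (f : X ⟶ Y) (w : f ≫ q = p) (hf : Dual3.IsLCIMor f) (c : DEt.Compactification f) [DCoh.HasRpush c.fbar] (hc : DCoh.RpushPreservesQCoh c.fbar) (a : DCoh.DQCoh Y ⥤ DCoh.DQCoh c.Xbar) (adj : DCoh.RpushQ c.fbar hc ⊣ a) [∀ (U V : Scheme.{u}) (j : U ⟶ V) [IsOpenImmersion j], PreservesFiniteLimits (Scheme.Modules.restrictFunctor j)] (K : DCoh.DQCoh Y) (c₀ : ℤ) (hK : ∀ i : ℤ, i < c₀ → IsZero (DCoh.HD K.obj i)) (hP : DCoh.IsPerfect K.obj) : DCoh.IsPerfect ((Dual3.shriekC c a).obj K) := by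
  haveI : IsNoetherian X := Groth.Agent.DCohShriek.isNoetherian_of_isSepFT p
  haveI : IsNoetherian Y := Groth.Agent.DCohShriek.isNoetherian_of_isSepFT q
  have hge : DerivedCategory.IsGE K.obj c₀ := (DerivedCategory.isGE_iff _ _).2 hK
  rw [Groth.Agent.DQCoh.perfect_iff_near]
  intro x
  obtain ⟨W, w, hw, ⟨z, hz⟩, h⟩ := Groth.Agent.LCIShriek.exists_local_shriek hf c adj x
  obtain ⟨U, j, hj, v, hv, hP'⟩ := (Groth.Agent.DQCoh.perfect_iff_near _).1 ((h ⟨K, c₀, hge⟩).2 hP) z
  haveI := hj
  exact ⟨U, j ≫ w, inferInstance, v, by rw [Scheme.Hom.comp_base, TopCat.comp_app, hv, hz],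
    Groth.Agent.DQCoh.perfOn_push j w hP'⟩

end Groth.Agent.S3610
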