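import Groth.Statements.S3612
import Groth.Agent.ShriekAffine.Amp
import Groth.Agent.GorMor.QuasiFiniteChart
import Groth.Agent.S1790

set_option autoImplicit false
universe u
open CategoryTheory CategoryTheory.Limits AlgebraicGeometry
attribute [local instance] HasDerivedCategory.standard
open Dual3

set_option backward.isDefEq.respectTransparency false
set_option backward.isDefEq.respectTransparency.types false

namespace Groth.Agent.S3612

/-- Let S be a Noetherian scheme, X and Y schemes separated and of finite type over S and f : X → Y a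
morphism over S; compute f^! through a compactification f = j ∘ p (j : X → X' an open immersion, p :
X' → Y proper, Rp_* on D_QCoh assumed to exist and to preserve quasi-coherence of cohomology, a a
right adjoint of Rp_*, restriction of modules to opens assumed exact), so that f^!K = a(K)|_X.
Assume f is flat and let O be the structure sheaf of Y in degree 0. (i) For a point x and n ≥
dim_x(X_{f(x)}): if the stalk of H^i(f^!O) at x is nonzero then -n ≤ i ≤ 0. (ii) If every fibre of f
has dimension at most d, then f^!O has tor amplitude in [-d, 0] relative to Y: it is represented by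
a complex of O_X-modules flat over Y placed in degrees [-d, 0]. -/
theorem result (S X Y : Scheme.{u}) [IsNoetherian S] (p : X ⟶ S) (q : Y ⟶ S) [Dual3.IsSepFT p] [Dual3.IsSepFT q] (f : X ⟶ Y) (w : f ≫ q = p) [Flat f] (c : DEt.Compactification f) [DCoh.HasRpush c.fbar] (hc : DCoh.RpushPreservesQCoh c.fbar) (a : DCoh.DQCoh Y ⥤ DCoh.DQCoh c.Xbar) (adj : DCoh.RpushQ c.fbar hc ⊣ a) [∀ (U V : Scheme.{u}) (j : U ⟶ V) [IsOpenImmersion j], PreservesFiniteLimits (Scheme.Modules.restrictFunctor j)] (O : DCoh.DQCoh Y) (hO : Nonempty (O.obj ≅ DCoh.inD Y (Coh.structureModule Y))) : (∀ (x : X) (n : ℕ), Dual3.localFibreDim f x ≤ (n : WithBot ℕ∞) → ∀ i : ℤ, Nontrivial ((DCoh.HD ((Dual3.shriekC c a).obj O) i).presheaf.stalk x) → -(n : ℤ) ≤ i ∧ i ≤ 0) ∧ ∀ d : ℕ, Dual3.FibreDimLE f d → DCoh.HasRelFlatAmplitudeIn f (-(d : ℤ)) 0 ((Dual3.shriekC c a).obj O) := by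
  haveI : IsNoetherian X := Groth.Agent.DCohShriek.isNoetherian_of_isSepFT p
  haveI : IsNoetherian Y := Groth.Agent.DCohShriek.isNoetherian_of_isSepFT q
  haveI : LocallyOfFiniteType (f ≫ q) := by rw [w]; infer_instance
  haveI : LocallyOfFiniteType f := locallyOfFiniteType_of_comp f q
  haveI := fun (S' T : Type u) [CommRing S'] [CommRing T] (φ : S' →+* T) => Groth.Agent.DRingKP.hasLBaseChange φ
  refine ⟨fun x n hn i hi => ?_, fun d hd => Groth.Agent.DQCoh.hasRel_of_relAmp fun x => ?_⟩
  · obtain ⟨R, A, _, _, _, _, _, m, ψ, v, hv, wA, hwA, z, hψ, hz, -, hw, hfl⟩ :=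
      Groth.Agent.ShriekAffine.exists_chart f x (W := ⊤) trivial
    haveI := hfl inferInstance
    obtain ⟨Rψ, ⟨adjψ⟩⟩ := Groth.Agent.ShriekAffine.exists_adjoint ψ.toRingHom
    have h := (Groth.Agent.ShriekAffine.nontrivial_stalk_iff c adj hO hψ adjψ v wA hw i z).1 (hz.symm ▸ hi)
    obtain ⟨d, hd⟩ := Groth.Agent.Unibranch.exists_fibreDimAt_eq f x
    have hdn : d ≤ n := by
      rw [Groth.Agent.GorMor.localFibreDim_eq, hd] at hn
      exact_mod_cast hn
    have := (Groth.Agent.S1790.result R A m ψ hψ Rψ adjψ d).1 z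
      ((Groth.Agent.ShriekAffine.fibreDimAt_chart c adj hO hψ adjψ v wA hw z).trans (hz.symm ▸ hd)) i h
    omega
  · obtain ⟨R, A, _, _, _, _, _, m, ψ, v, hv, wA, hwA, z, hψ, hz, -, hw, hfl⟩ :=
      Groth.Agent.ShriekAffine.exists_chart f x (W := ⊤) trivial
    haveI := hfl inferInstance
    obtain ⟨Rψ, ⟨adjψ⟩⟩ := Groth.Agent.ShriekAffine.exists_adjoint ψ.toRingHom
    obtain ⟨e⟩ := Groth.Agent.ShriekAffine.nonempty_shriek_unit c adj hO hψ adjψ v wA hw
    have h1 := (Groth.Agent.S1790.result R A m ψ hψ Rψ adjψ d).2 (fun y => by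
      rw [Groth.Agent.ShriekAffine.fibreDimAt_chart c adj hO hψ adjψ v wA hw y,
        ← Groth.Agent.GorMor.localFibreDim_eq]
      exact le_trans (iInf₂_le ⊤ trivial) (le_trans
        ((TopologicalSpace.Opens.isOpenEmbedding ⊤).isInducing.topologicalKrullDim_le) (hd _)))
    rw [← hz]
    exact Groth.Agent.ShriekAffine.relAmpAt_chart f wA v _ hw _ z
      (Groth.Agent.DQCoh.relAmpAt_of_iso e.symm (Groth.Agent.ShriekAffine.relAmp_tilde h1 z))

end Groth.Agent.S3612
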