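import Groth.Statements.S3613
import Groth.Agent.ShriekAffine.QuasiFinite
import Groth.Agent.S3612
import Groth.Agent.GorMor.QuasiFiniteChart

set_option autoImplicit false
universe u
open CategoryTheory CategoryTheory.Limits AlgebraicGeometry
attribute [local instance] HasDerivedCategory.standard
open Dual3

set_option backward.isDefEq.respectTransparency false
set_option backward.isDefEq.respectTransparency.types false

namespace Groth.Agent.S3613

/-- Let S be a Noetherian scheme, X and Y schemes separated and of finite type over S and f : X → Y a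
morphism over S; compute f^! through a compactification f = j ∘ p (j : X → X' an open immersion, p :
X' → Y proper, Rp_* on D_QCoh assumed to exist and to preserve quasi-coherence of cohomology, a a
right adjoint of Rp_*, restriction of modules to opens assumed exact), so that f^!K = a(K)|_X.
Assume f is flat and quasi-finite and let O be the structure sheaf of Y in degree 0. Then H^i(f^!O)
= 0 for i ≠ 0 and H^0(f^!O) is a coherent O_X-module which is flat over Y; that is, f^!O = ω[0] for
a coherent Y-flat module ω. -/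
theorem result (S X Y : Scheme.{u}) [IsNoetherian S] (p : X ⟶ S) (q : Y ⟶ S) [Dual3.IsSepFT p] [Dual3.IsSepFT q] (f : X ⟶ Y) (w : f ≫ q = p) [Flat f] [LocallyQuasiFinite f] (c : DEt.Compactification f) [DCoh.HasRpush c.fbar] (hc : DCoh.RpushPreservesQCoh c.fbar) (a : DCoh.DQCoh Y ⥤ DCoh.DQCoh c.Xbar) (adj : DCoh.RpushQ c.fbar hc ⊣ a) [∀ (U V : Scheme.{u}) (j : U ⟶ V) [IsOpenImmersion j], PreservesFiniteLimits (Scheme.Modules.restrictFunctor j)] (O : DCoh.DQCoh Y) (hO : Nonempty (O.obj ≅ DCoh.inD Y (Coh.structureModule Y))) : (∀ i : ℤ, i ≠ 0 → IsZero (DCoh.HD ((Dual3.shriekC c a).obj O) i)) ∧ Coh.IsCoh (DCoh.HD ((Dual3.shriekC c a).obj O) 0) ∧ FlatMod.IsFlatOver f (DCoh.HD ((Dual3.shriekC c a).obj O) 0) := by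
  haveI : IsNoetherian X := Groth.Agent.DCohShriek.isNoetherian_of_isSepFT p
  haveI : IsNoetherian Y := Groth.Agent.DCohShriek.isNoetherian_of_isSepFT q
  haveI : LocallyOfFiniteType (f ≫ q) := by rw [w]; infer_instance
  haveI : LocallyOfFiniteType f := locallyOfFiniteType_of_comp f q
  have hz : ∀ i : ℤ, i ≠ 0 → IsZero (DCoh.HD ((Dual3.shriekC c a).obj O) i) := fun i hi =>
    Groth.Agent.KFlat.isZero_of_stalks _ fun x => by
      by_contra hne
      have hnt : Nontrivial ((DCoh.HD ((Dual3.shriekC c a).obj O) i).presheaf.stalk x) :=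
        not_subsingleton_iff_nontrivial.1 ((Groth.Agent.PerfGen.mem_support_iff _ x).2 hne)
      have h0 := (Groth.Agent.S3612.result S X Y p q f w c hc a adj O hO).1 x 0
        (by rw [Groth.Agent.GorMor.localFibreDim_eq, Groth.Agent.ShriekAffine.fibreDimAt_eq_zero f x]; rfl) i hnt
      omega
  obtain ⟨eO⟩ := hO
  refine ⟨hz, ?_, ?_⟩
  · haveI := Groth.Agent.DCohShriek.isNoetherian_of_proper c.fbar
    exact Groth.Agent.DCohShriek.coh_RD c.j 0 (Groth.Agent.DCohShriek.coh_adjoint c.fbar adj O
      (Groth.Agent.ShriekAffine.coh_unit eO) 0 (Groth.Agent.ShriekAffine.isZero_unit eO) 0)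
  · have hd : Dual3.FibreDimLE f 0 := fun s => Groth.Agent.ShriekAffine.fibre_dim_le_zero f s
    have hamp := (Groth.Agent.S3612.result S X Y p q f w c hc a adj O ⟨eO⟩).2 0 hd
    exact Groth.Agent.ShriekAffine.isFlatOver_zero (by simpa using hamp)

end Groth.Agent.S3613
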