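import Groth.Statements.S3621
import Groth.Agent.DualSch.Chart
import Groth.Agent.DualCx.GorLocus

set_option autoImplicit false
universe u
open CategoryTheory CategoryTheory.Limits AlgebraicGeometry
attribute [local instance] HasDerivedCategory.standard
open Dual3

namespace Groth.Agent.S3621

/-- Let X be a locally Noetherian scheme which has a dualizing complex (exactness instances as in the
definition of dualizing complexes on schemes). Then the set of points x of X whose local ring
O_{X,x} is Gorenstein is open. -/
theorem result (X : Scheme.{u}) [IsLocallyNoetherian X] [∀ (U V : Scheme.{u}) (j : U ⟶ V) [IsOpenImmersion j], PreservesFiniteLimits (Scheme.Modules.restrictFunctor j)] [∀ (R : CommRingCat.{u}), PreservesFiniteLimits (tilde.functor R)] (K : DCoh.D X) (hK : Dual2.IsDualizingSch X K) : IsOpen {x : X | LocCoh.IsGorensteinLocalRing (X.presheaf.stalk x)} := by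
  refine DualSch.isOpen_of_charts _ fun A _ j _ => ?_
  obtain ⟨w, hw, -⟩ := hK A j
  haveI := hw.isNoetherianRing
  simp only [DualSch.gorenstein_stalk_iff]
  exact DualCx.isOpen_gorenstein hw

end Groth.Agent.S3621
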