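import Groth.Statements.S3661
import Groth.Agent.RigidD.Mate
import Groth.Agent.DualSch.UniqueTwist

set_option autoImplicit false
universe u
open CategoryTheory CategoryTheory.Limits AlgebraicGeometry
attribute [local instance] HasDerivedCategory.standard
open Dual3

set_option backward.isDefEq.respectTransparency false
set_option backward.isDefEq.respectTransparency.types false

namespace Groth.Agent.S3661

/-- Let X be a locally Noetherian scheme and K, K' dualizing complexes on X (exactness instances as in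
the definition). Then there are an invertible object L of D(O_X) and a complex E representing L,
with - ⊗^L E existing, such that K' ≅ K ⊗^L L in D(O_X). -/
theorem result (X : Scheme.{u}) [IsLocallyNoetherian X] [∀ (U V : Scheme.{u}) (j : U ⟶ V) [IsOpenImmersion j], PreservesFiniteLimits (Scheme.Modules.restrictFunctor j)] [∀ (R : CommRingCat.{u}), PreservesFiniteLimits (tilde.functor R)] (K K' : DCoh.D X) (hK : Dual2.IsDualizingSch X K) (hK' : Dual2.IsDualizingSch X K') : ∃ (E : CochainComplex X.Modules ℤ) (hL : DCoh.HasLTensorCx E), Dual3.IsInvertibleD (DCoh.toD X E) ∧ Nonempty (K' ≅ (DCoh.LTensorCx E).obj K) := by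
  haveI : ∀ (Y : Scheme.{u}) (C : CochainComplex Y.Modules ℤ), DCoh.HasLTensorCx C :=
    fun Y C => Groth.Agent.KFlat.hasLTensorCx C
  haveI : ∀ (Y : Scheme.{u}) (C : CochainComplex Y.Modules ℤ), DCoh.HasRSheafHom C :=
    fun Y C => Groth.Agent.RHomCx.hasRSheafHom C
  let Q := (DerivedCategory.Q : CochainComplex X.Modules ℤ ⥤ DerivedCategory X.Modules)
  let Kc := (Groth.Agent.KFlat.resF X).obj (Q.objPreimage K)
  have hKc : DCoh.IsKFlat Kc := Groth.Agent.KFlat.isKFlat_resF _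
  let eK : DCoh.toD X Kc ≅ K :=
    asIso (Q.map ((Groth.Agent.KFlat.resψ X).app (Q.objPreimage K))) ≪≫ Q.objObjPreimageIso K
  let T := (DCoh.RSheafHom Kc).obj K'
  let E := (Groth.Agent.KFlat.resF X).obj (Q.objPreimage T)
  have hE : DCoh.IsKFlat E := Groth.Agent.KFlat.isKFlat_resF _
  let eE : DCoh.toD X E ≅ T :=
    asIso (Q.map ((Groth.Agent.KFlat.resψ X).app (Q.objPreimage T))) ≪≫ Q.objObjPreimageIso T
  have key : ∀ x : X, ∃ (U : X.Opens) (n : ℤ), x ∈ U ∧
      IsIso ((DCoh.restrictD U.ι).map ((DCoh.RSheafHomAdj Kc).counit.app K')) ∧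
      Nonempty ((DCoh.restrictD U.ι).obj T ≅
        (DCoh.inD (U : Scheme.{u}) (Coh.structureModule (U : Scheme.{u})))⟦n⟧) := by
    intro x
    obtain ⟨U, n, hx, ⟨β⟩⟩ := Groth.Agent.DualSch.exists_local_shift hK hK' x
    let eU : DCoh.toD (U : Scheme.{u}) ((DCoh.restrictCx U).obj Kc) ≅ (DCoh.restrictD U.ι).obj K :=
      ((Scheme.Modules.restrictFunctor U.ι).mapDerivedCategoryFactors.app Kc).symm ≪≫
        (DCoh.restrictD U.ι).mapIso eK
    have hr : ∀ (y : (U : Scheme.{u})) (W : (U : Scheme.{u}).Opens), y ∈ W →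
        Groth.Agent.RigidD.RigidNear (DCoh.toD (U : Scheme.{u}) ((DCoh.restrictCx U).obj Kc)) y W := by
      intro y W hy
      obtain ⟨A, iA, w, hw, M, h1, h2, ⟨e⟩, h3⟩ := Groth.Agent.DualSch.rigidNear_restrict hK U.ι y W hy
      exact ⟨A, iA, w, hw, M, h1, h2, ⟨(Groth.Agent.DQCoh.RD w).mapIso eU ≪≫ e⟩, h3⟩
    have hflat : DCoh.IsKFlat ((DCoh.restrictCx U).obj Kc) := Groth.Agent.DerPerf.isKFlat_restrictCx U hKc
    obtain ⟨hi, ⟨eT⟩⟩ := Groth.Agent.RigidD.isIso_counit_shift hflat hr n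
      (β ≪≫ (CategoryTheory.shiftFunctor _ n).mapIso eU.symm)
    obtain ⟨hiff, ⟨eR⟩⟩ := Groth.Agent.RigidD.counit_local hKc U K'
    exact ⟨U, n, hx, hiff.2 hi, ⟨eR ≪≫ eT⟩⟩
  haveI : IsIso ((DCoh.RSheafHomAdj Kc).counit.app K') := Groth.Agent.RigidD.isIso_of_cover _ fun x => by
    obtain ⟨U, n, hx, hi, -⟩ := key x
    exact ⟨U, hx, hi⟩
  refine ⟨E, inferInstance, fun x => ?_, ⟨?_⟩⟩
  · obtain ⟨U, n, hx, -, ⟨e⟩⟩ := key x
    exact ⟨U, n, hx, ⟨(DCoh.restrictD U.ι).mapIso eE ≪≫ e⟩⟩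
  · exact (asIso ((DCoh.RSheafHomAdj Kc).counit.app K')).symm ≪≫ (DCoh.LTensorCx Kc).mapIso eE.symm ≪≫
      Groth.Agent.KFlat.ltIsoOfKFlat hKc E ≪≫
      Q.mapIso (Groth.Agent.KFlat.swapIso (Groth.Agent.KFlat.braid X.sheaf) E Kc) ≪≫
      (Groth.Agent.KFlat.ltIsoOfKFlat hE Kc).symm ≪≫ (DCoh.LTensorCx E).mapIso eK

end Groth.Agent.S3661
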