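import Groth.Statements.S3665
import Groth.Agent.IdealMulSec.Basic
import Groth.Agent.QC.Coherent

set_option autoImplicit false
universe u
open CategoryTheory CategoryTheory.Limits AlgebraicGeometry
attribute [local instance] HasDerivedCategory.standard
open Dual3

set_option backward.isDefEq.respectTransparency false
set_option backward.isDefEq.respectTransparency.types false

namespace Groth.Agent.S3665

/-- Let X be proper over a field k, I a quasi-coherent ideal with vanishing locus Z and F a coherent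
O_X-module, so that H^0_c(X ∖ Z, F) = lim_n H^0(X, I^n F) = ⋂_n Γ(X, I^n F) inside Γ(X, F). Then a
global section s of F lies in the image of Γ(X, I^n F) for every n if and only if s restricts to
zero on some open neighbourhood of Z. -/
theorem result (k : Type u) [Field k] (X : Scheme.{u}) (f : X ⟶ Spec (CommRingCat.of k)) [IsProper f] (I : X.IdealSheafData) (F : X.Modules) (hF : Coh.IsCoh F) (s : F.val.obj (Opposite.op ⊤)) : (∀ n : ℕ, ∃ t : ((Dual3.idealMul (I ^ n)).obj F).val.obj (Opposite.op ⊤), (Dual3.idealMulι (I ^ n) F).val.app (Opposite.op ⊤) t = s) ↔ ∃ V : X.Opens, I.supportSet ⊆ (V : Set X) ∧ F.val.map (homOfLE le_top : V ⟶ ⊤).op s = 0 := by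
  haveI : IsLocallyNoetherian X := LocallyOfFiniteType.isLocallyNoetherian f
  obtain ⟨hq, hfin⟩ := Groth.Agent.QC.isCoh_iff_finite_sections.mp hF
  let σ : Γ(F, ⊤) := s
  constructor
  · intro hs
    -- near each point of the support, Krull's intersection theorem
    have hloc : ∀ z : I.supportSet, ∃ (V : X.Opens), z.1 ∈ V ∧ Groth.Agent.QC.res F (le_top : V ≤ ⊤) σ = 0 := by
      rintro ⟨z, hz⟩
      obtain ⟨U, hU, hzU, -⟩ := exists_isAffineOpen_mem_and_subset (show z ∈ (⊤ : X.Opens) from trivial)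
      haveI : IsNoetherianRing Γ(X, U) := IsLocallyNoetherian.component_noetherian ⟨U, hU⟩
      haveI := hfin ⟨U, hU⟩
      have hmem : Groth.Agent.QC.res F (le_top : U ≤ ⊤) σ ∈
          (⨅ n : ℕ, (I.ideal ⟨U, hU⟩) ^ n • ⊤ : Submodule Γ(X, U) Γ(F, U)) := by
        rw [Submodule.mem_iInf]
        intro n
        obtain ⟨t, ht⟩ := hs n
        exact (Groth.Agent.IdealMulSec.range_idealMulι (I ^ n) hq ⟨U, hU⟩ _).mp
          ⟨Groth.Agent.QC.res _ (le_top : U ≤ ⊤) t,
            ((Groth.Agent.QC.app_res (Dual3.idealMulι (I ^ n) F) (le_top : U ≤ ⊤) t).symm.trans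
              (congrArg (Groth.Agent.QC.res F (le_top : U ≤ ⊤)) ht))⟩
      obtain ⟨r, hr⟩ := (Ideal.mem_iInf_smul_pow_eq_bot_iff _ _).mp hmem
      have hzb : z ∉ X.basicOpen r.1 := by
        have h1 : z ∈ (I.support : Set X) ∩ U := ⟨hz, hzU⟩
        rw [I.coe_support_inter ⟨U, hU⟩] at h1
        exact (Scheme.mem_zeroLocus_iff _ _ _).mp h1.1 r.1 r.2
      refine ⟨X.basicOpen (1 - r.1), ?_, ?_⟩
      · rw [X.mem_basicOpen _ z hzU, map_sub, map_one]
        rw [X.mem_basicOpen _ z hzU] at hzb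
        exact IsLocalRing.isUnit_one_sub_self_of_mem_nonunits _ hzb
      · have h0 : (1 - r.1) • Groth.Agent.QC.res F (le_top : U ≤ ⊤) σ = 0 := by
          rw [sub_smul, one_smul, hr, sub_self]
        have h1 := congrArg (Groth.Agent.QC.res F (X.basicOpen_le (1 - r.1))) h0
        rw [Groth.Agent.QC.res_smul, Groth.Agent.QC.res_res, map_zero] at h1
        have hu : IsUnit (Groth.Agent.QC.resO X (X.basicOpen_le (1 - r.1)) (1 - r.1)) :=
          RingedSpace.isUnit_res_basicOpen _ _
        exact hu.smul_eq_zero.mp h1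
    choose V hV hV0 using hloc
    refine ⟨⨆ z, V z, fun z hz => TopologicalSpace.Opens.mem_iSup.mpr ⟨⟨z, hz⟩, hV ⟨z, hz⟩⟩, ?_⟩
    show Groth.Agent.QC.res F (le_top : (⨆ z, V z) ≤ ⊤) σ = 0
    refine Groth.Agent.QC.section_eq_of_locally fun x hx => ?_
    obtain ⟨z, hxz⟩ := TopologicalSpace.Opens.mem_iSup.mp hx
    refine ⟨V z, le_iSup V z, hxz, ?_⟩
    rw [map_zero, Groth.Agent.QC.res_res, hV0]
  · rintro ⟨V, hV, hV0⟩ n
    replace hV0 : Groth.Agent.QC.res F (le_top : V ≤ ⊤) σ = 0 := hV0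
    refine (Groth.Agent.QC.mem_range_kernel_app
      ((Scheme.Modules.pullbackPushforwardAdjunction (I ^ n).subschemeι).unit.app F) ⊤ σ).mpr ?_
    refine Groth.Agent.QC.section_eq_of_locally fun x _ => ?_
    by_cases hxV : x ∈ V
    · refine ⟨V, le_top, hxV, ?_⟩
      refine (Groth.Agent.QC.app_res _ _ _).trans ?_
      erw [hV0]
      rw [map_zero, map_zero]
    · obtain ⟨U, hU, hxU, hUc⟩ := exists_isAffineOpen_mem_and_subset
        (show x ∈ (⟨(I.supportSet)ᶜ, I.support.isClosed.isOpen_compl⟩ : X.Opens) from fun h => hxV (hV h))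
      refine ⟨U, le_top, hxU, ?_⟩
      have htop : I.ideal ⟨U, hU⟩ = ⊤ := by
        by_contra hne
        obtain ⟨P, hP, hle⟩ := Ideal.exists_le_maximal _ hne
        let p : PrimeSpectrum Γ(X, U) := ⟨P, hP.isPrime⟩
        have hy : hU.fromSpec p ∈ U := hU.range_fromSpec.le ⟨p, rfl⟩
        refine hUc hy ?_
        have h1 : hU.fromSpec p ∈ X.zeroLocus (U := U) (I.ideal ⟨U, hU⟩) ∩ U := by
          refine ⟨(Scheme.mem_zeroLocus_iff _ _ _).mpr fun g hg hgb => ?_, hy⟩
          have : p ∈ hU.fromSpec ⁻¹ᵁ X.basicOpen g := hgb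
          rw [hU.fromSpec_preimage_basicOpen] at this
          exact this (hle hg)
        rw [← I.coe_support_inter ⟨U, hU⟩] at h1
        exact h1.1
      rw [Groth.Agent.QC.app_res, map_zero]
      refine (Groth.Agent.QC.mem_range_kernel_app _ U _).mp
        ((Groth.Agent.IdealMulSec.range_idealMulι (I ^ n) hq ⟨U, hU⟩ _).mpr ?_)
      rw [Scheme.IdealSheafData.ideal_pow, Pi.pow_apply, htop, Ideal.top_pow, Submodule.top_smul]
      trivial

end Groth.Agent.S3665
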