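import Groth.Statements.S3675
import Groth.Agent.DualSch.Chart

set_option autoImplicit false
universe u
open CategoryTheory CategoryTheory.Limits AlgebraicGeometry
attribute [local instance] HasDerivedCategory.standard
open Dual3

namespace Groth.Agent.S3675

/-- Let X be a locally Noetherian scheme (exactness instances as in the definition of dualizing
complexes) and ω a coherent O_X-module such that ω[0] is a dualizing complex on X. Then X is
Cohen–Macaulay: every local ring O_{X,x} is a Cohen–Macaulay local ring. -/
theorem result (X : Scheme.{u}) [IsLocallyNoetherian X] [∀ (U V : Scheme.{u}) (j : U ⟶ V) [IsOpenImmersion j], PreservesFiniteLimits (Scheme.Modules.restrictFunctor j)] [∀ (R : CommRingCat.{u}), PreservesFiniteLimits (tilde.functor R)] (ω : X.Modules) (hω : Coh.IsCoh ω) (hD : Dual2.IsDualizingSch X (DCoh.inD X ω)) (x : X) : LocCoh.IsCohenMacaulayLocalRing (X.presheaf.stalk x) := by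
  obtain ⟨R, j, hj, ⟨q, rfl⟩, -⟩ :=
    Scheme.exists_affine_mem_range_and_range_subset (U := (⊤ : X.Opens)) (x := x) trivial
  obtain ⟨w, hw, ⟨e⟩⟩ := hD R j
  haveI := hw.isNoetherianRing
  have hz : ∀ i : ℤ, ¬ DualCx.Van w q.asIdeal R i → i = 0 := by
    intro i hi
    by_contra hne
    refine hi ?_
    have h0 : IsZero (DCoh.HD (DCoh.inD X ω) i) := by
      rcases lt_or_gt_of_ne hne with hlt | hgt
      · exact DerivedCategory.isZero_of_isGE ((DerivedCategory.singleFunctor X.Modules 0).obj ω) 0 i hlt
      · exact DerivedCategory.isZero_of_isLE ((DerivedCategory.singleFunctor X.Modules 0).obj ω) 0 i hgt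
    have h3 : ¬ Nontrivial (LocalizedModule q.asIdeal.primeCompl (Dual.HD R w i)) := by
      rw [← DualSch.nontrivial_HD_stalk_iff j e i q, not_nontrivial_iff_subsingleton]
      exact AddCommGrpCat.subsingleton_of_isZero
        ((Scheme.Modules.toPresheaf X ⋙ TopCat.Presheaf.stalkFunctor _ (j q)).map_isZero h0)
    rw [DualCx.van_iff]
    rw [not_nontrivial_iff_subsingleton] at h3
    exact ((IsLocalizedModule.mapEquiv q.asIdeal.primeCompl
        (LocalizedModule.mkLinearMap q.asIdeal.primeCompl _) (LocalizedModule.mkLinearMap q.asIdeal.primeCompl _)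
        (Localization q.asIdeal.primeCompl) (DualCx.homEquiv w i)).toEquiv.subsingleton)
  refine (DualSch.cm_stalk_iff j q).2 ((DualCx.isCohenMacaulayLocalRing_iff hw q).2 fun i i' hi hi' => ?_)
  rw [hz i hi, hz i' hi']

end Groth.Agent.S3675
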