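import Groth.Statements.S3678
import Groth.Agent.FEtEssIm.Conn
import Groth.Agent.S0267
import Groth.Agent.S0285
import Groth.Agent.FLCFilt.Basic

set_option autoImplicit false
set_option backward.isDefEq.respectTransparency false
set_option backward.isDefEq.respectTransparency.types false
set_option maxHeartbeats 1000000

universe u
open Pi1

set_option linter.style.haveILetI false
set_option backward.isDefEq.respectTransparency false

namespace Groth.Agent.S3678

open AlgebraicGeometry CategoryTheory CategoryTheory.Limits in
/-- Let A be a strictly henselian local ring (a henselian local ring with separably closed residue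
field), f : X → Spec A a morphism which is proper, flat and of finite presentation and all of whose
geometric fibres are connected and reduced, and t : Spec Ω → Spec A a geometric point, with Ω an
algebraically closed field. Then the functor restricting finite étale covers of X to the geometric
fibre X_t = X ×_{Spec A} Spec Ω is fully faithful; equivalently, the specialisation homomorphism
from the fundamental group of X_t to that of X is surjective. (The published statement is the
surjectivity of this homomorphism; it is stated here as full faithfulness of the restriction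
functor.) -/
theorem result (A : Type u) [CommRing A] [HenselianLocalRing A]
    [IsSepClosed (IsLocalRing.ResidueField A)] {X : Scheme.{u}} (f : X ⟶ Spec (CommRingCat.of A))
    [IsProper f] [Flat f] [LocallyOfFinitePresentation f]
    (hfib : ∀ (Ω : Type u) [Field Ω] [IsAlgClosed Ω] (s : Spec (CommRingCat.of Ω) ⟶ Spec (CommRingCat.of A)),
      ConnectedSpace ↥(pullback f s) ∧ IsReduced (pullback f s))
    (Ω : Type u) [Field Ω] [IsAlgClosed Ω] (t : Spec (CommRingCat.of Ω) ⟶ Spec (CommRingCat.of A)) :
    (FEt.restrict (pullback.fst f t)).Full ∧ (FEt.restrict (pullback.fst f t)).Faithful := by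
  haveI hgc : GeometricallyConnected f := Groth.Agent.FEtEssIm.geometricallyConnected_of_algClosed f fun K _ _ s => (hfib K s).1
  haveI hgr : GeometricallyReduced f := Groth.Agent.SteinEt.geometricallyReduced_of_algClosed f fun K _ _ s => (hfib K s).2
  haveI : ConnectedSpace (Spec (CommRingCat.of A)) := connectedSpace_iff_clopen.2
    ⟨⟨IsLocalRing.closedPoint A⟩, fun C hC => by
      by_cases hc : IsLocalRing.closedPoint A ∈ C
      · exact .inr (Set.eq_univ_of_forall fun y => (IsLocalRing.specializes_closedPoint y).mem_open hC.isOpen hc)
      · exact .inl (Set.eq_empty_of_forall_notMem fun y hy => hc ((IsLocalRing.specializes_closedPoint y).mem_closed hC.isClosed hy))⟩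
  haveI : ConnectedSpace X := GeometricallyConnected.connectedSpace f f.isOpenMap
  haveI : ConnectedSpace (pullback f t : Scheme.{u}) := (hfib Ω t).1
  letI := Groth.Agent.FLCFilt.galoisCat (S := X)
  letI := Groth.Agent.FLCFilt.galoisCat (S := (pullback f t : Scheme.{u}))
  haveI := (Groth.Agent.S0285.result (pullback.fst f t)).1
  haveI := (Groth.Agent.S0285.result (pullback.fst f t)).2
  refine (Groth.Agent.S0267.result (FEt.restrict (pullback.fst f t))).2 fun Y hY => ?_
  haveI := Groth.Agent.FEtEssIm.connectedSpace_of_isConnected Y
  suffices h : ConnectedSpace ((FEt.restrict (pullback.fst f t)).obj Y).left from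
    Groth.Agent.FEtEssIm.isConnected_of_connectedSpace _
  haveI : ConnectedSpace ((𝟭 Scheme.{u}).obj Y.left : Scheme.{u}) := Groth.Agent.FEtEssIm.connectedSpace_of_isConnected Y
  haveI : IsFinite Y.hom := Y.prop.1
  haveI : Etale Y.hom := Y.prop.2
  haveI : GeometricallyReduced (Y.hom ≫ f) := Groth.Agent.FEtEssIm.geometricallyReduced_etale_comp f Y.hom
  haveI : ConnectedSpace (Y.hom ≫ f).normalization := Groth.Agent.FEtEssIm.connectedSpace_normalization (Y.hom ≫ f)
  obtain ⟨h1, h2⟩ := Groth.Agent.SteinEt.isFinite_and_etale_fromNormalization (Y.hom ≫ f)
  haveI := Groth.Agent.FEtEssIm.isIso_of_strictlyHenselian (Y.hom ≫ f).fromNormalization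
  haveI : GeometricallyConnected (Y.hom ≫ f) := by
    rw [← (Y.hom ≫ f).toNormalization_fromNormalization]
    exact (MorphismProperty.cancel_right_of_respectsIso @GeometricallyConnected _ _).2 inferInstance
  haveI : ConnectedSpace (pullback (Y.hom ≫ f) t : Scheme.{u}) :=
    GeometricallyConnected.geometrically_connectedSpace t _ _ (IsPullback.of_hasPullback _ _)
  exact (pullbackRightPullbackFstIso f t Y.hom).hom.homeomorph.connectedSpace_iff.2 inferInstance

end Groth.Agent.S3678
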