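import Groth.Statements.S3698
import Groth.Agent.AVCover.Field

set_option autoImplicit false
universe u
open CategoryTheory MonoidalCategory CartesianMonoidalCategory MonObj GrpObj AlgebraicGeometry
open Pi1

namespace Groth.Agent.S3698

/-- The fundamental group of an abelian variety, in the form underlying its computation: let k be an
algebraically closed field and A an abelian variety over k (a proper, geometrically integral group
scheme over k). Then every connected finite étale cover Z → A is dominated by a multiplication map:
for some integer d ≥ 1 there is a morphism A → Z over A, where A is viewed as a scheme over A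
through multiplication by d. (Multiplication by d is the d-th power of the identity in the group
Hom(A, A); consequently the fundamental group of A is the inverse limit of the groups of k-points of
the kernels of these multiplications.) -/
theorem result (k : Type u) [Field k] [IsAlgClosed k]
    (A : Over (Spec (CommRingCat.of k))) [GrpObj A] [IsProper A.hom] [GeometricallyIntegral A.hom]
    (Z : FEt.Cat A.left) [ConnectedSpace Z.left] :
    ∃ d : ℕ, 1 ≤ d ∧ ∃ ψ : A.left ⟶ Z.left, ψ ≫ Z.hom = ((𝟙 A) ^ (d : ℤ)).left := by
  haveI : IsIntegral A.left := GeometricallyIntegral.geometrically_isIntegral (f := A.hom) (𝟙 _) _ _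
    (IsPullback.of_horiz_isIso (fst := 𝟙 A.left) (snd := A.hom) (f := A.hom) (g := 𝟙 _) ⟨by simp⟩)
  haveI : IsFinite Z.hom := Z.prop.1
  haveI : Etale Z.hom := Z.prop.2
  haveI : ConnectedSpace ↥((Functor.fromPUnit A.left).obj Z.right) := (inferInstance : ConnectedSpace A.left)
  haveI : Nonempty ↥((𝟭 Scheme.{u}).obj Z.left) := (inferInstance : Nonempty Z.left)
  haveI : Surjective Z.hom := ⟨Set.range_eq_univ.1
    ((IsClopen.eq_univ ⟨Z.hom.isClosedMap.isClosed_range, Z.hom.isOpenMap.isOpen_range⟩) (Set.range_nonempty _))⟩
  let Y : Over (Spec (CommRingCat.of k)) := Over.mk (Z.hom ≫ A.hom)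
  let φ : Y ⟶ A := Over.homMk Z.hom
  haveI : IsFinite φ.left := ‹IsFinite Z.hom›
  haveI : Etale φ.left := ‹Etale Z.hom›
  haveI : Surjective φ.left := ‹Surjective Z.hom›
  haveI : ConnectedSpace Y.left := ‹ConnectedSpace Z.left›
  obtain ⟨inst, hφ⟩ := Groth.Agent.AVCover.exists_grpObj φ
  letI := inst
  haveI := hφ
  let P : Scheme.{u} := Limits.pullback φ.left η[A].left
  let q : P ⟶ Spec (CommRingCat.of k) := Limits.pullback.snd φ.left η[A].left
  haveI : _root_.Finite P := by
    have h := IsFinite.finite_preimage_singleton q (IsLocalRing.closedPoint k)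
    exact Set.finite_univ_iff.1 (h.subset fun y _ => Subsingleton.elim (α := PrimeSpectrum k) _ _)
  haveI : Nonempty P := ⟨(q.surjective (IsLocalRing.closedPoint k)).choose⟩
  obtain ⟨ψ, -, hψ⟩ := Groth.Agent.AVCover.exists_dual φ (Nat.card P) rfl (Nat.card P) dvd_rfl
  refine ⟨Nat.card P, Nat.card_pos, ψ.left, ?_⟩
  rw [zpow_natCast, ← hψ]
  rfl

end Groth.Agent.S3698
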