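import Groth.Statements.S3700
import Groth.Agent.SectSmooth.Forward
import Groth.Agent.SectSmooth.Backward

set_option autoImplicit false
set_option backward.isDefEq.respectTransparency false
universe u
open SGA1

namespace Groth.Agent.S3700

open AlgebraicGeometry CategoryTheory CategoryTheory.Limits in
/-- Let S be locally Noetherian, f : X -> S locally of finite type, Y the closed subscheme of X defined
by a quasi-coherent ideal, and x a point of Y at which Y is smooth over S. Then X is smooth over S
at x if and only if the closed immersion of Y in X is regular at x, that is, the kernel of O_{X,x}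
-> O_{Y,x} is generated by a regular sequence. (Smoothness at a point is membership in Mathlib's
smooth locus, the set of points where the map of local rings is formally smooth.) -/
theorem result {X S : Scheme.{u}} [IsLocallyNoetherian S] (f : X ⟶ S)
    [LocallyOfFiniteType f] [LocallyOfFinitePresentation f] (I : X.IdealSheafData)
    [LocallyOfFinitePresentation (I.subschemeι ≫ f)] (x : ↥I.subscheme) (hY : x ∈ (I.subschemeι ≫ f).smoothLocus) :
    I.subschemeι.base x ∈ f.smoothLocus ↔ CInt.IsRegularIdeal (RingHom.ker (I.subschemeι.stalkMap x).hom) := by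
  haveI : IsLocallyNoetherian X := LocallyOfFiniteType.isLocallyNoetherian f
  let V := (I.subschemeι ≫ f).smoothLocus
  haveI : Smooth (V.ι ≫ I.subschemeι ≫ f) := Groth.Agent.SmDesc.smooth_smoothLocus (I.subschemeι ≫ f)
  constructor
  · intro h
    haveI : Smooth ((V.ι ≫ I.subschemeι) ≫ f) := by rw [Category.assoc]; infer_instance
    obtain ⟨ts, hts, hr⟩ := (Groth.Agent.KoszulLib.isRegularImmersionAt_iff_stalk RegImm.Kind.regular
      (V.ι ≫ I.subschemeι) ⟨x, hY⟩).1
      (Groth.Agent.SectSmooth.isRegularImmersionAt_of_smooth f (V.ι ≫ I.subschemeι) ⟨x, hY⟩ h)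
    refine ⟨ts, hr, hts.trans ?_⟩
    rw [Scheme.Hom.stalkMap_comp, CommRingCat.hom_comp]
    exact RingHom.ker_comp_of_injective _ (ConcreteCategory.bijective_of_isIso (V.ι.stalkMap ⟨x, hY⟩)).1
  · rintro ⟨ts, hr, hts⟩
    exact Groth.Agent.SectSmooth.mem_smoothLocus_of_quasi f I.subschemeι x
      ((Groth.Agent.KoszulLib.isRegularImmersionAt_iff_stalk RegImm.Kind.quasi I.subschemeι x).2 ⟨ts, hts, hr⟩) V hY


end Groth.Agent.S3700
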