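import Groth.Statements.S3702
import Groth.Agent.EtPur.RelSNC

set_option autoImplicit false
open CategoryTheory CategoryTheory.Limits AlgebraicGeometry
universe u
open SGA1t

namespace Groth.Agent.S3702

/-- Let f : X → S be a morphism and φ_1, …, φ_r global sections of O_X cutting out a strict normal
crossings divisor relative to S, i : U → X the inclusion of the open complement of the divisor, and
S′ → S any morphism; put X′ = X ×_S S′, k : X′ → X the projection, U′ = k⁻¹(U), i′ : U′ → X′ and k′
: U′ → U. Then for every finite abelian group M, writing M_U for the constant sheaf with value M on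
U, the base-change morphism k^*(i_* M_U) → i′_*(k′^* M_U) of étale sheaves on X′ is an isomorphism.
(The published statement is more general; only constant finite coefficients, in degree zero, are
stated here.) -/
theorem result {X S S' : Scheme.{u}} (f : X ⟶ S) {r : ℕ} (φ : Fin r → Γ(X, ⊤))
    (hD : SGA1t.IsRelSNC f φ) (h : S' ⟶ S) (M : Type) [AddCommGroup M] [Finite M] :
    IsIso (EtCoh.baseChange0 (SGA1t.compl φ).ι (pullback.fst f h) ((pullback.fst f h ⁻¹ᵁ SGA1t.compl φ).ι)
      (pullback.fst f h ∣_ SGA1t.compl φ) (morphismRestrict_ι (pullback.fst f h) (SGA1t.compl φ))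
      (EtCoh.const (SGA1t.compl φ : Scheme.{u}) M)) := by
  let k := pullback.fst f h
  let φ' : Fin r → Γ((pullback f h : Scheme.{u}), ⊤) := fun i => k.appTop (φ i)
  let U' : (pullback f h : Scheme.{u}).Opens := k ⁻¹ᵁ SGA1t.compl φ
  have hU : U' = SGA1t.compl φ' := by
    show k ⁻¹ᵁ X.basicOpen (∏ i, φ i) = (pullback f h : Scheme.{u}).basicOpen (∏ i, k.appTop (φ i))
    rw [Scheme.preimage_basicOpen_top, map_prod]
  haveI := Groth.Agent.EtPur.isIso_unit_compl f φ hD M
  have h' : ∀ V : (pullback f h : Scheme.{u}).Opens, V = SGA1t.compl φ' →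
      IsIso ((EtCoh.pullPushAdj V.ι).unit.app (EtCoh.const (pullback f h : Scheme.{u}) M)) := by
    rintro _ rfl
    exact Groth.Agent.EtPur.isIso_unit_compl (pullback.snd f h) φ'
      (Groth.Agent.EtPur.isRelSNC_baseChange f φ h hD) M
  haveI : IsIso ((EtCoh.pullPushAdj U'.ι).unit.app ((EtCoh.pull k).obj (EtCoh.const X M))) :=
    (NatTrans.isIso_app_iff_of_iso _ (EtCore.pullConst k M)).2 (h' U' hU)
  haveI := Groth.Agent.EtDepthX.isIso_baseChange0_of_units (SGA1t.compl φ).ι k U'.ι (k ∣_ SGA1t.compl φ)
    (morphismRestrict_ι k (SGA1t.compl φ)) (EtCoh.const X M)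
  have e := Groth.Agent.EtIntegralBC.baseChange0_natural (SGA1t.compl φ).ι k U'.ι (k ∣_ SGA1t.compl φ)
    (morphismRestrict_ι k (SGA1t.compl φ)) (EtCore.pullConst (SGA1t.compl φ).ι M).hom
  exact (IsIso.of_isIso_fac_left e)

end Groth.Agent.S3702
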