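import Groth.Statements.S3703
import Groth.Agent.EtPur.RelSNC
import Groth.Agent.EtCons.FlcNear

set_option autoImplicit false
open CategoryTheory CategoryTheory.Limits AlgebraicGeometry
universe u
open SGA1t

namespace Groth.Agent.S3703

/-- Let f : X → S be a morphism and φ_1, …, φ_r global functions on X cutting out a strict normal
crossings divisor relative to S, with i : U → X the inclusion of the open complement. Then for every
finite abelian group M the direct image i_* M_U of the constant étale sheaf on U with value M is a
constructible sheaf on X. The published statement covers more general coefficient sheaves; it is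
stated here for a finite constant sheaf. -/
theorem result {X S : Scheme.{u}} (f : X ⟶ S) {r : ℕ} (φ : Fin r → Γ(X, ⊤))
    (hD : SGA1t.IsRelSNC f φ) (M : Type) [AddCommGroup M] [Finite M] :
    EtPBC.IsConstructible ((EtCoh.push (SGA1t.compl φ).ι).obj (EtCoh.const (SGA1t.compl φ : Scheme.{u}) M)) := by
  haveI := Groth.Agent.EtPur.isIso_unit_compl f φ hD M
  exact Groth.Agent.EtCons.isConstructible_of_iso
    ((asIso ((EtCoh.pullPushAdj (SGA1t.compl φ).ι).unit.app (EtCoh.const X M))) ≪≫
      (EtCoh.push (SGA1t.compl φ).ι).mapIso (EtCore.pullConst (SGA1t.compl φ).ι M))
    (Groth.Agent.EtCons.isConstructible_const M)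

end Groth.Agent.S3703
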