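import Groth.Statements.S3704
import Groth.Agent.EtPur.SNCPush1Gen

set_option autoImplicit false
open CategoryTheory CategoryTheory.Limits AlgebraicGeometry
universe u
open SGA1t

namespace Groth.Agent.S3704

/-- Let f : X → S be a morphism, φ_1, …, φ_r global functions on X cutting out a strict normal crossings
divisor relative to S, and i : U → X the inclusion of its complement. For every natural number n
invertible on S, the first higher direct image R¹i_*(ℤ/n) of the constant sheaf ℤ/n on the small
étale site of U is a constructible sheaf on X. -/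
theorem result {X S : Scheme.{u}} (f : X ⟶ S) {r : ℕ} (φ : Fin r → Γ(X, ⊤))
    (hD : SGA1t.IsRelSNC f φ) (n : ℕ) (hn : IsUnit ((n : ℕ) : Γ(S, ⊤))) :
    EtPBC.IsConstructible ((EtCoh.Rpush (SGA1t.compl φ).ι 1).obj (EtCoh.const (SGA1t.compl φ : Scheme.{u}) (ZMod n))) := by
  exact Groth.Agent.EtPur.isConstructible_R1push_compl f φ hD n hn

end Groth.Agent.S3704
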