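import Groth.Statements.S3708
import Groth.Agent.DefLift.Algebraize
import Groth.Agent.CurveCompl.Basic
import Groth.Agent.Intersect.Hyper
import Groth.Agent.SerrePn.SheafHomExt
import Groth.Agent.W7Hull.HomAdj
import Groth.Agent.AVOmega.Push
import Groth.Agent.S0458

set_option autoImplicit false
universe u
open SGA1

namespace Groth.Agent.S3708

open AlgebraicGeometry CategoryTheory CategoryTheory.Limits in
/-- Let A be a Noetherian local ring that is complete, with residue field k, and let X₀ be a smooth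
proper k-scheme of dimension one. Then there exist a smooth proper A-scheme X and an isomorphism of
k-schemes between X₀ and the closed fibre X ×_A k. -/
theorem result (A : Type u) [CommRing A] [IsLocalRing A] [IsNoetherianRing A]
    [IsAdicComplete (IsLocalRing.maximalIdeal A) A] {X₀ : Scheme.{u}}
    (f₀ : X₀ ⟶ Spec (CommRingCat.of (IsLocalRing.ResidueField A))) [Smooth f₀] [IsProper f₀]
    (hdim : topologicalKrullDim X₀ = 1) :
    ∃ (X : Scheme.{u}) (f : X ⟶ Spec (CommRingCat.of A)) (_ : Smooth f) (_ : IsProper f)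
      (e : X₀ ≅ pullback f (Spec.map (CommRingCat.ofHom (IsLocalRing.residue A)))),
      e.hom ≫ pullback.snd f _ = f₀ := by
  haveI : IsNoetherian X₀ := LocImmBlow.isNoetherian_of_ft f₀
  haveI : TopologicalSpace.NoetherianSpace (X₀.toTopCat : Type u) := inferInstanceAs (TopologicalSpace.NoetherianSpace ↥X₀)
  have h2 : ∀ K : CohTop.Ab X₀.toTopCat, Subsingleton (CohTop.H K 2) := fun K =>
    S0458.result (X := X₀.toTopCat) 1 hdim.le K 2 one_lt_two
  letI : X₀.Over (Spec (CommRingCat.of (IsLocalRing.ResidueField A))) := ⟨f₀⟩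
  haveI := SerrePn.enoughInjectives (X := X₀)
  haveI : HasExt.{u} X₀.Modules := hasExt_of_enoughInjectives _
  haveI : DCoh.HasSheafHom (Omega.sheaf f₀) := W7Hull.hasSheafHom_sch _
  obtain ⟨q⟩ := SerrePn.ext_equiv_hh (IsLocalRing.ResidueField A) (Omega.sheaf f₀) (AVOmega.isFinLocFree_omega f₀) 2
    (Coh.structureModule X₀)
  obtain ⟨d, ι, hι, -⟩ := CurveCompl.exists_closedImmersion f₀ hdim.le
  haveI := hι
  obtain ⟨X, f, i, M, hsm, hp, -, hpb⟩ :=
    DefLift.exists_smooth_algebraization f₀ (q.toEquiv.subsingleton_congr.2 (h2 _)) (h2 _) _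
      (Intersect.isAmple_hyperplane d ι)
  exact ⟨X, f, hsm, hp, hpb.isoPullback, hpb.isoPullback_hom_snd⟩

end Groth.Agent.S3708
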