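import Groth.Statements.S3713
import Groth.Agent.EtChart.Basic
-- import your own Groth.Agent.* helpers here

set_option autoImplicit false
universe u
open SGA1

set_option linter.style.haveILetI false
set_option backward.isDefEq.respectTransparency false

namespace Groth.Agent.S3713

open AlgebraicGeometry CategoryTheory CategoryTheory.Limits in
/-- Let Y be locally Noetherian, f : X -> Y locally of finite type, i a section of f and y a point of Y.
Then X is smooth over Y at i(y) (i(y) lies in the smooth locus of f) if and only if there are an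
open neighbourhood U of y, an open V of X with i(U) ⊆ V ⊆ f^{-1}(U), and finitely many sections of
O_X over V, all vanishing along i(U), which define an etale U-morphism from V to an affine space
over U (so that this etale chart carries the section to the zero section). -/
theorem result {X Y : Scheme.{u}} [IsLocallyNoetherian Y] (f : X ⟶ Y)
    [LocallyOfFiniteType f] [LocallyOfFinitePresentation f] (i : Y ⟶ X) (hi : i ≫ f = 𝟙 Y) (y : Y) :
    i.base y ∈ f.smoothLocus ↔
      ∃ (U : Y.Opens) (V : X.Opens) (_ : y ∈ U) (hUV : U ≤ i ⁻¹ᵁ V) (hVU : V ≤ f ⁻¹ᵁ U) (m : ℕ)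
        (v : ULift.{u} (Fin m) → Γ(V, ⊤)),
        Etale (AffineSpace.homOfVector (f.resLE U V hVU) v) ∧ ∀ j, (i.resLE V U hUV).appTop (v j) = 0 := by
  constructor
  · intro hy
    let W : X.Opens := f.smoothLocus
    haveI hW : Smooth (W.ι ≫ f) := Scheme.Hom.smoothLocus_eq_top_iff.1 (by
      rw [← Scheme.Hom.preimage_smoothLocus_eq]
      exact Scheme.Opens.ι_preimage_self W)
    obtain ⟨U₀, hU₀, V₁, hV₁, hx, e₁, hst⟩ := Smooth.exists_isStandardSmooth (W.ι ≫ f) ⟨i.base y, hy⟩
    let V₀ : X.Opens := W.ι ''ᵁ V₁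
    have hV₀ : IsAffineOpen V₀ := hV₁.image_of_isOpenImmersion _
    have e₀ : V₀ ≤ f ⁻¹ᵁ U₀ := by
      rintro _ ⟨z, hz, rfl⟩
      exact e₁ hz
    haveI : IsAffine V₀.toScheme := hV₀
    haveI : IsAffine U₀.toScheme := hU₀
    haveI := hV₁
    haveI hetW : Smooth (W.ι ≫ f) := hW
    have harr : (f.resLE U₀ V₀ e₀).appTop.hom.IsStandardSmooth := by
      have ha : f.appLE U₀ V₀ e₀ = (W.ι ≫ f).appLE U₀ V₁ e₁ ≫ (W.ι.appIso V₁).inv := by
        rw [Scheme.Hom.comp_appLE _ _ U₀ V₁]
        simp [Scheme.Hom.app_eq_appLE, V₀]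
        rfl
      refine (RingHom.isStandardSmooth_respectsIso.arrow_mk_iso_iff (arrowResLEAppIso f U₀ V₀ e₀)).2 ?_
      rw [ha]
      exact RingHom.isStandardSmooth_respectsIso.1 _ (W.ι.appIso V₁).symm.commRingCatIsoToRingEquiv hst
    obtain ⟨m, g, hgC, hg⟩ := harr.exists_etale_mvPolynomial
    let w₀ : ULift.{u} (Fin m) → Γ(V₀.toScheme, ⊤) := fun j => g (MvPolynomial.X j.down)
    have h0 : Etale (AffineSpace.homOfVector (f.resLE U₀ V₀ e₀) w₀) := by
      apply EtChart.etale_homOfVector_of_isAffine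
      have he : MvPolynomial.eval₂Hom (f.resLE U₀ V₀ e₀).appTop.hom w₀ =
          g.comp (MvPolynomial.renameEquiv _ Equiv.ulift).toRingEquiv.toRingHom := by
        apply MvPolynomial.ringHom_ext
        · intro a
          have hC := RingHom.congr_fun hgC a
          simp only [MvPolynomial.eval₂Hom_C, RingHom.comp_apply] at hC ⊢
          rw [← hC]
          simp
        · intro j
          simp [w₀]
      rw [he]
      exact RingHom.Etale.respectsIso.2 g (MvPolynomial.renameEquiv _ Equiv.ulift).toRingEquiv hg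
    let U : Y.Opens := U₀ ⊓ i ⁻¹ᵁ V₀
    let V : X.Opens := V₀ ⊓ f ⁻¹ᵁ U
    have hfi : ∀ z : Y, f.base (i.base z) = z := fun z => congrArg (fun φ : Y ⟶ Y => φ.base z) hi
    have hyV : i.base y ∈ V₀ := ⟨⟨i.base y, hy⟩, hx, rfl⟩
    have hyU : y ∈ U := ⟨by have h := e₀ hyV; rwa [← hfi y], hyV⟩
    have hUV : U ≤ i ⁻¹ᵁ V := fun z hz => ⟨hz.2, show f.base (i.base z) ∈ U by rwa [hfi]⟩
    have hVU : V ≤ f ⁻¹ᵁ U := inf_le_right
    let w : ULift.{u} (Fin m) → Γ(V.toScheme, ⊤) := fun j => (X.homOfLE (inf_le_left : V ≤ V₀)).appTop (w₀ j)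
    let c : ULift.{u} (Fin m) → Γ(U.toScheme, ⊤) := fun j => (i.resLE V U hUV).appTop (w j)
    have h1 : Etale (AffineSpace.homOfVector (f.resLE U V hVU) w) := by
      haveI := h0
      have e : AffineSpace.homOfVector (f.resLE U V hVU) w ≫ AffineSpace.map _ (Y.homOfLE (inf_le_left : U ≤ U₀)) =
          X.homOfLE (inf_le_left : V ≤ V₀) ≫ AffineSpace.homOfVector (f.resLE U₀ V₀ e₀) w₀ := by
        apply AffineSpace.hom_ext
        · simp [Scheme.Hom.resLE_map, Scheme.Hom.map_resLE]
          rfl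
        · intro j
          simp [w]
          rfl
      haveI : IsOpenImmersion (AffineSpace.map (ULift.{u} (Fin m)) (Y.homOfLE (inf_le_left : U ≤ U₀))) :=
        MorphismProperty.of_isPullback (P := @IsOpenImmersion)
          (AffineSpace.isPullback_map (Y.homOfLE (inf_le_left : U ≤ U₀))).flip inferInstance
      refine MorphismProperty.of_postcomp (W := @Etale) (W' := @Etale) _
        (AffineSpace.map _ (Y.homOfLE (inf_le_left : U ≤ U₀))) inferInstance ?_
      rw [e]
      infer_instance
    refine ⟨U, V, hyU, hUV, hVU, m, fun j => w j - (f.resLE U V hVU).appTop (c j), ?_, fun j => ?_⟩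
    · rw [← EtChart.comp_translate]
      haveI := h1
      haveI := EtChart.isIso_translate c
      infer_instance
    · have hid : i.resLE V U hUV ≫ f.resLE U V hVU = 𝟙 _ := by
        rw [Scheme.Hom.resLE_comp_resLE, ← cancel_mono U.ι, Scheme.Hom.resLE_comp_ι, hi]
        simp
      have := congrArg (fun φ : U.toScheme ⟶ U.toScheme => φ.appTop (c j)) hid
      simp only [Scheme.Hom.comp_appTop, CommRingCat.comp_apply, Scheme.Hom.id_appTop, CommRingCat.id_apply] at this
      rw [map_sub, this, sub_self]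
  · rintro ⟨U, V, hyU, hUV, hVU, m, v, hv, -⟩
    haveI := hv
    haveI := EtChart.smooth_over (ULift.{u} (Fin m)) U
    have h2 : Smooth (V.ι ≫ f) := by
      rw [← Scheme.Hom.resLE_comp_ι f hVU, ← AffineSpace.homOfVector_over (f.resLE U V hVU) v]
      infer_instance
    haveI := h2
    have := (V.ι ≫ f).smoothLocus_eq_top
    rw [← Scheme.Hom.preimage_smoothLocus_eq] at this
    exact (this ▸ TopologicalSpace.Opens.mem_top (⟨i.base y, hUV hyU⟩ : V) :
      (⟨i.base y, hUV hyU⟩ : V) ∈ V.ι ⁻¹ᵁ f.smoothLocus)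

end Groth.Agent.S3713
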