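import Groth.Statements.S3720
import Groth.Agent.GalTorsor.Scheme
-- import your own Groth.Agent.* helpers here

set_option autoImplicit false
open CategoryTheory CategoryTheory.Limits AlgebraicGeometry
universe u
open SGA1t

namespace Groth.Agent.S3720

open CategoryTheory AlgebraicGeometry Polynomial

/-- the resolvent of a character which separates the group modulo the maximal ideal -/
theorem exists_resolvent (A : Type u) [CommRing A] [IsLocalRing A] {B : Type u} [CommRing B] [Algebra A B]
    {G : Type u} [CommGroup G] [Fintype G] [MulSemiringAction G B] [SMulCommClass G A B]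
    [Algebra.FormallyUnramified A B] [Algebra.EssFiniteType A B] [Module.FaithfullyFlat A B] [Module.Finite A B]
    (hG : GalTorsor.IsTorsor A B G) (χ : G →* A) (n : ℕ) (hn1 : 1 ≤ n) (hχn : ∀ g, χ g ^ n = 1)
    (hχ : ∀ g, g ≠ 1 → IsUnit (χ g - 1)) (hcard : Fintype.card G = n) :
    ∃ (a : Aˣ) (b : B), (∀ g : G, g • b = algebraMap A B (χ g) * b) ∧ aeval b (X ^ n - C (a : A) : A[X]) = 0 ∧
      Function.Surjective (aeval (R := A) b) ∧ ∀ r : A[X], aeval b r = 0 → (X ^ n - C (a : A) : A[X]) ∣ r := by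
  classical
  let ι : G → B := fun g => algebraMap A B (χ g)
  have hinj : Function.Injective (algebraMap A B) := FaithfulSMul.algebraMap_injective A B
  haveI : Nontrivial B := hinj.nontrivial
  have hι1 : ∀ g h, ι (g * h) = ι g * ι h := fun g h => by simp [ι]
  have hιi : ∀ g, ι g * ι g⁻¹ = 1 := fun g => by rw [← hι1, mul_inv_cancel]; simp [ι]
  have hιn : ∀ g, ι g ^ n = 1 := fun g => by simp only [ι, ← map_pow, hχn, map_one]
  have hsm : ∀ (g : G) h, g • ι h = ι h := fun g h => by
    simp only [ι, Algebra.algebraMap_eq_smul_one]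
    rw [smul_comm, smul_one]
  let Res : B → B := fun c => ∑ g : G, ι g⁻¹ * g • c
  have hRes : ∀ g c, g • Res c = ι g * Res c := fun g c => by
    simp only [Res, Finset.smul_sum, Finset.mul_sum, smul_mul', hsm, smul_smul]
    refine Fintype.sum_equiv (Equiv.mulLeft g) _ _ fun h => ?_
    show ι h⁻¹ * (g * h) • c = ι g * (ι (g * h)⁻¹ * (g * h) • c)
    rw [← mul_assoc, ← hι1, mul_inv_rev, mul_comm h⁻¹, mul_inv_cancel_left]
  obtain ⟨M₀, hM₀⟩ := Ideal.exists_maximal B
  obtain ⟨c, hc⟩ : ∃ c, Res c ∉ M₀ := by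
    by_contra! hall
    obtain ⟨s, hs⟩ := GalTorsor.exists_chr A hG
    refine hM₀.ne_top ((Ideal.eq_top_iff_one _).2 ?_)
    have h1 : ∑ i ∈ s, Res i.1 * i.2 = 1 := by
      simp only [Res, Finset.sum_mul, mul_assoc]
      rw [Finset.sum_comm, Finset.sum_eq_single (1 : G)
        (fun g _ hg => by rw [← Finset.mul_sum, (hs g).2 hg, mul_zero]) (by simp)]
      rw [← Finset.mul_sum, (hs 1).1 rfl, inv_one, mul_one]
      simp [ι]
    rw [← h1]
    exact M₀.sum_mem fun i _ => M₀.mul_mem_right _ (hall _)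
  haveI : Algebra.IsIntegral A B := Algebra.IsIntegral.of_finite A B
  haveI : Algebra.IsInvariant A B G := ⟨fun z hz => GalTorsor.mem_range_of_fixed A hG hz⟩
  have hu : IsUnit (Res c) := by
    by_contra h
    obtain ⟨M, hM, hMc⟩ := exists_max_ideal_of_mem_nonunits h
    haveI := hM; haveI := hM₀
    obtain ⟨g, hg⟩ := Algebra.IsInvariant.exists_smul_of_under_eq A B G M₀ M
      ((IsLocalRing.eq_maximalIdeal (Ideal.isMaximal_comap_of_isIntegral_of_isMaximal M₀)).trans
        (IsLocalRing.eq_maximalIdeal (Ideal.isMaximal_comap_of_isIntegral_of_isMaximal M)).symm)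
    rw [hg, Ideal.mem_pointwise_smul_iff_inv_smul_mem, hRes] at hMc
    exact hc (by
      have := M₀.mul_mem_left (ι g) hMc
      rwa [← mul_assoc, hιi, one_mul] at this)
  obtain ⟨a₀, ha₀⟩ := GalTorsor.mem_range_of_fixed A hG (z := Res c ^ n) fun g => by
    rw [smul_pow', hRes, mul_pow, hιn, one_mul]
  have haU : IsUnit a₀ := by
    by_contra h
    have h1 : algebraMap A B a₀ ∈ M₀ := by
      haveI := hM₀
      have h2 := IsLocalRing.eq_maximalIdeal (Ideal.isMaximal_comap_of_isIntegral_of_isMaximal (R := A) M₀)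
      exact (h2 ▸ (IsLocalRing.mem_maximalIdeal _).2 h : a₀ ∈ M₀.comap (algebraMap A B))
    rw [ha₀] at h1
    exact hc (hM₀.isPrime.mem_of_pow_mem n h1)
  obtain ⟨a, rfl⟩ := haU
  have hunit : ∀ g : G, g ≠ 1 → IsUnit (g • Res c - Res c) := fun g hg => by
    rw [hRes, ← sub_one_mul]
    refine IsUnit.mul ?_ hu
    simpa [ι] using (hχ g hg).map (algebraMap A B)
  have hfb : aeval (Res c) (X ^ n - C (a : A) : A[X]) = 0 := by simp [ha₀]
  obtain ⟨hsurjR', hdvd⟩ := GalTorsor.bijective_gen A hG (Res c) hunit _ (monic_X_pow_sub_C _ (by omega))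
    (by rw [hcard, natDegree_X_pow_sub_C]) hfb
  exact ⟨a, Res c, fun g => hRes g c, hfb, hsurjR', hdvd⟩

/-- Kummer theory over a local ring: let A be a local ring, n ≥ 1 an integer invertible in A, and
suppose A contains a primitive n-th root of unity (so that the group μ_n(A) of n-th roots of unity
in A is cyclic of order n). Then every principal μ_n(A)-cover P of Spec A is isomorphic over Spec A
to a Kummer cover Spec A[T]/(Tⁿ − a) for some unit a of A, compatibly with the actions: the given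
action of a root of unity ζ on P corresponds to the automorphism of A[T]/(Tⁿ − a) induced by T ↦ ζT. -/
theorem result (A : Type u) [CommRing A] [IsLocalRing A] (n : ℕ) (hn1 : 1 ≤ n)
    (hn : IsUnit ((n : ℕ) : A)) (ζ₀ : A) (hζ₀ : IsPrimitiveRoot ζ₀ n)
    (P : FEt.Cat (Spec (CommRingCat.of A))) (ρ : ↥(rootsOfUnity n A) →* Aut P)
    (hP : SGA1t.IsPrincipal ↥(rootsOfUnity n A) P ρ) :
    ∃ (a : Aˣ) (e : P.left ≅ Spec (CommRingCat.of (SGA1t.kummer A (fun _ : Unit => (a : A)) (fun _ => n)))),
      e.hom ≫ Spec.map (CommRingCat.ofHom (algebraMap A (SGA1t.kummer A (fun _ : Unit => (a : A)) (fun _ => n)))) = P.hom ∧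
      ∀ ζ : ↥(rootsOfUnity n A), (ρ ζ).hom.left ≫ e.hom =
        e.hom ≫ Spec.map (CommRingCat.ofHom (SGA1t.kummerTwist A (fun _ : Unit => (a : A)) (fun _ => n) (fun _ => ζ))) := by
  obtain ⟨B, _, _, _, _, _, _, _, _, κ, hκ, hact, hG⟩ := GalTorsor.exists_ring A _ P ρ hP
  classical
  haveI : NeZero n := ⟨by omega⟩
  have hres : ∀ z : A, ¬ IsUnit z → IsLocalRing.residue A z = 0 := fun z h =>
    Ideal.Quotient.eq_zero_iff_mem.2 ((IsLocalRing.mem_maximalIdeal _).2 h)
  have hA : ∀ z : A, z ^ n = 1 → ¬ IsUnit (z - 1) → z = 1 := fun z hz h => by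
    have hs : IsUnit (∑ i ∈ Finset.range n, z ^ i) := by
      by_contra hns
      have h' := hres _ h
      have h'' := hres _ hns
      rw [map_sub, map_one, sub_eq_zero] at h'
      simp only [map_sum, map_pow, h', one_pow, Finset.sum_const, Finset.card_range, nsmul_eq_mul, mul_one] at h''
      exact (hn.map (IsLocalRing.residue A)).ne_zero (by simpa using h'')
    have := geom_sum_mul z n
    rw [hz, sub_self] at this
    exact sub_eq_zero.1 (hs.mul_right_eq_zero.1 this)
  have hroot : ∀ g : ↥(rootsOfUnity n A), ((g : Aˣ) : A) ^ n = 1 := fun g => by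
    simpa using congrArg Units.val ((mem_rootsOfUnity n _).1 g.2)
  let red : ↥(rootsOfUnity n A) → ↥(Polynomial.nthRootsFinset n (1 : IsLocalRing.ResidueField A)) := fun g =>
    ⟨IsLocalRing.residue A ((g : Aˣ) : A), (Polynomial.mem_nthRootsFinset (by omega) _).2
      (by rw [← map_pow, hroot, map_one])⟩
  have hred : Function.Injective red := fun g h hgh => by
    have h1 : (((g * h⁻¹ : ↥(rootsOfUnity n A)) : Aˣ) : A) = 1 := by
      refine hA _ (hroot _) fun hu => (hu.map (IsLocalRing.residue A)).ne_zero ?_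
      have h2 : IsLocalRing.residue A ((g : Aˣ) : A) = IsLocalRing.residue A ((h : Aˣ) : A) :=
        congrArg Subtype.val hgh
      simp only [map_sub, map_one, Subgroup.coe_mul, InvMemClass.coe_inv, Units.val_mul, map_mul, h2]
      rw [← map_mul, Units.mul_inv, map_one, sub_self]
    exact mul_inv_eq_one.1 (Subtype.ext (Units.ext h1))
  haveI : Finite ↥(rootsOfUnity n A) := Finite.of_injective red hred
  letI : Fintype ↥(rootsOfUnity n A) := Fintype.ofFinite _
  have hcard : Fintype.card ↥(rootsOfUnity n A) = n := by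
    refine le_antisymm ((Fintype.card_le_of_injective red hred).trans ?_) ?_
    · rw [Fintype.card_coe, Polynomial.nthRootsFinset_def]
      exact (Multiset.toFinset_card_le _).trans (Polynomial.card_nthRoots n _)
    · let pw : Fin n → ↥(rootsOfUnity n A) := fun i =>
        ⟨(hζ₀.isUnit (by omega)).unit ^ (i : ℕ), (mem_rootsOfUnity n _).2 (Units.ext (by
          simp only [Units.val_pow_eq_pow_val, IsUnit.unit_spec, Units.val_one]
          rw [← pow_mul, mul_comm, pow_mul, hζ₀.pow_eq_one, one_pow]))⟩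
      have hpw : Function.Injective pw := fun i j hij => Fin.ext (hζ₀.pow_inj i.2 j.2 (by
        simpa [pw] using congrArg (fun g : ↥(rootsOfUnity n A) => ((g : Aˣ) : A)) hij))
      simpa using Fintype.card_le_of_injective pw hpw
  let χ : ↥(rootsOfUnity n A) →* A := (Units.coeHom A).comp (rootsOfUnity n A).subtype
  obtain ⟨a, b, hb, hfb, hsurjR', hdvd⟩ := exists_resolvent A hG χ n hn1 hroot
    (fun g hg => Decidable.not_not.1 fun h => hg (Subtype.ext (Units.ext (hA _ (hroot g) h)))) hcard
  let π := MvPolynomial.pUnitAlgEquiv.{u, 0} A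
  have hπ : ∀ r : MvPolynomial Unit A, MvPolynomial.aeval (fun _ => b) r = aeval (b) (π r) := fun r =>
    DFunLike.congr_fun (MvPolynomial.algHom_ext (f := MvPolynomial.aeval fun _ => b)
      (g := (aeval (b)).comp π.toAlgHom) fun i => by simp [π]) r
  let ε : SGA1t.kummer A (fun _ : Unit => (a : A)) (fun _ => n) →+* B :=
    Ideal.Quotient.lift _ (MvPolynomial.aeval fun _ : Unit => b).toRingHom fun r hr => by
      refine (Ideal.span_le.2 ?_ : _ ≤ RingHom.ker _) hr
      rintro _ ⟨i, rfl⟩
      simpa using hfb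
  have hker : ∀ r : MvPolynomial Unit A, ε (Ideal.Quotient.mk _ r) = 0 →
      (Ideal.Quotient.mk _ r : SGA1t.kummer A (fun _ : Unit => (a : A)) (fun _ => n)) = 0 := fun r hr => by
    obtain ⟨q, hq⟩ := hdvd (π r) ((hπ r).symm.trans hr)
    refine Ideal.Quotient.eq_zero_iff_mem.2 ?_
    rw [← π.symm_apply_apply r, hq, map_mul]
    refine Ideal.mul_mem_right _ _ (Ideal.subset_span ⟨(), ?_⟩)
    simp [π]
  have hsurjR : Function.Surjective (MvPolynomial.aeval (R := A) fun _ : Unit => b) := fun z => by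
    obtain ⟨r, hr⟩ := hsurjR' z
    exact ⟨π.symm r, by rw [hπ, π.apply_symm_apply, hr]⟩
  have hC : ∀ x, ε (algebraMap A _ x) = algebraMap A B x := fun x => (MvPolynomial.aeval fun _ : Unit => b).commutes x
  have htw : ∀ j : ↥(rootsOfUnity n A), ε.comp (SGA1t.kummerTwist A (fun _ : Unit => (a : A)) (fun _ => n) fun _ => j) =
      (MulSemiringAction.toRingHom _ B j).comp ε := fun j => by
    refine Ideal.Quotient.ringHom_ext (MvPolynomial.ringHom_ext (fun x => ?_) fun i => ?_)
    · simp [ε, SGA1t.kummerTwist, smul_algebraMap]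
    · simp [ε, SGA1t.kummerTwist, hb, χ]
  have hε : Function.Bijective ε := by
    refine ⟨(injective_iff_map_eq_zero ε).2 fun z hz => ?_, fun z => ?_⟩
    · obtain ⟨r, rfl⟩ := Ideal.Quotient.mk_surjective z
      exact hker r hz
    · obtain ⟨r, hr⟩ := hsurjR z
      exact ⟨Ideal.Quotient.mk _ r, hr⟩
  haveI : IsIso (CommRingCat.ofHom ε) :=
    (ConcreteCategory.isIso_iff_bijective _).2 hε
  refine ⟨a, κ ≪≫ asIso (Spec.map (CommRingCat.ofHom ε)), ?_, fun j => ?_⟩
  · rw [Iso.trans_hom, asIso_hom, Category.assoc, ← hκ, ← Spec.map_comp, ← CommRingCat.ofHom_comp]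
    congr 3
    exact RingHom.ext fun x => hC x
  · rw [Iso.trans_hom, asIso_hom, Category.assoc, ← Spec.map_comp, ← CommRingCat.ofHom_comp, htw j,
      CommRingCat.ofHom_comp, Spec.map_comp]
    rw [← Category.assoc, ← Category.assoc]
    exact congrArg (· ≫ Spec.map (CommRingCat.ofHom ε)) (hact _)

end Groth.Agent.S3720
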