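import Groth.Statements.S3721
import Groth.Agent.GalTorsor.Scheme
-- import your own Groth.Agent.* helpers here

set_option autoImplicit false
open CategoryTheory CategoryTheory.Limits AlgebraicGeometry
universe u
open SGA1t

namespace Groth.Agent.S3721

open CategoryTheory AlgebraicGeometry Polynomial

/-- Let p be a prime and A a commutative ring of characteristic p. Then every principal ℤ/p-cover P of
Spec A (a finite étale cover with an action of ℤ/p making it a torsor) is isomorphic over Spec A to
an Artin–Schreier cover Spec A[T]/(T^p − T − a) for some a ∈ A, compatibly with the actions: under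
the isomorphism the given action of j ∈ ℤ/p on P corresponds to the automorphism of the
Artin–Schreier cover induced by T ↦ T + j. The published statement is for any base S of
characteristic p on which Frobenius fixes no nonzero element of H¹(S, O_S); it is stated here for S
= Spec A affine. -/
theorem result (A : Type u) [CommRing A] (p : ℕ) [Fact p.Prime] [CharP A p]
    (P : FEt.Cat (Spec (CommRingCat.of A))) (ρ : Multiplicative (ZMod p) →* Aut P)
    (hP : SGA1t.IsPrincipal (Multiplicative (ZMod p)) P ρ) :
    ∃ (a : A) (e : P.left ≅ Spec (CommRingCat.of (SGA1t.artinSchreier A p a))),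
      e.hom ≫ Spec.map (CommRingCat.ofHom (algebraMap A (SGA1t.artinSchreier A p a))) = P.hom ∧
      ∀ j : ZMod p, (ρ (Multiplicative.ofAdd j)).hom.left ≫ e.hom =
        e.hom ≫ Spec.map (CommRingCat.ofHom (SGA1t.artinSchreierShift A p a j)) := by
  obtain ⟨B, _, _, _, _, _, _, _, _, κ, hκ, hact, hG⟩ := GalTorsor.exists_ring A _ P ρ hP
  classical
  have hinj : Function.Injective (algebraMap A B) := FaithfulSMul.algebraMap_injective A B
  haveI : CharP B p := charP_of_injective_algebraMap hinj p
  let ι : ZMod p →+* B := ZMod.castHom (dvd_refl p) B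
  obtain ⟨c, hc⟩ := GalTorsor.exists_trace_one A hG
  have hι : ∀ (g : Multiplicative (ZMod p)) (k : ZMod p), g • ι k = ι k := fun g k =>
    RingHom.congr_fun (Subsingleton.elim ((MulSemiringAction.toRingHom _ B g).comp ι) ι) k
  let b : B := -∑ g : Multiplicative (ZMod p), ι g.toAdd * g • c
  have hb : ∀ g : Multiplicative (ZMod p), g • b = b + ι g.toAdd := fun g => by
    have h2 : ∑ h : Multiplicative (ZMod p), ι (g * h).toAdd * (g * h) • c =
        ∑ h : Multiplicative (ZMod p), ι h.toAdd * h • c :=
      Equiv.sum_comp (Equiv.mulLeft g) fun h => ι h.toAdd * h • c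
    simp only [b, smul_neg, Finset.smul_sum, smul_mul', hι, smul_smul]
    rw [← h2]
    simp only [toAdd_mul, map_add, add_mul, Finset.sum_add_distrib, ← Finset.mul_sum]
    rw [show ∑ h : Multiplicative (ZMod p), (g * h) • c = 1 from
      (Equiv.sum_comp (Equiv.mulLeft g) fun h => h • c).trans hc]
    ring
  obtain ⟨a, ha⟩ := GalTorsor.mem_range_of_fixed A hG (z := b ^ p - b) fun g => by
    rw [smul_sub, smul_pow', hb, add_pow_char, ← map_pow, ZMod.pow_card]; ring
  have hunit : ∀ g : Multiplicative (ZMod p), g ≠ 1 → IsUnit (g • b - b) := fun g hg => by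
    rw [hb, add_sub_cancel_left]
    exact (IsUnit.mk0 _ (by simpa using hg)).map ι
  haveI : Nontrivial A := CharP.nontrivial_of_char_ne_one (v := p) (Fact.out : p.Prime).ne_one
  have hdeg : (X ^ p - X - C a : A[X]).natDegree = p := by
    rw [natDegree_sub_C, natDegree_sub_eq_left_of_natDegree_lt (by simpa using (Fact.out : p.Prime).one_lt),
      natDegree_X_pow]
  have hmon : (X ^ p - X - C a : A[X]).Monic := by
    rw [sub_sub]
    exact monic_X_pow_sub ((degree_X_add_C a).le.trans_lt (by exact_mod_cast (Fact.out : p.Prime).one_lt))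
  have hfb : aeval b (X ^ p - X - C a : A[X]) = 0 := by simp [ha]
  obtain ⟨hsurjR, hdvd⟩ := GalTorsor.bijective_gen A hG b hunit _ hmon
    (by rw [hdeg, Fintype.card_multiplicative, ZMod.card]) hfb
  let ε : SGA1t.artinSchreier A p a →+* B := Ideal.Quotient.lift _ (aeval b).toRingHom fun r hr => by
    obtain ⟨q, rfl⟩ := Ideal.mem_span_singleton.1 hr
    show aeval b _ = 0
    rw [map_mul, hfb, zero_mul]
  have hker : ∀ r, ε (Ideal.Quotient.mk _ r) = 0 → Ideal.Quotient.mk _ r = 0 := fun r hr =>
    Ideal.Quotient.eq_zero_iff_mem.2 (Ideal.mem_span_singleton.2 (hdvd r hr))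
  have hC : ∀ x, ε (algebraMap A _ x) = algebraMap A B x := fun x => aeval_C b x
  have htw : ∀ j : ZMod p, ε.comp (SGA1t.artinSchreierShift A p a j) =
      (MulSemiringAction.toRingHom _ B (Multiplicative.ofAdd j)).comp ε := fun j => by
    refine Ideal.Quotient.ringHom_ext (Polynomial.ringHom_ext (fun x => ?_) ?_)
    · simp [ε, SGA1t.artinSchreierShift, smul_algebraMap]
    · have hι' : algebraMap A B (ZMod.castHom (dvd_refl p) A j) = ι j :=
        RingHom.congr_fun (Subsingleton.elim ((algebraMap A B).comp (ZMod.castHom (dvd_refl p) A)) ι) j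
      simp only [ε, SGA1t.artinSchreierShift, RingHom.comp_apply, Ideal.Quotient.lift_mk, AlgHom.toRingHom_eq_coe,
        RingHom.coe_coe, aeval_X, map_add, aeval_C, hι', MulSemiringAction.toRingHom_apply, hb, toAdd_ofAdd]
  have hε : Function.Bijective ε := by
    refine ⟨(injective_iff_map_eq_zero ε).2 fun z hz => ?_, fun z => ?_⟩
    · obtain ⟨r, rfl⟩ := Ideal.Quotient.mk_surjective z
      exact hker r hz
    · obtain ⟨r, hr⟩ := hsurjR z
      exact ⟨Ideal.Quotient.mk _ r, hr⟩
  haveI : IsIso (CommRingCat.ofHom ε) :=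
    (ConcreteCategory.isIso_iff_bijective _).2 hε
  refine ⟨a, κ ≪≫ asIso (Spec.map (CommRingCat.ofHom ε)), ?_, fun j => ?_⟩
  · rw [Iso.trans_hom, asIso_hom, Category.assoc, ← hκ, ← Spec.map_comp, ← CommRingCat.ofHom_comp]
    congr 3
    exact RingHom.ext fun x => hC x
  · rw [Iso.trans_hom, asIso_hom, Category.assoc, ← Spec.map_comp, ← CommRingCat.ofHom_comp, htw j,
      CommRingCat.ofHom_comp, Spec.map_comp]
    rw [← Category.assoc, ← Category.assoc]
    exact congrArg (· ≫ Spec.map (CommRingCat.ofHom ε)) (hact _)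

end Groth.Agent.S3721
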