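import Groth.Statements.S3726
import Groth.Agent.EtModShriek.Closed

set_option autoImplicit false
universe u
open CategoryTheory CategoryTheory.Limits AlgebraicGeometry Opposite
attribute [local instance] HasDerivedCategory.standard
open EtDl

namespace Groth.Agent.S3726

/-- Constant torsion coefficients, stated as the resulting adjunction: let i : Z -> X be a closed
immersion of quasi-compact quasi-separated schemes with a compactification c, j : U -> X an open
immersion whose image is the complement of the image of i, and Λ a commutative ring with n·1 = 0 for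
some n ≥ 1. Then the functor L ↦ i^* RΓ_Z(L), where Γ_Z(F) = ker(F -> j_* j^* F) is the sheaf of
sections supported in Z, from D^+(X_et, Λ) to D^+(Z_et, Λ), is right adjoint to Ri_! = R(ibar)_* ∘
j'_! computed through c. -/
theorem result {Z X U : Scheme.{u}} [CompactSpace ↥Z] [QuasiSeparatedSpace ↥Z]
    [CompactSpace ↥X] [QuasiSeparatedSpace ↥X]
    {i : Z ⟶ X} [IsClosedImmersion i] (c : DEt.Compactification i) (j : U ⟶ X) [IsOpenImmersion j]
    (hij : Set.range j.base = (Set.range i.base)ᶜ)
    (Λ : Type (u + 1)) [CommRing Λ] (n : ℕ) (hn : 0 < n) (hΛ : (n : Λ) = 0) :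
    Nonempty (EtDl.RshriekPlus Λ c ⊣ EtDl.secSuppPlus Λ j ⋙ EtDl.pullPlus Λ i) := by
  exact Groth.Agent.EtModShriek.nonempty_adj_closed Λ i j hij c n hn hΛ

end Groth.Agent.S3726
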