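import Groth.Statements.S3753
import Groth.Agent.NormDef.Models
import Groth.Agent.S3752
import Groth.Agent.K0ResLF.RRPn
import Groth.Agent.Nagata.Bundles
-- import your own Groth.Agent.* helpers here

set_option autoImplicit false
set_option linter.style.haveILetI false
universe v u
open CategoryTheory CategoryTheory.Limits AlgebraicGeometry
attribute [local instance] HasDerivedCategory.standard
open scoped TensorProduct
open KRR

namespace Groth.Agent.S3753

theorem lTensor_mul {R : Type} [CommRing R] {A B : Type v} [CommRing A] [CommRing B] (g : A →+ B)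
    (hm : ∀ x y, g (x * y) = g x * g y) (u w : TensorProduct ℤ R A) :
    LinearMap.lTensor R g.toIntLinearMap (u * w) =
      LinearMap.lTensor R g.toIntLinearMap u * LinearMap.lTensor R g.toIntLinearMap w := by
  induction u using TensorProduct.induction_on with
  | zero => simp
  | add u u' hu hu' => simp only [add_mul, map_add, hu, hu']
  | tmul r z =>
    induction w using TensorProduct.induction_on with
    | zero => simp
    | add w w' hw hw' => simp only [map_add, mul_add, hw, hw']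
    | tmul r' z' =>
      rw [LinearMap.lTensor_tmul, LinearMap.lTensor_tmul, Algebra.TensorProduct.tmul_mul_tmul,
        Algebra.TensorProduct.tmul_mul_tmul, LinearMap.lTensor_tmul]
      exact congrArg _ (hm z z')

theorem lTensor_proj {R : Type} [CommRing R] {A B : Type v} [CommRing A] [CommRing B] (g : A →+ B) (a : B →+ A)
    (hp : ∀ x y, a (x * g y) = a x * y) (t : TensorProduct ℤ R B) (w : TensorProduct ℤ R A) :
    LinearMap.lTensor R a.toIntLinearMap (t * LinearMap.lTensor R g.toIntLinearMap w) =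
      LinearMap.lTensor R a.toIntLinearMap t * w := by
  induction t using TensorProduct.induction_on with
  | zero => simp
  | add t t' ht ht' => simp only [add_mul, map_add, ht, ht']
  | tmul r u =>
    induction w using TensorProduct.induction_on with
    | zero => simp
    | add w w' hw hw' => simp only [map_add, mul_add, hw, hw']
    | tmul r' w =>
      rw [LinearMap.lTensor_tmul, Algebra.TensorProduct.tmul_mul_tmul, LinearMap.lTensor_tmul,
        LinearMap.lTensor_tmul, Algebra.TensorProduct.tmul_mul_tmul]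
      exact congrArg _ (hp u w)

theorem natCast_mul_lTensor {R : Type} [CommRing R] {A B : Type v} [CommRing A] [CommRing B] (a : A →+ B) (n : ℕ)
    (t : TensorProduct ℤ R A) : LinearMap.lTensor R a.toIntLinearMap ((n : TensorProduct ℤ R A) * t) =
      (n : TensorProduct ℤ R B) * LinearMap.lTensor R a.toIntLinearMap t := by
  rw [← nsmul_eq_mul, map_nsmul, nsmul_eq_mul]

theorem inv_unique {R : Type} [CommRing R] {A : Type v} [CommRing A] {w w' q : TensorProduct ℤ R A} (h : w * q = 1) (h' : w' * q = 1) : w = w' := by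
  calc w = w * (w' * q) := by rw [h', mul_one]
    _ = w' * (w * q) := by ring
    _ = w' := by rw [h, mul_one]

/-- Let S be affine Noetherian, Y connected and quasi-projective over S, and f = i ≫ p : X ⟶ Y with i :
X ⟶ P = P^n_Y a regular closed imbedding (X connected, conormal module C finite locally free of rank
c) and p the projection. With models of K(X), K(P), K(Y), the pull-back i^K, and push-forwards i_K
(via resolutions) and p_K (via regular sheaves), put f_K = p_K ∘ i_K and R = ℤ[1/j]. The source's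
multiplier θ^j(T_f^∨)^{-1}, where T_f = [i^* T_{P/Y}] - [N_{X/P}] is the tangent element, equals j ·
θ^j([C]) · θ^j(i^K q)^{-1} with q = [p^*O_Y^{n+1} ⊗ O_P(-1)]. Then 1 ⊗ θ^j(i^K q) is invertible in R
⊗ K(X) and, for every x ∈ K(X) and every inverse w of it: 1 ⊗ ψ^j(f_K x) = (R ⊗ f_K)(j · (1 ⊗
θ^j([C]) ψ^j(x)) · w). -/
theorem result (S : Scheme.{u}) [IsAffine S] [IsNoetherian S] (n : ℕ) {X Y : Scheme.{u}} [IsNoetherian Y] [ConnectedSpace ↥Y] (qY : Y ⟶ S) (hqY : KRR.IsQProjOver qY)
    (i : X ⟶ KRR.PY n Y) (hi : Mor2.IsRegularClosedImmersion i) [ConnectedSpace ↥X] (c : ℕ)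
    (hC : FlatMod.IsFinLocFreeOfRank c (Omega.conormal i))
    (KX : Type v) [CommRing KX] [LambdaRing.LambdaOps KX] (PX : LambdaRing.PosStructure KX) (φX : SGA6.Kvb X →+ KX) (hKX : KRR.IsModel X KX PX φX)
    (KP : Type v) [CommRing KP] [LambdaRing.LambdaOps KP] (PP : LambdaRing.PosStructure KP) (φP : SGA6.Kvb (KRR.PY n Y) →+ KP) (hKP : KRR.IsModel (KRR.PY n Y) KP PP φP)
    (KY : Type v) [CommRing KY] [LambdaRing.LambdaOps KY] (PY : LambdaRing.PosStructure KY) (φY : SGA6.Kvb Y →+ KY) (hKY : KRR.IsModel Y KY PY φY)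
    (gi : KP →+ KX) (hgi : KRR.IsPull i φP φX gi)
    (a : KX →+ KP) (ha : KRR.IsPushCl i φX φP a) (b : KP →+ KY) (hb : KRR.IsPushPr n Y φP φY b)
    (j : ℕ) (hj : 1 ≤ j) (x : KX)
    :
    (∃ w : TensorProduct ℤ (Localization.Away (j : ℤ)) KX, w * ((1 : Localization.Away (j : ℤ)) ⊗ₜ[ℤ] KRR.bott PX j (gi (φP (KRR.cl (KRR.PY n Y)
      (KRR.twF n Y (-1) ((Scheme.Modules.pullback (KRR.pr n Y)).obj (FlatMod.freeMod Y (n + 1)))))))) = 1) ∧
    ∀ w : TensorProduct ℤ (Localization.Away (j : ℤ)) KX, w * ((1 : Localization.Away (j : ℤ)) ⊗ₜ[ℤ] KRR.bott PX j (gi (φP (KRR.cl (KRR.PY n Y)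
      (KRR.twF n Y (-1) ((Scheme.Modules.pullback (KRR.pr n Y)).obj (FlatMod.freeMod Y (n + 1)))))))) = 1 →
    (1 : Localization.Away (j : ℤ)) ⊗ₜ[ℤ] LambdaRing.adams PY j (b (a x)) =
      LinearMap.lTensor (Localization.Away (j : ℤ)) (b.comp a).toIntLinearMap
        ((j : TensorProduct ℤ (Localization.Away (j : ℤ)) KX) *
          ((1 : Localization.Away (j : ℤ)) ⊗ₜ[ℤ] (KRR.bott PX j (φX (KRR.cl X (Omega.conormal i))) * LambdaRing.adams PX j x)) * w) := by
  obtain ⟨hNP, hCP⟩ := Groth.Agent.K0ResLF.RR.stable_bunPn (n := n) (Y := Y)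
  haveI := hi.1
  haveI : IsLocallyNoetherian X := LocallyOfFiniteType.isLocallyNoetherian i
  haveI : CompactSpace ↥X := QuasiCompact.compactSpace_of_compactSpace i
  haveI : IsNoetherian X := {}
  letI := Groth.Agent.SGA6Ext.kvbRing X
  letI := Groth.Agent.SGA6Ext.kvbRing (KRR.PY n Y)
  letI := Groth.Agent.SGA6Ext.kvbLam X
  letI := Groth.Agent.SGA6Ext.kvbLam (KRR.PY n Y)
  obtain ⟨L, hL⟩ := Groth.Agent.K0ResLF.RR.exists_isAmple_of_isQProjOver hqY
  have hPe : KRR.HasEnoughLocFree (KRR.PY n Y) :=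
    Groth.Agent.K0ResLF.hasEnoughLocFree_PY (Groth.Agent.NormDef.hasEnough_of_qProj hqY) n
  obtain ⟨a', ha', haa⟩ := Groth.Agent.NormDef.exists_push_model hKP ha
  -- the inverse image as a ring map of lambda rings
  let α := Groth.Agent.KSplit.ringOf φP hKP.map_one hKP.map_mul
  let β := Groth.Agent.KSplit.ringOf φX hKX.map_one hKX.map_mul
  have hgi' : ∀ z, gi (φP z) = φX (Groth.Agent.SGA6Ext.pullK i z) := fun z =>
    DFunLike.congr_fun (Groth.Agent.SGA6Ext.hom_ext_cls (f := gi.comp φP)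
      (g := φX.comp (Groth.Agent.SGA6Ext.pullK i)) fun E hE => by
        show gi (φP (KRR.cl _ E)) = φX (Groth.Agent.SGA6Ext.pullK i (Groth.Agent.SGA6Ext.cls E))
        rw [hgi E hE, Groth.Agent.SGA6Ext.pullK_cls i hE]) z
  let gR : KP →+* KX :=
    { toFun := gi
      map_zero' := map_zero gi
      map_add' := map_add gi
      map_one' := by
        rw [← map_one α, show gi (α 1) = β (Groth.Agent.SGA6Ext.pullK i 1) from hgi' 1]
        rw [Groth.Agent.NormDef.pullK_one, map_one]
      map_mul' := fun u v => by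
        obtain ⟨u, rfl⟩ := hKP.bijective.2 u
        obtain ⟨v, rfl⟩ := hKP.bijective.2 v
        show gi (α u * α v) = _
        rw [← map_mul, show gi (α (u * v)) = β (Groth.Agent.SGA6Ext.pullK i (u * v)) from hgi' _,
          Groth.Agent.NormDef.pullK_mul, map_mul, hgi' u, hgi' v]
        rfl }
  have hlam : ∀ k z, gR (LambdaRing.LambdaOps.lam k z) = LambdaRing.LambdaOps.lam k (gR z) := fun k z => by
    obtain ⟨z, rfl⟩ := hKP.bijective.2 z
    show gi _ = LambdaRing.LambdaOps.lam k (gi _)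
    rw [← Groth.Agent.KSplit.map_lamK hKP.map_one hKP.map_mul hKP.map_lam, hgi', hgi',
      Groth.Agent.KSplit.pullK_lamK, Groth.Agent.KSplit.map_lamK hKX.map_one hKX.map_mul hKX.map_lam]
  have haug : ∀ z, PX.aug (gR z) = PP.aug z := fun z => by
    obtain ⟨z, rfl⟩ := hKP.bijective.2 z
    refine DFunLike.congr_fun (Groth.Agent.SGA6Ext.hom_ext_cls
      (f := PX.aug.toAddMonoidHom.comp (gi.comp φP)) (g := PP.aug.toAddMonoidHom.comp φP) fun E hE => ?_) z
    have hr := Groth.Agent.SGA6Ext.isRank (X := KRR.PY n Y) hE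
    show PX.aug (gi (φP (KRR.cl _ E))) = PP.aug (φP (KRR.cl _ E))
    rw [hgi E hE, hKX.aug_cl _ _ (Groth.Agent.Nagata.isFinLocFreeOfRank_pullback i hr), hKP.aug_cl _ E hr]
  -- the projection formula
  have hproj : ∀ (u : KX) (v : KP), a (u * gi v) = a u * v := fun u v => by
    obtain ⟨u, rfl⟩ := hKX.bijective.2 u
    obtain ⟨v, rfl⟩ := hKP.bijective.2 v
    rw [hgi', show φX u * φX (Groth.Agent.SGA6Ext.pullK i v) = φX (u * Groth.Agent.SGA6Ext.pullK i v) from
      (map_mul β _ _).symm, ← haa, ← haa, Groth.Agent.NormDef.push_mul hPe hi ha']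
    exact map_mul α _ _
  obtain ⟨hex, huniq⟩ := Groth.Agent.S3752.result S n Y qY hqY KP PP φP hKP KY PY φY hKY b hb j hj (a x)
  obtain ⟨wP, hwP⟩ := hex
  let R := Localization.Away (j : ℤ)
  let G := LinearMap.lTensor R gi.toIntLinearMap
  have hG : ∀ (r : R) (z : KP), G (r ⊗ₜ[ℤ] z) = r ⊗ₜ[ℤ] gi z := fun r z => LinearMap.lTensor_tmul R _ r z
  have hGmul : ∀ u v : TensorProduct ℤ R KP, G (u * v) = G u * G v :=
    lTensor_mul gi fun x y => map_mul gR x y
  have hG1 : G 1 = 1 := by
    rw [Algebra.TensorProduct.one_def, hG, Algebra.TensorProduct.one_def]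
    exact congrArg _ (map_one gR)
  set q := φP (KRR.cl (KRR.PY n Y)
    (KRR.twF n Y (-1) ((Scheme.Modules.pullback (KRR.pr n Y)).obj (FlatMod.freeMod Y (n + 1))))) with hq
  have hb' : gi (KRR.bott PP j q) = KRR.bott PX j (gi q) :=
    Groth.Agent.K0ResLF.RR.map_bott gR hlam haug j q
  have hinv : G wP * ((1 : R) ⊗ₜ[ℤ] KRR.bott PX j (gi q)) = 1 := by
    rw [← hb', ← hG, ← hGmul, hwP, hG1]
  refine ⟨⟨G wP, hinv⟩, fun w hw => ?_⟩
  have hw' : w = G wP := inv_unique hw hinv
  have hA : ∀ (t : TensorProduct ℤ R KX) (v : TensorProduct ℤ R KP),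
      LinearMap.lTensor R a.toIntLinearMap (t * G v) = LinearMap.lTensor R a.toIntLinearMap t * v :=
    lTensor_proj gi a hproj
  rw [hw', huniq wP hwP, Groth.Agent.NormDef.adams_pushCl_of_enough hPe i hi hC hKX hKP ha hj x]
  rw [show (b.comp a).toIntLinearMap = b.toIntLinearMap.comp a.toIntLinearMap from rfl, LinearMap.lTensor_comp,
    LinearMap.comp_apply, hA]
  congr 1
  congr 1
  rw [natCast_mul_lTensor, LinearMap.lTensor_tmul]
  rfl


end Groth.Agent.S3753
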