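import Groth.Statements.S3786
import Groth.Agent.K0ResLF.RpushChi
import Groth.Agent.K0ResLF.Transfer
import Groth.Agent.W7Hull.RelVanish
-- import your own Groth.Agent.* helpers here

set_option autoImplicit false
set_option linter.style.haveILetI false
set_option linter.unusedVariables false
set_option backward.isDefEq.respectTransparency false
set_option backward.isDefEq.respectTransparency.types false
set_option maxHeartbeats 1000000
universe v u
open CategoryTheory CategoryTheory.Limits AlgebraicGeometry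
attribute [local instance] HasDerivedCategory.standard
open KRR

namespace Groth.Agent.S3786

/-- Let Y be a connected Noetherian scheme in which every coherent module on Y and on P^n_Y is a
quotient of a finite locally free one, and f = i ≫ p : X ⟶ Y with i : X ⟶ P^n_Y a regular closed
imbedding (X connected) and p the projection. Let δ_X : K₀(bundles on X) ⟶ K₀(Coh X) and δ_Y be the
maps induced by the inclusions (arguments hX, hY), f_K = p_K ∘ i_K the push-forward on K of bundles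
(through models (KX, PX, φX), (KP, PP, φP), (KY, PY, φY)), and g the push-forward on K₀ of coherent
modules, g[F] = Σ_{i ≤ N} (-1)^i [R^i f_* F]. Then δ_Y ∘ f_K = g ∘ δ_X: for x ∈ K₀(bundles on X) and
y ∈ K₀(bundles on Y) with φY y = f_K (φX x), δ_Y y = g (δ_X x). -/
theorem result (n : ℕ) {X Y : Scheme.{u}} [IsNoetherian X] [ConnectedSpace ↥X] [IsNoetherian Y] [ConnectedSpace ↥Y] (hYe : KRR.HasEnoughLocFree Y)
    (hPe : KRR.HasEnoughLocFree (KRR.PY n Y)) [HasInjectiveResolutions X.Modules]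
    (i : X ⟶ KRR.PY n Y) (hi : Mor2.IsRegularClosedImmersion i)
    (hX : ∀ M : X.Modules, FlatMod.IsFinLocFree M → Coh.IsCoh M) (hY : ∀ M : Y.Modules, FlatMod.IsFinLocFree M → Coh.IsCoh M)
    (KX : Type v) [CommRing KX] [LambdaRing.LambdaOps KX] (PX : LambdaRing.PosStructure KX) (φX : SGA6.Kvb X →+ KX) (hKX : KRR.IsModel X KX PX φX)
    (KP : Type v) [CommRing KP] [LambdaRing.LambdaOps KP] (PP : LambdaRing.PosStructure KP) (φP : SGA6.Kvb (KRR.PY n Y) →+ KP) (hKP : KRR.IsModel (KRR.PY n Y) KP PP φP)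
    (KY : Type v) [CommRing KY] [LambdaRing.LambdaOps KY] (PY : LambdaRing.PosStructure KY) (φY : SGA6.Kvb Y →+ KY) (hKY : KRR.IsModel Y KY PY φY)
    (a : KX →+ KP) (ha : KRR.IsPushCl i φX φP a) (b : KP →+ KY) (hb : KRR.IsPushPr n Y φP φY b)
    (N : ℕ) (g : SGA6.Kcoh X →+ SGA6.Kcoh Y) (hg : KRR.IsPushCoh (i ≫ KRR.pr n Y) N g)
    (x : SGA6.Kvb X) (y : SGA6.Kvb Y) (hxy : φY y = b (a (φX x))) :
    SGA6.mapSub (𝟭 Y.Modules) (KRR.vbP Y) (fun M : Y.Modules => Coh.IsCoh M) hY y =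
      g (SGA6.mapSub (𝟭 X.Modules) (KRR.vbP X) (fun M : X.Modules => Coh.IsCoh M) hX x) := by
  obtain ⟨hNP, hCP⟩ := K0ResLF.RR.stable_bunPn (n := n) (Y := Y)
  haveI := hi.1
  haveI : IsProper (KRR.pr n Y) := HQProj.isProper_toBase n Y
  haveI := RPushQC.hasInjectiveResolutions (KRR.PY n Y)
  obtain ⟨c, hc, ec⟩ := K0ResLF.exists_isPush_of_isPushCl hKP.bijective ha
  have hP : ∀ M : (KRR.PY n Y).Modules, FlatMod.IsFinLocFree M → Coh.IsCoh M := fun M hM => K0Coh.isCoh_of_isFinLocFree hM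
  let M := max n N
  have hM : ∀ F : (KRR.PY n Y).Modules, Coh.IsCoh F → ∀ q, M < q → IsZero ((Coh.Rpush (KRR.pr n Y) q).obj F) :=
    fun F hF q hq => K0ResLF.isZero_rpush_pr_above n Y F hF.1 q (lt_of_le_of_lt (le_max_left _ _) hq)
  let δP := SGA6.mapSub (𝟭 (KRR.PY n Y).Modules) (KRR.vbP (KRR.PY n Y)) (fun M => Coh.IsCoh M) hP
  let δY := SGA6.mapSub (𝟭 Y.Modules) (KRR.vbP Y) (fun M : Y.Modules => Coh.IsCoh M) hY
  have dcl : ∀ {Z : Scheme.{u}} (h : ∀ M : Z.Modules, FlatMod.IsFinLocFree M → Coh.IsCoh M) {E : Z.Modules},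
      FlatMod.IsFinLocFree E →
      SGA6.mapSub (𝟭 Z.Modules) (KRR.vbP Z) (fun M => Coh.IsCoh M) h (KRR.cl Z E) = K0ResLF.clK E := fun h E hE => by
    simp [KRR.cl, K0ResLF.clK, K0Res.clSub_eq (KRR.vbP _) hE, K0Res.clSub_eq (fun M => Coh.IsCoh M) (h E hE),
      SGA6.mapSub, SGA6.objMap]
  have hy : y = PnReg.pushK n Y (c x) := hKY.bijective.1 (by rw [hxy, ec, PnReg.isPushPr_eq hb])
  have comm : δY.comp (PnReg.pushK n Y) = (K0ResLF.chi (KRR.pr n Y) M hM).comp δP := PnReg.hom_ext_reg fun F hF => by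
    rw [AddMonoidHom.comp_apply, AddMonoidHom.comp_apply, PnReg.pushK_cls hF]
    refine (dcl hY (PnReg.isFinLocFree_push hF.1 hF.2)).trans ?_
    rw [show δP (SGA6Ext.cls F) = K0ResLF.clK F from dcl hP hF.1, K0ResLF.chi_cl _ M hM (hP F hF.1),
      K0ResLF.chiObj, Finset.sum_eq_single_of_mem 0 (Finset.mem_range.2 (Nat.succ_pos M))]
    · rw [pow_zero, one_smul]
      exact (K0ResLF.clK_iso (((Coh.push (KRR.pr n Y)).rightDerivedZeroIsoSelf).app F)
        (CohFinite.isCoh_rpush (KRR.pr n Y) F (hP F hF.1) 0)).symm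
    · intro q _ hq
      rw [K0ResLF.clK_zero (K0ResLF.isZero_rpush_of_ab _ F q
        (PnReg.isZero_rpush_of_reg (hP F hF.1).1 hF.2 q (Nat.one_le_iff_ne_zero.2 hq))), smul_zero]
  change δY y = _
  rw [hy]
  have h1 : δY (PnReg.pushK n Y (c x)) = (K0ResLF.chi (KRR.pr n Y) M hM) (δP (c x)) := DFunLike.congr_fun comm (c x)
  rw [h1]
  have h2 : ((K0ResLF.chi (KRR.pr n Y) M hM).comp (δP.comp c)) =
      g.comp (SGA6.mapSub (𝟭 X.Modules) (KRR.vbP X) (fun M : X.Modules => Coh.IsCoh M) hX) := SGA6Ext.hom_ext_cls fun F hF => by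
    obtain ⟨m, L, π, hL⟩ := (K0ResLF.hasLFRes_push hPe hi hF).2
    haveI := hL.quasiIso
    have hiF : Coh.IsCoh ((Scheme.Modules.pushforward i).obj F) := (K0ResLF.hasLFRes_push hPe hi hF).1
    rw [AddMonoidHom.comp_apply, AddMonoidHom.comp_apply, AddMonoidHom.comp_apply, hc F hF m L π hL, map_sum]
    have e : (∑ k ∈ Finset.range (m + 1), δP ((-1 : ℤ) ^ k • SGA6Ext.cls (L.X k))) =
        K0ResLF.clK ((Scheme.Modules.pushforward i).obj F) := by
      refine Eq.symm ((K0ResLF.cl_eq_sum (fun M => Coh.IsCoh M)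
        (fun S hS h₂ h₃ => K0ResLF.isCoh_left hS h₂ h₃) hiF m L π hL.isZero (fun k => hP _ (hL.finLocFree k))).trans
        (Finset.sum_congr rfl fun k _ => ?_))
      rw [map_zsmul]
      exact congrArg _ (dcl hP (hL.finLocFree k)).symm
    rw [e, K0ResLF.chi_cl _ M hM hiF]
    refine Eq.trans ?_ (congrArg g (dcl hX hF)).symm
    rw [hg.2 F (hX F hF), K0ResLF.chiObj]
    have hRf : ∀ q, Nonempty ((Coh.Rpush (KRR.pr n Y) q).obj ((Scheme.Modules.pushforward i).obj F) ≅
        (Coh.Rpush (i ≫ KRR.pr n Y) q).obj F) := fun q => W7Hull.nonempty_rpush_push_iso i (KRR.pr n Y) F q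
    symm
    refine Finset.sum_subset_zero_on_sdiff (Finset.range_mono (by omega)) (fun q hq => ?_) fun q _ => ?_
    · simp only [Finset.mem_sdiff, Finset.mem_range] at hq
      obtain ⟨e⟩ := hRf q
      rw [K0ResLF.clK_zero ((hg.1 F (hX F hF) q (by omega)).of_iso e), smul_zero]
    · obtain ⟨e⟩ := hRf q
      exact congrArg _ (K0ResLF.clK_iso e (CohFinite.isCoh_rpush (KRR.pr n Y) _ hiF q)).symm
  exact DFunLike.congr_fun h2 x

end Groth.Agent.S3786
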