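import Groth.Statements.S3764
import Groth.Agent.GRR.Transfer
import Groth.Agent.GRR.EulerPoint
import Groth.Agent.S3786
import Groth.Agent.S2336
-- import your own Groth.Agent.* helpers here

set_option autoImplicit false
set_option linter.style.haveILetI false
set_option backward.isDefEq.respectTransparency false
set_option backward.isDefEq.respectTransparency.types false
set_option maxHeartbeats 1000000
universe v u
open CategoryTheory CategoryTheory.Limits AlgebraicGeometry
attribute [local instance] HasDerivedCategory.standard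
open KRR

namespace Groth.Agent.S3764

open Groth.Agent

theorem chK_zero {K : Type v} [CommRing K] [LambdaRing.LambdaOps K] (P : LambdaRing.PosStructure K) (x : K) :
    KGr.chK P 0 x = algebraMap ℚ (KGr.Gr P) (P.aug x : ℚ) := by
  rw [KRRLam.chK_eq, Finset.sum_range_one, KRRLam.chC_zero, KRRLam.grK_intCast, Nat.factorial_zero, Nat.cast_one,
    div_one, one_smul]

theorem rpush_congr {X S : Scheme.{u}} [HasInjectiveResolutions X.Modules] {f g : X ⟶ S} (h : f = g) (q : ℕ)
    (E : X.Modules) : (Coh.Rpush f q).obj E = (Coh.Rpush g q).obj E := by subst h; rfl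

/-- Let k be a field and X a connected scheme over Spec k of dimension at most dX whose structure
morphism factors as a regular closed imbedding i : X ⟶ P = P^n_k (conormal module finite locally
free of rank c) followed by the projection, so that X is a projective local complete intersection
over k. With models of K(X), K(P), K(Spec k), f_K = p_K ∘ i_K, and the tangent element T_X =
((n+1)[i^*O_P(1)] - 1) - [C^∨]: f_K induces f_G : ℚGr K(X) ⟶ ℚGr K(Spec k) of graded degree c - n,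
and for every finite locally free O_X-module E: f_G(td(T_X) · ch([E])) = χ(X, E) = Σ_{q ≤ dX} (-1)^q
dim_k H^q(X, E), as elements of ℚGr K(Spec k) (through ℚ). -/
theorem result (k : Type u) [Field k] (n : ℕ) (X : Scheme.{u}) [X.Over (Spec (CommRingCat.of k))]
    [ConnectedSpace ↥X] (dX : ℕ) (hdX : topologicalKrullDim ↥X ≤ (dX : WithBot ℕ∞))
    (i : X ⟶ KRR.PY n (Spec (CommRingCat.of k))) (hi : Mor2.IsRegularClosedImmersion i)
    (hfac : i ≫ KRR.pr n (Spec (CommRingCat.of k)) = X ↘ Spec (CommRingCat.of k)) (c : ℕ)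
    (hC : FlatMod.IsFinLocFreeOfRank c (Omega.conormal i)) [DCoh.HasSheafHom (Omega.conormal i)]
    (KX : Type v) [CommRing KX] [LambdaRing.LambdaOps KX] (PX : LambdaRing.PosStructure KX) (φX : SGA6.Kvb X →+ KX) (hKX : KRR.IsModel X KX PX φX)
    (KP : Type v) [CommRing KP] [LambdaRing.LambdaOps KP] (PP : LambdaRing.PosStructure KP) (φP : SGA6.Kvb (KRR.PY n (Spec (CommRingCat.of k))) →+ KP) (hKP : KRR.IsModel (KRR.PY n (Spec (CommRingCat.of k))) KP PP φP)
    (KY : Type v) [CommRing KY] [LambdaRing.LambdaOps KY] (PY : LambdaRing.PosStructure KY) (φY : SGA6.Kvb (Spec (CommRingCat.of k)) →+ KY) (hKY : KRR.IsModel (Spec (CommRingCat.of k)) KY PY φY)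
    (a : KX →+ KP) (ha : KRR.IsPushCl i φX φP a) (b : KP →+ KY) (hb : KRR.IsPushPr n (Spec (CommRingCat.of k)) φP φY b)
    :
    ∃ fG : KGr.Gr PX →+ KGr.Gr PY, KGr.IsGrPush PX PY (b.comp a) ((c : ℤ) - n) fG ∧
      ∀ E : X.Modules, FlatMod.IsFinLocFree E →
      fG (KGr.tdK PX dX (((n + 1 : ℕ) : KX) * φX (KRR.cl X ((Scheme.Modules.pullback i).obj (Twist.twistOver n (Spec (CommRingCat.of k)) 1))) - 1
          - φX (KRR.cl X ((DCoh.sheafHom (Omega.conormal i)).obj (Coh.structureModule X)))) * KGr.chK PX dX (φX (KRR.cl X E))) =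
      algebraMap ℚ (KGr.Gr PY) (∑ q ∈ Finset.range (dX + 1), (-1 : ℚ) ^ q * (Module.finrank k (Coh.HH X E q) : ℚ)) := by
  let Y : Scheme.{u} := Spec (CommRingCat.of k)
  haveI : Subsingleton ↥Y := inferInstanceAs (Subsingleton (PrimeSpectrum k))
  haveI : Nonempty ↥Y := inferInstanceAs (Nonempty (PrimeSpectrum k))
  haveI : ConnectedSpace ↥Y := { toPreconnectedSpace := inferInstance, toNonempty := inferInstance }
  haveI : IsNoetherian Y := {}
  have hLY : CohB1.IsAmple (Coh.structureModule Y) := (S2336.result Y).1 inferInstance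
  have hdY : topologicalKrullDim ↥Y ≤ ((0 : ℕ) : WithBot ℕ∞) := by
    rw [Nat.cast_zero]
    haveI : Subsingleton (TopologicalSpace.IrreducibleCloseds ↥Y) := ⟨fun a b =>
      TopologicalSpace.IrreducibleCloseds.ext ((Subsingleton.eq_univ_of_nonempty a.2.nonempty).trans
        (Subsingleton.eq_univ_of_nonempty b.2.nonempty).symm)⟩
    exact Order.krullDim_nonpos_of_subsingleton
  obtain ⟨fG, h1, h2⟩ := GRR.grr (Y := Y) hLY n i hi hC hdX hdY hKX hKP hKY ha hb
  refine ⟨fG, h1, fun E hE => ?_⟩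
  rw [show KRR.cl X ((DCoh.sheafHom (Omega.conormal i)).obj (Coh.structureModule X)) =
    KRR.cl X (CycPB.dualM (Omega.conormal i)) from rfl]
  rw [← h2, chK_zero]
  congr 1
  -- the morphism
  haveI := hi.1
  obtain ⟨hNP, hCP⟩ := K0ResLF.RR.stable_bunPn (n := n) (Y := Y)
  haveI := hNP
  haveI := hCP
  haveI : IsLocallyNoetherian X := LocallyOfFiniteType.isLocallyNoetherian i
  haveI : CompactSpace ↥X := QuasiCompact.compactSpace_of_compactSpace i
  haveI : IsNoetherian X := {}
  haveI : IsProper (KRR.pr n Y) := (KSixLib.Exch.toBase_proper_flat_lfp n Y).1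
  haveI hp : IsProper (i ≫ KRR.pr n Y) := inferInstance
  haveI : IsProper (X ↘ Spec (CommRingCat.of k)) := hfac ▸ hp
  haveI := DQPush.hasInj X
  obtain ⟨LP, hLP⟩ := NormDef.exists_isAmple_PY n hLY
  have hM : ∀ F : X.Modules, Coh.IsCoh F → ∀ q, dX < q → IsZero ((Coh.Rpush (i ≫ KRR.pr n Y) q).obj F) :=
    fun F hF q hq => by rw [rpush_congr hfac]; exact GRR.rpush_vanish hdX F hF hq
  have hg : KRR.IsPushCoh (i ≫ KRR.pr n Y) dX (K0ResLF.chi (i ≫ KRR.pr n Y) dX hM) :=
    ⟨hM, fun F hF => K0ResLF.chi_cl _ _ hM hF⟩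
  obtain ⟨y, hy⟩ := hKY.bijective.2 (b (a (φX (KRR.cl X E))))
  have hXc : ∀ M : X.Modules, FlatMod.IsFinLocFree M → Coh.IsCoh M := fun M hM => K0Coh.isCoh_of_isFinLocFree hM
  have hYc : ∀ M : Y.Modules, FlatMod.IsFinLocFree M → Coh.IsCoh M := fun M hM => K0Coh.isCoh_of_isFinLocFree hM
  have key := S3786.result n (X := X) (Y := Y)
    (fun F hF => ResDesc.hasResolutionProperty_of_isAmple _ hLY F hF.1 hF.2)
    (fun F hF => ResDesc.hasResolutionProperty_of_isAmple _ hLP F hF.1 hF.2) i hi hXc hYc KX PX φX hKX KP PP φP hKP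
    KY PY φY hKY a ha b hb dX _ hg (KRR.cl X E) y hy
  have hdim := congrArg (GRR.dimK k) key
  have haug : ∀ z, GRR.dimK k (SGA6.mapSub (𝟭 Y.Modules) (KRR.vbP Y) (fun M : Y.Modules => Coh.IsCoh M) hYc z) =
      PY.aug (φY z) := fun z =>
    DFunLike.congr_fun (SGA6Ext.hom_ext_cls (f := (GRR.dimK k).comp
      (SGA6.mapSub (𝟭 Y.Modules) (KRR.vbP Y) (fun M : Y.Modules => Coh.IsCoh M) hYc))
      (g := PY.aug.toAddMonoidHom.comp φY) fun M hM => by
        show GRR.dimK k (SGA6.mapSub (𝟭 Y.Modules) (KRR.vbP Y) (fun M : Y.Modules => Coh.IsCoh M) hYc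
          (SGA6Ext.cls M)) = PY.aug (φY (SGA6Ext.cls M))
        rw [show SGA6.mapSub (𝟭 Y.Modules) (KRR.vbP Y) (fun M : Y.Modules => Coh.IsCoh M) hYc (SGA6Ext.cls M) =
          K0ResLF.clK M from K0Filt.mapSub_cl _ _ _ _ hM, GRR.dimK_cl (hYc M hM)]
        exact (GRR.sdim_rank (SGA6Ext.isRank hM)).trans (hKY.aug_cl _ M (SGA6Ext.isRank hM)).symm) z
  have hsrc : SGA6.mapSub (𝟭 X.Modules) (KRR.vbP X) (fun M : X.Modules => Coh.IsCoh M) hXc (KRR.cl X E) =
      K0ResLF.clK E := K0Filt.mapSub_cl _ _ _ _ hE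
  rw [haug, hy, hsrc, K0ResLF.chi_cl _ _ hM (hXc E hE), K0ResLF.chiObj, map_sum] at hdim
  rw [hdim, Int.cast_sum]
  refine Finset.sum_congr rfl fun q _ => ?_
  rw [map_zsmul, GRR.dimK_cl (CohFinite.isCoh_rpush _ E (hXc E hE) q), rpush_congr hfac,
    GRR.sdim_rpush E (hXc E hE).1 q, zsmul_eq_mul, Int.cast_mul, Int.cast_natCast]
  norm_num

end Groth.Agent.S3764
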