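import Groth.Statements.S3768
import Groth.Agent.K0ResLF.Transfer
import Groth.Agent.K0ResLF.Swap
-- import your own Groth.Agent.* helpers here

set_option autoImplicit false
set_option linter.style.haveILetI false
set_option linter.unusedVariables false
set_option maxHeartbeats 1000000
universe v u
open CategoryTheory CategoryTheory.Limits AlgebraicGeometry
attribute [local instance] HasDerivedCategory.standard
open KRR

namespace Groth.Agent.S3768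

/-- Let Y, Z be connected Noetherian schemes such that every coherent module on Y, Z, on each P^a over
them and on each P^a over P^b over them is a quotient of a finite locally free one. Let f = i ≫ p :
X ⟶ Y and g = j ≫ q : Y ⟶ Z be regular morphisms factored through P^n_Y and P^m_Z (i, j regular
closed imbeddings; X connected), and let f ≫ g = k ≫ r be a factorization through P^l_Z with k a
regular closed imbedding. With models and push-forwards as before: (r_K ∘ k_K) = (q_K ∘ j_K) ∘ (p_K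
∘ i_K). -/
theorem result (n m l : ℕ) {X Y Z : Scheme.{u}} [IsNoetherian Y] [ConnectedSpace ↥Y] (hYe : KRR.HasEnoughLocFree Y) [IsNoetherian Z] [ConnectedSpace ↥Z] (hZe : KRR.HasEnoughLocFree Z)
    (hstarY : ∀ a : ℕ, KRR.HasEnoughLocFree (KRR.PY a Y) ∧ ∀ b : ℕ, KRR.HasEnoughLocFree (KRR.PY a (KRR.PY b Y)))
    (hstarZ : ∀ a : ℕ, KRR.HasEnoughLocFree (KRR.PY a Z) ∧ ∀ b : ℕ, KRR.HasEnoughLocFree (KRR.PY a (KRR.PY b Z)))
    [ConnectedSpace ↥X] (f : X ⟶ Y) (g : Y ⟶ Z)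
    (i : X ⟶ KRR.PY n Y) (hi : Mor2.IsRegularClosedImmersion i) (hf : i ≫ KRR.pr n Y = f)
    (j : Y ⟶ KRR.PY m Z) (hj : Mor2.IsRegularClosedImmersion j) (hg : j ≫ KRR.pr m Z = g)
    (k : X ⟶ KRR.PY l Z) (hk : Mor2.IsRegularClosedImmersion k) (hfg : k ≫ KRR.pr l Z = f ≫ g)
    (KX : Type v) [CommRing KX] [LambdaRing.LambdaOps KX] (PX : LambdaRing.PosStructure KX) (φX : SGA6.Kvb X →+ KX) (hKX : KRR.IsModel X KX PX φX)
    (KY : Type v) [CommRing KY] [LambdaRing.LambdaOps KY] (PY : LambdaRing.PosStructure KY) (φY : SGA6.Kvb Y →+ KY) (hKY : KRR.IsModel Y KY PY φY)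
    (KZ : Type v) [CommRing KZ] [LambdaRing.LambdaOps KZ] (PZ : LambdaRing.PosStructure KZ) (φZ : SGA6.Kvb Z →+ KZ) (hKZ : KRR.IsModel Z KZ PZ φZ)
    (K₁ : Type v) [CommRing K₁] [LambdaRing.LambdaOps K₁] (P₁ : LambdaRing.PosStructure K₁) (φ₁ : SGA6.Kvb (KRR.PY n Y) →+ K₁) (hK₁ : KRR.IsModel (KRR.PY n Y) K₁ P₁ φ₁)
    (K₂ : Type v) [CommRing K₂] [LambdaRing.LambdaOps K₂] (P₂ : LambdaRing.PosStructure K₂) (φ₂ : SGA6.Kvb (KRR.PY m Z) →+ K₂) (hK₂ : KRR.IsModel (KRR.PY m Z) K₂ P₂ φ₂)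
    (K₃ : Type v) [CommRing K₃] [LambdaRing.LambdaOps K₃] (P₃ : LambdaRing.PosStructure K₃) (φ₃ : SGA6.Kvb (KRR.PY l Z) →+ K₃) (hK₃ : KRR.IsModel (KRR.PY l Z) K₃ P₃ φ₃)
    (a₁ : KX →+ K₁) (ha₁ : KRR.IsPushCl i φX φ₁ a₁) (b₁ : K₁ →+ KY) (hb₁ : KRR.IsPushPr n Y φ₁ φY b₁)
    (a₂ : KY →+ K₂) (ha₂ : KRR.IsPushCl j φY φ₂ a₂) (b₂ : K₂ →+ KZ) (hb₂ : KRR.IsPushPr m Z φ₂ φZ b₂)
    (a₃ : KX →+ K₃) (ha₃ : KRR.IsPushCl k φX φ₃ a₃) (b₃ : K₃ →+ KZ) (hb₃ : KRR.IsPushPr l Z φ₃ φZ b₃) :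
    b₃.comp a₃ = (b₂.comp a₂).comp (b₁.comp a₁) := by
  obtain ⟨c₁, hc₁, e₁⟩ := K0ResLF.exists_isPush_of_isPushCl hK₁.bijective ha₁
  obtain ⟨c₂, hc₂, e₂⟩ := K0ResLF.exists_isPush_of_isPushCl hK₂.bijective ha₂
  obtain ⟨c₃, hc₃, e₃⟩ := K0ResLF.exists_isPush_of_isPushCl hK₃.bijective ha₃
  haveI := hi.1
  haveI := hj.1
  obtain ⟨hNn, -⟩ := K0ResLF.RR.stable_bunPn (n := n) (Y := Y)
  obtain ⟨hNB, hCB⟩ := K0ResLF.RR.stable_bunPn (n := m) (Y := Z)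
  obtain ⟨hNL, hCL⟩ := K0ResLF.RR.stable_bunPn (n := l) (Y := Z)
  obtain ⟨hNT, hCT⟩ := K0ResLF.RR.stable_bunPn (n := n) (Y := KRR.PY m Z)
  obtain ⟨hNW, hCW⟩ := K0ResLF.RR.stable_bunPn (n := m) (Y := KRR.PY l Z)
  obtain ⟨hNW', hCW'⟩ := K0ResLF.RR.stable_bunPn (n := l) (Y := KRR.PY m Z)
  obtain ⟨hNP, hCP⟩ := K0ResLF.RR.stable_bunPn (n := n) (Y := Y)
  haveI : IsLocallyNoetherian X := LocallyOfFiniteType.isLocallyNoetherian i
  haveI : CompactSpace ↥X := i.isClosedEmbedding.compactSpace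
  haveI : IsNoetherian X := {}
  have hB := K0ResLF.hasEnoughLocFree_PY hZe m
  have hL := K0ResLF.hasEnoughLocFree_PY hZe l
  have hT := K0ResLF.hasEnoughLocFree_PY hB n
  have hW := K0ResLF.hasEnoughLocFree_PY hL m
  have hW' := K0ResLF.hasEnoughLocFree_PY hB l
  have hP := K0ResLF.hasEnoughLocFree_PY hYe n
  have hJ := K0ResLF.isRegularClosedImmersion_projSpaceMap n hj
  have hi' := Groth.Agent.RegMor2.comp hJ hi
  obtain ⟨aJ, haJ, -⟩ := K0ResLF.exists_push hT hJ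
  obtain ⟨ai, hai, -⟩ := K0ResLF.exists_push hT hi'
  have hbase : (i ≫ KRR.projSpaceMap n j) ≫ KRR.pr n (KRR.PY m Z) = f ≫ j := by
    rw [Category.assoc, (PnReg.isPullback_map j).w, ← Category.assoc, hf]
  have hA := PnReg.isPullback_map (n := m) (KRR.pr l Z)
  let e : X ⟶ KRR.PY m (KRR.PY l Z) := hA.lift (f ≫ j) k (by rw [Category.assoc, hg, hfg])
  obtain ⟨he, heK⟩ := K0ResLF.push_lift m hL hk (h := e) (hA.lift_snd _ _ _)
  let σ : KRR.PY m (KRR.PY l Z) ≅ KRR.PY l (KRR.PY m Z) :=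
    hA.isoIsPullback _ _ (PnReg.isPullback_map (n := l) (KRR.pr m Z)).flip
  have s₁ : σ.hom ≫ KRR.pr l (KRR.PY m Z) = KRR.projSpaceMap m (KRR.pr l Z) := IsPullback.isoIsPullback_hom_fst ..
  have s₂ : σ.hom ≫ KRR.projSpaceMap l (KRR.pr m Z) = KRR.pr m (KRR.PY l Z) := IsPullback.isoIsPullback_hom_snd ..
  have hσ := K0ResLF.isRegularClosedImmersion_of_isIso σ.hom
  have he' := Groth.Agent.RegMor2.comp hσ he
  obtain ⟨ae, hae, -⟩ := K0ResLF.exists_push hW he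
  obtain ⟨ae', hae', -⟩ := K0ResLF.exists_push hW' he'
  have hbase' : (e ≫ σ.hom) ≫ KRR.pr l (KRR.PY m Z) = f ≫ j := by
    rw [Category.assoc, s₁]; exact hA.lift_fst _ _ _
  ext x
  obtain ⟨z, rfl⟩ := hKX.bijective.2 x
  simp only [AddMonoidHom.comp_apply, e₁, e₃]
  rw [PnReg.isPushPr_eq hb₃, PnReg.isPushPr_eq hb₁, e₂, PnReg.isPushPr_eq hb₂]
  congr 1
  rw [K0ResLF.push_pushK n hj hB hc₂ haJ, ← AddMonoidHom.comp_apply aJ,
    ← K0ResLF.push_comp hP hT hi hJ hc₁ haJ hai,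
    K0ResLF.push_indep n l hB hi' he' (hbase.trans hbase'.symm) hai hae' z,
    ← K0ResLF.pushK_swap l m σ.hom s₁ s₂, K0ResLF.push_comp hW hW' he hσ hae (K0ResLF.push_iso σ) hae',
    AddMonoidHom.comp_apply, K0ResLF.pullK_iso_cancel, heK ae c₃ hae hc₃]

end Groth.Agent.S3768
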