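import Groth.Statements.S3771
import Groth.Agent.BlowCech.IdealPow
import Groth.Agent.Conormal.Basic
import Groth.Agent.LocFree.SemiLocal
import Groth.Agent.RatBlow.Sections
-- import your own Groth.Agent.* helpers here

set_option autoImplicit false
set_option linter.style.haveILetI false
set_option backward.isDefEq.respectTransparency false
universe v u
open CategoryTheory CategoryTheory.Limits AlgebraicGeometry
attribute [local instance] HasDerivedCategory.standard
open KRR

namespace Groth.Agent.S3771

/-- Let S be an affine Noetherian scheme, Y a connected Noetherian scheme quasi-projective over S all of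
whose local rings are regular, f : X ⟶ Y a regular closed immersion of codimension d ≥ 1 (conormal
module finite locally free of rank d) with X connected and all local rings of X regular, and φ : Y₁
⟶ Y a blowing up of Y along X (universal property with respect to the kernel ideal sheaf of f). Then
the canonical map O_Y ⟶ φ_* φ^* O_Y = φ_* O_{Y₁} is an isomorphism and R^i φ_* O_{Y₁} = 0 for every
i ≥ 1 (higher direct images of the underlying abelian sheaf). (The published statement is more
general; this is the case where X and Y are regular.) -/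
theorem result (S : Scheme.{u}) [IsAffine S] [IsNoetherian S] {X Y Y₁ : Scheme.{u}} [IsNoetherian Y] [ConnectedSpace ↥Y] (qY : Y ⟶ S) (hqY : KRR.IsQProjOver qY)
    (hYreg : ∀ y : Y, IsRegularLocalRing (Y.presheaf.stalk y))
    (f : X ⟶ Y) (hf : Mor2.IsRegularClosedImmersion f) [ConnectedSpace ↥X] (d : ℕ) (hd : 1 ≤ d)
    (hC : FlatMod.IsFinLocFreeOfRank d (Omega.conormal f)) (hXreg : ∀ x : X, IsRegularLocalRing (X.presheaf.stalk x))
    (φ : Y₁ ⟶ Y) (hφ : BlowUp.IsBlowUp φ f.ker) :
    IsIso ((Scheme.Modules.pullbackPushforwardAdjunction φ).unit.app (Coh.structureModule Y)) ∧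
    ∀ i : ℕ, 1 ≤ i → IsZero ((Coh.RpushAb φ i).obj (Coh.toAb (Coh.structureModule Y₁))) := by
  haveI := hf.1
  have hsupp : (f.ker.support : Set Y) = Set.range f := by
    rw [Scheme.Hom.support_ker]
    exact f.isClosedEmbedding.isClosed_range.closure_eq
  have hJ : Groth.Agent.BlowCech.LocData f.ker := by
    intro y
    obtain ⟨U, N, a, hyU, ha, hI⟩ := Groth.Agent.KoszBlow.exists_acyclic_of_regularImmersion hf y
    rcases Nat.eq_zero_or_pos N with rfl | hN
    · exfalso
      have hbot : f.ker.ideal U = ⊥ := by rw [hI]; simp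
      obtain ⟨z, rfl⟩ : y ∈ Set.range f := by
        rw [← hsupp]
        refine (Scheme.IdealSheafData.mem_support_iff_of_mem (I := f.ker) (U := U) hyU).2 ?_
        rw [hbot, Scheme.mem_zeroLocus_iff]
        intro c hc
        rw [show c = 0 from hc, Scheme.basicOpen_zero]
        simp
      obtain ⟨O, hzO, ⟨e⟩⟩ := hC z
      obtain ⟨W, hW, hzW, hWU, hWO⟩ := Groth.Agent.Conormal.exists_chart_le f z O hzO U.1 hyU
      haveI : Subsingleton Γ(ClSub.idealMod f.ker, W) := by
        refine ⟨fun s t => Groth.Agent.QC.app_injective_of_mono (ClSub.idealModι f.ker) W ?_⟩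
        have h0 : ∀ s, (ClSub.idealModι f.ker).app W s = (0 : Γ(Y, W)) := fun s => by
          have h1 := (Groth.Agent.QC.mem_range_idealModι_affine f.ker ⟨W, hW.affine⟩ _).1 ⟨s, rfl⟩
          rw [← f.ker.map_ideal' (U := ⟨W, hW.affine⟩) (V := U) (homOfLE hWU).op, hbot, Ideal.map_bot] at h1
          exact h1
        rw [h0, h0]
      haveI : Subsingleton Γ(Omega.conormal f, f ⁻¹ᵁ W) :=
        (Groth.Agent.Conormal.conormalSect_surjective f hW).subsingleton
      obtain ⟨b⟩ := Groth.Agent.LocFree.exists_basis_sections_of_le e hW.preimage hWO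
      haveI : Nonempty (f ⁻¹ᵁ W : X.Opens) := ⟨⟨z, hzW⟩⟩
      exact b.ne_zero ⟨⟨0, hd⟩⟩ (Subsingleton.elim _ _)
    · exact ⟨U, N, a, hyU, hN, ha, hI⟩
  refine ⟨Groth.Agent.BlowCech.isIso_unit hJ hφ, fun i hi => ?_⟩
  have h := Groth.Agent.BlowCech.isZero_rpush_idealPow hJ hφ 0 i hi
  rw [show (BlowUp.exceptional φ f.ker) ^ 0 = (⊤ : Y₁.IdealSheafData) from pow_zero _] at h
  exact h.of_iso ((Coh.RpushAb φ i).mapIso ((Groth.Agent.CohQC.toAbF Y₁).mapIso
    (Groth.Agent.RatBlow.nonempty_idealMod_top (X := Y₁)).some.symm))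

end Groth.Agent.S3771
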