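import Groth.Statements.S3772
import Groth.Agent.BlowExcBundle.Main
import Groth.Agent.BlowUpExist.Proper
import Groth.Agent.KoszBlow.Scheme
import Groth.Agent.Conormal.Maps
import Groth.Agent.S3789
import Groth.Agent.SGA6Ext.Model
import Groth.Agent.SGA6Ext.Pull
import Groth.Agent.KSplit.Pull
import Groth.Agent.KSplit.Model
import Groth.Agent.S3788
-- import your own Groth.Agent.* helpers here

set_option autoImplicit false
universe v u
open CategoryTheory CategoryTheory.Limits AlgebraicGeometry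
attribute [local instance] HasDerivedCategory.standard
set_option linter.style.haveILetI false
set_option backward.isDefEq.respectTransparency false
set_option backward.isDefEq.respectTransparency.types false
open KRR

namespace Groth.Agent.S3772

open Groth.Agent in
/-- A pull-back between models is a ring map compatible with the exterior powers of bundles. -/
theorem exists_pullHom {X P : Scheme.{u}} (π : P ⟶ X) [ConnectedSpace ↥X] [ConnectedSpace ↥P]
    {KX : Type v} [CommRing KX] [LambdaRing.LambdaOps KX] {PX : LambdaRing.PosStructure KX} {φX : SGA6.Kvb X →+ KX}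
    (hKX : KRR.IsModel X KX PX φX)
    {KP : Type v} [CommRing KP] [LambdaRing.LambdaOps KP] {PP : LambdaRing.PosStructure KP} {φP : SGA6.Kvb P →+ KP}
    (hKP : KRR.IsModel P KP PP φP) {g : KX →+ KP} (hg : KRR.IsPull π φX φP g) :
    ∃ gR : KX →+* KP, (∀ x, gR x = g x) ∧ ∀ (i : ℕ) (E : X.Modules), FlatMod.IsFinLocFree E →
      g (LambdaRing.LambdaOps.lam i (φX (KRR.cl X E))) =
        LambdaRing.LambdaOps.lam i (φP (KRR.cl P ((Scheme.Modules.pullback π).obj E))) := by
  have h0 : g.comp φX = φP.comp (SGA6Ext.pullK π) := SGA6Ext.hom_ext_cls fun E hE => by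
    show g (φX (KRR.cl X E)) = φP (SGA6Ext.pullK π (SGA6Ext.cls E))
    rw [hg E hE, SGA6Ext.pullK_cls π hE]
  have h1 : ∀ a, g (φX a) = φP (SGA6Ext.pullK π a) := fun a => DFunLike.congr_fun h0 a
  refine ⟨{ toFun := g, map_zero' := map_zero g, map_add' := map_add g, map_one' := ?_, map_mul' := ?_ },
    fun _ => rfl, fun i E hE => ?_⟩
  · rw [← hKX.map_one, hg _ (SGA6Ext.finLocFree_unit X), ← hKP.map_one]
    exact congrArg φP (SGA6Ext.cls_iso (DerPerf.pullUnitIso π)
      (DerPerf.isFinLocFree_pullback π (SGA6Ext.finLocFree_unit X)))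
  · intro x y
    obtain ⟨a, rfl⟩ := hKX.bijective.2 x
    obtain ⟨b, rfl⟩ := hKX.bijective.2 y
    rw [← KSplit.map_mulK hKX.map_mul, h1, h1, h1, ← KSplit.map_mulK hKP.map_mul, KSplit.pullK_mulK]
  · have hπE : FlatMod.IsFinLocFree ((Scheme.Modules.pullback π).obj E) := SGA6Ext.isFinLocFree_pullback π hE
    rw [hKX.map_lam i E _ hE (SGA6Ext.isFinLocFree_extSh E i hE) (SGA6Ext.isExtPow_extSh E i hE),
      hg _ (SGA6Ext.isFinLocFree_extSh E i hE),
      hKP.map_lam i _ _ hπE (SGA6Ext.isFinLocFree_extSh _ i hπE) (SGA6Ext.isExtPow_extSh _ i hπE)]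
    refine congrArg φP ?_
    obtain ⟨j⟩ := SGA6Ext.exists_pullExt π i hE
    exact SGA6Ext.cls_iso j (SGA6Ext.isFinLocFree_pullback π (SGA6Ext.isFinLocFree_extSh E i hE))

/-- The exterior powers of `c - l` for `l` of rank one. -/
theorem lam_sub_line {K : Type v} [CommRing K] [LambdaRing.LambdaOps K] (c l : K)
    (hl : ∀ i : ℕ, 2 ≤ i → LambdaRing.LambdaOps.lam i l = 0) : ∀ i : ℕ, LambdaRing.LambdaOps.lam i (c - l) =
      ∑ k ∈ Finset.range (i + 1), LambdaRing.LambdaOps.lam k c * (-l) ^ (i - k) := by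
  intro i
  induction i with
  | zero => simp [LambdaRing.LambdaOps.lam_zero]
  | succ i ih =>
    have h := LambdaRing.LambdaOps.lam_add (i + 1) (c - l) l
    rw [sub_add_cancel, Finset.sum_range_succ, Finset.sum_range_succ,
      Finset.sum_eq_zero (fun k hk => by rw [hl _ (by have := Finset.mem_range.mp hk; omega), mul_zero]), zero_add] at h
    simp only [Nat.sub_self, LambdaRing.LambdaOps.lam_zero, mul_one, show i + 1 - i = 1 by omega,
      LambdaRing.LambdaOps.lam_one] at h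
    rw [Finset.sum_range_succ, Nat.sub_self, pow_zero, mul_one, h]
    have : ∑ k ∈ Finset.range (i + 1), LambdaRing.LambdaOps.lam k c * (-l) ^ (i + 1 - k) =
        LambdaRing.LambdaOps.lam i (c - l) * -l := by
      rw [ih, Finset.sum_mul]
      refine Finset.sum_congr rfl fun k hk => ?_
      have := Finset.mem_range.mp hk
      rw [show i + 1 - k = i - k + 1 by omega, pow_succ, mul_assoc]
    rw [this]
    ring

/-- Let S be affine Noetherian, Y connected and quasi-projective over S, f : X ⟶ Y a regular closed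
imbedding of codimension d ≥ 1 (conormal module C finite locally free of rank d) with X connected, φ
: Y₁ ⟶ Y the blowing up of Y along X and X₁ = Y₁ ×_Y X the exceptional divisor with f₁ : X₁ ⟶ Y₁, ψ
: X₁ ⟶ X (X₁, Y₁ connected). Put c = [C] ∈ K(X), ℓ = [C₁] ∈ K(X₁) the class of the conormal
(invertible) module of f₁, e = ψ^K c - ℓ (the class of the universal sub-bundle, rank d - 1) and
λ_{-1}(e) = Σ_{i ≤ ε(e)} (-1)^i λ^i(e). With models and the maps φ^K, ψ^K, f_K, (f₁)_K, define u :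
K(X) ⟶ K(X₁) ⊕ K(Y), u(x) = (-λ_{-1}(e) ψ^K x, f_K x) and v : K(X₁) ⊕ K(Y) ⟶ K(Y₁), v(x₁, y) =
(f₁)_K x₁ + φ^K y. Then u is injective (this part needs no regularity of X or Y: it is split by
-ψ_K). -/
theorem result (S : Scheme.{u}) [IsAffine S] [IsNoetherian S] {X Y X₁ Y₁ : Scheme.{u}} [IsNoetherian Y] [ConnectedSpace ↥Y] (qY : Y ⟶ S) (hqY : KRR.IsQProjOver qY)
    (f : X ⟶ Y) (hf : Mor2.IsRegularClosedImmersion f) [ConnectedSpace ↥X] (d : ℕ) (hd : 1 ≤ d)
    (hC : FlatMod.IsFinLocFreeOfRank d (Omega.conormal f))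
    (φ : Y₁ ⟶ Y) (hφ : BlowUp.IsBlowUp φ f.ker) (f₁ : X₁ ⟶ Y₁) (ψ : X₁ ⟶ X) (hsq : IsPullback f₁ ψ φ f)
    [IsClosedImmersion f₁] (hC₁ : FlatMod.IsFinLocFreeOfRank 1 (Omega.conormal f₁)) [ConnectedSpace ↥X₁] [ConnectedSpace ↥Y₁]
    (KX : Type v) [CommRing KX] [LambdaRing.LambdaOps KX] (PX : LambdaRing.PosStructure KX) (φX : SGA6.Kvb X →+ KX) (hKX : KRR.IsModel X KX PX φX)
    (KY : Type v) [CommRing KY] [LambdaRing.LambdaOps KY] (PY : LambdaRing.PosStructure KY) (φY : SGA6.Kvb Y →+ KY) (hKY : KRR.IsModel Y KY PY φY)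
    (KX₁ : Type v) [CommRing KX₁] [LambdaRing.LambdaOps KX₁] (PX₁ : LambdaRing.PosStructure KX₁) (φX₁ : SGA6.Kvb X₁ →+ KX₁) (hKX₁ : KRR.IsModel X₁ KX₁ PX₁ φX₁)
    (KY₁ : Type v) [CommRing KY₁] [LambdaRing.LambdaOps KY₁] (PY₁ : LambdaRing.PosStructure KY₁) (φY₁ : SGA6.Kvb Y₁ →+ KY₁) (hKY₁ : KRR.IsModel Y₁ KY₁ PY₁ φY₁)
    (gφ : KY →+ KY₁) (hgφ : KRR.IsPull φ φY φY₁ gφ) (gψ : KX →+ KX₁) (hgψ : KRR.IsPull ψ φX φX₁ gψ)
    (gf : KX →+ KY) (hgf : KRR.IsPushCl f φX φY gf) (gf₁ : KX₁ →+ KY₁) (hgf₁ : KRR.IsPushCl f₁ φX₁ φY₁ gf₁) :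
    Function.Injective (fun x : KX => (-(KRR.lamAlt PX₁ (gψ (φX (KRR.cl X (Omega.conormal f))) - φX₁ (KRR.cl X₁ (Omega.conormal f₁))) * gψ x), gf x)) := by
  obtain ⟨r, rfl⟩ : ∃ r, d = r + 1 := ⟨d - 1, by omega⟩
  haveI := hf.1
  haveI : IsLocallyNoetherian X := LocallyOfFiniteType.isLocallyNoetherian f
  haveI : CompactSpace ↥X := QuasiCompact.compactSpace_of_compactSpace f
  haveI : IsNoetherian X := {}
  have hloc := Groth.Agent.KoszBlow.exists_acyclic_of_regularImmersion hf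
  haveI : IsProper φ := Groth.Agent.BlowUpExist.isProper_of_isBlowUp hφ fun y => by
    obtain ⟨U, m, a, hyU, -, hI⟩ := hloc y
    classical
    exact ⟨U, hyU, ⟨Finset.univ.image a, by rw [Finset.coe_image, Finset.coe_univ, Set.image_univ, hI]⟩⟩
  haveI : IsLocallyNoetherian Y₁ := LocallyOfFiniteType.isLocallyNoetherian φ
  haveI : IsLocallyNoetherian X₁ := LocallyOfFiniteType.isLocallyNoetherian f₁
  haveI : CompactSpace ↥Y₁ := QuasiCompact.compactSpace_of_compactSpace φ
  haveI : CompactSpace ↥X₁ := QuasiCompact.compactSpace_of_compactSpace f₁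
  haveI : IsNoetherian X₁ := {}
  obtain ⟨cm, hcm, -⟩ := Groth.Agent.Conormal.existsUnique_conormalMap f₁ f φ ψ hsq.w.symm
  have hPB := Groth.Agent.BlowExcBundle.isProjBundle_exceptional hsq hφ hC hloc hcm
  have hbij := Groth.Agent.S3789.result X X₁ r (Omega.conormal f) hC ψ (Omega.conormal f₁) cm hPB
    KX PX φX hKX KX₁ PX₁ φX₁ hKX₁ gψ hgψ
  obtain ⟨gR, hgR, hlam⟩ := exists_pullHom ψ hKX hKX₁ hgψ
  set l := φX₁ (KRR.cl X₁ (Omega.conormal f₁))
  set c := φX (KRR.cl X (Omega.conormal f))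
  have hCf := Groth.Agent.SGA6Ext.finLocFree_of_rank hC
  have hl2 : ∀ i, 2 ≤ i → LambdaRing.LambdaOps.lam i l = 0 := fun i hi =>
    PX₁.lam_eq_zero l ((hKX₁.mem_pos_iff l).2 ⟨1, _, le_rfl, hC₁, rfl⟩) i (by
      rw [hKX₁.aug_cl 1 _ hC₁]; exact_mod_cast hi)
  have haug : (PX₁.aug (gψ c - l)).toNat = r := by
    rw [map_sub, hgψ _ hCf, hKX₁.aug_cl 1 _ hC₁,
      hKX₁.aug_cl (r + 1) _ (Groth.Agent.Nagata.isFinLocFreeOfRank_pullback ψ hC)]
    simp
  have hlamc : ∀ k, LambdaRing.LambdaOps.lam k (gψ c) = gR (LambdaRing.LambdaOps.lam k c) := fun k => by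
    rw [hgR, hlam k _ hCf, hgψ _ hCf]
  intro x y hxy
  have h1 := congrArg Prod.fst hxy
  simp only [neg_inj] at h1
  rw [← sub_eq_zero]
  set z := x - y
  have hz : KRR.lamAlt PX₁ (gψ c - l) * gψ z = 0 := by rw [map_sub, mul_sub, h1, sub_self]
  let p : Polynomial KX := ∑ i ∈ Finset.range (r + 1), ∑ k ∈ Finset.range (i + 1),
    Polynomial.monomial (i - k) ((-1 : KX) ^ k * LambdaRing.LambdaOps.lam k c * z)
  have hp : p.eval₂ gR l = KRR.lamAlt PX₁ (gψ c - l) * gψ z := by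
    simp only [p, Polynomial.eval₂_finsetSum, Polynomial.eval₂_monomial, KRR.lamAlt, haug, Finset.sum_mul]
    refine Finset.sum_congr rfl fun i hi => ?_
    rw [lam_sub_line _ l hl2, Finset.mul_sum, Finset.sum_mul]
    refine Finset.sum_congr rfl fun k hk => ?_
    have hki : k ≤ i := Nat.lt_succ_iff.mp (Finset.mem_range.mp hk)
    rw [map_mul, map_mul, map_pow, map_neg, map_one, hlamc, ← hgR z, neg_pow l (i - k)]
    have hsign : (-1 : KX₁) ^ i * (-1) ^ (i - k) = (-1) ^ k := by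
      obtain ⟨m, rfl⟩ := Nat.exists_eq_add_of_le hki
      rw [Nat.add_sub_cancel_left, ← pow_add, show k + m + m = k + 2 * m by omega, pow_add, pow_mul]
      simp
    rw [← hsign]
    ring
  have hdeg : p.natDegree < r + 1 := by
    refine Nat.lt_succ_of_le (Polynomial.natDegree_sum_le_of_forall_le _ _ fun i hi =>
      Polynomial.natDegree_sum_le_of_forall_le _ _ fun k hk => (Polynomial.natDegree_monomial_le _).trans ?_)
    have := Finset.mem_range.mp hi
    omega
  have hcoeff : p.coeff r = z := by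
    simp only [p, Polynomial.finsetSum_coeff, Polynomial.coeff_monomial]
    rw [Finset.sum_eq_single r (fun i hi hne => Finset.sum_eq_zero fun k hk => if_neg (by
      have := Finset.mem_range.mp hi; omega)) (fun h => absurd (Finset.self_mem_range_succ r) h),
      Finset.sum_eq_single 0 (fun k hk hne => if_neg (by have := Finset.mem_range.mp hk; omega)) (by simp)]
    simp [LambdaRing.LambdaOps.lam_zero]
  have h0 : (fun a : Fin (r + 1) → KX => ∑ i : Fin (r + 1), gψ (a i) * l ^ (i : ℕ)) (fun i => p.coeff i) =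
      (fun a : Fin (r + 1) → KX => ∑ i : Fin (r + 1), gψ (a i) * l ^ (i : ℕ)) 0 := by
    rw [hz, Polynomial.eval₂_eq_sum_range' gR hdeg l] at hp
    simp only [Pi.zero_apply, map_zero, zero_mul, Finset.sum_const_zero, ← hgR]
    rw [Fin.sum_univ_eq_sum_range (fun i => gR (p.coeff i) * l ^ i) (r + 1)]
    exact hp
  rw [← hcoeff]
  exact congrFun (hbij.1 h0) ⟨r, Nat.lt_succ_self r⟩

end Groth.Agent.S3772
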