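import Groth.Statements.S3774
import Groth.Agent.K0Filt.Localization
import Groth.Agent.K0ResLF.PushK
import Groth.Agent.K0ResLF.RRPn
import Groth.Agent.ResDesc.ResProp
import Groth.Agent.ResDesc.ResLocal
import Groth.Agent.BlowAmp.Ample
import Groth.Agent.RegBlow.Main
import Groth.Agent.BlowExc.Smooth
import Groth.Agent.WeilExt.Extend
import Groth.Agent.BlowUpLib.Basic
import Groth.Agent.BlowUpExist.Proper
import Groth.Agent.LocImmFT.Main
import Groth.Agent.KFlat.ClosedImm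
import Groth.Agent.ThickSys.Sys
import Groth.Agent.SGA6Ext.Pull
import Groth.Agent.RZUnion.Separate
import Groth.Agent.K0ResLF.EnoughPn
-- import your own Groth.Agent.* helpers here

set_option autoImplicit false
universe v u
open CategoryTheory CategoryTheory.Limits AlgebraicGeometry
attribute [local instance] HasDerivedCategory.standard
set_option linter.style.haveILetI false
set_option backward.isDefEq.respectTransparency false
set_option backward.isDefEq.respectTransparency.types false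
open KRR

namespace Groth.Agent.S3774

open Groth.Agent

/-- Enough locally free modules from the resolution property. -/
theorem hasEnough_of_resolution {X : Scheme.{u}} (h : PerfAux.HasResolutionProperty X) : KRR.HasEnoughLocFree X :=
  fun F hF => h F hF.1 hF.2

/-- The class in `K'` of a closed direct image, through the push-forward on the models. -/
theorem toCoh_push {X Y : Scheme.{u}} [IsNoetherian Y] (hY : KRR.HasEnoughLocFree Y)
    (hreg : ∀ y : Y, IsRegularLocalRing (Y.presheaf.stalk y))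
    {KX KY : Type v} [CommRing KX] [CommRing KY] {φX : SGA6.Kvb X →+ KX} {φY : SGA6.Kvb Y →+ KY}
    (hφY : Function.Bijective φY) (f : X ⟶ Y)
    {h : KX →+ KY} (hh : KRR.IsPushCl f φX φY h) {F : X.Modules} (hF : FlatMod.IsFinLocFree F)
    (hc : Coh.IsCoh ((Scheme.Modules.pushforward f).obj F)) (b : SGA6.Kvb Y) (hb : φY b = h (φX (KRR.cl X F))) :
    SGA6.mapSub (𝟭 Y.Modules) (KRR.vbP Y) (fun M : Y.Modules => Coh.IsCoh M)
        (fun _ hM => K0Coh.isCoh_of_isFinLocFree hM) b =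
      KZero.clSub (fun M : Y.Modules => Coh.IsCoh M) ((Scheme.Modules.pushforward f).obj F) := by
  obtain ⟨m, hm⟩ := K0ResLF.exists_pdLT_of_regular hY hreg hc
  obtain ⟨n, L, π, hL⟩ := K0ResLF.hasLFRes_of_pdLT hY hc (n := m) hm
  haveI := hL.quasiIso
  rw [K0ResLF.cl_eq_sum (fun M : Y.Modules => Coh.IsCoh M) (K0ResLF.hypCoh hY).ker₁ hc n L π hL.isZero
    (fun i => K0Coh.isCoh_of_isFinLocFree (hL.finLocFree i))]
  rw [hh F hF n L π hL] at hb
  simp only [← map_zsmul, ← map_sum] at hb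
  rw [hφY.1 hb, map_sum]
  exact Finset.sum_congr rfl fun k _ => by
    rw [map_zsmul]
    exact congrArg _ (K0Filt.mapSub_cl _ _ _ _ (hL.finLocFree k))

/-- Let S be affine Noetherian, Y connected and quasi-projective over S, f : X ⟶ Y a regular closed
imbedding of codimension d ≥ 1 (conormal module C finite locally free of rank d) with X connected, X
and Y regular (all local rings regular), φ : Y₁ ⟶ Y the blowing up of Y along X and X₁ = Y₁ ×_Y X
the exceptional divisor with f₁ : X₁ ⟶ Y₁, ψ : X₁ ⟶ X (X₁, Y₁ connected). Put c = [C] ∈ K(X), ℓ =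
[C₁] ∈ K(X₁) the class of the conormal (invertible) module of f₁, e = ψ^K c - ℓ (the class of the
universal sub-bundle, rank d - 1) and λ_{-1}(e) = Σ_{i ≤ ε(e)} (-1)^i λ^i(e). With models and the
maps φ^K, ψ^K, f_K, (f₁)_K, define u : K(X) ⟶ K(X₁) ⊕ K(Y), u(x) = (-λ_{-1}(e) ψ^K x, f_K x) and v :
K(X₁) ⊕ K(Y) ⟶ K(Y₁), v(x₁, y) = (f₁)_K x₁ + φ^K y. Then v is surjective, so 0 ⟶ K(X) ⟶ K(X₁) ⊕ K(Y)
⟶ K(Y₁) ⟶ 0 is exact. -/
theorem result (S : Scheme.{u}) [IsAffine S] [IsNoetherian S] {X Y X₁ Y₁ : Scheme.{u}} [IsNoetherian Y] [ConnectedSpace ↥Y] (qY : Y ⟶ S) (hqY : KRR.IsQProjOver qY)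
    (hYreg : ∀ y : Y, IsRegularLocalRing (Y.presheaf.stalk y))
    (f : X ⟶ Y) (hf : Mor2.IsRegularClosedImmersion f) [ConnectedSpace ↥X] (d : ℕ) (hd : 1 ≤ d)
    (hC : FlatMod.IsFinLocFreeOfRank d (Omega.conormal f)) (hXreg : ∀ x : X, IsRegularLocalRing (X.presheaf.stalk x))
    (φ : Y₁ ⟶ Y) (hφ : BlowUp.IsBlowUp φ f.ker) (f₁ : X₁ ⟶ Y₁) (ψ : X₁ ⟶ X) (hsq : IsPullback f₁ ψ φ f)
    [IsClosedImmersion f₁] (hC₁ : FlatMod.IsFinLocFreeOfRank 1 (Omega.conormal f₁)) [ConnectedSpace ↥X₁] [ConnectedSpace ↥Y₁]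
    (KX : Type v) [CommRing KX] [LambdaRing.LambdaOps KX] (PX : LambdaRing.PosStructure KX) (φX : SGA6.Kvb X →+ KX) (hKX : KRR.IsModel X KX PX φX)
    (KY : Type v) [CommRing KY] [LambdaRing.LambdaOps KY] (PY : LambdaRing.PosStructure KY) (φY : SGA6.Kvb Y →+ KY) (hKY : KRR.IsModel Y KY PY φY)
    (KX₁ : Type v) [CommRing KX₁] [LambdaRing.LambdaOps KX₁] (PX₁ : LambdaRing.PosStructure KX₁) (φX₁ : SGA6.Kvb X₁ →+ KX₁) (hKX₁ : KRR.IsModel X₁ KX₁ PX₁ φX₁)
    (KY₁ : Type v) [CommRing KY₁] [LambdaRing.LambdaOps KY₁] (PY₁ : LambdaRing.PosStructure KY₁) (φY₁ : SGA6.Kvb Y₁ →+ KY₁) (hKY₁ : KRR.IsModel Y₁ KY₁ PY₁ φY₁)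
    (gφ : KY →+ KY₁) (hgφ : KRR.IsPull φ φY φY₁ gφ) (gψ : KX →+ KX₁) (hgψ : KRR.IsPull ψ φX φX₁ gψ)
    (gf : KX →+ KY) (hgf : KRR.IsPushCl f φX φY gf) (gf₁ : KX₁ →+ KY₁) (hgf₁ : KRR.IsPushCl f₁ φX₁ φY₁ gf₁) :
    ∀ y₁ : KY₁, ∃ (x₁ : KX₁) (y : KY), gf₁ x₁ + gφ y = y₁ := by
  haveI := hf.1
  haveI : IsLocallyNoetherian X := LocallyOfFiniteType.isLocallyNoetherian f
  have hloc := KoszBlow.exists_acyclic_of_regularImmersion hf
  haveI : IsProper φ := BlowUpExist.isProper_of_isBlowUp hφ fun y => by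
    obtain ⟨U, m, a, hyU, -, hI⟩ := hloc y
    classical
    exact ⟨U, hyU, ⟨Finset.univ.image a, by rw [Finset.coe_image, Finset.coe_univ, Set.image_univ, hI]⟩⟩
  haveI : IsLocallyNoetherian Y₁ := LocallyOfFiniteType.isLocallyNoetherian φ
  haveI : CompactSpace ↥Y₁ := QuasiCompact.compactSpace_of_compactSpace φ
  haveI : IsNoetherian Y₁ := {}
  haveI : IsLocallyNoetherian X₁ := LocallyOfFiniteType.isLocallyNoetherian f₁
  haveI : CompactSpace ↥X₁ := QuasiCompact.compactSpace_of_compactSpace f₁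
  haveI : IsNoetherian X₁ := {}
  -- regularity
  have hY₁ : ∀ z : Y₁, IsRegularLocalRing (Y₁.presheaf.stalk z) :=
    fun z => RegBlow.regular_of_isBlowUp f hYreg hXreg hφ z
  haveI : Smooth ψ := BlowExc.smooth_exceptional f hf φ hφ f₁ (ThickSys.ker_of_isPullback hsq) ψ hsq.w.symm
  have hX₁ : ∀ z : X₁, IsRegularLocalRing (X₁.presheaf.stalk z) := fun z => WeilExt.regular_of_smooth hXreg ψ z
  -- enough locally free modules
  obtain ⟨A, hA⟩ := K0ResLF.RR.exists_isAmple_of_isQProjOver hqY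
  have hrelA : RelAmple.IsRelAmple φ (ClSub.idealMod (f.ker.comap φ)) :=
    ⟨inferInstance, fun V => BlowAmp.isAmple_restrict_exceptional hφ (RZUnion.isFiniteType_of_isLocallyNoetherian _) V⟩
  have hE : KRR.HasEnoughLocFree Y := hasEnough_of_resolution (ResDesc.hasResolutionProperty_of_isAmple A hA)
  haveI : Y.IsSeparated := TMul.isSeparated_of_isAmple hA
  have hE₁ : KRR.HasEnoughLocFree Y₁ := hasEnough_of_resolution
    (ResDesc.hasResolutionProperty_of_isRelAmple φ (ResDesc.hasResolutionProperty_of_isAmple A hA) _ hrelA)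
  have hEX : KRR.HasEnoughLocFree X₁ := K0ResLF.hasEnoughLocFree_closed f₁ hE₁
  -- exactness of the closed direct image
  haveI : (Scheme.Modules.pushforward f₁).PreservesHomology := KFlat.preservesHomology_pushforward f₁
  haveI : PreservesFiniteLimits (Scheme.Modules.pushforward f₁) := Functor.preservesFiniteLimits_of_preservesHomology _
  haveI : PreservesFiniteColimits (Scheme.Modules.pushforward f₁) :=
    Functor.preservesFiniteColimits_of_preservesHomology _
  have hpush : ∀ M : X₁.Modules, Coh.IsCoh M → Coh.IsCoh ((Scheme.Modules.pushforward f₁).obj M) := fun M hM => by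
    haveI := hM.1
    exact QC.isCoh_pushforward_of_isFinite f₁ hM.2
  -- the Cartan maps
  let T := SGA6.mapSub (𝟭 Y.Modules) (KRR.vbP Y) (fun M : Y.Modules => Coh.IsCoh M)
    (fun _ hM => K0Coh.isCoh_of_isFinLocFree hM)
  let T₁ := SGA6.mapSub (𝟭 Y₁.Modules) (KRR.vbP Y₁) (fun M : Y₁.Modules => Coh.IsCoh M)
    (fun _ hM => K0Coh.isCoh_of_isFinLocFree hM)
  let TX := SGA6.mapSub (𝟭 X₁.Modules) (KRR.vbP X₁) (fun M : X₁.Modules => Coh.IsCoh M)
    (fun _ hM => K0Coh.isCoh_of_isFinLocFree hM)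
  have hT : Function.Bijective T := K0ResLF.bijective_regular hE hYreg _
  have hT₁ : Function.Bijective T₁ := K0ResLF.bijective_regular hE₁ hY₁ _
  have hTX : Function.Bijective TX := K0ResLF.bijective_regular hEX hX₁ _
  -- the opens
  let U : Y.Opens := f.ker.support.compl
  let V : Y₁.Opens := φ ⁻¹ᵁ U
  haveI : IsIso (φ ∣_ U) := BlowUpLib.isIso_restrict hφ
  have hsupp : (f.ker.support : Set Y) = Set.range f := by
    rw [Scheme.Hom.support_ker]
    exact f.isClosedEmbedding.isClosed_range.closure_eq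
  have hV : (V : Set Y₁) = (Set.range f₁)ᶜ := by
    ext z
    show φ z ∉ (f.ker.support : Set Y) ↔ z ∉ Set.range f₁
    have hr : Set.range f₁ = φ ⁻¹' Set.range f := by
      rw [← hsq.isoPullback_hom_fst, Scheme.Hom.comp_base, TopCat.coe_comp, Set.range_comp,
        show Set.range hsq.isoPullback.hom = Set.univ from (Scheme.homeoOfIso hsq.isoPullback).surjective.range_eq,
        Set.image_univ,
        Scheme.Pullback.range_fst]
    rw [hsupp, not_iff_not, hr]
    rfl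
  haveI : IsNoetherian U.toScheme := LocImmFT.isNoetherian_opens U
  haveI : IsNoetherian V.toScheme := LocImmFT.isNoetherian_opens V
  let w : V.toScheme ≅ U.toScheme := asIso (φ ∣_ U)
  -- compatibility with inverse images
  have hcomp : ∀ b : SGA6.Kvb Y, K0Filt.resK w.hom (K0Filt.resK U.ι (T b)) =
      K0Filt.resK V.ι (T₁ (SGA6Ext.pullK φ b)) := by
    suffices h : (((K0Filt.resK w.hom).comp (K0Filt.resK U.ι)).comp T) =
        (((K0Filt.resK V.ι).comp T₁).comp (SGA6Ext.pullK φ)) from fun b => DFunLike.congr_fun h b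
    refine SGA6Ext.hom_ext_cls fun E hE' => ?_
    have hE'' := DerPerf.isFinLocFree_pullback φ hE'
    have hc := K0Coh.isCoh_of_isFinLocFree hE'
    have hc₁ := K0Coh.isCoh_of_isFinLocFree hE''
    show K0Filt.resK w.hom (K0Filt.resK U.ι (T (SGA6Ext.cls E))) = K0Filt.resK V.ι (T₁ (SGA6Ext.pullK φ (SGA6Ext.cls E)))
    rw [SGA6Ext.pullK_cls φ hE', show T (SGA6Ext.cls E) = _ from K0Filt.mapSub_cl _ _ _ _ hE',
      show T₁ (SGA6Ext.cls _) = _ from K0Filt.mapSub_cl _ _ _ _ hE'']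
    refine ((K0Filt.resK_comp w.hom U.ι (w.hom ≫ U.ι) rfl _).symm.trans
      ((K0Filt.mapSub_cl _ _ _ _ hc).trans ?_)).trans (K0Filt.mapSub_cl _ _ _ _ hc₁).symm
    refine K0Filt.cl_congr ?_ (K0Filt.isCoh_restrict _ _ hc)
    exact (Scheme.Modules.restrictFunctorIsoPullback (w.hom ≫ U.ι)).app E ≪≫
      (Scheme.Modules.pullbackCongr (show w.hom ≫ U.ι = V.ι ≫ φ from morphismRestrict_ι φ U)).app E ≪≫
      ((Scheme.Modules.pullbackComp V.ι φ).app E).symm ≪≫
      ((Scheme.Modules.restrictFunctorIsoPullback V.ι).app _).symm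
  intro y₁
  obtain ⟨a, rfl⟩ := hKY₁.bijective.2 y₁
  obtain ⟨z', hz'⟩ := (K0Filt.resK_bijective w).2 (K0Filt.resK V.ι (T₁ a))
  -- extend to `Y`
  have hsurj : Function.Surjective (K0Filt.resK U.ι) := by
    haveI : (Scheme.Modules.pushforward f).PreservesHomology := KFlat.preservesHomology_pushforward f
    haveI : PreservesFiniteLimits (Scheme.Modules.pushforward f) := Functor.preservesFiniteLimits_of_preservesHomology _
    haveI : PreservesFiniteColimits (Scheme.Modules.pushforward f) :=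
      Functor.preservesFiniteColimits_of_preservesHomology _
    exact (K0Filt.localization f (fun M hM => by haveI := hM.1; exact QC.isCoh_pushforward_of_isFinite f hM.2) U
      (congrArg (fun s : Set Y => sᶜ) hsupp) (K0Filt.isCoh_restrict U.ι)).1
  obtain ⟨zY, rfl⟩ := hsurj z'
  obtain ⟨b, rfl⟩ := hT.2 zY
  rw [hcomp] at hz'
  -- the difference comes from the divisor
  have hker : T₁ (a - SGA6Ext.pullK φ b) ∈ K0Filt.Rg f₁ hpush := by
    rw [← (K0Filt.localization f₁ hpush V hV (K0Filt.isCoh_restrict V.ι)).2, AddMonoidHom.mem_ker, map_sub, map_sub]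
    exact sub_eq_zero.2 hz'.symm
  obtain ⟨c, hc⟩ := hker
  obtain ⟨e, rfl⟩ := hTX.2 c
  have hpushcomp : ∀ e : SGA6.Kvb X₁,
      SGA6.mapSub (Scheme.Modules.pushforward f₁) (fun M : X₁.Modules => Coh.IsCoh M)
        (fun M : Y₁.Modules => Coh.IsCoh M) hpush (TX e) =
      T₁ ((AddEquiv.ofBijective φY₁ hKY₁.bijective).symm (gf₁ (φX₁ e))) := by
    suffices h : (SGA6.mapSub (Scheme.Modules.pushforward f₁) (fun M : X₁.Modules => Coh.IsCoh M)
        (fun M : Y₁.Modules => Coh.IsCoh M) hpush).comp TX =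
        ((T₁.comp (AddEquiv.ofBijective φY₁ hKY₁.bijective).symm.toAddMonoidHom).comp gf₁).comp φX₁ from
      fun e => DFunLike.congr_fun h e
    refine SGA6Ext.hom_ext_cls fun F hF => ?_
    have hc := K0Coh.isCoh_of_isFinLocFree hF
    refine ((congrArg _ (K0Filt.mapSub_cl _ _ _ _ hF)).trans (K0Filt.mapSub_cl _ _ _ _ hc)).trans ?_
    exact (toCoh_push hE₁ hY₁ hKY₁.bijective f₁ hgf₁ hF (hpush F hc) _
      ((AddEquiv.ofBijective φY₁ hKY₁.bijective).apply_symm_apply _)).symm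
  rw [hpushcomp] at hc
  have hg : gφ.comp φY = φY₁.comp (SGA6Ext.pullK φ) := SGA6Ext.hom_ext_cls fun E hE' => by
    show gφ (φY (KRR.cl Y E)) = φY₁ (SGA6Ext.pullK φ (SGA6Ext.cls E))
    rw [hgφ E hE', SGA6Ext.pullK_cls φ hE']
  refine ⟨φX₁ e, φY b, ?_⟩
  have h1 := congrArg φY₁ (hT₁.1 hc)
  rw [map_sub] at h1
  have hgb := DFunLike.congr_fun hg b
  simp only [AddMonoidHom.comp_apply] at hgb
  rw [← hgb] at h1
  exact eq_sub_iff_add_eq.1 (((AddEquiv.ofBijective φY₁ hKY₁.bijective).apply_symm_apply _).symm.trans h1)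

end Groth.Agent.S3774
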