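import Groth.Statements.S3773
import Groth.Agent.NormDef.ExcessModels
import Groth.Agent.NormDef.PullInj
import Groth.Agent.K0ResLF.SelfInt
import Groth.Agent.S3772
import Groth.Agent.S3774
import Groth.Agent.S3788
import Groth.Agent.S3789
-- import your own Groth.Agent.* helpers here

set_option autoImplicit false
universe v u
open CategoryTheory CategoryTheory.Limits AlgebraicGeometry
attribute [local instance] HasDerivedCategory.standard
set_option linter.style.haveILetI false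
set_option backward.isDefEq.respectTransparency false
set_option backward.isDefEq.respectTransparency.types false
set_option maxHeartbeats 1600000
open KRR

namespace Groth.Agent.S3773

/-- A regular immersion of positive codimension has dense complement. -/
theorem dense_compl_range {X Y : Scheme.{u}} {f : X ⟶ Y} (hf : Mor2.IsRegularClosedImmersion f) {d : ℕ} (hd : 1 ≤ d)
    (hC : FlatMod.IsFinLocFreeOfRank d (Omega.conormal f)) : Dense (Set.range f)ᶜ := by
  haveI := hf.1
  rw [dense_iff_inter_open]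
  intro V hV hVne
  by_contra hne
  obtain ⟨y, hyV⟩ := hVne
  have hVsub : V ⊆ Set.range f := fun w hw => by
    by_contra hw'
    exact hne ⟨w, hw, hw'⟩
  obtain ⟨z, rfl⟩ := hVsub hyV
  obtain ⟨U, hU, hzU, rs, hrs, hker⟩ := hf.2 z
  rcases rs with _ | ⟨a, rs⟩
  · -- no equations: the conormal module would vanish
    have hbot : f.ker.ideal ⟨U, hU⟩ = ⊥ := by rw [hker]; simp
    obtain ⟨O, hzO, ⟨e⟩⟩ := hC z
    obtain ⟨W, hW, hzW, hWU, hWO⟩ := Groth.Agent.Conormal.exists_chart_le f z O hzO U hzU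
    haveI : Subsingleton Γ(ClSub.idealMod f.ker, W) := by
      refine ⟨fun s t => Groth.Agent.QC.app_injective_of_mono (ClSub.idealModι f.ker) W ?_⟩
      have h0 : ∀ s, (ClSub.idealModι f.ker).app W s = (0 : Γ(Y, W)) := fun s => by
        have h1 := (Groth.Agent.QC.mem_range_idealModι_affine f.ker ⟨W, hW.affine⟩ _).1 ⟨s, rfl⟩
        rw [← f.ker.map_ideal' (U := ⟨W, hW.affine⟩) (V := ⟨U, hU⟩) (homOfLE hWU).op, hbot, Ideal.map_bot] at h1
        exact h1
      rw [h0, h0]
    haveI : Subsingleton Γ(Omega.conormal f, f ⁻¹ᵁ W) :=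
      (Groth.Agent.Conormal.conormalSect_surjective f hW).subsingleton
    obtain ⟨b⟩ := Groth.Agent.LocFree.exists_basis_sections_of_le e hW.preimage hWO
    haveI : Nonempty (f ⁻¹ᵁ W : X.Opens) := ⟨⟨z, hzW⟩⟩
    exact b.ne_zero ⟨⟨0, hd⟩⟩ (Subsingleton.elim _ _)
  · obtain ⟨g, hgV, hzg⟩ := hU.exists_basicOpen_le (V := ⟨V, hV⟩) ⟨f z, hyV⟩ hzU
    have ha : IsSMulRegular Γ(Y, U) a := ((RingTheory.Sequence.isWeaklyRegular_cons_iff _ _ _).1 hrs.toIsWeaklyRegular).1
    have hag : Y.basicOpen (a * g) = ⊥ := by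
      rw [Scheme.basicOpen_mul, eq_bot_iff]
      rintro w ⟨hwa, hwg⟩
      obtain ⟨w', rfl⟩ := hVsub (hgV hwg)
      have hsupp : f w' ∈ f.ker.support := by
        rw [← SetLike.mem_coe, Scheme.Hom.support_ker]
        exact subset_closure ⟨w', rfl⟩
      rw [Scheme.IdealSheafData.mem_support_iff_of_mem (U := ⟨U, hU⟩) (Y.basicOpen_le _ hwg), Scheme.mem_zeroLocus_iff] at hsupp
      exact (hsupp a (by rw [hker]; exact Ideal.subset_span (by simp)) hwa).elim
    have hnil : ∀ c : Γ(Y, U), Y.basicOpen c = ⊥ ↔ IsNilpotent c := fun c => by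
      rw [← PrimeSpectrum.basicOpen_eq_bot_iff, ← IsAffineOpen.fromSpec_preimage_basicOpen hU c]
      refine ⟨fun h => by rw [h]; rfl, fun h => eq_bot_iff.2 fun w hw => ?_⟩
      obtain ⟨w', rfl⟩ : w ∈ Set.range (IsAffineOpen.fromSpec hU) := by
        rw [IsAffineOpen.range_fromSpec]; exact Y.basicOpen_le c hw
      exact (h.le (show w' ∈ IsAffineOpen.fromSpec hU ⁻¹ᵁ Y.basicOpen c from hw) :)
    obtain ⟨n, hn⟩ := (hnil _).1 hag
    rw [mul_pow] at hn
    have hgn : g ^ n = 0 := (IsSMulRegular.pow n ha).right_eq_zero_of_smul hn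
    have hgbot : Y.basicOpen g = ⊥ := (hnil _).2 ⟨n, hgn⟩
    rw [hgbot] at hzg
    exact hzg

/-- Exactness in the middle of the K-theory sequence of a blow-up: let S be an affine Noetherian scheme,
Y a connected Noetherian scheme, quasi-projective over S, all of whose local rings are regular, f :
X ⟶ Y a regular closed immersion of codimension d ≥ 1 (conormal module C finite locally free of rank
d) with X connected and all local rings of X regular, φ : Y₁ ⟶ Y the blowing up of Y along X, and X₁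
= Y₁ ×_Y X the exceptional divisor with projections f₁ : X₁ ⟶ Y₁ (a closed immersion whose conormal
module C₁ is invertible) and ψ : X₁ ⟶ X, with X₁ and Y₁ connected. Work in models K(X), K(Y), K(X₁),
K(Y₁) of the Grothendieck rings of vector bundles as λ-rings with positive structure, with pullback
maps φ^K : K(Y) → K(Y₁), ψ^K : K(X) → K(X₁) and push-forward maps f_K : K(X) → K(Y), (f₁)_K : K(X₁)
→ K(Y₁). Put c = [C] ∈ K(X), ℓ = [C₁] ∈ K(X₁), e = ψ^K c − ℓ (the class of the universal sub-bundle,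
of rank d − 1) and λ_{−1}(e) = Σ_{i ≤ ε(e)} (−1)^i λ^i(e). Define u : K(X) ⟶ K(X₁) ⊕ K(Y) by u(x) =
(−λ_{−1}(e) · ψ^K x, f_K x) and v : K(X₁) ⊕ K(Y) ⟶ K(Y₁) by v(x₁, y) = (f₁)_K x₁ + φ^K y. Then v ∘ u
= 0, that is φ^K f_K x = (f₁)_K(λ_{−1}(e) · ψ^K x) for every x, and every (x₁, y) with v(x₁, y) = 0
is of the form u(x) for some x ∈ K(X). -/
theorem result (S : Scheme.{u}) [IsAffine S] [IsNoetherian S] {X Y X₁ Y₁ : Scheme.{u}} [IsNoetherian Y] [ConnectedSpace ↥Y] (qY : Y ⟶ S) (hqY : KRR.IsQProjOver qY)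
    (hYreg : ∀ y : Y, IsRegularLocalRing (Y.presheaf.stalk y))
    (f : X ⟶ Y) (hf : Mor2.IsRegularClosedImmersion f) [ConnectedSpace ↥X] (d : ℕ) (hd : 1 ≤ d)
    (hC : FlatMod.IsFinLocFreeOfRank d (Omega.conormal f)) (hXreg : ∀ x : X, IsRegularLocalRing (X.presheaf.stalk x))
    (φ : Y₁ ⟶ Y) (hφ : BlowUp.IsBlowUp φ f.ker) (f₁ : X₁ ⟶ Y₁) (ψ : X₁ ⟶ X) (hsq : IsPullback f₁ ψ φ f)
    [IsClosedImmersion f₁] (hC₁ : FlatMod.IsFinLocFreeOfRank 1 (Omega.conormal f₁)) [ConnectedSpace ↥X₁] [ConnectedSpace ↥Y₁]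
    (KX : Type v) [CommRing KX] [LambdaRing.LambdaOps KX] (PX : LambdaRing.PosStructure KX) (φX : SGA6.Kvb X →+ KX) (hKX : KRR.IsModel X KX PX φX)
    (KY : Type v) [CommRing KY] [LambdaRing.LambdaOps KY] (PY : LambdaRing.PosStructure KY) (φY : SGA6.Kvb Y →+ KY) (hKY : KRR.IsModel Y KY PY φY)
    (KX₁ : Type v) [CommRing KX₁] [LambdaRing.LambdaOps KX₁] (PX₁ : LambdaRing.PosStructure KX₁) (φX₁ : SGA6.Kvb X₁ →+ KX₁) (hKX₁ : KRR.IsModel X₁ KX₁ PX₁ φX₁)
    (KY₁ : Type v) [CommRing KY₁] [LambdaRing.LambdaOps KY₁] (PY₁ : LambdaRing.PosStructure KY₁) (φY₁ : SGA6.Kvb Y₁ →+ KY₁) (hKY₁ : KRR.IsModel Y₁ KY₁ PY₁ φY₁)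
    (gφ : KY →+ KY₁) (hgφ : KRR.IsPull φ φY φY₁ gφ) (gψ : KX →+ KX₁) (hgψ : KRR.IsPull ψ φX φX₁ gψ)
    (gf : KX →+ KY) (hgf : KRR.IsPushCl f φX φY gf) (gf₁ : KX₁ →+ KY₁) (hgf₁ : KRR.IsPushCl f₁ φX₁ φY₁ gf₁) :
    (∀ x : KX, gf₁ (-(KRR.lamAlt PX₁ (gψ (φX (KRR.cl X (Omega.conormal f))) - φX₁ (KRR.cl X₁ (Omega.conormal f₁))) * gψ x)) + gφ (gf x) = 0) ∧
    ∀ (x₁ : KX₁) (y : KY), gf₁ x₁ + gφ y = 0 → ∃ x : KX, -(KRR.lamAlt PX₁ (gψ (φX (KRR.cl X (Omega.conormal f))) - φX₁ (KRR.cl X₁ (Omega.conormal f₁))) * gψ x) = x₁ ∧ gf x = y := by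
  obtain ⟨r, rfl⟩ : ∃ r, d = r + 1 := ⟨d - 1, by omega⟩
  haveI := hf.1
  haveI : IsLocallyNoetherian X := LocallyOfFiniteType.isLocallyNoetherian f
  haveI : CompactSpace ↥X := QuasiCompact.compactSpace_of_compactSpace f
  haveI : IsNoetherian X := {}
  have hloc := Groth.Agent.KoszBlow.exists_acyclic_of_regularImmersion hf
  haveI : IsProper φ := Groth.Agent.BlowUpExist.isProper_of_isBlowUp hφ fun y => by
    obtain ⟨U, m, a, hyU, -, hI⟩ := hloc y
    classical
    exact ⟨U, hyU, ⟨Finset.univ.image a, by rw [Finset.coe_image, Finset.coe_univ, Set.image_univ, hI]⟩⟩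
  haveI : IsLocallyNoetherian Y₁ := LocallyOfFiniteType.isLocallyNoetherian φ
  haveI : IsLocallyNoetherian X₁ := LocallyOfFiniteType.isLocallyNoetherian f₁
  haveI : CompactSpace ↥Y₁ := QuasiCompact.compactSpace_of_compactSpace φ
  haveI : CompactSpace ↥X₁ := QuasiCompact.compactSpace_of_compactSpace f₁
  haveI : IsNoetherian X₁ := {}
  haveI : IsNoetherian Y₁ := {}
  obtain ⟨A, hA⟩ := Groth.Agent.K0ResLF.RR.exists_isAmple_of_isQProjOver hqY
  haveI : Y.IsSeparated := TMul.isSeparated_of_isAmple hA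
  have hE : KRR.HasEnoughLocFree Y := Groth.Agent.NormDef.hasEnough_of_qProj hqY
  have hE₁ : KRR.HasEnoughLocFree Y₁ := Groth.Agent.S3774.hasEnough_of_resolution
    (Groth.Agent.ResDesc.hasResolutionProperty_of_isRelAmple φ (Groth.Agent.ResDesc.hasResolutionProperty_of_isAmple A hA) _
      (show RelAmple.IsRelAmple φ (ClSub.idealMod (f.ker.comap φ)) from ⟨inferInstance, fun V =>
        Groth.Agent.BlowAmp.isAmple_restrict_exceptional hφ (Groth.Agent.RZUnion.isFiniteType_of_isLocallyNoetherian _) V⟩))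
  have hker : f₁.ker = f.ker.comap φ := Groth.Agent.ThickSys.ker_of_isPullback hsq
  have hf₁ : Mor2.IsRegularClosedImmersion f₁ :=
    Groth.Agent.NormDef.isRegular_of_cartier_ker (hker ▸ hφ.1)
  have hex := fun x => (Groth.Agent.NormDef.excess_model hE hE₁ hf hC hsq hf₁ hC₁ hKX hKY hKX₁ hKY₁ hgφ hgψ hgf hgf₁ x).2.2
  have first : ∀ x : KX, gf₁ (-(KRR.lamAlt PX₁ (gψ (φX (KRR.cl X (Omega.conormal f))) -
      φX₁ (KRR.cl X₁ (Omega.conormal f₁))) * gψ x)) + gφ (gf x) = 0 := fun x => by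
    rw [hex x, map_neg, neg_add_cancel]
  refine ⟨first, fun x₁ y hxy => ?_⟩
  -- the projective bundle
  obtain ⟨cm, hcm, -⟩ := Groth.Agent.Conormal.existsUnique_conormalMap f₁ f φ ψ hsq.w.symm
  have hPB := Groth.Agent.BlowExcBundle.isProjBundle_exceptional hsq hφ hC hloc hcm
  have hrel := Groth.Agent.S3788.result X X₁ r (Omega.conormal f) hC ψ (Omega.conormal f₁) cm hPB
    KX PX φX hKX KX₁ PX₁ φX₁ hKX₁ gψ hgψ
  have hbij := Groth.Agent.S3789.result X X₁ r (Omega.conormal f) hC ψ (Omega.conormal f₁) cm hPB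
    KX PX φX hKX KX₁ PX₁ φX₁ hKX₁ gψ hgψ
  obtain ⟨gR, hgR, hlam⟩ := Groth.Agent.S3772.exists_pullHom ψ hKX hKX₁ hgψ
  set l := φX₁ (KRR.cl X₁ (Omega.conormal f₁)) with hl
  set c := φX (KRR.cl X (Omega.conormal f))
  have hCf := Groth.Agent.SGA6Ext.finLocFree_of_rank hC
  have hl2 : ∀ i, 2 ≤ i → LambdaRing.LambdaOps.lam i l = 0 := fun i hi =>
    PX₁.lam_eq_zero l ((hKX₁.mem_pos_iff l).2 ⟨1, _, le_rfl, hC₁, rfl⟩) i (by
      rw [hKX₁.aug_cl 1 _ hC₁]; exact_mod_cast hi)
  have haug : (PX₁.aug (gψ c - l)).toNat = r := by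
    rw [map_sub, hgψ _ hCf, hKX₁.aug_cl 1 _ hC₁,
      hKX₁.aug_cl (r + 1) _ (Groth.Agent.Nagata.isFinLocFreeOfRank_pullback ψ hC)]
    simp
  have hlamc : ∀ k, LambdaRing.LambdaOps.lam k (gψ c) = gR (LambdaRing.LambdaOps.lam k c) := fun k => by
    rw [hgR, hlam k _ hCf, hgψ _ hCf]
  -- self intersection
  obtain ⟨b, hb⟩ : ∃ b : KX, (1 - l) * x₁ + gψ b = 0 := by
    obtain ⟨z, rfl⟩ := hKX₁.bijective.2 x₁
    obtain ⟨w, rfl⟩ := hKY.bijective.2 y
    obtain ⟨a₁, ha₁, ha₁g⟩ := Groth.Agent.NormDef.exists_push_model hKY₁ hgf₁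
    refine ⟨φX (Groth.Agent.SGA6Ext.pullK f w), ?_⟩
    rw [← ha₁g, Groth.Agent.NormDef.pull_model hgφ, ← map_add, ← map_zero φY₁] at hxy
    have h2 := congrArg (fun v => φX₁ (Groth.Agent.SGA6Ext.pullK f₁ v)) (hKY₁.bijective.1 hxy)
    simp only [map_add, map_zero] at h2
    rw [Groth.Agent.NormDef.pull_model hgψ, ← Groth.Agent.KSplit.pullK_comp, ← hsq.w,
      Groth.Agent.KSplit.pullK_comp]
    refine Eq.trans (congrArg (· + _) ?_) h2
    have hk : Groth.Agent.TorWedge.IsKoszul f₁ := fun z => by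
      obtain ⟨U, m, a, hU, ha, hI⟩ := Groth.Agent.KoszBlow.exists_acyclic_of_regularImmersion hf₁ (f₁ z)
      exact ⟨U.1, hU, U.2, m, a, ha, (Scheme.Hom.ker_apply f₁ U).symm.trans hI⟩
    have hN := Groth.Agent.SGA6Ext.finLocFree_of_rank hC₁
    have key : (AddMonoidHom.mulLeft (1 - l)).comp φX₁ = (φX₁.comp (Groth.Agent.SGA6Ext.pullK f₁)).comp a₁ := by
      refine Groth.Agent.SGA6Ext.hom_ext_cls fun F hF => ?_
      obtain ⟨n, L, π, hL⟩ := (Groth.Agent.K0ResLF.hasLFRes_push hE₁ hf₁ hF).2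
      show (1 - l) * φX₁ (Groth.Agent.SGA6Ext.cls F) = φX₁ (Groth.Agent.SGA6Ext.pullK f₁ (a₁ (Groth.Agent.SGA6Ext.cls F)))
      rw [ha₁ F hF n L π hL, map_sum, map_sum]
      refine Eq.trans ?_ ((Groth.Agent.K0ResLF.self_intersection hk hN hKX₁ hF hL).symm.trans
        (Finset.sum_congr rfl fun k _ => ?_))
      · rw [KRR.lamAlt, hKX₁.aug_cl 1 _ hC₁, Int.toNat_natCast, Finset.sum_range_succ, Finset.sum_range_one,
          LambdaRing.LambdaOps.lam_zero, LambdaRing.LambdaOps.lam_one, mul_comm]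
        simp [hl, sub_eq_add_neg]
      · rw [map_zsmul, map_zsmul, Groth.Agent.SGA6Ext.pullK_cls f₁ (hL.finLocFree k)]
    exact DFunLike.congr_fun key z
  -- algebra in the projective bundle
  obtain ⟨p, hp⟩ := hbij.2 x₁
  let R : Polynomial KX := ∑ i : Fin (r + 1), Polynomial.monomial (i : ℕ) (p i)
  let Q : Polynomial KX := ∑ i ∈ Finset.range (r + 2),
    Polynomial.monomial (r + 1 - i) ((-1 : KX) ^ i * LambdaRing.LambdaOps.lam i c)
  let P : Polynomial KX := ∑ i ∈ Finset.range (r + 1), ∑ k ∈ Finset.range (i + 1),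
    Polynomial.monomial (i - k) ((-1 : KX) ^ k * LambdaRing.LambdaOps.lam k c)
  have hR : R.eval₂ gR l = x₁ := by
    rw [← hp, Polynomial.eval₂_finsetSum]
    exact Finset.sum_congr rfl fun i _ => by rw [Polynomial.eval₂_monomial, hgR]
  have hQ : Q.eval₂ gR l = 0 := by
    rw [← hrel, Polynomial.eval₂_finsetSum]
    exact Finset.sum_congr rfl fun i _ => by
      rw [Polynomial.eval₂_monomial, map_mul, map_pow, map_neg, map_one, hgR]
  have hP : P.eval₂ gR l = KRR.lamAlt PX₁ (gψ c - l) := by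
    simp only [P, Polynomial.eval₂_finsetSum, Polynomial.eval₂_monomial, KRR.lamAlt, haug]
    refine Finset.sum_congr rfl fun i hi => ?_
    rw [Groth.Agent.S3772.lam_sub_line _ l hl2, Finset.mul_sum]
    refine Finset.sum_congr rfl fun k hk => ?_
    have hki : k ≤ i := Nat.lt_succ_iff.mp (Finset.mem_range.mp hk)
    rw [map_mul, map_pow, map_neg, map_one, hlamc, neg_pow l (i - k)]
    have hsign : (-1 : KX₁) ^ i * (-1) ^ (i - k) = (-1) ^ k := by
      obtain ⟨m, rfl⟩ := Nat.exists_eq_add_of_le hki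
      rw [Nat.add_sub_cancel_left, ← pow_add, show k + m + m = k + 2 * m by omega, pow_add, pow_mul]
      simp
    rw [← hsign]
    ring
  have hPQ : (Polynomial.X - 1) * P = Q - Polynomial.C (Q.eval 1) := by
    have hstep : ∀ k j : ℕ, ∀ t : KX, (Polynomial.X - 1) * Polynomial.monomial j t =
        Polynomial.monomial (j + 1) t - Polynomial.monomial j t := fun k j t => by
      rw [sub_mul, one_mul, Polynomial.X_mul_monomial]
    have hPn : ∀ n, (Polynomial.X - 1) * (∑ i ∈ Finset.range (n + 1), ∑ k ∈ Finset.range (i + 1),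
        Polynomial.monomial (i - k) ((-1 : KX) ^ k * LambdaRing.LambdaOps.lam k c)) =
      ∑ k ∈ Finset.range (n + 2), Polynomial.monomial (n + 1 - k) ((-1 : KX) ^ k * LambdaRing.LambdaOps.lam k c) -
        Polynomial.C (∑ k ∈ Finset.range (n + 2), (-1 : KX) ^ k * LambdaRing.LambdaOps.lam k c) := fun n => by
      induction n with
      | zero =>
        simp [Finset.sum_range_succ, Polynomial.monomial_zero_left]
        rw [← Polynomial.C_mul_X_eq_monomial]
        ring
      | succ n ih =>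
        rw [Finset.sum_range_succ, mul_add, ih, Finset.mul_sum, Finset.sum_congr rfl (fun k _ => hstep k _ _),
          Finset.sum_sub_distrib, show n + 1 + 2 = (n + 2) + 1 by rfl, Finset.sum_range_succ _ (n + 2),
          Finset.sum_range_succ (fun k => (-1 : KX) ^ k * LambdaRing.LambdaOps.lam k c) (n + 2), map_add,
          Nat.sub_self, Polynomial.monomial_zero_left]
        have e : ∑ k ∈ Finset.range (n + 2), Polynomial.monomial (n + 1 - k + 1) ((-1 : KX) ^ k * LambdaRing.LambdaOps.lam k c) =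
            ∑ k ∈ Finset.range (n + 2), Polynomial.monomial (n + 2 - k) ((-1 : KX) ^ k * LambdaRing.LambdaOps.lam k c) :=
          Finset.sum_congr rfl fun k hk => by
            rw [show n + 1 - k + 1 = n + 2 - k by have := Finset.mem_range.mp hk; omega]
        rw [e]
        ring
    rw [hPn r, Polynomial.eval_finsetSum]
    simp [Q]
  set a := p (Fin.last r)
  let W : Polynomial KX := (1 - Polynomial.X) * R + Polynomial.C b + Polynomial.C a * Q
  have hWe : W.eval₂ gR l = 0 := by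
    simp only [W, Polynomial.eval₂_add, Polynomial.eval₂_mul, Polynomial.eval₂_sub, Polynomial.eval₂_one,
      Polynomial.eval₂_X, Polynomial.eval₂_C, hR, hQ, hgR, mul_zero, add_zero]
    exact hb
  have hRdeg : R.natDegree ≤ r := Polynomial.natDegree_sum_le_of_forall_le _ _ fun i _ =>
    (Polynomial.natDegree_monomial_le _).trans (Nat.lt_succ_iff.1 i.2)
  have hW0 : W = 0 := by
    have hcoef : ∀ n, r + 1 ≤ n → W.coeff n = 0 := fun n hn => by
      have hR0 : ∀ m, r < m → R.coeff m = 0 := fun m hm => Polynomial.coeff_eq_zero_of_natDegree_lt (hRdeg.trans_lt hm)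
      obtain ⟨m, rfl⟩ : ∃ m, n = m + 1 := ⟨n - 1, by omega⟩
      have hRm : R.coeff m = if m = r then a else 0 := by
        split_ifs with h
        · subst h
          simp only [R, Polynomial.finsetSum_coeff, Polynomial.coeff_monomial]
          rw [Fintype.sum_eq_single (Fin.last m) fun i (hi : i ≠ Fin.last m) =>
            if_neg fun h : (i : ℕ) = m => hi (Fin.ext h)]
          simp [a]
        · exact hR0 m (by omega)
      have hQm : Q.coeff (m + 1) = if m = r then 1 else 0 := by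
        simp only [Q, Polynomial.finsetSum_coeff, Polynomial.coeff_monomial]
        rw [Finset.sum_eq_single 0 (fun i hi hi0 => if_neg (by have := Finset.mem_range.mp hi; omega)) (by simp)]
        simp only [Nat.sub_zero, pow_zero, LambdaRing.LambdaOps.lam_zero, mul_one]
        by_cases h : m = r
        · rw [if_pos (by omega), if_pos h]
        · rw [if_neg (by omega), if_neg h]
      simp only [W, Polynomial.coeff_add, sub_mul, one_mul, Polynomial.coeff_sub, Polynomial.coeff_X_mul,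
        Polynomial.coeff_C_succ, Polynomial.coeff_C_mul, hR0 (m + 1) (by omega), hRm, hQm]
      split_ifs <;> ring
    have hdeg : W.natDegree < r + 1 := Nat.lt_succ_of_le (Polynomial.natDegree_le_iff_coeff_eq_zero.2 fun n hn => hcoef n hn)
    have h0 : (fun a : Fin (r + 1) → KX => ∑ i : Fin (r + 1), gψ (a i) * l ^ (i : ℕ)) (fun i => W.coeff i) =
        (fun a : Fin (r + 1) → KX => ∑ i : Fin (r + 1), gψ (a i) * l ^ (i : ℕ)) 0 := by
      simp only [Pi.zero_apply, map_zero, zero_mul, Finset.sum_const_zero, ← hgR]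
      rw [Fin.sum_univ_eq_sum_range (fun i => gR (W.coeff i) * l ^ i) (r + 1),
        ← Polynomial.eval₂_eq_sum_range' gR hdeg l]
      exact hWe
    refine Polynomial.ext fun n => ?_
    rw [Polynomial.coeff_zero]
    by_cases hn : n < r + 1
    · exact congrFun (hbij.1 h0) ⟨n, hn⟩
    · exact hcoef n (by omega)
  have hb' : b = -(a * Q.eval 1) := by
    have h := congrArg (Polynomial.eval 1) hW0
    simp only [W, Polynomial.eval_add, Polynomial.eval_mul, Polynomial.eval_sub, Polynomial.eval_one,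
      Polynomial.eval_X, Polynomial.eval_C, sub_self, zero_mul, zero_add, Polynomial.eval_zero] at h
    exact eq_neg_of_add_eq_zero_left h
  have hRP : R = Polynomial.C a * P := by
    have h : (Polynomial.X - Polynomial.C 1) * (Polynomial.C a * P - R) = 0 := by
      have : W = (Polynomial.X - Polynomial.C 1) * (Polynomial.C a * P - R) := by
        simp only [W, hb', map_neg, map_mul, map_one]
        linear_combination (-(Polynomial.C a)) * hPQ
      rw [← this, hW0]
    exact (sub_eq_zero.1 ((Polynomial.monic_X_sub_C (1 : KX)).mul_right_eq_zero_iff.1 h)).symm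
  have hx₁ : -(KRR.lamAlt PX₁ (gψ c - l) * gψ (-a)) = x₁ := by
    rw [← hR, hRP, Polynomial.eval₂_mul, Polynomial.eval₂_C, hP, hgR, map_neg]
    ring
  refine ⟨-a, hx₁, ?_⟩
  have h1 := first (-a)
  rw [hx₁, ← hxy, add_right_inj] at h1
  -- the pull-back is injective
  obtain ⟨u, hu⟩ := hKY.bijective.2 (gf (-a))
  obtain ⟨w, hw⟩ := hKY.bijective.2 y
  rw [← hu, ← hw, Groth.Agent.NormDef.pull_model hgφ, Groth.Agent.NormDef.pull_model hgφ] at h1
  rw [← hu, ← hw]
  refine congrArg φY (Groth.Agent.NormDef.pullK_injective_blowUp hE hf ?_ hφ (hKY₁.bijective.1 h1))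
  exact dense_compl_range hf hd hC

end Groth.Agent.S3773
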