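import Groth.Statements.S3777
import Groth.Agent.NormDef.FilModels
-- import your own Groth.Agent.* helpers here

set_option autoImplicit false
universe v u
open CategoryTheory CategoryTheory.Limits AlgebraicGeometry
attribute [local instance] HasDerivedCategory.standard
open KRR

namespace Groth.Agent.S3777

/-- Let S be affine Noetherian, Y connected and quasi-projective over S, f = i ≫ p with i : X ⟶ P^n_Y a
regular closed imbedding (X connected, conormal of rank c) and p the projection, a regular morphism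
of codimension c - n. With models, i_K and p_K: for every k and x ∈ F^k K(X) there is N ≥ 1 with N ·
p_K(i_K x) ∈ F^{k+c-n} K(Y) (index truncated at 0). -/
theorem result (S : Scheme.{u}) [IsAffine S] [IsNoetherian S] (n : ℕ) {X Y : Scheme.{u}} [IsNoetherian Y] [ConnectedSpace ↥Y] (qY : Y ⟶ S) (hqY : KRR.IsQProjOver qY)
    (i : X ⟶ KRR.PY n Y) (hi : Mor2.IsRegularClosedImmersion i) [ConnectedSpace ↥X] (c : ℕ)
    (hC : FlatMod.IsFinLocFreeOfRank c (Omega.conormal i))
    (KX : Type v) [CommRing KX] [LambdaRing.LambdaOps KX] (PX : LambdaRing.PosStructure KX) (φX : SGA6.Kvb X →+ KX) (hKX : KRR.IsModel X KX PX φX)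
    (KP : Type v) [CommRing KP] [LambdaRing.LambdaOps KP] (PP : LambdaRing.PosStructure KP) (φP : SGA6.Kvb (KRR.PY n Y) →+ KP) (hKP : KRR.IsModel (KRR.PY n Y) KP PP φP)
    (KY : Type v) [CommRing KY] [LambdaRing.LambdaOps KY] (PY : LambdaRing.PosStructure KY) (φY : SGA6.Kvb Y →+ KY) (hKY : KRR.IsModel Y KY PY φY)
    (a : KX →+ KP) (ha : KRR.IsPushCl i φX φP a) (b : KP →+ KY) (hb : KRR.IsPushPr n Y φP φY b)
    (k : ℕ) (x : KX) (hx : x ∈ LambdaRing.gammaFiltration PX k) :
    ∃ N : ℕ, 1 ≤ N ∧ (N : KY) * b (a x) ∈ LambdaRing.gammaFiltration PY (k + c - n) := by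
  obtain ⟨L, hL⟩ := Groth.Agent.K0ResLF.RR.exists_isAmple_of_isQProjOver hqY
  exact Groth.Agent.NormDef.fil_push_comp hL n i hi hC hKX hKP hKY ha hb k hx

end Groth.Agent.S3777
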