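import Groth.Statements.S3780
import Groth.Agent.KRRLam.Basic

set_option autoImplicit false
universe v u
open CategoryTheory CategoryTheory.Limits AlgebraicGeometry
attribute [local instance] HasDerivedCategory.standard
open KRR

namespace Groth.Agent.S3780

/-- Let K be a λ-ring with positive structure admitting a splitting, e a positive element of
augmentation ε(e) = r + 1, K_e = K[T]/(p_e(T)) the elementary extension of K with ℓ the class of T,
and f : K_e → K a K-linear functional with f(ℓ^i) = σ^i(e) for i ≤ r. For any λ-operations on K_e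
extending those of K with λ^i(ℓ) = 0 for i ≥ 2, and q = e − ℓ ∈ K_e, one has f(λ^0(q)) = 1 and
f(λ^i(q)) = 0 for all i ≥ 1; that is, f(λ_t(q)) = 1. -/
theorem result (K : Type v) [CommRing K] [LambdaRing.LambdaOps K] (P : LambdaRing.PosStructure K) (hK : LambdaRing.HasSplitting K P) (e : K) (he : e ∈ P.pos) (r : ℕ) (hr : P.aug e = r + 1)
    (inst : LambdaRing.LambdaOps (AdjoinRoot (KRR.extPoly P e)))
    (hext : ∀ (i : ℕ) (x : K), @LambdaRing.LambdaOps.lam _ _ inst i (AdjoinRoot.of (KRR.extPoly P e) x) =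
      AdjoinRoot.of (KRR.extPoly P e) (LambdaRing.LambdaOps.lam i x))
    (hroot : ∀ i : ℕ, 2 ≤ i → @LambdaRing.LambdaOps.lam _ _ inst i (AdjoinRoot.root (KRR.extPoly P e)) = 0)
    (f : AdjoinRoot (KRR.extPoly P e) →ₗ[K] K)
    (hf : ∀ i : ℕ, i ≤ r → f (AdjoinRoot.root (KRR.extPoly P e) ^ i) = KRR.sigma i e) (i : ℕ) :
    f (@LambdaRing.LambdaOps.lam _ _ inst i (AdjoinRoot.of (KRR.extPoly P e) e - AdjoinRoot.root (KRR.extPoly P e))) =
      if i = 0 then 1 else 0 := by
  letI := inst
  rw [Groth.Agent.KRRLam.lam_sub_root (fun j => hext j e) hroot, map_sum]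
  calc ∑ k ∈ Finset.range (i + 1), f (AdjoinRoot.of (KRR.extPoly P e) (LambdaRing.LambdaOps.lam k e) *
        (-AdjoinRoot.root (KRR.extPoly P e)) ^ (i - k))
      = ∑ k ∈ Finset.range (i + 1), (-1 : K) ^ i *
          ((-1 : K) ^ k * LambdaRing.LambdaOps.lam k e * KRR.sigma (i - k) e) := by
        refine Finset.sum_congr rfl fun k hk => ?_
        have := Finset.mem_range.mp hk
        rw [neg_pow, show AdjoinRoot.of (KRR.extPoly P e) (LambdaRing.LambdaOps.lam k e) *
          ((-1) ^ (i - k) * AdjoinRoot.root (KRR.extPoly P e) ^ (i - k)) =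
          AdjoinRoot.of (KRR.extPoly P e) (LambdaRing.LambdaOps.lam k e * (-1) ^ (i - k)) *
            AdjoinRoot.root (KRR.extPoly P e) ^ (i - k) by
            rw [map_mul, map_pow, map_neg, map_one]; ring,
          Groth.Agent.KRRLam.map_of_mul, Groth.Agent.KRRLam.functional_root_pow he hr f hf]
        obtain ⟨c, rfl⟩ : ∃ c, i = k + c := ⟨i - k, by omega⟩
        rw [Nat.add_sub_cancel_left, pow_add]
        have h2 : (-1 : K) ^ k * (-1) ^ k = 1 := by rw [← mul_pow]; simp
        linear_combination (-(LambdaRing.LambdaOps.lam k e * (-1 : K) ^ c * KRR.sigma c e)) * h2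
    _ = _ := by
      rw [← Finset.mul_sum, Groth.Agent.KRRLam.sum_lam_mul_sigma]
      split_ifs with h
      · simp [h]
      · simp

end Groth.Agent.S3780
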