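import Groth.Statements.S3790
import Groth.Agent.K0ResLF.PullRes
import Groth.Agent.S3797
import Groth.Agent.PerfPush.Unit
-- import your own Groth.Agent.* helpers here

set_option autoImplicit false
set_option backward.isDefEq.respectTransparency false
set_option backward.isDefEq.respectTransparency.types false
set_option linter.style.haveILetI false
universe v u
open CategoryTheory CategoryTheory.Limits AlgebraicGeometry
attribute [local instance] HasDerivedCategory.standard
open KRR

namespace Groth.Agent.S3790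

/-- Let X be a connected Noetherian scheme on which every coherent module is a quotient of a finite
locally free one, and i : Y ⟶ X, j : Z ⟶ X regular closed imbeddings (Y, Z connected) meeting
regularly: with W = Y ×_X Z and projections h : W ⟶ Y, g : W ⟶ Z, the base change g is a regular
closed imbedding of the same codimension as i (conormal modules of i and g finite locally free of
the same rank), W connected. With models and push-forwards i_K, j_K, (g ≫ j)_K: [O_Y] · [O_Z] =
[O_{Y ∩ Z}] in K(X), i.e. i_K(1) · j_K(1) = (g ≫ j)_K(1). -/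
theorem result {X Y Z W : Scheme.{u}} [IsNoetherian X] [ConnectedSpace ↥X] (hXe : KRR.HasEnoughLocFree X)
    (i : Y ⟶ X) (hi : Mor2.IsRegularClosedImmersion i) [ConnectedSpace ↥Y]
    (j : Z ⟶ X) (hj : Mor2.IsRegularClosedImmersion j) [ConnectedSpace ↥Z]
    (h : W ⟶ Y) (g : W ⟶ Z) (hsq : IsPullback g h j i) (hg : Mor2.IsRegularClosedImmersion g) [ConnectedSpace ↥W]
    (d : ℕ) (hci : FlatMod.IsFinLocFreeOfRank d (Omega.conormal i)) (hcg : FlatMod.IsFinLocFreeOfRank d (Omega.conormal g))
    (KX : Type v) [CommRing KX] [LambdaRing.LambdaOps KX] (PX : LambdaRing.PosStructure KX) (φX : SGA6.Kvb X →+ KX) (hKX : KRR.IsModel X KX PX φX)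
    (KY : Type v) [CommRing KY] [LambdaRing.LambdaOps KY] (PY : LambdaRing.PosStructure KY) (φY : SGA6.Kvb Y →+ KY) (hKY : KRR.IsModel Y KY PY φY)
    (KZ : Type v) [CommRing KZ] [LambdaRing.LambdaOps KZ] (PZ : LambdaRing.PosStructure KZ) (φZ : SGA6.Kvb Z →+ KZ) (hKZ : KRR.IsModel Z KZ PZ φZ)
    (KW : Type v) [CommRing KW] [LambdaRing.LambdaOps KW] (PW : LambdaRing.PosStructure KW) (φW : SGA6.Kvb W →+ KW) (hKW : KRR.IsModel W KW PW φW)
    (a : KY →+ KX) (ha : KRR.IsPushCl i φY φX a) (b : KZ →+ KX) (hb : KRR.IsPushCl j φZ φX b)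
    (c : KW →+ KX) (hc : KRR.IsPushCl (g ≫ j) φW φX c) :
    a 1 * b 1 = c 1 := by
  haveI := hi.1
  haveI := hj.1
  haveI := hg.1
  haveI : IsLocallyNoetherian Z := LocallyOfFiniteType.isLocallyNoetherian j
  haveI : CompactSpace ↥Z := j.isClosedEmbedding.compactSpace
  haveI : IsNoetherian Z := {}
  obtain ⟨pj, hpj, -⟩ := S3797.result j KZ PZ φZ hKZ KX PX φX hKX
  have hO : ∀ S : Scheme.{u}, FlatMod.IsFinLocFree (Coh.structureModule S) := fun S => PerfPush.isFinLocFree_unit S
  obtain ⟨n, L, π, hL⟩ := (K0ResLF.hasLFRes_push hXe hi (hO Y)).2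
  obtain ⟨π', hL'⟩ := K0ResLF.exists_pull_res hsq hi hg hci hcg (hO Y) hL
  haveI := hL'.quasiIso
  let G := Scheme.Modules.pushforward j
  haveI := GrothSS.preservesFiniteColimits_push j
  haveI := (K0ResLF.hypRes hXe (K0ResLF.res_lf hXe)).iso₁
  have hgj := Groth.Agent.RegMor2.comp hj hg
  let e : G.obj ((Scheme.Modules.pushforward g).obj ((Scheme.Modules.pullback h).obj (Coh.structureModule Y))) ≅
      (Scheme.Modules.pushforward (g ≫ j)).obj (Coh.structureModule W) :=
    (Scheme.Modules.pushforwardComp g j).app _ ≪≫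
      (Scheme.Modules.pushforward (g ≫ j)).mapIso (DerPerf.pullUnitIso h)
  have hp := (K0ResLF.ResP X).prop_of_iso e.symm (K0ResLF.hasLFRes_push hXe hgj (hO W))
  let π'' := (G.mapHomologicalComplex _).map π' ≫
    ((HomologicalComplex.singleMapHomologicalComplex G _ 0).app _).hom
  rw [← hKY.map_one, ← hKW.map_one, mul_comm, ha _ (hO Y) n L π hL,
    ← K0ResLF.pushCl_mul_pull hXe hKZ.bijective hKX.bijective hKZ.map_mul hKX.map_mul hj hpj hb, one_mul]
  refine K0ResLF.toRes_injective hXe φX hKX.bijective ?_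
  rw [K0ResLF.toRes_push hXe φX hKX.bijective hgj hc (hO W), map_sum, map_sum, map_sum,
    ← K0ResLF.clSub_res_iso hXe e hp,
    K0ResLF.cl_eq_sum (K0ResLF.ResP X) (K0ResLF.hypRes hXe (K0ResLF.res_lf hXe)).ker₁ hp n _ π''
      (fun i hi => G.map_isZero (hL'.isZero i hi)) (fun i => K0ResLF.hasLFRes_push hXe hj (hL'.finLocFree i))]
  refine Finset.sum_congr rfl fun k _ => ?_
  rw [map_zsmul, map_zsmul, map_zsmul, hpj _ (hL.finLocFree k)]
  erw [K0ResLF.toRes_push hXe φX hKX.bijective hj hb (hL'.finLocFree k)]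
  rfl

end Groth.Agent.S3790
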