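import Groth.Statements.S3793
import Groth.Agent.K0ResLF.Tangent
import Groth.Agent.ExtFund.CanonOpen

set_option autoImplicit false
universe v u
open CategoryTheory CategoryTheory.Limits AlgebraicGeometry
attribute [local instance] HasDerivedCategory.standard
open KRR

namespace Groth.Agent.S3793

/-- Let S be affine Noetherian, Y connected and quasi-projective over S, and f : X ⟶ Y (X connected)
with two factorizations f = i₁ ≫ p = i₂ ≫ p' through regular closed imbeddings i₁ : X ⟶ P^n_Y, i₂ :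
X ⟶ P^m_Y (conormal modules C₁, C₂ finite locally free of ranks c₁, c₂) and the projections. With a
model of K(X), the tangent element computed from either factorization is the same: ((n+1)[i₁^*O(1)]
- 1) - [C₁^∨] = ((m+1)[i₂^*O(1)] - 1) - [C₂^∨] (duals as sheaf Hom into O_X; [T_{P/Y}] = (n+1)[O(1)]
- 1 by the Euler sequence). -/
theorem result (S : Scheme.{u}) [IsAffine S] [IsNoetherian S] (n m : ℕ) {X Y : Scheme.{u}} [IsNoetherian Y] [ConnectedSpace ↥Y] (qY : Y ⟶ S) (hqY : KRR.IsQProjOver qY)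
    [ConnectedSpace ↥X] (f : X ⟶ Y)
    (i₁ : X ⟶ KRR.PY n Y) (h₁ : Mor2.IsRegularClosedImmersion i₁) (hf₁ : i₁ ≫ KRR.pr n Y = f) (c₁ : ℕ)
    (hC₁ : FlatMod.IsFinLocFreeOfRank c₁ (Omega.conormal i₁)) [DCoh.HasSheafHom (Omega.conormal i₁)]
    (i₂ : X ⟶ KRR.PY m Y) (h₂ : Mor2.IsRegularClosedImmersion i₂) (hf₂ : i₂ ≫ KRR.pr m Y = f) (c₂ : ℕ)
    (hC₂ : FlatMod.IsFinLocFreeOfRank c₂ (Omega.conormal i₂)) [DCoh.HasSheafHom (Omega.conormal i₂)]
    (KX : Type v) [CommRing KX] [LambdaRing.LambdaOps KX] (PX : LambdaRing.PosStructure KX) (φX : SGA6.Kvb X →+ KX) (hKX : KRR.IsModel X KX PX φX) :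
    ((n + 1 : ℕ) : KX) * φX (KRR.cl X ((Scheme.Modules.pullback i₁).obj (Twist.twistOver n Y 1))) - 1
        - φX (KRR.cl X ((DCoh.sheafHom (Omega.conormal i₁)).obj (Coh.structureModule X))) =
      ((m + 1 : ℕ) : KX) * φX (KRR.cl X ((Scheme.Modules.pullback i₂).obj (Twist.twistOver m Y 1))) - 1
        - φX (KRR.cl X ((DCoh.sheafHom (Omega.conormal i₂)).obj (Coh.structureModule X))) := by
  haveI := h₁.1
  haveI := h₂.1
  have hn := Groth.Agent.PnReg.isPullback_map (n := m) (KRR.pr n Y)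
  have hm := Groth.Agent.PnReg.isPullback_map (n := n) (KRR.pr m Y)
  let j : X ⟶ KRR.PY m (KRR.PY n Y) := hn.lift i₂ i₁ (hf₂.trans hf₁.symm)
  let j' : X ⟶ KRR.PY n (KRR.PY m Y) := hm.lift i₁ i₂ (hf₁.trans hf₂.symm)
  have hj : j ≫ KRR.pr m (KRR.PY n Y) = i₁ := hn.lift_snd _ _ _
  have hjf : j ≫ KRR.projSpaceMap m (KRR.pr n Y) = i₂ := hn.lift_fst _ _ _
  have hj' : j' ≫ KRR.pr n (KRR.PY m Y) = i₂ := hm.lift_snd _ _ _
  have hjf' : j' ≫ KRR.projSpaceMap n (KRR.pr m Y) = i₁ := hm.lift_fst _ _ _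
  haveI : IsProper (KRR.pr m (KRR.PY n Y)) := (Groth.Agent.KSixLib.Exch.toBase_proper_flat_lfp m _).1
  haveI : IsProper (KRR.pr n (KRR.PY m Y)) := (Groth.Agent.KSixLib.Exch.toBase_proper_flat_lfp n _).1
  haveI : IsClosedImmersion (j ≫ KRR.pr m (KRR.PY n Y)) := by rw [hj]; infer_instance
  haveI : IsClosedImmersion (j' ≫ KRR.pr n (KRR.PY m Y)) := by rw [hj']; infer_instance
  haveI : IsClosedImmersion j := IsClosedImmersion.of_comp j (KRR.pr m (KRR.PY n Y))
  haveI : IsClosedImmersion j' := IsClosedImmersion.of_comp j' (KRR.pr n (KRR.PY m Y))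
  have hC₁' := Groth.Agent.SGA6Ext.finLocFree_of_rank hC₁
  have hC₂' := Groth.Agent.SGA6Ext.finLocFree_of_rank hC₂
  obtain ⟨-, t₁⟩ := Groth.Agent.K0ResLF.tangent_step hKX m hC₁' hj
  obtain ⟨hCj', t₂⟩ := Groth.Agent.K0ResLF.tangent_step hKX n hC₂' hj'
  -- the two orders of the factors
  let σ := hn.isoIsPullback _ _ hm.flip
  have hσ : j ≫ σ.hom = j' := by
    refine hm.hom_ext ?_ ?_
    · rw [Category.assoc, IsPullback.isoIsPullback_hom_snd, hjf', hj]
    · rw [Category.assoc, IsPullback.isoIsPullback_hom_fst, hj', hjf]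
  have hsq : IsPullback j (𝟙 X) σ.hom j' :=
    IsPullback.of_vert_isIso ⟨by rw [hσ, Category.id_comp]⟩
  obtain ⟨e⟩ := Groth.Agent.ExtFund.nonempty_conormal_pullback hsq
  let e' : Omega.conormal j' ≅ Omega.conormal j := ((Scheme.Modules.pullbackId X).app _).symm ≪≫ e
  have te := Groth.Agent.K0ResLF.dual_iso (φ := φX) e' hCj'
  -- the twisting modules
  let u₁ : (Scheme.Modules.pullback j').obj (Twist.twistOver n (KRR.PY m Y) 1) ≅
      (Scheme.Modules.pullback i₁).obj (Twist.twistOver n Y 1) :=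
    (Scheme.Modules.pullback j').mapIso ((Scheme.Modules.pullbackCongr (Groth.Agent.PnReg.map_fst (KRR.pr m Y))).app _).symm ≪≫
      (Scheme.Modules.pullback j').mapIso ((Scheme.Modules.pullbackComp _ _).app _).symm ≪≫
      (Scheme.Modules.pullbackComp _ _).app _ ≪≫ (Scheme.Modules.pullbackCongr hjf').app _
  let u₂ : (Scheme.Modules.pullback j).obj (Twist.twistOver m (KRR.PY n Y) 1) ≅
      (Scheme.Modules.pullback i₂).obj (Twist.twistOver m Y 1) :=
    (Scheme.Modules.pullback j).mapIso ((Scheme.Modules.pullbackCongr (Groth.Agent.PnReg.map_fst (KRR.pr n Y))).app _).symm ≪≫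
      (Scheme.Modules.pullback j).mapIso ((Scheme.Modules.pullbackComp _ _).app _).symm ≪≫
      (Scheme.Modules.pullbackComp _ _).app _ ≪≫ (Scheme.Modules.pullbackCongr hjf).app _
  have hfl : ∀ (d : ℕ) {Z : Scheme.{u}} (g : X ⟶ KRR.PY d Z),
      FlatMod.IsFinLocFree ((Scheme.Modules.pullback g).obj (Twist.twistOver d Z 1)) := fun d Z g =>
    Groth.Agent.DerPerf.isFinLocFree_pullback g (Groth.Agent.ResDesc.isFinLocFree_of_isInvertible
      (Groth.Agent.PBundle.isInvertible_twistOver d Z 1))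
  have v₁ := congrArg φX (Groth.Agent.SGA6Ext.cls_iso u₁ (hfl n j'))
  have v₂ := congrArg φX (Groth.Agent.SGA6Ext.cls_iso u₂ (hfl m j))
  change φX (KRR.cl X _) = φX (KRR.cl X _) at v₁ v₂
  rw [te, t₁, v₁] at t₂
  rw [v₂] at t₂
  simp only [Groth.Agent.CycPB.dualM] at t₂
  linear_combination -t₂

end Groth.Agent.S3793
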