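import Groth.Statements.S3801
import Groth.Agent.NormDef.ExcessGr
-- import your own Groth.Agent.* helpers here

set_option autoImplicit false
universe v u
open CategoryTheory CategoryTheory.Limits AlgebraicGeometry
attribute [local instance] HasDerivedCategory.standard
open KRR

namespace Groth.Agent.S3801

/-- Graded excess intersection formula, for a regular imbedding. Let S be an affine Noetherian scheme;
Y, Y₁ connected Noetherian schemes quasi-projective over S; f : X → Y and f₁ : X₁ → Y₁ regular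
closed imbeddings with X, X₁ connected and with conormal sheaves C, C₁ locally free of ranks d and
d₁ ≤ d, fitting in a fibre square with φ : Y₁ → Y and ψ : X₁ → X. Work in models of the K-theory of
vector bundles on the four schemes as λ-rings with positive structure, with φ^K, ψ^K induced by
pull-back and f_K, (f₁)_K by push-forward, and let φ^G, ψ^G and f_G, (f₁)_G be the induced maps on
the associated graded rings ℚGr of the γ-filtrations (the push-forwards of graded degrees d, d₁).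
Let e = ψ^K[C] − [C₁] be the excess class and m = d − d₁. Then for every x ∈ F^k K(X):
(f₁)_G(c_m(e^∨) · ψ^G [x]_k) = φ^G(f_G [x]_k), where c_m(e^∨) = (−1)^m c_m(e) is the top Chern class
of the dual of the excess bundle. -/
theorem result (S : Scheme.{u}) [IsAffine S] [IsNoetherian S] {X Y X₁ Y₁ : Scheme.{u}} [IsNoetherian Y] [ConnectedSpace ↥Y] (qY : Y ⟶ S) (hqY : KRR.IsQProjOver qY)
    [IsNoetherian Y₁] [ConnectedSpace ↥Y₁] (qY₁ : Y₁ ⟶ S) (hqY₁ : KRR.IsQProjOver qY₁)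
    (f : X ⟶ Y) (hf : Mor2.IsRegularClosedImmersion f) [ConnectedSpace ↥X] (d : ℕ)
    (hC : FlatMod.IsFinLocFreeOfRank d (Omega.conormal f))
    (φ : Y₁ ⟶ Y) (f₁ : X₁ ⟶ Y₁) (ψ : X₁ ⟶ X) (hsq : IsPullback f₁ ψ φ f)
    (hf₁ : Mor2.IsRegularClosedImmersion f₁) [ConnectedSpace ↥X₁] (d₁ : ℕ) (hd : d₁ ≤ d)
    (hC₁ : FlatMod.IsFinLocFreeOfRank d₁ (Omega.conormal f₁))
    (KX : Type v) [CommRing KX] [LambdaRing.LambdaOps KX] (PX : LambdaRing.PosStructure KX) (φX : SGA6.Kvb X →+ KX) (hKX : KRR.IsModel X KX PX φX)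
    (KY : Type v) [CommRing KY] [LambdaRing.LambdaOps KY] (PY : LambdaRing.PosStructure KY) (φY : SGA6.Kvb Y →+ KY) (hKY : KRR.IsModel Y KY PY φY)
    (KX₁ : Type v) [CommRing KX₁] [LambdaRing.LambdaOps KX₁] (PX₁ : LambdaRing.PosStructure KX₁) (φX₁ : SGA6.Kvb X₁ →+ KX₁) (hKX₁ : KRR.IsModel X₁ KX₁ PX₁ φX₁)
    (KY₁ : Type v) [CommRing KY₁] [LambdaRing.LambdaOps KY₁] (PY₁ : LambdaRing.PosStructure KY₁) (φY₁ : SGA6.Kvb Y₁ →+ KY₁) (hKY₁ : KRR.IsModel Y₁ KY₁ PY₁ φY₁)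
    (gφ : KY →+ KY₁) (hgφ : KRR.IsPull φ φY φY₁ gφ) (gψ : KX →+ KX₁) (hgψ : KRR.IsPull ψ φX φX₁ gψ)
    (gf : KX →+ KY) (hgf : KRR.IsPushCl f φX φY gf) (gf₁ : KX₁ →+ KY₁) (hgf₁ : KRR.IsPushCl f₁ φX₁ φY₁ gf₁)
    (φG : KGr.Gr PY →+ KGr.Gr PY₁) (hφG : KGr.IsGrPull PY PY₁ gφ φG)
    (ψG : KGr.Gr PX →+ KGr.Gr PX₁) (hψG : KGr.IsGrPull PX PX₁ gψ ψG)
    (fG : KGr.Gr PX →+ KGr.Gr PY) (hfG : KGr.IsGrPush PX PY gf d fG)
    (f₁G : KGr.Gr PX₁ →+ KGr.Gr PY₁) (hf₁G : KGr.IsGrPush PX₁ PY₁ gf₁ d₁ f₁G)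
    (k : ℕ) (x : KX) (hx : x ∈ LambdaRing.gammaFiltration PX k) :
    f₁G ((-1 : KGr.Gr PX₁) ^ (d - d₁) *
        KGr.chern PX₁ (d - d₁) (gψ (φX (KRR.cl X (Omega.conormal f))) - φX₁ (KRR.cl X₁ (Omega.conormal f₁))) *
        ψG (KGr.grK PX (k : ℤ) x)) = φG (fG (KGr.grK PX (k : ℤ) x)) := by
  obtain ⟨L, hL⟩ := Groth.Agent.K0ResLF.RR.exists_isAmple_of_isQProjOver hqY
  exact Groth.Agent.NormDef.excess_graded hL (Groth.Agent.NormDef.hasEnough_of_qProj hqY₁) hf hC hsq hf₁ hC₁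
    hKX hKY hKX₁ hKY₁ hgφ hgψ hgf hgf₁ hφG hψG hfG hf₁G k x hx

end Groth.Agent.S3801
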