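import Groth.Statements.S3802
import Groth.Agent.KRRLam.Basic

set_option autoImplicit false
universe v u
open CategoryTheory CategoryTheory.Limits AlgebraicGeometry
attribute [local instance] HasDerivedCategory.standard
open KRR

namespace Groth.Agent.S3802

/-- Let K be a λ-ring with positive structure having the splitting property, c positive with ε(c) = r +
1, and K_c = K[T]/(p_c) with generator ℓ, equipped with a λ-structure extending that of K with
λ^i(ℓ) = 0 for i ≥ 2 and a positive structure making K ⟶ K_c an extension with ℓ a line element and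
c - ℓ positive (when r ≥ 1), having the splitting property; let f : K_c ⟶ K be the associated
K-linear functional (f(ℓ^i) = σ^i(c) for i ≤ r). If z ∈ K_c satisfies z (1 - ℓ) = 0, then z = f(z) ·
λ_{-1}(c - ℓ), where λ_{-1}(c - ℓ) = Σ_{i ≤ r} (-1)^i λ^i(c - ℓ). -/
theorem result (K : Type v) [CommRing K] [LambdaRing.LambdaOps K] (P : LambdaRing.PosStructure K) (hK : LambdaRing.HasSplitting K P) (c : K) (hc : c ∈ P.pos) (r : ℕ) (hr : P.aug c = r + 1)
    (inst : LambdaRing.LambdaOps (AdjoinRoot (KRR.extPoly P c))) (Pc : @LambdaRing.PosStructure _ _ inst)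
    (hext : @LambdaRing.IsExtension K _ _ _ _ inst P Pc (AdjoinRoot.of (KRR.extPoly P c)))
    (hroot : ∀ i : ℕ, 2 ≤ i → @LambdaRing.LambdaOps.lam _ _ inst i (AdjoinRoot.root (KRR.extPoly P c)) = 0)
    (hline : @LambdaRing.PosStructure.IsLine _ _ inst Pc (AdjoinRoot.root (KRR.extPoly P c)))
    (hpos : 1 ≤ r → AdjoinRoot.of (KRR.extPoly P c) c - AdjoinRoot.root (KRR.extPoly P c) ∈ (@LambdaRing.PosStructure.pos _ _ inst Pc))
    (hsplit : @LambdaRing.HasSplitting _ _ inst Pc)
    (f : AdjoinRoot (KRR.extPoly P c) →ₗ[K] K)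
    (hf : ∀ i : ℕ, i ≤ r → f (AdjoinRoot.root (KRR.extPoly P c) ^ i) = KRR.sigma i c)
    (z : AdjoinRoot (KRR.extPoly P c)) (hz : z * (1 - AdjoinRoot.root (KRR.extPoly P c)) = 0) :
    z = AdjoinRoot.of (KRR.extPoly P c) (f z) *
      @KRR.lamAlt _ _ inst Pc (AdjoinRoot.of (KRR.extPoly P c) c - AdjoinRoot.root (KRR.extPoly P c)) := by
  letI := inst
  have hr' : (P.aug c).toNat = r + 1 := by omega
  let cf : ℕ → K := fun k => (-1 : K) ^ k * LambdaRing.LambdaOps.lam k c
  let S : ℕ → Polynomial K := fun i =>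
    ∑ k ∈ Finset.range (i + 1), Polynomial.C (cf k) * Polynomial.X ^ (i - k)
  let Q : Polynomial K := ∑ i ∈ Finset.range (r + 1), S i
  have hS : ∀ i, S (i + 1) = Polynomial.X * S i + Polynomial.C (cf (i + 1)) := fun i => by
    simp only [S]
    rw [Finset.sum_range_succ, Finset.mul_sum, Nat.sub_self, pow_zero, mul_one]
    congr 1
    refine Finset.sum_congr rfl fun k hk => ?_
    have := Finset.mem_range.mp hk
    rw [show i + 1 - k = i - k + 1 by omega, pow_succ]
    ring
  have htel : ∀ n, (Polynomial.X - 1) * ∑ i ∈ Finset.range n, S i =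
      S n - Polynomial.C ((S n).eval 1) := by
    intro n
    induction n with
    | zero => simp [S]
    | succ n ih =>
      rw [Finset.sum_range_succ, mul_add, ih, hS n]
      simp only [Polynomial.eval_add, Polynomial.eval_mul, Polynomial.eval_X, Polynomial.eval_C,
        one_mul, map_add]
      ring
  have hpS : (KRR.extPoly P c) = S (r + 1) := by rw [KRR.extPoly, hr']
  have hpm : (KRR.extPoly P c).Monic := by
    rw [hpS]
    simp only [S]
    rw [Finset.sum_range_succ']
    simp only [cf, pow_zero, LambdaRing.LambdaOps.lam_zero, mul_one, map_one, one_mul, Nat.sub_zero]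
    rw [add_comm]
    refine Polynomial.monic_X_pow_add (lt_of_le_of_lt (Polynomial.degree_sum_le _ _)
      ((Finset.sup_lt_iff (by exact_mod_cast WithBot.bot_lt_coe _)).mpr fun k hk => ?_))
    exact lt_of_le_of_lt (Polynomial.degree_C_mul_X_pow_le _ _) (by exact_mod_cast (by omega))
  obtain ⟨g₀, hg₀⟩ := AdjoinRoot.mk_surjective z
  set g := g₀ %ₘ (KRR.extPoly P c) with hg
  have hzg : AdjoinRoot.mk (KRR.extPoly P c) g = z := by
    rw [← hg₀, AdjoinRoot.mk_eq_mk, hg]
    exact ⟨-(g₀ /ₘ (KRR.extPoly P c)), by rw [mul_neg, eq_neg_iff_add_eq_zero]; linear_combination Polynomial.modByMonic_add_div g₀ (KRR.extPoly P c)⟩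
  obtain ⟨q, hq⟩ : (KRR.extPoly P c) ∣ g * (1 - Polynomial.X) := by
    rw [← AdjoinRoot.mk_eq_zero, map_mul, hzg, map_sub, map_one, AdjoinRoot.mk_X]
    exact hz
  rcases subsingleton_or_nontrivial K with hs | hs
  · have : Subsingleton (AdjoinRoot (KRR.extPoly P c)) :=
      ⟨fun a b => by
        obtain ⟨a, rfl⟩ := AdjoinRoot.mk_surjective a
        obtain ⟨b, rfl⟩ := AdjoinRoot.mk_surjective b
        rw [Subsingleton.elim a b]⟩
    exact Subsingleton.elim _ _
  have hdeg : (KRR.extPoly P c).natDegree = r + 1 := by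
    have h1 : (S (r + 1)).natDegree ≤ r + 1 :=
      Polynomial.natDegree_sum_le_of_forall_le _ _ fun k _ =>
        (Polynomial.natDegree_C_mul_X_pow_le _ _).trans (by omega)
    refine le_antisymm (hpS ▸ h1) (Polynomial.le_natDegree_of_ne_zero ?_)
    rw [hpS]
    simp only [S, Polynomial.finsetSum_coeff, Polynomial.coeff_C_mul_X_pow]
    rw [Finset.sum_eq_single 0 (fun k hk hk0 => if_neg (by simp only [Finset.mem_range] at hk; omega))
      (by simp), if_pos (by omega)]
    simp [cf, LambdaRing.LambdaOps.lam_zero]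
  have hq0 : q.natDegree = 0 := by
    by_contra h
    have hne : q ≠ 0 := fun h' => h (by simp [h'])
    have h1 : (g * (1 - Polynomial.X)).natDegree = r + 1 + q.natDegree := by
      rw [hq, hpm.natDegree_mul' hne, hdeg]
    have h2 : g.natDegree < r + 1 := hdeg ▸ Polynomial.natDegree_modByMonic_lt _ hpm
      (fun h1p => by rw [h1p, Polynomial.natDegree_one] at hdeg; omega)
    have h3 : (1 - Polynomial.X : Polynomial K).natDegree ≤ 1 :=
      (Polynomial.natDegree_sub_le _ _).trans (max_le (by simp) Polynomial.natDegree_X_le)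
    have := Polynomial.natDegree_mul_le (p := g) (q := 1 - Polynomial.X)
    omega
  obtain ⟨a, rfl⟩ := Polynomial.natDegree_eq_zero.mp hq0
  have ha : a * (S (r + 1)).eval 1 = 0 := by
    have := congrArg (Polynomial.eval 1) hq
    rw [Polynomial.eval_mul, Polynomial.eval_mul, Polynomial.eval_C, ← hpS] at *
    simp only [Polynomial.eval_sub, Polynomial.eval_one, Polynomial.eval_X, sub_self, mul_zero] at this
    rw [mul_comm, ← this]
  have hgQ : g = -(Polynomial.C a * Q) := by
    have hX : (Polynomial.X - 1 : Polynomial K).Monic := by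
      rw [← Polynomial.C_1]; exact Polynomial.monic_X_sub_C 1
    have h := htel (r + 1)
    have hC : Polynomial.C a * Polynomial.C ((S (r + 1)).eval 1) = 0 := by rw [← map_mul, ha, map_zero]
    rw [eq_neg_iff_add_eq_zero, ← hX.mul_left_eq_zero_iff]
    rw [hpS] at hq
    linear_combination -hq + Polynomial.C a * h - hC
  have hlamAlt : KRR.lamAlt Pc (AdjoinRoot.of (KRR.extPoly P c) c - (AdjoinRoot.root (KRR.extPoly P c))) = AdjoinRoot.mk (KRR.extPoly P c) Q := by
    have haug : Pc.aug (AdjoinRoot.of (KRR.extPoly P c) c - (AdjoinRoot.root (KRR.extPoly P c))) = r := by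
      rw [map_sub, hext.aug_comp, hline.2, hr]; ring
    rw [KRR.lamAlt, haug, Int.toNat_natCast, map_sum]
    refine Finset.sum_congr rfl fun i _ => ?_
    rw [Groth.Agent.KRRLam.lam_sub_root (fun j => (hext.isLambdaHom j c).symm) hroot,
      Finset.mul_sum, map_sum]
    refine Finset.sum_congr rfl fun k hk => ?_
    have := Finset.mem_range.mp hk
    simp only [map_mul, AdjoinRoot.mk_C, map_pow, AdjoinRoot.mk_X, cf, map_neg, map_one]
    rw [neg_pow (AdjoinRoot.root (KRR.extPoly P c))]
    obtain ⟨d, rfl⟩ : ∃ d, i = k + d := ⟨i - k, by omega⟩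
    rw [Nat.add_sub_cancel_left, pow_add]
    have h2 : (-1 : AdjoinRoot (KRR.extPoly P c)) ^ d * (-1) ^ d = 1 := by rw [← mul_pow]; simp
    linear_combination ((-1 : AdjoinRoot (KRR.extPoly P c)) ^ k *
      AdjoinRoot.of (KRR.extPoly P c) (LambdaRing.LambdaOps.lam k c) * (AdjoinRoot.root (KRR.extPoly P c)) ^ d) * h2
  have hfQ : f (AdjoinRoot.mk (KRR.extPoly P c) Q) = 1 := by
    simp only [Q, map_sum]
    rw [Finset.sum_eq_single 0]
    · simp only [S, zero_add, Finset.sum_range_one, cf, pow_zero, LambdaRing.LambdaOps.lam_zero,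
        mul_one, map_one, Nat.sub_self]
      rw [← pow_zero (AdjoinRoot.root (KRR.extPoly P c)), hf 0 (Nat.zero_le _)]
      simpa [LambdaRing.LambdaOps.lam_zero] using Groth.Agent.KRRLam.sum_lam_mul_sigma c 0
    · intro i hi hi0
      simp only [S, map_sum, map_mul, map_pow, AdjoinRoot.mk_C, AdjoinRoot.mk_X]
      have hs := Groth.Agent.KRRLam.sum_lam_mul_sigma c i
      rw [if_neg hi0] at hs
      rw [← hs]
      refine Finset.sum_congr rfl fun k _ => ?_
      rw [Groth.Agent.KRRLam.map_of_mul, Groth.Agent.KRRLam.functional_root_pow hc hr f hf]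
    · simp
  rw [hlamAlt, ← hzg, hgQ, map_neg, map_mul, AdjoinRoot.mk_C, map_neg, Groth.Agent.KRRLam.map_of_mul,
    hfQ, mul_one]
  simp

end Groth.Agent.S3802
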