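import Groth.Statements.S3806
import Groth.Agent.PrinParts.Pushout

set_option autoImplicit false
universe u
open scoped TensorProduct
attribute [local instance] PP16.mapAlgebra PP16.isScalarTower_mapAlgebra
open PP16

namespace Groth.Agent.S3806

noncomputable local instance (priority := high) commRingP (n : ℕ) (A B : Type u) [CommRing A] [CommRing B]
    [Algebra A B] : CommRing (PP16.P n A B) := Ideal.Quotient.commRing _


/-- Let A → A' be a ring map, B an A-algebra and B' = B ⊗_A A'. Then the canonical map P^n_{B/A} ⊗_B B'
→ P^n_{B'/A'} induced by functoriality of principal parts is an isomorphism; that is, the square B →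
P^n_{B/A}, B → B', with P^n_{B'/A'} in the corner, is a pushout of rings. -/
theorem result (n : ℕ) (A B A' B' : Type u) [CommRing A] [CommRing B] [Algebra A B]
    [CommRing A'] [CommRing B'] [Algebra A' B'] [Algebra A A'] [Algebra B B'] [Algebra A B']
    [IsScalarTower A A' B'] [IsScalarTower A B B'] [Algebra.IsPushout A B A' B'] :
    Algebra.IsPushout B (PP16.P n A B) B' (PP16.P n A' B') := by
  let T := PP16.P n A B ⊗[B] B'
  let f : B →ₐ[A] T :=
    (Algebra.TensorProduct.includeLeft : PP16.P n A B →ₐ[A] T).comp (PP16.dn n A B)
  let g : A' →ₐ[A] T :=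
    { ((Algebra.TensorProduct.includeRight : B' →ₐ[B] T).toRingHom.comp (algebraMap A' B')) with
      commutes' := fun a => by
        change (1 : PP16.P n A B) ⊗ₜ[B] algebraMap A' B' (algebraMap A A' a) = algebraMap A T a
        rw [← IsScalarTower.algebraMap_apply A A' B', IsScalarTower.algebraMap_apply A B B',
          IsScalarTower.algebraMap_apply A B T]
        exact (Algebra.TensorProduct.tmul_one_eq_one_tmul (algebraMap A B a)).symm }
  refine Groth.Agent.PrinParts.isPushout_of n A B A' B' ?_
    (Algebra.pushoutDesc B' f g fun _ _ => mul_comm _ _).toRingHom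
    (fun x => Algebra.pushoutDesc_right B' f g _ x) (fun b => Algebra.pushoutDesc_left B' f g _ b)
  intro U _ f' g' h1 h2
  letI := (f'.comp (algebraMap A B')).toAlgebra
  have hg : g'.comp (algebraMap A B') = algebraMap A U := RingHom.ext fun a => by
    change g' (algebraMap A B' a) = f' (algebraMap A B' a)
    rw [IsScalarTower.algebraMap_apply A B B', h2]
  let F : B' →ₐ[A] U := { f' with commutes' := fun _ => rfl }
  let G : B' →ₐ[A] U := { g' with commutes' := fun a => RingHom.congr_fun hg a }
  have : F = G := Algebra.IsPushout.algHom_ext (R := A) (S := B) (R' := A') B'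
    (AlgHom.ext h1) (AlgHom.ext h2)
  exact RingHom.ext fun x => AlgHom.congr_fun this x

end Groth.Agent.S3806
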