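import Groth.Statements.S3807
import Groth.Agent.PrinParts.Pushout
import Mathlib.RingTheory.Localization.BaseChange

set_option autoImplicit false
universe u
open scoped TensorProduct
attribute [local instance] PP16.mapAlgebra PP16.isScalarTower_mapAlgebra
open PP16

namespace Groth.Agent.S3807

noncomputable local instance (priority := high) commRingP (n : ℕ) (A B : Type u) [CommRing A] [CommRing B]
    [Algebra A B] : CommRing (PP16.P n A B) := Ideal.Quotient.commRing _


/-- Let B be an A-algebra, S a multiplicative subset of B and B' = S⁻¹B. Then the canonical map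
S⁻¹P^n_{B/A} → P^n_{B'/A} induced by functoriality is an isomorphism: P^n_{B'/A} is the localization
of P^n_{B/A} at the image of S. -/
theorem result (n : ℕ) (A B B' : Type u) [CommRing A] [CommRing B] [Algebra A B]
    [CommRing B'] [Algebra B B'] [Algebra A B'] [IsScalarTower A B B'] (S : Submonoid B) [IsLocalization S B'] :
    IsLocalization (S.map (algebraMap B (PP16.P n A B))) (PP16.P n A B') := by
  let T := PP16.P n A B ⊗[B] B'
  let f : B →ₐ[A] T :=
    (Algebra.TensorProduct.includeLeft : PP16.P n A B →ₐ[A] T).comp (PP16.dn n A B)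
  have hunit : ∀ y : S, IsUnit (f y) := by
    intro y
    have hiso : algebraMap B (PP16.P n A B) y ⊗ₜ[B] (1 : B') =
        (1 : PP16.P n A B) ⊗ₜ[B] algebraMap B B' y := Algebra.TensorProduct.tmul_one_eq_one_tmul _
    have h1 : IsUnit (algebraMap B (PP16.P n A B) y ⊗ₜ[B] (1 : B') : T) := by
      rw [hiso]
      exact (IsLocalization.map_units B' y).map (Algebra.TensorProduct.includeRight : B' →ₐ[B] T)
    have h2 : IsNilpotent (Algebra.TensorProduct.includeLeftRingHom
        (PP16.dn n A B y - algebraMap B (PP16.P n A B) y) : T) :=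
      (Groth.Agent.PrinParts.isNilpotent_of_mem n A B
        (Groth.Agent.PrinParts.dn_sub_mem n A B y)).map _
    have h3 := h2.isUnit_add_right_of_commute h1 (Commute.all _ _)
    convert h3 using 1
    change PP16.dn n A B y ⊗ₜ[B] (1 : B') =
      (PP16.dn n A B y - algebraMap B (PP16.P n A B) y) ⊗ₜ[B] (1 : B') + _
    rw [TensorProduct.sub_tmul, sub_add_cancel]
  let r : B' →+* T := IsLocalization.lift (M := S) (g := f.toRingHom) hunit
  have hrB : ∀ b : B, r (algebraMap B B' b) = PP16.dn n A B b ⊗ₜ[B] (1 : B') := fun b =>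
    IsLocalization.lift_eq hunit b
  have hrA : ∀ a : A, r (algebraMap A B' a) =
      (1 : PP16.P n A B) ⊗ₜ[B] algebraMap A B' a := fun a => by
    rw [IsScalarTower.algebraMap_apply A B B', hrB, AlgHom.commutes,
      IsScalarTower.algebraMap_apply A B (PP16.P n A B)]
    exact Algebra.TensorProduct.tmul_one_eq_one_tmul (algebraMap A B a)
  have h := Groth.Agent.PrinParts.isPushout_of n A B A B'
    (fun f' g' _ h2 => IsLocalization.ringHom_ext S (RingHom.ext h2)) r hrA hrB
  exact (Algebra.isLocalization_iff_isPushout S B' (T := PP16.P n A B)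
    (B := PP16.P n A B')).2 h

end Groth.Agent.S3807
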