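import Groth.Statements.S3808
import Groth.Agent.PrinParts.Basic

set_option autoImplicit false
universe u
open scoped TensorProduct
open PP16

namespace Groth.Agent.S3808

/-- Let A → B be a ring map, R a multiplicative subset of A, S one of B containing the image of R, and
A' = R⁻¹A, B' = S⁻¹B with the induced map A' → B'. Then the canonical map P^n_{B'/A} → P^n_{B'/A'}
is bijective. -/
theorem result (n : ℕ) (A B A' B' : Type u) [CommRing A] [CommRing B] [Algebra A B]
    [CommRing A'] [CommRing B'] [Algebra A A'] [Algebra B B'] [Algebra A' B'] [Algebra A B']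
    [IsScalarTower A A' B'] [IsScalarTower A B B'] (R : Submonoid A) (S : Submonoid B) [IsLocalization R A']
    [IsLocalization S B'] (hRS : ∀ r ∈ R, algebraMap A B r ∈ S) :
    Function.Bijective (PP16.map n A B' A' B') := by
  have hs : Function.Surjective (algebraMap B' B') := fun x => ⟨x, rfl⟩
  refine ⟨?_, Groth.Agent.PrinParts.map_surjective n A B' A' B' hs⟩
  let l : B' →ₐ[A'] PP16.P n A B' := IsScalarTower.toAlgHom A' B' _
  have hlin : (PP16.dn n A B').toRingHom.comp (algebraMap A' B') =
      algebraMap A' (PP16.P n A B') := by
    refine IsLocalization.ringHom_ext R (RingHom.ext fun a => ?_)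
    change PP16.dn n A B' (algebraMap A' B' (algebraMap A A' a)) =
      algebraMap A' (PP16.P n A B') (algebraMap A A' a)
    rw [← IsScalarTower.algebraMap_apply, AlgHom.commutes, IsScalarTower.algebraMap_apply A B' (PP16.P n A B'),
      IsScalarTower.algebraMap_apply A' B' (PP16.P n A B'), ← IsScalarTower.algebraMap_apply A A' B']
  let r : B' →ₐ[A'] PP16.P n A B' :=
    { (PP16.dn n A B').toRingHom with commutes' := fun x => RingHom.congr_fun hlin x }
  let ψ := Groth.Agent.PrinParts.desc (n := n) l r (PP16.augIdeal n A B')
    (Groth.Agent.PrinParts.augIdeal_pow n A B') (Groth.Agent.PrinParts.dn_sub_mem n A B')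
  have h : ψ.toRingHom.comp (PP16.map n A B' A' B').toRingHom = RingHom.id _ :=
    Groth.Agent.PrinParts.ringHom_ext
      (fun b => by
        change ψ (PP16.map n A B' A' B' (algebraMap B' _ b)) = algebraMap B' _ b
        rw [PP16.map_algebraMap]
        exact (Groth.Agent.PrinParts.desc_algebraMap l r _ _ _ _).trans rfl)
      (fun b => by
        change ψ (PP16.map n A B' A' B' (PP16.dn n A B' b)) = PP16.dn n A B' b
        rw [PP16.map_dn]
        exact (Groth.Agent.PrinParts.desc_dn l r _ _ _ _).trans rfl)
  exact Function.LeftInverse.injective (g := ψ) fun x => RingHom.congr_fun h x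

end Groth.Agent.S3808
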