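import Groth.Statements.S3809
import Groth.Agent.PrinParts.Basic

set_option autoImplicit false
universe u
open scoped TensorProduct
open PP16

namespace Groth.Agent.S3809

open Groth.Agent.PrinParts in
theorem ker_tensorMap_tower (A B C : Type u) [CommRing A] [CommRing B] [CommRing C]
    [Algebra A B] [Algebra B C] [Algebra A C] [IsScalarTower A B C] :
    RingHom.ker (tensorMap A C B C) = (KaehlerDifferential.ideal A B).map (tensorMap A B A C) := by
  set J := (KaehlerDifferential.ideal A B).map (tensorMap A B A C) with hJ
  refine le_antisymm ?_ ?_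
  · have key : ∀ b : B, Ideal.Quotient.mk J ((1 : C) ⊗ₜ[A] algebraMap B C b) =
        Ideal.Quotient.mk J (algebraMap B C b ⊗ₜ[A] (1 : C)) := fun b => by
      rw [Ideal.Quotient.eq]
      have := Ideal.mem_map_of_mem (tensorMap A B A C)
        (KaehlerDifferential.one_smul_sub_smul_one_mem_ideal A b)
      rwa [map_sub, tensorMap_tmul, tensorMap_tmul, map_one] at this
    let g₁ : C →ₐ[B] (C ⊗[A] C) ⧸ J :=
      (Ideal.Quotient.mkₐ B J).comp Algebra.TensorProduct.includeLeft
    let g₂ : C →ₐ[B] (C ⊗[A] C) ⧸ J :=
      { ((Ideal.Quotient.mk J).comp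
          (Algebra.TensorProduct.includeRight : C →ₐ[A] C ⊗[A] C).toRingHom) with
        commutes' := fun b => key b }
    let G := Algebra.TensorProduct.lift g₁ g₂ fun _ _ => Commute.all _ _
    have hG : ∀ x, G (tensorMap A C B C x) = Ideal.Quotient.mk J x := by
      intro x
      induction x using TensorProduct.induction_on with
      | zero => simp
      | tmul a b =>
        rw [tensorMap_tmul, Algebra.algebraMap_self, RingHom.id_apply, RingHom.id_apply,
          Algebra.TensorProduct.lift_tmul]
        change Ideal.Quotient.mk J (a ⊗ₜ[A] (1 : C)) * Ideal.Quotient.mk J ((1 : C) ⊗ₜ[A] b) = _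
        rw [← map_mul, Algebra.TensorProduct.tmul_mul_tmul, mul_one, one_mul]
      | add x y hx hy => rw [map_add, map_add, map_add, hx, hy]
    intro x hx
    rw [← Ideal.Quotient.eq_zero_iff_mem, ← hG, RingHom.mem_ker.1 hx, map_zero]
  · rw [hJ, Ideal.map_le_iff_le_comap]
    refine ideal_le A B fun b => ?_
    rw [Ideal.mem_comap, map_sub, tensorMap_tmul, tensorMap_tmul, map_one, RingHom.mem_ker, map_sub,
      tensorMap_tmul, tensorMap_tmul, Algebra.algebraMap_self, RingHom.id_apply, RingHom.id_apply,
      sub_eq_zero]
    simp [Algebra.TensorProduct.tmul_one_eq_one_tmul]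

/-- Let A → B → C be ring maps. Then the canonical map P^n_{C/A} → P^n_{C/B} is surjective, and its
kernel is the ideal generated by the image, under the canonical map P^n_{B/A} → P^n_{C/A}, of the
augmentation ideal of P^n_{B/A}. -/
theorem result (n : ℕ) (A B C : Type u) [CommRing A] [CommRing B] [CommRing C]
    [Algebra A B] [Algebra B C] [Algebra A C] [IsScalarTower A B C] :
    Function.Surjective (PP16.map n A C B C) ∧
      RingHom.ker (PP16.map n A C B C) = (PP16.augIdeal n A B).map (PP16.map n A B A C) := by
  have hs : Function.Surjective (algebraMap C C) := fun x => ⟨x, rfl⟩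
  refine ⟨Groth.Agent.PrinParts.map_surjective n A C B C hs, ?_⟩
  rw [Groth.Agent.PrinParts.ker_map n A C B C hs, ker_tensorMap_tower A B C]
  rw [PP16.augIdeal, ← Ideal.map_coe (tensorMap A B A C), Ideal.map_map,
    ← Ideal.map_coe (PP16.map n A B A C), Ideal.map_map]
  rfl

end Groth.Agent.S3809
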