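import Groth.Statements.S3813
import Groth.Agent.PrinParts.Basic
import Mathlib.LinearAlgebra.SymmetricAlgebra.Basic

set_option autoImplicit false
universe u
open scoped TensorProduct
open PP16

namespace Groth.Agent.S3813

/-- An element of the symmetric algebra is its augmentation modulo the ideal of `ι(E)`. -/
theorem sub_mem {A E : Type u} [CommRing A] [AddCommGroup E] [Module A E] (x : SymmetricAlgebra A E) :
    x - algebraMap A (SymmetricAlgebra A E) (SymmetricAlgebra.lift (0 : E →ₗ[A] A) x) ∈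
      Ideal.span (Set.range (SymmetricAlgebra.ι A E)) := by
  induction x using SymmetricAlgebra.induction with
  | algebraMap r => simp
  | ι t => simpa using Ideal.subset_span (Set.mem_range_self t)
  | mul a b ha hb =>
    rw [map_mul, map_mul,
      show a * b - algebraMap A (SymmetricAlgebra A E) (SymmetricAlgebra.lift (0 : E →ₗ[A] A) a) *
          algebraMap A (SymmetricAlgebra A E) (SymmetricAlgebra.lift (0 : E →ₗ[A] A) b) =
        (a - algebraMap A (SymmetricAlgebra A E) (SymmetricAlgebra.lift (0 : E →ₗ[A] A) a)) * b +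
        algebraMap A (SymmetricAlgebra A E) (SymmetricAlgebra.lift (0 : E →ₗ[A] A) a) *
          (b - algebraMap A (SymmetricAlgebra A E) (SymmetricAlgebra.lift (0 : E →ₗ[A] A) b)) by ring]
    exact add_mem (Ideal.mul_mem_right _ _ ha) (Ideal.mul_mem_left _ _ hb)
  | add a b ha hb => rw [map_add, map_add, add_sub_add_comm]; exact add_mem ha hb

theorem ker_eq {A E : Type u} [CommRing A] [AddCommGroup E] [Module A E] :
    RingHom.ker (SymmetricAlgebra.lift (0 : E →ₗ[A] A)) = Ideal.span (Set.range (SymmetricAlgebra.ι A E)) := by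
  refine le_antisymm (fun x hx => ?_) (Ideal.span_le.2 ?_)
  · have h := sub_mem x
    rw [RingHom.mem_ker] at hx
    rw [hx, map_zero, sub_zero] at h
    exact h
  · rintro _ ⟨t, rfl⟩
    rw [SetLike.mem_coe, RingHom.mem_ker, SymmetricAlgebra.lift_ι_apply]
    rfl

/-- The isomorphism, for an algebra `B` generated freely by `ι : E → B` and `K` the ideal of `ι(E)`. -/
theorem equiv_general {A : Type u} [CommRing A] {E : Type u} [AddCommGroup E] [Module A E] (n : ℕ)
    (B : Type u) [CommRing B] [Algebra A B] (ι : E →ₗ[A] B)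
    (hext : ∀ {T : Type u} [CommRing T] [Algebra A T] (f g : B →ₐ[A] T), (∀ t, f (ι t) = g (ι t)) → f = g)
    (hlift : ∀ {T : Type u} [CommRing T] [Algebra A T] (v : E →ₗ[A] T), ∃ f : B →ₐ[A] T, ∀ t, f (ι t) = v t)
    (K : Ideal B) (hK : K = Ideal.span (Set.range ι)) :
    ∃ e : PP16.P n A B ≃ₐ[B] (B ⊗[A] (B ⧸ K ^ (n + 1))),
      ∀ t : E, e (PP16.dn n A B (ι t)) = ι t ⊗ₜ 1 + 1 ⊗ₜ Ideal.Quotient.mk _ (ι t) := by
  let incr : B →ₐ[A] B ⊗[A] (B ⧸ K ^ (n + 1)) :=
    Algebra.TensorProduct.includeRight.comp (Ideal.Quotient.mkₐ A _)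
  let incl : B →ₐ[A] B ⊗[A] (B ⧸ K ^ (n + 1)) := Algebra.TensorProduct.includeLeft
  obtain ⟨r, hr⟩ := hlift (incl.toLinearMap ∘ₗ ι + incr.toLinearMap ∘ₗ ι)
  replace hr : ∀ t, r (ι t) = incl (ι t) + incr (ι t) := hr
  set N : Ideal (B ⊗[A] (B ⧸ K ^ (n + 1))) := K.map incr with hNdef
  have hN : N ^ (n + 1) = ⊥ := by
    rw [hNdef, ← Ideal.map_pow, eq_bot_iff, Ideal.map_le_iff_le_comap]
    intro x hx
    rw [Ideal.mem_comap, Ideal.mem_bot]
    show (1 : B) ⊗ₜ[A] Ideal.Quotient.mk _ x = 0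
    rw [Ideal.Quotient.eq_zero_iff_mem.2 hx, TensorProduct.tmul_zero]
  have hrl : ∀ b, r b - incl b ∈ N := fun b => by
    have h := hext (T := (B ⊗[A] (B ⧸ K ^ (n + 1))) ⧸ N) ((Ideal.Quotient.mkₐ A N).comp r)
        ((Ideal.Quotient.mkₐ A N).comp incl) fun t => by
      refine Ideal.Quotient.eq.2 ?_
      show r (ι t) - incl (ι t) ∈ N
      rw [hr, add_sub_cancel_left]
      exact Ideal.mem_map_of_mem incr (hK.ge (Ideal.subset_span (Set.mem_range_self t)))
    exact Ideal.Quotient.eq.1 (AlgHom.congr_fun h b)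
  obtain ⟨g₀, hg₀⟩ := hlift ((PP16.dn n A B).toLinearMap ∘ₗ ι -
    (IsScalarTower.toAlgHom A B (PP16.P n A B)).toLinearMap ∘ₗ ι)
  replace hg₀ : ∀ t, g₀ (ι t) = PP16.dn n A B (ι t) - algebraMap B (PP16.P n A B) (ι t) := hg₀
  have hg₀K : ∀ x ∈ K ^ (n + 1), g₀ x = 0 := fun x hx => by
    have hle : K.map g₀ ≤ PP16.augIdeal n A B := by
      rw [hK, Ideal.map_span, Ideal.span_le]
      rintro _ ⟨_, ⟨t, rfl⟩, rfl⟩
      rw [SetLike.mem_coe, hg₀]
      exact PrinParts.dn_sub_mem n A B _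
    have := Ideal.pow_right_mono hle (n + 1) (by rw [← Ideal.map_pow]; exact Ideal.mem_map_of_mem _ hx)
    rwa [PrinParts.augIdeal_pow, Ideal.mem_bot] at this
  let φ : PP16.P n A B →ₐ[A] B ⊗[A] (B ⧸ K ^ (n + 1)) := PrinParts.desc incl r N hN hrl
  let φB : PP16.P n A B →ₐ[B] B ⊗[A] (B ⧸ K ^ (n + 1)) :=
    { φ.toRingHom with commutes' := fun b => PrinParts.desc_algebraMap incl r N hN hrl b }
  let ψ : B ⊗[A] (B ⧸ K ^ (n + 1)) →ₐ[B] PP16.P n A B := Algebra.TensorProduct.lift (Algebra.ofId B _)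
    (Ideal.Quotient.liftₐ _ g₀ hg₀K) fun _ _ => Commute.all _ _
  have hψl : ∀ b, ψ (incl b) = algebraMap B (PP16.P n A B) b := fun b => by
    show ψ (b ⊗ₜ[A] (1 : B ⧸ K ^ (n + 1))) = _
    rw [Algebra.TensorProduct.lift_tmul, map_one, mul_one]
    rfl
  have hψr : ∀ b, ψ (incr b) = g₀ b := fun b => by
    show ψ ((1 : B) ⊗ₜ[A] Ideal.Quotient.mk _ b) = _
    rw [Algebra.TensorProduct.lift_tmul, map_one, one_mul]
    rfl
  have h1 : φB.comp ψ = AlgHom.id B _ := by
    refine Algebra.TensorProduct.ext' fun b q => ?_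
    obtain ⟨q, rfl⟩ := Ideal.Quotient.mk_surjective q
    have hq : φ (g₀ q) = incr q := by
      refine AlgHom.congr_fun (hext (φ.comp g₀) incr fun t => ?_) q
      show φ (g₀ (ι t)) = incr (ι t)
      rw [hg₀, map_sub, PrinParts.desc_dn, PrinParts.desc_algebraMap, hr, add_sub_cancel_left]
    have hbq : b ⊗ₜ[A] Ideal.Quotient.mk (K ^ (n + 1)) q = incl b * incr q := by
      show _ = (b ⊗ₜ[A] (1 : B ⧸ K ^ (n + 1))) * ((1 : B) ⊗ₜ[A] Ideal.Quotient.mk _ q)
      rw [Algebra.TensorProduct.tmul_mul_tmul, mul_one, one_mul]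
    show φ (ψ (b ⊗ₜ[A] Ideal.Quotient.mk (K ^ (n + 1)) q)) = b ⊗ₜ[A] Ideal.Quotient.mk (K ^ (n + 1)) q
    rw [hbq, map_mul, map_mul, hψl, hψr, hq, PrinParts.desc_algebraMap]
  have h2 : ψ.comp φB = AlgHom.id B _ := by
    refine AlgHom.ext fun x => RingHom.congr_fun (PrinParts.ringHom_ext
      (f := (ψ.comp φB).toRingHom) (g := RingHom.id (PP16.P n A B))
      (fun b => (ψ.comp φB).commutes b) (fun b => ?_)) x
    show ψ (φ (PP16.dn n A B b)) = PP16.dn n A B b
    rw [PrinParts.desc_dn]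
    refine AlgHom.congr_fun (hext ((ψ.restrictScalars A).comp r) (PP16.dn n A B) fun t => ?_) b
    show ψ (r (ι t)) = PP16.dn n A B (ι t)
    rw [hr, map_add, hψl, hψr, hg₀, add_sub_cancel]
  exact ⟨AlgEquiv.ofAlgHom φB ψ h1 h2, fun t => (PrinParts.desc_dn incl r N hN hrl _).trans (hr t)⟩

/-- Let E be an A-module, B = Sym_A(E) its symmetric algebra and K the augmentation ideal of B (the
kernel of the A-algebra map B → A killing E). For every n there is an isomorphism of B-algebras from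
P^n_{B/A} onto B ⊗_A (B/K^(n+1)) sending the principal part d^n t of an element t of E to t ⊗ 1 + 1
⊗ (class of t). -/
theorem result (n : ℕ) (A : Type u) [CommRing A] (E : Type u) [AddCommGroup E]
    [Module A E] :
    ∃ e : PP16.P n A (SymmetricAlgebra A E) ≃ₐ[SymmetricAlgebra A E]
        (SymmetricAlgebra A E ⊗[A] (SymmetricAlgebra A E ⧸
          RingHom.ker (SymmetricAlgebra.lift (0 : E →ₗ[A] A)) ^ (n + 1))),
      ∀ t : E, e (PP16.dn n A (SymmetricAlgebra A E) (SymmetricAlgebra.ι A E t)) =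
        SymmetricAlgebra.ι A E t ⊗ₜ 1 + 1 ⊗ₜ Ideal.Quotient.mk _ (SymmetricAlgebra.ι A E t) := by
  exact equiv_general n (SymmetricAlgebra A E) (SymmetricAlgebra.ι A E)
    (fun f g h => SymmetricAlgebra.algHom_ext (LinearMap.ext h))
    (fun v => ⟨SymmetricAlgebra.lift v, SymmetricAlgebra.lift_ι_apply v⟩) _ ker_eq

end Groth.Agent.S3813
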