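import Groth.Statements.S5002
import Groth.Agent.PrinParts.Basic
import Mathlib.RingTheory.IntegralClosure.IsIntegralClosure.Basic
import Mathlib.RingTheory.FiniteType
import Mathlib.RingTheory.FiniteStability
import Mathlib.RingTheory.TensorProduct.Basic

set_option autoImplicit false
universe u
open PP16

namespace Groth.Agent.S5002

/-- Suppose A is a commutative ring and B is a finite-type A-algebra. For each n, the ring of principal
parts of order n of B over A is then finitely generated as a B-module, where B acts via the first
factor. -/
theorem result (n : ℕ) (A B : Type u) [CommRing A] [CommRing B] [Algebra A B]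
    [Algebra.FiniteType A B] : Module.Finite B (PP16.P n A B) := by
  haveI : Algebra.FiniteType B (PP16.P n A B) :=
    (inferInstance : Algebra.FiniteType B (TensorProduct A B B)).of_surjective
      (Ideal.Quotient.mkₐ B _) (Ideal.Quotient.mkₐ_surjective B _)
  haveI : Algebra.IsIntegral B (PP16.P n A B) := ⟨fun x => by
    have hn := Groth.Agent.PrinParts.isNilpotent_of_mem n A B
      (Groth.Agent.PrinParts.sub_aug_mem n A B x)
    obtain ⟨k, hk⟩ := hn
    have h := IsIntegral.add (⟨Polynomial.X ^ k, Polynomial.monic_X_pow k, by simp [hk]⟩ :
      IsIntegral B (x - algebraMap B (PP16.P n A B) (Groth.Agent.PrinParts.aug n A B x)))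
      (isIntegral_algebraMap (R := B) (A := PP16.P n A B) (x := Groth.Agent.PrinParts.aug n A B x))
    rwa [sub_add_cancel] at h⟩
  exact Algebra.IsIntegral.finite

end Groth.Agent.S5002
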