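import Groth.Statements.S3815
import Groth.Agent.PrinParts.Basic
import Groth.Agent.DiffOps.Basic

set_option autoImplicit false
universe u
open scoped TensorProduct
open scoped BigOperators
open PP16

namespace Groth.Agent.S3815

open Diff16 PP16 Groth.Agent.PrinParts

variable (n : ℕ) (A B : Type u) [CommRing A] [CommRing B] [Algebra A B]
  (M N : Type u) [AddCommGroup M] [Module A M] [Module B M] [IsScalarTower A B M]
  [AddCommGroup N] [Module A N] [Module B N] [IsScalarTower A B N]

/-- `c ↦ D (c • m)` -/
noncomputable def atElt (D : M →ₗ[A] N) (m : M) : B →ₗ[A] N :=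
  D ∘ₗ ((LinearMap.toSpanSingleton B M m).restrictScalars A)

theorem atElt_apply (D : M →ₗ[A] N) (m : M) (c : B) : atElt A B M N D m c = D (c • m) := rfl

theorem diff_iff_atElt : ∀ (n : ℕ) (D : M →ₗ[A] N),
    IsDiffOpLE A B M N n D ↔ ∀ m, IsDiffOpLE A B B N n (atElt A B M N D m) := by
  intro n
  induction n with
  | zero =>
    intro D
    refine ⟨fun h m b c => ?_, fun h b m => ?_⟩
    · rw [atElt_apply, atElt_apply, smul_eq_mul, mul_smul, h b]
    · simpa [atElt_apply] using h m b 1
  | succ n ih =>
    intro D
    have he : ∀ b m, commutator A B B N (atElt A B M N D m) b =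
        atElt A B M N (commutator A B M N D b) m := fun b m => by
      ext c
      simp [atElt_apply, mul_smul]
    exact ⟨fun h m b => he b m ▸ (ih _).1 (h b) m, fun h b => (ih _).2 fun m => he b m ▸ h m b⟩

theorem diff_iff_vanish (D : M →ₗ[A] N) :
    IsDiffOpLE A B M N n D ↔ ∀ m, ∀ x ∈ KaehlerDifferential.ideal A B ^ (n + 1),
      linearize A B B N (atElt A B M N D m) x = 0 := by
  rw [diff_iff_atElt]
  exact forall_congr' fun m => Groth.Agent.DiffOps.diff_iff_linearize n _

/-- `P → Pr`, the identity. -/
abbrev toPr (p : P n A B) : Pr n A B := p

theorem algebraMap_smul_tmul (b : B) (p : P n A B) (m : M) :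
    algebraMap B (P n A B) b • (toPr n A B p ⊗ₜ[B] m : PM n A B M) =
      toPr n A B (algebraMap B (P n A B) b * p) ⊗ₜ[B] m := rfl

theorem dn_mul_tmul (c : B) (p : P n A B) (m : M) :
    (toPr n A B (dn n A B c * p) ⊗ₜ[B] m : PM n A B M) = toPr n A B p ⊗ₜ[B] (c • m) := by
  rw [← TensorProduct.smul_tmul, Algebra.smul_def]
  rfl

/-- Let B be an A-algebra, M and N two B-modules and D : M → N an A-linear map. Let P^n(M) = P^n_{B/A}
⊗_B M, the tensor product formed with the B-module structure of P^n_{B/A} through d^n, regarded as a
B-module through the first factor of P^n_{B/A}, with d^n_M : M → P^n(M), m ↦ 1 ⊗ m. Then D is a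
differential operator of order at most n relative to A (order defined through iterated commutators
with multiplication by elements of B) if and only if there is exactly one additive map u : P^n(M) →
N which is B-linear for the first-factor structure and satisfies u(1 ⊗ m) = D(m) for all m ∈ M. -/
theorem result (n : ℕ) (A B : Type u) [CommRing A] [CommRing B] [Algebra A B]
    (M N : Type u) [AddCommGroup M] [Module A M] [Module B M] [IsScalarTower A B M]
    [AddCommGroup N] [Module A N] [Module B N] [IsScalarTower A B N] (D : M →ₗ[A] N) :
    Diff16.IsDiffOpLE A B M N n D ↔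
      ∃! u : PP16.PM n A B M →+ N,
        (∀ (b : B) (t : PP16.PM n A B M), u (algebraMap B (PP16.P n A B) b • t) = b • u t) ∧
          ∀ m : M, u (PP16.dM n A B M m) = D m := by
  constructor
  · intro hD
    have hv := (diff_iff_vanish n A B M N D).1 hD
    let L : TensorProduct A B B →+ (M →+ N) :=
      { toFun := fun x =>
          { toFun := fun m => Diff16.linearize A B B N (atElt A B M N D m) x
            map_zero' := by
              induction x using TensorProduct.induction_on with
              | zero => simp
              | tmul a b => simp [atElt_apply]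
              | add x y hx hy => rw [map_add, hx, hy, add_zero]
            map_add' := fun m m' => by
              induction x using TensorProduct.induction_on with
              | zero => simp
              | tmul a b => simp [atElt_apply]
              | add x y hx hy => simp only [map_add, hx, hy]; abel }
        map_zero' := by ext m; simp
        map_add' := fun x y => by ext m; simp }
    have hL : ∀ x m, L x m = Diff16.linearize A B B N (atElt A B M N D m) x := fun _ _ => rfl
    have hker : (Ideal.Quotient.mk (KaehlerDifferential.ideal A B ^ (n + 1))).toAddMonoidHom.ker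
        ≤ L.ker := fun x hx => by
      ext m
      rw [hL]
      exact hv m x (Ideal.Quotient.eq_zero_iff_mem.1 hx)
    let F : PP16.P n A B →+ (M →+ N) :=
      AddMonoidHom.liftOfSurjective
        (Ideal.Quotient.mk (KaehlerDifferential.ideal A B ^ (n + 1))).toAddMonoidHom
        Ideal.Quotient.mk_surjective ⟨L, hker⟩
    have hF : ∀ x m, F (Ideal.Quotient.mk _ x) m =
        Diff16.linearize A B B N (atElt A B M N D m) x := fun x m =>
      DFunLike.congr_fun (AddMonoidHom.liftOfRightInverse_comp_apply _ _ _ ⟨L, hker⟩ x) m
    have hbal : ∀ (c : B) (p : PP16.P n A B) (m : M),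
        F (PP16.dn n A B c * p) m = F p (c • m) := by
      intro c p m
      obtain ⟨x, rfl⟩ := Ideal.Quotient.mk_surjective p
      change F (Ideal.Quotient.mk _ ((1 : B) ⊗ₜ[A] c) * Ideal.Quotient.mk _ x) m = _
      rw [← map_mul, hF, hF]
      induction x using TensorProduct.induction_on with
      | zero => simp
      | tmul a b => simp [atElt_apply, ← mul_smul, mul_comm]
      | add x y hx hy => rw [mul_add, map_add, map_add, hx, hy]
    have hlin : ∀ (b : B) (p : PP16.P n A B) (m : M),
        F (algebraMap B (PP16.P n A B) b * p) m = b • F p m := by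
      intro b p m
      obtain ⟨x, rfl⟩ := Ideal.Quotient.mk_surjective p
      change F (Ideal.Quotient.mk _ (b ⊗ₜ[A] (1 : B)) * Ideal.Quotient.mk _ x) m = _
      rw [← map_mul, hF, hF]
      induction x using TensorProduct.induction_on with
      | zero => simp
      | tmul a c => simp [atElt_apply, mul_smul]
      | add x y hx hy => rw [mul_add, map_add, map_add, hx, hy, smul_add]
    let u : PP16.PM n A B M →+ N :=
      TensorProduct.liftAddHom (R := B) (M := PP16.Pr n A B) (N := M) F fun c p m => by
        rw [Algebra.smul_def]
        exact hbal c p m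
    refine ⟨u, ⟨fun b t => ?_, fun m => ?_⟩, ?_⟩
    · induction t using TensorProduct.induction_on with
      | zero => simp
      | tmul p m =>
        refine (congrArg u (algebraMap_smul_tmul n A B M b p m)).trans ?_
        exact hlin b p m
      | add x y hx hy => rw [smul_add, map_add, map_add, smul_add, hx, hy]
    · change F (Ideal.Quotient.mk _ (1 : TensorProduct A B B)) m = D m
      rw [hF, Algebra.TensorProduct.one_def]
      simp [atElt_apply]
    · rintro v ⟨hv1, hv2⟩
      ext t
      induction t using TensorProduct.induction_on with
      | zero => simp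
      | tmul p m =>
        change v (toPr n A B p ⊗ₜ[B] m) = F p m
        induction p using Groth.Agent.PrinParts.induction_on n A B with
        | mul a c =>
          rw [← algebraMap_smul_tmul n A B M, hv1, ← mul_one (PP16.dn n A B c), dn_mul_tmul n A B M,
            hlin, hbal]
          congr 1
          refine (hv2 _).trans ?_
          change _ = F (Ideal.Quotient.mk _ (1 : TensorProduct A B B)) (c • m)
          rw [hF, Algebra.TensorProduct.one_def]
          simp [atElt_apply]
        | add x y hx hy =>
          rw [map_add, AddMonoidHom.add_apply, ← hx, ← hy, ← map_add]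
          exact congrArg v (TensorProduct.add_tmul (R := B) (toPr n A B x) (toPr n A B y) m)
      | add x y hx hy => rw [map_add, map_add, hx, hy]
  · rintro ⟨u, ⟨hu1, hu2⟩, -⟩
    refine (diff_iff_vanish n A B M N D).2 fun m x hx => ?_
    have key : ∀ z, u (toPr n A B (Ideal.Quotient.mk _ z) ⊗ₜ[B] m) =
        Diff16.linearize A B B N (atElt A B M N D m) z := by
      intro z
      induction z using TensorProduct.induction_on with
      | zero =>
        rw [map_zero, map_zero]
        exact (congrArg u (TensorProduct.zero_tmul _ m)).trans (map_zero u)
      | tmul a c =>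
        rw [Groth.Agent.PrinParts.mk_tmul, ← algebraMap_smul_tmul n A B M, hu1,
          ← mul_one (PP16.dn n A B c), dn_mul_tmul n A B M, Groth.Agent.DiffOps.linearize_tmul]
        exact congrArg (a • ·) (hu2 _)
      | add z w hz hw =>
        rw [map_add (Diff16.linearize A B B N _), ← hz, ← hw]
        exact ((congrArg (fun q => u (toPr n A B q ⊗ₜ[B] m)) (map_add _ z w)).trans
          (congrArg u (TensorProduct.add_tmul (R := B) (toPr n A B (Ideal.Quotient.mk _ z))
            (toPr n A B (Ideal.Quotient.mk _ w)) m))).trans (map_add u _ _)
    rw [← key, Ideal.Quotient.eq_zero_iff_mem.2 hx]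
    exact (congrArg u (TensorProduct.zero_tmul _ m)).trans (map_zero u)

end Groth.Agent.S3815
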