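import Groth.Statements.S3823
import Mathlib
import Groth.Agent.QRegIdeal.Main
import Groth.Agent.PrinParts.Sym

set_option linter.style.haveILetI false

set_option autoImplicit false
universe u
open scoped TensorProduct
open PP16

namespace Groth.Agent.S3823

open TensorProduct
open Groth.Agent.PrinParts Groth.Agent.EGA41SymGr

section

variable (A B : Type u) [CommRing A] [CommRing B] [Algebra A B]

local notation "𝐈" => KaehlerDifferential.ideal A B

/-- Differentials as the conormal module of the diagonal. -/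
def toCot : KaehlerDifferential A B ≃+ (KaehlerDifferential.ideal A B).Cotangent where
  toFun w := w
  invFun w := w
  left_inv _ := rfl
  right_inv _ := rfl
  map_add' _ _ := rfl

theorem toCot_fromIdeal (x : 𝐈) : toCot A B (KaehlerDifferential.fromIdeal A B x) = (𝐈).toCotangent x := rfl

theorem toCot_smul (s : B ⊗[A] B) (w : KaehlerDifferential A B) : toCot A B (s • w) = s • toCot A B w := rfl

theorem toCot_smul' (c : B) (w : KaehlerDifferential A B) :
    toCot A B (c • w) = algebraMap B (B ⊗[A] B) c • toCot A B w := by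
  rw [← toCot_smul, algebraMap_smul]

theorem smul_eq_lmul_smul (s : B ⊗[A] B) (w : KaehlerDifferential A B) :
    s • w = (Algebra.TensorProduct.lmul' A (S := B) s) • w := by
  rw [← algebraMap_smul (B ⊗[A] B) (Algebra.TensorProduct.lmul' A (S := B) s) w, ← sub_eq_zero, ← sub_smul]
  obtain ⟨x, rfl⟩ := KaehlerDifferential.fromIdeal_surjective A B w
  rw [← map_smul]
  refine (Ideal.toCotangent_eq_zero _ _).2 ?_
  rw [sq, Submodule.coe_smul, smul_eq_mul]
  refine Ideal.mul_mem_mul ?_ x.2
  rw [RingHom.mem_ker, map_sub, Algebra.TensorProduct.algebraMap_apply]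
  simp

theorem projective_iff :
    Module.Projective ((B ⊗[A] B) ⧸ 𝐈) (𝐈).Cotangent ↔ Module.Projective B (KaehlerDifferential A B) := by
  let φ : ((B ⊗[A] B) ⧸ 𝐈) ≃+* B := RingHom.quotientKerEquivOfSurjective
    (f := (Algebra.TensorProduct.lmul' A (S := B)).toRingHom) (fun b => ⟨b ⊗ₜ 1, by simp⟩)
  haveI := RingHomInvPair.of_ringEquiv φ
  haveI := RingHomInvPair.symm (φ : ((B ⊗[A] B) ⧸ 𝐈) →+* B) (φ.symm : B →+* ((B ⊗[A] B) ⧸ 𝐈))
  let e : (𝐈).Cotangent ≃ₛₗ[(φ : ((B ⊗[A] B) ⧸ 𝐈) →+* B)] KaehlerDifferential A B :=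
    { (toCot A B).symm with
      map_smul' := fun s c => by
        obtain ⟨s, rfl⟩ := Ideal.Quotient.mk_surjective s
        show s • (toCot A B).symm c = _
        rw [smul_eq_lmul_smul]
        rfl }
  exact ⟨fun h => Module.Projective.of_equiv e, fun h => Module.Projective.of_equiv e.symm⟩

variable {ι : Type u} [Fintype ι]

/-- Symmetric powers over `B` to symmetric powers over `B ⊗ B`, with the comparison of the canonical maps. -/
theorem exists_compare [Nonempty ι] : ∃ (Θ : SymmetricPower B ι (KaehlerDifferential A B) →+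
      SymmetricPower (B ⊗[A] B) ι (𝐈).Cotangent),
    Function.Bijective Θ ∧ ∀ z, Sym.phi A B z = 0 ↔ phiJ (𝐈) (Θ z) = 0 := by
  letI : Module B (SymmetricPower (B ⊗[A] B) ι (𝐈).Cotangent) := Module.compHom _ (algebraMap B (B ⊗[A] B))
  letI : Module (B ⊗[A] B) (SymmetricPower B ι (KaehlerDifferential A B)) :=
    Module.compHom _ (Algebra.TensorProduct.lmul' A (S := B)).toRingHom
  let f : MultilinearMap B (fun _ : ι => KaehlerDifferential A B) (SymmetricPower (B ⊗[A] B) ι (𝐈).Cotangent) :=
    { toFun := fun v => SymmetricPower.tprod (B ⊗[A] B) fun i => toCot A B (v i)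
      map_update_add' := fun {dec} v i p q => by
        simp only [Function.apply_update (fun _ => toCot A B), map_add]
        exact MultilinearMap.map_update_add _ _ _ _ _
      map_update_smul' := fun {dec} v i c p => by
        simp only [Function.apply_update (fun _ => toCot A B), toCot_smul']
        exact MultilinearMap.map_update_smul _ _ _ _ _ }
  let Θ : SymmetricPower B ι (KaehlerDifferential A B) →ₗ[B] SymmetricPower (B ⊗[A] B) ι (𝐈).Cotangent :=
    Sym.symLift f fun e v => (SymmetricPower.tprod_equiv e fun i => toCot A B (v i))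
  let g : MultilinearMap (B ⊗[A] B) (fun _ : ι => (𝐈).Cotangent) (SymmetricPower B ι (KaehlerDifferential A B)) :=
    { toFun := fun v => SymmetricPower.tprod B fun i => (toCot A B).symm (v i)
      map_update_add' := fun {dec} v i p q => by
        simp only [Function.apply_update (fun _ => (toCot A B).symm), map_add]
        exact MultilinearMap.map_update_add _ _ _ _ _
      map_update_smul' := fun {dec} v i c p => by
        have hc : (toCot A B).symm (c • p) = (Algebra.TensorProduct.lmul' A (S := B) c) • (toCot A B).symm p :=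
          smul_eq_lmul_smul A B c p
        simp only [Function.apply_update (fun _ => (toCot A B).symm), hc]
        exact MultilinearMap.map_update_smul _ _ _ _ _ }
  let Θ' : SymmetricPower (B ⊗[A] B) ι (𝐈).Cotangent →ₗ[B ⊗[A] B] SymmetricPower B ι (KaehlerDifferential A B) :=
    Sym.symLift g fun e v => (SymmetricPower.tprod_equiv e fun i => (toCot A B).symm (v i))
  have hΘ : ∀ v, Θ (SymmetricPower.tprod B v) = SymmetricPower.tprod (B ⊗[A] B) fun i => toCot A B (v i) :=
    fun v => Sym.symLift_tprod _ _ v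
  have hΘ' : ∀ v, Θ' (SymmetricPower.tprod (B ⊗[A] B) v) = SymmetricPower.tprod B fun i => (toCot A B).symm (v i) :=
    fun v => Sym.symLift_tprod _ _ v
  refine ⟨Θ.toAddMonoidHom, Function.bijective_iff_has_inverse.2 ⟨Θ', fun z => ?_, fun z => ?_⟩, fun z => ?_⟩
  · show Θ' (Θ z) = z
    have hz : z ∈ Submodule.span B (Set.range (SymmetricPower.tprod B)) := by
      rw [SymmetricPower.span_tprod_eq_top]; trivial
    induction hz using Submodule.span_induction with
    | mem x hx => obtain ⟨v, rfl⟩ := hx; rw [hΘ, hΘ']; simp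
    | zero => simp
    | add a b _ _ ha hb => rw [map_add, map_add, ha, hb]
    | smul c a _ ha =>
      rw [map_smul, show c • Θ a = algebraMap B (B ⊗[A] B) c • Θ a from rfl, map_smul, ha]
      show (Algebra.TensorProduct.lmul' A (S := B) (algebraMap B (B ⊗[A] B) c)) • a = c • a
      simp [Algebra.TensorProduct.algebraMap_apply]
  · show Θ (Θ' z) = z
    have hz : z ∈ Submodule.span (B ⊗[A] B) (Set.range (SymmetricPower.tprod (B ⊗[A] B))) := by
      rw [SymmetricPower.span_tprod_eq_top]; trivial
    induction hz using Submodule.span_induction with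
    | mem x hx => obtain ⟨v, rfl⟩ := hx; rw [hΘ', hΘ]; simp
    | zero => simp
    | add a b _ _ ha hb => rw [map_add, map_add, ha, hb]
    | smul c a ha' ha =>
      rw [map_smul, show c • Θ' a = (Algebra.TensorProduct.lmul' A (S := B) c) • Θ' a from rfl, map_smul, ha]
      show algebraMap B (B ⊗[A] B) (Algebra.TensorProduct.lmul' A (S := B) c) • a = c • a
      have hz : a ∈ Submodule.span (B ⊗[A] B) (Set.range (SymmetricPower.tprod (B ⊗[A] B))) := by
        rw [SymmetricPower.span_tprod_eq_top]; trivial
      clear ha ha'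
      induction hz using Submodule.span_induction with
      | mem x hx =>
        classical
        obtain ⟨v, rfl⟩ := hx
        obtain ⟨i⟩ := ‹Nonempty ι›
        have hc : algebraMap B (B ⊗[A] B) (Algebra.TensorProduct.lmul' A (S := B) c) • v i = c • v i := by
          apply (toCot A B).symm.injective
          show algebraMap B (B ⊗[A] B) (Algebra.TensorProduct.lmul' A (S := B) c) • (toCot A B).symm (v i) =
            c • (toCot A B).symm (v i)
          rw [algebraMap_smul, ← smul_eq_lmul_smul]
        rw [← Function.update_eq_self i v, ← MultilinearMap.map_update_smul, ← MultilinearMap.map_update_smul,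
          hc]
      | zero => simp
      | add a b _ _ ha hb => rw [smul_add, smul_add, ha, hb]
      | smul d a _ ha => rw [smul_comm _ d a, smul_comm c d a, ha]
  · have key : ∃ (x : B ⊗[A] B) (hx : x ∈ (𝐈) ^ Fintype.card ι), Sym.phi A B z = Sym.cls A B _ x hx ∧
        phiJ (𝐈) (Θ z) = Submodule.Quotient.mk ⟨x, hx⟩ := by
      have hz : z ∈ Submodule.span B (Set.range (SymmetricPower.tprod B)) := by
        rw [SymmetricPower.span_tprod_eq_top]; trivial
      induction hz using Submodule.span_induction with
      | mem w hw =>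
        obtain ⟨v, rfl⟩ := hw
        refine ⟨∏ i, (Sym.lift1 A B (v i) : B ⊗[A] B), by
          simpa using PP16.prod_mem_pow (𝐈) Finset.univ (fun i => (Sym.lift1 A B (v i) : B ⊗[A] B))
            fun i _ => (Sym.lift1 A B (v i)).2, Sym.symLift_tprod _ _ v, ?_⟩
        rw [hΘ]
        exact (Sym.symLift_tprod _ _ _).trans (prodClass_eq (𝐈) _ (fun i => Sym.lift1 A B (v i))
          fun i => (toCot_fromIdeal A B _).symm.trans (congrArg (toCot A B) (Sym.fromIdeal_lift1 A B _)))
      | zero => exact ⟨0, zero_mem _, by rw [map_zero]; rfl, by rw [map_zero, map_zero]; rfl⟩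
      | add a b _ _ ha hb =>
        obtain ⟨x, hx, h1, h2⟩ := ha
        obtain ⟨y, hy, h3, h4⟩ := hb
        exact ⟨x + y, add_mem hx hy, by rw [map_add, h1, h3, Sym.cls_add], by rw [map_add, map_add, h2, h4]; rfl⟩
      | smul c a _ ha =>
        obtain ⟨x, hx, h1, h2⟩ := ha
        refine ⟨algebraMap B (B ⊗[A] B) c * x, Ideal.mul_mem_left _ _ hx, by rw [map_smul, h1, Sym.cls_smul], ?_⟩
        rw [map_smul, show c • Θ a = algebraMap B (B ⊗[A] B) c • Θ a from rfl, map_smul, h2]
        rfl
    obtain ⟨x, hx, h1, h2⟩ := key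
    rw [h1]
    show _ ↔ phiJ (𝐈) (Θ z) = 0
    rw [h2, Submodule.Quotient.mk_eq_zero]
    exact Submodule.Quotient.mk_eq_zero _

theorem bijective_phi_of_isEmpty [IsEmpty ι] : Function.Bijective (Sym.phi A B (ι := ι)) := by
  refine ⟨(injective_iff_map_eq_zero _).2 fun z hz => ?_, Sym.phi_surjective A B⟩
  have hz' : z ∈ Submodule.span B (Set.range (SymmetricPower.tprod B)) := by
    rw [SymmetricPower.span_tprod_eq_top]; trivial
  rw [show Set.range (SymmetricPower.tprod B (ι := ι) (M := KaehlerDifferential A B)) =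
    {SymmetricPower.tprod B isEmptyElim} by
      ext w; exact ⟨fun ⟨v, hv⟩ => by rw [← hv, Subsingleton.elim v isEmptyElim]; rfl, fun h => ⟨_, h.symm⟩⟩,
    Submodule.mem_span_singleton] at hz'
  obtain ⟨c, rfl⟩ := hz'
  rw [map_smul, show Sym.phi A B (SymmetricPower.tprod B (isEmptyElim : ι → KaehlerDifferential A B)) =
      Sym.prodCls A B isEmptyElim from Sym.symLift_tprod _ _ _, Sym.prodCls, Sym.cls_smul] at hz
  have h1' := (Submodule.Quotient.mk_eq_zero _).1 hz
  have h1 : algebraMap B (B ⊗[A] B) c * ∏ i : ι, (Sym.lift1 A B (isEmptyElim i) : B ⊗[A] B) ∈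
      (𝐈) ^ (Fintype.card ι + 1) := h1'
  rw [Finset.univ_eq_empty, Finset.prod_empty, mul_one] at h1
  have h2 : Algebra.TensorProduct.lmul' A (S := B) (algebraMap B (B ⊗[A] B) c) = 0 := by
    have : algebraMap B (B ⊗[A] B) c ∈ 𝐈 := Ideal.pow_le_self (by omega) h1
    exact this
  rw [show c = 0 by simpa [Algebra.TensorProduct.algebraMap_apply] using h2, zero_smul]

theorem symGr_iff : PP16.SymGrBijective (B ⊗[A] B) (𝐈) ↔
    ∀ (ι : Type u) [Fintype ι], Function.Bijective (Sym.phi A B (ι := ι)) := by
  refine ⟨fun h ι _ => ?_, fun h ι _ _ => ⟨phiJ (𝐈), phiJ_tprod (𝐈), ?_, phiJ_surjective (𝐈)⟩⟩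
  · rcases isEmpty_or_nonempty ι with hι | hι
    · exact bijective_phi_of_isEmpty A B
    obtain ⟨φ, hφ, hbij⟩ := h ι
    rw [eq_phiJ (𝐈) hφ] at hbij
    obtain ⟨Θ, hΘ, hiff⟩ := exists_compare A B (ι := ι)
    refine ⟨(injective_iff_map_eq_zero _).2 fun z hz => ?_, Sym.phi_surjective A B⟩
    refine hΘ.1 ?_
    rw [map_zero]
    exact hbij.1 (((hiff z).1 hz).trans (map_zero _).symm)
  · obtain ⟨Θ, hΘ, hiff⟩ := exists_compare A B (ι := ι)
    refine (injective_iff_map_eq_zero _).2 fun y hy => ?_
    obtain ⟨z, rfl⟩ := hΘ.2 y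
    rw [(h ι).1 (((hiff z).2 hy).trans (map_zero _).symm), map_zero]

end


/-- Let B be an A-algebra of finite type. Then B is differentially smooth over A if and only if the
diagonal immersion is quasi-regular, that is, the kernel I of B ⊗_A B → B is a quasi-regular ideal:
every prime of B ⊗_A B containing I has a basic open neighbourhood on which I is generated by a
quasi-regular sequence. -/
theorem result (A B : Type u) [CommRing A] [CommRing B] [Algebra A B]
    [Algebra.FiniteType A B] :
    PP16.IsDiffSmooth A B ↔ PP16.IsLocallyQuasiRegular (B ⊗[A] B) (KaehlerDifferential.ideal A B) := by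
  rw [Groth.Agent.QRegIdeal.isLocallyQuasiRegular_iff, Sym.isDiffSmooth_iff, projective_iff A B, symGr_iff A B]
  exact ⟨fun h => ⟨KaehlerDifferential.ideal_fg A B, h⟩, fun h => h.2⟩

end Groth.Agent.S3823
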