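import Groth.Statements.S3830
import Mathlib
import Groth.Agent.Unram.SpecQF
import Groth.Agent.LocalDimBC.Smooth
import Groth.Agent.SpQS.QFAt
-- import your own Groth.Agent.* helpers here

set_option autoImplicit false
universe u
open Unram17

namespace Groth.Agent.S3830

/-- b) implies a) (affine pointwise form): let B be an A-algebra of finite presentation and q a prime of
B. If B is smooth over A at q and quasi-finite over A at q, then B is étale over A at q. -/
theorem result (A B : Type u) [CommRing A] [CommRing B] [Algebra A B]
    [Algebra.FinitePresentation A B] (q : Ideal B) [q.IsPrime] [Algebra.QuasiFiniteAt A q]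
    (h : Algebra.IsSmoothAt A q) : Algebra.IsEtaleAt A q := by
  open AlgebraicGeometry CategoryTheory in
    haveI := h
    obtain ⟨g, hg, hstd⟩ := Algebra.IsSmoothAt.exists_notMem_isStandardSmooth A q
    obtain ⟨ι, σ, _, _, ⟨P⟩⟩ := hstd
    haveI hrel : Algebra.IsStandardSmoothOfRelativeDimension P.dimension A (Localization.Away g) :=
      P.isStandardSmoothOfRelativeDimension rfl
    have hd : Disjoint (Submonoid.powers g : Set B) (q : Set B) := by
      rwa [Ideal.disjoint_powers_iff_notMem_of_isPrime]
    let q' := q.map (algebraMap B (Localization.Away g))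
    haveI : q'.IsPrime := IsLocalization.isPrime_of_isPrime_disjoint (Submonoid.powers g) _ q inferInstance hd
    have hq' : q'.comap (algebraMap B (Localization.Away g)) = q :=
      IsLocalization.comap_map_of_isPrime_disjoint (Submonoid.powers g) _ inferInstance hd
    haveI : q'.LiesOver q := ⟨hq'.symm⟩
    haveI : Algebra.QuasiFiniteAt A q' := Algebra.QuasiFiniteAt.of_surjectiveOnStalks_of_liesOver q
      (RingHom.surjectiveOnStalks_of_isLocalization (Submonoid.powers g) (Localization.Away g)) q'
    let f := Spec.map (CommRingCat.ofHom (algebraMap A (Localization.Away g)))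
    haveI : Algebra.FiniteType A (Localization.Away g) := inferInstance
    haveI : LocallyOfFiniteType f :=
      (HasRingHomProperty.Spec_iff (P := @LocallyOfFiniteType)).mpr (RingHom.finiteType_algebraMap.mpr inferInstance)
    let x : PrimeSpectrum (Localization.Away g) := ⟨q', inferInstance⟩
    have hqf : f.QuasiFiniteAt x := Unram.quasiFiniteAt_specMap (CommRingCat.ofHom (algebraMap A (Localization.Away g))) x (by
      show RingHom.QuasiFiniteAt (algebraMap A (Localization.Away g)) q'
      rw [RingHom.QuasiFiniteAt]
      convert! (inferInstance : Algebra.QuasiFiniteAt A q')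
      exact Algebra.algebra_ext _ _ fun _ => rfl)
    have h0 : ((P.dimension : ℕ) : WithBot ℕ∞) = (0 : ℕ) := by
      rw [← LocalDimBC.fibreDimAt_Spec_of_isStandardSmooth P.dimension (R := A) (A := Localization.Away g) x, Nat.cast_zero]
      exact (SpQS.fibreDimAt_eq_zero_iff f x).2 hqf
    have h0' : P.dimension = 0 := by exact_mod_cast h0
    haveI : Algebra.IsStandardSmoothOfRelativeDimension 0 A (Localization.Away g) := h0' ▸ hrel
    haveI : Algebra.Etale A (Localization.Away g) := Algebra.Etale.iff_isStandardSmoothOfRelativeDimension_zero.mpr inferInstance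
    have hsub := (Algebra.basicOpen_subset_etaleLocus_iff_etale (R := A) (f := g)).2 inferInstance
    exact hsub (show (⟨q, inferInstance⟩ : PrimeSpectrum B) ∈ PrimeSpectrum.basicOpen g from hg)

end Groth.Agent.S3830
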