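import Groth.Statements.S3833


set_option autoImplicit false
set_option linter.style.haveILetI false
set_option backward.isDefEq.respectTransparency false
universe u
open CategoryTheory CategoryTheory.Limits AlgebraicGeometry TopologicalSpace
open Rat20

namespace Groth.Agent.S3833

/-- Stated for a global section, the case of a section over an open subset U being the same statement
for the open subscheme U: let X be a scheme and s a global section of O_X which is regular in the
sense that its germ at every point x is a non-zero-divisor of the local ring O_{X,x} (on an affine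
scheme this is the same as being a non-zero-divisor of Γ(X, O_X), but not in general). Then the open
subset X_s where s is invertible is schematically dense in X. -/
theorem result (X : Scheme.{u}) (s : Γ(X, ⊤))
    (hs : ∀ x : ↥X, (X.presheaf.germ ⊤ x trivial s) ∈ nonZeroDivisors ↑(X.presheaf.stalk x)) :
    CInt.IsSchematicallyDense (X.basicOpen s) := by
  intro V a b hab
  rw [← sub_eq_zero]
  set c := a - b with hc
  have h0 : (X.presheaf.map (homOfLE (inf_le_left : V ⊓ X.basicOpen s ≤ V)).op).hom c = 0 := by
    rw [map_sub, sub_eq_zero]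
    exact hab
  refine TopCat.Presheaf.section_ext X.sheaf V c 0 fun x hxV => ?_
  show X.presheaf.germ V x hxV c = X.presheaf.germ V x hxV 0
  rw [map_zero]
  obtain ⟨W, hW, hxW, hWV'⟩ := exists_isAffineOpen_mem_and_subset hxV
  have hWV : W ≤ V := hWV'
  have := hW.isLocalization_basicOpen ((X.presheaf.map (homOfLE (le_top : W ≤ ⊤)).op).hom s)
  set g := (X.presheaf.map (homOfLE (le_top : W ≤ ⊤)).op).hom s with hg
  have hD : X.basicOpen g = W ⊓ X.basicOpen s := X.basicOpen_res s (homOfLE (le_top : W ≤ ⊤)).op
  set cW := (X.presheaf.map (homOfLE hWV).op).hom c with hcW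
  have h1 : algebraMap Γ(X, W) Γ(X, X.basicOpen g) cW = 0 := by
    show (X.presheaf.map (homOfLE (X.basicOpen_le g)).op).hom ((X.presheaf.map (homOfLE hWV).op).hom c) = 0
    have h2 := congrArg (X.presheaf.map (homOfLE (show X.basicOpen g ≤ V ⊓ X.basicOpen s by
      rw [hD]; exact inf_le_inf_right _ hWV)).op).hom h0
    rw [map_zero] at h2
    refine Eq.trans ?_ h2
    rw [← CommRingCat.comp_apply, ← CommRingCat.comp_apply, ← Functor.map_comp, ← Functor.map_comp]
    rfl
  obtain ⟨⟨_, n, rfl⟩, hn⟩ := (IsLocalization.map_eq_zero_iff (Submonoid.powers g) Γ(X, X.basicOpen g) cW).1 h1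
  have h3 := congrArg (X.presheaf.germ W x hxW).hom hn
  rw [map_mul, map_pow, map_zero, hg, TopCat.Presheaf.germ_res_apply] at h3
  have h4 : X.presheaf.germ W x hxW cW = X.presheaf.germ V x hxV c :=
    X.presheaf.germ_res_apply (homOfLE hWV) x hxW c
  rw [← h4]
  exact ((pow_mem (hs x) n).1) _ h3

end Groth.Agent.S3833
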