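import Groth.Statements.S3834
import Mathlib


set_option autoImplicit false
universe u
open CategoryTheory CategoryTheory.Limits AlgebraicGeometry TopologicalSpace
open Rat20

namespace Groth.Agent.S3834

/-- Let X = Spec A be an affine scheme, with A Noetherian, or A reduced with finitely many minimal
primes. Then an open subset U of X is schematically dense if and only if it contains an open subset
of the form X_t with t a regular element of A = Γ(X, O_X). -/
theorem result (X : Scheme.{u}) [IsAffine X]
    (hX : IsNoetherian X ∨ (IsReduced X ∧ (irreducibleComponents ↥X).Finite)) (U : X.Opens) :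
    CInt.IsSchematicallyDense U ↔ ∃ t : Γ(X, ⊤), t ∈ nonZeroDivisors Γ(X, ⊤) ∧ X.basicOpen t ≤ U := by
  classical
  let A := Γ(X, ⊤)
  have hT : IsAffineOpen (⊤ : X.Opens) := isAffineOpen_top X
  constructor
  · intro hd
    let 𝔞 : Ideal A :=
      { carrier := {g | X.basicOpen g ≤ U}
        zero_mem' := by simp
        add_mem' := fun {g h} hg hh x hx => by
          obtain ⟨hx', hu⟩ : ∃ hx', IsUnit (X.presheaf.germ ⊤ x hx' (g + h)) := ⟨trivial, (X.mem_basicOpen (g + h) x trivial).mp hx⟩
          rw [map_add] at hu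
          rcases IsLocalRing.isUnit_or_isUnit_of_isUnit_add hu with h1 | h1
          · exact hg ((X.mem_basicOpen g x trivial).mpr h1)
          · exact hh ((X.mem_basicOpen h x trivial).mpr h1)
        smul_mem' := fun c g hg x hx => by
          have h1 : x ∈ X.basicOpen c ⊓ X.basicOpen g := by rw [← X.basicOpen_mul]; exact hx
          exact hg h1.2 }
    -- the zero divisors are covered by finitely many primes with nonzero annihilator
    obtain ⟨PP, hfin, hP, hcov⟩ : ∃ PP : Set (Ideal A), PP.Finite ∧
        (∀ P ∈ PP, P.IsPrime ∧ ∃ a : A, a ≠ 0 ∧ ∀ b ∈ P, b * a = 0) ∧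
        ∀ t : A, t ∉ nonZeroDivisors A → ∃ P ∈ PP, t ∈ P := by
      rcases hX with hN | ⟨hR, hfin⟩
      · haveI : IsNoetherianRing A := IsLocallyNoetherian.component_noetherian ⟨⊤, hT⟩
        refine ⟨associatedPrimes A A, associatedPrimes.finite A A, fun P hP => ⟨hP.isPrime, ?_⟩, ?_⟩
        · obtain ⟨-, a, ha⟩ := isAssociatedPrime_iff.mp hP
          refine ⟨a, fun h0 => hP.isPrime.ne_top (ha.trans ?_), fun b hb => ?_⟩
          · rw [Ideal.eq_top_iff_one, Submodule.mem_colon_singleton, h0, smul_zero]
            exact zero_mem _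
          · rw [ha, Submodule.mem_colon_singleton, Submodule.mem_bot] at hb
            exact hb
        · intro t ht
          have hnr : ¬ IsSMulRegular A t := fun hreg => ht (mem_nonZeroDivisors_iff_right.mpr fun z hz =>
            hreg (by show t • z = t • (0 : A); rw [smul_zero, smul_eq_mul, mul_comm]; exact hz))
          have h2 : t ∈ ⋃ p ∈ associatedPrimes A A, (p : Set A) := by
            rw [biUnion_associatedPrimes_eq_compl_regular]; exact hnr
          obtain ⟨P, hP, htP⟩ := Set.mem_iUnion₂.mp h2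
          exact ⟨P, hP, htP⟩
      · haveI := hR
        have hmin : (minimalPrimes A).Finite := by
          let e : (X : Type u) ≃ₜ PrimeSpectrum A := X.isoSpec.hom.homeomorph
          haveI := hfin.to_subtype
          let φ : minimalPrimes A → irreducibleComponents (X : Type u) := fun P =>
            ⟨irreducibleComponent (e.symm ⟨P.1, P.2.1.1⟩), irreducibleComponent_mem_irreducibleComponents _⟩
          refine Set.finite_coe_iff.mp (Finite.of_injective φ fun P Q h => ?_)
          have key' : ∀ (P : minimalPrimes A) (w : X),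
              IsGenericPoint w (irreducibleComponent (e.symm ⟨P.1, P.2.1.1⟩)) → e w = ⟨P.1, P.2.1.1⟩ := by
            intro P w hw
            have h1 := (hw.specializes mem_irreducibleComponent).map e.continuous
            rw [e.apply_symm_apply] at h1
            have h2 : (e w).asIdeal ≤ P.1 := (PrimeSpectrum.le_iff_specializes _ _).mpr h1
            exact PrimeSpectrum.ext (le_antisymm h2 (P.2.2 ⟨(e w).isPrime, bot_le⟩ h2))
          have hgP := (isIrreducible_irreducibleComponent (x := e.symm ⟨P.1, P.2.1.1⟩)).isGenericPoint_genericPoint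
            isClosed_irreducibleComponent
          have h' : irreducibleComponent (e.symm ⟨P.1, P.2.1.1⟩) = irreducibleComponent (e.symm ⟨Q.1, Q.2.1.1⟩) :=
            congrArg Subtype.val h
          exact Subtype.ext (congrArg PrimeSpectrum.asIdeal
            ((key' P _ hgP).symm.trans (key' Q _ (h' ▸ hgP))))
        refine ⟨minimalPrimes A, hmin, fun P hP => ⟨hP.1.1, ?_⟩, ?_⟩
        · have hex : ∀ Q ∈ minimalPrimes A, Q ≠ P → ∃ a ∈ Q, a ∉ P := fun Q hQ hne => by
            by_contra h
            push Not at h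
            exact hne (le_antisymm h (hP.2 hQ.1 h))
          choose a haQ haP using hex
          let S := (hmin.toFinset.erase P).attach
          let z := ∏ Q ∈ S, a Q.1 (hmin.mem_toFinset.mp (Finset.mem_of_mem_erase Q.2)) (Finset.ne_of_mem_erase Q.2)
          have hzP : z ∉ P := fun h => by
            haveI := hP.1.1
            obtain ⟨Q, -, hQ⟩ := (Ideal.IsPrime.prod_mem_iff (p := P)).mp h
            exact haP _ _ _ hQ
          refine ⟨z, fun h0 => hzP (h0 ▸ zero_mem _), fun b hb => ?_⟩
          have hmem : b * z ∈ nilradical A := by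
            rw [nilradical, Ideal.radical_eq_sInf, Ideal.mem_sInf]
            rintro J ⟨-, hJ⟩
            haveI := hJ
            obtain ⟨Q, hQ, hQJ⟩ := Ideal.exists_minimalPrimes_le (I := (⊥ : Ideal A)) (J := J) bot_le
            refine hQJ ?_
            rcases eq_or_ne Q P with rfl | hne
            · exact Q.mul_mem_right _ hb
            · refine Q.mul_mem_left _ (Ideal.mem_of_dvd _ (Finset.dvd_prod_of_mem _
                (Finset.mem_attach _ ⟨Q, Finset.mem_erase.mpr ⟨hne, hmin.mem_toFinset.mpr hQ⟩⟩)) ?_)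
              exact haQ _ _ _
          rwa [nilradical_eq_zero, Ideal.zero_eq_bot, Ideal.mem_bot] at hmem
        · intro t ht
          by_contra h
          push Not at h
          refine ht (mem_nonZeroDivisors_iff_right.mpr fun z hz => ?_)
          have hmem : z ∈ nilradical A := by
            rw [nilradical, Ideal.radical_eq_sInf, Ideal.mem_sInf]
            rintro J ⟨-, hJ⟩
            haveI := hJ
            obtain ⟨Q, hQ, hQJ⟩ := Ideal.exists_minimalPrimes_le (I := (⊥ : Ideal A)) (J := J) bot_le
            exact hQJ ((hQ.1.1.mem_or_mem (hz ▸ zero_mem Q)).resolve_right (h Q hQ))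
          rwa [nilradical_eq_zero, Ideal.zero_eq_bot, Ideal.mem_bot] at hmem
    have havoid : ∀ P ∈ PP, ¬ 𝔞 ≤ P := by
      intro P hPm hle
      obtain ⟨hPp, a, ha, hPa⟩ := hP P hPm
      refine ha (hd ⊤ ?_)
      rw [map_zero]
      refine X.IsSheaf.section_ext fun x hx => ?_
      obtain ⟨g, hg, hxg⟩ := hT.exists_basicOpen_le (V := U) ⟨x, hx.2⟩ trivial
      refine ⟨⊤ ⊓ U ⊓ X.basicOpen g, inf_le_left, ⟨hx, hxg⟩, ?_⟩
      rw [map_zero]
      have hga : g * a = 0 := hPa g (hle hg)
      have hu : IsUnit ((X.presheaf.map (homOfLE (le_top : ⊤ ⊓ U ⊓ X.basicOpen g ≤ ⊤)).op).hom g) := by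
        have h0 : IsUnit ((X.presheaf.map (homOfLE (X.basicOpen_le g)).op).hom g) :=
          RingedSpace.isUnit_res_basicOpen X.toRingedSpace g
        have h1 := h0.map
          (X.presheaf.map (homOfLE (inf_le_right : ⊤ ⊓ U ⊓ X.basicOpen g ≤ X.basicOpen g)).op).hom
        rw [← CommRingCat.comp_apply, ← X.presheaf.map_comp] at h1
        exact h1
      rw [← CommRingCat.comp_apply, ← X.presheaf.map_comp]
      refine hu.mul_right_eq_zero.mp ?_
      have := congrArg (X.presheaf.map (homOfLE (le_top : ⊤ ⊓ U ⊓ X.basicOpen g ≤ ⊤)).op).hom hga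
      rw [map_mul, map_zero] at this
      exact this
    obtain ⟨t, ht𝔞, htP⟩ : ∃ t ∈ 𝔞, ∀ P ∈ PP, t ∉ P := by
      by_contra h
      push Not at h
      have hsub : (𝔞 : Set A) ⊆ ⋃ P ∈ ((hfin.toFinset : Finset (Ideal A)) : Set (Ideal A)), (P : Set A) := fun t ht => by
        obtain ⟨P, hP, htP⟩ := h t ht
        exact Set.mem_biUnion (hfin.mem_toFinset.mpr hP) htP
      obtain ⟨P, hPm, hle⟩ := (Ideal.subset_union_prime ⊥ ⊥
        (fun P hP' _ _ => (hP P (hfin.mem_toFinset.mp hP')).1)).mp hsub
      exact havoid P (hfin.mem_toFinset.mp hPm) hle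
    refine ⟨t, by_contra fun hn => ?_, ht𝔞⟩
    obtain ⟨P, hPm, h⟩ := hcov t hn
    exact htP P hPm h
  · rintro ⟨t, ht, htU⟩ V s s' hss
    rw [← sub_eq_zero]
    have h0 : (X.presheaf.map (homOfLE (inf_le_left : V ⊓ U ≤ V)).op).hom (s - s') = 0 := by
      rw [map_sub, sub_eq_zero]; exact hss
    generalize s - s' = r at h0
    refine X.IsSheaf.section_ext fun x hx => ?_
    obtain ⟨g, hg, hxg⟩ := hT.exists_basicOpen_le (V := V) ⟨x, hx⟩ trivial
    refine ⟨X.basicOpen g, hg, hxg, ?_⟩
    rw [map_zero]
    have hW : IsAffineOpen (X.basicOpen g) := hT.basicOpen g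
    let t' : Γ(X, X.basicOpen g) := (X.presheaf.map (homOfLE (le_top : X.basicOpen g ≤ ⊤)).op).hom t
    let σ : Γ(X, X.basicOpen g) := (X.presheaf.map (homOfLE hg).op).hom r
    show σ = 0
    have hle : X.basicOpen t' ≤ V ⊓ U := by
      refine le_inf ((X.basicOpen_le t').trans hg) ?_
      rw [show t' = (X.presheaf.map (homOfLE (le_top : X.basicOpen g ≤ ⊤)).op).hom t from rfl]
      exact (X.basicOpen_res t _).le.trans (inf_le_right.trans htU)
    haveI := hW.isLocalization_basicOpen t'
    have hσ : algebraMap Γ(X, X.basicOpen g) Γ(X, X.basicOpen t') σ = 0 := by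
      show (X.presheaf.map (homOfLE (X.basicOpen_le t')).op).hom ((X.presheaf.map (homOfLE hg).op).hom r) = 0
      have h2 := congrArg (X.presheaf.map (homOfLE hle).op).hom h0
      rw [map_zero, ← CommRingCat.comp_apply, ← X.presheaf.map_comp] at h2
      rw [← CommRingCat.comp_apply, ← X.presheaf.map_comp]
      exact h2
    obtain ⟨⟨_, n, rfl⟩, hn⟩ := (IsLocalization.map_eq_zero_iff (Submonoid.powers t') _ σ).mp hσ
    haveI := hT.isLocalization_basicOpen g
    obtain ⟨⟨a, m⟩, ham⟩ := IsLocalization.surj (Submonoid.powers g) σ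
    have h3 : algebraMap Γ(X, ⊤) Γ(X, X.basicOpen g) (t ^ n * a) = 0 := by
      rw [map_mul, map_pow, ← ham]
      show t' ^ n * (σ * _) = 0
      rw [← mul_assoc, show t' ^ n * σ = 0 from hn, zero_mul]
    obtain ⟨⟨_, l, rfl⟩, hl⟩ := (IsLocalization.map_eq_zero_iff (Submonoid.powers g) _ _).mp h3
    have hla : g ^ l * a = 0 := by
      refine (mem_nonZeroDivisors_iff_right.mp (pow_mem ht n)) _ ?_
      rw [mul_assoc, mul_comm a]
      exact hl
    have hza : algebraMap Γ(X, ⊤) Γ(X, X.basicOpen g) a = 0 :=
      (IsLocalization.map_eq_zero_iff (Submonoid.powers g) _ _).mpr ⟨⟨g ^ l, l, rfl⟩, hla⟩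
    exact (IsLocalization.map_units Γ(X, X.basicOpen g) m).mul_left_eq_zero.mp (ham.trans hza)

end Groth.Agent.S3834
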