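import Groth.Statements.S4875
import Groth.Agent.FlatInj.Core

set_option autoImplicit false
universe u
open CategoryTheory AlgebraicGeometry
open EGA43

namespace Groth.Agent.S4875

open AlgebraicGeometry CategoryTheory Limits Opposite in
theorem le_preimage_of_le {X : Scheme.{u}} {W V : X.Opens} (hW : IsAffineOpen W) {R : CommRingCat.{u}}
    (β : Γ(X, W) ⟶ R) (eV : W ≤ V) : ⊤ ≤ (Spec.map β ≫ hW.fromSpec) ⁻¹ᵁ V := by
  intro z _
  show (Spec.map β ≫ hW.fromSpec) z ∈ (V : Set X)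
  refine eV ?_
  show hW.fromSpec (Spec.map β z) ∈ (W : Set X)
  rw [← hW.range_fromSpec]
  exact Set.mem_range_self _

open AlgebraicGeometry CategoryTheory Limits Opposite in
theorem appLE_fromSpec {X : Scheme.{u}} {W V : X.Opens} (hW : IsAffineOpen W) {R : CommRingCat.{u}}
    (β : Γ(X, W) ⟶ R) (eV : W ≤ V) :
    (Spec.map β ≫ hW.fromSpec).appLE V ⊤ (le_preimage_of_le hW β eV) =
      X.presheaf.map (homOfLE eV).op ≫ β ≫ (Scheme.ΓSpecIso R).inv := by
  rw [Scheme.Hom.appLE, Scheme.Hom.comp_app, IsAffineOpen.fromSpec_app_of_le hW V eV]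
  simp only [Category.assoc]
  rw [Scheme.ΓSpecIso_inv_naturality_assoc]
  simp [← Functor.map_comp]
  rfl

open AlgebraicGeometry CategoryTheory Limits Opposite in
theorem hsnd_appLE {T X : Scheme.{u}} {φ ψ : T ⟶ X} (hφ : φ = ψ) (V : X.Opens) (t : Γ(X, V))
    (h : φ.app V t = 0) {e : ⊤ ≤ ψ ⁻¹ᵁ V} : ψ.appLE V ⊤ e t = 0 := by
  subst hφ
  rw [Scheme.Hom.appLE, CommRingCat.comp_apply, h, map_zero]

open AlgebraicGeometry CategoryTheory Limits Opposite TensorProduct in
theorem exists_pow_mul_eq_zero {X : Scheme.{u}} {ι : Type u} (Z : ι → Scheme.{u}) (f : ∀ i, Z i ⟶ X)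
    (h : ∀ (V : X.Opens) (t : Γ(X, V)), (∀ i, (f i).app V t = 0) → t = 0) {U : X.Opens} (hU : IsAffineOpen U)
    (a : Γ(X, U)) (r : Γ(X, U))
    (hz : ∀ i (W : (Z i).Opens) (_ : IsAffineOpen W) (e : W ≤ f i ⁻¹ᵁ U),
      ∃ n : ℕ, (f i).appLE U W e (r ^ n * a) = 0) : ∃ n : ℕ, r ^ n * a = 0 := by
  let t := X.presheaf.map (homOfLE (X.basicOpen_le r)).op a
  have ht : t = 0 := by
    refine h _ _ fun i => ?_
    have key : ∀ z : (f i ⁻¹ᵁ X.basicOpen r : (Z i).Opens), ∃ W : (Z i).Opens, (z : Z i) ∈ W ∧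
        ∃ e : W ≤ f i ⁻¹ᵁ X.basicOpen r, (f i).appLE (X.basicOpen r) W e t = 0 := by
      rintro ⟨z, hz'⟩
      obtain ⟨W, hW, hzW, hWle⟩ := exists_isAffineOpen_mem_and_subset (x := z) (U := f i ⁻¹ᵁ X.basicOpen r) hz'
      have e : W ≤ f i ⁻¹ᵁ U := fun y hy => X.basicOpen_le r (hWle hy)
      obtain ⟨n, hn⟩ := hz i W hW e
      refine ⟨W, hzW, hWle, ?_⟩
      have e1 : ∀ c, (f i).appLE U W e c = (f i).appLE (X.basicOpen r) W hWle
          (X.presheaf.map (homOfLE (X.basicOpen_le r)).op c) := fun c => by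
        rw [← CommRingCat.comp_apply, Scheme.Hom.map_appLE]
      rw [e1, map_mul, map_pow, map_mul, map_pow] at hn
      refine (IsUnit.mul_right_eq_zero ?_).mp hn
      exact ((RingedSpace.isUnit_res_basicOpen X.toLocallyRingedSpace.toRingedSpace r).map _).pow n
    choose W hzW he hW0 using key
    refine TopCat.Sheaf.eq_of_locally_eq' (Z i).sheaf W _ (fun z => homOfLE (he z))
      (fun z hz' => TopologicalSpace.Opens.mem_iSup.mpr ⟨⟨z, hz'⟩, hzW ⟨z, hz'⟩⟩) _ 0 fun z => ?_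
    exact (hW0 z).trans (map_zero ((Z i).presheaf.map (homOfLE (he z)).op).hom).symm
  haveI := hU.isLocalization_basicOpen r
  obtain ⟨⟨_, n, rfl⟩, hn⟩ := (IsLocalization.map_eq_zero_iff (Submonoid.powers r) Γ(X, X.basicOpen r) a).mp ht
  exact ⟨n, hn⟩

open AlgebraicGeometry CategoryTheory Limits Opposite TensorProduct in
theorem section_eq_zero {X X' : Scheme.{u}} {ι : Type u} (Z : ι → Scheme.{u}) (f : ∀ i, Z i ⟶ X)
    (g : X' ⟶ X) [Flat g] [LocallyOfFinitePresentation g]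
    (h : ∀ (V : X.Opens) (t : Γ(X, V)), (∀ i, (f i).app V t = 0) → t = 0)
    {U : X.Opens} (hU : IsAffineOpen U) {W : X'.Opens} (hW : IsAffineOpen W) (eU : W ≤ g ⁻¹ᵁ U)
    {V : X'.Opens} (eV : W ≤ V) (t : Γ(X', V)) (ht : ∀ i, (pullback.snd (f i) g).app V t = 0) :
    X'.presheaf.map (homOfLE eV).op t = (0 : Γ(X', W)) := by
  letI := (g.appLE U W eU).hom.toAlgebra
  haveI : Algebra.FinitePresentation Γ(X, U) Γ(X', W) := g.finitePresentation_appLE hU hW eU
  haveI : Module.Flat Γ(X, U) Γ(X', W) := g.flat_appLE hU hW eU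
  let σ := Σ i : ι, {W' : (Z i).Opens // IsAffineOpen W' ∧ W' ≤ f i ⁻¹ᵁ U}
  letI alg : ∀ j : σ, Algebra Γ(X, U) Γ(Z j.1, j.2.1) := fun j =>
    ((f j.1).appLE U j.2.1 j.2.2.2).hom.toAlgebra
  let b : Γ(X', W) := X'.presheaf.map (homOfLE eV).op t
  suffices hb : (TensorProduct.lid Γ(X, U) Γ(X', W)).symm b = 0 from
    (TensorProduct.lid Γ(X, U) Γ(X', W)).symm.injective (hb.trans (map_zero _).symm)
  refine Groth.Agent.FlatInj.eq_zero_of_forall_rTensor
    (σ := σ) (fun j : σ => Algebra.linearMap Γ(X, U) Γ(Z j.1, j.2.1)) (fun r x hx => ?_) _ fun j => ?_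
  · induction x using LocalizedModule.induction_on with | _ a s => ?_
    obtain ⟨n, hn⟩ := exists_pow_mul_eq_zero Z f h hU a r fun i W' hW' e => by
      have h1 := hx ⟨i, W', hW', e⟩
      rw [IsLocalizedModule.map_LocalizedModules, ← LocalizedModule.zero_mk (1 : Submonoid.powers r),
        LocalizedModule.mk_eq] at h1
      obtain ⟨⟨_, n, rfl⟩, hn⟩ := h1
      rw [smul_zero, smul_zero, one_smul, Submonoid.smul_def] at hn
      refine ⟨n, ?_⟩
      rw [Algebra.linearMap_apply, Algebra.smul_def, ← map_mul] at hn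
      exact hn
    rw [← LocalizedModule.zero_mk (1 : Submonoid.powers r), LocalizedModule.mk_eq]
    refine ⟨⟨r ^ n, n, rfl⟩, ?_⟩
    rw [smul_zero, smul_zero, one_smul, Submonoid.smul_def, smul_eq_mul]
    exact hn
  · obtain ⟨i, W', hW', e⟩ := j
    rw [TensorProduct.lid_symm_apply, LinearMap.rTensor_tmul, Algebra.linearMap_apply, map_one]
    let C := Γ(Z i, W')
    letI : Algebra Γ(X, U) C := alg ⟨i, W', hW', e⟩
    let L : Spec (CommRingCat.of (C ⊗[Γ(X, U)] Γ(X', W))) ⟶ pullback (f i) g :=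
      pullback.lift
        (Spec.map (CommRingCat.ofHom Algebra.TensorProduct.includeLeftRingHom) ≫ hW'.fromSpec)
        (Spec.map (CommRingCat.ofHom Algebra.TensorProduct.includeRight.toRingHom) ≫ hW.fromSpec)
        (by
          rw [Category.assoc, Category.assoc, ← IsAffineOpen.SpecMap_appLE_fromSpec (f i) hU hW' e,
            ← IsAffineOpen.SpecMap_appLE_fromSpec g hU hW eU, ← Spec.map_comp_assoc, ← Spec.map_comp_assoc]
          congr 2
          ext a
          exact (Algebra.TensorProduct.tmul_one_eq_one_tmul (R := Γ(X, U)) a))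
    let β : Γ(X', W) ⟶ CommRingCat.of (C ⊗[Γ(X, U)] Γ(X', W)) :=
      CommRingCat.ofHom Algebra.TensorProduct.includeRight.toRingHom
    show β b = 0
    have hsnd : L ≫ pullback.snd (f i) g = Spec.map β ≫ hW.fromSpec := pullback.lift_snd _ _ _
    have h1 : (L ≫ pullback.snd (f i) g).app V t = 0 := by
      rw [Scheme.Hom.comp_app]
      exact (congrArg (L.app _) (ht i)).trans (map_zero _)
    have h2 : (Spec.map β ≫ hW.fromSpec).appLE V ⊤ (le_preimage_of_le hW β eV) t = 0 := by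
      exact hsnd_appLE hsnd V t h1
    rw [appLE_fromSpec hW β eV] at h2
    apply (Scheme.ΓSpecIso (CommRingCat.of (C ⊗[Γ(X, U)] Γ(X', W)))).commRingCatIsoToRingEquiv.symm.injective
    exact h2.trans (map_zero _).symm

/-- Let (f_i : Z_i ⟶ X) be a schematically dominant family of morphisms and g : X' ⟶ X a flat morphism
locally of finite presentation. Then the family of base changes f'_i : Z_i ×_X X' ⟶ X' is
schematically dominant. (No quasi-compactness of the f_i and no finiteness of the family is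
assumed.) -/
theorem result {X X' : Scheme.{u}} {ι : Type u} (Z : ι → Scheme.{u})
    (f : ∀ i, Z i ⟶ X) (g : X' ⟶ X) [Flat g] [LocallyOfFinitePresentation g]
    (h : (∀ (V : (X).Opens) (t : Γ(X, V)), (∀ i, (f i).app V t = 0) → t = 0)) :
    (∀ (V : (X').Opens) (t : Γ(X', V)), (∀ i, (Limits.pullback.snd (f i) g).app V t = 0) → t = 0) := by
  intro V t ht
  have key : ∀ x : V, ∃ W : X'.Opens, (x : X') ∈ W ∧ ∃ hW : W ≤ V,
      X'.presheaf.map (homOfLE hW).op t = (0 : Γ(X', W)) := by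
    rintro ⟨x, hx⟩
    obtain ⟨U, hU, hxU, -⟩ := exists_isAffineOpen_mem_and_subset (x := g x) (U := (⊤ : X.Opens)) trivial
    obtain ⟨W, hW, hxW, hWle⟩ :=
      exists_isAffineOpen_mem_and_subset (x := x) (U := V ⊓ g ⁻¹ᵁ U) ⟨hx, hxU⟩
    refine ⟨W, hxW, fun y hy => (hWle hy).1, ?_⟩
    exact section_eq_zero Z f g h hU hW (fun y hy => (hWle hy).2) (fun y hy => (hWle hy).1) t ht
  choose W hxW hWle hW0 using key
  refine TopCat.Sheaf.eq_of_locally_eq' X'.sheaf W V (fun x => homOfLE (hWle x))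
    (fun x hx => TopologicalSpace.Opens.mem_iSup.mpr ⟨⟨x, hx⟩, hxW ⟨x, hx⟩⟩) t 0 fun x => ?_
  exact (hW0 x).trans (map_zero (X'.presheaf.map (homOfLE (hWle x)).op).hom).symm

end Groth.Agent.S4875
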