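import Groth.Statements.S3843
import Groth.Agent.S4875

set_option autoImplicit false
universe u
open CategoryTheory CategoryTheory.Limits AlgebraicGeometry TopologicalSpace
open Rat20

namespace Groth.Agent.S3843

open AlgebraicGeometry CategoryTheory Limits Opposite in
theorem app_eq_zero_of_range {P X : Scheme.{u}} (φ : P ⟶ X) (O : X.Opens) (h : ∀ z : P, φ z ∈ O)
    (W : X.Opens) (t : Γ(X, W)) (ht : X.presheaf.map (homOfLE (inf_le_left : W ⊓ O ≤ W)).op t = 0) :
    φ.app W t = 0 := by
  have he : φ ⁻¹ᵁ W ≤ φ ⁻¹ᵁ (W ⊓ O) := fun z hz => ⟨hz, h z⟩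
  have h1 : φ.app W = X.presheaf.map (homOfLE (inf_le_left : W ⊓ O ≤ W)).op ≫
      φ.appLE (W ⊓ O) (φ ⁻¹ᵁ W) he := by
    rw [Scheme.Hom.map_appLE, Scheme.Hom.app_eq_appLE]
  rw [h1, CommRingCat.comp_apply, ht, map_zero]

open AlgebraicGeometry CategoryTheory Limits Opposite in
theorem range_snd {X X' : Scheme.{u}} (f : X' ⟶ X) (V : X.Opens) (z : ↥(pullback V.ι f)) :
    pullback.snd V.ι f z ∈ f ⁻¹ᵁ V := by
  show f (pullback.snd V.ι f z) ∈ (V : Set X)
  rw [← Scheme.Hom.comp_apply, ← pullback.condition, Scheme.Hom.comp_apply]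
  exact (pullback.fst V.ι f z).2

open AlgebraicGeometry CategoryTheory Limits Opposite in
theorem res_eq_zero {X : Scheme.{u}} (V W : X.Opens) (t : Γ(X, W)) (h : V.ι.app W t = 0) :
    X.presheaf.map (homOfLE (inf_le_left : W ⊓ V ≤ W)).op t = 0 := by
  rw [Scheme.Opens.ι_app] at h
  have key : X.presheaf.map (homOfLE (V.ι.image_preimage_eq_opensRange_inf W ▸ inf_le_right)).op t
      = (0 : Γ(X, V.ι ''ᵁ (V.ι ⁻¹ᵁ W))) := h
  have hle : W ⊓ V ≤ V.ι ''ᵁ (V.ι ⁻¹ᵁ W) := by
    rw [V.ι.image_preimage_eq_opensRange_inf W, Scheme.Opens.opensRange_ι, inf_comm]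
  have := congrArg (X.presheaf.map (homOfLE hle).op) key
  rw [map_zero, ← CommRingCat.comp_apply, ← Functor.map_comp] at this
  exact this

/-- For the open subset U = X; the general case is the same statement over the open subscheme U: let f :
X' → X be flat and locally of finite presentation. Then for every schematically dense open subset V
of X, the preimage f⁻¹(V) is schematically dense in X'. -/
theorem result {X X' : Scheme.{u}} (f : X' ⟶ X) [Flat f]
    [LocallyOfFinitePresentation f] (V : X.Opens) (hV : CInt.IsSchematicallyDense V) :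
    CInt.IsSchematicallyDense (f ⁻¹ᵁ V) := by
  intro W
  rw [injective_iff_map_eq_zero]
  intro t ht
  refine Groth.Agent.S4875.result (fun _ : PUnit.{u+1} => (V : Scheme.{u})) (fun _ => V.ι) f
    (fun V' a ha => ?_) W t fun _ => ?_
  · apply hV V'
    rw [map_zero]
    exact res_eq_zero V V' a (ha PUnit.unit)
  · exact app_eq_zero_of_range (pullback.snd V.ι f) (f ⁻¹ᵁ V) (range_snd f V) W t ht

end Groth.Agent.S3843
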