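import Groth.Statements.S3835
import Groth.Agent.S3843
import Groth.Agent.S2879

set_option autoImplicit false
universe u
open CategoryTheory CategoryTheory.Limits AlgebraicGeometry TopologicalSpace
open Rat20

namespace Groth.Agent.S3835

/-- Let Y be separated over S, X an S-scheme with a schematically dense open subscheme U, h : U → Y an
S-morphism (a representative of a pseudo-morphism from X to Y over S), and f : X' → X a flat
morphism locally of finite presentation, X' being regarded as an S-scheme through f. Let x' be a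
point of X' with image x = f(x'). If there is an S-morphism from an open neighbourhood V' of x' to Y
agreeing with h ∘ f on f⁻¹(U) ∩ V' (the pulled-back pseudo-morphism is defined at x'), then there is
an S-morphism from an open neighbourhood V of x to Y agreeing with h on U ∩ V (the pseudo-morphism
is defined at x). -/
theorem result {X X' Y S : Scheme.{u}} (pX : X ⟶ S) (pY : Y ⟶ S)
    [IsSeparated pY] (U : X.Opens) (hU : CInt.IsSchematicallyDense U) (h : (U : Scheme.{u}) ⟶ Y)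
    (hh : h ≫ pY = U.ι ≫ pX) (f : X' ⟶ X) [Flat f] [LocallyOfFinitePresentation f] (x' : ↥X')
    (V' : X'.Opens) (hx' : x' ∈ V') (v' : (V' : Scheme.{u}) ⟶ Y) (hv'S : v' ≫ pY = V'.ι ≫ f ≫ pX)
    (hv' : X'.homOfLE (inf_le_right : f ⁻¹ᵁ U ⊓ V' ≤ V') ≫ v' =
      X'.homOfLE (inf_le_left : f ⁻¹ᵁ U ⊓ V' ≤ f ⁻¹ᵁ U) ≫ (f ∣_ U) ≫ h) :
    ∃ (V : X.Opens) (v : (V : Scheme.{u}) ⟶ Y), f x' ∈ V ∧ v ≫ pY = V.ι ≫ pX ∧
      X.homOfLE (inf_le_right : U ⊓ V ≤ V) ≫ v = X.homOfLE (inf_le_left : U ⊓ V ≤ U) ≫ h := by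
  let O : X.Opens := ⟨f '' (V' : Set X'), f.isOpenMap _ V'.isOpen⟩
  let g : (V' : Scheme.{u}) ⟶ O := IsOpenImmersion.lift O.ι (V'.ι ≫ f) (by
    rintro _ ⟨z, rfl⟩
    rw [Scheme.Opens.range_ι]
    exact ⟨z.1, z.2, rfl⟩)
  have hg : g ≫ O.ι = V'.ι ≫ f := IsOpenImmersion.lift_fac _ _ _
  haveI : Flat g := by
    have : Flat (g ≫ O.ι) := by rw [hg]; infer_instance
    exact MorphismProperty.of_postcomp @Flat (W' := @IsOpenImmersion) g O.ι inferInstance this
  haveI : LocallyOfFinitePresentation g := by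
    have : LocallyOfFinitePresentation (g ≫ O.ι) := by rw [hg]; infer_instance
    exact MorphismProperty.of_postcomp @LocallyOfFinitePresentation (W' := @IsOpenImmersion) g O.ι inferInstance this
  haveI : Surjective g := ⟨by
    rintro ⟨_, z, hz, rfl⟩
    refine ⟨⟨z, hz⟩, O.ι.isOpenEmbedding.injective ?_⟩
    rw [← Scheme.Hom.comp_apply, hg]
    rfl⟩
  -- morphisms landing over `U` see `h`
  have key : ∀ {T : Scheme.{u}} (k : T ⟶ (V' : Scheme.{u})) (l : T ⟶ (U : Scheme.{u})),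
      l ≫ U.ι = k ≫ V'.ι ≫ f → k ≫ v' = l ≫ h := by
    intro T k l hl
    let m : T ⟶ ((f ⁻¹ᵁ U ⊓ V' : X'.Opens) : Scheme.{u}) := IsOpenImmersion.lift _ (k ≫ V'.ι) (by
      rintro _ ⟨t, rfl⟩
      rw [Scheme.Opens.range_ι]
      refine ⟨?_, (k t).2⟩
      show f (V'.ι (k t)) ∈ (U : Set X)
      rw [← Scheme.Hom.comp_apply, ← Scheme.Hom.comp_apply, ← hl, ← Scheme.Opens.range_ι]
      exact ⟨l t, rfl⟩)
    have hm : m ≫ (f ⁻¹ᵁ U ⊓ V').ι = k ≫ V'.ι := IsOpenImmersion.lift_fac _ _ _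
    have h1 : m ≫ X'.homOfLE inf_le_right = k := by
      rw [← cancel_mono V'.ι, Category.assoc, Scheme.homOfLE_ι, hm]
    have h2 : (m ≫ X'.homOfLE inf_le_left) ≫ (f ∣_ U) = l := by
      rw [← cancel_mono U.ι, Category.assoc, morphismRestrict_ι, Category.assoc, Scheme.homOfLE_ι_assoc, hl,
        reassoc_of% hm]
    rw [← h1, Category.assoc, hv', ← h2]
    simp only [Category.assoc]
  have hco : pullback.fst g g ≫ v' = pullback.snd g g ≫ v' := by
    let φ : pullback g g ⟶ X := pullback.fst g g ≫ g ≫ O.ι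
    haveI : Flat φ := inferInstance
    haveI : LocallyOfFinitePresentation φ := inferInstance
    refine Groth.Agent.S2879.ext_of_dense' (Groth.Agent.S3843.result φ U hU) pY ?_ ?_
    · simp only [Category.assoc, hv'S]
      rw [← reassoc_of% hg, pullback.condition_assoc]
    · have e₁ : (φ ∣_ U) ≫ U.ι = ((φ ⁻¹ᵁ U).ι ≫ pullback.fst g g) ≫ V'.ι ≫ f := by
        rw [morphismRestrict_ι, Category.assoc, ← hg]
      have e₂ : (φ ∣_ U) ≫ U.ι = ((φ ⁻¹ᵁ U).ι ≫ pullback.snd g g) ≫ V'.ι ≫ f := by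
        rw [morphismRestrict_ι, Category.assoc, ← hg, ← pullback.condition_assoc]
      rw [← Category.assoc, ← Category.assoc, key _ _ e₁, key _ _ e₂]
  let v : (O : Scheme.{u}) ⟶ Y := EffectiveEpi.desc g v' fun g₁ g₂ hg₁₂ => by
    have h1 := congrArg (pullback.lift g₁ g₂ hg₁₂ ≫ ·) hco
    rw [← Category.assoc, ← Category.assoc, pullback.lift_fst, pullback.lift_snd] at h1
    exact h1
  have hv : g ≫ v = v' := EffectiveEpi.fac _ _ _
  refine ⟨O, v, ⟨x', hx', rfl⟩, ?_, ?_⟩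
  · rw [← cancel_epi g, reassoc_of% hv, hv'S, reassoc_of% hg]
  · let W : (O : Scheme.{u}).Opens := O.ι ⁻¹ᵁ U
    haveI : Surjective (g ∣_ W) := MorphismProperty.of_isPullback (isPullback_morphismRestrict g W).flip ‹_›
    let a : (W : Scheme.{u}) ⟶ ((U ⊓ O : X.Opens) : Scheme.{u}) := IsOpenImmersion.lift _ (W.ι ≫ O.ι) (by
      rintro _ ⟨z, rfl⟩
      rw [Scheme.Opens.range_ι]
      exact ⟨z.2, z.1.2⟩)
    have ha : a ≫ (U ⊓ O).ι = W.ι ≫ O.ι := IsOpenImmersion.lift_fac _ _ _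
    haveI : Surjective a := ⟨fun z => ⟨⟨⟨z.1, z.2.2⟩, z.2.1⟩, (U ⊓ O).ι.isOpenEmbedding.injective (by
      rw [← Scheme.Hom.comp_apply, ha]; rfl)⟩⟩
    haveI : IsOpenImmersion a := by
      haveI : IsOpenImmersion (a ≫ (U ⊓ O).ι) := by rw [ha]; infer_instance
      exact IsOpenImmersion.of_comp a (U ⊓ O).ι
    haveI : IsIso a := isIso_of_isOpenImmersion_of_opensRange_eq_top a
      (TopologicalSpace.Opens.ext (Set.range_eq_univ.2 a.surjective))
    rw [← cancel_epi a, ← cancel_epi (g ∣_ W)]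
    have e1 : a ≫ X.homOfLE inf_le_right = W.ι := by
      rw [← cancel_mono O.ι, Category.assoc, Scheme.homOfLE_ι, ha]
    rw [reassoc_of% e1, morphismRestrict_ι_assoc, hv,
      key (g ⁻¹ᵁ W).ι ((g ∣_ W) ≫ a ≫ X.homOfLE inf_le_left) (by
        simp only [Category.assoc, Scheme.homOfLE_ι, ha]
        rw [morphismRestrict_ι_assoc, hg])]
    simp only [Category.assoc]

end Groth.Agent.S3835
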