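import Groth.Statements.S3836
import Groth.Agent.SectionExt.Setup
import Groth.Agent.SectionExt.QuasiFinite
import Groth.Agent.DvrDom.RationalPoint
import Groth.Agent.DvrDom.ClosedProper

set_option autoImplicit false
universe u
open CategoryTheory CategoryTheory.Limits AlgebraicGeometry TopologicalSpace
open Rat20

namespace Groth.Agent.S3836

/-- Let X be a locally integral S-scheme, Y an S-scheme locally of finite type and separated over S, and
h : U → Y an S-morphism on a dense open subset (a rational S-map ω). Let Γ be the closure in X ×_S Y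
of the graph of h and p : Γ → X the projection. If x is a point of X whose local ring is integrally
closed and the fibre p⁻¹(x) contains an isolated point, then ω is defined at x: some S-morphism from
an open neighbourhood of x to Y agrees with h on U. -/
theorem result {X Y S : Scheme.{u}} (pX : X ⟶ S) (pY : Y ⟶ S)
    [LocallyOfFiniteType pY] [IsSeparated pY] (hX : ∀ y : ↥X, ∃ W : X.Opens, y ∈ W ∧ IsIntegral (W : Scheme.{u}))
    (U : X.Opens) (hU : Dense (U : Set ↥X)) (h : (U : Scheme.{u}) ⟶ Y) (hh : U.ι ≫ pX = h ≫ pY)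
    (x : ↥X) (hx : IsIntegrallyClosed (X.presheaf.stalk x))
    (z : ↥(pullback pX pY)) (hz : pullback.fst pX pY z = x)
    (hzΓ : z ∈ closure (Set.range (pullback.lift U.ι h hh)))
    (hiso : ∃ W : (pullback pX pY).Opens, (W : Set ↥(pullback pX pY)) ∩ closure (Set.range (pullback.lift U.ι h hh)) ∩
      (pullback.fst pX pY) ⁻¹' {x} = {z}) :
    ∃ (V : X.Opens) (v : (V : Scheme.{u}) ⟶ Y), x ∈ V ∧ v ≫ pY = V.ι ≫ pX ∧
      X.homOfLE (inf_le_right : U ⊓ V ≤ V) ≫ v = X.homOfLE (inf_le_left : U ⊓ V ≤ U) ≫ h := by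
  classical
  subst hz
  let q := pullback.fst pX pY
  let s := pullback.lift U.ι h hh
  have hsq : s ≫ q = U.ι := pullback.lift_fst _ _ _
  haveI : LocallyOfFiniteType q := inferInstanceAs (LocallyOfFiniteType (pullback.fst pX pY))
  haveI : IsSeparated q := inferInstanceAs (IsSeparated (pullback.fst pX pY))
  obtain ⟨W₀, hxW₀, hW₀⟩ := hX (q z)
  let x₀ : W₀.toScheme := ⟨q z, hxW₀⟩
  haveI : IsDomain (X.presheaf.stalk (q z)) :=
    ((W₀.stalkIso x₀).commRingCatIsoToRingEquiv.symm.toMulEquiv).isDomain (W₀.toScheme.presheaf.stalk x₀)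
  haveI : X.IsGermInjectiveAt (q z) :=
    (AlgebraicGeometry.isGermInjectiveAt_iff_of_isOpenImmersion (f := W₀.ι) (x := x₀)).mpr inferInstance
  haveI := hx
  let eU := IsOpenImmersion.lift U.ι (Groth.Agent.SectionExt.genMap X (q z)) (by
    rw [Scheme.Opens.range_ι]; exact Groth.Agent.SectionExt.range_genMap_subset (q z) U hU)
  have heU : eU ≫ U.ι = Groth.Agent.SectionExt.genMap X (q z) := IsOpenImmersion.lift_fac _ _ _
  let K := FractionRing (X.presheaf.stalk (q z))
  have hsp : (eU ≫ s) (IsLocalRing.closedPoint K) ⤳ z := by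
    obtain ⟨V, hxV, -, -, hV⟩ := Groth.Agent.SectionExt.exists_integral_nhd (q z) ⊤ trivial
    refine specializes_iff_forall_open.mpr fun O hO hzO ↦ ?_
    obtain ⟨_, ⟨hpO, hpV⟩, p, rfl⟩ := mem_closure_iff.mp hzΓ (O ∩ q ⁻¹' (V : Set X))
      (hO.inter (V.isOpen.preimage q.continuous)) ⟨hzO, hxV⟩
    have hpV' : U.ι p ∈ V := by
      have : q (s p) = U.ι p := (Scheme.Hom.comp_apply _ _ _).symm.trans (congr($hsq p))
      exact this ▸ hpV
    let O' : X.Opens := U.ι ''ᵁ ⟨s ⁻¹' O, hO.preimage s.continuous⟩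
    obtain ⟨r, hr, hre⟩ := hV O' ⟨U.ι p, ⟨p, hpO, rfl⟩, hpV'⟩ ⟨IsLocalRing.closedPoint K, rfl⟩
    have : r = eU (IsLocalRing.closedPoint K) := U.ι.isOpenEmbedding.injective
      (hre.trans ((congr($heU.symm _)).trans (Scheme.Hom.comp_apply _ _ _)))
    show (eU ≫ s) _ ∈ O
    rw [show (eU ≫ s) (IsLocalRing.closedPoint K) = s r from (Scheme.Hom.comp_apply _ _ _).trans (congrArg s this.symm)]
    exact hr
  -- the closure of the graph
  let C : TopologicalSpace.Closeds ↥(pullback pX pY) := ⟨closure (Set.range s), isClosed_closure⟩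
  let i := (Scheme.IdealSheafData.vanishingIdeal C).subschemeι
  have hri : Set.range i = closure (Set.range s) := Groth.Agent.DvrDom.range_vanishingIdeal_subschemeι C
  obtain ⟨z₁, rfl⟩ : z ∈ Set.range i := hri ▸ hzΓ
  have hemb : Topology.IsEmbedding i := i.isClosedEmbedding.isEmbedding
  let g₁ := i ≫ q
  haveI : LocallyOfFiniteType g₁ := inferInstanceAs (LocallyOfFiniteType (i ≫ q))
  have hqf : g₁.QuasiFiniteAt z₁ := by
    rw [Scheme.Hom.quasiFiniteAt_iff_isOpen_singleton_asFiber]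
    obtain ⟨W, hW⟩ := hiso
    have hι := (g₁.fiberι (g₁ z₁)).isEmbedding
    have hpt : g₁.fiberι (g₁ z₁) (g₁.asFiber z₁) = z₁ := g₁.fiberι_asFiber z₁
    convert (W.isOpen.preimage (i.continuous.comp (g₁.fiberι (g₁ z₁)).continuous)) using 1
    ext w
    have hw : g₁ (g₁.fiberι (g₁ z₁) w) = g₁ z₁ := by
      have : g₁.fiberι (g₁ z₁) w ∈ Set.range (g₁.fiberι (g₁ z₁)) := ⟨w, rfl⟩
      rw [g₁.range_fiberι] at this
      exact this
    constructor
    · rintro rfl
      show i (g₁.fiberι (g₁ z₁) (g₁.asFiber z₁)) ∈ W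
      rw [hpt]
      exact (hW.ge (Set.mem_singleton (i z₁))).1.1
    · intro hwW
      refine hι.injective (hemb.injective ?_)
      rw [hpt]
      have hmem : i (g₁.fiberι (g₁ z₁) w) ∈ ((W : Set ↥(pullback pX pY)) ∩ closure (Set.range s) ∩ q ⁻¹' {q (i z₁)}) :=
        ⟨⟨hwW, hri ▸ ⟨_, rfl⟩⟩, (Scheme.Hom.comp_apply _ _ _).symm.trans (hw.trans (Scheme.Hom.comp_apply _ _ _))⟩
      exact hW.subset hmem
  let Wq := g₁.quasiFiniteLocus
  let zw : Wq.toScheme := ⟨z₁, hqf⟩
  let j := (Wq.ι ≫ i) ≫ q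
  haveI : LocallyQuasiFinite j := by
    show LocallyQuasiFinite ((Wq.ι ≫ i) ≫ q)
    rw [Category.assoc]
    exact inferInstanceAs (LocallyQuasiFinite (g₁.quasiFiniteLocus.ι ≫ g₁))
  haveI : LocallyOfFiniteType j := inferInstanceAs (LocallyOfFiniteType ((Wq.ι ≫ i) ≫ q))
  -- the generic point of the graph inside the quasi-finite locus
  obtain ⟨z', hz'⟩ : (eU ≫ s) (IsLocalRing.closedPoint K) ∈ Set.range i :=
    hri ▸ subset_closure ⟨_, (Scheme.Hom.comp_apply _ _ _).symm⟩
  have hz'W : z' ∈ Wq := (hemb.isInducing.specializes_iff.mp (hz' ▸ hsp)).mem_open Wq.isOpen hqf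
  let ki := Wq.ι ≫ i
  haveI : IsPreimmersion ki := inferInstanceAs (IsPreimmersion (Wq.ι ≫ i))
  let zp : Wq.toScheme := ⟨z', hz'W⟩
  have hb : Function.Bijective (ki.residueFieldMap zp).hom := by
    refine ⟨(ki.residueFieldMap zp).hom.injective, fun a ↦ ?_⟩
    obtain ⟨a, rfl⟩ := Wq.toScheme.residue_surjective _ a
    obtain ⟨b, rfl⟩ := (ki.stalkMap_surjective zp) a
    exact ⟨(pullback pX pY).residue _ b, congr($(Scheme.residue_residueFieldMap ki zp).hom b)⟩
  obtain ⟨t, ht, htc⟩ := Groth.Agent.DvrDom.exists_lift_of_bijective ki zp hb (eU ≫ s)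
    hz'.symm
  have hsp' : t (IsLocalRing.closedPoint K) ⤳ zw := by
    rw [htc]
    refine Wq.ι.isOpenEmbedding.isInducing.specializes_iff.mp (hemb.isInducing.specializes_iff.mp ?_)
    show i z' ⤳ i z₁
    rw [hz']
    exact hsp
  have htq : t ≫ j = Groth.Agent.SectionExt.genMap X (q (i z₁)) := by
    show t ≫ ki ≫ q = _
    rw [reassoc_of% ht, hsq, heU]
  haveI : IsDomain (X.presheaf.stalk (j zw)) := ‹IsDomain (X.presheaf.stalk (q (i z₁)))›
  haveI : IsIntegrallyClosed (X.presheaf.stalk (j zw)) := ‹IsIntegrallyClosed (X.presheaf.stalk (q (i z₁)))›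
  obtain ⟨τ', hτ', hτ'h⟩ := Groth.Agent.SectionExt.exists_tau' j zw t htq hsp'
  let τ : (pullback pX pY).presheaf.stalk (i z₁) →+* K := τ'.comp (ki.stalkMap zw).hom
  have hτ : τ.comp (q.stalkMap (i z₁)).hom = algebraMap _ _ := by
    refine RingHom.ext fun a ↦ ?_
    have := RingHom.congr_fun hτ' a
    refine Eq.trans ?_ this
    show τ' ((ki.stalkMap zw).hom ((q.stalkMap (i z₁)).hom a)) = τ' (((ki ≫ q).stalkMap zw).hom a)
    exact congrArg τ' (congr($((Scheme.Hom.stalkMap_comp ki q zw).symm).hom a))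
  have hτh : Spec.map (CommRingCat.ofHom τ) ≫ (pullback pX pY).fromSpecStalk (i z₁) = eU ≫ s := by
    rw [← ht, ← hτ'h]
    exact ((congrArg (· ≫ (pullback pX pY).fromSpecStalk (i z₁)) (Spec.map_comp (ki.stalkMap zw) (CommRingCat.ofHom τ'))).trans
      ((Category.assoc _ _ _).trans (congrArg (_ ≫ ·) (Scheme.SpecMap_stalkMap_fromSpecStalk ki)))).trans
      (Category.assoc _ _ _).symm
  have hr : τ.range ≤ (algebraMap (X.presheaf.stalk (q (i z₁))) (FractionRing (X.presheaf.stalk (q (i z₁))))).range := by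
    rintro _ ⟨b, rfl⟩
    exact Groth.Agent.SectionExt.range_le_of_locallyQuasiFinite j zw τ' hτ' ⟨_, rfl⟩
  obtain ⟨σ, hσ, hσK, hσl⟩ := Groth.Agent.SectionExt.exists_retraction (q.stalkMap (i z₁)).hom
    (algebraMap _ K) (IsFractionRing.injective _ K) τ hτ hr
  haveI := hσl
  obtain ⟨V, hUV, hxV, v, hvq, hvU, -⟩ := Groth.Agent.SectionExt.exists_extension q U hU s hsq (i z₁) σ hσ eU heU
    (by rw [hσK]; exact hτh) ⊤ trivial ⊤ trivial (fun _ _ ↦ trivial)
  refine ⟨V, v ≫ pullback.snd pX pY, hxV, ?_, ?_⟩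
  · rw [Category.assoc, ← pullback.condition, ← Category.assoc]
    exact congrArg (· ≫ pX) hvq
  · have : X.homOfLE (inf_le_right : U ⊓ V ≤ V) = X.homOfLE (inf_le_left : U ⊓ V ≤ U) ≫ X.homOfLE hUV :=
      (X.homOfLE_homOfLE _ _).symm
    rw [this, Category.assoc, reassoc_of% hvU]
    exact congrArg (_ ≫ ·) (pullback.lift_snd _ _ _)

end Groth.Agent.S3836
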