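import Groth.Statements.S3837
import Groth.Agent.S3836

set_option autoImplicit false
universe u
open CategoryTheory CategoryTheory.Limits AlgebraicGeometry TopologicalSpace
open Rat20

namespace Groth.Agent.S3837

/-- Let X be a normal S-scheme (locally integral with integrally closed local rings), Y an S-scheme
locally of finite type and separated over S, h : U → Y an S-morphism on a dense open subset (a
rational S-map ω), and f : X' → X a morphism locally of finite type and universally open with X'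
reduced, so that f⁻¹(U) is dense and ω ∘ f is defined. Then for x' in X' with image x, ω is defined
at x if and only if ω ∘ f is defined at x': some S-morphism on an open neighbourhood of x agrees
with h on U if and only if some S-morphism on an open neighbourhood of x' agrees with h ∘ f on the
preimage of U. -/
theorem result {X X' Y S : Scheme.{u}} (pX : X ⟶ S) (pY : Y ⟶ S)
    [LocallyOfFiniteType pY] [IsSeparated pY] (hX : ∀ y : ↥X, ∃ W : X.Opens, y ∈ W ∧ IsIntegral (W : Scheme.{u}))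
    (hXn : ∀ y : ↥X, IsIntegrallyClosed (X.presheaf.stalk y))
    (U : X.Opens) (hU : Dense (U : Set ↥X)) (h : (U : Scheme.{u}) ⟶ Y) (hh : h ≫ pY = U.ι ≫ pX)
    (f : X' ⟶ X) [LocallyOfFiniteType f] [UniversallyOpen f] [IsReduced X'] (x' : ↥X') :
    (∃ (V : X.Opens) (v : (V : Scheme.{u}) ⟶ Y), f x' ∈ V ∧ v ≫ pY = V.ι ≫ pX ∧
        X.homOfLE (inf_le_right : U ⊓ V ≤ V) ≫ v = X.homOfLE (inf_le_left : U ⊓ V ≤ U) ≫ h) ↔
      ∃ (V' : X'.Opens) (v' : (V' : Scheme.{u}) ⟶ Y), x' ∈ V' ∧ v' ≫ pY = V'.ι ≫ f ≫ pX ∧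
        X'.homOfLE (inf_le_right : f ⁻¹ᵁ U ⊓ V' ≤ V') ≫ v' =
          X'.homOfLE (inf_le_left : f ⁻¹ᵁ U ⊓ V' ≤ f ⁻¹ᵁ U) ≫ (f ∣_ U) ≫ h := by
  classical
  constructor
  · rintro ⟨V, v, hxV, hv, hvU⟩
    refine ⟨f ⁻¹ᵁ V, (f ∣_ V) ≫ v, hxV, ?_, ?_⟩
    · rw [Category.assoc, hv, morphismRestrict_ι_assoc]
    · let l := IsOpenImmersion.lift (U ⊓ V).ι ((f ⁻¹ᵁ U ⊓ f ⁻¹ᵁ V).ι ≫ f) (by
        rintro _ ⟨p, rfl⟩
        rw [Scheme.Opens.range_ι]
        exact p.2)
      have hl : l ≫ (U ⊓ V).ι = (f ⁻¹ᵁ U ⊓ f ⁻¹ᵁ V).ι ≫ f := IsOpenImmersion.lift_fac _ _ _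
      have e1 : X'.homOfLE (inf_le_right : f ⁻¹ᵁ U ⊓ f ⁻¹ᵁ V ≤ f ⁻¹ᵁ V) ≫ (f ∣_ V) =
          l ≫ X.homOfLE (inf_le_right : U ⊓ V ≤ V) := by
        rw [← cancel_mono V.ι, Category.assoc, Category.assoc, morphismRestrict_ι, Scheme.homOfLE_ι,
          Scheme.homOfLE_ι_assoc, hl]
      have e2 : X'.homOfLE (inf_le_left : f ⁻¹ᵁ U ⊓ f ⁻¹ᵁ V ≤ f ⁻¹ᵁ U) ≫ (f ∣_ U) =
          l ≫ X.homOfLE (inf_le_left : U ⊓ V ≤ U) := by
        rw [← cancel_mono U.ι, Category.assoc, Category.assoc, morphismRestrict_ι, Scheme.homOfLE_ι,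
          Scheme.homOfLE_ι_assoc, hl]
      rw [reassoc_of% e1, reassoc_of% e2, hvU]
  · rintro ⟨V', v', hx'V, hv', hv'U⟩
    let q := pullback.fst pX pY
    let s := pullback.lift U.ι h hh.symm
    have hsq : s ≫ q = U.ι := pullback.lift_fst _ _ _
    haveI : IsSeparated q := inferInstanceAs (IsSeparated (pullback.fst pX pY))
    let b := pullback.fst f q
    let a := pullback.snd f q
    haveI : IsSeparated b := inferInstanceAs (IsSeparated (pullback.fst f q))
    haveI : UniversallyOpen a := inferInstanceAs (UniversallyOpen (pullback.snd f q))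
    have ha : IsOpenMap a := a.isOpenMap
    let s' := pullback.lift (f ⁻¹ᵁ U).ι ((f ∣_ U) ≫ s) (by
      rw [Category.assoc, hsq, morphismRestrict_ι])
    let v'' := pullback.lift V'.ι (pullback.lift (V'.ι ≫ f) v' (by rw [hv', Category.assoc]))
      (pullback.lift_fst _ _ _).symm
    have hs'b : s' ≫ b = (f ⁻¹ᵁ U).ι := pullback.lift_fst _ _ _
    have hs'a : s' ≫ a = (f ∣_ U) ≫ s := pullback.lift_snd _ _ _
    have hv''b : v'' ≫ b = V'.ι := pullback.lift_fst _ _ _
    have hv''q : v'' ≫ a ≫ pullback.fst pX pY = V'.ι ≫ f :=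
      (Category.assoc _ _ _).symm.trans ((congrArg (· ≫ _) (pullback.lift_snd _ _ _)).trans (pullback.lift_fst _ _ _))
    have hv''Y : v'' ≫ a ≫ pullback.snd pX pY = v' :=
      (Category.assoc _ _ _).symm.trans ((congrArg (· ≫ _) (pullback.lift_snd _ _ _)).trans (pullback.lift_snd _ _ _))
    have hsY : s ≫ pullback.snd pX pY = h := pullback.lift_snd _ _ _
    have hs'v : ∀ p : ↥(pullback f q), p ∈ closure (Set.range s') → b p ∈ V' → p ∈ Set.range v'' := by
      intro p hp hpV
      let B := b ⁻¹ᵁ V'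
      let vv := IsOpenImmersion.lift B.ι v'' (by
        rintro _ ⟨r, rfl⟩
        rw [Scheme.Opens.range_ι]
        show b (v'' r) ∈ V'
        have : b (v'' r) = V'.ι r :=
          (Scheme.Hom.comp_apply _ _ _).symm.trans (congr($(pullback.lift_fst (f := f) (g := q) _ _ _) r))
        exact this ▸ r.2)
      have hvv : vv ≫ B.ι = v'' := IsOpenImmersion.lift_fac _ _ _
      haveI : IsClosedImmersion (vv ≫ (b ∣_ V')) := by
        have : vv ≫ (b ∣_ V') = 𝟙 _ := by
          rw [← cancel_mono V'.ι, Category.assoc, morphismRestrict_ι, reassoc_of% hvv, Category.id_comp]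
          exact pullback.lift_fst _ _ _
        rw [this]; infer_instance
      haveI : IsSeparated (b ∣_ V') := IsZariskiLocalAtTarget.restrict ‹IsSeparated b› V'
      haveI : IsClosedImmersion vv := IsClosedImmersion.of_comp vv (b ∣_ V')
      let pB : B.toScheme := ⟨p, hpV⟩
      have : pB ∈ closure (Set.range vv) := by
        rw [B.ι.isOpenEmbedding.isInducing.closure_eq_preimage_closure_image]
        show p ∈ closure (B.ι '' Set.range vv)
        refine closure_mono ?_ (B.isOpen.inter_closure ⟨hpV, hp⟩)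
        rintro _ ⟨hwB, r, rfl⟩
        have hrV : (f ⁻¹ᵁ U).ι r ∈ V' := by
          have : b (s' r) = (f ⁻¹ᵁ U).ι r :=
            (Scheme.Hom.comp_apply _ _ _).symm.trans (congr($(pullback.lift_fst (f := f) (g := q) _ _ _) r))
          exact this ▸ hwB
        let r₀ : (f ⁻¹ᵁ U ⊓ V' : X'.Opens).toScheme := ⟨(f ⁻¹ᵁ U).ι r, r.2, hrV⟩
        have e : X'.homOfLE (inf_le_right : f ⁻¹ᵁ U ⊓ V' ≤ V') ≫ v'' =
            X'.homOfLE (inf_le_left : f ⁻¹ᵁ U ⊓ V' ≤ f ⁻¹ᵁ U) ≫ s' := by
          refine pullback.hom_ext ?_ ?_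
          · show (_ ≫ v'') ≫ b = (_ ≫ s') ≫ b
            rw [Category.assoc, Category.assoc, hv''b, hs'b, Scheme.homOfLE_ι, Scheme.homOfLE_ι]
          · show (_ ≫ v'') ≫ a = (_ ≫ s') ≫ a
            refine pullback.hom_ext ?_ ?_
            · simp only [Category.assoc]
              rw [hv''q, reassoc_of% hs'a, show s ≫ pullback.fst pX pY = U.ι from hsq, morphismRestrict_ι,
                Scheme.homOfLE_ι_assoc, Scheme.homOfLE_ι_assoc]
            · simp only [Category.assoc]
              rw [hv''Y, reassoc_of% hs'a, hsY]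
              exact hv'U
        have hr : X'.homOfLE (inf_le_left : f ⁻¹ᵁ U ⊓ V' ≤ f ⁻¹ᵁ U) r₀ = r :=
          (f ⁻¹ᵁ U).ι.isOpenEmbedding.injective
            ((Scheme.Hom.comp_apply _ _ _).symm.trans (congr($(Scheme.homOfLE_ι _ _) r₀)))
        refine ⟨vv (X'.homOfLE (inf_le_right : f ⁻¹ᵁ U ⊓ V' ≤ V') r₀), ⟨_, rfl⟩, ?_⟩
        refine (Scheme.Hom.comp_apply _ _ _).symm.trans ((congr($hvv _)).trans ?_)
        refine (Scheme.Hom.comp_apply _ _ _).symm.trans ((congr($e r₀)).trans ?_)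
        exact (Scheme.Hom.comp_apply _ _ _).trans (congrArg s' hr)
      rw [vv.isClosedEmbedding.isClosed_range.closure_eq] at this
      obtain ⟨r, hr⟩ := this
      exact ⟨r, (congr($hvv.symm r)).trans ((Scheme.Hom.comp_apply _ _ _).trans (congrArg B.ι hr))⟩
    let x₁ : V'.toScheme := ⟨x', hx'V⟩
    have huniq : ∀ z ∈ closure (Set.range s), q z = f x' → z = a (v'' x₁) := by
      intro z hz hqz
      obtain ⟨p, hp1, hp2⟩ := Scheme.Pullback.exists_preimage_pullback (f := f) (g := q) x' z hqz.symm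
      have hpc : p ∈ closure (Set.range s') := by
        have hp : p ∈ a ⁻¹' closure (Set.range s) := show a p ∈ _ from hp2.symm ▸ hz
        rw [ha.preimage_closure_eq_closure_preimage a.continuous] at hp
        refine closure_mono ?_ hp
        rw [← Scheme.Pullback.range_fst]
        rintro _ ⟨w, rfl⟩
        let m := IsOpenImmersion.lift (f ⁻¹ᵁ U).ι (pullback.fst a s ≫ b) (by
          rintro _ ⟨w', rfl⟩
          rw [Scheme.Opens.range_ι]
          show f ((pullback.fst a s ≫ b) w') ∈ U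
          have : (pullback.fst a s ≫ b) ≫ f = pullback.snd a s ≫ U.ι := by
            rw [Category.assoc, pullback.condition, ← Category.assoc, pullback.condition, Category.assoc, hsq]
          rw [show f ((pullback.fst a s ≫ b) w') = ((pullback.fst a s ≫ b) ≫ f) w' from (Scheme.Hom.comp_apply _ _ _).symm,
            this]
          exact (pullback.snd a s w').2)
        have hm : m ≫ (f ⁻¹ᵁ U).ι = pullback.fst a s ≫ b := IsOpenImmersion.lift_fac _ _ _
        have hms : m ≫ (f ∣_ U) = pullback.snd a s := by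
          rw [← cancel_mono U.ι, Category.assoc, morphismRestrict_ι, reassoc_of% hm, pullback.condition,
            ← Category.assoc, pullback.condition, Category.assoc, hsq]
        have : pullback.fst a s = m ≫ s' := by
          refine pullback.hom_ext ?_ ?_
          · rw [Category.assoc, pullback.lift_fst, hm]
          · rw [Category.assoc, pullback.lift_snd, reassoc_of% hms]
            exact pullback.condition
        exact ⟨m w, (Scheme.Hom.comp_apply _ _ _).symm.trans (congr($this.symm w))⟩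
      obtain ⟨r, hr⟩ := hs'v p hpc (show b p ∈ V' from hp1.symm ▸ hx'V)
      have : r = x₁ := V'.ι.isOpenEmbedding.injective
        ((((congr($(pullback.lift_fst (f := f) (g := q) _ _ _) r))).symm.trans (Scheme.Hom.comp_apply _ _ _)).trans
          ((congrArg b hr).trans hp1))
      rw [← hp2, ← hr, this]
    have hqz₀ : q (a (v'' x₁)) = f x' := by
      have : (v'' ≫ a) ≫ q = V'.ι ≫ f := by
        rw [pullback.lift_snd, pullback.lift_fst]
      exact ((Scheme.Hom.comp_apply _ _ _).trans (congrArg q (Scheme.Hom.comp_apply _ _ _))).symm.trans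
        ((congr($this x₁)).trans (Scheme.Hom.comp_apply _ _ _))
    have hz₀ : a (v'' x₁) ∈ closure (Set.range s) := by
      have hdU : Dense ((f ⁻¹ᵁ U : X'.Opens) : Set X') := hU.preimage f.isOpenMap
      have hx₁ : x₁ ∈ closure (V'.ι ⁻¹' ((f ⁻¹ᵁ U : X'.Opens) : Set X')) :=
        (hdU.preimage V'.ι.isOpenEmbedding.isOpenMap) x₁
      refine map_mem_closure (f := fun r ↦ a (v'' r)) (a.continuous.comp v''.continuous) hx₁ fun r hr ↦ ?_
      let r₀ : (f ⁻¹ᵁ U ⊓ V' : X'.Opens).toScheme := ⟨V'.ι r, hr, r.2⟩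
      have hr0 : X'.homOfLE (inf_le_right : f ⁻¹ᵁ U ⊓ V' ≤ V') r₀ = r :=
        V'.ι.isOpenEmbedding.injective
          ((Scheme.Hom.comp_apply _ _ _).symm.trans (congr($(Scheme.homOfLE_ι _ _) r₀)))
      have e : (X'.homOfLE (inf_le_right : f ⁻¹ᵁ U ⊓ V' ≤ V') ≫ v'') ≫ a =
          (X'.homOfLE (inf_le_left : f ⁻¹ᵁ U ⊓ V' ≤ f ⁻¹ᵁ U) ≫ (f ∣_ U)) ≫ s := by
        refine pullback.hom_ext ?_ ?_
        · simp only [Category.assoc]
          rw [hv''q, show s ≫ pullback.fst pX pY = U.ι from hsq, morphismRestrict_ι,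
            Scheme.homOfLE_ι_assoc, Scheme.homOfLE_ι_assoc]
        · simp only [Category.assoc]
          rw [hv''Y, hsY]
          exact hv'U
      refine ⟨(X'.homOfLE (inf_le_left : f ⁻¹ᵁ U ⊓ V' ≤ f ⁻¹ᵁ U) ≫ (f ∣_ U)) r₀, ?_⟩
      refine (Scheme.Hom.comp_apply _ _ _).symm.trans ((congr($e.symm r₀)).trans ?_)
      rw [Scheme.Hom.comp_apply, Scheme.Hom.comp_apply, hr0]
    obtain ⟨V, v, hxV, hv, hvU⟩ := Groth.Agent.S3836.result pX pY hX U hU h hh.symm (f x') (hXn _)
      (a (v'' x₁)) hqz₀ hz₀ ⟨⊤, by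
        ext z
        constructor
        · rintro ⟨⟨-, hz⟩, hq⟩
          exact huniq z hz hq
        · rintro rfl
          exact ⟨⟨trivial, hz₀⟩, hqz₀⟩⟩
    exact ⟨V, v, hxV, hv, hvU⟩

end Groth.Agent.S3837
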