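import Groth.Statements.S3839
import Groth.Agent.DivDesc.Normal

set_option autoImplicit false
universe u
open CategoryTheory CategoryTheory.Limits AlgebraicGeometry TopologicalSpace
open Div21

namespace Groth.Agent.S3839

/-- Case of effective divisors: let f : X → Y be a faithfully flat morphism between locally Noetherian
schemes, with f quasi-compact or open; assume Y is normal and that the fibre X_y is integral
whenever y is a point of Y whose local ring has dimension 1. An effective Cartier divisor D' on X
with ideal sheaf 𝓙 is then the pullback of some effective Cartier divisor on Y if and only if, at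
each maximal point η of Y, the pullback of D' to the fibre X_η is zero (its ideal is the unit
ideal). -/
theorem result {X Y : Scheme.{u}} [IsLocallyNoetherian X]
    [IsLocallyNoetherian Y] (f : X ⟶ Y) [Flat f] [Surjective f] (hf : QuasiCompact f ∨ IsOpenMap f)
    (hY : Pi1.IsNormalScheme Y)
    (hfib : ∀ y : ↥Y, ringKrullDim ↑(Y.presheaf.stalk y) = 1 → IsIntegral (f.fiber y))
    (𝓙 : X.IdealSheafData) (hJ : BlowUp.IsEffCartierIdeal 𝓙) :
    (∃ 𝓘 : Y.IdealSheafData, BlowUp.IsEffCartierIdeal 𝓘 ∧ 𝓘.comap f = 𝓙) ↔
      ∀ η : ↥Y, (∀ z : ↥Y, z ⤳ η → z = η) → 𝓙.comap (f.fiberι η) = ⊤ := by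
  constructor
  · rintro ⟨𝓘, hI, rfl⟩ η hη
    rw [← Scheme.IdealSheafData.comap_comp]
    refine Groth.Agent.BlowUpLib.comap_eq_top 𝓘 _ fun w hw => ?_
    have h1 : (f.fiberι η ≫ f).base w = η := by
      have := f.range_fiberι η
      exact (this.subset ⟨w, rfl⟩ : f.fiberι η w ∈ f ⁻¹' {η})
    rw [h1] at hw
    exact Groth.Agent.BlowUpLib.notMem_support_of_maximalPt hI hη hw
  · intro H
    refine Groth.Agent.DivDesc.exists_descent f hf 𝓙 hJ fun U p hd => ?_
    refine Groth.Agent.DivDesc.exists_agree_of_dim_le_one f hY hfib 𝓙 hJ (fun x hx hxs => ?_) U p ?_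
    · obtain ⟨w, hw⟩ : x ∈ Set.range (f.fiberι (f x)) := by rw [f.range_fiberι]; exact rfl
      have h1 : w ∈ (𝓙.comap (f.fiberι (f x))).support := by
        rw [← SetLike.mem_coe, Scheme.IdealSheafData.support_comap]
        show f.fiberι (f x) w ∈ 𝓙.support
        rw [hw]; exact hxs
      rw [H _ hx, Scheme.IdealSheafData.support_top] at h1
      exact h1
    · haveI : IsDomain (Y.presheaf.stalk (U.2.fromSpec p)) := (hY _).1
      haveI : IsIntegrallyClosed (Y.presheaf.stalk (U.2.fromSpec p)) := (hY _).2
      by_contra hdim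
      exact absurd (le_trans (Groth.Agent.Catenary.two_le_depth_of_normal hdim) hd) (by norm_num)

end Groth.Agent.S3839
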