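import Groth.Statements.S3842
import Mathlib

set_option autoImplicit false
universe u
open CategoryTheory CategoryTheory.Limits AlgebraicGeometry TopologicalSpace
open Rat20

namespace Groth.Agent.S3842

/-- For the open subset U = X; the general case is the same statement over the open subscheme U: let f :
X' → X be a morphism of schemes with X' reduced, suppose the irreducible components of X form a
locally finite family and that every irreducible component of X' dominates an irreducible component
of X (the closure of its image is an irreducible component of X). Then for every schematically dense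
open subset V of X, the preimage f⁻¹(V) is schematically dense in X'. -/
theorem result {X X' : Scheme.{u}} (f : X' ⟶ X) [IsReduced X']
    (hfin : ∀ x : ↥X, ∃ W : X.Opens, x ∈ W ∧ {Z ∈ irreducibleComponents ↥X | (Z ∩ (W : Set ↥X)).Nonempty}.Finite)
    (hdom : ∀ Z' ∈ irreducibleComponents ↥X', closure (f '' Z') ∈ irreducibleComponents ↥X)
    (V : X.Opens) (hV : CInt.IsSchematicallyDense V) : CInt.IsSchematicallyDense (f ⁻¹ᵁ V) := by
  have hVd : ∀ W : X.Opens, (W : Set X).Nonempty → ∃ x, x ∈ W ∧ x ∈ V := by
    intro W ⟨w, hw⟩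
    by_contra hc
    push Not at hc
    have he : W ⊓ V = ⊥ := eq_bot_iff.2 fun x hx => (hc x hx.1 hx.2).elim
    haveI : Subsingleton Γ(X, W ⊓ V) := by rw [he]; infer_instance
    have h10 : (1 : Γ(X, W)) = 0 := hV W (Subsingleton.elim _ _)
    exact one_ne_zero (α := X.presheaf.stalk w) ((map_one (X.presheaf.germ W w hw).hom).symm.trans
      ((congrArg _ h10).trans (map_zero _)))
  have hgen : ∀ Z' ∈ irreducibleComponents ↥X', ∃ η, η ∈ Z' ∧ f η ∈ V ∧ IsGenericPoint η Z' := by
    intro Z' hZ'
    obtain ⟨η, hη⟩ := QuasiSober.sober hZ'.1 (isClosed_of_mem_irreducibleComponents Z' hZ')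
    refine ⟨η, hη.mem, ?_, hη⟩
    have hfη : IsGenericPoint (f η) (closure (f '' Z')) := hη.image f.continuous
    obtain ⟨W, hηW, hWfin⟩ := hfin (f η)
    let S : Set (Set X) := {C ∈ irreducibleComponents (X : Type u) | (C ∩ (W : Set X)).Nonempty} \ {closure (f '' Z')}
    have hS : S.Finite := hWfin.sdiff
    let O : X.Opens := ⟨(W : Set X) \ ⋃ C ∈ S, C,
      W.2.sdiff (hS.isClosed_biUnion fun C hC => isClosed_of_mem_irreducibleComponents C hC.1.1)⟩
    have hηO : f η ∈ O := by
      refine ⟨hηW, ?_⟩
      simp only [Set.mem_iUnion, not_exists]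
      intro C hC hηC
      have h1 : closure (f '' Z') ⊆ C := by
        rw [← hfη.def]
        exact closure_minimal (Set.singleton_subset_iff.2 hηC) (isClosed_of_mem_irreducibleComponents C hC.1.1)
      exact hC.2 (Set.mem_singleton_iff.2 (Set.Subset.antisymm ((hdom Z' hZ').2 hC.1.1.1 h1) h1))
    obtain ⟨x, hxO, hxV⟩ := hVd O ⟨_, hηO⟩
    refine (hfη.specializes ?_).mem_open V.2 hxV
    by_contra hx
    exact hxO.2 (Set.mem_biUnion (x := irreducibleComponent x)
      ⟨⟨irreducibleComponent_mem_irreducibleComponents x, x, mem_irreducibleComponent, hxO.1⟩,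
        fun h => hx (Set.mem_singleton_iff.1 h ▸ mem_irreducibleComponent)⟩ mem_irreducibleComponent)
  intro W s t hst
  rw [← sub_eq_zero, ← basicOpen_eq_bot_iff]
  rw [← sub_eq_zero, ← map_sub] at hst
  refine eq_bot_iff.2 fun x hx => ?_
  exfalso
  obtain ⟨η, -, hηV, hη⟩ := hgen _ (irreducibleComponent_mem_irreducibleComponents x)
  have hηb : η ∈ X'.basicOpen (s - t) :=
    (hη.specializes mem_irreducibleComponent).mem_open (X'.basicOpen (s - t)).2 hx
  have h2 : η ∈ X'.basicOpen (X'.presheaf.map (homOfLE (inf_le_left : W ⊓ f ⁻¹ᵁ V ≤ W)).op (s - t)) := by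
    rw [Scheme.basicOpen_res]
    exact ⟨⟨X'.basicOpen_le _ hηb, hηV⟩, hηb⟩
  rw [hst, Scheme.basicOpen_zero] at h2
  exact h2

end Groth.Agent.S3842
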