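import Groth.Statements.S3846
-- import your own Groth.Agent.* helpers here
import Groth.Agent.S3845
import Groth.Agent.UnibranchEtale.RationalSection

set_option autoImplicit false
universe u
open CategoryTheory CategoryTheory.Limits AlgebraicGeometry TopologicalSpace
open Unram17

namespace Groth.Agent.S3846

/-- a) iff b''): let f : X → Y be locally of finite presentation and x a point of X. Then f is
unramified on some open neighbourhood of x if and only if, for every base change g : Y' → Y and
every section s' of X ×_Y Y' → Y', s' is a local isomorphism at every point y' of Y' such that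
s'(y') lies over x. -/
theorem result {X Y : Scheme.{u}} (f : X ⟶ Y) [LocallyOfFinitePresentation f]
    (x : ↥X) :
    (∃ U : X.Opens, x ∈ U ∧ FormallyUnramified (U.ι ≫ f)) ↔
      ∀ (Y' : Scheme.{u}) (g : Y' ⟶ Y) (s' : Y' ⟶ pullback f g), s' ≫ pullback.snd f g = 𝟙 Y' →
        ∀ y' : ↥Y', pullback.fst f g (s' y') = x → SchLoc.IsLocalIsoAt s' y' := by
  constructor
  · rintro ⟨U, hxU, hU⟩ Y' g s' hs y' hy'
    haveI : LocallyOfFiniteType f := inferInstance
    let k := (pullback.fst f g ⁻¹ᵁ U).ι ≫ pullback.snd f g
    haveI : FormallyUnramified k := MorphismProperty.of_isPullback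
      ((isPullback_morphismRestrict (pullback.fst f g) U).paste_vert (IsPullback.of_hasPullback f g)) hU
    haveI : LocallyOfFiniteType k := inferInstance
    let W : Y'.Opens := s' ⁻¹ᵁ (pullback.fst f g ⁻¹ᵁ U)
    have hr : Set.range (W.ι ≫ s') ⊆ Set.range (pullback.fst f g ⁻¹ᵁ U).ι := by
      rw [Scheme.Opens.range_ι]
      rintro _ ⟨t, rfl⟩
      exact t.2
    let l := IsOpenImmersion.lift (pullback.fst f g ⁻¹ᵁ U).ι (W.ι ≫ s') hr
    have hl : l ≫ (pullback.fst f g ⁻¹ᵁ U).ι = W.ι ≫ s' := IsOpenImmersion.lift_fac _ _ _
    haveI : IsOpenImmersion l := UnibranchEtale.isOpenImmersion_of_section k W l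
      (by simp only [k]; rw [← Category.assoc, hl, Category.assoc, hs, Category.comp_id])
    refine ⟨W, ?_, ?_⟩
    · show pullback.fst f g (s' y') ∈ U
      rw [hy']
      exact hxU
    · rw [← hl]
      infer_instance
  · intro h
    refine (Groth.Agent.S3845.result f x).2 (h X f (pullback.diagonal f) (pullback.diagonal_snd f) x ?_)
    exact congr($(pullback.diagonal_fst f) x)

end Groth.Agent.S3846
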