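import Groth.Statements.S3848
import Groth.Agent.SectionExt.Setup
import Groth.Agent.SectionExt.Normal
import Groth.Agent.DvrDom.Scheme
import Groth.Agent.DvrDom.Valuative

set_option autoImplicit false
universe u
open CategoryTheory CategoryTheory.Limits AlgebraicGeometry TopologicalSpace
open Rat20

namespace Groth.Agent.S3848

/-- In the case S = X (valuative criterion for a rational map to be defined at a point): let X be a
locally Noetherian scheme, q : Y → X a morphism locally of finite type, U a dense open subset of X,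
h : U → Y a section of q over U, x a point of X outside U whose local ring is an integrally closed
domain, and y₀ a point of Y over x with trivial residue field extension (an X-morphism Spec k(x) →
Y). Then h extends to a section h' of q over an open subset U' containing U and x with h'(x) = y₀ if
and only if: for every discrete valuation ring R and every morphism u : Spec R → X sending the
closed point to x and the generic point into U, there is a morphism h₁ : Spec R → Y over X sending
the closed point to y₀ and agreeing with h at the generic point. -/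
theorem result {X Y : Scheme.{u}} [IsLocallyNoetherian X] (q : Y ⟶ X)
    [LocallyOfFiniteType q] (U : X.Opens) (hU : Dense (U : Set ↥X)) (h : (U : Scheme.{u}) ⟶ Y)
    (hh : h ≫ q = U.ι) (x : ↥X) (hxU : x ∉ U) [IsDomain ↑(X.presheaf.stalk x)]
    (hx : IsIntegrallyClosed ↑(X.presheaf.stalk x)) (y₀ : ↥Y) (hy₀ : q y₀ = x)
    (hk : Function.Bijective (q.residueFieldMap y₀)) :
    (∃ (U' : X.Opens) (hUU' : U ≤ U') (hxU' : x ∈ U') (h' : (U' : Scheme.{u}) ⟶ Y),
        h' ≫ q = U'.ι ∧ X.homOfLE hUU' ≫ h' = h ∧ h' ⟨x, hxU'⟩ = y₀) ↔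
      ∀ (R : Type u) [CommRing R] [IsDomain R] [IsDiscreteValuationRing R]
        (u : Spec (CommRingCat.of R) ⟶ X), u (IsLocalRing.closedPoint R) = x →
        ∀ ub : Spec (CommRingCat.of (FractionRing R)) ⟶ (U : Scheme.{u}),
          ub ≫ U.ι = Spec.map (CommRingCat.ofHom (algebraMap R (FractionRing R))) ≫ u →
          ∃ h₁ : Spec (CommRingCat.of R) ⟶ Y, h₁ ≫ q = u ∧ h₁ (IsLocalRing.closedPoint R) = y₀ ∧
            Spec.map (CommRingCat.ofHom (algebraMap R (FractionRing R))) ≫ h₁ = ub ≫ h := by
  classical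
  subst hy₀
  haveI := hx
  let A := X.presheaf.stalk (q y₀)
  let K := FractionRing A
  have hrange := Groth.Agent.SectionExt.range_genMap_subset (q y₀) U hU
  let eU := IsOpenImmersion.lift U.ι (Groth.Agent.SectionExt.genMap X (q y₀)) (by
    rw [Scheme.Opens.range_ι]; exact hrange)
  have heU : eU ≫ U.ι = Groth.Agent.SectionExt.genMap X (q y₀) := IsOpenImmersion.lift_fac _ _ _
  have hA : ¬ IsField A := fun hF ↦ by
    refine hxU ?_
    have : Groth.Agent.SectionExt.genMap X (q y₀) (IsLocalRing.closedPoint K) = q y₀ := by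
      refine (Scheme.Hom.comp_apply _ _ _).trans ((congrArg _ ?_).trans (X.fromSpecStalk_closedPoint))
      apply PrimeSpectrum.ext
      show (IsLocalRing.maximalIdeal K).comap (algebraMap A K) = IsLocalRing.maximalIdeal A
      rw [IsLocalRing.maximalIdeal_eq_bot, ← RingHom.ker_eq_comap_bot,
        IsLocalRing.isField_iff_maximalIdeal_eq.mp hF]
      exact (RingHom.injective_iff_ker_eq_bot _).mp (IsFractionRing.injective A K)
    exact this ▸ hrange ⟨_, rfl⟩
  constructor
  · rintro ⟨U', hUU', hxU', h', hh', hres, hpt⟩ R _ _ _ u hu ub hub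
    have hru : Set.range u ⊆ Set.range U'.ι := by
      rintro _ ⟨p, rfl⟩
      rw [Scheme.Opens.range_ι]
      refine ((IsLocalRing.specializes_closedPoint p).map u.continuous).mem_open U'.2 ?_
      exact (show u (IsLocalRing.closedPoint R) ∈ U' from hu.symm ▸ hxU')
    let l := IsOpenImmersion.lift U'.ι u hru
    have hl : l ≫ U'.ι = u := IsOpenImmersion.lift_fac _ _ _
    refine ⟨l ≫ h', by rw [Category.assoc, hh', hl], ?_, ?_⟩
    · refine (Scheme.Hom.comp_apply _ _ _).trans ((congrArg h' ?_).trans hpt)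
      apply U'.ι.isOpenEmbedding.injective
      exact ((Scheme.Hom.comp_apply _ _ _).symm.trans (congr($hl (IsLocalRing.closedPoint R)))).trans hu
    · rw [← hres, ← Category.assoc, ← Category.assoc]
      congr 1
      rw [← cancel_mono U'.ι, Category.assoc, Category.assoc, Scheme.homOfLE_ι, hl, hub]
  · intro H
    have mk : ∀ R : ValuationSubring K, IsDiscreteValuationRing R → (∀ a, algebraMap A K a ∈ R) →
        (∀ a ∈ IsLocalRing.maximalIdeal A, R.valuation (algebraMap A K a) < 1) →
        ∃ ψ : Y.presheaf.stalk y₀ ⟶ CommRingCat.of R,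
          Spec.map (CommRingCat.ofHom R.subtype) ≫ Spec.map ψ ≫ Y.fromSpecStalk y₀ = eU ≫ h ∧
          (Spec.map ψ ≫ Y.fromSpecStalk y₀) (IsLocalRing.closedPoint R) = y₀ := by
      intro R hR hmem hval
      let ρ : A →+* R := (algebraMap A K).codRestrict R.toSubring hmem
      haveI : IsLocalHom ρ := ⟨fun a ha ↦ by
        by_contra hu
        exact (hval a ((IsLocalRing.mem_maximalIdeal a).mpr hu)).ne ((R.valuation_eq_one_iff (ρ a)).mp ha)⟩
      obtain ⟨eR, heR, hcomp⟩ := Groth.Agent.DvrDom.exists_iso_fractionRing R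
      obtain ⟨h₁, -, hc, hgen⟩ := H R (Spec.map (CommRingCat.ofHom ρ) ≫ X.fromSpecStalk (q y₀))
        ((Scheme.Hom.comp_apply _ _ _).trans ((congrArg _ (IsLocalRing.comap_closedPoint ρ)).trans
          X.fromSpecStalk_closedPoint)) (eR ≫ eU) (by
        rw [Category.assoc, heU]
        show _ = Groth.Agent.DvrDom.genericMap R ≫ _
        rw [← hcomp, Category.assoc, ← Spec.map_comp_assoc]
        rfl)
      obtain ⟨ψ, hψ⟩ := Groth.Agent.SectionExt.exists_fac_fromSpecStalk h₁ hc
      refine ⟨ψ, ?_, by rw [hψ]; exact hc⟩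
      change Groth.Agent.DvrDom.genericMap R ≫ h₁ = _ at hgen
      rw [← hcomp, Category.assoc, Category.assoc, cancel_epi eR] at hgen
      rw [hψ, hgen]
    obtain ⟨R₀, hR₀, hmem₀, hval₀⟩ := Groth.Agent.DvrDom.exists_dvr_dominating A hA K
    obtain ⟨ψ₀, hψ₀, hc₀⟩ := mk R₀ hR₀ hmem₀ hval₀
    have hsp : (eU ≫ h) (IsLocalRing.closedPoint K) ⤳ y₀ := by
      rw [← hψ₀]
      refine (specializes_of_eq (Scheme.Hom.comp_apply _ _ _)).trans ?_
      exact ((IsLocalRing.specializes_closedPoint _).map (Spec.map ψ₀ ≫ Y.fromSpecStalk y₀).continuous).trans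
        (specializes_of_eq hc₀)
    obtain ⟨τ, hτ, hτh⟩ := Groth.Agent.SectionExt.exists_tau q U h hh y₀ eU heU hsp
    have hr : τ.range ≤ (algebraMap A K).range := by
      rintro _ ⟨b, rfl⟩
      refine Groth.Agent.SectionExt.mem_range_of_forall_dvr A K _ fun R hR hmem hval ↦ ?_
      obtain ⟨ψ, hψ, -⟩ := mk R hR hmem hval
      rw [← Category.assoc, ← Spec.map_comp, ← hτh, cancel_mono] at hψ
      have := congr($(Spec.map_injective hψ).hom b)
      exact this ▸ (ψ.hom b).2
    obtain ⟨σ, hσ, hσK, hσl⟩ := Groth.Agent.SectionExt.exists_retraction (q.stalkMap y₀).hom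
      (algebraMap A K) (IsFractionRing.injective A K) τ hτ hr
    obtain ⟨SW, hSW, hyW, -⟩ := Y.isBasis_affineOpens.exists_subset_of_mem_open (Set.mem_univ y₀) isOpen_univ
    obtain ⟨W, hW, rfl⟩ : ∃ V : Y.Opens, IsAffineOpen V ∧ (V : Set Y) = SW := hSW
    haveI : IsAffine W.toScheme := hW
    haveI : IsSeparated ((W.ι ≫ q) ≫ Limits.terminal.from X) := by
      rw [Limits.terminal.hom_ext ((W.ι ≫ q) ≫ Limits.terminal.from X) (Limits.terminal.from _)]
      infer_instance
    haveI : IsSeparated (W.ι ≫ q) := IsSeparated.of_comp _ (Limits.terminal.from X)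
    let Kc : Set X := ((U.ι ''ᵁ (h ⁻¹ᵁ W) : X.Opens) : Set X)ᶜ
    let C : Set X := (U : Set X) ∩ Kc
    have hxC : q y₀ ∉ closure C := fun hc ↦ by
      obtain ⟨p, ⟨hpU, hpK⟩, hpx⟩ := Groth.Agent.SectionExt.exists_specializes_of_mem_closure U
        (U.ι ''ᵁ (h ⁻¹ᵁ W)).isOpen.isClosed_compl hc
      haveI : LocallyOfFiniteType (𝟙 X) := inferInstance
      obtain ⟨Ru, g, hRu, hgc, hgg⟩ := Groth.Agent.DvrDom.exists_dvr_through (𝟙 X) p (q y₀) hpx
        (fun e ↦ hxU (e.symm ▸ hpU))
      rw [Category.comp_id] at hgg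
      obtain ⟨eR, heR, hcomp⟩ := Groth.Agent.DvrDom.exists_iso_fractionRing Ru
      let lp := IsOpenImmersion.lift U.ι (X.fromSpecResidueField p) (by
        rw [Scheme.range_fromSpecResidueField, Scheme.Opens.range_ι]
        exact Set.singleton_subset_iff.mpr hpU)
      have hlp : lp ≫ U.ι = X.fromSpecResidueField p := IsOpenImmersion.lift_fac _ _ _
      obtain ⟨h₁, -, hc₁, hgen⟩ := H Ru g hgc (eR ≫ lp) (by
        rw [Category.assoc, hlp]
        show _ = Groth.Agent.DvrDom.genericMap Ru ≫ _
        rw [← hcomp, Category.assoc, hgg])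
      have h3 : h ((eR ≫ lp) (IsLocalRing.closedPoint _)) ∈ W := by
        rw [show h ((eR ≫ lp) (IsLocalRing.closedPoint _)) = ((eR ≫ lp) ≫ h) (IsLocalRing.closedPoint _) from
          (Scheme.Hom.comp_apply _ _ _).symm, ← hgen]
        refine Specializes.mem_open ?_ W.isOpen hyW
        refine (specializes_of_eq (Scheme.Hom.comp_apply _ _ _)).trans ?_
        exact ((IsLocalRing.specializes_closedPoint _).map h₁.continuous).trans (specializes_of_eq hc₁)
      refine hpK ⟨_, h3, ?_⟩
      refine (Scheme.Hom.comp_apply _ _ _).symm.trans ?_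
      refine Eq.trans (congr($((Category.assoc eR lp U.ι).trans (congrArg (eR ≫ ·) hlp)) _)) ?_
      exact X.fromSpecResidueField_apply p _
    haveI := hσl
    obtain ⟨U', h1, h2, h', h3, h4, h5⟩ := Groth.Agent.SectionExt.exists_extension q U hU h hh y₀ σ hσ eU heU
      (by rw [hσK]; exact hτh) W hyW ⟨(closure C)ᶜ, isClosed_closure.isOpen_compl⟩ hxC (fun p hp ↦ by
        by_contra hpW
        refine hp (subset_closure ⟨p.2, ?_⟩)
        rintro ⟨p', hp', e⟩
        obtain rfl : p' = p := U.ι.isOpenEmbedding.injective e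
        exact hpW hp')
    exact ⟨U', h1, h2, h', h3, h4, h5⟩

end Groth.Agent.S3848
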