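import Groth.Statements.S3849
import Groth.Agent.SectionExt.Setup
import Groth.Agent.SectionExt.QuasiFinite
import Groth.Agent.DvrDom.Scheme
import Groth.Agent.DvrDom.Valuative

set_option autoImplicit false
universe u
open CategoryTheory CategoryTheory.Limits AlgebraicGeometry TopologicalSpace
open Rat20

namespace Groth.Agent.S3849

/-- In the case S = X (sections of q : Y → X): let X be a locally Noetherian scheme, q : Y → X
separated, locally of finite type and locally quasi-finite, U a dense open subset of X, h : U → Y a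
section of q over U, and x a point of X outside U whose local ring is an integrally closed domain.
Then h extends to a section of q over an open subset containing U and x if and only if there exist a
discrete valuation ring R, a morphism u : Spec R → X sending the closed point to x and the generic
point into U, and a morphism Spec R → Y over X agreeing with h at the generic point. -/
theorem result {X Y : Scheme.{u}} [IsLocallyNoetherian X] (q : Y ⟶ X)
    [LocallyOfFiniteType q] [IsSeparated q] [LocallyQuasiFinite q] (U : X.Opens) (hU : Dense (U : Set ↥X))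
    (h : (U : Scheme.{u}) ⟶ Y) (hh : h ≫ q = U.ι) (x : ↥X) (hxU : x ∉ U) [IsDomain ↑(X.presheaf.stalk x)]
    (hx : IsIntegrallyClosed ↑(X.presheaf.stalk x)) :
    (∃ (U' : X.Opens) (hUU' : U ≤ U') (h' : (U' : Scheme.{u}) ⟶ Y),
        x ∈ U' ∧ h' ≫ q = U'.ι ∧ X.homOfLE hUU' ≫ h' = h) ↔
      ∃ (R : Type u) (_ : CommRing R) (_ : IsDomain R) (_ : IsDiscreteValuationRing R)
        (u : Spec (CommRingCat.of R) ⟶ X) (ub : Spec (CommRingCat.of (FractionRing R)) ⟶ (U : Scheme.{u}))
        (h₁ : Spec (CommRingCat.of R) ⟶ Y),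
        u (IsLocalRing.closedPoint R) = x ∧
          ub ≫ U.ι = Spec.map (CommRingCat.ofHom (algebraMap R (FractionRing R))) ≫ u ∧
          h₁ ≫ q = u ∧ Spec.map (CommRingCat.ofHom (algebraMap R (FractionRing R))) ≫ h₁ = ub ≫ h := by
  classical
  haveI := hx
  let A := X.presheaf.stalk x
  let K := FractionRing A
  have hrange := Groth.Agent.SectionExt.range_genMap_subset x U hU
  let eU := IsOpenImmersion.lift U.ι (Groth.Agent.SectionExt.genMap X x) (by
    rw [Scheme.Opens.range_ι]; exact hrange)
  have heU : eU ≫ U.ι = Groth.Agent.SectionExt.genMap X x := IsOpenImmersion.lift_fac _ _ _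
  have hA : ¬ IsField A := fun hF ↦ by
    refine hxU ?_
    have : Groth.Agent.SectionExt.genMap X x (IsLocalRing.closedPoint K) = x := by
      refine (Scheme.Hom.comp_apply _ _ _).trans ((congrArg _ ?_).trans (X.fromSpecStalk_closedPoint))
      apply PrimeSpectrum.ext
      show (IsLocalRing.maximalIdeal K).comap (algebraMap A K) = IsLocalRing.maximalIdeal A
      rw [IsLocalRing.maximalIdeal_eq_bot, ← RingHom.ker_eq_comap_bot,
        IsLocalRing.isField_iff_maximalIdeal_eq.mp hF]
      exact (RingHom.injective_iff_ker_eq_bot _).mp (IsFractionRing.injective A K)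
    exact this ▸ hrange ⟨_, rfl⟩
  constructor
  · rintro ⟨U', hUU', h', hxU', hh', hres⟩
    obtain ⟨R, hR, hmem, hval⟩ := Groth.Agent.DvrDom.exists_dvr_dominating A hA K
    let ρ : A →+* R := (algebraMap A K).codRestrict R.toSubring hmem
    haveI : IsLocalHom ρ := ⟨fun a ha ↦ by
      by_contra hu
      exact (hval a ((IsLocalRing.mem_maximalIdeal a).mpr hu)).ne ((R.valuation_eq_one_iff (ρ a)).mp ha)⟩
    obtain ⟨eR, heR, hcomp⟩ := Groth.Agent.DvrDom.exists_iso_fractionRing R
    let u := Spec.map (CommRingCat.ofHom ρ) ≫ X.fromSpecStalk x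
    have hu : u (IsLocalRing.closedPoint R) = x := (Scheme.Hom.comp_apply _ _ _).trans
      ((congrArg _ (IsLocalRing.comap_closedPoint ρ)).trans X.fromSpecStalk_closedPoint)
    have hub : (eR ≫ eU) ≫ U.ι = Groth.Agent.DvrDom.genericMap R ≫ u := by
      rw [Category.assoc, heU, ← hcomp, Category.assoc, ← Spec.map_comp_assoc]
      rfl
    have hru : Set.range u ⊆ Set.range U'.ι := by
      rintro _ ⟨p, rfl⟩
      rw [Scheme.Opens.range_ι]
      refine ((IsLocalRing.specializes_closedPoint p).map u.continuous).mem_open U'.2 ?_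
      exact (show u (IsLocalRing.closedPoint R) ∈ U' from hu.symm ▸ hxU')
    let l := IsOpenImmersion.lift U'.ι u hru
    have hl : l ≫ U'.ι = u := IsOpenImmersion.lift_fac _ _ _
    refine ⟨R, inferInstance, inferInstance, hR, u, eR ≫ eU, l ≫ h', hu, hub,
      by rw [Category.assoc, hh', hl], ?_⟩
    show Groth.Agent.DvrDom.genericMap R ≫ _ = _
    rw [← hres, ← Category.assoc, ← Category.assoc (eR ≫ eU)]
    congr 1
    rw [← cancel_mono U'.ι, Category.assoc, Category.assoc, Scheme.homOfLE_ι, hl, hub]
  · rintro ⟨R, _, _, _, u, ub, h₁, hu, hub, hh₁, hgen⟩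
    obtain ⟨y₀, hy₀⟩ : ∃ y₀, h₁ (IsLocalRing.closedPoint R) = y₀ := ⟨_, rfl⟩
    have hqy : q y₀ = x := by
      rw [← hy₀, ← hu, ← hh₁]
      exact (Scheme.Hom.comp_apply _ _ _).symm
    subst hqy
    have hξ : eU (IsLocalRing.closedPoint K) ⤳ ub (IsLocalRing.closedPoint (FractionRing R)) := by
      rw [← U.ι.isOpenEmbedding.isInducing.specializes_iff]
      refine (specializes_of_eq ((Scheme.Hom.comp_apply _ _ _).symm.trans (congr($heU _)))).trans ?_
      have hu0 : U.ι (ub (IsLocalRing.closedPoint (FractionRing R))) ⤳ q y₀ := by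
        refine (specializes_of_eq ((Scheme.Hom.comp_apply _ _ _).symm.trans ((congr($hub _)).trans
          (Scheme.Hom.comp_apply _ _ _)))).trans ?_
        exact ((IsLocalRing.specializes_closedPoint _).map u.continuous).trans (specializes_of_eq hu)
      obtain ⟨P, hP⟩ : U.ι (ub (IsLocalRing.closedPoint (FractionRing R))) ∈ Set.range (X.fromSpecStalk (q y₀)) := by
        rw [Scheme.range_fromSpecStalk]; exact hu0
      refine (specializes_of_eq (Scheme.Hom.comp_apply _ _ _)).trans (Specializes.trans ?_ (specializes_of_eq hP))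
      refine Specializes.map ?_ (X.fromSpecStalk (q y₀)).continuous
      refine (PrimeSpectrum.le_iff_specializes _ _).mp ?_
      show (IsLocalRing.maximalIdeal K).comap (algebraMap A K) ≤ P.asIdeal
      rw [IsLocalRing.maximalIdeal_eq_bot, ← RingHom.ker_eq_comap_bot,
        (RingHom.injective_iff_ker_eq_bot _).mp (IsFractionRing.injective A K)]
      exact bot_le
    have hsp : (eU ≫ h) (IsLocalRing.closedPoint K) ⤳ y₀ := by
      refine (specializes_of_eq (Scheme.Hom.comp_apply _ _ _)).trans ((hξ.map h.continuous).trans ?_)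
      refine (specializes_of_eq ((Scheme.Hom.comp_apply _ _ _).symm.trans ((congr($hgen.symm _)).trans
        (Scheme.Hom.comp_apply _ _ _)))).trans ?_
      exact ((IsLocalRing.specializes_closedPoint _).map h₁.continuous).trans (specializes_of_eq hy₀)
    obtain ⟨τ, hτ, hτh⟩ := Groth.Agent.SectionExt.exists_tau q U h hh y₀ eU heU hsp
    obtain ⟨σ, hσ, hσK, hσl⟩ := Groth.Agent.SectionExt.exists_retraction (q.stalkMap y₀).hom
      (algebraMap A K) (IsFractionRing.injective A K) τ hτ
      (Groth.Agent.SectionExt.range_le_of_locallyQuasiFinite q y₀ τ hτ)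
    haveI := hσl
    obtain ⟨U', h1, h2, h', h3, h4, -⟩ := Groth.Agent.SectionExt.exists_extension q U hU h hh y₀ σ hσ eU heU
      (by rw [hσK]; exact hτh) ⊤ trivial ⊤ trivial (fun _ _ ↦ trivial)
    exact ⟨U', h1, h', h2, h3, h4⟩

end Groth.Agent.S3849
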