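import Groth.Statements.S3851
-- import your own Groth.Agent.* helpers here
import Groth.Agent.EGA418Base.Perfect
import Groth.Agent.EGA418Base.Compare
import Groth.Agent.EGA418Base.Quot
import Groth.Agent.EGA418Dim.GenericFree
import Groth.Agent.EGA418Dim.Criterion
import Groth.Agent.EGA418Dim.EtaleFree
import Groth.Agent.S5055
import Groth.Agent.S3847
import Groth.Agent.RegLoc.Order

set_option autoImplicit false
universe u
open scoped TensorProduct
open EGA418

namespace Groth.Agent.S3851

/-- a) iff a') iff b), and b) implies d): let k be a field, A a complete Noetherian local k-algebra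
whose residue field is finite over k, p a non-maximal prime of A, n the largest dimension of an
irreducible component of Spec A containing p, and Ω̂ the completion of the module of differentials
of A over k for the topology of the maximal ideal. For a field extension k' of k write A' = A ⊗̂_k
k' (the completion of A ⊗_k k' for the extension of the maximal ideal). The following are
equivalent: (a) for every extension k' and every prime p' of A' over p, A'_{p'} is regular; (a') for
some perfect extension k' and some prime p' of A' over p, A'_{p'} is regular; (b) Ω̂_p is a free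
A_p-module of rank n. Moreover (b) implies (d): A_p is geometrically regular over k. (The converse
of the last implication, valid when [k : k^p] is finite, is not stated.) -/
theorem result (k A : Type u) [Field k] [CommRing A]
    [IsLocalRing A] [IsNoetherianRing A] [Algebra k A] [IsAdicComplete (IsLocalRing.maximalIdeal A) A]
    [Module.Finite k (IsLocalRing.ResidueField A)] (p : Ideal A) [p.IsPrime] (hp : p ≠ IsLocalRing.maximalIdeal A)
    (n : ℕ) (hn₁ : ∀ q ∈ minimalPrimes A, q ≤ p → ringKrullDim (A ⧸ q) ≤ n)
    (hn₂ : ∃ q ∈ minimalPrimes A, q ≤ p ∧ ringKrullDim (A ⧸ q) = n) :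
    List.TFAE [
      ∀ (k' : Type u) [Field k'] [Algebra k k']
        (p' : Ideal (AdicCompletion ((IsLocalRing.maximalIdeal A).map
          (Algebra.TensorProduct.includeLeft : A →ₐ[k] A ⊗[k] k')) (A ⊗[k] k'))) [p'.IsPrime],
        (p'.comap (algebraMap (A ⊗[k] k') _)).comap
            (Algebra.TensorProduct.includeLeft : A →ₐ[k] A ⊗[k] k').toRingHom = p →
          IsRegularLocalRing (Localization.AtPrime p'),
      ∃ (k' : Type u) (_ : Field k') (_ : Algebra k k') (_ : PerfectField k')
        (p' : Ideal (AdicCompletion ((IsLocalRing.maximalIdeal A).map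
          (Algebra.TensorProduct.includeLeft : A →ₐ[k] A ⊗[k] k')) (A ⊗[k] k'))) (_ : p'.IsPrime),
        (p'.comap (algebraMap (A ⊗[k] k') _)).comap
            (Algebra.TensorProduct.includeLeft : A →ₐ[k] A ⊗[k] k').toRingHom = p ∧
          IsRegularLocalRing (Localization.AtPrime p'),
      Module.Free (Localization.AtPrime p)
          (LocalizedModule p.primeCompl (AdicCompletion (IsLocalRing.maximalIdeal A) (KaehlerDifferential k A))) ∧
        Module.finrank (Localization.AtPrime p)
          (LocalizedModule p.primeCompl (AdicCompletion (IsLocalRing.maximalIdeal A) (KaehlerDifferential k A))) = n] ∧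
    ((Module.Free (Localization.AtPrime p)
          (LocalizedModule p.primeCompl (AdicCompletion (IsLocalRing.maximalIdeal A) (KaehlerDifferential k A))) ∧
        Module.finrank (Localization.AtPrime p)
          (LocalizedModule p.primeCompl (AdicCompletion (IsLocalRing.maximalIdeal A) (KaehlerDifferential k A))) = n) →
      CAlg.IsGeometricallyRegular k (Localization.AtPrime p)) := by
  open IsLocalRing EGA418Base EGA418Dim in
  classical
  obtain ⟨J, hJp, hJker, ⟨s, hs, hsJ⟩, hJq, hloc, hdim, q1, hq1, hq1p, hq1n⟩ := exists_local_quotient p n hn₁ hn₂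
  haveI := hloc
  let A1 := A ⧸ J
  let π := Ideal.Quotient.mk J
  let p1 := p.map π
  haveI : p1.IsPrime := Ideal.map_isPrime_of_surjective Ideal.Quotient.mk_surjective (by rw [Ideal.mk_ker]; exact hJp)
  have hp1c : p1.comap π = p := Ideal.ext fun a => Ideal.mem_quotient_iff_mem hJp
  haveI : IsLocalHom π := IsLocalHom.of_surjective _ Ideal.Quotient.mk_surjective
  have hp1max : p1 ≠ maximalIdeal A1 := fun h => hp (by
    rw [← hp1c, h]
    exact Ideal.ext fun a => by
      rw [Ideal.mem_comap, mem_maximalIdeal, mem_maximalIdeal, mem_nonunits_iff, mem_nonunits_iff, isUnit_map_iff])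
  haveI : IsAdicComplete (maximalIdeal A1) A1 := EGA41FS.isAdicComplete_quotient J
  haveI : Module.Finite k (ResidueField A1) := finite_residueField_quot k A J
  haveI : Module.Finite A (OmegaHat k A) := finite_omegaHat k A
  haveI : Module.Finite A1 (OmegaHat k A1) := finite_omegaHat k A1
  obtain ⟨d, hd⟩ := SerreReg.exists_dim_nat A
  obtain ⟨iA, iAt, iAf⟩ := exists_presentation k A d hd
  letI := iA
  haveI := iAt
  haveI := iAf
  -- rank `n` gives generators on the quotient
  have hb1 : Module.Free (Localization.AtPrime p) (LocalizedModule p.primeCompl (OmegaHat k A)) ∧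
      Module.finrank (Localization.AtPrime p) (LocalizedModule p.primeCompl (OmegaHat k A)) = n →
      ∃ s : Fin n → LocalizedModule p1.primeCompl (OmegaHat k A1),
        Submodule.span (Localization.AtPrime p1) (Set.range s) = ⊤ := by
    rintro ⟨hfree, hrk⟩
    haveI := hfree
    let b := Module.finBasisOfFinrankEq (Localization.AtPrime p) (LocalizedModule p.primeCompl (OmegaHat k A)) hrk
    obtain ⟨ω, hω⟩ := exists_span_localized p b b.span_eq
    obtain ⟨ω1, hω1⟩ := (omega_generators_iff k A J p hJp n s hs hsJ).mp ⟨ω, hω⟩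
    exact ⟨_, (span_localized_eq_top_iff p1 ω1).mpr hω1⟩
  have hgeom : (∃ s : Fin n → LocalizedModule p1.primeCompl (OmegaHat k A1),
      Submodule.span (Localization.AtPrime p1) (Set.range s) = ⊤) →
      CAlg.IsGeometricallyRegular k (Localization.AtPrime p1) := fun hgen =>
    (S5055.result k A1 n hdim p1 hp1max ⟨q1, hq1, hq1p, hq1n⟩ hgen).2
  have hbij : Function.Bijective (Localization.localRingHom p p1 π hp1c.symm) := by
    have h := bijective_localRingHom π Ideal.Quotient.mk_surjective p1 s
      (fun h => hs (hp1c ▸ h)) fun a ha => hsJ a (Ideal.Quotient.eq_zero_iff_mem.mp ha)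
    have h2 : ∀ (X : Ideal A) (_ : X.IsPrime) (hX : X = p1.comap π),
        Function.Bijective (Localization.localRingHom X p1 π hX) := by rintro X _ rfl; exact h
    exact h2 p inferInstance hp1c.symm
  let e0 : Localization.AtPrime p ≃ₐ[k] Localization.AtPrime p1 :=
    AlgEquiv.ofRingEquiv (f := RingEquiv.ofBijective _ hbij) fun c => by
      show Localization.localRingHom p p1 π hp1c.symm (algebraMap k _ c) = _
      rw [IsScalarTower.algebraMap_apply k A (Localization.AtPrime p), Localization.localRingHom_to_map,
        IsScalarTower.algebraMap_apply k A1 (Localization.AtPrime p1)]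
      rfl
  refine ⟨?_, fun hb => ?_⟩
  swap
  · intro k' _ _ hfin
    haveI : IsRegularRing (k' ⊗[k] Localization.AtPrime p1) := hgeom (hb1 hb) k' hfin
    exact IsRegularRing.of_ringEquiv (Algebra.TensorProduct.congr (AlgEquiv.refl : k' ≃ₐ[k] k') e0.symm).toRingEquiv
  tfae_have 1 → 2 := fun h => by
    let k' := AlgebraicClosure k
    obtain ⟨P, hP, hPp⟩ := exists_prime_over k k' d A p
    obtain ⟨e, he⟩ := exists_completion_equiv k k' d A
    haveI := hP
    have hmem : ((P.comap e.toRingHom).comap (algebraMap (A ⊗[k] k') _)).comap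
        (Algebra.TensorProduct.includeLeft : A →ₐ[k] A ⊗[k] k').toRingHom = p := by
      refine Ideal.ext fun a => ?_
      show e (algebraMap (A ⊗[k] k') (AdicCompletion (tIdeal k k' A) (A ⊗[k] k')) (a ⊗ₜ 1)) ∈ P ↔ a ∈ p
      rw [he, ← hPp]
      exact iff_of_eq (congrArg (· ∈ P) ((toModel k k' d A).commutes a))
    exact ⟨k', inferInstance, inferInstance, inferInstance, P.comap e.toRingHom, inferInstance, hmem,
      h k' (P.comap e.toRingHom) hmem⟩
  tfae_have 2 → 3 := by
    rintro ⟨k', _, _, _, p', _, hp', hreg⟩
    obtain ⟨i1, i2, i3⟩ := exists_presentation k A1 n hdim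
    letI := i1
    haveI := i2
    haveI := i3
    let p2 : Ideal (AdicCompletion (tIdeal k k' A) (A ⊗[k] k')) := p'
    haveI : p2.IsPrime := ‹p'.IsPrime›
    obtain ⟨Q, hQ, hQp, hQreg⟩ := exists_prime_transfer k k' A d n p J hJp s hs hsJ p2
      (fun a => SetLike.ext_iff.mp hp' a)
    haveI := hQ
    haveI := hQreg.mp hreg
    have h1 := finrank_fibre_le_of_regular k k' n A1 Q p1 hQp
    obtain ⟨ω1, hω1⟩ := exists_generators_of_fibre (M := OmegaHat k A1) p1 n h1
    obtain ⟨ω, hω⟩ := (omega_generators_iff k A J p hJp n s hs hsJ).mpr ⟨ω1, hω1⟩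
    have hgen : ∃ s : Fin n → LocalizedModule p1.primeCompl (OmegaHat k A1),
        Submodule.span (Localization.AtPrime p1) (Set.range s) = ⊤ :=
      ⟨_, (span_localized_eq_top_iff p1 ω1).mpr hω1⟩
    haveI : IsRegularRing (k ⊗[k] Localization.AtPrime p1) := hgeom hgen k inferInstance
    haveI : IsRegularRing (Localization.AtPrime p1) :=
      IsRegularRing.of_ringEquiv (Algebra.TensorProduct.lid k (Localization.AtPrime p1)).toRingEquiv
    haveI : IsRegularLocalRing (Localization.AtPrime p1) := IsRegularLocalRing.of_isRegularRing_of_isLocalRing _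
    haveI : IsDomain (Localization.AtPrime p1) := RegLoc.isDomain _
    haveI : IsDomain (Localization.AtPrime p) := e0.toRingEquiv.toMulEquiv.isDomain
    have hJprime : J.IsPrime := by
      have h : J = RingHom.ker (algebraMap A (Localization.AtPrime p)) := Ideal.ext fun a => (hJker a).symm
      rw [h]; exact RingHom.ker_isPrime _
    haveI := hJprime
    obtain ⟨q, hq, hqp, hqn⟩ := hn₂
    obtain rfl : J = q := le_antisymm (hJq q hq hqp) (hq.2 ⟨hJprime, bot_le⟩ (hJq q hq hqp))
    have hfib : Module.finrank p.ResidueField (p.ResidueField ⊗[A] OmegaHat k A) ≤ n := by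
      rw [← finrank_top p.ResidueField, ← span_fibre_eq_top p ω hω]
      exact (finrank_range_le_card _).trans (by simp)
    refine free_localization_of_bounds p J hJp hJker n hfib ?_
    have h3 := S3847.result k A J J hq le_rfl
    rw [hqn] at h3
    haveI : Module.Finite J.ResidueField (J.ResidueField ⊗[A] OmegaHat k A) := inferInstance
    rw [← Module.finrank_eq_rank, Cardinal.toENat_nat] at h3
    exact_mod_cast h3
  tfae_have 3 → 1 := by
    intro hb k' _ _ p' _ hp'
    obtain ⟨iA1, iA1t, hl, hf, hflat, het⟩ :=
      exists_etale_powerSeries k A1 n hdim p1 hp1max ⟨q1, hq1, hq1p, hq1n⟩ (hb1 hb)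
    letI := iA1
    haveI := iA1t
    haveI := hf
    haveI := hflat
    haveI := het
    let p2 : Ideal (AdicCompletion (tIdeal k k' A) (A ⊗[k] k')) := p'
    haveI : p2.IsPrime := ‹p'.IsPrime›
    obtain ⟨Q, hQ, hQp, hQreg⟩ := exists_prime_transfer k k' A d n p J hJp s hs hsJ p2
      (fun a => SetLike.ext_iff.mp hp' a)
    haveI := hQ
    haveI : Algebra.IsUnramifiedAt (MvPowerSeries (Fin n) k) p1 := inferInstance
    exact hQreg.mpr (EGA418Base.isRegularLocalRing_of_etale k k' n A1 p1 Q hQp)
  tfae_finish

end Groth.Agent.S3851
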