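import Groth.Statements.S3859
import Groth.Agent.ThickSys.Sys

set_option linter.style.haveILetI false

set_option autoImplicit false
universe u
open FCompl CategoryTheory CategoryTheory.Limits AlgebraicGeometry

namespace Groth.Agent.S3859

open AlgebraicGeometry in
open CategoryTheory in
/-- In the presentation by systems of thickenings: For morphisms of systems X -> S and Y -> S, the
levelwise fibre product with its two projections is a fibre product in the category of systems; it
presents the fibre product of formal schemes when one factor is adic over the base, and otherwise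
only up to cofinality of the levels. -/
theorem result {𝔛 𝔜 𝔖 : FSch.Sys.{u}} (f : 𝔛 ⟶ 𝔖) (g : 𝔜 ⟶ 𝔖) :
    IsPullback (FSch.pullbackFst f g) (FSch.pullbackSnd f g) f g := by
  set_option backward.isDefEq.respectTransparency false in
  refine IsPullback.of_isLimit' ⟨?_⟩ (PullbackCone.IsLimit.mk _ (fun c => ⟨fun n => pullback.lift
      ((c.fst : FSch.Hom _ _).app n) ((c.snd : FSch.Hom _ _).app n) ?_, fun n => ?_⟩) ?_ ?_ ?_)
  · exact FSch.Hom.ext (funext fun n => pullback.condition)
  · exact congrFun (congrArg FSch.Hom.app c.condition) n
  · refine pullback.hom_ext ?_ ?_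
    · rw [Category.assoc, Category.assoc,
        show (FSch.pullbackSys f g).ι n ≫ pullback.fst _ _ = pullback.fst _ _ ≫ 𝔛.ι n from pullback.lift_fst _ _ _,
        pullback.lift_fst_assoc, pullback.lift_fst, (c.fst : FSch.Hom _ _).comm n]
    · rw [Category.assoc, Category.assoc,
        show (FSch.pullbackSys f g).ι n ≫ pullback.snd _ _ = pullback.snd _ _ ≫ 𝔜.ι n from pullback.lift_snd _ _ _,
        pullback.lift_snd_assoc, pullback.lift_snd, (c.snd : FSch.Hom _ _).comm n]
  · exact fun c => FSch.Hom.ext (funext fun n => pullback.lift_fst _ _ _)
  · exact fun c => FSch.Hom.ext (funext fun n => pullback.lift_snd _ _ _)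
  · intro c m h1 h2
    refine FSch.Hom.ext (funext fun n => pullback.hom_ext ?_ ?_)
    · exact (congrFun (congrArg FSch.Hom.app h1) n).trans (pullback.lift_fst _ _ _).symm
    · exact (congrFun (congrArg FSch.Hom.app h2) n).trans (pullback.lift_snd _ _ _).symm

end Groth.Agent.S3859
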