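import Groth.Statements.S3860
import Mathlib.RingTheory.AdicCompletion.RingHom

set_option linter.style.haveILetI false

set_option autoImplicit false
universe u
open FCompl CategoryTheory CategoryTheory.Limits AlgebraicGeometry

namespace Groth.Agent.S3860

open AlgebraicGeometry in
/-- (Affine adic case; the formal spectra presented as the systems Spec(A/I^(n+1)) and Spec(B/K^(n+1)).)
Let I be an ideal of a ring A which is complete and separated for the I-adic topology, and K an
ideal of a ring B. Then φ ↦ (Spec of the induced maps B/K^(n+1) -> A/I^(n+1)) is a bijection from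
the ring homomorphisms φ : B -> A with φ(K) ⊆ I onto the morphisms of systems from Spf(A) to Spf(B),
i.e. the compatible families of morphisms Spec(A/I^(n+1)) -> Spec(B/K^(n+1)). -/
theorem result (A B : Type u) [CommRing A] [CommRing B] (I : Ideal A) (K : Ideal B)
    [IsAdicComplete I A] :
    Function.Bijective (fun φ : {φ : B →+* A // K ≤ I.comap φ} ↦ FSch.spfMap I K φ.1 φ.2) := by
  constructor
  · rintro ⟨φ, hφ⟩ ⟨ψ, hψ⟩ he
    refine Subtype.ext (RingHom.ext fun b => (IsHausdorff.eq_iff_smodEq (I := I)).2 fun n => ?_)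
    rw [SModEq.sub_mem, smul_eq_mul, Ideal.mul_top]
    have h1 := congrArg (fun s => (FSch.Hom.app s n)) he
    simp only [FSch.spfMap_app] at h1
    have h2 := congrArg CommRingCat.Hom.hom (AlgebraicGeometry.Spec.map_injective h1)
    have h3 := RingHom.congr_fun h2 (Ideal.Quotient.mk _ b)
    exact Ideal.pow_le_pow_right (Nat.le_succ n) (Ideal.Quotient.eq.1 h3)
  · intro s
    let g : ∀ n, B ⧸ K ^ (n + 1) →+* A ⧸ I ^ (n + 1) := fun n => (AlgebraicGeometry.Spec.preimage ((s : FSch.Hom _ _).app n)).hom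
    have hg : ∀ n, (Spec.map (CommRingCat.ofHom (g n)) : (FSch.spf A I).X n ⟶ (FSch.spf B K).X n) = (s : FSch.Hom _ _).app n :=
      fun n => AlgebraicGeometry.Spec.map_preimage _
    have ha : StrictMono (fun n : ℕ => n + 1) := fun _ _ h => Nat.succ_lt_succ h
    have hcomp : ∀ n, (Ideal.Quotient.factor (Ideal.pow_le_pow_right (Nat.le_succ (n + 1)) : I ^ (n + 2) ≤ I ^ (n + 1))).comp (g (n + 1)) =
        (g n).comp (Ideal.Quotient.factor (Ideal.pow_le_pow_right (Nat.le_succ (n + 1)) : K ^ (n + 2) ≤ K ^ (n + 1))) := fun n => by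
      have h1 := (s : FSch.Hom _ _).comm n
      rw [← hg n, ← hg (n + 1)] at h1
      have h2 : Spec.map (CommRingCat.ofHom (g n)) ≫ Spec.map (CommRingCat.ofHom
          (Ideal.Quotient.factor (Ideal.pow_le_pow_right (Nat.le_succ (n + 1)) : K ^ (n + 2) ≤ K ^ (n + 1)))) =
        Spec.map (CommRingCat.ofHom (Ideal.Quotient.factor (Ideal.pow_le_pow_right (Nat.le_succ (n + 1)) : I ^ (n + 2) ≤ I ^ (n + 1)))) ≫
          Spec.map (CommRingCat.ofHom (g (n + 1))) := h1
      rw [← Spec.map_comp, ← Spec.map_comp, ← CommRingCat.ofHom_comp, ← CommRingCat.ofHom_comp] at h2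
      exact (congrArg CommRingCat.Hom.hom (AlgebraicGeometry.Spec.map_injective h2)).symm
    let φ := IsAdicComplete.StrictMono.liftRingHom I ha (fun n => (g n).comp (Ideal.Quotient.mk (K ^ (n + 1))))
      (fun {n} => by
        rw [Ideal.Quotient.factorPow, ← RingHom.comp_assoc, hcomp n, RingHom.comp_assoc, Ideal.Quotient.factor_comp_mk])
    have hmk : ∀ n b, Ideal.Quotient.mk (I ^ (n + 1)) (φ b) = g n (Ideal.Quotient.mk _ b) := fun n b =>
      IsAdicComplete.StrictMono.mk_liftRingHom I ha _ _ b
    have hle : K ≤ I.comap φ := fun k hk => by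
      have h1 := hmk 0 k
      rw [Ideal.Quotient.eq_zero_iff_mem.2 (show k ∈ K ^ (0 + 1) by rwa [zero_add, pow_one]), map_zero,
        Ideal.Quotient.eq_zero_iff_mem, zero_add, pow_one] at h1
      exact h1
    refine ⟨⟨φ, hle⟩, FSch.Hom.ext (funext fun n => ?_)⟩
    rw [← hg n]
    refine congrArg (fun m => Spec.map (CommRingCat.ofHom m)) (Ideal.Quotient.ringHom_ext (RingHom.ext fun b => ?_))
    exact hmk n b

end Groth.Agent.S3860
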