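import Groth.Statements.S3867
import Groth.Agent.ThickSys.Sys
import Groth.Agent.S3873

set_option linter.style.haveILetI false

set_option autoImplicit false
universe u
open FCompl CategoryTheory CategoryTheory.Limits AlgebraicGeometry

namespace Groth.Agent.S3867

open AlgebraicGeometry in
/-- Formal spectra are presented as the systems Spec(A/I^(n+1)) and Spec(B/K^(n+1)), a morphism of
systems being adic when all its squares are cartesian. Let A be a Noetherian ring, complete and
separated for the I-adic topology of an ideal I, K an ideal of a ring B and φ : B → A a ring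
homomorphism with φ(K) ⊆ I. Then the induced morphism Spf(A) → Spf(B) is adic if and only if the
ideal of A generated by φ(K) is I. -/
theorem result (A B : Type u) [CommRing A] [CommRing B] [IsNoetherianRing A]
    (I : Ideal A) (K : Ideal B) [IsAdicComplete I A] (φ : B →+* A) (h : K ≤ I.comap φ) :
    FSch.IsAdicHom (FSch.spfMap I K φ h) ↔ K.map φ = I := by
  set_option backward.isDefEq.respectTransparency false in
  let qA : ∀ n, (FSch.spf A I).X n ⟶ Spec (CommRingCat.of A) := FSch.spfToSpec A I
  let qB : ∀ n, (FSch.spf B K).X n ⟶ Spec (CommRingCat.of B) := FSch.spfToSpec B K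
  haveI hqA : ∀ n, IsClosedImmersion (qA n) := fun n => IsClosedImmersion.spec_of_surjective _ Ideal.Quotient.mk_surjective
  haveI hqB : ∀ n, IsClosedImmersion (qB n) := fun n => IsClosedImmersion.spec_of_surjective _ Ideal.Quotient.mk_surjective
  haveI hA : ∀ n, IsClosedImmersion ((FSch.spf A I).ι n) := fun n =>
    IsClosedImmersion.spec_of_surjective _ (Ideal.Quotient.factor_surjective (Ideal.pow_le_pow_right (Nat.le_succ (n + 1)) : I ^ (n + 2) ≤ I ^ (n + 1)))
  haveI hB : ∀ n, IsClosedImmersion ((FSch.spf B K).ι n) := fun n =>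
    IsClosedImmersion.spec_of_surjective _ (Ideal.Quotient.factor_surjective (Ideal.pow_le_pow_right (Nat.le_succ (n + 1)) : K ^ (n + 2) ≤ K ^ (n + 1)))
  have hkA : ∀ n, ((FSch.spf A I).ι n).ker = (FSch.idealSpec A (I ^ (n + 1))).comap (qA (n + 1)) := fun n => by
    rw [Groth.Agent.ThickSys.ker_eq_comap_ker_comp ((FSch.spf A I).ι n) (qA (n + 1)),
      show (FSch.spf A I).ι n ≫ qA (n + 1) = qA n from CohB1.specQuotTrans_specQuot I n]
    rfl
  have hkB : ∀ n, (((FSch.spf B K).ι n).ker).comap ((FSch.spfMap I K φ h : FSch.Hom _ _).app (n + 1)) =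
      (FSch.idealSpec A ((K.map φ) ^ (n + 1))).comap (qA (n + 1)) := fun n => by
    rw [Groth.Agent.ThickSys.ker_eq_comap_ker_comp ((FSch.spf B K).ι n) (qB (n + 1)),
      show (FSch.spf B K).ι n ≫ qB (n + 1) = qB n from CohB1.specQuotTrans_specQuot K n,
      ← Scheme.IdealSheafData.comap_comp,
      show (FSch.spfMap I K φ h : FSch.Hom _ _).app (n + 1) ≫ qB (n + 1) = qA (n + 1) ≫ Spec.map (CommRingCat.ofHom φ) by
        show Spec.map _ ≫ Spec.map _ = Spec.map _ ≫ Spec.map _
        rw [← Spec.map_comp, ← Spec.map_comp]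
        rfl,
      Scheme.IdealSheafData.comap_comp, ← Ideal.map_pow, ← Groth.Agent.S3873.result A B φ (K ^ (n + 1))]
    rfl
  constructor
  · intro had
    have h0 := (Groth.Agent.ThickSys.ker_of_isPullback (had 0)).symm
    rw [hkB 0, hkA 0, zero_add, pow_one, pow_one] at h0
    have hq : qA (0 + 1) = Spec.map (CommRingCat.ofHom (Ideal.Quotient.mk (I ^ (0 + 1 + 1)))) := rfl
    rw [hq, Groth.Agent.S3873.result, Groth.Agent.S3873.result, Groth.Agent.ThickSys.idealSpec_eq,
      Groth.Agent.ThickSys.idealSpec_eq] at h0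
    have h1 := congrArg (Ideal.comap (Scheme.ΓSpecIso (CommRingCat.of (A ⧸ I ^ (0 + 1 + 1)))).inv.hom)
      (Scheme.IdealSheafData.equivOfIsAffine.symm.injective h0)
    have hbij : Function.Bijective (Scheme.ΓSpecIso (CommRingCat.of (A ⧸ I ^ (0 + 1 + 1)))).inv.hom :=
      ConcreteCategory.bijective_of_isIso _
    rw [Ideal.comap_map_of_bijective _ hbij, Ideal.comap_map_of_bijective _ hbij] at h1
    have h2 := congrArg (Ideal.comap (Ideal.Quotient.mk (I ^ (0 + 1 + 1)))) h1
    rw [Ideal.comap_map_of_surjective _ Ideal.Quotient.mk_surjective,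
      Ideal.comap_map_of_surjective _ Ideal.Quotient.mk_surjective, ← RingHom.ker_eq_comap_bot, Ideal.mk_ker] at h2
    have hle : K.map φ ≤ I := Ideal.map_le_iff_le_comap.2 h
    refine le_antisymm hle (Submodule.le_of_le_smul_of_le_jacobson_bot (IsNoetherian.noetherian I)
      (IsAdicComplete.le_jacobson_bot I) ?_)
    rw [smul_eq_mul, ← pow_two]
    exact le_sup_left.trans h2.ge
  · intro he n
    refine isPullback_of_isClosedImmersion _ _ _ _ ((FSch.spfMap I K φ h : FSch.Hom _ _).comm n).symm ?_
    rw [hkB n, hkA n, he]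

end Groth.Agent.S3867
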