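import Groth.Statements.S3894
import Mathlib

set_option autoImplicit false
universe u
open CategoryTheory CategoryTheory.Limits Opposite
open Tors

namespace Groth.Agent.S3894

/-- A torsor P under an abelian sheaf G is trivial, i.e. equivariantly isomorphic to G acting on itself
by translations, if and only if P has a global section (a morphism from the final sheaf of sets). -/
theorem result {C : Type u} [SmallCategory C] {J : GrothendieckTopology C}
    {G : Sheaf J AddCommGrpCat.{u}} (T : Tors.Torsor G) : T.IsTrivial ↔ T.HasSection := by
  constructor
  · rintro ⟨e, -⟩
    exact ⟨⟨{ app := fun U => TypeCat.ofHom fun _ => e.hom.hom.app U (0 : G.obj.obj U)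
              naturality := fun U V f => by
                ext a
                show e.hom.hom.app V (0 : G.obj.obj V) = T.P.obj.map f (e.hom.hom.app U (0 : G.obj.obj U))
                refine Eq.trans ?_ (NatTrans.naturality_apply e.hom.hom f (0 : G.obj.obj U))
                exact congrArg _ (map_zero (G.obj.map f).hom).symm }⟩⟩
  · rintro ⟨s⟩
    let GS := (sheafCompose J (forget AddCommGrpCat.{u})).obj G
    let pt : ∀ U : Cᵒᵖ, T.P.obj.obj U := fun U => (terminal.from GS ≫ s).hom.app U (0 : G.obj.obj U)
    have hpt : ∀ {U V : Cᵒᵖ} (f : U ⟶ V), T.P.obj.map f (pt U) = pt V := fun {U V} f => by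
      refine (NatTrans.naturality_apply (terminal.from GS ≫ s).hom f (0 : G.obj.obj U)).symm.trans ?_
      exact congrArg _ (map_zero (G.obj.map f).hom)
    let act : GS ⟶ T.P := ⟨{ app := fun U => TypeCat.ofHom fun g : G.obj.obj U => T.vadd g (pt U)
                             naturality := fun U V f => by
                               ext g
                               show T.vadd (G.obj.map f g) (pt V) = T.P.obj.map f (T.vadd g (pt U))
                               rw [T.map_vadd, hpt] }⟩
    haveI : ∀ U, IsIso (((sheafToPresheaf J (Type u)).map act).app U) := fun U => by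
      rw [isIso_iff_bijective]
      exact ⟨fun g h e => (T.free_transitive (pt U) (T.vadd g (pt U))).unique rfl e.symm,
        fun q => (T.free_transitive (pt U) q).exists⟩
    haveI := NatIso.isIso_of_isIso_app ((sheafToPresheaf J (Type u)).map act)
    haveI : IsIso act := isIso_of_reflects_iso _ (sheafToPresheaf J (Type u))
    exact ⟨asIso act, fun U g h => T.add_vadd g h (pt U)⟩

end Groth.Agent.S3894
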