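import Groth.Statements.S3955
import Groth.Agent.RootBase.BruhatMap
-- import your own Groth.Agent.* helpers here

set_option autoImplicit false
open CategoryTheory MonoidalCategory CartesianMonoidalCategory MonObj GrpObj AlgebraicGeometry
universe u
open RedSub

set_option backward.isDefEq.respectTransparency false

namespace Groth.Agent.S3955

set_option maxHeartbeats 4000000 in
set_option backward.isDefEq.respectTransparency false in
/-- Let G be a split reductive S-group (splitting D), b a system of simple roots with enumeration e⁺ of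
the positive roots, and n a family of S-points of G realising the reflections. For a word l in the
roots let w_l be the corresponding Weyl group element, n_l the product of the n's along l, and C_l
the image of the Bruhat cell map (y, t, x) ↦ ∏_{a ∈ R_- ∩ w_l(R_-)} u_a(y_a) · n_l · t · ∏_{a ∈ R_+}
u_a(x_a). Then the C_l, for w_l ranging over the Weyl group, partition the underlying space of G:
every point lies in some C_l, and if a point lies in C_l and C_{l'} then w_l = w_{l'}. -/
theorem result {S : Scheme.{u}} {G : Over S} [GrpObj G] (D : Red.SplitRed G) (b : D.P.Base)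
    {m : ℕ} (epos : Fin m → D.idx) (hpos : RedSub.Enumerates (RedSub.posRoots D.P b) epos)
    (nr : D.idx → (𝟙_ (Over S) ⟶ G)) (hnr : RedSub.RealisesReflections D nr) :
    (∀ x : ↥G.left, ∃ (l : List D.idx) (k : ℕ) (e : Fin k → D.idx),
      RedSub.Enumerates (RedSub.negMeetNeg D.P b (RedSub.wordPerm D.P l)) e ∧
        x ∈ Set.range (RedSub.bruhatMap D nr l e epos).left.base) ∧
    ∀ (l l' : List D.idx) (k k' : ℕ) (e : Fin k → D.idx) (e' : Fin k' → D.idx) (x : ↥G.left),
      RedSub.Enumerates (RedSub.negMeetNeg D.P b (RedSub.wordPerm D.P l)) e →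
      RedSub.Enumerates (RedSub.negMeetNeg D.P b (RedSub.wordPerm D.P l')) e' →
      x ∈ Set.range (RedSub.bruhatMap D nr l e epos).left.base →
      x ∈ Set.range (RedSub.bruhatMap D nr l' e' epos).left.base →
      RedSub.wordPerm D.P l = RedSub.wordPerm D.P l' := by
  classical
  letI := D.grpT
  letI := D.acgM
  letI := D.fintypeIdx
  letI := D.finiteM
  letI := D.freeM
  refine ⟨fun x => ?_, fun l l' k k' e e' x he he' hx hx' => ?_⟩
  · haveI : Nonempty S := ⟨G.hom x⟩
    haveI := RootBase.isReduced_of_splitRed D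
    have F : RootBase.Frame (D.split.inv.hom.hom ≫ D.i) D.P.root D.u := RootBase.frame_of_splitRed D
    have hw := RootBase.realises_of_reflections D b (n := nr) (fun a _ => hnr a)
    obtain ⟨X', f, hf, ⟨z⟩, hX', hg⟩ := F.exists_allPts (𝟙 G) x
    rw [Category.comp_id] at hg
    obtain ⟨l, hl, v, hv, β, hβ, hfe⟩ := F.allPts_subset_oppCells D.pairing_eq hw hX' hg
    obtain ⟨v₁, hv₁, v₂, hv₂, hve⟩ := F.split_neg (F.wmoves_word D.pairing_eq hw X' l hl) hv
    obtain ⟨k, e₀, -, he⟩ := RootBase.exists_extend (RedSub.negMeetNeg D.P b (RedSub.wordPerm D.P l))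
      (Fin.elim0 : Fin 0 → D.idx) (fun x => x.elim0) fun k => k.elim0
    generalize Fin.append (Fin.elim0 : Fin 0 → D.idx) e₀ = e at he
    obtain ⟨mu, hmp, hmn, -⟩ := RootBase.exists_pos_hom D.P b
    obtain ⟨zc, hzc⟩ := F.exists_coord (RootBase.isClosedSub_negKept b l) (-mu) (fun a ha => (hmn a).2
      ((RootSys.mem_negRoots_iff b a).2 ha.1)) e (by rw [RootBase.negKept_eq]; exact he) hv₁
    obtain ⟨y, -, hy⟩ := RootBase.exists_pow_prod (fun j => D.u (e j)) zc
    rw [hzc] at hy
    have hb : v₂ * β ∈ RootBase.BorelPts (D.split.inv.hom.hom ≫ D.i) D.u b X' :=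
      mul_mem (RootBase.Gam_le_BorelPts (Ψ := {i | b.IsPos i}) (fun _ h => h) X' hv₂) hβ
    obtain ⟨t, w, hw', hbe⟩ := F.exists_torus_unip hb
    have e1 : {i | b.IsPos i} = {i | 0 < mu (D.P.root i)} := Set.ext fun i =>
      ((hmp i).trans (RootSys.mem_posRoots_iff b i)).symm
    rw [e1] at hw'
    obtain ⟨y', hy'⟩ := F.exists_pow_of_mem_Gam mu epos (by
      rw [← e1, show {i | b.IsPos i} = RedSub.posRoots D.P b from
        Set.ext fun i => (RootSys.mem_posRoots_iff b i).symm]
      exact hpos) hw'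
    refine ⟨l, _, e, he, (lift y (lift (t ≫ D.split.inv.hom.hom) y')).left z, ?_⟩
    have e2 : lift y (lift (t ≫ D.split.inv.hom.hom) y') ≫ RedSub.bruhatMap D nr l e epos = f := by
      simp only [RedSub.bruhatMap, MonObj.comp_mul, lift_fst_assoc, lift_snd_assoc, Category.assoc]
      rw [← Category.assoc (lift y _) (toUnit _), toUnit_unique (lift y _ ≫ toUnit _) (toUnit X'), ← RootBase.wpt_eq,
        hy, ← hy', ← hbe, hfe, hve]
      group
    rw [← hf z, ← e2, Over.comp_left]
    rfl
  · obtain ⟨z₁, hz₁⟩ := hx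
    obtain ⟨z₂, hz₂⟩ := hx'
    haveI : Nonempty S := ⟨G.hom x⟩
    haveI := RootBase.isReduced_of_splitRed D
    have F : RootBase.Frame (D.split.inv.hom.hom ≫ D.i) D.P.root D.u := RootBase.frame_of_splitRed D
    have hn : ∀ a, ∀ (X : Over S) (t : X ⟶ Red.DS S D.M), RootBase.cj (nr a) (t ≫ D.split.inv.hom.hom ≫ D.i) =
        RootBase.refl (D.P.root a) (D.P.coroot a).toAddMonoidHom t ≫ D.split.inv.hom.hom ≫ D.i := fun a => by
      obtain ⟨l₀, a₀, hl₀, ha₀, hr, -⟩ := RootBase.exists_word_conj b a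
      intro X t
      have h := hnr a X (t ≫ D.split.inv.hom.hom)
      have hinv : D.split.inv.hom.hom ≫ D.split.hom.hom.hom = 𝟙 _ := congrArg (fun z => z.hom.hom) D.split.inv_hom_id
      simp only [Category.assoc, reassoc_of% hinv] at h
      rw [RootBase.cj, h, ← Category.assoc]
      congr 1
      refine HomDiag.ch_ext fun m => ?_
      obtain ⟨m, rfl⟩ : ∃ k : D.M, Multiplicative.ofAdd k = m := ⟨m.toAdd, rfl⟩
      rw [HomDiag.ch_DSmap, toAdd_ofAdd, RootBase.ch_refl]
      congr 2
      show D.P.reflection a m = m - D.P.coroot a m • D.P.root a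
      rw [D.P.reflection_apply]
      show m - D.P.toLinearMap m (D.P.coroot a) • D.P.root a = _
      rw [D.pairing_eq]
      rfl
    obtain ⟨q, hq₁, hq₂⟩ := Scheme.Pullback.exists_preimage_pullback (f := (RedSub.bruhatMap D nr l e epos).left)
      (g := (RedSub.bruhatMap D nr l' e' epos).left) z₁ z₂ (hz₁.trans hz₂.symm)
    let W : Over S := Over.mk (Limits.pullback.fst (RedSub.bruhatMap D nr l e epos).left
      (RedSub.bruhatMap D nr l' e' epos).left ≫ (RedSub.pow (Red.Ga S) k ⊗ (D.T ⊗ RedSub.pow (Red.Ga S) m)).hom)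
    let p₁ : W ⟶ RedSub.pow (Red.Ga S) k ⊗ (D.T ⊗ RedSub.pow (Red.Ga S) m) :=
      Over.homMk (Limits.pullback.fst _ _) rfl
    let p₂ : W ⟶ RedSub.pow (Red.Ga S) k' ⊗ (D.T ⊗ RedSub.pow (Red.Ga S) m) :=
      Over.homMk (Limits.pullback.snd _ _) (by
        show Limits.pullback.snd _ _ ≫ _ = Limits.pullback.fst _ _ ≫ _
        rw [← Over.w (RedSub.bruhatMap D nr l e epos), ← Over.w (RedSub.bruhatMap D nr l' e' epos),
          ← Category.assoc, ← Category.assoc, Limits.pullback.condition])
    have hp : p₁ ≫ RedSub.bruhatMap D nr l e epos = p₂ ≫ RedSub.bruhatMap D nr l' e' epos :=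
      Over.OverMorphism.ext Limits.pullback.condition
    obtain ⟨X', f, -, hne, -⟩ := RedR1.exists_geom_point W q
    obtain ⟨v, hv, β, hβ, e1⟩ := RootBase.exists_of_bruhatMap D b nr l he hpos (f ≫ p₁)
    obtain ⟨v', hv', β', hβ', e1'⟩ := RootBase.exists_of_bruhatMap D b nr l' he' hpos (f ≫ p₂)
    exact F.oppCells_unique D.pairing_eq hn hne hv hv' hβ hβ' (by rw [← e1, ← e1', Category.assoc, Category.assoc, hp])

end Groth.Agent.S3955
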