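import Groth.Statements.S3957
import Groth.Agent.RootBase.BruhatLocal
import Groth.Agent.RootBase.BruhatTorus
-- import your own Groth.Agent.* helpers here

set_option autoImplicit false
open CategoryTheory MonoidalCategory CartesianMonoidalCategory MonObj GrpObj AlgebraicGeometry
universe u
open RedSub

set_option backward.isDefEq.respectTransparency false

namespace Groth.Agent.S3957

set_option maxHeartbeats 2000000 in
set_option backward.isDefEq.respectTransparency false in
/-- Let A be a local ring, S = Spec A, and G a split reductive S-group with a pinning D which is simply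
connected (the coroots span the coweight lattice). Then G(S) is generated by the sections of the
root groups u_a(G_a(S)) for a a simple root or the negative of a simple root. -/
theorem result {A : Type u} [CommRing A] [IsLocalRing A]
    {G : Over (Spec (CommRingCat.of A))} [GrpObj G] (D : Red.Pinning G)
    (hsc : Submodule.span ℤ (Set.range D.P.coroot) = ⊤) :
    Subgroup.closure
        {g : 𝟙_ (Over (Spec (CommRingCat.of A))) ⟶ G | ∃ a : D.idx, (a ∈ D.base.support ∨ D.P.reflectionPerm a a ∈ D.base.support) ∧
            ∃ x : 𝟙_ _ ⟶ Red.Ga (Spec (CommRingCat.of A)), g = x ≫ D.u a} = ⊤ := by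
  classical
  rw [eq_top_iff]
  intro g _
  let K : Subgroup (𝟙_ (Over (Spec (CommRingCat.of A))) ⟶ G) :=
    Subgroup.closure {g | ∃ a : D.idx, (a ∈ D.base.support ∨ D.P.reflectionPerm a a ∈ D.base.support) ∧
      ∃ x : 𝟙_ _ ⟶ Red.Ga (Spec (CommRingCat.of A)), g = x ≫ D.u a}
  have hK : ∀ a ∈ D.base.support, ∀ x : 𝟙_ _ ⟶ Red.Ga _, x ≫ D.u a ∈ K ∧ x ≫ D.u (D.P.reflectionPerm a a) ∈ K :=
    fun a ha x => ⟨Subgroup.subset_closure ⟨a, Or.inl ha, x, rfl⟩,
      Subgroup.subset_closure ⟨_, Or.inr (by
        rwa [show D.P.reflectionPerm (D.P.reflectionPerm a a) (D.P.reflectionPerm a a) = a from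
          D.P.root.injective (by rw [RootBase.root_opp, RootBase.root_opp, neg_neg])]), x, rfl⟩⟩
  refine RootBase.mem_of_local D.toSplitRed D.base K ?_ hK g
  intro t
  letI := D.grpT
  letI := D.acgM
  letI := D.fintypeIdx
  letI := D.finiteM
  letI := D.freeM
  haveI : Nonempty (Spec (CommRingCat.of A)) := ⟨IsLocalRing.closedPoint A⟩
  haveI := RootBase.isReduced_of_splitRed D.toSplitRed
  have F : RootBase.Frame (D.split.inv.hom.hom ≫ D.i) D.P.root D.u := RootBase.frame_of_splitRed D.toSplitRed
  haveI : IsMonHom (D.split.inv.hom.hom ≫ D.i) := F.hc.1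
  choose nr hnr using D.refl
  have hw := RootBase.realises_of_reflections D.toSplitRed D.base (n := nr) (fun a _ => hnr a)
  have hspan : Submodule.span ℤ (D.P.coroot '' (D.base.support : Set D.idx)) = ⊤ := by
    rw [eq_top_iff, ← hsc, Submodule.span_le]
    rintro _ ⟨i, rfl⟩
    have h2 : AddSubmonoid.closure (D.P.coroot '' (D.base.support : Set D.idx)) ≤
        (Submodule.span ℤ (D.P.coroot '' (D.base.support : Set D.idx))).toAddSubmonoid := by
      rw [AddSubmonoid.closure_le]
      exact fun x hx => Submodule.subset_span hx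
    rcases D.base.coroot_mem_or_neg_mem i with h | h
    · exact h2 h
    · exact (neg_neg (D.P.coroot i)) ▸ Submodule.neg_mem _ (h2 h)
  have h := RootBase.torus_mem_of_span (D.split.inv.hom.hom ≫ D.i) K _ hspan (by
    rintro _ ⟨a, ha, rfl⟩ ζ
    exact F.coroot_mem_of_simple D.pairing_eq hw K ha (hK a ha) ζ) (t ≫ D.split.hom.hom.hom)
  have hinv : D.split.hom.hom.hom ≫ D.split.inv.hom.hom = 𝟙 _ := congrArg (fun z => z.hom.hom) D.split.hom_inv_id
  rwa [Category.assoc, reassoc_of% hinv] at h

end Groth.Agent.S3957
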