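import Groth.Statements.S3958
import Groth.Agent.RootBase.Gen
-- import your own Groth.Agent.* helpers here

set_option autoImplicit false
open CategoryTheory MonoidalCategory CartesianMonoidalCategory MonObj GrpObj AlgebraicGeometry
universe u
open RedSub

set_option backward.isDefEq.respectTransparency false

namespace Groth.Agent.S3958

/-- (ii) implies (i), with the target a group scheme: let G be a reductive S-group with a pinning D and
H an S-group scheme. Two homomorphisms f, g : G ⟶ H which agree on the torus T and on the root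
groups U_a and U_{-a} for every simple root a are equal. -/
theorem result {S : Scheme.{u}} {G H : Over S} [GrpObj G] [GrpObj H]
    (D : Red.Pinning G) (f g : G ⟶ H) [IsMonHom f] [IsMonHom g] (hT : D.i ≫ f = D.i ≫ g)
    (hU : ∀ a : D.idx, a ∈ D.base.support → D.u a ≫ f = D.u a ≫ g ∧
      D.u (D.P.reflectionPerm a a) ≫ f = D.u (D.P.reflectionPerm a a) ≫ g) :
    f = g := by
  letI := D.grpT
  letI := D.acgM
  letI := D.fintypeIdx
  letI := D.finiteM
  letI := D.freeM
  rcases isEmpty_or_nonempty S with hS | hS
  · haveI : IsEmpty G.left := Function.isEmpty G.hom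
    exact Over.OverMorphism.ext (Limits.IsInitial.hom_ext isInitialOfIsEmpty _ _)
  haveI := RootBase.isReduced_of_splitRed D.toSplitRed
  have F := RootBase.frame_of_splitRed D.toSplitRed
  have FF : RootBase.Frame (D.split.inv.hom.hom ≫ D.i) D.P.root D.u := F
  have hinv : D.split.inv.hom.hom ≫ D.split.hom.hom.hom = 𝟙 _ := congrArg (fun z => z.hom.hom) D.split.inv_hom_id
  choose n hn using D.refl
  have hT' : (D.split.inv.hom.hom ≫ D.i) ≫ f = (D.split.inv.hom.hom ≫ D.i) ≫ g := by
    rw [Category.assoc, Category.assoc, hT]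
  have hrefl : ∀ a, ∀ (X : Over S) (t : X ⟶ Red.DS S D.M),
      RootBase.cj (n a) (t ≫ D.split.inv.hom.hom ≫ D.i) =
        RootBase.refl (D.P.root a) (D.P.coroot a).toAddMonoidHom t ≫ D.split.inv.hom.hom ≫ D.i := fun a X t => by
    have h := hn a X (t ≫ D.split.inv.hom.hom)
    simp only [Category.assoc, reassoc_of% hinv] at h
    rw [RootBase.cj, h, ← Category.assoc]
    congr 1
    refine HomDiag.ch_ext fun m => ?_
    obtain ⟨m, rfl⟩ : ∃ k : D.M, Multiplicative.ofAdd k = m := ⟨m.toAdd, rfl⟩
    rw [HomDiag.ch_DSmap, toAdd_ofAdd, RootBase.ch_refl]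
    congr 2
    show D.P.reflection a m = m - D.P.coroot a m • D.P.root a
    rw [D.P.reflection_apply]
    show m - D.P.toLinearMap m (D.P.coroot a) • D.P.root a = _
    rw [D.pairing_eq]
    rfl
  refine FF.hom_ext_simple D.base D.pairing_eq n (fun a _ => hrefl a) f g hT' (fun a ha => (hU a ha).1) fun a ha =>
    FF.eq_at_refl a (hrefl a) f g hT' fun b hb => ?_
  rcases hb with hb | hb
  · rw [D.P.root.injective hb]; exact (hU a ha).1
  · rw [show b = D.P.reflectionPerm a a from D.P.root.injective (by rw [hb, RootBase.root_opp])]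
    exact (hU a ha).2

end Groth.Agent.S3958
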