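import Groth.Statements.S3965
import Groth.Agent.TorScheme.Reductive

set_option autoImplicit false
open CategoryTheory MonoidalCategory CartesianMonoidalCategory MonObj GrpObj AlgebraicGeometry
universe u
open RedSub

namespace Groth.Agent.S3965

/-- Let G be a reductive S-group. The functor S' ↦ {maximal tori of G_{S'}} is representable: there are
an S-scheme M and a maximal torus of G_M such that every maximal torus of every base change G_{S'}
is its pullback along a unique S-morphism S' ⟶ M (same points in G). Moreover M is smooth and affine
over S with integral geometric fibres. -/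
theorem result {S : Scheme.{u}} (G : Over S) [GrpObj G] (hG : Red.IsReductive G) :
    ∃ (M : Over S) (H : Over M.left) (_ : GrpObj H) (h : H ⟶ Red.bc M.hom G),
      RedSub.RepresentsTor G M H h ∧ Smooth M.hom ∧ IsAffineHom M.hom ∧
        ∀ s : S, IsIntegral (Red.geomFibre s M).left := by
  haveI := hG.1
  haveI := hG.2.1
  obtain ⟨P, T, hTg, i, hi, hsm, haff⟩ :=
    Groth.Agent.TorScheme.exists_torScheme (Groth.Agent.TorScheme.hasMaxTorusFpqcLocally_of_isReductive hG)
  haveI := hsm
  haveI := haff
  refine ⟨P, T, hTg, i, Groth.Agent.TorScheme.representsTor i hi, hsm, haff, fun s => ?_⟩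
  haveI := (hG.2.2 s).2.2.1
  exact Groth.Agent.TorScheme.isIntegral_geomFibre i hi s

end Groth.Agent.S3965
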