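import Groth.Statements.S3966
import Groth.Agent.BorelConj.Quot

set_option autoImplicit false
open CategoryTheory MonoidalCategory CartesianMonoidalCategory MonObj GrpObj AlgebraicGeometry
universe u
open RedSub

namespace Groth.Agent.S3966

/-- Let G be a reductive S-group, (M, h) the scheme of Borel subgroups of G with its universal Borel
subgroup, and B a Borel subgroup of G (in the sense of the source). Then the S-morphism q : G ⟶ M
classifying the family of conjugates int(g)B (g a point of G) presents M as the fppf quotient G/B: q
is an fppf covering and G x_S B ≅ G x_M G. -/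
theorem result {S : Scheme.{u}} {G B : Over S} [GrpObj G] [GrpObj B] (hG : Red.IsReductive G)
    (M : Over S) (H : Over M.left) [GrpObj H] (h : H ⟶ Red.bc M.hom G) (hM : RedSub.RepresentsBor G M H h)
    (i : B ⟶ G) (hB : RedSub.IsBorelSub i) :
    ∃ q : G ⟶ M, RedSub.SamePoints G G.hom (RedSub.conjFamily i) M h q.left ∧ RedSub.IsQuotient i q := by
  exact Groth.Agent.BorelConj.exists_orbit_bor hG h hM i hB

end Groth.Agent.S3966
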