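import Groth.Statements.S3970
import Groth.Agent.ParStd.GenPosGlobal

set_option backward.isDefEq.respectTransparency false

set_option autoImplicit false
set_option linter.style.haveILetI false
open CategoryTheory MonoidalCategory CartesianMonoidalCategory MonObj GrpObj AlgebraicGeometry
universe u
open RedSub

namespace Groth.Agent.S3970

/-- Let G be a reductive S-group, B, B' two Borel subgroups with unipotent radicals U and U'. Then: (a)
B and B' are in general position, i.e. B x_G B' is a maximal torus of G, if and only if (c) the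
morphism U' x_S B ⟶ G, (u, b) ↦ u b, is an open immersion; (a) holds if and only if (b') U' x_G B is
trivial (a point of U' whose image in G lies in B is the unit); and (a) holds if and only if (b) U'
x_G U is trivial. -/
theorem result {S : Scheme.{u}} {G B B' U U' : Over S} [GrpObj G] [GrpObj B] [GrpObj B']
    [GrpObj U] [GrpObj U'] (hG : Red.IsReductive G) (i : B ⟶ G) (i' : B' ⟶ G) (hB : Red.IsBorel i) (hB' : Red.IsBorel i')
    (u : U ⟶ B) (hU : Par.IsUnipotentRadical u) (u' : U' ⟶ B') (hU' : Par.IsUnipotentRadical u') :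
    ((∃ (T : Over S) (_ : GrpObj T) (t : T ⟶ B) (t' : T ⟶ B'), IsMonHom t ∧ IsPullback t t' i i' ∧
        Red.IsMaximalTorus (t ≫ i)) ↔ IsOpenImmersion (((u' ≫ i') ⊗ₘ i) ≫ μ[G]).left) ∧
    ((∃ (T : Over S) (_ : GrpObj T) (t : T ⟶ B) (t' : T ⟶ B'), IsMonHom t ∧ IsPullback t t' i i' ∧
        Red.IsMaximalTorus (t ≫ i)) ↔
      ∀ (X : Over S) (x : X ⟶ U') (y : X ⟶ B), x ≫ u' ≫ i' = y ≫ i → x = 1) ∧
    ((∃ (T : Over S) (_ : GrpObj T) (t : T ⟶ B) (t' : T ⟶ B'), IsMonHom t ∧ IsPullback t t' i i' ∧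
        Red.IsMaximalTorus (t ≫ i)) ↔
      ∀ (X : Over S) (x : X ⟶ U') (y : X ⟶ U), x ≫ u' ≫ i' = y ≫ u ≫ i → x = 1) := by
  haveI := hB.1; haveI := hB'.1; haveI := hU'.1; haveI := hU.1; haveI := hB'.2.1; haveI := hB.2.1; haveI := hU'.2.1
  haveI : Mono i' := Over.mono_of_mono_left i'
  haveI : Mono (u' ≫ i') := by
    haveI : Mono u' := Over.mono_of_mono_left u'
    infer_instance
  -- (a) gives (c)
  have hac : (∃ (T : Over S) (_ : GrpObj T) (t : T ⟶ B) (t' : T ⟶ B'), IsMonHom t ∧ IsPullback t t' i i' ∧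
      Red.IsMaximalTorus (t ≫ i)) → IsOpenImmersion (((u' ≫ i') ⊗ₘ i) ≫ μ[G]).left := by
    rintro ⟨T, _, t, t', ht, sq, hT⟩
    haveI := ht
    haveI : IsMonHom t' := Groth.Agent.MTSplit.isMonHom_of_comp_mono t' i' (t ≫ i) sq.w.symm
    refine Groth.Agent.ParStd.isOpenImmersion_of_levi hG i' (Groth.Agent.ParStd.isParabolic_of_isBorel hB') i
      (Groth.Agent.ParStd.isParabolic_of_isBorel hB) hU'
      (Groth.Agent.ParStd.isLevi_torus hG i' hB' t' ?_) sq.flip
    rw [← sq.w]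
    exact hT
  -- (c) gives (b')
  have hcb : IsOpenImmersion (((u' ≫ i') ⊗ₘ i) ≫ μ[G]).left →
      ∀ (X : Over S) (x : X ⟶ U') (y : X ⟶ B), x ≫ u' ≫ i' = y ≫ i → x = 1 := fun h X x y e => by
    haveI := h
    haveI : Mono (((u' ≫ i') ⊗ₘ i) ≫ μ[G]) := Over.mono_of_mono_left _
    have e' : lift x (1 : X ⟶ B) = lift (1 : X ⟶ U') y := by
      rw [← cancel_mono (((u' ≫ i') ⊗ₘ i) ≫ μ[G]), Groth.Agent.ParStd.lift_mul, Groth.Agent.ParStd.lift_mul,
        MonObj.one_comp, MonObj.one_comp, _root_.mul_one, _root_.one_mul, e]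
    have := congrArg (· ≫ fst U' B) e'
    simpa only [lift_fst] using this
  -- (b) gives (a)
  have hba := Groth.Agent.ParStd.exists_torus_of_trivial hG i hB i' hB' u hU u' hU'
  refine ⟨⟨hac, fun h => hba fun X x y e => hcb h X x (y ≫ u) (by rw [e, Category.assoc])⟩,
    ⟨fun h => hcb (hac h), fun h => hba fun X x y e => h X x (y ≫ u) (by rw [e, Category.assoc])⟩,
    ⟨fun h X x y e => hcb (hac h) X x (y ≫ u) (by rw [e, Category.assoc]), hba⟩⟩

end Groth.Agent.S3970
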