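import Groth.Statements.S3972
import Groth.Agent.Corad.Semisimple
-- import your own Groth.Agent.* helpers here

set_option backward.isDefEq.respectTransparency false
set_option linter.style.haveILetI false
set_option synthInstance.maxHeartbeats 400000
set_option maxHeartbeats 1000000

set_option autoImplicit false
open CategoryTheory MonoidalCategory CartesianMonoidalCategory MonObj GrpObj AlgebraicGeometry
universe u
open RedSub

namespace Groth.Agent.S3972

/-- Let G be a reductive S-group. Then there are an S-torus C (the coradical), a homomorphism f₀ : G ⟶ C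
which is smooth and surjective, and its kernel D = der(G) ⟶ G, a closed subgroup scheme which is a
semisimple S-group, such that every homomorphism from G to a commutative S-group scheme kills D and
factors uniquely through f₀. If G is semisimple then D = G (its inclusion is an isomorphism). -/
theorem result {S : Scheme.{u}} (G : Over S) [GrpObj G] (hG : Red.IsReductive G) :
    ∃ (C : Over S) (_ : GrpObj C) (f₀ : G ⟶ C) (D : Over S) (_ : GrpObj D) (d : D ⟶ G),
      IsMonHom f₀ ∧ Red.IsTorus C ∧ Smooth f₀.left ∧ Surjective f₀.left ∧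
      IsMonHom d ∧ IsClosedImmersion d.left ∧ AlgGrp.IsKernel d f₀ ∧ Red.IsSemisimple D ∧
      RedSub.KilledByCommutative d ∧
      (∀ (A : Over S) [GrpObj A] (f : G ⟶ A) [IsMonHom f], (∀ (X : Over S) (a b : X ⟶ A), a * b = b * a) →
        ∃! f' : C ⟶ A, f₀ ≫ f' = f) ∧
      (Red.IsSemisimple G → IsIso d) := by
  obtain ⟨C, gC, f₀, D, gD, d, h⟩ := Groth.Agent.Corad.exists_isCorad hG
  haveI := h.hf; haveI := h.hd; haveI := h.smooth; haveI := h.surj; haveI := h.smoothD; haveI := hG.2.1
  obtain ⟨hdm, hdp⟩ := Groth.Agent.Corad.kernel_pts h.ker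
  refine ⟨C, gC, f₀, D, gD, d, h.hf, h.torus, h.smooth, h.surj, h.hd, h.closed, h.ker,
    Groth.Agent.Corad.isSemisimple_derived hG h, h.killed, fun A _ f _ hA => ?_, fun hss => ?_⟩
  · have hcov : Groth.Agent.CoverMap.Covers f₀.left :=
      ⟨_, f₀.left, 𝟙 _, Scheme.fppfPrecoverage_le_fpqcPrecoverage _ (f₀.left.singleton_mem_fppfPrecoverage),
        Category.id_comp _⟩
    haveI := Groth.Agent.CoverMap.epi_over hcov
    obtain ⟨m, -, hm⟩ := Groth.Agent.MTImage.exists_desc_hom f₀ hcov f fun X x hx => by
      obtain ⟨z, hz⟩ := (hdp x).2 hx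
      rw [← hz, Category.assoc, h.killed A f hA, MonObj.comp_one]
    exact ⟨m, hm, fun y hy => (cancel_epi f₀).1 (hy.trans hm.symm)⟩
  · refine Groth.Agent.Corad.isIso_of_geom d fun s => ?_
    haveI : IsClosedImmersion d.left := h.closed
    exact Groth.Agent.Corad.isIso_geom_of_semisimple hss h s

end Groth.Agent.S3972
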