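import Groth.Statements.S3974
import Groth.Agent.ParStd.LeviExists

set_option autoImplicit false
open CategoryTheory MonoidalCategory CartesianMonoidalCategory MonObj GrpObj AlgebraicGeometry
universe u
open RedSub

namespace Groth.Agent.S3974

/-- For a parabolic subgroup. Let G be a reductive S-group, P a parabolic subgroup and T a maximal torus
of G contained in P. Then P has a Levi subgroup L containing T (L is reductive and P is the
semi-direct product of L and rad^u(P)) such that every reductive subgroup scheme of P containing T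
is contained in L; and L is the unique Levi subgroup of P containing T (two such coincide as
subgroups of P). -/
theorem result {S : Scheme.{u}} {G P T : Over S} [GrpObj G] [GrpObj P]
    [GrpObj T] (hG : Red.IsReductive G) (p : P ⟶ G) (hP : Red.IsParabolic p) (t : T ⟶ P) [IsMonHom t]
    (hT : Red.IsMaximalTorus (t ≫ p)) :
    ∃ (L : Over S) (_ : GrpObj L) (l : L ⟶ P) (tl : T ⟶ L), Par.IsLevi l ∧ tl ≫ l = t ∧
      (∀ (K : Over S) [GrpObj K] (k : K ⟶ P) (tk : T ⟶ K),
        RedSub.IsSubgrp k → Red.IsReductive K → tk ≫ k = t → ∃ m : K ⟶ L, m ≫ l = k) ∧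
      (∀ (L' : Over S) [GrpObj L'] (l' : L' ⟶ P) (tl' : T ⟶ L'),
        Par.IsLevi l' → tl' ≫ l' = t → ∃ e : L' ≅ L, e.hom ≫ l = l') := by
  obtain ⟨L, _, l, tl, hl, htl, hmax⟩ := Groth.Agent.ParStd.exists_levi hG p hP t hT
  refine ⟨L, inferInstance, l, tl, hl, htl, fun K _ k tk hk hK htk => ?_, fun L' _ l' tl' hl' htl' => ?_⟩
  · haveI := hk.2
    exact hmax K k tk hk.1 (Over.mono_of_mono_left k) hK htk
  · obtain ⟨m, hm⟩ := hmax L' l' tl' hl'.1 hl'.2.1 hl'.2.2.1 htl'
    exact Groth.Agent.ParStd.exists_iso_of_levi_le hl hl' m hm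

end Groth.Agent.S3974
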