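import Groth.Statements.S3975
import Groth.Agent.ParStd.ConjBorel

set_option backward.isDefEq.respectTransparency false
set_option linter.style.haveILetI false
set_option synthInstance.maxHeartbeats 400000
set_option maxHeartbeats 1000000

set_option autoImplicit false
open CategoryTheory MonoidalCategory CartesianMonoidalCategory MonObj GrpObj AlgebraicGeometry
universe u
open RedSub

namespace Groth.Agent.S3975

/-- Let G be a reductive S-group, P and P' two parabolic subgroups of G and B a Borel subgroup of G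
contained in both. If P and P' are conjugate in G locally for the etale topology, then P = P' as
subgroups of G. -/
theorem result {S : Scheme.{u}} {G P P' B : Over S} [GrpObj G]
    [GrpObj P] [GrpObj P'] [GrpObj B] (hG : Red.IsReductive G) (p : P ⟶ G) (p' : P' ⟶ G) (hP : Red.IsParabolic p)
    (hP' : Red.IsParabolic p') (b : B ⟶ G) (hB : Red.IsBorel b) (hb : ∃ c : B ⟶ P, c ≫ p = b)
    (hb' : ∃ c' : B ⟶ P', c' ≫ p' = b)
    (hconj : ∀ s : S, ∃ (U : Scheme.{u}) (f : U ⟶ S) (_ : Etale f), s ∈ Set.range f.base ∧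
      ∃ g : 𝟙_ _ ⟶ Red.bc f G, RedSub.ConjEq ((Over.pullback f).map p) ((Over.pullback f).map p') g) :
    ∃ e : P ≅ P', e.hom ≫ p' = p := by
  refine Groth.Agent.ParStd.exists_iso_of_samePts hG p hP p' hP' b
    (Groth.Agent.ParStd.isParabolic_of_isBorel hB) hb hb' ?_
  intro K _ _ φ
  obtain ⟨U, f, hf, hs, g₀, hg₀⟩ := hconj (φ (IsLocalRing.closedPoint K))
  haveI := hf
  obtain ⟨φ', rfl⟩ := Groth.Agent.BorelConj.exists_geom_lift f φ hs
  let F := Over.pullback f
  obtain ⟨c, hc⟩ := hb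
  obtain ⟨c', hc'⟩ := hb'
  have hU := Groth.Agent.DynPar.isReductive_bc f hG
  haveI : IsMonHom (F.map p') := (Groth.Agent.ParStd.isParabolic_bc f hG hP').1
  obtain ⟨v, hv⟩ := (hg₀ (F.obj B) (toUnit _)).1 (F.map c)
  obtain ⟨z, hz⟩ := Groth.Agent.ParStd.mem_of_conj_le hU (F.map p') (Groth.Agent.ParStd.isParabolic_bc f hG hP')
    (F.map b) (Groth.Agent.ParStd.isBorel_bc f hG hB) (F.map c') (by rw [← F.map_comp, hc']) g₀ v (by
      rw [← hv, AGF.conjBy, ← F.map_comp, hc]) φ'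
  intro g
  let y : LieS.pt K φ' ⟶ F.obj G :=
    (Over.mapPullbackAdj f).homEquiv (LieS.pt K φ') G g
  have hy : ((Over.mapPullbackAdj f).homEquiv (LieS.pt K φ') G).symm y = g :=
    Equiv.symm_apply_apply _ _
  rw [← hy, ← Groth.Agent.ParStd.fac_bc_pt f φ' y p, ← Groth.Agent.ParStd.fac_bc_pt f φ' y p']
  constructor
  · rintro ⟨h, hh⟩
    obtain ⟨h', hh'⟩ := (hg₀ _ (toUnit _)).1 h
    refine ⟨z⁻¹ * h' * z, ?_⟩
    rw [MonObj.mul_comp, MonObj.mul_comp, GrpObj.inv_comp, hz, ← hh', ← hh]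
    group
  · rintro ⟨h', hh'⟩
    obtain ⟨h, hh⟩ := (hg₀ _ (toUnit _)).2 (z * h' * z⁻¹)
    refine ⟨h, ?_⟩
    rw [← hh, MonObj.mul_comp, MonObj.mul_comp, GrpObj.inv_comp, hz, hh']
    group

end Groth.Agent.S3975
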