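import Groth.Statements.S3989
import Groth.Agent.DynPar.SplitTorus
import Groth.Agent.ParNorm.Global
-- import your own Groth.Agent.* helpers here

set_option autoImplicit false
open CategoryTheory MonoidalCategory CartesianMonoidalCategory MonObj GrpObj AlgebraicGeometry
universe u
open RedSub

set_option backward.isDefEq.respectTransparency false

namespace Groth.Agent.S3989

/-- Let G be a reductive S-group with a split subtorus Q ⟶ G (a subgroup scheme which is a torus
isomorphic to D_S(M)) which is not central (some point of Q fails to commute with some point of G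
after base change). Then G has a proper parabolic subgroup: a parabolic subgroup P ⟶ G whose
inclusion is not an isomorphism. -/
theorem result {S : Scheme.{u}} {G Q : Over S} [GrpObj G] [GrpObj Q]
    (hG : Red.IsReductive G) (j : Q ⟶ G) [IsMonHom j] [Mono j] (M : Type) [AddCommGroup M] (hQt : Red.IsTorus Q)
    (hQ : Red.IsSplitTorusWith M Q)
    (hnc : ¬ ∀ (X X' : Over S) (x : X' ⟶ X) (t : X ⟶ Q) (g : X' ⟶ G), (x ≫ t ≫ j) * g = g * (x ≫ t ≫ j)) :
    ∃ (P : Over S) (_ : GrpObj P) (p : P ⟶ G), Red.IsParabolic p ∧ ¬ IsIso p := by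
  haveI := hG.1
  obtain ⟨Z, _, z, hz, -, -⟩ := MTBridge.exists_centralizer Q G
    (MTBridge.locally_of_isMultTypeFT' Q (MTBridge.isMultTypeFT_of_isTorus Q hQt)) hG.2.1 hG.1 j
  haveI := hz.1; haveI := hz.2.1
  obtain ⟨P, hP, p, l, hp, hlp, hl⟩ := DynPar.exists_parabolic_of_splitTorus hG j hQt hQ z hz
  refine ⟨P, hP, p, hp, fun hiso => hnc ?_⟩
  obtain ⟨hlm, -, -, U, _, u, hu, hμ⟩ := hl
  obtain ⟨hum, huc, hun, hus, huq, huf, -⟩ := hu
  haveI := hp.1; haveI := hum; haveI := huc; haveI := hus
  haveI : IsClosedImmersion p.left := hp.2.1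
  haveI : IsAffineHom P.hom := by rw [← Over.w p]; infer_instance
  haveI : IsAffineHom U.hom := by rw [← Over.w u]; infer_instance
  -- the unipotent radical is trivial
  haveI : IsIso (toUnit U) := by
    refine ParNorm.isIso_of_geomPts (toUnit U) fun s => ?_
    let F := Over.pullback (Red.geomPt s)
    obtain ⟨hc, hn⟩ := huf s
    haveI : IsIso (F.map p) := inferInstance
    haveI : IsMonHom (inv p) := MTSplit.isMonHom_of_comp_mono (inv p) p (𝟙 G) (IsIso.inv_hom_id p)
    have hnorm : AlgGrp.IsNormalHom (F.map (u ≫ p)) :=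
      SubGen.isNormalHom_pullback (Red.geomPt s) G (u ≫ p) fun T g n => by
        obtain ⟨n', hn'⟩ := hun T (g ≫ inv p) n
        refine ⟨n', ?_⟩
        rw [← Category.assoc n' u p, ← hn', MonObj.mul_comp, MonObj.mul_comp, GrpObj.inv_comp, Category.assoc g,
          IsIso.inv_hom_id, Category.comp_id, Category.assoc]
    haveI : IsIso (F.obj U).hom := (hG.2.2 s).2.2.2 (F.obj U) (F.map (u ≫ p))
      (MorphismProperty.overPullbackMap (P := @IsClosedImmersion) _ (u ≫ p) (show IsClosedImmersion (u.left ≫ p.left) from inferInstance))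
      (MorphismProperty.pullback_snd (P := @Smooth) U.hom (Red.geomPt s) hus) hc hnorm hn
    haveI : IsIso (F.obj (𝟙_ (Over S))).hom := by
      show IsIso (Limits.pullback.snd (𝟙 S) (Red.geomPt s))
      infer_instance
    haveI : IsIso ((F.map (toUnit U)).left) := by
      haveI : IsIso ((F.map (toUnit U)).left ≫ (F.obj (𝟙_ (Over S))).hom) := by rw [Over.w]; infer_instance
      exact IsIso.of_isIso_comp_right _ (F.obj (𝟙_ (Over S))).hom
    haveI : IsIso ((Over.forget _).map (F.map (toUnit U))) := ‹_›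
    exact isIso_of_reflects_iso _ (Over.forget _)
  have hu1 : u = 1 := by
    have h : toUnit U ≫ inv (toUnit U) = 𝟙 U := IsIso.hom_inv_id _
    have h2 : inv (toUnit U) = η[U] := by
      rw [← cancel_mono (toUnit U)]
      exact toUnit_unique _ _
    rw [← Category.id_comp u, ← h, Category.assoc, h2, IsMonHom.one_hom, Hom.one_def]
  have hZU : IsIso (fst Z U) := by
    refine ⟨lift (𝟙 Z) (toUnit Z ≫ inv (toUnit U)), ?_, lift_fst _ _⟩
    refine CartesianMonoidalCategory.hom_ext _ _ ?_ ?_
    · rw [Category.assoc, lift_fst, Category.comp_id, Category.id_comp]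
    · rw [Category.assoc, lift_snd, Category.id_comp, ← cancel_mono (toUnit U)]
      exact toUnit_unique _ _
  haveI : IsIso l := by
    haveI := hμ
    have h : (l ⊗ₘ u) ≫ MonObj.mul = fst Z U ≫ l := by
      rw [show (l ⊗ₘ u) = lift (fst Z U ≫ l) (snd Z U ≫ u) from
        CartesianMonoidalCategory.hom_ext _ _ (by simp) (by simp), ← Hom.mul_def, hu1, MonObj.comp_one,
        _root_.mul_one]
    haveI : IsIso (fst Z U ≫ l) := h ▸ hμ
    exact IsIso.of_isIso_comp_left (fst Z U) l
  haveI : IsIso z := hlp ▸ inferInstance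
  intro X X' x t g
  obtain h := (hz.2.2 X' g).1 ⟨g ≫ inv z, by rw [Category.assoc, IsIso.inv_hom_id, Category.comp_id]⟩ X' (𝟙 _)
    (x ≫ t)
  rw [Category.id_comp, Category.assoc] at h
  exact h.symm

end Groth.Agent.S3989
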