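import Groth.Statements.S3991
import Groth.Agent.RootBase.SolvConj
-- import your own Groth.Agent.* helpers here

set_option autoImplicit false
open CategoryTheory MonoidalCategory CartesianMonoidalCategory MonObj GrpObj AlgebraicGeometry
universe u
open RedSub

set_option backward.isDefEq.respectTransparency false

namespace Groth.Agent.S3991

/-- Let G be a reductive S-group, H a subgroup of G of type (R) with solvable geometric fibres, U = H^u
its unipotent part (unipotent radical), and T, T' two maximal tori of G contained in H. Then there
is a unique section u ∈ U(S) such that int(u) carries T onto T' (so the functor of maximal tori of H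
is a torsor under U). -/
theorem result {S : Scheme.{u}} {G H U T T' : Over S} [GrpObj G]
    [GrpObj H] [GrpObj U] [GrpObj T] [GrpObj T'] (hG : Red.IsReductive G) (i : H ⟶ G) (hH : RedSub.IsTypeR i)
    (hsolv : ∀ s : S, Red.IsSolvableGrp (Red.geomFibre s H))
    (uU : U ⟶ H) (hU : Par.IsUnipotentRadical uU) (t : T ⟶ H) (t' : T' ⟶ H) [IsMonHom t] [IsMonHom t']
    (hT : Red.IsMaximalTorus (t ≫ i)) (hT' : Red.IsMaximalTorus (t' ≫ i)) :
    ∃! u : 𝟙_ (Over S) ⟶ U, RedSub.ConjEq t t' (u ≫ uU) := by
  exact RootBase.existsUnique_conj_tori hG i hH hsolv uU hU t t' hT hT'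

end Groth.Agent.S3991
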