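import Groth.Statements.S3993
import Groth.Agent.NearCyc.SmoothStalk

set_option autoImplicit false
set_option backward.isDefEq.respectTransparency false
set_option backward.isDefEq.respectTransparency.types false
universe u
open CategoryTheory CategoryTheory.Limits AlgebraicGeometry
open VanCyc

namespace Groth.Agent.S3993

/-- Let R be a strictly henselian discrete valuation ring with fraction field K, Ω a separable closure
of K, f : X -> Spec R a morphism, N an integer invertible in R, F a locally constant abelian sheaf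
on X killed by N, and x a point of the special fibre X_s at which f is smooth (x lies in an open U
of X with U -> Spec R smooth). Then at every geometric point ξ of X_s centred at x the vanishing
cycles of F are zero: the canonical map from (i^* F)_ξ to the stalk of the degree-zero nearby cycles
i^* jbar_* jbar^* F is an isomorphism, and the stalk at ξ of i^* R^q jbar_* (jbar^* F) vanishes for
every q ≥ 1 (i : X_s -> X and jbar : X ×_{Spec R} Spec Ω -> X the two fibre inclusions). -/
theorem result (R K Ω : Type u) [CommRing R] [IsDomain R] [IsDiscreteValuationRing R]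
    (hR : EtCoh.IsStrictlyHenselianLocalRing R) [Field K] [Algebra R K] [IsFractionRing R K] [Field Ω] [Algebra K Ω]
    [IsSepClosure K Ω] [Algebra R Ω] [IsScalarTower R K Ω]
    {X : Scheme.{u}} (f : X ⟶ Spec (CommRingCat.of R))
    (U : X.Opens) (hU : Smooth (U.ι ≫ f)) (x : ↥(VanCyc.spFib R f)) (hx : (VanCyc.icl R f).base x ∈ U)
    {Ω' : Type u} [Field Ω'] [IsSepClosed Ω']
    (ξ : Spec (CommRingCat.of Ω') ⟶ VanCyc.spFib R f) (hξ : ξ.base (IsLocalRing.closedPoint Ω') = x) (N : ℕ) (hN : IsUnit (N : R))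
    (F : EtCoh.Ab X) (hF : EtRest.IsLocallyConstant F) (hFN : EtCoh.KilledBy N F) :
    IsIso ((EtCoh.stalk ξ).map (VanCyc.psi0Unit R Ω f F)) ∧
      ∀ q : ℕ, 1 ≤ q → IsZero ((EtCoh.stalk ξ).obj (VanCyc.psi R Ω f q ((EtCoh.pull (VanCyc.jA R f Ω)).obj F))) := by
  obtain ⟨hh, hsep⟩ := hR
  haveI := hh
  haveI := hsep
  haveI : IsSepClosed Ω := IsSepClosure.sep_closed K
  haveI := hU
  let y := (VanCyc.icl R f).base x
  have hy : f y = IsLocalRing.closedPoint R := by
    show (VanCyc.icl R f ≫ f).base x = _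
    rw [show VanCyc.icl R f ≫ f = VanCyc.spStr R f ≫ VanCyc.toSk R from pullback.condition]
    show (VanCyc.toSk R) ((VanCyc.spStr R f) x) = _
    rw [Subsingleton.elim ((VanCyc.spStr R f) x) (IsLocalRing.closedPoint _)]
    exact EtBCQ.Spec_closedPoint' (IsLocalRing.residue R)
  have hN' : (N : IsLocalRing.ResidueField R) ≠ 0 := by
    have h := (hN.map (IsLocalRing.residue R)).ne_zero
    rwa [map_natCast] at h
  obtain ⟨hk, hc, hq⟩ := NearCyc.zeroAt_smooth_point f U Ω hy hx F hF hN' hFN
  have hy' : (ξ ≫ VanCyc.icl R f) (default : ↥(Spec (CommRingCat.of Ω'))) = y := by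
    rw [Scheme.Hom.comp_apply, Subsingleton.elim (default : ↥(Spec (CommRingCat.of Ω'))) (IsLocalRing.closedPoint Ω')]
    exact congrArg _ hξ
  refine ⟨?_, fun q hq1 => ?_⟩
  · refine (NatIso.isIso_map_iff (EtStalk.stalkPullIso (VanCyc.icl R f) ξ) _).1 ?_
    exact (EtCons.isIso_stalk_iff _ _).2
      ⟨(EtPBC.isZero_stalk_iff_zeroAt hy' _).2 hk, (EtPBC.isZero_stalk_iff_zeroAt hy' _).2 hc⟩
  · obtain ⟨j, rfl⟩ : ∃ j, q = j + 1 := ⟨q - 1, by omega⟩
    exact ((EtPBC.isZero_stalk_iff_zeroAt hy' _).2 (hq j)).of_iso ((EtStalk.stalkPullIso (VanCyc.icl R f) ξ).app _).symm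

end Groth.Agent.S3993
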