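import Groth.Statements.S4005
import Groth.Agent.ConeCoh.Basic

set_option autoImplicit false
set_option backward.isDefEq.respectTransparency false
set_option backward.isDefEq.respectTransparency.types false
universe u
open CategoryTheory CategoryTheory.Limits AlgebraicGeometry
open VanCyc

namespace Groth.Agent.S4005

/-- Let k be an algebraically closed field, Y ⊂ P^r a projective variety given by a homogeneous prime
ideal I of k[x_0, …, x_r] (spanned by homogeneous polynomials of positive degree), X = Spec k[x_0,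
…, x_r]/I its affine cone with vertex 0 (the k-point ε killing all x_i), and N an integer nonzero in
k. Then restriction to the vertex H^0(X, Z/N) -> H^0(0, Z/N) is bijective and H^i(X, Z/N) = 0 for
all i ≥ 1. Coefficients are Z/N with N nonzero in k. -/
theorem result (k : Type u) [Field k] [IsAlgClosed k] (r : ℕ)
    (I : Ideal (MvPolynomial (Fin (r + 1)) k)) (hI : I.IsPrime)
    (hIh : ∃ T : Set (MvPolynomial (Fin (r + 1)) k), I = Ideal.span T ∧
      ∀ p ∈ T, ∃ d : ℕ, 1 ≤ d ∧ MvPolynomial.IsHomogeneous p d)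
    (ε : (MvPolynomial (Fin (r + 1)) k ⧸ I) →ₐ[k] k) (hε : ∀ i, ε (Ideal.Quotient.mk I (MvPolynomial.X i)) = 0)
    (N : ℕ) (hN : (N : k) ≠ 0)
    [PreservesFiniteLimits (EtCoh.pull (Spec.map (CommRingCat.ofHom ε.toRingHom)))] :
    Function.Bijective (EtCore.Hpull (Spec.map (CommRingCat.ofHom ε.toRingHom))
        (EtCoh.const (Spec (CommRingCat.of (MvPolynomial (Fin (r + 1)) k ⧸ I))) (ZMod N)) 0) ∧
      ∀ i : ℕ, 1 ≤ i →
        Subsingleton (EtCoh.H (Spec (CommRingCat.of (MvPolynomial (Fin (r + 1)) k ⧸ I)))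
          (EtCoh.const (Spec (CommRingCat.of (MvPolynomial (Fin (r + 1)) k ⧸ I))) (ZMod N)) i) := by
  classical
  let B := MvPolynomial (Fin (r + 1)) k ⧸ I
  let a : Fin (r + 1) → B := fun i => Ideal.Quotient.mk I (MvPolynomial.X i)
  let g : MvPolynomial (Fin (r + 1)) k →ₐ[k] Polynomial B := MvPolynomial.aeval fun i => Polynomial.C (a i) * Polynomial.X
  have hg : ∀ (p : MvPolynomial (Fin (r + 1)) k) (d : ℕ), MvPolynomial.IsHomogeneous p d →
      g p = Polynomial.C (MvPolynomial.aeval a p) * Polynomial.X ^ d := by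
    intro p d hp
    simp only [g, MvPolynomial.aeval_def, MvPolynomial.eval₂_eq', map_sum, Finset.sum_mul]
    refine Finset.sum_congr rfl fun e he => ?_
    have hd : ∑ i, e i = d := by
      have h := hp (MvPolynomial.mem_support_iff.1 he)
      rw [← h, Finsupp.weight_apply, Finsupp.sum_fintype _ _ (fun i => by simp)]
      simp
    rw [← hd, ← Finset.prod_pow_eq_pow_sum Finset.univ (fun i => e i) (Polynomial.X : Polynomial B), map_mul, map_prod, mul_assoc, ← Finset.prod_mul_distrib,
      Polynomial.algebraMap_apply]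
    simp only [map_pow]
    exact congrArg _ (Finset.prod_congr rfl fun i _ => (Commute.all (Polynomial.C (a i)) Polynomial.X).mul_pow (e i))
  have hmk : ∀ p, MvPolynomial.aeval a p = Ideal.Quotient.mk I p := fun p => by
    rw [show MvPolynomial.aeval a = Ideal.Quotient.mkₐ k I from MvPolynomial.algHom_ext fun i => (MvPolynomial.aeval_X a i).trans rfl]
    rfl
  have hker : ∀ p ∈ I, g p = 0 := by
    obtain ⟨T, rfl, hT⟩ := hIh
    intro p hp
    refine (Ideal.span_le.2 (fun q hq => ?_) : Ideal.span T ≤ RingHom.ker g) hp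
    obtain ⟨d, -, hd⟩ := hT q hq
    rw [SetLike.mem_coe, RingHom.mem_ker, hg q d hd, hmk, Ideal.Quotient.eq_zero_iff_mem.2 (Ideal.subset_span hq),
      map_zero, zero_mul]
  let h := Ideal.Quotient.lift I g.toRingHom hker
  refine ConeCoh.contractible ε.toRingHom (algebraMap k B) (RingHom.ext fun c => ε.commutes c) h ?_ ?_ N ?_
  · refine Ideal.Quotient.ringHom_ext (MvPolynomial.ringHom_ext (fun c => ?_) fun i => ?_)
    · show (g (MvPolynomial.C c)).eval 1 = Ideal.Quotient.mk I (MvPolynomial.C c)
      simp only [g, MvPolynomial.aeval_C, Polynomial.algebraMap_apply, Polynomial.eval_C]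
      rfl
    · show (g (MvPolynomial.X i)).eval 1 = a i
      simp [g]
  · refine Ideal.Quotient.ringHom_ext (MvPolynomial.ringHom_ext (fun c => ?_) fun i => ?_)
    · show (g (MvPolynomial.C c)).eval 0 = algebraMap k B (ε (algebraMap k B c))
      simp only [g, MvPolynomial.aeval_C, Polynomial.algebraMap_apply, Polynomial.eval_C, ε.commutes]
      exact congrArg (algebraMap k B) (ε.commutes c).symm
    · show (g (MvPolynomial.X i)).eval 0 = algebraMap k B (ε (Ideal.Quotient.mk I (MvPolynomial.X i)))
      simp [g, hε]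
  · rw [← map_natCast (algebraMap k B)]
    exact (isUnit_iff_ne_zero.2 hN).map _

end Groth.Agent.S4005
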