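import Groth.Statements.S4006
import Groth.Agent.NearCyc.Stalks

set_option autoImplicit false
set_option backward.isDefEq.respectTransparency false
set_option backward.isDefEq.respectTransparency.types false
universe u
open CategoryTheory CategoryTheory.Limits AlgebraicGeometry
open VanCyc

namespace Groth.Agent.S4006

/-- Let R be a strictly henselian discrete valuation ring with fraction field K, Ω a separable closure
of K, f : X -> Spec R of finite type, N invertible in R and F an abelian sheaf on X killed by N. If
the generic fibre X_η = X ×_S Spec K has dimension at most d, then the nearby-cycle sheaves i^* R^q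
jbar_* (jbar^* F) on the special fibre vanish for every q > d (the nearby-cycles functor has
cohomological dimension at most dim X_η). -/
theorem result (R K Ω : Type u) [CommRing R] [IsDomain R] [IsDiscreteValuationRing R]
    (hR : EtCoh.IsStrictlyHenselianLocalRing R) [Field K] [Algebra R K] [IsFractionRing R K] [Field Ω] [Algebra K Ω]
    [IsSepClosure K Ω] [Algebra R Ω] [IsScalarTower R K Ω]
    {X : Scheme.{u}} (f : X ⟶ Spec (CommRingCat.of R)) [LocallyOfFiniteType f] [QuasiCompact f]
    (d : ℕ) (hd : topologicalKrullDim ↥(VanCyc.fib R f K) ≤ d) (N : ℕ) (hN : IsUnit (N : R))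
    (F : EtCoh.Ab X) (hF : EtCoh.KilledBy N F) (q : ℕ) (hq : d < q) :
    IsZero (VanCyc.psi R Ω f q ((EtCoh.pull (VanCyc.jA R f Ω)).obj F)) := by
  haveI : IsSepClosed Ω := IsSepClosure.sep_closed K
  haveI : Algebra.IsSeparable K Ω := IsSepClosure.separable
  haveI : Algebra.IsIntegral K Ω := Algebra.IsSeparable.isAlgebraic K Ω |>.isIntegral
  have hN0 : 0 < N := Nat.pos_of_ne_zero fun h => by
    subst h
    exact not_isUnit_zero (M₀ := R) (by simpa using hN)
  refine EtPBC.isZero_of_zeroAt _ fun x => EtPBC.zeroAt_pull _ _ x ?_
  exact NearCyc.zeroAt_Rpush_above (K := K) f hd _ hN0 (EtPBC.killed_pull _ hF) hq _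

end Groth.Agent.S4006
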