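import Groth.Statements.S4020
import Groth.Agent.DualVar.Reflexive

set_option autoImplicit false
set_option backward.isDefEq.respectTransparency false
universe u
open CategoryTheory CategoryTheory.Limits AlgebraicGeometry
open LefPen

namespace Groth.Agent.S4020

/-- Let k be an algebraically closed field and X an irreducible smooth proper k-scheme of dimension n ≥
1 embedded in projective r-space by a closed immersion i; assume k has characteristic zero. Then i
itself is a Lefschetz embedding: the pairs of linear forms spanning a Lefschetz pencil of hyperplane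
sections of X contain the non-vanishing locus of a not identically zero polynomial function of their
coefficients. -/
theorem result (k : Type u) [Field k] [IsAlgClosed k] (r n : ℕ) (hn : 1 ≤ n)
    {X : Scheme.{u}} (i : X ⟶ CohB1.ProjSpace r k) [IsClosedImmersion i] [IrreducibleSpace X]
    [SmoothOfRelativeDimension n (i ≫ CohB1.ProjSpace.toSpec r k)]
    [CharZero k] : LefPen.IsLefschetzEmb k n i 1 := by
  classical
  haveI : SmoothOfRelativeDimension n (Groth.Agent.DualVar.str i) := ‹_›
  haveI : Smooth (Groth.Agent.DualVar.str i) := SmoothOfRelativeDimension.smooth n _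
  haveI : LocallyOfFiniteType (Groth.Agent.DualVar.str i) := inferInstance
  open Groth.Agent.DualVar in
  obtain ⟨f, hf, ⟨H₀, hH₀⟩, hfs⟩ := isGeneric_good n i (le_refl 1) (r := r)
  obtain ⟨P, hP0, hP⟩ := Groth.Agent.DualVar.exists_poly_through hn (le_refl 1)
    (Groth.Agent.DualVar.noHyp_wbad_of_charZero hn) H₀ ((Groth.Agent.DualVar.transversal_iff i hn H₀).2 (hfs H₀ hH₀))
  obtain ⟨v, hv⟩ : ∃ v, MvPolynomial.eval v P ≠ 0 := by
    by_contra hc
    push Not at hc
    exact hP0 (MvPolynomial.funext fun v => by rw [hc v, map_zero])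
  obtain ⟨g, hg, hgne, hgs⟩ := Groth.Agent.DualVar.isZOpen_isLefschetzPencil (i := i) hn (le_refl 1)
    (H₀, Groth.Agent.DualVar.fc v) (hP (Groth.Agent.DualVar.fc v) (by rw [Groth.Agent.DualVar.co_fc]; exact hv))
  exact ⟨g, hg, ⟨_, hgne⟩, hgs⟩

end Groth.Agent.S4020
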