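import Groth.Statements.S4022
import Groth.Agent.DualVar.Through

set_option autoImplicit false
set_option backward.isDefEq.respectTransparency false
universe u
open CategoryTheory CategoryTheory.Limits AlgebraicGeometry
open LefPen

namespace Groth.Agent.S4022

/-- Let k be an algebraically closed field and X an irreducible smooth proper k-scheme of dimension n ≥
1 embedded in projective r-space by a closed immersion i; let d ≥ 1 be such that the degree-d
embedding is a Lefschetz embedding, and let H₀ be a degree-d form whose hypersurface cuts X
transversally. Then the forms G such that (H₀, G) spans a Lefschetz pencil contain the non-vanishing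
locus of a not identically zero polynomial function: the Lefschetz pencils through H₀ are dense open
among pencils through H₀. -/
theorem result (k : Type u) [Field k] [IsAlgClosed k] (r n : ℕ) (hn : 1 ≤ n)
    {X : Scheme.{u}} (i : X ⟶ CohB1.ProjSpace r k) [IsClosedImmersion i] [IrreducibleSpace X]
    [SmoothOfRelativeDimension n (i ≫ CohB1.ProjSpace.toSpec r k)]
    (d : ℕ) (hd : 1 ≤ d) (hL : LefPen.IsLefschetzEmb k n i d) (H₀ : LefPen.Form r k d)
    (hH₀ : LefPen.Transversal k n 1 (LefPen.secToSpec i ({H₀} : Set (LefPen.Form r k d)))) :
    LefPen.IsGeneric k {G : LefPen.Form r k d | LefPen.IsLefschetzPencil k n i d H₀ G} := by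
  classical
  open Groth.Agent.DualVar in
  obtain ⟨P, hP0, hP⟩ := exists_poly_through (i := i) hn hd (noHyp_wbad_of_emb hn hL) H₀ hH₀
  refine ⟨fun G => MvPolynomial.eval (Groth.Agent.DualVar.co G) P, Groth.Agent.DualVar.isPolyFun_co P, ?_, hP⟩
  by_contra hc
  push Not at hc
  refine hP0 (MvPolynomial.funext fun c => ?_)
  have h1 := hc (Groth.Agent.DualVar.fc c)
  rw [Groth.Agent.DualVar.co_fc] at h1
  rw [h1, map_zero]

end Groth.Agent.S4022
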