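import Groth.Statements.S4027
import Mathlib.Algebra.MvPolynomial.Nilpotent
import Mathlib.RingTheory.Polynomial.GaussLemma
import Mathlib.RingTheory.Polynomial.UniqueFactorization
-- import your own Groth.Agent.* helpers here

set_option autoImplicit false
universe u
open LefPen


namespace Groth.Agent.S4027

open Polynomial LaurentPolynomial

universe v

section
variable {k : Type u} [Field k] {r : ℕ}

local notation "A" => MvPolynomial (Fin r) k

/-- The substitution `X_j ↦ X_j T ^ ε`, `T ↦ T` of Laurent polynomials over `k[X]`. -/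
noncomputable def subst (ε : ℤ) : LaurentPolynomial A →+* LaurentPolynomial A :=
  LaurentPolynomial.eval₂
    (MvPolynomial.eval₂Hom (LaurentPolynomial.C.comp MvPolynomial.C)
      (fun j => LaurentPolynomial.C (MvPolynomial.X j) * LaurentPolynomial.T ε))
    (isUnit_T 1).unit

lemma subst_C_C (ε : ℤ) (c : k) :
    subst (r := r) ε (LaurentPolynomial.C (MvPolynomial.C c)) =
      LaurentPolynomial.C (MvPolynomial.C c) := by
  simp [subst]

lemma subst_C_X (ε : ℤ) (j : Fin r) :
    subst (k := k) ε (LaurentPolynomial.C (MvPolynomial.X j)) =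
      LaurentPolynomial.C (MvPolynomial.X j) * LaurentPolynomial.T ε := by
  simp [subst]

lemma subst_T (ε n : ℤ) :
    subst (k := k) (r := r) ε (LaurentPolynomial.T n) = LaurentPolynomial.T n := by
  have h1 : ∀ m : ℕ, subst (k := k) (r := r) ε (LaurentPolynomial.T (m : ℤ)) =
      LaurentPolynomial.T (m : ℤ) := fun m => by
    simp [subst, LaurentPolynomial.eval₂_T_n, LaurentPolynomial.T_pow]
  obtain ⟨m, rfl | rfl⟩ := n.eq_nat_or_neg
  · exact h1 m
  · refine left_inv_eq_right_inv (a := LaurentPolynomial.T (m : ℤ)) ?_ ?_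
    · rw [← h1 m, ← map_mul, ← T_add]; simp
    · rw [← T_add]; simp

lemma subst_subst (ε : ℤ) (x : LaurentPolynomial A) : subst (-ε) (subst ε x) = x := by
  have h : (subst (-ε)).comp (subst ε) = RingHom.id (LaurentPolynomial A) := by
    apply AddMonoidAlgebra.ringHom_ext
    · intro a
      show subst (-ε) (subst ε (LaurentPolynomial.C a)) = LaurentPolynomial.C a
      have hc : ((subst (-ε)).comp (subst ε)).comp LaurentPolynomial.C =
          (LaurentPolynomial.C : A →+* LaurentPolynomial A) := by
        apply MvPolynomial.ringHom_ext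
        · intro c; simp [subst_C_C]
        · intro j
          simp only [RingHom.comp_apply, subst_C_X, map_mul, subst_T]
          rw [mul_assoc, ← T_add]; simp
      exact RingHom.congr_fun hc a
    · intro n
      show subst (-ε) (subst ε (LaurentPolynomial.T n)) = LaurentPolynomial.T n
      rw [subst_T, subst_T]
  exact RingHom.congr_fun h x

lemma toLaurent_line (F : A) :
    toLaurent (MvPolynomial.eval₂ (Polynomial.C.comp MvPolynomial.C)
        (fun j => Polynomial.C (MvPolynomial.X j) * Polynomial.X) F) =
      subst 1 (LaurentPolynomial.C F) := by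
  have h : (toLaurent : A[X] →+* _).comp (MvPolynomial.eval₂Hom (Polynomial.C.comp MvPolynomial.C)
        (fun j => Polynomial.C (MvPolynomial.X j) * Polynomial.X)) =
      (subst 1).comp LaurentPolynomial.C := by
    apply MvPolynomial.ringHom_ext
    · intro c; simp [subst_C_C]
    · intro j; simp [subst_C_X]
  exact RingHom.congr_fun h F

lemma coeff_zero_line (F : A) :
    (MvPolynomial.eval₂ (Polynomial.C.comp MvPolynomial.C)
        (fun j => Polynomial.C (MvPolynomial.X j) * Polynomial.X) F).coeff 0 =
      MvPolynomial.C (MvPolynomial.eval (fun _ => (0 : k)) F) := by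
  have h : (Polynomial.constantCoeff (R := A)).comp
      (MvPolynomial.eval₂Hom (Polynomial.C.comp MvPolynomial.C)
        (fun j => Polynomial.C (MvPolynomial.X j) * Polynomial.X)) =
      MvPolynomial.C.comp (MvPolynomial.eval (fun _ => (0 : k))) := by
    apply MvPolynomial.ringHom_ext
    · intro c; simp
    · intro j; simp
  exact RingHom.congr_fun h F

/-- If `a * b = F(X T)` and `F` is prime then `a` or `b` is a unit. -/
lemma isUnit_or_isUnit (F : A) (hF : Prime F)
    (hF0 : MvPolynomial.eval (fun _ => (0 : k)) F ≠ 0) (a b : A[X])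
    (hab : MvPolynomial.eval₂ (Polynomial.C.comp MvPolynomial.C)
        (fun j => Polynomial.C (MvPolynomial.X j) * Polynomial.X) F = a * b) :
    IsUnit a ∨ IsUnit b := by
  set a' := subst (-1) (toLaurent a) with ha'
  set b' := subst (-1) (toLaurent b) with hb'
  have hmul : a' * b' = LaurentPolynomial.C F := by
    rw [ha', hb', ← map_mul, ← map_mul, ← hab, toLaurent_line, subst_subst]
  obtain ⟨p, a0, ha0⟩ := LaurentPolynomial.exists_T_pow a'
  obtain ⟨q, b0, hb0⟩ := LaurentPolynomial.exists_T_pow b'
  have h0 : a0 * b0 = Polynomial.X ^ (p + q) * Polynomial.C F := by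
    apply Polynomial.toLaurent_injective
    rw [map_mul, map_mul, ha0, hb0, Polynomial.toLaurent_X_pow, Polynomial.toLaurent_C, ← hmul]
    push_cast
    rw [T_add]
    ring
  have main : ∀ (x : A[X]) (x' : LaurentPolynomial A) (y0 z0 : A[X]) (s N : ℕ),
      x' = subst (-1) (toLaurent x) → toLaurent y0 = x' * T s →
      y0 * z0 = Polynomial.X ^ N → x.coeff 0 ≠ 0 → IsUnit x := by
    intro x x' y0 z0 s N hx hy hyz hx0
    obtain ⟨i, -, hi⟩ := (dvd_prime_pow Polynomial.prime_X N).mp ⟨z0, hyz.symm⟩
    obtain ⟨u, hu⟩ := hi.symm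
    obtain ⟨w, hw, hwu⟩ := Polynomial.isUnit_iff.mp u.isUnit
    obtain ⟨c, hc, hcw⟩ := (MvPolynomial.isUnit_iff_eq_C_of_isReduced).mp hw
    have hx2 : toLaurent x * T (s : ℤ) =
        toLaurent (Polynomial.X ^ i * Polynomial.C (MvPolynomial.C c)) := by
      have e1 : subst 1 (toLaurent y0) = toLaurent x * T (s : ℤ) := by
        rw [hy, map_mul, subst_T, hx]
        have := subst_subst (k := k) (r := r) (-1) (toLaurent x)
        rw [neg_neg] at this
        rw [this]
      rw [← e1, ← hu, ← hwu, hcw]
      simp [subst_C_C, subst_T]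
    have hx3 : x * Polynomial.X ^ s = Polynomial.X ^ i * Polynomial.C (MvPolynomial.C c) := by
      apply Polynomial.toLaurent_injective
      rw [map_mul, Polynomial.toLaurent_X_pow]
      exact hx2
    have his : i = s := by
      have hcne : MvPolynomial.C c ≠ (0 : A) := by simpa using hc.ne_zero
      have e1 := congrArg Polynomial.natTrailingDegree hx3
      rw [Polynomial.natTrailingDegree_mul (fun h => hx0 (by simp [h])) (pow_ne_zero _ Polynomial.X_ne_zero),
        Polynomial.natTrailingDegree_mul (pow_ne_zero _ Polynomial.X_ne_zero) (by simpa using hcne),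
        Polynomial.natTrailingDegree_eq_zero.mpr (Or.inr hx0)] at e1
      simpa using e1.symm
    subst his
    have : x = Polynomial.C (MvPolynomial.C c) := by
      apply mul_right_cancel₀ (pow_ne_zero i Polynomial.X_ne_zero)
      rw [hx3, mul_comm]
    rw [this]
    exact Polynomial.isUnit_C.mpr (hc.map _)
  have hne : a.coeff 0 * b.coeff 0 ≠ 0 := by
    rw [← Polynomial.mul_coeff_zero, ← hab, coeff_zero_line]
    simpa using hF0
  have hP : Prime (Polynomial.C F) := Polynomial.prime_C_iff.mpr hF
  rcases hP.dvd_or_dvd ⟨Polynomial.X ^ (p + q), by rw [h0, mul_comm]⟩ with ⟨z, hz⟩ | ⟨z, hz⟩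
  · refine Or.inr (main b b' b0 z q (p + q) hb' hb0 ?_ (right_ne_zero_of_mul hne))
    apply mul_left_cancel₀ hP.ne_zero
    rw [hz] at h0
    linear_combination h0
  · refine Or.inl (main a a' a0 z p (p + q) ha' ha0 ?_ (left_ne_zero_of_mul hne))
    apply mul_left_cancel₀ hP.ne_zero
    rw [hz] at h0
    linear_combination h0

end

end Groth.Agent.S4027

namespace Groth.Agent.S4027

/-- Let k be an algebraically closed field, r ≥ 2, and F ∈ k[X_1, …, X_r] an irreducible polynomial with
F(0) ≠ 0 (in the source the origin is the base point of the lines considered and lies off the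
hypersurface F = 0; without this the claim fails, e.g. for X_1 - X_2^2). Then the polynomial G(T) =
F(X_1 T, …, X_r T), with coefficients in the field of rational functions k(X_1, …, X_r), is
irreducible. -/
theorem result (k : Type u) [Field k] [IsAlgClosed k] (r : ℕ) (hr : 2 ≤ r)
    (F : MvPolynomial (Fin r) k) (hF : Irreducible F) (hF0 : MvPolynomial.eval (fun _ => (0 : k)) F ≠ 0) :
    Irreducible ((MvPolynomial.eval₂ (Polynomial.C.comp MvPolynomial.C)
        (fun j => Polynomial.C (MvPolynomial.X j) * Polynomial.X) F).map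
      (algebraMap (MvPolynomial (Fin r) k) (FractionRing (MvPolynomial (Fin r) k)))) := by
  set G := MvPolynomial.eval₂ (Polynomial.C.comp MvPolynomial.C)
    (fun j => Polynomial.C (MvPolynomial.X j) * Polynomial.X) F with hG
  have hunit : IsUnit (G.coeff 0) := by
    rw [hG, coeff_zero_line]
    exact (Ne.isUnit hF0).map _
  have hprim : G.IsPrimitive := fun a ha =>
    isUnit_of_dvd_unit ((Polynomial.C_dvd_iff_dvd_coeff a G).mp ha 0) hunit
  refine (Polynomial.IsPrimitive.irreducible_iff_irreducible_map_fraction_map hprim).mp ⟨fun h => ?_, fun a b hab => ?_⟩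
  · apply hF.not_isUnit
    -- evaluate at `T = 1`
    have e : Polynomial.eval 1 G = F := by
      have h' : (Polynomial.evalRingHom (1 : MvPolynomial (Fin r) k)).comp
          (MvPolynomial.eval₂Hom (Polynomial.C.comp MvPolynomial.C)
            (fun j => Polynomial.C (MvPolynomial.X j) * Polynomial.X)) = RingHom.id _ := by
        apply MvPolynomial.ringHom_ext
        · intro c; simp
        · intro j; simp
      exact RingHom.congr_fun h' F
    rw [← e]
    exact h.map (Polynomial.evalRingHom (1 : MvPolynomial (Fin r) k))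
  · exact isUnit_or_isUnit F (UniqueFactorizationMonoid.irreducible_iff_prime.mp hF) hF0 a b hab

end Groth.Agent.S4027
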