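import Groth.Statements.S4045
import Groth.Agent.EtPur.ProjBundleH

set_option autoImplicit false
universe u
open CategoryTheory CategoryTheory.Limits AlgebraicGeometry
open LefMon

namespace Groth.Agent.S4045

/-- For the trivial bundle and with finite coefficients: let k be a separably closed field, m ≥ 1
invertible in k, X a k-scheme and π : P^r_X → X the projection of projective r-space over X. Then
for every q the pullback π^* : H^q(X, Z/m) → H^q(P^r_X, Z/m) is injective and H^q(P^r_X, Z/m) is
additively isomorphic to ⊕_{0 ≤ j ≤ r, 2j ≤ q} H^{q-2j}(X, Z/m). (The source treats the projective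
bundle of any vector bundle on any scheme on which ℓ is invertible, with the summands twisted by
Z_ℓ(-j) and the map given by cup product with powers of the first Chern class of O(1); over a
separably closed field the twists are trivial. Exactness of π^{-1} is supplied as an instance
hypothesis.) -/
theorem result (k : Type u) [Field k] [IsSepClosed k] (m : ℕ) (hm0 : 0 < m)
    (hm : (m : k) ≠ 0) {X : Scheme.{u}} (f : X ⟶ Spec (CommRingCat.of k)) (r q : ℕ)
    [hπ : PreservesFiniteLimits (EtCoh.pull (CohB1.ProjSpaceOver.toBase r X))] :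
    Function.Injective (((EtCoh.HF (CohB1.ProjSpaceOver r X) q).map
        (EtCore.pullConst (CohB1.ProjSpaceOver.toBase r X) (ZMod m)).hom).hom.comp
      (EtCore.Hpull (CohB1.ProjSpaceOver.toBase r X) (EtCoh.const X (ZMod m)) q)) ∧
    Nonempty (EtCoh.H (CohB1.ProjSpaceOver r X) (EtCoh.const (CohB1.ProjSpaceOver r X) (ZMod m)) q ≃+
      (∀ j : {j : Fin (r + 1) // 2 * j.1 ≤ q}, EtCoh.H X (EtCoh.const X (ZMod m)) (q - 2 * j.1.1))) := by
  obtain ⟨e, he⟩ := Groth.Agent.PnSpec.exists_iso r k
  let Z := ULift.{u} ℤ
  have hbig : IsPullback (pullback.fst (CohB1.ProjSpace.toSpec r Z) (specULiftZIsTerminal.from X))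
      (CohB1.ProjSpaceOver.toBase r X) (CohB1.ProjSpace.toSpec r Z)
      (f ≫ specULiftZIsTerminal.from (Spec (CommRingCat.of k))) := by
    rw [specULiftZIsTerminal.hom_ext (f ≫ _) (specULiftZIsTerminal.from X)]
    exact IsPullback.of_hasPullback _ _
  have hk : IsPullback (e.hom ≫ pullback.fst (CohB1.ProjSpace.toSpec r Z) (specULiftZIsTerminal.from _))
      (CohB1.ProjSpace.toSpec r k) (CohB1.ProjSpace.toSpec r Z)
      (specULiftZIsTerminal.from (Spec (CommRingCat.of k))) :=
    (IsPullback.of_hasPullback _ _).of_iso e.symm (Iso.refl _) (Iso.refl _) (Iso.refl _)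
      ((Category.comp_id _).trans (e.inv_hom_id_assoc _).symm)
      ((Category.comp_id _).trans (by rw [← he]; exact (e.inv_hom_id_assoc _).symm))
      ((Category.comp_id _).trans (Category.id_comp _).symm) ((Category.comp_id _).trans (Category.id_comp _).symm)
  let a := hk.lift (pullback.fst _ _) (CohB1.ProjSpaceOver.toBase r X ≫ f) (hbig.w.trans (Category.assoc _ _ _).symm)
  have hP : IsPullback a (CohB1.ProjSpaceOver.toBase r X) (CohB1.ProjSpace.toSpec r k) f :=
    IsPullback.of_right ((hk.lift_fst _ _ _).symm ▸ hbig) (hk.lift_snd _ _ _) hk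
  obtain ⟨h1, h2⟩ := Groth.Agent.EtPur.H_projSpace_baseChange (k := k) m hm f r a _ hP q
  exact ⟨h1, h2⟩

end Groth.Agent.S4045
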