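import Groth.Statements.S4046
import Groth.Agent.DualVar.Trans
import Groth.Agent.DualVar.Irred
import Groth.Agent.DualVar.Open

set_option autoImplicit false
set_option backward.isDefEq.respectTransparency false
universe u
open CategoryTheory CategoryTheory.Limits AlgebraicGeometry
open LefPen

namespace Groth.Agent.S4046

/-- The dual variety is closed and irreducible: on the space of forms: let k be an algebraically closed
field and X an irreducible smooth proper k-scheme of dimension n ≥ 1 embedded in projective r-space
by a closed immersion i, and let d ≥ 1. The degree-d forms whose hypersurface cuts X transversally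
form a Zariski-open set, and its complement (the affine cone over the dual variety of the degree-d
embedding) is irreducible: if two polynomial functions f, g on the space of forms have product
vanishing at every non-transversal form, then one of them vanishes at every non-transversal form. -/
theorem result (k : Type u) [Field k] [IsAlgClosed k] (r n : ℕ) (hn : 1 ≤ n)
    {X : Scheme.{u}} (i : X ⟶ CohB1.ProjSpace r k) [IsClosedImmersion i] [IrreducibleSpace X]
    [SmoothOfRelativeDimension n (i ≫ CohB1.ProjSpace.toSpec r k)]
    (d : ℕ) (hd : 1 ≤ d) :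
    LefPen.IsZOpen k {H : LefPen.Form r k d |
      LefPen.Transversal k n 1 (LefPen.secToSpec i ({H} : Set (LefPen.Form r k d)))} ∧
    ∀ f g : LefPen.Form r k d → k, LefPen.IsPolyFun k f → LefPen.IsPolyFun k g →
      (∀ H : LefPen.Form r k d, ¬ LefPen.Transversal k n 1 (LefPen.secToSpec i ({H} : Set (LefPen.Form r k d))) →
        f H * g H = 0) →
      (∀ H : LefPen.Form r k d, ¬ LefPen.Transversal k n 1 (LefPen.secToSpec i ({H} : Set (LefPen.Form r k d))) → f H = 0) ∨
      (∀ H : LefPen.Form r k d, ¬ LefPen.Transversal k n 1 (LefPen.secToSpec i ({H} : Set (LefPen.Form r k d))) → g H = 0) := by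
  haveI : LocallyOfFiniteType (DualVar.str i) := DualVar.lft i n
  have hS : ∀ H : LefPen.Form r k d, LefPen.Transversal k n 1 (LefPen.secToSpec i ({H} : Set (LefPen.Form r k d))) ↔
      ∀ x : X, IsClosed ({x} : Set X) → ¬ DualVar.Bad i H x := fun H => DualVar.transversal_iff i hn H
  refine ⟨?_, fun f g hf hg h => ?_⟩
  · simp only [hS]
    exact DualVar.isZOpen_good n i hd
  · have hB : ∀ {x : X} {H : LefPen.Form r k d}, IsClosed ({x} : Set X) → DualVar.Bad i H x →
        ¬ LefPen.Transversal k n 1 (LefPen.secToSpec i ({H} : Set (LefPen.Form r k d))) :=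
      fun hx hb hT => (hS _).1 hT _ hx hb
    have key : ∀ (φ : LefPen.Form r k d → k), (∀ (x : X) (H : LefPen.Form r k d), IsClosed ({x} : Set X) →
        DualVar.Bad i H x → φ H = 0) → ∀ H,
        ¬ LefPen.Transversal k n 1 (LefPen.secToSpec i ({H} : Set (LefPen.Form r k d))) → φ H = 0 := by
      intro φ hφ H hT
      rw [hS] at hT
      push Not at hT
      obtain ⟨x, hx, hb⟩ := hT
      exact hφ x H hx hb
    exact (DualVar.bad_irreducible n i hd f g hf hg fun x H hx hb => h H (hB hx hb)).imp (key f) (key g)

end Groth.Agent.S4046
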