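import Groth.Statements.S4058
import Groth.Agent.ProperAt.FlatGeneric

set_option autoImplicit false
set_option backward.isDefEq.respectTransparency false
universe u
open CategoryTheory CategoryTheory.Limits AlgebraicGeometry MonObj
open SGA7

namespace Groth.Agent.S4058

/-- (iii) ⇒ (iv): let R be a discrete valuation ring with fraction field K and residue field k, and N a
group scheme over Spec R which is a Néron model of its generic fibre, an abelian variety over K. If
the special fibre N ×_R k is proper over k, then N is proper over Spec R. (In (iii) as published the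
special fibre is an abelian variety; connectedness of the special fibre is not assumed here.) -/
theorem result (R K : Type u) [CommRing R] [IsDomain R] [IsDiscreteValuationRing R] [Field K]
    [Algebra R K] [IsFractionRing R K]
    (N : Over (Spec (CommRingCat.of R))) [GrpObj N] (hN : SGA7.IsNeron R K N)
    [IsProper ((SGA7.genFib R K).obj N).hom] [GeometricallyIntegral ((SGA7.genFib R K).obj N).hom]
    [IsProper (Red.bc (Spec.map (CommRingCat.ofHom (IsLocalRing.residue R))) N).hom] :
    IsProper N.hom := by
  obtain ⟨hsm, hsep, hqc, -⟩ := hN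
  haveI := hsm
  haveI := hsep
  haveI := hqc
  let f := N.hom
  let gK := Spec.map (CommRingCat.ofHom (algebraMap R K))
  let gk := Spec.map (CommRingCat.ofHom (IsLocalRing.residue R))
  have hgen : ∀ ξ : Spec (CommRingCat.of R), (∀ ξ', ξ' ⤳ ξ → ξ' = ξ) → Nonempty ↥(f.fiber ξ) →
      GeometricallyConnected (f.fiberToSpecResidueField ξ) := by
    intro ξ hξ _
    have hξ0 : ξ.asIdeal = ⊥ := by
      have := hξ (⟨⊥, Ideal.isPrime_bot⟩ : PrimeSpectrum R) ((PrimeSpectrum.le_iff_specializes _ _).1 bot_le)
      rw [← this]
    haveI : GeometricallyConnected (pullback.snd f gK) := by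
      haveI : GeometricallyIntegral ((SGA7.genFib R K).obj N).hom := inferInstance
      refine ⟨fun L _ y Z fst snd h => ?_⟩
      haveI : IsIntegral Z :=
        GeometricallyIntegral.geometrically_isIntegral (f := ((SGA7.genFib R K).obj N).hom) y fst snd h
      infer_instance
    refine ⟨fun L _ y Z fst snd h => ?_⟩
    obtain ⟨ψ, hψ⟩ := Spec.map_surjective (y ≫ (Spec (CommRingCat.of R)).fromSpecResidueField ξ)
    have hker : RingHom.ker ψ.hom = ⊥ := by
      have h1 : (Spec.map ψ) (IsLocalRing.closedPoint L) = ξ := by
        rw [hψ, Scheme.Hom.comp_apply, Scheme.fromSpecResidueField_apply]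
      have h2 := congrArg PrimeSpectrum.asIdeal h1
      rw [hξ0] at h2
      have h3 : Ideal.comap ψ.hom (IsLocalRing.maximalIdeal L) = ⊥ := h2
      rwa [IsLocalRing.maximalIdeal_eq_bot] at h3
    let χ : K →+* L := IsFractionRing.lift ((RingHom.injective_iff_ker_eq_bot ψ.hom).2 hker)
    have hχ : Spec.map (CommRingCat.ofHom χ) ≫ gK = y ≫ (Spec (CommRingCat.of R)).fromSpecResidueField ξ := by
      rw [← hψ, ← Spec.map_comp]
      congr 1
      ext r
      exact IsFractionRing.lift_algebraMap ((RingHom.injective_iff_ker_eq_bot ψ.hom).2 hker) r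
    have hbig : IsPullback (fst ≫ f.fiberι ξ) snd f (Spec.map (CommRingCat.ofHom χ) ≫ gK) := by
      rw [hχ]; exact h.paste_horiz (IsPullback.of_hasPullback f _)
    let a : Z ⟶ pullback f gK := pullback.lift (fst ≫ f.fiberι ξ) (snd ≫ Spec.map (CommRingCat.ofHom χ))
      (hbig.w.trans (Category.assoc _ _ _).symm)
    exact GeometricallyConnected.geometrically_connectedSpace (f := pullback.snd f gK) (Spec.map (CommRingCat.ofHom χ))
      a snd (IsPullback.of_right (by rw [pullback.lift_fst]; exact hbig) (pullback.lift_snd _ _ _)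
        (IsPullback.of_hasPullback f gK))
  let s : Spec (CommRingCat.of R) := IsLocalRing.closedPoint R
  let k := IsLocalRing.ResidueField R
  have hgk : gk (IsLocalRing.closedPoint k) = s := IsLocalRing.comap_closedPoint (IsLocalRing.residue R)
  obtain ⟨φ, hφ⟩ : ∃ φ : (Spec (CommRingCat.of R)).residueField s ⟶ CommRingCat.of k,
      Spec.map φ ≫ (Spec (CommRingCat.of R)).fromSpecResidueField s = gk := by
    have h := Scheme.descResidueField_stalkClosedPointTo_fromSpecResidueField k _ gk
    have hcast : ∀ z, z = s → (∃ φ : (Spec (CommRingCat.of R)).residueField z ⟶ CommRingCat.of k,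
        Spec.map φ ≫ (Spec (CommRingCat.of R)).fromSpecResidueField z = gk) →
        ∃ φ : (Spec (CommRingCat.of R)).residueField s ⟶ CommRingCat.of k,
        Spec.map φ ≫ (Spec (CommRingCat.of R)).fromSpecResidueField s = gk := by
      rintro z rfl h; exact h
    exact hcast _ hgk ⟨_, h⟩
  haveI : IsProper (pullback.snd f gk) := inferInstanceAs (IsProper (Red.bc gk N).hom)
  let b : pullback f gk ⟶ f.fiber s := pullback.lift (pullback.fst f gk) (pullback.snd f gk ≫ Spec.map φ)
    (by rw [Category.assoc, hφ, pullback.condition])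
  have H : IsPullback b (pullback.snd f gk) (f.fiberToSpecResidueField s) (Spec.map φ) := by
    refine IsPullback.of_right ?_ (pullback.lift_snd _ _ _)
      (IsPullback.of_hasPullback f ((Spec (CommRingCat.of R)).fromSpecResidueField s))
    rw [pullback.lift_fst, hφ]
    exact IsPullback.of_hasPullback f gk
  haveI : IsSeparated (f.fiberToSpecResidueField s) := MorphismProperty.pullback_snd _ _ hsep
  haveI : LocallyOfFiniteType (f.fiberToSpecResidueField s) :=
    MorphismProperty.pullback_snd (P := @LocallyOfFiniteType) _ _ inferInstance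
  haveI : IsProper (f.fiberToSpecResidueField s) := Groth.Agent.ProperAt.isProper_of_fieldExt φ H
  haveI : Nonempty ↥(f.fiber s) := by
    obtain ⟨x, hx⟩ : s ∈ Set.range f := by
      refine ⟨η[N].left s, ?_⟩
      rw [← Scheme.Hom.comp_apply, Over.w η[N]]; rfl
    obtain ⟨x', -⟩ : x ∈ Set.range (f.fiberι s) := by rw [Scheme.Hom.range_fiberι]; exact hx
    exact ⟨x'⟩
  obtain ⟨U, hsU, hU⟩ := Groth.Agent.ProperAt.exists_proper_nhd_of_flat f hgen s
  have htop : U = ⊤ := TopologicalSpace.Opens.ext (Set.eq_univ_of_forall fun x =>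
    Specializes.mem_open (IsLocalRing.specializes_closedPoint x) U.2 hsU)
  subst htop
  exact (IsZariskiLocalAtTarget.iff_of_iSup_eq_top (P := @IsProper) (fun _ : Unit => (⊤ : (Spec (CommRingCat.of R)).Opens))
    (by simp)).2 fun _ => hU

end Groth.Agent.S4058
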