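import Groth.Statements.S4059
import Groth.Agent.NeronSS.Pow
import Groth.Agent.EtaleSections.Finite

set_option backward.isDefEq.respectTransparency false
set_option backward.isDefEq.respectTransparency.types false
set_option synthInstance.maxHeartbeats 400000
set_option maxHeartbeats 1000000

set_option autoImplicit false
universe u
open CategoryTheory CategoryTheory.Limits AlgebraicGeometry MonObj
open SGA7

namespace Groth.Agent.S4059

open Groth.Agent


/-- The four equivalent conditions, for a group scheme with the properties of the identity component of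
a Néron model: let R be a discrete valuation ring with fraction field K and G a smooth separated
group scheme of finite type over Spec R with connected fibres whose generic fibre is an abelian
variety over K (proper and geometrically integral); let m > 0 and write [m] : G -> G for the m-th
power morphism. The following are equivalent: (i) [m] is flat; (ii) [m] is surjective; (iii) [m] is
locally quasi-finite; (iv) m is invertible in the residue field of R, or the geometric special fibre
of G contains no copy of the additive group. -/
theorem result (R K : Type u) [CommRing R] [IsDomain R] [IsDiscreteValuationRing R] [Field K]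
    [Algebra R K] [IsFractionRing R K]
    (G : Over (Spec (CommRingCat.of R))) [GrpObj G] [Smooth G.hom] [IsSeparated G.hom] [QuasiCompact G.hom]
    (hconn : ∀ s : ↥(Spec (CommRingCat.of R)), ConnectedSpace ↥(Red.bc ((Spec (CommRingCat.of R)).fromSpecResidueField s) G).left)
    [IsProper ((SGA7.genFib R K).obj G).hom] [GeometricallyIntegral ((SGA7.genFib R K).obj G).hom]
    (m : ℕ) (hm : 0 < m) :
    [Flat ((𝟙 G : G ⟶ G) ^ m).left, Surjective ((𝟙 G : G ⟶ G) ^ m).left,
      LocallyQuasiFinite ((𝟙 G : G ⟶ G) ^ m).left,
      (m : IsLocalRing.ResidueField R) ≠ 0 ∨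
        SGA7.FibreUnipotentRankZero (IsLocalRing.closedPoint R) G].TFAE := by
  let S := Spec (CommRingCat.of R)
  let u := (𝟙 G : G ⟶ G) ^ m
  haveI : IsCommMonObj ((SGA7.genFib R K).obj G) := isCommMonObj_of_isProper_of_geometricallyIntegral _
  haveI : IsCommMonObj G := NeronSS.isCommMonObj_of_genFib R K G
  haveI : IsMonHom u := NeronSS.isMonHom_id_pow G m
  let t : S := (Spec.map (CommRingCat.ofHom (algebraMap R K))) (IsLocalRing.closedPoint K)
  have ht : ∀ s : S, t ⤳ s := NeronSS.genPoint_specializes R K
  have hiso : SGA7.IsIsogenyOver (GrpField.fibHom u t) := NeronSS.isogeny_genPoint (K := K) hm.ne'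
  have hfib : ∀ s : S, GrpField.fibHom u s = 𝟙 (GrpField.fib G s) ^ m := fun s => NeronSS.map_id_pow _ G m
  haveI : LocallyOfFiniteType (u.left ≫ G.hom) := by rw [Over.w]; infer_instance
  haveI : LocallyOfFiniteType u.left := locallyOfFiniteType_of_comp _ G.hom
  haveI : QuasiCompact (u.left ≫ G.hom) := by rw [Over.w]; infer_instance
  haveI : QuasiCompact u.left := QuasiCompact.of_comp _ G.hom
  tfae_have 4 → 3 := fun h => by
    refine (GrpField.locallyQuasiFinite_iff_fibHom u).2 fun s => ?_
    by_cases hs : (m : S.residueField s) = 0
    · have hs' : (m : R) ∈ s.asIdeal := (NeronSS.natCast_residueField_eq_zero_iff s m).1 hs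
      rcases h with h | h
      · exfalso
        refine h ?_
        rw [← map_natCast (IsLocalRing.residue R), IsLocalRing.residue_eq_zero_iff]
        exact IsLocalRing.le_maximalIdeal s.isPrime.ne_top hs'
      · by_cases hb : s.asIdeal = ⊥
        · have hts : s = t := by
            apply PrimeSpectrum.ext
            have h1 : t.asIdeal ≤ s.asIdeal := (PrimeSpectrum.le_iff_specializes _ _).2 (ht s)
            rw [hb] at h1 ⊢
            exact (le_bot_iff.1 h1).symm
          subst hts
          obtain ⟨-, hfin⟩ := hiso
          haveI : LocallyOfFiniteType (GrpField.fib G t).hom :=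
            inferInstanceAs (LocallyOfFiniteType (pullback.snd G.hom _))
          haveI : LocallyOfFiniteType (GrpField.fibHom u t).left :=
            MorphismProperty.of_isPullback (GrpField.isPullback_fibHom u t) ‹LocallyOfFiniteType u.left›
          obtain ⟨N, hN, i, hi, -, hsq, -⟩ := AgIsog.exists_kernel (GrpField.fibHom u t)
          have hk : AlgGrp.IsKernel i (GrpField.fibHom u t) :=
            IsPullback.of_map (Over.forget _) (by ext1; exact hsq.w) hsq
          haveI := hfin N i hk
          exact (UnitUnram.lqf_iff_kernel (GrpField.fibHom u t) i hk).2 inferInstance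
        · have hsc : s = IsLocalRing.closedPoint R := by
            apply PrimeSpectrum.ext
            exact IsLocalRing.eq_maximalIdeal (s.isPrime.isMaximal hb)
          subst hsc
          exact NeronSS.lqf_fibHom u (ht _) h hiso.2
    · let F := GrpField.fib G s
      letI : GrpObj F := GrpField.fibGrp G s
      haveI : LocallyOfFiniteType F.hom := inferInstanceAs (LocallyOfFiniteType (pullback.snd G.hom _))
      haveI : IsCommMonObj F := inferInstanceAs (IsCommMonObj ((Over.pullback _).obj G))
      haveI : Etale ((𝟙 F) ^ (m : ℤ)).left := FieldPow.etale_pow F (by rwa [Int.cast_natCast])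
      rw [hfib, ← zpow_natCast]
      exact EtaleSections.locallyQuasiFinite_of_unramified _
  tfae_have 3 → 1 := fun h => by
    have hq := fun s => (GrpField.locallyQuasiFinite_iff_fibHom u).1 h s
    obtain ⟨hfl, -⟩ := NeronSS.flat_restrict u ⊤ fun s _ => NeronSS.flat_fibHom u (ht s) hiso (hq s)
    haveI : IsIso ((G.hom ⁻¹ᵁ (⊤ : S.Opens)).ι) := inferInstanceAs (IsIso G.left.topIso.hom)
    exact (MorphismProperty.cancel_left_of_respectsIso @Flat _ _).1 hfl
  tfae_have 1 → 2 := fun h => by
    refine ⟨fun y => ?_⟩
    let s := G.hom y
    haveI : LocallyOfFiniteType (GrpField.fib G s).hom :=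
      inferInstanceAs (LocallyOfFiniteType (pullback.snd G.hom _))
    haveI : Flat (GrpField.fibHom u s).left := MorphismProperty.of_isPullback (GrpField.isPullback_fibHom u s) h
    haveI : QuasiCompact (GrpField.fibHom u s).left :=
      MorphismProperty.of_isPullback (GrpField.isPullback_fibHom u s) ‹QuasiCompact u.left›
    haveI : ConnectedSpace (GrpField.fib G s).left := hconn s
    haveI := NeronSS.surjective_of_flat (GrpField.fibHom u s)
    obtain ⟨w, hw⟩ : y ∈ Set.range (pullback.fst G.hom (S.fromSpecResidueField s)) := by
      rw [Scheme.Pullback.range_fst, Scheme.range_fromSpecResidueField]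
      exact rfl
    obtain ⟨z, hz⟩ := (GrpField.fibHom u s).left.surjective w
    refine ⟨pullback.fst G.hom (S.fromSpecResidueField s) z, ?_⟩
    rw [← Scheme.Hom.comp_apply, (GrpField.isPullback_fibHom u s).w, Scheme.Hom.comp_apply]
    exact (congrArg _ hz).trans hw
  tfae_have 2 → 4 := fun h => by
    by_cases h0 : (m : IsLocalRing.ResidueField R) = 0
    swap
    · exact Or.inl h0
    refine Or.inr ?_
    let s : S := IsLocalRing.closedPoint R
    let F := Over.pullback (Red.geomPt s)
    haveI : Smooth (F.obj G).hom := inferInstanceAs (Smooth (pullback.snd G.hom (Red.geomPt s)))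
    haveI : IsSeparated (F.obj G).hom := inferInstanceAs (IsSeparated (pullback.snd G.hom (Red.geomPt s)))
    haveI : QuasiCompact (F.obj G).hom := inferInstanceAs (QuasiCompact (pullback.snd G.hom (Red.geomPt s)))
    haveI : IsCommMonObj (F.obj G) := inferInstanceAs (IsCommMonObj ((Over.pullback (Red.geomPt s)).obj G))
    have h1 : Surjective (F.map u).left :=
      MorphismProperty.baseChange_map (P := @Surjective) (Red.geomPt s) u h
    rw [NeronSS.map_id_pow] at h1
    have hz : (m : AlgebraicClosure (S.residueField s)) = 0 := by
      rw [← map_natCast (algebraMap (S.residueField s) _),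
        (NeronSS.natCast_residueField_eq_zero_iff s m).2 ?_, map_zero]
      show (m : R) ∈ IsLocalRing.maximalIdeal R
      rwa [← IsLocalRing.residue_eq_zero_iff, map_natCast]
    exact NeronSS.noGaSub_of_surjective_pow hz h1
  tfae_finish

end Groth.Agent.S4059
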