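import Groth.Statements.S4064
import Groth.Agent.Blended.Realize

set_option autoImplicit false
universe w v v'
open CategoryTheory CategoryTheory.Abelian
open SGA7

namespace Groth.Agent.S4064

/-- Let P -> F -> R and R -> E -> Q be short exact sequences in an abelian category (F an extension of R
by P, E an extension of Q by R). A blended extension of E by F is an object X with a monomorphism i
: F -> X and an epimorphism p : X -> E such that P -> X -> E (via i) and F -> X -> Q (via p) are
short exact and F -> X -> E is the composite F -> R -> E. Such an X exists if and only if the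
composite of the two extension classes, an element of Ext^2(Q, P), is zero. -/
theorem result {C : Type w} [Category.{v} C] [Abelian C]
    [HasExt.{v'} C] {P F R E Q : C} (a : P ⟶ F) (b : F ⟶ R) (wF : a ≫ b = 0)
    (hF : (ShortComplex.mk a b wF).ShortExact) (c : R ⟶ E) (d : E ⟶ Q) (wE : c ≫ d = 0)
    (hE : (ShortComplex.mk c d wE).ShortExact) :
    (∃ (X : C) (i : F ⟶ X) (p : X ⟶ E), i ≫ p = b ≫ c ∧
        (∃ w : (a ≫ i) ≫ p = 0, (ShortComplex.mk (a ≫ i) p w).ShortExact) ∧
        (∃ w : i ≫ (p ≫ d) = 0, (ShortComplex.mk i (p ≫ d) w).ShortExact)) ↔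
      hE.extClass.comp hF.extClass (rfl : 1 + 1 = 2) = 0 := by
  letI := HasDerivedCategory.standard C
  constructor
  · rintro ⟨X, i, p, h, ⟨w₁, h₁⟩, w₂, h₂⟩
    have e := ShortComplex.ShortExact.extClass_naturality h₂ hE
      (ShortComplex.homMk b p (𝟙 Q) h.symm (by simp))
    simp only [ShortComplex.homMk_τ₁, ShortComplex.homMk_τ₃, Abelian.Ext.mk₀_id_comp] at e
    rw [← e, Abelian.Ext.comp_assoc_of_second_deg_zero, hF.comp_extClass, Abelian.Ext.comp_zero]
  · intro h
    refine Blended.exists_blended a b wF hF c d wE hE ?_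
    have e := congrArg (fun x => Abelian.Ext.hom x) h
    simp only [Abelian.Ext.comp_hom, Abelian.Ext.zero_hom] at e
    rw [ShortComplex.ShortExact.extClass_hom, ShortComplex.ShortExact.extClass_hom] at e
    rw [ShiftedHom.comp, ← Category.assoc] at e
    refine (cancel_mono ((shiftFunctorAdd' (DerivedCategory C) ((1 : ℕ) : ℤ) ((1 : ℕ) : ℤ) ((2 : ℕ) : ℤ)
      (by norm_num)).inv.app ((DerivedCategory.singleFunctor C 0).obj P))).1 ?_
    rw [Limits.zero_comp]
    exact e

end Groth.Agent.S4064
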