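import Groth.Statements.S4065


set_option autoImplicit false
universe w v
open CategoryTheory
open SGA7

namespace Groth.Agent.S4065

/-- Let P -> F -> R and R -> E -> Q be short exact sequences in an abelian category and X a blended
extension of E by F: i : F -> X and p : X -> E with i, p composing to F -> R -> E and with P -> X ->
E and F -> X -> Q short exact. Then u ↦ 1_X + (X -> E -> Q -> P -> F -> X) is a bijection from
Hom(Q, P) onto the set of endomorphisms φ of X with i φ = i and φ p = p (the automorphisms of the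
blended extension; every such φ is invertible), and it turns addition into composition (a group
isomorphism Hom(Q, P) ≅ Aut(X)). -/
theorem result {C : Type w} [Category.{v} C] [Abelian C]
    {P F R E Q X : C} (a : P ⟶ F) (b : F ⟶ R) (wF : a ≫ b = 0)
    (hF : (ShortComplex.mk a b wF).ShortExact) (c : R ⟶ E) (d : E ⟶ Q) (wE : c ≫ d = 0)
    (hE : (ShortComplex.mk c d wE).ShortExact) (i : F ⟶ X) (p : X ⟶ E) (hip : i ≫ p = b ≫ c)
    (w₁ : (a ≫ i) ≫ p = 0) (h₁ : (ShortComplex.mk (a ≫ i) p w₁).ShortExact)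
    (w₂ : i ≫ (p ≫ d) = 0) (h₂ : (ShortComplex.mk i (p ≫ d) w₂).ShortExact) :
    Set.BijOn (fun v : Q ⟶ P => 𝟙 X + p ≫ d ≫ v ≫ a ≫ i) Set.univ
      {φ : X ⟶ X | i ≫ φ = i ∧ φ ≫ p = p} ∧
      ∀ v v' : Q ⟶ P, 𝟙 X + p ≫ d ≫ (v + v') ≫ a ≫ i =
        (𝟙 X + p ≫ d ≫ v ≫ a ≫ i) ≫ (𝟙 X + p ≫ d ≫ v' ≫ a ≫ i) := by
  haveI : Mono (a ≫ i) := h₁.mono_f
  haveI : Epi (p ≫ d) := h₂.epi_g
  refine ⟨⟨fun v _ => ⟨?_, ?_⟩, fun v _ v' _ h => ?_, fun φ hφ => ?_⟩, fun v v' => ?_⟩
  · show i ≫ (𝟙 X + p ≫ d ≫ v ≫ a ≫ i) = i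
    rw [Preadditive.comp_add, Category.comp_id, ← Category.assoc p, ← Category.assoc i, w₂, Limits.zero_comp, add_zero]
  · show (𝟙 X + p ≫ d ≫ v ≫ a ≫ i) ≫ p = p
    rw [Preadditive.add_comp, Category.id_comp, Category.assoc, Category.assoc, Category.assoc, w₁, Limits.comp_zero,
      Limits.comp_zero, Limits.comp_zero, add_zero]
  · have h' := add_left_cancel h
    rw [← Category.assoc, ← Category.assoc p d, cancel_epi, cancel_mono] at h'
    exact h'
  · obtain ⟨hi, hp⟩ := hφ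
    obtain ⟨e, he⟩ := h₂.exact.desc' (φ - 𝟙 X) (show i ≫ (φ - 𝟙 X) = 0 by
      rw [Preadditive.comp_sub, hi, Category.comp_id, sub_self])
    change (p ≫ d) ≫ e = φ - 𝟙 X at he
    have hep : e ≫ p = 0 := by
      rw [← cancel_epi (p ≫ d), Limits.comp_zero, ← Category.assoc, he, Preadditive.sub_comp, hp, Category.id_comp,
        sub_self]
    obtain ⟨v, hv⟩ := h₁.exact.lift' e hep
    change v ≫ a ≫ i = e at hv
    refine ⟨v, trivial, ?_⟩
    show 𝟙 X + p ≫ d ≫ v ≫ a ≫ i = φ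
    rw [hv, ← Category.assoc, he, add_sub_cancel]
  · have w₂' : ∀ {T : C} (t : Q ⟶ T), i ≫ p ≫ d ≫ t = 0 := fun t => by
      rw [← Category.assoc p, ← Category.assoc i, w₂, Limits.zero_comp]
    simp only [Preadditive.add_comp, Preadditive.comp_add, Category.id_comp, Category.comp_id, Category.assoc,
      w₂', Limits.comp_zero, add_zero, add_assoc]

end Groth.Agent.S4065
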