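import Groth.Statements.S4067
import Groth.Agent.NearCyc.Basic

set_option autoImplicit false
set_option backward.isDefEq.respectTransparency false
set_option backward.isDefEq.respectTransparency.types false
universe u
open CategoryTheory CategoryTheory.Limits AlgebraicGeometry MonObj
open SGA7

namespace Groth.Agent.S4067

/-- Let V be a strictly henselian discrete valuation ring with fraction field K, Ω a separable closure
of K, m an integer invertible in the residue field of V, f : X -> Spec V of finite type, x a point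
of the special fibre at which f is smooth (some open neighbourhood of x is smooth over Spec V) and
Osh a strict henselisation of the local ring of X at x. Then the scheme Y = Spec(Osh) ×_V Spec Ω
computing the nearby cycles at x is connected and nonempty (the zeroth nearby-cycle group is ℤ/m)
and H^i(Y, ℤ/m) = 0 for i > 0. -/
theorem result (V K Ω : Type u) [CommRing V] [IsDomain V] [IsDiscreteValuationRing V] [HenselianLocalRing V]
    [IsSepClosed (IsLocalRing.ResidueField V)] [Field K] [Algebra V K] [IsFractionRing V K]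
    [Field Ω] [Algebra K Ω] [IsSepClosure K Ω] [Algebra V Ω] [IsScalarTower V K Ω]
    (m : ℕ) (hm : (m : IsLocalRing.ResidueField V) ≠ 0)
    {X : Scheme.{u}} (f : X ⟶ Spec (CommRingCat.of V)) [LocallyOfFiniteType f] [QuasiCompact f]
    (x : ↥X) (hx : f.base x = IsLocalRing.closedPoint V) (U : X.Opens) (hxU : x ∈ U) [Smooth (U.ι ≫ f)]
    (Osh : Type u) [CommRing Osh] [IsLocalRing Osh] [Algebra ↑(X.presheaf.stalk x) Osh]
    [IsLocalHom (algebraMap ↑(X.presheaf.stalk x) Osh)] [Hensel.IsStrictHenselization ↑(X.presheaf.stalk x) Osh] :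
    ConnectedSpace ↥(SGA7.nearbyFibre f x Osh Ω) ∧
      ∀ i : ℕ, 0 < i → Subsingleton (EtCoh.H (SGA7.nearbyFibre f x Osh Ω)
        (EtCoh.const (SGA7.nearbyFibre f x Osh Ω) (ZMod m)) i) := by
  let Q : Groth.Agent.EtBCQ.SH X x := { R := Osh }
  obtain ⟨Q', e, he⟩ := NearCyc.exists_SH_opens U ⟨x, hxU⟩ Q
  haveI : IsSepClosed Ω := IsSepClosure.sep_closed K
  have hx' : (U.ι ≫ f).base ⟨x, hxU⟩ = IsLocalRing.closedPoint V := hx
  obtain ⟨hc, hv⟩ := NearCyc.smooth_point (U.ι ≫ f) Ω hx' Q' hm
  let σ := Spec.map (CommRingCat.ofHom e.toRingHom)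
  haveI : IsIso σ := by
    haveI : IsIso (CommRingCat.ofHom e.toRingHom) := (RingEquiv.toCommRingCatIso e).isIso_hom
    infer_instance
  let gm := Spec.map (CommRingCat.ofHom (algebraMap V Ω))
  have hh : σ ≫ Q'.spec ≫ U.ι ≫ f = Q.spec ≫ f := by rw [← he]; simp only [σ, Category.assoc]
  let E : SGA7.nearbyFibre f x Osh Ω ≅ pullback (Q'.spec ≫ U.ι ≫ f) gm :=
    pullback.congrHom ((Category.assoc _ _ _).symm.trans hh.symm) rfl ≪≫
      asIso (pullback.map (σ ≫ Q'.spec ≫ U.ι ≫ f) gm (Q'.spec ≫ U.ι ≫ f) gm σ (𝟙 _) (𝟙 _)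
        (by simp) (by simp))
  haveI := hc
  exact ⟨E.symm.hom.homeomorph.connectedSpace_iff.1 hc,
    fun i hi => (LAcyc.subsingleton_H_const_iff E.symm (ZMod m) i).1 (hv i hi)⟩

end Groth.Agent.S4067
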