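import Groth.Statements.S4071
import Groth.Agent.NeronGrp.Divisible
import Groth.Agent.S19658
import Mathlib.AlgebraicGeometry.Group.Abelian

set_option backward.isDefEq.respectTransparency false
set_option backward.isDefEq.respectTransparency.types false

set_option autoImplicit false
set_option synthInstance.maxHeartbeats 400000
set_option maxHeartbeats 1000000
universe u
open CategoryTheory CategoryTheory.Limits AlgebraicGeometry MonObj
open MonoidalCategory
open SGA7
open MonoidalCategory CartesianMonoidalCategory

namespace Groth.Agent.S4071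

/-- Let R be a strictly henselian discrete valuation ring with fraction field K, N a group scheme over
Spec R which is a Néron model of its generic fibre, an abelian variety A over K, and n an integer
invertible in the residue field of R. If x is a section of N (a K-point of A) whose n-th power meets
the connected component of the unit section in the special fibre, then there is a section y with y^n
= 1 such that x · y⁻¹ meets the connected component of the unit section: the n-torsion of the
component group is the image of the n-torsion of A(K). -/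
theorem result (R K : Type u) [CommRing R] [IsDomain R] [IsDiscreteValuationRing R] [HenselianLocalRing R]
    [IsSepClosed (IsLocalRing.ResidueField R)] [Field K] [Algebra R K] [IsFractionRing R K]
    (N : Over (Spec (CommRingCat.of R))) [GrpObj N] (hN : SGA7.IsNeron R K N)
    [IsProper ((SGA7.genFib R K).obj N).hom] [GeometricallyIntegral ((SGA7.genFib R K).obj N).hom]
    (n : ℕ) (hn : (n : IsLocalRing.ResidueField R) ≠ 0)
    (x : 𝟙_ (Over (Spec (CommRingCat.of R))) ⟶ N) (hx : x ^ n ∈ SGA7.secUnitComp R N) :
    ∃ y : 𝟙_ (Over (Spec (CommRingCat.of R))) ⟶ N, y ^ n = 1 ∧ x * y⁻¹ ∈ SGA7.secUnitComp R N := by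
  open scoped CategoryTheory.Obj in
  haveI : Smooth N.hom := hN.1
  haveI : IsSeparated N.hom := hN.2.1
  haveI : QuasiCompact N.hom := hN.2.2.1
  let FK := SGA7.genFib R K
  haveI : IsCommMonObj (FK.obj N) := isCommMonObj_of_isProper_of_geometricallyIntegral (FK.obj N)
  haveI : IsCommMonObj N := by
    have hsm : Smooth (N ⊗ N).hom := inferInstanceAs (Smooth (pullback.fst N.hom N.hom ≫ N.hom))
    have hc : fst N N * snd N N = snd N N * fst N N := by
      refine (hN.2.2.2 (N ⊗ N) hsm).1 ?_
      change FK.homMonoidHom _ = FK.homMonoidHom _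
      rw [map_mul, map_mul, mul_comm]
    refine ⟨?_⟩
    rw [Hom.mul_def, Hom.mul_def, lift_fst_snd, Category.id_comp] at hc
    rw [show (β_ N N).hom = lift (snd N N) (fst N N) from by ext1 <;> simp]
    exact hc.symm
  let k := IsLocalRing.ResidueField R
  let q : Spec (CommRingCat.of k) ⟶ Spec (CommRingCat.of R) := Spec.map (CommRingCat.ofHom (IsLocalRing.residue R))
  let F := Over.pullback q
  let Nk := F.obj N
  haveI : Smooth Nk.hom := inferInstanceAs (Smooth (pullback.snd N.hom q))
  haveI : QuasiCompact Nk.hom := inferInstanceAs (QuasiCompact (pullback.snd N.hom q))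
  haveI : IsCommMonObj Nk := inferInstanceAs (IsCommMonObj (F.obj N))
  let pr : Nk.left ⟶ N.left := pullback.fst N.hom q
  haveI : IsClosedImmersion q := IsClosedImmersion.spec_of_surjective _ IsLocalRing.residue_surjective
  haveI : IsClosedImmersion pr := MorphismProperty.pullback_fst _ _ inferInstance
  let ε : 𝟙_ (Over (Spec (CommRingCat.of k))) ⟶ F.obj (𝟙_ (Over (Spec (CommRingCat.of R)))) :=
    Functor.LaxMonoidal.ε F
  let red : (𝟙_ (Over (Spec (CommRingCat.of R))) ⟶ N) →* (𝟙_ (Over (Spec (CommRingCat.of k))) ⟶ Nk) :=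
  { toFun := fun z => ε ≫ F.map z
    map_one' := by
      change ε ≫ F.homMonoidHom _ = _
      rw [map_one, MonObj.comp_one]
    map_mul' := fun a b => by
      change ε ≫ F.homMonoidHom _ = (ε ≫ F.homMonoidHom a) * (ε ≫ F.homMonoidHom b)
      rw [map_mul, MonObj.comp_mul] }
  have hε : ε.left ≫ pullback.fst (𝟙_ (Over (Spec (CommRingCat.of R)))).hom q = q := by
    have h1 : ε.left ≫ pullback.snd (𝟙_ (Over (Spec (CommRingCat.of R)))).hom q = 𝟙 _ := Over.w ε
    have h2 := pullback.condition (f := (𝟙_ (Over (Spec (CommRingCat.of R)))).hom) (g := q)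
    refine ((Category.comp_id _).symm.trans ?_)
    refine (Category.assoc _ _ _).trans ?_
    exact (congrArg (fun t => ε.left ≫ t) h2).trans
      ((Category.assoc _ _ _).symm.trans ((congrArg (fun t => t ≫ q) h1).trans (Category.id_comp q)))
  have hred : ∀ z, (red z).left ≫ pr = q ≫ z.left := fun z => by
    have h : (F.map z).left ≫ pr = pullback.fst _ q ≫ z.left := pullback.lift_fst _ _ _
    change (ε.left ≫ (F.map z).left) ≫ pr = _
    rw [Category.assoc, h, ← Category.assoc, hε]
  let tc : ↥(Spec (CommRingCat.of k)) := IsLocalRing.closedPoint k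
  have hq : q tc = IsLocalRing.closedPoint R := IsLocalRing.comap_closedPoint (IsLocalRing.residue R)
  have hpt : ∀ z, pr ((red z).left tc) = z.left (IsLocalRing.closedPoint R) := fun z => by
    have h := congrArg (fun t : _ ⟶ N.left => t tc) (hred z)
    rw [← hq]
    exact h
  have hrange : Set.range pr = SGA7.specialFibreSet R N := by
    refine (Scheme.Pullback.range_fst (f := N.hom) (g := q)).trans ?_
    ext z
    constructor
    · rintro ⟨t, ht⟩
      change N.hom z = _
      rw [← ht, Subsingleton.elim (α := PrimeSpectrum k) t tc]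
      exact hq
    · intro hz
      exact ⟨tc, hq.trans hz.symm⟩
  have hcomp : ∀ z, z ∈ SGA7.secUnitComp R N ↔ (red z).left tc ∈ Groth.Agent.NeronGrp.unitComp Nk := fun z => by
    have hone : pr ((1 : 𝟙_ (Over (Spec (CommRingCat.of k))) ⟶ Nk).left tc) =
        η[N].left (IsLocalRing.closedPoint R) := by
      rw [← map_one red, hpt, Groth.Agent.S4070.unit_eq]
    change z.left (IsLocalRing.closedPoint R) ∈ connectedComponentIn (SGA7.specialFibreSet R N) _ ↔ _
    rw [← hrange, ← hone, ← hpt, ← Groth.Agent.NeronGrp.image_connectedComponent_of_isEmbedding pr.isEmbedding,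
      pr.isEmbedding.injective.mem_set_image]
    rfl
  obtain ⟨w, hw, hwn⟩ := Groth.Agent.NeronGrp.exists_pow_eq (G := Nk) (n := n) hn (red x ^ n)
    (by rw [← map_pow]; exact (hcomp _).mp hx)
  let v := red x * w⁻¹
  have hv : v ^ n = 1 := by rw [mul_pow, inv_pow, hwn, mul_inv_cancel]
  have hvs : v.left ≫ pullback.snd N.hom q = 𝟙 _ := Over.w v
  let τ : Over.mk q ⟶ N := Over.homMk (v.left ≫ pr) (by
    rw [Category.assoc]
    change v.left ≫ pullback.fst N.hom q ≫ N.hom = q
    rw [pullback.condition, ← Category.assoc, hvs, Category.id_comp])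
  have hτ : τ ^ n = 1 := by
    have hFm : F.map ((𝟙 N : N ⟶ N) ^ n) = (𝟙 Nk) ^ n :=
      (map_pow F.homMonoidHom (𝟙 N) n).trans (congrArg (fun f => f ^ n) (F.map_id N))
    have e1 : (τ ^ n).left = v.left ≫ pr ≫ ((𝟙 N : N ⟶ N) ^ n).left := by
      rw [show τ ^ n = τ ≫ ((𝟙 N : N ⟶ N) ^ n) by rw [MonObj.comp_pow, Category.comp_id], Over.comp_left,
        ← Category.assoc]
      rfl
    have e2 : (v ^ n).left ≫ pr = v.left ≫ pr ≫ ((𝟙 N : N ⟶ N) ^ n).left := by
      rw [show v ^ n = v ≫ F.map ((𝟙 N : N ⟶ N) ^ n) by rw [hFm, MonObj.comp_pow, Category.comp_id],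
        Over.comp_left, Category.assoc]
      exact congrArg (fun t => v.left ≫ t) (pullback.lift_fst _ _ _)
    refine Over.OverMorphism.ext (e1.trans (e2.symm.trans ?_))
    rw [hv, ← map_one red, hred, Hom.one_def, Hom.one_def]
    exact congrArg (fun t => t ≫ η[N].left) (Category.comp_id q)
  have hnu : IsUnit (n : R) := by
    by_contra hu
    exact hn (by rw [← map_natCast (IsLocalRing.residue R)]; exact Ideal.Quotient.eq_zero_iff_mem.mpr hu)
  obtain ⟨σ, ⟨hσn, hσ⟩, -⟩ := Groth.Agent.S19658.result R N n hnu τ (by rw [AbDual.mem_torsPts]; exact hτ)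
  rw [AbDual.mem_torsPts] at hσn
  refine ⟨σ, hσn, (hcomp _).mpr ?_⟩
  have hσv : red σ = v := by
    refine Over.OverMorphism.ext ((cancel_mono pr).mp ?_)
    rw [hred]
    exact congrArg CommaMorphism.left hσ
  rw [map_mul, map_inv, hσv, show red x * v⁻¹ = w by rw [mul_inv_rev, inv_inv, mul_left_comm, mul_inv_cancel, _root_.mul_one]]
  exact hw

end Groth.Agent.S4071
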