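import Groth.Statements.S4075
import Groth.Agent.TorsInertia.Specialize
import Mathlib.AlgebraicGeometry.Group.Abelian

set_option backward.isDefEq.respectTransparency false
set_option backward.isDefEq.respectTransparency.types false

set_option autoImplicit false
set_option synthInstance.maxHeartbeats 400000
set_option maxHeartbeats 2000000
universe u
open CategoryTheory CategoryTheory.Limits AlgebraicGeometry MonObj
open SGA7
open MonoidalCategory CartesianMonoidalCategory


namespace Groth.Agent.S4075

/-- Let R be a henselian discrete valuation ring with fraction field K, Ω a separable closure of K, W a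
valuation subring of Ω lying over R, N a group scheme over Spec R which is a Néron model of its
generic fibre A = N_K, an abelian variety, and m an integer invertible in the residue field. For an
m-torsion Ω-point x of A, the inertia group at W fixes x if and only if the point of N underlying x
specialises to a point of the special fibre of N (x factors through the finite part of the m-torsion
of N): the fixed part of the m-torsion is the inertia invariants. -/
theorem result (R K Ω : Type u) [CommRing R] [IsDomain R]
    [IsDiscreteValuationRing R] [HenselianLocalRing R] [Field K] [Algebra R K] [IsFractionRing R K]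
    [Field Ω] [Algebra K Ω] [IsSepClosure K Ω] (W : ValuationSubring Ω) (hW : SGA7.LiesOver K R W)
    (N : Over (Spec (CommRingCat.of R))) [GrpObj N] (hN : SGA7.IsNeron R K N)
    [IsProper ((SGA7.genFib R K).obj N).hom] [GeometricallyIntegral ((SGA7.genFib R K).obj N).hom]
    (m : ℕ) (hm : (m : IsLocalRing.ResidueField R) ≠ 0)
    (x : SGA7.Pts Ω ((SGA7.genFib R K).obj N)) (hx : x ^ m = 1) :
    (∀ σ : Ω ≃ₐ[K] Ω, SGA7.IsInertia W σ → SGA7.galAct σ x = x) ↔
      ∃ z ∈ SGA7.specialFibreSet R N,
        (x.left ≫ pullback.fst N.hom (Spec.map (CommRingCat.ofHom (algebraMap R K)))).base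
          (IsLocalRing.closedPoint Ω) ⤳ z := by
  letI : Algebra R Ω := ((algebraMap K Ω).comp (algebraMap R K)).toAlgebra
  haveI : IsScalarTower R K Ω := IsScalarTower.of_algebraMap_eq fun _ => rfl
  haveI : Algebra.IsSeparable K Ω := IsSepClosure.separable
  obtain ⟨hNs, hNsep, hNqc, hNmap⟩ := hN
  haveI := hNs
  haveI := hNsep
  let F := SGA7.genFib R K
  haveI : IsCommMonObj (F.obj N) := isCommMonObj_of_isProper_of_geometricallyIntegral (F.obj N)
  haveI : IsCommMonObj N := by
    have hsm : Smooth (N ⊗ N).hom := inferInstanceAs (Smooth (pullback.fst N.hom N.hom ≫ N.hom))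
    have hc : fst N N * snd N N = snd N N * fst N N := by
      refine (hNmap (N ⊗ N) hsm).1 ?_
      change F.homMonoidHom _ = F.homMonoidHom _
      rw [map_mul, map_mul, mul_comm]
    refine ⟨?_⟩
    rw [Hom.mul_def, Hom.mul_def, lift_fst_snd, Category.id_comp] at hc
    rw [show (β_ N N).hom = lift (snd N N) (fst N N) from by ext1 <;> simp]
    exact hc.symm
  have hn : IsUnit (m : R) := by
    by_contra hu
    exact hm (by rw [← map_natCast (IsLocalRing.residue R)]; exact Ideal.Quotient.eq_zero_iff_mem.mpr hu)
  let a := x.left ≫ pullback.fst N.hom (Spec.map (CommRingCat.ofHom (algebraMap R K)))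
  have ha : a ≫ N.hom = Spec.map (CommRingCat.ofHom (algebraMap R Ω)) := by
    simp only [a, Category.assoc, pullback.condition]
    rw [← Category.assoc]
    refine (congrArg (fun k => k ≫ Spec.map (CommRingCat.ofHom (algebraMap R K))) (Over.w x)).trans ?_
    exact (Spec.map_comp _ _).symm
  constructor
  · intro hfix
    obtain ⟨z, hz, hsp⟩ := Groth.Agent.TorsInertia.exists_specialization hW N
      (fun Y hY => (hNmap Y hY).2) a ha fun σ hσ => by
        have h := congrArg (fun k => k.left ≫ pullback.fst N.hom _) (hfix σ hσ)
        exact (Category.assoc _ _ _).symm.trans h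
    exact ⟨z, hz, hsp⟩
  · rintro ⟨z, hz, hsp⟩ σ hσ
    obtain ⟨j, at', hj, h1, h2⟩ := Groth.Agent.TorsInertia.exists_extension hW N.hom a ha z hz hsp
    exact Groth.Agent.TorsInertia.fixed_of_extends N hn hσ j hj x hx at' h1 h2

end Groth.Agent.S4075
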