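import Groth.Statements.S4078
import Groth.Agent.AutFinOrd.Split

set_option autoImplicit false
universe u
open CategoryTheory CategoryTheory.Limits AlgebraicGeometry MonObj
open SGA7

set_option backward.isDefEq.respectTransparency false

namespace Groth.Agent.S4078

/-- Let k be a field, G a smooth connected commutative group scheme over k whose geometric fibre
contains no copy of the additive group (an extension of an abelian variety by a torus), n ≥ 2 an
integer and u an automorphism of the group scheme G of finite order (some positive power of u under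
composition is the identity) which induces the identity on the n-torsion: for every k-scheme T and
every T-point x of G with x^n = 1 one has u(x) = x. Then u is the identity if n ≥ 3, and u composed
with itself is the identity if n = 2. -/
theorem result (k : Type u) [Field k] (G : Over (Spec (CommRingCat.of k))) [GrpObj G]
    [IsCommMonObj G] [Smooth G.hom] [ConnectedSpace ↥G.left] (hG : SGA7.FibresUnipotentRankZero G)
    (n : ℕ) (hn : 2 ≤ n) (u : Aut G) [IsMonHom u.hom] (N : ℕ) (hN : 0 < N) (huN : u ^ N = 1)
    (hu : ∀ (T : Over (Spec (CommRingCat.of k))) (x : T ⟶ G), x ^ n = 1 → x ≫ u.hom = x) :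
    (3 ≤ n → u = 1) ∧ (n = 2 → u * u = 1) := by
  obtain ⟨g, hg⟩ := Groth.Agent.AutFinOrd.exists_div hG (n := n) (by omega) (Groth.Agent.AutFinOrd.endOf u - 1)
    fun T x hx => by rw [Groth.Agent.AutFinOrd.comp_sub_one, hu T x hx, mul_inv_cancel]
  have he : Groth.Agent.AutFinOrd.endOf u = 1 + (n : EndAV.End G) * g := by rw [← hg, add_sub_cancel]
  obtain ⟨h1, h2⟩ := Groth.Agent.AutFinOrd.serre hG hn hN g
    (by rw [← he]; exact Groth.Agent.AutFinOrd.endOf_pow_eq_one u huN)
  rw [← he] at h1 h2
  refine ⟨fun h3 => ?_, fun _ => ?_⟩
  · rw [← pow_one u, ← Groth.Agent.AutFinOrd.endOf_pow_iff, pow_one, h1 h3]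
  · rw [← pow_two, ← Groth.Agent.AutFinOrd.endOf_pow_iff, pow_two, h2]

end Groth.Agent.S4078
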