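import Groth.Statements.S4087
import Groth.Agent.Grpd.QuasiSection

set_option autoImplicit false
universe u
open CategoryTheory MonoidalCategory CartesianMonoidalCategory MonObj GrpObj AlgebraicGeometry CategoryTheory.Limits
open GrpQ

namespace Groth.Agent.S4087

open Groth.Agent.GrpdLib

/-- Let (U, R, s, t, c) be a groupoid scheme over S and u : U' → U an immersion which is a
quasi-section: writing V = R ×_{t, U} U' for the arrows with target in U', the morphism V → U
induced by s is finite locally free and surjective, and every subset of U' whose points are pairwise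
equivalent (any two are the target and the source of one arrow) lies in an affine open of U'. Then
(t, s) has a coequalizer p : U → Y in schemes; p is surjective, open if t is open, universally
closed if t is; R → U ×_Y U is surjective; and if j = (t, s) is a monomorphism, R ≅ U ×_Y U, and p
is flat when t is flat. -/
theorem result (S : Scheme.{u}) (G : Grpd.GroupoidScheme S)
    (U' : Scheme.{u}) (u : U' ⟶ G.U) [IsImmersion u]
    (h1 : Mor2.IsFinLocFree (pullback.fst G.t u ≫ G.s) ∧ Surjective (pullback.fst G.t u ≫ G.s))
    (h2 : ∀ E : Set U', (∀ x ∈ E, ∀ y ∈ E, ∃ r : G.R, G.t.base r = u.base x ∧ G.s.base r = u.base y) →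
      ∃ W : U'.Opens, IsAffineOpen W ∧ E ⊆ (W : Set U')) :
    ∃ (Y : Scheme.{u}) (p : G.U ⟶ Y) (w : G.t ≫ p = G.s ≫ p),
      Nonempty (IsColimit (Cofork.ofπ p w)) ∧ Surjective p ∧
      (IsOpenMap G.t.base → IsOpenMap p.base) ∧ (UniversallyClosed G.t → UniversallyClosed p) ∧
      Function.Surjective (pullback.lift G.t G.s w).base ∧
      (Mono G.j → IsPullback G.t G.s p p ∧ (Flat G.t → Flat p)) := by
  obtain ⟨⟨_, _, _⟩, _⟩ := h1
  have : IsFinite (QSec.cov G u) := ‹IsFinite (pullback.fst G.t u ≫ G.s)›
  have : Flat (QSec.cov G u) := ‹Flat (pullback.fst G.t u ≫ G.s)›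
  have : LocallyOfFinitePresentation (QSec.cov G u) :=
    ‹LocallyOfFinitePresentation (pullback.fst G.t u ≫ G.s)›
  have : Surjective (QSec.cov G u) := ‹Surjective (pullback.fst G.t u ≫ G.s)›
  refine ⟨_, QSec.p G u h2, QSec.p_w G u h2, QSec.p_isColimit G u h2,
    ⟨QSec.p_surjective G u h2⟩, QSec.p_isOpenMap G u h2, fun h => ?_,
    QSec.lift_surjective G u h2, fun hm => ?_⟩
  · have : UniversallyClosed G.t := h
    exact QSec.p_universallyClosed G u h2
  · have : Mono G.j := hm
    refine ⟨QSec.p_isPullback G u h2, fun h => ?_⟩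
    have : Flat G.t := h
    exact QSec.p_flat G u h2

end Groth.Agent.S4087
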