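import Groth.Statements.S4091
import Groth.Agent.FppfSource.Scheme

set_option autoImplicit false
universe u
open CategoryTheory MonoidalCategory CartesianMonoidalCategory MonObj GrpObj AlgebraicGeometry CategoryTheory.Limits
open GrpQ

namespace Groth.Agent.S4091

theorem quasiCompact_right {X Y S : Scheme.{u}} (p : X ⟶ Y) (q : Y ⟶ S) [Surjective p]
    [QuasiCompact (p ≫ q)] : QuasiCompact q := by
  refine (quasiCompact_iff _).2 fun U hU hUc => ?_
  rw [← Set.image_preimage_eq (q.base ⁻¹' U) p.surjective]
  exact (QuasiCompact.isCompact_preimage (f := p ≫ q) U hU hUc).image p.continuous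

set_option backward.isDefEq.respectTransparency.types false in
theorem quasiSeparated_right {X Y S : Scheme.{u}} (p : X ⟶ Y) (q : Y ⟶ S) [Surjective p] [QuasiCompact p]
    [QuasiSeparated (p ≫ q)] : QuasiSeparated q := by
  rw [HasAffineProperty.iff_of_iSup_eq_top (P := @QuasiSeparated) (Q := fun X _ _ _ => QuasiSeparatedSpace X) (fun U : S.affineOpens => U) (iSup_affineOpens_eq_top S)]
  intro U
  refine (isQuasiSeparated_iff_quasiSeparatedSpace _ (q ⁻¹ᵁ U.1).2).1 fun A B hA hAo hAc hB hBo hBc => ?_
  rw [← Set.image_preimage_eq (A ∩ B) p.surjective]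
  refine IsCompact.image ?_ p.continuous
  exact (p ≫ q).isQuasiSeparated_preimage U.2.isQuasiSeparated _ _ (fun x hx => hA hx)
    (hAo.preimage p.continuous) (QuasiCompact.isCompact_preimage (f := p) A hAo hAc) (fun x hx => hB hx)
    (hBo.preimage p.continuous) (QuasiCompact.isCompact_preimage (f := p) B hBo hBc)


/-- Let p : X → Y and q : Y → S be morphisms of schemes with p surjective, flat and of finite
presentation. If p ≫ q is of finite type then q is of finite type; if p ≫ q is of finite
presentation then q is of finite presentation. -/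
theorem result {X Y S : Scheme.{u}} (p : X ⟶ Y) (q : Y ⟶ S)
    [Surjective p] [Flat p] [LocallyOfFinitePresentation p] [QuasiCompact p] [QuasiSeparated p] :
    ((LocallyOfFiniteType (p ≫ q) ∧ QuasiCompact (p ≫ q)) → (LocallyOfFiniteType q ∧ QuasiCompact q)) ∧
    ((LocallyOfFinitePresentation (p ≫ q) ∧ QuasiCompact (p ≫ q) ∧ QuasiSeparated (p ≫ q)) →
      (LocallyOfFinitePresentation q ∧ QuasiCompact q ∧ QuasiSeparated q)) := by
  refine ⟨fun ⟨_, _⟩ => ⟨Groth.Agent.FppfSource.lft p q, quasiCompact_right p q⟩, fun ⟨_, _, _⟩ => ?_⟩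
  exact ⟨Groth.Agent.FppfSource.lfp p q, quasiCompact_right p q, quasiSeparated_right p q⟩


end Groth.Agent.S4091
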