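import Groth.Statements.S4092
import Groth.Agent.MonoFactor.Basic
import Mathlib
import Mathlib

set_option autoImplicit false
universe u
open CategoryTheory MonoidalCategory CartesianMonoidalCategory MonObj GrpObj AlgebraicGeometry CategoryTheory.Limits
open GrpQ

namespace Groth.Agent.S4092

/-- Let f : X → Y be a morphism of schemes which is locally of finite presentation. Then f factors as f
= f'' ∘ f' with f' : X → X' surjective, flat and locally of finite presentation and f'' : X' → Y a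
monomorphism if and only if the first projection X ×_Y X → X is flat. Moreover two such
factorisations are isomorphic: there is an isomorphism of the middle schemes compatible with both
maps. -/
theorem result {X Y : Scheme.{u}} (f : X ⟶ Y) [LocallyOfFinitePresentation f] :
    ((∃ (X' : Scheme.{u}) (f' : X ⟶ X') (f'' : X' ⟶ Y),
        Surjective f' ∧ Flat f' ∧ LocallyOfFinitePresentation f' ∧ Mono f'' ∧ f' ≫ f'' = f) ↔
      Flat (pullback.fst f f)) ∧
    (∀ (X₁ X₂ : Scheme.{u}) (g₁ : X ⟶ X₁) (h₁ : X₁ ⟶ Y) (g₂ : X ⟶ X₂) (h₂ : X₂ ⟶ Y),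
      Surjective g₁ → Flat g₁ → LocallyOfFinitePresentation g₁ → Mono h₁ → g₁ ≫ h₁ = f →
      Surjective g₂ → Flat g₂ → LocallyOfFinitePresentation g₂ → Mono h₂ → g₂ ≫ h₂ = f →
      ∃ φ : X₁ ≅ X₂, g₁ ≫ φ.hom = g₂ ∧ φ.hom ≫ h₂ = h₁) := by
  refine ⟨⟨?_, fun h => MonoFactor.exists_factor f h⟩, ?_⟩
  · rintro ⟨X', f', f'', -, hfl, -, hmono, rfl⟩
    have h1 : IsPullback (pullback.fst f' f') (pullback.snd f' f') (f' ≫ f'') (f' ≫ f'') := by
      refine ⟨⟨by rw [pullback.condition_assoc]⟩, ⟨PullbackCone.IsLimit.mk _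
        (fun c => pullback.lift c.fst c.snd ((cancel_mono f'').1 (by simpa [Category.assoc] using c.condition)))
        (fun c => pullback.lift_fst _ _ _) (fun c => pullback.lift_snd _ _ _)
        (fun c m h₁ h₂ => pullback.hom_ext (by rw [pullback.lift_fst]; exact h₁) (by rw [pullback.lift_snd]; exact h₂))⟩⟩
    haveI : Flat (pullback.fst f' f') := inferInstance
    rw [← h1.isoPullback_inv_fst]
    infer_instance
  · intro X₁ X₂ g₁ h₁ g₂ h₂ s₁ fl₁ fp₁ m₁ e₁ s₂ fl₂ fp₂ m₂ e₂
    haveI := s₁; haveI := fl₁; haveI := fp₁; haveI := m₁; haveI := s₂; haveI := fl₂; haveI := fp₂; haveI := m₂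
    haveI : EffectiveEpi g₁ := inferInstance
    haveI : EffectiveEpi g₂ := inferInstance
    let a : X₁ ⟶ X₂ := EffectiveEpi.desc g₁ g₂ fun {Z} p q e => (cancel_mono h₂).1 (by
      rw [Category.assoc, Category.assoc, e₂, ← e₁, reassoc_of% e])
    let b : X₂ ⟶ X₁ := EffectiveEpi.desc g₂ g₁ fun {Z} p q e => (cancel_mono h₁).1 (by
      rw [Category.assoc, Category.assoc, e₁, ← e₂, reassoc_of% e])
    have ha : g₁ ≫ a = g₂ := EffectiveEpi.fac _ _ _
    have hb : g₂ ≫ b = g₁ := EffectiveEpi.fac _ _ _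
    refine ⟨⟨a, b, ?_, ?_⟩, ha, ?_⟩
    · rw [← cancel_epi g₁, reassoc_of% ha, hb, Category.comp_id]
    · rw [← cancel_epi g₂, reassoc_of% hb, ha, Category.comp_id]
    · rw [← cancel_epi g₁, reassoc_of% ha, e₂, e₁]

end Groth.Agent.S4092
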