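import Groth.Statements.S4099
import Groth.Agent.SmNeutral.Core
import Groth.Agent.SmDesc.Scheme
import Groth.Agent.UOFlat.General
import Groth.Agent.FibreFlat.Stalk
import Groth.Agent.Rigid.Smooth

set_option autoImplicit false
universe u
open CategoryTheory MonoidalCategory CartesianMonoidalCategory MonObj GrpObj AlgebraicGeometry CategoryTheory.Limits
open SGA3

namespace Groth.Agent.S4099
open Groth.Agent.GrpDim Groth.Agent.Unibranch Groth.Agent.SmDesc

/-- (ii) ⟹ (iv): let S be a reduced scheme and G an S-group scheme locally of finite presentation over S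
such that every fibre G_s is smooth over κ(s) and s ↦ dim G_s is locally constant on S. Then G⁰ (the
union of the neutral components of the fibres) is open, underlies an open subgroup scheme smooth
over S, and G is smooth over S at every point of the unit section. (Without 'S reduced' the last two
conclusions fail.) -/
theorem result (S : Scheme.{u}) [IsReduced S] (G : Over S) [GrpObj G]
    [LocallyOfFinitePresentation G.hom]
    (hfib : ∀ s : S, Smooth (pullback.snd G.hom (S.fromSpecResidueField s)))
    (hdim : IsLocallyConstant (fun s : S => topologicalKrullDim ↥(G.hom.base ⁻¹' {s}))) :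
    IsOpen (SGA3x.neutralSet G) ∧
    (∃ (G0 : Over S) (_ : GrpObj G0) (i : G0 ⟶ G), IsMonHom i ∧ IsOpenImmersion i.left ∧
      Set.range i.left.base = SGA3x.neutralSet G ∧ Smooth G0.hom) ∧
    ∃ U : G.left.Opens, Smooth (U.ι ≫ G.hom) ∧ ∀ p : ↥(𝟙_ (Over S)).left, η[G].left.base p ∈ U := by
  have hmem : ∀ s : S, η[G].left s ∈ G.hom.smoothLocus := by
    intro s
    have hs0 : G.hom (η[G].left s) = s := hom_section G s
    have hGR : GeomRedAt.GR G.hom (η[G].left s) := by
      haveI : Smooth (G.hom.fiberToSpecResidueField (G.hom (η[G].left s))) := hfib _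
      exact (GeomRedAt.geometricallyReduced_fiber_iff_forall G.hom _).1
        (Rigid.geometricallyReduced_of_smooth _) _ rfl
    have hflat : FibreFlat.FlatAt G.hom (η[G].left s) := by
      refine UOFlat.flat_stalkMap_lfp G.hom (η[G].left s) (fun z hz hzs _ => ?_) hGR
      rw [hs0] at hzs
      refine GrpDim.isUnivOpenAt_of_dim G ?_ fun t ht => eq_of_specializes hdim ht
      rw [hzs]
      have hpre : _root_.IsPreconnected ({z, η[G].left s} : Set G.left) :=
        isPreconnected_singleton.subset_closure (Set.singleton_subset_iff.2 (Set.mem_insert _ _))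
          (Set.insert_subset_iff.2 ⟨subset_closure rfl, Set.singleton_subset_iff.2 hz.mem_closure⟩)
      exact hpre.subset_connectedComponentIn (F := G.hom.base ⁻¹' {s}) (Set.mem_insert_of_mem _ rfl)
        (Set.insert_subset_iff.2 ⟨hzs, Set.singleton_subset_iff.2 hs0⟩) (Set.mem_insert _ _)
    let O := FibreFlat.flatOpen G.hom
    haveI : Flat (O.ι ≫ G.hom) := FibreFlat.flat_flatOpen G.hom
    let x : O.toScheme := ⟨η[G].left s, FibreFlat.mem_flatOpen.2 hflat⟩
    have hxs : (O.ι ≫ G.hom) x = s := hs0
    obtain ⟨z, hz⟩ : x ∈ Set.range ((O.ι ≫ G.hom).fiberι s) := ((O.ι ≫ G.hom).range_fiberι s).ge hxs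
    haveI : Smooth (G.hom.fiberToSpecResidueField s) := hfib s
    have hsm : Smooth ((O.ι ≫ G.hom).fiberToSpecResidueField s) := by
      have sq := (isPullback_morphismRestrict (G.hom.fiberι s) O).paste_vert
        (IsPullback.of_hasPullback G.hom (S.fromSpecResidueField s))
      have h1 : Smooth ((G.hom.fiberι s ⁻¹ᵁ O).ι ≫ G.hom.fiberToSpecResidueField s) :=
        IsZariskiLocalAtSource.comp ‹Smooth (G.hom.fiberToSpecResidueField s)› _
      rw [show (O.ι ≫ G.hom).fiberToSpecResidueField s =
        sq.isoPullback.inv ≫ (G.hom.fiberι s ⁻¹ᵁ O).ι ≫ G.hom.fiberToSpecResidueField s from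
          sq.isoPullback_inv_snd.symm]
      exact (MorphismProperty.cancel_left_of_respectsIso @Smooth _ _).2 h1
    have h := SmDesc.mem_smoothLocus_of_flat_fibre (f := O.ι ≫ G.hom) z hz (by
      rw [Scheme.Hom.smoothLocus_eq_top]; trivial)
    rw [← Scheme.Hom.preimage_smoothLocus_eq] at h
    exact h
  have hU : ∃ U : G.left.Opens, Smooth (U.ι ≫ G.hom) ∧ ∀ p : ↥(𝟙_ (Over S)).left, η[G].left.base p ∈ U :=
    ⟨G.hom.smoothLocus, smooth_smoothLocus _, hmem⟩
  obtain ⟨hopen, G0, inst, i, hi, hoi, hrange, hsm, -⟩ := SmNeutral.exists_open_smooth G hU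
  exact ⟨hopen, ⟨G0, inst, i, hi, hoi, hrange, hsm⟩, hU⟩

end Groth.Agent.S4099
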