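import Groth.Statements.S4104
import Groth.Agent.HopfRange.Basic

set_option autoImplicit false
universe u
open CategoryTheory MonoidalCategory CartesianMonoidalCategory MonObj GrpObj AlgebraicGeometry CategoryTheory.Limits
open SGA3

namespace Groth.Agent.S4104

open scoped TensorProduct

/-- Let φ : A' → A be a bialgebra map between commutative Hopf algebras over a field k (a homomorphism
of affine k-groups Spec A → Spec A', not necessarily of finite type). If the corresponding morphism
of schemes is a monomorphism, i.e. φ is an epimorphism in the category of commutative rings, then φ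
is surjective (the homomorphism is a closed immersion). -/
theorem result (k : Type u) [Field k] (A' A : Type u) [CommRing A'] [HopfAlgebra k A']
    [CommRing A] [HopfAlgebra k A] (φ : A' →ₐc[k] A)
    (hepi : ∀ (R : Type u) [CommRing R] (f g : A →+* R), f.comp (φ : A' →+* A) = g.comp (φ : A' →+* A) → f = g) :
    Function.Surjective φ := by
  intro x
  let B := (φ : A' →ₐ[k] A).range
  have : Module.FaithfullyFlat ↥B A :=
    Groth.Agent.FlatSub.faithfullyFlat (Groth.Agent.HopfRange.isSubHopf_range φ)
  let L : A →+* A ⊗[↥B] A := Algebra.TensorProduct.includeLeftRingHom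
  let R : A →+* A ⊗[↥B] A := (Algebra.TensorProduct.includeRight : A →ₐ[↥B] A ⊗[↥B] A).toRingHom
  have hx : L x = R x := RingHom.congr_fun (hepi _ L R (RingHom.ext fun a => by
    exact Algebra.TensorProduct.tmul_one_eq_one_tmul (⟨φ a, a, rfl⟩ : ↥B))) x
  let N : Submodule ↥B A := LinearMap.range (Algebra.linearMap ↥B A)
  have h0 : (1 : A) ⊗ₜ[↥B] (Submodule.Quotient.mk x : A ⧸ N) = 0 := by
    have h1 := congrArg (LinearMap.lTensor A N.mkQ) hx
    simp only [L, R, Algebra.TensorProduct.includeLeftRingHom_apply, AlgHom.toRingHom_eq_coe,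
      RingHom.coe_coe, Algebra.TensorProduct.includeRight_apply, LinearMap.lTensor_tmul,
      Submodule.mkQ_apply] at h1
    rw [← h1, (Submodule.Quotient.mk_eq_zero N).2 ⟨1, by simp⟩, TensorProduct.tmul_zero]
  have : x ∈ N := (Submodule.Quotient.mk_eq_zero N).1
    (Module.FaithfullyFlat.tensorProduct_mk_injective (A := ↥B) (B := A) (A ⧸ N)
      (h0.trans (TensorProduct.tmul_zero _ _).symm))
  obtain ⟨⟨_, a, rfl⟩, ha⟩ := this
  exact ⟨a, ha⟩

end Groth.Agent.S4104
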