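import Groth.Statements.S4105
import Groth.Agent.Takeuchi.Main
import Groth.Agent.UnipFilt.Basic

set_option autoImplicit false
universe u
open CategoryTheory MonoidalCategory CartesianMonoidalCategory MonObj GrpObj AlgebraicGeometry CategoryTheory.Limits
open scoped TensorProduct
open SGA3

namespace Groth.Agent.S4105

open scoped Groth.Agent.Takeuchi


/-- Let A be a commutative Hopf algebra over a field k, B a sub-Hopf-algebra of A and J a normal Hopf
ideal of A (a normal closed subgroup N of G = Spec A). Then J is the ideal generated by the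
augmentation ideal of B (N is the kernel of G → Spec B) if and only if B consists exactly of the
elements x with Δ(x) - x ⊗ 1 in the image of A ⊗ J (B is the ring of functions on G/N). This
expresses that N ↦ O(G/N) and B ↦ Spec (A/AB₊) are inverse bijections. -/
theorem result (k : Type u) [Field k] (A : Type u) [CommRing A] [HopfAlgebra k A]
    (B : Subalgebra k A) (hB : SGA3.IsHopfSubalgebra k A B) (J : Ideal A) [J.IsHopfIdeal k]
    (hJ : SGA3.IsNormalHopfIdeal k A J) :
    J = SGA3.augIdealSpan k A B ↔
      (B : Set A) = {x : A | CoalgebraStruct.comul (R := k) (A := A) x - x ⊗ₜ[k] (1 : A) ∈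
        LinearMap.range (LinearMap.lTensor A (J.restrictScalars k).subtype)} := by
  let R : Submodule k (A ⊗[k] A) := LinearMap.range (LinearMap.lTensor A (J.restrictScalars k).subtype)
  have hset : ∀ x : A, CoalgebraStruct.comul (R := k) (A := A) x - x ⊗ₜ[k] (1 : A) ∈ R ↔ x ∈ Takeuchi.inv k J := by
    intro x
    have hex : Function.Exact ((J.restrictScalars k).subtype.lTensor A) ((Ideal.Quotient.mkₐ k J).toLinearMap.lTensor A) :=
      Module.Flat.lTensor_exact A fun y => ⟨fun h => ⟨⟨y, Ideal.Quotient.eq_zero_iff_mem.1 h⟩, rfl⟩,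
        fun ⟨z, hz⟩ => hz ▸ Ideal.Quotient.eq_zero_iff_mem.2 z.2⟩
    rw [show (_ ∈ R) ↔ _ from (hex _).symm, map_sub, sub_eq_zero]
    have e : ∀ z : A ⊗[k] A, Algebra.TensorProduct.map (AlgHom.id k A) (Ideal.Quotient.mkₐ k J) z =
        (Ideal.Quotient.mkₐ k J).toLinearMap.lTensor A z := by
      intro z
      induction z using TensorProduct.induction_on with
      | zero => simp
      | tmul p q => simp
      | add p q hp hq => simp only [map_add, hp, hq]
    rw [Takeuchi.mem_inv]
    change _ ↔ Algebra.TensorProduct.map _ _ (CoalgebraStruct.comul x) = _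
    rw [e]
    simp
  constructor
  · intro hJB
    ext x
    refine ⟨fun hx => (hset x).2 ?_, fun hx => ?_⟩
    · refine Takeuchi.mem_inv_of_apply ?_
      have e : ∀ b ∈ B, (Takeuchi.ptN (k := k) J A) b =
          (1 : Takeuchi.Pt k A (A ⊗[k] (A ⧸ J))) b := by
        intro b hb
        have h1 := Takeuchi.inK_mk (k := k) B b hb
        have h2 : b - algebraMap k A (CoalgebraStruct.counit (R := k) b) ∈ J := by
          rw [hJB]
          refine Ideal.subset_span ⟨B.sub_mem hb (B.algebraMap_mem _), ?_⟩
          simp [Bialgebra.counit_algebraMap]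
        rw [Takeuchi.one_apply]
        refine Eq.trans ?_ ((Algebra.TensorProduct.includeRight.comp (Ideal.Quotient.mkₐ k J)).commutes _)
        change Algebra.TensorProduct.includeRight (Ideal.Quotient.mk J b) =
          Algebra.TensorProduct.includeRight (Ideal.Quotient.mk J (algebraMap k A _))
        rw [Ideal.Quotient.eq.2 h2]
      rw [Takeuchi.mul_apply_congr hB (p' := Takeuchi.ptL (A ⧸ J)) (q' := 1) (fun _ _ => rfl) e hx, _root_.mul_one]
    · exact UnipFilt.coinv_mem hB J (le_of_eq hJB) hx
  · intro hB'
    have : B = Takeuchi.inv k J := SetLike.ext fun x => (Set.ext_iff.1 hB' x).trans (hset x)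
    rw [this]
    exact Takeuchi.eq_augIdealSpan J hJ


end Groth.Agent.S4105
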