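import Groth.Statements.S4109
import Groth.Agent.HullDed.Affine
-- import your own Groth.Agent.* helpers here

set_option autoImplicit false
universe u
open CategoryTheory MonoidalCategory CartesianMonoidalCategory MonObj GrpObj AlgebraicGeometry CategoryTheory.Limits
open SGA3

namespace Groth.Agent.S4109

/-- For S the spectrum of a Dedekind domain R with fraction field K: let G be an R-group scheme which is
flat, quasi-compact and separated over R and whose generic fibre G_K is affine. Then G is affine (so
the kernel of G → Spec O(G) is trivial). -/
theorem result (R : Type u) [CommRing R] [IsDedekindDomain R]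
    (K : Type u) [Field K] [Algebra R K] [IsFractionRing R K]
    (G : Over (Spec (CommRingCat.of R))) [GrpObj G] [Flat G.hom] [IsSeparated G.hom] [QuasiCompact G.hom]
    (hgen : IsAffine (pullback G.hom (Spec.map (CommRingCat.ofHom (algebraMap R K))))) :
    IsAffine G.left := by
  have h : (CommRingCat.ofHom (algebraMap R K)).hom.Flat :=
    (RingHom.flat_algebraMap_iff).2 (IsLocalization.flat K (nonZeroDivisors R))
  have hdom : IsSchemeTheoreticallyDominant (Spec.map (CommRingCat.ofHom (algebraMap R K))) := by
    refine (isSchemeTheoreticallyDominant_iff _).2 (Groth.Agent.HullDed.ker_eq_bot_of_injective _ ?_)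
    intro x y hxy
    apply (ConcreteCategory.bijective_of_isIso (Scheme.ΓSpecIso (CommRingCat.of R)).hom).1
    apply IsFractionRing.injective R K
    have e := Scheme.ΓSpecIso_naturality (CommRingCat.ofHom (algebraMap R K))
    have h1 := congr($e x)
    have h2 := congr($e y)
    exact h1.symm.trans ((congrArg (Scheme.ΓSpecIso (CommRingCat.of K)).hom hxy).trans h2)
  refine Groth.Agent.HullDed.isAffine_of_generic G (Spec.map (CommRingCat.ofHom (algebraMap R K))) ?_ hgen
  haveI := (HasRingHomProperty.Spec_iff (P := @Flat)).2 h
  exact HasRingHomProperty.appTop (P := @Flat) _ inferInstance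

end Groth.Agent.S4109
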