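import Groth.Statements.S4110
import Groth.Agent.FinHopf.HeightOne
import Mathlib.RingTheory.LocalRing.Module
import Mathlib.RingTheory.TensorProduct.Free
import Mathlib.RingTheory.HopfAlgebra.TensorProduct
import Mathlib.RingTheory.OrzechProperty

set_option autoImplicit false
universe u
open CategoryTheory MonoidalCategory CartesianMonoidalCategory MonObj GrpObj AlgebraicGeometry CategoryTheory.Limits
open SGA3

namespace Groth.Agent.S4110

open TensorProduct

/-- (iv) ⟹ (ii), over a local base: let R be a local ring of prime characteristic p and A a commutative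
Hopf algebra over R which is of finite presentation and flat over R (an R-group G locally of finite
presentation and flat; finiteness is then a consequence) and of height ≤ 1: every element a of the
augmentation ideal satisfies a^p = 0 (the Frobenius of G is trivial). Then A is isomorphic as an
R-algebra to R[X₁, …, Xₙ]/(X₁^p, …, Xₙ^p) for some n (n is the rank of the conormal module ω_G,
which is free). -/
theorem result (p : ℕ) [Fact p.Prime] (R : Type u) [CommRing R]
    [IsLocalRing R] [CharP R p] (A : Type u) [CommRing A] [HopfAlgebra R A] [Algebra.FinitePresentation R A] [Module.Flat R A]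
    (h1 : ∀ a : A, Bialgebra.counitAlgHom R A a = 0 → a ^ p = 0) :
    ∃ n : ℕ, Nonempty (A ≃ₐ[R] (MvPolynomial (Fin n) R ⧸
      Ideal.span (Set.range fun i : Fin n => (MvPolynomial.X i : MvPolynomial (Fin n) R) ^ p))) := by

  classical
  have hpp : 0 < p := (Fact.out : p.Prime).pos
  let ε := Bialgebra.counitAlgHom R A
  have hεsub : ∀ a : A, ε (a - algebraMap R A (ε a)) = 0 := fun a => by simp [ε]
  haveI : Algebra.IsIntegral R A := ⟨fun a => by
    have hz : IsIntegral R (a - algebraMap R A (ε a)) :=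
      ⟨Polynomial.X ^ p, Polynomial.monic_X_pow p, by simp [h1 _ (hεsub a)]⟩
    simpa using hz.add (isIntegral_algebraMap (x := ε a))⟩
  haveI : Module.Finite R A := Algebra.IsIntegral.finite
  haveI : Module.Free R A := Module.free_of_flat_of_isLocalRing
  let κ := IsLocalRing.ResidueField R
  haveI : CharP κ p := by
    obtain ⟨q, hq⟩ := CharP.exists κ
    have : (p : κ) = 0 := by rw [← map_natCast (algebraMap R κ), CharP.cast_eq_zero, map_zero]
    have hd := (CharP.cast_eq_zero_iff κ q p).mp this
    rcases (Fact.out : p.Prime).eq_one_or_self_of_dvd q hd with rfl | rfl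
    · exact absurd rfl (CharP.char_ne_one κ 1)
    · exact hq
  haveI : Nontrivial (κ ⊗[R] A) := Groth.Agent.FinHopf.nontrivial_of_hopf κ (κ ⊗[R] A)
  haveI : CharP (κ ⊗[R] A) p :=
    charP_of_injective_algebraMap (FaithfulSMul.algebraMap_injective κ (κ ⊗[R] A)) p
  let εκ := Bialgebra.counitAlgHom κ (κ ⊗[R] A)
  have hεκ : ∀ (c : κ) (a : A), εκ (c ⊗ₜ[R] a) = ε a • c := fun c a => by
    simp [εκ, ε]
  have h1κ : ∀ y ∈ Groth.Agent.FinHopf.aug κ (κ ⊗[R] A), y ^ p = 0 := by
    intro y hy
    have key : ∀ y : κ ⊗[R] A, (y - algebraMap κ _ (εκ y)) ^ p = 0 := by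
      intro y
      induction y using TensorProduct.induction_on with
      | zero => simp [zero_pow hpp.ne']
      | tmul c a =>
        have : c ⊗ₜ[R] a - algebraMap κ _ (εκ (c ⊗ₜ[R] a)) = c ⊗ₜ[R] (a - algebraMap R A (ε a)) := by
          rw [hεκ, TensorProduct.tmul_sub, Algebra.TensorProduct.algebraMap_apply, Algebra.algebraMap_self,
            RingHom.id_apply, Algebra.algebraMap_eq_smul_one, TensorProduct.smul_tmul]
        rw [this, Algebra.TensorProduct.tmul_pow, h1 _ (hεsub a), TensorProduct.tmul_zero]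
      | add y z hy hz =>
        rw [map_add, map_add, show y + z - (algebraMap κ _ (εκ y) + algebraMap κ _ (εκ z)) =
          (y - algebraMap κ _ (εκ y)) + (z - algebraMap κ _ (εκ z)) by ring, add_pow_char, hy, hz, add_zero]
    have hy0 : εκ y = 0 := hy
    simpa [hy0] using key y
  obtain ⟨n, x, -, hx, -, hgen, hrank⟩ :=
    Groth.Agent.FinHopf.exists_coords_finrank_eq_pow (k := κ) (A := κ ⊗[R] A) p h1κ
  have hmk : Function.Surjective (TensorProduct.mk R κ A 1) :=
    TensorProduct.mk_surjective R A κ Ideal.Quotient.mk_surjective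
  have hlift : ∀ i, ∃ z : A, ε z = 0 ∧ (1 : κ) ⊗ₜ[R] z = x i := fun i => by
    obtain ⟨a, ha⟩ := hmk (x i)
    refine ⟨a - algebraMap R A (ε a), hεsub a, ?_⟩
    have h0 : ε a • (1 : κ) = 0 := by
      rw [← hεκ, show (1 : κ) ⊗ₜ[R] a = x i from ha]
      exact hx i
    rw [TensorProduct.tmul_sub, Algebra.algebraMap_eq_smul_one, TensorProduct.tmul_smul,
      TensorProduct.smul_tmul', h0, TensorProduct.zero_tmul, sub_zero]
    exact ha
  choose z hz hzx using hlift
  let Φ : MvPolynomial (Fin n) R →ₐ[R] A := MvPolynomial.aeval z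
  let T : Subalgebra R A := Φ.range
  let Tκ : Submodule R (κ ⊗[R] A) := T.toSubmodule.map (TensorProduct.mk R κ A 1)
  have hT1 : (1 : κ ⊗[R] A) ∈ Tκ := ⟨1, T.one_mem, rfl⟩
  have hTsmul : ∀ (c : κ), ∀ w ∈ Tκ, c • w ∈ Tκ := fun c w hw => by
    obtain ⟨r, rfl⟩ : ∃ r, algebraMap R κ r = c := Ideal.Quotient.mk_surjective c
    rw [algebraMap_smul]
    exact Tκ.smul_mem r hw
  have hTmul : ∀ v ∈ Tκ, ∀ w ∈ Tκ, v * w ∈ Tκ := by
    rintro _ ⟨a, ha, rfl⟩ _ ⟨b, hb, rfl⟩
    exact ⟨a * b, T.mul_mem ha hb, by simp⟩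
  have hTx : ∀ i, x i ∈ Tκ := fun i => ⟨z i, ⟨MvPolynomial.X i, by simp [Φ]⟩, hzx i⟩
  let J := Groth.Agent.FinHopf.aug κ (κ ⊗[R] A)
  -- every power of the augmentation ideal is generated modulo the next one
  have hstep : ∀ j, ∀ y ∈ J ^ j, ∃ s ∈ Tκ, y - s ∈ J ^ (j + 1) := by
    intro j
    induction j with
    | zero =>
      intro y _
      refine ⟨εκ y • 1, hTsmul _ _ hT1, ?_⟩
      rw [zero_add, pow_one, ← Algebra.algebraMap_eq_smul_one]
      exact Groth.Agent.FinHopf.sub_counit_mem y
    | succ j ih =>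
      intro y hy
      rw [pow_succ] at hy
      refine Submodule.mul_induction_on hy (fun a ha b hb => ?_) fun a b ha hb => ?_
      · obtain ⟨s, hs, has⟩ := ih a ha
        obtain ⟨c, hc⟩ := hgen b hb
        refine ⟨s * ∑ i, c i • x i,
          hTmul _ hs _ (Submodule.sum_mem _ fun i _ => hTsmul _ _ (hTx i)), ?_⟩
        rw [show a * b - s * ∑ i, c i • x i = (a - s) * b + s * (b - ∑ i, c i • x i) by ring]
        refine add_mem ?_ ?_
        · rw [pow_succ (n := j + 1)]; exact Ideal.mul_mem_mul has hb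
        · have : s ∈ J ^ j := by
            have := sub_mem ha (Ideal.pow_le_pow_right (Nat.le_succ j) has)
            simpa using this
          rw [show j + 1 + 1 = j + 2 from rfl, pow_add]
          exact Ideal.mul_mem_mul this hc
      · obtain ⟨s, hs, has⟩ := ha
        obtain ⟨t, ht, hbt⟩ := hb
        exact ⟨s + t, add_mem hs ht, by rw [add_sub_add_comm]; exact add_mem has hbt⟩
  have hnil : J ^ Module.finrank κ (κ ⊗[R] A) = ⊥ :=
    Groth.Agent.FinHopf.aug_pow_finrank fun w hw => ⟨p, h1κ w hw⟩
  have htop : ∀ m, ∀ y ∈ J ^ (Module.finrank κ (κ ⊗[R] A) - m), y ∈ Tκ := by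
    intro m
    induction m with
    | zero =>
      intro y hy
      rw [Nat.sub_zero, hnil, Ideal.mem_bot] at hy
      rw [hy]; exact zero_mem _
    | succ m ih =>
      intro y hy
      obtain ⟨s, hs, hys⟩ := hstep _ y hy
      have := add_mem (ih _ (Ideal.pow_le_pow_right (by omega) hys)) hs
      simpa using this
  have hTtop : T.toSubmodule = ⊤ := IsLocalRing.map_tensorProduct_mk_eq_top.mp
    (eq_top_iff.mpr fun y _ => htop (Module.finrank κ (κ ⊗[R] A)) y (by simp))
  have hΦ : Function.Surjective Φ := fun a =>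
    (hTtop ▸ Submodule.mem_top : a ∈ T.toSubmodule)
  set I : Ideal (MvPolynomial (Fin n) R) :=
    Ideal.span (Set.range fun i : Fin n => (MvPolynomial.X i : MvPolynomial (Fin n) R) ^ p) with hI
  have hker : ∀ f ∈ I, Φ f = 0 := by
    intro f hf
    have : I ≤ RingHom.ker Φ := Ideal.span_le.mpr (by
      rintro _ ⟨i, rfl⟩
      simp [Φ, RingHom.mem_ker, h1 _ (hz i)])
    exact this hf
  let Ψ : (MvPolynomial (Fin n) R ⧸ I) →ₐ[R] A := Ideal.Quotient.liftₐ I Φ hker
  -- the truncated monomials span the quotient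
  let L : ((Fin n → Fin p) → R) →ₗ[R] (MvPolynomial (Fin n) R ⧸ I) :=
    Fintype.linearCombination R fun α =>
      Ideal.Quotient.mk I (MvPolynomial.monomial (Finsupp.equivFunOnFinite.symm fun i => (α i : ℕ)) 1)
  have hL : Function.Surjective L := by
    rw [← LinearMap.range_eq_top, Submodule.eq_top_iff']
    intro q
    obtain ⟨f, rfl⟩ := Ideal.Quotient.mk_surjective q
    induction f using MvPolynomial.induction_on' with
    | add f g hf hg => rw [map_add]; exact add_mem hf hg
    | monomial α a =>
      by_cases h : ∀ i, α i < p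
      · refine ⟨Pi.single (fun i => ⟨α i, h i⟩) a, ?_⟩
        have : (Finsupp.equivFunOnFinite.symm fun i => α i) = α := by ext i; simp
        rw [Fintype.linearCombination_apply_single]
        simp only [this]
        rw [show a • Ideal.Quotient.mk I (MvPolynomial.monomial α (1 : R)) =
          Ideal.Quotient.mk I (a • MvPolynomial.monomial α (1 : R)) from
          ((Ideal.Quotient.mkₐ R I).toLinearMap.map_smul a _).symm,
          MvPolynomial.smul_monomial, smul_eq_mul, _root_.mul_one]
      · push Not at h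
        obtain ⟨i, hi⟩ := h
        have hle : Finsupp.single i p ≤ α := Finsupp.single_le_iff.mpr hi
        have : Ideal.Quotient.mk I (MvPolynomial.monomial α a) = 0 := by
          refine Ideal.Quotient.eq_zero_iff_mem.mpr ?_
          rw [← tsub_add_cancel_of_le hle, ← _root_.mul_one a, ← MvPolynomial.monomial_mul, ← MvPolynomial.X_pow_eq_monomial]
          exact Ideal.mul_mem_left _ _ (Ideal.subset_span ⟨i, rfl⟩)
        rw [this]; exact zero_mem _
  have hΨ : Function.Surjective Ψ := fun a => by
    obtain ⟨f, rfl⟩ := hΦ a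
    exact ⟨Ideal.Quotient.mk I f, rfl⟩
  have hcard : Module.finrank R A = Fintype.card (Fin n → Fin p) := by
    rw [← Module.finrank_baseChange (R := κ), hrank]
    simp
  let e : A ≃ₗ[R] ((Fin n → Fin p) → R) := LinearEquiv.ofFinrankEq _ _ (by rw [hcard, Module.finrank_pi])
  have hbij : Function.Bijective (Ψ.toLinearMap ∘ₗ L) := by
    exact OrzechProperty.bijective_of_surjective_of_injective e.symm.toLinearMap _
      e.symm.injective (hΨ.comp hL)
  have hinj : Function.Injective Ψ := fun a b hab => by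
    obtain ⟨a, rfl⟩ := hL a
    obtain ⟨b, rfl⟩ := hL b
    exact congrArg L (hbij.1 hab)
  exact ⟨n, ⟨(AlgEquiv.ofBijective Ψ ⟨hinj, hΨ⟩).symm⟩⟩

end Groth.Agent.S4110
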