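import Groth.Statements.S4114
import Groth.Agent.FinHopf.GrpScheme
import Groth.Agent.S7948

set_option autoImplicit false
universe u
open CategoryTheory MonoidalCategory CartesianMonoidalCategory MonObj GrpObj AlgebraicGeometry CategoryTheory.Limits
open SGA3

namespace Groth.Agent.S4114

/-- Let S be a reduced scheme and G an S-group scheme which is finite locally free of constant rank n
over S. Then the n-th power morphism of G is the trivial endomorphism (g ↦ gⁿ factors through the
unit section). -/
theorem result (S : Scheme.{u}) [IsReduced S] (G : Over S) [GrpObj G] (n : ℕ)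
    (hG : Mor2.IsFinLocFreeOfDeg n G.hom) : (𝟙 G : G ⟶ G) ^ n = 1 := by
  obtain ⟨⟨_, _, _⟩, hr⟩ := hG
  ext1
  refine Scheme.Cover.hom_ext (S.affineOpenCover.openCover.pullback₁ G.hom) _ _ fun i => ?_
  let j := S.affineOpenCover.f i
  refine Groth.Agent.FinHopf.pullback_fst_comp_pow G n j ?_
  let F := Over.pullback j
  let H := F.obj G
  letI : GrpObj H := F.grpObjObj
  have : IsFinite H.hom := inferInstanceAs (IsFinite (pullback.snd G.hom j))
  have : Flat H.hom := inferInstanceAs (Flat (pullback.snd G.hom j))
  have : LocallyOfFinitePresentation H.hom :=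
    inferInstanceAs (LocallyOfFinitePresentation (pullback.snd G.hom j))
  have : IsReduced (Spec (S.affineOpenCover.X i)) := isReduced_of_isOpenImmersion j
  have := (affine_isReduced_iff (S.affineOpenCover.X i)).mp this
  exact Groth.Agent.FinHopf.pow_eq_one_of_affine' H n
    (fun s => (Scheme.Hom.finrank_pullback_snd G.hom j s).trans (hr _))
    fun A _ _ _ _ _ hn => Groth.Agent.S7948.result _ A n hn A (AlgHom.id _ A)

end Groth.Agent.S4114
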