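import Groth.Statements.S4120
import Groth.Agent.Chev.TorusCommMax
-- import your own Groth.Agent.* helpers here

set_option autoImplicit false
universe u
open CategoryTheory MonoidalCategory CartesianMonoidalCategory MonObj GrpObj AlgebraicGeometry CategoryTheory.Limits
open SGA3x

set_option backward.isDefEq.respectTransparency false

namespace Groth.Agent.S4120

/-- Let G be an S-group scheme of finite presentation over S, i : T → G a maximal torus and j : R → G a
subtorus such that T and R commute (their points commute after every base change). Then R ⊆ T: j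
factors through i. -/
theorem result (S : Scheme.{u}) (G : Over S) [GrpObj G]
    [LocallyOfFinitePresentation G.hom] [QuasiCompact G.hom] [QuasiSeparated G.hom]
    (T R : Over S) [GrpObj T] [GrpObj R] (i : T ⟶ G) (j : R ⟶ G) (hT : Red.IsMaximalTorus i)
    [IsMonHom j] [Mono j] (hR : Red.IsTorus R)
    (hcomm : ∀ (X : Over S) (t : X ⟶ T) (r : X ⟶ R), (t ≫ i) * (r ≫ j) = (r ≫ j) * (t ≫ i)) :
    ∃ f : R ⟶ T, f ≫ i = j := by
  exact Groth.Agent.MTTorus.exists_factor_maximalTorus i hT hR j hcomm

end Groth.Agent.S4120
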