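import Groth.Statements.S4136
import Groth.Agent.MTImage.RankSemicont
-- import your own Groth.Agent.* helpers here

set_option autoImplicit false
universe u
open CategoryTheory MonoidalCategory CartesianMonoidalCategory MonObj GrpObj AlgebraicGeometry CategoryTheory.Limits
open SGA3x

set_option backward.isDefEq.respectTransparency false

namespace Groth.Agent.S4136

/-- First assertion: let G be an S-group scheme which is affine and smooth over S. Then the reductive
rank of the geometric fibres (the dimension of their maximal tori) is a lower semicontinuous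
function on S: for every n the set of points whose geometric fibre has a maximal torus of dimension
≥ n is open. (The source also proves that the nilpotent rank is upper semicontinuous.) -/
theorem result (S : Scheme.{u}) (G : Over S) [GrpObj G] [IsAffineHom G.hom] [Smooth G.hom] (n : ℕ) :
    IsOpen {s : S | ∃ r : WithBot ℕ∞, SGA3x.HasRedRank G s r ∧ (n : WithBot ℕ∞) ≤ r} := by
  refine isOpen_iff_forall_mem_open.2 fun s hs => ?_
  obtain ⟨r, ⟨T, hTg, i, hi, hdim⟩, hn⟩ := hs
  haveI := hi.1; haveI := hi.2.1
  haveI : Smooth (Red.geomFibre s G).hom := inferInstanceAs (Smooth (pullback.snd G.hom (Red.geomPt s)))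
  haveI : IsAffineHom (Red.geomFibre s G).hom :=
    MorphismProperty.pullback_snd (P := @IsAffineHom) G.hom (Red.geomPt s) ‹IsAffineHom G.hom›
  obtain ⟨C, hCg, c, hC, -, -⟩ := MTBridge.exists_centralizer T (Red.geomFibre s G)
    (MTBridge.locally_of_isMultTypeFT' T (MTBridge.isMultTypeFT_of_isTorus T hi.2.2.1)) inferInstance inferInstance i
  obtain ⟨U, hsU, hU⟩ := MTImage.exists_nhd_rank (Red.geomPt s) i hi.2.2.1 c hC
  refine ⟨U, fun t ht => ?_, U.2, by rwa [MTImage.geomPt_closedPoint] at hsU⟩
  obtain ⟨T', hT'g, i', C'', hC''g, c'', hi', -, hle, -⟩ := hU _ (Red.geomPt t) (by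
    rwa [MTImage.geomPt_closedPoint])
  exact ⟨_, ⟨T', hT'g, i', hi', rfl⟩, hn.trans (hdim ▸ hle)⟩

end Groth.Agent.S4136
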