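import Groth.Statements.S4140
import Groth.Agent.S5334
import Groth.Agent.GrpDim.Construct

set_option autoImplicit false
universe u
open CategoryTheory MonoidalCategory CartesianMonoidalCategory MonObj GrpObj AlgebraicGeometry CategoryTheory.Limits
open SGA3

namespace Groth.Agent.S4140
open scoped CategoryTheory.Obj in
/-- the diagonal is closed over the square of a separated open -/
theorem mem_range_diagonal {S : Scheme.{u}} (X : Over S) (U : X.left.Opens) (hU : IsSeparated (U.ι ≫ X.hom))
    {w : (X ⊗ X).left} (hw : w ∈ closure (Set.range (pullback.diagonal X.hom)))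
    (h1 : (fst X X).left w ∈ U) (h2 : (snd X X).left w ∈ U) : w ∈ Set.range (pullback.diagonal X.hom) := by
  let j : pullback (U.ι ≫ X.hom) (U.ι ≫ X.hom) ⟶ (X ⊗ X).left :=
    pullback.map (U.ι ≫ X.hom) (U.ι ≫ X.hom) X.hom X.hom U.ι U.ι (𝟙 _) (by simp) (by simp)
  have hj : Set.range j = (fst X X).left ⁻¹' U ∩ (snd X X).left ⁻¹' U := by
    rw [Scheme.Pullback.range_map, Scheme.Opens.range_ι]
    rfl
  obtain ⟨w', rfl⟩ : w ∈ Set.range j := hj ▸ ⟨h1, h2⟩
  have hd : pullback.diagonal (U.ι ≫ X.hom) ≫ j = U.ι ≫ pullback.diagonal X.hom := by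
    apply pullback.hom_ext <;> simp only [j, pullback.map, Category.assoc, pullback.lift_fst, pullback.lift_snd, pullback.diagonal_fst, pullback.diagonal_snd, pullback.diagonal_fst_assoc, pullback.diagonal_snd_assoc, Category.comp_id]
  have hsub : j ⁻¹' Set.range (pullback.diagonal X.hom) ⊆ Set.range (pullback.diagonal (U.ι ≫ X.hom)) := by
    rintro v ⟨x, hx⟩
    have hxU : x ∈ U := by
      have h3 : (fst X X).left (j v) ∈ U := (hj.subset ⟨v, rfl⟩).1
      rw [← hx] at h3
      change (pullback.fst X.hom X.hom) (pullback.diagonal X.hom x) ∈ U at h3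
      rwa [← Scheme.Hom.comp_apply, pullback.diagonal_fst] at h3
    refine ⟨⟨x, hxU⟩, j.isOpenEmbedding.injective ?_⟩
    rw [← hx, ← Scheme.Hom.comp_apply, hd]
    rfl
  have : w' ∈ closure (j ⁻¹' Set.range (pullback.diagonal X.hom)) := by
    rw [← j.isOpenEmbedding.isOpenMap.preimage_closure_eq_closure_preimage j.continuous]
    exact hw
  obtain ⟨x, hx⟩ := (pullback.diagonal (U.ι ≫ X.hom)).isClosedEmbedding.isClosed_range.closure_subset
    (closure_mono hsub this)
  exact ⟨U.ι x, by rw [← Scheme.Hom.comp_apply, ← hd, Scheme.Hom.comp_apply, hx]⟩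


/-- Let G be an S-group scheme locally of finite presentation over S such that s ↦ dim G_s is locally
constant, and σ, τ two S-points of G with values in the neutral component G⁰ (their images lie in
the union of the neutral components of the fibres). Then the subscheme of coincidences of σ and τ
(the pullback of the diagonal of G along (σ, τ)) is a closed subscheme of S. -/
theorem result (S : Scheme.{u}) (G : Over S) [GrpObj G]
    [LocallyOfFinitePresentation G.hom]
    (hdim : IsLocallyConstant (fun s : S => topologicalKrullDim ↥(G.hom.base ⁻¹' {s})))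
    (σ τ : 𝟙_ (Over S) ⟶ G) (hσ : Set.range σ.left.base ⊆ SGA3x.neutralSet G)
    (hτ : Set.range τ.left.base ⊆ SGA3x.neutralSet G) :
    IsClosedImmersion (pullback.fst (lift σ τ) (lift (𝟙 G) (𝟙 G))).left := by
  open Groth.Agent.GrpDim in
  have hd : (lift (𝟙 G) (𝟙 G)).left = pullback.diagonal G.hom := by
    apply pullback.hom_ext
    · rw [pullback.diagonal_fst]
      exact congrArg (fun k : G ⟶ G => k.left) (lift_fst (𝟙 G) (𝟙 G))
    · rw [pullback.diagonal_snd]
      exact congrArg (fun k : G ⟶ G => k.left) (lift_snd (𝟙 G) (𝟙 G))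
  have sq := (IsPullback.of_hasPullback (lift σ τ) (lift (𝟙 G) (𝟙 G))).map (Over.forget S)
  change IsPullback (pullback.fst (lift σ τ) (lift (𝟙 G) (𝟙 G))).left
    (pullback.snd (lift σ τ) (lift (𝟙 G) (𝟙 G))).left (lift σ τ).left (lift (𝟙 G) (𝟙 G)).left at sq
  rw [hd] at sq
  haveI : IsImmersion (pullback.fst (lift σ τ) (lift (𝟙 G) (𝟙 G))).left :=
    MorphismProperty.of_isPullback sq.flip (inferInstanceAs (IsImmersion (pullback.diagonal G.hom)))
  have hrange : Set.range (pullback.fst (lift σ τ) (lift (𝟙 G) (𝟙 G))).left =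
      (lift σ τ).left ⁻¹' Set.range (pullback.diagonal G.hom) := by
    ext s
    constructor
    · rintro ⟨q, rfl⟩
      exact ⟨_, (congrArg (fun k : _ ⟶ (G ⊗ G).left => k q) sq.w).symm⟩
    · rintro ⟨g, hg⟩
      obtain ⟨q, hq, -⟩ := Scheme.exists_preimage_of_isPullback sq s g hg.symm
      exact ⟨q, hq⟩
  refine IsClosedImmersion.of_isPreimmersion _ ?_
  rw [hrange]
  refine isClosed_of_closure_subset fun x hx => ?_
  obtain ⟨A, hA, heA, -⟩ := exists_isAffineOpen_mem_and_subset
    (show η[G].left x ∈ (⊤ : G.left.Opens) from trivial)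
  haveI : IsAffine (A : Scheme.{u}) := hA
  let a : AlgGrp.Action G G := { act := μ[G], one_act := MonObj.one_mul G, mul_act := MonObj.mul_assoc G }
  obtain ⟨T, hT, hTsep⟩ := S5334.result S G G hdim a A inferInstance
  have hTN : ∀ y ∈ SGA3x.neutralSet G, η[G].left (G.hom y) ∈ A → y ∈ T := by
    intro y hy hyA
    rw [← SetLike.mem_coe, hT]
    refine ⟨(lift (𝟙 G) (toUnit G ≫ η[G])).left y, ⟨?_, ?_⟩, ?_⟩
    · have h : (fst G G).left ((lift (𝟙 G) (toUnit G ≫ η[G])).left y) = y := by
        rw [← Scheme.Hom.comp_apply, ← Over.comp_left, lift_fst]; rfl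
      show (fst G G).left ((lift (𝟙 G) (toUnit G ≫ η[G])).left y) ∈ SGA3x.neutralSet G
      rw [h]; exact hy
    · have h : (snd G G).left ((lift (𝟙 G) (toUnit G ≫ η[G])).left y) = η[G].left (G.hom y) := by
        rw [← Scheme.Hom.comp_apply, ← Over.comp_left, lift_snd]; rfl
      show (snd G G).left ((lift (𝟙 G) (toUnit G ≫ η[G])).left y) ∈ A
      rw [h]; exact hyA
    · show μ[G].left ((lift (𝟙 G) (toUnit G ≫ η[G])).left y) = y
      rw [← Scheme.Hom.comp_apply, ← Over.comp_left,
        show lift (𝟙 G) (toUnit G ≫ η[G]) ≫ μ[G] = 𝟙 G * (toUnit G ≫ η[G]) from rfl, ← Hom.one_def,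
        _root_.mul_one]
      rfl
  have h1 : (fst G G).left ((lift σ τ).left x) = σ.left x :=
    congrArg (fun k : 𝟙_ (Over S) ⟶ G => k.left x) (lift_fst σ τ)
  have h2 : (snd G G).left ((lift σ τ).left x) = τ.left x :=
    congrArg (fun k : 𝟙_ (Over S) ⟶ G => k.left x) (lift_snd σ τ)
  refine mem_range_diagonal G T hTsep
    (closure_mono (Set.image_preimage_subset _ _) (image_closure_subset_closure_image (lift σ τ).left.continuous ⟨x, hx, rfl⟩)) ?_ ?_
  · rw [h1]
    exact hTN _ (hσ ⟨x, rfl⟩) (by rw [show G.hom (σ.left x) = x from congrArg (fun k : S ⟶ S => k x) (Over.w σ)]; exact heA)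
  · rw [h2]
    exact hTN _ (hτ ⟨x, rfl⟩) (by rw [show G.hom (τ.left x) = x from congrArg (fun k : S ⟶ S => k x) (Over.w τ)]; exact heA)

end Groth.Agent.S4140
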