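import Groth.Statements.S4151
import Groth.Agent.MTImage.CartanExists
-- import your own Groth.Agent.* helpers here

set_option autoImplicit false
universe u
open CategoryTheory MonoidalCategory CartesianMonoidalCategory MonObj GrpObj AlgebraicGeometry CategoryTheory.Limits
open SGA3x

set_option backward.isDefEq.respectTransparency false

namespace Groth.Agent.S4151

/-- (d) ⟹ (c), and the first assertion of (ii): let G be an S-group scheme, smooth and of finite
presentation over S with connected fibres, which acquires a Cartan subgroup after a flat surjective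
base change that is an fpqc covering. Then G acquires a Cartan subgroup after an etale surjective
base change, and any two Cartan subgroups C₁, C₂ of G are conjugate locally for the etale topology. -/
theorem result (S : Scheme.{u}) (G : Over S) [GrpObj G]
    [Smooth G.hom] [QuasiCompact G.hom] [QuasiSeparated G.hom]
    (hconn : ∀ s : S, _root_.IsConnected (G.hom.base ⁻¹' {s}))
    (hC : ∃ (S' : Scheme.{u}) (f : S' ⟶ S), Flat f ∧ Surjective f ∧
      (∀ V : S.Opens, IsAffineOpen V → ∃ W : S'.Opens, IsCompact (W : Set S') ∧ f.base '' (W : Set S') = (V : Set S)) ∧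
      ∃ (C : Over S') (_ : GrpObj C) (c : C ⟶ Red.bc f G), SGA3x.IsCartan c) :
    (∃ (S' : Scheme.{u}) (f : S' ⟶ S), Etale f ∧ Surjective f ∧
      ∃ (C : Over S') (_ : GrpObj C) (c : C ⟶ Red.bc f G), SGA3x.IsCartan c) ∧
    ∀ (C₁ C₂ : Over S) [GrpObj C₁] [GrpObj C₂] (c₁ : C₁ ⟶ G) (c₂ : C₂ ⟶ G),
      SGA3x.IsCartan c₁ → SGA3x.IsCartan c₂ →
      ∃ (S' : Scheme.{u}) (f : S' ⟶ S), Etale f ∧ Surjective f ∧
        ∃ g : 𝟙_ (Over S') ⟶ Red.bc f G, SGA3x.ConjBy ((Over.pullback f).map c₁) ((Over.pullback f).map c₂) g := by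
  haveI := (Groth.Agent.S3025.result S G hconn).1
  refine ⟨?_, fun C₁ C₂ _ _ c₁ c₂ h₁ h₂ => MTImage.exists_conj_etale hconn c₁ c₂ h₁ h₂⟩
  obtain ⟨S', f, hf, hfs, hcov, C', hC'g, c', hc'⟩ := hC
  haveI := hf; haveI := hfs
  haveI : LocallyOfFiniteType (Red.bc f G).hom := inferInstanceAs (LocallyOfFiniteType (pullback.snd G.hom f))
  haveI : QuasiCompact (Red.bc f G).hom := inferInstanceAs (QuasiCompact (pullback.snd G.hom f))
  have hloc : ∀ s : S, ∃ (U : Scheme.{u}) (e : U ⟶ S), Etale e ∧ s ∈ Set.range e.base ∧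
      ∃ (C : Over U) (_ : GrpObj C) (c : C ⟶ Red.bc e G), SGA3x.IsCartan c := fun s => by
    obtain ⟨l, hl, D, hsD, hu⟩ := MTImage.exists_prime_invertible s
    obtain ⟨_, ⟨V', hV', rfl⟩, hsV, hVD⟩ := S.isBasis_affineOpens.exists_subset_of_mem_open hsD D.2
    let V : S.Opens := V'
    have hV : IsAffineOpen V := hV'
    have huV : IsUnit (l : Γ((V : Scheme.{u}), ⊤)) :=
      MTImage.isUnit_natCast (S.homOfLE (show V ≤ D from hVD)) l hu
    obtain ⟨W, hW, hWV⟩ := hcov V hV
    have hr : Set.range (W.ι ≫ f) ⊆ Set.range V.ι := by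
      rintro _ ⟨w, rfl⟩
      rw [V.range_ι]
      exact hWV.le ⟨W.ι w, w.2, rfl⟩
    let g : (W : Scheme.{u}) ⟶ (V : Scheme.{u}) := IsOpenImmersion.lift V.ι (W.ι ≫ f) hr
    have hg : g ≫ V.ι = W.ι ≫ f := IsOpenImmersion.lift_fac _ _ _
    haveI : Surjective g := ⟨fun v => by
      obtain ⟨a, ha, hav⟩ := hWV.ge v.2
      refine ⟨⟨a, ha⟩, V.ι.isOpenEmbedding.injective ?_⟩
      rw [← Scheme.Hom.comp_apply, hg]
      exact hav⟩
    haveI : Flat g := by
      haveI : Flat (g ≫ V.ι) := by rw [hg]; infer_instance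
      have hsq : IsPullback g (𝟙 _) V.ι (g ≫ V.ι) :=
        ⟨⟨(Category.id_comp _).symm⟩, ⟨PullbackCone.IsLimit.mk _ (fun s => s.snd)
          (fun s => by rw [← cancel_mono V.ι, Category.assoc, ← s.condition]) (fun s => Category.comp_id _)
          (fun s m _ hm => by simpa using hm)⟩⟩
      exact MorphismProperty.of_isPullback (P := @Flat) hsq.flip ‹Flat (g ≫ V.ι)›
    haveI : IsAffine (V : Scheme.{u}) := hV
    haveI : CompactSpace ↥(W : Scheme.{u}) := isCompact_iff_compactSpace.1 hW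
    haveI : QuasiCompact (g ≫ terminal.from (V : Scheme.{u})) := (quasiCompact_iff_compactSpace _).2 inferInstance
    haveI : QuasiCompact g := QuasiCompact.of_comp g (terminal.from (V : Scheme.{u}))
    let G' := Red.bc V.ι G
    haveI : Smooth G'.hom := inferInstanceAs (Smooth (pullback.snd G.hom V.ι))
    haveI : IsSeparated G'.hom := inferInstanceAs (IsSeparated (pullback.snd G.hom V.ι))
    haveI : QuasiCompact G'.hom := inferInstanceAs (QuasiCompact (pullback.snd G.hom V.ι))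
    obtain ⟨e₁, -, he₁⟩ := Chev.MaxTorusBC.exists_trIso (show W.ι ≫ f = W.ι ≫ f from rfl) G
    obtain ⟨e₂, -, he₂⟩ := Chev.MaxTorusBC.exists_trIso (show g ≫ V.ι = W.ι ≫ f from hg) G
    haveI : IsMonHom e₁.hom := he₁
    haveI : IsMonHom e₂.hom := he₂
    let eG := e₁.symm ≪≫ e₂
    haveI : IsMonHom eG.hom := inferInstanceAs (IsMonHom (e₁.inv ≫ e₂.hom))
    haveI : IsMonHom (Iso.refl (Red.bc W.ι C')).hom := inferInstanceAs (IsMonHom (𝟙 _))
    have hc'' : SGA3x.IsCartan ((Over.pullback W.ι).map c' ≫ eG.hom) :=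
      MTImage.isCartan_iso (Iso.refl _) eG _ _ (by rw [Iso.refl_hom, Category.id_comp])
        (MTImage.isCartan_bc c' hc' W.ι)
    obtain ⟨U, e, he, hse, C, hCg, c, hc⟩ := MTImage.exists_cartan_etale_nhd l hl huV
      (MTImage.isConnected_fibre_bc G hconn V.ι) g _ hc'' ⟨s, hsV⟩
    haveI := he
    obtain ⟨eU, -, heU⟩ := Chev.MaxTorusBC.exists_trIso (show e ≫ V.ι = e ≫ V.ι from rfl) G
    haveI : IsMonHom eU.hom := heU
    haveI : IsMonHom eU.symm.hom := inferInstanceAs (IsMonHom eU.inv)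
    haveI : IsMonHom (Iso.refl C).hom := inferInstanceAs (IsMonHom (𝟙 _))
    obtain ⟨u, hu'⟩ := hse
    refine ⟨U, e ≫ V.ι, inferInstance, ⟨u, ?_⟩, C, hCg, c ≫ eU.inv,
      MTImage.isCartan_iso (Iso.refl _) eU.symm c _ (by rw [Iso.refl_hom, Category.id_comp]; rfl) hc⟩
    rw [Scheme.Hom.comp_apply, hu']
    rfl
  choose P e he hmem hC using hloc
  obtain ⟨C, hCg, c, hc⟩ := MTImage.exists_cartan_sigma e hC
  refine ⟨∐ P, Sigma.desc e, IsZariskiLocalAtSource.sigmaDesc (P := @Etale) he, ⟨fun s => ?_⟩, C, hCg, c, hc⟩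
  obtain ⟨x, hx⟩ := hmem s
  exact ⟨(Sigma.ι P s).base x, by rw [← Scheme.Hom.comp_apply, Sigma.ι_desc]; exact hx⟩

end Groth.Agent.S4151
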