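import Groth.Statements.S4187
import Groth.Agent.AnLib.Chain

set_option autoImplicit false
open CategoryTheory AlgebraicGeometry Topology TopologicalSpace
open An

namespace Groth.Agent.S4187

/-- For X locally of finite type over ℂ, the underlying space of X is discrete if and only if the space
X(ℂ) (complex topology) is discrete. -/
theorem result (X : Scheme.{0}) [X.Over An.SC] [LocallyOfFiniteType (X ↘ An.SC)] :
    DiscreteTopology ↥X ↔ DiscreteTopology (An.Pts X) := by
  open Groth.Agent.AnLib in
  constructor
  · intro h
    exact discreteTopology_iff_isOpen_singleton.mpr fun x => by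
      have e : ({x} : Set (An.Pts X)) = An.Pts.pt ⁻¹' {x.pt} := by
        ext y; exact ⟨fun h => congrArg An.Pts.pt h, fun h => pt_injective h⟩
      rw [e]
      exact (isOpen_discrete _).preimage An.Pts.continuous_pt
  · intro h
    have hcl : ∀ x : An.Pts X, IsOpen ({x.pt} : Set X) := fun x =>
      (isOpen_iff_pts (isLocallyConstructible_closed (isClosed_pt x))).mpr (isOpen_discrete _)
    have hU : IsOpen (⋃ x : An.Pts X, ({x.pt} : Set X)) := isOpen_iUnion hcl
    refine discreteTopology_iff_isOpen_singleton.mpr fun p => ?_
    by_cases hp : p ∈ ⋃ x : An.Pts X, ({x.pt} : Set X)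
    · obtain ⟨x, hx⟩ := Set.mem_iUnion.mp hp
      rw [Set.mem_singleton_iff.mp hx]
      exact hcl x
    · exfalso
      obtain ⟨x, hx⟩ := exists_pt_mem (X := X) (Set.nonempty_of_mem (Set.mem_compl hp))
        hU.isClosed_compl.isLocallyClosed
      exact hx (Set.mem_iUnion.mpr ⟨x, rfl⟩)

end Groth.Agent.S4187
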