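import Groth.Statements.S4243
import Mathlib.FieldTheory.Finite.Basic
import Mathlib.Combinatorics.Nullstellensatz


set_option autoImplicit false
set_option linter.style.haveILetI false

open SGA4h

namespace Groth.Agent.S4243

/-- Let k be a finite field with q elements and P a nonzero homogeneous polynomial of degree d in r+1
variables over k. If P vanishes at every point of k^{r+1} (that is, the hypersurface P = 0 in
projective r-space passes through every rational point), then d ≥ q + 1. -/
theorem result (k : Type) [Field k] [Fintype k] (r d : ℕ)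
    (P : MvPolynomial (Fin (r + 1)) k) (hP : P.IsHomogeneous d) (hP0 : P ≠ 0)
    (hvan : ∀ x : Fin (r + 1) → k, MvPolynomial.eval x P = 0) :
    Fintype.card k + 1 ≤ d := by
  classical
  by_contra hlt
  push Not at hlt
  obtain ⟨α, hα⟩ := MvPolynomial.ne_zero_iff.1 hP0
  have hdeg : ∑ i, α i = d := by
    have := hP hα
    rw [← this, Finsupp.weight_apply, Finsupp.sum_fintype _ _ (fun i => by simp)]
    simp
  by_cases hall : ∀ i, α i < Fintype.card k
  · obtain ⟨s, hs, hne⟩ := MvPolynomial.combinatorial_nullstellensatz_exists_eval_nonzero P α hα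
      (by rw [hP.totalDegree hP0, ← Finsupp.degree_eq_sum] at *; omega)
      (fun _ => Finset.univ) (fun i => by simpa using hall i)
    exact hne (hvan s)
  · push Not at hall
    obtain ⟨i, hi⟩ := hall
    have hid : α i = d ∧ ∀ j, j ≠ i → α j = 0 := by
      have h1 := Finset.add_sum_erase Finset.univ (fun j => α j) (Finset.mem_univ i)
      refine ⟨by omega, fun j hj => ?_⟩
      have h2 : α j ≤ ∑ x ∈ Finset.univ.erase i, α x :=
        Finset.single_le_sum (fun x _ => Nat.zero_le (α x)) (Finset.mem_erase.2 ⟨hj, Finset.mem_univ j⟩)
      omega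
    refine hα ?_
    have hx := hvan (Pi.single i 1)
    rw [MvPolynomial.eval_eq', Finset.sum_eq_single α] at hx
    · rw [Finset.prod_eq_one fun j _ => ?_, mul_one] at hx
      · exact hx
      · rcases eq_or_ne j i with rfl | hj
        · simp
        · simp [hid.2 j hj]
    · intro β hβ hne
      have hβd : ∑ j, β j = d := by
        have := hP (MvPolynomial.mem_support_iff.1 hβ)
        rw [← this, Finsupp.weight_apply, Finsupp.sum_fintype _ _ (fun i => by simp)]
        simp
      obtain ⟨j, hj, hβj⟩ : ∃ j, j ≠ i ∧ β j ≠ 0 := by
        by_contra hc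
        push Not at hc
        refine hne (Finsupp.ext fun j => ?_)
        rcases eq_or_ne j i with rfl | hj
        · rw [Finset.sum_eq_single j (fun x _ hx => hc x hx) (by simp)] at hβd; omega
        · rw [hc j hj, hid.2 j hj]
      rw [Finset.prod_eq_zero (Finset.mem_univ j) (by simp [Pi.single_eq_of_ne hj, zero_pow hβj]), mul_zero]
    · intro h; exact absurd (MvPolynomial.mem_support_iff.2 hα) h

end Groth.Agent.S4243
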