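import Groth.Statements.S4256
import Mathlib

set_option linter.style.haveILetI false

set_option autoImplicit false
open scoped BigOperators
open SGA4h

namespace Groth.Agent.S4256

/-- Let k be a finite field, ψ a nontrivial additive character of k with values in a domain R, and n ≥
1. Then the generalised Kloosterman sum with parameter 0, Σ ψ(x_1 + ⋯ + x_n) over all (x_1, …, x_n)
∈ k^n with x_1 ⋯ x_n = 0, equals (-1)^{n-1}. -/
theorem result (k : Type) [Field k] [Fintype k] [DecidableEq k] (R : Type) [CommRing R] [IsDomain R]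
    (ψ : AddChar k R) (hψ : ψ ≠ 1) (n : ℕ) (hn : 1 ≤ n) :
    ∑ x ∈ (Finset.univ : Finset (Fin n → k)).filter (fun x => ∏ i, x i = 0), ψ (∑ i, x i) = (-1) ^ (n - 1) := by
  classical
  have h0 : ∑ a : k, ψ a = 0 := AddChar.sum_eq_zero_of_ne_one hψ
  have hne : ∑ a ∈ (Finset.univ : Finset k).erase 0, ψ a = -1 := by
    have := Finset.add_sum_erase (Finset.univ : Finset k) (fun a => ψ a) (Finset.mem_univ 0)
    rw [h0, AddChar.map_zero_eq_one] at this
    linear_combination this
  have hprod : ∀ x : Fin n → k, ψ (∑ i, x i) = ∏ i, ψ (x i) := fun x => by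
    induction (Finset.univ : Finset (Fin n)) using Finset.induction_on with
    | empty => simp
    | insert a t ha ih => rw [Finset.sum_insert ha, Finset.prod_insert ha, ψ.map_add_eq_mul, ih]
  have hfilt : (Finset.univ : Finset (Fin n → k)).filter (fun x => ¬ ∏ i, x i = 0) =
      Fintype.piFinset fun _ : Fin n => (Finset.univ : Finset k).erase 0 := by
    ext x
    simp [Finset.prod_eq_zero_iff]
  have htot := Finset.sum_filter_add_sum_filter_not (Finset.univ : Finset (Fin n → k))
    (fun x => ∏ i, x i = 0) (fun x => ∏ i, ψ (x i))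
  rw [hfilt, Finset.sum_prod_piFinset, Finset.prod_const, hne, Finset.card_univ, Fintype.card_fin,
    ← Fintype.piFinset_univ, Finset.sum_prod_piFinset, Finset.prod_const, h0, Finset.card_univ,
    Fintype.card_fin, zero_pow (by omega)] at htot
  simp only [hprod]
  rw [← Fintype.piFinset_univ, eq_neg_of_add_eq_zero_left htot]
  obtain ⟨m, rfl⟩ : ∃ m, n = m + 1 := ⟨n - 1, by omega⟩
  simp [pow_succ]

end Groth.Agent.S4256
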