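import Groth.Statements.S4257
import Groth.Agent.EtDepthX.SemiPurGlobal

set_option autoImplicit false
universe u
open CategoryTheory CategoryTheory.Limits AlgebraicGeometry Opposite
open SGA4h

namespace Groth.Agent.S4257

/-- Let S be a scheme, n invertible on S, g : X → S smooth of relative dimension N (separated of finite
type), i : Y → X a closed immersion such that every fibre of Y → S has dimension ≤ d, and j : U → X
the open immersion of the complement of Y. Then, with c = N - d, the local cohomology sheaves
H^p_Y(X, ℤ/n) (right derived functors of sections supported off U applied to the constant sheaf)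
vanish for all p < 2c. -/
theorem result {S X Y U : Scheme.{u}} (n : ℕ) (hn : IsUnit (n : Γ(S, ⊤)))
    (N d : ℕ) (g : X ⟶ S) [SmoothOfRelativeDimension N g] [IsSeparated g] [QuasiCompact g]
    (i : Y ⟶ X) [IsClosedImmersion i]
    (hfib : ∀ s : S, topologicalKrullDim ↥(pullback (i ≫ g) (S.fromSpecResidueField s)) ≤ d)
    (j : U ⟶ X) [IsOpenImmersion j] (hU : Set.range j = (Set.range i)ᶜ) [EtCoh.BCCont j]
    (p : ℕ) (hp : p < 2 * (N - d)) :
    IsZero ((EtDual.locCoh j p).obj (EtCoh.const X (ZMod n))) := by
  refine Groth.Agent.EtDepthX.isZero_locCoh_relative n hn N d g i (fun z => ?_) j (fun x hx => ?_) p hp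
  · exact (Groth.Agent.EtDepthX.localDim_le_topologicalKrullDim ((i ≫ g).asFiber z)).trans (hfib ((i ≫ g) z))
  · rw [hU]
    exact hx

end Groth.Agent.S4257
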