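import Groth.Statements.S4259
import Groth.Agent.EtPur.Divisor

set_option autoImplicit false
universe u
open CategoryTheory CategoryTheory.Limits AlgebraicGeometry Opposite
open SGA4h

namespace Groth.Agent.S4259

/-- Relative purity, the identification of R^1 j_*: let S be a scheme and n a natural number invertible
on S, N ≥ 1, f : X → S smooth of relative dimension N, h : Y → S smooth of relative dimension N - 1,
i : Y → X a closed immersion with i ≫ f = h, and j : U → X an open immersion whose image is the
complement of Y. Then R^1 j_* μ_n (μ_n the sheaf of n-th roots of unity on U) is isomorphic to i_*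
(ℤ/n). Only the existence of an isomorphism is asserted; the canonical one, given by the Kummer
class of a local equation of Y, is not singled out. -/
theorem result {S X Y U : Scheme.{u}} (n : ℕ) (hn : IsUnit (n : Γ(S, ⊤))) (N : ℕ) (hN : 1 ≤ N)
    (f : X ⟶ S) [SmoothOfRelativeDimension N f] (h : Y ⟶ S) [SmoothOfRelativeDimension (N - 1) h]
    (i : Y ⟶ X) [IsClosedImmersion i] (w : i ≫ f = h)
    (j : U ⟶ X) [IsOpenImmersion j] (hU : Set.range j = (Set.range i)ᶜ) :
    Nonempty ((EtCoh.Rpush j 1).obj (EtCoh.mu U n) ≅ (EtCoh.push i).obj (EtCoh.const Y (ZMod n))) := by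
  obtain ⟨m, rfl⟩ : ∃ m, N = m + 1 := ⟨N - 1, by omega⟩
  haveI : SmoothOfRelativeDimension m h := (inferInstance : SmoothOfRelativeDimension (m + 1 - 1) h)
  have hnX : IsUnit (n : Γ(X, ⊤)) := by
    have := hn.map f.appTop.hom
    rwa [map_natCast] at this
  rcases n.eq_zero_or_pos with hn0 | hn0
  · subst hn0
    haveI hX : IsEmpty X := ⟨fun x => not_isUnit_zero (M₀ := X.presheaf.stalk x)
      (by have := hnX.map (X.presheaf.germ ⊤ x trivial).hom; rwa [Nat.cast_zero, map_zero] at this)⟩
    exact ⟨(Groth.Agent.EtMV.isZero_of_isEmpty _).iso (Groth.Agent.EtMV.isZero_of_isEmpty _)⟩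
  exact Groth.Agent.EtPur.nonempty_rpush_mu_iso n hn0 hnX m f h i w j hU

end Groth.Agent.S4259
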