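import Groth.Statements.S4263
import Groth.Agent.FinFrAbs.Main

set_option autoImplicit false
universe u
open CategoryTheory CategoryTheory.Limits AlgebraicGeometry Opposite
open scoped BigOperators
open SGA4h

namespace Groth.Agent.S4263

/-- For an affine scheme and constant coefficients, pullback along the Frobenius endomorphism equals the
geometric Frobenius on cohomology: let k be a finite field with q elements, K an algebraic
extension, R a k-algebra, X₀ = Spec R, φ_R : R → R the ring endomorphism r ↦ r^q (the Frobenius
endomorphism F of X₀ is Spec φ_R, a k-morphism), and Λ a coefficient ring. Then for every n the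
endomorphism of H^n(X₀ ⊗_k K, Λ) induced by pullback along F × id (using the identifications of the
inverse images of the constant sheaf Λ with Λ) coincides with the geometric Frobenius F^* defined as
transport of structure by the inverse of the arithmetic Frobenius x ↦ x^q of K. -/
theorem result (k K : Type u) [Field k] [Fintype k] [Field K] [Algebra k K]
    [Algebra.IsAlgebraic k K] (Λ : Type) [CommRing Λ] [Fact FinFr.PullExact.{u}]
    (R : Type u) [CommRing R] [Algebra k R] (φ : R →+* R) (hφ : ∀ r : R, φ r = r ^ Fintype.card k)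
    (hw : Spec.map (CommRingCat.ofHom φ) ≫ Spec.map (CommRingCat.ofHom (algebraMap k R)) =
      Spec.map (CommRingCat.ofHom (algebraMap k R))) (n : ℕ)
    (x : EtCoh.H (FinFr.ext K (Spec.map (CommRingCat.ofHom (algebraMap k R))))
      (EtLam.pullback (FinFr.extπ K (Spec.map (CommRingCat.ofHom (algebraMap k R)))) (FinFr.constLam Λ (Spec (CommRingCat.of R)))).carrier n) :
    FinFr.frob (K := K) (Spec.map (CommRingCat.ofHom (algebraMap k R))) (FinFr.constLam Λ (Spec (CommRingCat.of R))) n x =
      Sheaf.H.map (EtCore.pullConst (FinFr.extπ K (Spec.map (CommRingCat.ofHom (algebraMap k R)))) Λ).inv n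
        (FinFr.endConstAdd (Λ := Λ) (FinFr.extHom K (Spec.map (CommRingCat.ofHom (algebraMap k R))) (Spec.map (CommRingCat.ofHom φ)) hw) n
          (Sheaf.H.map (EtCore.pullConst (FinFr.extπ K (Spec.map (CommRingCat.ofHom (algebraMap k R)))) Λ).hom n x)) := by
  obtain ⟨p, hc⟩ := CharP.exists k
  haveI := hc
  haveI : Fact p.Prime := ⟨CharP.char_is_prime k p⟩
  obtain ⟨m, -, hm⟩ := FiniteField.card k p
  obtain ⟨e, he⟩ : ∃ e, (m : ℕ) = e + 1 := ⟨(m : ℕ) - 1, (Nat.succ_pred_eq_of_pos m.pos).symm⟩
  rw [he] at hm
  haveI : FrobSch.IsCharP (Spec (CommRingCat.of R)) p :=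
    FrobSch.IsCharP.of_hom (Spec.map (CommRingCat.ofHom (algebraMap k R))) p
  refine Groth.Agent.FinFrAbs.frob_eq _ p e hm _ ?_ hw n x
  rcases subsingleton_or_nontrivial R with hR | hR
  · haveI : IsEmpty ↥(Spec (CommRingCat.of R)) := inferInstanceAs (IsEmpty (PrimeSpectrum R))
    exact (isInitialOfIsEmpty (X := Spec (CommRingCat.of R))).hom_ext _ _
  · haveI : CharP R p := charP_of_injective_algebraMap (algebraMap k R).injective p
    haveI : ExpChar R p := ExpChar.prime Fact.out
    rw [Groth.Agent.WeilLib.frobPow_Spec p R]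
    congr 2
    ext r
    rw [hφ r, hm]
    exact (iterateFrobenius_def p (e + 1) r).symm

end Groth.Agent.S4263
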