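import Groth.Prelude.Def_DCoh2
import Groth.Prelude.Def_MoreMor
import Groth.Prelude.Def_CohB1
import Mathlib.AlgebraicGeometry.Morphisms.ClosedImmersion
import Groth.Prelude.Def_KSix
import Groth.Agent.KSixLib.PerfMor
import Groth.Agent.KSixLib.ExchProj

set_option backward.isDefEq.respectTransparency false
set_option backward.isDefEq.respectTransparency.types false
-- import your own Groth.Agent.* helpers here

set_option autoImplicit false
universe u
open CategoryTheory CategoryTheory.Limits AlgebraicGeometry
attribute [local instance] HasDerivedCategory.standard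
open KSix

namespace Groth.Agent.S4268

/-- In the case where f is projective, over an arbitrary base: let Y be a scheme, i : X ⟶ P^r_Y a closed
immersion and f : X ⟶ Y the composite with the projection; suppose f is a perfect morphism and let E
be a bounded below perfect object of D(O_X). Assuming Rf_* exists, Rf_*E is perfect on Y. (The
source allows a closed immersion into any P(F) with F quasi-coherent of finite type on Y.) -/
theorem result {X Y : Scheme.{u}} (r : ℕ)
    (i : X ⟶ CohB1.ProjSpaceOver r Y) [IsClosedImmersion i]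
    (hf : MoreMor.IsPerfectMor (i ≫ CohB1.ProjSpaceOver.toBase r Y)) [DCoh.HasRpush (i ≫ CohB1.ProjSpaceOver.toBase r Y)]
    (E : DCoh.D X) (b : ℤ) [E.IsGE b] (hE : DCoh.IsPerfect E) :
    DCoh.IsPerfect ((DCoh.Rpush (i ≫ CohB1.ProjSpaceOver.toBase r Y)).obj E) := by
  obtain ⟨h1, h2, h3⟩ := KSixLib.Exch.toBase_proper_flat_lfp r Y
  let f := i ≫ CohB1.ProjSpaceOver.toBase r Y
  haveI : IsProper f := inferInstanceAs (IsProper (i ≫ CohB1.ProjSpaceOver.toBase r Y))
  have hg : ∀ n, DerSch.IsNPseudoCoherent f n := fun n =>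
    KSixLib.nPseudoCoherent_of_pcMor f (fun U V hU hV h => (hf U V hU hV h).1) n
  have hrel : DerSch.IsPseudoCoherentRelAll f E := fun m => by
    have h := (RelPCS.rel_comp_iff (f := 𝟙 X) (g := f) hg m E).1 ((RelPCS.rel_id_iff m E).2 (DQCoh.pc_of_perfect hE m))
    rwa [Category.id_comp] at h
  refine KSixLib.isPerfect_push f hf E hE (KSixLib.isQCohD_of_relAll f hrel) fun m => ?_
  obtain ⟨F, -, -, ⟨e⟩⟩ := KFlat.exists_isKFlat_rep E
  exact DQCoh.pc_of_iso ((DCoh.Rpush f).mapIso e)
    (KSixLib.Exch.pc_push_closed_comp i (CohB1.ProjSpaceOver.toBase r Y) F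
      (fun k => KSixLib.rel_of_iso _ e.symm (hrel k)) m).2

end Groth.Agent.S4268
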