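import Groth.Statements.S4281
import Groth.Agent.PicProp.Main
-- import your own Groth.Agent.* helpers here

set_option autoImplicit false
set_option backward.isDefEq.respectTransparency false
universe u
open CategoryTheory CategoryTheory.Limits AlgebraicGeometry
open Pic13

namespace Groth.Agent.S4281

/-- For X proper over an algebraically closed field k (the source: for X proper over a Noetherian S,
Pic^τ_{X/S} is of finite type, i.e. the family of classes of invertible modules τ-equivalent to zero
on the fibres of X/S is bounded): the family of invertible O_X-modules which are τ-equivalent to
zero is bounded — all of them occur, up to isomorphism, among the fibres at k-points of one coherent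
module on X ×_k T for some k-scheme T of finite type. -/
theorem result (k : Type u) [Field k] [IsAlgClosed k] (X : Scheme.{u}) [X.Over (Spec (CommRingCat.of k))]
    [IsProper (X ↘ Spec (CommRingCat.of k))] :
    Pic13.IsBounded k X (fun L : X.Modules => PicF.IsInvertible L ∧ Pic13.IsTauEquivZero k X L) := by
  exact PicBdd.isBounded_mono k (PicProp.isBounded_flat1 k X) fun L hL => PicProp.flat1_of_tau k hL.1 hL.2

end Groth.Agent.S4281
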