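import Groth.Statements.S4282
import Groth.Agent.PicProp.NS
-- import your own Groth.Agent.* helpers here

set_option autoImplicit false
set_option backward.isDefEq.respectTransparency false
universe u
open CategoryTheory CategoryTheory.Limits AlgebraicGeometry
open Pic13

namespace Groth.Agent.S4282

/-- For X proper over an algebraically closed field k (the source states it for all geometric fibres of
a proper X over a Noetherian base, with bounds on the ranks): the Néron–Severi group of X —
invertible modules modulo algebraic equivalence — is finitely generated. Concretely: there are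
invertible modules G_1, …, G_p such that for every invertible O_X-module L there are exponents a, b
∈ ℕ^p and an invertible M algebraically equivalent to zero with L ⊗ G^{⊗ b} ≅ G^{⊗ a} ⊗ M, where
G^{⊗ a} = G_1^{⊗ a_1} ⊗ ⋯ ⊗ G_p^{⊗ a_p}. -/
theorem result (k : Type u) [Field k] [IsAlgClosed k] (X : Scheme.{u}) [X.Over (Spec (CommRingCat.of k))]
    [IsProper (X ↘ Spec (CommRingCat.of k))] :
    ∃ (p : ℕ) (G : Fin p → X.Modules), (∀ j, PicF.IsInvertible (G j)) ∧
      ∀ L : X.Modules, PicF.IsInvertible L → ∃ (a b : Fin p → ℕ) (M : X.Modules), PicF.IsInvertible M ∧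
        Pic13.IsAlgEquivZero k X M ∧ Nonempty (CohB1.tensorMod L (FGA.multiTwist G b) ≅ CohB1.tensorMod (FGA.multiTwist G a) M) := by
  exact PicProp.exists_ns_gens k X

end Groth.Agent.S4282
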