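import Groth.Statements.S4284
import Groth.Agent.PicProp.Rank
-- import your own Groth.Agent.* helpers here

set_option autoImplicit false
set_option backward.isDefEq.respectTransparency false
universe u
open CategoryTheory CategoryTheory.Limits AlgebraicGeometry
open Pic13

namespace Groth.Agent.S4284

/-- Let k be an algebraically closed field and X a proper k-scheme. There are finitely many integral
closed curves Y_1, …, Y_p in X (integral closed subschemes of Krull dimension 1) such that a family
of invertible O_X-modules is bounded if and only if the degrees of the pullbacks of its members to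
Y_1, …, Y_p are bounded. (The published statement is phrased in terms of quasi-compact subsets of
the Picard scheme, translated here into bounded families, and adds that p can be taken to be the
rank of the Néron–Severi group.) -/
theorem result (k : Type u) [Field k] [IsAlgClosed k] (X : Scheme.{u}) [X.Over (Spec (CommRingCat.of k))]
    [IsProper (X ↘ Spec (CommRingCat.of k))] :
    ∃ (p : ℕ) (Y : Fin p → Scheme.{u}) (ι : ∀ j, Y j ⟶ X),
      (∀ j, IsClosedImmersion (ι j) ∧ IsIntegral (Y j) ∧ topologicalKrullDim (Y j) = 1) ∧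
      ∀ P : X.Modules → Prop, (∀ L, P L → PicF.IsInvertible L) →
        (Pic13.IsBounded k X P ↔ ∃ B : ℤ, ∀ L, P L → ∀ j,
          |Pic13.curveDeg k (ι j ≫ (X ↘ Spec (CommRingCat.of k))) ((Scheme.Modules.pullback (ι j)).obj L)| ≤ B) := by
  classical
  obtain ⟨s, hs⟩ := PicProp.exists_curves k X
  let e := s.equivFin.symm
  refine ⟨s.card, fun j => (Scheme.IdealSheafData.vanishingIdeal (Devissage.Zc (e j).1.1)).subscheme,
    fun j => Devissage.Zi (e j).1.1, fun j => ⟨inferInstance, Devissage.Zi_isIntegral _, ?_⟩, fun P hP => ?_⟩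
  · rw [IsHomeomorph.topologicalKrullDim_eq _
      (Devissage.Zi (e j).1.1).isClosedEmbedding.isEmbedding.toHomeomorph.isHomeomorph,
      show Set.range (Devissage.Zi (e j).1.1).base = closure ({(e j).1.1} : Set X) from Devissage.range_Zi _,
      (e j).1.2, Nat.cast_one]
  · constructor
    · intro hb
      obtain ⟨q, A, -, hcov⟩ := PicProp.exists_num_reps k (X := X) (P := P) hP hb
      refine ⟨((Finset.univ.sup fun i : Fin q × Fin s.card =>
        (PicProp.deg1 k (A i.1) (e i.2).1).natAbs : ℕ) : ℤ), fun L hL j => ?_⟩
      obtain ⟨i, hi⟩ := hcov L hL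
      rw [PicProp.curveDeg_eq_deg1 k (hP L hL) (e j).1, PicProp.deg1_eq_of_numEq k hi, Int.abs_eq_natAbs]
      exact_mod_cast Finset.le_sup (f := fun i : Fin q × Fin s.card => (PicProp.deg1 k (A i.1) (e i.2).1).natAbs)
        (Finset.mem_univ (i, j))
    · rintro ⟨B, hB⟩
      refine PicProp.isBounded_of_classes k P hP (κ := Fin s.card → ↥(Finset.Icc (-B) B))
        (fun L v => ∀ j, PicProp.deg1 k L (e j).1 = (v j).1) (fun L hL => ?_) fun L L' v hL hL' hv hv' => ?_
      · refine ⟨fun j => ⟨PicProp.deg1 k L (e j).1, Finset.mem_Icc.2 (abs_le.1 ?_)⟩, fun j => rfl⟩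
        rw [← PicProp.curveDeg_eq_deg1 k (hP L hL) (e j).1]
        exact hB L hL j
      · refine PicProp.numEq_of_deg1 k (hs L L' (hP L hL) (hP L' hL') fun ξ hξ => ?_)
        have h1 := hv (e.symm ⟨ξ, hξ⟩)
        have h2 := hv' (e.symm ⟨ξ, hξ⟩)
        rw [e.apply_symm_apply] at h1 h2
        exact h1.trans h2.symm

end Groth.Agent.S4284
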