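import Groth.Statements.S4290
import Groth.Agent.GenMember.Apps

set_option autoImplicit false
universe u
open CategoryTheory CategoryTheory.Limits AlgebraicGeometry
open Pic13

namespace Groth.Agent.S4290

/-- Let k be an algebraically closed field, X an irreducible proper k-scheme of dimension r = s + 2 ≥ 2
carrying an ample invertible module H, and L an invertible module with (c₁(L)·c₁(H)^{r-1}) = 0 and
(c₁(L)²·c₁(H)^{r-2}) ≥ 0. Then L is numerically equivalent to zero. Intersection numbers are those
of FGA.intNum, which takes inverses H', L' of H, L as arguments. -/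
theorem result (k : Type u) [Field k] [IsAlgClosed k] (X : Scheme.{u}) [X.Over (Spec (CommRingCat.of k))]
    [IsProper (X ↘ Spec (CommRingCat.of k))] [IrreducibleSpace X] (s : ℕ) (hdim : topologicalKrullDim X = (s + 2 : ℕ))
    (H H' L L' : X.Modules) (hH : CohB1.IsAmple H) (hL : PicF.IsInvertible L)
    (hHH' : Nonempty (CohB1.tensorMod H H' ≅ Coh.structureModule X)) (hLL' : Nonempty (CohB1.tensorMod L L' ≅ Coh.structureModule X))
    (horth : FGA.intNum k X (s + 2) (Matrix.vecCons L' (fun _ : Fin (s + 1) => H')) (Coh.structureModule X) = 0)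
    (hsq : 0 ≤ FGA.intNum k X (s + 2) (Matrix.vecCons L' (Matrix.vecCons L' (fun _ : Fin s => H'))) (Coh.structureModule X)) :
    Pic13.IsNumEquivZero k X L := by
  have h0 := fun (M M' : Fin (s + 2) → X.Modules) (hM : ∀ i, PicF.IsInvertible (M i))
    (hMM' : ∀ i, Nonempty (CohB1.tensorMod (M i) (M' i) ≅ Coh.structureModule X)) =>
    Groth.Agent.GenMember.intNum_vec_eq (k := k) hdim.le hM hMM'
  have h1 := h0 (Matrix.vecCons L (fun _ : Fin (s + 1) => H)) (Matrix.vecCons L' (fun _ : Fin (s + 1) => H'))
    (fun i => by refine Fin.cases ?_ (fun j => ?_) i <;> first | exact hL | exact hH.1)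
    (fun i => by refine Fin.cases ?_ (fun j => ?_) i <;> first | exact hLL' | exact hHH')
  have h2 := h0 (Matrix.vecCons L (Matrix.vecCons L (fun _ : Fin s => H)))
    (Matrix.vecCons L' (Matrix.vecCons L' (fun _ : Fin s => H')))
    (fun i => by refine Fin.cases ?_ (fun j => Fin.cases ?_ (fun l => ?_) j) i <;> first | exact hL | exact hH.1)
    (fun i => by refine Fin.cases ?_ (fun j => Fin.cases ?_ (fun l => ?_) j) i <;> first | exact hLL' | exact hHH')
  have hsq' := Int.cast_nonneg (R := ℚ) hsq
  rw [horth] at h1
  rw [h2] at hsq'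
  simp [List.ofFn_succ, List.ofFn_const, List.replicate_succ] at h1 hsq'
  haveI := Groth.Agent.CurveRR.isNoetherian_of_proper k X
  refine Groth.Agent.Nakai.isNumEquivZero_of_degFlat k hL (Groth.Agent.GenMember.degFlat_of_curves hL fun ξ hξ =>
    Groth.Agent.GenMember.deg_eq_zero_of_irreducible hdim hH hL ?_ ?_ hξ)
  · simpa [List.replicate_succ] using h1
  · simpa [pow_add, List.replicate_succ] using hsq'

end Groth.Agent.S4290
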