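import Groth.Statements.S4291
import Groth.Agent.PicProp.Classes
-- import your own Groth.Agent.* helpers here

set_option autoImplicit false
set_option backward.isDefEq.respectTransparency false
universe u
open CategoryTheory CategoryTheory.Limits AlgebraicGeometry
open Pic13

namespace Groth.Agent.S4291

/-- Let k be an algebraically closed field, f : X ⟶ Y a surjective k-morphism of proper k-schemes, and P
a bounded family of O_X-modules. Then the family of invertible O_Y-modules M whose pullback f^*M is
isomorphic to a member of P is bounded. -/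
theorem result (k : Type u) [Field k] [IsAlgClosed k] (X Y : Scheme.{u})
    [X.Over (Spec (CommRingCat.of k))] [Y.Over (Spec (CommRingCat.of k))]
    [IsProper (X ↘ Spec (CommRingCat.of k))] [IsProper (Y ↘ Spec (CommRingCat.of k))]
    (f : X ⟶ Y) (hf : f ≫ (Y ↘ Spec (CommRingCat.of k)) = X ↘ Spec (CommRingCat.of k)) [Surjective f]
    (P : X.Modules → Prop) (hP : Pic13.IsBounded k X P) :
    Pic13.IsBounded k Y (fun M : Y.Modules => PicF.IsInvertible M ∧ ∃ L : X.Modules, P L ∧ Nonempty ((Scheme.Modules.pullback f).obj M ≅ L)) := by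
  classical
  haveI : IsProper (f ≫ (Y ↘ Spec (CommRingCat.of k))) := hf.symm ▸ inferInstance
  haveI : IsProper f := IsProper.of_comp f (Y ↘ Spec (CommRingCat.of k))
  obtain ⟨q, A, -, hcov⟩ := PicProp.exists_num_reps k (X := X) (P := fun L => P L ∧ PicF.IsInvertible L)
    (fun L hL => hL.2) (PicBdd.isBounded_mono k hP fun L hL => hL.1)
  refine PicProp.isBounded_of_classes k _ (fun M hM => hM.1)
    (fun M j => Intersect.NumEq k ((Scheme.Modules.pullback f).obj M) (A j)) ?_ fun M M' j hM hM' hj hj' =>
      Nakai.numEq_of_pullback k f hf hM.1 hM'.1 fun ξ hξ => (hj ξ hξ).trans (hj' ξ hξ).symm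
  rintro M ⟨hM, L, hL, ⟨e⟩⟩
  obtain ⟨j, hj⟩ := hcov L ⟨hL, PicBdd.isInvertible_iso e (PicLoc.isInvertible_pullback f hM)⟩
  exact ⟨j, fun ξ hξ => (CurveRR.euler_eq_of_iso (PicGrp.tensorModIso (Iso.refl _) e)).trans (hj ξ hξ)⟩

end Groth.Agent.S4291
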