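import Groth.Statements.S4292
import Groth.Agent.PicProp.Classes
-- import your own Groth.Agent.* helpers here

set_option autoImplicit false
set_option backward.isDefEq.respectTransparency false
universe u
open CategoryTheory CategoryTheory.Limits AlgebraicGeometry
open Pic13

namespace Groth.Agent.S4292

/-- The n-th power map on the Picard functor is of finite type: over S = Spec k with k algebraically
closed and for n > 0: let X be a proper k-scheme and P a bounded family of O_X-modules. Then the
family of invertible O_X-modules M such that M^{⊗ n} is isomorphic to a member of P is bounded. (The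
source allows every integer n ≠ 0.) -/
theorem result (k : Type u) [Field k] [IsAlgClosed k] (X : Scheme.{u}) [X.Over (Spec (CommRingCat.of k))]
    [IsProper (X ↘ Spec (CommRingCat.of k))] (n : ℕ) (hn : 0 < n)
    (P : X.Modules → Prop) (hP : Pic13.IsBounded k X P) :
    Pic13.IsBounded k X (fun M : X.Modules => PicF.IsInvertible M ∧ ∃ L : X.Modules, P L ∧ Nonempty (CohB1.tensorPow M n ≅ L)) := by
  classical
  obtain ⟨q, A, -, hcov⟩ := PicProp.exists_num_reps k (X := X) (P := fun L => P L ∧ PicF.IsInvertible L)
    (fun L hL => hL.2) (PicBdd.isBounded_mono k hP fun L hL => hL.1)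
  refine PicProp.isBounded_of_classes k _ (fun M hM => hM.1)
    (fun M j => Intersect.NumEq k (CohB1.tensorPow M n) (A j)) ?_ fun M M' j hM hM' hj hj' =>
      PicProp.numEq_of_pow k hM.1 hM'.1 hn fun ξ hξ => (hj ξ hξ).trans (hj' ξ hξ).symm
  rintro M ⟨hM, L, hL, ⟨e⟩⟩
  obtain ⟨j, hj⟩ := hcov L ⟨hL, PicBdd.isInvertible_iso e (TMul.isInvertible_tensorPow hM n)⟩
  exact ⟨j, fun ξ hξ => (CurveRR.euler_eq_of_iso (PicGrp.tensorModIso (Iso.refl _) e)).trans (hj ξ hξ)⟩

end Groth.Agent.S4292
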