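import Groth.Statements.S4293
import Groth.Agent.PicFin.Restrict
import Groth.Agent.PicBdd.Reps

set_option autoImplicit false
set_option backward.isDefEq.respectTransparency false
universe u
open CategoryTheory CategoryTheory.Limits AlgebraicGeometry
open Pic13

namespace Groth.Agent.S4293

open Groth.Agent.PicFin Groth.Agent.Intersect Groth.Agent.Nakai
attribute [local instance] Groth.Agent.Nakai.clMonoid

/-- First assertion: over S = Spec k with k algebraically closed: let Y be a proper k-scheme with an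
ample invertible module H, φ a global section of H, and i : X ⟶ Y the inclusion of the zero scheme
of φ. Assume that for every irreducible component Z of Y, every irreducible component of Z ∩ X has
dimension ≥ 2. Then for every bounded family P of O_X-modules, the family of invertible O_Y-modules
whose restriction to X is isomorphic to a member of P is bounded. -/
theorem result (k : Type u) [Field k] [IsAlgClosed k] (Y : Scheme.{u}) [Y.Over (Spec (CommRingCat.of k))]
    [IsProper (Y ↘ Spec (CommRingCat.of k))] (H : Y.Modules) (hH : CohB1.IsAmple H) (φ : Coh.structureModule Y ⟶ H)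
    (hdim : ∀ Z ∈ irreducibleComponents (Y : Type u),
      ∀ W ∈ irreducibleComponents ↥(Z ∩ Set.range (PicF2.zeroScheme H φ).subschemeι.base), 2 ≤ topologicalKrullDim ↥W)
    (P : ((PicF2.zeroScheme H φ).subscheme).Modules → Prop)
    (hP : @Pic13.IsBounded k _ (PicF2.zeroScheme H φ).subscheme ⟨(PicF2.zeroScheme H φ).subschemeι ≫ (Y ↘ Spec (CommRingCat.of k))⟩ P) :
    Pic13.IsBounded k Y (fun M : Y.Modules => PicF.IsInvertible M ∧
      ∃ L, P L ∧ Nonempty ((Scheme.Modules.pullback (PicF2.zeroScheme H φ).subschemeι).obj M ≅ L)) := by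
  classical
  let I := PicF2.zeroScheme H φ
  letI : I.subscheme.Over (Spec (CommRingCat.of k)) := ⟨I.subschemeι ≫ (Y ↘ Spec (CommRingCat.of k))⟩
  haveI : IsProper (I.subscheme ↘ Spec (CommRingCat.of k)) := inferInstanceAs (IsProper (_ ≫ _))
  let r := fun M : Y.Modules => (Scheme.Modules.pullback I.subschemeι).obj M
  obtain ⟨q, A, hA, hq⟩ := PicBdd.exists_reps k (fun L => P L ∧ PicF.IsInvertible L) (fun L h => h.2)
    (PicBdd.isBounded_mono k hP fun L h => h.1)
  let Q := fun M : Y.Modules => PicF.IsInvertible M ∧ ∃ L, P L ∧ Nonempty (r M ≅ L)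
  have hM : ∀ M, Q M → ∃ (j : Fin q) (N : I.subscheme.Modules), PicF.IsInvertible N ∧ Flat k N ∧
      PicF.cl (r M) = PicF.cl (A j) * PicF.cl N := fun M hM => by
    obtain ⟨hMi, L, hPL, ⟨e⟩⟩ := hM
    have hLi : PicF.IsInvertible L := fun x => by
      obtain ⟨U, hx, ⟨ψ⟩⟩ := PicLoc.isInvertible_pullback I.subschemeι hMi x
      exact ⟨U, hx, ⟨((Scheme.Modules.restrictFunctor U.ι).mapIso e).symm ≪≫ ψ⟩⟩
    obtain ⟨j, N, hN, ha, ⟨e'⟩⟩ := hq L ⟨hPL, hLi⟩
    exact ⟨j, N, hN, fun F hF => euler_algEquivZero k ha hF, by rw [(PicGrp.cl_eq_cl_iff _ _).2 ⟨e ≪≫ e'⟩, cl_tensor]⟩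
  let κ := {j : Fin q // ∃ M, Q M ∧ ∃ N : I.subscheme.Modules, PicF.IsInvertible N ∧ Flat k N ∧
      PicF.cl (r M) = PicF.cl (A j) * PicF.cl N}
  choose M₀ hM₀ N₀ hN₀ hF₀ hc₀ using fun j : κ => j.2
  refine isBounded_of_numFin hH (fun M h => h.1) ⟨Nat.card κ, fun j => M₀ ((Finite.equivFin κ).symm j),
    fun j => hM₀ _, fun M h => ?_⟩
  obtain ⟨j, N, hN, hF, hc⟩ := hM M h
  let j' : κ := ⟨j, M, h, N, hN, hF, hc⟩
  obtain ⟨B, hB, hBB⟩ := W7Hull.exists_tensor_inverse (hM₀ j').1
  have hD := TMul.isInvertible_tensorMod h.1 hB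
  have hcl : PicF.cl (r (CohB1.tensorMod M B)) * PicF.cl (N₀ j') = PicF.cl N := by
    obtain ⟨A', hA', hAA⟩ := W7Hull.exists_tensor_inverse (hA j)
    have h1 : PicF.cl (r (CohB1.tensorMod M B)) * PicF.cl (r (M₀ j')) = PicF.cl (r M) := by
      rw [← cl_pull_tensor I.subschemeι, cl_pull_congr I.subschemeι (show PicF.cl (CohB1.tensorMod (CohB1.tensorMod M B) (M₀ j')) =
        PicF.cl M by rw [cl_tensor, cl_tensor, mul_assoc, mul_comm (PicF.cl B), cl_inv hBB, mul_one])]
    rw [hc₀ j', hc] at h1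
    calc _ = PicF.cl (r (CohB1.tensorMod M B)) * (PicF.cl (A j) * PicF.cl (N₀ j')) * PicF.cl A' := by
          rw [mul_assoc, mul_assoc (PicF.cl (A j)), mul_comm (PicF.cl (N₀ j')) (PicF.cl A'),
            ← mul_assoc (PicF.cl (A j)), cl_inv hAA, one_mul]
      _ = _ := by rw [h1, mul_right_comm, cl_inv hAA, one_mul]
  have hfl : Flat k (r (CohB1.tensorMod M B)) := fun F hFc => by
    rw [← hF₀ j' _ (Intersect.isCoh_twist k hFc (PicLoc.isInvertible_pullback _ hD)),
      euler_congr k (show PicF.cl (CohB1.tensorMod (CohB1.tensorMod F (r (CohB1.tensorMod M B))) (N₀ j')) =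
        PicF.cl (CohB1.tensorMod F N) by rw [cl_tensor, cl_tensor, cl_tensor, mul_assoc, hcl])]
    exact hF F hFc
  refine ⟨Finite.equivFin κ j', CohB1.tensorMod M B, hD,
    flat_of_degFlat hH hD (degFlat_of_restrict hH φ hdim hD hfl), ?_⟩
  simp only [Equiv.symm_apply_apply]
  rw [cl_tensor, mul_left_comm, cl_inv hBB, mul_one]

end Groth.Agent.S4293
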