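import Groth.Statements.S4301
import Groth.Agent.PicFin.TauLocus
-- import your own Groth.Agent.* helpers here

set_option autoImplicit false
set_option backward.isDefEq.respectTransparency false
universe u
open CategoryTheory CategoryTheory.Limits AlgebraicGeometry
open Pic13

namespace Groth.Agent.S4301

/-- Let S be a Noetherian scheme, i : X ⟶ P^n_S a closed immersion with f : X ⟶ S the composite with the
projection, f flat with integral geometric fibres, and L an invertible O_X-module. Then the set of
points s of S such that L is τ-equivalent to zero on the geometric fibre at s is closed (it is also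
open, but only closedness is asserted here). (The published statement is that Pic^τ_{X/S} ⟶
Pic_{X/S} is representable by an open and closed immersion; this is the form reached in its proof.) -/
theorem result {X S : Scheme.{u}} [IsNoetherian S] (n : ℕ)
    (i : X ⟶ CohB1.ProjSpaceOver n S) [IsClosedImmersion i] [Flat (i ≫ CohB1.ProjSpaceOver.toBase n S)]
    (hint : ∀ (Ω : Type u) [Field Ω] [IsAlgClosed Ω] (σ : Spec (CommRingCat.of Ω) ⟶ S), IsIntegral (pullback (i ≫ CohB1.ProjSpaceOver.toBase n S) σ))
    (L : X.Modules) (hL : PicF.IsInvertible L) :
    IsClosed {s : S | Pic13.IsTauTrivialAt (i ≫ CohB1.ProjSpaceOver.toBase n S) L s} := by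
  haveI : IsProper (CohB1.ProjSpaceOver.toBase n S) := by
    haveI := ProjMor.isProper_toSpec n (ULift.{u} ℤ)
    exact inferInstanceAs (IsProper (pullback.snd _ _))
  haveI : IsProper (i ≫ CohB1.ProjSpaceOver.toBase n S) := inferInstance
  exact PicFin.isClosed_tauLocus (i ≫ CohB1.ProjSpaceOver.toBase n S) n i rfl hint hL

end Groth.Agent.S4301
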