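import Groth.Statements.S4303
import Groth.Agent.PicBdd.Reps

set_option autoImplicit false
universe u
open CategoryTheory CategoryTheory.Limits AlgebraicGeometry
open Pic13

namespace Groth.Agent.S4303

/-- (i) implies (iii), over S = Spec k with k algebraically closed: let X be a proper integral k-scheme
of dimension r = s + 2 ≥ 2 carrying an ample invertible module H with inverse H', and P a family of
invertible O_X-modules. Condition (iii): as L runs through P (with inverse L'), the degree
(c₁(L)·c₁(H)^{r-1}) stays bounded and (c₁(L)²·c₁(H)^{r-2}) stays bounded below; condition (i): P is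
bounded. Intersection numbers are those of FGA.intNum, taking the inverse modules as arguments. -/
theorem result (k : Type u) [Field k] [IsAlgClosed k] (X : Scheme.{u})
    [X.Over (Spec (CommRingCat.of k))] [IsProper (X ↘ Spec (CommRingCat.of k))] [IsIntegral X] (s : ℕ)
    (hdim : topologicalKrullDim X = (s + 2 : ℕ)) (H H' : X.Modules) (hH : CohB1.IsAmple H)
    (hHH' : Nonempty (CohB1.tensorMod H H' ≅ Coh.structureModule X))
    (P : X.Modules → Prop) (hP : ∀ L, P L → PicF.IsInvertible L)
    (hb : Pic13.IsBounded k X P) :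
    ∃ B : ℤ, ∀ L L' : X.Modules, P L → Nonempty (CohB1.tensorMod L L' ≅ Coh.structureModule X) →
      |FGA.intNum k X (s + 2) (Matrix.vecCons L' (fun _ : Fin (s + 1) => H')) (Coh.structureModule X)| ≤ B ∧
      -B ≤ FGA.intNum k X (s + 2) (Matrix.vecCons L' (Matrix.vecCons L' (fun _ : Fin s => H'))) (Coh.structureModule X) := by
  have hH' := Groth.Agent.Nakai.isInvertible_inverse hH.1 hHH'
  obtain ⟨B₁, hB₁⟩ := Groth.Agent.PicBdd.intNum_bounded k (s + 2) hdim.le P hP hb hdim.le
    (fun A => Matrix.vecCons A (fun _ : Fin (s + 1) => H'))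
    (fun A hA i => Fin.cases hA (fun _ => hH') i)
    (fun A A' _ _ h i => Fin.cases h (fun _ ξ _ => rfl) i)
  obtain ⟨B₂, hB₂⟩ := Groth.Agent.PicBdd.intNum_bounded k (s + 2) hdim.le P hP hb hdim.le
    (fun A => Matrix.vecCons A (Matrix.vecCons A (fun _ : Fin s => H')))
    (fun A hA i => Fin.cases hA (fun j => Fin.cases hA (fun _ => hH') j) i)
    (fun A A' _ _ h i => Fin.cases h (fun j => Fin.cases h (fun _ ξ _ => rfl) j) i)
  refine ⟨max B₁ B₂, fun L L' hL hLL' => ⟨(hB₁ L L' hL hLL').trans (le_max_left _ _), ?_⟩⟩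
  have := (abs_le.1 (hB₂ L L' hL hLL')).1
  linarith [le_max_right B₁ B₂]

end Groth.Agent.S4303
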