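import Groth.Statements.S4304
import Groth.Agent.PicFin.Assemble
-- import your own Groth.Agent.* helpers here

set_option autoImplicit false
set_option backward.isDefEq.respectTransparency false
universe u
open CategoryTheory CategoryTheory.Limits AlgebraicGeometry
open Pic13

namespace Groth.Agent.S4304

/-- (iii) implies (i), over S = Spec k with k algebraically closed: let X be a proper integral k-scheme
of dimension r = s + 2 ≥ 2 carrying an ample invertible module H with inverse H', and P a family of
invertible O_X-modules. Condition (iii): as L runs through P (with inverse L'), the degree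
(c₁(L)·c₁(H)^{r-1}) stays bounded and (c₁(L)²·c₁(H)^{r-2}) stays bounded below; condition (i): P is
bounded. Intersection numbers are those of FGA.intNum, taking the inverse modules as arguments. -/
theorem result (k : Type u) [Field k] [IsAlgClosed k] (X : Scheme.{u})
    [X.Over (Spec (CommRingCat.of k))] [IsProper (X ↘ Spec (CommRingCat.of k))] [IsIntegral X] (s : ℕ)
    (hdim : topologicalKrullDim X = (s + 2 : ℕ)) (H H' : X.Modules) (hH : CohB1.IsAmple H)
    (hHH' : Nonempty (CohB1.tensorMod H H' ≅ Coh.structureModule X))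
    (P : X.Modules → Prop) (hP : ∀ L, P L → PicF.IsInvertible L)
    (hiii : ∃ B : ℤ, ∀ L L' : X.Modules, P L → Nonempty (CohB1.tensorMod L L' ≅ Coh.structureModule X) →
      |FGA.intNum k X (s + 2) (Matrix.vecCons L' (fun _ : Fin (s + 1) => H')) (Coh.structureModule X)| ≤ B ∧
      -B ≤ FGA.intNum k X (s + 2) (Matrix.vecCons L' (Matrix.vecCons L' (fun _ : Fin s => H'))) (Coh.structureModule X)) :
    Pic13.IsBounded k X P := by
  obtain ⟨B, hB⟩ := hiii
  refine PicFin.isBounded_of_sq hdim hH hP (B := (B : ℚ)) fun L hL => ?_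
  obtain ⟨L', hL', hLL'⟩ := W7Hull.exists_tensor_inverse (hP L hL)
  obtain ⟨h1, h2⟩ := hB L L' hL hLL'
  have hLi := hP L hL
  have e1 := GenMember.intNum_vec_eq (k := k) (r := s + 2) hdim.le
    (L := Matrix.vecCons L (fun _ : Fin (s + 1) => H)) (M := Matrix.vecCons L' (fun _ : Fin (s + 1) => H'))
    (fun i => by refine Fin.cases ?_ (fun j => ?_) i <;> simp [hLi, hH.1])
    (fun i => by refine Fin.cases ?_ (fun j => ?_) i <;> simp [hLL', hHH'])
  have e2 := GenMember.intNum_vec_eq (k := k) (r := s + 2) hdim.le
    (L := Matrix.vecCons L (Matrix.vecCons L (fun _ : Fin s => H))) (M := Matrix.vecCons L' (Matrix.vecCons L' (fun _ : Fin s => H')))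
    (fun i => by
      refine Fin.cases ?_ (fun j => ?_) i
      · simp [hLi]
      · refine Fin.cases ?_ (fun l => ?_) j <;> simp [hLi, hH.1])
    (fun i => by
      refine Fin.cases ?_ (fun j => ?_) i
      · simp [hLL']
      · refine Fin.cases ?_ (fun l => ?_) j <;> simp [hLL', hHH'])
  have l1 : List.ofFn (Matrix.vecCons L (fun _ : Fin (s + 1) => H)) = L :: List.replicate (s + 1) H := by
    rw [List.ofFn_succ]
    simp [List.ofFn_const, List.replicate_succ]
  have l2 : List.ofFn (Matrix.vecCons L (Matrix.vecCons L (fun _ : Fin s => H))) = L :: L :: List.replicate s H := by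
    rw [List.ofFn_succ, List.ofFn_succ]
    simp [List.ofFn_const]
  rw [l1] at e1
  rw [l2, pow_add, neg_one_sq, mul_one] at e2
  refine ⟨?_, ?_⟩
  · have : |(FGA.intNum k X (s + 2) (Matrix.vecCons L' (fun _ : Fin (s + 1) => H')) (Coh.structureModule X) : ℚ)| ≤ (B : ℚ) := by
      exact_mod_cast h1
    rwa [e1, abs_mul, abs_pow, abs_neg, abs_one, one_pow, one_mul] at this
  · rw [← e2]
    exact_mod_cast h2

end Groth.Agent.S4304
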