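import Groth.Statements.S4305
import Groth.Agent.Nakai.AlgEquiv

set_option autoImplicit false
universe u
open CategoryTheory CategoryTheory.Limits AlgebraicGeometry
open Pic13

namespace Groth.Agent.S4305

/-- Let k be an algebraically closed field, X an irreducible proper k-scheme of dimension ≤ d carrying
an ample invertible module H with inverse H', and L an invertible module with inverse L'. Condition
(v): χ(L^{⊗ m} ⊗ H^{⊗ n}) = χ(H^{⊗ n}) for all integers m, n — written with natural exponents on L,
L', H, H' to cover all signs, Euler characteristics in degrees ≤ d; condition (i): L is τ-equivalent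
to zero. -/
theorem result (k : Type u) [Field k] [IsAlgClosed k] (X : Scheme.{u})
    [X.Over (Spec (CommRingCat.of k))] [IsProper (X ↘ Spec (CommRingCat.of k))] [IrreducibleSpace X]
    (d : ℕ) (hd : topologicalKrullDim X ≤ d) (H H' L L' : X.Modules) (hH : CohB1.IsAmple H) (hL : PicF.IsInvertible L)
    (hHH' : Nonempty (CohB1.tensorMod H H' ≅ Coh.structureModule X)) (hLL' : Nonempty (CohB1.tensorMod L L' ≅ Coh.structureModule X))
    (hτ : Pic13.IsTauEquivZero k X L) :
    ∀ m n : ℕ,
      FGA.eulerCharLE k X (CohB1.tensorMod (CohB1.tensorPow L m) (CohB1.tensorPow H n)) d = FGA.eulerCharLE k X (CohB1.tensorPow H n) d ∧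
      FGA.eulerCharLE k X (CohB1.tensorMod (CohB1.tensorPow L m) (CohB1.tensorPow H' n)) d = FGA.eulerCharLE k X (CohB1.tensorPow H' n) d ∧
      FGA.eulerCharLE k X (CohB1.tensorMod (CohB1.tensorPow L' m) (CohB1.tensorPow H n)) d = FGA.eulerCharLE k X (CohB1.tensorPow H n) d ∧
      FGA.eulerCharLE k X (CohB1.tensorMod (CohB1.tensorPow L' m) (CohB1.tensorPow H' n)) d = FGA.eulerCharLE k X (CohB1.tensorPow H' n) d := by
  intro m n
  simp only [Groth.Agent.Intersect.eulerCharLE_eq k d hd]
  have hf := Groth.Agent.Nakai.degFlat_of_tau k hL hτ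
  have hL' := Groth.Agent.Nakai.isInvertible_inverse hL hLL'
  have hH' := Groth.Agent.Nakai.isInvertible_inverse hH.1 hHH'
  have h1 : Coh.IsCoh (CohB1.tensorPow H n) := Groth.Agent.CurveRR.isCoh_of_inv (TMul.isInvertible_tensorPow hH.1 n)
  have h2 : Coh.IsCoh (CohB1.tensorPow H' n) := Groth.Agent.CurveRR.isCoh_of_inv (TMul.isInvertible_tensorPow hH' n)
  exact ⟨Groth.Agent.Nakai.euler_pow_flat k hH hL hf h1 m, Groth.Agent.Nakai.euler_pow_flat k hH hL hf h2 m,
    Groth.Agent.Nakai.euler_pow_flat k hH hL' (hf.inverse k hL' hLL') h1 m,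
    Groth.Agent.Nakai.euler_pow_flat k hH hL' (hf.inverse k hL' hLL') h2 m⟩

end Groth.Agent.S4305
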