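import Groth.Statements.S4323
import Groth.Agent.AnGerm.Map

set_option autoImplicit false
open CategoryTheory AlgebraicGeometry Topology TopologicalSpace
open An

namespace Groth.Agent.S4323

/-- Let X and Y be reduced schemes locally of finite type over ℂ and f : X → Y a morphism over ℂ. Then f
is unramified (encoded as formally unramified, f being locally of finite type automatically) if and
only if f^an is, i.e. if and only if for every ℂ-point x of X and every maximal ideal m of
O_{X^an,x}, m is generated by the image of a maximal ideal of O_{Y^an,f(x)} under the stalk map of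
f^an (these stalks being local rings, this says m_{f(x)} O_{X^an,x} = m_x). -/
theorem result (X Y : Scheme.{0}) [X.Over An.SC] [Y.Over An.SC] [LocallyOfFiniteType (X ↘ An.SC)]
    [LocallyOfFiniteType (Y ↘ An.SC)] [IsReduced X] [IsReduced Y] (f : X ⟶ Y) [f.IsOver An.SC] :
    FormallyUnramified f ↔ ∀ (x : An.Pts X) (m : Ideal ((An.anSpace X).presheaf.stalk x)), m.IsMaximal →
      ∃ m' : Ideal ((An.anSpace Y).presheaf.stalk (An.Pts.map f x)), m'.IsMaximal ∧
        m'.map (PresheafedSpace.Hom.stalkMap (An.anMap f) x).hom = m := by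
  haveI := Groth.Agent.AnLib.locallyOfFiniteType_map f
  constructor
  · intro hf x m hm
    obtain rfl : m = IsLocalRing.maximalIdeal (Groth.Agent.AnGerm.St x) := IsLocalRing.eq_maximalIdeal hm
    refine ⟨IsLocalRing.maximalIdeal (Groth.Agent.AnGerm.St (An.Pts.map f x)), IsLocalRing.maximalIdeal.isMaximal _, ?_⟩
    exact (Groth.Agent.AnGerm.map_maximal_anStalk_iff f x).mpr (Groth.Agent.AnGerm.map_maximal_algStalk f x)
  · intro h
    refine Groth.Agent.AnGerm.formallyUnramified_of_pts f fun x => ?_
    obtain ⟨m', hm', he⟩ := h x (IsLocalRing.maximalIdeal (Groth.Agent.AnGerm.St x)) (IsLocalRing.maximalIdeal.isMaximal _)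
    obtain rfl : m' = IsLocalRing.maximalIdeal (Groth.Agent.AnGerm.St (An.Pts.map f x)) := IsLocalRing.eq_maximalIdeal hm'
    exact (Groth.Agent.AnGerm.map_maximal_anStalk_iff f x).mp he

end Groth.Agent.S4323
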