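import Groth.Statements.S4334
import Groth.Agent.EtPBC.CurveH2Proper
import Groth.Agent.SectRank.DimOfRelDim

set_option autoImplicit false
universe u
open CategoryTheory CategoryTheory.Limits AlgebraicGeometry Opposite
open EtSix
set_option backward.isDefEq.respectTransparency false
set_option backward.isDefEq.respectTransparency.types false
attribute [local instance 100000] EtCoh.H._proof_1 Groth.Agent.EtMV.hext
attribute [local instance 200000] Groth.Agent.EtMV.hextAb

namespace Groth.Agent.S4334

/-- The degree-two step in canonical form: let X be a smooth projective curve over an algebraically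
closed field k (here: X integral, with a proper morphism X -> Spec k that is smooth of relative
dimension 1), and n an integer that is nonzero in k, so that the n-th power map on G_m is an
epimorphism of sheaves on the small etale site (taken as the hypothesis h). Then the boundary map
H^1(X, G_m) -> H^2(X, μ_n) of the Kummer sequence is surjective, and its kernel is the image of
multiplication by n on H^1(X, G_m). -/
theorem result (k : Type u) [Field k] [IsAlgClosed k] {X : Scheme.{u}} [IsIntegral X]
    (f : X ⟶ Spec (CommRingCat.of k)) [IsProper f] [SmoothOfRelativeDimension 1 f]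
    (n : ℕ) (hn : (n : k) ≠ 0) (h : Epi (EtCoh.powMap X n)) :
    Function.Surjective (EtSix.kummerBoundary h 1) ∧
      (EtSix.kummerBoundary h 1).ker = (n • AddMonoidHom.id (EtCoh.H X (EtCoh.Gm X) 1)).range := by
  haveI : IsNoetherian X := Groth.Agent.EtPBC.isNoetherian_of_field f
  have hd : topologicalKrullDim X ≤ 1 :=
    (Groth.Agent.SectRank.topologicalKrullDim_of_smoothOfRelativeDimension f 1).le.trans (le_of_eq Nat.cast_one)
  have hS := EtSix.kummerShortExact h
  refine ⟨fun x => ?_, ?_⟩
  · have h1 : n • Abelian.Ext.comp x (Abelian.Ext.mk₀ (EtCoh.muι X n)) (add_zero (1 + 1)) = 0 := by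
      rw [← Groth.Agent.EtPBC.comp_mk₀_nsmul_id]
      show Abelian.Ext.comp (Abelian.Ext.comp x _ _) (Abelian.Ext.mk₀ (EtCoh.powMap X n)) (add_zero (1 + 1)) = 0
      rw [Abelian.Ext.comp_assoc_of_second_deg_zero, Abelian.Ext.mk₀_comp_mk₀,
        show EtCoh.muι X n ≫ EtCoh.powMap X n = 0 from kernel.condition _, Abelian.Ext.mk₀_zero,
        Abelian.Ext.comp_zero]
    have h2 := Groth.Agent.EtPBC.eq_zero_of_nsmul_H_Gm f hd (le_refl 2) n hn _ h1
    exact Abelian.Ext.covariant_sequence_exact₁ _ hS x h2 (n₀ := 1) rfl
  · ext a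
    refine ⟨fun ha => ?_, ?_⟩
    · obtain ⟨b, hb⟩ := Abelian.Ext.covariant_sequence_exact₃ _ hS a rfl ha
      exact ⟨b, ((Groth.Agent.EtPBC.comp_mk₀_nsmul_id b n).symm.trans hb)⟩
    · rintro ⟨b, rfl⟩
      show Abelian.Ext.comp (n • b) hS.extClass rfl = 0
      rw [← Groth.Agent.EtPBC.comp_mk₀_nsmul_id]
      show Abelian.Ext.comp (Abelian.Ext.comp b (Abelian.Ext.mk₀ (EtSix.kummerSC X n).g) (add_zero 1)) hS.extClass rfl = 0
      rw [Abelian.Ext.comp_assoc b _ _ (add_zero 1) (zero_add 1) (by omega)]
      erw [hS.comp_extClass]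
      simp only [Abelian.Ext.comp_zero]

end Groth.Agent.S4334
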