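import Groth.Statements.S4337
import Mathlib
import Groth.Agent.LinTopLib.Taut
-- import your own Groth.Agent.* helpers here

set_option autoImplicit false
universe u
open LinTop

namespace Groth.Agent.S4337

/-- Let A be an admissible ring, J an ideal of definition, and u : M -> N a homomorphism of A-modules
with N of finite type. Then u is surjective if and only if u tensored with A/J is surjective. -/
theorem result
    (A : Type u) [CommRing A] [UniformSpace A] [IsUniformAddGroup A] [IsTopologicalRing A]
    (hA : LinTop.IsAdmissible A) (J : Ideal A) (hJ : LinTop.IsIdealOfDefinition A J)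
    (M N : Type u) [AddCommGroup M] [Module A M] [AddCommGroup N] [Module A N] [Module.Finite A N]
    (u : M →ₗ[A] N) :
    Function.Surjective u ↔ Function.Surjective (u.rTensor (A ⧸ J)) := by
  obtain ⟨⟨hlin, -⟩, _, _⟩ := hA
  refine ⟨fun h => LinearMap.rTensor_surjective _ h, fun h => ?_⟩
  rw [← LinearMap.range_eq_top]
  refine top_le_iff.1 (Submodule.le_of_le_smul_of_le_jacobson_bot (I := J) Module.Finite.fg_top
    (Groth.Agent.LinTopLib.le_jacobson_bot fun x hx =>
      Groth.Agent.LinTopLib.isTopologicallyNilpotent_of_mem hJ hx) ?_)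
  intro y _
  obtain ⟨t, ht⟩ := h (y ⊗ₜ[A] (1 : A ⧸ J))
  have hform : ∀ t : TensorProduct A M (A ⧸ J), ∃ m : M, m ⊗ₜ[A] (1 : A ⧸ J) = t := by
    intro t
    induction t using TensorProduct.induction_on with
    | zero => exact ⟨0, TensorProduct.zero_tmul _ _⟩
    | tmul m c =>
      obtain ⟨c, rfl⟩ := Ideal.Quotient.mk_surjective c
      refine ⟨c • m, ?_⟩
      rw [TensorProduct.smul_tmul, Algebra.smul_def, mul_one]
      rfl
    | add a b ha hb =>
      obtain ⟨m, rfl⟩ := ha
      obtain ⟨m', rfl⟩ := hb
      exact ⟨m + m', TensorProduct.add_tmul _ _ _⟩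
  obtain ⟨m, rfl⟩ := hform t
  rw [LinearMap.rTensor_tmul] at ht
  have h2 := congrArg (TensorProduct.tensorQuotEquivQuotSMul N J) ht
  rw [← map_one (Ideal.Quotient.mk J), TensorProduct.tensorQuotEquivQuotSMul_tmul_mk,
    TensorProduct.tensorQuotEquivQuotSMul_tmul_mk, one_smul, one_smul, Submodule.Quotient.eq] at h2
  exact Submodule.mem_sup.2 ⟨u m, LinearMap.mem_range_self u m, y - u m,
    by simpa using Submodule.neg_mem _ h2, add_sub_cancel _ _⟩

end Groth.Agent.S4337
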