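import Groth.Statements.S4343
import Groth.Agent.RatMap.Spread

set_option autoImplicit false
set_option backward.isDefEq.respectTransparency false
universe u
open RatMapD

namespace Groth.Agent.S4343

open AlgebraicGeometry in
open CategoryTheory in
/-- Let X, Y be S-schemes with X irreducible and Y locally of finite type over S. Two S-rational maps
from X to Y to which corresponds the same morphism Spec(O_x) -> Y, x the generic point of X, are
equal. (The published statement has Y of finite type over S; only local finite type is used. X is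
not assumed reduced.) -/
theorem result
    (S X Y : Scheme.{u}) [X.Over S] [Y.Over S] [IrreducibleSpace X]
    [LocallyOfFiniteType (Y ↘ S)] (f g : X ⤏ Y) [f.IsOver S] [g.IsOver S]
    (h : f.fromFunctionField = g.fromFunctionField) : f = g := by
  obtain ⟨f, hf, rfl⟩ := f.exists_partialMap_over S
  obtain ⟨g, hg, rfl⟩ := g.exists_partialMap_over S
  have hη : genericPoint X ∈ f.domain ⊓ g.domain :=
    ⟨(genericPoint_specializes _).mem_open f.domain.2 f.dense_domain.nonempty.choose_spec,
      (genericPoint_specializes _).mem_open g.domain.2 g.dense_domain.nonempty.choose_spec⟩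
  have hd : Dense ((f.domain ⊓ g.domain : X.Opens) : Set X) :=
    f.dense_domain.inter_of_isOpen_left g.dense_domain f.domain.2
  let W := f.domain ⊓ g.domain
  have hf' : ((f.restrict W hd inf_le_left).hom ≫ (Y ↘ S)) = W.ι ≫ (X ↘ S) := by
    show (X.homOfLE (inf_le_left : W ≤ f.domain) ≫ f.hom) ≫ (Y ↘ S) = W.ι ≫ (X ↘ S)
    rw [Category.assoc, show f.hom ≫ (Y ↘ S) = f.domain.ι ≫ (X ↘ S) from hf.comp_over,
      Scheme.homOfLE_ι_assoc]
  have hg' : ((g.restrict W hd inf_le_right).hom ≫ (Y ↘ S)) = W.ι ≫ (X ↘ S) := by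
    show (X.homOfLE (inf_le_right : W ≤ g.domain) ≫ g.hom) ≫ (Y ↘ S) = W.ι ≫ (X ↘ S)
    rw [Category.assoc, show g.hom ≫ (Y ↘ S) = g.domain.ι ≫ (X ↘ S) from hg.comp_over,
      Scheme.homOfLE_ι_assoc]
  have he : W.toScheme.fromSpecStalk ⟨_, hη⟩ ≫ (f.restrict W hd inf_le_left).hom =
      W.toScheme.fromSpecStalk ⟨_, hη⟩ ≫ (g.restrict W hd inf_le_right).hom := by
    have h' : (f.restrict W hd inf_le_left).fromSpecStalkOfMem (x := genericPoint X) hη =
        (g.restrict W hd inf_le_right).fromSpecStalkOfMem (x := genericPoint X) hη := by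
      rw [Scheme.PartialMap.fromSpecStalkOfMem_restrict,
        Scheme.PartialMap.fromSpecStalkOfMem_restrict]
      exact h
    change (W.fromSpecStalkOfMem (genericPoint X) hη) ≫ (f.restrict W hd inf_le_left).hom =
      (W.fromSpecStalkOfMem (genericPoint X) hη) ≫ (g.restrict W hd inf_le_right).hom at h'
    simp only [Scheme.Opens.fromSpecStalkOfMem, Category.assoc] at h'
    simpa only [Spec.map_inv, IsIso.eq_inv_comp, IsIso.hom_inv_id_assoc] using! h'
  obtain ⟨V, hxV, e⟩ := Groth.Agent.RatMap.spread_out_unique_of_locallyOfFiniteType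
    (W.ι ≫ (X ↘ S)) (Y ↘ S) _ _ hf' hg' he
  refine Scheme.PartialMap.toRationalMap_eq_iff.mpr ⟨W.ι ''ᵁ V,
    (W.ι ''ᵁ V).2.dense ⟨_, ⟨_, hxV, rfl⟩⟩,
    ((Set.image_subset_range _ _).trans_eq (Subtype.range_val)).trans inf_le_left,
    ((Set.image_subset_range _ _).trans_eq (Subtype.range_val)).trans inf_le_right, ?_⟩
  show X.homOfLE _ ≫ f.hom = X.homOfLE _ ≫ g.hom
  rw [← cancel_epi (Scheme.Hom.isoImage W.ι V).hom]
  simp only [Scheme.PartialMap.restrict_hom, ← Category.assoc] at e ⊢
  convert! e using 2 <;> rw [← cancel_mono (Scheme.Opens.ι _)] <;> simp [W]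

end Groth.Agent.S4343
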