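import Groth.Statements.S4344
-- import your own Groth.Agent.* helpers here

set_option autoImplicit false
universe u
open RatMapD

namespace Groth.Agent.S4344

open AlgebraicGeometry in
open CategoryTheory in
/-- Let X be a reduced S-scheme, Y an S-scheme separated over S and f an S-rational map from X to Y.
There is a representative g of f which is an S-morphism and of which every S-morphism representing f
is a restriction; in particular g is the unique S-morphism of the class of f defined on the largest
open where some S-representative is defined. (The published statement speaks of the domain of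
definition among all representatives; over a base that is not separated that domain can be larger
than the one on which an S-representative exists, and this row takes the latter.) -/
theorem result
    (S X Y : Scheme.{u}) [X.Over S] [Y.Over S] [IsReduced X] [IsSeparated (Y ↘ S)]
    (f : X ⤏ Y) [f.IsOver S] :
    ∃ g : X.PartialMap Y, g.IsOver S ∧ g.toRationalMap = f ∧
      ∀ h : X.PartialMap Y, h.IsOver S → h.toRationalMap = f →
        ∃ hle : h.domain ≤ g.domain, h = g.restrict h.domain h.dense_domain hle := by
  classical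
  let R := {h : X.PartialMap Y // h.IsOver S ∧ h.toRationalMap = f}
  obtain ⟨h₀, h₀S, h₀f⟩ := f.exists_partialMap_over S
  let D : X.Opens := ⨆ h : R, h.1.domain
  have hle : ∀ h : R, h.1.domain ≤ D := fun h => le_iSup (fun h : R => h.1.domain) h
  have hD : Dense (D : Set X) := h₀.dense_domain.mono (hle ⟨h₀, h₀S, h₀f⟩)
  let 𝒰 : D.toScheme.OpenCover :=
    { I₀ := R
      X := fun h => h.1.domain.toScheme
      f := fun h => X.homOfLE (hle h)
      mem₀ := by
        rw [Scheme.presieve₀_mem_precoverage_iff]
        refine ⟨fun x => ?_, inferInstance⟩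
        obtain ⟨h, hx⟩ := TopologicalSpace.Opens.mem_iSup.mp x.2
        exact ⟨h, ⟨x.1, hx⟩, Subtype.ext (by simp)⟩ }
  have hcompat : ∀ x y : R, Limits.pullback.fst (𝒰.f x) (𝒰.f y) ≫ x.1.hom =
      Limits.pullback.snd (𝒰.f x) (𝒰.f y) ≫ y.1.hom := by
    intro x y
    have := x.2.1
    have := y.2.1
    refine (cancel_epi (isPullback_opens_inf_le (hle x) (hle y)).isoPullback.hom).mp ?_
    simp only [𝒰, IsPullback.isoPullback_hom_fst_assoc, IsPullback.isoPullback_hom_snd_assoc]
    exact (Scheme.PartialMap.equiv_iff_of_isSeparated (S := S) (f := x.1) (g := y.1)).mp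
      (Scheme.PartialMap.toRationalMap_eq_iff.mp (x.2.2.trans y.2.2.symm))
  let g : X.PartialMap Y := ⟨D, hD, 𝒰.glueMorphisms (fun h => h.1.hom) hcompat⟩
  have hg : ∀ h : R, X.homOfLE (hle h) ≫ g.hom = h.1.hom := fun h =>
    𝒰.ι_glueMorphisms (fun h => h.1.hom) hcompat h
  refine ⟨g, ⟨?_⟩, ?_, ?_⟩
  · refine 𝒰.hom_ext _ _ fun h => ?_
    show X.homOfLE (hle h) ≫ g.hom ≫ (Y ↘ S) = X.homOfLE (hle h) ≫ (D.ι ≫ (X ↘ S))
    rw [← Category.assoc, hg, Scheme.homOfLE_ι_assoc]
    exact h.2.1.comp_over
  · rw [← h₀f]
    refine Scheme.PartialMap.toRationalMap_eq_iff.mpr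
      ⟨h₀.domain, h₀.dense_domain, hle ⟨h₀, h₀S, h₀f⟩, le_rfl, ?_⟩
    simp only [Scheme.PartialMap.restrict_hom]
    rw [hg ⟨h₀, h₀S, h₀f⟩]
    simp
  · intro h hS hf
    refine ⟨hle ⟨h, hS, hf⟩, Scheme.PartialMap.ext _ _ rfl ?_⟩
    simp only [Scheme.PartialMap.restrict_hom]
    rw [hg ⟨h, hS, hf⟩]
    conv_lhs => rw [← Category.id_comp h.hom]
    congr 1
    rw [← cancel_mono h.domain.ι, Category.id_comp]
    exact (Scheme.isoOfEq_hom_ι X _).symm
end Groth.Agent.S4344
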