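import Groth.Statements.S4345
import Groth.Agent.SepLocal.OfPrime

set_option autoImplicit false
universe u
open SchLoc

namespace Groth.Agent.S4345

/-- Let A and B be subrings of a field R, C the subring generated by A and B, and for a subring E let
L(E) be the set of local subrings E_p of R, p a prime ideal of E. The following are equivalent: (i)
for every local subring Q of R containing A and B, the localizations of A and of B at the traces of
the maximal ideal of Q coincide; (ii) for every prime ideal r of C the localizations of A and B at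
the traces of r coincide; (iii) two members of L(A) and L(B) dominated by a common local subring of
R are equal; (iv) the intersection of L(A) and L(B) is L(C). -/
theorem result
    (R : Type u) [Field R] (A B : Subring R) :
    [ ∀ (Q : LocalSubring R) (hA : A ≤ Q.toSubring) (hB : B ≤ Q.toSubring),
        LocalSubring.ofPrime A ((IsLocalRing.maximalIdeal Q.toSubring).comap (Subring.inclusion hA)) =
          LocalSubring.ofPrime B ((IsLocalRing.maximalIdeal Q.toSubring).comap (Subring.inclusion hB)),
      ∀ r : PrimeSpectrum ↥(A ⊔ B),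
        LocalSubring.ofPrime A (r.asIdeal.comap (Subring.inclusion (le_sup_left : A ≤ A ⊔ B))) =
          LocalSubring.ofPrime B (r.asIdeal.comap (Subring.inclusion (le_sup_right : B ≤ A ⊔ B))),
      ∀ (p : PrimeSpectrum A) (q : PrimeSpectrum B),
        (∃ Q : LocalSubring R, LocalSubring.ofPrime A p.asIdeal ≤ Q ∧ LocalSubring.ofPrime B q.asIdeal ≤ Q) →
          LocalSubring.ofPrime A p.asIdeal = LocalSubring.ofPrime B q.asIdeal,
      Set.range (fun p : PrimeSpectrum A ↦ LocalSubring.ofPrime A p.asIdeal) ∩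
          Set.range (fun q : PrimeSpectrum B ↦ LocalSubring.ofPrime B q.asIdeal) =
        Set.range (fun r : PrimeSpectrum ↥(A ⊔ B) ↦ LocalSubring.ofPrime (A ⊔ B) r.asIdeal) ].TFAE := by
  tfae_have 1 → 2 := fun h r ↦ by
    refine ((SepLocal.ofPrime_congr ?_).trans (h (LocalSubring.ofPrime _ r.asIdeal)
      (le_sup_left.trans (LocalSubring.le_ofPrime _ r.asIdeal))
      (le_sup_right.trans (LocalSubring.le_ofPrime _ r.asIdeal)))).trans (SepLocal.ofPrime_congr ?_)
    · conv_lhs => rw [← SepLocal.comap_maximalIdeal_ofPrime r.asIdeal, Ideal.comap_comap]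
      rfl
    · conv_rhs => rw [← SepLocal.comap_maximalIdeal_ofPrime r.asIdeal, Ideal.comap_comap]
      rfl
  tfae_have 2 → 3 := fun h p q ⟨Q, hp, hq⟩ ↦ by
    obtain ⟨hA, hp⟩ := SepLocal.ofPrime_le_iff.mp hp
    obtain ⟨hB, hq⟩ := SepLocal.ofPrime_le_iff.mp hq
    have h' := h ⟨(IsLocalRing.maximalIdeal Q.toSubring).comap
      (Subring.inclusion (sup_le hA hB)), inferInstance⟩
    exact (SepLocal.ofPrime_congr (hp.trans (SepLocal.comap_inclusion_comap le_sup_left (sup_le hA hB) _))).trans
      (h'.trans (SepLocal.ofPrime_congr (hq.trans (SepLocal.comap_inclusion_comap le_sup_right (sup_le hA hB) _)).symm))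
  tfae_have 3 → 1 := fun h Q hA hB ↦
    h ⟨(IsLocalRing.maximalIdeal Q.toSubring).comap (Subring.inclusion hA), Ideal.IsPrime.comap _⟩
      ⟨(IsLocalRing.maximalIdeal Q.toSubring).comap (Subring.inclusion hB), Ideal.IsPrime.comap _⟩
      ⟨Q, SepLocal.ofPrime_comap_le Q hA, SepLocal.ofPrime_comap_le Q hB⟩
  tfae_have 2 → 4 := fun h ↦ by
    apply Set.Subset.antisymm
    · rintro M ⟨⟨p, rfl⟩, ⟨q, hq⟩⟩
      have hA : A ≤ (LocalSubring.ofPrime A p.asIdeal).toSubring := LocalSubring.le_ofPrime _ _
      have hB : B ≤ (LocalSubring.ofPrime A p.asIdeal).toSubring := by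
        simp only at hq; rw [← hq]; exact LocalSubring.le_ofPrime _ _
      refine ⟨⟨(IsLocalRing.maximalIdeal _).comap (Subring.inclusion (sup_le hA hB)),
        inferInstance⟩, le_antisymm (SepLocal.ofPrime_comap_le _ _) ?_⟩
      refine le_of_eq_of_le (SepLocal.ofPrime_congr ?_) (SepLocal.ofPrime_mono le_sup_left _)
      exact ((SepLocal.comap_maximalIdeal_ofPrime p.asIdeal).symm.trans
        (SepLocal.comap_inclusion_comap le_sup_left (sup_le hA hB) _))
    · rintro _ ⟨r, rfl⟩
      have hAB := h r
      have hA := SepLocal.ofPrime_mono (le_sup_left : A ≤ A ⊔ B) r.asIdeal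
      have hB := SepLocal.ofPrime_mono (le_sup_right : B ≤ A ⊔ B) r.asIdeal
      have hC : A ⊔ B ≤ (LocalSubring.ofPrime A (r.asIdeal.comap
          (Subring.inclusion (le_sup_left : A ≤ A ⊔ B)))).toSubring := by
        refine sup_le (LocalSubring.le_ofPrime _ _) ?_
        rw [hAB]; exact LocalSubring.le_ofPrime _ _
      have heq : LocalSubring.ofPrime (A ⊔ B) r.asIdeal = LocalSubring.ofPrime A (r.asIdeal.comap
          (Subring.inclusion (le_sup_left : A ≤ A ⊔ B))) := by
        refine le_antisymm (SepLocal.ofPrime_le_iff.mpr ⟨hC, ?_⟩) hA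
        rw [SepLocal.comap_inclusion_maximalIdeal_of_le hA hC]
        exact (SepLocal.comap_maximalIdeal_ofPrime r.asIdeal).symm
      refine ⟨⟨⟨r.asIdeal.comap (Subring.inclusion le_sup_left), Ideal.IsPrime.comap _⟩, heq.symm⟩,
        ⟨⟨r.asIdeal.comap (Subring.inclusion le_sup_right), Ideal.IsPrime.comap _⟩,
          (hAB.symm.trans heq.symm)⟩⟩
  tfae_have 4 → 2 := fun h r ↦ by
    obtain ⟨⟨p, hp⟩, ⟨q, hq⟩⟩ : LocalSubring.ofPrime (A ⊔ B) r.asIdeal ∈
        Set.range (fun p : PrimeSpectrum A ↦ LocalSubring.ofPrime A p.asIdeal) ∩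
          Set.range (fun q : PrimeSpectrum B ↦ LocalSubring.ofPrime B q.asIdeal) := by
      rw [h]; exact ⟨r, rfl⟩
    simp only at hp hq
    have key : ∀ {E : Subring R} (hE : E ≤ A ⊔ B) (p : PrimeSpectrum E),
        LocalSubring.ofPrime E p.asIdeal = LocalSubring.ofPrime (A ⊔ B) r.asIdeal →
        LocalSubring.ofPrime E (r.asIdeal.comap (Subring.inclusion hE)) =
          LocalSubring.ofPrime (A ⊔ B) r.asIdeal := by
      intro E hE p hp
      refine (SepLocal.ofPrime_congr ?_).trans hp
      have hrw := SepLocal.comap_inclusion_maximalIdeal_of_le hp.le (LocalSubring.le_ofPrime E _)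
      rw [SepLocal.comap_maximalIdeal_ofPrime] at hrw
      rw [hrw]
      conv_lhs => rw [← SepLocal.comap_maximalIdeal_ofPrime r.asIdeal, Ideal.comap_comap]
      rfl
    exact (key le_sup_left p hp).trans (key le_sup_right q hq).symm
  tfae_finish

end Groth.Agent.S4345
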