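import Groth.Statements.S4346
import Groth.Agent.SepLocal.Dominated

set_option autoImplicit false
universe u
open SchLoc

namespace Groth.Agent.S4346

open AlgebraicGeometry in
open CategoryTheory in
/-- On an integral separated scheme distinct points have distinct local rings inside the function field. -/
theorem result (X : Scheme.{u}) [IsIntegral X] [X.IsSeparated] :
    Function.Injective (fun x : X ↦ (algebraMap (X.presheaf.stalk x) X.functionField).range) := by
  intro x y h
  refine Groth.Agent.SepLocal.eq_of_dominated x y
    (LocalSubring.range (algebraMap (X.presheaf.stalk x) X.functionField)) le_rfl (le_of_eq ?_)
  exact LocalSubring.toSubring_injective h.symm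

end Groth.Agent.S4346
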