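import Groth.Statements.S4349
import Mathlib

set_option autoImplicit false
universe u
open RatFun
open CategoryTheory AlgebraicGeometry

namespace Groth.Agent.S4349

open AlgebraicGeometry in
/-- Second assertion (in the form: sections over a dense open inject into the ring of rational
functions). Let X be a reduced scheme and V a dense open subset of X. The canonical map from the
sections of O_X over V to the ring R(X) of rational functions on X is injective. (The published
statement also assumes X locally integral or locally Noetherian; that hypothesis serves the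
quasi-coherence of the sheaf of rational functions and is not needed here.) -/
theorem result (X : Scheme.{u}) [IsReduced X]
    (V : X.Opens) (hV : Dense (V : Set X)) :
    Function.Injective (RatFun.toRing X V hV) := by
  intro s t h
  haveI : IsFiltered ((RatFun.IsDenseOpen X).FullSubcategory)ᵒᵖ := by
    haveI : Nonempty (((RatFun.IsDenseOpen X).FullSubcategory)ᵒᵖ) := ⟨Opposite.op ⟨V, hV⟩⟩
    haveI : IsFilteredOrEmpty (((RatFun.IsDenseOpen X).FullSubcategory)ᵒᵖ) :=
      { cocone_objs := fun A B => ⟨Opposite.op ⟨A.unop.obj ⊓ B.unop.obj,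
          A.unop.property.inter_of_isOpen_left B.unop.property A.unop.obj.isOpen⟩,
            (ObjectProperty.homMk (homOfLE inf_le_left)).op, (ObjectProperty.homMk (homOfLE inf_le_right)).op, trivial⟩
        cocone_maps := fun A B f g => ⟨B, 𝟙 _, Quiver.Hom.unop_inj (ObjectProperty.hom_ext _ (Subsingleton.elim _ _))⟩ }
    exact { }
  obtain ⟨W, i, j, hj⟩ := (Limits.Concrete.colimit_rep_eq_iff_exists
    (RatFun.sectionsOnDense X) (i := Opposite.op ⟨V, hV⟩) (j := Opposite.op ⟨V, hV⟩) s t).1 h
  have hWV : W.unop.obj ≤ V := leOfHom i.unop.hom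
  rw [← sub_eq_zero, ← AlgebraicGeometry.basicOpen_eq_bot_iff]
  by_contra hne
  replace hne : ((X.basicOpen (s - t) : X.Opens) : Set X).Nonempty := by
    by_contra h0
    exact hne ((TopologicalSpace.Opens.not_nonempty_iff_eq_bot _).1 h0)
  obtain ⟨y, hy, hyW⟩ := W.unop.property.inter_open_nonempty _ (X.basicOpen (s - t)).isOpen hne
  have hz : X.presheaf.map (homOfLE hWV).op (s - t) = 0 := by
    rw [map_sub, sub_eq_zero]
    exact hj
  have hb : y ∈ X.basicOpen (X.presheaf.map (homOfLE hWV).op (s - t)) := by
    rw [Scheme.basicOpen_res]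
    exact ⟨hyW, hy⟩
  rw [hz, Scheme.basicOpen_zero] at hb
  exact hb

end Groth.Agent.S4349
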