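import Groth.Prelude.Def_RelSpec
import Mathlib.RingTheory.FiniteType
import Mathlib.AlgebraicGeometry.Morphisms.Separated
import Mathlib.AlgebraicGeometry.Noetherian
import Groth.Agent.QCSup.Basic

set_option backward.isDefEq.respectTransparency false
set_option backward.isDefEq.respectTransparency.types false
-- import your own Groth.Agent.* helpers here

set_option autoImplicit false
universe u
namespace QCohSup
end QCohSup
open QCohSup

namespace Groth.Agent.S4352

open AlgebraicGeometry in
open CategoryTheory in
open Opposite in
/-- Case b), in the sectionwise form its proof gives. Let X be a scheme that is quasi-compact and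
separated and B a quasi-coherent O_X-algebra. Every section of B over an affine open U lies in a
quasi-coherent sub-O_X-algebra of B whose sections over every affine open form an algebra of finite
type over the functions; hence B is the inductive limit of its quasi-coherent sub-O_X-algebras of
finite type. -/
theorem result
    {X : Scheme.{u}} [CompactSpace X] [X.IsSeparated] (B : RelSpec.QCAlg X)
    (U : X.affineOpens) (b : B.presheaf.obj (op (U : X.Opens))) :
    ∃ (B' : RelSpec.QCAlg X) (φ : B' ⟶ B),
      (∀ V : X.Opens, Function.Injective (φ.hom.app (op V)).hom) ∧
      (∀ V : X.affineOpens, (B'.str.app (op (V : X.Opens))).hom.FiniteType) ∧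
      b ∈ Set.range (φ.hom.app (op (U : X.Opens))).hom := by
  haveI : B.toModule.IsQuasicoherent := Groth.Agent.QCSup.isQCoh_toModule B
  classical
  obtain ⟨S, hS, hs⟩ := Groth.Agent.QC.exists_sub_containing (F := B.toModule) ({U} : Finset X.affineOpens) (fun V => V.1) (fun V => V.2)
    (fun V => if h : V = U then {h ▸ b} else ∅)
  exact Groth.Agent.QCSup.exists_subalgebra B hS U.2 (hs U (Finset.mem_singleton_self U) b (by rw [dif_pos rfl]; simp))

end Groth.Agent.S4352
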