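import Groth.Statements.S4355
import Groth.Agent.QC.Extend
-- import your own Groth.Agent.* helpers here

set_option autoImplicit false
universe u v
open QCohSup

namespace Groth.Agent.S4355

open TopologicalSpace CategoryTheory AlgebraicGeometry Groth.Agent.QC in
lemma exists_extend_wo {X : Scheme.{u}} {F : X.Modules} [hF : F.IsQuasicoherent]
    {L : Type v} [LinearOrder L] [WellFoundedLT L]
    (V : L → X.Opens) (hV : ∀ l, IsAffineOpen (V l)) (hcov : ⨆ l, V l = ⊤)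
    (hW : ∀ l, IsCompact ((V l : Set X) ∩ ⋃ m ∈ Set.Iio l, (V m : Set X)))
    (U : X.Opens) [QuasiCompact U.ι] (S : Sub F) (hS : LocFinGen S U) :
    ∃ S' : Sub F, LocFinGen S' ⊤ ∧ ∀ O ≤ U, S'.obj O = S.obj O := by
  classical
  let P : Ext F → Prop := fun e ↦ ∃ D : Set L, IsLowerSet D ∧ e.W = U ⊔ ⨆ m ∈ D, V m
  let e₀ : Ext F := ⟨U, S, hS⟩
  have he₀ : P e₀ := ⟨∅, isLowerSet_empty, by simp [e₀]⟩
  obtain ⟨m, hm0, hm⟩ := zorn_le_nonempty₀ {e : Ext F | e₀ ≤ e ∧ P e} (fun c hc hchain y hy ↦ by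
    let R : Sub F := Sub.iInf fun k : c ↦ k.1.S.restrictCond k.1.W
    have key : ∀ a ∈ c, ∀ O ≤ a.W, R.obj O = a.S.obj O := by
      intro a ha O hO
      ext s
      refine ⟨fun h ↦ (Sub.mem_restrictCond hO s).mp ((Submodule.mem_iInf _).mp h ⟨a, ha⟩),
        fun h ↦ (Submodule.mem_iInf _).mpr fun k ↦ ?_⟩
      change res F (inf_le_left : O ⊓ k.1.W ≤ O) s ∈ k.1.S.obj (O ⊓ k.1.W)
      rcases hchain.total ha k.2 with hle | hle
      · rw [hle.2 _ (inf_le_left.trans hO)]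
        exact a.S.res_mem _ h
      · rw [← hle.2 _ inf_le_right]
        exact a.S.res_mem _ h
    refine ⟨⟨⨆ a ∈ c, a.W, R, ?_⟩, ⟨?_, ?_⟩, fun a ha ↦ ⟨le_iSup₂_of_le a ha le_rfl, key a ha⟩⟩
    · intro x hx
      obtain ⟨a, ha, hxa⟩ : ∃ a ∈ c, x ∈ a.W := by simpa [Opens.mem_iSup] using hx
      obtain ⟨D, hD, hxD, hDW, T, hT⟩ := a.gen x hxa
      exact ⟨D, hD, hxD, hDW.trans (le_iSup₂_of_le a ha le_rfl), T,
        hT.congr fun O hO ↦ key a ha O (hO.trans hDW)⟩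
    · have h1 : e₀ ≤ y := (hc hy).1
      exact ⟨h1.1.trans (le_iSup₂_of_le y hy le_rfl),
        fun O hO ↦ (key y hy O (hO.trans h1.1)).trans (h1.2 O hO)⟩
    · choose D hDl hDe using fun a : c ↦ (hc a.2).2
      refine ⟨⋃ a, D a, isLowerSet_iUnion hDl, le_antisymm (iSup₂_le fun a ha ↦ ?_) (sup_le ?_ ?_)⟩
      · rw [hDe ⟨a, ha⟩]
        exact sup_le_sup_left (iSup₂_le fun k hk ↦ le_iSup₂_of_le (f := fun k (_ : k ∈ ⋃ a, D a) ↦ V k) k
          (Set.mem_iUnion.mpr ⟨_, hk⟩) le_rfl) _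
      · exact le_iSup₂_of_le (f := fun (a : Ext F) (_ : a ∈ c) ↦ a.W) y hy (hc hy).1.1
      · refine iSup₂_le fun k hk ↦ ?_
        obtain ⟨a, hk⟩ := Set.mem_iUnion.mp hk
        refine le_iSup₂_of_le (f := fun (a : Ext F) (_ : a ∈ c) ↦ a.W) a.1 a.2 ?_
        rw [hDe a]
        exact le_sup_of_le_right (le_iSup₂_of_le (f := fun k (_ : k ∈ D a) ↦ V k) k hk le_rfl))
    e₀ (show e₀ ≤ e₀ ∧ P e₀ from ⟨le_rfl, he₀⟩)
  have htop : m.W = ⊤ := by
    by_contra hne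
    obtain ⟨k, hk⟩ : ∃ k, ¬ V k ≤ m.W := by
      by_contra h
      push Not at h
      exact hne (top_le_iff.mp (hcov.ge.trans (iSup_le h)))
    obtain ⟨l, hl, hlmin⟩ := (wellFounded_lt (α := L)).has_min {k | ¬ V k ≤ m.W} ⟨k, hk⟩
    obtain ⟨D, hDl, hDe⟩ := hm.1.2
    have hDsub : D ⊆ Set.Iio l := fun j hj ↦ by
      by_contra hjl
      exact hl (hDe.ge.trans' (le_sup_of_le_right
        (le_iSup₂_of_le (f := fun k (_ : k ∈ D) ↦ V k) l (hDl (le_of_not_gt hjl) hj) le_rfl)))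
    have hWeq : m.W = U ⊔ ⨆ j ∈ Set.Iio l, V j := by
      refine le_antisymm (hDe.le.trans (sup_le_sup_left (iSup₂_le fun j hj ↦
        le_iSup₂_of_le (f := fun j (_ : j ∈ Set.Iio l) ↦ V j) j (hDsub hj) le_rfl) _)) (sup_le ?_ ?_)
      · exact hDe.ge.trans' le_sup_left
      · refine iSup₂_le fun j hj ↦ ?_
        by_contra hj'
        exact hlmin j hj' hj
    have hc : IsCompact ((m.W ⊓ V l : X.Opens) : Set X) := by
      have h1 : IsCompact (U.ι '' ((U.ι ⁻¹ᵁ V l : (U : Scheme.{u}).Opens) : Set (U : Scheme.{u}))) :=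
        ((QuasiCompact.isCompact_preimage (f := U.ι) _ (V l).2 (hV l).isCompact)).image U.ι.continuous
      have h2 : ((m.W ⊓ V l : X.Opens) : Set X) =
          (U.ι '' ((U.ι ⁻¹ᵁ V l : (U : Scheme.{u}).Opens) : Set (U : Scheme.{u}))) ∪
            ((V l : Set X) ∩ ⋃ j ∈ Set.Iio l, (V j : Set X)) := by
        rw [hWeq, show U.ι '' ((U.ι ⁻¹ᵁ V l : (U : Scheme.{u}).Opens) : Set (U : Scheme.{u})) =
          (V l : Set X) ∩ (U : Set X) by
            ext x
            exact ⟨by rintro ⟨z, hz, rfl⟩; exact ⟨hz, z.2⟩, fun h ↦ ⟨⟨x, h.2⟩, h.1, rfl⟩⟩]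
        simp only [Opens.coe_inf, Opens.coe_sup, Opens.coe_iSup, ← Set.inter_union_distrib_left]
        rw [Set.inter_comm]
      rw [h2]
      exact h1.union (hW l)
    obtain ⟨S', hS', heq⟩ := exists_extend_affine m.S m.gen (hV l) hc
    have hle : m ≤ ⟨m.W ⊔ V l, S', hS'⟩ := ⟨le_sup_left, heq⟩
    have hP : P ⟨m.W ⊔ V l, S', hS'⟩ := by
      refine ⟨Set.Iic l, isLowerSet_Iic l, ?_⟩
      change m.W ⊔ V l = _
      rw [hWeq, sup_assoc, ← Set.Iio_insert, iSup_insert, sup_comm (V l)]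
    exact hl (le_sup_right.trans (hm.2 ⟨le_trans hm.1.1 hle, hP⟩ hle).1)
  exact ⟨m.S, htop ▸ m.gen, fun O hO ↦ hm0.2 O hO⟩

open AlgebraicGeometry in
open CategoryTheory in
/-- Let X be a scheme, L a well-ordered set and (V_l) a cover of X by affine opens indexed by L such
that, for every l, the intersection of V_l with the union of the V_m, m < l, is quasi-compact; let U
be an open subset of X whose inclusion morphism is quasi-compact. Then for every quasi-coherent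
O_X-module F and every quasi-coherent subsheaf of finite type G of F restricted to U there is a
quasi-coherent subsheaf of finite type G' of F whose restriction to U is G. -/
theorem result
    {X : Scheme.{u}} {L : Type v} [LinearOrder L] [WellFoundedLT L]
    (V : L → X.Opens) (hV : ∀ l, IsAffineOpen (V l)) (hcov : ⨆ l, V l = ⊤)
    (hW : ∀ l, IsCompact ((V l : Set X) ∩ ⋃ m ∈ Set.Iio l, (V m : Set X)))
    (U : X.Opens) [QuasiCompact U.ι] (F : X.Modules) [Coh.IsQCoh F]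
    (G : (U : Scheme.{u}).Modules) (i : G ⟶ F.restrict U.ι) [Mono i]
    [Coh.IsQCoh G] (hG : CohB1.IsFT G) :
    ∃ (G' : X.Modules) (i' : G' ⟶ F) (e : G'.restrict U.ι ≅ G), Mono i' ∧ Coh.IsQCoh G' ∧ CohB1.IsFT G' ∧
      e.hom ≫ i = (Scheme.Modules.restrictFunctor U.ι).map i' := by
  obtain ⟨S, hS, heq⟩ := exists_extend_wo V hV hcov hW U
    (Groth.Agent.QC.subOfOpen U G i) (Groth.Agent.QC.locFinGen_subOfOpen U G i hG)
  obtain ⟨hq, hft⟩ := Groth.Agent.QC.Sub.isCoh_toModules hS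
  have hle : ∀ A : (U : Scheme.{u}).Opens, U.ι ''ᵁ A ≤ U := by
    rintro A y ⟨z, -, rfl⟩
    exact z.2
  obtain ⟨e, he⟩ := Groth.Agent.QC.exists_iso_of_range_eq
    ((Scheme.Modules.restrictFunctor U.ι).map S.ι) i fun A ↦ by
      ext s
      refine (S.range_ι_app (U.ι ''ᵁ A) (show Γ(F, U.ι ''ᵁ A) from s)).trans ?_
      rw [heq _ (hle A)]
      exact Groth.Agent.QC.subOfOpen_obj U G i A _
  exact ⟨S.toModules, S.ι, e, inferInstance, hq, hft, he⟩

end Groth.Agent.S4355
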