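import Groth.Statements.S4361
import Mathlib

set_option autoImplicit false
universe u
open FinCond

namespace Groth.Agent.S4361

open AlgebraicGeometry in
open CategoryTheory in
/-- Let f : X -> Y and g : Y -> Z be morphisms whose composite is quasi-compact, and suppose the
underlying space of X is locally Noetherian (every point has an open neighbourhood which is a
Noetherian topological space). Then f is quasi-compact. (The published statement also covers the
case g separated, which is the standard cancellation property; this row states only the case of a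
locally Noetherian source.) -/
theorem result
    {X Y Z : Scheme.{u}} (f : X ⟶ Y) (g : Y ⟶ Z) [QuasiCompact (f ≫ g)]
    (hX : ∀ x : X, ∃ U : X.Opens, x ∈ U ∧ TopologicalSpace.NoetherianSpace U) :
    QuasiCompact f := by
  constructor
  intro U hUo hUc
  choose V hV hN using hX
  have hgU : IsCompact (g '' U) := hUc.image g.continuous
  choose W hW using fun z : Z => exists_isAffineOpen_mem_and_subset (X := Z) (U := ⊤) (x := z) trivial
  obtain ⟨s, hs⟩ := hgU.elim_finite_subcover (fun z => (W z : Set Z)) (fun z => (W z).2)
    (fun z _ => Set.mem_iUnion.2 ⟨z, (hW z).2.1⟩)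
  have hc : IsCompact ((f ≫ g) ⁻¹' (⋃ z ∈ s, (W z : Set Z))) :=
    QuasiCompact.isCompact_preimage _ (isOpen_biUnion fun z _ => (W z).2)
      (s.finite_toSet.isCompact_biUnion fun z _ => (hW z).1.isCompact)
  obtain ⟨t, ht⟩ := hc.elim_finite_subcover (fun x => (V x : Set X)) (fun x => (V x).2)
    (fun x _ => Set.mem_iUnion.2 ⟨x, hV x⟩)
  have : TopologicalSpace.NoetherianSpace ↑(⋃ x ∈ t, (V x : Set X)) := by
    haveI : ∀ x : t, TopologicalSpace.NoetherianSpace ↑(V x.1 : Set X) := fun x => hN x.1
    have e : (⋃ x ∈ t, (V x : Set X)) = ⋃ x : t, (V x.1 : Set X) := by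
      ext z; simp
    rw [e]
    exact TopologicalSpace.NoetherianSpace.iUnion _
  refine TopologicalSpace.noetherianSpace_set_iff _ |>.1 this _ (fun x hx => ht ?_)
  rw [Set.mem_preimage]
  rw [Scheme.Hom.comp_apply]
  exact hs ⟨f x, hx, rfl⟩

end Groth.Agent.S4361
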