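import Groth.Statements.S4360
import Mathlib

set_option autoImplicit false
universe u
open FinCond

namespace Groth.Agent.S4360

open AlgebraicGeometry in
open CategoryTheory in
/-- Let f : X -> Y be an immersion and suppose that the underlying space of Y is locally Noetherian,
i.e. every point of Y has an open neighbourhood which is a Noetherian topological space. Then f is
quasi-compact (and hence of finite type, an immersion being locally of finite type). -/
theorem result
    {X Y : Scheme.{u}} (f : X ⟶ Y) [IsImmersion f]
    (hY : ∀ y : Y, ∃ U : Y.Opens, y ∈ U ∧ TopologicalSpace.NoetherianSpace U) :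
    QuasiCompact f := by
  constructor
  intro U hUo hUc
  choose V hV hN using hY
  obtain ⟨t, ht⟩ := hUc.elim_finite_subcover (fun y => (V y : Set Y)) (fun y => (V y).2)
    (fun y _ => Set.mem_iUnion.2 ⟨y, hV y⟩)
  have hfU : IsCompact (f '' (f ⁻¹' U)) := by
    have hsub : f '' (f ⁻¹' U) ⊆ ⋃ y ∈ t, (V y : Set Y) := (Set.image_preimage_subset _ _).trans ht
    have : TopologicalSpace.NoetherianSpace ↑(⋃ y ∈ t, (V y : Set Y)) := by
      haveI : ∀ y : t, TopologicalSpace.NoetherianSpace ↑(V y.1 : Set Y) := fun y => hN y.1
      have e : (⋃ y ∈ t, (V y : Set Y)) = ⋃ y : t, (V y.1 : Set Y) := by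
        ext z; simp
      rw [e]
      exact TopologicalSpace.NoetherianSpace.iUnion _
    exact TopologicalSpace.noetherianSpace_set_iff _ |>.1 this _ hsub
  exact (f.isEmbedding.isInducing.isCompact_iff).2 hfU

end Groth.Agent.S4360
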