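import Groth.Statements.S4365
import Groth.Agent.WeilLib.FrobDeg
import Groth.Agent.WeilLib.Iterate
import Mathlib.FieldTheory.FinTrdeg
import Mathlib.FieldTheory.IsAlgClosed.Basic
import Mathlib.AlgebraicGeometry.AlgClosed.Basic

set_option autoImplicit false
universe u
open FinCond

namespace Groth.Agent.S4365

/-- a finitely generated extension embeds into an algebraically closed field of infinite transcendence degree -/
theorem exists_algHom {K L Ω : Type u} [Field K] [Field L] [Field Ω] [IsAlgClosed Ω] [Algebra K L] [Algebra K Ω]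
    [Algebra.EssFiniteType K L] (t : ℕ → Ω) (ht : AlgebraicIndependent K t) : Nonempty (L →ₐ[K] Ω) := by
  classical
  obtain ⟨ι, x, hx⟩ := exists_isTranscendenceBasis' K L
  have : Finite ι := finite_of_isTranscendenceBasis hx
  let : Encodable ι := Encodable.ofCountable ι
  have hs : AlgebraicIndependent K (t ∘ Encodable.encode : ι → Ω) := ht.comp _ Encodable.encode_injective
  let R := Algebra.adjoin K (Set.range x)
  let φ : R →ₐ[K] Ω := (MvPolynomial.aeval (t ∘ Encodable.encode)).comp hx.1.aevalEquiv.symm.toAlgHom
  have hφ : Function.Injective φ := (show Function.Injective (MvPolynomial.aeval (t ∘ Encodable.encode : ι → Ω)) from hs).comp hx.1.aevalEquiv.symm.injective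
  let : Algebra R Ω := φ.toRingHom.toAlgebra
  have : IsScalarTower K R Ω := IsScalarTower.of_algebraMap_eq fun r => (φ.commutes r).symm
  have : FaithfulSMul R Ω := (faithfulSMul_iff_algebraMap_injective R Ω).2 hφ
  have : Algebra.IsAlgebraic R L := hx.isAlgebraic
  exact ⟨(IsAlgClosed.lift : L →ₐ[R] Ω).restrictScalars K⟩

open AlgebraicGeometry CategoryTheory Limits in
theorem main {K Ω : Type u} [Field K] [Field Ω] [IsAlgClosed Ω] [Algebra K Ω]
    (t : ℕ → Ω) (ht : AlgebraicIndependent K t)
    {X Y : Scheme.{u}} (pX : X ⟶ Spec (CommRingCat.of K)) (pY : Y ⟶ Spec (CommRingCat.of K))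
    [LocallyOfFiniteType pX] [LocallyOfFiniteType pY] (f : X ⟶ Y) (hf : f ≫ pY = pX) :
    Surjective f ↔ ∀ y : Spec (CommRingCat.of Ω) ⟶ Y,
      y ≫ pY = Spec.map (CommRingCat.ofHom (algebraMap K Ω)) →
        ∃ x : Spec (CommRingCat.of Ω) ⟶ X, x ≫ f = y := by
  constructor
  · intro hs y _
    have : LocallyOfFiniteType f := by
      have : LocallyOfFiniteType (f ≫ pY) := hf ▸ ‹_›
      exact locallyOfFiniteType_of_comp f pY
    let g := pullback.snd f y
    have : Nonempty ↥(pullback f y) := by
      obtain ⟨x, hx⟩ := f.surjective (y (IsLocalRing.closedPoint Ω))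
      obtain ⟨z, -, -⟩ := Scheme.Pullback.exists_preimage_pullback (f := f) (g := y) x _ hx
      exact ⟨z⟩
    have : JacobsonSpace ↥(pullback f y) := LocallyOfFiniteType.jacobsonSpace g
    obtain ⟨z, -, hz⟩ := nonempty_inter_closedPoints (Z := (Set.univ : Set ↥(pullback f y)))
      Set.univ_nonempty isOpen_univ.isLocallyClosed
    refine ⟨pointOfClosedPoint g z hz ≫ pullback.fst f y, ?_⟩
    rw [Category.assoc, pullback.condition, ← Category.assoc,
      show pointOfClosedPoint g z hz ≫ g = 𝟙 _ from pointOfClosedPoint_comp g z hz, Category.id_comp]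
  · intro h
    refine ⟨fun y₀ => ?_⟩
    let := (Groth.Agent.WeilLib.kStr pY y₀).toAlgebra
    have := Groth.Agent.WeilLib.essFiniteType_residueField pY y₀
    obtain ⟨ψ⟩ := exists_algHom (L := Y.residueField y₀) t ht
    let y := Spec.map (CommRingCat.ofHom ψ.toRingHom) ≫ Y.fromSpecResidueField y₀
    have hy : y ≫ pY = Spec.map (CommRingCat.ofHom (algebraMap K Ω)) := by
      rw [Category.assoc, show Y.fromSpecResidueField y₀ ≫ pY = Spec.map (CommRingCat.ofHom (Groth.Agent.WeilLib.kStr pY y₀)) from
        (Groth.Agent.WeilLib.fromSpecResidueField_comp pY y₀), ← Spec.map_comp, ← CommRingCat.ofHom_comp]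
      exact congrArg (fun g => Spec.map (CommRingCat.ofHom g)) (RingHom.ext ψ.commutes)
    obtain ⟨x, hx⟩ := h y hy
    exact ⟨x (IsLocalRing.closedPoint Ω), by
      show (x ≫ f) (IsLocalRing.closedPoint Ω) = y₀
      rw [hx]
      exact Scheme.fromSpecResidueField_apply y₀ _⟩

open AlgebraicGeometry in
open CategoryTheory in
/-- Let K be a field, X and Y schemes locally of finite type over K, f : X -> Y a K-morphism and Ω an
algebraically closed extension field of K of infinite transcendence degree over K (there is an
algebraically independent sequence in Ω). Then f is surjective if and only if the map it induces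
from the K-points of X with values in Ω to those of Y is surjective, i.e. every K-morphism Spec Ω ->
Y factors through f. (The published proposition assumes X and Y of finite type over K, and a later
remark of the same text extends it to X and Y locally of finite type over K, the form stated here.) -/
theorem result
    (K Ω : Type u) [Field K] [Field Ω] [IsAlgClosed Ω] [Algebra K Ω]
    (t : ℕ → Ω) (ht : AlgebraicIndependent K t)
    {X Y : Scheme.{u}} (pX : X ⟶ Spec (CommRingCat.of K)) (pY : Y ⟶ Spec (CommRingCat.of K))
    [LocallyOfFiniteType pX] [LocallyOfFiniteType pY] (f : X ⟶ Y) (hf : f ≫ pY = pX) :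
    Surjective f ↔ ∀ y : Spec (CommRingCat.of Ω) ⟶ Y,
      y ≫ pY = Spec.map (CommRingCat.ofHom (algebraMap K Ω)) →
        ∃ x : Spec (CommRingCat.of Ω) ⟶ X, x ≫ f = y := by
  exact main t ht pX pY f hf

end Groth.Agent.S4365
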