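import Groth.Statements.S4369
import Mathlib

set_option autoImplicit false
universe u
open AffSch

namespace Groth.Agent.S4369

/-- Let φ : A' -> A be a ring homomorphism such that every f in A can be written f = h φ(f') with h
invertible in A (this holds in particular when φ is surjective). Then the associated continuous map
Spec A -> Spec A' is a homeomorphism onto its image. -/
theorem result
    {A' A : Type u} [CommRing A'] [CommRing A] (φ : A' →+* A)
    (h : ∀ f : A, ∃ (u : Aˣ) (f' : A'), f = (u : A) * φ f') :
    Topology.IsEmbedding (PrimeSpectrum.comap φ) := by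
  have key : ∀ f : A, ∃ f' : A', PrimeSpectrum.basicOpen f = PrimeSpectrum.basicOpen (φ f') := fun f => by
    obtain ⟨u, f', hf⟩ := h f
    refine ⟨f', ?_⟩
    rw [hf, PrimeSpectrum.basicOpen_mul, show PrimeSpectrum.basicOpen (u : A) = ⊤ from TopologicalSpace.Opens.ext (Set.eq_univ_iff_forall.2 fun q hq => q.2.ne_top (Ideal.eq_top_of_isUnit_mem _ hq u.isUnit)), top_inf_eq]
  have hind : Topology.IsInducing (PrimeSpectrum.comap φ) := by
    refine ⟨le_antisymm (PrimeSpectrum.continuous_comap φ).le_induced ?_⟩
    refine le_of_le_of_eq (le_generateFrom ?_) (PrimeSpectrum.isTopologicalBasis_basic_opens (R := A)).eq_generateFrom.symm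
    rintro _ ⟨f, rfl⟩
    obtain ⟨f', hf⟩ := key f
    exact ⟨PrimeSpectrum.basicOpen f', (PrimeSpectrum.basicOpen f').2, by
      change _ = (PrimeSpectrum.basicOpen f : Set (PrimeSpectrum A))
      rw [hf]; rfl⟩
  exact ⟨hind, hind.injective⟩

end Groth.Agent.S4369
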