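import Groth.Statements.S4370
import Mathlib
import Groth.Agent.S2308

set_option autoImplicit false
universe u
open RedSep

set_option backward.isDefEq.respectTransparency false
namespace Groth.Agent.S4370

open AlgebraicGeometry in
open CategoryTheory in
/-- Let f : X -> Y be an open immersion and let g : X_red -> Y_red be the morphism of reduced schemes
induced by f, i.e. the morphism between the closed subschemes defined by the nilradicals whose
composite with the inclusion of Y_red in Y is the inclusion of X_red in X followed by f. Then g is
an open immersion. -/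
theorem result
    {X Y : Scheme.{u}} (f : X ⟶ Y) [IsOpenImmersion f]
    (g : X.nilradical.subscheme ⟶ Y.nilradical.subscheme)
    (hg : g ≫ Y.nilradical.subschemeι = X.nilradical.subschemeι ≫ f) :
    IsOpenImmersion g := by
  haveI : IsImmersion g := by
    haveI : IsImmersion (g ≫ Y.nilradical.subschemeι) := by rw [hg]; infer_instance
    exact IsImmersion.of_comp g Y.nilradical.subschemeι
  haveI : IsReduced Y.nilradical.subscheme := by
    rw [← Scheme.IdealSheafData.vanishingIdeal_top]
    exact Groth.Agent.DvrDom.isReduced_vanishingIdeal_subscheme _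
  have hsurj : ∀ x : X, ∃ z, X.nilradical.subschemeι z = x := fun x => by
    have : x ∈ (X.nilradical.support : Set X) := by rw [Scheme.support_nilradical]; trivial
    rw [← Scheme.IdealSheafData.range_subschemeι] at this
    exact this
  have hrange : Set.range g = Y.nilradical.subschemeι ⁻¹' Set.range f := by
    ext w
    constructor
    · rintro ⟨z, rfl⟩
      exact ⟨X.nilradical.subschemeι z, by rw [← Scheme.Hom.comp_apply, ← Scheme.Hom.comp_apply, hg]⟩
    · rintro ⟨x, hx⟩
      obtain ⟨z, rfl⟩ := hsurj x
      exact ⟨z, Y.nilradical.subschemeι.isClosedEmbedding.injective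
        (by rw [← Scheme.Hom.comp_apply, hg, Scheme.Hom.comp_apply]; exact hx)⟩
  let O : Y.nilradical.subscheme.Opens :=
    ⟨Set.range g, by rw [hrange]; exact f.isOpenEmbedding.isOpen_range.preimage Y.nilradical.subschemeι.continuous⟩
  have hsub : Set.range g ⊆ Set.range O.ι := by rw [Scheme.Opens.range_ι]; rfl
  let l := IsOpenImmersion.lift O.ι g hsub
  have hl : l ≫ O.ι = g := IsOpenImmersion.lift_fac _ _ _
  haveI : IsImmersion l := by
    haveI : IsImmersion (l ≫ O.ι) := by rw [hl]; infer_instance
    exact IsImmersion.of_comp l O.ι
  haveI : Surjective l := ⟨fun z => by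
    obtain ⟨y, hy⟩ := z.2
    refine ⟨y, O.ι.isOpenEmbedding.injective ?_⟩
    rw [← Scheme.Hom.comp_apply, hl]
    exact hy⟩
  haveI : IsClosedImmersion l :=
    IsClosedImmersion.of_isPreimmersion l (by rw [Set.range_eq_univ.2 l.surjective]; exact isClosed_univ)
  haveI : IsReduced (O : Scheme.{u}) := isReduced_of_isOpenImmersion O.ι
  haveI : IsIso l := isIso_of_isClosedImmersion_of_surjective l
  rw [← hl]; infer_instance

end Groth.Agent.S4370
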