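import Groth.Statements.S4371
import Mathlib
import Groth.Agent.RedSepPlane

set_option autoImplicit false
universe u
open RedSep

set_option backward.isDefEq.respectTransparency false
namespace Groth.Agent.S4371

open AlgebraicGeometry in
open CategoryTheory in
/-- Let K be a field and Y = Spec K[s, t] the affine plane over K. The open subset D(s) ∪ D(t) of Y, the
complement of the closed point s = t = 0, is not affine. -/
theorem result
    (K : Type u) [Field K] :
    ¬ IsAffineOpen (X := Spec (CommRingCat.of (MvPolynomial (Fin 2) K)))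
      (PrimeSpectrum.basicOpen (MvPolynomial.X 0 : MvPolynomial (Fin 2) K) ⊔
        PrimeSpectrum.basicOpen (MvPolynomial.X 1 : MvPolynomial (Fin 2) K)) := by
  intro hU
  let R := CommRingCat.of (MvPolynomial (Fin 2) K)
  let e : MvPolynomial (Fin 2) K ≃+* Γ(Spec R, ⊤) := (Scheme.ΓSpecIso R).symm.commRingCatIsoToRingEquiv
  have hne : Ideal.span ({e (MvPolynomial.X 0), e (MvPolynomial.X 1)} : Set Γ(Spec R, ⊤)) ≠ ⊤ := by
    intro h
    have h2 : Ideal.span ({e (MvPolynomial.X 0), e (MvPolynomial.X 1)} : Set Γ(Spec R, ⊤)) ≤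
        RingHom.ker ((MvPolynomial.constantCoeff (σ := Fin 2) (R := K)).comp e.symm.toRingHom) := by
      rw [Ideal.span_le]
      rintro _ (rfl | rfl) <;> simp
    rw [h] at h2
    exact RingHom.ker_ne_top _ (top_le_iff.1 h2)
  have hp : Prime (e (MvPolynomial.X 0)) := (MulEquiv.prime_iff e.toMulEquiv).2 (MvPolynomial.X_prime (i := 0))
  refine hne (Groth.Agent.RedSepPlane.span_eq_top_of_isAffineOpen hp (fun h => ?_) (fun h => ?_) ?_)
  · have h2 := map_dvd e.symm h
    simp at h2
  · simp at h
  · convert hU using 2 <;> exact basicOpen_eq_of_affine _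

end Groth.Agent.S4371
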