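import Groth.Statements.S4372
import Mathlib
import Groth.Agent.S2308

set_option autoImplicit false
universe u
open RedSep

set_option backward.isDefEq.respectTransparency false
namespace Groth.Agent.S4372

open AlgebraicGeometry in
open CategoryTheory in
/-- Let h : Z -> X be an immersion with Z reduced (a reduced subscheme of X), and let W be the reduced
closed subscheme of X whose underlying space is the closure of h(Z). Then Z is an open subscheme of
W: h factors as an open immersion Z -> W followed by the closed immersion W -> X. Stated as the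
existence of such a factorization through a reduced scheme W closed-immersed onto the closure of the
image. -/
theorem result
    {Z X : Scheme.{u}} (h : Z ⟶ X) [IsImmersion h] [IsReduced Z] :
    ∃ (W : Scheme.{u}) (j : Z ⟶ W) (i : W ⟶ X), IsOpenImmersion j ∧ IsClosedImmersion i ∧
      IsReduced W ∧ Set.range i = closure (Set.range h) ∧ j ≫ i = h := by
  let C : TopologicalSpace.Closeds X := ⟨closure (Set.range h), isClosed_closure⟩
  let J := Scheme.IdealSheafData.vanishingIdeal C
  haveI : IsReduced J.subscheme := Groth.Agent.DvrDom.isReduced_vanishingIdeal_subscheme C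
  have hker : J.subschemeι.ker ≤ h.ker := by
    rw [Scheme.IdealSheafData.ker_subschemeι]
    exact Groth.Agent.RedKer.vanishingIdeal_le_ker h C subset_closure
  let j := IsClosedImmersion.lift J.subschemeι h hker
  have hj : j ≫ J.subschemeι = h := IsClosedImmersion.lift_fac _ _ _
  have hrange : Set.range J.subschemeι = closure (Set.range h) := Scheme.IdealSheafData.range_subschemeι J
  have hrj : Set.range j = J.subschemeι ⁻¹' Set.range h := by
    ext z
    constructor
    · rintro ⟨y, rfl⟩
      exact ⟨y, by rw [← Scheme.Hom.comp_apply, hj]⟩
    · rintro ⟨y, hy⟩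
      exact ⟨y, J.subschemeι.isClosedEmbedding.injective (by rw [← Scheme.Hom.comp_apply, hj]; exact hy)⟩
  have hopen : IsOpen (Set.range j) := by
    rw [hrj, show J.subschemeι ⁻¹' Set.range h = J.subschemeι ⁻¹' coborder (Set.range h) from ?_]
    · exact h.isLocallyClosed_range.isOpen_coborder.preimage J.subschemeι.continuous
    · have h2 := coborder_inter_closure (s := Set.range h)
      ext z
      refine ⟨fun hz => (h2.symm ▸ hz : J.subschemeι z ∈ coborder (Set.range h) ∩ closure (Set.range h)).1, fun hz => ?_⟩
      show J.subschemeι z ∈ Set.range h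
      rw [← h2]
      exact ⟨hz, hrange ▸ ⟨z, rfl⟩⟩
  let O : J.subscheme.Opens := ⟨Set.range j, hopen⟩
  have hsub : Set.range j ⊆ Set.range O.ι := by rw [Scheme.Opens.range_ι]; rfl
  let l := IsOpenImmersion.lift O.ι j hsub
  have hl : l ≫ O.ι = j := IsOpenImmersion.lift_fac _ _ _
  haveI : IsImmersion j := by
    haveI : IsImmersion (j ≫ J.subschemeι) := by rw [hj]; infer_instance
    exact IsImmersion.of_comp j J.subschemeι
  haveI : IsImmersion l := by
    haveI : IsImmersion (l ≫ O.ι) := by rw [hl]; infer_instance
    exact IsImmersion.of_comp l O.ι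
  haveI : Surjective l := ⟨fun z => by
    obtain ⟨y, hy⟩ := z.2
    refine ⟨y, O.ι.isOpenEmbedding.injective ?_⟩
    rw [← Scheme.Hom.comp_apply, hl]
    exact hy⟩
  haveI : IsClosedImmersion l :=
    IsClosedImmersion.of_isPreimmersion l (by rw [Set.range_eq_univ.2 l.surjective]; exact isClosed_univ)
  haveI : IsReduced (O : Scheme.{u}) := isReduced_of_isOpenImmersion O.ι
  haveI : IsIso l := isIso_of_isClosedImmersion_of_surjective l
  haveI : IsOpenImmersion j := by rw [← hl]; infer_instance
  exact ⟨J.subscheme, j, J.subschemeι, inferInstance, inferInstance, inferInstance, hrange, hj⟩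

end Groth.Agent.S4372
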