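import Groth.Statements.S4374
import Groth.Agent.TMul.RelAmpleOps

set_option autoImplicit false
universe u
open CategoryTheory CategoryTheory.Limits AlgebraicGeometry
open EGA2

namespace Groth.Agent.S4374

/-- Let X be a quasi-compact scheme and L, L' two O_X-modules with L ⊗ L' ≅ O_X (so L' is an inverse of
L). If L and L' are both ample, then X is quasi-affine. -/
theorem result (X : Scheme.{u}) [CompactSpace X] (L L' : X.Modules)
    (hinv : ClSub.IsInverseOf L L') (hL : CohB1.IsAmple L) (hL' : CohB1.IsAmple L') : X.IsQuasiAffine := by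
  obtain ⟨e⟩ := hinv
  refine TMul.isQuasiAffine_of_isAmple (TMul.isAmple_congr e (TMul.isAmple_tensorMod hL hL'.1 fun x => ?_))
  obtain ⟨n, s, hx, -⟩ := hL'.2.2 x
  exact ⟨n, s, hx⟩

end Groth.Agent.S4374
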