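import Groth.Statements.S4378


set_option autoImplicit false
set_option backward.isDefEq.respectTransparency false
universe u
open CategoryTheory CategoryTheory.Limits AlgebraicGeometry
open EGA2

namespace Groth.Agent.S4378

/-- Let q : Y → S be separated and of finite type, and f : X → Y a morphism such that X is also
separated and of finite type over S through f ≫ q. Then f is proper if and only if for every scheme
S' over S the morphism X ×_S S' → Y ×_S S' induced by f is closed (as a map of topological spaces). -/
theorem result {X Y S : Scheme.{u}} (q : Y ⟶ S) (f : X ⟶ Y)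
    [IsSeparated q] [LocallyOfFiniteType q] [QuasiCompact q]
    [IsSeparated (f ≫ q)] [LocallyOfFiniteType (f ≫ q)] [QuasiCompact (f ≫ q)] :
    IsProper f ↔ ∀ (S' : Scheme.{u}) (g : S' ⟶ S),
      IsClosedMap (pullback.map (f ≫ q) g q g f (𝟙 S') (𝟙 S) (Category.comp_id (f ≫ q))
        ((Category.comp_id g).trans (Category.id_comp g).symm)).base := by
  constructor
  · intro hf S' g
    let F := CategoryTheory.Limits.pullback.map (f ≫ q) g q g f (𝟙 S') (𝟙 S) (Category.comp_id (f ≫ q))
          ((Category.comp_id g).trans (Category.id_comp g).symm)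
    have h1 : F ≫ CategoryTheory.Limits.pullback.snd q g = CategoryTheory.Limits.pullback.snd (f ≫ q) g := by
      simp [F]
    have hF : IsPullback (CategoryTheory.Limits.pullback.fst (f ≫ q) g) F f
        (CategoryTheory.Limits.pullback.fst q g) := by
      refine IsPullback.of_bot (v₂₁ := CategoryTheory.Limits.pullback.snd q g) (v₂₂ := q) (h₃₁ := g) ?_ ?_
        (IsPullback.of_hasPullback q g)
      · rw [h1]; exact IsPullback.of_hasPullback _ _
      · simp [F]
    exact UniversallyClosed.universally_isClosedMap (f := f) _ _ _ hF.flip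
  · intro h
    haveI : IsSeparated f := IsSeparated.of_comp f q
    haveI : LocallyOfFiniteType f := locallyOfFiniteType_of_comp f q
    haveI : QuasiCompact f := QuasiCompact.of_comp f q
    haveI : UniversallyClosed f := by
      refine ⟨MorphismProperty.universally_mk' _ _ fun {T} i₂ _ => ?_⟩
      let e := CategoryTheory.Limits.pullbackSymmetry i₂ f
      let k := e.hom ≫ CategoryTheory.Limits.pullback.mapDesc f i₂ q
      let F := CategoryTheory.Limits.pullback.map (f ≫ q) (i₂ ≫ q) q (i₂ ≫ q) f (𝟙 T) (𝟙 S)
        (Category.comp_id _) ((Category.comp_id _).trans (Category.id_comp _).symm)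
      let Γg : T ⟶ CategoryTheory.Limits.pullback q (i₂ ≫ q) :=
        CategoryTheory.Limits.pullback.lift i₂ (𝟙 _) (by simp)
      have hk : k ≫ F = CategoryTheory.Limits.pullback.fst i₂ f ≫ Γg := by
        apply CategoryTheory.Limits.pullback.hom_ext
        · simp [k, F, Γg, e, CategoryTheory.Limits.pullback.mapDesc, CategoryTheory.Limits.pullback.condition]
        · simp [k, F, Γg, e, CategoryTheory.Limits.pullback.mapDesc]
      have hinj : Function.Injective Γg.base := fun a b hab => by
        have h2 : Γg ≫ CategoryTheory.Limits.pullback.snd q (i₂ ≫ q) = 𝟙 T := by simp [Γg]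
        have := congrArg (CategoryTheory.Limits.pullback.snd q (i₂ ≫ q)).base hab
        rw [← Scheme.Hom.comp_apply, ← Scheme.Hom.comp_apply, h2] at this
        exact this
      intro C hC
      have h3 : (CategoryTheory.Limits.pullback.fst i₂ f).base '' C = Γg.base ⁻¹' (F.base '' (k.base '' C)) := by
        apply Set.eq_of_subset_of_subset
        · rintro _ ⟨c, hc, rfl⟩
          refine ⟨k.base c, ⟨c, hc, rfl⟩, ?_⟩
          rw [← Scheme.Hom.comp_apply, hk]; rfl
        · rintro t ⟨_, ⟨c, hc, rfl⟩, hct⟩
          refine ⟨c, hc, hinj ?_⟩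
          rw [← hct, ← Scheme.Hom.comp_apply k F, hk]; rfl
      rw [h3]
      exact ((h T (i₂ ≫ q)) _ (k.isClosedEmbedding.isClosedMap _ hC)).preimage Γg.continuous
    exact { }

end Groth.Agent.S4378
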