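import Groth.Statements.S4380
import Groth.Agent.TMul.RelAmpleOps

set_option autoImplicit false
universe u
open CategoryTheory CategoryTheory.Limits AlgebraicGeometry
open EGA2

namespace Groth.Agent.S4380

/-- Let f : X → Y be a quasi-compact morphism, L an O_X-module and (U_i) a cover of Y by open subsets.
Then L is ample relative to f if and only if, for every i, the restriction of L to f⁻¹(U_i) is ample
relative to the restriction f⁻¹(U_i) → U_i of f. -/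
theorem result {X Y : Scheme.{u}} (f : X ⟶ Y) [QuasiCompact f] (L : X.Modules)
    {ι : Type u} (U : ι → Y.Opens) (hU : ⨆ i, U i = ⊤) :
    RelAmple.IsRelAmple f L ↔ ∀ i, RelAmple.IsRelAmple (f ∣_ (U i)) (L.restrict (f ⁻¹ᵁ (U i)).ι) := by
  have hr : ∀ (i : ι) (V : (U i : Scheme.{u}).Opens),
      (((f ∣_ U i) ⁻¹ᵁ V).ι ≫ (f ⁻¹ᵁ U i).ι).opensRange = f ⁻¹ᵁ ((U i).ι ''ᵁ V) := fun i V => by
    rw [Scheme.Hom.opensRange_comp, Scheme.Opens.opensRange_ι]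
    exact image_morphismRestrict_preimage f (U i) V
  constructor
  · intro h i
    refine ⟨inferInstance, fun V => ?_⟩
    obtain ⟨e⟩ := TMul.nonempty_restrictRestrictIso (f ⁻¹ᵁ U i).ι ((f ∣_ U i) ⁻¹ᵁ V.1).ι _ rfl L
    exact TMul.isAmple_congr e.symm ((TMul.isAmple_range_iff _ (hr i V.1)).mp
      (h.2 ⟨_, V.2.image_of_isOpenImmersion (U i).ι⟩))
  · intro h
    have hy : ∀ y : Y, ∃ i, y ∈ U i := fun y =>
      TopologicalSpace.Opens.mem_iSup.mp (hU.ge (show y ∈ (⊤ : Y.Opens) from trivial))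
    refine TMul.isRelAmple_of_exists (fun x => ?_) fun y => ?_
    · obtain ⟨i, hi⟩ := hy (f.base x)
      obtain ⟨W, hxW, ⟨φ⟩⟩ := TMul.isInvertible_of_isRelAmple (h i) ⟨x, hi⟩
      obtain ⟨e⟩ := TMul.nonempty_restrictRestrictIso (f ⁻¹ᵁ U i).ι W.ι _ rfl L
      let k := IsOpenImmersion.isoOfRangeEq ((f ⁻¹ᵁ U i).ι ''ᵁ W).ι (W.ι ≫ (f ⁻¹ᵁ U i).ι)
        (by simp [Scheme.Hom.comp_base, Set.range_comp])
      obtain ⟨e'⟩ := TMul.nonempty_restrictRestrictIso (W.ι ≫ (f ⁻¹ᵁ U i).ι) k.hom _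
        (IsOpenImmersion.isoOfRangeEq_hom_fac _ _ _) L
      exact ⟨(f ⁻¹ᵁ U i).ι ''ᵁ W, ⟨_, hxW, rfl⟩, ⟨e'.symm ≪≫
        (Scheme.Modules.restrictFunctor k.hom).mapIso (e.symm ≪≫ φ) ≪≫
        Scheme.Modules.restrictUnitIso k.hom⟩⟩
    · obtain ⟨i, hi⟩ := hy y
      obtain ⟨V, hV, hyV, -⟩ := exists_isAffineOpen_mem_and_subset
        (X := (U i : Scheme.{u})) (x := ⟨y, hi⟩) (U := ⊤) trivial
      refine ⟨(U i).ι ''ᵁ V, ⟨_, hyV, rfl⟩, (TMul.isAmple_range_iff _ (hr i V)).mpr ?_⟩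
      obtain ⟨e⟩ := TMul.nonempty_restrictRestrictIso (f ⁻¹ᵁ U i).ι ((f ∣_ U i) ⁻¹ᵁ V).ι _ rfl L
      exact TMul.isAmple_congr e ((h i).2 ⟨V, hV⟩)

end Groth.Agent.S4380
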