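import Groth.Statements.S4383
import Groth.Agent.TMul.RelAmpleCrit
-- import your own Groth.Agent.* helpers here

set_option autoImplicit false
universe u
open CategoryTheory CategoryTheory.Limits AlgebraicGeometry
open EGA2

namespace Groth.Agent.S4383

/-- Let X be a quasi-compact separated scheme, f : X → Y a separated quasi-compact morphism and L an
invertible O_X-module. Suppose that for every quasi-coherent submodule J of O_X of finite type there
is n > 0 such that the canonical morphism f^*(f_*(J ⊗ L^{⊗n})) → J ⊗ L^{⊗n} is an epimorphism. Then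
L is ample relative to f. (The published statement also allows X to be a scheme whose underlying
space is Noetherian; this row assumes X quasi-compact and separated.) -/
theorem result {X Y : Scheme.{u}} [CompactSpace X] [X.IsSeparated] (f : X ⟶ Y)
    [IsSeparated f] [QuasiCompact f] (L : X.Modules) (hL : PicF.IsInvertible L)
    (h : ∀ (J : X.Modules) (i : J ⟶ Coh.structureModule X), Mono i → Coh.IsQCoh J → CohB1.IsFT J →
      ∃ n : ℕ, 0 < n ∧
        Epi ((Scheme.Modules.pullbackPushforwardAdjunction f).counit.app (CohB1.tensorMod J (CohB1.tensorPow L n)))) :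
    RelAmple.IsRelAmple f L := by
  refine ⟨inferInstance, fun V => ?_⟩
  refine TMul.isAmple_restrict_of_secGen hL _ (f.isCompact_preimage V.2.isCompact)
    fun J i hi hq hft => ?_
  obtain ⟨n, hn, hepi⟩ := h J i hi hq hft
  have : J.IsQuasicoherent := hq
  have hqt : Coh.IsQCoh (CohB1.tensorMod J (CohB1.tensorPow L n)) :=
    TMul.isQCoh_tensor (TMul.isInvertible_tensorPow hL n)
  have : (CohB1.tensorMod J (CohB1.tensorPow L n)).IsQuasicoherent := hqt
  exact ⟨n, hn, TMul.secGen_of_epi_counit f hepi V⟩

end Groth.Agent.S4383
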