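import Groth.Statements.S4395
import Mathlib

set_option linter.style.haveILetI false

set_option autoImplicit false
universe u
open EGA2

namespace Groth.Agent.S4395

/-- Let S be a ring graded in nonnegative degrees, n₀ > 0 an integer and, for every n ≥ n₀, p_n an
additive subgroup of S_n. Then there is a graded prime ideal p of S not containing S_+ with p ∩ S_n
= p_n for all n ≥ n₀ if and only if: (1) S_m p_n ⊆ p_{m+n} for all m ≥ 0 and n ≥ n₀; (2) for m ≥ n₀,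
n ≥ n₀, f ∈ S_m, g ∈ S_n, fg ∈ p_{m+n} implies f ∈ p_m or g ∈ p_n; (3) p_n ≠ S_n for at least one n
≥ n₀. Moreover such a graded prime ideal is unique. -/
theorem result {R A : Type u} [CommRing R] [CommRing A] [Algebra R A] (𝒜 : ℕ → Submodule R A) [GradedAlgebra 𝒜]
    (n₀ : ℕ) (hn₀ : 0 < n₀) (p : ℕ → AddSubgroup A) (hp : ∀ n : ℕ, n₀ ≤ n → (p n : Set A) ⊆ 𝒜 n) :
    ((∃ 𝔭 : HomogeneousIdeal 𝒜, 𝔭.toIdeal.IsPrime ∧ ¬ HomogeneousIdeal.irrelevant 𝒜 ≤ 𝔭 ∧
        ∀ n : ℕ, n₀ ≤ n → (𝔭.toIdeal : Set A) ∩ 𝒜 n = p n) ↔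
      ((∀ m n : ℕ, n₀ ≤ n → ∀ a ∈ 𝒜 m, ∀ b ∈ p n, a * b ∈ p (m + n)) ∧
        (∀ m n : ℕ, n₀ ≤ m → n₀ ≤ n → ∀ f ∈ 𝒜 m, ∀ g ∈ 𝒜 n, f * g ∈ p (m + n) → f ∈ p m ∨ g ∈ p n) ∧
        ∃ n : ℕ, n₀ ≤ n ∧ (p n : Set A) ≠ 𝒜 n)) ∧
    ∀ 𝔭 𝔮 : HomogeneousIdeal 𝒜, 𝔭.toIdeal.IsPrime → 𝔮.toIdeal.IsPrime →
      ¬ HomogeneousIdeal.irrelevant 𝒜 ≤ 𝔭 → ¬ HomogeneousIdeal.irrelevant 𝒜 ≤ 𝔮 →
      (∀ n : ℕ, n₀ ≤ n → (𝔭.toIdeal : Set A) ∩ 𝒜 n = p n) → (∀ n : ℕ, n₀ ≤ n → (𝔮.toIdeal : Set A) ∩ 𝒜 n = p n) →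
      𝔭 = 𝔮 := by
  classical
  have pick : ∀ 𝔭 : HomogeneousIdeal 𝒜, 𝔭.toIdeal.IsPrime → ¬ HomogeneousIdeal.irrelevant 𝒜 ≤ 𝔭 →
      ∃ n, n₀ ≤ n ∧ ∃ f ∈ 𝒜 n, f ∉ 𝔭.toIdeal := by
    intro 𝔭 hP hirr
    by_contra hne
    simp only [not_exists, not_and, not_not] at hne
    refine hirr fun a ha => ?_
    rw [← DirectSum.sum_support_decompose 𝒜 a]
    refine Ideal.sum_mem _ fun i _ => ?_
    rcases Nat.eq_zero_or_pos i with rfl | hi
    · have h0 := (HomogeneousIdeal.mem_irrelevant_iff _ _).1 ha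
      rw [GradedRing.proj_apply] at h0
      rw [h0]; exact zero_mem _
    · refine hP.mem_of_pow_mem n₀ (hne (n₀ • i) ?_ _ (SetLike.pow_mem_graded n₀ (DirectSum.decompose 𝒜 a i).2))
      rw [smul_eq_mul]; exact Nat.le_mul_of_pos_right _ hi
  constructor
  constructor
  · rintro ⟨𝔭, hP, hirr, heq⟩
    have hmem : ∀ n, n₀ ≤ n → ∀ a, a ∈ p n ↔ a ∈ 𝔭.toIdeal ∧ a ∈ 𝒜 n := fun n hn a => by
      rw [← SetLike.mem_coe, ← heq n hn]; rfl
    refine ⟨fun m n hn a ha b hb => ?_, fun m n hm hn a ha b hb hab => ?_, ?_⟩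
    · exact (hmem (m + n) (hn.trans (Nat.le_add_left n m)) _).2
        ⟨Ideal.mul_mem_left _ a ((hmem n hn b).1 hb).1, SetLike.mul_mem_graded ha ((hmem n hn b).1 hb).2⟩
    · exact (hP.mem_or_mem ((hmem (m + n) (hm.trans (Nat.le_add_right m n)) _).1 hab).1).imp
        (fun h => (hmem m hm a).2 ⟨h, ha⟩) (fun h => (hmem n hn b).2 ⟨h, hb⟩)
    · obtain ⟨n, hn, f, hf, hfP⟩ := pick 𝔭 hP hirr
      exact ⟨n, hn, fun h => hfP ((hmem n hn f).1 (h.ge hf)).1⟩
  · rintro ⟨h1, h2, n1, hn1, hne⟩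
    obtain ⟨f, hf, hfp⟩ : ∃ f ∈ 𝒜 n1, f ∉ p n1 := by
      by_contra h
      simp only [not_exists, not_and, not_not] at h
      exact hne (Set.Subset.antisymm (hp n1 hn1) fun a ha => h a ha)
    have hpow : ∀ k, f ^ (k + 1) ∉ p ((k + 1) * n1) := by
      intro k
      induction k with
      | zero => simpa using hfp
      | succ k ih =>
        intro h
        rw [pow_succ, Nat.succ_mul] at h
        have hk : f ^ (k + 1) ∈ 𝒜 ((k + 1) * n1) := by
          have := SetLike.pow_mem_graded (k + 1) hf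
          rwa [smul_eq_mul] at this
        exact (h2 _ _ (hn1.trans (Nat.le_mul_of_pos_left _ k.succ_pos)) hn1 _ hk _ hf h).elim ih hfp
    obtain ⟨g, N, hN, hg, hgp⟩ : ∃ (g : A) (N : ℕ), n₀ ≤ N ∧ g ∈ 𝒜 N ∧ g ∉ p N := ⟨f, n1, hn1, hf, hfp⟩
    have hlow : ∀ m a, a ∈ 𝒜 m → n₀ ≤ m → (g * a ∈ p (N + m) ↔ a ∈ p m) := fun m a ha hm =>
      ⟨fun h => (h2 N m hN hm g hg a ha h).resolve_left hgp, fun h => h1 N m hm g hg a h⟩
    let P : Ideal A :=
      { carrier := {a | ∀ i, g * (DirectSum.decompose 𝒜 a i : A) ∈ p (N + i)}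
        zero_mem' := fun i => by simp
        add_mem' := fun {a b} ha hb i => by
          rw [DirectSum.decompose_add, DirectSum.add_apply, Submodule.coe_add, mul_add]
          exact add_mem (ha i) (hb i)
        smul_mem' := fun b a ha i => by
          rw [smul_eq_mul]
          induction b using DirectSum.Decomposition.inductionOn 𝒜 generalizing i with
          | zero => simp
          | @homogeneous m b =>
            rcases le_or_gt m i with hmi | hmi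
            · rw [DirectSum.coe_decompose_mul_of_left_mem_of_le 𝒜 b.2 hmi]
              have := h1 m (N + (i - m)) (hN.trans (Nat.le_add_right _ _)) b b.2 _ (ha (i - m))
              rw [mul_left_comm] at this
              convert! this using 2
              omega
            · rw [DirectSum.coe_decompose_mul_of_left_mem_of_not_le 𝒜 b.2 (not_le.2 hmi), mul_zero]
              exact zero_mem _
          | add b b' hb hb' =>
            rw [add_mul, DirectSum.decompose_add, DirectSum.add_apply, Submodule.coe_add, mul_add]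
            exact add_mem (hb i) (hb' i) }
    have hmemP : ∀ m a, a ∈ 𝒜 m → (a ∈ P ↔ g * a ∈ p (N + m)) := fun m a ha => by
      refine ⟨fun h => by simpa [DirectSum.decompose_of_mem_same 𝒜 ha] using h m, fun h i => ?_⟩
      by_cases hi : m = i
      · subst hi; rwa [DirectSum.decompose_of_mem_same 𝒜 ha]
      · rw [DirectSum.decompose_of_mem_ne 𝒜 ha hi, mul_zero]; exact zero_mem _
    have hhom : P.IsHomogeneous 𝒜 := fun i a ha => by
      refine (hmemP i _ (DirectSum.decompose 𝒜 a i).2).2 (ha i)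
    have hgP : g ∉ P := fun h => hgp ((hlow N g hg hN).1 ((hmemP N g hg).1 h))
    refine ⟨⟨P, hhom⟩, ?_, ?_, fun n hn => ?_⟩
    · refine Ideal.IsHomogeneous.isPrime_of_homogeneous_mem_or_mem hhom (fun h => hgP (by simpa using P.mul_mem_left g ((Ideal.eq_top_iff_one P).1 h))) ?_
      rintro a b ⟨m, ha⟩ ⟨n, hb⟩ hab
      rw [hmemP _ _ (SetLike.mul_mem_graded ha hb)] at hab
      have h3 := h1 N (N + (m + n)) (hN.trans (Nat.le_add_right _ _)) g hg _ hab
      rw [show g * (g * (a * b)) = (g * a) * (g * b) by ring, show N + (N + (m + n)) = (N + m) + (N + n) by ring] at h3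
      exact (h2 _ _ (hN.trans (Nat.le_add_right _ _)) (hN.trans (Nat.le_add_right _ _)) _
        (SetLike.mul_mem_graded hg ha) _ (SetLike.mul_mem_graded hg hb) h3).imp (hmemP m a ha).2 (hmemP n b hb).2
    · intro h
      refine hgP (h ((HomogeneousIdeal.mem_irrelevant_iff _ _).2 ?_))
      rw [GradedRing.proj_apply, DirectSum.decompose_of_mem_ne 𝒜 hg (by omega)]
    · ext a
      exact ⟨fun ⟨h, ha⟩ => (hlow n a ha hn).1 ((hmemP n a ha).1 h),
        fun h => ⟨(hmemP n a (hp n hn h)).2 ((hlow n a (hp n hn h) hn).2 h), hp n hn h⟩⟩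
  · intro 𝔭 𝔮 hP hQ hirrP _ heP heQ
    obtain ⟨N, hN, g, hg, hgP⟩ := pick 𝔭 hP hirrP
    have hiff : ∀ n, n₀ ≤ n → ∀ a ∈ 𝒜 n, a ∈ 𝔭.toIdeal ↔ a ∈ 𝔮.toIdeal := fun n hn a ha => by
      constructor
      · exact fun h => ((heQ n hn).ge ((heP n hn).le ⟨h, ha⟩)).1
      · exact fun h => ((heP n hn).ge ((heQ n hn).le ⟨h, ha⟩)).1
    have hgQ : g ∉ 𝔮.toIdeal := fun h => hgP ((hiff N hN g hg).2 h)
    have key : ∀ m a, a ∈ 𝒜 m → (a ∈ 𝔭.toIdeal ↔ a ∈ 𝔮.toIdeal) := fun m a ha => by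
      have := hiff (N + m) (hN.trans (Nat.le_add_right _ _)) (g * a) (SetLike.mul_mem_graded hg ha)
      rwa [hP.mul_mem_iff_mem_or_mem, hQ.mul_mem_iff_mem_or_mem, or_iff_right hgP, or_iff_right hgQ] at this
    refine HomogeneousIdeal.ext (Ideal.ext fun a => ?_)
    constructor <;> intro h <;> rw [← DirectSum.sum_support_decompose 𝒜 a] <;>
      refine Ideal.sum_mem _ fun i _ => ?_
    · exact (key i _ (DirectSum.decompose 𝒜 a i).2).1 (𝔭.isHomogeneous i h)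
    · exact (key i _ (DirectSum.decompose 𝒜 a i).2).2 (𝔮.isHomogeneous i h)

end Groth.Agent.S4395
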