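import Groth.Statements.S4396
-- import your own Groth.Agent.* helpers here

set_option autoImplicit false
universe u
open AlgebraicGeometry
open EGA2

namespace Groth.Agent.S4396

/-- Let S be a ring graded in nonnegative degrees, d > 0, and S^{(d)} the graded ring whose degree-n
part is S_{nd} (given here as any graded ring S' with an injective algebra homomorphism φ : S' → S
carrying S'_n onto S_{nd} for every n); let f' ∈ S'_1, with image f = φ(f') ∈ S_d. Then there is a
ring isomorphism between the degree-zero homogeneous localization S_(f) and the quotient S'/(f' -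
1)S', whose inverse sends the class of an element x of S'_n to the fraction φ(x)/f^n. (The module
part of the published statement is not stated here.) -/
theorem result {R A : Type u} [CommRing R] [CommRing A] [Algebra R A] (𝒜 : ℕ → Submodule R A) [GradedAlgebra 𝒜]
    {B : Type u} [CommRing B] [Algebra R B] (ℬ : ℕ → Submodule R B) [GradedAlgebra ℬ]
    (d : ℕ) (hd : 0 < d) (φ : B →ₐ[R] A) (hφ : Function.Injective φ)
    (hdeg : ∀ n : ℕ, Submodule.map φ.toLinearMap (ℬ n) = 𝒜 (n * d)) (f' : B) (hf' : f' ∈ ℬ 1) :
    ∃ e : HomogeneousLocalization.Away 𝒜 (φ f') ≃+* B ⧸ Ideal.span {f' - 1},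
      ∀ (n : ℕ) (x : B), x ∈ ℬ n →
        (e.symm (Ideal.Quotient.mk (Ideal.span {f' - 1}) x)).val =
          Localization.mk (φ x) ⟨φ f' ^ n, pow_mem (Submonoid.mem_powers (φ f')) n⟩ := by
  classical
  set f := φ f' with hfdef
  have hmem : ∀ {n : ℕ} {x : B}, x ∈ ℬ n → φ x ∈ 𝒜 (n • d) := fun {n x} hx =>
    (hdeg n).le ⟨x, hx, rfl⟩
  have hf : f ∈ 𝒜 d := by simpa using hmem hf'
  let c : ∀ n, ℬ n →+ HomogeneousLocalization.Away 𝒜 f := fun n =>
    { toFun := fun x => HomogeneousLocalization.Away.mk 𝒜 hf n (φ x) (hmem x.2)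
      map_zero' := HomogeneousLocalization.val_injective _ (by
        simp [Localization.mk_zero])
      map_add' := fun x y => HomogeneousLocalization.val_injective _ (by
        rw [HomogeneousLocalization.val_add]
        simp only [HomogeneousLocalization.Away.val_mk]
        rw [Localization.add_mk_self]
        simp) }
  have hc : ∀ (n : ℕ) (x : ℬ n), (c n x).val =
      Localization.mk (φ x) (⟨f ^ n, pow_mem (Submonoid.mem_powers f) n⟩ : Submonoid.powers f) :=
    fun n x => rfl
  let ψ : B →+* HomogeneousLocalization.Away 𝒜 f :=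
    (DirectSum.toSemiring c
      (HomogeneousLocalization.val_injective _ (by
        rw [hc, HomogeneousLocalization.val_one, ← Localization.mk_one]
        congr 1
        · exact map_one φ
        · exact Subtype.ext (pow_zero f)))
      (fun {i j} x y => HomogeneousLocalization.val_injective _ (by
        rw [HomogeneousLocalization.val_mul, hc, hc, hc, Localization.mk_mul]
        congr 1
        · exact map_mul φ _ _
        · exact Subtype.ext (pow_add f i j)))).comp (DirectSum.decomposeRingEquiv ℬ).toRingHom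
  have hψ : ∀ {n : ℕ} {x : B} (hx : x ∈ ℬ n), ψ x = c n ⟨x, hx⟩ := fun {n x} hx => by
    simp only [ψ, RingHom.comp_apply]
    rw [show (DirectSum.decomposeRingEquiv ℬ).toRingHom x = DirectSum.of (fun i => ℬ i) n ⟨x, hx⟩ from
      DirectSum.decompose_of_mem ℬ hx]
    exact DirectSum.toSemiring_of _ _ _ n _
  have h1 : ψ f' = 1 := HomogeneousLocalization.val_injective _ (by
    rw [hψ hf', hc, HomogeneousLocalization.val_one]
    exact (Localization.mk_eq_mk_iff (S := Submonoid.powers f)).mpr
      (Localization.r_iff_exists.mpr ⟨1, by simp [hfdef]⟩) |>.trans Localization.mk_one)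
  let q := Ideal.span {f' - 1}
  have hq : q ≤ RingHom.ker ψ := by
    rw [Ideal.span_le, Set.singleton_subset_iff, SetLike.mem_coe, RingHom.mem_ker, map_sub, h1,
      map_one, sub_self]
  let Ψ : B ⧸ q →+* HomogeneousLocalization.Away 𝒜 f := Ideal.Quotient.lift q ψ fun x hx => hq hx
  have hpow : ∀ k : ℕ, Ideal.Quotient.mk q (f' ^ k) = 1 := fun k => by
    rw [map_pow, show Ideal.Quotient.mk q f' = 1 by
      rw [← map_one (Ideal.Quotient.mk q), Ideal.Quotient.eq]
      exact Ideal.subset_span rfl, one_pow]
  have hsurj : Function.Surjective Ψ := fun z => by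
    obtain ⟨n, a, ha, rfl⟩ := HomogeneousLocalization.Away.mk_surjective 𝒜 hf z
    obtain ⟨x, hx, rfl⟩ : a ∈ Submodule.map φ.toLinearMap (ℬ n) := (hdeg n).ge ha
    exact ⟨Ideal.Quotient.mk q x, (Ideal.Quotient.lift_mk _ _ _).trans (hψ hx)⟩
  have hinj : Function.Injective Ψ := by
    rw [injective_iff_map_eq_zero]
    intro z hz
    obtain ⟨x, rfl⟩ := Ideal.Quotient.mk_surjective z
    simp only [Ψ, Ideal.Quotient.lift_mk] at hz
    set S := (DirectSum.decompose ℬ x).support
    let N := S.sup id
    let y : B := ∑ i ∈ S, f' ^ (N - i) * (DirectSum.decompose ℬ x i : B)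
    have hy : y ∈ ℬ N := Submodule.sum_mem _ fun i hi => by
      have h2 : f' ^ (N - i) ∈ ℬ (N - i) := by simpa using SetLike.pow_mem_graded (N - i) hf'
      have := SetLike.GradedMul.mul_mem h2 (DirectSum.decompose ℬ x i).2
      rwa [Nat.sub_add_cancel (show i ≤ N from Finset.le_sup (f := id) hi)] at this
    have hxy : Ideal.Quotient.mk q x = Ideal.Quotient.mk q y := by
      conv_lhs => rw [← DirectSum.sum_support_decompose ℬ x]
      rw [map_sum, map_sum]
      exact Finset.sum_congr rfl fun i _ => by rw [map_mul, hpow, one_mul]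
    have h0 : ψ y = 0 := by
      have := congrArg Ψ hxy
      simp only [Ψ, Ideal.Quotient.lift_mk, hz] at this
      exact this.symm
    have h3 : (Localization.mk (φ y) (⟨f ^ N, pow_mem (Submonoid.mem_powers f) N⟩ :
        Submonoid.powers f)) = 0 := by
      have := congrArg HomogeneousLocalization.val h0
      rwa [hψ hy, hc, HomogeneousLocalization.val_zero] at this
    rw [Localization.mk_eq_mk', IsLocalization.mk'_eq_zero_iff] at h3
    obtain ⟨⟨_, m, rfl⟩, hm⟩ := h3
    have h4 : f' ^ m * y = 0 := hφ (by rw [map_mul, map_pow, map_zero]; exact hm)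
    rw [hxy, ← one_mul (Ideal.Quotient.mk q y), ← hpow m, ← map_mul, h4, map_zero]
  refine ⟨(RingEquiv.ofBijective Ψ ⟨hinj, hsurj⟩).symm, fun n x hx => ?_⟩
  rw [RingEquiv.symm_symm]
  change (ψ x).val = _
  rw [hψ hx, hc]


end Groth.Agent.S4396
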