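import Groth.Statements.S4398
import Groth.Agent.ProjLib.ClosedSub

set_option autoImplicit false
set_option backward.isDefEq.respectTransparency false
universe u
open AlgebraicGeometry
open EGA2

namespace Groth.Agent.S4398

/-- Let φ : S' → S be a homomorphism of rings graded in nonnegative degrees which maps S'_n bijectively
onto S_n for every n > 0, so that S_+ lies in the ideal generated by φ(S'_+) (stated as a hypothesis
because the induced morphism is built from it). Then the induced morphism Proj S → Proj S' is an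
isomorphism of schemes. (The published statement treats the cases S'_0 = ℤ and S'_0 = A with S'_n =
S_n for n > 0; this row allows any graded φ that is bijective in positive degrees.) -/
theorem result {R A : Type u} [CommRing R] [CommRing A] [Algebra R A] (𝒜 : ℕ → Submodule R A) [GradedAlgebra 𝒜]
    {B : Type u} [CommRing B] [Algebra R B] (ℬ : ℕ → Submodule R B) [GradedAlgebra ℬ]
    (φ : ℬ →+*ᵍ 𝒜) (hbij : ∀ n : ℕ, 0 < n → Set.BijOn φ (ℬ n) (𝒜 n))
    (hφ : HomogeneousIdeal.irrelevant 𝒜 ≤ (HomogeneousIdeal.irrelevant ℬ).map φ) :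
    CategoryTheory.IsIso (Proj.map φ hφ) := by
  refine (IsZariskiLocalAtTarget.iff_of_openCover (P := CategoryTheory.MorphismProperty.isomorphisms _)
    (Proj.affineOpenCover ℬ).openCover).mpr fun s => ?_
  have hb : Function.Bijective (HomogeneousLocalization.Away.map φ (s.2 : B) :
      HomogeneousLocalization.Away ℬ (s.2 : B) → HomogeneousLocalization.Away 𝒜 (φ (s.2 : B))) := by
    constructor
    · rw [injective_iff_map_eq_zero]
      intro z hz
      obtain ⟨n, a, ha, rfl⟩ := HomogeneousLocalization.Away.mk_surjective ℬ s.2.2 z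
      obtain ⟨k, hk⟩ := (ProjLib.away_map_mk_eq_zero_iff ℬ φ s.2.2 n a ha).mp hz
      have hpos : (0 : ℕ) < ((k + 1) • (s.1 : ℕ) + n • (s.1 : ℕ)) := by
        have := s.1.2; rw [smul_eq_mul]; positivity
      have hmem : (s.2 : B) ^ (k + 1) * a ∈ ℬ ((k + 1) • (s.1 : ℕ) + n • (s.1 : ℕ)) :=
        SetLike.mul_mem_graded (SetLike.pow_mem_graded _ s.2.2) ha
      have h0 : (s.2 : B) ^ (k + 1) * a = 0 := (hbij _ hpos).injOn hmem (zero_mem _) (by
        rw [map_zero, pow_succ', mul_assoc, map_mul, hk, mul_zero])
      refine HomogeneousLocalization.val_injective _ ?_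
      rw [HomogeneousLocalization.Away.val_mk, HomogeneousLocalization.val_zero,
        Localization.mk_eq_mk', IsLocalization.mk'_eq_zero_iff]
      exact ⟨⟨_, k + 1, rfl⟩, h0⟩
    · intro z
      obtain ⟨n, b, hb, rfl⟩ := HomogeneousLocalization.Away.mk_surjective 𝒜 (Graded.map_mem φ s.2.2) z
      have hpos : (0 : ℕ) < (n + 1) • (s.1 : ℕ) := by
        have := s.1.2; rw [smul_eq_mul]; positivity
      have hmem : φ (s.2 : B) * b ∈ 𝒜 ((n + 1) • (s.1 : ℕ)) := by
        rw [add_smul, one_smul, add_comm]
        exact SetLike.mul_mem_graded (Graded.map_mem φ s.2.2) hb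
      obtain ⟨a, ha, hab⟩ := (hbij _ hpos).surjOn hmem
      refine ⟨HomogeneousLocalization.Away.mk ℬ s.2.2 (n + 1) a ha, ?_⟩
      rw [HomogeneousLocalization.Away.map_mk]
      refine HomogeneousLocalization.val_injective _ ?_
      simp only [HomogeneousLocalization.Away.val_mk, Localization.mk_eq_mk', IsLocalization.mk'_eq_iff_eq]
      congr 1
      rw [hab]
      ring
  haveI : CategoryTheory.IsIso (CommRingCat.ofHom (HomogeneousLocalization.Away.map φ (s.2 : B))) :=
    (CategoryTheory.ConcreteCategory.isIso_iff_bijective _).mpr hb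
  have H := ProjLib.isPullback_awayι ℬ φ hφ s.2.2 s.1.2
  show CategoryTheory.IsIso (CategoryTheory.Limits.pullback.snd _ _)
  erw [← H.flip.isoPullback_inv_snd]
  infer_instance

end Groth.Agent.S4398
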