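import Groth.Statements.S4404
import Mathlib

set_option autoImplicit false
universe u
open EGA2

namespace Groth.Agent.S4404

/-- (a) ⇔ (b): let S be a ring graded in nonnegative degrees and E a subset of the irrelevant ideal S_+.
Then V_+(E) is the whole of Proj S if and only if every element of E is nilpotent. -/
theorem result {R A : Type u} [CommRing R] [CommRing A] [Algebra R A] (𝒜 : ℕ → Submodule R A) [GradedAlgebra 𝒜]
    (E : Set A) (hE : E ⊆ (HomogeneousIdeal.irrelevant 𝒜).toIdeal) :
    ProjectiveSpectrum.zeroLocus 𝒜 E = Set.univ ↔ ∀ e ∈ E, IsNilpotent e := by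
  constructor
  · intro h e he
    rw [← mem_nilradical, nilradical_eq_sInf]
    refine Submodule.mem_sInf.2 fun (P : Ideal A) hP => ?_
    have hP' : P.IsPrime := hP
    let Q := P.homogeneousCore 𝒜
    refine Ideal.toIdeal_homogeneousCore_le 𝒜 P ?_
    by_cases hQ : HomogeneousIdeal.irrelevant 𝒜 ≤ Q
    · exact hQ (hE he)
    · exact (h.ge (Set.mem_univ (⟨Q, hP'.homogeneousCore, hQ⟩ : ProjectiveSpectrum 𝒜))) he
  · intro h
    refine Set.eq_univ_of_forall fun p e he => ?_
    obtain ⟨n, hn⟩ := h e he
    exact p.isPrime.mem_of_pow_mem n (by rw [hn]; exact Ideal.zero_mem _)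

end Groth.Agent.S4404
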