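import Groth.Statements.S4405
import Mathlib

set_option autoImplicit false
set_option backward.isDefEq.respectTransparency false
universe u
open EGA2

namespace Groth.Agent.S4405

/-- Let S be a ring graded in nonnegative degrees and E any subset of the irrelevant ideal S_+. Then the
intersection of S_+ with the vanishing ideal of the closed subset V_+(E) of Proj S equals the
intersection of S_+ with the radical of the graded ideal generated by E (the smallest homogeneous
ideal containing E). -/
theorem result {R A : Type u} [CommRing R] [CommRing A] [Algebra R A] (𝒜 : ℕ → Submodule R A) [GradedAlgebra 𝒜]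
    (E : Set A) (hE : E ⊆ (HomogeneousIdeal.irrelevant 𝒜).toIdeal) :
    (HomogeneousIdeal.irrelevant 𝒜).toIdeal ⊓
        (ProjectiveSpectrum.vanishingIdeal (ProjectiveSpectrum.zeroLocus 𝒜 E)).toIdeal =
      (HomogeneousIdeal.irrelevant 𝒜).toIdeal ⊓ (Ideal.homogeneousHull 𝒜 (Ideal.span E)).toIdeal.radical := by
  classical
  set J := Ideal.homogeneousHull 𝒜 (Ideal.span E) with hJ
  have hJle : ∀ P : HomogeneousIdeal 𝒜, E ⊆ P → J ≤ P := fun P hP => by
    rw [hJ, Ideal.homogeneousHull]
    change Ideal.span _ ≤ P.toIdeal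
    rw [Ideal.span_le]
    rintro r ⟨i, x, rfl⟩
    exact P.is_homogeneous' i (Ideal.span_le.mpr hP x.2)
  have hEJ : E ⊆ J := fun e he => Ideal.le_toIdeal_homogeneousHull 𝒜 _ (Ideal.subset_span he)
  refine le_antisymm (fun f hf => ?_) (fun f hf => ?_)
  · refine ⟨hf.1, ?_⟩
    rw [Ideal.IsHomogeneous.radical_eq (𝒜 := 𝒜) J.is_homogeneous']
    refine Submodule.mem_sInf.mpr fun P ⟨hP, hle, hprime⟩ => ?_
    by_cases hirr : HomogeneousIdeal.irrelevant 𝒜 ≤ ⟨P, hP⟩
    · exact hirr hf.1
    · let x : ProjectiveSpectrum 𝒜 := ⟨⟨P, hP⟩, hprime, hirr⟩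
      exact (ProjectiveSpectrum.mem_vanishingIdeal _ f).mp hf.2 x fun e he => hle (hEJ he)
  · refine ⟨hf.1, (ProjectiveSpectrum.mem_vanishingIdeal _ f).mpr fun x hx => ?_⟩
    obtain ⟨k, hk⟩ := hf.2
    exact x.isPrime.mem_of_pow_mem k (hJle x.asHomogeneousIdeal hx hk)

end Groth.Agent.S4405
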