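import Groth.Statements.S4408
import Groth.Agent.TMul.AmpleCrit

set_option autoImplicit false
universe u
open CategoryTheory CategoryTheory.Limits AlgebraicGeometry
open EGA2

namespace Groth.Agent.S4408

/-- (e') ⇒ (a): let X be a quasi-compact separated scheme such that every quasi-coherent submodule of
finite type of O_X is generated by its global sections. Then X is quasi-affine. (The published
statement also allows X to be a scheme whose underlying space is Noetherian; this row assumes it
quasi-compact and separated.) -/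
theorem result (X : Scheme.{u}) [CompactSpace X] [X.IsSeparated]
    (h : ∀ (J : X.Modules) (i : J ⟶ Coh.structureModule X), Mono i → Coh.IsQCoh J → CohB1.IsFT J →
      Curv2.IsGloballyGenerated J) :
    X.IsQuasiAffine := by
  refine Scheme.IsQuasiAffine.of_forall_exists_mem_basicOpen X fun x => ?_
  obtain ⟨U, hU, hxU, -⟩ := exists_isAffineOpen_mem_and_subset (x := x) (U := ⊤) trivial
  obtain ⟨I, J, i, hi, hq, hft, hI, -, hsupp⟩ := Groth.Agent.QC.exists_ftIdeal U hU.isCompact
  obtain ⟨κ, p, hp⟩ := h J i hi hq hft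
  have : Epi (show (∐ fun _ : κ => Coh.structureModule X) ⟶ _ from p ≫ (SecTwist.unitorR J).inv) :=
    (@epi_comp _ _ _ _ _ p hp (SecTwist.unitorR J).inv (@IsIso.epi_of_iso _ _ _ _ _ (Iso.isIso_inv _)) :)
  obtain ⟨s, hxs, hsU⟩ := TMul.exists_genLocus_le_compl i (TMul.isInvertible_structureModule (X := X)) I hI
    hsupp hxU (κ := κ) (show (∐ fun _ : κ => Coh.structureModule X) ⟶ _ from p ≫ (SecTwist.unitorR J).inv)
    (fun V _ => Groth.Agent.QC.app_injective_of_mono _ V)
  have e : CohB1.genLocus (Coh.structureModule X) s =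
      X.basicOpen (TMul.val s ⊤ : Γ(X, ⊤)) := by
    rw [← TMul.genLocus_inf s (TMul.isGen_one ⊤) (c := (TMul.val s ⊤ : Γ(X, ⊤)))
      (mul_one (M := Γ(X, ⊤)) _).symm, top_inf_eq]
  exact ⟨_, e ▸ TMul.isAffineOpen_genLocus_of_le (TMul.isInvertible_structureModule (X := X)) s hU hsU, e.le hxs⟩

end Groth.Agent.S4408
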