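import Groth.Statements.S4409
import Groth.Agent.TMul.SecGen
-- import your own Groth.Agent.* helpers here

set_option autoImplicit false
universe u
open CategoryTheory CategoryTheory.Limits AlgebraicGeometry
open EGA2

namespace Groth.Agent.S4409

/-- (a) ⇔ (d): let f : X → Y be a quasi-compact morphism. Then f is quasi-affine (the preimage of every
affine open of Y is a quasi-affine scheme) if and only if f is separated and, for every
quasi-coherent O_X-module F, the canonical morphism f^*(f_*(F)) → F (counit of the adjunction
between f^* and f_*) is an epimorphism. -/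
theorem result {X Y : Scheme.{u}} (f : X ⟶ Y) [QuasiCompact f] :
    Mor2.IsQuasiAffine f ↔ (IsSeparated f ∧ ∀ F : X.Modules, Coh.IsQCoh F →
      Epi ((Scheme.Modules.pullbackPushforwardAdjunction f).counit.app F)) := by
  constructor
  · intro h
    have hsep : IsSeparated f :=
      TMul.isSeparated_of_isRelAmple (TMul.isQuasiAffine_iff_isRelAmple.mp h)
    refine ⟨hsep, fun F hF => ?_⟩
    have : F.IsQuasicoherent := hF
    refine TMul.epi_counit_of_secGen f fun x => ?_
    obtain ⟨V, hV, hxV, -⟩ := exists_isAffineOpen_mem_and_subset (x := f.base x) (U := ⊤) trivial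
    have := h.2 V hV
    exact ⟨V, hxV, TMul.secGen_of_isQuasiAffine _⟩
  · rintro ⟨hsep, h⟩
    refine ⟨inferInstance, fun V hV => ?_⟩
    refine TMul.isQuasiAffine_opens_of_secGen _ (f.isCompact_preimage hV.isCompact) fun I => ?_
    have hq : Coh.IsQCoh (ClSub.idealMod I) := Groth.Agent.QC.isQCoh_idealMod I
    have : (ClSub.idealMod I).IsQuasicoherent := hq
    exact TMul.secGen_of_epi_counit f (h _ hq) ⟨V, hV⟩


end Groth.Agent.S4409
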