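import Groth.Statements.S4414
import Groth.Agent.SymAlg.ProjHProj
import Groth.Agent.S12478
import Groth.Agent.SymAlg.VAmplePn
-- import your own Groth.Agent.* helpers here

set_option autoImplicit false
universe u
open CategoryTheory CategoryTheory.Limits AlgebraicGeometry
open EGA2

namespace Groth.Agent.S4414

/-- Let Y be a quasi-compact separated scheme possessing an ample invertible O_Y-module, and f : X → Y a
morphism. Then f is quasi-projective (of finite type with some O_X-module ample relative to f) if
and only if f is of finite type and there are r ≥ 0 and an immersion i of X into projective r-space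
over Y with i followed by the projection equal to f. -/
theorem result {X Y : Scheme.{u}} [CompactSpace Y] [Y.IsSeparated]
    (hY : ∃ M : Y.Modules, CohB1.IsAmple M) (f : X ⟶ Y) :
    RelProj.IsQuasiProjective f ↔
      (LocallyOfFiniteType f ∧ QuasiCompact f ∧
        ∃ (r : ℕ) (i : X ⟶ CohB1.ProjSpaceOver r Y), IsImmersion i ∧ i ≫ CohB1.ProjSpaceOver.toBase r Y = f) := by
  obtain ⟨M, hM⟩ := hY
  refine ⟨fun h => ?_, fun h => ?_⟩
  · obtain ⟨hlft, hqc, L, hL⟩ := h
    have hLi := TMul.isInvertible_of_isRelAmple hL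
    obtain ⟨n, -, h⟩ := Groth.Agent.S12478.result f L hLi hL
    obtain ⟨m, hm⟩ := Groth.Agent.SymAlg.eventually_isRelVeryAmplePn_twist f
      (TMul.isInvertible_tensorPow hLi n) (h n le_rfl) hM
    obtain ⟨r, i, hi, hif, -⟩ := hm m le_rfl
    exact ⟨hlft, hqc, r, i, hi, hif⟩
  · obtain ⟨hlft, hqc, r, i, hi, hif⟩ := h
    obtain ⟨-, L, hL⟩ := Groth.Agent.SymAlg.isProper_and_ftData_of_isProjective
      (Groth.Agent.SymAlg.isProjective_toBase r Y)
    have hv := Groth.Agent.SymAlg.isRelVeryAmple_comp_immersion i hL.isRelVeryAmple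
    rw [hif] at hv
    exact ⟨hlft, hqc, _, Groth.Agent.SymAlg.isRelAmple_of_isRelVeryAmple f (PicLoc.isInvertible_pullback i hL.1) hv⟩

end Groth.Agent.S4414
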