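import Groth.Statements.S4416
import Groth.Agent.Chow.Proj
-- import your own Groth.Agent.* helpers here

set_option autoImplicit false
universe u
open CategoryTheory CategoryTheory.Limits AlgebraicGeometry
open EGA2

namespace Groth.Agent.S4416

/-- Let r : X → S be separated of finite type, and assume either S Noetherian, or S quasi-compact and
separated with X having finitely many irreducible components. Then r is proper if and only if there
are a scheme X' and a surjective morphism f : X' → X with f ≫ r projective. Moreover, when r is
proper, f can be chosen so that in addition there is a dense open U of X with f⁻¹(U) dense in X'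
over which f is an isomorphism, and with X' irreducible (resp. reduced) if X is. (The published
statement also remarks that f is then projective; that is not stated here.) -/
theorem result {X S : Scheme.{u}} (r : X ⟶ S) [IsSeparated r] [LocallyOfFiniteType r] [QuasiCompact r]
    (h : IsNoetherian S ∨ (CompactSpace S ∧ S.IsSeparated ∧ (irreducibleComponents X).Finite)) :
    (IsProper r ↔ ∃ (X' : Scheme.{u}) (f : X' ⟶ X), Surjective f ∧ RelProj.IsProjective (f ≫ r)) ∧
    (IsProper r → ∃ (X' : Scheme.{u}) (f : X' ⟶ X), Surjective f ∧ RelProj.IsProjective (f ≫ r) ∧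
        (∃ U : X.Opens, Dense (U : Set X) ∧ Dense ((f ⁻¹ᵁ U : X'.Opens) : Set X') ∧ IsIso (f ∣_ U)) ∧
        (IrreducibleSpace X → IrreducibleSpace X') ∧ (IsReduced X → IsReduced X')) := by
  obtain ⟨hX1, hX2, hfin⟩ : CompactSpace X ∧ QuasiSeparatedSpace X ∧ (irreducibleComponents X).Finite := by
    rcases h with h | ⟨h1, h2, h3⟩
    · have : IsLocallyNoetherian X := LocallyOfFiniteType.isLocallyNoetherian r
      have : CompactSpace X := QuasiCompact.compactSpace_of_compactSpace r
      have : AlgebraicGeometry.IsNoetherian X := {}
      exact ⟨inferInstance, quasiSeparatedSpace_of_quasiSeparated r,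
        TopologicalSpace.NoetherianSpace.finite_irreducibleComponents⟩
    · exact ⟨QuasiCompact.compactSpace_of_compactSpace r, quasiSeparatedSpace_of_quasiSeparated r, h3⟩
  obtain ⟨X', f, -, -, hs, hproj, hU, hred, hirr⟩ := Groth.Agent.Chow.exists_chow_projective r hfin
  refine ⟨⟨fun hr => ⟨X', f, hs, hproj hr⟩, ?_⟩, fun hr => ⟨X', f, hs, hproj hr, hU, hirr, hred⟩⟩
  rintro ⟨X'', g, hg, hp⟩
  have := (Groth.Agent.SymAlg.isQuasiProjective_and_isProper hp).2
  have : UniversallyClosed r := UniversallyClosed.of_comp_surjective g r
  exact { }

end Groth.Agent.S4416
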