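import Groth.Statements.S4417
import Groth.Agent.CoprodAmple.Basic
import Mathlib.AlgebraicGeometry.Morphisms.FiniteType

set_option autoImplicit false
set_option backward.isDefEq.respectTransparency false
set_option backward.isDefEq.respectTransparency.types false
universe u
open CategoryTheory CategoryTheory.Limits AlgebraicGeometry
open EGA2

namespace Groth.Agent.S4417

/-- Let f : X → Y and f' : X' → Y be quasi-projective morphisms (of finite type, each admitting a
relatively ample module). Then the morphism X ⨿ X' → Y restricting to f and f' on the two summands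
is quasi-projective. -/
theorem result {X X' Y : Scheme.{u}} (f : X ⟶ Y) (f' : X' ⟶ Y)
    (hf : RelProj.IsQuasiProjective f) (hf' : RelProj.IsQuasiProjective f') :
    RelProj.IsQuasiProjective (coprod.desc f f') := by
  obtain ⟨h1, h2, L, hL⟩ := hf
  obtain ⟨h1', h2', L', hL'⟩ := hf'
  haveI := h2
  haveI := h2'
  haveI := Groth.Agent.CoprodAmple.quasiCompact_desc f f'
  obtain ⟨L'', ⟨e⟩, ⟨e'⟩⟩ := Groth.Agent.CoprodAmple.exists_glue L L'
  have a := TMul.isRelAmple_congr e.symm hL
  have a' := TMul.isRelAmple_congr e'.symm hL'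
  refine ⟨?_, inferInstance, L'', (Groth.Agent.CoprodAmple.isRelAmple_desc_iff f f' L''
    (Groth.Agent.CoprodAmple.isInvertible_of_pullback (TMul.isInvertible_of_isRelAmple a)
      (TMul.isInvertible_of_isRelAmple a'))).2 ⟨a, a'⟩⟩
  let 𝒰 : Scheme.OpenCover.{u} (X ⨿ X') := coprodOpenCover X X'
  refine (IsZariskiLocalAtSource.iff_of_openCover (P := @LocallyOfFiniteType) 𝒰).2 ?_
  rintro (i | i)
  · show LocallyOfFiniteType (coprod.inl ≫ coprod.desc f f')
    rwa [coprod.inl_desc]
  · show LocallyOfFiniteType (coprod.inr ≫ coprod.desc f f')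
    rwa [coprod.inr_desc]

end Groth.Agent.S4417
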