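import Groth.Statements.S4422
import Groth.Agent.SymAlg.Segre2
import Groth.Agent.SymAlg.ProjProper
import Groth.Agent.S2297

set_option autoImplicit false
universe u
open CategoryTheory CategoryTheory.Limits AlgebraicGeometry
open EGA2

namespace Groth.Agent.S4422

open Groth.Agent.SymAlg in
/-- Fibre product over any base of two projective morphisms. -/
theorem isProjective_of_isPullback {W Z₁ Z₂ Q : Scheme.{u}} {g₁ : Z₁ ⟶ Q} {g₂ : Z₂ ⟶ Q}
    {π₁ : W ⟶ Z₁} {π₂ : W ⟶ Z₂} (hW : IsPullback π₁ π₂ g₁ g₂)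
    (h₁ : RelProj.IsProjective g₁) (h₂ : RelProj.IsProjective g₂) {q : W ⟶ Q} (hq : π₁ ≫ g₁ = q) :
    RelProj.IsProjective q := by
  obtain ⟨EA, 𝒯A, jA, PA, pA, chA, iA, hEA, hftA, hjA, hPA, hiA, hipA⟩ := exists_closedImm_bundle h₁
  obtain ⟨EB, 𝒯B, jB, PB, pB, chB, iB, hEB, hftB, hjB, hPB, hiB, hipB⟩ := exists_closedImm_bundle h₂
  haveI := hiA
  haveI := hiB
  haveI : EA.IsQuasicoherent := hEA
  haveI : EB.IsQuasicoherent := hEB
  haveI := (isProper_and_ftData_of_isProjective h₁).1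
  haveI := (isProper_and_ftData_of_isProjective h₂).1
  haveI : IsProper π₁ := MorphismProperty.of_isPullback hW.flip ‹IsProper g₂›
  haveI : IsProper q := by rw [← hq]; infer_instance
  obtain ⟨OA, lamA, hOA⟩ := (Groth.Agent.RelTilde.Datum.self 𝒯A).exists_isTilde hPA (1 : ℤ)
  obtain ⟨OB, lamB, hOB⟩ := (Groth.Agent.RelTilde.Datum.self 𝒯B).exists_isTilde hPB (1 : ℤ)
  let A := (Scheme.Modules.pullback iA).obj OA
  let B := (Scheme.Modules.pullback iB).obj OB
  have hA : PicF.IsInvertible A :=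
    PicLoc.isInvertible_pullback _ (Groth.Agent.RelTilde.isInvertible_of_isGenDegOne hOA (isGenDegOne_sym hjA))
  have hB : PicF.IsInvertible B :=
    PicLoc.isInvertible_pullback _ (Groth.Agent.RelTilde.isInvertible_of_isGenDegOne hOB (isGenDegOne_sym hjB))
  have hAq := TMul.isQCoh_of_isInvertible hA
  have hBq := TMul.isQCoh_of_isInvertible hB
  obtain ⟨𝒮A₀, jlA₀, hjlA₀⟩ := exists_isGrSymAlg hAq
  obtain ⟨𝒮B₀, jlB₀, hjlB₀⟩ := exists_isGrSymAlg hBq
  obtain ⟨κA₀, uA₀, huA₀, hdA₀, hpA₀⟩ := exists_localData_bundle hEA hjA hPA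
    ((Groth.Agent.RelTilde.isRelTwist_iff 𝒯A 1 OA lamA).mpr hOA) hipA hA hAq (Iso.refl _) hjlA₀
  obtain ⟨κB₀, uB₀, huB₀, hdB₀, hpB₀⟩ := exists_localData_bundle hEB hjB hPB
    ((Groth.Agent.RelTilde.isRelTwist_iff 𝒯B 1 OB lamB).mpr hOB) hipB hB hBq (Iso.refl _) hjlB₀
  have hA' := PicLoc.isInvertible_pullback π₁ hA
  have hB' := PicLoc.isInvertible_pullback π₂ hB
  obtain ⟨𝒮A, jlA, hjlA⟩ := exists_isGrSymAlg (TMul.isQCoh_of_isInvertible hA')
  obtain ⟨𝒮B, jlB, hjlB⟩ := exists_isGrSymAlg (TMul.isQCoh_of_isInvertible hB')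
  obtain ⟨κA, uA, huA, hpA', hdA⟩ := exists_pulled_of_data π₁ g₁ hq hA hjlA₀ hEA hjA huA₀ hdA₀ hpA₀ hjlA
  obtain ⟨κB, uB, huB, hpB', hdB⟩ :=
    exists_pulled_of_data π₂ g₂ (hW.w.symm.trans hq) hB hjlB₀ hEB hjB huB₀ hdB₀ hpB₀ hjlB
  obtain ⟨𝒮L, jl, hjl, 𝒯, j, hj, u, hd, hs⟩ := exists_localData_of_pairData hA' hB' hEA hjA hjlA huA hpA'
    hEB hjB hjlB huB hpB' (pairData_of_pulled hW hq hdA hdB)
  haveI : Coh.IsQCoh EA := hEA
  haveI : Coh.IsQCoh EB := hEB
  exact isProjective_of_ftData q ⟨TMul.isInvertible_tensorMod hA' hB', 𝒮L, jl, hjl, _,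
    (S2297.result EA EB).1, (S2297.result EA EB).2 hftA hftB, 𝒯, j, hj, u, hd, hs⟩

/-- Let a : Y → S and a' : Y' → S be morphisms and f : X → Y, f' : X' → Y' projective morphisms (so X
and X' are S-schemes through f ≫ a and f' ≫ a'). Then the product f ×_S f' : X ×_S X' → Y ×_S Y' is
projective. -/
theorem result {X X' Y Y' S : Scheme.{u}} (a : Y ⟶ S) (a' : Y' ⟶ S) (f : X ⟶ Y) (f' : X' ⟶ Y')
    (hf : RelProj.IsProjective f) (hf' : RelProj.IsProjective f') :
    RelProj.IsProjective (pullback.map (f ≫ a) (f' ≫ a') a a' f f' (𝟙 S) (Category.comp_id (f ≫ a)) (Category.comp_id (f' ≫ a'))) := by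
  let q := pullback.map (f ≫ a) (f' ≫ a') a a' f f' (𝟙 S) (Category.comp_id (f ≫ a)) (Category.comp_id (f' ≫ a'))
  have q1 : q ≫ pullback.fst a a' = pullback.fst _ _ ≫ f := pullback.lift_fst _ _ _
  have q2 : q ≫ pullback.snd a a' = pullback.snd _ _ ≫ f' := pullback.lift_snd _ _ _
  let π₁ : pullback (f ≫ a) (f' ≫ a') ⟶ pullback f (pullback.fst a a') :=
    pullback.lift (pullback.fst _ _) q q1.symm
  let π₂ : pullback (f ≫ a) (f' ≫ a') ⟶ pullback f' (pullback.snd a a') :=
    pullback.lift (pullback.snd _ _) q q2.symm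
  have p11 : π₁ ≫ pullback.fst _ _ = pullback.fst _ _ := pullback.lift_fst _ _ _
  have p12 : π₁ ≫ pullback.snd _ _ = q := pullback.lift_snd _ _ _
  have p21 : π₂ ≫ pullback.fst _ _ = pullback.snd _ _ := pullback.lift_fst _ _ _
  have p22 : π₂ ≫ pullback.snd _ _ = q := pullback.lift_snd _ _ _
  refine isProjective_of_isPullback (π₁ := π₁) (π₂ := π₂)
    ⟨⟨p12.trans p22.symm⟩, ⟨PullbackCone.IsLimit.mk _
      (fun s => pullback.lift (s.fst ≫ pullback.fst _ _) (s.snd ≫ pullback.fst _ _) ?_)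
      (fun s => ?_) (fun s => ?_) (fun s m h₁ h₂ => ?_)⟩⟩
    (Groth.Agent.SymAlg.isProjective_baseChange (IsPullback.of_hasPullback f _) hf)
    (Groth.Agent.SymAlg.isProjective_baseChange (IsPullback.of_hasPullback f' _) hf') p12
  · simp only [Category.assoc]
    rw [pullback.condition_assoc, pullback.condition_assoc, pullback.condition (f := a) (g := a')]
    rw [← Category.assoc, ← Category.assoc s.snd, s.condition]
  · apply pullback.hom_ext
    · rw [Category.assoc, p11]; exact pullback.lift_fst _ _ _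
    · rw [Category.assoc, p12]
      apply pullback.hom_ext
      · rw [Category.assoc, q1, pullback.lift_fst_assoc, Category.assoc, Category.assoc, pullback.condition]
      · rw [Category.assoc, q2, pullback.lift_snd_assoc, Category.assoc, pullback.condition, ← Category.assoc s.snd,
          s.condition]
  · apply pullback.hom_ext
    · rw [Category.assoc, p21]; exact pullback.lift_snd _ _ _
    · rw [Category.assoc, p22]
      apply pullback.hom_ext
      · rw [Category.assoc, q1, pullback.lift_fst_assoc, Category.assoc, pullback.condition, ← Category.assoc s.fst,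
          s.condition]
      · rw [Category.assoc, q2, pullback.lift_snd_assoc, Category.assoc, Category.assoc, pullback.condition]
  · apply pullback.hom_ext
    · rw [pullback.lift_fst, ← h₁, Category.assoc, p11]
    · rw [pullback.lift_snd, ← h₂, Category.assoc, p21]

end Groth.Agent.S4422
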