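import Groth.Statements.S4424
import Groth.Agent.S5729
import Groth.Agent.S4423

set_option autoImplicit false
universe u
open CategoryTheory CategoryTheory.Limits AlgebraicGeometry
open EGA2

namespace Groth.Agent.S4424

/-- Let f : X → Y be a projective morphism, j : X₀ → X and k : Y₀ → Y surjective closed immersions with
X₀ and Y₀ reduced (the reduced schemes underlying X and Y), and f₀ : X₀ → Y₀ the induced morphism (j
≫ f = f₀ ≫ k). Then f₀ is projective. -/
theorem result {X Y X₀ Y₀ : Scheme.{u}} (f : X ⟶ Y) (hf : RelProj.IsProjective f)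
    (j : X₀ ⟶ X) (hj : MoreMor.IsThickening j) [IsReduced X₀] (k : Y₀ ⟶ Y) (hk : MoreMor.IsThickening k) [IsReduced Y₀]
    (f₀ : X₀ ⟶ Y₀) (hcomm : j ≫ f = f₀ ≫ k) : RelProj.IsProjective f₀ := by
  haveI := hj.1
  haveI := hk.1
  obtain ⟨E, 𝒯, jE, P, p, chart, i, hE, hft, hjE, hP, hi, hip⟩ := (S5729.result f).mp hf
  haveI := hi
  have h : RelProj.IsProjective (j ≫ f) :=
    (S5729.result (j ≫ f)).mpr ⟨E, 𝒯, jE, P, p, chart, j ≫ i, hE, hft, hjE, hP, inferInstance,
      by rw [Category.assoc, hip]⟩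
  rw [hcomm] at h
  exact S4423.result f₀ k h

end Groth.Agent.S4424
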