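import Groth.Statements.S4425
import Groth.Agent.Nagata.Projective

set_option autoImplicit false
universe u
open CategoryTheory CategoryTheory.Limits AlgebraicGeometry
open EGA2

namespace Groth.Agent.S4425

/-- (a) ⇔ (c): let Y be a quasi-compact separated scheme and f : X → Y a morphism. Then f is
quasi-projective if and only if f is of finite type and there are a quasi-coherent graded
O_Y-algebra 𝒮, generated by its degree-one part with that part of finite type, a relative
homogeneous spectrum p : P → Y of 𝒮 (given with its charts over affine opens), and an open immersion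
j : X → P with dense image such that j ≫ p = f. (The published statement also allows Y whose
underlying space is Noetherian, and adds a third equivalent condition, an immersion into some P(E);
this row assumes Y quasi-compact and separated and states only the equivalence of the other two.) -/
theorem result {X Y : Scheme.{u}} [CompactSpace Y] [Y.IsSeparated] (f : X ⟶ Y) :
    RelProj.IsQuasiProjective f ↔
      (LocallyOfFiniteType f ∧ QuasiCompact f ∧
        ∃ (𝒮 : RelProj.QCGrAlg Y) (P : Scheme.{u}) (p : P ⟶ Y)
          (chart : ∀ (U : Y.Opens) (hU : IsAffineOpen U), ((p ⁻¹ᵁ U : P.Opens) : Scheme.{u}) ≅ Proj (𝒮.deg U hU))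
          (j : X ⟶ P), 𝒮.IsGenDegOne ∧ 𝒮.IsFTDeg 1 ∧ RelProj.IsRelProj 𝒮 p chart ∧
            IsOpenImmersion j ∧ Dense (Set.range j.base) ∧ j ≫ p = f) := by
  constructor
  · intro hq
    obtain ⟨hlft, hqc, -⟩ := id hq
    obtain ⟨P, p, j, hp, hj, -, hd, h⟩ := Groth.Agent.Nagata.exists_open_projective hq
    obtain ⟨𝒮, P', p', chart, e, hg, hft, hP, he⟩ := hp
    refine ⟨hlft, hqc, 𝒮, P', p', chart, j ≫ e.hom, hg, hft, hP, inferInstance, ?_, by rw [Category.assoc, he, h]⟩
    have hs : Set.range (j ≫ e.hom).base = e.hom.base '' Set.range j.base := by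
      rw [← Set.range_comp]
      exact congrArg Set.range (funext fun x => Scheme.Hom.comp_apply j e.hom x)
    rw [hs]
    exact (e.hom.surjective.denseRange).dense_image e.hom.continuous hd
  · rintro ⟨hlft, hqc, 𝒮, P, p, chart, j, hg, hft, hP, hj, -, h⟩
    have hp : RelProj.IsProjective p := ⟨𝒮, P, p, chart, Iso.refl P, hg, hft, hP, Category.id_comp p⟩
    haveI : IsProper p := (Groth.Agent.SymAlg.isProper_and_ftData_of_isProjective hp).1
    haveI := hqc
    haveI := hj
    haveI : QuasiCompact (j ≫ p) := h ▸ inferInstance
    haveI : QuasiCompact j := QuasiCompact.of_comp j p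
    exact h ▸ Groth.Agent.Nagata.isQuasiProjective_of_immersion_projective hp j

end Groth.Agent.S4425
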