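import Groth.Statements.S4431
import Groth.Agent.CharpolyInt.Basic

set_option autoImplicit false
universe u
open EGA2 TensorProduct

namespace Groth.Agent.S4431

/-- Let A be an integral domain with fraction field K, E a finitely generated torsion-free A-module and
u an endomorphism of E whose characteristic-polynomial coefficients (those of u ⊗ 1 on K ⊗_A E) all
lie in A. If the determinant of u is the image of a unit of A, then u is an automorphism of E. -/
theorem result (A : Type u) [CommRing A] [IsDomain A] (K : Type u) [Field K]
    [Algebra A K] [IsFractionRing A K] (E : Type u) [AddCommGroup E] [Module A E] [Module.Finite A E]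
    [Module.IsTorsionFree A E]
    (u : E →ₗ[A] E) (hcoeff : ∀ i : ℕ, ((u.baseChange K).charpoly).coeff i ∈ (algebraMap A K).range)
    (a : A) (ha : algebraMap A K a = LinearMap.det (u.baseChange K)) (hunit : IsUnit a) :
    Function.Bijective u := by
  classical
  set q := (u.baseChange K).charpoly with hq
  obtain ⟨P, hP, -, hPm⟩ := Polynomial.lifts_and_degree_eq_and_monic (f := algebraMap A K)
    ((Polynomial.lifts_iff_coeff_lifts q).2 fun i => hcoeff i) (LinearMap.charpoly_monic _)
  haveI : Module.Flat A K := IsLocalization.flat K (nonZeroDivisors A)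
  have hinj : Function.Injective (fun x : E => (1 : K) ⊗ₜ[A] x) := by
    intro x y hxy
    haveI : IsLocalizedModule (nonZeroDivisors A) (TensorProduct.mk A K E 1) :=
      (isLocalizedModule_iff_isBaseChange (nonZeroDivisors A) K _).mpr (TensorProduct.isBaseChange A E K)
    obtain ⟨s, hs⟩ := IsLocalizedModule.exists_of_eq (S := nonZeroDivisors A) (f := TensorProduct.mk A K E 1) hxy
    exact smul_right_injective E (nonZeroDivisors.ne_zero s.2) hs
  have hPu : Polynomial.aeval u P = 0 := by
    refine LinearMap.ext fun x => hinj ?_
    have h1 : Polynomial.aeval (u.baseChange K) q = 0 := LinearMap.aeval_self_charpoly _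
    rw [← hP, Polynomial.aeval_map_algebraMap,
      show u.baseChange K = Module.End.baseChangeHom A K E u from rfl, Polynomial.aeval_algHom_apply] at h1
    have h2 := LinearMap.congr_fun h1 ((1 : K) ⊗ₜ[A] x)
    simp only [LinearMap.zero_apply, TensorProduct.tmul_zero] at h2 ⊢
    exact h2
  have hc0 : IsUnit (P.coeff 0) := by
    have h3 : algebraMap A K (P.coeff 0) = q.coeff 0 := by rw [← hP, Polynomial.coeff_map]
    have h4 := LinearMap.det_eq_sign_charpoly_coeff (u.baseChange K)
    rw [← ha, ← hq, ← h3, ← map_one (algebraMap A K), ← map_neg, ← map_pow, ← map_mul] at h4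
    have h5 := IsFractionRing.injective A K h4
    rw [h5] at hunit
    exact isUnit_of_mul_isUnit_right hunit
  obtain ⟨R, hR⟩ : (Polynomial.X : Polynomial A) ∣ P - Polynomial.C (P.coeff 0) :=
    Polynomial.X_dvd_iff.2 (by simp)
  have h6 : u * Polynomial.aeval u R = Polynomial.aeval u R * u ∧
      u * Polynomial.aeval u R = algebraMap A (Module.End A E) (-(P.coeff 0)) := by
    constructor
    · have := congrArg (Polynomial.aeval u) (Polynomial.X_mul (p := R))
      rwa [map_mul, map_mul, Polynomial.aeval_X] at this
    · have := congrArg (Polynomial.aeval u) hR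
      rw [map_sub, hPu, map_mul, Polynomial.aeval_X, Polynomial.aeval_C, zero_sub] at this
      rw [← this, map_neg]
  have hu : IsUnit (u : Module.End A E) := by
    have hz := hc0.neg.map (algebraMap A (Module.End A E))
    rw [← h6.2] at hz
    exact ((show Commute u (Polynomial.aeval u R) from h6.1).isUnit_mul_iff.1 hz).1
  exact (Module.End.isUnit_iff u).1 hu

end Groth.Agent.S4431
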