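import Groth.Statements.S4432
import Groth.Agent.CharpolyInt.Basic
import Mathlib.Algebra.Module.LinearMap.Polynomial


set_option autoImplicit false
set_option linter.style.haveILetI false

universe u
open EGA2

namespace Groth.Agent.S4432

open TensorProduct in
theorem isIntegral_coeff' (A : Type u) [CommRing A] [IsNoetherianRing A] [IsReduced A]
    (E : Type u) [AddCommGroup E] [Module A E] [Module.Finite A E]
    [Module.Free (FractionRing A) (FractionRing A ⊗[A] E)] (u : E →ₗ[A] E) (i : ℕ) :
    IsIntegral A (((u.baseChange (FractionRing A)).charpoly).coeff i) := by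
  classical
  let K := FractionRing A
  haveI : IsNoetherianRing K := IsLocalization.isNoetherianRing (nonZeroDivisors A) K inferInstance
  haveI : IsReduced K := isReduced_localizationPreserves (nonZeroDivisors A) K inferInstance
  set c := ((u.baseChange K).charpoly).coeff i with hc
  have hP : ∀ P ∈ minimalPrimes K, ∃ q : Polynomial A, q.Monic ∧ Polynomial.aeval c q ∈ P := by
    intro P hP
    haveI : P.IsPrime := hP.1.1
    let L := FractionRing (K ⧸ P)
    obtain ⟨q, hq, hq0⟩ := Groth.Agent.CharpolyInt.isIntegral_coeff A L E u i
    refine ⟨q, hq, ?_⟩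
    have h1 : (u.baseChange L).charpoly = ((u.baseChange K).baseChange L).charpoly := by
      rw [← LinearEquiv.charpoly_conj (TensorProduct.AlgebraTensorModule.cancelBaseChange A K L L E)
        ((u.baseChange K).baseChange L)]
      congr 1
      ext x
      simp [LinearEquiv.conj_apply_apply]
    rw [h1, LinearMap.charpoly_baseChange, Polynomial.coeff_map] at hq0
    have h2 : algebraMap K L (Polynomial.aeval c q) = 0 := by
      rw [← Polynomial.aeval_algebraMap_apply L c q]
      exact hq0
    have h3 : algebraMap (K ⧸ P) L (Ideal.Quotient.mk P (Polynomial.aeval c q)) = 0 := by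
      rw [← Ideal.Quotient.algebraMap_eq, ← IsScalarTower.algebraMap_apply]; exact h2
    rw [← Ideal.Quotient.eq_zero_iff_mem]
    exact (IsFractionRing.injective (K ⧸ P) L) (h3.trans (map_zero _).symm)
  choose! q hq hqP using hP
  have hfin : (minimalPrimes K).Finite := minimalPrimes.finite_of_isNoetherianRing K
  refine ⟨∏ P ∈ hfin.toFinset, q P, Polynomial.monic_prod_of_monic _ _ fun P h => hq P (hfin.mem_toFinset.1 h), ?_⟩
  rw [← Polynomial.aeval_def, map_prod]
  have hnil : (∏ P ∈ hfin.toFinset, Polynomial.aeval c (q P)) ∈ sInf (minimalPrimes K) := by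
    simp only [Ideal.mem_sInf]
    intro P hP
    exact Ideal.prod_mem P (hfin.mem_toFinset.2 hP) (hqP P hP)
  rw [show sInf (minimalPrimes K) = (⊥ : Ideal K).radical from Ideal.sInf_minimalPrimes] at hnil
  have : IsNilpotent (∏ P ∈ hfin.toFinset, Polynomial.aeval c (q P)) := by
    rwa [← mem_nilradical]
  exact this.eq_zero

open TensorProduct in
theorem main (A : Type u) [CommRing A] [IsNoetherianRing A] [IsReduced A]
    (E : Type u) [AddCommGroup E] [Module A E] [Module.Finite A E]
    [Module.Free (FractionRing A) (FractionRing A ⊗[A] E)] :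
    (Algebra.adjoin A {c : FractionRing A | ∃ (v : E →ₗ[A] E) (j : ℕ),
        c = ((v.baseChange (FractionRing A)).charpoly).coeff j}).toSubmodule.FG := by
  classical
  let K := FractionRing A
  set S := {c : K | ∃ (v : E →ₗ[A] E) (j : ℕ), c = ((v.baseChange K).charpoly).coeff j} with hS
  obtain ⟨m, p, hp⟩ := Module.Finite.exists_fin' A E
  haveI : Module.Finite A (E →ₗ[A] E) :=
    haveI : IsNoetherian A (Fin m → E) := inferInstance
    Module.Finite.of_injective
      ((LinearMap.pi fun j => LinearMap.applyₗ (p (Pi.single j 1))) : (E →ₗ[A] E) →ₗ[A] (Fin m → E))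
      fun f g h => by
        have h2 : f.comp p = g.comp p := LinearMap.pi_ext' fun j => LinearMap.ext_ring (congrFun h j)
        exact LinearMap.ext fun x => by obtain ⟨y, rfl⟩ := hp x; exact LinearMap.congr_fun h2 y
  obtain ⟨n, w, hw⟩ := Module.Finite.exists_fin (R := A) (M := E →ₗ[A] E)
  let T : (Fin n → K) →ₗ[K] Module.End K (K ⊗[A] E) := Fintype.linearCombination K fun k => (w k).baseChange K
  let b := Pi.basisFun K (Fin n)
  let d := (LinearMap.polyCharpoly T b).natDegree
  let F : Finset K := (Finset.range (d + 1)).biUnion fun j =>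
    ((LinearMap.polyCharpoly T b).coeff j).support.image fun α => ((LinearMap.polyCharpoly T b).coeff j).coeff α
  let N : Submodule A K := Submodule.span A F
  have hSN : S ⊆ N := by
    rintro _ ⟨v, j, rfl⟩
    have hv : v ∈ Submodule.span A (Set.range w) := hw ▸ Submodule.mem_top
    obtain ⟨a, rfl⟩ := (Submodule.mem_span_range_iff_exists_fun A).1 hv
    have hT : (∑ k, a k • w k).baseChange K = T (fun k => algebraMap A K (a k)) := by
      ext x
      simp [T, Fintype.linearCombination_apply, LinearMap.sum_apply, TensorProduct.tmul_sum,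
        algebraMap_smul, TensorProduct.tmul_smul]
    rw [hT, ← LinearMap.polyCharpoly_coeff_eval T b]
    rcases Nat.lt_or_ge d j with hj | hj
    · rw [Polynomial.coeff_eq_zero_of_natDegree_lt hj, map_zero]; exact N.zero_mem
    · rw [MvPolynomial.eval_eq]
      refine Submodule.sum_mem _ fun α hα => ?_
      have : (∏ k ∈ α.support, (b.repr fun k => algebraMap A K (a k)) k ^ α k) =
          algebraMap A K (∏ k ∈ α.support, a k ^ α k) := by simp [b]
      rw [this, mul_comm, ← Algebra.smul_def]
      exact Submodule.smul_mem _ _ (Submodule.subset_span (Finset.mem_biUnion.2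
        ⟨j, Finset.mem_range.2 (by omega), Finset.mem_image.2 ⟨α, hα, rfl⟩⟩))
  haveI : IsNoetherian A N := isNoetherian_of_fg_of_noetherian N ⟨F, rfl⟩
  have hfg : (Submodule.span A S).FG := by
    have := IsNoetherian.noetherian ((Submodule.span A S).comap N.subtype)
    simpa [Submodule.map_comap_subtype, inf_of_le_right (Submodule.span_le.2 hSN)] using this.map N.subtype
  obtain ⟨G, hGS, hG⟩ := Submodule.fg_span_iff_fg_span_finset_subset _ |>.1 hfg
  have hadj : Algebra.adjoin A S = Algebra.adjoin A (G : Set K) := by
    refine le_antisymm (Algebra.adjoin_le fun x hx => ?_) (Algebra.adjoin_mono hGS)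
    exact Algebra.span_le_adjoin A _ (hG ▸ Submodule.subset_span hx)
  rw [hadj]
  exact fg_adjoin_of_finite G.finite_toSet fun x hx => by
    obtain ⟨v, j, rfl⟩ := hGS hx
    exact isIntegral_coeff' A E v j


/-- Let A be a reduced Noetherian ring, K its total ring of fractions, and E a finitely generated
A-module with K ⊗_A E free over K. The A-subalgebra of K generated by the coefficients of the
characteristic polynomials of v ⊗ 1 (v running through all endomorphisms of E), i.e. by all
elementary symmetric functions of all endomorphisms of E, is a finitely generated A-module. -/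
theorem result (A : Type u) [CommRing A] [IsNoetherianRing A] [IsReduced A]
    (E : Type u) [AddCommGroup E] [Module A E] [Module.Finite A E]
    [Module.Free (FractionRing A) (TensorProduct A (FractionRing A) E)] :
    (Algebra.adjoin A {c : FractionRing A | ∃ (v : E →ₗ[A] E) (j : ℕ),
        c = ((v.baseChange (FractionRing A)).charpoly).coeff j}).toSubmodule.FG := by
  exact Groth.Agent.S4432.main A E

end Groth.Agent.S4432
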