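import Groth.Statements.S4433
import Groth.Agent.DvrDom.Basic
import Mathlib.FieldTheory.IntermediateField.Adjoin.Defs

set_option autoImplicit false
universe u
open EGA2

namespace Groth.Agent.S4433

/-- Let A be a Noetherian local domain that is not a field, K its field of fractions and L a finitely
generated field extension of K. Then there is a discrete valuation subring of L, with fraction field
L, which contains the image of A and dominates A (elements of the maximal ideal of A have valuation
less than one). -/
theorem result (A : Type u) [CommRing A] [IsDomain A] [IsNoetherianRing A]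
    [IsLocalRing A] (hA : ¬ IsField A) (K : Type u) [Field K] [Algebra A K] [IsFractionRing A K]
    (L : Type u) [Field L] [Algebra K L] [Algebra A L] [IsScalarTower A K L] (hfg : (⊤ : IntermediateField K L).FG) :
    ∃ R : ValuationSubring L, IsDiscreteValuationRing R ∧ (∀ a : A, algebraMap A L a ∈ R) ∧
      ∀ a ∈ IsLocalRing.maximalIdeal A, R.valuation (algebraMap A L a) < 1 := by
  have : FaithfulSMul A L := (faithfulSMul_iff_algebraMap_injective A L).mpr (by
    rw [IsScalarTower.algebraMap_eq A K L]
    exact (algebraMap K L).injective.comp (IsFractionRing.injective A K))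
  obtain ⟨s, hs⟩ := hfg
  obtain ⟨R, h1, h2, h3⟩ := Groth.Agent.DvrDom.exists_dvr_dominating_of_fg A hA L (s : Set L)
    s.finite_toSet (by
      rw [eq_top_iff]
      intro z _
      have hz : z ∈ IntermediateField.adjoin K (s : Set L) := hs ▸ IntermediateField.mem_top
      refine (Subfield.closure_le.mpr ?_ : IntermediateField.toSubfield (IntermediateField.adjoin K (s : Set L)) ≤ _) hz
      rintro w (⟨k, rfl⟩ | hw)
      · obtain ⟨a, b, _, rfl⟩ := IsFractionRing.div_surjective (A := A) k
        rw [map_div₀, ← IsScalarTower.algebraMap_apply, ← IsScalarTower.algebraMap_apply]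
        exact div_mem (Subfield.subset_closure (Or.inl ⟨a, rfl⟩))
          (Subfield.subset_closure (Or.inl ⟨b, rfl⟩))
      · exact Subfield.subset_closure (Or.inr hw))
  exact ⟨R, h1, h2, h3⟩

end Groth.Agent.S4433
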