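import Groth.Statements.S4434
import Groth.Agent.DvrDom.Basic
import Mathlib.FieldTheory.IntermediateField.Adjoin.Defs

set_option autoImplicit false
universe u
open EGA2

namespace Groth.Agent.S4434

/-- Let A be a Noetherian domain with field of fractions K and L a finitely generated field extension of
K. The integral closure of A in L is the intersection of the discrete valuation subrings of L (with
fraction field L) containing the image of A: an element of L is integral over A exactly when it
belongs to all of them. -/
theorem result (A : Type u) [CommRing A] [IsDomain A] [IsNoetherianRing A]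
    (K : Type u) [Field K] [Algebra A K] [IsFractionRing A K]
    (L : Type u) [Field L] [Algebra K L] [Algebra A L] [IsScalarTower A K L] (hfg : (⊤ : IntermediateField K L).FG) (x : L) :
    IsIntegral A x ↔ ∀ R : ValuationSubring L, IsDiscreteValuationRing R → (∀ a : A, algebraMap A L a ∈ R) → x ∈ R := by
  constructor
  · intro hx R _ hA
    let ι : A →+* R := (algebraMap A L).codRestrict R.toSubring hA
    algebraize [ι]
    have : IsScalarTower A R L := .of_algebraMap_eq fun _ ↦ rfl
    obtain ⟨r, hr⟩ := (IsIntegrallyClosed.isIntegral_iff (R := R) (K := L)).mp (hx.tower_top)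
    exact hr ▸ r.2
  · intro H
    by_contra hx
    have hinjA : Function.Injective (algebraMap A L) := by
      rw [IsScalarTower.algebraMap_eq A K L]
      exact (algebraMap K L).injective.comp (IsFractionRing.injective A K)
    let C : Subring L := (integralClosure A L).toSubring
    have : IsIntegrallyClosedIn C L := Subring.isIntegrallyClosedIn_iff.mpr fun {z} hz ↦
      isIntegral_trans (A := integralClosure A L) z hz
    obtain ⟨V, hCV, hxV⟩ := Subring.exists_le_valuationSubring_of_isIntegrallyClosedIn (R := C)
      (x := x) hx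
    have hx0 : x ≠ 0 := fun h ↦ hxV (h ▸ V.zero_mem)
    let S : Subalgebra A L := Algebra.adjoin A {x⁻¹}
    have hxi : V.valuation x⁻¹ < 1 := by
      rw [← V.valuation_le_one_iff, not_le] at hxV
      rw [map_inv₀]
      exact inv_lt_one_of_one_lt₀ hxV
    have hSV : ∀ z ∈ S, z ∈ V := fun z hz ↦ by
      induction hz using Algebra.adjoin_induction with
      | mem z hz =>
        rw [Set.mem_singleton_iff.mp hz]
        exact (V.valuation_le_one_iff _).mp hxi.le
      | algebraMap r => exact hCV (integralClosure A L |>.algebraMap_mem r)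
      | add z w _ _ hz hw => exact add_mem hz hw
      | mul z w _ _ hz hw => exact mul_mem hz hw
    have : IsNoetherianRing S.toSubring :=
      isNoetherianRing_of_fg (S := S) (Subalgebra.fg_def.mpr ⟨{x⁻¹}, Set.finite_singleton _, rfl⟩)
    let ι : S.toSubring →+* V := S.toSubring.subtype.codRestrict V.toSubring fun s ↦ hSV _ s.2
    let Q : Ideal S.toSubring := (IsLocalRing.maximalIdeal V).comap ι
    let D := LocalSubring.ofPrime S.toSubring Q
    have : IsNoetherianRing D.toSubring :=
      IsLocalization.isNoetherianRing Q.primeCompl _ inferInstance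
    have hSD : S.toSubring ≤ D.toSubring := LocalSubring.le_ofPrime _ _
    have hxS : x⁻¹ ∈ S := Algebra.subset_adjoin rfl
    have hxD : (⟨x⁻¹, hSD hxS⟩ : D.toSubring) ∈ IsLocalRing.maximalIdeal D.toSubring :=
      (IsLocalization.AtPrime.to_map_mem_maximal_iff D.toSubring Q ⟨x⁻¹, hxS⟩).mpr
        ((V.valuation_lt_one_iff ⟨x⁻¹, hSV _ hxS⟩).mpr hxi)
    have hD : ¬ IsField D.toSubring := fun hf ↦ by
      rw [IsLocalRing.isField_iff_maximalIdeal_eq.mp hf, Ideal.mem_bot] at hxD
      exact inv_ne_zero hx0 (congrArg Subtype.val hxD)
    obtain ⟨s, hs⟩ := hfg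
    obtain ⟨R, hR, hDR, hRm⟩ := Groth.Agent.DvrDom.exists_dvr_dominating_of_fg D.toSubring hD L
      (s : Set L) s.finite_toSet (by
        rw [eq_top_iff]
        intro z _
        have hz : z ∈ IntermediateField.adjoin K (s : Set L) := hs ▸ IntermediateField.mem_top
        refine (Subfield.closure_le.mpr ?_ : IntermediateField.toSubfield (IntermediateField.adjoin K (s : Set L)) ≤ _) hz
        rintro w (⟨k, rfl⟩ | hw)
        · obtain ⟨a, b, _, rfl⟩ := IsFractionRing.div_surjective (A := A) k
          rw [map_div₀, ← IsScalarTower.algebraMap_apply, ← IsScalarTower.algebraMap_apply]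
          exact div_mem (Subfield.subset_closure (Or.inl ⟨⟨_, hSD (S.algebraMap_mem a)⟩, rfl⟩))
            (Subfield.subset_closure (Or.inl ⟨⟨_, hSD (S.algebraMap_mem b)⟩, rfl⟩))
        · exact Subfield.subset_closure (Or.inr hw))
    have h1 := H R hR fun a ↦ hDR ⟨_, hSD (S.algebraMap_mem a)⟩
    have h2 : R.valuation x⁻¹ < 1 := hRm _ hxD
    rw [map_inv₀] at h2
    rw [← R.valuation_le_one_iff] at h1
    exact absurd h1 (not_le.mpr ((inv_lt_one₀ (zero_lt_iff.mpr
      ((Valuation.ne_zero_iff _).mpr hx0))).mp h2))

end Groth.Agent.S4434
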