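import Groth.Statements.S4435
import Mathlib.AlgebraicGeometry.FunctionField
import Mathlib.AlgebraicGeometry.Morphisms.Finite
import Mathlib.RingTheory.Algebraic.Integral
import Mathlib.AlgebraicGeometry.Morphisms.UnderlyingMap

set_option autoImplicit false
universe u
open CategoryTheory CategoryTheory.Limits AlgebraicGeometry
open EGA2

open CategoryTheory Limits AlgebraicGeometry
set_option backward.isDefEq.respectTransparency false
namespace Groth.Agent.S4435

/-- Let X, S be integral schemes and f : X ⟶ S a dominant morphism. If f is integral, the field of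
rational functions of X is algebraic over that of S; if f is finite, it is a finite extension. Here
the extension is given by the stalk map of f at the generic point of X, whose source is the local
ring of S at the generic point of S (f being dominant), i.e. the function field of S. -/
theorem result {X S : Scheme.{u}} [IsIntegral X] [IsIntegral S]
    (f : X ⟶ S) [IsDominant f] :
    (IsIntegralHom f → (f.stalkMap (genericPoint X)).hom.IsIntegral) ∧
      (IsFinite f → (f.stalkMap (genericPoint X)).hom.Finite) := by
  have hη : f (genericPoint X) = genericPoint S := by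
    refine ((genericPoint_spec S).eq ?_).symm
    show IsGenericPoint (f (genericPoint X)) Set.univ
    have h1 := (genericPoint_spec X).image f.continuous
    rw [Set.image_univ, f.denseRange.closure_eq] at h1
    exact h1
  have hK : IsField (S.presheaf.stalk (f (genericPoint X))) := by
    rw [hη]; exact Field.toIsField S.functionField
  obtain ⟨U, hU, hξU, -⟩ := exists_isAffineOpen_mem_and_subset (U := (⊤ : S.Opens)) (x := f (genericPoint X)) trivial
  have main : IsIntegralHom f →
      (f.stalkMap (genericPoint X)).hom.IsIntegral ∧ (IsFinite f → (f.stalkMap (genericPoint X)).hom.Finite) := by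
    intro hi
    have hV : IsAffineOpen (f ⁻¹ᵁ U) := hU.preimage f
    haveI : Nonempty (f ⁻¹ᵁ U : X.Opens) := ⟨⟨genericPoint X, hξU⟩⟩
    haveI := functionField_isFractionRing_of_isAffineOpen X _ hV
    let K := S.presheaf.stalk (f (genericPoint X))
    let L : CommRingCat := X.presheaf.stalk (genericPoint X)
    letI : Field K := hK.toField
    letI fL : Field L := inferInstanceAs (Field X.functionField)
    let φ := (f.stalkMap (genericPoint X)).hom
    letI : Algebra K L := φ.toAlgebra
    let g : Γ(X, f ⁻¹ᵁ U) →+* L := (X.presheaf.germ (f ⁻¹ᵁ U) (genericPoint X) hξU).hom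
    have hg : ∀ b, IsIntegral K (g b) := fun b => by
      obtain ⟨P, hP, hPb⟩ := IsIntegralHom.isIntegral_app (f := f) U hU b
      refine ⟨P.map (S.presheaf.germ U (f (genericPoint X)) hξU).hom, hP.map _, ?_⟩
      rw [Polynomial.eval₂_map]
      have e : (algebraMap K L).comp (S.presheaf.germ U (f (genericPoint X)) hξU).hom = g.comp (f.app U).hom := by
        show φ.comp _ = _
        simp only [φ, g, ← CommRingCat.hom_comp]
        rw [Scheme.Hom.germ_stalkMap]
      rw [e, ← Polynomial.hom_eval₂, hPb, map_zero]
    have hdiv : ∀ z : L, ∃ b s, z = g b * (g s)⁻¹ := fun z => by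
      obtain ⟨b, s, -, e⟩ := IsFractionRing.div_surjective (A := Γ(X, f ⁻¹ᵁ U)) (z : X.functionField)
      exact ⟨b, s, by rw [← e, div_eq_mul_inv]; rfl⟩
    have hint : Algebra.IsIntegral K L := ⟨fun z => by
      obtain ⟨b, s, rfl⟩ := hdiv z
      exact (hg b).mul ((hg s).inv)⟩
    refine ⟨hint.1, fun hf => ?_⟩
    have hfin : (f.app U).hom.Finite := IsFinite.finite_app (f := f) U hU
    obtain ⟨t, ht⟩ := (RingHom.Finite.finiteType hfin : @Algebra.FiniteType _ _ _ _ (f.app U).hom.toAlgebra).out
    let T := Algebra.adjoin K (g '' (t : Set Γ(X, f ⁻¹ᵁ U)))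
    have hgT : ∀ b, g b ∈ T := by
      intro b
      letI := (f.app U).hom.toAlgebra
      have hb : b ∈ Algebra.adjoin Γ(S, U) (t : Set Γ(X, f ⁻¹ᵁ U)) := ht ▸ Algebra.mem_top
      induction hb using Algebra.adjoin_induction with
      | mem x hx => exact Algebra.subset_adjoin ⟨x, hx, rfl⟩
      | algebraMap r =>
        have : g (algebraMap Γ(S, U) Γ(X, f ⁻¹ᵁ U) r) = φ (S.presheaf.germ U (f (genericPoint X)) hξU r) :=
          (Scheme.Hom.germ_stalkMap_apply f U (genericPoint X) hξU r).symm
        rw [this]
        exact T.algebraMap_mem (S.presheaf.germ U (f (genericPoint X)) hξU r)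
      | add x y _ _ hx hy => rw [map_add]; exact add_mem hx hy
      | mul x y _ _ hx hy => rw [map_mul]; exact mul_mem hx hy
    have htop : T = ⊤ := by
      rw [eq_top_iff]
      intro z _
      obtain ⟨b, s, rfl⟩ := hdiv z
      exact mul_mem (hgT b) (T.inv_mem_of_algebraic (x := ⟨g s, hgT s⟩) (hg s).isAlgebraic)
    have hfg : (Subalgebra.toSubmodule T).FG := fg_adjoin_of_finite (t.finite_toSet.image g) (by
      rintro _ ⟨b, -, rfl⟩; exact hg b)
    rw [htop, Algebra.top_toSubmodule] at hfg
    exact ⟨hfg⟩
  exact ⟨fun h => (main h).1, fun h => (main inferInstance).2 h⟩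

end Groth.Agent.S4435
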