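import Groth.Statements.S4436
import Groth.Agent.LocFree.SemiLocal
-- import your own Groth.Agent.* helpers here

set_option autoImplicit false
universe u
open CategoryTheory CategoryTheory.Limits AlgebraicGeometry
open EGA2

namespace Groth.Agent.S4436

/-- Let f : X' ⟶ X be a finite morphism and F' a locally free O_{X'}-module of rank r. Then every point
of X has an open neighbourhood U over whose inverse image F' is free of rank r; this is the content
of the statement that the direct image of F' is a locally free module of rank r over the direct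
image of O_{X'} (the converse implication being immediate). -/
theorem result {X' X : Scheme.{u}} (f : X' ⟶ X) [IsFinite f] (r : ℕ)
    (F : X'.Modules) (hF : FlatMod.IsFinLocFreeOfRank r F) (x : X) :
    ∃ U : X.Opens, x ∈ U ∧ Nonempty (F.restrict (f ⁻¹ᵁ U).ι ≅ FlatMod.freeMod (↑(f ⁻¹ᵁ U)) r) := by
  obtain ⟨V, hV, hxV, -⟩ := exists_isAffineOpen_mem_and_subset (X := X) (x := x) (U := ⊤) trivial
  have hfV : IsAffineOpen (f ⁻¹ᵁ V) := hV.preimage f
  have hfin : (f ⁻¹' {x}).Finite := f.finite_preimage_singleton x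
  obtain ⟨U', hZU, -, ⟨e⟩⟩ := Groth.Agent.LocFree.exists_free_nhd hF hfin hfV
    (fun y (hy : f y = x) => by show f y ∈ V; rw [hy]; exact hxV)
  let U : X.Opens := ⟨(f '' (U' : Set X')ᶜ)ᶜ, (f.isClosedMap _ U'.2.isClosed_compl).isOpen_compl⟩
  have hxU : x ∈ U := by
    rintro ⟨y, hy, hyx⟩
    exact hy (hZU hyx)
  have hle : f ⁻¹ᵁ U ≤ U' := fun y hy => by
    by_contra hn
    exact hy ⟨y, hn, rfl⟩
  let j := X'.homOfLE hle
  have hj : j ≫ U'.ι = (f ⁻¹ᵁ U).ι := X'.homOfLE_ι hle
  exact ⟨U, hxU, ⟨(Scheme.Modules.restrictFunctorCongr hj).symm.app F ≪≫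
    (Scheme.Modules.restrictFunctorComp j U'.ι).app F ≪≫
    (Scheme.Modules.restrictFunctor j).mapIso e ≪≫
    (Scheme.Modules.restrictFunctorIsoPullback j).app _ ≪≫
    Groth.Agent.DerPerf.pullFreeIso j r⟩⟩

end Groth.Agent.S4436
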