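import Groth.Statements.S4441
import Groth.Agent.DvrDom.Generic

set_option autoImplicit false
universe u
open CategoryTheory CategoryTheory.Limits AlgebraicGeometry
open EGA2

namespace Groth.Agent.S4441

/-- Let X and Y be integral separated schemes and f : X ⟶ Y a dominant, quasi-compact, universally
closed morphism, ξ the generic point of X. Every valuation subring R of the function field K(X) of X
which dominates the local ring of Y at a point y (via O_{Y,y} → O_{Y,f(ξ)} → K(X): image inside R,
maximal ideal into the maximal ideal of R) also dominates the local ring of X at some point x (via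
O_{X,x} → K(X)). -/
theorem result {X Y : Scheme.{u}} [IsIntegral X] [IsIntegral Y]
    [X.IsSeparated] [Y.IsSeparated] (f : X ⟶ Y) [IsDominant f] [QuasiCompact f] [UniversallyClosed f]
    (R : ValuationSubring X.functionField) (y : Y) (hy : f.base (genericPoint X) ⤳ y)
    (hdom : (∀ a : Y.presheaf.stalk y, (Y.presheaf.stalkSpecializes hy ≫ f.stalkMap (genericPoint X)).hom a ∈ R) ∧
      ∀ a ∈ IsLocalRing.maximalIdeal (Y.presheaf.stalk y),
        R.valuation ((Y.presheaf.stalkSpecializes hy ≫ f.stalkMap (genericPoint X)).hom a) < 1) :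
    ∃ x : X, (∀ a : X.presheaf.stalk x, algebraMap (X.presheaf.stalk x) X.functionField a ∈ R) ∧
      ∀ a ∈ IsLocalRing.maximalIdeal (X.presheaf.stalk x), R.valuation (algebraMap (X.presheaf.stalk x) X.functionField a) < 1 := by
  obtain ⟨V, rfl⟩ : ∃ V : ValuationSubring (X.residueField (genericPoint X)), Groth.Agent.DvrDom.toFF V = R := by
    let e := RingEquiv.ofBijective (Groth.Agent.DvrDom.ffRes (X := X)) Groth.Agent.DvrDom.ffRes_bijective
    refine ⟨R.comap e.symm.toRingHom, ?_⟩
    ext z
    show e.symm (e z) ∈ R ↔ z ∈ R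
    rw [e.symm_apply_apply]
  have hmem : ∀ a, (Groth.Agent.DvrDom.toResidue f (genericPoint X) hy).hom a ∈ V := hdom.1
  have hm := fun a ha ↦ (Groth.Agent.DvrDom.valuation_toFF_lt_one V _).mp (hdom.2 a ha)
  let S : ValuativeCommSq f :=
    { R := V
      K := X.residueField (genericPoint X)
      i₁ := X.fromSpecResidueField (genericPoint X)
      i₂ := Groth.Agent.DvrDom.centreMap V _ hmem
      commSq := ⟨by
        show _ = Spec.map (CommRingCat.ofHom V.subtype) ≫ _
        rw [Groth.Agent.DvrDom.subtype_centreMap]
        exact (Groth.Agent.DvrDom.SpecMap_toResidue_fromSpecStalk f _ hy).symm⟩ }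
  have hE : ValuativeCriterion.Existence f :=
    (show (ValuativeCriterion.Existence ⊓ @QuasiCompact : MorphismProperty Scheme.{u}) f by
      rw [← UniversallyClosed.eq_valuativeCriterion]; assumption).1
  obtain ⟨⟨l, h1, h2⟩⟩ := (hE S).exists_lift
  obtain ⟨x, -, h⟩ := Groth.Agent.DvrDom.dominated_of_lift f hm h2 h1
  exact ⟨x, h⟩

end Groth.Agent.S4441
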