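import Groth.Statements.S4442
import Groth.Agent.WeilLib.Trdeg

set_option autoImplicit false
set_option linter.style.haveILetI false
universe u
open CategoryTheory CategoryTheory.Limits AlgebraicGeometry
attribute [local instance] Curv2.resAlgebra
open EGA2

namespace Groth.Agent.S4442

noncomputable local instance specOrd (X : Scheme.{u}) : PartialOrder X := specializationOrder X

theorem isMax_iff {X : Scheme.{u}} (η : X) :
    IsMax η ↔ closure ({η} : Set X) ∈ irreducibleComponents X := by
  constructor
  · intro h
    refine ⟨isIrreducible_singleton.closure, fun Z hZ hle => ?_⟩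
    obtain ⟨y, hy⟩ := QuasiSober.sober (α := X) hZ.closure isClosed_closure
    have h1 : y ⤳ η := hy.specializes (subset_closure (hle (subset_closure rfl)))
    have h2 : η = y := (show η ≤ y from h1).antisymm (h h1)
    subst h2
    exact subset_closure.trans hy.def.ge
  · intro h y hy
    refine specializes_iff_mem_closure.2 (h.2 (isIrreducible_singleton (x := y)).closure ?_ (subset_closure rfl))
    exact closure_minimal (Set.singleton_subset_iff.2 (specializes_iff_mem_closure.1 hy)) isClosed_closure

theorem exists_isMax {X : Scheme.{u}} (x : X) : ∃ η, x ≤ η ∧ IsMax η := by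
  obtain ⟨η, hη⟩ := QuasiSober.sober (α := X) (S := irreducibleComponent x)
    isIrreducible_irreducibleComponent isClosed_irreducibleComponent
  refine ⟨η, hη.specializes mem_irreducibleComponent, (isMax_iff η).2 ?_⟩
  rw [hη.def]
  exact irreducibleComponent_mem_irreducibleComponents x

/-- (a) ⇔ (b): let X be a scheme of finite type over a field k. The residue fields of the generic points
of the irreducible components of X all have transcendence degree one over k if and only if the local
ring of X at every closed point has dimension one. (The published statement has a third equivalent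
condition: the irreducible closed subsets of X other than the irreducible components are exactly the
closed points of X. This row states only the equivalence of the first two.) -/
theorem result (k : Type u) [Field k] (X : Scheme.{u})
    [X.Over (Spec (CommRingCat.of k))] [LocallyOfFiniteType (X ↘ (Spec (CommRingCat.of k)))]
    [QuasiCompact (X ↘ (Spec (CommRingCat.of k)))] :
    (∀ x : X, closure ({x} : Set X) ∈ irreducibleComponents (X : Type u) → Algebra.trdeg k (X.residueField x) = 1) ↔
      ∀ x : X, IsClosed ({x} : Set X) → ringKrullDim (X.presheaf.stalk x) = 1 := by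
  let f := X ↘ Spec (CommRingCat.of k)
  haveI : CompactSpace X := QuasiCompact.compactSpace_of_compactSpace f
  have hk : ∀ x : X, Algebra.trdeg k (X.residueField x) = WeilLib.trd f x := fun x => by
    have : Curv2.resMap k X x = WeilLib.kStr f x := by
      ext c
      simp [Curv2.resMap, Curv2.stalkMap, Coh.toGlobal, WeilLib.kStr, WeilLib.secStr, f, Scheme.Hom.app_eq_appLE]
      rfl
    unfold WeilLib.trd
    rw [← this]
  have hfin : ∀ x : X, Order.height x < ⊤ := fun x => by
    rw [(WeilLib.exists_pdim_eq_trd f x).2]; exact ENat.natCast_lt_top _
  have hh : ∀ x : X, Algebra.trdeg k (X.residueField x) = 1 ↔ Order.height x = 1 := fun x => by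
    rw [hk, (WeilLib.exists_pdim_eq_trd f x).1, (WeilLib.exists_pdim_eq_trd f x).2]
    exact_mod_cast Iff.rfl
  have hd : ∀ x : X, ringKrullDim (X.presheaf.stalk x) = 1 ↔ Order.coheight x = 1 := fun x => by
    rw [ringKrullDim_stalk_eq_coheight]; exact WithBot.coe_eq_one
  have hc : ∀ x : X, IsClosed ({x} : Set X) ↔ IsMin x := fun x =>
    ⟨fun h y hy => le_of_eq (h.stableUnderSpecialization (show x ⤳ y from hy) rfl : y = x).symm,
     fun h => isClosed_of_closure_subset fun y hy =>
      ((show y ≤ x from specializes_iff_mem_closure.2 hy).antisymm (h (specializes_iff_mem_closure.2 hy)))⟩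
  constructor
  · intro h x hx
    rw [hd]
    refine le_antisymm ((Order.coheight_le_coe_iff (n := 1)).2 fun y hy => ?_) ?_
    · rw [Nat.cast_one, Order.lt_one_iff, Order.coheight_eq_zero]
      intro z hz
      by_contra hne
      obtain ⟨η, hzη, hη⟩ := exists_isMax z
      have h1 := (hh η).1 (h η ((isMax_iff η).1 hη))
      have h2 := (Order.height_le_coe_iff (n := 1)).1 h1.le y ((lt_of_le_not_ge hz hne).trans_le hzη)
      rw [Nat.cast_one, Order.lt_one_iff, Order.height_eq_zero] at h2
      exact hy.not_ge (h2 hy.le)
    · rw [Order.one_le_iff_pos, Order.coheight_pos]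
      intro hmax
      have h1 := (hh x).1 (h x ((isMax_iff x).1 hmax))
      rw [Order.height_eq_zero.2 ((hc x).1 hx)] at h1
      exact zero_ne_one h1
  · intro h η hη
    rw [← isMax_iff] at hη
    rw [hh]
    refine le_antisymm ((Order.height_le_coe_iff (n := 1)).2 fun y hy => ?_) ?_
    · rw [Nat.cast_one, Order.lt_one_iff, Order.height_eq_zero]
      intro z hz
      by_contra hne
      obtain ⟨c, hcz, hc'⟩ := (isClosed_closure (s := ({z} : Set X))).exists_closed_singleton ⟨z, subset_closure rfl⟩
      have hcy : c < y := lt_of_le_of_lt (specializes_iff_mem_closure.2 hcz : c ≤ z) (lt_of_le_not_ge hz hne)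
      have h2 := (Order.coheight_le_coe_iff (n := 1)).1 ((hd c).1 (h c hc')).le y hcy
      rw [Nat.cast_one, Order.lt_one_iff, Order.coheight_eq_zero] at h2
      exact hy.not_ge (h2 hy.le)
    · rw [Order.one_le_iff_pos, Order.height_pos]
      intro hmin
      have h1 := (hd η).1 (h η ((hc η).2 hmin))
      rw [Order.coheight_eq_zero.2 hη] at h1
      exact zero_ne_one h1

end Groth.Agent.S4442
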