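import Groth.Statements.S4443
import Groth.Agent.S12129

set_option autoImplicit false
universe u
open CategoryTheory CategoryTheory.Limits AlgebraicGeometry
open EGA2

namespace Groth.Agent.S4443

open AlgebraicGeometry CategoryTheory TopologicalSpace in
theorem main {k : Type u} [Field k] {X : Scheme.{u}} (f : X ⟶ Spec (CommRingCat.of k)) [LocallyOfFiniteType f] [QuasiCompact f]
    [IrreducibleSpace X] (hcurve : ∀ x : X, IsClosed ({x} : Set X) → ringKrullDim (X.presheaf.stalk x) = 1) :
    (∀ x : X, ¬ IsClosed ({x} : Set X) → x = genericPoint X) ∧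
      ∀ F : Set X, IsClosed F → (F ≠ Set.univ ↔ (F.Finite ∧ ∀ x ∈ F, IsClosed ({x} : Set X))) := by
  obtain ⟨h1, -⟩ := (Groth.Agent.S12129.main f).1 hcurve
  have hg : IsGenericPoint (genericPoint X) (Set.univ : Set X) := genericPoint_spec X
  have hA : ∀ x : X, ¬ IsClosed ({x} : Set X) → x = genericPoint X := by
    intro x hx
    by_cases hc : closure ({x} : Set X) ∈ irreducibleComponents (X : Type u)
    · rw [irreducibleComponents_eq_singleton, Set.mem_singleton_iff] at hc
      exact (show IsGenericPoint x (Set.univ : Set X) from hc).eq hg
    · obtain ⟨w, hw, hxw⟩ := h1 _ isClosed_closure isIrreducible_singleton.closure hc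
      obtain rfl : x = w := hxw.subset (subset_closure rfl)
      exact absurd hw hx
  refine ⟨hA, fun F hF => ⟨fun hne => ?_, ?_⟩⟩
  · have hnη : genericPoint X ∉ F := fun hη =>
      hne (Set.univ_subset_iff.1 (hg.def.symm.subset.trans (closure_minimal (Set.singleton_subset_iff.2 hη) hF)))
    have hpt : ∀ x ∈ F, IsClosed ({x} : Set X) := fun x hx => by
      by_contra hc
      exact hnη (hA x hc ▸ hx)
    refine ⟨?_, hpt⟩
    have : CompactSpace X := QuasiCompact.compactSpace_of_compactSpace f
    have : IsLocallyNoetherian X := LocallyOfFiniteType.isLocallyNoetherian f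
    have : AlgebraicGeometry.IsNoetherian X := {}
    obtain ⟨S, hSf, hSc, hSi, hFS⟩ := NoetherianSpace.exists_finite_set_isClosed_irreducible hF
    rw [hFS]
    refine hSf.sUnion fun t ht => Set.Subsingleton.finite fun a ha b hb => ?_
    have htF : t ⊆ F := hFS ▸ Set.subset_sUnion_of_mem ht
    have hgen : ∀ c ∈ t, c = (hSi t ht).genericPoint := fun c hc => by
      have hgt : (hSi t ht).genericPoint ∈ t :=
        ((hSi t ht).closure_genericPoint (hSc t ht)).subset (subset_closure rfl)
      have h := ((hSi t ht).closure_genericPoint (hSc t ht)).symm.subset hc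
      rw [(hpt _ (htF hgt)).closure_eq] at h
      exact h
    rw [hgen a ha, hgen b hb]
  · rintro ⟨-, h2⟩ e
    have hη := h2 (genericPoint X) (e ▸ Set.mem_univ _)
    have huniv : (Set.univ : Set X) = {genericPoint X} := by rw [← hg.def, hη.closure_eq]
    have := (Groth.Agent.S12129.main f).1 hcurve |>.2 (genericPoint X) hη
    rw [irreducibleComponents_eq_singleton, Set.mem_singleton_iff] at this
    exact this huniv.symm

/-- Let X be an irreducible algebraic curve over a field k (separated and of finite type over k,
nonempty, irreducible, local rings at closed points of dimension one). Then the generic point is the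
only non-closed point of X, and the closed subsets of X distinct from X are exactly the finite sets
of closed points. (The published statement adds that these are also exactly the subsets of X that
are not dense in X, an immediate consequence; this row does not state it.) -/
theorem result (k : Type u) [Field k] (X : Scheme.{u})
    [X.Over (Spec (CommRingCat.of k))] [LocallyOfFiniteType (X ↘ (Spec (CommRingCat.of k)))]
    [QuasiCompact (X ↘ (Spec (CommRingCat.of k)))] [IsSeparated (X ↘ (Spec (CommRingCat.of k)))]
    [Nonempty X] [IrreducibleSpace X] (hcurve : ∀ x : X, IsClosed ({x} : Set X) → ringKrullDim (X.presheaf.stalk x) = 1) :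
    (∀ x : X, ¬ IsClosed ({x} : Set X) → x = genericPoint X) ∧
      ∀ F : Set X, IsClosed F → (F ≠ Set.univ ↔ (F.Finite ∧ ∀ x ∈ F, IsClosed ({x} : Set X))) := by
  exact main (X ↘ Spec (CommRingCat.of k)) hcurve

end Groth.Agent.S4443
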