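import Groth.Statements.S4444
import Groth.Agent.SmoothCompl.Basic
import Groth.Agent.NagataNorm.Basic
import Groth.Agent.GeomProp.NormalColim
import Groth.Agent.Nagata.Japanese
import Groth.Agent.TopDim.Basic
import Groth.Agent.S1617
import Groth.Agent.S0384
import Groth.Agent.NormalizationNormal.Main
-- import your own Groth.Agent.* helpers here

set_option autoImplicit false
universe u
open CategoryTheory CategoryTheory.Limits AlgebraicGeometry
open EGA2

set_option backward.isDefEq.respectTransparency false
set_option linter.style.haveILetI false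

namespace Groth.Agent.S4444

/-- Every normal algebraic curve X over a field k (separated and of finite type over k, nonempty, local
rings at closed points of dimension one, all local rings integrally closed domains) admits a
k-morphism which is an open immersion with dense image into a normal algebraic curve proper over k.
(The uniqueness of this completion up to unique isomorphism is not part of this row.) -/
theorem result (k : Type u) [Field k] (X : Scheme.{u})
    [X.Over (Spec (CommRingCat.of k))] [LocallyOfFiniteType (X ↘ (Spec (CommRingCat.of k)))]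
    [QuasiCompact (X ↘ (Spec (CommRingCat.of k)))] [IsSeparated (X ↘ (Spec (CommRingCat.of k)))] [Nonempty X]
    (hcurve : ∀ x : X, IsClosed ({x} : Set X) → ringKrullDim (X.presheaf.stalk x) = 1) (hnorm : Pi1.IsNormalScheme X) :
    ∃ (Xc : Scheme.{u}) (sc : Xc ⟶ Spec (CommRingCat.of k)) (j : X ⟶ Xc), IsOpenImmersion j ∧ Dense (Set.range j.base) ∧
      j ≫ sc = X ↘ (Spec (CommRingCat.of k)) ∧ IsProper sc ∧ Pi1.IsNormalScheme Xc ∧
      ∀ x : Xc, IsClosed ({x} : Set Xc) → ringKrullDim (Xc.presheaf.stalk x) = 1 := by
  let s := X ↘ Spec (CommRingCat.of k)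
  haveI : IsLocallyNoetherian X := LocallyOfFiniteType.isLocallyNoetherian s
  haveI : CompactSpace X := QuasiCompact.compactSpace_of_compactSpace s
  haveI : IsNoetherian X := ⟨⟩
  haveI : IsReduced X :=
    haveI : ∀ x, _root_.IsReduced (X.presheaf.stalk x) := fun x => by
      haveI := (hnorm x).1; infer_instance
    isReduced_of_isReduced_stalk X
  obtain ⟨Y, j, g, hj, hjq, hg, hjg⟩ := Groth.Agent.S0384.result s
  haveI := hj
  haveI := hjq
  haveI := hg
  have hY : ∀ U : Y.affineOpens, CAlg.IsNagata Γ(Y, U.1) := fun U => by
    have h := LocallyOfFiniteType.finiteType_appLE g (U := ⊤) (isAffineOpen_top _) U.2 le_top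
    letI := ((Scheme.ΓSpecIso (CommRingCat.of k)).inv ≫ g.appLE ⊤ U.1 le_top).hom.toAlgebra
    haveI : Algebra.FiniteType k Γ(Y, U.1) := by
      show ((Scheme.ΓSpecIso (CommRingCat.of k)).inv ≫ g.appLE ⊤ U.1 le_top).hom.FiniteType
      rw [CommRingCat.hom_comp]
      exact h.comp (RingHom.FiniteType.of_surjective _
        (ConcreteCategory.bijective_of_isIso (Scheme.ΓSpecIso (CommRingCat.of k)).inv).2)
    exact Groth.Agent.Nagata.isNagata_of_finiteType (R := k) (Groth.Agent.GeomProp.isN2_quotient_field k)
  haveI : IsFinite j.fromNormalization := Groth.Agent.NagataNorm.isFinite_fromNormalization j hY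
    (fun U => Groth.Agent.NagataNorm.finite_components_of_isCompact (j ⁻¹ᵁ U.1)
      (j.isCompact_preimage U.2.isCompact))
    (fun x _ => Groth.Agent.NagataNorm.residueFieldMap_essFiniteType j x)
  have hN : Pi1.IsNormalScheme j.normalization := Groth.Agent.NormalizationNormal.isNormal_normalization j hnorm
    (haveI : Finite ↥(irreducibleComponents ↥X) := (TopologicalSpace.NoetherianSpace.finite_irreducibleComponents (α := X)).to_subtype
     locallyFinite_of_finite _)
  let sc := j.fromNormalization ≫ g
  have hsc : j.toNormalization ≫ sc = s := by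
    rw [← Category.assoc, j.toNormalization_fromNormalization, hjg]
  haveI : IsProper sc := inferInstance
  have hd : Dense (Set.range j.toNormalization.base) := j.toNormalization.denseRange
  refine ⟨j.normalization, sc, j.toNormalization, inferInstance, hd, hsc, inferInstance, hN, fun c hc => ?_⟩
  have hdimX : topologicalKrullDim X ≤ 1 := by
    rw [Groth.Agent.TopDim.dim_eq_iSup_closed_localDim]
    exact iSup₂_le fun x hx => (Groth.Agent.S1617.result k X x hx).le.trans (hcurve x hx).le
  by_cases hcr : c ∈ Set.range j.toNormalization.base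
  · obtain ⟨x, rfl⟩ := hcr
    have hx : IsClosed ({x} : Set X) := by
      have := hc.preimage j.toNormalization.continuous
      rwa [show (j.toNormalization.base ⁻¹' {j.toNormalization.base x}) = {x} from Set.ext fun y =>
        j.toNormalization.isOpenEmbedding.injective.eq_iff] at this
    rw [← hcurve x hx]
    exact ringKrullDim_eq_of_ringEquiv (asIso (j.toNormalization.stalkMap x)).commRingCatIsoToRingEquiv
  · refine le_antisymm ((Groth.Agent.SmoothCompl.ringKrullDim_stalk_le c).trans
      (Groth.Agent.CurveCompl.dim_le_one_of_dense_immersion s hdimX sc j.toNormalization hsc hd).1) ?_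
    obtain ⟨x, hx⟩ := Groth.Agent.DomLib.exists_specializes j.toNormalization (y := c) (hd c)
    obtain ⟨Q, hQ⟩ : j.toNormalization.base x ∈ Set.range (j.normalization.fromSpecStalk c) := by
      rw [Scheme.range_fromSpecStalk]; exact hx
    refine Order.one_le_krullDim_iff.2 ⟨Q, IsLocalRing.closedPoint _, ?_⟩
    refine lt_of_le_of_ne (IsLocalRing.le_maximalIdeal Q.2.ne_top) fun e => hcr ?_
    rw [e, Scheme.fromSpecStalk_closedPoint] at hQ
    exact ⟨x, hQ.symm⟩

end Groth.Agent.S4444
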