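import Groth.Statements.S4449
import Groth.Agent.DvrDom.Generic

set_option autoImplicit false
universe u
open CategoryTheory CategoryTheory.Limits AlgebraicGeometry
open EGA2

namespace Groth.Agent.S4449

/-- Case of an arbitrary integral separated base: let Y and X be integral separated schemes and f : X ⟶
Y a dominant morphism of finite type, ξ the generic point of X. Suppose that every valuation subring
R of K(X) other than K(X) itself which dominates the local ring of Y at a point y (via O_{Y,y} →
O_{Y,f(ξ)} → K(X)) dominates the local ring of X at some point x (via O_{X,x} → K(X)). Then f is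
proper. (Compare the locally Noetherian variant with discrete valuation rings.) -/
theorem result {X Y : Scheme.{u}} [IsIntegral X] [IsIntegral Y]
    [X.IsSeparated] [Y.IsSeparated] (f : X ⟶ Y) [IsDominant f] [LocallyOfFiniteType f] [QuasiCompact f]
    (h : ∀ (R : ValuationSubring X.functionField), R ≠ ⊤ →
      ∀ (y : Y) (hy : f.base (genericPoint X) ⤳ y),
        ((∀ a : Y.presheaf.stalk y, (Y.presheaf.stalkSpecializes hy ≫ f.stalkMap (genericPoint X)).hom a ∈ R) ∧
          ∀ a ∈ IsLocalRing.maximalIdeal (Y.presheaf.stalk y),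
            R.valuation ((Y.presheaf.stalkSpecializes hy ≫ f.stalkMap (genericPoint X)).hom a) < 1) →
        ∃ x : X, (∀ a : X.presheaf.stalk x, algebraMap (X.presheaf.stalk x) X.functionField a ∈ R) ∧
          ∀ a ∈ IsLocalRing.maximalIdeal (X.presheaf.stalk x), R.valuation (algebraMap (X.presheaf.stalk x) X.functionField a) < 1) :
    IsProper f := by
  have : IsSeparated f := IsSeparated.of_comp f (Limits.terminal.from Y)
  refine Groth.Agent.DvrDom.isProper_of_lifts f fun x₀ y ↦ Groth.Agent.DvrDom.lifts_of_generic f ?_ x₀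
  intro hy V hmem hm
  have hdom : (∀ a : Y.presheaf.stalk y, (Y.presheaf.stalkSpecializes hy ≫ f.stalkMap (genericPoint X)).hom a ∈
      Groth.Agent.DvrDom.toFF V) ∧ ∀ a ∈ IsLocalRing.maximalIdeal (Y.presheaf.stalk y),
      (Groth.Agent.DvrDom.toFF V).valuation ((Y.presheaf.stalkSpecializes hy ≫ f.stalkMap (genericPoint X)).hom a) < 1 :=
    ⟨fun a ↦ hmem a, fun a ha ↦ (Groth.Agent.DvrDom.valuation_toFF_lt_one V _).mpr (hm a ha)⟩
  obtain ⟨x, hxy, h1, h2⟩ : ∃ x : X, f x = y ∧
      (∀ a : X.presheaf.stalk x, algebraMap (X.presheaf.stalk x) X.functionField a ∈ Groth.Agent.DvrDom.toFF V) ∧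
      ∀ a ∈ IsLocalRing.maximalIdeal (X.presheaf.stalk x),
        (Groth.Agent.DvrDom.toFF V).valuation (algebraMap (X.presheaf.stalk x) X.functionField a) < 1 := by
    by_cases htop : Groth.Agent.DvrDom.toFF V = ⊤
    · have hzero : ∀ z, (Groth.Agent.DvrDom.toFF V).valuation z < 1 → z = 0 := fun z hz ↦ by
        rcases (Groth.Agent.DvrDom.valuation_lt_one_iff' _ _).mp hz with h0 | h0
        · exact h0
        · exact absurd (htop ▸ ValuationSubring.mem_top _) h0
      refine ⟨genericPoint X, ?_, fun a ↦ htop ▸ ValuationSubring.mem_top _, fun a ha ↦ ?_⟩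
      · refine (Groth.Agent.DvrDom.eq_of_stalkSpecializes_maximalIdeal hy fun a ha hu ↦ ?_).symm
        exact (hu.map (f.stalkMap (genericPoint X)).hom).ne_zero (hzero _ (hdom.2 a ha))
      · have : a = 0 := by
          have h0 := IsLocalRing.isField_iff_maximalIdeal_eq.mp (Field.toIsField X.functionField)
          exact Ideal.mem_bot.mp (h0 ▸ ha)
        rw [this, map_zero, map_zero]
        exact zero_lt_one
    · obtain ⟨x, h1, h2⟩ := h _ htop y hy hdom
      exact ⟨x, Groth.Agent.DvrDom.apply_eq_of_dominated f hmem hm h1 h2, h1, h2⟩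
  exact Groth.Agent.DvrDom.lift_of_dominated f hmem hm hxy h1 h2

end Groth.Agent.S4449
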