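import Groth.Statements.S4451
import Groth.Agent.CurveFF.Places
import Groth.Agent.RatExt.Basic

set_option autoImplicit false
universe u
open CategoryTheory CategoryTheory.Limits AlgebraicGeometry
attribute [local instance] Curv2.stalkAlgebra
open EGA2

namespace Groth.Agent.S4451

/-- Let X be a normal, complete, irreducible algebraic curve over a field k with field of rational
functions K. The set of local rings of X, as subrings of K, consists of K itself (at the generic
point) and of the valuation rings of K containing k (and distinct from K): every non-generic point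
has such a valuation ring as local ring, and every such valuation ring is the local ring of exactly
one point. -/
theorem result (k : Type u) [Field k] (X : Scheme.{u})
    [X.Over (Spec (CommRingCat.of k))] [IsProper (X ↘ (Spec (CommRingCat.of k)))] [IsIntegral X]
    (hX : ∀ x : X, IsClosed ({x} : Set X) → ringKrullDim (X.presheaf.stalk x) = 1) (hnorm : Pi1.IsNormalScheme X) :
    (∀ x : X, x ≠ genericPoint X → ∃ R : ValuationSubring X.functionField, R ≠ ⊤ ∧
        (R : Set X.functionField) = Set.range (algebraMap (X.presheaf.stalk x) X.functionField)) ∧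
      ∀ R : ValuationSubring X.functionField, R ≠ ⊤ → (∀ c : k, algebraMap k X.functionField c ∈ R) →
        ∃! x : X, (R : Set X.functionField) = Set.range (algebraMap (X.presheaf.stalk x) X.functionField) := by
  haveI : IsLocallyNoetherian X := LocallyOfFiniteType.isLocallyNoetherian (X ↘ Spec (CommRingCat.of k))
  haveI : JacobsonSpace X := LocallyOfFiniteType.jacobsonSpace (X ↘ Spec (CommRingCat.of k))
  haveI : X.IsSeparated := ⟨by rw [← terminal.comp_from (X ↘ Spec (CommRingCat.of k))]; infer_instance⟩
  have hclosed : ∀ x : X, x ≠ genericPoint X → IsClosed ({x} : Set X) := by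
    intro x hx
    obtain ⟨c, hxc, hc⟩ := nonempty_inter_closedPoints (Z := closure ({x} : Set X))
      ⟨x, subset_closure rfl⟩ isClosed_closure.isLocallyClosed
    haveI := (hnorm c).1
    haveI : Ring.KrullDimLE 1 (X.presheaf.stalk c) := Ring.krullDimLE_iff.2 (hX c hc).le
    have hsp : x ⤳ c := specializes_iff_mem_closure.2 hxc
    obtain ⟨Q, hQ⟩ : x ∈ Set.range (X.fromSpecStalk c) := by rw [Scheme.range_fromSpecStalk]; exact hsp
    obtain ⟨Qη, hQη⟩ : genericPoint X ∈ Set.range (X.fromSpecStalk c) := by
      rw [Scheme.range_fromSpecStalk]; exact (genericPoint_spec X).specializes trivial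
    have hQ0 : Q.asIdeal ≠ ⊥ := fun h0 => hx (by
      have h1 : Q ⤳ Qη := (PrimeSpectrum.le_iff_specializes Q Qη).1
        (show Q.asIdeal ≤ Qη.asIdeal from h0 ▸ bot_le)
      have h2 := h1.map (X.fromSpecStalk c).continuous
      rw [hQ, hQη] at h2
      exact (h2.antisymm ((genericPoint_spec X).specializes trivial)).eq)
    have hQm : Q = IsLocalRing.closedPoint _ :=
      PrimeSpectrum.ext (IsLocalRing.eq_maximalIdeal (Ideal.IsPrime.isMaximal_of_ne_bot Q.2 hQ0))
    rw [hQm, Scheme.fromSpecStalk_closedPoint] at hQ
    exact hQ ▸ hc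
  have hdvr : ∀ x : X, x ≠ genericPoint X → IsDiscreteValuationRing (X.presheaf.stalk x) := by
    intro x hx
    haveI := (hnorm x).1
    haveI := (hnorm x).2
    haveI : ValuationRing (X.presheaf.stalk x) :=
      Groth.Agent.RatExt.valuationRing_of_dim_le_one (hX x (hclosed x hx)).le
    haveI : IsPrincipalIdealRing (X.presheaf.stalk x) := ((IsBezout.TFAE (R := X.presheaf.stalk x)).out 0 1 rfl rfl).1 inferInstance
    have hF : ¬ IsField (X.presheaf.stalk x) := fun hF => by
      letI := hF.toField
      have h1 : ringKrullDim (X.presheaf.stalk x) = 0 := ringKrullDim_eq_zero_of_isField hF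
      rw [hX x (hclosed x hx)] at h1
      exact one_ne_zero h1
    exact { not_a_field' := fun h => hF (IsLocalRing.isField_iff_maximalIdeal_eq.2 h) }
  have hvs : ∀ x : X, x ≠ genericPoint X → ∃ R : ValuationSubring X.functionField, R ≠ ⊤ ∧
      (R : Set X.functionField) = Set.range (algebraMap (X.presheaf.stalk x) X.functionField) := by
    intro x hx
    haveI := hdvr x hx
    let R : ValuationSubring X.functionField :=
      { (algebraMap (X.presheaf.stalk x) X.functionField).range with
        mem_or_inv_mem' := fun z => by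
          rcases ValuationRing.isInteger_or_isInteger (X.presheaf.stalk x) z with ⟨a, ha⟩ | ⟨a, ha⟩
          · exact Or.inl ⟨a, ha⟩
          · exact Or.inr ⟨a, ha⟩ }
    refine ⟨R, fun htop => ?_, rfl⟩
    obtain ⟨ϖ, hϖ⟩ := IsDiscreteValuationRing.exists_irreducible (X.presheaf.stalk x)
    obtain ⟨a, ha⟩ := (htop.symm ▸ trivial : (algebraMap (X.presheaf.stalk x) X.functionField ϖ)⁻¹ ∈ R)
    apply hϖ.not_isUnit
    refine IsUnit.of_mul_eq_one a (IsFractionRing.injective (X.presheaf.stalk x) X.functionField ?_)
    rw [map_mul, map_one, ha, mul_inv_cancel₀]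
    exact fun h => hϖ.ne_zero (IsFractionRing.injective (X.presheaf.stalk x) X.functionField (by rw [h, map_zero]))
  refine ⟨hvs, fun R hR hkR => ?_⟩
  -- the centre
  let g : CommRingCat.of R ⟶ X.functionField := CommRingCat.ofHom R.subtype
  let kR : k →+* R := (algebraMap k X.functionField).codRestrict R.toSubring hkR
  have hsq : CommSq (X.fromSpecStalk (genericPoint X)) (Spec.map g) (X ↘ Spec (CommRingCat.of k))
      (Spec.map (CommRingCat.ofHom kR)) := ⟨by
    rw [Groth.Agent.CurveFF.fromSpecStalk_comp_str, ← Spec.map_comp]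
    congr 1
    ext c
    simp [g, kR, Groth.Agent.CurveFF.stStr, Groth.Agent.WeilLib.secStr, Curv2.stalkMap, Coh.toGlobal,
      RingHom.algebraMap_toAlgebra, Scheme.Hom.appTop, Scheme.Hom.appLE]
    rfl⟩
  let S : ValuativeCommSq (X ↘ Spec (CommRingCat.of k)) :=
    { R := R
      K := X.functionField
      i₁ := X.fromSpecStalk (genericPoint X)
      i₂ := Spec.map (CommRingCat.ofHom kR)
      commSq := hsq }
  have hv : ValuativeCriterion (X ↘ Spec (CommRingCat.of k)) := by
    have h : IsProper (X ↘ Spec (CommRingCat.of k)) := inferInstance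
    rw [IsProper.eq_valuativeCriterion] at h
    exact h.1.1.1
  obtain ⟨⟨⟨l, hl, -⟩⟩⟩ := hv.existence S
  have hg := Groth.Agent.SepLocal.stalkClosedPointTo_comp (R := CommRingCat.of R) l g hl
  have hle : ∀ a, algebraMap (X.presheaf.stalk (l (IsLocalRing.closedPoint R))) X.functionField a ∈ R :=
    fun a => by
      rw [show algebraMap _ X.functionField a = g (Scheme.stalkClosedPointTo l a) from
        ConcreteCategory.congr_hom hg.symm a]
      exact (Scheme.stalkClosedPointTo l a).2
  generalize l (IsLocalRing.closedPoint R) = x at hle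
  have hx : x ≠ genericPoint X := by
    rintro rfl
    refine hR (eq_top_iff.2 fun y _ => ?_)
    have e : (Groth.Agent.SepLocal.toK X (genericPoint X)).hom y = y := by
      show (X.presheaf.stalkSpecializes (specializes_rfl : genericPoint X ⤳ genericPoint X)).hom y = y
      rw [TopCat.Presheaf.stalkSpecializes_refl]; rfl
    exact e ▸ hle y
  haveI := hdvr x hx
  have hmax : (R : Set X.functionField) = Set.range (algebraMap (X.presheaf.stalk x) X.functionField) := by
    refine Set.Subset.antisymm (fun z hz => ?_) (Set.range_subset_iff.2 hle)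
    by_contra hzA
    obtain ⟨ϖ, hϖ⟩ := IsDiscreteValuationRing.exists_irreducible (X.presheaf.stalk x)
    have hz0 : z ≠ 0 := fun h => hzA ⟨0, by rw [map_zero, h]⟩
    obtain ⟨a, ha⟩ : z⁻¹ ∈ Set.range (algebraMap (X.presheaf.stalk x) X.functionField) := by
      rcases ValuationRing.isInteger_or_isInteger (X.presheaf.stalk x) z with h | h
      · exact absurd h hzA
      · exact h
    have ha0 : a ≠ 0 := fun h => hz0 (inv_eq_zero.1 (by rw [← ha, h, map_zero]))
    obtain ⟨n, u, rfl⟩ := IsDiscreteValuationRing.eq_unit_mul_pow_irreducible ha0 hϖ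
    obtain ⟨m, rfl⟩ : ∃ m, n = m + 1 := Nat.exists_eq_succ_of_ne_zero (by
      rintro rfl
      refine hzA ⟨↑u⁻¹, ?_⟩
      rw [← inv_inv z, ← ha, pow_zero, mul_one, map_units_inv])
    have hinv : (algebraMap (X.presheaf.stalk x) X.functionField ϖ)⁻¹ ∈ R := by
      have : (algebraMap (X.presheaf.stalk x) X.functionField ϖ)⁻¹ =
          z * algebraMap (X.presheaf.stalk x) X.functionField (↑u * ϖ ^ m) := by
        rw [← inv_inv z, ← ha, map_mul, map_mul, map_pow, map_pow, pow_succ]
        have hu : algebraMap (X.presheaf.stalk x) X.functionField (u : X.presheaf.stalk x) ≠ 0 :=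
          (u.isUnit.map (algebraMap (X.presheaf.stalk x) X.functionField)).ne_zero
        have hp : algebraMap (X.presheaf.stalk x) X.functionField ϖ ≠ 0 := fun h =>
          hϖ.ne_zero (IsFractionRing.injective (X.presheaf.stalk x) X.functionField (by rw [h, map_zero]))
        field_simp
      rw [this]
      exact R.mul_mem _ _ hz (hle _)
    refine hR (eq_top_iff.2 fun y _ => ?_)
    obtain ⟨b, c, hc, rfl⟩ := IsFractionRing.div_surjective (X.presheaf.stalk x) y
    obtain ⟨j, v, rfl⟩ := IsDiscreteValuationRing.eq_unit_mul_pow_irreducible (nonZeroDivisors.ne_zero hc) hϖ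
    rw [div_eq_mul_inv, map_mul, map_pow, mul_inv, ← inv_pow, ← map_units_inv]
    exact R.mul_mem _ _ (hle _) (R.mul_mem _ _ (hle _) (pow_mem hinv _))
  refine ⟨x, hmax, fun y hy => ?_⟩
  refine Groth.Agent.SepLocal.eq_of_dominated y x
    (LocalSubring.range (algebraMap (X.presheaf.stalk x) X.functionField)) (le_of_eq ?_) le_rfl
  refine LocalSubring.toSubring_injective (SetLike.ext fun z => ?_)
  exact Set.ext_iff.1 (hy.symm.trans hmax) z

end Groth.Agent.S4451
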