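import Groth.Statements.S4453
import Groth.Agent.NormLB.Plain
import Groth.Agent.TMul.RelAmpleOps
import Groth.Agent.S12416
import Groth.Agent.SymAlg.ProjProper
-- import your own Groth.Agent.* helpers here

set_option autoImplicit false
universe u
open CategoryTheory CategoryTheory.Limits AlgebraicGeometry
open EGA2

namespace Groth.Agent.S4453

/-- Let Y be a quasi-compact separated scheme or a scheme whose underlying space is Noetherian, f : X ⟶
Y a morphism of finite type and g : X' ⟶ X a finite surjective morphism such that the direct image
of O_{X'} is a finite locally free O_X-module. Then f is projective if and only if f ∘ g is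
projective. (The companion assertion, on quasi-projectivity, is the
existence-of-a-relatively-ample-module equivalence stated separately.) -/
theorem result {X X' Y : Scheme.{u}} (f : X ⟶ Y) [LocallyOfFiniteType f]
    [QuasiCompact f] (g : X' ⟶ X) [IsFinite g] [Surjective g]
    (hfree : FlatMod.IsFinLocFree ((Coh.push g).obj (Coh.structureModule X')))
    (hY : (CompactSpace Y ∧ Y.IsSeparated) ∨ TopologicalSpace.NoetherianSpace Y) :
    RelProj.IsProjective f ↔ RelProj.IsProjective (g ≫ f) := by
  haveI : CompactSpace Y := hY.elim (·.1) fun h => inferInstance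
  haveI : QuasiSeparatedSpace Y := hY.elim (fun h => haveI := h.2; inferInstance) fun h => inferInstance
  refine ⟨fun h => ?_, fun h => ?_⟩
  · obtain ⟨⟨-, -, L, hL⟩, hp⟩ := Groth.Agent.SymAlg.isQuasiProjective_and_isProper h
    haveI := hp
    haveI : IsProper (g ≫ f) := inferInstance
    exact Groth.Agent.S12416.result (g ≫ f) ⟨inferInstance, inferInstance, (Scheme.Modules.pullback g).obj L,
      TMul.isRelAmple_pullback_of_isQuasiAffine g ⟨inferInstance, fun W hW => by
        have : IsAffine (g ⁻¹ᵁ W).toScheme := hW.preimage g
        infer_instance⟩ hL⟩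
  · obtain ⟨⟨-, -, L, hL⟩, hp⟩ := Groth.Agent.SymAlg.isQuasiProjective_and_isProper h
    haveI := hp
    obtain ⟨N⟩ := Groth.Agent.NormLB.exists_preNorm (Groth.Agent.NormAmple.freeNhds_of_isFinLocFree hfree)
    obtain ⟨M, -, hM⟩ := Groth.Agent.NormLB.exists_isRelAmple N f hL
    haveI := TMul.isSeparated_of_isRelAmple hM
    haveI : UniversallyClosed f := UniversallyClosed.of_comp_surjective g f
    haveI : IsProper f := {}
    exact Groth.Agent.S12416.result f ⟨inferInstance, inferInstance, M, hM⟩

end Groth.Agent.S4453
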