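import Groth.Statements.S4456
import Groth.Agent.CohQC.Relative
import Groth.Agent.CohQC.AcycResolution
import Groth.Agent.SiteCoh.ClosedPush

set_option autoImplicit false
universe u
open Coherent

namespace Groth.Agent.S4456

open AlgebraicGeometry CategoryTheory in
/-- Let f : X → Y be an affine morphism, g : Y → Z a morphism of schemes and F a quasi-coherent
O_X-module. Then for every p ≥ 0 the higher direct image R^p g_*(f_* F) is isomorphic to R^p (g ∘
f)_* F (higher direct images of the underlying abelian sheaves). The source shows that the canonical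
comparison map is an isomorphism; only the existence of an isomorphism is asserted here. -/
theorem result {X Y Z : Scheme.{u}} (f : X ⟶ Y) (g : Y ⟶ Z)
    [IsAffineHom f] (F : X.Modules) [Coh.IsQCoh F] (p : ℕ) :
    Nonempty ((Coh.RpushAb g p).obj (Coh.toAb ((Coh.push f).obj F)) ≅
      (Coh.RpushAb (f ≫ g) p).obj (Coh.toAb F)) := by
  open CategoryTheory CategoryTheory.Limits AlgebraicGeometry TopologicalSpace in
  let A := Coh.toAb F
  let R := injectiveResolution A
  let P := Coh.pushAb f
  let K := (P.mapHomologicalComplex (ComplexShape.up ℕ)).obj R.cocomplex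
  have hz : ∀ m, IsZero ((Coh.RpushAb f (m + 1)).obj A) := fun m =>
    Groth.Agent.SiteCoh.isZero_rpush_of_locKilled (K := _) (u := TopologicalSpace.Opens.map f.base)
      (Groth.Agent.CohQC.locKilled_of_isAffineHom f F (Nat.succ_pos m))
  have hex : ∀ m, K.ExactAt (m + 1) := fun m =>
    (K.exactAt_iff_isZero_homology (m + 1)).mpr
      ((hz m).of_iso (R.isoRightDerivedObj P (m + 1)).symm)
  have hK : ∀ (U : Y.Opens) (m : ℕ), Groth.Agent.SiteCoh.Acyc U (K.X m) := fun U m p => by
    have := Groth.Agent.SiteCoh.injective_isFlasque (R.cocomplex.X m)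
    have : TopCat.Sheaf.IsFlasque (K.X m) :=
      TopCat.Sheaf.IsFlasque.pushforward_isFlasque (R.cocomplex.X m) f.base
    exact Groth.Agent.SiteCoh.flasque_acyclic (K.X m) U p
  obtain ⟨e⟩ := Groth.Agent.CohQC.rpush_iso_homology (L := Opens.grothendieckTopology Z) K hex hK
    (TopologicalSpace.Opens.map g.base) p
  have : PreservesLimitsOfSize.{0, 0} P :=
    (TopCat.Sheaf.pullbackPushforwardAdjunction AddCommGrpCat.{u} f.base).rightAdjoint_preservesLimits
  let c0 : A ≅ R.cocomplex.cycles 0 :=
    IsLimit.conePointUniqueUpToIso R.isLimitKernelFork (R.cocomplex.cyclesIsKernel 0 1 (by simp))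
  have hKer := isLimitForkMapOfIsLimit' P _ (R.cocomplex.cyclesIsKernel 0 1 (by simp))
  let c : P.obj A ≅ K.cycles 0 :=
    P.mapIso c0 ≪≫ IsLimit.conePointUniqueUpToIso hKer (K.cyclesIsKernel 0 1 (by simp))
  exact ⟨(Coh.RpushAb g p).mapIso c ≪≫ e ≪≫ (R.isoRightDerivedObj (Coh.pushAb (f ≫ g)) p).symm⟩

end Groth.Agent.S4456
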