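import Groth.Statements.S4461
import Groth.Agent.W7Rees.Main

set_option autoImplicit false
universe u
open Coherent

open Groth.Agent
open CategoryTheory
set_option backward.isDefEq.respectTransparency false
set_option backward.isDefEq.respectTransparency.types false

namespace Groth.Agent.S4461

open AlgebraicGeometry CategoryTheory in
/-- Let A be a Noetherian ring, I an ideal of A, X a scheme proper over Spec A, M a coherent O_X-module
and p ≥ 0. Write R_k for the kernel of H^p(X, M) → H^p(X, M/I^(k+1)M). Then there is k₀ such that
R_(k+1) = I · R_k for all k ≥ k₀; together with the obvious inclusions I · R_k ⊆ R_(k+1) this says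
that (R_k) is an I-good filtration of H^p(X, M). -/
theorem result (A : Type u) [CommRing A] [IsNoetherianRing A]
    (I : Ideal A) (X : Scheme.{u}) [X.Over (Spec (CommRingCat.of A))]
    [IsProper (X ↘ Spec (CommRingCat.of A))] (M : X.Modules) (hM : Coh.IsCoh M) (p : ℕ) :
    ∃ k₀ : ℕ, ∀ k : ℕ, k₀ ≤ k →
      ((Formal.toHHmodPow I M p (k + 1)).ker : Set (Coh.HH X M p)) =
        ((I • Submodule.span A ((Formal.toHHmodPow I M p k).ker : Set (Coh.HH X M p)) :
          Submodule A (Coh.HH X M p)) : Set (Coh.HH X M p)) := by
  obtain ⟨c, hc⟩ := W7Rees.exists_ker_subset I hM p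
  refine ⟨c, fun k hk => Set.Subset.antisymm (fun x hx => ?_) ?_⟩
  · have h := hc (k + 1) (by omega) 1 x hx
    rw [pow_one] at h
    exact h
  · intro x hx
    refine Submodule.smul_induction_on (p := fun x => x ∈ (Formal.toHHmodPow I M p (k + 1)).ker) hx
      (fun a ha y hy => ?_) fun a b ha hb => add_mem ha hb
    induction hy using Submodule.span_induction generalizing a with
    | mem y hy =>
      have h := W7Rees.smul_ker I hM.1 p (k + 1) 1 a (by rwa [pow_one]) y hy
      rwa [Nat.add_comm 1 (k + 1)] at h
    | zero => rw [smul_zero]; exact zero_mem _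
    | add y z _ _ hy hz => rw [smul_add]; exact add_mem (hy a ha) (hz a ha)
    | smul b y _ hy => rw [smul_smul]; exact hy (a * b) (I.mul_mem_right b ha)

end Groth.Agent.S4461
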