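import Groth.Statements.S4462
import Groth.Agent.W7Cech.ModPow
import Groth.Agent.W7Cech.Grauert
import Groth.Agent.W7Cech.FibreAffine

set_option autoImplicit false
universe u
open Coherent

set_option backward.isDefEq.respectTransparency false
set_option backward.isDefEq.respectTransparency.types false
open Groth.Agent Groth.Agent.W7Cech Groth.Agent.FlatCx
namespace Groth.Agent.S4462

open AlgebraicGeometry CategoryTheory in
/-- Second assertion: for a local base: let A be a Noetherian local ring with maximal ideal m and closed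
point y, X a scheme proper over Spec A, F a coherent O_X-module flat over Spec A and n ≥ 0 such that
H^(n+1)(X_y, F_y) = 0, where X_y is the closed fibre and F_y the restriction of F to it. Then for
every p ≥ 0 the canonical map H^n(X, F) → H^n(X, F/m^(p+1)F) is surjective. (For a general locally
Noetherian base the published statement is about the stalk of R^n f_* F at a point; over the local
ring of that point this is the module H^n(X, F) used here.) -/
theorem result (A : Type u) [CommRing A] [IsNoetherianRing A]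
    [IsLocalRing A] (X : Scheme.{u}) [X.Over (Spec (CommRingCat.of A))]
    [IsProper (X ↘ Spec (CommRingCat.of A))] (F : X.Modules) (hF : Coh.IsCoh F)
    (hfl : FlatMod.IsFlatOver (X ↘ Spec (CommRingCat.of A)) F) (n : ℕ)
    (hvan : Subsingleton (CohIII.fiberH (X ↘ Spec (CommRingCat.of A)) F (IsLocalRing.closedPoint A) (n + 1)))
    (p : ℕ) :
    Function.Surjective (Formal.toHHmodPow (IsLocalRing.maximalIdeal A) F n p) := by
  obtain ⟨L, b, hL, hb, hneg, hT, -, hsub⟩ := exists_fibre_model A F hF hfl
  have hLf := flatX L hL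
  let W : Set (PrimeSpectrum A) := {x | CohIII.dRank L ((n + 1 : ℕ) : ℤ) x < 1}
  have hW : IsOpen W := upperSemicontinuous_iff_isOpen_preimage.1
    (upperSemicontinuous_dRank L (finiteFlatX L hL) (finitePresentationX L hL) _) 1
  have hc : IsLocalRing.closedPoint A ∈ W :=
    (((hsub (n + 1) (IsLocalRing.closedPoint A)).1 hvan).le.trans_lt Nat.zero_lt_one :)
  have hall : ∀ x, CohIII.dRank L ((n + 1 : ℕ) : ℤ) x = 0 := fun x => Nat.lt_one_iff.1
    ((IsLocalRing.specializes_closedPoint x).mem_open hW hc)
  have hz := W7Cech.isZero_T_of_dRank L hL ((n + 1 : ℕ) : ℤ) hall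
  have hn1 : (n : ℤ) + 1 = ((n + 1 : ℕ) : ℤ) := by simp
  haveI : (CohIII.TFun L (n : ℤ)).PreservesEpimorphisms := by
    rw [T_epi_iff_mono_succ L hLf, hn1]
    exact (isZero_T_of_isZero_homology_all L hz).1
  let J := IsLocalRing.maximalIdeal A ^ (p + 1)
  obtain ⟨i, θ, hiθ⟩ := exists_iso_cokernel_smulFamily A F J
  obtain ⟨e, he⟩ := hT n
  let f : ModuleCat.of A A ⟶ ModuleCat.of A (A ⧸ J) := ModuleCat.ofHom J.mkQ
  haveI : Epi f := (ModuleCat.epi_iff_surjective _).2 (Submodule.mkQ_surjective J)
  have hs : Function.Surjective ((CohIII.TFun L (n : ℤ)).map f).hom := (ModuleCat.epi_iff_surjective _).1 inferInstance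
  intro z
  obtain ⟨y, hy⟩ : ∃ y, Sheaf.H.map ((SheafOfModules.toSheaf _).map ((CohIII.tensorAFunctor A F).map f)) n y =
      Sheaf.H.map ((SheafOfModules.toSheaf _).map θ.hom) n z := by
    obtain ⟨t, ht⟩ := hs ((e _).symm (Sheaf.H.map ((SheafOfModules.toSheaf _).map θ.hom) n z))
    exact ⟨e _ t, (he _ _ f t).symm.trans ((congrArg (e _) ht).trans (LinearEquiv.apply_symm_apply _ _))⟩
  refine ⟨Sheaf.H.map ((SheafOfModules.toSheaf _).map i.hom) n y, ?_⟩
  have hinj : Function.Injective (Sheaf.H.map ((SheafOfModules.toSheaf _).map θ.hom) n) := by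
    refine Function.LeftInverse.injective (g := Sheaf.H.map ((SheafOfModules.toSheaf _).map θ.inv) n) fun w => ?_
    refine (Formal.HHmap_comp θ.hom θ.inv n w).trans ?_
    rw [Iso.hom_inv_id, CategoryTheory.Functor.map_id]
    exact Sheaf.H.map_id_apply _
  refine hinj (Eq.trans ?_ hy)
  refine (congrArg _ (Formal.HHmap_comp i.hom _ n y)).trans ((Formal.HHmap_comp _ θ.hom n y).trans ?_)
  rw [Category.assoc]
  exact congrArg (fun φ => Sheaf.H.map ((SheafOfModules.toSheaf _).map φ) n y) hiθ

end Groth.Agent.S4462
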