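import Groth.Statements.S4463
import Groth.Agent.SteinGen.Count

set_option autoImplicit false
universe u
open Coherent

namespace Groth.Agent.S4463

open AlgebraicGeometry CategoryTheory in
/-- Stein factorisation. Let Y be locally Noetherian and f : X → Y proper, and let X → Y' → Y be its
Stein factorisation, Y' being the spectrum of the O_Y-algebra f_* O_X (realised here as the relative
normalization of Y in X, which is that spectrum because f_* O_X is integral over O_Y for f
universally closed). Then for every point y of Y the fibre of Y' → Y at y is finite, the map X_y →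
Y'_y induced on fibres is surjective, and two points of X_y have the same image if and only if they
lie in the same connected component of X_y: the connected components of X_y are in bijection with
the points of Y'_y. -/
theorem result {X Y : Scheme.{u}} (f : X ⟶ Y) [IsProper f]
    [IsLocallyNoetherian Y] (y : Y) :
    Finite ↥(f.fromNormalization.fiber y) ∧
    Function.Surjective (CohIII.fiberMapOver f.toNormalization f f.fromNormalization
        f.toNormalization_fromNormalization y).base ∧
    ∀ x x' : ↥(f.fiber y),
      (CohIII.fiberMapOver f.toNormalization f f.fromNormalization f.toNormalization_fromNormalization y).base x =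
        (CohIII.fiberMapOver f.toNormalization f f.fromNormalization f.toNormalization_fromNormalization y).base x' ↔
      connectedComponent x = connectedComponent x' := by
  let b := f.fromNormalization
  let r := CohIII.fiberMapOver f.toNormalization f b f.toNormalization_fromNormalization y
  have hr : IsPullback (f.fiberι y) r f.toNormalization (b.fiberι y) := by
    refine IsPullback.of_bot ?_ ?_ (IsPullback.of_hasPullback b (Y.fromSpecResidueField y))
    · rw [f.toNormalization_fromNormalization]
      show IsPullback _ (r ≫ Limits.pullback.snd _ _) _ _
      rw [show r ≫ Limits.pullback.snd _ _ = Limits.pullback.snd f (Y.fromSpecResidueField y) from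
        (Limits.pullback.lift_snd _ _ _).trans (Category.comp_id _)]
      exact IsPullback.of_hasPullback f (Y.fromSpecResidueField y)
    · exact (Limits.pullback.lift_fst _ _ _).symm
  haveI : IsProper (f.toNormalization ≫ b) := by
    rw [f.toNormalization_fromNormalization]; infer_instance
  haveI : IsProper f.toNormalization := IsProper.of_comp f.toNormalization b
  haveI : IsProper r := MorphismProperty.of_isPullback (P := @IsProper) hr inferInstance
  haveI : GeometricallyConnected r := MorphismProperty.of_isPullback hr inferInstance
  haveI : TotallySeparatedSpace ↥(b.fiber y) := by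
    let q : b.fiber y ⟶ Spec (Y.residueField y) := b.fiberToSpecResidueField y
    haveI : IsIntegralHom q := MorphismProperty.pullback_snd _ _ inferInstance
    haveI : IsAffine (b.fiber y) := isAffine_of_isAffineHom q
    obtain ⟨ψ, hψ⟩ := Spec.map_surjective ((b.fiber y).isoSpec.inv ≫ q)
    haveI : IsIntegralHom (Spec.map ψ) := by rw [hψ]; infer_instance
    letI := ψ.hom.toAlgebra
    haveI : Algebra.IsIntegral (Y.residueField y) Γ(b.fiber y, ⊤) := ⟨IsIntegralHom.SpecMap_iff.mp ‹_›⟩
    haveI := Groth.Agent.SteinGen.totallySeparated_of_integral_field (Y.residueField y) Γ(b.fiber y, ⊤)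
    refine totallySeparatedSpace_iff_exists_isClopen.mpr fun p p' hpp ↦ ?_
    let e := (b.fiber y).isoSpec.hom.homeomorph
    obtain ⟨U, hU, h1, h2⟩ := totallySeparatedSpace_iff_exists_isClopen.mp
      (‹TotallySeparatedSpace (PrimeSpectrum Γ(b.fiber y, ⊤))›) (e.injective.ne hpp)
    exact ⟨e ⁻¹' U, hU.preimage e.continuous, h1, h2⟩
  haveI : IsLocallyNoetherian (f.fiber y) :=
    @LocallyOfFiniteType.isLocallyNoetherian _ _ (f.fiberToSpecResidueField y) (MorphismProperty.pullback_snd _ _ inferInstance) _
  haveI : IsNoetherian (f.fiber y) := {}
  haveI := Groth.Agent.ZarConn.finite_components ↥(f.fiber y)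
  have key : ∀ x x' : ↥(f.fiber y), r x = r x' ↔ connectedComponent x = connectedComponent x' := by
    intro x x'
    constructor
    · intro h
      exact connectedComponent_eq ((r.isConnected_preimage_singleton (r x)).isPreconnected.subset_connectedComponent
        (show x ∈ r ⁻¹' {r x} from rfl) (show x' ∈ r ⁻¹' {r x} from h.symm))
    · intro h
      exact (isPreconnected_connectedComponent.image r r.continuous.continuousOn).subsingleton
        ⟨x, mem_connectedComponent, rfl⟩ ⟨x', h ▸ mem_connectedComponent, rfl⟩
  refine ⟨?_, r.surjective, key⟩
  have hc : ∀ q : _root_.ConnectedComponents ↥(f.fiber y), ∃ p, ∀ x, _root_.ConnectedComponents.mk x = q → r x = p :=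
    fun q ↦ by
      obtain ⟨x₀, rfl⟩ := _root_.ConnectedComponents.surjective_coe q
      exact ⟨r x₀, fun x hx ↦ (key x x₀).mpr (_root_.ConnectedComponents.coe_eq_coe.mp hx)⟩
  choose φ hφ using hc
  refine Finite.of_surjective φ fun p ↦ ?_
  obtain ⟨x, rfl⟩ := r.surjective p
  exact ⟨_, (hφ _ x rfl).symm⟩

end Groth.Agent.S4463
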