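import Groth.Statements.S4464
import Groth.Agent.FibComp.Scheme

set_option autoImplicit false
universe u
open Coherent

set_option backward.isDefEq.respectTransparency false
set_option backward.isDefEq.respectTransparency.types false

namespace Groth.Agent.S4464

open AlgebraicGeometry CategoryTheory in
/-- Let X and Y be locally Noetherian integral schemes, f : X → Y a proper dominant morphism, and
suppose that the algebraic closure of the function field R(Y) in R(X) is purely inseparable over
R(Y): every element of R(X) satisfying a nonzero polynomial over R(Y) has a p^e-th power coming from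
R(Y), p being the characteristic exponent. Then for every point y of Y whose local ring is
unibranch, the fibre X_y is connected and nonempty. -/
theorem result {X Y : Scheme.{u}} [IsIntegral X]
    [IsIntegral Y] [IsLocallyNoetherian X] [IsLocallyNoetherian Y] (f : X ⟶ Y) [IsProper f]
    (hdom : f.base (genericPoint X) ⤳ genericPoint Y)
    (hrad : ∀ x : X.functionField,
      (∃ q : Polynomial Y.functionField, q ≠ 0 ∧
        Polynomial.eval₂ (CohIII.stalkToFunctionField f (genericPoint Y) hdom) x q = 0) →
      ∃ e : ℕ, x ^ (ringExpChar X.functionField ^ e) ∈
        Set.range (CohIII.stalkToFunctionField f (genericPoint Y) hdom))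
    (y : Y) (hy : CAlg2.IsUnibranch (Y.presheaf.stalk y)) :
    ConnectedSpace ↥(f.fiber y) := by
  letI : Algebra Y.functionField X.functionField :=
    (CohIII.stalkToFunctionField f (genericPoint Y) hdom).toAlgebra
  haveI : Subsingleton (↥(algebraicClosure Y.functionField X.functionField) →ₐ[Y.functionField]
      AlgebraicClosure ↥(algebraicClosure Y.functionField X.functionField)) := by
    refine ⟨fun σ τ ↦ AlgHom.ext fun x ↦ ?_⟩
    obtain ⟨q, hq0, hq⟩ := mem_algebraicClosure_iff.mp x.2
    obtain ⟨e, r, hr⟩ := hrad x.1 ⟨q, hq0, hq⟩
    let Ω := AlgebraicClosure ↥(algebraicClosure Y.functionField X.functionField)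
    haveI : ExpChar X.functionField (ringExpChar X.functionField) := inferInstance
    haveI : ExpChar ↥(algebraicClosure Y.functionField X.functionField) (ringExpChar X.functionField) :=
      RingHom.expChar (algebraicClosure Y.functionField X.functionField).val.toRingHom
        Subtype.val_injective (ringExpChar X.functionField)
    haveI : ExpChar Ω (ringExpChar X.functionField) :=
      expChar_of_injective_algebraMap (algebraMap ↥(algebraicClosure Y.functionField X.functionField) Ω).injective _
    apply iterateFrobenius_inj Ω (ringExpChar X.functionField) e
    simp only [iterateFrobenius_def]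
    rw [← map_pow σ, ← map_pow τ]
    have : x ^ ringExpChar X.functionField ^ e = algebraMap Y.functionField _ r := Subtype.ext hr.symm
    rw [this, AlgHom.commutes, AlgHom.commutes]
  obtain ⟨h1, h2⟩ := FibComp.finite_and_card_le f hdom rfl y hy
  haveI := h1
  haveI : Subsingleton (_root_.ConnectedComponents ↥(f.fiber y)) :=
    Finite.card_le_one_iff_subsingleton.mp (h2.trans (Finite.card_le_one_iff_subsingleton.mpr inferInstance))
  haveI : PreconnectedSpace ↥(f.fiber y) := preconnectedSpace_iff_connectedComponent.mpr fun z ↦
    Set.eq_univ_of_forall fun w ↦ ConnectedComponents.coe_eq_coe'.mp (Subsingleton.elim _ _)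
  have hgen : f.base (genericPoint X) = genericPoint Y :=
    (hdom.antisymm ((genericPoint_spec Y).specializes trivial)).eq
  have hcl : IsClosed (Set.range f) := f.isClosedMap.isClosed_range
  have hall : Set.range f = Set.univ := by
    refine Set.eq_univ_of_univ_subset ?_
    rw [← (genericPoint_spec Y).def]
    exact hcl.closure_subset_iff.mpr (Set.singleton_subset_iff.mpr ⟨_, hgen⟩)
  obtain ⟨x, hx⟩ := hall.symm ▸ Set.mem_univ y
  exact { toNonempty := ⟨(f.fiberHomeo y).symm ⟨x, hx⟩⟩ }

end Groth.Agent.S4464
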