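import Groth.Statements.S4465
import Groth.Agent.W7Hull.RelVanish
import Groth.Agent.S0055
import Groth.Agent.S0792
import Groth.Agent.S2359
import Groth.Agent.PerfGen.InvTwistD
import Groth.Agent.Castel.Gens
import Groth.Agent.W7Exist.Formal
import Groth.Agent.CohProperPush.Basic
import Groth.Agent.CohQC.RpushModules
import Groth.Agent.TMul.Pullback

set_option autoImplicit false
universe u
open Coherent

namespace Groth.Agent.S4465

open AlgebraicGeometry CategoryTheory CategoryTheory.Limits in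
/-- Let Y be a Noetherian scheme, f : X → Y a morphism of finite type, L an invertible O_X-module ample
relative to f and F → G → H a sequence of coherent O_X-modules which is exact at G, such that the
supports of F and of H are proper over Y. Then there is N such that for every n ≥ N the induced
sequence f_*(F(n)) → f_*(G(n)) → f_*(H(n)) of O_Y-modules is exact, where M(n) = M ⊗ L^{⊗ n}. -/
theorem result {X Y : Scheme.{u}} (f : X ⟶ Y)
    [IsNoetherian Y] [LocallyOfFiniteType f] [QuasiCompact f] (L : X.Modules) (hL : PicF.IsInvertible L)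
    (hamp : RelAmple.IsRelAmple f L) (C : ShortComplex X.Modules) (hC : C.Exact)
    (h1 : Coh.IsCoh C.X₁) (h2 : Coh.IsCoh C.X₂) (h3 : Coh.IsCoh C.X₃)
    (hs1 : ClSub.IsProperOver f (CohB1.support C.X₁)) (hs3 : ClSub.IsProperOver f (CohB1.support C.X₃)) :
    ∃ N : ℕ, ∀ n : ℕ, N ≤ n →
      (C.map (DCoh.tensorRightMod (CohB1.tensorPow L n) ⋙ Coh.push f)).Exact := by
  open CategoryTheory.Limits in
  haveI : IsLocallyNoetherian X := LocallyOfFiniteType.isLocallyNoetherian f
  haveI : CompactSpace X := QuasiCompact.compactSpace_of_compactSpace f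
  haveI : IsNoetherian X := {}
  haveI : QuasiSeparatedSpace X := inferInstance
  let e := kernel.lift C.g C.f C.zero
  haveI : Epi e := C.exact_iff_epi_kernel_lift.1 hC
  have hKg : Coh.IsCoh (kernel C.g) := Groth.Agent.QC.isCoh_kernel h2 h3.1 C.g
  have hK : Coh.IsCoh (kernel e) := Groth.Agent.QC.isCoh_kernel h1 hKg.1 e
  have hKs : ClSub.IsProperOver f (CohB1.support (kernel e)) :=
    ClSubLib.mono hs1 (Groth.Agent.QC.isClosed_support hK.2)
      (Groth.Agent.CohProperPush.support_subset_of_mono (kernel.ι e))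
  obtain ⟨Z, i, hi, hp, G, hGq, hGft, ⟨c⟩⟩ := (Groth.Agent.S0792.result f (kernel e) hK.1 hK.2).1 hKs
  haveI := hi
  haveI := hp
  haveI := Groth.Agent.RPushQC.hasInjectiveResolutions Z
  haveI := Groth.Agent.RPushQC.hasInjectiveResolutions X
  have hL' := Groth.Agent.S2359.result f i i.isClosedEmbedding.isEmbedding L hamp
  obtain ⟨n₀, hn₀⟩ := Groth.Agent.S0055.result (i ≫ f) ((Scheme.Modules.pullback i).obj L)
    (PicLoc.isInvertible_pullback i hL) (fun W hW => hL'.2 ⟨W, hW⟩) G ⟨hGq, hGft⟩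
  have hvan : ∀ n, n₀ ≤ n → IsZero ((Coh.RpushAb f 1).obj
      (Coh.toAb (CohB1.tensorMod (kernel e) (CohB1.tensorPow L n)))) := by
    intro n hn
    let G' := CohB1.tensorMod G (CohB1.tensorPow ((Scheme.Modules.pullback i).obj L) n)
    obtain ⟨q⟩ := TMul.nonempty_pullPowIso i L n
    let a : (Coh.push i).obj G' ≅ CohB1.tensorMod (kernel e) (CohB1.tensorPow L n) :=
      (Scheme.Modules.pushforward i).mapIso (PicGrp.tensorModIso (Iso.refl G) q) ≪≫
        (Groth.Agent.KFlat.projFormulaIso i G (CohB1.tensorPow L n)).symm ≪≫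
        PicGrp.tensorModIso c (Iso.refl _)
    obtain ⟨b⟩ := Groth.Agent.W7Hull.nonempty_rpush_push_iso i f G' 1
    obtain ⟨t₁⟩ := Groth.Agent.CohQC.toAb_rpush_iso (i ≫ f) G' 1
    obtain ⟨t₂⟩ := Groth.Agent.CohQC.toAb_rpush_iso f (CohB1.tensorMod (kernel e) (CohB1.tensorPow L n)) 1
    have h := (hn₀ n hn 1 Nat.one_pos).of_iso t₁
    exact h.of_iso (t₂.symm ≪≫ (SheafOfModules.toSheaf Y.ringCatSheaf).mapIso ((Coh.Rpush f 1).mapIso a.symm ≪≫ b))
  refine ⟨n₀, fun n hn => ?_⟩
  let Ln := CohB1.tensorPow L n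
  have hLn : PicF.IsInvertible Ln := TMul.isInvertible_tensorPow hL n
  let T := DCoh.tensorRightMod Ln
  haveI := (Groth.Agent.PerfGen.exact_trm_inv hLn).1
  haveI := (Groth.Agent.PerfGen.exact_trm_inv hLn).2
  let P := Scheme.Modules.pushforward f
  have hq : ∀ {M : X.Modules}, Coh.IsCoh M → Coh.IsQCoh (T.obj M) := fun {M} hM => by
    haveI : M.IsQuasicoherent := hM.1
    exact TMul.isQCoh_tensor hLn
  have hS := Groth.Agent.PerfGen.shortExact_trm_inv hLn (ShortComplex.mk (kernel.ι e) e (kernel.condition e))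
    { exact := ShortComplex.exact_kernel e, mono_f := inferInstance, epi_g := inferInstance }
  haveI : Epi (P.map (T.map e)) := by
    refine Groth.Agent.W7Exist.epi_of_surjective (fun W : Y.affineOpens => W.1) (fun W => W.2)
      (fun y => by
        obtain ⟨U, hU, hyU, -⟩ := exists_isAffineOpen_mem_and_subset (x := y) (U := ⊤) trivial
        exact ⟨⟨U, hU⟩, hyU⟩)
      (haveI : (T.obj C.X₁).IsQuasicoherent := hq h1; Groth.Agent.QC.isQCoh_pushforward f)
      (haveI : (T.obj (kernel C.g)).IsQuasicoherent := hq hKg; Groth.Agent.QC.isQCoh_pushforward f) _ fun W z => ?_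
    let U : X.Opens := f ⁻¹ᵁ W.1
    obtain ⟨s⟩ := Groth.Agent.W7Hull.hu_equiv_sections f (T.obj (kernel e)) (hq hK) W.2 1
    haveI : Subsingleton (CohSite.HU (Coh.toAb (T.obj (kernel e))) 1 U) := by
      refine s.toEquiv.subsingleton_congr.2 ?_
      exact AddCommGrpCat.subsingleton_of_isZero (((sheafToPresheaf _ _).map_isZero (hvan n hn)).obj _)
    obtain ⟨r⟩ := Groth.Agent.CohQC.hu_restrict (T.obj (kernel e)) U 1
    have hS' := (hS.map_of_exact (Scheme.Modules.restrictFunctor U.ι)).map_of_exact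
      (Groth.Agent.CohQC.toAbF (U : Scheme.{u}))
    let z' : Γ((T.obj (kernel C.g)).restrict U.ι, (⊤ : U.toScheme.Opens)) :=
      (T.obj (kernel C.g)).presheaf.map (eqToHom (U.ι_image_top)).op z
    obtain ⟨w, hw⟩ := Groth.Agent.Castel.surjective_app_top hS' r.symm.toEquiv.subsingleton z'
    refine ⟨Groth.Agent.QC.res (T.obj C.X₁) U.ι_image_top.ge w, ?_⟩
    change (T.map e).app U _ = z
    rw [← Groth.Agent.QC.app_res]
    rw [show (T.map e).app (U.ι ''ᵁ ⊤) w = Groth.Agent.QC.res (T.obj (kernel C.g)) U.ι_image_top.le z from hw,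
      Groth.Agent.QC.res_res]
    exact Groth.Agent.QC.res_self _ _ _
  rw [ShortComplex.exact_iff_epi_kernel_lift]
  haveI : PreservesLimitsOfSize.{0, 0} P :=
    (Scheme.Modules.pullbackPushforwardAdjunction f).rightAdjoint_preservesLimits
  have h := PreservesKernel.iso (T ⋙ P) C.g
  have key : P.map (T.map e) ≫ (PreservesKernel.iso (T ⋙ P) C.g).hom =
      kernel.lift ((T ⋙ P).map C.g) ((T ⋙ P).map C.f) (by rw [← Functor.map_comp, C.zero, Functor.map_zero]) := by
    rw [← cancel_mono (kernel.ι ((T ⋙ P).map C.g)), Category.assoc, PreservesKernel.iso_hom,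
      kernelComparison_comp_ι, kernel.lift_ι]
    change (T ⋙ P).map e ≫ (T ⋙ P).map (kernel.ι C.g) = (T ⋙ P).map C.f
    rw [← Functor.map_comp, kernel.lift_ι]
  haveI : Epi (P.map (T.map e) ≫ (PreservesKernel.iso (T ⋙ P) C.g).hom) :=
    @epi_comp _ _ _ _ _ (P.map (T.map e)) (by assumption) _ inferInstance
  rw [key] at this
  exact this

end Groth.Agent.S4465
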