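import Groth.Statements.S9679
import Groth.Agent.Birat.Generic

set_option autoImplicit false
universe u
open CategoryTheory CategoryTheory.Limits AlgebraicGeometry
open Mor

namespace Groth.Agent.S9679

/-- Suppose X and Y have finitely many irreducible components and f : X ⟶ Y is birational, i.e. f
restricts to a bijection between the generic points of the irreducible components of X and those of
Y and induces an isomorphism of local rings at every generic point of an irreducible component of X.
Assume that f is quasi-compact or separated, and moreover that f is locally of finite presentation,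
or else Y is reduced and f is locally of finite type. Under these hypotheses, some dense open V ⊆ Y
has the property that the restriction f⁻¹(V) ⟶ V of f is an isomorphism. -/
theorem result {X Y : Scheme.{u}} (f : X ⟶ Y)
    (hXfin : (irreducibleComponents ↥X).Finite) (hYfin : (irreducibleComponents ↥Y).Finite)
    (hbij : Set.BijOn (fun x : X => f.base x) {x : X | closure {x} ∈ irreducibleComponents ↥X}
      {y : Y | closure {y} ∈ irreducibleComponents ↥Y})
    (hiso : ∀ x : X, closure {x} ∈ irreducibleComponents ↥X → IsIso (f.stalkMap x))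
    (hf₁ : QuasiCompact f ∨ IsSeparated f)
    (hf₂ : (LocallyOfFiniteType f ∧ IsReduced Y) ∨ LocallyOfFinitePresentation f) :
    ∃ V : Y.Opens, Dense (V : Set ↥Y) ∧ IsIso (f ∣_ V) := by
  set_option backward.isDefEq.respectTransparency false in
  obtain ⟨U, V, hmU, hmV, -, hdV, hoi, hr⟩ := Groth.Agent.Birat.exists_dense_opens f hXfin hYfin hbij hiso hf₂
  have hle : U ≤ f ⁻¹ᵁ V := fun z hz => by
    change f z ∈ (V : Set Y)
    rw [← hr]
    exact ⟨⟨z, hz⟩, by simp⟩
  rcases hf₁ with hqc | hsep
  · let Z : X.IdealSheafData := Scheme.IdealSheafData.vanishingIdeal ⟨(U : Set X)ᶜ, U.isOpen.isClosed_compl⟩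
    have hZ : Set.range Z.subschemeι = (U : Set X)ᶜ := by
      simp [Z, Scheme.IdealSheafData.range_subschemeι, Scheme.IdealSheafData.coe_support_vanishingIdeal]
    let V' : Y.Opens := V ⊓ ⟨(closure (Set.range (Z.subschemeι ≫ f)))ᶜ, isClosed_closure.isOpen_compl⟩
    have hV'max : ∀ y : Y, closure {y} ∈ irreducibleComponents ↥Y → y ∈ V' := by
      intro y hy
      refine ⟨hmV y hy, fun hc => ?_⟩
      obtain ⟨w, hw⟩ := Groth.Agent.DomLib.exists_specializes (Z.subschemeι ≫ f) hc
      rw [Scheme.Hom.comp_apply] at hw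
      obtain ⟨η, hη, hηw⟩ := Groth.Agent.DomLib.exists_max (Z.subschemeι w)
      have h1 := Groth.Agent.DomLib.eq_of_specializes_max hy hw
      have h2 := Groth.Agent.DomLib.eq_of_specializes_max hy ((hηw.map f.continuous).trans hw)
      haveI := hiso η hη
      have h3 := Groth.Agent.Birat.eq_of_specializes_of_isIso f hηw (h1.trans h2.symm)
      have h4 : Z.subschemeι w ∈ (U : Set X)ᶜ := hZ ▸ ⟨w, rfl⟩
      exact h4 (h3 ▸ hmU η hη)
    refine ⟨V', fun z => ?_, Groth.Agent.Birat.isIso_restrict_of_le f hr inf_le_left ?_⟩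
    · obtain ⟨η, hη, hηz⟩ := Groth.Agent.DomLib.exists_max z
      exact closure_mono (Set.singleton_subset_iff.2 (hV'max η hη)) (specializes_iff_mem_closure.1 hηz)
    · intro z hz
      by_contra h
      obtain ⟨w, rfl⟩ : z ∈ Set.range Z.subschemeι := hZ ▸ h
      exact hz.2 (subset_closure ⟨w, by simp⟩)
  · refine ⟨V, hdV, Groth.Agent.Birat.isIso_restrict_of_le f hr le_rfl ?_⟩
    let i := X.homOfLE hle
    haveI hiso' : IsIso (i ≫ (f ∣_ V)) := by
      haveI : IsOpenImmersion ((i ≫ (f ∣_ V)) ≫ V.ι) := by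
        rw [Category.assoc, morphismRestrict_ι, Scheme.homOfLE_ι_assoc]; exact hoi
      haveI : IsOpenImmersion (i ≫ (f ∣_ V)) := IsOpenImmersion.of_comp _ V.ι
      refine (isIso_iff_isOpenImmersion_and_epi_base _).2 ⟨inferInstance, (TopCat.epi_iff_surjective _).2 ?_⟩
      intro y
      obtain ⟨z, hz⟩ : y.1 ∈ Set.range (U.ι ≫ f) := by rw [hr]; exact y.2
      refine ⟨z, V.ι.injective ?_⟩
      rw [← Scheme.Hom.comp_apply, Category.assoc, morphismRestrict_ι, Scheme.homOfLE_ι_assoc]
      exact hz
    haveI : IsSeparated (f ∣_ V) := IsZariskiLocalAtTarget.restrict hsep V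
    haveI : IsClosedImmersion i := IsClosedImmersion.of_comp i (f ∣_ V)
    intro w hw
    obtain ⟨η, hη, hηw⟩ := Groth.Agent.DomLib.exists_max w
    have hη' : η ∈ f ⁻¹ᵁ V := hle (hmU η hη)
    have hs : (⟨η, hη'⟩ : (f ⁻¹ᵁ V : X.Opens)) ⤳ ⟨w, hw⟩ := (subtype_specializes_iff _ _).2 hηw
    obtain ⟨u, hu⟩ := hs.mem_closed i.isClosedEmbedding.isClosed_range
      ⟨⟨η, hmU η hη⟩, Subtype.ext (by simp [i])⟩
    have h5 := congrArg Subtype.val hu
    simp [i] at h5
    exact h5 ▸ u.2

end Groth.Agent.S9679
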