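import Groth.Statements.S4468
import Groth.Agent.BiratBlow.Main
import Groth.Agent.PnSpec.Basic
import Groth.Agent.ProjMor.Segre
import Groth.Agent.LocImmBlow.Apps
import Groth.Agent.S9679
-- import your own Groth.Agent.* helpers here

set_option autoImplicit false
set_option linter.style.haveILetI false
set_option backward.isDefEq.respectTransparency false
set_option backward.isDefEq.respectTransparency.types false
universe u
open Coherent

namespace Groth.Agent.S4468

open AlgebraicGeometry CategoryTheory in
/-- Let k be a field, X and Y integral schemes projective over k (given with closed immersions into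
projective spaces over k) and f : X → Y a birational k-morphism (it sends the generic point of X to
that of Y and induces a bijection between the function fields). Then X is Y-isomorphic to the
blow-up of Y in a closed subscheme: there is a quasi-coherent ideal sheaf I on Y such that f is a
blowing up of Y in I (universal property of the blow-up). -/
theorem result (k : Type u) [Field k] {X Y : Scheme.{u}} [IsIntegral X] [IsIntegral Y]
    (a b : ℕ) (iX : X ⟶ CohB1.ProjSpace a k) [IsClosedImmersion iX] (iY : Y ⟶ CohB1.ProjSpace b k)
    [IsClosedImmersion iY] (f : X ⟶ Y)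
    (hk : f ≫ iY ≫ CohB1.ProjSpace.toSpec b k = iX ≫ CohB1.ProjSpace.toSpec a k)
    (hgen : f.base (genericPoint X) = genericPoint Y)
    (hbir : Function.Bijective (f.residueFieldMap (genericPoint X)).hom) :
    ∃ I : Y.IdealSheafData, BlowUp.IsBlowUp f I := by
  obtain ⟨ea, hea⟩ := Groth.Agent.PnSpec.exists_iso a k
  obtain ⟨eb, heb⟩ := Groth.Agent.PnSpec.exists_iso b k
  haveI := _root_.ProjMor.isProper_toSpec a k
  haveI := _root_.ProjMor.isProper_toSpec b k
  let sY : Y ⟶ Spec (CommRingCat.of k) := iY ≫ CohB1.ProjSpace.toSpec b k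
  haveI : IsProper sY := inferInstanceAs (IsProper (iY ≫ CohB1.ProjSpace.toSpec b k))
  haveI : AlgebraicGeometry.IsNoetherian Y := Groth.Agent.LocImmBlow.isNoetherian_of_ft sY
  haveI : IsProper (f ≫ sY) := by
    rw [show f ≫ sY = iX ≫ CohB1.ProjSpace.toSpec a k from hk]; infer_instance
  haveI : IsProper f := IsProper.of_comp f sY
  -- an ample module
  have hM : CohB1.IsAmple ((Scheme.Modules.pullback (iY ≫ eb.hom)).obj (Twist.twistOver b (Spec (CommRingCat.of k)) 1)) :=
    TMul.isAmple_pullback _ (iY ≫ eb.hom).isEmbedding.isInducing (_root_.ProjMor.isAmple_twistOver b _)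
  -- the graph
  let m : CohB1.ProjSpaceOver a Y ⟶ CohB1.ProjSpaceOver a (Spec (CommRingCat.of k)) :=
    Limits.pullback.map _ _ _ _ (𝟙 _) sY (𝟙 _) (by simp) (specULiftZIsTerminal.hom_ext _ _)
  let i : X ⟶ CohB1.ProjSpaceOver a Y :=
    Limits.pullback.lift (iX ≫ ea.hom ≫ _root_.ProjMor.pz a _) f (specULiftZIsTerminal.hom_ext _ _)
  have hi : i ≫ CohB1.ProjSpaceOver.toBase a Y = f := Limits.pullback.lift_snd _ _ _
  have him : i ≫ m = iX ≫ ea.hom := by
    refine Limits.pullback.hom_ext ?_ ?_
    · simp [i, m, _root_.ProjMor.pz]
    · change (i ≫ m) ≫ _ = (iX ≫ ea.hom) ≫ CohB1.ProjSpaceOver.toBase a _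
      rw [Category.assoc, show m ≫ Limits.pullback.snd _ _ = Limits.pullback.snd _ _ ≫ sY from Limits.pullback.lift_snd _ _ _,
        Category.assoc iX, hea, ← Category.assoc, show i ≫ Limits.pullback.snd _ _ = f from hi]
      exact hk
  haveI : IsSeparated m := by
    have hz : IsSeparated (CohB1.ProjSpaceOver.toBase a (Spec (CommRingCat.of k))) := by
      haveI := _root_.ProjMor.isProper_toSpec a (ULift.{u} ℤ)
      exact MorphismProperty.pullback_snd _ _ inferInstance
    haveI : IsSeparated (CohB1.ProjSpaceOver.toBase a Y) := by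
      haveI := _root_.ProjMor.isProper_toSpec a (ULift.{u} ℤ)
      exact MorphismProperty.pullback_snd _ _ inferInstance
    haveI : IsSeparated (m ≫ CohB1.ProjSpaceOver.toBase a (Spec (CommRingCat.of k))) := by
      rw [show m ≫ CohB1.ProjSpaceOver.toBase a _ = CohB1.ProjSpaceOver.toBase a Y ≫ sY from Limits.pullback.lift_snd _ _ _]
      infer_instance
    exact IsSeparated.of_comp m (CohB1.ProjSpaceOver.toBase a (Spec (CommRingCat.of k)))
  haveI : IsClosedImmersion (i ≫ m) := him ▸ inferInstance
  haveI : IsClosedImmersion i := IsClosedImmersion.of_comp i m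
  -- an isomorphism over an open
  have hcomp : ∀ {W : Scheme.{u}} [IsIntegral W] (w : W), closure {w} ∈ irreducibleComponents ↥W ↔ w = genericPoint W := by
    intro W _ w
    rw [irreducibleComponents_eq_singleton, Set.mem_singleton_iff]
    exact ⟨fun h => (show IsGenericPoint w Set.univ from h).eq (genericPoint_spec W), fun h => h ▸ genericPoint_spec W⟩
  have hfin : ∀ {W : Scheme.{u}} [IsIntegral W], (irreducibleComponents ↥W).Finite := fun {W} _ => by
    rw [irreducibleComponents_eq_singleton]; exact Set.finite_singleton _
  obtain ⟨V, hVd, hV⟩ := Groth.Agent.S9679.result f hfin hfin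
    ⟨fun x hx => by
        simp only [Set.mem_setOf_eq, hcomp] at hx ⊢
        rw [hx, hgen],
      fun x hx y hy _ => by
        simp only [Set.mem_setOf_eq, hcomp] at hx hy
        rw [hx, hy],
      fun y hy => by
        simp only [Set.mem_setOf_eq, hcomp] at hy
        exact ⟨genericPoint X, (hcomp _).2 rfl, hgen.trans hy.symm⟩⟩
    (fun x hx => by
      obtain rfl := (hcomp x).1 hx
      have hfX : IsField (X.presheaf.stalk (genericPoint X)) := Semifield.toIsField X.functionField
      have hfY : IsField (Y.presheaf.stalk (f (genericPoint X))) := by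
        rw [show f (genericPoint X) = genericPoint Y from hgen]; exact Semifield.toIsField Y.functionField
      rw [ConcreteCategory.isIso_iff_bijective]
      have hbX : Function.Bijective (IsLocalRing.residue (X.presheaf.stalk (genericPoint X))) :=
        ⟨(RingHom.injective_iff_ker_eq_bot _).2 (by rw [IsLocalRing.ker_residue]; exact IsLocalRing.isField_iff_maximalIdeal_eq.1 hfX),
          Ideal.Quotient.mk_surjective⟩
      have hbY : Function.Bijective (IsLocalRing.residue (Y.presheaf.stalk (f (genericPoint X)))) :=
        ⟨(RingHom.injective_iff_ker_eq_bot _).2 (by rw [IsLocalRing.ker_residue]; exact IsLocalRing.isField_iff_maximalIdeal_eq.1 hfY),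
          Ideal.Quotient.mk_surjective⟩
      refine (Function.Bijective.of_comp_iff' hbX _).1 ?_
      have e : (IsLocalRing.residue (X.presheaf.stalk (genericPoint X))) ∘ (f.stalkMap (genericPoint X)) =
          (f.residueFieldMap (genericPoint X)).hom ∘ (IsLocalRing.residue (Y.presheaf.stalk (f (genericPoint X)))) :=
        funext fun t => congr($(Scheme.residue_residueFieldMap f (genericPoint X)) t).symm
      exact e ▸ hbir.comp hbY)
    (Or.inl inferInstance) (Or.inl ⟨inferInstance, inferInstance⟩)
  exact Groth.Agent.BiratBlow.exists_isBlowUp_of_birational hM f i hi V hVd.nonempty hV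

end Groth.Agent.S4468
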