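import Groth.Statements.S4469
import Mathlib.RingTheory.ZariskisMainTheorem
import Mathlib.RingTheory.IntegralClosure.IntegrallyClosed
import Mathlib.RingTheory.Ideal.MinimalPrime.Noetherian

set_option autoImplicit false
universe u
open CAlg

namespace Groth.Agent.S4469

/-- Let A be an integrally closed Noetherian local domain with field of fractions K, B an A-algebra of
finite type which is a domain with the same field of fractions (A → B → K compatible with A → K),
and 𝔫 a maximal ideal of B lying over the maximal ideal 𝔪 of A and minimal among the prime ideals of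
B lying over 𝔪. Then B = A: the structure map A → B is bijective. -/
theorem result (A B K : Type u) [CommRing A]
    [IsDomain A] [IsNoetherianRing A] [IsLocalRing A] [IsIntegrallyClosed A] [CommRing B] [IsDomain B]
    [Field K] [Algebra A B] [Algebra B K] [Algebra A K] [IsScalarTower A B K] [IsFractionRing A K]
    [IsFractionRing B K] [Algebra.FiniteType A B] (n : Ideal B) [n.IsMaximal]
    (hn : n.comap (algebraMap A B) = IsLocalRing.maximalIdeal A)
    (hmin : ∀ q : Ideal B, q.IsPrime → q.comap (algebraMap A B) = IsLocalRing.maximalIdeal A → q ≤ n → q = n) :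
    Function.Bijective (algebraMap A B) := by
  classical
  haveI : IsNoetherianRing B := Algebra.FiniteType.isNoetherianRing A B
  have hinj : Function.Injective (algebraMap A B) := fun a b h =>
    IsFractionRing.injective A K (by rw [IsScalarTower.algebraMap_apply A B K, h, ← IsScalarTower.algebraMap_apply])
  let I : Ideal B := (IsLocalRing.maximalIdeal A).map (algebraMap A B)
  have hIn : I ≤ n := Ideal.map_le_iff_le_comap.2 hn.ge
  have hfib : ∀ q : Ideal B, q.IsPrime → I ≤ q → q.comap (algebraMap A B) = IsLocalRing.maximalIdeal A := fun q hq hIq =>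
    ((IsLocalRing.maximalIdeal.isMaximal A).eq_of_le (hq.comap _).ne_top (Ideal.map_le_iff_le_comap.1 hIq)).symm
  have hfin := Ideal.finite_minimalPrimes_of_isNoetherianRing B I
  obtain ⟨g, hgn, hg⟩ : ∃ g ∉ n, ∀ P ∈ I.minimalPrimes, P ≠ n → g ∈ P := by
    have h : ¬ (hfin.toFinset.erase n).inf id ≤ n := fun h => by
      obtain ⟨P, hP, hPn⟩ := (Ideal.IsPrime.inf_le' (f := id) (‹n.IsMaximal›.isPrime)).1 h
      obtain ⟨hne, hP⟩ := Finset.mem_erase.1 hP
      rw [Set.Finite.mem_toFinset] at hP
      exact hne (hmin P hP.1.1 (hfib P hP.1.1 hP.1.2) hPn)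
    obtain ⟨g, hg, hgn⟩ := SetLike.not_le_iff_exists.1 h
    exact ⟨g, hgn, fun P hP hne => Finset.inf_le (f := id) (Finset.mem_erase.2 ⟨hne, hfin.mem_toFinset.2 hP⟩) hg⟩
  haveI : Algebra.QuasiFiniteAt A n := Algebra.QuasiFiniteAt.of_isOpen_singleton_fiber ⟨n, inferInstance⟩ (by
    rw [isOpen_induced_iff]
    refine ⟨PrimeSpectrum.basicOpen g, (PrimeSpectrum.basicOpen g).2, Set.ext fun ⟨q, hq⟩ => ?_⟩
    simp only [Set.mem_preimage, SetLike.mem_coe, PrimeSpectrum.mem_basicOpen, Set.mem_singleton_iff, Subtype.mk.injEq]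
    refine ⟨fun hgq => ?_, fun h => by cases h; exact hgn⟩
    have hIq : I ≤ q.asIdeal := Ideal.map_le_iff_le_comap.2 (by
      have h1 : q.asIdeal.comap (algebraMap A B) = n.comap (algebraMap A B) := congrArg PrimeSpectrum.asIdeal hq
      exact (h1.trans hn).ge)
    obtain ⟨P, hP, hPq⟩ := Ideal.exists_minimalPrimes_le hIq
    have hPn : P = n := by_contra fun hne => hgq (hPq (hg P hP hne))
    first
      | exact Subtype.ext (PrimeSpectrum.ext (‹n.IsMaximal›.eq_of_le q.isPrime.ne_top (hPn ▸ hPq)).symm)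
      | exact PrimeSpectrum.ext (‹n.IsMaximal›.eq_of_le q.isPrime.ne_top (hPn ▸ hPq)).symm)
  obtain ⟨r, hrn, hint, hr⟩ := Algebra.zariskisMainProperty_iff.1 (Algebra.ZariskisMainProperty.of_finiteType (R := A) n)
  have hrange : ∀ x : B, IsIntegral A x → ∃ a, algebraMap A B a = x := fun x hx => by
    obtain ⟨a, ha⟩ := IsIntegrallyClosed.algebraMap_eq_of_integral (hx.map (IsScalarTower.toAlgHom A B K))
    exact ⟨a, IsFractionRing.injective B K (by rw [← IsScalarTower.algebraMap_apply, ha]; rfl)⟩
  obtain ⟨a, rfl⟩ := hrange r hint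
  have hu : IsUnit a := IsLocalRing.notMem_maximalIdeal.1 fun h => hrn (Ideal.mem_comap.1 (hn.ge h))
  refine ⟨hinj, fun x => ?_⟩
  obtain ⟨k, hk⟩ := hr x
  obtain ⟨c, hc⟩ := hrange _ hk
  obtain ⟨b, hb⟩ := (hu.pow k).exists_left_inv
  exact ⟨b * c, by rw [map_mul, hc, ← map_pow, ← mul_assoc, ← map_mul, hb, map_one, one_mul]⟩

end Groth.Agent.S4469
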