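import Groth.Statements.S4470
import Groth.Agent.FinBirat.Descend
import Groth.Agent.TMul.RelAmpleOps
-- import your own Groth.Agent.* helpers here

set_option autoImplicit false
set_option backward.isDefEq.respectTransparency false
universe u
open Coherent

namespace Groth.Agent.S4470

open AlgebraicGeometry CategoryTheory in
/-- Let Y be a Noetherian scheme, f : X → Y a morphism of finite type, g : X' → X a finite surjective
morphism, L an invertible O_X-module and L' = g^* L. Suppose there is a subset Z of X, proper over
Y, such that for every point x of X outside Z either the local ring of X at x is an integrally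
closed domain or the stalk of g_* O_{X'} at x is a free module over that local ring. Then L is ample
relative to f if and only if L' is ample relative to g ≫ f. -/
theorem result {X X' Y : Scheme.{u}} (f : X ⟶ Y)
    [IsNoetherian Y] [LocallyOfFiniteType f] [QuasiCompact f] (g : X' ⟶ X) [IsFinite g] [Surjective g]
    (L : X.Modules) (hL : PicF.IsInvertible L) (Z : Set X) (hZ : ClSub.IsProperOver f Z)
    (hreg : ∀ x : X, x ∉ Z →
      (IsDomain (X.presheaf.stalk x) ∧ IsIntegrallyClosed (X.presheaf.stalk x)) ∨
        Module.Free (X.presheaf.stalk x) (((Coh.push g).obj (Coh.structureModule X')).presheaf.stalk x)) :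
    RelAmple.IsRelAmple f L ↔ RelAmple.IsRelAmple (g ≫ f) ((Scheme.Modules.pullback g).obj L) := by
  refine ⟨fun h => ?_, fun h => ?_⟩
  · exact TMul.isRelAmple_pullback_of_isQuasiAffine g ⟨inferInstance, fun W hW => by
      have : IsAffine (g ⁻¹ᵁ W).toScheme := hW.preimage g
      infer_instance⟩ h
  haveI : IsLocallyNoetherian X := LocallyOfFiniteType.isLocallyNoetherian f
  have hpt : ∀ x : X, x ∉ Z → Groth.Agent.FinBirat.NormalOrFreeAt g x := fun x hx =>
    (hreg x hx).elim Or.inl Groth.Agent.FinBirat.normalOrFreeAt_of_freeStalk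
  refine ⟨inferInstance, fun V => ?_⟩
  let U : X.Opens := f ⁻¹ᵁ V.1
  haveI : IsNoetherianRing Γ(Y, V.1) := IsLocallyNoetherian.component_noetherian V
  haveI : IsFinite (g ∣_ U) := IsZariskiLocalAtTarget.restrict ‹_› _
  haveI : Surjective (g ∣_ U) := IsZariskiLocalAtTarget.restrict ‹_› _
  haveI : LocallyOfFiniteType (f ∣_ V.1) := IsZariskiLocalAtTarget.restrict ‹_› _
  haveI : QuasiCompact (f ∣_ V.1) := IsZariskiLocalAtTarget.restrict ‹_› _
  have hZV := ClSubLib.isProperOver_baseChange (isPullback_morphismRestrict f V.1).flip hZ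
  refine Groth.Agent.FinBirat.isAmple_of_pullback_of_normalOrFree ((f ∣_ V.1) ≫ V.2.isoSpec.hom) (g ∣_ U)
    (TMul.isInvertible_restrict _ hL) (U.ι.base ⁻¹' Z) ?_
    (fun x hx => Groth.Agent.FinBirat.normalOrFreeAt_restrict U x (hpt _ hx))
    (TMul.isAmple_congr ((Groth.Agent.DerPerf.pullRestrictIso g U).app L) (h.2 V))
  obtain ⟨hc, hp⟩ := hZV
  haveI := hp
  exact ⟨hc, by rw [← Category.assoc]; infer_instance⟩

end Groth.Agent.S4470
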