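import Groth.Statements.S4472
import Groth.Agent.S4464
import Groth.Agent.FibComp.Scheme
import Groth.Agent.BlowUpLib.Basic
import Groth.Agent.BlowUpExist.Proper

set_option autoImplicit false
universe u
open Coherent

set_option backward.isDefEq.respectTransparency false
set_option backward.isDefEq.respectTransparency.types false

namespace Groth.Agent.S4472

open AlgebraicGeometry CategoryTheory in
/-- Let A be a unibranch Noetherian local domain (a local domain whose integral closure is a local ring)
with maximal ideal m, let 𝔞 be an ideal of definition of A (𝔞 ⊆ m and m^p ⊆ 𝔞 for some p), and let b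
: X → Spec A be a blowing up of Spec A in the ideal sheaf defined by 𝔞. Then the fibre of b over the
closed point is preconnected. Its underlying space is that of Proj of the associated graded ring ⊕
𝔞^i/𝔞^(i+1), so this says that Proj is connected (possibly empty). -/
theorem result (A : Type u) [CommRing A] [IsDomain A]
    [IsNoetherianRing A] [IsLocalRing A] (hA : CAlg2.IsUnibranch A) (𝔞 : Ideal A)
    (hle : 𝔞 ≤ IsLocalRing.maximalIdeal A)
    (hpow : ∃ p : ℕ, IsLocalRing.maximalIdeal A ^ p ≤ 𝔞) {X : Scheme.{u}}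
    (b : X ⟶ Spec (CommRingCat.of A))
    (hb : BlowUp.IsBlowUp b
      (Scheme.IdealSheafData.ofIdealTop (𝔞.map (Scheme.ΓSpecIso (CommRingCat.of A)).inv.hom))) :
    PreconnectedSpace ↥(b.fiber (IsLocalRing.closedPoint A)) := by
  haveI : IsReduced X := BlowUpLib.isReduced_blowUp hb
  haveI : IsProper b := BlowUpExist.isProper_of_isFiniteType hb fun U ↦ by
    haveI := IsLocallyNoetherian.component_noetherian (X := Spec (CommRingCat.of A)) U
    exact IsNoetherian.noetherian _
  by_cases hne : IsEmpty X
  · haveI : IsEmpty ↥(b.fiber (IsLocalRing.closedPoint A)) := Function.isEmpty (b.fiberι (IsLocalRing.closedPoint A))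
    infer_instance
  haveI := not_isEmpty_iff.mp hne
  haveI : IsLocallyNoetherian X := LocallyOfFiniteType.isLocallyNoetherian b
  obtain ⟨hmaps, hinj, -⟩ := BlowUpLib.bijOn_maximalPts hb
  let η := genericPoint (Spec (CommRingCat.of A))
  have hmaxY : ∀ z : Spec (CommRingCat.of A), (∀ w, w ⤳ z → w = z) → z = η :=
    fun z hz ↦ (hz η ((genericPoint_spec _).specializes trivial)).symm
  have hgen : ∀ x : X, ∃ ξ : X, ξ ⤳ x ∧ ∀ w : X, w ⤳ ξ → w = ξ := by
    intro x
    obtain ⟨Z, hZ, hxZ⟩ := exists_mem_irreducibleComponents_subset_of_isIrreducible _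
      (isIrreducible_singleton (x := x))
    have hZc := isClosed_of_mem_irreducibleComponents Z hZ
    obtain ⟨ξ, hξ⟩ := QuasiSober.sober hZ.1 hZc
    refine ⟨ξ, hξ.specializes (hxZ rfl), fun w hw ↦ ?_⟩
    have hsub : Z ⊆ closure {w} := by
      rw [← hξ.def]
      exact closure_minimal (Set.singleton_subset_iff.mpr hw.mem_closure) isClosed_closure
    have hw' : IsGenericPoint w Z := Set.Subset.antisymm (hZ.2 isIrreducible_singleton.closure hsub) hsub
    exact hw'.eq hξ
  obtain ⟨ξ, -, hξ⟩ := hgen (Classical.arbitrary X)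
  have hbξ : b ξ = η := hmaxY _ (hmaps hξ).1
  have huniq : ∀ w : X, (∀ v : X, v ⤳ w → v = w) → w = ξ := fun w hw ↦
    hinj hw hξ ((hmaxY _ (hmaps hw).1).trans hbξ.symm)
  have hdense : ∀ x : X, ξ ⤳ x := fun x ↦ by
    obtain ⟨ξ', h1, h2⟩ := hgen x
    exact huniq ξ' h2 ▸ h1
  haveI : IrreducibleSpace X := by
    have : closure {ξ} = (Set.univ : Set X) := Set.eq_univ_of_forall fun x ↦ (hdense x).mem_closure
    exact { toPreirreducibleSpace := ⟨this ▸ isIrreducible_singleton.closure.2⟩, toNonempty := ⟨ξ⟩ }
  haveI : AlgebraicGeometry.IsIntegral X := isIntegral_of_irreducibleSpace_of_isReduced X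
  have hgX : genericPoint X = ξ := hξ _ ((genericPoint_spec X).specializes trivial)
  have hsupp : b ξ ∈ (Scheme.IdealSheafData.ofIdealTop (𝔞.map (Scheme.ΓSpecIso (CommRingCat.of A)).inv.hom)).support.compl :=
    (hmaps hξ).2
  haveI := BlowUpLib.isIso_stalkMap hb hsupp
  have hdom : b.base (genericPoint X) ⤳ η := by rw [hgX]; exact specializes_of_eq hbξ
  have hrev : η ⤳ b.base (genericPoint X) := by rw [hgX]; exact specializes_of_eq hbξ.symm
  have hy : CAlg2.IsUnibranch ((Spec (CommRingCat.of A)).presheaf.stalk (IsLocalRing.closedPoint A)) :=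
    FibComp.isUnibranch_of_ringEquiv (stalkClosedPointIso (CommRingCat.of A)).commRingCatIsoToRingEquiv.symm hA
  haveI : ConnectedSpace ↥(b.fiber (IsLocalRing.closedPoint A)) :=
    Groth.Agent.S4464.result b hdom (fun x _ ↦ ⟨0, by
      subst hgX
      rw [pow_zero, pow_one]
      obtain ⟨z, rfl⟩ := (ConcreteCategory.bijective_of_isIso (b.stalkMap (genericPoint X))).2 x
      refine ⟨(Spec (CommRingCat.of A)).presheaf.stalkSpecializes hrev z, ?_⟩
      simp only [CohIII.stalkToFunctionField, RingHom.comp_apply]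
      rw [← CommRingCat.comp_apply ((Spec (CommRingCat.of A)).presheaf.stalkSpecializes hrev),
        TopCat.Presheaf.stalkSpecializes_comp, TopCat.Presheaf.stalkSpecializes_refl]
      rfl⟩) _ hy
  infer_instance

end Groth.Agent.S4472
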