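import Groth.Statements.S4474
import Groth.Agent.TMul.GlobGen
import Groth.Agent.TMul.Pullback

set_option autoImplicit false
universe u
open Coherent

set_option backward.isDefEq.respectTransparency false
set_option backward.isDefEq.respectTransparency.types false
open Groth.Agent
namespace Groth.Agent.S4474

open AlgebraicGeometry CategoryTheory in
theorem exists_counit_eq {X Y : Scheme.{u}} (f : X ⟶ Y) (G : X.Modules) (W : Y.Opens)
    (B : (f ⁻¹ᵁ W).toScheme.Opens) (s₀ : Γ(G.restrict (f ⁻¹ᵁ W).ι, ⊤)) :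
    ∃ u, ((Scheme.Modules.pullbackPushforwardAdjunction f).counit.app G).app ((f ⁻¹ᵁ W).ι ''ᵁ B) u =
      (show Γ(G, (f ⁻¹ᵁ W).ι ''ᵁ B) from QC.res (G.restrict (f ⁻¹ᵁ W).ι) le_top s₀) := by
  let adj := Scheme.Modules.pullbackPushforwardAdjunction f
  let s₁ : Γ(G, f ⁻¹ᵁ W) := QC.res G (f ⁻¹ᵁ W).ι_image_top.ge (show Γ(G, (f ⁻¹ᵁ W).ι ''ᵁ ⊤) from s₀)
  let u : Γ((Scheme.Modules.pullback f).obj ((Scheme.Modules.pushforward f).obj G), f ⁻¹ᵁ W) :=
    (adj.unit.app ((Scheme.Modules.pushforward f).obj G)).app W s₁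
  have hu : (adj.counit.app G).app (f ⁻¹ᵁ W) u = s₁ := congr(($(adj.right_triangle_components G)).app W s₁)
  have hle : (f ⁻¹ᵁ W).ι ''ᵁ B ≤ (f ⁻¹ᵁ W).ι ''ᵁ ⊤ := (f ⁻¹ᵁ W).ι.image_mono le_top
  have hle' : (f ⁻¹ᵁ W).ι ''ᵁ B ≤ f ⁻¹ᵁ W := hle.trans (f ⁻¹ᵁ W).ι_image_top.le
  refine ⟨QC.res _ hle' u, ?_⟩
  rw [← QC.app_res (adj.counit.app G) hle' u, hu]
  exact QC.res_res G hle' (f ⁻¹ᵁ W).ι_image_top.ge _


open AlgebraicGeometry CategoryTheory in
/-- Let Y be a Noetherian scheme, f : X → Y a proper morphism, L an invertible O_X-module which is ample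
relative to f, and F a coherent O_X-module. Then there is an integer N such that for every n ≥ N the
canonical morphism f^* f_* (F(n)) → F(n), the counit of the adjunction between f^* and f_*, is an
epimorphism, where F(n) = F ⊗ L^{⊗ n}. -/
theorem result {X Y : Scheme.{u}} (f : X ⟶ Y) [IsNoetherian Y] [IsProper f]
    (L : X.Modules) (hL : PicF.IsInvertible L) (hamp : RelAmple.IsRelAmple f L) (F : X.Modules)
    (hF : Coh.IsCoh F) :
    ∃ N : ℕ, ∀ n : ℕ, N ≤ n →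
      Epi ((Scheme.Modules.pullbackPushforwardAdjunction f).counit.app
        (CohB1.tensorMod F (CohB1.tensorPow L n))) := by
  have hpt : ∀ W : Y.affineOpens, ∃ N : ℕ, ∀ n, N ≤ n → ∀ x : (f ⁻¹ᵁ W.1).toScheme,
      ∃ D : (f ⁻¹ᵁ W.1).toScheme.Opens, IsAffineOpen D ∧ x ∈ D ∧
        TMul.GenOn ((CohB1.tensorMod F (CohB1.tensorPow L n)).restrict (f ⁻¹ᵁ W.1).ι) D := by
    intro W
    let j := (f ⁻¹ᵁ W.1).ι
    have hFq : (F.restrict j).IsQuasicoherent := QC.isQCoh_restrict _ hF.1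
    obtain ⟨N, hN⟩ := TMul.exists_forall_genOn (hamp.2 W) (hF := hFq) (QC.isFT_restrict j hF.2)
    refine ⟨N, fun n hn x => ?_⟩
    obtain ⟨D, hD, hx, hg⟩ := hN n hn x
    obtain ⟨e⟩ := TMul.nonempty_restrictTensorIso j F (CohB1.tensorPow L n)
    obtain ⟨p⟩ := TMul.nonempty_pullPowIso j L n
    obtain ⟨q⟩ : Nonempty (CohB1.tensorPow (L.restrict j) n ≅
        CohB1.tensorPow ((Scheme.Modules.pullback j).obj L) n) :=
      TMul.nonempty_powCongr ((Scheme.Modules.restrictFunctorIsoPullback j).app L) n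
    exact ⟨D, hD, hx, hg.congr ((PicGrp.tensorModIso (Iso.refl _)
      (q ≪≫ p ≪≫ ((Scheme.Modules.restrictFunctorIsoPullback j).app _).symm)) ≪≫ e)⟩
  choose N hN using hpt
  obtain ⟨T, hT⟩ := isCompact_univ.elim_finite_subcover (fun W : Y.affineOpens => (W.1 : Set Y))
    (fun W => W.1.2) fun y _ => by
      obtain ⟨W, hW, hy, -⟩ := exists_isAffineOpen_mem_and_subset (X := Y) (x := y) (U := ⊤) trivial
      exact Set.mem_iUnion.2 ⟨⟨W, hW⟩, hy⟩
  refine ⟨T.sup N, fun n hn => ?_⟩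
  let G := CohB1.tensorMod F (CohB1.tensorPow L n)
  let adj := Scheme.Modules.pullbackPushforwardAdjunction f
  have hG : Coh.IsQCoh G := TMul.isQCoh_tensor (TMul.isInvertible_tensorPow hL n) (hF := hF.1)
  haveI : G.IsQuasicoherent := hG
  refine InvGen.epi_of_locally _ fun U t x hxU => ?_
  obtain ⟨W, hWT, hxW⟩ := Set.mem_iUnion₂.1 (hT (Set.mem_univ (f.base x)))
  let X₀ := f ⁻¹ᵁ W.1
  obtain ⟨D, hD, hxD, hgen⟩ := hN W n ((Finset.le_sup hWT).trans hn) ⟨x, hxW⟩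
  haveI : (G.restrict X₀.ι).IsQuasicoherent := QC.isQCoh_restrict _ hG
  obtain ⟨g, hg, hxg⟩ := hD.exists_basicOpen_le (V := X₀.ι ⁻¹ᵁ U) ⟨⟨x, hxW⟩, hxU⟩ hxD
  let B := X₀.toScheme.basicOpen g
  have hBU : X₀.ι ''ᵁ B ≤ U := by
    rintro _ ⟨y, hy, rfl⟩
    exact hg hy
  refine ⟨X₀.ι ''ᵁ B, hBU, ⟨⟨x, hxW⟩, hxg, rfl⟩, ?_⟩
  have hmem : ∀ w : Γ(G.restrict X₀.ι, B),
      ∃ s, (adj.counit.app G).app (X₀.ι ''ᵁ B) s = (show Γ(G, X₀.ι ''ᵁ B) from w) := by
    intro w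
    have hs := QC.mem_span_basicOpen hD g hgen w
    induction hs using Submodule.span_induction with
    | mem y hy =>
      obtain ⟨_, ⟨s₀, rfl⟩, rfl⟩ := hy
      obtain ⟨u, hu⟩ := exists_counit_eq f G W.1 B s₀
      exact ⟨u, hu.trans (QC.res_res (G.restrict X₀.ι) _ _ _).symm⟩
    | zero => exact ⟨0, map_zero _⟩
    | add a b _ _ ha hb =>
      obtain ⟨u, hu⟩ := ha
      obtain ⟨v, hv⟩ := hb
      exact ⟨u + v, (map_add _ u v).trans (congrArg₂ (· + ·) hu hv)⟩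
    | smul c a _ ha =>
      obtain ⟨u, hu⟩ := ha
      exact ⟨(X₀.ι.appIso B).inv c • u,
        (Scheme.Modules.Hom.app_smul _ _ u).trans (congrArg ((X₀.ι.appIso B).inv c • ·) hu)⟩
  exact hmem (QC.res G hBU t)

end Groth.Agent.S4474
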