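import Groth.Statements.S4475
import Groth.Agent.CechX.KoszulPoly
import Mathlib
-- import your own Groth.Agent.* helpers here

set_option autoImplicit false
universe u
open Koszul3

namespace Groth.Agent.S4475

open CategoryTheory CategoryTheory.Limits in
/-- Let A be a ring, S = A[T_0, …, T_r] the polynomial ring and T = (T_0, …, T_r). Then the direct-limit
Koszul cohomology H^i((T), S), the colimit over n of the Koszul cohomologies H^i(T^n, S), vanishes
for every i ≠ r + 1, and H^(r+1)((T), S) is a free A-module (the source gives an explicit basis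
indexed by the monomials with all exponents positive). -/
theorem result (A : Type u) [CommRing A] (r : ℕ) :
    (∀ i : ℕ, i ≠ r + 1 →
      Subsingleton (CohIII.koszulHLim (List.ofFn (fun j : Fin (r + 1) => (MvPolynomial.X j : MvPolynomial (Fin (r + 1)) A)))
        (ModuleCat.of (MvPolynomial (Fin (r + 1)) A) (MvPolynomial (Fin (r + 1)) A)) i)) ∧
    Module.Free A (RestrictScalars A (MvPolynomial (Fin (r + 1)) A)
      (CohIII.koszulHLim (List.ofFn (fun j : Fin (r + 1) => (MvPolynomial.X j : MvPolynomial (Fin (r + 1)) A)))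
        (ModuleCat.of (MvPolynomial (Fin (r + 1)) A) (MvPolynomial (Fin (r + 1)) A)) (r + 1))) := by
  refine ⟨fun i hi => Groth.Agent.CechX.subsingleton_koszulHLim_of_isZero _ _ i fun n => ?_,
    Groth.Agent.CechX.free_top_koszulHLim (r + 1)⟩
  have hc := Groth.Agent.CechX.conc_koszulCx_of_isWeaklyRegular
    (ModuleCat.of (MvPolynomial (Fin (r + 1)) A) (MvPolynomial (Fin (r + 1)) A)) _
    (Groth.Agent.CechX.isWeaklyRegular_X (A := A) (r + 1))
  rw [Groth.Agent.CechX.koszulCx_eq] at hc
  have hp := Groth.Agent.CechX.conc_KC_pow n _ _ _ hc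
  rw [← Groth.Agent.CechX.koszulCx_eq] at hp
  exact hp _ (by simp only [List.length_ofFn, ne_eq]; omega)

end Groth.Agent.S4475
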