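import Groth.Statements.S4476
import Groth.Agent.W7Hull.LiftMono
import Groth.Agent.DerPush.Basic

set_option autoImplicit false
universe u
attribute [local instance] HasDerivedCategory.standard
open Coherent

set_option backward.isDefEq.respectTransparency false
set_option backward.isDefEq.respectTransparency.types false
set_option maxHeartbeats 1000000
open Groth.Agent CategoryTheory Opposite TopologicalSpace
namespace Groth.Agent.S4476

open AlgebraicGeometry CategoryTheory in
/-- Over a local base. Let A be a Noetherian local ring with closed point y, X a scheme proper and flat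
over Spec A, F and G finite locally free O_X-modules and F_y, G_y their restrictions (module
pullbacks) to the closed fibre X_y. Assume that the internal Hom functor Hom(F_y, −) exists as the
right adjoint of F_y ⊗ − and that H^1(X_y, Hom(F_y, G_y)) = 0. Then every morphism u₀ : F_y → G_y is
the restriction to X_y of a morphism u : F → G; moreover for every such u, if u₀ is a monomorphism
(resp. an epimorphism) then u is a monomorphism (resp. an epimorphism). (Over a general locally
Noetherian base the published statements give u on the inverse image of a neighbourhood of y; over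
the spectrum of a local ring that neighbourhood is the whole base.) -/
theorem result (A : Type u) [CommRing A] [IsNoetherianRing A]
    [IsLocalRing A] (X : Scheme.{u}) [X.Over (Spec (CommRingCat.of A))]
    [IsProper (X ↘ Spec (CommRingCat.of A))] [Flat (X ↘ Spec (CommRingCat.of A))]
    (F G : X.Modules) (hF : FlatMod.IsFinLocFree F) (hG : FlatMod.IsFinLocFree G)
    [DCoh.HasSheafHom (CohIII.fiberMod (X ↘ Spec (CommRingCat.of A)) F (IsLocalRing.closedPoint A))]
    (h1 : Subsingleton (Coh.HH ((X ↘ Spec (CommRingCat.of A)).fiber (IsLocalRing.closedPoint A))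
      ((DCoh.sheafHom (CohIII.fiberMod (X ↘ Spec (CommRingCat.of A)) F (IsLocalRing.closedPoint A))).obj
        (CohIII.fiberMod (X ↘ Spec (CommRingCat.of A)) G (IsLocalRing.closedPoint A))) 1))
    (u₀ : CohIII.fiberMod (X ↘ Spec (CommRingCat.of A)) F (IsLocalRing.closedPoint A) ⟶
      CohIII.fiberMod (X ↘ Spec (CommRingCat.of A)) G (IsLocalRing.closedPoint A)) :
    (∃ u : F ⟶ G,
      (Scheme.Modules.pullback ((X ↘ Spec (CommRingCat.of A)).fiberι (IsLocalRing.closedPoint A))).map u = u₀) ∧
    ∀ u : F ⟶ G,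
      (Scheme.Modules.pullback ((X ↘ Spec (CommRingCat.of A)).fiberι (IsLocalRing.closedPoint A))).map u = u₀ →
        (Mono u₀ → Mono u) ∧ (Epi u₀ → Epi u) := by
  let π := X ↘ Spec (CommRingCat.of A)
  let ι := π.fiberι (IsLocalRing.closedPoint A)
  haveI : IsLocallyNoetherian X := LocallyOfFiniteType.isLocallyNoetherian π
  refine ⟨?_, fun u hu => ⟨fun h => W7Hull.mono_of_fibre hF hG u (by subst hu; exact h),
    fun h => W7Hull.epi_of_fibre hF hG u (by subst hu; exact h)⟩⟩
  let H := RefHull.homSh F G
  have hH : FlatMod.IsFinLocFree H := W7Hull.isFinLocFree_homSh hF hG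
  let Fy := (Scheme.Modules.pullback ι).obj F
  let Gy := (Scheme.Modules.pullback ι).obj G
  obtain ⟨i⟩ := W7Hull.nonempty_fiber_homSh_iso A hF hG
  let j : CohIII.fiberMod π H (IsLocalRing.closedPoint A) ≅ (DCoh.sheafHom Fy).obj Gy :=
    i ≪≫ ((W7Hull.sheafHomIso Fy).app Gy).symm
  have h1' : Subsingleton (CohIII.fiberH π H (IsLocalRing.closedPoint A) 1) := by
    exact (((CohIII.HAb _ 1).mapIso j).addCommGroupIsoToAddEquiv : Coh.HH _ (CohIII.fiberMod π H (IsLocalRing.closedPoint A)) 1 ≃+
      Coh.HH _ ((DCoh.sheafHom Fy).obj Gy) 1).toEquiv.subsingleton_congr.2 h1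
  have hsurj := W7Hull.unit_app_surjective A H (LocFree.isQCoh_of_isFinLocFree hH) (LocFree.isFP_of_isFinLocFree hH)
    (W7Hull.isFlatOver_of_isFinLocFree π hH) h1'
  obtain ⟨θ, hθ⟩ := W7Hull.exists_unit_homSh_iso A hF hG
  let adj := Scheme.Modules.pullbackPushforwardAdjunction ι
  let v : F ⟶ (Scheme.Modules.pushforward ι).obj Gy := adj.homEquiv _ _ u₀
  let σ := RefHull.ofHom v ⊤
  obtain ⟨g, hg⟩ := hsurj (θ.inv.app ⊤ σ)
  have hg' : (RefFun.homMap F (adj.unit.app G)).app ⊤ g = σ := by
    refine (congr(($hθ.symm).app ⊤ g)).trans ?_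
    refine (congrArg (θ.hom.app ⊤) hg).trans ?_
    exact congr(($(θ.inv_hom_id)).app ⊤ σ)
  obtain ⟨u, hu⟩ := RefStalk.exists_hom g
  refine ⟨u, (adj.homEquiv _ _).injective ?_⟩
  refine Eq.trans ?_ (rfl : v = adj.homEquiv _ _ u₀)
  refine (adj.homEquiv_unit _ _ _).trans ?_
  refine (adj.unit.naturality u).symm.trans ?_
  refine W7Hull.hom_ext_stalk fun x => LinearMap.ext fun z => ?_
  refine (W7Hull.st_comp u (adj.unit.app G) x z).trans ?_
  obtain ⟨U, hx, s, rfl⟩ := TopCat.Presheaf.exists_germ_eq F.presheaf z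
  have e := congrArg (fun t => t.1 ⟨x, trivial⟩ (F.presheaf.germ U x hx s)) hg'
  have e' : RefHull.stalkMapₗ (adj.unit.app G) x (RefHull.stalkMapₗ u x (F.presheaf.germ U x hx s)) =
      RefHull.stalkMapₗ v x (F.presheaf.germ U x hx s) := by
    rw [hu x]
    exact e
  refine Eq.trans ?_ ((RefHull.stalkMapₗ_germ v x hx s).trans (W7Hull.st_germ v hx s).symm)
  refine Eq.trans ?_ e'
  refine Eq.trans (congrArg (W7Hull.st (adj.unit.app G) x) (W7Hull.st_germ u hx s)) ?_
  refine Eq.trans ?_ (congrArg (RefHull.stalkMapₗ (adj.unit.app G) x) (RefHull.stalkMapₗ_germ u x hx s)).symm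
  exact (W7Hull.st_germ _ hx _).trans (RefHull.stalkMapₗ_germ (adj.unit.app G) x hx _).symm

end Groth.Agent.S4476
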