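import Groth.Statements.S4477
import Groth.Agent.S4476
import Groth.Agent.W7Hull.NearLimit
import Groth.Agent.W7Hull.AmpleSurj
import Groth.Agent.DerPerf.Local
import Groth.Agent.DerPush.Basic

set_option autoImplicit false
universe u
attribute [local instance] HasDerivedCategory.standard
open Coherent

set_option backward.isDefEq.respectTransparency false
set_option backward.isDefEq.respectTransparency.types false
set_option maxHeartbeats 1000000
open Groth.Agent CategoryTheory CategoryTheory.Limits Opposite TopologicalSpace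
namespace Groth.Agent.S4477

open AlgebraicGeometry CategoryTheory CategoryTheory.Limits in
lemma subsingleton_HH_iso {Z : Scheme.{u}} {M N : Z.Modules} (i : M ≅ N) (n : ℕ) (h : Subsingleton (Coh.HH Z N n)) :
    Subsingleton (Coh.HH Z M n) :=
  W7Hull.hh_subsingleton_of_retract i.inv i.hom i.hom_inv_id n h

open AlgebraicGeometry CategoryTheory CategoryTheory.Limits in
lemma exists_pullback_iso_hom {Z W : Scheme.{u}} (e : Z ⟶ W) [IsIso e] (P : W.Modules)
    (h : Subsingleton (Coh.HH W (RefHull.homSh P P) 1)) (hq : Coh.IsQCoh (RefHull.homSh ((Scheme.Modules.pullback e).obj P) ((Scheme.Modules.pullback e).obj P))) :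
    Subsingleton (Coh.HH Z (RefHull.homSh ((Scheme.Modules.pullback e).obj P) ((Scheme.Modules.pullback e).obj P)) 1) := by
  haveI := hq
  obtain ⟨a⟩ := S0012.result e (RefHull.homSh ((Scheme.Modules.pullback e).obj P) ((Scheme.Modules.pullback e).obj P)) 1
  haveI : (Scheme.Modules.pullback e).IsEquivalence :=
    (CategoryTheory.Equivalence.mk (Scheme.Modules.pullback e) (Scheme.Modules.pullback (inv e))
      ((Scheme.Modules.pullbackId W).symm ≪≫ Scheme.Modules.pullbackCongr (IsIso.inv_hom_id e).symm ≪≫
        (Scheme.Modules.pullbackComp (inv e) e).symm)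
      (Scheme.Modules.pullbackComp e (inv e) ≪≫ Scheme.Modules.pullbackCongr (IsIso.hom_inv_id e) ≪≫
        Scheme.Modules.pullbackId Z)).isEquivalence_functor
  haveI : IsIso ((Scheme.Modules.pullbackPushforwardAdjunction e).unit.app P) :=
    haveI := (Scheme.Modules.pullbackPushforwardAdjunction e).unit_isIso_of_L_fully_faithful
    inferInstance
  let i₀ : (Scheme.Modules.pushforward e).obj ((Scheme.Modules.pullback e).obj P) ≅ P :=
    (asIso ((Scheme.Modules.pullbackPushforwardAdjunction e).unit.app P)).symm
  exact a.toEquiv.subsingleton_congr.2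
    (subsingleton_HH_iso (((W7Hull.pushHomIso e P).app _) ≪≫ (RefFun.homFunctor P).mapIso i₀) 1 h)
open AlgebraicGeometry CategoryTheory in
/-- Let Y be a locally Noetherian scheme, f : X → Y a proper flat morphism, y a point of Y, and F, G
finite locally free O_X-modules whose restrictions F_y and G_y to the fibre X_y are isomorphic (both
isomorphic to one locally free E₀). Assume that Hom(F_y, −) exists as the right adjoint of F_y ⊗ −
and that H^1(X_y, Hom(F_y, F_y)) = 0. Then there is an open neighbourhood U of y such that the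
restrictions of F and G to f⁻¹(U) are isomorphic. -/
theorem result {X Y : Scheme.{u}} (f : X ⟶ Y) [IsProper f] [Flat f]
    [IsLocallyNoetherian Y] (y : Y) (F G : X.Modules) (hF : FlatMod.IsFinLocFree F) (hG : FlatMod.IsFinLocFree G)
    [DCoh.HasSheafHom (CohIII.fiberMod f F y)]
    (h1 : Subsingleton (Coh.HH (f.fiber y) ((DCoh.sheafHom (CohIII.fiberMod f F y)).obj (CohIII.fiberMod f F y)) 1))
    (hy : Nonempty (CohIII.fiberMod f F y ≅ CohIII.fiberMod f G y)) :
    ∃ U : Y.Opens, y ∈ U ∧ Nonempty (F.restrict (f ⁻¹ᵁ U).ι ≅ G.restrict (f ⁻¹ᵁ U).ι) := by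
  haveI : IsLocallyNoetherian X := LocallyOfFiniteType.isLocallyNoetherian f
  let A : Type u := Y.presheaf.stalk y
  let g := Y.fromSpecStalk y
  let XA := pullback f g
  letI : XA.Over (Spec (CommRingCat.of A)) := ⟨pullback.snd f g⟩
  haveI : IsProper (XA ↘ Spec (CommRingCat.of A)) := MorphismProperty.pullback_snd (P := @IsProper) f g inferInstance
  haveI : Flat (XA ↘ Spec (CommRingCat.of A)) := MorphismProperty.pullback_snd (P := @Flat) f g inferInstance
  let p : XA ⟶ X := pullback.fst f g
  let π := XA ↘ Spec (CommRingCat.of A)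
  let c := IsLocalRing.closedPoint A
  have hc : g c = y := Scheme.fromSpecStalk_closedPoint
  let r : Y.residueField y ⟶ (Spec (Y.presheaf.stalk y)).residueField c :=
    (Y.residueFieldCongr hc).inv ≫ g.residueFieldMap c
  haveI : IsIso r := by
    haveI : IsIso (g.residueFieldMap c) := by
      refine (ConcreteCategory.isIso_iff_bijective _).2 ⟨(g.residueFieldMap c).hom.injective, fun t => ?_⟩
      obtain ⟨s, rfl⟩ := (Spec (Y.presheaf.stalk y)).residue_surjective c t
      obtain ⟨s', rfl⟩ := g.stalkMap_surjective c s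
      exact ⟨Y.residue (g c) s', congr(($(Scheme.residue_residueFieldMap g c)).hom s')⟩
    infer_instance
  have hr : Spec.map r ≫ Y.fromSpecResidueField y = (Spec (CommRingCat.of A)).fromSpecResidueField c ≫ g := by
    rw [Spec.map_comp, Category.assoc]
    refine Eq.trans ?_ (Scheme.Hom.SpecMap_residueFieldMap_fromSpecResidueField g c)
    congr 1
    rw [← Scheme.residueFieldCongr_fromSpecResidueField hc, ← Spec.map_comp_assoc, Iso.hom_inv_id, Spec.map_id,
      Category.id_comp]
  let e : π.fiber c ⟶ f.fiber y := pullback.lift (π.fiberι c ≫ p) (π.fiberToSpecResidueField c ≫ Spec.map r) (by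
    rw [Category.assoc, Category.assoc, hr, pullback.condition]
    exact ((π.fiber_fac c) =≫ g).trans (Category.assoc _ _ _))
  have he : e ≫ f.fiberι y = π.fiberι c ≫ p := pullback.lift_fst _ _ _
  haveI : IsIso e := by
    have big := (IsPullback.of_hasPullback π ((Spec (CommRingCat.of A)).fromSpecResidueField c)).paste_horiz
      (IsPullback.of_hasPullback f g)
    have sq : IsPullback (f.fiberι y) (f.fiberToSpecResidueField y ≫ inv (Spec.map r)) f
        ((Spec (CommRingCat.of A)).fromSpecResidueField c ≫ g) := by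
      refine IsPullback.of_iso (IsPullback.of_hasPullback f (Y.fromSpecResidueField y)) (Iso.refl _) (Iso.refl _)
        (asIso (Spec.map r)).symm (Iso.refl _) ?_ ?_ ?_ ?_
      · exact (Category.comp_id _).trans (Category.id_comp _).symm
      · exact (Category.id_comp _).symm
      · exact (Category.comp_id _).trans (Category.id_comp _).symm
      · simp only [Iso.refl_hom, Category.comp_id, Iso.symm_hom, asIso_inv, ← hr, IsIso.inv_hom_id_assoc]
    have : e = (big.isoIsPullback _ _ sq).hom := by
      refine sq.hom_ext ?_ ?_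
      · rw [IsPullback.isoIsPullback_hom_fst]; exact he
      · refine Eq.trans ?_ (IsPullback.isoIsPullback_hom_snd _ _ big sq).symm
        rw [← Category.assoc,
          show e ≫ f.fiberToSpecResidueField y = π.fiberToSpecResidueField c ≫ Spec.map r from pullback.lift_snd _ _ _,
          Category.assoc, IsIso.hom_inv_id, Category.comp_id]
        rfl
    rw [this]
    infer_instance
  let FA := (Scheme.Modules.pullback p).obj F
  let GA := (Scheme.Modules.pullback p).obj G
  have hFA : FlatMod.IsFinLocFree FA := DerPerf.isFinLocFree_pullback p hF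
  have hGA : FlatMod.IsFinLocFree GA := DerPerf.isFinLocFree_pullback p hG
  let κ := Scheme.Modules.pullbackComp (π.fiberι c) p ≪≫ Scheme.Modules.pullbackCongr he.symm ≪≫
    (Scheme.Modules.pullbackComp e (f.fiberι y)).symm
  let Fc := CohIII.fiberMod π FA c
  let Gc := CohIII.fiberMod π GA c
  let P := CohIII.fiberMod f F y
  let eF : Fc ≅ (Scheme.Modules.pullback e).obj P := κ.app F
  let eG : Gc ≅ (Scheme.Modules.pullback e).obj (CohIII.fiberMod f G y) := κ.app G
  obtain ⟨u₀⟩ := hy
  let i₀ : Fc ≅ Gc := eF ≪≫ (Scheme.Modules.pullback e).mapIso u₀ ≪≫ eG.symm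
  have hP : Subsingleton (Coh.HH (f.fiber y) (RefHull.homSh P P) 1) :=
    subsingleton_HH_iso ((W7Hull.sheafHomIso P).app P).symm 1 h1
  haveI : IsLocallyNoetherian (π.fiber c) := 
    haveI : LocallyOfFiniteType (π.fiberToSpecResidueField c) :=
      MorphismProperty.pullback_snd (P := @LocallyOfFiniteType) π _ inferInstance
    LocallyOfFiniteType.isLocallyNoetherian (π.fiberToSpecResidueField c)
  have hQ : FlatMod.IsFinLocFree ((Scheme.Modules.pullback e).obj P) :=
    DerPerf.isFinLocFree_pullback e (DerPerf.isFinLocFree_pullback (f.fiberι y) hF)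
  have h2 := exists_pullback_iso_hom e P hP (LocFree.isQCoh_of_isFinLocFree (W7Hull.isFinLocFree_homSh hQ hQ))
  haveI : DCoh.HasSheafHom Fc := W7Hull.hasSheafHom_sch Fc
  let k : RefHull.homSh Fc ((Scheme.Modules.pullback e).obj P) ≅
      RefHull.homSh ((Scheme.Modules.pullback e).obj P) ((Scheme.Modules.pullback e).obj P) :=
    ⟨RefFun.homComap eF.inv _, RefFun.homComap eF.hom _,
      by rw [← RefFun.homComap_comp, eF.hom_inv_id, RefFun.homComap_id],
      by rw [← RefFun.homComap_comp, eF.inv_hom_id, RefFun.homComap_id]⟩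
  have h3 : Subsingleton (Coh.HH (π.fiber c) ((DCoh.sheafHom Fc).obj Gc) 1) :=
    subsingleton_HH_iso ((DCoh.sheafHom Fc).mapIso i₀.symm ≪≫ (W7Hull.sheafHomIso Fc).app Fc ≪≫
      (RefFun.homFunctor Fc).mapIso eF ≪≫ k) 1 h2
  obtain ⟨⟨u, hu⟩, hu'⟩ := Groth.Agent.S4476.result A XA FA GA hFA hGA h3 i₀.hom
  haveI : Mono u := (hu' u hu).1 inferInstance
  haveI : Epi u := (hu' u hu).2 inferInstance
  haveI : IsIso u := isIso_of_mono_of_epi u
  exact W7Hull.exists_iso_nhd_of_stalk_iso f y F G (LocFree.isQCoh_of_isFinLocFree hF) (LocFree.isFP_of_isFinLocFree hF)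
    (LocFree.isQCoh_of_isFinLocFree hG) (LocFree.isFP_of_isFinLocFree hG) (asIso u)

end Groth.Agent.S4477
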