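import Groth.Statements.S4480
import Groth.Agent.SteinGen.GeomConn
import Groth.Agent.SteinGen.Basic
import Groth.Agent.S1297

set_option autoImplicit false
universe u
open Coherent

set_option backward.isDefEq.respectTransparency false
set_option linter.style.haveILetI false
set_option maxHeartbeats 1600000
namespace Groth.Agent.S4480

open AlgebraicGeometry CategoryTheory in
/-- Let X and Y be locally Noetherian integral schemes and f : X → Y a proper dominant morphism such
that the function field R(Y) is algebraically closed in R(X) (every element of R(X) satisfying a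
nonzero polynomial over R(Y) comes from R(Y)). Let y be a point of Y whose local ring is integrally
closed (a normal point). Then the fibre X_y is geometrically connected over the residue field of y
(its base change to every field extension of that residue field is connected and nonempty; in
particular X_y is connected and nonempty), and there is an open neighbourhood U of y such that
O_Y(V) → O_X(f⁻¹V) is an isomorphism for every open V ⊆ U. -/
theorem result {X Y : Scheme.{u}}
    [IsIntegral X] [IsIntegral Y] [IsLocallyNoetherian X] [IsLocallyNoetherian Y] (f : X ⟶ Y) [IsProper f]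
    (hdom : f.base (genericPoint X) ⤳ genericPoint Y)
    (halg : ∀ x : X.functionField,
      (∃ q : Polynomial Y.functionField, q ≠ 0 ∧
        Polynomial.eval₂ (CohIII.stalkToFunctionField f (genericPoint Y) hdom) x q = 0) →
      x ∈ Set.range (CohIII.stalkToFunctionField f (genericPoint Y) hdom))
    (y : Y) (hy : IsIntegrallyClosed (Y.presheaf.stalk y)) :
    GeometricallyConnected (f.fiberToSpecResidueField y) ∧
      ∃ U : Y.Opens, y ∈ U ∧ ∀ V : Y.Opens, V ≤ U → IsIso (f.app V) := by
  classical
  obtain ⟨W, hW, hyW, -⟩ := exists_isAffineOpen_mem_and_subset (x := y) (U := (⊤ : Y.Opens)) trivial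
  haveI : Nonempty W := ⟨⟨y, hyW⟩⟩
  haveI := functionField_isFractionRing_of_isAffineOpen Y W hW
  have hηW : genericPoint Y ∈ W := ((genericPoint_spec Y).specializes (Set.mem_univ y)).mem_open W.2 hyW
  have hξW : genericPoint X ∈ f ⁻¹ᵁ W := hdom.mem_open W.2 hηW
  let σ := CohIII.stalkToFunctionField f (genericPoint Y) hdom
  let ρ : Γ(X, f ⁻¹ᵁ W) →+* X.functionField := (X.presheaf.germ (f ⁻¹ᵁ W) (genericPoint X) hξW).hom
  have hρ : Function.Injective ρ := germ_injective_of_isIntegral X _ hξW
  have hcomp : σ.comp (algebraMap Γ(Y, W) Y.functionField) = ρ.comp (f.app W).hom := by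
    have e : (Y.presheaf.germ W (genericPoint Y) hηW ≫ Y.presheaf.stalkSpecializes hdom) ≫
        f.stalkMap (genericPoint X) = f.app W ≫ X.presheaf.germ (f ⁻¹ᵁ W) (genericPoint X) hξW := by
      rw [TopCat.Presheaf.germ_stalkSpecializes]
      exact Scheme.Hom.germ_stalkMap f W (genericPoint X) hξW
    exact congrArg CommRingCat.Hom.hom e
  have hinj : Function.Injective (f.app W).hom := by
    have h1 : Function.Injective (ρ.comp (f.app W).hom) := by
      rw [← hcomp, RingHom.coe_comp]
      exact σ.injective.comp (IsFractionRing.injective Γ(Y, W) Y.functionField)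
    exact fun a b h => h1 (congrArg ρ h)
  letI := TopCat.Presheaf.algebra_section_stalk Y.presheaf (⟨y, hyW⟩ : W)
  haveI := hW.isLocalization_stalk ⟨y, hyW⟩
  have hstalk : ∀ a : Γ(Y, W), algebraMap (Y.presheaf.stalk y) Y.functionField (algebraMap Γ(Y, W) (Y.presheaf.stalk y) a) =
      algebraMap Γ(Y, W) Y.functionField a := fun a => by
    show (Y.presheaf.stalkSpecializes _).hom ((Y.presheaf.germ W y hyW).hom a) = _
    exact ConcreteCategory.congr_hom (TopCat.Presheaf.germ_stalkSpecializes (F := Y.presheaf) hyW _) a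
  have hint := Groth.Agent.SteinGen.isIntegral_app f hW
  haveI : IsIntegrallyClosed (Y.presheaf.stalk y) := hy
  have key : ∀ r : Γ(X, f ⁻¹ᵁ W), ∃ s : Γ(Y, W), s ∉ (hW.primeIdealOf ⟨y, hyW⟩).asIdeal ∧
      ∃ a, f.app W a = f.app W s * r := by
    intro r
    obtain ⟨P, hP, hPr⟩ := hint r
    have h0 : Polynomial.eval₂ (σ.comp (algebraMap Γ(Y, W) Y.functionField)) (ρ r) P = 0 := by
      rw [hcomp, ← Polynomial.hom_eval₂, hPr, map_zero]
    obtain ⟨z, hz⟩ := halg (ρ r) ⟨P.map (algebraMap Γ(Y, W) Y.functionField), (hP.map _).ne_zero, by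
      rw [Polynomial.eval₂_map]
      exact h0⟩
    have hz0 : Polynomial.eval₂ (algebraMap Γ(Y, W) Y.functionField) z P = 0 := σ.injective (by
      rw [Polynomial.hom_eval₂, map_zero, show σ z = ρ r from hz, h0])
    obtain ⟨c, hc⟩ := IsIntegrallyClosed.isIntegral_iff.mp (show _root_.IsIntegral (Y.presheaf.stalk y) z from
      ⟨P.map (algebraMap Γ(Y, W) (Y.presheaf.stalk y)), hP.map _, by
        rw [Polynomial.eval₂_map]
        rw [show (algebraMap (Y.presheaf.stalk y) Y.functionField).comp (algebraMap Γ(Y, W) (Y.presheaf.stalk y)) = algebraMap Γ(Y, W) Y.functionField from RingHom.ext hstalk]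
        exact hz0⟩)
    obtain ⟨⟨a, s⟩, has⟩ := IsLocalization.surj (hW.primeIdealOf ⟨y, hyW⟩).asIdeal.primeCompl c
    refine ⟨s.1, s.2, a, hρ ?_⟩
    have e1 : algebraMap Γ(Y, W) Y.functionField a = z * algebraMap Γ(Y, W) Y.functionField s.1 := by
      rw [← hstalk, ← hstalk s.1, ← hc, ← map_mul]
      exact congrArg _ has.symm
    have e2 := congrArg σ e1
    rw [map_mul, show σ z = ρ r from hz] at e2
    rw [map_mul, mul_comm]
    refine ((RingHom.congr_fun hcomp a).symm.trans (e2.trans ?_))
    exact congrArg (fun t => ρ r * t) (RingHom.congr_fun hcomp s.1)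
  have hfin : (f.app W).hom.Finite := by
    haveI : IsFinite f.fromNormalization := Groth.Agent.S1297.result f
    haveI := Groth.Agent.SteinGen.isIso_toNormalization_app f (f.fromNormalization ⁻¹ᵁ W)
    have h : ((f.toNormalization ≫ f.fromNormalization).app W).hom.Finite := by
      rw [Scheme.Hom.comp_app]
      exact (RingHom.Finite.of_surjective _ (ConcreteCategory.bijective_of_isIso (f.toNormalization.app (f.fromNormalization ⁻¹ᵁ W))).2).comp
        (IsFinite.finite_app (f := f.fromNormalization) W hW)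
    have e : ∀ (g : X ⟶ Y), g = f → (g.app W).hom.Finite → (f.app W).hom.Finite := fun g hg hh => by subst hg; exact hh
    exact e _ f.toNormalization_fromNormalization h
  letI := (f.app W).hom.toAlgebra
  obtain ⟨T, hT⟩ := (RingHom.finite_algebraMap.1 hfin).fg_top
  choose s hs a ha using key
  let t : Γ(Y, W) := ∏ r ∈ T, s r
  have ht : t ∉ (hW.primeIdealOf ⟨y, hyW⟩).asIdeal := fun h => by
    obtain ⟨r, -, hr⟩ := Ideal.IsPrime.prod_mem_iff.1 h
    exact hs r hr
  have hmul : ∀ r : Γ(X, f ⁻¹ᵁ W), ∃ b, f.app W b = f.app W t * r := by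
    intro r
    have hr : r ∈ Submodule.span Γ(Y, W) (T : Set Γ(X, f ⁻¹ᵁ W)) := by rw [hT]; trivial
    induction hr using Submodule.span_induction with
    | mem r hr =>
      exact ⟨(∏ i ∈ T.erase r, s i) * a r, by
        rw [map_mul, ha, ← mul_assoc, ← map_mul, Finset.prod_erase_mul _ _ hr]⟩
    | zero => exact ⟨0, by rw [map_zero, mul_zero]⟩
    | add r r' _ _ h h' =>
      obtain ⟨b, hb⟩ := h
      obtain ⟨b', hb'⟩ := h'
      exact ⟨b + b', by rw [map_add, hb, hb', mul_add]⟩
    | smul c r _ h =>
      obtain ⟨b, hb⟩ := h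
      exact ⟨c * b, by rw [map_mul, hb, Algebra.smul_def, RingHom.algebraMap_toAlgebra]; ring⟩
  let D := Y.basicOpen t
  have hyD : y ∈ D := by
    refine (Scheme.mem_basicOpen _ _ y hyW).2 ?_
    exact (IsLocalization.AtPrime.isUnit_to_map_iff (Y.presheaf.stalk y) (hW.primeIdealOf ⟨y, hyW⟩).asIdeal t).2 ht
  have hD : IsAffineOpen D := hW.basicOpen t
  haveI : Nonempty D := ⟨⟨y, hyD⟩⟩
  have hbij : Function.Bijective (f.app D) := by
    have hnat : ∀ b, f.app D (Y.presheaf.map (homOfLE (Y.basicOpen_le t)).op b) =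
        X.presheaf.map (homOfLE (f.preimage_mono (Y.basicOpen_le t))).op (f.app W b) := fun b =>
      ConcreteCategory.congr_hom (f.naturality (homOfLE (Y.basicOpen_le t)).op) b
    letI : Algebra Γ(Y, W) Γ(Y, D) := (Y.presheaf.map (homOfLE (Y.basicOpen_le t)).op).hom.toAlgebra
    letI : Algebra Γ(X, f ⁻¹ᵁ W) Γ(X, f ⁻¹ᵁ D) :=
      (X.presheaf.map (homOfLE (f.preimage_mono (Y.basicOpen_le t))).op).hom.toAlgebra
    haveI : IsLocalization.Away t Γ(Y, D) := hW.isLocalization_basicOpen t
    haveI : IsLocalization.Away (f.app W t) Γ(X, f ⁻¹ᵁ D) := by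
      have key : ∀ (V : X.Opens), V = X.basicOpen (f.app W t) → ∀ (e : V ≤ f ⁻¹ᵁ W),
          letI := (X.presheaf.map (homOfLE e).op).hom.toAlgebra
          IsLocalization.Away (f.app W t) Γ(X, V) := by
        rintro _ rfl e
        exact isLocalization_basicOpen_of_qcqs (f.isCompact_preimage hW.isCompact)
          (f.isQuasiSeparated_preimage hW.isQuasiSeparated) (f.app W t)
      exact key _ (f.preimage_basicOpen t) _
    have hut : IsUnit (algebraMap Γ(Y, W) Γ(Y, D) t) := IsLocalization.Away.algebraMap_isUnit t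
    refine ⟨?_, ?_⟩
    · refine (injective_iff_map_eq_zero (f.app D).hom).2 fun x hx => ?_
      obtain ⟨n, b, hb⟩ := IsLocalization.Away.surj t x
      have hn : f.app D (x * algebraMap Γ(Y, W) Γ(Y, D) t ^ n) = 0 := by rw [map_mul, hx, zero_mul]
      rw [hb] at hn
      have hn' : algebraMap Γ(X, f ⁻¹ᵁ W) Γ(X, f ⁻¹ᵁ D) (f.app W b) = 0 := (hnat b).symm.trans hn
      obtain ⟨⟨_, m, rfl⟩, hm⟩ := (IsLocalization.map_eq_zero_iff (Submonoid.powers (f.app W t)) _ _).1 hn'
      have hb0 : t ^ m * b = 0 := hinj (by rw [map_mul, map_pow, map_zero]; exact hm)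
      have : algebraMap Γ(Y, W) Γ(Y, D) b = 0 := by
        refine (hut.pow m).mul_right_eq_zero.1 ?_
        rw [← map_pow, ← map_mul, hb0, map_zero]
      rw [this] at hb
      exact (hut.pow n).mul_left_eq_zero.1 hb
    · intro x
      obtain ⟨n, r, hr⟩ := IsLocalization.Away.surj (f.app W t) x
      obtain ⟨b, hb⟩ := hmul r
      obtain ⟨u, hu⟩ := hut.pow (n + 1)
      refine ⟨algebraMap Γ(Y, W) Γ(Y, D) b * ↑u⁻¹, ?_⟩
      have hu' : IsUnit (f.app D (u : Γ(Y, D))) := u.isUnit.map (f.app D).hom
      refine hu'.mul_left_injective ?_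
      show _ * _ = _ * _
      rw [← map_mul, mul_assoc, Units.inv_mul, mul_one, hu, map_pow]
      refine (hnat b).trans ?_
      rw [hb, map_mul]
      rw [show (f.app D) ((algebraMap Γ(Y, W) Γ(Y, D)) t) = algebraMap Γ(X, f ⁻¹ᵁ W) Γ(X, f ⁻¹ᵁ D) (f.app W t) from hnat t,
        pow_succ, ← mul_assoc, hr, mul_comm]
      rfl
  haveI : IsProper (f ∣_ D) := IsZariskiLocalAtTarget.restrict (P := @IsProper) ‹_› D
  have hall : ∀ U : D.toScheme.Opens, IsIso ((f ∣_ D).app U) := by
    refine Groth.Agent.SteinGen.isIso_app_of_affine_cover (f ∣_ D) (fun _ : Unit => ⊤) (fun _ => ?_)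
      (fun _ => ⟨(), trivial⟩) (fun _ => ?_)
    · haveI : IsAffine D.toScheme := hD
      exact isAffineOpen_top _
    · rw [morphismRestrict_app]
      have hk : ∀ V : Y.Opens, V = D → Function.Bijective (f.app V) := fun V hV => by subst hV; exact hbij
      haveI : IsIso (f.app (D.ι ''ᵁ ⊤)) := (ConcreteCategory.isIso_iff_bijective _).2 (hk _ D.ι_image_top)
      exact ConcreteCategory.bijective_of_isIso _
  refine ⟨?_, D, hyD, fun V hV => ?_⟩
  · haveI := Groth.Agent.SteinGen.geometricallyConnected_of_isIso_app (f ∣_ D) hall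
    have hr : Set.range (Y.fromSpecResidueField y) ⊆ Set.range D.ι := by
      rw [Scheme.range_fromSpecResidueField, Scheme.Opens.range_ι]
      exact Set.singleton_subset_iff.2 hyD
    have hr' : Set.range (f.fiberι y) ⊆ Set.range (f ⁻¹ᵁ D).ι := by
      rw [f.range_fiberι, Scheme.Opens.range_ι]
      intro x hx
      show f x ∈ D
      rw [show f x = y from hx]
      exact hyD
    have hsq : IsPullback (IsOpenImmersion.lift (f ⁻¹ᵁ D).ι (f.fiberι y) hr') (f.fiberToSpecResidueField y)
        (f ∣_ D) (IsOpenImmersion.lift D.ι (Y.fromSpecResidueField y) hr) := by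
      refine IsPullback.of_right ?_ ?_ (isPullback_morphismRestrict f D).flip
      · rw [IsOpenImmersion.lift_fac, IsOpenImmersion.lift_fac]
        exact IsPullback.of_hasPullback _ _
      · rw [← cancel_mono D.ι]
        simp only [Category.assoc, morphismRestrict_ι, IsOpenImmersion.lift_fac, IsOpenImmersion.lift_fac_assoc]
        exact Limits.pullback.condition
    exact MorphismProperty.of_isPullback hsq inferInstance
  · have h1 := hall (D.ι ⁻¹ᵁ V)
    rw [morphismRestrict_app] at h1
    haveI := h1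
    have h2 : IsIso (f.app (D.ι ''ᵁ (D.ι ⁻¹ᵁ V))) := (isIso_comp_right_iff _ _).1 h1
    have e : D.ι ''ᵁ (D.ι ⁻¹ᵁ V) = V := by
      rw [Scheme.Hom.image_preimage_eq_opensRange_inf, Scheme.Opens.opensRange_ι, inf_eq_right.2 hV]
    have hk : ∀ W' : Y.Opens, W' = V → IsIso (f.app W') → IsIso (f.app V) := fun W' hW' h => by subst hW'; exact h
    exact hk _ e h2

end Groth.Agent.S4480
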