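import Groth.Statements.S4483
import Groth.Agent.PBundle.Local
import Groth.Agent.TwistOverVan.Basic
import Groth.Agent.StratCoh.Main
import Groth.Agent.S2122

set_option autoImplicit false
set_option backward.isDefEq.respectTransparency false
set_option backward.isDefEq.respectTransparency.types false
universe u
open Coherent

namespace Groth.Agent.S4483

open CategoryTheory CategoryTheory.Limits AlgebraicGeometry

theorem qc_qs {Y P : Scheme.{u}} (π : P ⟶ Y) (r : ℕ) (E : Y.Modules) (hE : FlatMod.IsFinLocFreeOfRank (r + 1) E)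
    (O1 : P.Modules) (q : (Scheme.Modules.pullback π).obj E ⟶ O1) (hP : KRR.IsProjBundle π E O1 q) :
    QuasiCompact π ∧ QuasiSeparated π := by
  choose V hV hyV φ hφ _h using fun y => PBundle.exists_local hP hE y
  have hcov : ⨆ y, V y = ⊤ := top_le_iff.mp fun y _ => TopologicalSpace.Opens.mem_iSup.mpr ⟨y, hyV y⟩
  have hp : ∀ y, IsProper (π ∣_ V y) := fun y => by
    haveI := HQProj.isProper_toBase r (V y).toScheme
    rw [show π ∣_ V y = (φ y).inv ≫ CohB1.ProjSpaceOver.toBase r (V y).toScheme by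
      rw [← hφ y, Iso.inv_hom_id_assoc]]
    infer_instance
  exact ⟨(IsZariskiLocalAtTarget.iff_of_iSup_eq_top (P := @QuasiCompact) V hcov).2 fun y => by
      haveI := hp y; infer_instance,
    (IsZariskiLocalAtTarget.iff_of_iSup_eq_top (P := @QuasiSeparated) V hcov).2 fun y => by
      haveI := hp y; infer_instance⟩

theorem vanish {Y P : Scheme.{u}} (π : P ⟶ Y) (r : ℕ) (E : Y.Modules) (hE : FlatMod.IsFinLocFreeOfRank (r + 1) E)
    (O1 : P.Modules) (q : (Scheme.Modules.pullback π).obj E ⟶ O1) (hP : KRR.IsProjBundle π E O1 q)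
    (M : P.Modules) (hM : PicF.IsInvertible M) (d : ℤ) (i : ℕ)
    (hloc : ∀ (T : Scheme.{u}) (j : CohB1.ProjSpaceOver r T ⟶ P),
      Nonempty ((Scheme.Modules.pullback j).obj O1 ≅ Twist.twistOver r T 1) →
      Nonempty ((Scheme.Modules.pullback j).obj M ≅ Twist.twistOver r T d))
    (h₀ : ¬ (i = 0 ∧ 0 ≤ d)) (hn : ¬ (i = r ∧ d ≤ -((r : ℤ) + 1))) :
    IsZero ((Coh.RpushAb π i).obj (Coh.toAb M)) := by
  obtain ⟨_, _⟩ := qc_qs π r E hE O1 q hP
  refine W7Hull.isZero_rpushAb_of_cover π M (TMul.isQCoh_of_isInvertible hM) i fun y => ?_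
  obtain ⟨V, hV, hyV, φ, hφ, hO⟩ := PBundle.exists_local hP hE y
  refine ⟨V, hV, hyV, ?_⟩
  haveI : IsAffine V.toScheme := hV
  obtain ⟨k⟩ := hloc _ _ hO
  have hs : Subsingleton (Coh.HH (CohB1.ProjSpaceOver r V.toScheme) (Twist.twistOver r V.toScheme d) i) :=
    StratCoh.hh_of_hu (TwistOverVan.subsingleton_hu_twistOver r V.toScheme (isAffineOpen_top _) i d h₀ hn)
  have h2 := TwistOverVan.subsingleton_hh_pullback_iso φ.inv _ (TwistOverVan.isQCoh_twistOver r _ d) i hs
  have h3 : Subsingleton (Coh.HH (π ⁻¹ᵁ V) (M.restrict (π ⁻¹ᵁ V).ι) i) :=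
    CohQC.hh_subsingleton_of_iso ((Scheme.Modules.pullback φ.inv).mapIso k.symm ≪≫
      (Scheme.Modules.pullbackComp φ.inv (φ.hom ≫ (π ⁻¹ᵁ V).ι)).app M ≪≫
      (Scheme.Modules.pullbackCongr (φ.inv_hom_id_assoc _)).app M ≪≫
      ((Scheme.Modules.restrictFunctorIsoPullback (π ⁻¹ᵁ V).ι).app M).symm) i h2
  obtain ⟨c⟩ := CohQC.hu_restrict M (π ⁻¹ᵁ V) i
  exact c.toEquiv.subsingleton

end Groth.Agent.S4483

namespace Groth.Agent.S4483

open AlgebraicGeometry CategoryTheory in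
/-- Let Y be a scheme, E a locally free O_Y-module of rank r+1, and (π : P → Y, O(1), q : π^*E → O(1)) a
projective bundle P(E) of E, characterised by its universal property; let L be an O_P-module with L
⊗ O(1) ≅ O_P, playing the role of O(-1). Then the higher direct images R^i π_* O(n) vanish except
possibly for i = 0, n ≥ 0 and for i = r, n ≤ -(r+1): precisely, R^i π_*(O(1)^{⊗ n}) = 0 for all n ≥
0 and i ≠ 0, and R^i π_*(L^{⊗ m}) = 0 for all m ≥ 1 and all i unless i = r and m ≥ r + 1 (higher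
direct images of the underlying abelian sheaves). -/
theorem result {Y P : Scheme.{u}} (π : P ⟶ Y) (r : ℕ)
    (E : Y.Modules) (hE : FlatMod.IsFinLocFreeOfRank (r + 1) E) (O1 : P.Modules)
    (q : (Scheme.Modules.pullback π).obj E ⟶ O1) (hP : KRR.IsProjBundle π E O1 q)
    (L : P.Modules) (hL : ClSub.IsInverseOf L O1) :
    (∀ (n i : ℕ), i ≠ 0 → Limits.IsZero ((Coh.RpushAb π i).obj (Coh.toAb (CohB1.tensorPow O1 n)))) ∧
    (∀ (m i : ℕ), 1 ≤ m → ¬ (i = r ∧ r + 1 ≤ m) →
      Limits.IsZero ((Coh.RpushAb π i).obj (Coh.toAb (CohB1.tensorPow L m)))) := by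
  have hO : PicF.IsInvertible O1 := PBundle.isInvertible hP
  refine ⟨fun n i hi => ?_, fun m i hm hmi => ?_⟩
  · refine vanish π r E hE O1 q hP _ (TMul.isInvertible_tensorPow hO n) n i (fun T j ⟨e⟩ => ?_)
      (fun h => hi h.1) (fun h => by omega)
    obtain ⟨a⟩ := TMul.nonempty_pullPowIso j O1 n
    obtain ⟨b⟩ := PBundle.nonempty_powIso e n
    obtain ⟨c⟩ := W7Hull.nonempty_twistOver_pow r T n
    exact ⟨a.symm ≪≫ b ≪≫ c.symm⟩
  · have hLi : PicF.IsInvertible L := InvTensor.isInvertible L O1 hL.some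
    refine vanish π r E hE O1 q hP _ (TMul.isInvertible_tensorPow hLi m) (-(m : ℤ)) i (fun T j ⟨e⟩ => ?_)
      (fun h => by omega) (fun h => hmi ⟨h.1, by omega⟩)
    obtain ⟨t⟩ := hL
    obtain ⟨k⟩ := TMul.nonempty_pullTensorIso j L O1
    obtain ⟨e'⟩ := PBundle.nonempty_iso_of_isInverse (L := (Scheme.Modules.pullback j).obj L)
      ⟨PicGrp.tensorModIso (CategoryTheory.Iso.refl _) e.symm ≪≫ k ≪≫ (Scheme.Modules.pullback j).mapIso t ≪≫
        PicLoc.pullbackStructureIso j⟩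
      (PBundle.isInverseOf_twistOver r T 1)
    obtain ⟨a⟩ := TMul.nonempty_pullPowIso j L m
    obtain ⟨b⟩ := PBundle.nonempty_powIso e' m
    obtain ⟨c⟩ := PBundle.nonempty_twistOver_neg_pow r T m
    exact ⟨a.symm ≪≫ b ≪≫ c⟩

end Groth.Agent.S4483
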