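import Groth.Statements.S4486
import Mathlib
import Groth.Agent.FlatCx.Dvr

open CategoryTheory CategoryTheory.Limits TensorProduct
open Groth.Agent.FlatCx

set_option linter.style.haveILetI false
set_option backward.isDefEq.respectTransparency false

set_option autoImplicit false
universe u
open FlatCx

namespace Groth.Agent.S4486

open CategoryTheory CategoryTheory.Limits in
/-- For the homological functor T_p(M) = H_p(P ⊗_A M) of a chain complex P of flat modules over a
commutative ring A, which commutes with filtered colimits. Let A be a domain and suppose P_i = 0 for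
i < i₀ and that every T_n(A) is a finitely presented A-module. Then for every integer N there is a
nonzero f ∈ A such that, for every p ≤ N, the functor of A_f-modules N ↦ H_p(P_f ⊗_{A_f} N), where
P_f = P ⊗_A A_f, takes injections to injections and surjections to surjections. -/
theorem result {A : Type u} [CommRing A] [IsDomain A]
    (P : ChainComplex (ModuleCat.{u} A) ℤ) (hP : ∀ i, Module.Flat A (P.X i)) (i₀ : ℤ)
    (hb : ∀ i < i₀, IsZero (P.X i))
    (hfp : ∀ n : ℤ, Module.FinitePresentation A (CohIII.T P n (ModuleCat.of A A))) (N : ℤ) :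
    ∃ f : A, f ≠ 0 ∧ ∀ p ≤ N,
      (CohIII.TFun (CohIII.bcCx (algebraMap A (Localization.Away f)) P) p).PreservesMonomorphisms ∧
        (CohIII.TFun (CohIII.bcCx (algebraMap A (Localization.Away f)) P) p).PreservesEpimorphisms := by
  classical
  have key : ∀ n : ℤ, ∃ f : A, f ≠ 0 ∧ ∀ g : A, f ∣ g →
      Module.Flat (Localization.Away g) (Localization.Away g ⊗[A] Hm P n) := by
    intro n
    haveI := hfp n
    haveI : Module.FinitePresentation A (Hm P n) :=
      Module.FinitePresentation.of_equiv (HmEquivT P hP n).symm
    obtain ⟨r, hr, hfree⟩ := Module.FinitePresentation.exists_free_localizedModule_powers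
      (nonZeroDivisors A) (TensorProduct.mk A (FractionRing A) (Hm P n) 1) (FractionRing A)
    refine ⟨r, nonZeroDivisors.ne_zero hr, fun g hg => ?_⟩
    haveI : Module.Free (Localization.Away r) (Localization.Away r ⊗[A] Hm P n) :=
      Module.Free.of_equiv' hfree.1 (LocalizedModule.equivTensorProduct (Submonoid.powers r) (Hm P n))
    obtain ⟨s, rfl⟩ := hg
    letI := (IsLocalization.Away.lift (S := Localization.Away r) r
      (g := algebraMap A (Localization.Away (r * s))) (isUnit_of_dvd_unit
        ((map_dvd _) (dvd_mul_right r s)) (IsLocalization.Away.algebraMap_isUnit (r * s)))).toAlgebra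
    haveI : IsScalarTower A (Localization.Away r) (Localization.Away (r * s)) :=
      IsScalarTower.of_algebraMap_eq fun x => (IsLocalization.Away.lift_eq r _ x).symm
    exact Module.Flat.of_linearEquiv (AlgebraTensorModule.cancelBaseChange A (Localization.Away r)
      (Localization.Away (r * s)) (Localization.Away (r * s)) (Hm P n)).symm
  choose f hf0 hf using key
  let F := ∏ n ∈ Finset.Icc i₀ N, f n
  refine ⟨F, Finset.prod_ne_zero_iff.mpr fun n _ => hf0 n, ?_⟩
  let B := Localization.Away F
  let Q := CohIII.bcCx (algebraMap A B) P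
  haveI hQ : ∀ m, Module.Flat B (Q.X m) := fun m => flat_X_bc B P hP m
  have hQz : ∀ i < i₀, IsZero (Q.X i) := fun i hi => by
    haveI := ModuleCat.subsingleton_of_isZero (hb i hi)
    exact (ModuleCat.extendScalars.{u, u, u} (algebraMap A B)).map_isZero (hb i hi)
  refine (exact_upTo_iff Q hQ i₀ hQz N).mpr fun n hn => ?_
  obtain ⟨e⟩ := homology_flatBC B P n
  refine @Module.Flat.of_linearEquiv _ _ _ _ _ _ _ _ ?_
    ((HmEquivT Q hQ n).symm.trans ((homologyHmEquiv Q n).symm.trans e))
  by_cases hni : n < i₀
  · haveI := ModuleCat.subsingleton_of_isZero (hb n hni)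
    haveI : Subsingleton (Hm P n) := inferInstance
    infer_instance
  · exact hf n F (Finset.dvd_prod_of_mem f (Finset.mem_Icc.mpr ⟨by omega, hn⟩))

end Groth.Agent.S4486
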