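import Groth.Statements.S4487
import Mathlib
import Groth.Agent.FlatCx.Length
import Groth.Agent.FlatCx.ExactLocus
import Groth.Agent.FlatCx.Dvr
import Groth.Agent.S4486

set_option linter.style.haveILetI false

set_option autoImplicit false
universe u
open FlatCx

namespace Groth.Agent.S4487

section Pre
open CategoryTheory CategoryTheory.Limits Groth.Agent.FlatCx
open scoped TensorProduct
variable {A : Type u} [CommRing A]

/-- Extending scalars twice. -/
noncomputable def bcBc {B C : Type u} [CommRing B] [CommRing C] (φ : A →+* B) (ψ : B →+* C)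
    (P : ChainComplex (ModuleCat.{u} A) ℤ) :
    CohIII.bcCx (ψ.comp φ) P ≅ CohIII.bcCx ψ (CohIII.bcCx φ P) :=
  (NatIso.mapHomologicalComplex (ModuleCat.extendScalarsComp φ ψ) _).app P

theorem finrank_bc_field {k k' : Type u} [Field k] [Field k'] (σ : k →+* k')
    (Q : ChainComplex (ModuleCat.{u} k) ℤ) (p : ℤ) :
    Module.finrank k' ((CohIII.bcCx σ Q).homology p) = Module.finrank k (Q.homology p) := by
  letI := σ.toAlgebra
  obtain ⟨e⟩ := homology_flatBC k' Q p
  exact e.finrank_eq.trans (Module.finrank_baseChange.trans (homologyHmEquiv Q p).finrank_eq.symm)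

theorem dRank_comap {B : Type u} [CommRing B] (φ : A →+* B) (P : ChainComplex (ModuleCat.{u} A) ℤ) (p : ℤ)
    (y : PrimeSpectrum B) (x : PrimeSpectrum A) (hx : x.asIdeal = y.asIdeal.comap φ) :
    CohIII.dRank (CohIII.bcCx φ P) p y = CohIII.dRank P p x := by
  let κ := algebraMap A x.asIdeal.ResidueField
  let κ' := algebraMap B y.asIdeal.ResidueField
  let σ := Ideal.ResidueField.map x.asIdeal y.asIdeal φ hx
  have hσ : σ.comp κ = κ'.comp φ := RingHom.ext fun a => Ideal.ResidueField.map_algebraMap _ _ φ hx a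
  let e : CohIII.bcCx κ' (CohIII.bcCx φ P) ≅ CohIII.bcCx σ (CohIII.bcCx κ P) :=
    (bcBc φ κ' P).symm ≪≫ eqToIso (by rw [hσ]) ≪≫ bcBc κ σ P
  have := ((HomologicalComplex.homologyFunctor _ _ p).mapIso e).toLinearEquiv.finrank_eq
  exact this.trans (finrank_bc_field σ (CohIII.bcCx κ P) p)

variable [IsNoetherianRing A]

theorem finite_T_of_finite (P : ChainComplex (ModuleCat.{u} A) ℤ) (hP : ∀ i, Module.Flat A (P.X i)) (i₀ : ℤ)
    (hb : ∀ i < i₀, IsZero (P.X i)) (hfg : ∀ n : ℤ, Module.Finite A (CohIII.T P n (ModuleCat.of A A))) :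
    ∀ (d : ℕ) (M : ModuleCat.{u} A) [Module.Finite A M], ∀ n : ℤ, n < i₀ + d →
      Module.Finite A (CohIII.T P n M) := by
  intro d
  induction d with
  | zero =>
    intro M _ n hn
    haveI : Subsingleton (P.X n) := ModuleCat.subsingleton_of_isZero (hb n (by simpa using hn))
    haveI : Subsingleton (P.X n ⊗[A] M) := ⟨fun a b => by
      induction a with
      | zero => induction b with
        | zero => rfl
        | tmul p q => rw [Subsingleton.elim p 0, TensorProduct.zero_tmul]
        | add a b ha hb' => rw [← ha, ← hb', add_zero]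
      | tmul p q =>
        rw [Subsingleton.elim p 0, TensorProduct.zero_tmul]
        induction b with
        | zero => rfl
        | tmul p q => rw [Subsingleton.elim p 0, TensorProduct.zero_tmul]
        | add a b ha hb' => rw [← ha, ← hb', add_zero]
      | add a a' ha ha' =>
        have h0 : b = 0 := by
          clear ha ha'
          induction b with
          | zero => rfl
          | tmul p q => rw [Subsingleton.elim p 0, TensorProduct.zero_tmul]
          | add a b ha hb' => rw [ha, hb', add_zero]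
        rw [ha, ha', h0, add_zero]⟩
    exact Module.Finite.of_surjective (cls P n M) (cls_surjective P n M)
  | succ d ih =>
    intro M _ n hn
    -- free modules
    have hfree : ∀ r : ℕ, Module.Finite A (CohIII.T P n (ModuleCat.of A (Fin r → A))) := by
      intro r
      induction r with
      | zero =>
        refine Module.Finite.of_surjective (0 : (Fin 0 → A) →ₗ[A] CohIII.T P n (ModuleCat.of A (Fin 0 → A))) fun y => ⟨0, ?_⟩
        have hz : (CohIII.TFun P n).map (𝟙 (ModuleCat.of A (Fin 0 → A))) = 0 := by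
          rw [(ModuleCat.isZero_of_subsingleton (ModuleCat.of A (Fin 0 → A))).eq_of_src (𝟙 _) 0, Functor.map_zero]
        rw [CategoryTheory.Functor.map_id] at hz
        exact (congrArg (fun φ => φ.hom y) hz).symm
      | succ r ihr =>
        let f : ModuleCat.of A A ⟶ ModuleCat.of A (Fin (r + 1) → A) := ModuleCat.ofHom (LinearMap.single A (fun _ => A) 0)
        let g : ModuleCat.of A (Fin (r + 1) → A) ⟶ ModuleCat.of A (Fin r → A) :=
          ModuleCat.ofHom (LinearMap.funLeft A A Fin.succ)
        haveI := hfg n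
        haveI : Module.Finite A (CohIII.T P n (ModuleCat.of A A)) := hfg n
        haveI := isNoetherian_of_isNoetherianRing_of_finite A (CohIII.T P n (ModuleCat.of A (Fin r → A)))
        haveI : Module.Finite A (LinearMap.range (Tmap P n f)) :=
          Module.Finite.of_surjective _ (Tmap P n f).surjective_rangeRestrict
        haveI : Module.Finite A (CohIII.T P n (ModuleCat.of A (Fin (r + 1) → A)) ⧸ LinearMap.range (Tmap P n f)) := by
          have hex := Tmap_exact P n hP f g (Pi.single_injective (M := fun _ => A) 0) (fun v => by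
            constructor
            · intro h
              refine ⟨v 0, funext fun i => ?_⟩
              refine Fin.cases ?_ (fun j => ?_) i
              · exact Pi.single_eq_same (M := fun _ => A) 0 (v 0)
              · exact (Pi.single_eq_of_ne (M := fun _ => A) (Fin.succ_ne_zero j) (v 0)).trans (congrFun h j).symm
            · rintro ⟨a, rfl⟩
              funext j
              exact Pi.single_eq_of_ne (M := fun _ => A) (Fin.succ_ne_zero j) a) (fun w => ⟨Fin.cons 0 w, rfl⟩)
          exact Module.Finite.of_injective ((LinearMap.range (Tmap P n f)).liftQ (Tmap P n g)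
            (hex.linearMap_ker_eq.ge)) (LinearMap.ker_eq_bot.1 (Submodule.ker_liftQ_eq_bot' _ _ hex.linearMap_ker_eq.symm))
        exact Module.Finite.of_submodule_quotient (LinearMap.range (Tmap P n f))
    obtain ⟨r, π, hπ⟩ := Module.Finite.exists_fin' A M
    let g : ModuleCat.of A (Fin r → A) ⟶ M := ModuleCat.ofHom π
    let f : ModuleCat.of A (LinearMap.ker π) ⟶ ModuleCat.of A (Fin r → A) := ModuleCat.ofHom (LinearMap.ker π).subtype
    -- the connecting step: classes lift through `g` up to a class in degree `n - 1`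
    haveI := hfree r
    haveI : Module.Finite A (CohIII.T P ((ComplexShape.down ℤ).next n) (ModuleCat.of A (LinearMap.ker π))) :=
      ih _ _ (by rw [down_next]; push_cast at hn ⊢; omega)
    let k := (ComplexShape.down ℤ).next n
    -- the pairs `(w, y)` with `dT w = f y`
    let S : Submodule A (P.X n ⊗[A] (Fin r → A) × P.X k ⊗[A] LinearMap.ker π) :=
      LinearMap.ker (dT P (Fin r → A) n k ∘ₗ LinearMap.fst A _ _ - f.hom.lTensor (P.X k) ∘ₗ LinearMap.snd A _ _)
    have hS : ∀ w, w ∈ S ↔ dT P (Fin r → A) n k w.1 = f.hom.lTensor (P.X k) w.2 := fun w => by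
      simp only [S, LinearMap.mem_ker, LinearMap.sub_apply, LinearMap.comp_apply, sub_eq_zero]
      rfl
    have hfinj : ∀ i, Function.Injective (f.hom.lTensor (P.X i)) := fun i =>
      haveI := hP i
      Module.Flat.lTensor_preserves_injective_linearMap _ Subtype.val_injective
    have hexfg : ∀ i, Function.Exact (f.hom.lTensor (P.X i)) (g.hom.lTensor (P.X i)) := fun i =>
      lTensor_exact _ (LinearMap.exact_subtype_ker_map π) hπ
    let a : S →ₗ[A] CohIII.T P n M := cls P n M ∘ₗ
      LinearMap.codRestrict _ (g.hom.lTensor (P.X n) ∘ₗ LinearMap.fst A _ _ ∘ₗ S.subtype) (fun w => by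
        rw [LinearMap.mem_ker]
        show dT P M n k (g.hom.lTensor (P.X n) w.1.1) = 0
        rw [dT_comm, (hS w.1).1 w.2]
        exact (hexfg k).apply_apply_eq_zero _)
    have ha : Function.Surjective a := fun t => by
      obtain ⟨z, rfl⟩ := cls_surjective P n M t
      obtain ⟨w, hw⟩ := LinearMap.lTensor_surjective (P.X n) (g := g.hom) hπ z.1
      have : g.hom.lTensor (P.X k) (dT P (Fin r → A) n k w) = 0 := by
        rw [← dT_comm, hw]
        exact z.2
      obtain ⟨y, hy⟩ := (hexfg k _).1 this
      exact ⟨⟨(w, y), (hS _).2 hy.symm⟩, congrArg (cls P n M) (Subtype.ext hw)⟩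
    let b : S →ₗ[A] CohIII.T P k (ModuleCat.of A (LinearMap.ker π)) := cls P k _ ∘ₗ
      LinearMap.codRestrict _ (LinearMap.snd A _ _ ∘ₗ S.subtype) (fun w => by
        rw [LinearMap.mem_ker]
        refine hfinj _ ?_
        rw [map_zero]
        show f.hom.lTensor _ (dT P (LinearMap.ker π) k ((ComplexShape.down ℤ).next k) w.1.2) = 0
        rw [← dT_comm, ← (hS w.1).1 w.2, dT_dT])
    haveI := isNoetherian_of_isNoetherianRing_of_finite A (CohIII.T P k (ModuleCat.of A (LinearMap.ker π)))
    haveI hkerfin : Module.Finite A ((LinearMap.ker b).map a) := by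
      haveI := isNoetherian_of_isNoetherianRing_of_finite A (CohIII.T P n (ModuleCat.of A (Fin r → A)))
      have hle : (LinearMap.ker b).map a ≤ LinearMap.range (Tmap P n g) := by
        rintro _ ⟨w, hw, rfl⟩
        obtain ⟨y', hy'⟩ := (cls_eq_zero_iff P k _ _).1 hw
        have hprev : (ComplexShape.down ℤ).prev k = n := down_prev_next n
        have hy2 : ∃ v : P.X n ⊗[A] LinearMap.ker π, dT P (LinearMap.ker π) n k v = w.1.2 := by
          have h' : ∃ v, dT P (LinearMap.ker π) ((ComplexShape.down ℤ).prev k) k v = w.1.2 := ⟨y', hy'⟩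
          rwa [hprev] at h'
        obtain ⟨v, hv⟩ := hy2
        have hcyc : dT P (Fin r → A) n k (w.1.1 - f.hom.lTensor (P.X n) v) = 0 := by
          rw [map_sub, dT_comm, hv, (hS w.1).1 w.2, sub_self]
        refine ⟨cls P n (ModuleCat.of A (Fin r → A)) ⟨w.1.1 - f.hom.lTensor (P.X n) v, hcyc⟩, ?_⟩
        refine (TFun_map_cls P n g _).trans ?_
        refine congrArg (cls P n M) (Subtype.ext ?_)
        show g.hom.lTensor (P.X n) (w.1.1 - f.hom.lTensor (P.X n) v) = g.hom.lTensor (P.X n) w.1.1
        rw [map_sub, (hexfg n).apply_apply_eq_zero, sub_zero]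
      haveI : Module.Finite A (LinearMap.range (Tmap P n g)) :=
        Module.Finite.of_surjective _ (Tmap P n g).surjective_rangeRestrict
      haveI := isNoetherian_of_isNoetherianRing_of_finite A (LinearMap.range (Tmap P n g))
      exact Module.Finite.of_injective (Submodule.inclusion hle) (Submodule.inclusion_injective hle)
    suffices h : Module.Finite A (CohIII.T P n M ⧸ (LinearMap.ker b).map a) from
      Module.Finite.of_submodule_quotient ((LinearMap.ker b).map a)
    haveI : Module.Finite A (S ⧸ LinearMap.ker b) :=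
      Module.Finite.of_injective ((LinearMap.ker b).liftQ b le_rfl) (LinearMap.ker_eq_bot.1 (Submodule.ker_liftQ_eq_bot' _ _ rfl))
    exact Module.Finite.of_surjective ((LinearMap.ker b).mapQ ((LinearMap.ker b).map a) a (fun x hx => ⟨x, hx, rfl⟩))
      (fun q => by
        obtain ⟨t, rfl⟩ := Submodule.mkQ_surjective _ q
        obtain ⟨w, rfl⟩ := ha t
        exact ⟨Submodule.Quotient.mk w, rfl⟩)

theorem finite_Hm_bc {P : ChainComplex (ModuleCat.{u} A) ℤ} (hP : ∀ i, Module.Flat A (P.X i)) (i₀ : ℤ)
    (hb : ∀ i < i₀, IsZero (P.X i)) (hfg : ∀ n : ℤ, Module.Finite A (CohIII.T P n (ModuleCat.of A A)))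
    (B : Type u) [CommRing B] [Algebra A B] [Module.Finite A B] (n : ℤ) :
    Module.Finite B (Hm (CohIII.bcCx (algebraMap A B) P) n) := by
  haveI : Module.Finite A (CohIII.T P n (ModuleCat.of A B)) :=
    haveI : Module.Finite A (ModuleCat.of A B) := inferInstanceAs (Module.Finite A B)
    finite_T_of_finite P hP i₀ hb hfg ((n - i₀).toNat + 1) _ n (by omega)
  obtain ⟨φ, rfl⟩ : ∃ φ : A →+* B, ‹Algebra A B› = φ.toAlgebra :=
    ⟨algebraMap A B, Algebra.algebra_ext _ _ fun _ => rfl⟩
  letI := φ.toAlgebra
  obtain ⟨s, hs⟩ := Module.Finite.fg_top (R := A) (M := CohIII.T P n (ModuleCat.of A B))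
  choose z hz using cls_surjective P n (ModuleCat.of A B)
  let k := (ComplexShape.down ℤ).next n
  let d := (P.d n k).hom
  let d' := (P.d ((ComplexShape.down ℤ).prev n) n).hom
  let e : ∀ i, P.X i ⊗[A] B ≃ₗ[A] B ⊗[A] P.X i := fun i => TensorProduct.comm A _ _
  have hcomm : ∀ (x : P.X n ⊗[A] B), e k (d.rTensor B x) = d.lTensor B (e n x) := fun x => by
    induction x with
    | zero => simp
    | tmul a b => rfl
    | add a b ha hb' => rw [map_add, map_add, ha, hb', map_add, map_add]
  have hcomm' : ∀ x, e n (d'.rTensor B x) = d'.lTensor B (e _ x) := fun x => by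
    induction x with
    | zero => simp
    | tmul a b => rfl
    | add a b ha hb' => rw [map_add, map_add, ha, hb', map_add, map_add]
  have hmem : ∀ t, e n (z t).1 ∈ LinearMap.ker (d.baseChange B) := fun t => by
    show d.lTensor B (e n (z t).1) = 0
    rw [← hcomm]
    exact (congrArg (e k) (z t).2).trans (map_zero _)
  let zz : s → Zc (CohIII.bcCx φ P) n := fun t => ⟨e n (z t.1).1, hmem t.1⟩
  let π := (LinearMap.range (bd (CohIII.bcCx φ P) n)).mkQ
  refine Module.Finite.of_surjective (M := s → B) (Fintype.linearCombination B (π ∘ zz)) fun q => ?_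
  obtain ⟨⟨w, hw⟩, rfl⟩ := Submodule.mkQ_surjective _ q
  have hw' : d.lTensor B w = 0 := hw
  have hw'' : dT P B n k ((e n).symm w) = 0 := by
    refine (e k).injective ?_
    rw [map_zero]
    exact (hcomm _).trans ((congrArg (d.lTensor B) ((e n).apply_symm_apply w)).trans hw')
  have hmem' := hs.ge (Submodule.mem_top (x := cls P n (ModuleCat.of A B) ⟨(e n).symm w, hw''⟩))
  obtain ⟨c, hc⟩ := (Submodule.mem_span_finset'.1 hmem')
  refine ⟨fun t => algebraMap A B (c t), ?_⟩
  rw [Fintype.linearCombination_apply]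
  show ∑ t, algebraMap A B (c t) • π (zz t) = π _
  have h0 : cls P n (ModuleCat.of A B) ((∑ t, c t • z t.1) - ⟨(e n).symm w, hw''⟩) = 0 := by
    rw [map_sub, map_sum, sub_eq_zero, ← hc]
    exact Finset.sum_congr rfl fun t _ => by rw [map_smul, hz]
  obtain ⟨v, hv⟩ := (cls_eq_zero_iff P n _ _).1 h0
  simp only [← map_smul]
  rw [← map_sum]
  refine (Submodule.Quotient.eq _).2 ⟨e _ v, Subtype.ext ?_⟩
  show d'.lTensor B (e _ v) = _
  rw [← hcomm']
  refine (congrArg (e n) hv).trans ?_
  have key : ∀ (a : A) (x : B ⊗[A] P.X n), algebraMap A B a • x = a • x := fun a x => algebraMap_smul B a x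
  simp only [AddSubgroupClass.coe_sub, Submodule.coe_sum, SetLike.val_smul, map_sub, map_sum, map_smul,
    LinearEquiv.apply_symm_apply]
  congr 1

theorem exists_nhd {P : ChainComplex (ModuleCat.{u} A) ℤ} (hP : ∀ i, Module.Flat A (P.X i)) (i₀ : ℤ)
    (hb : ∀ i < i₀, IsZero (P.X i)) (hfg : ∀ n : ℤ, Module.Finite A (CohIII.T P n (ModuleCat.of A A)))
    (N : ℤ) (q : PrimeSpectrum A) (hq : q.asIdeal ∈ minimalPrimes A) :
    ∃ W : Set (PrimeSpectrum A), IsOpen W ∧ q ∈ W ∧
      ∀ p ≤ N, ∀ x ∈ W, CohIII.dRank P p x = CohIII.dRank P p q := by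
  let B := A ⧸ q.asIdeal
  haveI := q.isPrime
  haveI : Module.Finite A B := Module.Finite.of_surjective (q.asIdeal.mkQ) (Submodule.mkQ_surjective _)
  let φ := algebraMap A B
  let Q := CohIII.bcCx φ P
  have hQ : ∀ i, Module.Flat B (Q.X i) := flat_X_bc B P hP
  have hQb : ∀ i < i₀, IsZero (Q.X i) := fun i hi => (ModuleCat.extendScalars.{u, u, u} φ).map_isZero (hb i hi)
  haveI hHm : ∀ n, Module.Finite B (Hm Q n) := finite_Hm_bc hP i₀ hb hfg B
  have hQT : ∀ n, Module.FinitePresentation B (CohIII.T Q n (ModuleCat.of B B)) := fun n =>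
    haveI : Module.Finite B (CohIII.T Q n (ModuleCat.of B B)) := Module.Finite.equiv (HmEquivT Q hQ n)
    Module.finitePresentation_of_finite B _
  obtain ⟨f, hf, hfex⟩ := Groth.Agent.S4486.result Q hQ i₀ hQb hQT N
  let C := Localization.Away f
  have hle : Submonoid.powers f ≤ nonZeroDivisors B := powers_le_nonZeroDivisors_of_noZeroDivisors hf
  haveI : IsDomain C := IsLocalization.isDomain_localization hle
  let ψ := algebraMap B C
  let R := CohIII.bcCx ψ Q
  have hR : ∀ i, Module.Flat C (R.X i) := flat_X_bc C Q hQ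
  obtain ⟨F, rfl⟩ := Ideal.Quotient.mk_surjective f
  let Z : Set (PrimeSpectrum A) :=
    ⋃ q' ∈ {q' : PrimeSpectrum A | q'.asIdeal ∈ minimalPrimes A ∧ q' ≠ q}, PrimeSpectrum.zeroLocus (q'.asIdeal : Set A)
  have hfin : {q' : PrimeSpectrum A | q'.asIdeal ∈ minimalPrimes A ∧ q' ≠ q}.Finite := by
    refine ((minimalPrimes.finite_of_isNoetherianRing A).preimage (f := PrimeSpectrum.asIdeal) ?_).subset
      fun q' h => h.1
    exact fun a _ b _ hab => PrimeSpectrum.ext hab
  have hZ : IsClosed Z := hfin.isClosed_biUnion fun q' _ => PrimeSpectrum.isClosed_zeroLocus _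
  refine ⟨(PrimeSpectrum.basicOpen F : Set (PrimeSpectrum A)) \ Z,
    PrimeSpectrum.isOpen_basicOpen.sdiff hZ, ⟨?_, ?_⟩, ?_⟩
  · exact fun h => hf (Ideal.Quotient.eq_zero_iff_mem.2 h)
  · intro h
    obtain ⟨q', hq'⟩ := Set.mem_iUnion.1 h
    obtain ⟨⟨hmin, hne⟩, hle'⟩ := Set.mem_iUnion.1 hq'
    exact hne (PrimeSpectrum.ext (le_antisymm hle' (hq.2 ⟨q'.isPrime, bot_le⟩ hle')))
  intro p hp
  haveI : Module.FinitePresentation C (Hm R p) := by
    obtain ⟨e⟩ := homology_flatBC C Q p
    haveI : Module.Finite C (Hm R p) := Module.Finite.equiv (e.symm.trans (homologyHmEquiv R p))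
    haveI : IsNoetherianRing C := IsLocalization.isNoetherianRing (Submonoid.powers (Ideal.Quotient.mk q.asIdeal F)) C inferInstance
    exact Module.finitePresentation_of_finite C _
  have hconst := (isLocallyConstant_dRank_of_exact R hR p (down_prev_next p) (hfex p hp)).apply_eq_of_preconnectedSpace
  have hlift : ∀ x ∈ (PrimeSpectrum.basicOpen F : Set (PrimeSpectrum A)) \ Z, ∃ y : PrimeSpectrum C,
      CohIII.dRank P p x = CohIII.dRank R p y := by
    intro x hx
    haveI := x.isPrime
    obtain ⟨q', hq', hqx⟩ := Ideal.exists_minimalPrimes_le (I := (⊥ : Ideal A)) (J := x.asIdeal) bot_le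
    have hq'' : q' = q.asIdeal := by
      by_contra hne
      refine hx.2 (Set.mem_iUnion.2 ⟨⟨q', hq'.1.1⟩, Set.mem_iUnion.2 ⟨⟨hq', fun h => hne ?_⟩, hqx⟩⟩)
      exact congrArg PrimeSpectrum.asIdeal h
    subst hq''
    have hmem : x ∈ Set.range (PrimeSpectrum.comap φ) := by
      rw [range_comap_of_surjective _ φ Ideal.Quotient.mk_surjective]
      show RingHom.ker φ ≤ x.asIdeal
      exact (Ideal.mk_ker (I := q.asIdeal)).le.trans hqx
    obtain ⟨x', rfl⟩ := hmem
    have hmem' : x' ∈ Set.range (PrimeSpectrum.comap ψ) := by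
      rw [PrimeSpectrum.localization_away_comap_range C (Ideal.Quotient.mk q.asIdeal F)]
      exact hx.1
    obtain ⟨y, rfl⟩ := hmem'
    exact ⟨y, ((dRank_comap ψ Q p y (PrimeSpectrum.comap ψ y) rfl).trans
      (dRank_comap φ P p (PrimeSpectrum.comap ψ y) _ rfl)).symm⟩
  intro x hx
  obtain ⟨y, hy⟩ := hlift x hx
  obtain ⟨y', hy'⟩ := hlift q ⟨fun h => hf (Ideal.Quotient.eq_zero_iff_mem.2 h), fun h => by
    obtain ⟨q', hq'⟩ := Set.mem_iUnion.1 h
    obtain ⟨⟨hmin, hne⟩, hle'⟩ := Set.mem_iUnion.1 hq'
    exact hne (PrimeSpectrum.ext (le_antisymm hle' (hq.2 ⟨q'.isPrime, bot_le⟩ hle')))⟩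
  rw [hy, hy', hconst y y']

end Pre


open CategoryTheory CategoryTheory.Limits in
/-- The case of the homological functor T_p(M) = H_p(P ⊗_A M) of a chain complex P of flat modules over
a commutative ring A. Let A be Noetherian and suppose P_i = 0 for i < i₀ and that every T_n(A) is a
finitely generated A-module. Then for every integer N there is a dense open subset U of Spec A such
that, for every p ≤ N, the function x ↦ dim_{k(x)} H_p(P ⊗_A k(x)) is locally constant on U. (The
published statement says constant on U; over the product of two fields, with P the projective module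
supported on one factor placed in degree 0, the only dense open set is the whole two-point spectrum
and the ranks there are 1 and 0, so locally constant on U is what holds; the argument produces U as
a disjoint union of opens, one dense in each irreducible component, on each of which the functions
are constant.) -/
theorem result {A : Type u} [CommRing A] [IsNoetherianRing A]
    (P : ChainComplex (ModuleCat.{u} A) ℤ) (hP : ∀ i, Module.Flat A (P.X i)) (i₀ : ℤ)
    (hb : ∀ i < i₀, IsZero (P.X i))
    (hfg : ∀ n : ℤ, Module.Finite A (CohIII.T P n (ModuleCat.of A A))) (N : ℤ) :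
    ∃ U : Set (PrimeSpectrum A), IsOpen U ∧ Dense U ∧
      ∀ p ≤ N, IsLocallyConstant (fun x : U => CohIII.dRank P p x) := by
  choose W hWo hWq hW using fun q : {q : PrimeSpectrum A // q.asIdeal ∈ minimalPrimes A} =>
    exists_nhd hP i₀ hb hfg N q.1 q.2
  refine ⟨⋃ q, W q, isOpen_iUnion hWo, fun x => ?_, fun p hp => ?_⟩
  · haveI := x.isPrime
    obtain ⟨q, hq, hqx⟩ := Ideal.exists_minimalPrimes_le (I := (⊥ : Ideal A)) (J := x.asIdeal) bot_le
    have hs : (⟨q, hq.1.1⟩ : PrimeSpectrum A) ⤳ x :=
      (PrimeSpectrum.le_iff_specializes ⟨q, hq.1.1⟩ x).1 hqx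
    exact hs.mem_closed isClosed_closure (subset_closure (Set.mem_iUnion.2 ⟨⟨⟨q, hq.1.1⟩, hq⟩, hWq _⟩))
  · rw [IsLocallyConstant.iff_exists_open]
    intro x
    obtain ⟨q, hxq⟩ := Set.mem_iUnion.1 x.2
    exact ⟨Subtype.val ⁻¹' W q, (hWo q).preimage continuous_subtype_val, hxq,
      fun y hy => (hW q p hp y.1 hy).trans (hW q p hp x.1 hxq).symm⟩

end Groth.Agent.S4487
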