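import Groth.Statements.S4488
import Groth.Agent.FlatCx.ExactLocus

set_option autoImplicit false
universe u
open FlatCx

namespace Groth.Agent.S4488

open CategoryTheory CategoryTheory.Limits in
/-- For the homological functor T_q(M) = H_q(P ⊗_A M) of a chain complex P of flat modules over a
commutative local ring A with residue field k. Suppose P_i = 0 for i < i₀ and that every T_n(A) is a
finitely presented A-module, and let p be an integer. If T_q takes injections to injections and
surjections to surjections for every q ≤ p, then dim_{k(x)} T_q(k(x)) = dim_k T_q(k) for every point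
x of Spec A and every q ≤ p. Conversely, if A is reduced and this equality holds at the generic
point of every irreducible component of Spec A (every minimal prime) for every q ≤ p, then T_q takes
injections to injections and surjections to surjections for every q ≤ p. No Noetherian hypothesis on
A. -/
theorem result {A : Type u} [CommRing A] [IsLocalRing A]
    (P : ChainComplex (ModuleCat.{u} A) ℤ) (hP : ∀ i, Module.Flat A (P.X i)) (i₀ : ℤ)
    (hb : ∀ i < i₀, IsZero (P.X i))
    (hfp : ∀ n : ℤ, Module.FinitePresentation A (CohIII.T P n (ModuleCat.of A A))) (p : ℤ) :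
    ((∀ q ≤ p, (CohIII.TFun P q).PreservesMonomorphisms ∧ (CohIII.TFun P q).PreservesEpimorphisms) →
        ∀ (x : PrimeSpectrum A), ∀ q ≤ p, CohIII.dRank P q x = CohIII.dRank P q (IsLocalRing.closedPoint A)) ∧
      (IsReduced A →
        (∀ x : PrimeSpectrum A, x.asIdeal ∈ minimalPrimes A →
          ∀ q ≤ p, CohIII.dRank P q x = CohIII.dRank P q (IsLocalRing.closedPoint A)) →
        ∀ q ≤ p, (CohIII.TFun P q).PreservesMonomorphisms ∧ (CohIII.TFun P q).PreservesEpimorphisms) := by
  have hfp' : ∀ n, Module.FinitePresentation A (Groth.Agent.FlatCx.Hm P n) := fun n =>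
    haveI := hfp n
    Module.FinitePresentation.of_equiv (Groth.Agent.FlatCx.HmEquivT P hP n).symm
  constructor
  · intro h x q hq
    haveI := hfp' q
    obtain ⟨hflat, he⟩ :=
      Groth.Agent.FlatCx.flat_Hm_of_exact P hP q (Groth.Agent.FlatCx.down_prev_next q) (h q hq)
    rw [he, he, Groth.Agent.FlatCx.fdim_eq_rankAtStalk, Groth.Agent.FlatCx.fdim_eq_rankAtStalk]
    exact Module.rankAtStalk_eq_of_le_of_finite_of_flat _
      (IsLocalRing.le_maximalIdeal x.isPrime.ne_top)
  · intro hred h
    suffices H : ∀ n : ℕ, ∀ q : ℤ, q = i₀ - 1 + n → q ≤ p →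
        ∀ q' ≤ q, (CohIII.TFun P q').PreservesMonomorphisms ∧
          (CohIII.TFun P q').PreservesEpimorphisms by
      intro q hq
      by_cases hlt : q < i₀
      · exact (Groth.Agent.FlatCx.exact_upTo_iff P hP i₀ hb q).2 (fun r hr => by
          haveI : Subsingleton (P.X r) := ModuleCat.subsingleton_of_isZero (hb r (by omega))
          haveI : Subsingleton (Groth.Agent.FlatCx.Hm P r) :=
            (Submodule.mkQ_surjective _).subsingleton
          exact Module.Flat.of_linearEquiv (Groth.Agent.FlatCx.HmEquivT P hP r).symm) q le_rfl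
      · exact H (q - (i₀ - 1)).toNat q (by omega) hq q le_rfl
    intro n
    induction n with
    | zero =>
      intro q hq _
      exact (Groth.Agent.FlatCx.exact_upTo_iff P hP i₀ hb q).2 fun r hr => by
        haveI : Subsingleton (P.X r) := ModuleCat.subsingleton_of_isZero (hb r (by omega))
        haveI : Subsingleton (Groth.Agent.FlatCx.Hm P r) :=
          (Submodule.mkQ_surjective _).subsingleton
        exact Module.Flat.of_linearEquiv (Groth.Agent.FlatCx.HmEquivT P hP r).symm
    | succ n ih =>
      intro q hq hqp q' hq'
      rcases lt_or_eq_of_le hq' with hlt | rfl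
      · exact ih (q - 1) (by omega) (by omega) q' (by omega)
      have he := (Groth.Agent.FlatCx.epi_iff_mono_pred P hP q' (q' - 1) (by omega)).2
        (ih (q' - 1) (by omega) (by omega) _ le_rfl).1
      have hW := (Groth.Agent.FlatCx.preservesEpi_iff_flat_opc P q' hP
        (Groth.Agent.FlatCx.down_prev_next q')).1 he
      haveI := hfp' q'
      haveI := Groth.Agent.FlatCx.free_of_fdim_minimal (Groth.Agent.FlatCx.Hm P q') fun x hx => by
        rw [← Groth.Agent.FlatCx.dRank_eq_fdim P hP q' hW,
          ← Groth.Agent.FlatCx.dRank_eq_fdim P hP q' hW]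
        exact h x hx q' hqp
      exact (Groth.Agent.FlatCx.exact_iff_preservesEpi_and_flat P q' hP
        (Groth.Agent.FlatCx.down_prev_next q')).2
        ⟨he, Module.Flat.of_linearEquiv (Groth.Agent.FlatCx.HmEquivT P hP q').symm⟩

end Groth.Agent.S4488
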