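import Groth.Statements.S4489
import Mathlib
import Groth.Agent.FlatCx.Dvr

open CategoryTheory CategoryTheory.Limits TensorProduct
open Groth.Agent.FlatCx

set_option linter.style.haveILetI false
set_option backward.isDefEq.respectTransparency false

set_option autoImplicit false
universe u
open FlatCx

namespace Groth.Agent.S4489

open CategoryTheory CategoryTheory.Limits in
/-- For the homological functor T_p(M) = H_p(P ⊗_A M) of a chain complex P of flat modules, stated over
a Dedekind domain A. (The published statement allows A to be a finite product of Dedekind domains,
that is, a Noetherian regular ring of dimension at most 1; this row takes A a Dedekind domain.) Then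
T_p takes injections to injections if and only if H_p(P) is a flat A-module; and, with q + 1 = p,
T_p takes injections to injections and surjections to surjections if and only if H_p(P) and H_q(P)
are both flat. -/
theorem result {A : Type u} [CommRing A] [IsDedekindDomain A]
    (P : ChainComplex (ModuleCat.{u} A) ℤ) (hP : ∀ i, Module.Flat A (P.X i)) (p q : ℤ) (hpq : q + 1 = p) :
    ((CohIII.TFun P p).PreservesMonomorphisms ↔ Module.Flat A (P.homology p)) ∧
      (((CohIII.TFun P p).PreservesMonomorphisms ∧ (CohIII.TFun P p).PreservesEpimorphisms) ↔
        (Module.Flat A (P.homology p) ∧ Module.Flat A (P.homology q))) := by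
  have key : ∀ i : ℤ, (CohIII.TFun P i).PreservesMonomorphisms ↔ Module.Flat A (P.homology i) := by
    intro i
    rw [preservesMono_iff_flat_opc hP (i := (ComplexShape.down ℤ).prev i) rfl rfl,
      IsDedekindDomain.flat_iff_torsion_eq_bot, IsDedekindDomain.flat_iff_torsion_eq_bot,
      ← Submodule.isTorsionFree_iff_torsion_eq_bot, ← Submodule.isTorsionFree_iff_torsion_eq_bot,
      isTorsionFree_opc_iff P hP i]
    let e := homologyHmEquiv P i
    exact ⟨fun h => Function.Injective.moduleIsTorsionFree e e.injective fun r x => map_smul e r x,
      fun h => Function.Injective.moduleIsTorsionFree e.symm e.symm.injective fun r x => map_smul e.symm r x⟩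
  refine ⟨key p, ?_⟩
  rw [key p, epi_iff_mono_pred P hP p q hpq, key q]

end Groth.Agent.S4489
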