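import Groth.Statements.S4492
import Mathlib

set_option linter.style.haveILetI false

set_option autoImplicit false
universe u
open FlatCx

namespace Groth.Agent.S4492

open CategoryTheory CategoryTheory.Limits in
/-- (The published statement is for arbitrary abelian categories; this row is for functors between
module categories.) Let F be an additive functor from A-modules to B-modules which is half exact
(every short exact sequence 0 → E' → E → E'' → 0 goes to a sequence F(E') → F(E) → F(E'') exact at
the middle) and such that F(S) has finite length for every simple A-module S. Then F(E) has finite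
length for every A-module E of finite length; and for every short exact sequence 0 → E' → E → E'' →
0 of A-modules with E of finite length one has length F(E) ≤ length F(E') + length F(E''), with
equality if and only if 0 → F(E') → F(E) → F(E'') → 0 is (short) exact. Lengths are Mathlib's,
valued in ℕ∞. -/
theorem result {A B : Type u} [Ring A] [Ring B]
    (F : ModuleCat.{u} A ⥤ ModuleCat.{u} B) [F.Additive]
    (hF : ∀ S : ShortComplex (ModuleCat.{u} A), S.ShortExact → (S.map F).Exact)
    (hS : ∀ M : ModuleCat.{u} A, IsSimpleModule A M → Module.length B (F.obj M) ≠ ⊤) :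
    (∀ E : ModuleCat.{u} A, Module.length A E ≠ ⊤ → Module.length B (F.obj E) ≠ ⊤) ∧
      ∀ S : ShortComplex (ModuleCat.{u} A), S.ShortExact → Module.length A S.X₂ ≠ ⊤ →
        Module.length B (F.obj S.X₂) ≤ Module.length B (F.obj S.X₁) + Module.length B (F.obj S.X₃) ∧
          (Module.length B (F.obj S.X₂) = Module.length B (F.obj S.X₁) + Module.length B (F.obj S.X₃) ↔
            (S.map F).ShortExact) := by
  classical
  have hle : ∀ S : ShortComplex (ModuleCat.{u} A), S.ShortExact →
      Module.length B (F.obj S.X₂) =
        Module.length B (LinearMap.range (F.map S.f).hom) + Module.length B (LinearMap.range (F.map S.g).hom) := by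
    intro S hSe
    have hex := (ShortComplex.moduleCat_exact_iff_range_eq_ker (S.map F)).mp (hF S hSe)
    have h1 := Module.length_eq_add_of_exact (LinearMap.range (F.map S.f).hom).subtype
      (F.map S.g).hom.rangeRestrict Subtype.coe_injective (LinearMap.surjective_rangeRestrict _)
      (by rw [LinearMap.exact_iff, LinearMap.ker_rangeRestrict, Submodule.range_subtype]; exact hex.symm)
    exact h1
  have hrle : ∀ {M N : ModuleCat.{u} B} (g : M ⟶ N),
      Module.length B (LinearMap.range g.hom) ≤ Module.length B M := fun g ↦
    Module.length_le_of_surjective g.hom.rangeRestrict (LinearMap.surjective_rangeRestrict _)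
  have hsle : ∀ {M N : ModuleCat.{u} B} (g : M ⟶ N),
      Module.length B (LinearMap.range g.hom) ≤ Module.length B N := fun g ↦
    Module.length_le_of_injective (LinearMap.range g.hom).subtype Subtype.coe_injective
  have hineq : ∀ S : ShortComplex (ModuleCat.{u} A), S.ShortExact →
      Module.length B (F.obj S.X₂) ≤ Module.length B (F.obj S.X₁) + Module.length B (F.obj S.X₃) :=
    fun S hSe ↦ by rw [hle S hSe]; exact add_le_add (hrle _) (hsle _)
  have hfin : ∀ (M : Type u) [AddCommGroup M] [Module A M], IsFiniteLength A M →
      Module.length B (F.obj (ModuleCat.of A M)) ≠ ⊤ := by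
    intro M _ _ hM
    induction hM with
    | @of_subsingleton M _ _ _ =>
      have hz : Limits.IsZero (F.obj (ModuleCat.of A M)) :=
        F.map_isZero (ModuleCat.isZero_of_subsingleton _)
      have := ModuleCat.subsingleton_of_isZero hz
      rw [Module.length_eq_zero]
      exact ENat.zero_ne_top
    | @of_simple_quotient M _ _ N _ _ ih =>
      let S : ShortComplex (ModuleCat.{u} A) := ShortComplex.mk (ModuleCat.ofHom N.subtype)
        (ModuleCat.ofHom N.mkQ) (by ext x; simp)
      have hSe : S.ShortExact :=
        { exact := (ShortComplex.moduleCat_exact_iff_range_eq_ker S).mpr (by simp [S])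
          mono_f := (ModuleCat.mono_iff_injective _).mpr Subtype.coe_injective
          epi_g := (ModuleCat.epi_iff_surjective _).mpr (Submodule.mkQ_surjective N) }
      refine ne_top_of_le_ne_top ?_ (hineq S hSe)
      exact WithTop.add_ne_top.mpr ⟨ih, hS _ (by assumption)⟩
  refine ⟨fun E hE ↦ hfin E (Module.length_ne_top_iff.mp hE), fun S hSe hfin2 ↦ ⟨hineq S hSe, ?_⟩⟩
  have hX1 : Module.length A S.X₁ ≠ ⊤ :=
    ne_top_of_le_ne_top hfin2 (Module.length_le_of_injective S.f.hom
      ((ModuleCat.mono_iff_injective _).mp hSe.mono_f))
  have hX3 : Module.length A S.X₃ ≠ ⊤ :=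
    ne_top_of_le_ne_top hfin2 (Module.length_le_of_surjective S.g.hom
      ((ModuleCat.epi_iff_surjective _).mp hSe.epi_g))
  have h1 := hfin S.X₁ (Module.length_ne_top_iff.mp hX1)
  have h3 := hfin S.X₃ (Module.length_ne_top_iff.mp hX3)
  have hr := hrle (F.map S.f)
  have hs := hsle (F.map S.g)
  constructor
  · intro he
    rw [hle S hSe] at he
    lift Module.length B (F.obj S.X₁) to ℕ using h1 with a ha
    lift Module.length B (F.obj S.X₃) to ℕ using h3 with b hb
    lift Module.length B (LinearMap.range (F.map S.f).hom) to ℕ using ne_top_of_le_ne_top (ENat.natCast_ne_top _) hr with a' ha'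
    lift Module.length B (LinearMap.range (F.map S.g).hom) to ℕ using ne_top_of_le_ne_top (ENat.natCast_ne_top _) hs with b' hb'
    norm_cast at he hr hs
    refine { exact := hF S hSe, mono_f := ?_, epi_g := ?_ }
    · refine (ModuleCat.mono_iff_injective _).mpr ?_
      have e := Module.length_eq_add_of_exact (LinearMap.ker (F.map S.f).hom).subtype
        (F.map S.f).hom.rangeRestrict Subtype.coe_injective (LinearMap.surjective_rangeRestrict _)
        (by rw [LinearMap.exact_iff, LinearMap.ker_rangeRestrict, Submodule.range_subtype])
      rw [← ha, ← ha', show a = a' by omega] at e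
      have hz : Module.length B (LinearMap.ker (F.map S.f).hom) = 0 :=
        (ENat.addLECancellable_natCast a').add_le_add_iff_right.mp (by rw [← e, zero_add]) |>.antisymm bot_le
      rw [Module.length_eq_zero_iff, Submodule.subsingleton_iff_eq_bot] at hz
      exact LinearMap.ker_eq_bot.mp hz
    · refine (ModuleCat.epi_iff_surjective _).mpr ?_
      have e := Module.length_eq_add_of_exact (LinearMap.range (F.map S.g).hom).subtype
        (LinearMap.range (F.map S.g).hom).mkQ Subtype.coe_injective (Submodule.mkQ_surjective _)
        (LinearMap.exact_subtype_mkQ _)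
      rw [← hb, ← hb', show b = b' by omega] at e
      have hz : Module.length B (F.obj S.X₃ ⧸ LinearMap.range (F.map S.g).hom) = 0 :=
        (ENat.addLECancellable_natCast b').add_le_add_iff_left.mp (by rw [← e, add_zero]) |>.antisymm bot_le
      rw [Module.length_eq_zero_iff, Submodule.Quotient.subsingleton_iff] at hz
      exact LinearMap.range_eq_top.mp hz
  · intro hse
    exact Module.length_eq_add_of_exact (F.map S.f).hom (F.map S.g).hom
      ((ModuleCat.mono_iff_injective _).mp hse.mono_f) ((ModuleCat.epi_iff_surjective _).mp hse.epi_g)
      (LinearMap.exact_iff.mpr ((ShortComplex.moduleCat_exact_iff_range_eq_ker (S.map F)).mp hse.exact).symm)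

end Groth.Agent.S4492
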