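import Groth.Statements.S4493
import Mathlib
import Groth.Agent.WattsLib.Localize

set_option linter.style.haveILetI false
open CategoryTheory CategoryTheory.Limits Groth.Agent.WattsLib

set_option autoImplicit false
universe u
open FlatCx

namespace Groth.Agent.S4493

section Pre
open CategoryTheory CategoryTheory.Limits Groth.Agent.WattsLib

variable {A : Type u} [CommRing A]

/-- Localisation at a maximal ideal as a functor. -/
noncomputable def bcLoc (m : Ideal A) [m.IsMaximal] :
    ModuleCat.{u} A ⥤ ModuleCat.{u} (Localization.AtPrime m) where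
  obj M := ModuleCat.of (Localization.AtPrime m) (LocalizedModule m.primeCompl M)
  map f := ModuleCat.ofHom (LocalizedModule.map m.primeCompl f.hom)
  map_id M := by
    apply ModuleCat.hom_ext
    apply LinearMap.ext
    intro z
    induction z using LocalizedModule.induction_on with
    | h x s => simp [LocalizedModule.map_mk]
  map_comp f g := by
    apply ModuleCat.hom_ext
    apply LinearMap.ext
    intro z
    induction z using LocalizedModule.induction_on with
    | h x s => simp [LocalizedModule.map_mk]

instance (m : Ideal A) [m.IsMaximal] : (bcLoc m).PreservesZeroMorphisms where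
  map_zero X Y := by
    apply ModuleCat.hom_ext
    apply LinearMap.ext
    intro z
    induction z using LocalizedModule.induction_on with
    | h x s =>
      simp [bcLoc]
      rfl

/-- Restriction of scalars from the localisation. -/
noncomputable abbrev resLoc (m : Ideal A) [m.IsMaximal] :
    ModuleCat.{u} (Localization.AtPrime m) ⥤ ModuleCat.{u} A :=
  ModuleCat.restrictScalars.{u} (algebraMap A (Localization.AtPrime m))

theorem shortExact_bcLoc (m : Ideal A) [m.IsMaximal] {S : ShortComplex (ModuleCat.{u} A)} (hS : S.ShortExact) :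
    (S.map (bcLoc m)).ShortExact := by
  haveI : Mono (S.map (bcLoc m)).f := (ModuleCat.mono_iff_injective _).mpr
    (LocalizedModule.map_injective m.primeCompl S.f.hom ((ModuleCat.mono_iff_injective _).mp hS.mono_f))
  haveI : Epi (S.map (bcLoc m)).g := (ModuleCat.epi_iff_surjective _).mpr
    (LocalizedModule.map_surjective m.primeCompl S.g.hom ((ModuleCat.epi_iff_surjective _).mp hS.epi_g))
  refine ShortComplex.ShortExact.mk' ((ShortComplex.ShortExact.moduleCat_exact_iff_function_exact _).mpr ?_)
    inferInstance inferInstance
  exact LocalizedModule.map_exact m.primeCompl S.f.hom S.g.hom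
    ((ShortComplex.ShortExact.moduleCat_exact_iff_function_exact _).mp hS.exact)

/-- The carrier of the localised module with its two module structures. -/
noncomputable def resIso (m : Ideal A) [m.IsMaximal] (M : ModuleCat.{u} A) :
    ModuleCat.of A (LocalizedModule m.primeCompl M) ≅ (resLoc m).obj ((bcLoc m).obj M) :=
  LinearEquiv.toModuleIso
    (X₁ := LocalizedModule m.primeCompl M) (X₂ := ((resLoc m).obj ((bcLoc m).obj M)).carrier)
    (m₂ := ((resLoc m).obj ((bcLoc m).obj M)).isModule)
    { toFun := fun z => z
      invFun := fun z => z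
      map_add' := fun _ _ => rfl
      map_smul' := fun r z => (algebraMap_smul (Localization.AtPrime m) r z).symm
      left_inv := fun _ => rfl
      right_inv := fun _ => rfl }

variable (T : ModuleCat.{u} A ⥤ ModuleCat.{u} A) [T.Additive] [T.Linear A]
  (hT : ∀ (J : Type u) [SmallCategory J] [IsFiltered J], PreservesColimitsOfShape J T)

/-- The localisation map. -/
noncomputable def locMap (m : Ideal A) [m.IsMaximal] (M : ModuleCat.{u} A) :
    M ⟶ (resLoc m).obj ((bcLoc m).obj M) :=
  (ModuleCat.ofHom (LocalizedModule.mkLinearMap m.primeCompl M) :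
    M ⟶ ModuleCat.of A (LocalizedModule m.primeCompl M)) ≫ (resIso m M).hom

theorem locMap_natural (m : Ideal A) [m.IsMaximal] {M N : ModuleCat.{u} A} (f : M ⟶ N) :
    f ≫ locMap m N = locMap m M ≫ (resLoc m).map ((bcLoc m).map f) := by
  apply ModuleCat.hom_ext
  apply LinearMap.ext
  intro x
  show LocalizedModule.mk (f.hom x) 1 = LocalizedModule.map m.primeCompl f.hom (LocalizedModule.mk x 1)
  rw [LocalizedModule.map_mk]

include hT

theorem isLoc (m : Ideal A) [m.IsMaximal] (M : ModuleCat.{u} A) :
    IsLocalizedModule m.primeCompl (T.map (locMap m M)).hom := by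
  haveI := isLocalizedModule_map m.primeCompl M T hT
  rw [locMap, T.map_comp, ModuleCat.hom_comp]
  exact IsLocalizedModule.of_linearEquiv m.primeCompl _ (T.mapIso (resIso m M)).toLinearEquiv

theorem map_eq (m : Ideal A) [m.IsMaximal] {M N : ModuleCat.{u} A} (f : M ⟶ N) :
    haveI := isLoc T hT m M
    haveI := isLoc T hT m N
    IsLocalizedModule.map m.primeCompl (T.map (locMap m M)).hom (T.map (locMap m N)).hom (T.map f).hom =
      (T.map ((resLoc m).map ((bcLoc m).map f))).hom := by
  haveI := isLoc T hT m M
  haveI := isLoc T hT m N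
  refine IsLocalizedModule.linearMap_ext m.primeCompl (T.map (locMap m M)).hom (T.map (locMap m N)).hom ?_
  rw [IsLocalizedModule.map_comp, ← ModuleCat.hom_comp, ← ModuleCat.hom_comp, ← T.map_comp, ← T.map_comp,
    locMap_natural]

theorem exact_of_loc {X Y Z : ModuleCat.{u} A} (f : X ⟶ Y) (g : Y ⟶ Z)
    (h : ∀ (m : Ideal A) [m.IsMaximal],
      Function.Exact (T.map ((resLoc m).map ((bcLoc m).map f))).hom (T.map ((resLoc m).map ((bcLoc m).map g))).hom) :
    Function.Exact (T.map f).hom (T.map g).hom := by
  haveI := fun (m : Ideal A) (_ : m.IsMaximal) => isLoc T hT m X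
  haveI := fun (m : Ideal A) (_ : m.IsMaximal) => isLoc T hT m Y
  haveI := fun (m : Ideal A) (_ : m.IsMaximal) => isLoc T hT m Z
  refine exact_of_isLocalized_maximal _ (fun m _ => (T.map (locMap m X)).hom) _ (fun m _ => (T.map (locMap m Y)).hom)
    _ (fun m _ => (T.map (locMap m Z)).hom) _ _ fun m hm => ?_
  rw [map_eq T hT m f, map_eq T hT m g]
  exact h m

theorem injective_of_loc {X Y : ModuleCat.{u} A} (f : X ⟶ Y)
    (h : ∀ (m : Ideal A) [m.IsMaximal], Function.Injective (T.map ((resLoc m).map ((bcLoc m).map f))).hom) :
    Function.Injective (T.map f).hom := by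
  haveI := fun (m : Ideal A) (_ : m.IsMaximal) => isLoc T hT m X
  haveI := fun (m : Ideal A) (_ : m.IsMaximal) => isLoc T hT m Y
  refine injective_of_isLocalized_maximal _ (fun m _ => (T.map (locMap m X)).hom) _ (fun m _ => (T.map (locMap m Y)).hom)
    _ fun m hm => ?_
  rw [map_eq T hT m f]
  exact h m

theorem surjective_of_loc {X Y : ModuleCat.{u} A} (f : X ⟶ Y)
    (h : ∀ (m : Ideal A) [m.IsMaximal], Function.Surjective (T.map ((resLoc m).map ((bcLoc m).map f))).hom) :
    Function.Surjective (T.map f).hom := by
  haveI := fun (m : Ideal A) (_ : m.IsMaximal) => isLoc T hT m X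
  haveI := fun (m : Ideal A) (_ : m.IsMaximal) => isLoc T hT m Y
  refine surjective_of_isLocalized_maximal _ (fun m _ => (T.map (locMap m X)).hom) _ (fun m _ => (T.map (locMap m Y)).hom)
    _ fun m hm => ?_
  rw [map_eq T hT m f]
  exact h m

end Pre


open CategoryTheory CategoryTheory.Limits in
/-- Let A be a commutative ring and T an additive A-linear endofunctor of the category of A-modules
which preserves filtered colimits. For a maximal ideal m write T_m for T precomposed with
restriction of scalars along A → A_m (a functor from A_m-modules to A-modules). If T_m is left exact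
for every maximal ideal m then T is left exact, and if T_m is right exact for every maximal ideal m
then T is right exact (exactness meaning preservation of finite limits, resp. finite colimits). -/
theorem result {A : Type u} [CommRing A]
    (T : ModuleCat.{u} A ⥤ ModuleCat.{u} A) [T.Additive] [T.Linear A]
    (hT : ∀ (J : Type u) [SmallCategory J] [IsFiltered J], PreservesColimitsOfShape J T) :
    ((∀ (m : Ideal A) [m.IsMaximal],
        PreservesFiniteLimits (ModuleCat.restrictScalars (algebraMap A (Localization.AtPrime m)) ⋙ T)) →
      PreservesFiniteLimits T) ∧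
    ((∀ (m : Ideal A) [m.IsMaximal],
        PreservesFiniteColimits (ModuleCat.restrictScalars (algebraMap A (Localization.AtPrime m)) ⋙ T)) →
      PreservesFiniteColimits T) := by
  refine ⟨fun h => ?_, fun h => ?_⟩
  · refine ((Functor.preservesFiniteLimits_tfae T).out 0 3 :).mp fun S hS => ?_
    have key : ∀ (m : Ideal A) [m.IsMaximal],
        Function.Exact (T.map ((S.map (bcLoc m)).map (resLoc m)).f).hom (T.map ((S.map (bcLoc m)).map (resLoc m)).g).hom ∧
          Function.Injective (T.map ((S.map (bcLoc m)).map (resLoc m)).f).hom := by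
      intro m _
      obtain ⟨h1, h2⟩ := ((Functor.preservesFiniteLimits_tfae (resLoc m ⋙ T)).out 3 0 :).mp (h m) _ (shortExact_bcLoc m hS)
      exact ⟨(ShortComplex.ShortExact.moduleCat_exact_iff_function_exact _).mp h1, (ModuleCat.mono_iff_injective _).mp h2⟩
    refine ⟨(ShortComplex.ShortExact.moduleCat_exact_iff_function_exact _).mpr ?_, (ModuleCat.mono_iff_injective _).mpr ?_⟩
    · exact exact_of_loc T hT _ _ fun m hm => (key m).1
    · exact injective_of_loc T hT _ fun m hm => (key m).2
  · refine ((Functor.preservesFiniteColimits_tfae T).out 0 3 :).mp fun S hS => ?_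
    have key : ∀ (m : Ideal A) [m.IsMaximal],
        Function.Exact (T.map ((S.map (bcLoc m)).map (resLoc m)).f).hom (T.map ((S.map (bcLoc m)).map (resLoc m)).g).hom ∧
          Function.Surjective (T.map ((S.map (bcLoc m)).map (resLoc m)).g).hom := by
      intro m _
      obtain ⟨h1, h2⟩ := ((Functor.preservesFiniteColimits_tfae (resLoc m ⋙ T)).out 3 0 :).mp (h m) _ (shortExact_bcLoc m hS)
      exact ⟨(ShortComplex.ShortExact.moduleCat_exact_iff_function_exact _).mp h1, (ModuleCat.epi_iff_surjective _).mp h2⟩
    refine ⟨(ShortComplex.ShortExact.moduleCat_exact_iff_function_exact _).mpr ?_, (ModuleCat.epi_iff_surjective _).mpr ?_⟩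
    · exact exact_of_loc T hT _ _ fun m hm => (key m).1
    · exact surjective_of_loc T hT _ fun m hm => (key m).2

end Groth.Agent.S4493
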