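import Groth.Statements.S4495
import Mathlib

set_option linter.style.haveILetI false

set_option autoImplicit false
universe u
open FlatCx

namespace Groth.Agent.S4495

open CategoryTheory AlgebraicGeometry Opposite in
/-- A locally ringed space Z is connected, in the sense that it is not the disjoint union of two
nonempty open subsets (the empty space being allowed), if and only if every idempotent of the ring
of global sections Γ(Z, O_Z) is 0 or 1 (equivalently, Γ(Z, O_Z) is not isomorphic to a product of
two nonzero rings). -/
theorem result (Z : LocallyRingedSpace.{u}) :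
    PreconnectedSpace Z ↔
      ∀ e : Z.presheaf.obj (op ⊤), IsIdempotentElem e → e = 0 ∨ e = 1 := by
  let R := Z.toRingedSpace
  constructor
  · intro hc e he
    have hdis : ∀ x, ¬ (IsUnit (Z.presheaf.germ ⊤ x trivial e) ∧ IsUnit (Z.presheaf.germ ⊤ x trivial (1 - e))) := by
      rintro x ⟨h1, h2⟩
      have := (h1.mul h2)
      rw [← map_mul, mul_sub, mul_one, he.eq, sub_self, map_zero] at this
      exact not_isUnit_zero this
    have hcov : ∀ x, IsUnit (Z.presheaf.germ ⊤ x trivial e) ∨ IsUnit (Z.presheaf.germ ⊤ x trivial (1 - e)) := by
      intro x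
      haveI := Z.isLocalRing x
      rw [map_sub, map_one]
      exact IsLocalRing.isUnit_or_isUnit_one_sub_self _
    let U : Set Z.toTopCat := SetLike.coe (R.basicOpen (U := ⊤) e)
    have hU : ∀ x, x ∈ U ↔ IsUnit (Z.presheaf.germ ⊤ x trivial e) := fun x => R.mem_basicOpen e x trivial
    have hUc : Uᶜ = SetLike.coe (R.basicOpen (U := ⊤) (1 - e)) := by
      ext x
      rw [Set.mem_compl_iff, hU]
      refine ⟨fun h => (R.mem_basicOpen (U := ⊤) (1 - e) x trivial).mpr ((hcov x).resolve_left h), fun h h' => ?_⟩
      exact hdis x ⟨h', (R.mem_basicOpen (U := ⊤) (1 - e) x trivial).mp h⟩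
    have hclopen : IsClopen U := ⟨isOpen_compl_iff.mp (hUc ▸ (R.basicOpen (U := ⊤) (1 - e)).isOpen), (R.basicOpen (U := ⊤) e).isOpen⟩
    have hu : ∀ f : Z.presheaf.obj (op ⊤), IsIdempotentElem f →
        (∀ x, IsUnit (Z.presheaf.germ ⊤ x trivial f)) → f = 1 := by
      intro f hf h
      have hunit : IsUnit f := R.isUnit_of_isUnit_germ ⊤ f fun x hx => h x
      exact hunit.mul_left_cancel (hf.eq.trans (mul_one f).symm)
    rcases isClopen_iff.mp hclopen with h | h
    · left
      have := hu (1 - e) he.one_sub fun x => (hcov x).resolve_left fun h' => by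
        have := (hU x).mpr h'
        rw [h] at this
        exact this
      simpa using this
    · right
      exact hu e he fun x => (hU x).mp (h ▸ Set.mem_univ x)
  · intro h
    rw [preconnectedSpace_iff_clopen]
    intro U hU
    let V : Bool → TopologicalSpace.Opens Z.toTopCat := fun b => if b then ⟨U, hU.2⟩ else ⟨Uᶜ, hU.1.isOpen_compl⟩
    obtain ⟨e, he, hu⟩ := Z.toSheafedSpace.sheaf.existsUnique_gluing' V ⊤ (fun b => homOfLE le_top)
      (fun x _ => by
        rw [TopologicalSpace.Opens.mem_iSup]
        by_cases hx : x ∈ U
        · exact ⟨true, hx⟩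
        · exact ⟨false, hx⟩)
      (fun b => if b then 1 else 0) (by
        rintro (_ | _) (_ | _)
        · simp
        all_goals try simp
        all_goals (
          have hempty : ∀ W : TopologicalSpace.Opens Z.toTopCat, (∀ x, x ∉ W) →
              Subsingleton (Z.presheaf.obj (op W)) := fun W hW =>
            ⟨fun a b => TopCat.Presheaf.section_ext Z.toSheafedSpace.sheaf W a b fun x hx => absurd hx (hW x)⟩
          refine (hempty _ fun x hx => ?_).elim _ _
          obtain ⟨h1, h2⟩ := hx
          simp [V] at h1 h2
          tauto))
    have hidem : IsIdempotentElem e := hu (e * e) fun b => by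
      erw [map_mul]
      erw [he b]
      cases b <;> simp
    rcases h e hidem with rfl | rfl
    · left
      by_contra hne
      obtain ⟨x, hx⟩ := Set.nonempty_iff_ne_empty.mpr hne
      have h1 := congrArg (Z.presheaf.germ (V true) x hx) (he true)
      simp only [if_true, map_one] at h1
      erw [map_zero, map_zero] at h1
      haveI := Z.isLocalRing x
      exact zero_ne_one (h1.trans (map_one _))
    · right
      by_contra hne
      obtain ⟨x, hx⟩ := (Set.ne_univ_iff_exists_notMem _).mp hne
      have h1 := congrArg (Z.presheaf.germ (V false) x hx) (he false)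
      simp only [Bool.false_eq_true, if_false, map_zero] at h1
      erw [map_one, map_one] at h1
      haveI := Z.isLocalRing x
      exact one_ne_zero (h1.trans (map_zero _))


end Groth.Agent.S4495
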