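import Groth.Statements.S4498
import Groth.Agent.W7Cech.GlobSec

set_option autoImplicit false
universe u
attribute [local instance] HasDerivedCategory.standard
open Coherent

open CategoryTheory CategoryTheory.Limits AlgebraicGeometry Opposite
namespace Groth.Agent.S4498

/-- The kernel of a natural map between corepresentable functors is corepresentable. -/
theorem kernel_corep {A : Type u} [CommRing A] {G G' : ModuleCat.{u} A ⥤ ModuleCat.{u} A}
    (Q Q' : ModuleCat.{u} A) [Module.Finite A Q] (e : G ≅ (linearCoyoneda A (ModuleCat.{u} A)).obj (op Q))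
    (e' : G' ≅ (linearCoyoneda A (ModuleCat.{u} A)).obj (op Q')) (η : G ⟶ G') :
    ∃ (R : ModuleCat.{u} A) (ι : (linearCoyoneda A (ModuleCat.{u} A)).obj (op R) ⟶ G),
      Module.Finite A R ∧ (∀ M : ModuleCat.{u} A, Function.Injective (ι.app M).hom) ∧
      ∀ (M : ModuleCat.{u} A) (x : G.obj M), (η.app M).hom x = 0 ↔ ∃ y, (ι.app M).hom y = x := by
  let τ := e.inv ≫ η ≫ e'.hom
  let s : Q' ⟶ Q := (τ.app Q).hom (𝟙 Q)
  have hτ : ∀ (M : ModuleCat.{u} A) (v : Q ⟶ M), (τ.app M).hom v = s ≫ v := fun M v => by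
    have h := LinearMap.congr_fun (congrArg ModuleCat.Hom.hom (τ.naturality v)) (𝟙 Q)
    refine Eq.trans ?_ h
    change (τ.app M).hom v = (τ.app M).hom (𝟙 Q ≫ v)
    rw [Category.id_comp]
  let R : ModuleCat.{u} A := ModuleCat.of A ((Q : Type u) ⧸ LinearMap.range s.hom)
  let π : Q ⟶ R := ModuleCat.ofHom (LinearMap.range s.hom).mkQ
  let j := (linearCoyoneda A (ModuleCat.{u} A)).map π.op ≫ e.inv
  have hπ : Function.Surjective π.hom := Submodule.mkQ_surjective _
  have hinv : ∀ M, Function.Injective (e.inv.app M).hom := fun M =>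
    (e.app M).toLinearEquiv.symm.injective
  refine ⟨R, j, inferInstanceAs (Module.Finite A ((Q : Type u) ⧸ _)), fun M a b h => ?_, fun M x => ?_⟩
  · haveI : Epi π := (ModuleCat.epi_iff_surjective π).2 hπ
    exact (cancel_epi π).1 (hinv M h)
  · let v : Q ⟶ M := (e.hom.app M).hom x
    have hx : (e.inv.app M).hom v = x :=
      LinearMap.congr_fun (congrArg ModuleCat.Hom.hom (e.hom_inv_id_app M)) x
    have hτv : (τ.app M).hom v = (e'.hom.app M).hom ((η.app M).hom x) :=
      congrArg (fun z => (e'.hom.app M).hom ((η.app M).hom z)) hx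
    constructor
    · intro h
      have h0 : s ≫ v = 0 := by rw [← hτ, hτv, h, map_zero]; rfl
      refine ⟨ModuleCat.ofHom ((LinearMap.range s.hom).liftQ v.hom (by
        rintro _ ⟨z, rfl⟩
        exact LinearMap.congr_fun (congrArg ModuleCat.Hom.hom h0) z)), ?_⟩
      refine Eq.trans (congrArg (e.inv.app M).hom ?_) hx
      exact ModuleCat.hom_ext (LinearMap.ext fun z => rfl)
    · rintro ⟨y, hy⟩
      have hv : v = π ≫ y := hinv M (hx.trans hy.symm)
      have hsπ : s ≫ π = 0 := ModuleCat.hom_ext (LinearMap.range_mkQ_comp s.hom)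
      have h0 : (e'.hom.app M).hom ((η.app M).hom x) = 0 := by
        rw [← hτv, hτ, hv, ← Category.assoc, hsπ, zero_comp]
        rfl
      exact (e'.app M).toLinearEquiv.injective (h0.trans (map_zero (e'.app M).toLinearEquiv).symm)


open AlgebraicGeometry CategoryTheory Opposite in
/-- The global form over an affine base. Let A be a Noetherian ring, X a proper A-scheme with structure
morphism f, and F, F' coherent O_X-modules flat over Spec A. Let η be a natural transformation from
the functor M ↦ Γ(X, f^*(M~) ⊗ F) to the functor M ↦ Γ(X, f^*(M~) ⊗ F') of the A-module M (the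
published statement takes η induced by a homomorphism F → F'; this row allows any natural
transformation, which is all the argument uses). Then the kernel functor M ↦ Ker(η_M) is
corepresentable by a finitely generated A-module R: there are such an R and a natural transformation
ι : Hom_A(R, −) → Γ(X, f^*(−~) ⊗ F) with injective components whose image at every M is exactly the
kernel of η_M. (R is then unique up to unique isomorphism.) -/
theorem result (A : Type u) [CommRing A]
    [IsNoetherianRing A] (X : Scheme.{u}) [X.Over (Spec (CommRingCat.of A))]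
    [IsProper (X ↘ Spec (CommRingCat.of A))] (F F' : X.Modules) (hF : Coh.IsCoh F) (hF' : Coh.IsCoh F')
    (hfl : FlatMod.IsFlatOver (X ↘ Spec (CommRingCat.of A)) F)
    (hfl' : FlatMod.IsFlatOver (X ↘ Spec (CommRingCat.of A)) F')
    (η : CohIII.tensorAFunctor A F ⋙ CohIII.globalSectionsA A ⟶ CohIII.tensorAFunctor A F' ⋙ CohIII.globalSectionsA A) :
    ∃ (R : ModuleCat.{u} A) (ι : (linearCoyoneda A (ModuleCat.{u} A)).obj (op R) ⟶
        CohIII.tensorAFunctor A F ⋙ CohIII.globalSectionsA A),
      Module.Finite A R ∧ (∀ M : ModuleCat.{u} A, Function.Injective (ι.app M).hom) ∧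
        ∀ (M : ModuleCat.{u} A) (x : (CohIII.tensorAFunctor A F ⋙ CohIII.globalSectionsA A).obj M),
          (η.app M).hom x = 0 ↔ ∃ y, (ι.app M).hom y = x := by
  obtain ⟨L, hL, ⟨e⟩, hm⟩ := Groth.Agent.W7Cech.exists_globalSections_model A F hF hfl
  obtain ⟨L', hL', ⟨e'⟩, hm'⟩ := Groth.Agent.W7Cech.exists_globalSections_model A F' hF' hfl'
  obtain ⟨Q, hQ, ⟨q⟩⟩ := (Groth.Agent.W7Cech.preservesMono_iff_corep L
    (fun i => ⟨(hL i).1, haveI := (hL i).2; inferInstance⟩) 0).1 hm
  obtain ⟨Q', hQ', ⟨q'⟩⟩ := (Groth.Agent.W7Cech.preservesMono_iff_corep L'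
    (fun i => ⟨(hL' i).1, haveI := (hL' i).2; inferInstance⟩) 0).1 hm'
  exact Groth.Agent.S4498.kernel_corep Q Q' (e ≪≫ q) (e' ≪≫ q') η

end Groth.Agent.S4498
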