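import Groth.Statements.S4499
import Mathlib
import Groth.Agent.TorFlatPres.Basic
import Groth.Agent.TorBalance.LESFlip

set_option linter.style.haveILetI false

set_option autoImplicit false
universe u
attribute [local instance] HasDerivedCategory.standard
open FlatCx

namespace Groth.Agent.S4499

/-- Let A be a Noetherian local ring with residue field k, and d : P₁ → P₀ an A-linear map between flat
A-modules, viewed as a two-term chain complex, so that H₁ = Ker d, H₀ = Coker d and H₁ of the
complex tensored with k is Ker(d ⊗ 1_k). Let α : (Ker d) ⊗_A k → P₁ ⊗_A k be the map induced by the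
inclusion Ker d → P₁; its image lies in Ker(d ⊗ 1_k). Then there is an exact sequence 0 →
Tor₂^A(Coker d, k) → (Ker d) ⊗_A k → Ker(d ⊗ 1_k) → Tor₁^A(Coker d, k) → 0 with middle map α, stated
here as: Ker α is isomorphic to Tor₂^A(Coker d, k), and the quotient of Ker(d ⊗ 1_k) by the image of
α is isomorphic to Tor₁^A(Coker d, k) (existence of A-linear isomorphisms only; Tor is Mathlib's,
left derived in the second variable). (In the published statement the cokernel is printed without
its prime, as the module of 0-cycles; the proof is about the cokernel of d.) -/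
theorem result {A : Type u} [CommRing A] [IsNoetherianRing A]
    [IsLocalRing A] {P₁ P₀ : Type u} [AddCommGroup P₁] [Module A P₁] [AddCommGroup P₀] [Module A P₀]
    [Module.Flat A P₁] [Module.Flat A P₀] (d : P₁ →ₗ[A] P₀) :
    Nonempty (LinearMap.ker ((LinearMap.ker d).subtype.rTensor (IsLocalRing.ResidueField A)) ≃ₗ[A]
        DRing.Tor A 2 (P₀ ⧸ LinearMap.range d) (IsLocalRing.ResidueField A)) ∧
      LinearMap.range ((LinearMap.ker d).subtype.rTensor (IsLocalRing.ResidueField A)) ≤
        LinearMap.ker (d.rTensor (IsLocalRing.ResidueField A)) ∧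
      Nonempty ((↥(LinearMap.ker (d.rTensor (IsLocalRing.ResidueField A))) ⧸
          Submodule.comap (LinearMap.ker (d.rTensor (IsLocalRing.ResidueField A))).subtype
            (LinearMap.range ((LinearMap.ker d).subtype.rTensor (IsLocalRing.ResidueField A)))) ≃ₗ[A]
        DRing.Tor A 1 (P₀ ⧸ LinearMap.range d) (IsLocalRing.ResidueField A)) := by
  let k := IsLocalRing.ResidueField A
  let B := LinearMap.range d
  let dr : P₁ →ₗ[A] B := d.rangeRestrict
  have hexK : Function.Exact (LinearMap.ker d).subtype dr := fun x => by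
    simp [dr, Subtype.ext_iff, LinearMap.mem_ker]
  have hle : LinearMap.range ((LinearMap.ker d).subtype.rTensor k) ≤ LinearMap.ker (d.rTensor k) := by
    rintro _ ⟨y, rfl⟩
    rw [LinearMap.mem_ker, ← LinearMap.comp_apply, ← LinearMap.rTensor_comp, d.comp_ker_subtype,
      LinearMap.rTensor_zero, LinearMap.zero_apply]
  obtain ⟨e₁⟩ := TorFlatPres.nonempty_tor_one (M := k) (Submodule.injective_subtype (LinearMap.ker d)) hexK
    d.surjective_rangeRestrict
  obtain ⟨e₀⟩ := TorFlatPres.nonempty_tor_one (M := k) (Submodule.injective_subtype B)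
    (LinearMap.exact_subtype_mkQ B) B.mkQ_surjective
  have hS : (CategoryTheory.ShortComplex.mk (ModuleCat.ofHom B.subtype) (ModuleCat.ofHom B.mkQ)
      (by ext x; exact (Submodule.Quotient.mk_eq_zero _).2 x.2)).ShortExact :=
    { exact := (CategoryTheory.ShortComplex.ShortExact.moduleCat_exact_iff_function_exact _).2 (LinearMap.exact_subtype_mkQ B)
      mono_f := (ModuleCat.mono_iff_injective _).2 Subtype.val_injective
      epi_g := (ModuleCat.epi_iff_surjective _).2 B.mkQ_surjective }
  obtain ⟨δ, w₁, w₂, h₁, h₂⟩ := (TorBalance.exists_les_flip hS (ModuleCat.of A k) 1).2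
  have hδ : Function.Bijective δ.hom := ⟨
    (ModuleCat.mono_iff_injective _).1
      (h₁.mono_g ((TorBalance.isZero_flat (ModuleCat.of A P₀) (ModuleCat.of A k) 1).eq_of_src _ _)),
    (ModuleCat.epi_iff_surjective _).1
      (h₂.epi_f ((TorBalance.isZero_flat (ModuleCat.of A P₀) (ModuleCat.of A k) 0).eq_of_tgt _ _))⟩
  let eδ : DRing.Tor A 2 (P₀ ⧸ B) k ≃ₗ[A] DRing.Tor A 1 B k := LinearEquiv.ofBijective δ.hom hδ
  refine ⟨⟨e₁.symm.trans eδ.symm⟩, hle, ?_⟩
  have hcomp : B.subtype.rTensor k ∘ₗ dr.rTensor k = d.rTensor k := by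
    rw [← LinearMap.rTensor_comp]
    rfl
  let q : LinearMap.ker (d.rTensor k) →ₗ[A] LinearMap.ker (B.subtype.rTensor k) :=
    (dr.rTensor k).restrict fun z hz => by
      rw [LinearMap.mem_ker, ← LinearMap.comp_apply, hcomp]
      exact hz
  have hsurj : Function.Surjective q := fun y => by
    obtain ⟨z, hz⟩ := LinearMap.rTensor_surjective k d.surjective_rangeRestrict y.1
    refine ⟨⟨z, ?_⟩, Subtype.ext hz⟩
    rw [LinearMap.mem_ker, ← hcomp, LinearMap.comp_apply, hz]
    exact y.2
  have hker : Submodule.comap (LinearMap.ker (d.rTensor k)).subtype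
      (LinearMap.range ((LinearMap.ker d).subtype.rTensor k)) = LinearMap.ker q := by
    ext z
    rw [Submodule.mem_comap, LinearMap.mem_range, LinearMap.mem_ker, ← Submodule.coe_eq_zero]
    exact ((rTensor_exact k hexK d.surjective_rangeRestrict) z.1).symm
  let e' := LinearMap.quotKerEquivOfSurjective (R := A) (M := LinearMap.ker (d.rTensor k))
    (M₂ := LinearMap.ker (B.subtype.rTensor k)) q hsurj
  let e'' := Submodule.quotEquivOfEq (R := A) (M := LinearMap.ker (d.rTensor k)) _ _ hker
  exact ⟨e''.trans (e'.trans e₀.symm)⟩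

end Groth.Agent.S4499
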