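import Groth.Statements.S4501
import Groth.Agent.FlatCx.ExactLocus

set_option autoImplicit false
universe u
open FlatCx

namespace Groth.Agent.S4501

open CategoryTheory CategoryTheory.Limits in
/-- The case of finitely generated flat terms. Let A be a Noetherian domain, P a chain complex of
finitely generated flat A-modules, and for a prime y of A let P_y be the base change of P to the
local ring A_y. Then the set U of points y of Spec A such that the functor N ↦ H_p(P_y ⊗_{A_y} N) on
A_y-modules takes injections to injections and surjections to surjections is open and nonempty (it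
contains the generic point). -/
theorem result {A : Type u} [CommRing A] [IsNoetherianRing A] [IsDomain A]
    (P : ChainComplex (ModuleCat.{u} A) ℤ) (hP : ∀ i, Module.Finite A (P.X i) ∧ Module.Flat A (P.X i))
    (p : ℤ) :
    IsOpen {y : PrimeSpectrum A |
        (CohIII.TFun (CohIII.bcCx (algebraMap A (Localization.AtPrime y.asIdeal)) P) p).PreservesMonomorphisms ∧
          (CohIII.TFun (CohIII.bcCx (algebraMap A (Localization.AtPrime y.asIdeal)) P) p).PreservesEpimorphisms} ∧
      {y : PrimeSpectrum A |
        (CohIII.TFun (CohIII.bcCx (algebraMap A (Localization.AtPrime y.asIdeal)) P) p).PreservesMonomorphisms ∧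
          (CohIII.TFun (CohIII.bcCx (algebraMap A (Localization.AtPrime y.asIdeal)) P) p).PreservesEpimorphisms}.Nonempty := by
  haveI := fun i => (hP i).1
  haveI : ∀ i j, Module.FinitePresentation A (Groth.Agent.FlatCx.Opc P i j) := fun i j =>
    Module.finitePresentation_of_finite A _
  have e : {y : PrimeSpectrum A |
      (CohIII.TFun (CohIII.bcCx (algebraMap A (Localization.AtPrime y.asIdeal)) P) p).PreservesMonomorphisms ∧
      (CohIII.TFun (CohIII.bcCx (algebraMap A (Localization.AtPrime y.asIdeal)) P) p).PreservesEpimorphisms} =
      Module.freeLocus A (Groth.Agent.FlatCx.Opc P ((ComplexShape.down ℤ).prev p) p) ∩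
      Module.freeLocus A (Groth.Agent.FlatCx.Opc P p ((ComplexShape.down ℤ).next p)) :=
    Set.ext fun y => and_congr (Groth.Agent.FlatCx.preservesMono_localization_iff P hP p y)
      (Groth.Agent.FlatCx.preservesEpi_localization_iff P hP p
      (Groth.Agent.FlatCx.down_prev_next p) y)
  rw [e]
  exact ⟨Module.isOpen_freeLocus.inter Module.isOpen_freeLocus, ⟨⊥, Ideal.isPrime_bot⟩,
    Groth.Agent.FlatCx.bot_mem_freeLocus _, Groth.Agent.FlatCx.bot_mem_freeLocus _⟩

end Groth.Agent.S4501
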