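import Groth.Statements.S4505
import Groth.Agent.W7Cech.Functor
import Groth.Agent.FlatCx.EventualLength

set_option autoImplicit false
universe u
attribute [local instance] HasDerivedCategory.standard
open Coherent

namespace Groth.Agent.S4505

open AlgebraicGeometry CategoryTheory in
/-- (b) ⇔ (c), for a complex reduced to one sheaf and a local base (so that the point y is the closed
point and O_y = A). Let A be a Noetherian local ring with maximal ideal m and residue field k, X a
proper A-scheme with structure morphism f, F a coherent O_X-module flat over Spec A, and write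
T^p(M) = H^p(X, f^*(M~) ⊗ F) for an A-module M. Then the functor T^p takes injections to injections
and surjections to surjections (F is cohomologically flat in degree p) if and only if there is n₀
such that for every n ≥ n₀ one has length_A T^p(A/m^(n+1)) = length_A T^p(k) · length_A (A/m^(n+1))
(lengths of A-modules, valued in ℕ∞; all are finite here). -/
theorem result (A : Type u) [CommRing A]
    [IsNoetherianRing A] [IsLocalRing A] (X : Scheme.{u}) [X.Over (Spec (CommRingCat.of A))]
    [IsProper (X ↘ Spec (CommRingCat.of A))] (F : X.Modules) (hF : Coh.IsCoh F)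
    (hfl : FlatMod.IsFlatOver (X ↘ Spec (CommRingCat.of A)) F) (p : ℕ) :
    ((CohIII.tensorAFunctor A F ⋙ CohIII.HAb X p).PreservesMonomorphisms ∧
        (CohIII.tensorAFunctor A F ⋙ CohIII.HAb X p).PreservesEpimorphisms) ↔
      ∃ n₀ : ℕ, ∀ n : ℕ, n₀ ≤ n →
        Module.length A (Coh.HH X ((CohIII.tensorAFunctor A F).obj
            (ModuleCat.of A (A ⧸ IsLocalRing.maximalIdeal A ^ (n + 1)))) p) =
          Module.length A (Coh.HH X ((CohIII.tensorAFunctor A F).obj
              (ModuleCat.of A (IsLocalRing.ResidueField A))) p) *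
            Module.length A (A ⧸ IsLocalRing.maximalIdeal A ^ (n + 1)) := by
  obtain ⟨L, b, hLf, -, -, he⟩ := Groth.Agent.W7Cech.exists_approx A F hF hfl
  obtain ⟨e, hn⟩ := he p
  have hL := Groth.Agent.W7Cech.flat_of_free A hLf
  let i : CohIII.tensorAFunctor A F ⋙ CohIII.HAb X p ≅
      CohIII.TFun L (p : ℤ) ⋙ forget₂ (ModuleCat.{u} A) AddCommGrpCat.{u} :=
    NatIso.ofComponents (fun M => (e M).symm.toAddEquiv.toAddCommGrpIso) fun {M N} g => by
      refine ConcreteCategory.hom_ext _ _ fun x => ?_
      obtain ⟨y, rfl⟩ := (e M).surjective x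
      change (e N).symm (Sheaf.H.map ((SheafOfModules.toSheaf _).map ((CohIII.tensorAFunctor A F).map g)) p (e M y)) =
        ((CohIII.TFun L (p : ℤ)).map g).hom ((e M).symm (e M y))
      rw [← hn, LinearEquiv.symm_apply_apply, LinearEquiv.symm_apply_apply]
  rw [Functor.PreservesMonomorphisms.iso_iff i, Functor.PreservesEpimorphisms.iso_iff i,
    Groth.Agent.W7Cech.preservesEpi_comp_forget_iff A, Groth.Agent.W7Cech.preservesMono_comp_forget_iff A]
  have hlen : ∀ M : ModuleCat.{u} A,
      Module.length A (Coh.HH X ((CohIII.tensorAFunctor A F).obj M) p) =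
        Module.length A (CohIII.T L (p : ℤ) M) := fun M => (e M).symm.length_eq
  simp only [hlen]
  constructor
  · rintro ⟨hm, he'⟩
    exact ⟨0, fun n _ => (Groth.Agent.FlatCx.T_length_le_mul L (p : ℤ) (fun m => (hL m).2)
      (Groth.Agent.FlatCx.isFiniteLength_quot_pow n)).2 hm he'⟩
  · rintro ⟨n₀, h⟩
    exact Groth.Agent.FlatCx.exact_of_eventually_length_eq L (p : ℤ) hL
      (i := (p : ℤ) - 1) (k := (p : ℤ) + 1) (l := (p : ℤ) + 2) (by simp) (by simp) (by simp)
      (by rw [CochainComplex.next]; ring) n₀ h

end Groth.Agent.S4505
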