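import Groth.Statements.S4506
import Groth.Agent.W7Cech.Grauert
import Groth.Agent.W7Cech.Functor
import Groth.Agent.FlatCx.ArtinRees

set_option autoImplicit false
universe u
attribute [local instance] HasDerivedCategory.standard
open Coherent

open CategoryTheory CategoryTheory.Limits AlgebraicGeometry
set_option backward.isDefEq.respectTransparency false
namespace Groth.Agent.S4506

open AlgebraicGeometry CategoryTheory in
/-- (a) ⇔ (c) (local criterion for the exchange property), for a complex reduced to one sheaf over a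
local base. Let A be a Noetherian local ring with maximal ideal m and residue field k, X a proper
A-scheme with structure morphism f, F a coherent O_X-module flat over Spec A, and T^p(M) = H^p(X,
f^*(M~) ⊗ F). Then T^p takes surjections to surjections if and only if, for every n, the map
T^p(A/m^(n+1)) → T^p(A/m) induced by the projection A/m^(n+1) → A/m = k is surjective. -/
theorem result (A : Type u) [CommRing A]
    [IsNoetherianRing A] [IsLocalRing A] (X : Scheme.{u}) [X.Over (Spec (CommRingCat.of A))]
    [IsProper (X ↘ Spec (CommRingCat.of A))] (F : X.Modules) (hF : Coh.IsCoh F)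
    (hfl : FlatMod.IsFlatOver (X ↘ Spec (CommRingCat.of A)) F) (p : ℕ) :
    (CohIII.tensorAFunctor A F ⋙ CohIII.HAb X p).PreservesEpimorphisms ↔
      ∀ n : ℕ, Function.Surjective ((CohIII.tensorAFunctor A F ⋙ CohIII.HAb X p).map (ModuleCat.ofHom
        (Ideal.Quotient.factorₐ A (Ideal.pow_le_self (I := IsLocalRing.maximalIdeal A)
          (Nat.succ_ne_zero n))).toLinearMap :
        ModuleCat.of A (A ⧸ IsLocalRing.maximalIdeal A ^ (n + 1)) ⟶
          ModuleCat.of A (A ⧸ IsLocalRing.maximalIdeal A))).hom := by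
  obtain ⟨L, b, hLf, hLb, -, he⟩ := Groth.Agent.W7Cech.exists_natIso A F hF hfl
  obtain ⟨e⟩ := he p
  rw [Functor.PreservesEpimorphisms.iso_iff e, Groth.Agent.W7Cech.preservesEpi_comp_forget_iff]
  have hP := Groth.Agent.W7Cech.flat_of_free A hLf
  have hk := Groth.Agent.W7Cech.up_prev_next (p : ℤ)
  have key : ∀ {M N : ModuleCat.{u} A} (g : M ⟶ N),
      Function.Surjective ((CohIII.tensorAFunctor A F ⋙ CohIII.HAb X p).map g).hom ↔
        Groth.Agent.FlatCx.SurjAt L ((ComplexShape.up ℤ).prev (p : ℤ)) (p : ℤ) ((ComplexShape.up ℤ).next (p : ℤ)) g.hom := by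
    intro M N g
    rw [← Groth.Agent.FlatCx.TFun_map_surjective_iff rfl rfl]
    have h1 : Epi ((CohIII.tensorAFunctor A F ⋙ CohIII.HAb X p).map g) ↔
        Epi ((CohIII.TFun L (p : ℤ) ⋙ forget₂ (ModuleCat.{u} A) AddCommGrpCat.{u}).map g) :=
      (MorphismProperty.epimorphisms AddCommGrpCat.{u}).arrow_mk_iso_iff
        (Arrow.isoMk (e.app _) (e.app _) (e.hom.naturality g).symm)
    rw [AddCommGrpCat.epi_iff_surjective, AddCommGrpCat.epi_iff_surjective] at h1
    exact h1
  refine ⟨fun h n => (key _).2 (Groth.Agent.FlatCx.surjAt_factor_of_epi h rfl rfl _ n), fun h => ?_⟩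
  refine (Groth.Agent.FlatCx.preservesEpi_iff_surjective_residue hP rfl rfl hk rfl).2 ?_
  rw [Groth.Agent.FlatCx.TFun_map_surjective_iff rfl rfl]
  exact Groth.Agent.FlatCx.surjAt_quot_of_eventually (fun i => (hP i).1) _ 0 fun n _ => (key _).1 (h n)

end Groth.Agent.S4506
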