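import Groth.Statements.S4510
import Groth.Agent.W7Hull.EtEpi
import Groth.Agent.W7Hull.EtaleFunctions
import Groth.Agent.W7Cech.Functor
import Groth.Agent.SchDense.Unit
import Groth.Agent.Devissage.Piece

set_option autoImplicit false
universe u
attribute [local instance] HasDerivedCategory.standard
open Coherent
open Groth.Agent
open CategoryTheory CategoryTheory.Limits AlgebraicGeometry
set_option backward.isDefEq.respectTransparency false
set_option backward.isDefEq.respectTransparency.types false
set_option linter.style.haveILetI false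
set_option maxHeartbeats 2000000

namespace Groth.Agent.S4510

open AlgebraicGeometry CategoryTheory CategoryTheory.Limits in
/-- Over a local base (so that the point y is the closed point and cohomological flatness at y is
exactness of T^A_0). Let A be a Noetherian local ring with maximal ideal m, X a proper and flat
A-scheme with structure morphism f, y the closed point of Spec A (the point whose prime ideal is m),
and suppose that the ring of global functions Γ(X_y, O_{X_y}) of the closed fibre is an étale
k(y)-algebra (a finite product of finite separable extensions of k(y)). Then O_X is cohomologically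
flat over Spec A in degree 0: the functor M ↦ H^0(X, f^*(M~) ⊗ O_X) of the A-module M takes
injections to injections and surjections to surjections. -/
theorem result (A : Type u) [CommRing A]
    [IsNoetherianRing A] [IsLocalRing A] (X : Scheme.{u}) [X.Over (Spec (CommRingCat.of A))]
    [IsProper (X ↘ Spec (CommRingCat.of A))] [Flat (X ↘ Spec (CommRingCat.of A))]
    (y : ↥(Spec (CommRingCat.of A))) (hy : y.asIdeal = IsLocalRing.maximalIdeal A)
    (het : Algebra.Etale ((Spec (CommRingCat.of A)).residueField y)
      Γ((X ↘ Spec (CommRingCat.of A)).fiber y, ⊤)) :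
    (CohIII.tensorAFunctor A (Coh.structureModule X) ⋙ CohIII.HAb X 0).PreservesMonomorphisms ∧
      (CohIII.tensorAFunctor A (Coh.structureModule X) ⋙ CohIII.HAb X 0).PreservesEpimorphisms := by
  let f := X ↘ Spec (CommRingCat.of A)
  let O := Coh.structureModule X
  have hF : Coh.IsCoh O := Devissage.isCoh_unit X
  have hfl : FlatMod.IsFlatOver f O := SchDense.isFlatOver_unit f
  obtain ⟨L, hL, ⟨e⟩, hm⟩ := W7Cech.exists_globalSections_model A O hF hfl
  let F₂ := forget₂ (ModuleCat.{u} A) AddCommGrpCat.{u}
  let i : CohIII.tensorAFunctor A O ⋙ CohIII.HAb X 0 ≅ CohIII.TFun L 0 ⋙ F₂ :=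
    (NatIso.ofComponents (fun M => (W7Cech.gsH0 A _).toAddCommGrpIso)
      (fun {M N} g => ConcreteCategory.hom_ext _ _ fun x => W7Cech.gsH0_natural A _ x) :
      (CohIII.tensorAFunctor A O ⋙ CohIII.globalSectionsA A) ⋙ F₂ ≅
        CohIII.tensorAFunctor A O ⋙ CohIII.HAb X 0).symm ≪≫ Functor.isoWhiskerRight e F₂
  rw [Functor.PreservesMonomorphisms.iso_iff i, Functor.PreservesEpimorphisms.iso_iff i]
  haveI := hm
  refine ⟨inferInstance, ?_⟩
  rw [W7Cech.preservesEpi_comp_forget_iff]
  -- the functions of the closed fibre lift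
  let g := Spec.map (W7Cech.resMap A y)
  let κ := (Spec (CommRingCat.of A)).residueField y
  have sq : IsPullback (f.fiberι y) (f.fiberToSpecResidueField y) f g := by
    show IsPullback _ _ _ (Spec.map _)
    rw [W7Cech.SpecMap_resMap]
    exact IsPullback.of_hasPullback f _
  letI : Algebra κ Γ(f.fiber y, ⊤) :=
    ((Scheme.ΓSpecIso κ).inv ≫ (f.fiberToSpecResidueField y).appTop).hom.toAlgebra
  have hadj := W7Hull.adjoin_range_eq_top (R := A) (κ := κ) f g sq het
  have hS : Function.Surjective (f.fiberι y).appTop.hom := by
    intro c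
    have hc : c ∈ Algebra.adjoin κ (Set.range (f.fiberι y).appTop.hom) := by rw [hadj]; exact trivial
    induction hc using Algebra.adjoin_induction with
    | mem x hx => exact hx
    | algebraMap r =>
      obtain ⟨a, rfl⟩ := W7Hull.surjective_resMap A y hy r
      refine ⟨((Scheme.ΓSpecIso (CommRingCat.of A)).inv ≫ f.appTop).hom a, ?_⟩
      have h1 : (Scheme.ΓSpecIso (CommRingCat.of A)).inv ≫ f.appTop ≫ (f.fiberι y).appTop =
          W7Cech.resMap A y ≫ (Scheme.ΓSpecIso κ).inv ≫ (f.fiberToSpecResidueField y).appTop := by
        rw [← Scheme.Hom.comp_appTop, sq.w, Scheme.Hom.comp_appTop, ← Category.assoc,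
          ← Scheme.ΓSpecIso_inv_naturality, Category.assoc]
      exact congr($(h1).hom a)
    | add a b _ _ ha hb =>
      obtain ⟨a, rfl⟩ := ha
      obtain ⟨b, rfl⟩ := hb
      exact ⟨a + b, map_add _ a b⟩
    | mul a b _ _ ha hb =>
      obtain ⟨a, rfl⟩ := ha
      obtain ⟨b, rfl⟩ := hb
      exact ⟨a * b, map_mul _ a b⟩
  have hP : ∀ m, Module.Finite A (L.X m) ∧ Module.Flat A (L.X m) :=
    fun m => ⟨(hL m).1, haveI := (hL m).2; inferInstance⟩
  refine (FlatCx.preservesEpi_iff_surjective_residue hP rfl rfl (W7Cech.up_prev_next (0 : ℤ)) rfl).2 ?_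
  intro z
  obtain ⟨x, hx⟩ := W7Hull.surjective_map_toResidue A y hy hS ((e.inv.app _).hom z)
  refine ⟨(e.hom.app _).hom x, ?_⟩
  refine (congr($(e.hom.naturality (FlatCx.toResidue A)).hom x)).symm.trans ?_
  refine (congrArg (e.hom.app _).hom hx).trans ?_
  exact congr($(e.inv_hom_id_app _).hom z)

end Groth.Agent.S4510
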