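import Groth.Statements.S4511
import Groth.Agent.Cohen.Structure
import Groth.Agent.ArtPow.Basic
import Mathlib

set_option autoImplicit false
universe u
open EGA41

namespace Groth.Agent.S4511

open IsLocalRing in
/-- Let A be a complete Noetherian local ring whose residue field has characteristic p (p = 0 allowed).
The following are equivalent: (a) A contains a field, i.e. there is a ring homomorphism from a field
into A; (b) p·1 = 0 in A; (c) A is isomorphic to a quotient of a power series ring K[[T_1, …, T_n]]
over a field K. Moreover, when they hold, the surjection in (c) may be chosen with kernel contained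
in the square of the maximal ideal of K[[T_1, …, T_n]]. -/
theorem result (A : Type u) [CommRing A] [IsLocalRing A] [IsNoetherianRing A]
    [IsAdicComplete (maximalIdeal A) A] (p : ℕ) [CharP (ResidueField A) p] :
    [∃ (K : Type u) (_ : Field K), Nonempty (K →+* A),
     (p : A) = 0,
     ∃ (K : Type u) (_ : Field K) (n : ℕ) (f : MvPowerSeries (Fin n) K →+* A), Function.Surjective f].TFAE ∧
    ((p : A) = 0 → ∃ (K : Type u) (_ : Field K) (n : ℕ) (f : MvPowerSeries (Fin n) K →+* A),
      Function.Surjective f ∧ RingHom.ker f ≤ maximalIdeal (MvPowerSeries (Fin n) K) ^ 2) := by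
  have main : (p : A) = 0 → ∃ (K : Type u) (_ : Field K) (n : ℕ) (f : MvPowerSeries (Fin n) K →+* A),
      Function.Surjective f ∧ RingHom.ker f ≤ maximalIdeal (MvPowerSeries (Fin n) K) ^ 2 := by
    intro hp
    -- a coefficient field
    obtain ⟨K, hK, h, hh⟩ : ∃ (K : Type u) (_ : Field K) (h : K →+* A),
        Function.Surjective ((residue A).comp h) := by
      obtain ⟨Λ, hΛi, hΛ, g, hg⟩ := Groth.Agent.Cohen.exists_coefficients A
      rcases hΛ with hf | ⟨_, _, -, q, hq, hmax⟩
      · exact ⟨Λ, hf.toField, g, hg⟩
      · have hker : RingHom.ker ((residue A).comp g) = maximalIdeal Λ :=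
          eq_maximalIdeal (RingHom.ker_isMaximal_of_surjective _ hg)
        have hqk : ((q : ℕ) : ResidueField A) = 0 := by
          have h1 : (q : Λ) ∈ maximalIdeal Λ := hmax ▸ Ideal.mem_span_singleton_self _
          rw [← hker, RingHom.mem_ker] at h1
          rwa [map_natCast] at h1
        have hpq : p = q := ((Nat.dvd_prime hq).mp ((CharP.cast_eq_zero_iff _ p q).mp hqk)).resolve_left
          (CharP.char_ne_one (ResidueField A) p)
        have hle : maximalIdeal Λ ≤ RingHom.ker g := by
          rw [hmax, Ideal.span_le, Set.singleton_subset_iff, SetLike.mem_coe, RingHom.mem_ker, map_natCast,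
            ← hpq]
          exact hp
        refine ⟨Λ ⧸ maximalIdeal Λ, Ideal.Quotient.field _,
          Ideal.Quotient.lift _ g (fun a ha => hle ha), fun a => ?_⟩
        obtain ⟨b, hb⟩ := hg a
        exact ⟨Ideal.Quotient.mk _ b, hb⟩
    letI := hK
    letI := h.toAlgebra
    let b := Module.finBasis (ResidueField A) (CotangentSpace A)
    choose w hw using fun i => Ideal.toCotangent_surjective (maximalIdeal A) (b i)
    obtain ⟨ψ, hψ⟩ := Groth.Agent.ArtKit.exists_evalAdic (R := K) (maximalIdeal A) (fun i => (w i : A))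
      (fun i => (w i).2)
    let I : Ideal (MvPowerSeries (Fin (Module.finrank (ResidueField A) (CotangentSpace A))) K) :=
      Ideal.span (Set.range MvPowerSeries.X)
    have hspan : Submodule.span A (Set.range w) = ⊤ := by
      rw [← IsLocalRing.CotangentSpace.span_image_eq_top_iff, ← Set.range_comp,
        show ⇑(maximalIdeal A).toCotangent ∘ w = b from funext hw]
      exact b.span_eq
    have hI : I.map ψ.toRingHom = maximalIdeal A := by
      rw [Ideal.map_span, ← Set.range_comp,
        show ψ.toRingHom ∘ MvPowerSeries.X = (maximalIdeal A).subtype ∘ w from funext hψ,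
        Set.range_comp, ← Ideal.submodule_span_eq, ← Submodule.map_span, hspan, Submodule.map_top,
        Submodule.range_subtype]
    haveI : IsAdicComplete I (MvPowerSeries (Fin (Module.finrank (ResidueField A) (CotangentSpace A))) K) :=
      inferInstance
    haveI : IsHausdorff (I.map ψ.toRingHom) A := by rw [hI]; infer_instance
    have hsurj : Function.Surjective ψ.toRingHom := by
      refine surjective_of_mk_map_comp_surjective (I := I) ψ.toRingHom fun z => ?_
      obtain ⟨z, rfl⟩ := Ideal.Quotient.mk_surjective z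
      obtain ⟨c, hc⟩ := hh (residue A z)
      refine ⟨algebraMap K _ c, ?_⟩
      rw [RingHom.comp_apply, AlgHom.toRingHom_eq_coe, RingHom.coe_coe, AlgHom.commutes, Ideal.Quotient.eq]
      have hc' : h c - z ∈ maximalIdeal A := Ideal.Quotient.eq.mp hc
      show h c - z ∈ I.map ψ.toRingHom
      rw [hI]; exact hc'
    refine ⟨K, hK, _, ψ.toRingHom, hsurj, fun f hf => ?_⟩
    haveI : IsLocalHom ψ.toRingHom := hsurj.isLocalHom
    have hIm : I = maximalIdeal _ := Groth.Agent.ArtPow.span_X_eq_maximalIdeal
    have hfm : f ∈ I := by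
      rw [hIm, mem_maximalIdeal, mem_nonunits_iff]
      intro hu
      exact not_isUnit_zero ((RingHom.mem_ker.mp hf) ▸ hu.map ψ.toRingHom : IsUnit (0 : A))
    obtain ⟨c, rfl⟩ := (Submodule.mem_span_range_iff_exists_fun _).mp hfm
    have h0 : ∑ i, ψ.toRingHom (c i) • w i = 0 := by
      apply Subtype.ext
      rw [AddSubmonoidClass.coe_finsetSum, ZeroMemClass.coe_zero, ← RingHom.mem_ker.mp hf, map_sum]
      refine Finset.sum_congr rfl fun i _ => ?_
      rw [Submodule.coe_smul_of_tower, smul_eq_mul, smul_eq_mul, map_mul, ← hψ i]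
      rfl
    have h1 : ∑ i, residue A (ψ.toRingHom (c i)) • b i = 0 := by
      rw [← map_zero (maximalIdeal A).toCotangent, ← h0, map_sum]
      refine Finset.sum_congr rfl fun i _ => ?_
      rw [map_smul, hw]
      exact IsScalarTower.algebraMap_smul (ResidueField A) (ψ.toRingHom (c i)) (b i)
    refine sum_mem fun i _ => ?_
    rw [smul_eq_mul, pow_two]
    refine Ideal.mul_mem_mul ?_ (hIm ▸ Ideal.subset_span ⟨i, rfl⟩)
    rw [mem_maximalIdeal, mem_nonunits_iff]
    intro hu
    exact (residue_eq_zero_iff _).mp (Fintype.linearIndependent_iff.mp b.linearIndependent _ h1 i)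
      (hu.map ψ.toRingHom)
  refine ⟨?_, main⟩
  tfae_have 1 → 2 := by
    rintro ⟨K, hK, ⟨h⟩⟩
    haveI : CharP K p := RingHom.charP ((residue A).comp h) ((residue A).comp h).injective p
    rw [← map_natCast h, CharP.cast_eq_zero, map_zero]
  tfae_have 2 → 3 := fun hp => by
    obtain ⟨K, hK, n, f, hf, -⟩ := main hp
    exact ⟨K, hK, n, f, hf⟩
  tfae_have 3 → 1 := by
    rintro ⟨K, hK, n, f, -⟩
    exact ⟨K, hK, ⟨f.comp MvPowerSeries.C⟩⟩
  tfae_finish

end Groth.Agent.S4511
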