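import Groth.Statements.S4513
-- import your own Groth.Agent.* helpers here
import Groth.Agent.EGA41Adic.Field

set_option autoImplicit false
universe u
open EGA41

namespace Groth.Agent.S4513

open IsLocalRing in
/-- Let A be a Noetherian local ring and k a field mapping to A such that A is formally smooth over k
for the adic topology of its maximal ideal (k discrete). Then every field K with k → K → A
(compatible ring maps) is a separable extension of k, i.e. K is geometrically reduced over k. -/
theorem result {k A K : Type u} [Field k] [CommRing A]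
    [IsLocalRing A] [IsNoetherianRing A] [Algebra k A] (h : CAlgX.IsAdicFormallySmooth k A (maximalIdeal A))
    [Field K] [Algebra k K] [Algebra K A] [IsScalarTower k K A] :
    Algebra.IsGeometricallyReduced k K := by
  classical
  obtain ⟨-, hind⟩ := Groth.Agent.EGA41Adic.isAdicFormallySmooth_iff.mp h
  haveI : IsLocalHom (algebraMap K A) := ⟨fun a ha => by
    refine isUnit_iff_ne_zero.mpr fun h0 => ?_
    rw [h0, map_zero] at ha
    exact not_isUnit_zero ha⟩
  have hindK : LinearIndependent (ResidueField K) (Groth.Agent.EGA41Adic.fam k K (ResidueField K)) := by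
    let ρ := ResidueField.map (algebraMap K A)
    let θ : TensorProduct K (ResidueField K) (Ω[K⁄ℤ]) →+ TensorProduct A (ResidueField A) (Ω[A⁄ℤ]) :=
      TensorProduct.liftAddHom (AddMonoidHom.mk' (fun c => AddMonoidHom.mk'
          (fun ω => ρ c ⊗ₜ[A] KaehlerDifferential.map ℤ ℤ K A ω)
          (fun x y => by simp only [map_add, TensorProduct.tmul_add])) (fun x y => by
            ext ω; simp [TensorProduct.add_tmul]))
        (fun r c ω => by
          show ρ (r • c) ⊗ₜ[A] KaehlerDifferential.map ℤ ℤ K A ω = ρ c ⊗ₜ[A] KaehlerDifferential.map ℤ ℤ K A (r • ω)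
          rw [map_smul (KaehlerDifferential.map ℤ ℤ K A), ← algebraMap_smul A r (KaehlerDifferential.map ℤ ℤ K A ω),
            TensorProduct.tmul_smul, TensorProduct.smul_tmul', Algebra.smul_def r c, map_mul, Algebra.smul_def]
          rfl)
    have key : ∀ ω : Ω[k⁄ℤ], KaehlerDifferential.map ℤ ℤ K A (KaehlerDifferential.map ℤ ℤ k K ω) =
        KaehlerDifferential.map ℤ ℤ k A ω := fun ω => by
      have hω : ω ∈ Submodule.span k (Set.range (KaehlerDifferential.D ℤ k)) := by
        rw [KaehlerDifferential.span_range_derivation]; trivial
      induction hω using Submodule.span_induction with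
      | mem x hx =>
        obtain ⟨a, rfl⟩ := hx
        simp [← IsScalarTower.algebraMap_apply]
      | zero => simp
      | add x y _ _ hx hy => simp only [map_add, hx, hy]
      | smul c x _ hx =>
        rw [map_smul (KaehlerDifferential.map ℤ ℤ k K), map_smul (KaehlerDifferential.map ℤ ℤ k A),
          ← algebraMap_smul K c (KaehlerDifferential.map ℤ ℤ k K x), map_smul, hx, algebraMap_smul]
    have hθ : ∀ i, θ (Groth.Agent.EGA41Adic.fam k K (ResidueField K) i) =
        Groth.Agent.EGA41Adic.fam k A (ResidueField A) i := fun i => by
      simp [θ, Groth.Agent.EGA41Adic.fam, key]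
    rw [linearIndependent_iff'] at hind ⊢
    intro s g hg i hi
    have h2 := congrArg θ hg
    rw [map_sum, map_zero] at h2
    have h3 := hind s (fun i => ρ (g i)) (Eq.trans (Finset.sum_congr rfl fun j _ => by
      rw [← hθ]
      simp [θ, Groth.Agent.EGA41Adic.fam, TensorProduct.smul_tmul']) h2) i hi
    exact ρ.injective (h3.trans (map_zero ρ).symm)
  haveI : IsRegularLocalRing K := inferInstance
  have hfs : CAlgX.IsAdicFormallySmooth k K (maximalIdeal K) :=
    Groth.Agent.EGA41Adic.isAdicFormallySmooth_of_regular_indep hindK
  haveI : Algebra.FormallySmooth k K := by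
    refine Algebra.FormallySmooth.iff_comp_surjective.mpr ?_
    intro B _ _ I hI f
    exact hfs B I hI f ⟨1, fun x hx => by
      rw [pow_one, IsLocalRing.isField_iff_maximalIdeal_eq.mp (Field.toIsField K), Ideal.mem_bot] at hx
      rw [hx, map_zero]⟩
  exact Groth.Agent.S2451.result.mp inferInstance

end Groth.Agent.S4513
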