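import Groth.Statements.S4516
-- import your own Groth.Agent.* helpers here
import Mathlib

set_option autoImplicit false
universe u
open EGA41

namespace Groth.Agent.S4516

/-- Let p be a prime, B an A-algebra of characteristic p and A' an A-subalgebra of B contained in
A[B^p]. Then the canonical map between Ω_{B/A} and Ω_{B/A'} is bijective (every A-derivation of B
vanishes on A[B^p]). -/
theorem result (p : ℕ) [Fact p.Prime] {A B : Type u}
    [CommRing A] [CommRing B] [Algebra A B] [CharP B p] (A' : Subalgebra A B)
    (hA' : A' ≤ EGA41.pPowerSubalgebra p A B) :
    Function.Bijective (KaehlerDifferential.map A A' B B) := by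
  refine ⟨?_, KaehlerDifferential.map_surjective A A' B⟩
  have hvan : ∀ x : EGA41.pPowerSubalgebra p A B, KaehlerDifferential.D A B x.1 = 0 := by
    rintro ⟨x, hx⟩
    induction hx using Algebra.adjoin_induction with
    | mem y hy =>
      obtain ⟨b, rfl⟩ := hy
      simp [Derivation.leibniz_pow, ← Nat.cast_smul_eq_nsmul B, CharP.cast_eq_zero]
    | algebraMap r => simp
    | add y z _ _ hy hz => rw [map_add, hy, hz, add_zero]
    | mul y z _ _ hy hz => rw [Derivation.leibniz, hy, hz, smul_zero, smul_zero, add_zero]
  let D' : Derivation A' B (Ω[B⁄A]) :=
    Derivation.mk' { toFun := KaehlerDifferential.D A B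
                     map_add' := map_add _
                     map_smul' := fun a b => by
                       change KaehlerDifferential.D A B ((a : B) * b) = (a : B) • _
                       rw [Derivation.leibniz, hvan ⟨a, hA' a.2⟩, smul_zero, add_zero] }
      (fun a b => Derivation.leibniz _ a b)
  refine Function.HasLeftInverse.injective ⟨D'.liftKaehlerDifferential, fun x => ?_⟩
  have hx : x ∈ Submodule.span B (Set.range (KaehlerDifferential.D A B)) := by
    rw [KaehlerDifferential.span_range_derivation]; trivial
  induction hx using Submodule.span_induction with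
  | mem y hy =>
    obtain ⟨b, rfl⟩ := hy
    rw [KaehlerDifferential.map_D, Derivation.liftKaehlerDifferential_comp_D]
    rfl
  | zero => simp
  | add y z _ _ hy hz => rw [map_add, map_add, hy, hz]
  | smul r y _ hy => rw [map_smul, map_smul, hy]

end Groth.Agent.S4516
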