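import Groth.Statements.S4518
import Groth.Agent.PBasisLib.Basic
import Mathlib.Data.Finsupp.Basic

set_option autoImplicit false
universe u
open EGA41 Groth.Agent

namespace Groth.Agent.S4518

lemma sum_filter_inj {X Y M : Type*} [AddCommMonoid M] [DecidableEq Y] {φ : X → Y} {s : Finset X}
    (hφ : Set.InjOn φ ↑s) {a : X} (ha : a ∈ s) (g : X → M) : ∑ u ∈ s with φ u = φ a, g u = g a := by
  refine Finset.sum_eq_single a (fun u hu hne => absurd (hφ (Finset.mem_coe.2 (Finset.mem_filter.1 hu).1) ha (Finset.mem_filter.1 hu).2) hne)
    (fun hn => absurd ((Finset.mem_filter (p := fun u => φ u = φ a)).2 ⟨ha, rfl⟩) hn)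

/-- Let p be a prime and A → C → B rings of characteristic p with C → B injective and every p-th power
of B in the image of A (so, identifying, B^p ⊆ A ⊆ C ⊆ B up to replacing A by its image); let x be a
family of elements of C and y a family of elements of B. (i) If x is a system of p-generators of C
over A and y one of B over C, then the family obtained by putting x (viewed in B) and y together is
a system of p-generators of B over A. (ii) If x is a p-basis of C over A, then y is p-independent
over C if and only if the combined family is p-independent over A. (The published statement only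
asks B^p ⊆ C and reduces to B^p ⊆ A by enlarging A to A[B^p]; but p-independence of x in C over A
refers to A[C^p], which can be smaller than A[B^p] — for A = 𝔽_p, C = 𝔽_p(t^p) ⊂ B = 𝔽_p(t), x =
(t^p), y = (t), x is a p-basis of C over A and y is p-independent over C while (t^p, t) is not
p-independent over A — so this row assumes B^p ⊆ A, the case the published proof treats.) -/
theorem result (p : ℕ) [Fact p.Prime] {A C B : Type u} [CommRing A] [CommRing C]
    [CommRing B] [Algebra A C] [Algebra C B] [Algebra A B] [IsScalarTower A C B] [CharP B p]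
    (hinj : Function.Injective (algebraMap C B)) (hpow : ∀ b : B, b ^ p ∈ Set.range (algebraMap A B))
    {ι κ : Type u} (x : ι → C) (y : κ → B) :
    (EGA41.IsPGenerating p A x → EGA41.IsPGenerating p C y →
      EGA41.IsPGenerating p A (Sum.elim (fun i => algebraMap C B (x i)) y)) ∧
    (EGA41.IsPBasis p A x →
      (EGA41.IsPIndependent p C y ↔ EGA41.IsPIndependent p A (Sum.elim (fun i => algebraMap C B (x i)) y))) := by
  classical
  have hp : 0 < p := (Fact.out : p.Prime).pos
  haveI : CharP C p := (RingHom.charP_iff (algebraMap C B) hinj p).2 inferInstance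
  have hCB : ∀ b : B, b ^ p ∈ Set.range (algebraMap C B) := fun b => by
    obtain ⟨a, ha⟩ := hpow b
    exact ⟨algebraMap A C a, by rw [← IsScalarTower.algebraMap_apply, ha]⟩
  have hPB : EGA41.pPowerSubalgebra p A B = ⊥ := PBasisLib.pPower_eq_bot hpow
  have hPC : EGA41.pPowerSubalgebra p C B = ⊥ := PBasisLib.pPower_eq_bot hCB
  have hPA : EGA41.pPowerSubalgebra p A C = ⊥ := PBasisLib.pPower_eq_bot fun c => by
    obtain ⟨a, ha⟩ := hpow (algebraMap C B c)
    exact ⟨a, hinj (by rw [← IsScalarTower.algebraMap_apply, ha, map_pow])⟩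
  let w : ι ⊕ κ → B := Sum.elim (fun i => algebraMap C B (x i)) y
  refine ⟨fun hxg hyg => ?_, fun hxb => ?_⟩
  · refine (PBasisLib.isPGenerating_iff_adjoin hp w).2 (Algebra.eq_top_iff.2 fun b => ?_)
    have hb : b ∈ Algebra.adjoin (EGA41.pPowerSubalgebra p C B) (Set.range y) := by
      rw [(PBasisLib.isPGenerating_iff_adjoin hp y).1 hyg]; trivial
    induction hb using Algebra.adjoin_induction with
    | mem z hz => obtain ⟨j, rfl⟩ := hz; exact Algebra.subset_adjoin ⟨Sum.inr j, rfl⟩
    | algebraMap r =>
      obtain ⟨c, hc⟩ := Algebra.mem_bot.1 (hPC.le r.2)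
      rw [Subalgebra.algebraMap_eq]
      show (r : B) ∈ _
      rw [← hc]
      have hc' : c ∈ Algebra.adjoin (EGA41.pPowerSubalgebra p A C) (Set.range x) := by
        rw [(PBasisLib.isPGenerating_iff_adjoin hp x).1 hxg]; trivial
      clear hc
      induction hc' using Algebra.adjoin_induction with
      | mem z hz => obtain ⟨i, rfl⟩ := hz; exact Algebra.subset_adjoin ⟨Sum.inl i, rfl⟩
      | algebraMap s =>
        obtain ⟨a, ha⟩ := Algebra.mem_bot.1 (hPA.le s.2)
        show algebraMap C B (s : C) ∈ _
        rw [← ha, ← IsScalarTower.algebraMap_apply]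
        exact Subalgebra.algebraMap_mem _ (algebraMap A (EGA41.pPowerSubalgebra p A B) a)
      | add u v _ _ hu hv => rw [map_add]; exact add_mem hu hv
      | mul u v _ _ hu hv => rw [map_mul]; exact mul_mem hu hv
    | add u v _ _ hu hv => exact add_mem hu hv
    | mul u v _ _ hu hv => exact mul_mem hu hv
  · -- linear independence over the images of `A` and `C`
    have liftA : ∀ s : EGA41.pPowerSubalgebra p A B, ∃ a : A, algebraMap A B a = (s : B) := fun s => Algebra.mem_bot.1 (hPB.le s.2)
    have liftC : ∀ s : EGA41.pPowerSubalgebra p C B, ∃ c : C, algebraMap C B c = (s : B) := fun s => Algebra.mem_bot.1 (hPC.le s.2)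
    have hw : ∀ e : ι ⊕ κ →₀ ℕ, EGA41.pMonomial w e =
        algebraMap C B (EGA41.pMonomial x (Finsupp.sumFinsuppEquivProdFinsupp e).1) * EGA41.pMonomial y (Finsupp.sumFinsuppEquivProdFinsupp e).2 := by
      intro e
      have key : ∀ (f : ι →₀ ℕ) (g : κ →₀ ℕ), EGA41.pMonomial w (Finsupp.sumElim f g) = algebraMap C B (EGA41.pMonomial x f) * EGA41.pMonomial y g := by
        intro f g
        simp only [EGA41.pMonomial, map_finsuppProd, map_pow]
        rw [Finsupp.prod_sumElim]
        rfl
      conv_lhs => rw [← Finsupp.sumFinsuppEquivProdFinsupp.symm_apply_apply e]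
      exact key _ _
    constructor
    · intro hyi
      refine linearIndependent_iff'.2 fun s g hg e he => ?_
      choose ga hga using fun e => liftA (g e)
      let fst : {e : ι ⊕ κ →₀ ℕ // ∀ i, e i < p} → {e : ι →₀ ℕ // ∀ i, e i < p} := fun e =>
        ⟨(Finsupp.sumFinsuppEquivProdFinsupp e.1).1, fun i => e.2 (Sum.inl i)⟩
      let snd : {e : ι ⊕ κ →₀ ℕ // ∀ i, e i < p} → {e : κ →₀ ℕ // ∀ i, e i < p} := fun e =>
        ⟨(Finsupp.sumFinsuppEquivProdFinsupp e.1).2, fun i => e.2 (Sum.inr i)⟩
      let gC : {e : κ →₀ ℕ // ∀ i, e i < p} → C := fun f =>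
        ∑ e ∈ s with snd e = f, algebraMap A C (ga e) * EGA41.pMonomial x (fst e).1
      have h1 : ∑ f ∈ s.image snd, (algebraMap C (EGA41.pPowerSubalgebra p C B) (gC f)) • EGA41.pMonomial y f.1 = 0 := by
        rw [← hg, ← Finset.sum_fiberwise_of_maps_to (fun e he => Finset.mem_image_of_mem snd he)]
        refine Finset.sum_congr rfl fun f _ => ?_
        rw [algebraMap_smul, Algebra.smul_def, map_sum, Finset.sum_mul]
        refine Finset.sum_congr rfl fun e he => ?_
        rw [Subalgebra.smul_def, smul_eq_mul, hw, map_mul, ← IsScalarTower.algebraMap_apply, hga, mul_assoc,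
          ← (Finset.mem_filter.1 he).2]
      have h2 := linearIndependent_iff'.1 hyi _ _ h1 (snd e) (Finset.mem_image_of_mem _ he)
      have h3 : gC (snd e) = 0 := hinj (by rw [map_zero]; exact congrArg Subtype.val h2)
      have hinjfst : Set.InjOn fst ↑(s.filter fun e' => snd e' = snd e) := by
        intro u hu v hv huv
        refine Subtype.ext (Finsupp.sumFinsuppEquivProdFinsupp.injective (Prod.ext (congrArg Subtype.val huv) ?_))
        exact congrArg Subtype.val ((Finset.mem_filter.1 hu).2.trans (Finset.mem_filter.1 hv).2.symm)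
      let ext' : {e : ι →₀ ℕ // ∀ i, e i < p} → EGA41.pPowerSubalgebra p A C := fun f =>
        algebraMap A _ (∑ e' ∈ s.filter (fun e' => snd e' = snd e) with fst e' = f, ga e')
      have h4 : ∑ f ∈ (s.filter fun e' => snd e' = snd e).image fst, ext' f • EGA41.pMonomial x f.1 = 0 := by
        rw [← h3, Finset.sum_image hinjfst]
        refine Finset.sum_congr rfl fun e' he' => ?_
        rw [algebraMap_smul, Algebra.smul_def, map_sum]
        congr 1
        rw [sum_filter_inj hinjfst he']
      have hmem : e ∈ s.filter fun e' => snd e' = snd e := Finset.mem_filter.2 ⟨he, rfl⟩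
      have h5 := linearIndependent_iff'.1 hxb.1 _ _ h4 (fst e) (Finset.mem_image_of_mem _ hmem)
      have h6 : algebraMap A C (ga e) = 0 := by
        have := congrArg Subtype.val h5
        simp only [ext'] at this
        rw [sum_filter_inj hinjfst hmem] at this
        exact this
      refine Subtype.ext ?_
      rw [← hga, IsScalarTower.algebraMap_apply A C B, h6, map_zero]; rfl
    · intro hwi
      -- write coefficients in the basis of `C`
      refine linearIndependent_iff'.2 fun s g hg f hf => ?_
      choose gc hgc using fun f => liftC (g f)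
      choose R hR using fun f => (Finsupp.mem_span_range_iff_exists_finsupp.1 (hxb.2.ge Submodule.mem_top) :
        ∃ R : {e : ι →₀ ℕ // ∀ i, e i < p} →₀ EGA41.pPowerSubalgebra p A C, R.sum (fun e a => a • EGA41.pMonomial x e.1) = gc f)
      choose la hla using fun c : EGA41.pPowerSubalgebra p A C => Algebra.mem_bot.1 (hPA.le c.2)
      let pair : {e : κ →₀ ℕ // ∀ i, e i < p} × {e : ι →₀ ℕ // ∀ i, e i < p} → {e : ι ⊕ κ →₀ ℕ // ∀ i, e i < p} := fun q =>
        ⟨Finsupp.sumFinsuppEquivProdFinsupp.symm (q.2.1, q.1.1), fun i => by
          cases i with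
          | inl i => simpa using q.2.2 i
          | inr i => simpa using q.1.2 i⟩
      have hpair : Function.Injective pair := fun u v huv => by
        have := Finsupp.sumFinsuppEquivProdFinsupp.symm.injective (congrArg Subtype.val huv)
        exact Prod.ext (Subtype.ext (congrArg Prod.snd this)) (Subtype.ext (congrArg Prod.fst this))
      let T := s.biUnion fun f => (R f).support.image fun e => (f, e)
      have hT : ∀ f ∈ s, ∀ e ∈ (R f).support, (f, e) ∈ T := fun f hf e he =>
        Finset.mem_biUnion.2 ⟨f, hf, Finset.mem_image_of_mem _ he⟩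
      let G : {e : ι ⊕ κ →₀ ℕ // ∀ i, e i < p} → EGA41.pPowerSubalgebra p A B := fun u =>
        algebraMap A _ (∑ q ∈ T with pair q = u, la ((R q.1) q.2))
      have hsum : ∑ u ∈ T.image pair, G u • EGA41.pMonomial w u.1 = 0 := by
        rw [← hg, Finset.sum_image (fun a _ b _ h => hpair h)]
        have hsingle : ∀ q ∈ T, G (pair q) • EGA41.pMonomial w (pair q).1 =
            algebraMap C B (((R q.1) q.2) • EGA41.pMonomial x q.2.1) * EGA41.pMonomial y q.1.1 := by
          intro q hq
          rw [algebraMap_smul, Algebra.smul_def, sum_filter_inj hpair.injOn hq, hw, Subalgebra.smul_def, smul_eq_mul, map_mul, ← hla,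
            ← IsScalarTower.algebraMap_apply, mul_assoc]
          simp [pair]
        rw [Finset.sum_congr rfl hsingle, Finset.sum_biUnion]
        · refine Finset.sum_congr rfl fun f _ => ?_
          rw [Finset.sum_image (fun a _ b _ h => congrArg Prod.snd h)]
          dsimp only
          rw [← Finset.sum_mul, ← map_sum, Subalgebra.smul_def, smul_eq_mul, ← hgc, ← hR f]
          rfl
        · intro u _ v _ huv
          simp only [Function.onFun, Finset.disjoint_left, Finset.mem_image]
          rintro q ⟨_, _, rfl⟩ ⟨_, _, h⟩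
          exact huv (congrArg Prod.fst h).symm
      have hzero : ∀ e, R f e = 0 := fun e => by
        by_contra hne
        have hq := hT f hf e (Finsupp.mem_support_iff.2 hne)
        have h := linearIndependent_iff'.1 hwi _ _ hsum (pair (f, e)) (Finset.mem_image_of_mem _ hq)
        have h' : algebraMap A B (∑ q ∈ T with pair q = pair (f, e), la ((R q.1) q.2)) = 0 := congrArg Subtype.val h
        rw [sum_filter_inj hpair.injOn hq, IsScalarTower.algebraMap_apply A C B, hla] at h'
        exact hne (Subtype.ext (hinj (h'.trans (map_zero _).symm)))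
      refine Subtype.ext ?_
      rw [← hgc, ← hR f, show R f = 0 from Finsupp.ext hzero, Finsupp.sum_zero_index, map_zero]
      rfl

end Groth.Agent.S4518
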