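import Groth.Statements.S4519
import Groth.Agent.PBasisLib.Basic

set_option autoImplicit false
universe u
open EGA41 Groth.Agent

namespace Groth.Agent.S4519

/-- Let p be a prime, B a ring of characteristic p and A a subring of B with B^p ⊆ A (here: A → B
injective with every p-th power in its image; R → A → B with the image of R in B equal to the set of
p-th powers, so that R stands for B^p). If B admits a p-basis over A, then B is a formally smooth
A-algebra relative to R for the discrete topologies (square-zero liftings, as in the prelude's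
relative notion). -/
theorem result (p : ℕ) [Fact p.Prime] {R A B : Type u} [CommRing R] [CommRing A]
    [CommRing B] [Algebra R A] [Algebra A B] [Algebra R B] [IsScalarTower R A B] [CharP B p]
    (hinj : Function.Injective (algebraMap A B)) (hpow : ∀ b : B, b ^ p ∈ Set.range (algebraMap A B))
    (hR : Set.range (algebraMap R B) = Set.range fun b : B => b ^ p)
    {ι : Type u} (x : ι → B) (hx : EGA41.IsPBasis p A x) :
    EGA41.IsFormallySmoothRel R A B := by
  classical
  have hp : 0 < p := (Fact.out : p.Prime).pos
  intro C _ _ _ _ J hJ u₀ ⟨u, hu⟩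
  have hpA : ((p : ℕ) : A) = 0 := hinj (by rw [map_natCast, map_zero]; exact CharP.cast_eq_zero B p)
  have hp0 : ((p : ℕ) : C) = 0 := by rw [← map_natCast (algebraMap A C), hpA, map_zero]
  have hu' : ∀ b, Ideal.Quotient.mk J (u b) = u₀ b := fun b => congrFun (congrArg DFunLike.coe hu) b
  choose t ht using fun i => Ideal.Quotient.mk_surjective (u₀ (x i))
  obtain ⟨ψ, hA, hxi⟩ := PBasisLib.exists_algHom hp hinj hpow hx (algebraMap A C) t (fun i a ha => by
    rcases subsingleton_or_nontrivial C with h | h
    · exact Subsingleton.elim _ _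
    haveI : CharP C p := (CharP.charP_iff_prime_eq_zero Fact.out).2 hp0
    obtain ⟨r, hr⟩ : x i ^ p ∈ Set.range (algebraMap R B) := hR ▸ ⟨x i, rfl⟩
    have har : a = algebraMap R A r := hinj (by rw [ha, ← hr, ← IsScalarTower.algebraMap_apply])
    have hk : t i - u (x i) ∈ J := Ideal.Quotient.eq.1 (by rw [ht, hu'])
    have h0 : (t i - u (x i)) ^ p = 0 := by
      have h1 := Ideal.pow_mem_pow hk p
      have h2 : J ^ p ≤ J ^ 2 := Ideal.pow_le_pow_right (Fact.out : p.Prime).two_le
      have := h2 h1
      rwa [hJ, Ideal.mem_bot] at this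
    rw [sub_pow_char, sub_eq_zero] at h0
    rw [h0, ← map_pow, ← hr, AlgHom.commutes, har, ← IsScalarTower.algebraMap_apply])
  refine ⟨{ ψ with commutes' := hA }, AlgHom.coe_ringHom_injective (PBasisLib.hom_ext' hp hpow hx.2 (fun a => ?_) fun i => ?_)⟩
  · show Ideal.Quotient.mk J (ψ (algebraMap A B a)) = u₀ (algebraMap A B a)
    rw [hA, AlgHom.commutes]; rfl
  · show Ideal.Quotient.mk J (ψ (x i)) = u₀ (x i)
    rw [hxi, ht]

end Groth.Agent.S4519
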