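import Groth.Statements.S4520
import Groth.Agent.PBasisLib.Basic
import Groth.Agent.S2466
import Groth.Agent.S2465

set_option autoImplicit false
universe u
open EGA41
open scoped TensorProduct

namespace Groth.Agent.S4520

open TensorProduct in
/-- Let p be a prime, B a reduced ring of characteristic p, A a subring with B^p ⊆ A ⊆ B (here A → B
injective with all p-th powers in its image, and R → A → B with image in B the set of p-th powers, R
standing for B^p). Suppose B has a p-basis (x_λ) over A and A has a p-basis over R, and let x'_λ ∈ A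
map to x_λ^p. Then the elements 1 ⊗ d_{A/ℤ}(x'_λ) form a basis of the B-module Υ_{B/A}, the kernel
of B ⊗_A Ω_{A/ℤ} → Ω_{B/ℤ}. (The published statement also identifies Υ_{B/A} with the Frobenius
twist of Ω_{B/A}; this row states only the basis.) -/
theorem result (p : ℕ) [Fact p.Prime] {R A B : Type u} [CommRing R] [CommRing A]
    [CommRing B] [IsReduced B] [Algebra R A] [Algebra A B] [Algebra R B] [IsScalarTower R A B] [CharP B p]
    (hinj : Function.Injective (algebraMap A B)) (hpow : ∀ b : B, b ^ p ∈ Set.range (algebraMap A B))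
    (hR : Set.range (algebraMap R B) = Set.range fun b : B => b ^ p)
    {Λ M : Type u} (x : Λ → B) (hx : EGA41.IsPBasis p A x) (x' : Λ → A) (hx' : ∀ i, algebraMap A B (x' i) = x i ^ p)
    (y : M → A) (hy : EGA41.IsPBasis p R y) :
    ∃ b : Module.Basis Λ B (EGA41.imperfection ℤ A B),
      ∀ i, (b i : B ⊗[A] Ω[A⁄ℤ]) = (1 : B) ⊗ₜ[A] KaehlerDifferential.D ℤ A (x' i) := by
  classical
  have hp : 0 < p := (Fact.out : p.Prime).pos
  haveI : CharP A p := (RingHom.charP_iff (algebraMap A B) hinj p).mpr ‹_›
  -- the coefficient ring of the first p-basis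
  let R' : Subring A := (algebraMap R A).range
  have hRA : ∀ a : A, a ∈ R' ↔ ∃ b : B, algebraMap A B a = b ^ p := by
    intro a
    constructor
    · rintro ⟨r, rfl⟩
      obtain ⟨b, hb⟩ := hR.le ⟨r, rfl⟩
      exact ⟨b, by rw [← IsScalarTower.algebraMap_apply]; exact hb.symm⟩
    · rintro ⟨b, hb⟩
      obtain ⟨r, hr⟩ := hR.ge ⟨b, rfl⟩
      exact ⟨r, hinj (by rw [← IsScalarTower.algebraMap_apply, hr, hb])⟩
  have hpowR : ∀ a : A, a ^ p ∈ Set.range (algebraMap R A) := fun a =>
    (hRA _).mpr ⟨algebraMap A B a, map_pow _ _ _⟩
  have hpowR' : ∀ a : A, a ^ p ∈ Set.range (algebraMap R' A) := fun a =>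
    ⟨⟨a ^ p, hpowR a⟩, rfl⟩
  have hcar : ∀ a : A, a ∈ EGA41.pPowerSubalgebra p R' A ↔ a ∈ EGA41.pPowerSubalgebra p R A := by
    intro a
    rw [Groth.Agent.PBasisLib.pPower_eq_bot hpowR', Groth.Agent.PBasisLib.pPower_eq_bot hpowR,
      Algebra.mem_bot, Algebra.mem_bot]
    exact ⟨fun ⟨r, hr⟩ => hr ▸ r.2, fun h => ⟨⟨a, h⟩, rfl⟩⟩
  have hy' : EGA41.IsPBasis p R' y := by
    refine ⟨?_, ?_⟩
    · rw [EGA41.IsPIndependent, linearIndependent_iff']
      intro s g hg i hi
      have h := linearIndependent_iff'.mp hy.1 s
        (fun e => (⟨(g e : A), (hcar _).mp (g e).2⟩ : EGA41.pPowerSubalgebra p R A)) hg i hi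
      exact Subtype.ext (congrArg (fun z : EGA41.pPowerSubalgebra p R A => (z : A)) h :)
    · rw [EGA41.IsPGenerating, eq_top_iff]
      intro a ha'
      clear ha'
      have ha : a ∈ Submodule.span (EGA41.pPowerSubalgebra p R A)
          (Set.range fun e : {e : M →₀ ℕ // ∀ i, e i < p} => EGA41.pMonomial y e.1) := by
        rw [hy.2]; trivial
      induction ha using Submodule.span_induction with
      | mem z hz => exact Submodule.subset_span hz
      | zero => exact zero_mem _
      | add u v _ _ hu hv => exact add_mem hu hv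
      | smul c z _ hz =>
        exact Submodule.smul_mem _ (⟨(c : A), (hcar _).mpr c.2⟩ : EGA41.pPowerSubalgebra p R' A) hz
  -- coordinate derivations
  obtain ⟨bΩ, hbΩ⟩ := Groth.Agent.S2466.result p x hx
  have hmemR : ∀ r : R', ∃ b : B, algebraMap A B (r : A) = b ^ p := fun r => (hRA _).mp r.2
  choose root hroot using hmemR
  haveI : ExpChar B p := ExpChar.prime Fact.out
  have huniq : ∀ (r : R') (b : B), algebraMap A B (r : A) = b ^ p → root r = b := fun r b hb =>
    frobenius_inj B p ((hroot r).symm.trans hb)
  let δ : Λ → B → B := fun i b => bΩ.repr (KaehlerDifferential.D A B b) i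
  have key : ∀ i, ∃ D : Derivation ℤ A B, ∀ j, D (x' j) = if j = i then 1 else 0 := by
    intro i
    let D0 : Derivation ℤ R' B := Derivation.mk' (AddMonoidHom.toIntLinearMap
      { toFun := fun r => δ i (root r) ^ p
        map_zero' := by
          rw [huniq 0 0 (by rw [ZeroMemClass.coe_zero, map_zero, zero_pow hp.ne'])]
          simp [δ, zero_pow hp.ne']
        map_add' := fun r s => by
          rw [huniq (r + s) (root r + root s) (by rw [Subring.coe_add, map_add, hroot, hroot, add_pow_char])]
          simp [δ, add_pow_char] }) (fun r s => by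
        show δ i (root (r * s)) ^ p = (r : A) • (δ i (root s) ^ p) + (s : A) • (δ i (root r) ^ p)
        rw [huniq (r * s) (root r * root s) (by rw [Subring.coe_mul, map_mul, hroot, hroot, mul_pow]),
          Algebra.smul_def, Algebra.smul_def, hroot, hroot]
        simp only [δ, Derivation.leibniz, map_add, map_smul, Finsupp.add_apply, Finsupp.smul_apply, smul_eq_mul]
        rw [add_pow_char, mul_pow, mul_pow])
    have hext := Groth.Agent.S2465.result p (A := R') (B := A) Subtype.val_injective hpowR' y hy' B D0
    obtain ⟨D, hD⟩ := hext.1.mpr fun r a hra => by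
      have h1 : root r = algebraMap A B a := huniq r _ (by rw [← map_pow, ← hra]; rfl)
      show δ i (root r) ^ p = 0
      simp [δ, h1, zero_pow hp.ne']
    refine ⟨D, fun j => ?_⟩
    have hj : x' j ∈ R' := (hRA _).mpr ⟨x j, hx' j⟩
    refine (hD ⟨x' j, hj⟩).trans ?_
    show δ i (root ⟨x' j, hj⟩) ^ p = _
    rw [huniq ⟨x' j, hj⟩ (x j) (hx' j)]
    simp only [δ, ← hbΩ, Module.Basis.repr_self, Finsupp.single_apply]
    split_ifs <;> simp [zero_pow hp.ne']
  choose D hD using key
  let v : Λ → TensorProduct A B (Ω[A⁄ℤ]) := fun i => (1 : B) ⊗ₜ[A] KaehlerDifferential.D ℤ A (x' i)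
  have hli : LinearIndependent B v := by
    rw [linearIndependent_iff']
    intro s g hg i hi
    have h := congrArg ((D i).liftKaehlerDifferential.liftBaseChange B) hg
    simp only [v, map_sum, map_smul, map_zero, LinearMap.liftBaseChange_tmul, one_smul,
      Derivation.liftKaehlerDifferential_comp_D, hD, smul_eq_mul, mul_ite, mul_one, mul_zero] at h
    rw [Finset.sum_ite_eq' s i g, if_pos hi] at h
    exact h
  have hspan : Submodule.span B (Set.range v) = EGA41.imperfection ℤ A B := by
    refine le_antisymm (Submodule.span_le.mpr ?_) fun z hz => ?_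
    · rintro _ ⟨i, rfl⟩
      show KaehlerDifferential.mapBaseChange ℤ A B (v i) = 0
      rw [KaehlerDifferential.mapBaseChange_tmul, one_smul, KaehlerDifferential.map_D, hx',
        Derivation.leibniz_pow, ← Nat.cast_smul_eq_nsmul B, CharP.cast_eq_zero, zero_smul]
    · let V := Submodule.span B (Set.range v)
      let q := (V.mkQ).restrictScalars A
      let ι := (TensorProduct.mk A B (Ω[A⁄ℤ]) 1)
      let Db : Derivation ℤ A (TensorProduct A B (Ω[A⁄ℤ]) ⧸ V) :=
        (q.comp ι).compDer (KaehlerDifferential.D ℤ A)
      have hkill : ∀ (a : A) (b : B), algebraMap A B a = b ^ p → Db a = 0 := by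
        intro a b
        have hb : b ∈ Algebra.adjoin (EGA41.pPowerSubalgebra p A B) (Set.range x) := by
          rw [(Groth.Agent.PBasisLib.isPGenerating_iff_adjoin hp x).1 hx.2]; trivial
        induction hb using Algebra.adjoin_induction generalizing a with
        | mem w hw =>
          obtain ⟨i, rfl⟩ := hw
          intro ha
          rw [show a = x' i from hinj (ha.trans (hx' i).symm)]
          exact (Submodule.Quotient.mk_eq_zero _).mpr (Submodule.subset_span ⟨i, rfl⟩)
        | algebraMap r =>
          intro ha
          obtain ⟨a0, ha0⟩ := Algebra.mem_bot.1 ((Groth.Agent.PBasisLib.pPower_eq_bot hpow).le r.2)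
          rw [Subalgebra.algebraMap_eq] at ha
          have : a = a0 ^ p := hinj (by rw [map_pow, ha0]; exact ha)
          rw [this, Derivation.leibniz_pow]
          rw [← Nat.cast_smul_eq_nsmul A, CharP.cast_eq_zero, zero_smul]
        | add u w _ _ hu hw =>
          intro ha
          obtain ⟨au, hau⟩ := hpow u
          obtain ⟨aw, haw⟩ := hpow w
          rw [show a = au + aw from hinj (by rw [map_add, hau, haw, ha, add_pow_char]), map_add,
            hu au hau, hw aw haw, add_zero]
        | mul u w _ _ hu hw =>
          intro ha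
          obtain ⟨au, hau⟩ := hpow u
          obtain ⟨aw, haw⟩ := hpow w
          rw [show a = au * aw from hinj (by rw [map_mul, hau, haw, ha, mul_pow]), Derivation.leibniz,
            hu au hau, hw aw haw, smul_zero, smul_zero, add_zero]
      obtain ⟨D', hD'⟩ := (Groth.Agent.S2465.result p hinj hpow x hx _ Db).1.mpr hkill
      have hcomp : ∀ w, D'.liftKaehlerDifferential (KaehlerDifferential.mapBaseChange ℤ A B w) = V.mkQ w := by
        intro w
        induction w with
        | zero => simp
        | add u t hu ht => simp only [map_add, hu, ht]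
        | tmul c m =>
          have hm : m ∈ Submodule.span A (Set.range (KaehlerDifferential.D ℤ A)) := by
            rw [KaehlerDifferential.span_range_derivation]; trivial
          induction hm using Submodule.span_induction generalizing c with
          | mem t ht =>
            obtain ⟨t, rfl⟩ := ht
            rw [KaehlerDifferential.mapBaseChange_tmul, map_smul, KaehlerDifferential.map_D,
              Derivation.liftKaehlerDifferential_comp_D, hD']
            show c • V.mkQ ((1 : B) ⊗ₜ[A] KaehlerDifferential.D ℤ A t) = _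
            rw [← map_smul, TensorProduct.smul_tmul', smul_eq_mul, mul_one]
          | zero => simp
          | add u t _ _ hu ht => simp only [TensorProduct.tmul_add, map_add, hu, ht]
          | smul a t _ ht => rw [← TensorProduct.smul_tmul]; exact ht _
      have h0 := hcomp z
      rw [show KaehlerDifferential.mapBaseChange ℤ A B z = 0 from hz, map_zero] at h0
      exact (Submodule.Quotient.mk_eq_zero _).mp h0.symm
  refine ⟨(Module.Basis.span hli).map (LinearEquiv.ofEq _ _ hspan), fun i => ?_⟩
  rw [Module.Basis.map_apply, LinearEquiv.coe_ofEq_apply, Module.Basis.span_apply]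

end Groth.Agent.S4520
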