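import Groth.Statements.S4522
-- import your own Groth.Agent.* helpers here
import Groth.Agent.S2465
import Groth.Agent.S2467
import Groth.Agent.S2468

set_option autoImplicit false
universe u
open EGA41

namespace Groth.Agent.S4522

/-- Let L be a field of characteristic p > 0 and K a subfield with L^p ⊆ K ⊆ L (here R → K → L with the
image of R in L the set of p-th powers and every p-th power of L in the image of K). Then the
canonical L-linear map L ⊗_K Ω_{K/L^p} → Ω_{L/L^p} is injective, so that 0 → Ω_{K/L^p} ⊗_K L →
Ω_{L/L^p} → Ω_{L/K} → 0 is exact: the imperfection module of L over K relative to L^p vanishes. -/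
theorem result (p : ℕ) [Fact p.Prime] {R K L : Type u} [Field R] [Field K] [Field L]
    [Algebra R K] [Algebra K L] [Algebra R L] [IsScalarTower R K L] [CharP L p]
    (hR : Set.range (algebraMap R L) = Set.range fun y : L => y ^ p)
    (hK : ∀ y : L, y ^ p ∈ Set.range (algebraMap K L)) :
    Function.Injective (KaehlerDifferential.mapBaseChange R K L) := by
  classical
  have hp : p.Prime := Fact.out
  have hgen : EGA41.IsPGenerating p K (Subtype.val : ↥(Set.univ : Set L) → L) := by
    refine eq_top_iff.mpr fun y _ => Submodule.subset_span ⟨⟨Finsupp.single ⟨y, Set.mem_univ y⟩ 1, fun i => ?_⟩, ?_⟩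
    · rw [Finsupp.single_apply]; split
      · exact hp.one_lt
      · exact hp.pos
    · simp [EGA41.pMonomial]
  obtain ⟨b, -, -, hb⟩ := Groth.Agent.S2467.result p (k := K) (K := L) Set.univ ∅ (Set.empty_subset _) hgen
    ((Groth.Agent.S2468.result p (k := K) (K := L) (Subtype.val : ↥(∅ : Set L) → L)).1.mpr linearIndependent_empty_type)
  refine (injective_iff_map_eq_zero _).mpr fun z hz => (Module.forall_dual_apply_eq_zero_iff L z).mp fun φ => ?_
  let D : Derivation R K L :=
    (φ.restrictScalars K ∘ₗ TensorProduct.mk K L Ω[K⁄R] 1).compDer (KaehlerDifferential.D R K)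
  have hDR : ∀ (a : K) (c : L), algebraMap K L a = c ^ p → D a = 0 := fun a c hac => by
    obtain ⟨r, hr⟩ : c ^ p ∈ Set.range (algebraMap R L) := by rw [hR]; exact ⟨c, rfl⟩
    rw [← hac, IsScalarTower.algebraMap_apply R K L] at hr
    rw [← (algebraMap K L).injective hr]
    exact Derivation.map_algebraMap _ r
  obtain ⟨D', hD'⟩ := (Groth.Agent.S2465.result p (algebraMap K L).injective hK _ hb L (D.restrictScalars ℤ)).1.mpr hDR
  let DR : Derivation R L L := Derivation.mk'
    { toFun := D'
      map_add' := map_add _
      map_smul' := fun r y => by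
        rw [RingHom.id_apply, Algebra.smul_def, Derivation.leibniz, IsScalarTower.algebraMap_apply R K L, hD',
          Derivation.restrictScalars_apply, Derivation.map_algebraMap, smul_zero, add_zero,
          ← IsScalarTower.algebraMap_apply]
        exact algebraMap_smul L r _ }
    fun x y => D'.leibniz x y
  have h3 : φ = DR.liftKaehlerDifferential ∘ₗ KaehlerDifferential.mapBaseChange R K L := by
    refine TensorProduct.AlgebraTensorModule.curry_injective (LinearMap.ext_ring ?_)
    refine Derivation.liftKaehlerDifferential_unique _ _ (Derivation.ext fun a => ?_)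
    simpa [D, DR] using (hD' a).symm
  rw [h3, LinearMap.comp_apply, hz, map_zero]

end Groth.Agent.S4522
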