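import Groth.Statements.S4524
import Mathlib

set_option autoImplicit false
universe u
open EGA41

namespace Groth.Agent.S4524

/-- Let k be a field of characteristic 0 and K an extension of k. Then Ω_{K/k} = 0 if and only if K is
an algebraic extension of k. -/
theorem result {k K : Type u} [Field k] [CharZero k] [Field K] [Algebra k K] :
    Subsingleton (Ω[K⁄k]) ↔ Algebra.IsAlgebraic k K := by
  classical
  constructor
  · intro hΩ
    obtain ⟨ι, a, ha⟩ := exists_isTranscendenceBasis' k K
    refine ha.isEmpty_iff_isAlgebraic.mp ?_
    by_contra hne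
    rw [not_isEmpty_iff] at hne
    haveI := ha.isAlgebraic_field
    set M := IntermediateField.adjoin k (Set.range a) with hM
    let eq : FractionRing (MvPolynomial ι k) ≃ₐ[k] M := ha.1.aevalEquivField
    let φ : MvPolynomial ι k →ₐ[k] M :=
      eq.toAlgHom.comp (IsScalarTower.toAlgHom k (MvPolynomial ι k) (FractionRing (MvPolynomial ι k)))
    letI : Algebra (MvPolynomial ι k) M := φ.toRingHom.toAlgebra
    letI : Algebra (MvPolynomial ι k) K := ((algebraMap M K).comp φ.toRingHom).toAlgebra
    haveI : IsScalarTower (MvPolynomial ι k) M K := IsScalarTower.of_algebraMap_eq fun _ => rfl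
    haveI : IsScalarTower k (MvPolynomial ι k) M :=
      IsScalarTower.of_algebraMap_eq fun r => (φ.commutes r).symm
    haveI : IsScalarTower k (MvPolynomial ι k) K := IsScalarTower.of_algebraMap_eq fun r => by
      show algebraMap k K r = algebraMap M K (φ (algebraMap k _ r))
      rw [φ.commutes]
      rfl
    haveI : IsFractionRing (MvPolynomial ι k) M :=
      IsLocalization.isLocalization_of_algEquiv (nonZeroDivisors (MvPolynomial ι k))
        (AlgEquiv.ofRingEquiv (f := eq.toRingEquiv) (fun x => rfl) :
          FractionRing (MvPolynomial ι k) ≃ₐ[MvPolynomial ι k] M)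
    haveI : Algebra.FormallyEtale (MvPolynomial ι k) M :=
      Algebra.FormallyEtale.of_isLocalization (nonZeroDivisors (MvPolynomial ι k))
    haveI : CharZero M := charZero_of_injective_algebraMap (algebraMap k M).injective
    haveI : Algebra.IsSeparable M K := Algebra.IsAlgebraic.isSeparable_of_perfectField
    haveI : Algebra.FormallyEtale M K := Algebra.FormallyEtale.of_isSeparable M K
    haveI : Algebra.FormallyEtale (MvPolynomial ι k) K :=
      Algebra.FormallyEtale.comp (MvPolynomial ι k) M K
    have h1 := (KaehlerDifferential.tensorKaehlerEquivOfFormallyEtale k (MvPolynomial ι k) K).finrank_eq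
    have h2 : Subsingleton (TensorProduct (MvPolynomial ι k) K (Ω[MvPolynomial ι k⁄k])) :=
      (KaehlerDifferential.tensorKaehlerEquivOfFormallyEtale k (MvPolynomial ι k) K).toEquiv.subsingleton
    obtain ⟨i⟩ := hne
    exact (((KaehlerDifferential.mvPolynomialBasis k ι).baseChange K).ne_zero i) (Subsingleton.elim _ _)
  · intro h
    haveI : Algebra.IsSeparable k K := Algebra.IsAlgebraic.isSeparable_of_perfectField
    haveI : Algebra.FormallyEtale k K := Algebra.FormallyEtale.of_isSeparable k K
    infer_instance

end Groth.Agent.S4524
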