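import Groth.Statements.S4526
import Mathlib
import Groth.Agent.CartierEq.Basic

set_option autoImplicit false
set_option linter.style.haveILetI false
universe u
open EGA41 TensorProduct

namespace Groth.Agent.S4526

/-- Let k ⊆ K ⊆ L be three fields with L an extension of finite type of k. Then Ω_{L/k} and Ω_{K/k} are
finite-dimensional and rank_L Ω_{L/k} − rank_K Ω_{K/k} ≥ trdeg_K L. (The published statement also
gives the exact value trdeg_K L + d(L/K, k) and an equality criterion; this row states only the
inequality.) -/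
theorem result {k K L : Type u} [Field k] [Field K] [Field L]
    [Algebra k K] [Algebra K L] [Algebra k L] [IsScalarTower k K L] [Algebra.EssFiniteType k L] :
    Module.Finite L (Ω[L⁄k]) ∧ Module.Finite K (Ω[K⁄k]) ∧
      (Cardinal.toNat (Algebra.trdeg K L) : ℤ) ≤ (Module.finrank L (Ω[L⁄k]) : ℤ) - Module.finrank K (Ω[K⁄k]) := by
  haveI : Algebra.EssFiniteType K L := Algebra.EssFiniteType.of_comp k K L
  obtain ⟨h1, h2, h3⟩ := CartierEq.cartier_equality K L
  haveI := h1
  haveI := h2
  haveI : Module.Finite L (Ω[L⁄k]) := inferInstance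
  let f := KaehlerDifferential.mapBaseChange k K L
  haveI : Module.Finite L (LinearMap.ker f) := by
    rw [LinearMap.exact_iff.mp (Algebra.H1Cotangent.exact_δ_mapBaseChange k K L)]
    infer_instance
  haveI : Module.Finite L (L ⊗[K] Ω[K⁄k]) := by
    have hk : (LinearMap.ker f).FG := Module.Finite.iff_fg.mp inferInstance
    exact ⟨Submodule.fg_of_fg_map_of_fg_inf_ker f (IsNoetherian.noetherian _) (by simpa using hk)⟩
  have hK : Module.rank L (L ⊗[K] Ω[K⁄k]) = Module.rank K (Ω[K⁄k]) := Module.rank_baseChange.trans (Cardinal.lift_id _)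
  have hKfin : Module.Finite K (Ω[K⁄k]) :=
    Module.rank_lt_aleph0_iff.mp (hK ▸ Module.rank_lt_aleph0 L (L ⊗[K] Ω[K⁄k]))
  refine ⟨inferInstance, hKfin, ?_⟩
  have e1 := f.finrank_range_add_finrank_ker
  have e2 := (KaehlerDifferential.map k K L L).finrank_range_add_finrank_ker
  rw [LinearMap.exact_iff.mp (KaehlerDifferential.exact_mapBaseChange_map k K L),
    LinearMap.range_eq_top.mpr (KaehlerDifferential.map_surjective k K L), finrank_top] at e2
  rw [Module.finrank_baseChange] at e1
  have e3 : Module.finrank L (LinearMap.ker f) ≤ Module.finrank L (Algebra.H1Cotangent K L) := by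
    rw [LinearMap.exact_iff.mp (Algebra.H1Cotangent.exact_δ_mapBaseChange k K L)]
    exact (Algebra.H1Cotangent.δ k K L).finrank_range_le
  simp only [f] at e1 e3
  omega

end Groth.Agent.S4526
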