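import Groth.Statements.S4528
import Mathlib

set_option autoImplicit false
universe u
open EGA41
open scoped TensorProduct
set_option linter.style.haveILetI false

namespace Groth.Agent.S4528

open IsLocalRing in
/-- Let k be a field (any characteristic) and A a complete Noetherian local k-algebra whose residue
field K is an extension of finite type of k. Then the completed module of differentials, i.e. the
𝔪-adic completion of Ω_{A/k}, is an A-module of finite type. -/
theorem result {k A : Type u} [Field k] [CommRing A] [IsLocalRing A]
    [IsNoetherianRing A] [IsAdicComplete (maximalIdeal A) A] [Algebra k A]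
    [Algebra.EssFiniteType k (ResidueField A)] :
    Module.Finite A (AdicCompletion (maximalIdeal A) (Ω[A⁄k])) := by
  set m := maximalIdeal A
  set K := ResidueField A
  haveI hAK : Module.Finite A K :=
    Module.Finite.of_surjective (Algebra.linearMap A K) IsLocalRing.residue_surjective
  haveI hT : Module.Finite K (K ⊗[A] Ω[A⁄k]) := by
    let g := KaehlerDifferential.mapBaseChange k A K
    have hker : (LinearMap.ker g).FG := by
      let φ := KaehlerDifferential.kerCotangentToTensor k A K
      have hfg : (RingHom.ker (algebraMap A K)).FG := IsNoetherian.noetherian _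
      haveI : Module.Finite A (RingHom.ker (algebraMap A K)) := Module.Finite.iff_fg.mpr hfg
      haveI : Module.Finite A (RingHom.ker (algebraMap A K)).Cotangent :=
        Module.Finite.of_surjective (Ideal.toCotangent _) (Ideal.toCotangent_surjective _)
      have : ((LinearMap.ker g).restrictScalars A).FG := by
        rw [← KaehlerDifferential.range_kerCotangentToTensor k A K IsLocalRing.residue_surjective]
        exact Module.Finite.iff_fg.mp inferInstance
      obtain ⟨s, hs⟩ := this
      refine ⟨s, le_antisymm (Submodule.span_le.mpr fun x hx => ?_) (fun x hx => ?_)⟩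
      · have : x ∈ (LinearMap.ker g).restrictScalars A := hs ▸ Submodule.subset_span hx
        exact this
      · have : x ∈ Submodule.span A (s : Set (K ⊗[A] Ω[A⁄k])) := hs ▸ hx
        exact Submodule.span_le_restrictScalars A K _ this
    exact ⟨Submodule.fg_of_fg_map_of_fg_inf_ker g (IsNoetherian.noetherian _) (by simpa using hker)⟩
  haveI : Module.Finite A (K ⊗[A] Ω[A⁄k]) := Module.Finite.trans K _
  haveI : Module.Finite A (Ω[A⁄k] ⧸ (m • ⊤ : Submodule A Ω[A⁄k])) := by
    haveI : Module.Finite A ((A ⧸ m) ⊗[A] Ω[A⁄k]) := ‹Module.Finite A (K ⊗[A] Ω[A⁄k])›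
    exact Module.Finite.equiv (TensorProduct.quotTensorEquivQuotSMul _ m)
  obtain ⟨n, g, hg⟩ := Module.Finite.exists_fin' A (Ω[A⁄k] ⧸ (m • ⊤ : Submodule A Ω[A⁄k]))
  obtain ⟨f, hf⟩ := Module.projective_lifting_property _ g (Submodule.mkQ_surjective (m • ⊤ : Submodule A Ω[A⁄k]))
  have hsurj : Function.Surjective (AdicCompletion.map m f) :=
    AdicCompletion.map_surjective_of_mkQ_comp_surjective (by rw [hf]; exact hg)
  haveI : Module.Finite A (AdicCompletion m A) :=
    Module.Finite.equiv (AdicCompletion.ofLinearEquiv m A)
  haveI : Module.Finite A (AdicCompletion m (Fin n → A)) :=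
    Module.Finite.of_surjective ((AdicCompletion.ofTensorProduct m (Fin n → A)).restrictScalars A)
      (AdicCompletion.ofTensorProduct_surjective_of_finite m (Fin n → A))
  exact Module.Finite.of_surjective ((AdicCompletion.map m f).restrictScalars A) hsurj

end Groth.Agent.S4528
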