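import Groth.Statements.S4536
-- import your own Groth.Agent.* helpers here
import Mathlib

set_option autoImplicit false
universe u
open EGA41

namespace Groth.Agent.S4536

/-- Let A carry the 𝔞-adic and B the 𝔟-adic topology, A → B being continuous (a power of 𝔞 maps into 𝔟).
Then B is formally smooth over A if and only if for every n the (A/𝔞ⁿ)-algebra B/𝔞ⁿB, with the adic
topology of the image of 𝔟, is formally smooth over the discrete ring A/𝔞ⁿ. -/
theorem result {A B : Type u} [CommRing A] [CommRing B] [Algebra A B]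
    (𝔞 : Ideal A) (𝔟 : Ideal B) (hAB : ∃ k : ℕ, (𝔞 ^ k).map (algebraMap A B) ≤ 𝔟) :
    EGA41.IsFormallySmoothAdic A 𝔞 B 𝔟 ↔
      ∀ n : ℕ, EGA41.IsFormallySmoothAdic (A ⧸ 𝔞 ^ n) ⊥ (B ⧸ (𝔞 ^ n).map (algebraMap A B))
        (𝔟.map (Ideal.Quotient.mk ((𝔞 ^ n).map (algebraMap A B)))) := by
  constructor
  · intro hB n E _ _ J hJ _ u hu
    obtain ⟨m, hm⟩ := hu
    letI : Algebra A E := ((algebraMap (A ⧸ 𝔞 ^ n) E).comp (Ideal.Quotient.mk _)).toAlgebra
    haveI : IsScalarTower A (A ⧸ 𝔞 ^ n) E := IsScalarTower.of_algebraMap_eq fun _ => rfl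
    have hE : (𝔞 ^ n).map (algebraMap A E) = ⊥ := by
      rw [eq_bot_iff, Ideal.map_le_iff_le_comap]
      intro a ha
      change algebraMap (A ⧸ 𝔞 ^ n) E (Ideal.Quotient.mk _ a) = 0
      rw [Ideal.Quotient.eq_zero_iff_mem.mpr ha, map_zero]
    let π := Ideal.Quotient.mkₐ A ((𝔞 ^ n).map (algebraMap A B))
    have hu' : ∃ k : ℕ, ∀ x ∈ 𝔟 ^ k, (u.restrictScalars A).comp π x = 0 := by
      refine ⟨m, fun x hx => hm _ ?_⟩
      rw [← Ideal.map_pow]
      exact Ideal.mem_map_of_mem _ hx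
    obtain ⟨v, hv⟩ := hB E J hJ ⟨n, hE⟩ ((u.restrictScalars A).comp π) hu'
    have hkill : ∀ x ∈ (𝔞 ^ n).map (algebraMap A B), v x = 0 := by
      intro x hx
      have h := Ideal.mem_map_of_mem v.toRingHom hx
      rw [Ideal.map_map, show v.toRingHom.comp (algebraMap A B) = algebraMap A E from
        v.comp_algebraMap, hE] at h
      exact h
    let w : B ⧸ (𝔞 ^ n).map (algebraMap A B) →ₐ[A ⧸ 𝔞 ^ n] E :=
      (Ideal.Quotient.liftₐ _ v hkill).extendScalarsOfSurjective Ideal.Quotient.mk_surjective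
    refine ⟨w, AlgHom.ext fun y => ?_⟩
    obtain ⟨x, rfl⟩ := Ideal.Quotient.mk_surjective y
    exact congrArg (fun g : B →ₐ[A] E ⧸ J => g x) hv
  · intro h E _ _ J hJ hE u hu
    obtain ⟨n, hn⟩ := hE
    obtain ⟨m, hm⟩ := hu
    have hn' : ∀ a ∈ 𝔞 ^ n, algebraMap A E a = 0 := fun a ha => by
      have := Ideal.mem_map_of_mem (algebraMap A E) ha
      rwa [hn] at this
    letI : Algebra (A ⧸ 𝔞 ^ n) E := (Ideal.Quotient.lift _ (algebraMap A E) hn').toAlgebra
    haveI : IsScalarTower A (A ⧸ 𝔞 ^ n) E := IsScalarTower.of_algebraMap_eq fun _ => rfl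
    have hkill : ∀ x ∈ (𝔞 ^ n).map (algebraMap A B), u x = 0 := by
      intro x hx
      have h := Ideal.mem_map_of_mem u.toRingHom hx
      rw [Ideal.map_map, show u.toRingHom.comp (algebraMap A B) =
        (Ideal.Quotient.mk J).comp (algebraMap A E) from u.comp_algebraMap,
        ← Ideal.map_map, hn, Ideal.map_bot] at h
      exact h
    let u' : B ⧸ (𝔞 ^ n).map (algebraMap A B) →ₐ[A ⧸ 𝔞 ^ n] E ⧸ J :=
      (Ideal.Quotient.liftₐ _ u hkill).extendScalarsOfSurjective Ideal.Quotient.mk_surjective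
    obtain ⟨w, hw⟩ := h n E J hJ ⟨1, by rw [pow_one, Ideal.map_bot]⟩ u' ⟨m, by
      intro y hy
      rw [← Ideal.map_pow, Ideal.mem_map_iff_of_surjective _ Ideal.Quotient.mk_surjective] at hy
      obtain ⟨x, hx, rfl⟩ := hy
      exact hm x hx⟩
    refine ⟨(w.restrictScalars A).comp (Ideal.Quotient.mkₐ A _), AlgHom.ext fun x => ?_⟩
    exact congrArg (fun g => g (Ideal.Quotient.mk _ x)) hw

end Groth.Agent.S4536
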