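import Groth.Statements.S4539
import Groth.Agent.FSField.Basic
import Groth.Agent.S2451
import Mathlib

set_option autoImplicit false
universe u
open EGA41

namespace Groth.Agent.S4539

open IsLocalRing in
/-- Let A be a local ring with residue characteristic p (p = 0 or a prime), P the prime local ring ℤ_(p)
(ℚ if p = 0) and P → A its unique local homomorphism. Then A is a Cohen ring, i.e. a Cohen P-algebra
— Noetherian and complete, flat over P, with pA its maximal ideal (and residue field separable over
the prime field) — if and only if A is a field of characteristic 0 or a complete discrete valuation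
ring of residue characteristic > 0 whose maximal ideal is generated by p·1. -/
theorem result (p : ℕ) [hp : (Ideal.span {(p : ℤ)}).IsPrime]
    {A : Type} [CommRing A] [IsLocalRing A] [CharP (ResidueField A) p]
    [Algebra (Localization.AtPrime (Ideal.span {(p : ℤ)})) A]
    [IsLocalHom (algebraMap (Localization.AtPrime (Ideal.span {(p : ℤ)})) A)] :
    EGA41.IsCohenAlgebra (Localization.AtPrime (Ideal.span {(p : ℤ)})) A ↔ EGA41.IsCohenRingEGA A := by
  classical
  have hmP : maximalIdeal (Localization.AtPrime (Ideal.span {(p : ℤ)})) =
      Ideal.span {(p : Localization.AtPrime (Ideal.span {(p : ℤ)}))} := by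
    rw [← Localization.AtPrime.map_eq_maximalIdeal, Ideal.map_span, Set.image_singleton, map_natCast]
  have hmap : (maximalIdeal (Localization.AtPrime (Ideal.span {(p : ℤ)}))).map
      (algebraMap (Localization.AtPrime (Ideal.span {(p : ℤ)})) A) = Ideal.span {(p : A)} := by
    rw [hmP, Ideal.map_span, Set.image_singleton, map_natCast]
  haveI hchar : CharP (ResidueField (Localization.AtPrime (Ideal.span {(p : ℤ)}))) p :=
    (algebraMap (ResidueField (Localization.AtPrime (Ideal.span {(p : ℤ)})))
      (ResidueField A)).charP (RingHom.injective _) p
  haveI hperf : PerfectField (ResidueField (Localization.AtPrime (Ideal.span {(p : ℤ)}))) := by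
    rcases CharP.char_is_prime_or_zero (ResidueField A) p with hpp | h0
    · haveI := Fact.mk hpp
      haveI : PerfectRing (ResidueField (Localization.AtPrime (Ideal.span {(p : ℤ)}))) p := by
        refine PerfectRing.ofSurjective _ p fun x => ⟨x, ?_⟩
        obtain ⟨y, rfl⟩ := residue_surjective x
        obtain ⟨a, b, rfl⟩ := IsLocalization.exists_mk'_eq (Ideal.span {(p : ℤ)}).primeCompl y
        have hb : residue _ (algebraMap ℤ (Localization.AtPrime (Ideal.span {(p : ℤ)})) b) ≠ 0 :=
          ((IsLocalization.map_units _ b).map (residue _)).ne_zero
        have e := congrArg (residue _) (IsLocalization.mk'_spec (Localization.AtPrime (Ideal.span {(p : ℤ)})) a b)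
        simp only [map_mul, eq_intCast, map_intCast] at e
        simp only [eq_intCast, map_intCast] at hb
        rw [← eq_div_iff hb] at e
        rw [e, map_div₀, map_intCast, map_intCast]
      exact PerfectRing.toPerfectField _ p
    · subst h0
      haveI : CharZero (ResidueField (Localization.AtPrime (Ideal.span {((0 : ℕ) : ℤ)}))) :=
        CharP.charP_to_charZero _
      infer_instance
  have hgr : Algebra.IsGeometricallyReduced (ResidueField (Localization.AtPrime (Ideal.span {(p : ℤ)})))
      (ResidueField A) :=
    Groth.Agent.S2451.result.mp (Groth.Agent.FSField.formallySmooth_of_perfectField _ _)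
  constructor
  · rintro ⟨-, hN, hC, hF, hm, -⟩
    rw [hmap] at hm
    rcases CharP.char_is_prime_or_zero (ResidueField A) p with hpp | h0
    · refine Or.inr ?_
      have hp0 : (p : Localization.AtPrime (Ideal.span {(p : ℤ)})) ≠ 0 := by
        rw [← map_natCast (algebraMap ℤ (Localization.AtPrime (Ideal.span {(p : ℤ)})))]
        exact fun h => hpp.ne_zero (Nat.cast_eq_zero.mp
          (IsLocalization.injective _ (Ideal.primeCompl_le_nonZeroDivisors (Ideal.span {(p : ℤ)})) (h.trans (map_zero _).symm)))
      have hreg : ∀ x : A, (p : A) * x = 0 → x = 0 := by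
        intro x hx
        haveI := hF
        refine Module.Flat.isSMulRegular_of_isRegular (M := A) (IsRegular.of_ne_zero hp0) ?_
        show _ • x = _ • (0 : A)
        rw [Algebra.smul_def, Algebra.smul_def, map_natCast, hx, mul_zero]
      have hpm : (p : A) ∈ maximalIdeal A := hm ▸ Ideal.mem_span_singleton_self _
      have hreg' : ∀ (n : ℕ) (x : A), (p : A) ^ n * x = 0 → x = 0 := by
        intro n
        induction n with
        | zero => simp
        | succ n ih => exact fun x hx => ih x (hreg _ (by rw [← mul_assoc, ← pow_succ']; exact hx))
      have hform : ∀ x : A, x ≠ 0 → ∃ (n : ℕ) (v : A), IsUnit v ∧ x = (p : A) ^ n * v := by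
        intro x hx
        by_contra hcon
        push Not at hcon
        refine hx ?_
        have : ∀ n, x ∈ maximalIdeal A ^ n := by
          intro n
          rw [← hm, Ideal.span_singleton_pow, Ideal.mem_span_singleton]
          induction n with
          | zero => simp
          | succ n ih =>
            obtain ⟨v, hv⟩ := ih
            have : v ∈ maximalIdeal A := by
              by_contra hv'
              exact hcon n v (notMem_maximalIdeal.mp hv') hv
            obtain ⟨w, rfl⟩ := Ideal.mem_span_singleton'.mp (hm ▸ this)
            exact ⟨w, by rw [hv]; ring⟩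
        have h1 := Ideal.iInf_pow_eq_bot_of_isLocalRing (I := maximalIdeal A) (maximalIdeal.isMaximal A).ne_top
        rw [← Ideal.mem_bot, ← h1, Submodule.mem_iInf]
        exact this
      haveI : IsDomain A := by
        haveI : NoZeroDivisors A := by
          refine ⟨fun {x y} hxy => ?_⟩
          by_contra hcon
          push Not at hcon
          obtain ⟨n, v, hv, rfl⟩ := hform x hcon.1
          exact hcon.2 ((hv.mul_right_eq_zero).mp (hreg' n _ (by rw [← mul_assoc]; exact hxy)))
        exact NoZeroDivisors.to_isDomain A
      have hnf : ¬IsField A := by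
        rw [isField_iff_maximalIdeal_eq, ← hm, Ideal.span_singleton_eq_bot]
        intro h
        exact one_ne_zero (hreg 1 (by rw [h, zero_mul]))
      haveI : IsDiscreteValuationRing A := by
        exact ((IsDiscreteValuationRing.TFAE A hnf).out 0 4).mpr
          (show (maximalIdeal A).IsPrincipal from ⟨⟨_, hm.symm⟩⟩)
      exact ⟨inferInstance, inferInstance, hC, p, hpp, hm.symm⟩
    · subst h0
      refine Or.inl ⟨?_, ?_⟩
      · rw [isField_iff_maximalIdeal_eq, ← hm, Nat.cast_zero, Ideal.span_singleton_eq_bot]
      · haveI : CharZero (ResidueField A) := CharP.charP_to_charZero _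
        exact (residue A).charZero
  · intro h
    have hnP : IsNoetherianRing (Localization.AtPrime (Ideal.span {(p : ℤ)})) :=
      IsLocalization.isNoetherianRing (Ideal.span {(p : ℤ)}).primeCompl _ inferInstance
    rcases h with ⟨hf, hz⟩ | ⟨_, _, hC, q, hq, hmax⟩
    · have hbot : maximalIdeal A = ⊥ := isField_iff_maximalIdeal_eq.mp hf
      have hp0 : p = 0 := by
        have hi : Function.Injective (residue A) := by
          rw [RingHom.injective_iff_ker_eq_bot, ker_residue, hbot]
        haveI := CharP.ofCharZero A
        have h0 : CharP (ResidueField A) 0 := charP_of_injective_ringHom hi 0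
        exact CharP.eq (ResidueField A) ‹CharP (ResidueField A) p› h0
      subst hp0
      letI := hf.toField
      have hfP : IsField (Localization.AtPrime (Ideal.span {((0 : ℕ) : ℤ)})) := by
        rw [isField_iff_maximalIdeal_eq, hmP]
        exact Ideal.span_singleton_eq_bot.mpr Nat.cast_zero
      refine ⟨hnP, inferInstance, ?_, ?_, ?_, hgr⟩
      · rw [hbot]; infer_instance
      · letI := hfP.toField
        exact Module.Flat.of_free
      · rw [hmap, hbot, Nat.cast_zero, Ideal.span_singleton_eq_bot]
    · have hqk : ((q : ℕ) : ResidueField A) = 0 := by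
        rw [← map_natCast (residue A), residue_eq_zero_iff, hmax]
        exact Ideal.mem_span_singleton_self _
      have hpq : p = q := ((Nat.dvd_prime hq).mp ((CharP.cast_eq_zero_iff _ p q).mp hqk)).resolve_left
        (CharP.char_ne_one (ResidueField A) p)
      subst hpq
      have hp0 : (p : A) ≠ 0 := by
        intro h0
        apply IsDiscreteValuationRing.not_isField A
        rw [isField_iff_maximalIdeal_eq, hmax, h0, Ideal.span_singleton_eq_bot]
      have hZ : Function.Injective (algebraMap ℤ A) := by
        rcases CharP.exists' A with hc0 | ⟨r, hr, hc⟩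
        · exact RingHom.injective_int _
        · exfalso
          have hrk : ((r : ℕ) : ResidueField A) = 0 := by
            rw [← map_natCast (residue A), CharP.cast_eq_zero, map_zero]
          have := ((Nat.dvd_prime hr.out).mp ((CharP.cast_eq_zero_iff _ p r).mp hrk)).resolve_left
            (CharP.char_ne_one (ResidueField A) p)
          exact hp0 (this ▸ CharP.cast_eq_zero A r)
      refine ⟨hnP, inferInstance, hC, ?_, by rw [hmap, hmax], hgr⟩
      haveI : IsDomain (Localization.AtPrime (Ideal.span {(p : ℤ)})) :=
        IsLocalization.isDomain_localization (Ideal.primeCompl_le_nonZeroDivisors (Ideal.span {(p : ℤ)}))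
      haveI : IsPrincipalIdealRing (Localization.AtPrime (Ideal.span {(p : ℤ)})) := by
        refine ⟨fun J => ?_⟩
        obtain ⟨a, ha⟩ := (IsPrincipalIdealRing.principal (J.comap (algebraMap ℤ _))).principal
        refine ⟨⟨algebraMap ℤ _ a, ?_⟩⟩
        rw [← IsLocalization.map_comap (Ideal.span {(p : ℤ)}).primeCompl _ J, Ideal.under_def, ha]
        simp only [Ideal.submodule_span_eq, Ideal.map_span, Set.image_singleton]
      have hinjP : Function.Injective (algebraMap (Localization.AtPrime (Ideal.span {(p : ℤ)})) A) := by
        rw [injective_iff_map_eq_zero]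
        intro x hx
        obtain ⟨a, b, rfl⟩ := IsLocalization.exists_mk'_eq (Ideal.span {(p : ℤ)}).primeCompl x
        have e := congrArg (algebraMap (Localization.AtPrime (Ideal.span {(p : ℤ)})) A)
          (IsLocalization.mk'_spec (Localization.AtPrime (Ideal.span {(p : ℤ)})) a b)
        rw [map_mul, hx, zero_mul] at e
        have ha : a = 0 := hZ (by
          rw [map_zero, e]
          exact RingHom.congr_fun (RingHom.ext_int (algebraMap ℤ A)
            ((algebraMap (Localization.AtPrime (Ideal.span {(p : ℤ)})) A).comp (algebraMap ℤ _))) a)
        rw [ha, IsLocalization.mk'_zero]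
      haveI : Module.IsTorsionFree (Localization.AtPrime (Ideal.span {(p : ℤ)})) A :=
        Module.isTorsionFree_iff_algebraMap_injective.mpr hinjP
      infer_instance

end Groth.Agent.S4539
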