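import Groth.Statements.S4540
-- import your own Groth.Agent.* helpers here
import Groth.Agent.EGA41FS.Projective
import Groth.Agent.S0582

set_option autoImplicit false
universe u
open EGA41

namespace Groth.Agent.S4540

open IsLocalRing TensorProduct in
/-- Let A, B be Noetherian local rings and A → B a local homomorphism making B a formally smooth
A-algebra for the adic topologies of the maximal ideals. Then for every ideal of definition 𝔟 of B,
the (B/𝔟)-module Ω_{B/A} ⊗_B (B/𝔟) is free. -/
theorem result {A B : Type u} [CommRing A] [IsLocalRing A]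
    [IsNoetherianRing A] [CommRing B] [IsLocalRing B] [IsNoetherianRing B] [Algebra A B] [IsLocalHom (algebraMap A B)]
    (h : EGA41.IsFormallySmoothAdic A (maximalIdeal A) B (maximalIdeal B))
    (𝔟 : Ideal B) (hle : 𝔟 ≤ maximalIdeal B) (hpow : ∃ k : ℕ, maximalIdeal B ^ k ≤ 𝔟) :
    Module.Free (B ⧸ 𝔟) ((B ⧸ 𝔟) ⊗[B] Ω[B⁄A]) := by
  haveI : Nontrivial (B ⧸ 𝔟) :=
    Ideal.Quotient.nontrivial_iff.mpr (ne_top_of_le_ne_top (maximalIdeal.isMaximal B).ne_top hle)
  haveI : IsLocalRing (B ⧸ 𝔟) := IsLocalRing.of_surjective' (Ideal.Quotient.mk 𝔟) Ideal.Quotient.mk_surjective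
  haveI := Groth.Agent.EGA41FS.projective_of_formallySmoothAdic (maximalIdeal A) (maximalIdeal B)
    ⟨1, by rw [pow_one]; exact IsLocalRing.map_maximalIdeal_le (algebraMap A B)⟩ h 𝔟 hpow
  exact Groth.Agent.S0582.result (B ⧸ 𝔟) _

end Groth.Agent.S4540
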