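import Groth.Statements.S4541
import Groth.Agent.PBasisLib.Basic
import Mathlib.FieldTheory.Perfect
import Mathlib.RingTheory.Smooth.Basic
import Mathlib.RingTheory.Ideal.Quotient.Nilpotent

set_option autoImplicit false
universe u
open EGA41 Groth.Agent

namespace Groth.Agent.S4541

/-- Let p be a prime, A a perfect ring of characteristic p and B a reduced A-algebra of characteristic p
which admits a p-basis (x_α) over A. Then B is a formally smooth A-algebra (discrete topologies);
more precisely, for every A-algebra E, every nilpotent ideal R of E, every A-algebra homomorphism v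
: B → E/R and every family (z_α) of elements of E lifting the v(x_α), there is a unique A-algebra
homomorphism w : B → E lifting v with w(x_α) = z_α for all α. (The published statement assumes,
instead of A perfect and B reduced, that the canonical map A^(p) ⊗_A B → B^(p), a ⊗ b ↦ a b^p with
Frobenius-twisted structures, is injective; when A is perfect that condition says exactly that B is
reduced, which is the case stated here. The published statement also treats admissible topological
E; only discrete E is stated.) -/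
theorem result (p : ℕ) [Fact p.Prime] {A B : Type u} [CommRing A] [CharP A p]
    [PerfectRing A p] [CommRing B] [Algebra A B] [CharP B p] [IsReduced B]
    {ι : Type u} (x : ι → B) (hx : EGA41.IsPBasis p A x) :
    Algebra.FormallySmooth A B ∧
    ∀ (E : Type u) [CommRing E] [Algebra A E] (R : Ideal E), IsNilpotent R →
      ∀ (v : B →ₐ[A] E ⧸ R) (z : ι → E), (∀ i, Ideal.Quotient.mk R (z i) = v (x i)) →
        ∃! w : B →ₐ[A] E, (Ideal.Quotient.mkₐ A R).comp w = v ∧ ∀ i, w (x i) = z i := by
  classical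
  have hp : 0 < p := (Fact.out : p.Prime).pos
  -- `A[B^p] = B^p`
  have hroot : ∀ c : EGA41.pPowerSubalgebra p A B, ∃ b : B, b ^ p = c := by
    rintro ⟨c, hc⟩
    induction hc using Algebra.adjoin_induction with
    | mem w hw => obtain ⟨b, rfl⟩ := hw; exact ⟨b, rfl⟩
    | algebraMap a =>
      obtain ⟨a', rfl⟩ := (frobeniusEquiv A p).surjective a
      exact ⟨algebraMap A B a', by simp [frobeniusEquiv_apply, frobenius_def, ← map_pow]⟩
    | add u w _ _ hu hw => obtain ⟨b, hb⟩ := hu; obtain ⟨b', hb'⟩ := hw; exact ⟨b + b', by rw [add_pow_char, hb, hb']⟩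
    | mul u w _ _ hu hw => obtain ⟨b, hb⟩ := hu; obtain ⟨b', hb'⟩ := hw; exact ⟨b * b', by rw [mul_pow, hb, hb']⟩
  choose g hg using hroot
  have hinjF : ∀ b b' : B, b ^ p = b' ^ p → b = b' := fun b b' h => by
    have : (b - b') ^ p = 0 := by rw [sub_pow_char, h, sub_self]
    exact sub_eq_zero.1 (IsReduced.eq_zero _ ⟨p, this⟩)
  let gh : EGA41.pPowerSubalgebra p A B →+* B :=
    { toFun := g
      map_one' := hinjF _ _ (by rw [hg, one_pow]; rfl)
      map_mul' := fun a b => hinjF _ _ (by rw [hg, mul_pow, hg, hg]; rfl)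
      map_zero' := hinjF _ _ (by rw [hg, zero_pow hp.ne']; rfl)
      map_add' := fun a b => hinjF _ _ (by rw [hg, add_pow_char, hg, hg]; rfl) }
  -- the square zero step
  have step : ∀ (E : Type u) [CommRing E] [Algebra A E] (J : Ideal E), J ^ 2 = ⊥ →
      ∀ (v : B →ₐ[A] E ⧸ J) (z : ι → E), (∀ i, Ideal.Quotient.mk J (z i) = v (x i)) →
        ∃! w : B →ₐ[A] E, (Ideal.Quotient.mkₐ A J).comp w = v ∧ ∀ i, w (x i) = z i := by
    intro E _ _ J hJ v z hz
    rcases subsingleton_or_nontrivial E with hE | hE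
    · haveI := hE
      haveI : Subsingleton (E ⧸ J) := (Ideal.Quotient.mk_surjective (I := J)).subsingleton
      let w0 : B →ₐ[A] E := AlgHom.ofLinearMap 0 (Subsingleton.elim _ _) (fun _ _ => Subsingleton.elim _ _)
      exact ⟨w0, ⟨AlgHom.ext fun _ => Subsingleton.elim _ _, fun _ => Subsingleton.elim _ _⟩,
        fun w _ => AlgHom.ext fun _ => Subsingleton.elim _ _⟩
    haveI : CharP E p := (CharP.charP_iff_prime_eq_zero Fact.out).2 (by
      rw [← map_natCast (algebraMap A E), CharP.cast_eq_zero A p, map_zero])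
    have hJp : ∀ e ∈ J, e ^ p = 0 := fun e he => by
      have := Ideal.pow_le_pow_right (I := J) (Fact.out : p.Prime).two_le (Ideal.pow_mem_pow he p)
      rwa [hJ, Ideal.mem_bot] at this
    let F : E ⧸ J →+* E := Ideal.Quotient.lift J (frobenius E p) fun e he => by rw [frobenius_def]; exact hJp e he
    have hFmk : ∀ e, F (Ideal.Quotient.mk J e) = e ^ p := fun e => rfl
    obtain ⟨ψ, hC, hxi⟩ := PBasisLib.exists_lift hp hx (F.comp (v.toRingHom.comp gh)) z (fun i => by
      show z i ^ p = F (v (g ⟨x i ^ p, _⟩))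
      rw [hinjF (g ⟨x i ^ p, PBasisLib.pow_mem (x i)⟩) (x i) (hg _), ← hz, hFmk])
    have hA : ∀ a : A, ψ (algebraMap A B a) = algebraMap A E a := fun a => by
      have h := hC (algebraMap A (EGA41.pPowerSubalgebra p A B) a)
      rw [show ((algebraMap A (EGA41.pPowerSubalgebra p A B) a : EGA41.pPowerSubalgebra p A B) : B) = algebraMap A B a from rfl] at h
      rw [h]
      obtain ⟨a', rfl⟩ := (frobeniusEquiv A p).surjective a
      show F (v (g _)) = _
      rw [hinjF (g _) (algebraMap A B a') (by rw [hg]; simp [frobeniusEquiv_apply, frobenius_def, ← map_pow]), AlgHom.commutes,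
        show algebraMap A (E ⧸ J) a' = Ideal.Quotient.mk J (algebraMap A E a') from rfl, hFmk, ← map_pow]
      simp [frobeniusEquiv_apply, frobenius_def]
    have hcomp : ∀ w : B →+* E, (∀ b, Ideal.Quotient.mk J (w b) = v b) → ∀ c : EGA41.pPowerSubalgebra p A B, w c = F (v (g c)) := by
      intro w hw c
      conv_lhs => rw [← hg c]
      rw [map_pow, ← hw, hFmk]
    have hlift : ∀ b, Ideal.Quotient.mk J (ψ b) = v b := by
      refine fun b => congrFun (congrArg DFunLike.coe (PBasisLib.hom_ext hp hx.2 (ψ := (Ideal.Quotient.mk J).comp ψ) (ψ' := v.toRingHom) (fun c => ?_) fun i => ?_)) b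
      · show Ideal.Quotient.mk J (ψ c) = v c
        rw [hC]
        show Ideal.Quotient.mk J (F (v (g c))) = v c
        obtain ⟨e, he⟩ := Ideal.Quotient.mk_surjective (v (g c))
        rw [← he, hFmk, map_pow, he, ← map_pow, hg]
      · show Ideal.Quotient.mk J (ψ (x i)) = v (x i)
        rw [hxi, hz]
    refine ⟨{ ψ with commutes' := hA }, ⟨AlgHom.ext hlift, hxi⟩, fun w ⟨hw, hwx⟩ => ?_⟩
    refine AlgHom.coe_ringHom_injective (PBasisLib.hom_ext hp hx.2 (fun c => ?_) fun i => ?_)
    · show w c = ψ c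
      rw [hC]
      exact hcomp w.toRingHom (fun b => congrFun (congrArg DFunLike.coe hw) b) c
    · show w (x i) = ψ (x i)
      rw [hxi, hwx]
  have main : ∀ (E : Type u) [CommRing E] [Algebra A E] (R : Ideal E), IsNilpotent R →
      ∀ (v : B →ₐ[A] E ⧸ R) (z : ι → E), (∀ i, Ideal.Quotient.mk R (z i) = v (x i)) →
        ∃! w : B →ₐ[A] E, (Ideal.Quotient.mkₐ A R).comp w = v ∧ ∀ i, w (x i) = z i := by
    intro E _ _ R hR
    revert ‹Algebra A E›
    refine Ideal.IsNilpotent.induction_on R hR (P := fun {S} _ I => ∀ [Algebra A S] (v : B →ₐ[A] S ⧸ I) (z : ι → S),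
      (∀ i, Ideal.Quotient.mk I (z i) = v (x i)) →
        ∃! w : B →ₐ[A] S, (Ideal.Quotient.mkₐ A I).comp w = v ∧ ∀ i, w (x i) = z i) ?_ ?_
    · intro S _ I hI _
      exact step S I hI
    · intro S _ I J hIJ hI hJ _ v z hz
      let e : ((S ⧸ I) ⧸ J.map (Ideal.Quotient.mkₐ A I)) ≃ₐ[A] S ⧸ J := DoubleQuot.quotQuotEquivQuotOfLEₐ A hIJ
      obtain ⟨w', ⟨hw', hw'x⟩, huniq'⟩ := hJ (e.symm.toAlgHom.comp v) (fun i => Ideal.Quotient.mk I (z i)) (fun i => by
        show _ = e.symm (v (x i))
        rw [← hz i]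
        exact (DoubleQuot.quotQuotEquivQuotOfLE_symm_mk (z i) hIJ).symm)
      obtain ⟨w, ⟨hw, hwx⟩, huniq⟩ := hI w' z (fun i => (hw'x i).symm)
      have key : ∀ b, e (Ideal.Quotient.mk _ (w' b)) = v b := fun b => by
        have := congrFun (congrArg DFunLike.coe hw') b
        simp only [AlgHom.comp_apply, Ideal.Quotient.mkₐ_eq_mk] at this
        exact (congrArg e this).trans (e.apply_symm_apply _)
      refine ⟨w, ⟨AlgHom.ext fun b => ?_, hwx⟩, fun u ⟨hu, hux⟩ => huniq u ⟨?_, hux⟩⟩
      · rw [← key b, ← congrFun (congrArg DFunLike.coe hw) b]; rfl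
      · refine huniq' _ ⟨AlgHom.ext fun b => ?_, fun i => by simp [hux]⟩
        show Ideal.Quotient.mk _ (Ideal.Quotient.mk I (u b)) = e.symm (v b)
        rw [← congrFun (congrArg DFunLike.coe hu) b]
        exact (DoubleQuot.quotQuotEquivQuotOfLE_symm_mk (u b) hIJ).symm
  refine ⟨Algebra.FormallySmooth.of_comp_surjective fun E _ _ I hI v => ?_, main⟩
  choose z hz using fun i => Ideal.Quotient.mk_surjective (v (x i))
  obtain ⟨w, ⟨hw, -⟩, -⟩ := step E I hI v z hz
  exact ⟨w, hw⟩

end Groth.Agent.S4541
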