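import Groth.Statements.S4542
-- import your own Groth.Agent.* helpers here
import Mathlib

set_option autoImplicit false
universe u
open EGA41

namespace Groth.Agent.S4542

/-- Let B (𝔟-adic) be formally smooth over A (𝔞-adic); let C be a topological A-algebra for the 𝔠-adic
topology (a power of 𝔞 maps into 𝔠) which is complete, and J an ideal which is closed, i.e. C/J is
Hausdorff for the 𝔠-adic topology, and whose powers tend to 0, i.e. some power of J lies in 𝔠. Then
every continuous A-algebra homomorphism u : B → C/J (a power of 𝔟 maps into the image of 𝔠) factors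
as B → C → C/J with B → C a continuous A-algebra homomorphism (a power of 𝔟 maps into 𝔠). -/
theorem result {A B C : Type u} [CommRing A] [CommRing B] [CommRing C] [Algebra A B]
    [Algebra A C] (𝔞 : Ideal A) (𝔟 : Ideal B) (𝔠 : Ideal C) (hB : EGA41.IsFormallySmoothAdic A 𝔞 B 𝔟)
    [IsAdicComplete 𝔠 C] (hAC : ∃ k : ℕ, (𝔞 ^ k).map (algebraMap A C) ≤ 𝔠)
    (J : Ideal C) (hJ : ∃ t : ℕ, J ^ t ≤ 𝔠) [IsHausdorff (𝔠.map (Ideal.Quotient.mk J)) (C ⧸ J)]
    (u : B →ₐ[A] C ⧸ J) (hu : ∃ k : ℕ, (𝔟 ^ k).map u.toRingHom ≤ 𝔠.map (Ideal.Quotient.mk J)) :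
    ∃ v : B →ₐ[A] C, (∃ k : ℕ, (𝔟 ^ k).map v.toRingHom ≤ 𝔠) ∧ (Ideal.Quotient.mkₐ A J).comp v = u := by
  classical
  obtain ⟨ka, hka⟩ := hAC
  obtain ⟨t, ht⟩ := hJ
  obtain ⟨kb, hkb⟩ := hu
  have hsup : ∀ m, (J ⊔ 𝔠) ^ m ≤ J ^ m ⊔ 𝔠 := by
    intro m
    induction m with
    | zero => simp
    | succ m ih =>
      rw [pow_succ, pow_succ]
      refine (Ideal.mul_mono_left ih).trans ?_
      rw [Ideal.sup_mul, Ideal.mul_sup]
      exact sup_le (sup_le le_sup_left (Ideal.mul_le_right.trans le_sup_right))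
        (Ideal.mul_le_left.trans le_sup_right)
  have glue : ∀ (I K : Ideal C) (f : B →ₐ[A] C ⧸ I) (g : B →ₐ[A] C ⧸ K),
      (∀ b c c', Ideal.Quotient.mk I c = f b → Ideal.Quotient.mk K c' = g b → c - c' ∈ I ⊔ K) →
      ∃ h : B →ₐ[A] C ⧸ I ⊓ K, (Ideal.Quotient.factorₐ A inf_le_left).comp h = f ∧
        (Ideal.Quotient.factorₐ A inf_le_right).comp h = g := by
    intro I K f g hfg
    let π : C ⧸ I ⊓ K →ₐ[A] (C ⧸ I) × (C ⧸ K) :=
      (Ideal.Quotient.factorₐ A inf_le_left).prod (Ideal.Quotient.factorₐ A inf_le_right)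
    have hπ : Function.Injective π := by
      rw [injective_iff_map_eq_zero]
      intro x hx
      obtain ⟨x, rfl⟩ := Ideal.Quotient.mk_surjective x
      exact Ideal.Quotient.eq_zero_iff_mem.mpr ⟨Ideal.Quotient.eq_zero_iff_mem.mp (congrArg Prod.fst hx),
        Ideal.Quotient.eq_zero_iff_mem.mp (congrArg Prod.snd hx)⟩
    have hmem : ∀ b, f.prod g b ∈ π.range := fun b => by
      obtain ⟨c, hc⟩ := Ideal.Quotient.mk_surjective (f b)
      obtain ⟨c', hc'⟩ := Ideal.Quotient.mk_surjective (g b)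
      obtain ⟨x, hx, y, hy, hxy⟩ := Submodule.mem_sup.mp (hfg b c c' hc hc')
      refine ⟨Ideal.Quotient.mk _ (c - x), Prod.ext ?_ ?_⟩
      · show Ideal.Quotient.mk I (c - x) = f b
        rw [map_sub, Ideal.Quotient.eq_zero_iff_mem.mpr hx, sub_zero, hc]
      · show Ideal.Quotient.mk K (c - x) = g b
        rw [← hc', Ideal.Quotient.eq, show c - x - c' = y by linear_combination -hxy]
        exact hy
    let e := AlgEquiv.ofInjective π hπ
    refine ⟨e.symm.toAlgHom.comp ((f.prod g).codRestrict π.range hmem), AlgHom.ext fun b => ?_, AlgHom.ext fun b => ?_⟩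
    · exact congrArg (fun z : π.range => z.1.1) (e.apply_symm_apply ⟨_, hmem b⟩)
    · exact congrArg (fun z : π.range => z.1.2) (e.apply_symm_apply ⟨_, hmem b⟩)
  let P : ∀ n, (B →ₐ[A] C ⧸ 𝔠 ^ n) → Prop := fun n w => (∃ m, ∀ x ∈ 𝔟 ^ m, w x = 0) ∧
    ∀ b c c', Ideal.Quotient.mk J c = u b → Ideal.Quotient.mk (𝔠 ^ n) c' = w b → c - c' ∈ J ⊔ 𝔠 ^ n
  have step : ∀ n (w : {w // P n w}), ∃ w' : {w // P (n + 1) w},
      (Ideal.Quotient.factorPow 𝔠 (show n ≤ n + 1 by omega)).comp w'.1.toRingHom = w.1.toRingHom := by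
    intro n ⟨w, ⟨mw, hmw⟩, hw⟩
    let K := J ⊔ 𝔠 ^ (n + 1)
    let uK : B →ₐ[A] C ⧸ K := (Ideal.Quotient.factorₐ A (le_sup_left : J ≤ K)).comp u
    have hle : 𝔠 ^ (n + 1) ≤ 𝔠 ^ n := Ideal.pow_le_pow_right (by omega)
    obtain ⟨h, hh1, hh2⟩ := glue K (𝔠 ^ n) uK w fun b c c' hc hc' => by
      obtain ⟨c₀, hc₀⟩ := Ideal.Quotient.mk_surjective (u b)
      have h1 : c - c₀ ∈ K := by
        rw [← Ideal.Quotient.eq, hc]
        show Ideal.Quotient.factor (le_sup_left : J ≤ K) (u b) = _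
        rw [← hc₀, Ideal.Quotient.factor_mk]
      have h2 := hw b c₀ c' hc₀ hc'
      rw [show c - c' = (c - c₀) + (c₀ - c') by ring]
      exact add_mem (Ideal.mem_sup_left h1) (sup_le_sup_right (le_sup_left : J ≤ K) _ h2)
    let L := K ⊓ 𝔠 ^ n
    have hL : 𝔠 ^ (n + 1) ≤ L := le_inf le_sup_right hle
    let φ : C ⧸ 𝔠 ^ (n + 1) →ₐ[A] C ⧸ L := Ideal.Quotient.factorₐ A hL
    have hs : Function.Surjective φ := Ideal.Quotient.factor_surjective hL
    have hker : RingHom.ker φ = L.map (Ideal.Quotient.mk (𝔠 ^ (n + 1))) := Ideal.Quotient.factor_ker hL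
    have hnil : IsNilpotent (RingHom.ker φ) := by
      refine ⟨t + 2, ?_⟩
      rw [hker, ← Ideal.map_pow (Ideal.Quotient.mk (𝔠 ^ (n + 1))), Ideal.zero_eq_bot, Ideal.map_eq_bot_iff_le_ker,
        Ideal.mk_ker]
      rcases Nat.eq_zero_or_pos n with rfl | hn
      · refine ((Ideal.pow_right_mono (inf_le_left : L ≤ K) _).trans ?_)
        simp only [K, zero_add, pow_one]
        exact (hsup _).trans (sup_le ((Ideal.pow_le_pow_right (by omega)).trans ht) le_rfl)
      · refine ((Ideal.pow_right_mono (inf_le_right : L ≤ 𝔠 ^ n) _).trans ?_)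
        rw [← pow_mul]
        exact Ideal.pow_le_pow_right (by nlinarith)
    let e := Ideal.quotientKerAlgEquivOfSurjective hs
    have hkill : ∀ x ∈ 𝔟 ^ (kb * (n + 1) + mw), h x = 0 := fun x hx => by
      have hA : uK x = 0 := by
        have h1 : (𝔟 ^ (kb * (n + 1))).map uK.toRingHom ≤ ⊥ := by
          rw [pow_mul, Ideal.map_pow]
          have h2 : (𝔟 ^ kb).map uK.toRingHom ≤ 𝔠.map (Ideal.Quotient.mk K) := by
            have h3 := Ideal.map_mono (f := Ideal.Quotient.factor (le_sup_left : J ≤ K)) hkb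
            rw [Ideal.map_map, Ideal.map_map, Ideal.Quotient.factor_comp_mk] at h3
            exact h3
          refine (Ideal.pow_right_mono h2 _).trans ?_
          rw [← Ideal.map_pow, le_bot_iff, Ideal.map_eq_bot_iff_le_ker, Ideal.mk_ker]
          exact le_sup_right
        exact (Submodule.mem_bot _).mp (h1 (Ideal.mem_map_of_mem uK.toRingHom (Ideal.pow_le_pow_right (Nat.le_add_right _ _) hx)))
      have hB' : w x = 0 := hmw x (Ideal.pow_le_pow_right (Nat.le_add_left _ _) hx)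
      obtain ⟨y, hy⟩ := Ideal.Quotient.mk_surjective (h x)
      rw [← hy, Ideal.Quotient.eq_zero_iff_mem]
      constructor
      · rw [SetLike.mem_coe, ← Ideal.Quotient.eq_zero_iff_mem, ← hA, ← show Ideal.Quotient.factorₐ A inf_le_left (h x) = uK x from
          DFunLike.congr_fun hh1 x, ← hy]
        rfl
      · rw [SetLike.mem_coe, ← Ideal.Quotient.eq_zero_iff_mem, ← hB', ← show Ideal.Quotient.factorₐ A inf_le_right (h x) = w x from
          DFunLike.congr_fun hh2 x, ← hy]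
        rfl
    obtain ⟨v, hv⟩ := hB (C ⧸ 𝔠 ^ (n + 1)) (RingHom.ker φ) hnil
      ⟨ka * (n + 1), by
        rw [IsScalarTower.algebraMap_eq A C (C ⧸ 𝔠 ^ (n + 1)), ← Ideal.map_map, Ideal.map_eq_bot_iff_le_ker,
          Ideal.Quotient.algebraMap_eq, Ideal.mk_ker, pow_mul, Ideal.map_pow]
        exact Ideal.pow_right_mono hka _⟩
      (e.symm.toAlgHom.comp h) ⟨kb * (n + 1) + mw, fun x hx => by simp [hkill x hx]⟩
    have hφv : ∀ x, φ (v x) = h x := fun x => by
      have := congrArg e (DFunLike.congr_fun hv x)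
      simp only [AlgHom.comp_apply, AlgEquiv.coe_toAlgHom, AlgEquiv.apply_symm_apply] at this
      exact this
    obtain ⟨q, hq⟩ := hnil
    refine ⟨⟨v, ⟨(kb * (n + 1) + mw) * q, fun x hx => ?_⟩, fun b c c' hc hc' => ?_⟩, RingHom.ext fun x => ?_⟩
    · have hm : (𝔟 ^ (kb * (n + 1) + mw)).map v.toRingHom ≤ RingHom.ker φ :=
        Ideal.map_le_iff_le_comap.mpr fun y hy => RingHom.mem_ker.mpr ((hφv y).trans (hkill y hy))
      have h2 := Ideal.mem_map_of_mem v.toRingHom hx
      rw [pow_mul, Ideal.map_pow] at h2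
      have h3 := Ideal.pow_right_mono hm q h2
      rw [hq] at h3
      exact h3
    · rw [← Ideal.Quotient.eq]
      have h1 : Ideal.Quotient.factor (le_sup_left : J ≤ K) (u b) =
          Ideal.Quotient.factor (le_sup_right : 𝔠 ^ (n + 1) ≤ K) (v b) := by
        have := DFunLike.congr_fun hh1 b
        rw [AlgHom.comp_apply, ← hφv, ← hc'] at this
        rw [← hc']
        exact this.symm
      rw [← hc, ← hc', Ideal.Quotient.factor_mk, Ideal.Quotient.factor_mk] at h1
      exact h1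
    · have := DFunLike.congr_fun hh2 x
      rw [AlgHom.comp_apply, ← hφv] at this
      obtain ⟨y, hy⟩ := Ideal.Quotient.mk_surjective (v x)
      show Ideal.Quotient.factor hle (v x) = w x
      rw [← this, ← hy]
      rfl
  choose next hnext using step
  haveI : Subsingleton (C ⧸ 𝔠 ^ 0) := Ideal.Quotient.subsingleton_iff.mpr (by simp)
  let z : B →ₐ[A] C ⧸ 𝔠 ^ 0 :=
    { toFun := fun _ => 0
      map_one' := Subsingleton.elim _ _
      map_mul' := fun _ _ => Subsingleton.elim _ _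
      map_zero' := rfl
      map_add' := fun _ _ => Subsingleton.elim _ _
      commutes' := fun _ => Subsingleton.elim _ _ }
  let w0 : {w // P 0 w} := ⟨z, ⟨0, fun _ _ => rfl⟩, fun b c c' _ _ => by simp⟩
  let w : ∀ n, {w // P n w} := fun n => n.rec w0 fun n p => next n p
  have hmono : StrictMono (fun n : ℕ => n + 1) := fun a b h => Nat.succ_lt_succ h
  have hcompat : ∀ {j : ℕ}, (Ideal.Quotient.factorPow 𝔠 (Nat.succ_le_succ j.le_succ)).comp
      (w (j + 1 + 1)).1.toRingHom = (w (j + 1)).1.toRingHom := fun {j} => by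
    exact hnext (j + 1) (w (j + 1))
  have hv := fun n => IsAdicComplete.StrictMono.mk_liftRingHom 𝔠 hmono (fun n => (w (n + 1)).1.toRingHom) hcompat (n := n)
  let v : B →ₐ[A] C := { IsAdicComplete.StrictMono.liftRingHom 𝔠 hmono (fun n => (w (n + 1)).1.toRingHom) hcompat with
    commutes' := fun r => by
      refine eq_of_sub_eq_zero (IsHausdorff.haus (I := 𝔠) inferInstance _ fun n => ?_)
      rw [SModEq.sub_mem, sub_zero, smul_eq_mul, Ideal.mul_top]
      refine Ideal.pow_le_pow_right (show n ≤ n + 1 by omega) (Ideal.Quotient.eq.mp ?_)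
      exact (hv n (algebraMap A B r)).trans ((w (n + 1)).1.commutes r) }
  obtain ⟨m1, hm1⟩ := (w 1).2.1
  refine ⟨v, ⟨m1, Ideal.map_le_iff_le_comap.mpr fun x hx => ?_⟩, AlgHom.ext fun b => ?_⟩
  · rw [Ideal.mem_comap, ← pow_one 𝔠, ← Ideal.Quotient.eq_zero_iff_mem]
    exact (hv 0 x).trans (hm1 x hx)
  · obtain ⟨c, hc⟩ := Ideal.Quotient.mk_surjective (u b)
    rw [← hc]
    refine eq_of_sub_eq_zero (IsHausdorff.haus (I := 𝔠.map (Ideal.Quotient.mk J)) inferInstance _ fun n => ?_)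
    rw [SModEq.sub_mem, sub_zero, smul_eq_mul, Ideal.mul_top, ← Ideal.map_pow]
    have hle2 : J ⊔ 𝔠 ^ (n + 1) ≤ J ⊔ 𝔠 ^ n :=
      sup_le le_sup_left (le_trans (Ideal.pow_le_pow_right (by omega)) le_sup_right)
    have h1 : c - v b ∈ J ⊔ 𝔠 ^ n := hle2 ((w (n + 1)).2.2 b c (v b) hc (hv n b))
    obtain ⟨x, hx, y, hy, hxy⟩ := Submodule.mem_sup.mp h1
    show Ideal.Quotient.mk J (v b) - Ideal.Quotient.mk J c ∈ _
    rw [← map_sub, show v b - c = -x + -y by linear_combination hxy, map_add,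
      Ideal.Quotient.eq_zero_iff_mem.mpr (neg_mem hx), zero_add]
    exact Ideal.mem_map_of_mem _ (neg_mem hy)

end Groth.Agent.S4542
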