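import Groth.Statements.S4545
import Groth.Agent.AdmissibleSub.Basic
import Groth.Agent.S2475
import Groth.Agent.EGA41SymGr.Separate
import Mathlib

set_option autoImplicit false
universe u
open EGA41

namespace Groth.Agent.S4545

open TensorProduct in
/-- Let K be a field of characteristic p > 0, k₀ a subfield and (k_α) a decreasing filtered family of
subfields of K containing k₀. Then ⋂_α k_α(K^p) = k₀(K^p) if and only if for every extension L of K
such that Υ_{L/K/k₀} has finite rank over L there is an α with k_α admissible for L over K relative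
to k₀, i.e. with Υ_{L/K/k₀} → Υ_{L/K/k_α} injective. (The published statement has two further
equivalent conditions; this row states (a) ⇔ (b).) -/
theorem result (p : ℕ) [Fact p.Prime] {k₀ K : Type u}
    [Field k₀] [Field K] [Algebra k₀ K] [CharP K p]
    {ι : Type u} [Preorder ι] [IsDirected ι (· ≤ ·)] [Nonempty ι] (k : ι → IntermediateField k₀ K) (hk : Antitone k) :
    (⨅ i, k i ⊔ IntermediateField.adjoin k₀ (Set.range fun y : K => y ^ p)) =
        IntermediateField.adjoin k₀ (Set.range fun y : K => y ^ p) ↔
      ∀ (L : Type u) [Field L] [Algebra K L] [Algebra k₀ L] [IsScalarTower k₀ K L],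
        Module.Finite L (EGA41.imperfection k₀ K L) →
          ∃ i, ∀ ω ∈ EGA41.imperfection k₀ K L,
            ((KaehlerDifferential.map k₀ (k i) K K).restrictScalars K).baseChange L ω = 0 → ω = 0 := by
  constructor
  · intro h L _ _ _ _ hfin
    haveI := hfin
    obtain ⟨i, hi⟩ := Groth.Agent.AdmissibleSub.exists_admissible (L := L) hk
      ((Groth.Agent.S2475.result p k hk).mp h)
    exact ⟨i, fun ω hω h0 => (Submodule.eq_bot_iff _).mp hi ω ⟨hω, h0⟩⟩
  · intro H
    refine le_antisymm (fun a ha => ?_) (le_iInf fun i => le_sup_right)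
    by_contra haF
    have hpK : ∀ b : K, b ^ p ≠ a := fun b hb => haF (IntermediateField.subset_adjoin _ _ ⟨b, hb⟩)
    haveI hirr : Fact (Irreducible (Polynomial.X ^ p - Polynomial.C a)) :=
      ⟨X_pow_sub_C_irreducible_of_prime (Fact.out : p.Prime) hpK⟩
    let f : Polynomial K := Polynomial.X ^ p - Polynomial.C a
    let L := AdjoinRoot f
    have hf : f ≠ 0 := hirr.out.ne_zero
    haveI : Module.Finite K L := (AdjoinRoot.powerBasis hf).finite
    haveI : Algebra.FinitePresentation K L :=
      Algebra.FinitePresentation.of_finiteType.mp inferInstance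
    haveI : Module.Finite L (EGA41.imperfection k₀ K L) := by
      have hδ := LinearMap.exact_iff.mp (Algebra.H1Cotangent.exact_δ_mapBaseChange k₀ K L)
      rw [EGA41.imperfection, hδ]
      infer_instance
    haveI : CharP L p := charP_of_injective_algebraMap (algebraMap K L).injective p
    obtain ⟨i, hi⟩ := H L inferInstance
    let ω : TensorProduct K L (Ω[K⁄k₀]) := (1 : L) ⊗ₜ KaehlerDifferential.D k₀ K a
    have hroot : (AdjoinRoot.root f) ^ p = algebraMap K L a := by
      have h1 : Polynomial.eval₂ (AdjoinRoot.of f) (AdjoinRoot.root f) f = 0 := AdjoinRoot.eval₂_root f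
      rw [Polynomial.eval₂_sub, Polynomial.eval₂_pow, Polynomial.eval₂_X, Polynomial.eval₂_C,
        sub_eq_zero] at h1
      exact h1
    have hω : ω ∈ EGA41.imperfection k₀ K L := by
      show KaehlerDifferential.mapBaseChange k₀ K L ω = 0
      rw [KaehlerDifferential.mapBaseChange_tmul, one_smul, KaehlerDifferential.map_D, ← hroot]
      exact Groth.Agent.EGA41SymGr.Separate.derivation_pow_eq_zero p _ _
    have hDi : KaehlerDifferential.D (k i) K a = 0 := by
      let W : IntermediateField k₀ K :=
        { carrier := {z | KaehlerDifferential.D (k i) K z = 0}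
          mul_mem' := fun {a b} (ha : _ = 0) (hb : _ = 0) => show _ = 0 by rw [Derivation.leibniz, ha, hb]; simp
          one_mem' := show _ = 0 from Derivation.map_one_eq_zero _
          add_mem' := fun {a b} (ha : _ = 0) (hb : _ = 0) => show _ = 0 by rw [map_add, ha, hb, add_zero]
          zero_mem' := show _ = 0 from map_zero _
          algebraMap_mem' := fun c => show _ = 0 from
            (KaehlerDifferential.D (k i) K).map_algebraMap (algebraMap k₀ (k i) c)
          inv_mem' := fun a (ha : _ = 0) => show _ = 0 by rw [Derivation.leibniz_inv, ha, smul_zero] }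
      exact (sup_le (fun z hz => (KaehlerDifferential.D (k i) K).map_algebraMap ⟨z, hz⟩)
        (IntermediateField.adjoin_le_iff.mpr (by
          rintro _ ⟨z, rfl⟩
          exact Groth.Agent.EGA41SymGr.Separate.derivation_pow_eq_zero p _ z)) :
        k i ⊔ IntermediateField.adjoin k₀ (Set.range fun y : K => y ^ p) ≤ W)
        (iInf_le (fun i => k i ⊔ IntermediateField.adjoin k₀ (Set.range fun y : K => y ^ p)) i ha)
    have hω0 : ω = 0 := hi ω hω (by
      rw [LinearMap.baseChange_tmul]
      erw [KaehlerDifferential.map_D]
      exact (congrArg _ hDi).trans (TensorProduct.tmul_zero _ _))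
    have hDa : KaehlerDifferential.D k₀ K a = 0 := by
      obtain ⟨g, hg⟩ := LinearMap.exists_leftInverse_of_injective (Algebra.linearMap K L)
        (LinearMap.ker_eq_bot.mpr (algebraMap K L).injective)
      have hg1 : g 1 = 1 := by
        have := LinearMap.congr_fun hg 1
        simpa using this
      have h2 := congrArg (fun w => TensorProduct.lid K _ (LinearMap.rTensor (Ω[K⁄k₀]) g w)) hω0
      simpa [ω, hg1] using h2
    let F := IntermediateField.adjoin k₀ (Set.range fun y : K => y ^ p)
    let K' : IntermediateField k₀ K := F ⊔ IntermediateField.adjoin k₀ {a}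
    let W0 : IntermediateField k₀ K :=
      { carrier := {z | KaehlerDifferential.D k₀ K z = 0}
        mul_mem' := fun {a b} (ha : _ = 0) (hb : _ = 0) => show _ = 0 by rw [Derivation.leibniz, ha, hb]; simp
        one_mem' := show _ = 0 from Derivation.map_one_eq_zero _
        add_mem' := fun {a b} (ha : _ = 0) (hb : _ = 0) => show _ = 0 by rw [map_add, ha, hb, add_zero]
        zero_mem' := show _ = 0 from map_zero _
        algebraMap_mem' := fun c => show _ = 0 from (KaehlerDifferential.D k₀ K).map_algebraMap c
        inv_mem' := fun a (ha : _ = 0) => show _ = 0 by rw [Derivation.leibniz_inv, ha, smul_zero] }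
    have hK' : K' ≤ W0 := sup_le (IntermediateField.adjoin_le_iff.mpr (by
      rintro _ ⟨z, rfl⟩
      exact Groth.Agent.EGA41SymGr.Separate.derivation_pow_eq_zero p _ z))
      (IntermediateField.adjoin_simple_le_iff.mpr hDa)
    have hsep := (Groth.Agent.S2475.result p (fun _ : ι => K') (fun _ _ _ => le_rfl)).mpr fun w hw => by
      have hmem : w ∈ LinearMap.range (KaehlerDifferential.mapBaseChange k₀ K' K) := by
        rw [KaehlerDifferential.range_mapBaseChange]; exact hw (Classical.arbitrary ι)
      refine (Submodule.mem_bot K).mp (Submodule.span_le.mpr ?_ (Groth.Agent.AdmissibleSub.range_le hmem))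
      rintro _ ⟨y, rfl⟩
      exact (Submodule.mem_bot K).mpr (hK' y.2)
    rw [iInf_const] at hsep
    exact haF (hsep.le ((le_sup_left : K' ≤ K' ⊔ F)
      ((le_sup_right : IntermediateField.adjoin k₀ {a} ≤ K') (IntermediateField.mem_adjoin_simple_self k₀ a))))

end Groth.Agent.S4545
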