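import Groth.Statements.S4547
import Groth.Agent.LeftInv.Apps

set_option autoImplicit false
universe u
open EGA41

namespace Groth.Agent.S4547

open IsLocalRing TensorProduct in
/-- Let A be a local ring with residue field k, M an A-module of finite type, N a projective A-module
and u : M → N a homomorphism. Then u is left invertible if and only if there is a finite system of
generators (x_i) of M such that the elements 1 ⊗ u(x_i) of k ⊗_A N are linearly independent over k;
and such a system (x_i) is then a basis of M. -/
theorem result {A : Type u} [CommRing A] [IsLocalRing A] {M N : Type u}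
    [AddCommGroup M] [Module A M] [Module.Finite A M] [AddCommGroup N] [Module A N] [Module.Projective A N]
    (u : M →ₗ[A] N) :
    ((∃ w : N →ₗ[A] M, w ∘ₗ u = LinearMap.id) ↔
      ∃ (m : ℕ) (x : Fin m → M), Submodule.span A (Set.range x) = ⊤ ∧
        LinearIndependent (ResidueField A) (fun i => (1 : ResidueField A) ⊗ₜ[A] u (x i))) ∧
    ∀ (m : ℕ) (x : Fin m → M), Submodule.span A (Set.range x) = ⊤ →
      LinearIndependent (ResidueField A) (fun i => (1 : ResidueField A) ⊗ₜ[A] u (x i)) →
        ∃ b : Module.Basis (Fin m) A M, ∀ i, b i = x i := by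
  classical
  have hLI : ∀ (m : ℕ) (x : Fin m → M),
      LinearIndependent (IsLocalRing.ResidueField A) (fun i => (1 : IsLocalRing.ResidueField A) ⊗ₜ[A] u (x i)) →
        LinearIndependent A x := fun m x h =>
    LinearIndependent.of_comp u (Module.IsLocalRing.linearIndependent_of_flat (fun i => u (x i)) h)
  refine ⟨⟨?_, ?_⟩, fun m x hx h => ⟨Module.Basis.mk (hLI m x h) hx.ge, fun i => Module.Basis.mk_apply _ _ i⟩⟩
  · rintro ⟨w, hw⟩
    haveI : Module.Projective A M := Module.Projective.of_split u w hw
    haveI : Module.Free A M := Module.free_of_flat_of_isLocalRing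
    let b := Module.finBasis A M
    refine ⟨_, b, b.span_eq, ?_⟩
    rw [Fintype.linearIndependent_iff]
    intro c hc i
    have h1 : w.baseChange (IsLocalRing.ResidueField A) (∑ j, c j • ((1 : IsLocalRing.ResidueField A) ⊗ₜ[A] u (b j))) = 0 := by
      rw [hc, map_zero]
    have h2 : ∀ j, w (u (b j)) = b j := fun j => LinearMap.congr_fun hw (b j)
    simp only [map_sum, map_smul, LinearMap.baseChange_tmul, h2] at h1
    have h3 := (b.baseChange (IsLocalRing.ResidueField A)).linearIndependent
    rw [Fintype.linearIndependent_iff] at h3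
    exact h3 c (by simpa [Module.Basis.baseChange_apply] using h1) i
  · rintro ⟨m, x, hx, h⟩
    obtain ⟨φ, hφ⟩ := Groth.Agent.LeftInv.exists_functionals (fun i => u (x i)) h
    have hd : (Matrix.of fun j i => φ j (u (x i))).det ∉ IsLocalRing.maximalIdeal A := fun hmem =>
      hφ ((IsLocalRing.residue_eq_zero_iff _).mpr hmem)
    obtain ⟨f, hf, w, hw⟩ := Groth.Agent.LeftInv.leftInvAt_of_minor u (IsLocalRing.maximalIdeal A) x φ hd
      (fun y => ⟨1, fun h1 => (IsLocalRing.maximalIdeal.isMaximal A).ne_top ((Ideal.eq_top_iff_one _).mpr h1),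
        by rw [one_smul, hx]; trivial⟩)
    have hu : IsUnit f := IsLocalRing.notMem_maximalIdeal.mp hf
    refine ⟨(hu.unit⁻¹ : Aˣ).val • w, ?_⟩
    rw [LinearMap.smul_comp, hw, smul_smul, IsUnit.val_inv_mul, one_smul]

end Groth.Agent.S4547
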