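import Groth.Statements.S4549
import Groth.Agent.AdmissibleSub.Basic
import Groth.Agent.S2475
import Groth.Agent.FrobCofinite.Field

set_option autoImplicit false
universe u
open EGA41

namespace Groth.Agent.S4549

open TensorProduct in
/-- Let K be a field of characteristic p, k₀ a subfield and L an extension of K such that Υ_{L/K/k₀} has
finite rank over L. Then there is a subfield k of K containing k₀(K^p), with [K : k] finite, which
is k₀-admissible for the extension L of K, i.e. such that Υ_{L/K/k₀} → Υ_{L/K/k} is injective. (The
published statement uses the characteristic exponent and so also covers characteristic 0, where k =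
K works; this row treats characteristic p > 0.) -/
theorem result (p : ℕ) [Fact p.Prime] {k₀ K L : Type u} [Field k₀] [Field K] [Field L]
    [Algebra k₀ K] [Algebra K L] [Algebra k₀ L] [IsScalarTower k₀ K L] [CharP K p]
    [Module.Finite L (EGA41.imperfection k₀ K L)] :
    ∃ k : IntermediateField k₀ K, (∀ y : K, y ^ p ∈ k) ∧ Module.Finite k K ∧
      ∀ ω ∈ EGA41.imperfection k₀ K L,
        ((KaehlerDifferential.map k₀ k K K).restrictScalars K).baseChange L ω = 0 → ω = 0 := by
  classical
  let Q : Set K := Set.range (algebraMap k₀ K) ∪ Groth.Agent.FrobCofinite.P p K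
  obtain ⟨S, hanti, hQ, hfin, hinf⟩ :=
    Groth.Agent.FrobCofinite.exists_relFamily p K Q Set.subset_union_right
  let k : Finset K → IntermediateField k₀ K := fun t =>
    (S t).toIntermediateField fun a => hQ t (Or.inl ⟨a, rfl⟩)
  have hk : Antitone k := fun a b hab => hanti hab
  haveI : IsDirected (Finset K) (· ≤ ·) := inferInstance
  have hint : (⨅ i, k i ⊔ IntermediateField.adjoin k₀ (Set.range fun y : K => y ^ p)) =
      IntermediateField.adjoin k₀ (Set.range fun y : K => y ^ p) := by
    refine le_antisymm (fun x hx => ?_) (le_iInf fun i => le_sup_right)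
    have hmem : ∀ i, x ∈ S i := fun i => by
      have h1 : x ∈ k i ⊔ IntermediateField.adjoin k₀ (Set.range fun y : K => y ^ p) := iInf_le (fun i => k i ⊔ _) i hx
      have h2 : k i ⊔ IntermediateField.adjoin k₀ (Set.range fun y : K => y ^ p) ≤ k i :=
        sup_le le_rfl (IntermediateField.adjoin_le_iff.mpr fun z hz => hQ i (Or.inr hz))
      exact h2 h1
    exact (Subfield.closure_mono le_rfl (hinf x hmem) : x ∈ Subfield.closure Q)
  obtain ⟨i, hi⟩ := Groth.Agent.AdmissibleSub.exists_admissible (L := L) hk
    ((Groth.Agent.S2475.result p k hk).mp hint)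
  refine ⟨k i, fun y => hQ i (Or.inr ⟨y, rfl⟩), hfin i, fun ω hω h0 => ?_⟩
  exact (Submodule.eq_bot_iff _).mp hi ω ⟨hω, h0⟩

end Groth.Agent.S4549
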