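import Groth.Statements.S4551
-- import your own Groth.Agent.* helpers here
import Groth.Agent.EGA41Nagata.Generic
import Groth.Agent.S2451

set_option autoImplicit false
universe u
open EGA41

namespace Groth.Agent.S4551

/-- For every field k (any characteristic) the field of fractions k((T_1, …, T_r)) of the power series
ring k[[T_1, …, T_r]] is a separable extension of k, i.e. it is geometrically reduced over k. -/
theorem result (k : Type u) [Field k] (r : ℕ) :
    Algebra.IsGeometricallyReduced k (FractionRing (MvPowerSeries (Fin r) k)) := by
  open IsLocalRing in
  classical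
  let P := MvPowerSeries (Fin r) k
  let L := FractionRing P
  letI : Algebra L L := Algebra.id L
  haveI : Algebra.IsSeparable L L := inferInstance
  have hbot : maximalIdeal L = ⊥ := (IsLocalRing.isField_iff_maximalIdeal_eq).mp (Field.toIsField L)
  have hbij : Function.Bijective (residue L) := ⟨(residue L).injective, residue_surjective⟩
  let e := RingEquiv.ofBijective (residue L) hbij
  have hind := EGA41Nagata.indep_fam k r L L L e.symm.toRingHom fun c => by
    show e.symm (e (algebraMap k L c)) = _
    rw [RingEquiv.symm_apply_apply, IsScalarTower.algebraMap_apply k P L, MvPowerSeries.algebraMap_apply]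
    rfl
  have hfs : CAlgX.IsAdicFormallySmooth k L (maximalIdeal L) :=
    EGA41Adic.isAdicFormallySmooth_iff.mpr ⟨inferInstance, hind⟩
  haveI : Algebra.FormallySmooth k L := Algebra.FormallySmooth.of_comp_surjective fun B _ _ J hJ ψ => by
    refine hfs B J hJ ψ ⟨1, fun x hx => ?_⟩
    rw [pow_one, hbot, Ideal.mem_bot] at hx
    rw [hx, map_zero]
  exact S2451.result.mp this

end Groth.Agent.S4551
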