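import Groth.Statements.S4553
-- import your own Groth.Agent.* helpers here
import Groth.Agent.EGA41FS.SmallStep

set_option autoImplicit false
universe u
open EGA41

namespace Groth.Agent.S4553

/-- Let A be 𝔞-adic (a preadmissible ring with ideal of definition 𝔞), B a topological A-algebra for the
𝔟-adic topology (a power of 𝔞 maps into 𝔟) which is a formally projective topological A-module, and
put A₀ = A/𝔞, B₀ = B/𝔞B with the quotient topologies (A₀ discrete). Then B is a formally smooth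
A-algebra if and only if B₀ is a formally smooth A₀-algebra. -/
theorem result {A B : Type u} [CommRing A] [CommRing B] [Algebra A B]
    (𝔞 : Ideal A) (𝔟 : Ideal B) (hAB : ∃ k : ℕ, (𝔞 ^ k).map (algebraMap A B) ≤ 𝔟)
    (hproj : ∀ (n : ℕ) (P Q : Type u) [AddCommGroup P] [Module A P] [AddCommGroup Q] [Module A Q],
      (∀ a ∈ 𝔞 ^ n, ∀ y : P, a • y = 0) → (∀ a ∈ 𝔞 ^ n, ∀ y : Q, a • y = 0) →
      ∀ f : P →ₗ[A] Q, Function.Surjective f → ∀ v : B →ₗ[A] Q, (∃ m : ℕ, ∀ x ∈ 𝔟 ^ m, v x = 0) →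
        ∃ w : B →ₗ[A] P, (∃ m : ℕ, ∀ x ∈ 𝔟 ^ m, w x = 0) ∧ f ∘ₗ w = v) :
    EGA41.IsFormallySmoothAdic A 𝔞 B 𝔟 ↔
      EGA41.IsFormallySmoothAdic (A ⧸ 𝔞) ⊥ (B ⧸ 𝔞.map (algebraMap A B))
        (𝔟.map (Ideal.Quotient.mk (𝔞.map (algebraMap A B)))) := by
  set I := 𝔞.map (algebraMap A B) with hI
  refine ⟨fun h C _ _ J hJ _ u ⟨k, hu⟩ => ?_, fun h => ?_⟩
  · letI : Algebra A C := ((algebraMap (A ⧸ 𝔞) C).comp (Ideal.Quotient.mk 𝔞)).toAlgebra
    haveI : IsScalarTower A (A ⧸ 𝔞) C := IsScalarTower.of_algebraMap_eq fun _ => rfl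
    obtain ⟨v, hv⟩ := h C J hJ ⟨1, by
        rw [pow_one, RingHom.algebraMap_toAlgebra, ← Ideal.map_map, Ideal.map_quotient_self, Ideal.map_bot]⟩
      ((u.restrictScalars A).comp (Ideal.Quotient.mkₐ A I))
      ⟨k, fun x hx => hu _ (by rw [← Ideal.map_pow]; exact Ideal.mem_map_of_mem _ hx)⟩
    have hvI : ∀ x ∈ I, v x = 0 := by
      have h1 : I ≤ RingHom.ker v.toRingHom := Ideal.map_le_iff_le_comap.mpr fun a ha => by
        show v (algebraMap A B a) = 0
        rw [v.commutes, RingHom.algebraMap_toAlgebra, RingHom.comp_apply, Ideal.Quotient.eq_zero_iff_mem.mpr ha,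
          map_zero]
      exact fun x hx => h1 hx
    let v0 : (B ⧸ I) →ₐ[A] C := Ideal.Quotient.liftₐ I v hvI
    refine ⟨v0.extendScalarsOfSurjective Ideal.Quotient.mk_surjective, AlgHom.ext fun y => ?_⟩
    obtain ⟨x, rfl⟩ := Ideal.Quotient.mk_surjective y
    exact DFunLike.congr_fun hv x
  refine Groth.Agent.EGA41FS.isFormallySmoothAdic_of_small 𝔞 𝔟 fun C _ _ J hJ haJ ⟨n, hn⟩ u ⟨k, hu⟩ => ?_
  have hPn : ∀ a ∈ 𝔞 ^ n, ∀ y : C, a • y = 0 := fun a ha y => by
    rw [Algebra.smul_def, show algebraMap A C a = 0 from by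
      have := Ideal.mem_map_of_mem (algebraMap A C) ha
      rwa [hn, Ideal.mem_bot] at this, zero_mul]
  obtain ⟨w, ⟨m, hw⟩, hwu⟩ := hproj n C (C ⧸ J) hPn (fun a ha y => by
      obtain ⟨c, rfl⟩ := Ideal.Quotient.mk_surjective y
      show a • Ideal.Quotient.mkₐ A J c = 0
      rw [← map_smul, hPn a ha, map_zero])
    (Ideal.Quotient.mkₐ A J).toLinearMap Ideal.Quotient.mk_surjective u.toLinearMap ⟨k, hu⟩
  have hwu' : ∀ x, Ideal.Quotient.mk J (w x) = u x := fun x => LinearMap.congr_fun hwu x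
  let M := k + m
  have huM : ∀ x ∈ 𝔟 ^ M, u x = 0 := fun x hx => hu x (Ideal.pow_le_pow_right (Nat.le_add_right k m) hx)
  have hwM : ∀ x ∈ 𝔟 ^ M, w x = 0 := fun x hx => hw x (Ideal.pow_le_pow_right (Nat.le_add_left m k) hx)
  -- the fibre product and its quotient
  let E : Subalgebra A (C × B) := AlgHom.equalizer ((Ideal.Quotient.mkₐ A J).comp (AlgHom.fst A C B)) (u.comp (AlgHom.snd A C B))
  have hE : ∀ p : C × B, p ∈ E ↔ Ideal.Quotient.mk J p.1 = u p.2 := fun p => Iff.rfl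
  let p1 : E →ₐ[A] C := (AlgHom.fst A C B).comp E.val
  let p2 : E →ₐ[A] B := (AlgHom.snd A C B).comp E.val
  have hpE : ∀ e : E, Ideal.Quotient.mk J (p1 e) = u (p2 e) := fun e => (hE e.1).mp e.2
  let emb : {x // x ∈ 𝔟 ^ M} → E := fun y => ⟨((0 : C), (y : B)), (hE _).mpr (by simp [huM _ y.2])⟩
  let N : Ideal E := 𝔞.map (algebraMap A E) ⊔ Ideal.span (Set.range emb)
  -- every element of `N` lies on the graph of `w`
  have hgraph : ∀ e ∈ N, p1 e = w (p2 e) := by
    intro e he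
    have h1 : ∀ e ∈ 𝔞.map (algebraMap A E), p1 e = w (p2 e) := by
      intro e he
      suffices h1 : ∀ d : E, p1 (d * e) = w (p2 (d * e)) by simpa only [one_mul] using h1 1
      refine Submodule.span_induction (p := fun e _ => ∀ d : E, p1 (d * e) = w (p2 (d * e))) ?_ ?_ ?_ ?_ he
      · rintro _ ⟨a, ha, rfl⟩ d
        rw [mul_comm, ← Algebra.smul_def, map_smul, map_smul, map_smul]
        have hd : p1 d - w (p2 d) ∈ J := by rw [← Ideal.Quotient.eq_zero_iff_mem, map_sub, hpE, hwu', sub_self]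
        have := Ideal.mul_mem_mul (Ideal.mem_map_of_mem (algebraMap A C) ha) hd
        rw [haJ, Ideal.mem_bot, ← Algebra.smul_def, smul_sub, sub_eq_zero] at this
        exact this
      · intro d; simp
      · intro x y _ _ hx hy d; simp only [mul_add, map_add, hx d, hy d]
      · intro r x _ hx d; rw [smul_eq_mul, ← mul_assoc]; exact hx (d * r)
    obtain ⟨x, hx, y, hy, rfl⟩ := Submodule.mem_sup.mp he
    have h2 : p1 y = 0 ∧ p2 y ∈ 𝔟 ^ M := by
      refine Submodule.span_induction (p := fun e _ => p1 e = 0 ∧ p2 e ∈ 𝔟 ^ M) ?_ ?_ ?_ ?_ hy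
      · rintro _ ⟨z, rfl⟩; exact ⟨rfl, z.2⟩
      · exact ⟨map_zero _, by simp⟩
      · intro a b _ _ ha hb; exact ⟨by simp [ha.1, hb.1], by rw [map_add]; exact add_mem ha.2 hb.2⟩
      · intro r a _ ha; exact ⟨by simp [ha.1], by rw [smul_eq_mul, map_mul]; exact Ideal.mul_mem_left _ _ ha.2⟩
    rw [map_add, map_add, map_add, h1 x hx, h2.1, hwM _ h2.2]
  have hN0 : ∀ e ∈ N, p2 e = 0 → e = 0 := fun e he h0 => Subtype.ext (Prod.ext (by
    have := hgraph e he; rw [h0, map_zero] at this; exact this) h0)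
  -- quotient algebra over `A ⧸ 𝔞`
  have hker : ∀ a ∈ 𝔞, algebraMap A (E ⧸ N) a = 0 := fun a ha =>
    Ideal.Quotient.eq_zero_iff_mem.mpr (Ideal.mem_sup_left (Ideal.mem_map_of_mem _ ha))
  letI : CommRing (E ⧸ N) := Ideal.Quotient.commRing N
  letI : Algebra (A ⧸ 𝔞) (E ⧸ N) := (Ideal.Quotient.lift 𝔞 (algebraMap A (E ⧸ N)) hker).toAlgebra
  haveI : IsScalarTower A (A ⧸ 𝔞) (E ⧸ N) := IsScalarTower.of_algebraMap_eq fun _ => rfl
  let T : Ideal (B ⧸ I) := (𝔟.map (Ideal.Quotient.mk I)) ^ M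
  let ρ : E →ₐ[A] (B ⧸ I) ⧸ T := ((Ideal.Quotient.mkₐ A T).comp (Ideal.Quotient.mkₐ A I)).comp p2
  have hρN : ∀ e ∈ N, ρ e = 0 := by
    have hle : N ≤ RingHom.ker ρ.toRingHom := by
      refine sup_le (Ideal.map_le_iff_le_comap.mpr fun a ha => ?_) (Ideal.span_le.mpr ?_)
      · show ρ (algebraMap A E a) = 0
        show Ideal.Quotient.mk T (Ideal.Quotient.mk I (p2 (algebraMap A E a))) = 0
        rw [p2.commutes, Ideal.Quotient.eq_zero_iff_mem.mpr (Ideal.mem_map_of_mem _ ha), map_zero]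
      · rintro _ ⟨z, rfl⟩
        show Ideal.Quotient.mk T (Ideal.Quotient.mk I z) = 0
        rw [Ideal.Quotient.eq_zero_iff_mem]
        show _ ∈ (𝔟.map (Ideal.Quotient.mk I)) ^ M
        rw [← Ideal.map_pow]
        exact Ideal.mem_map_of_mem _ z.2
    exact fun e he => hle he
  let π : E ⧸ N →ₐ[A] (B ⧸ I) ⧸ T := Ideal.Quotient.liftₐ N ρ hρN
  let π' := π.extendScalarsOfSurjective (R := A) (S := A ⧸ 𝔞) Ideal.Quotient.mk_surjective
  have hπs : Function.Surjective π' := fun y => by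
    obtain ⟨y, rfl⟩ := Ideal.Quotient.mk_surjective y
    obtain ⟨x, rfl⟩ := Ideal.Quotient.mk_surjective y
    obtain ⟨c, hc⟩ := Ideal.Quotient.mk_surjective (u x)
    exact ⟨Ideal.Quotient.mk N ⟨(c, x), (hE _).mpr hc⟩, rfl⟩
  have hsq : ∀ e : E, ρ e = 0 → ∃ j ∈ N, p2 (e - j) = 0 := by
    intro e he
    have h1 : p2 e ∈ I ⊔ 𝔟 ^ M := by
      have h2 : Ideal.Quotient.mk I (p2 e) ∈ (𝔟 ^ M).map (Ideal.Quotient.mk I) := by
        rw [Ideal.map_pow]; exact Ideal.Quotient.eq_zero_iff_mem.mp he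
      obtain ⟨y, hy, hye⟩ := (Ideal.mem_map_iff_of_surjective _ Ideal.Quotient.mk_surjective).mp h2
      exact Submodule.mem_sup.mpr ⟨p2 e - y, Ideal.Quotient.eq.mp hye.symm, y, hy, by ring⟩
    obtain ⟨x, hx, y, hy, hxy⟩ := Submodule.mem_sup.mp h1
    have hp2 : Function.Surjective p2.toRingHom := fun z => by
      obtain ⟨c, hc⟩ := Ideal.Quotient.mk_surjective (u z)
      exact ⟨⟨(c, z), (hE _).mpr hc⟩, rfl⟩
    have hx' : x ∈ (𝔞.map (algebraMap A E)).map p2.toRingHom := by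
      rw [Ideal.map_map, show p2.toRingHom.comp (algebraMap A E) = algebraMap A B from RingHom.ext p2.commutes]
      exact hx
    obtain ⟨x', hx', hxe⟩ := (Ideal.mem_map_iff_of_surjective _ hp2).mp hx'
    refine ⟨x' + emb ⟨y, hy⟩, add_mem (Ideal.mem_sup_left hx') (Ideal.mem_sup_right (Ideal.subset_span ⟨_, rfl⟩)), ?_⟩
    rw [map_sub, map_add, ← hxy]
    show _ - (p2.toRingHom x' + y) = 0
    rw [hxe]; ring
  have hπk : IsNilpotent (RingHom.ker π'.toRingHom) := by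
    refine ⟨2, ?_⟩
    rw [pow_two, Ideal.zero_eq_bot, eq_bot_iff]
    refine Ideal.mul_le.mpr fun a ha b hb => ?_
    obtain ⟨a, rfl⟩ := Ideal.Quotient.mk_surjective a
    obtain ⟨b, rfl⟩ := Ideal.Quotient.mk_surjective b
    obtain ⟨i, hi, hi'⟩ := hsq a ha
    obtain ⟨j, hj, hj'⟩ := hsq b hb
    rw [Ideal.mem_bot, ← map_mul, Ideal.Quotient.eq_zero_iff_mem,
      show a * b = i * b + (a - i) * j + (a - i) * (b - j) by ring,
      show (a - i) * (b - j) = 0 from ?_, add_zero]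
    · exact add_mem (Ideal.mul_mem_right _ _ hi) (Ideal.mul_mem_left _ _ hj)
    · refine Subtype.ext (Prod.ext ?_ ?_)
      · have hJ' : ∀ d : E, p2 d = 0 → p1 d ∈ J := fun d hd => by
          rw [← Ideal.Quotient.eq_zero_iff_mem, hpE, hd, map_zero]
        have := Ideal.mul_mem_mul (hJ' _ hi') (hJ' _ hj')
        rw [← pow_two, hJ, Ideal.mem_bot] at this
        exact this
      · show p2 ((a - i) * (b - j)) = 0
        rw [map_mul]
        rw [hi', zero_mul]
  let eT := Ideal.quotientKerAlgEquivOfSurjective (f := π') hπs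
  obtain ⟨σ, hσ⟩ := h (E ⧸ N) (RingHom.ker π') hπk
    ⟨1, by rw [pow_one, Ideal.map_bot]⟩ (eT.symm.toAlgHom.comp (Ideal.Quotient.mkₐ (A ⧸ 𝔞) T)) ⟨M, fun x hx => by
      show eT.symm (Ideal.Quotient.mk T x) = 0
      rw [Ideal.Quotient.eq_zero_iff_mem.mpr hx, map_zero]⟩
  have hσ' : ∀ y, π' (σ y) = Ideal.Quotient.mk T y := fun y => by
    have := congrArg eT (DFunLike.congr_fun hσ y)
    simp only [AlgHom.comp_apply, AlgEquiv.coe_toAlgHom, AlgEquiv.apply_symm_apply] at this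
    exact this
  let g : E →ₐ[A] E ⧸ N := Ideal.Quotient.mkₐ A N
  let h' : E →ₐ[A] E ⧸ N := (σ.restrictScalars A).comp ((Ideal.Quotient.mkₐ A I).comp p2)
  let R := AlgHom.equalizer g h'
  let q : R →ₐ[A] B := p2.comp R.val
  have hq : Function.Bijective q := by
    constructor
    · rw [injective_iff_map_eq_zero]
      intro r hr
      have hr' : p2 r.1 = 0 := hr
      refine Subtype.ext (hN0 _ (Ideal.Quotient.eq_zero_iff_mem.mp ?_) hr')
      exact r.2.trans (by show σ (Ideal.Quotient.mk I (p2 r.1)) = 0; rw [hr', map_zero, map_zero])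
    · intro x
      obtain ⟨e, he⟩ := Ideal.Quotient.mk_surjective (σ (Ideal.Quotient.mk I x))
      obtain ⟨c, hc⟩ := Ideal.Quotient.mk_surjective (u x)
      let d : E := e - ⟨(c, x), (hE _).mpr hc⟩
      have hd : ρ d = 0 := by
        show ρ (e - _) = 0
        rw [map_sub]
        have := hσ' (Ideal.Quotient.mk I x)
        rw [← he] at this
        exact sub_eq_zero.mpr this
      obtain ⟨j, hj, hj'⟩ := hsq d hd
      refine ⟨⟨e - j, ?_⟩, ?_⟩
      · show g (e - j) = σ (Ideal.Quotient.mk I (p2 (e - j)))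
        have h2 : p2 (e - j) = x := by
          have : p2 (d - j) = p2 (e - j) - x := by simp [d, p2]; ring
          rwa [hj', eq_comm, sub_eq_zero] at this
        rw [h2, ← he]
        show Ideal.Quotient.mk N (e - j) = _
        rw [map_sub, Ideal.Quotient.eq_zero_iff_mem.mpr hj, sub_zero]
      · show p2 (e - j) = x
        have : p2 (d - j) = p2 (e - j) - x := by simp [d, p2]; ring
        rwa [hj', eq_comm, sub_eq_zero] at this
  refine ⟨(p1.comp R.val).comp (AlgEquiv.ofBijective q hq).symm.toAlgHom, AlgHom.ext fun x => ?_⟩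
  obtain ⟨r, rfl⟩ := hq.2 x
  show Ideal.Quotient.mk J (p1 ((AlgEquiv.ofBijective q hq).symm (AlgEquiv.ofBijective q hq r)).1) = u (p2 r.1)
  rw [AlgEquiv.symm_apply_apply]
  exact hpE _

end Groth.Agent.S4553
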