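import Groth.Statements.S4554
-- import your own Groth.Agent.* helpers here
import Groth.Agent.EGA41FS.SmallStep

set_option autoImplicit false
universe u
open EGA41

namespace Groth.Agent.S4554

open TensorProduct in
/-- Let A be 𝔞-adic, B a topological A-algebra for the 𝔟-adic topology (a power of 𝔞 maps into 𝔟) which
is a formally projective topological A-module, and A' an A-algebra with the topology deduced from A
(the 𝔞A'-adic topology) which is a faithfully flat, projective A-module of finite type. Then B' = A'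
⊗_A B, with the tensor product topology (the adic topology of the ideal generated by the images of 𝔞
and 𝔟), is a formally smooth A'-algebra if and only if B is a formally smooth A-algebra. -/
theorem result {A B A' : Type u} [CommRing A] [CommRing B]
    [CommRing A'] [Algebra A B] [Algebra A A'] (𝔞 : Ideal A) (𝔟 : Ideal B) (hAB : ∃ k : ℕ, (𝔞 ^ k).map (algebraMap A B) ≤ 𝔟)
    (hproj : ∀ (n : ℕ) (P Q : Type u) [AddCommGroup P] [Module A P] [AddCommGroup Q] [Module A Q],
      (∀ a ∈ 𝔞 ^ n, ∀ y : P, a • y = 0) → (∀ a ∈ 𝔞 ^ n, ∀ y : Q, a • y = 0) →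
      ∀ f : P →ₗ[A] Q, Function.Surjective f → ∀ v : B →ₗ[A] Q, (∃ m : ℕ, ∀ x ∈ 𝔟 ^ m, v x = 0) →
        ∃ w : B →ₗ[A] P, (∃ m : ℕ, ∀ x ∈ 𝔟 ^ m, w x = 0) ∧ f ∘ₗ w = v)
    [Module.FaithfullyFlat A A'] [Module.Projective A A'] [Module.Finite A A'] :
    EGA41.IsFormallySmoothAdic A' (𝔞.map (algebraMap A A')) (A' ⊗[A] B)
        ((𝔞.map (algebraMap A A')).map (algebraMap A' (A' ⊗[A] B)) ⊔
          𝔟.map (Algebra.TensorProduct.includeRight : B →ₐ[A] A' ⊗[A] B).toRingHom) ↔
      EGA41.IsFormallySmoothAdic A 𝔞 B 𝔟 := by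
  set T := (𝔞.map (algebraMap A A')).map (algebraMap A' (A' ⊗[A] B)) ⊔
    𝔟.map (Algebra.TensorProduct.includeRight : B →ₐ[A] A' ⊗[A] B).toRingHom with hT
  refine ⟨fun h => ?_, fun h C _ _ J hJ ⟨n, hn⟩ u ⟨k, hu⟩ => ?_⟩
  swap
  · letI : Algebra A C := ((algebraMap A' C).comp (algebraMap A A')).toAlgebra
    haveI : IsScalarTower A A' C := IsScalarTower.of_algebraMap_eq fun _ => rfl
    obtain ⟨v, hv⟩ := h C J hJ ⟨n, by
        rw [RingHom.algebraMap_toAlgebra, ← Ideal.map_map, Ideal.map_pow (algebraMap A A')]; exact hn⟩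
      ((u.restrictScalars A).comp Algebra.TensorProduct.includeRight) ⟨k, fun x hx => hu _ (by
        refine Ideal.pow_right_mono (le_sup_right : _ ≤ T) k ?_
        rw [← Ideal.map_pow]
        exact Ideal.mem_map_of_mem _ hx)⟩
    refine ⟨Algebra.TensorProduct.lift (Algebra.ofId A' C) v fun _ _ => Commute.all _ _, ?_⟩
    refine Algebra.TensorProduct.ext (AlgHom.ext fun a => ?_) (AlgHom.ext fun x => ?_)
    · show Ideal.Quotient.mkₐ A' J (Algebra.TensorProduct.lift (Algebra.ofId A' C) v (fun _ _ => Commute.all _ _)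
        (algebraMap A' (A' ⊗[A] B) a)) = u (algebraMap A' (A' ⊗[A] B) a)
      simp only [AlgHom.commutes]
    · show Ideal.Quotient.mk J (Algebra.TensorProduct.lift (Algebra.ofId A' C) v (fun _ _ => Commute.all _ _)
        ((1 : A') ⊗ₜ[A] x)) = u ((1 : A') ⊗ₜ[A] x)
      rw [Algebra.TensorProduct.lift_tmul, map_one, one_mul]
      exact DFunLike.congr_fun hv x
  refine Groth.Agent.EGA41FS.isFormallySmoothAdic_of_small 𝔞 𝔟 fun C _ _ J hJ _ ⟨n, hn⟩ u ⟨k, hu⟩ => ?_
  obtain ⟨r, hr⟩ : ∃ r : A' →ₗ[A] A, r 1 = 1 := by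
    let ev : (A' →ₗ[A] A) →ₗ[A] A := LinearMap.applyₗ 1
    suffices htop : LinearMap.range ev = ⊤ by
      obtain ⟨r, hr⟩ := (htop.symm ▸ Submodule.mem_top : (1 : A) ∈ LinearMap.range ev)
      exact ⟨r, hr⟩
    by_contra htop
    obtain ⟨m, hm, hle⟩ := Ideal.exists_le_maximal (LinearMap.range ev) htop
    haveI := hm
    refine Module.FaithfullyFlat.submodule_ne_top (R := A) (M := A') hm ?_
    obtain ⟨s, hs⟩ := (Module.projective_def (R := A) (P := A')).mp inferInstance
    have h1 : (1 : A') ∈ m • (⊤ : Submodule A A') := by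
      rw [← hs 1, Finsupp.linearCombination_apply]
      exact Submodule.sum_mem _ fun i _ => Submodule.smul_mem_smul
        (hle ⟨(Finsupp.lapply i).comp s, rfl⟩) Submodule.mem_top
    rw [Ideal.smul_top_eq_map, Submodule.restrictScalars_mem] at h1
    rw [Ideal.smul_top_eq_map, Submodule.restrictScalars_eq_top_iff]
    exact (Ideal.eq_top_iff_one _).mpr h1
  let ι : C →ₐ[A] A' ⊗[A] C := Algebra.TensorProduct.includeRight
  let J' : Ideal (A' ⊗[A] C) := J.map ι.toRingHom
  have hJ' : J' ^ 2 = ⊥ := by rw [← Ideal.map_pow, hJ, Ideal.map_bot]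
  let f : B →ₐ[A] (A' ⊗[A] C) ⧸ J' := (Ideal.quotientMapₐ J' ι Ideal.le_comap_map).comp u
  let u' : A' ⊗[A] B →ₐ[A'] (A' ⊗[A] C) ⧸ J' :=
    Algebra.TensorProduct.lift (Algebra.ofId A' _) f fun _ _ => Commute.all _ _
  have hC' : ((𝔞.map (algebraMap A A')) ^ n).map (algebraMap A' (A' ⊗[A] C)) = ⊥ := by
    rw [← Ideal.map_pow, Ideal.map_map, ← IsScalarTower.algebraMap_eq,
      ← show ι.toRingHom.comp (algebraMap A C) = algebraMap A (A' ⊗[A] C) from RingHom.ext ι.commutes,
      ← Ideal.map_map, hn, Ideal.map_bot]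
  have hu' : ∀ x ∈ T ^ (n + k), u' x = 0 := by
    have h1 : ((𝔞.map (algebraMap A A')).map (algebraMap A' (A' ⊗[A] B))).map u'.toRingHom ^ n = ⊥ := by
      rw [← Ideal.map_pow, ← Ideal.map_pow, Ideal.map_map,
        show u'.toRingHom.comp (algebraMap A' (A' ⊗[A] B)) = (Ideal.Quotient.mk J').comp (algebraMap A' (A' ⊗[A] C))
          from RingHom.ext u'.commutes, ← Ideal.map_map, hC', Ideal.map_bot]
    have h2 : (𝔟.map (Algebra.TensorProduct.includeRight : B →ₐ[A] A' ⊗[A] B).toRingHom).map u'.toRingHom ^ k = ⊥ := by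
      rw [← Ideal.map_pow, ← Ideal.map_pow, Ideal.map_map, eq_bot_iff]
      refine Ideal.map_le_iff_le_comap.mpr fun x hx => ?_
      show u' ((1 : A') ⊗ₜ[A] x) = 0
      rw [Algebra.TensorProduct.lift_tmul, map_one, one_mul]
      show Ideal.quotientMapₐ J' ι Ideal.le_comap_map (u x) = 0
      rw [hu x hx, map_zero]
    intro x hx
    have h3 := Ideal.mem_map_of_mem u'.toRingHom hx
    rw [Ideal.map_pow, hT, Ideal.map_sup] at h3
    have h4 := Ideal.sup_pow_add_le_pow_sup_pow h3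
    rwa [h1, h2, sup_bot_eq, Ideal.mem_bot] at h4
  obtain ⟨v', hv'⟩ := h (A' ⊗[A] C) J' ⟨2, hJ'⟩ ⟨n, hC'⟩ u' ⟨n + k, hu'⟩
  let p : A' ⊗[A] C →ₗ[A] C := (TensorProduct.lid A C).toLinearMap ∘ₗ r.rTensor C
  have hpι : ∀ c, p (ι c) = c := fun c => by simp [p, ι, hr]
  have hpmul : ∀ z c, p (z * ι c) = p z * c := fun z c => by
    induction z using TensorProduct.induction_on with
    | zero => simp
    | tmul a d => simp [p, ι, Algebra.smul_def, mul_assoc]
    | add a b ha hb => simp only [add_mul, map_add, ha, hb]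
  have hpJ : ∀ z ∈ J', p z ∈ J := by
    intro z hz
    suffices h1 : ∀ d, p (d * z) ∈ J by simpa only [one_mul] using h1 1
    refine Submodule.span_induction (p := fun z _ => ∀ d, p (d * z) ∈ J) ?_ ?_ ?_ ?_ hz
    · rintro _ ⟨j, hj, rfl⟩ d
      show p (d * ι j) ∈ J
      rw [hpmul]
      exact Ideal.mul_mem_left _ _ hj
    · intro d; simp
    · intro x y _ _ hx hy d; rw [mul_add, map_add]; exact add_mem (hx d) (hy d)
    · intro s x _ hx d; rw [smul_eq_mul, ← mul_assoc]; exact hx (d * s)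
  let v'' : B →ₐ[A] A' ⊗[A] C := (v'.restrictScalars A).comp Algebra.TensorProduct.includeRight
  choose c hc using fun x => Ideal.Quotient.mk_surjective (u x)
  have hmem : ∀ x, v'' x - ι (c x) ∈ J' := fun x => by
    rw [← Ideal.Quotient.eq]
    refine (DFunLike.congr_fun hv' ((1 : A') ⊗ₜ[A] x)).trans ?_
    show u' ((1 : A') ⊗ₜ[A] x) = _
    rw [Algebra.TensorProduct.lift_tmul, map_one, one_mul]
    show Ideal.quotientMapₐ J' ι Ideal.le_comap_map (u x) = _
    rw [← hc]
    rfl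
  have hmul0 : ∀ a ∈ J', ∀ b ∈ J', a * b = 0 := fun a ha b hb => by
    have := Ideal.mul_mem_mul ha hb
    rwa [← pow_two, hJ', Ideal.mem_bot] at this
  let vl : B →ₗ[A] C := p ∘ₗ v''.toLinearMap
  have hv1 : vl 1 = 1 := by
    show p (v'' 1) = 1
    rw [map_one, ← map_one ι, hpι]
  have hvmul : ∀ x y, vl (x * y) = vl x * vl y := fun x y => by
    show p (v'' (x * y)) = p (v'' x) * p (v'' y)
    set a := v'' x - ι (c x) with ha
    set b := v'' y - ι (c y) with hb
    have hab : p a * p b = 0 := by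
      have := Ideal.mul_mem_mul (hpJ a (hmem x)) (hpJ b (hmem y))
      rwa [← pow_two, hJ, Ideal.mem_bot] at this
    rw [map_mul, show v'' x = ι (c x) + a by rw [ha]; ring, show v'' y = ι (c y) + b by rw [hb]; ring,
      show (ι (c x) + a) * (ι (c y) + b) = ι (c x) * ι (c y) + a * ι (c y) + b * ι (c x) + a * b by ring,
      hmul0 a (hmem x) b (hmem y), ← map_mul]
    simp only [map_add, add_zero, hpι, hpmul]
    linear_combination -hab
  refine ⟨AlgHom.ofLinearMap vl hv1 hvmul, AlgHom.ext fun x => ?_⟩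
  show Ideal.Quotient.mk J (p (v'' x)) = u x
  rw [← hc, Ideal.Quotient.eq]
  have h5 := hpJ _ (hmem x)
  rwa [map_sub, hpι] at h5

end Groth.Agent.S4554
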