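import Groth.Statements.S4557
-- import your own Groth.Agent.* helpers here
import Groth.Agent.EGA418Dim.Omega
import Groth.Agent.EGA418Dim.ResidueFinite
import Groth.Agent.SegreDim.Noether
import Groth.Agent.S3847
import Groth.Agent.EGA41SymGr.Model

set_option autoImplicit false
universe u
open EGA41

namespace Groth.Agent.S4557

open IsLocalRing TensorProduct in
/-- Let A be a complete Noetherian local integral domain, A₀ a subring of A isomorphic to a power series
ring k[[T_1, …, T_r]] over a field k such that A is a finite A₀-algebra and the field of fractions E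
of A is a separable extension of the field of fractions L₀ of A₀ (here: A₀ = k[[T]] → A injective
and finite, A a k-algebra through A₀, and every element of A is a root of a polynomial over A₀ which
is separable over L₀). Then rk_A Ω̂_{A/k} = rk_E (Ω̂_{A/k} ⊗_A E) = dim A = r, where Ω̂_{A/k} is the
𝔪-adic completion of Ω_{A/k}; stated as dim_E (E ⊗_A Ω̂_{A/k}) = r. -/
theorem result (k : Type u) [Field k] (r : ℕ) (A : Type u) [CommRing A]
    [IsDomain A] [IsLocalRing A] [IsNoetherianRing A] [IsAdicComplete (maximalIdeal A) A]
    [Algebra (MvPowerSeries (Fin r) k) A] [Algebra k A] [IsScalarTower k (MvPowerSeries (Fin r) k) A]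
    (hinj : Function.Injective (algebraMap (MvPowerSeries (Fin r) k) A)) [Module.Finite (MvPowerSeries (Fin r) k) A]
    (hsep : ∀ a : A, ∃ P : Polynomial (MvPowerSeries (Fin r) k), Polynomial.aeval a P = 0 ∧
      (P.map (algebraMap (MvPowerSeries (Fin r) k) (FractionRing (MvPowerSeries (Fin r) k)))).Separable) :
    Module.finrank (FractionRing A) (FractionRing A ⊗[A] AdicCompletion (maximalIdeal A) (Ω[A⁄k])) = r := by
  open EGA418Dim in
  classical
  let P := MvPowerSeries (Fin r) k
  haveI := finite_residueField_of_finite k r A
  haveI : Algebra.IsIntegral P A := Algebra.IsIntegral.of_finite P A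
  haveI := finite_omegaHat k A
  let L := FractionRing A
  let L0 := FractionRing P
  haveI : IsDomain P := NoZeroDivisors.to_isDomain _
  let V := L ⊗[A] OmegaHat k A
  let x : Fin r → A := fun i => algebraMap P A (MvPowerSeries.X i)
  let v : Fin r → V := fun i => (1 : L) ⊗ₜ[A] dHat k A (x i)
  refine le_antisymm ?_ ?_
  · show Module.finrank L V ≤ r
    let W := Submodule.span L (Set.range v)
    have hP : ∀ f : P, (1 : L) ⊗ₜ[A] dHat k A (algebraMap P A f) ∈ W := fun f => by
      have h1 : dHat k A (algebraMap P A f) ∈ Submodule.span A (Set.range fun i => dHat k A (x i)) :=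
        dHat_powerSeries_mem k A (IsScalarTower.toAlgHom k P A)
          (fun i => algebraMap_X_mem_maximalIdeal k r A i) f
      generalize dHat k A (algebraMap P A f) = z at h1 ⊢
      induction h1 using Submodule.span_induction with
      | mem u hu => obtain ⟨i, rfl⟩ := hu; exact Submodule.subset_span ⟨i, rfl⟩
      | zero => rw [TensorProduct.tmul_zero]; exact zero_mem W
      | add a b _ _ ha hb => rw [TensorProduct.tmul_add]; exact add_mem ha hb
      | smul a b _ hb => rw [TensorProduct.tmul_smul, ← algebraMap_smul L a]; exact W.smul_mem _ hb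
    let d : Derivation k A (V ⧸ W) :=
      (((W.mkQ).restrictScalars A) ∘ₗ TensorProduct.mk A L (OmegaHat k A) 1).compDer (dHat k A)
    have hdP : ∀ f : P, d (algebraMap P A f) = 0 := fun f => (Submodule.Quotient.mk_eq_zero W).mpr (hP f)
    haveI : IsScalarTower P A (V ⧸ W) := IsScalarTower.of_algebraMap_smul fun f z => by
      rw [← algebraMap_smul L (algebraMap P A f), ← IsScalarTower.algebraMap_apply, algebraMap_smul]
    let dP : Derivation P A (V ⧸ W) := Derivation.mk'
      { toFun := d
        map_add' := map_add d
        map_smul' := fun f a => by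
          rw [RingHom.id_apply, Algebra.smul_def, Derivation.leibniz, hdP, smul_zero, add_zero, algebraMap_smul] }
      fun a b => d.leibniz a b
    have hd0 : ∀ a, d a = 0 := fun a => by
      obtain ⟨g, hg0, hsep'⟩ := hsep a
      have h1 := Derivation.comp_aeval_eq a dP g
      rw [hg0, map_zero] at h1
      have hne : algebraMap A L (Polynomial.aeval a (Polynomial.derivative g)) ≠ 0 := by
        haveI : FaithfulSMul P L := (faithfulSMul_iff_algebraMap_injective P L).mpr (by
          rw [IsScalarTower.algebraMap_eq P A L]
          exact (IsFractionRing.injective A L).comp hinj)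
        letI : Algebra L0 L := FractionRing.liftAlgebra P L
        have haL : Polynomial.aeval (algebraMap A L a) (g.map (algebraMap P L0)) = 0 := by
          rw [Polynomial.aeval_map_algebraMap, Polynomial.aeval_algebraMap_apply, hg0, map_zero]
        have h2 := hsep'.aeval_derivative_ne_zero haL
        rwa [Polynomial.derivative_map, Polynomial.aeval_map_algebraMap, Polynomial.aeval_algebraMap_apply] at h2
      rw [← algebraMap_smul L] at h1
      exact (smul_eq_zero.mp h1.symm).resolve_left hne
    have htop : W = ⊤ := by
      refine eq_top_iff.mpr fun z _ => ?_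
      have hω : ∀ ω, (1 : L) ⊗ₜ[A] ω ∈ W := fun ω => by
        have hω : ω ∈ Submodule.span A (Set.range (dHat k A)) := span_dHat k A ▸ Submodule.mem_top
        induction hω using Submodule.span_induction with
        | mem u hu => obtain ⟨a, rfl⟩ := hu; exact (Submodule.Quotient.mk_eq_zero W).mp (hd0 a)
        | zero => rw [TensorProduct.tmul_zero]; exact zero_mem W
        | add a b _ _ ha hb => rw [TensorProduct.tmul_add]; exact add_mem ha hb
        | smul a b _ hb => rw [TensorProduct.tmul_smul, ← algebraMap_smul L a]; exact W.smul_mem _ hb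
      induction z using TensorProduct.induction_on with
      | zero => exact zero_mem W
      | add a b ha hb => exact add_mem (ha Submodule.mem_top) (hb Submodule.mem_top)
      | tmul c ω =>
        rw [show c ⊗ₜ[A] ω = c • ((1 : L) ⊗ₜ[A] ω) by rw [TensorProduct.smul_tmul', smul_eq_mul, mul_one]]
        exact W.smul_mem c (hω ω)
    rw [← finrank_top L V, ← htop]
    exact (finrank_range_le_card v).trans (Fintype.card_fin r).le
  · have hdim : ringKrullDim A = r := by
      rw [← SegreDim.ringKrullDim_eq_of_injective_integral (A := P) hinj]
      exact EGA41SymGr.Model.ringKrullDim_eq k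
    haveI : (⊥ : Ideal A).IsPrime := Ideal.isPrime_bot
    have h := S3847.result k A ⊥ ⊥ (by rw [IsDomain.minimalPrimes_eq_singleton_bot]; rfl) le_rfl
    rw [ringKrullDim_eq_of_ringEquiv (RingEquiv.quotientBot A), hdim, ← Module.finrank_eq_rank, map_natCast] at h
    let κ := (⊥ : Ideal A).ResidueField
    let e : L ≃ₐ[A] κ := IsLocalization.algEquiv (nonZeroDivisors A) L κ
    letI : Algebra L κ := e.toAlgHom.toRingHom.toAlgebra
    haveI : IsScalarTower A L κ := IsScalarTower.of_algebraMap_eq fun a => (e.commutes a).symm
    have h2 : Module.finrank κ (κ ⊗[A] OmegaHat k A) = Module.finrank L V := by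
      rw [← (TensorProduct.AlgebraTensorModule.cancelBaseChange A L κ κ (OmegaHat k A)).finrank_eq,
        Module.finrank_baseChange]
    show r ≤ Module.finrank L V
    rw [← h2]
    exact_mod_cast h

end Groth.Agent.S4557
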