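import Groth.Statements.S4560
-- import your own Groth.Agent.* helpers here
import Groth.Agent.EGA41FS.Basic

set_option autoImplicit false
universe u
open EGA41

namespace Groth.Agent.S4560

/-- Let A be a ring, 𝔪 an ideal of A, B an A-algebra; give A the 𝔪-adic topology and B the topology
deduced from it (the 𝔪B-adic topology), and put A₀ = A/𝔪, B₀ = B/𝔪B. Then B is a formally unramified
A-algebra (for these topologies: E discrete means killed by a power of 𝔪, and continuity of maps B →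
E is then automatic) if and only if Ω_{B₀/A₀} = 0, i.e. B₀ is a formally unramified A₀-algebra. -/
theorem result {A B : Type u} [CommRing A] [CommRing B] [Algebra A B] (𝔪 : Ideal A) :
    (∀ (E : Type u) [CommRing E] [Algebra A E], (∃ k : ℕ, (𝔪 ^ k).map (algebraMap A E) = ⊥) →
      ∀ J : Ideal E, IsNilpotent J → ∀ v₁ v₂ : B →ₐ[A] E,
        (∀ b : B, Ideal.Quotient.mk J (v₁ b) = Ideal.Quotient.mk J (v₂ b)) → v₁ = v₂) ↔
    Subsingleton (Ω[B ⧸ 𝔪.map (algebraMap A B)⁄A ⧸ 𝔪]) := by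
  let 𝔟 := 𝔪.map (algebraMap A B)
  have killB : ∀ (E : Type u) [CommRing E] [Algebra A E] (v : B →ₐ[A] E) (k : ℕ),
      (𝔪 ^ k).map (algebraMap A E) = ⊥ → ∀ x ∈ 𝔟 ^ k, v x = 0 := by
    intro E _ _ v k hk x hx
    rw [← Ideal.map_pow] at hx
    have := Ideal.mem_map_of_mem v.toRingHom hx
    rw [Ideal.map_map, show v.toRingHom.comp (algebraMap A B) = algebraMap A E from
      v.comp_algebraMap, hk] at this
    exact this
  constructor
  · intro hu
    suffices Algebra.FormallyUnramified (A ⧸ 𝔪) (B ⧸ 𝔟) from this.1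
    rw [Algebra.FormallyUnramified.iff_comp_injective]
    intro E _ _ I hI w₁ w₂ hw
    letI : Algebra A E := ((algebraMap (A ⧸ 𝔪) E).comp (Ideal.Quotient.mk _)).toAlgebra
    haveI : IsScalarTower A (A ⧸ 𝔪) E := IsScalarTower.of_algebraMap_eq fun _ => rfl
    have hE : (𝔪 ^ 1).map (algebraMap A E) = ⊥ := by
      rw [pow_one, eq_bot_iff, Ideal.map_le_iff_le_comap]
      intro a ha
      change algebraMap (A ⧸ 𝔪) E (Ideal.Quotient.mk _ a) = 0
      rw [Ideal.Quotient.eq_zero_iff_mem.mpr ha, map_zero]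
    have key := hu E ⟨1, hE⟩ I ⟨2, hI⟩ ((w₁.restrictScalars A).comp (Ideal.Quotient.mkₐ A 𝔟))
      ((w₂.restrictScalars A).comp (Ideal.Quotient.mkₐ A 𝔟))
      (fun b => congrArg (fun g => g (Ideal.Quotient.mk 𝔟 b)) hw)
    refine AlgHom.ext fun y => ?_
    obtain ⟨b, rfl⟩ := Ideal.Quotient.mk_surjective y
    exact congrArg (fun g : B →ₐ[A] E => g b) key
  · intro hs E _ _ hE J hJ v₁ v₂ h
    obtain ⟨k, hk⟩ := hE
    haveI : Algebra.FormallyUnramified (A ⧸ 𝔪) (B ⧸ 𝔟) := ⟨hs⟩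
    refine Groth.Agent.EGA41FS.eq_of_smul_top (𝔟 := 𝔟) ?_ J hJ v₁ v₂ ⟨k, killB E v₁ k hk⟩ h
    refine Groth.Agent.EGA41FS.smul_top_of_unique 𝔪 le_rfl fun F _ _ hF I hI u₁ u₂ _ _ hu => ?_
    have hF' : ∀ a ∈ 𝔪, algebraMap A F a = 0 := fun a ha => by
      have := Ideal.mem_map_of_mem (algebraMap A F) ha
      rwa [hF] at this
    letI : Algebra (A ⧸ 𝔪) F := (Ideal.Quotient.lift _ (algebraMap A F) hF').toAlgebra
    haveI : IsScalarTower A (A ⧸ 𝔪) F := IsScalarTower.of_algebraMap_eq fun _ => rfl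
    have k1 : ∀ u : B →ₐ[A] F, ∀ x ∈ 𝔟, u x = 0 := fun u x hx =>
      killB F u 1 (by rw [pow_one, hF]) x (by rwa [pow_one])
    have := Algebra.FormallyUnramified.lift_unique I hI
      ((Ideal.Quotient.liftₐ 𝔟 u₁ (k1 u₁)).extendScalarsOfSurjective
        (R := A) (S := A ⧸ 𝔪) Ideal.Quotient.mk_surjective)
      ((Ideal.Quotient.liftₐ 𝔟 u₂ (k1 u₂)).extendScalarsOfSurjective
        (R := A) (S := A ⧸ 𝔪) Ideal.Quotient.mk_surjective)
      (AlgHom.ext fun y => by
        obtain ⟨b, rfl⟩ := Ideal.Quotient.mk_surjective y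
        exact hu b)
    exact AlgHom.ext fun b => congrArg (fun g => g (Ideal.Quotient.mk 𝔟 b)) this

end Groth.Agent.S4560
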