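import Groth.Statements.S4561
import Mathlib

set_option autoImplicit false
universe u
open EGA41

namespace Groth.Agent.S4561

/-- Let k₀ be a field of characteristic p > 0 with [k₀ : k₀^p] < ∞ and K₀ an extension of k₀. Inside
K₀((T_1, …, T_r)) one has (k₀(K₀^p))((T_1, …, T_r)) = k₀(K₀^p((T_1, …, T_r))); here, for a subfield
F of K₀, F((T)) denotes the subfield of the fraction field of K₀[[T]] generated by the power series
with all coefficients in F. -/
theorem result (p : ℕ) [Fact p.Prime] {k₀ K₀ : Type u} [Field k₀] [Field K₀] [Algebra k₀ K₀] [CharP k₀ p]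
    (hfin : Module.Finite (Subfield.closure (Set.range fun x : k₀ => x ^ p)) k₀) (r : ℕ) :
    Subfield.closure (algebraMap (MvPowerSeries (Fin r) K₀) (FractionRing (MvPowerSeries (Fin r) K₀)) ''
        {f | ∀ n, MvPowerSeries.coeff n f ∈
          Subfield.closure (Set.range (algebraMap k₀ K₀) ∪ Set.range fun y : K₀ => y ^ p)}) =
      Subfield.closure
        (Set.range (algebraMap k₀ (FractionRing (MvPowerSeries (Fin r) K₀))) ∪
          (Subfield.closure (algebraMap (MvPowerSeries (Fin r) K₀) (FractionRing (MvPowerSeries (Fin r) K₀)) ''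
            {f | ∀ n, MvPowerSeries.coeff n f ∈ Subfield.closure (Set.range fun y : K₀ => y ^ p)}) :
            Set (FractionRing (MvPowerSeries (Fin r) K₀)))) := by
  classical
  haveI : CharP K₀ p := charP_of_injective_algebraMap (algebraMap k₀ K₀).injective p
  set E : Subfield K₀ := Subfield.closure (Set.range fun y : K₀ => y ^ p) with hE
  set E₀ : Subfield k₀ := Subfield.closure (Set.range fun x : k₀ => x ^ p) with hE₀
  obtain ⟨s, hs⟩ := hfin.fg_top
  have hpow : ∀ y : K₀, y ^ p ∈ E := fun y => Subfield.subset_closure ⟨y, rfl⟩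
  have hE₀E : ∀ c ∈ E₀, algebraMap k₀ K₀ c ∈ E := by
    intro c hc
    exact Subfield.mem_comap.mp
      ((Subfield.closure_le (t := E.comap (algebraMap k₀ K₀))).mpr
        (by rintro _ ⟨x, rfl⟩; show algebraMap k₀ K₀ (x ^ p) ∈ E; rw [map_pow]; exact hpow _) hc)
  let V : Submodule E K₀ := Submodule.span E (Set.range fun e : s => algebraMap k₀ K₀ e.1)
  have hk : ∀ c : k₀, algebraMap k₀ K₀ c ∈ V := by
    intro c
    have hc : c ∈ Submodule.span E₀ (s : Set k₀) := by rw [hs]; trivial
    induction hc using Submodule.span_induction with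
    | mem x hx => exact Submodule.subset_span ⟨⟨x, hx⟩, rfl⟩
    | zero => rw [map_zero]; exact zero_mem _
    | add x y _ _ hx hy => rw [map_add]; exact add_mem hx hy
    | smul a x _ hx =>
      rw [Subfield.smul_def, smul_eq_mul, map_mul]
      exact V.smul_mem ⟨_, hE₀E a.1 a.2⟩ hx
  have hmul : ∀ x ∈ V, ∀ y ∈ V, x * y ∈ V := by
    intro x hx y hy
    induction hx using Submodule.span_induction with
    | mem x hx =>
      induction hy using Submodule.span_induction with
      | mem y hy =>
        obtain ⟨a, rfl⟩ := hx; obtain ⟨b, rfl⟩ := hy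
        rw [← map_mul]; exact hk _
      | zero => rw [mul_zero]; exact zero_mem _
      | add y z _ _ hy hz => rw [mul_add]; exact add_mem hy hz
      | smul a y _ hy => rw [mul_smul_comm]; exact V.smul_mem a hy
    | zero => rw [zero_mul]; exact zero_mem _
    | add y z _ _ hy hz => rw [add_mul]; exact add_mem hy hz
    | smul a y _ hy => rw [smul_mul_assoc]; exact V.smul_mem a hy
  have h1 : (1 : K₀) ∈ V := by rw [← map_one (algebraMap k₀ K₀)]; exact hk 1
  have hEV : ∀ c ∈ E, c ∈ V := fun c hc => by
    have := V.smul_mem ⟨c, hc⟩ h1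
    rwa [Subfield.smul_def, smul_eq_mul, mul_one] at this
  have hV : ∀ x ∈ Subfield.closure (Set.range (algebraMap k₀ K₀) ∪ Set.range fun y : K₀ => y ^ p),
      x ∈ V := by
    intro x hx
    induction hx using Subfield.closure_induction with
    | mem y hy =>
      rcases hy with ⟨c, rfl⟩ | ⟨c, rfl⟩
      · exact hk c
      · exact hEV _ (hpow c)
    | one => exact h1
    | add y z _ _ hy hz => exact add_mem hy hz
    | neg y _ hy => exact neg_mem hy
    | inv y _ hy =>
      rcases eq_or_ne y 0 with rfl | h0
      · rw [inv_zero]; exact zero_mem _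
      have hp : 0 < p := (Fact.out : p.Prime).pos
      have e : y⁻¹ = y ^ (p - 1) * (y ^ p)⁻¹ := by
        have h2 : y ^ p = y ^ (p - 1) * y := by rw [← pow_succ, Nat.sub_add_cancel hp]
        rw [h2, mul_inv_rev, ← mul_assoc, mul_comm (y ^ (p - 1)), mul_assoc,
          mul_inv_cancel₀ (pow_ne_zero _ h0), mul_one]
      have hpw : ∀ n, y ^ n ∈ V := fun n => by
        induction n with
        | zero => rw [pow_zero]; exact h1
        | succ n ih => rw [pow_succ]; exact hmul _ ih _ hy
      rw [e]
      exact hmul _ (hpw _) _ (hEV _ (inv_mem (hpow y)))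
    | mul y z _ _ hy hz => exact hmul _ hy _ hz
  have htower : ∀ c : k₀, algebraMap k₀ (FractionRing (MvPowerSeries (Fin r) K₀)) c =
      algebraMap (MvPowerSeries (Fin r) K₀) _ (MvPowerSeries.C (algebraMap k₀ K₀ c)) := by
    intro c
    rw [IsScalarTower.algebraMap_apply k₀ (MvPowerSeries (Fin r) K₀), MvPowerSeries.algebraMap_apply]
  refine le_antisymm (Subfield.closure_le.mpr ?_) (Subfield.closure_le.mpr ?_)
  · rintro _ ⟨f, hf, rfl⟩
    choose g hg using fun n => (Submodule.mem_span_range_iff_exists_fun E).mp (hV _ (hf n))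
    have key : f = ∑ e : s, MvPowerSeries.C (algebraMap k₀ K₀ e.1) *
        (show MvPowerSeries (Fin r) K₀ from fun n => ((g n e : E) : K₀)) := by
      refine MvPowerSeries.ext fun n => ?_
      rw [map_sum, ← hg n]
      refine Finset.sum_congr rfl fun e _ => ?_
      rw [MvPowerSeries.coeff_C_mul, Subfield.smul_def, smul_eq_mul, mul_comm]
      rfl
    rw [key, map_sum]
    refine sum_mem fun e _ => ?_
    rw [map_mul, ← htower]
    exact mul_mem (Subfield.subset_closure (Or.inl ⟨_, rfl⟩))
      (Subfield.subset_closure (Or.inr (Subfield.subset_closure ⟨_, fun n => (g n e).2, rfl⟩)))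
  · rintro x (⟨c, rfl⟩ | hx)
    · rw [htower]
      refine Subfield.subset_closure ⟨_, fun n => ?_, rfl⟩
      rw [MvPowerSeries.coeff_C]
      split_ifs
      · exact Subfield.subset_closure (Or.inl ⟨_, rfl⟩)
      · exact zero_mem _
    · refine Subfield.closure_mono (Set.image_mono ?_) hx
      intro f hf n
      exact Subfield.closure_mono Set.subset_union_right (hf n)

end Groth.Agent.S4561
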