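import Groth.Statements.S4566
import Groth.Agent.Nagata.GeomRed

set_option autoImplicit false
universe u
open CAlg
open scoped TensorProduct

namespace Groth.Agent.S4566

/-- Let A be a Noetherian local domain with fraction field K whose adic completion Â is reduced, and R
the total ring of fractions of Â with its K-algebra structure. If R is geometrically reduced over K
then A is Japanese (N-2). (The published statement asks R to be a separable K-algebra; what is used
is that K' ⊗_K R is reduced for every finite extension K' of K, which geometric reducedness gives.) -/
theorem result {A R : Type u}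
    [CommRing A] [IsDomain A] [IsLocalRing A] [IsNoetherianRing A]
    (hred : IsReduced (AdicCompletion (IsLocalRing.maximalIdeal A) A))
    [CommRing R] [Algebra (AdicCompletion (IsLocalRing.maximalIdeal A) A) R]
    [IsFractionRing (AdicCompletion (IsLocalRing.maximalIdeal A) A) R] [Algebra A R]
    [IsScalarTower A (AdicCompletion (IsLocalRing.maximalIdeal A) A) R]
    [Algebra (FractionRing A) R] [IsScalarTower A (FractionRing A) R]
    (h : Algebra.IsGeometricallyReduced (FractionRing A) R) :
    CAlg.IsN2 A := by
  intro L _ _ _ _ hfd
  let K := FractionRing A
  haveI : FiniteDimensional K L := hfd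
  haveI : Algebra.EssFiniteType A K := Algebra.EssFiniteType.of_isLocalization K (nonZeroDivisors A)
  haveI : Algebra.EssFiniteType A L := Algebra.EssFiniteType.comp A K L
  haveI : Algebra.IsGeometricallyReduced K R := h
  haveI : IsReduced (L ⊗[K] R) := inferInstance
  haveI : TensorProduct.CompatibleSMul A K L R := IsLocalization.tensorProduct_compatibleSMul (nonZeroDivisors A) K L R
  haveI : IsReduced (L ⊗[A] R) := isReduced_of_injective
    (Algebra.TensorProduct.equivOfCompatibleSMul A K L L R).symm
    (Algebra.TensorProduct.equivOfCompatibleSMul A K L L R).symm.injective
  haveI : Module.Flat A K := IsLocalization.flat K (nonZeroDivisors A)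
  haveI : Module.Flat A L := Module.Flat.trans A K L
  let Â := AdicCompletion (IsLocalRing.maximalIdeal A) A
  have hinj : Function.Injective (Algebra.TensorProduct.map (AlgHom.id A L) (IsScalarTower.toAlgHom A Â R)) :=
    Module.Flat.lTensor_preserves_injective_linearMap (IsScalarTower.toAlgHom A Â R).toLinearMap (IsFractionRing.injective Â R)
  haveI : IsReduced (L ⊗[A] Â) := isReduced_of_injective _ hinj
  exact Nagata.finite_closure_of_isReduced_tensor L (isReduced_of_injective
    (Algebra.TensorProduct.comm A Â L) (Algebra.TensorProduct.comm A Â L).injective)

end Groth.Agent.S4566
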