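import Groth.Statements.S4567
-- import your own Groth.Agent.* helpers here
import Groth.Agent.UnibranchEtale.Normalization

set_option autoImplicit false
universe u
open AlgebraicGeometry
open CAlg2

namespace Groth.Agent.S4567

/-- Let A be a domain with integral closure A' (in its fraction field) and f : Spec A' → Spec A the
canonical morphism. Then f is radicial (universally injective) if and only if every local ring A_p
is geometrically unibranch; when this holds f is a homeomorphism. -/
theorem result {A : Type u} [CommRing A] [IsDomain A] :
    (UniversallyInjective (Spec.map (CommRingCat.ofHom (algebraMap A (integralClosure A (FractionRing A))))) ↔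
      ∀ (p : Ideal A) [p.IsPrime], CAlg2.IsGeomUnibranch (Localization.AtPrime p)) ∧
    ((∀ (p : Ideal A) [p.IsPrime], CAlg2.IsGeomUnibranch (Localization.AtPrime p)) →
      IsHomeomorph (PrimeSpectrum.comap (algebraMap A (integralClosure A (FractionRing A))))) := by
  have key : ∀ (p : Ideal A) [p.IsPrime], CAlg2.IsGeomUnibranch (Localization.AtPrime p) ↔
      Unibranch.RadOver A (integralClosure A (FractionRing A)) p := fun p _ =>
    UnibranchEtale.isGeomUnibranch_iff_radOver A (FractionRing A) p
  refine ⟨(UnibranchEtale.universallyInjective_iff A (FractionRing A)).trans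
    ⟨fun h p _ => (key p).2 (h p), fun h p _ => (key p).1 (h p)⟩, fun h => ?_⟩
  have hinj : Function.Injective (algebraMap A (integralClosure A (FractionRing A))) := fun a b e =>
    IsFractionRing.injective A (FractionRing A) (congrArg Subtype.val e)
  haveI : FaithfulSMul A (integralClosure A (FractionRing A)) := (faithfulSMul_iff_algebraMap_injective _ _).2 hinj
  refine isHomeomorph_iff_continuous_isClosedMap_bijective.2 ⟨PrimeSpectrum.continuous_comap _,
    PrimeSpectrum.isClosedMap_comap_of_isIntegral _ (algebraMap_isIntegral_iff.2 inferInstance), ?_, ?_⟩
  · intro Q Q' e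
    have h1 := ((key _).1 (h (Q.asIdeal.comap (algebraMap A _)))).uniqueOver
    exact PrimeSpectrum.ext (h1 _ _ Q.isPrime Q'.isPrime rfl (congrArg PrimeSpectrum.asIdeal e).symm)
  · exact RingHom.IsIntegral.comap_surjective (algebraMap_isIntegral_iff.2 inferInstance) hinj

end Groth.Agent.S4567
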