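import Groth.Statements.S4569
import Mathlib.RingTheory.Localization.AtPrime.Basic
import Mathlib.RingTheory.Ideal.Span

set_option autoImplicit false
universe u
open CAlg

namespace Groth.Agent.S4569

/-- Let A be a ring, x a non-zero-divisor of A with p = xA prime. For every n > 0 the inverse image in A
of x^n A_p is x^n A. -/
theorem result {A : Type u} [CommRing A] (x : A)
    (hx : x ∈ nonZeroDivisors A) [(Ideal.span ({x} : Set A)).IsPrime] (n : ℕ) (hn : 0 < n) :
    Ideal.comap (algebraMap A (Localization.AtPrime (Ideal.span ({x} : Set A))))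
      (Ideal.map (algebraMap A (Localization.AtPrime (Ideal.span ({x} : Set A)))) (Ideal.span ({x ^ n} : Set A))) =
      Ideal.span ({x ^ n} : Set A) := by
  set P := Ideal.span ({x} : Set A)
  refine le_antisymm (fun a ha => ?_) Ideal.le_comap_map
  rw [Ideal.mem_comap, IsLocalization.algebraMap_mem_map_algebraMap_iff P.primeCompl] at ha
  obtain ⟨s, hs, hsa⟩ := ha
  have key : ∀ n : ℕ, ∀ a : A, s * a ∈ Ideal.span ({x ^ n} : Set A) → a ∈ Ideal.span ({x ^ n} : Set A) := by
    intro n
    induction n with
    | zero => intro a _; simp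
    | succ n ih =>
      intro a ha
      have h1 : s * a ∈ P := by
        obtain ⟨c, hc⟩ := Ideal.mem_span_singleton'.1 ha
        rw [← hc, pow_succ]
        exact Ideal.mul_mem_left _ _ (Ideal.mul_mem_left _ _ (Ideal.mem_span_singleton_self x))
      obtain ⟨b, rfl⟩ := Ideal.mem_span_singleton'.1 ((Ideal.IsPrime.mem_or_mem inferInstance h1).resolve_left hs)
      obtain ⟨c, hc⟩ := Ideal.mem_span_singleton'.1 ha
      have h2 : s * b = c * x ^ n := by
        have h3 : x * (s * b - c * x ^ n) = 0 := by rw [mul_sub, sub_eq_zero, ← mul_assoc, mul_comm x s, mul_assoc, mul_comm x b, ← hc, pow_succ']; ring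
        exact sub_eq_zero.1 ((mem_nonZeroDivisors_iff.1 hx).1 _ h3)
      obtain ⟨e, he⟩ := Ideal.mem_span_singleton'.1 (ih b (Ideal.mem_span_singleton'.2 ⟨c, h2.symm⟩))
      exact Ideal.mem_span_singleton'.2 ⟨e, by rw [← he, pow_succ, mul_assoc]⟩
  exact key n a hsa

end Groth.Agent.S4569
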