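import Groth.Statements.S4579
-- import your own Groth.Agent.* helpers here
import Groth.Agent.S4578
import Groth.Agent.GeomProp.RegularSep
import Groth.Agent.GeomProp.RegLocal

set_option autoImplicit false
universe u
open EGA41
open scoped TensorProduct

namespace Groth.Agent.S4579

/-- Let k₀ be a field, k a separable (formally smooth) extension field of k₀ and C a k-algebra of finite
type. The following are equivalent: C is formally smooth over k₀ (discrete topologies); every C_p, p
prime, is formally smooth over k₀; every C_m, m maximal, is; C is geometrically regular over k₀.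
(Geometric regularity is tested on finite extensions of k₀. The published statement quantifies the
last condition over all extensions k' of k₀; for infinite ones the base change need not be
Noetherian, so it need not be regular in the Noetherian sense, and the printed proof passes through
the local rings as here.) -/
theorem result {k₀ k C : Type u} [Field k₀] [Field k] [Algebra k₀ k]
    [Algebra.FormallySmooth k₀ k] [CommRing C] [Algebra k C] [Algebra k₀ C] [IsScalarTower k₀ k C]
    [Algebra.FiniteType k C] :
    [Algebra.FormallySmooth k₀ C,
     ∀ (p : Ideal C) [p.IsPrime], Algebra.FormallySmooth k₀ (Localization.AtPrime p),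
     ∀ (m : Ideal C) [m.IsMaximal], Algebra.FormallySmooth k₀ (Localization.AtPrime m),
     CAlg.IsGeometricallyRegular k₀ C].TFAE := by
  haveI : IsNoetherianRing C := Algebra.FiniteType.isNoetherianRing k C
  tfae_have 1 → 2 := fun h p _ => by
    haveI := h
    haveI : Algebra.FormallySmooth C (Localization.AtPrime p) := Algebra.FormallySmooth.of_isLocalization p.primeCompl
    exact Algebra.FormallySmooth.comp k₀ C (Localization.AtPrime p)
  tfae_have 2 → 3 := fun h m _ => h m
  tfae_have 3 → 1 := fun h => Groth.Agent.S4578.formallySmooth_of_forall_maximal (k := k) h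
  tfae_have 2 → 4 := fun h k' _ _ hfin => by
    haveI := hfin
    haveI : IsNoetherianRing (C ⊗[k₀] k') := IsNoetherianRing.of_finite C (C ⊗[k₀] k')
    have : IsRegularRing (C ⊗[k₀] k') := GeomProp.regular_localize_left k₀ C k' fun p _ => by
      haveI : IsNoetherianRing (Localization.AtPrime p) := IsLocalization.isNoetherianRing p.primeCompl _ inferInstance
      haveI := Groth.Agent.S4578.adic_iff_geomRegular.mp
        ((Groth.Agent.S4578.formallySmooth_iff_adic (k₀ := k₀) (k := k) p).1.mp (h p)) k' hfin
      exact IsRegularRing.of_ringEquiv (R := k' ⊗[k₀] Localization.AtPrime p)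
        (Algebra.TensorProduct.comm k₀ k' (Localization.AtPrime p)).toRingEquiv
    exact IsRegularRing.of_ringEquiv (R := C ⊗[k₀] k') (Algebra.TensorProduct.comm k₀ C k').toRingEquiv
  tfae_have 4 → 3 := fun h m _ => by
    haveI : IsNoetherianRing (Localization.AtPrime m) := IsLocalization.isNoetherianRing m.primeCompl _ inferInstance
    refine (Groth.Agent.S4578.formallySmooth_iff_adic (k₀ := k₀) (k := k) m).1.mpr
      (Groth.Agent.S4578.adic_iff_geomRegular.mpr fun k' _ _ hfin => ?_)
    have h1 : IsRegularRing (C ⊗[k₀] k') :=
      haveI := h k' hfin
      IsRegularRing.of_ringEquiv (R := k' ⊗[k₀] C) (Algebra.TensorProduct.comm k₀ k' C).toRingEquiv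
    obtain ⟨_, _, hloc⟩ := GeomProp.tensor_localization (R := k₀) (Λ := C) (Λ' := Localization.AtPrime m) m.primeCompl k'
    haveI := GeomProp.isRegularRing_of_isLocalization (Algebra.algebraMapSubmonoid (C ⊗[k₀] k') m.primeCompl) (L := Localization.AtPrime m ⊗[k₀] k') h1
    exact IsRegularRing.of_ringEquiv (R := Localization.AtPrime m ⊗[k₀] k')
      (Algebra.TensorProduct.comm k₀ (Localization.AtPrime m) k').toRingEquiv
  tfae_finish

end Groth.Agent.S4579
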