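import Groth.Statements.S4582
-- import your own Groth.Agent.* helpers here
import Groth.Agent.GRingCpl.Complete
import Groth.Agent.GRingCpl.RegFS
import Groth.Agent.GeomProp.RegLocal
import Groth.Agent.ResExt.Completion

set_option autoImplicit false
universe u
open IsLocalRing
open EGA41

namespace Groth.Agent.S4582

/-- Let A be a complete Noetherian local ring, p a prime of A, B = A_p, B̂ the completion of B, q a
prime of B̂ and r its contraction to B. Then B̂_q is formally smooth over B_r for the adic
topologies of the maximal ideals. -/
theorem result {A : Type u} [CommRing A]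
    [IsLocalRing A] [IsNoetherianRing A] [IsAdicComplete (maximalIdeal A) A] (p : Ideal A) [p.IsPrime]
    (q : Ideal (AdicCompletion (maximalIdeal (Localization.AtPrime p)) (Localization.AtPrime p))) [q.IsPrime]
    [Algebra (Localization.AtPrime (q.comap (algebraMap (Localization.AtPrime p)
        (AdicCompletion (maximalIdeal (Localization.AtPrime p)) (Localization.AtPrime p)))))
      (Localization.AtPrime q)]
    [IsScalarTower (Localization.AtPrime p)
      (Localization.AtPrime (q.comap (algebraMap (Localization.AtPrime p)
        (AdicCompletion (maximalIdeal (Localization.AtPrime p)) (Localization.AtPrime p)))))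
      (Localization.AtPrime q)] :
    EGA41.IsFormallySmoothAdic
      (Localization.AtPrime (q.comap (algebraMap (Localization.AtPrime p)
        (AdicCompletion (maximalIdeal (Localization.AtPrime p)) (Localization.AtPrime p)))))
      (maximalIdeal _) (Localization.AtPrime q) (maximalIdeal _) := by
  rename_i iBT iT
  haveI : IsNoetherianRing (Localization.AtPrime p) := IsLocalization.isNoetherianRing p.primeCompl _ inferInstance
  let Ah := AdicCompletion (maximalIdeal (Localization.AtPrime p)) (Localization.AtPrime p)
  haveI : IsNoetherianRing Ah := ResExt.isNoetherianRing_adicCompletion _ (IsNoetherian.noetherian _)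
  let p0 := q.comap (algebraMap (Localization.AtPrime p) Ah)
  haveI : IsNoetherianRing (Localization.AtPrime p0) := IsLocalization.isNoetherianRing p0.primeCompl _ inferInstance
  haveI : IsNoetherianRing (Localization.AtPrime q) := IsLocalization.isNoetherianRing q.primeCompl _ inferInstance
  have hloc := (GeomProp.regular_iff_localRingHom (Localization.AtPrime p) Ah).1.mp
    ((GRingCpl.isGRing_of_finiteType_complete (R0 := A) A).2 p) q
  have heq : iBT = (Localization.localRingHom p0 q (algebraMap (Localization.AtPrime p) Ah) rfl).toAlgebra := by
    refine Algebra.algebra_ext _ _ fun z => RingHom.congr_fun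
      (IsLocalization.ringHom_ext p0.primeCompl (RingHom.ext fun a => ?_)) z
    rw [RingHom.comp_apply, RingHom.comp_apply, ← IsScalarTower.algebraMap_apply]
    show _ = Localization.localRingHom p0 q (algebraMap (Localization.AtPrime p) Ah) rfl (algebraMap _ _ a)
    rw [Localization.localRingHom_to_map, ← IsScalarTower.algebraMap_apply]
  subst heq
  letI := (Localization.localRingHom p0 q (algebraMap (Localization.AtPrime p) Ah) rfl).toAlgebra
  haveI : IsLocalHom (algebraMap (Localization.AtPrime p0) (Localization.AtPrime q)) :=
    Localization.isLocalHom_localRingHom p0 q (algebraMap (Localization.AtPrime p) Ah) rfl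
  haveI : Module.Flat (Localization.AtPrime p0) (Localization.AtPrime q) := hloc.1
  exact GRingCpl.isFormallySmoothAdic_of_closedFibre (hloc.2 _).2

end Groth.Agent.S4582
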