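import Groth.Statements.S4583
-- import your own Groth.Agent.* helpers here
import Groth.Agent.GRingCpl.Complete
import Groth.Agent.GRingCpl.AdicSmooth
import Groth.Agent.ResExt.Completion

set_option autoImplicit false
universe u
open IsLocalRing
open EGA41

namespace Groth.Agent.S4583

/-- Let A be a complete Noetherian local domain with fraction field K, p a prime of A, B = A_p, q a
prime of the completion B̂ of B with q ∩ B = 0. Then B̂_q is a K-algebra formally smooth over K for
the adic topology of its maximal ideal (the published statement adds that it is then geometrically
regular over K; that consequence is not stated). -/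
theorem result {A : Type u} [CommRing A]
    [IsDomain A] [IsLocalRing A] [IsNoetherianRing A] [IsAdicComplete (maximalIdeal A) A] (p : Ideal A) [p.IsPrime]
    (q : Ideal (AdicCompletion (maximalIdeal (Localization.AtPrime p)) (Localization.AtPrime p))) [q.IsPrime]
    (hq : q.comap (algebraMap (Localization.AtPrime p)
      (AdicCompletion (maximalIdeal (Localization.AtPrime p)) (Localization.AtPrime p))) = ⊥)
    [Algebra A (Localization.AtPrime q)]
    [IsScalarTower A (AdicCompletion (maximalIdeal (Localization.AtPrime p)) (Localization.AtPrime p))
      (Localization.AtPrime q)]
    [Algebra (FractionRing A) (Localization.AtPrime q)] [IsScalarTower A (FractionRing A) (Localization.AtPrime q)] :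
    CAlgX.IsAdicFormallySmooth (FractionRing A) (Localization.AtPrime q) (maximalIdeal (Localization.AtPrime q)) := by
  rename_i iA iT1 iK iT2
  clear iA
  haveI : IsDomain (Localization.AtPrime p) := IsLocalization.isDomain_localization p.primeCompl_le_nonZeroDivisors
  haveI : IsNoetherianRing (Localization.AtPrime p) := IsLocalization.isNoetherianRing p.primeCompl _ inferInstance
  let Ah := AdicCompletion (maximalIdeal (Localization.AtPrime p)) (Localization.AtPrime p)
  haveI : IsNoetherianRing Ah := ResExt.isNoetherianRing_adicCompletion _ (IsNoetherian.noetherian _)
  have hu : ∀ s : p.primeCompl, IsUnit (algebraMap A (FractionRing A) s) := fun s =>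
    IsLocalization.map_units (FractionRing A) (⟨s, p.primeCompl_le_nonZeroDivisors s.2⟩ : nonZeroDivisors A)
  letI : Algebra (Localization.AtPrime p) (FractionRing A) := (IsLocalization.lift hu).toAlgebra
  haveI : IsScalarTower A (Localization.AtPrime p) (FractionRing A) :=
    IsScalarTower.of_algebraMap_eq fun a => (IsLocalization.lift_eq hu a).symm
  haveI : IsFractionRing (Localization.AtPrime p) (FractionRing A) :=
    IsFractionRing.isFractionRing_of_isDomain_of_isLocalization p.primeCompl _ _
  haveI : IsScalarTower (Localization.AtPrime p) (FractionRing A) (Localization.AtPrime q) :=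
    IsScalarTower.of_algebraMap_eq' (IsLocalization.ringHom_ext p.primeCompl (RingHom.ext fun a => by
      rw [RingHom.comp_apply, RingHom.comp_apply, RingHom.comp_apply,
        IsScalarTower.algebraMap_apply (Localization.AtPrime p) Ah (Localization.AtPrime q),
        ← IsScalarTower.algebraMap_apply A (Localization.AtPrime p) Ah, ← IsScalarTower.algebraMap_apply A (Localization.AtPrime p) (FractionRing A),
        ← IsScalarTower.algebraMap_apply A (FractionRing A) (Localization.AtPrime q),
        ← IsScalarTower.algebraMap_apply A Ah (Localization.AtPrime q)]))
  exact GRingCpl.isAdicFormallySmooth_fibre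
    ((GRingCpl.isGRing_of_finiteType_complete (R0 := A) A).2 p) (FractionRing A) q (Localization.AtPrime q)

end Groth.Agent.S4583
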