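import Groth.Statements.S4587
import Mathlib
import Groth.Agent.GenComp.Basic

set_option autoImplicit false
universe u
open AlgebraicGeometry CategoryTheory
open EGA41

namespace Groth.Agent.S4587

/-- A morphism of schemes f : X → Y is generizing if and only if, for every irreducible closed subset Y'
of Y, each irreducible component of f⁻¹(Y') has dense image in Y'. -/
theorem result {X Y : Scheme.{u}} (f : X ⟶ Y) :
    GeneralizingMap f.base ↔
      ∀ Y' : Set Y, IsClosed Y' → IsIrreducible Y' →
        ∀ Z ∈ irreducibleComponents ↥(f.base ⁻¹' Y'), closure (f.base '' (Subtype.val '' Z)) = Y' := by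
  constructor
  · intro hf Y' hcl hirr Z hZ
    have hC : IsClosed (f.base ⁻¹' Y') := hcl.preimage f.continuous
    obtain ⟨z, hz, hzc, hmax⟩ := Groth.Agent.GenComp.exists_genericPoint hC hZ
    obtain ⟨η, hη⟩ := QuasiSober.sober hirr hcl
    obtain ⟨z', hz', hz'η⟩ := hf (hη.specializes hz)
    have hzz' : z ⤳ z' := hmax z' (by show f z' ∈ Y'; rw [hz'η]; exact hη.mem) hz'
    have hfz : f z = η := by
      refine (Specializes.antisymm ?_ (hη.specializes hz)).eq
      rw [← hz'η]; exact hzz'.map f.continuous
    apply subset_antisymm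
    · exact closure_minimal (by rintro _ ⟨_, ⟨w, -, rfl⟩, rfl⟩; exact w.2) hcl
    · refine hη.def.ge.trans ?_
      refine closure_mono (Set.singleton_subset_iff.mpr ⟨z, ?_, hfz⟩)
      rw [← hzc]; exact subset_closure rfl
  · intro h x y hy
    let Y' : Set Y := closure {y}
    have hxC : x ∈ f.base ⁻¹' Y' := specializes_iff_mem_closure.mp hy
    have hcomp := irreducibleComponent_mem_irreducibleComponents (⟨x, hxC⟩ : ↥(f.base ⁻¹' Y'))
    obtain ⟨z, hz, hzc, -⟩ :=
      Groth.Agent.GenComp.exists_genericPoint (isClosed_closure.preimage f.continuous) hcomp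
    have hzx : z ⤳ x := by
      rw [specializes_iff_mem_closure, hzc]
      exact ⟨⟨x, hxC⟩, mem_irreducibleComponent, rfl⟩
    refine ⟨z, hzx, (Specializes.antisymm ?_ (specializes_iff_mem_closure.mpr hz)).eq⟩
    have heq := h Y' isClosed_closure isIrreducible_singleton.closure _ hcomp
    have hle : closure (f.base '' (Subtype.val '' irreducibleComponent (⟨x, hxC⟩ : ↥(f.base ⁻¹' Y')))) ⊆
        closure {f.base z} := by
      refine closure_minimal ?_ isClosed_closure
      rintro _ ⟨w, hw, rfl⟩
      rw [← hzc] at hw
      exact specializes_iff_mem_closure.mp ((specializes_iff_mem_closure.mpr hw).map f.continuous)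
    rw [heq] at hle
    exact specializes_iff_mem_closure.mpr (hle (subset_closure rfl))

end Groth.Agent.S4587
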