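import Groth.Statements.S4588
-- import your own Groth.Agent.* helpers here
import Groth.Agent.EGA41Quot.Eisenstein
import Groth.Agent.EGA41Quot.Criterion

set_option autoImplicit false
universe u
open IsLocalRing
open EGA41

namespace Groth.Agent.S4588

/-- Let A be a regular local ring with maximal ideal m and residue field K, and F_i(T_i) = T_i^{d_i} +
Σ_{k<d_i} c_{ik} T_i^k (1 ≤ i ≤ r) monic one-variable polynomials of degrees d_i ≥ 2 with all
non-leading coefficients in m; put A' = A[T_1, …, T_r]/(F_1, …, F_r). Then (i) A' is local with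
residue field K, and (ii) A' is regular if and only if the classes in m/m² of the constant terms
c_{i0} are linearly independent over K. -/
theorem result {A : Type u} [CommRing A]
    [IsRegularLocalRing A] {r : ℕ} (d : Fin r → ℕ) (hd : ∀ i, 2 ≤ d i) (c : Fin r → ℕ → A)
    (hc : ∀ i k, c i k ∈ maximalIdeal A) :
    let F : Fin r → MvPolynomial (Fin r) A := fun i =>
      MvPolynomial.X i ^ d i + (Finset.range (d i)).sum fun k => MvPolynomial.C (c i k) * MvPolynomial.X i ^ k
    IsLocalRing (MvPolynomial (Fin r) A ⧸ Ideal.span (Set.range F)) ∧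
    (∀ (M : Ideal (MvPolynomial (Fin r) A ⧸ Ideal.span (Set.range F))) [M.IsMaximal],
      Function.Surjective ((Ideal.Quotient.mk M).comp (algebraMap A _))) ∧
    (IsRegularRing (MvPolynomial (Fin r) A ⧸ Ideal.span (Set.range F)) ↔
      LinearIndependent (ResidueField A) (fun i => (maximalIdeal A).toCotangent ⟨c i 0, hc i 0⟩)) := by
  open IsLocalRing EGA41Quot in
  classical
  intro F
  obtain ⟨hloc, hn⟩ := local_eis d hd c hc
  haveI := hloc
  let P := MvPolynomial (Fin r) A
  let I := Ideal.span (Set.range (eis d c))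
  let B := P ⧸ I
  haveI : Module.Finite A B := (free_eis d c).2.1
  refine ⟨hloc, fun M hM y => ?_, ?_⟩
  · obtain ⟨b, rfl⟩ := Ideal.Quotient.mk_surjective y
    obtain ⟨z, rfl⟩ := Ideal.Quotient.mk_surjective b
    refine ⟨MvPolynomial.constantCoeff z, ?_⟩
    refine (Ideal.Quotient.eq (I := M)).mpr ?_
    show Ideal.Quotient.mk I (MvPolynomial.C (MvPolynomial.constantCoeff z)) - Ideal.Quotient.mk I z ∈ M
    rw [← map_sub, IsLocalRing.eq_maximalIdeal hM, ← Ideal.mem_comap, ← hn, Ideal.mem_comap, map_sub,
      MvPolynomial.constantCoeff_C, sub_self]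
    exact zero_mem _
  · show IsRegularRing B ↔ _
    rw [isRegularRing_iff (eis d c) (injective_eis d hd c) (originIdeal A r) hn,
      linearIndependent_toCotangent_iff (fun i => c i 0) fun i => hc i 0]
    let n := originIdeal A r
    let R := Localization.AtPrime n
    let ρ : R →+* A := IsLocalization.lift (M := n.primeCompl) (g := MvPolynomial.constantCoeff) fun s =>
      by_contra fun h => s.2 ((mem_maximalIdeal _).mpr h)
    have hρ : ∀ z, ρ (algebraMap P R z) = MvPolynomial.constantCoeff z := fun z => IsLocalization.lift_eq _ z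
    let ι : A →+* R := (algebraMap P R).comp MvPolynomial.C
    have hρι : ∀ a, ρ (ι a) = a := fun a => (hρ _).trans (MvPolynomial.constantCoeff_C _ a)
    have hρm : (maximalIdeal R).map ρ ≤ maximalIdeal A := by
      rw [← Localization.AtPrime.map_eq_maximalIdeal, Ideal.map_map, Ideal.map_le_iff_le_comap]
      intro z hz
      show ρ (algebraMap P R z) ∈ maximalIdeal A
      rw [hρ]
      exact hz
    have hιm : (maximalIdeal A).map ι ≤ maximalIdeal R := Ideal.map_le_iff_le_comap.mpr fun a ha => by
      show algebraMap P R (MvPolynomial.C a) ∈ maximalIdeal R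
      rw [IsLocalization.AtPrime.to_map_mem_maximal_iff R n]
      show MvPolynomial.constantCoeff (MvPolynomial.C a) ∈ maximalIdeal A
      rw [MvPolynomial.constantCoeff_C]
      exact ha
    have hdiff : ∀ i, algebraMap P R (eis d c i) - ι (c i 0) ∈ maximalIdeal R ^ 2 := fun i => by
      show algebraMap P R (eis d c i) - algebraMap P R (MvPolynomial.C (c i 0)) ∈ _
      rw [← map_sub]
      have h := Ideal.mem_map_of_mem (algebraMap P R) (sub_mem_sq d hd c hc i)
      rwa [Ideal.map_pow, Localization.AtPrime.map_eq_maximalIdeal] at h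
    constructor
    · intro h a ha i
      have h1 : ∑ i, ι (a i) * algebraMap P R (eis d c i) ∈ maximalIdeal R ^ 2 := by
        have h2 : ι (∑ i, a i * c i 0) ∈ maximalIdeal R ^ 2 := by
          have h3 := Ideal.mem_map_of_mem ι ha
          rw [Ideal.map_pow] at h3
          exact Ideal.pow_right_mono hιm 2 h3
        rw [map_sum] at h2
        rw [← sub_add_cancel (∑ i, ι (a i) * algebraMap P R (eis d c i)) (∑ i, ι (a i * c i 0)),
          ← Finset.sum_sub_distrib]
        refine add_mem (sum_mem fun i _ => ?_) h2
        rw [map_mul, ← mul_sub]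
        exact Ideal.mul_mem_left _ _ (hdiff i)
      have h4 := hρm (Ideal.mem_map_of_mem ρ (h (fun i => ι (a i)) h1 i))
      rwa [hρι] at h4
    · intro h a ha i
      have h1 : ∑ i, ρ (a i) * c i 0 ∈ maximalIdeal A ^ 2 := by
        have h2 : ρ (∑ i, a i * algebraMap P R (eis d c i)) ∈ maximalIdeal A ^ 2 := by
          have h3 := Ideal.mem_map_of_mem ρ ha
          rw [Ideal.map_pow] at h3
          exact Ideal.pow_right_mono hρm 2 h3
        rw [map_sum] at h2
        rw [← sub_add_cancel (∑ i, ρ (a i) * c i 0) (∑ i, ρ (a i * algebraMap P R (eis d c i))),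
          ← Finset.sum_sub_distrib]
        refine add_mem (sum_mem fun i _ => ?_) h2
        rw [map_mul, ← mul_sub]
        refine Ideal.mul_mem_left _ _ ?_
        have h5 := Ideal.mem_map_of_mem ρ (hdiff i)
        rw [Ideal.map_pow, map_sub, hρι] at h5
        rw [← neg_sub]
        exact neg_mem (Ideal.pow_right_mono hρm 2 h5)
      exact fun hu => (h (fun i => ρ (a i)) h1 i : ρ (a i) ∈ nonunits A) (hu.map ρ)

end Groth.Agent.S4588
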