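import Groth.Statements.S4590
import Mathlib.RingTheory.Flat.FaithfullyFlat.Algebra
import Mathlib.RingTheory.IntegralClosure.Algebra.Basic
import Mathlib.RingTheory.Localization.FractionRing
import Mathlib.RingTheory.Nilpotent.Lemmas

set_option autoImplicit false
universe u
open CAlg

namespace Groth.Agent.S4590

variable {A B : Type u} [CommRing A] [IsDomain A] [CommRing B] [Algebra A B]
  [Module.FaithfullyFlat A B]

theorem smul_regular {a : A} (ha : a ≠ 0) {c : B} (h : algebraMap A B a * c = 0) : c = 0 := by
  have hinj : Function.Injective ((LinearMap.mul A A a).lTensor B) :=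
    Module.Flat.lTensor_preserves_injective_linearMap _ (mul_right_injective₀ ha)
  refine (TensorProduct.rid A B).symm.injective (hinj ?_)
  simp only [TensorProduct.rid_symm_apply, LinearMap.lTensor_tmul, LinearMap.mul_apply', mul_one,
    map_zero, TensorProduct.zero_tmul]
  rw [← mul_one a, ← smul_eq_mul, ← TensorProduct.smul_tmul, Algebra.smul_def, h,
    TensorProduct.zero_tmul]

theorem algebraMap_injective : Function.Injective (algebraMap A B) := by
  rw [injective_iff_map_eq_zero]
  intro a ha
  have h : a ∈ ((⊥ : Ideal A).map (algebraMap A B)).comap (algebraMap A B) := by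
    rw [Ideal.mem_comap, ha]
    exact zero_mem _
  rwa [Ideal.comap_map_eq_self_of_faithfullyFlat, Ideal.mem_bot] at h

/-- `a^M ∈ b·(a,b)^(M-1)` after extension forces `a/b` to be integral. -/
theorem isIntegral_of_mem {K : Type u} [Field K] [Algebra A K] [IsFractionRing A K] (a b : A)
    (hb : b ≠ 0) (m : ℕ)
    (h : a ^ (m + 1) ∈ Ideal.span {b} * Ideal.span {a, b} ^ m) :
    IsIntegral A (algebraMap A K a / algebraMap A K b) := by
  classical
  set J : Ideal A := Ideal.span {a, b}
  have hJ : J ^ (m + 1) ≤ Ideal.span {b} * J ^ m := by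
    suffices hk : ∀ k ≤ m + 1, J ^ k ≤ Ideal.span {a} ^ k ⊔ Ideal.span {b} * J ^ (k - 1) by
      refine (hk (m + 1) le_rfl).trans (sup_le ?_ le_rfl)
      rw [Ideal.span_singleton_pow, Ideal.span_singleton_le_iff_mem]
      exact h
    intro k _
    induction k with
    | zero => simp
    | succ k ih =>
      rw [pow_succ', show k + 1 - 1 = k from rfl]
      have hJs : J = Ideal.span {a} ⊔ Ideal.span {b} := Ideal.span_insert a {b}
      nth_rewrite 1 [hJs]
      rw [Ideal.sup_mul]
      refine sup_le ((mul_le_mul' le_rfl (ih (by omega))).trans ?_) le_sup_right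
      rw [Ideal.mul_sup, ← pow_succ']
      refine sup_le le_sup_left (le_sup_of_le_right ?_)
      rcases Nat.eq_zero_or_pos k with rfl | hk0
      · simp [pow_zero]
        exact Ideal.mul_le_right
      · obtain ⟨l, rfl⟩ := Nat.exists_eq_add_of_le' hk0
        rw [mul_left_comm, show l + 1 - 1 = l from rfl, pow_succ']
        exact mul_le_mul' le_rfl (mul_le_mul' (hJs ▸ le_sup_left) le_rfl)
  let P : Submodule A K := Submodule.map (Algebra.linearMap A K) (J ^ m)
  refine isIntegral_of_smul_mem_submodule P ?_ ?_ _ ?_
  · rw [ne_eq, Submodule.eq_bot_iff]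
    intro h0
    refine pow_ne_zero m hb ((map_eq_zero_iff _ (IsFractionRing.injective A K)).1 (h0 _ ⟨b ^ m,
      Ideal.pow_mem_pow (Ideal.subset_span (by simp)) m, rfl⟩))
  · exact Submodule.FG.map _ (Submodule.FG.pow (Submodule.fg_span (by simp)) m)
  · rintro _ ⟨y, hy, rfl⟩
    have hay : a * y ∈ J ^ (m + 1) := by
      rw [pow_succ']
      exact Ideal.mul_mem_mul (Ideal.subset_span (by simp)) hy
    obtain ⟨z, hz, hzy⟩ := Ideal.mem_span_singleton_mul.1 (hJ hay)
    refine ⟨z, hz, ?_⟩
    show algebraMap A K z = algebraMap A K a / algebraMap A K b * algebraMap A K y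
    rw [div_mul_eq_mul_div, ← map_mul, ← hzy, map_mul, mul_div_cancel_left₀]
    exact (map_ne_zero_iff _ (IsFractionRing.injective A K)).2 hb

/-- Let A be a domain with fraction field K, B a faithfully flat A-algebra, C = B_red and R the total
ring of fractions of C. Then A → C is injective with nonzero elements going to non-zero-divisors, so
that K embeds in R, and an element of K is integral over C in R if and only if it is integral over
A. -/
theorem result {A B : Type u} [CommRing A] [IsDomain A]
    [CommRing B] [Algebra A B] [Module.FaithfullyFlat A B] :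
    Function.Injective (algebraMap A (B ⧸ nilradical B)) ∧
    (∀ a : A, a ≠ 0 → algebraMap A (B ⧸ nilradical B) a ∈ nonZeroDivisors (B ⧸ nilradical B)) ∧
    ∀ (R : Type u) [CommRing R] [Algebra (B ⧸ nilradical B) R] [IsFractionRing (B ⧸ nilradical B) R]
      [Algebra A R] [IsScalarTower A (B ⧸ nilradical B) R] [Algebra (FractionRing A) R]
      [IsScalarTower A (FractionRing A) R] (x : FractionRing A),
      IsIntegral (B ⧸ nilradical B) (algebraMap (FractionRing A) R x) ↔ IsIntegral A x := by
  classical
  set C := B ⧸ nilradical B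
  have hAC : ∀ a : A, algebraMap A C a = Ideal.Quotient.mk _ (algebraMap A B a) := fun a => rfl
  refine ⟨?_, fun a ha => ?_, ?_⟩
  · rw [injective_iff_map_eq_zero]
    intro a ha
    rw [hAC, Ideal.Quotient.eq_zero_iff_mem, mem_nilradical] at ha
    obtain ⟨N, hN⟩ := ha
    by_contra h
    have h1 := smul_regular (B := B) (pow_ne_zero N h) (c := 1) (by rw [mul_one, map_pow, hN])
    have hB : Nontrivial B := (algebraMap_injective (A := A) (B := B)).nontrivial
    exact one_ne_zero h1
  · rw [mem_nonZeroDivisors_iff_right]
    intro c hc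
    obtain ⟨c, rfl⟩ := Ideal.Quotient.mk_surjective c
    rw [hAC, ← map_mul, Ideal.Quotient.eq_zero_iff_mem, mem_nilradical] at hc
    obtain ⟨N, hN⟩ := hc
    rw [Ideal.Quotient.eq_zero_iff_mem, mem_nilradical]
    exact ⟨N, smul_regular (B := B) (pow_ne_zero N ha) (by rw [map_pow, mul_comm, ← mul_pow, hN])⟩
  · intro R _ _ _ _ _ _ _ x
    refine ⟨fun hx => ?_, fun hx => (hx.map (IsScalarTower.toAlgHom A (FractionRing A) R)).tower_top⟩
    obtain ⟨⟨a, b⟩, hab⟩ := IsLocalization.surj (nonZeroDivisors A) x
    have hb : (b : A) ≠ 0 := nonZeroDivisors.coe_ne_zero b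
    obtain ⟨P, hP, hPx⟩ := hx
    set n := P.natDegree
    choose β hβ using fun i => Ideal.Quotient.mk_surjective (P.coeff i)
    have hba : algebraMap A R a = algebraMap A R b * algebraMap (FractionRing A) R x := by
      rw [IsScalarTower.algebraMap_apply A (FractionRing A) R, IsScalarTower.algebraMap_apply A (FractionRing A) R,
        ← map_mul, mul_comm, hab]
    set q : B := algebraMap A B a ^ n + ∑ i ∈ Finset.range n, β i * algebraMap A B a ^ i * algebraMap A B b ^ (n - i)
    have hq : IsNilpotent q := by
      rw [← mem_nilradical, ← Ideal.Quotient.eq_zero_iff_mem]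
      refine IsFractionRing.injective C R ?_
      simp only [q, map_add, map_sum, map_mul, map_pow, map_zero, ← hAC, hβ, ← IsScalarTower.algebraMap_apply]
      have hsum : algebraMap (FractionRing A) R x ^ n +
          ∑ i ∈ Finset.range n, algebraMap C R (P.coeff i) * algebraMap (FractionRing A) R x ^ i = 0 := by
        have h := congrArg (Polynomial.eval₂ (algebraMap C R) (algebraMap (FractionRing A) R x)) hP.as_sum
        rw [hPx] at h
        simpa [n, Polynomial.eval₂_finsetSum] using h.symm
      rw [← mul_zero (algebraMap A R (b : A) ^ n), ← hsum, mul_add, ← mul_pow, ← hba, Finset.mul_sum]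
      refine congrArg _ (Finset.sum_congr rfl fun i hi => ?_)
      rw [show n = (n - i) + i by have := Finset.mem_range.1 hi; omega, pow_add, Nat.add_sub_cancel, hba, mul_pow]
      ring
    obtain ⟨N, hN⟩ := hq
    rcases Nat.eq_zero_or_pos N with rfl | hN0
    · rw [pow_zero] at hN
      exact absurd hN (by
        have hB : Nontrivial B := (algebraMap_injective (A := A) (B := B)).nontrivial
        exact one_ne_zero)
    set J : Ideal B := Ideal.span {algebraMap A B a, algebraMap A B b}
    have haJ : algebraMap A B a ∈ J := Ideal.subset_span (Set.mem_insert _ _)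
    have hbJ : algebraMap A B b ∈ J := Ideal.subset_span (Set.mem_insert_of_mem _ rfl)
    rcases Nat.eq_zero_or_pos n with hn | hn
    · simp only [q, hn, pow_zero, Finset.range_zero, Finset.sum_empty, add_zero, one_pow] at hN
      exact absurd hN (by
        have hB : Nontrivial B := (algebraMap_injective (A := A) (B := B)).nontrivial
        exact one_ne_zero)
    obtain ⟨n', hn'⟩ := Nat.exists_eq_add_of_le' hn
    have hy : q - algebraMap A B a ^ n ∈ Ideal.span {algebraMap A B b} * J ^ n' := by
      simp only [q, add_sub_cancel_left]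
      refine Submodule.sum_mem _ fun i hi => ?_
      have hi' := Finset.mem_range.1 hi
      rw [show n - i = (n' - i) + 1 by omega, pow_succ,
        show β i * algebraMap A B a ^ i * (algebraMap A B b ^ (n' - i) * algebraMap A B b) =
          algebraMap A B b * (β i * (algebraMap A B a ^ i * algebraMap A B b ^ (n' - i))) by ring]
      refine Ideal.mul_mem_mul (Ideal.mem_span_singleton_self _) (Ideal.mul_mem_left _ _ ?_)
      rw [show J ^ n' = J ^ i * J ^ (n' - i) by rw [← pow_add]; congr 1; omega]
      exact Ideal.mul_mem_mul (Ideal.pow_mem_pow haJ i) (Ideal.pow_mem_pow hbJ _)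
    have hkey : ∀ k, q ^ (k + 1) - algebraMap A B a ^ (n * (k + 1)) ∈
        Ideal.span {algebraMap A B b} * J ^ (n * k + n') := fun k => by
      induction k with
      | zero => simpa using hy
      | succ k ih =>
        rw [show q ^ (k + 1 + 1) - algebraMap A B a ^ (n * (k + 1 + 1)) =
          (q ^ (k + 1) - algebraMap A B a ^ (n * (k + 1))) * q +
            algebraMap A B a ^ (n * (k + 1)) * (q - algebraMap A B a ^ n) by
          rw [mul_add n (k + 1) 1, mul_one, pow_add (algebraMap A B a)]; ring]
        have hqJ : q ∈ J ^ n := by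
          rw [← sub_add_cancel q (algebraMap A B a ^ n)]
          refine add_mem ?_ (Ideal.pow_mem_pow haJ n)
          rw [show J ^ n = J * J ^ n' by rw [hn', pow_succ']]
          exact Ideal.mul_mono_left ((Ideal.span_singleton_le_iff_mem _).2 hbJ) hy
        refine add_mem ?_ ?_
        · rw [show n * (k + 1) + n' = n * k + n' + n by ring, pow_add, ← mul_assoc]
          exact Ideal.mul_mem_mul ih hqJ
        · rw [pow_add, ← mul_assoc, mul_comm (Ideal.span {algebraMap A B b}) (J ^ (n * (k + 1))), mul_assoc]
          exact Ideal.mul_mem_mul (Ideal.pow_mem_pow haJ _) hy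
    obtain ⟨k, rfl⟩ := Nat.exists_eq_add_of_le' hN0
    have hfin := hkey k
    rw [hN, zero_sub, neg_mem_iff] at hfin
    have hmem : a ^ (n * k + n' + 1) ∈ Ideal.span {(b : A)} * Ideal.span {a, (b : A)} ^ (n * k + n') := by
      rw [← Ideal.comap_map_eq_self_of_faithfullyFlat (B := B) (Ideal.span {(b : A)} * _), Ideal.mem_comap,
        Ideal.map_mul, Ideal.map_pow, Ideal.map_span, Ideal.map_span, Set.image_singleton, Set.image_pair,
        map_pow, show n * k + n' + 1 = n * (k + 1) by rw [mul_add, mul_one]; omega]
      exact hfin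
    have h := isIntegral_of_mem (K := FractionRing A) a b hb _ hmem
    rwa [← hab, mul_div_cancel_right₀] at h
    exact (map_ne_zero_iff _ (IsFractionRing.injective A (FractionRing A))).2 hb

end Groth.Agent.S4590
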