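import Groth.Statements.S4593
import Mathlib.Algebra.Category.Ring.FilteredColimits
import Mathlib.CategoryTheory.Limits.ConcreteCategory.Basic
import Mathlib.AlgebraicGeometry.Scheme
import Mathlib.RingTheory.Ideal.Maps

set_option autoImplicit false
universe u
open CategoryTheory CategoryTheory.Limits AlgebraicGeometry
open EGA41

namespace Groth.Agent.S4593

/-- Let B be a ring, (A_i) a filtered system of B-algebras with colimit A. The image of Spec A in Spec B
is the intersection of the images of the Spec A_i. -/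
theorem result {I : Type u} [SmallCategory I] [IsFiltered I]
    (B : CommRingCat.{u}) (D : I ⥤ CommRingCat.{u}) (s : (Functor.const I).obj B ⟶ D) (c : Cocone D)
    (hc : IsColimit c) (i₀ : I) :
    Set.range (Spec.map (s.app i₀ ≫ c.ι.app i₀)).base = ⋂ i : I, Set.range (Spec.map (s.app i)).base := by
  have hnat : ∀ {i j : I} (a : i ⟶ j), s.app j = s.app i ≫ D.map a := fun {i j} a => by
    have h := s.naturality a
    simp only [Functor.const_obj_map] at h
    erw [Category.id_comp] at h
    exact h
  have hind : ∀ i j : I, s.app i ≫ c.ι.app i = s.app j ≫ c.ι.app j := by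
    intro i j
    obtain ⟨k, a, b, -⟩ := IsFilteredOrEmpty.cocone_objs i j
    rw [← c.w a, ← c.w b, ← Category.assoc, ← Category.assoc, ← hnat a, ← hnat b]
  apply Set.Subset.antisymm
  · rintro x ⟨y, rfl⟩
    refine Set.mem_iInter.2 fun i => ⟨(Spec.map (c.ι.app i)).base y, ?_⟩
    rw [hind i₀ i, Spec.map_comp]
    rfl
  · intro x hx
    rw [Set.mem_iInter] at hx
    let p : Ideal B := (x : PrimeSpectrum B).asIdeal
    haveI hpp : p.IsPrime := (x : PrimeSpectrum B).isPrime
    have hp : ∀ i, (p.map (s.app i).hom).comap (s.app i).hom = p := by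
      intro i
      obtain ⟨q, hq⟩ := hx i
      refine (Ideal.comap_map_eq_self_iff_of_isPrime (f := (s.app i).hom) p).2
        ⟨(q : PrimeSpectrum (D.obj i)).asIdeal, (q : PrimeSpectrum (D.obj i)).isPrime, ?_⟩
      exact congrArg PrimeSpectrum.asIdeal hq
    set φ := s.app i₀ ≫ c.ι.app i₀ with hφ
    have key : ∀ a ∈ p.map φ.hom, ∃ (j : I) (y : D.obj j),
        y ∈ p.map (s.app j).hom ∧ c.ι.app j y = a := by
      intro a ha
      induction ha using Submodule.span_induction with
      | mem a ha =>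
        obtain ⟨b, hb, rfl⟩ := ha
        exact ⟨i₀, s.app i₀ b, Ideal.mem_map_of_mem _ hb, rfl⟩
      | zero => exact ⟨i₀, 0, zero_mem _, map_zero _⟩
      | add a b _ _ ha hb =>
        obtain ⟨j, y, hy, rfl⟩ := ha
        obtain ⟨k, z, hz, rfl⟩ := hb
        obtain ⟨l, f, g, -⟩ := IsFilteredOrEmpty.cocone_objs j k
        refine ⟨l, D.map f y + D.map g z, add_mem ?_ ?_, ?_⟩
        · rw [hnat f, CommRingCat.hom_comp, ← Ideal.map_map]; exact Ideal.mem_map_of_mem _ hy
        · rw [hnat g, CommRingCat.hom_comp, ← Ideal.map_map]; exact Ideal.mem_map_of_mem _ hz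
        · rw [map_add, ← ConcreteCategory.comp_apply, ← ConcreteCategory.comp_apply, c.w, c.w]
      | smul r a _ ha =>
        obtain ⟨j, y, hy, rfl⟩ := ha
        obtain ⟨k, z, rfl⟩ := Concrete.isColimit_exists_rep D hc r
        obtain ⟨l, f, g, -⟩ := IsFilteredOrEmpty.cocone_objs j k
        refine ⟨l, D.map g z * D.map f y, Ideal.mul_mem_left _ _ ?_, ?_⟩
        · rw [hnat f, CommRingCat.hom_comp, ← Ideal.map_map]; exact Ideal.mem_map_of_mem _ hy
        · rw [map_mul, smul_eq_mul, ← ConcreteCategory.comp_apply, ← ConcreteCategory.comp_apply,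
            c.w, c.w]
    have hle : (p.map φ.hom).comap φ.hom = p := by
      refine le_antisymm (fun b hb => ?_) Ideal.le_comap_map
      obtain ⟨j, y, hy, hya⟩ := key _ hb
      rw [show φ.hom b = c.ι.app j (s.app j b) by rw [hφ, hind i₀ j]; rfl] at hya
      obtain ⟨k, f, g, hfg⟩ := (Concrete.isColimit_rep_eq_iff_exists D hc y (s.app j b)).1 hya
      have h1 : D.map f y ∈ p.map (s.app k).hom := by
        rw [hnat f, CommRingCat.hom_comp, ← Ideal.map_map]; exact Ideal.mem_map_of_mem _ hy
      rw [hfg, ← ConcreteCategory.comp_apply, ← hnat g] at h1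
      exact (hp k).le h1
    obtain ⟨q, hq, hqe⟩ := (Ideal.comap_map_eq_self_iff_of_isPrime (f := φ.hom) p).1 hle
    exact ⟨(⟨q, hq⟩ : PrimeSpectrum c.pt), PrimeSpectrum.ext hqe⟩

end Groth.Agent.S4593
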