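import Groth.Statements.S4594
-- import your own Groth.Agent.* helpers here
import Mathlib.RingTheory.Smooth.Basic
import Mathlib.RingTheory.Kaehler.Basic
import Mathlib

set_option autoImplicit false
universe u
open TensorProduct KaehlerDifferential
open EGA41

namespace Groth.Agent.S4594

/-- A section modulo a square-zero ideal detects vanishing differentials. -/
theorem eq_section_of_tmul_D_eq_zero {Λ A C S : Type u} [CommRing Λ] [CommRing A] [CommRing C] [CommRing S]
    [Algebra Λ A] [Algebra A C] [Algebra Λ C] [IsScalarTower Λ A C] (g : A →+* S) (σ : C →+* S) (res : S →+* C)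
    (hres : ∀ x, res (σ x) = x) (hg : ∀ a, res (g a) = algebraMap A C a)
    (hsq : ∀ u v : S, res u = 0 → res v = 0 → u * v = 0)
    (hσΛ : ∀ z, σ (algebraMap Λ C z) = g (algebraMap Λ A z)) (j : A)
    (hj : (1 : C) ⊗ₜ[A] KaehlerDifferential.D Λ A j = 0) : g j = σ (algebraMap A C j) := by
  letI : Algebra C S := σ.toAlgebra
  letI : Algebra A S := (σ.comp (algebraMap A C)).toAlgebra
  letI : Algebra Λ S := (σ.comp (algebraMap Λ C)).toAlgebra
  haveI : IsScalarTower A C S := IsScalarTower.of_algebraMap_eq fun _ => rfl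
  haveI : IsScalarTower Λ A S := IsScalarTower.of_algebraMap_eq fun z => by
    show σ (algebraMap Λ C z) = σ (algebraMap A C (algebraMap Λ A z))
    rw [← IsScalarTower.algebraMap_apply]
  let δ : A → S := fun a => g a - σ (algebraMap A C a)
  have hδ0 : ∀ a, res (δ a) = 0 := fun a => by rw [map_sub, hg, hres, sub_self]
  let D : Derivation Λ A S := Derivation.mk'
    { toFun := δ
      map_add' := fun a b => by simp only [δ, map_add]; abel
      map_smul' := fun z a => by
        show δ (z • a) = σ (algebraMap Λ C z) * δ a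
        simp only [δ, Algebra.smul_def, map_mul, ← IsScalarTower.algebraMap_apply Λ A C, hσΛ, mul_sub] }
    fun a b => by
      show δ (a * b) = σ (algebraMap A C a) * δ b + σ (algebraMap A C b) * δ a
      have h := hsq _ _ (hδ0 a) (hδ0 b)
      simp only [δ] at h ⊢
      rw [map_mul, map_mul, map_mul]
      linear_combination h
  have h := congrArg (LinearMap.liftBaseChange C D.liftKaehlerDifferential) hj
  rw [LinearMap.liftBaseChange_tmul, one_smul, Derivation.liftKaehlerDifferential_comp_D, map_zero] at h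
  exact sub_eq_zero.mp h

/-- Let Λ be a ring, A → C a surjection of Λ-algebras with kernel J, C of characteristic p > 0, and π
the class of p·1 in J/J². If C is formally smooth over Λ/pΛ for the discrete topologies, then 0 →
(J/J²)/Cπ → Ω_{A/Λ} ⊗_A C → Ω_{C/Λ} → 0 is exact: the kernel of the conormal map J/J² → Ω_{A/Λ} ⊗_A
C is the span of π, and the base-change map to Ω_{C/Λ} is surjective with kernel the image of J/J². -/
theorem result {Λ A C : Type u} [CommRing Λ] [CommRing A]
    [CommRing C] [Algebra Λ A] [Algebra A C] [Algebra Λ C] [IsScalarTower Λ A C]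
    (hsurj : Function.Surjective (algebraMap A C)) (p : ℕ) [Fact p.Prime] [CharP C p]
    [Algebra (Λ ⧸ Ideal.span {(p : Λ)}) C] [IsScalarTower Λ (Λ ⧸ Ideal.span {(p : Λ)}) C]
    [Algebra.FormallySmooth (Λ ⧸ Ideal.span {(p : Λ)}) C]
    (hp : (p : A) ∈ RingHom.ker (algebraMap A C)) :
    LinearMap.ker (kerCotangentToTensor Λ A C) =
        Submodule.span A {(RingHom.ker (algebraMap A C)).toCotangent ⟨(p : A), hp⟩} ∧
      LinearMap.range (kerCotangentToTensor Λ A C) = (LinearMap.ker (mapBaseChange Λ A C)).restrictScalars A ∧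
      Function.Surjective (mapBaseChange Λ A C) := by
  classical
  let J := RingHom.ker (algebraMap A C)
  refine ⟨le_antisymm (fun x hx => ?_) (Submodule.span_le.mpr ?_), range_kerCotangentToTensor Λ A C hsurj,
    mapBaseChange_surjective Λ A C hsurj⟩
  swap
  · rintro _ rfl
    rw [SetLike.mem_coe, LinearMap.mem_ker, kerCotangentToTensor_toCotangent]
    simp
  obtain ⟨⟨j, hj⟩, rfl⟩ := J.toCotangent_surjective x
  rw [LinearMap.mem_ker, kerCotangentToTensor_toCotangent] at hx
  let Q : Ideal A := J ^ 2 ⊔ Ideal.span {(p : A)}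
  let A' := A ⧸ Q
  letI : CommRing A' := Ideal.Quotient.commRing Q
  have hQJ : Q ≤ J := sup_le (Ideal.pow_le_self two_ne_zero) ((Ideal.span_singleton_le_iff_mem J).mpr hp)
  let res : A' →+* C := Ideal.Quotient.lift Q (algebraMap A C) fun z hz => hQJ hz
  let Λp := Λ ⧸ Ideal.span {(p : Λ)}
  have hpA' : (p : A') = 0 := by
    rw [← map_natCast (Ideal.Quotient.mk Q)]
    exact Ideal.Quotient.eq_zero_iff_mem.mpr (Submodule.mem_sup_right (Ideal.mem_span_singleton_self _))
  let gΛ : Λp →+* A' := Ideal.Quotient.lift _ ((Ideal.Quotient.mk Q).comp (algebraMap Λ A)) fun z hz => by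
    obtain ⟨z, rfl⟩ := Ideal.mem_span_singleton'.mp hz
    rw [map_mul, map_natCast, hpA', mul_zero]
  letI : Algebra Λp A' := gΛ.toAlgebra
  let resA : A' →ₐ[Λp] C :=
    { res with
      commutes' := fun z => by
        obtain ⟨z, rfl⟩ := Ideal.Quotient.mk_surjective z
        show algebraMap A C (algebraMap Λ A z) = algebraMap (Λ ⧸ Ideal.span {(p : Λ)}) C (algebraMap Λ _ z)
        rw [← IsScalarTower.algebraMap_apply Λ A C, ← IsScalarTower.algebraMap_apply] }
  have hsq : ∀ u v : A', res u = 0 → res v = 0 → u * v = 0 := fun u v hu hv => by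
    obtain ⟨u, rfl⟩ := Ideal.Quotient.mk_surjective u
    obtain ⟨v, rfl⟩ := Ideal.Quotient.mk_surjective v
    rw [← map_mul]
    exact Ideal.Quotient.eq_zero_iff_mem.mpr (Submodule.mem_sup_left
      (pow_two J ▸ Ideal.mul_mem_mul (show u ∈ J from hu) (show v ∈ J from hv)))
  have hs : Function.Surjective resA := fun y => by
    obtain ⟨a, rfl⟩ := hsurj y
    exact ⟨Ideal.Quotient.mk Q a, rfl⟩
  have hnil : IsNilpotent (RingHom.ker (resA : A' →+* C)) := by
    refine ⟨2, ?_⟩
    rw [pow_two, Ideal.zero_eq_bot, ← le_bot_iff, Ideal.mul_le]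
    exact fun u hu v hv => (Submodule.mem_bot A').mpr (hsq u v hu hv)
  let σ : C →ₐ[Λp] A' := Algebra.FormallySmooth.liftOfSurjective (AlgHom.id Λp C) resA hs hnil
  have hσ : ∀ y, res (σ y) = y := fun y => Algebra.FormallySmooth.liftOfSurjective_apply _ resA hs hnil y
  have hσΛ : ∀ z : Λ, σ (algebraMap Λ C z) = Ideal.Quotient.mk Q (algebraMap Λ A z) := fun z => by
    rw [IsScalarTower.algebraMap_apply Λ (Λ ⧸ Ideal.span {(p : Λ)}) C]
    exact σ.commutes _
  have hjQ : j ∈ Q := by
    refine Ideal.Quotient.eq_zero_iff_mem.mp ?_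
    rw [eq_section_of_tmul_D_eq_zero (Ideal.Quotient.mk Q) σ.toRingHom res hσ (fun a => rfl) hsq hσΛ j hx,
      show algebraMap A C j = 0 from hj, map_zero]
  obtain ⟨q, hq, z, hz, rfl⟩ := Submodule.mem_sup.mp hjQ
  obtain ⟨a, rfl⟩ := Ideal.mem_span_singleton'.mp hz
  refine Submodule.mem_span_singleton.mpr ⟨a, ?_⟩
  rw [← map_smul]
  refine (Ideal.toCotangent_eq _).mpr ?_
  show a * (p : A) - (q + a * (p : A)) ∈ J ^ 2
  rw [sub_add_cancel_right]
  exact neg_mem hq

end Groth.Agent.S4594
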