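import Groth.Statements.S4597
import Mathlib


set_option autoImplicit false
universe u
open AlgebraicGeometry CategoryTheory CategoryTheory.Limits
open EGA41

namespace Groth.Agent.S4597

/-- Let f : X → Y, g : Y' → Y and f' : X ×_Y Y' → Y' the base change. If g is quasi-compact surjective
and f' quasi-compact, f is quasi-compact; if g is surjective and f' dominant, f is dominant. -/
theorem result {X Y Y' : Scheme.{u}} (f : X ⟶ Y)
    (g : Y' ⟶ Y) [Surjective g] :
    (QuasiCompact g → QuasiCompact (pullback.snd f g) → QuasiCompact f) ∧
    (IsDominant (pullback.snd f g) → IsDominant f) := by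
  constructor
  · intro hg hq
    refine ⟨fun U hU hc => ?_⟩
    haveI : Surjective (pullback.fst f g) := MorphismProperty.pullback_fst f g inferInstance
    have h := (hq.1 _ (hU.preimage g.continuous) (hg.1 U hU hc)).image (pullback.fst f g).continuous
    convert h using 1
    ext x
    constructor
    · intro hx
      obtain ⟨z, rfl⟩ := (pullback.fst f g).surjective x
      refine ⟨z, ?_, rfl⟩
      show g (pullback.snd f g z) ∈ U
      rw [← Scheme.Hom.comp_apply, ← pullback.condition, Scheme.Hom.comp_apply]
      exact hx
    · rintro ⟨z, hz, rfl⟩
      show f (pullback.fst f g z) ∈ U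
      rw [← Scheme.Hom.comp_apply, pullback.condition, Scheme.Hom.comp_apply]
      exact hz
  · intro hd
    refine ⟨?_⟩
    have h : DenseRange (g ∘ pullback.snd f g) :=
      g.surjective.denseRange.comp hd.1 g.continuous
    refine h.mono ?_
    rintro _ ⟨z, rfl⟩
    refine ⟨pullback.fst f g z, ?_⟩
    show f (pullback.fst f g z) = g (pullback.snd f g z)
    rw [← Scheme.Hom.comp_apply, pullback.condition, Scheme.Hom.comp_apply]

end Groth.Agent.S4597
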