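import Groth.Statements.S4598
import Mathlib


set_option autoImplicit false
universe u
open AlgebraicGeometry CategoryTheory CategoryTheory.Limits
open EGA41

namespace Groth.Agent.S4598

/-- If g : Y' → Y is quasi-compact and surjective and the base change X ×_Y Y' → Y' of f : X → Y is
quasi-separated, then f is quasi-separated. -/
theorem result {X Y Y' : Scheme.{u}} (f : X ⟶ Y)
    (g : Y' ⟶ Y) [QuasiCompact g] [Surjective g] [QuasiSeparated (pullback.snd f g)] :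
    QuasiSeparated f := by
  rw [HasAffineProperty.eq_targetAffineLocally @QuasiSeparated]
  rintro ⟨U, hU⟩
  refine (isQuasiSeparated_iff_quasiSeparatedSpace _ (f ⁻¹ᵁ U).2).mp ?_
  intro V W hV hVo hVc hW hWo hWc
  have hqs : QuasiSeparated (pullback.fst g f) := by
    rw [← pullbackSymmetry_hom_comp_snd g f]
    infer_instance
  obtain ⟨S, hS, heq⟩ : ∃ S : Set Y'.affineOpens, S.Finite ∧
      (g ⁻¹ᵁ U : Set Y') = ⋃ i ∈ S, (i.1 : Set Y') := by
    obtain ⟨Us, hUs, hUf, hUc⟩ := Y'.isBasis_affineOpens.exists_finite_of_isCompact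
      (U := g ⁻¹ᵁ U) (g.isCompact_preimage hU.isCompact)
    refine ⟨{i : Y'.affineOpens | i.1 ∈ Us}, hUf.preimage (Subtype.val_injective.injOn), ?_⟩
    rw [hUc]
    ext y
    simp only [TopologicalSpace.Opens.coe_sSup, Set.mem_iUnion, exists_prop, SetLike.mem_coe]
    exact ⟨fun ⟨i, hi, hy⟩ => ⟨⟨i, hUs hi⟩, hi, hy⟩, fun ⟨i, hi, hy⟩ => ⟨i.1, hi, hy⟩⟩
  have key : V ∩ W = ⋃ i ∈ S, pullback.snd g f '' (((pullback.fst g f) ⁻¹' (i.1 : Set Y')) ∩
      (pullback.snd g f) ⁻¹' (V ∩ W)) := by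
    ext x
    simp only [Set.mem_iUnion, Set.mem_image, Set.mem_inter_iff, Set.mem_preimage, exists_prop]
    refine ⟨fun hx => ?_, ?_⟩
    · obtain ⟨y, hy⟩ := g.surjective (f x)
      have hyU : y ∈ (g ⁻¹ᵁ U : Set Y') := show g y ∈ U from hy ▸ hV hx.1
      rw [heq] at hyU
      simp only [Set.mem_iUnion, exists_prop] at hyU
      obtain ⟨i, hi, hyi⟩ := hyU
      obtain ⟨z, hz1, hz2⟩ := Scheme.Pullback.exists_preimage_pullback (f := g) (g := f) y x hy
      exact ⟨i, hi, z, ⟨hz1.symm ▸ hyi, hz2.symm ▸ hx⟩, hz2⟩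
    · rintro ⟨i, -, z, ⟨-, hz⟩, rfl⟩
      exact hz
  rw [key]
  refine hS.isCompact_biUnion fun i hi => IsCompact.image ?_ (Scheme.Hom.continuous _)
  have hiU : i.1 ≤ g ⁻¹ᵁ U := fun y hy => heq.ge (Set.mem_biUnion hi hy)
  have hc : ∀ T : Set X, IsOpen T → IsCompact T → T ⊆ f ⁻¹ᵁ U → IsCompact
      ((pullback.fst g f) ⁻¹' (i.1 : Set Y') ∩ (pullback.snd g f) ⁻¹' T) := fun T hTo hTc hT =>
    IsAffineOpen.isCompact_pullback_inf i.2 (V := (⟨T, hTo⟩ : X.Opens)) hTc hU hiU hT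
  rw [Set.preimage_inter, Set.inter_inter_distrib_left]
  exact (pullback.fst g f).isQuasiSeparated_preimage (IsAffineOpen.isQuasiSeparated i.2) _ _ Set.inter_subset_left
    ((i.1.2.preimage (Scheme.Hom.continuous _)).inter (hVo.preimage (Scheme.Hom.continuous _)))
    (hc V hVo hVc hV) Set.inter_subset_left
    ((i.1.2.preimage (Scheme.Hom.continuous _)).inter (hWo.preimage (Scheme.Hom.continuous _)))
    (hc W hWo hWc hW)

end Groth.Agent.S4598
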