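import Groth.Statements.S4601
import Mathlib.LinearAlgebra.Basis.VectorSpace
import Mathlib.RingTheory.Flat.Localization
import Mathlib.RingTheory.Flat.Stability
import Mathlib.LinearAlgebra.TensorProduct.RightExactness
import Mathlib.LinearAlgebra.Dimension.Free

set_option autoImplicit false
universe u
open TensorProduct
open CAlg

namespace Groth.Agent.S4601

/-- Let A be a domain with fraction field K, B a Noetherian A-algebra which is flat over A, K' an
extension field of K, B₁ = B_red and R its total ring of fractions. For every sub-A-algebra A' of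
K', the map (A' ⊗_A B)_red → (K' ⊗_A R)_red is injective, i.e. an element of A' ⊗_A B with nilpotent
image in K' ⊗_A R is nilpotent. -/
theorem result {A B K' R : Type u} [CommRing A]
    [IsDomain A] [CommRing B] [Algebra A B] [IsNoetherianRing B] [Module.Flat A B]
    [Field K'] [Algebra A K'] [Algebra (FractionRing A) K'] [IsScalarTower A (FractionRing A) K']
    [CommRing R] [Algebra (B ⧸ nilradical B) R] [IsFractionRing (B ⧸ nilradical B) R]
    [Algebra B R] [IsScalarTower B (B ⧸ nilradical B) R] [Algebra A R] [IsScalarTower A B R]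
    (A' : Subalgebra A K') (x : ↥A' ⊗[A] B)
    (hx : IsNilpotent (Algebra.TensorProduct.map A'.val (IsScalarTower.toAlgHom A B R) x)) :
    IsNilpotent x := by
  classical
  haveI : IsScalarTower A (B ⧸ nilradical B) R := IsScalarTower.of_algebraMap_eq fun a => by
    rw [IsScalarTower.algebraMap_apply A B R, IsScalarTower.algebraMap_apply B (B ⧸ nilradical B) R]
    rfl
  haveI : Module.Free (FractionRing A) K' := Module.Free.of_basis (Module.Basis.ofVectorSpace (FractionRing A) K')
  haveI : Module.Flat A K' := Module.Flat.trans A (FractionRing A) K'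
  let f₁ : ↥A' ⊗[A] B →ₐ[A] K' ⊗[A] B := Algebra.TensorProduct.map A'.val (AlgHom.id A B)
  let f₂ : K' ⊗[A] B →ₐ[A] K' ⊗[A] (B ⧸ nilradical B) :=
    Algebra.TensorProduct.map (AlgHom.id A K') (Ideal.Quotient.mkₐ A (nilradical B))
  let f₃ : K' ⊗[A] (B ⧸ nilradical B) →ₐ[A] K' ⊗[A] R :=
    Algebra.TensorProduct.map (AlgHom.id A K') (IsScalarTower.toAlgHom A (B ⧸ nilradical B) R)
  have hfac : Algebra.TensorProduct.map A'.val (IsScalarTower.toAlgHom A B R) =
      (f₃.comp f₂).comp f₁ := by
    apply Algebra.TensorProduct.ext'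
    intro a b
    simp only [f₁, f₂, f₃, AlgHom.comp_apply, Algebra.TensorProduct.map_tmul,
      IsScalarTower.coe_toAlgHom', Ideal.Quotient.mkₐ_eq_mk, AlgHom.id_apply]
    rw [IsScalarTower.algebraMap_apply B (B ⧸ nilradical B) R]
    rfl
  have h₁ : Function.Injective f₁ :=
    Module.Flat.rTensor_preserves_injective_linearMap (M := B) A'.val.toLinearMap Subtype.val_injective
  have h₃ : Function.Injective f₃ :=
    Module.Flat.lTensor_preserves_injective_linearMap (M := K')
      (IsScalarTower.toAlgHom A (B ⧸ nilradical B) R).toLinearMap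
      (IsFractionRing.injective (B ⧸ nilradical B) R)
  have h₂ : ∀ y, f₂ y = 0 → IsNilpotent y := by
    intro y hy
    have hk : y ∈ RingHom.ker f₂ := hy
    rw [Algebra.TensorProduct.lTensor_ker _ (Ideal.Quotient.mkₐ_surjective A _),
      show RingHom.ker (Ideal.Quotient.mkₐ A (nilradical B)) = nilradical B from Ideal.mk_ker] at hk
    refine mem_nilradical.mp ?_
    refine (Ideal.map_le_iff_le_comap.mpr fun b hb => ?_) hk
    exact mem_nilradical.mpr ((mem_nilradical.mp hb).map _)
  obtain ⟨m, hm⟩ := hx
  have h3 : f₃ (f₂ (f₁ (x ^ m))) = 0 := by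
    rw [hfac] at hm
    simpa only [map_pow, AlgHom.comp_apply] using hm
  obtain ⟨l, hl⟩ := h₂ _ ((map_eq_zero_iff f₃ h₃).mp h3)
  rw [← map_pow, ← pow_mul, map_eq_zero_iff f₁ h₁] at hl
  exact ⟨m * l, hl⟩

end Groth.Agent.S4601
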