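import Groth.Statements.S4602
-- import your own Groth.Agent.* helpers here
import Groth.Agent.GRingCpl.Complete
import Groth.Agent.GRingCpl.AdicSmooth
import Groth.Agent.ResExt.Completion
import Groth.Agent.RegLoc.Order

set_option autoImplicit false
universe u
open IsLocalRing
open EGA41

namespace Groth.Agent.S4602

/-- Let A be a regular local ring with fraction field of characteristic zero, B a domain containing A
and module-finite over it, with fraction field L, n a prime of B, C = B_n, q a prime of the
completion Ĉ with q ∩ C = 0. Then Ĉ_q is formally smooth over L for the adic topology of its maximal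
ideal. (Case (ii) of the published statement, in characteristic p with a suitable filtered family of
subrings, is not stated.) -/
theorem result
    {A B : Type u} [CommRing A] [IsRegularLocalRing A] [CharZero A] [CommRing B] [IsDomain B] [Algebra A B]
    [Module.Finite A B] (hinj : Function.Injective (algebraMap A B)) (n : Ideal B) [n.IsPrime]
    (q : Ideal (AdicCompletion (maximalIdeal (Localization.AtPrime n)) (Localization.AtPrime n))) [q.IsPrime]
    (hq : q.comap (algebraMap (Localization.AtPrime n)
      (AdicCompletion (maximalIdeal (Localization.AtPrime n)) (Localization.AtPrime n))) = ⊥)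
    [Algebra B (Localization.AtPrime q)]
    [IsScalarTower B (AdicCompletion (maximalIdeal (Localization.AtPrime n)) (Localization.AtPrime n))
      (Localization.AtPrime q)]
    [Algebra (FractionRing B) (Localization.AtPrime q)] [IsScalarTower B (FractionRing B) (Localization.AtPrime q)] :
    CAlgX.IsAdicFormallySmooth (FractionRing B) (Localization.AtPrime q) (maximalIdeal (Localization.AtPrime q)) := by
  haveI : IsDomain A := RegLoc.isDomain A
  haveI : IsRegularRing A := SerreReg.isRegularRing_of_isRegularLocalRing A
  haveI : IsNoetherianRing B := IsNoetherianRing.of_finite A B
  haveI : IsNoetherianRing (Localization.AtPrime n) := IsLocalization.isNoetherianRing n.primeCompl _ inferInstance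
  let Ah := AdicCompletion (maximalIdeal (Localization.AtPrime n)) (Localization.AtPrime n)
  haveI : IsNoetherianRing Ah := ResExt.isNoetherianRing_adicCompletion _ (IsNoetherian.noetherian _)
  let T := Localization.AtPrime q
  haveI : IsNoetherianRing T := IsLocalization.isNoetherianRing q.primeCompl _ inferInstance
  haveI : IsRegularLocalRing T := GRingCpl.regular_cpl_of_finiteType (GRingCpl.goodBase_of_charZero A) hinj n
    (Localization.AtPrime n) q fun c hc => by
      have h : algebraMap B (Localization.AtPrime n) c ∈ q.comap (algebraMap (Localization.AtPrime n) Ah) := hc
      rw [hq, Ideal.mem_bot] at h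
      exact IsLocalization.injective (Localization.AtPrime n) n.primeCompl_le_nonZeroDivisors (h.trans (map_zero _).symm)
  haveI : IsRegularRing T := SerreReg.isRegularRing_of_isRegularLocalRing T
  haveI : CharZero (FractionRing B) := charZero_of_injective_algebraMap
    ((IsFractionRing.injective B (FractionRing B)).comp hinj : Function.Injective (algebraMap A (FractionRing B)))
  refine S4578.adic_iff_geomRegular.mpr fun k' _ _ hfin => ?_
  haveI : Algebra.IsSeparable (FractionRing B) k' := inferInstance
  haveI := Algebra.FormallyEtale.of_isSeparable (FractionRing B) k'
  haveI : Algebra.FinitePresentation (FractionRing B) k' := Algebra.FinitePresentation.of_finiteType.mp inferInstance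
  haveI : Algebra.Etale (FractionRing B) k' := ⟨inferInstance, inferInstance⟩
  exact FlatDepth.isRegularRing_of_equiv _ _ (Algebra.TensorProduct.comm (FractionRing B) T k').toRingEquiv
    (RegLocus.isRegularRing_of_smooth T (TensorProduct (FractionRing B) T k'))

end Groth.Agent.S4602
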