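import Groth.Statements.S4603
import Groth.Agent.DomLib.Basic

set_option autoImplicit false
set_option linter.style.haveILetI false
set_option backward.isDefEq.respectTransparency false
universe u
open AlgebraicGeometry CategoryTheory
open EGA41

namespace Groth.Agent.S4603

/-- Let f : X → Y be quasi-compact. The following are equivalent: f is dominant; the fibre of f over
every maximal point of Y (a point with no proper generization, i.e. the generic point of an
irreducible component) is nonempty; every maximal point of Y is the image of a maximal point of X. -/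
theorem result {X Y : Scheme.{u}} (f : X ⟶ Y) [QuasiCompact f] :
    [IsDominant f,
     ∀ y : Y, (∀ y' : Y, y' ⤳ y → y' = y) → y ∈ Set.range f.base,
     ∀ y : Y, (∀ y' : Y, y' ⤳ y → y' = y) → ∃ x : X, (∀ x' : X, x' ⤳ x → x' = x) ∧ f.base x = y].TFAE := by
  have hmax : ∀ (Z : Scheme.{u}) (z : Z), ∃ η : Z, η ⤳ z ∧ ∀ η' : Z, η' ⤳ η → η' = η := fun Z z => by
    obtain ⟨η, hη, hz⟩ := Groth.Agent.DomLib.exists_max z
    exact ⟨η, hz, fun η' h => Groth.Agent.DomLib.eq_of_specializes_max hη h⟩
  tfae_have 1 → 3 := fun h y hy => by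
    obtain ⟨x, hx⟩ := Groth.Agent.DomLib.exists_specializes f (h.denseRange y)
    obtain ⟨x', hx', hxmax⟩ := hmax X x
    exact ⟨x', hxmax, hy _ ((hx'.map f.continuous).trans hx)⟩
  tfae_have 3 → 2 := fun h y hy => by
    obtain ⟨x, -, hx⟩ := h y hy
    exact ⟨x, hx⟩
  tfae_have 2 → 1 := fun h => ⟨fun y => by
    obtain ⟨η, hη, hmx⟩ := hmax Y y
    exact closure_mono (Set.singleton_subset_iff.2 (h η hmx)) (specializes_iff_mem_closure.1 hη)⟩
  tfae_finish

end Groth.Agent.S4603
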