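import Groth.Statements.S4604
-- import your own Groth.Agent.* helpers here
import Groth.Agent.EGA41Quot.Eisenstein

set_option autoImplicit false
universe u
open IsLocalRing
open EGA41

namespace Groth.Agent.S4604

/-- (i) and the kernel statement of (ii): let A be a local ring with maximal ideal m of square zero,
F_i(T_i) = T_i^{d_i} + Σ_{k<d_i} c_{ik} T_i^k (1 ≤ i ≤ r) monic of degrees d_i ≥ 2 with non-leading
coefficients in m, and A' = A[T_1, …, T_r]/(F_1, …, F_r). Then A' is local with residue field K, and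
the kernel of m → m'/m'² (m' the maximal ideal of A') is the ideal generated by the constant terms
c_{i0}. -/
theorem result {A : Type u} [CommRing A] [IsLocalRing A]
    (hm : maximalIdeal A ^ 2 = ⊥) {r : ℕ} (d : Fin r → ℕ) (hd : ∀ i, 2 ≤ d i) (c : Fin r → ℕ → A)
    (hc : ∀ i k, c i k ∈ maximalIdeal A) :
    let F : Fin r → MvPolynomial (Fin r) A := fun i =>
      MvPolynomial.X i ^ d i + (Finset.range (d i)).sum fun k => MvPolynomial.C (c i k) * MvPolynomial.X i ^ k
    ∃ _ : IsLocalRing (MvPolynomial (Fin r) A ⧸ Ideal.span (Set.range F)),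
      Function.Surjective ((Ideal.Quotient.mk (maximalIdeal (MvPolynomial (Fin r) A ⧸ Ideal.span (Set.range F)))).comp
        (algebraMap A (MvPolynomial (Fin r) A ⧸ Ideal.span (Set.range F)))) ∧
      maximalIdeal A ⊓ Ideal.comap (algebraMap A (MvPolynomial (Fin r) A ⧸ Ideal.span (Set.range F)))
          (maximalIdeal (MvPolynomial (Fin r) A ⧸ Ideal.span (Set.range F)) ^ 2) =
        Ideal.span (Set.range fun i => c i 0) := by
  open IsLocalRing EGA41Quot in
  classical
  intro F
  obtain ⟨hloc, hn⟩ := local_eis d hd c hc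
  haveI := hloc
  let P := MvPolynomial (Fin r) A
  let I := Ideal.span (Set.range (eis d c))
  let B := P ⧸ I
  let N := maximalIdeal B
  have hmk : ∀ z : P, Ideal.Quotient.mk I z ∈ N ↔ MvPolynomial.constantCoeff z ∈ maximalIdeal A := fun z =>
    (SetLike.ext_iff.mp hn z).symm
  refine ⟨hloc, fun y => ?_, le_antisymm ?_ (Ideal.span_le.mpr ?_)⟩
  · obtain ⟨b, rfl⟩ := Ideal.Quotient.mk_surjective y
    obtain ⟨z, rfl⟩ := Ideal.Quotient.mk_surjective b
    refine ⟨MvPolynomial.constantCoeff z, ?_⟩
    refine (Ideal.Quotient.eq (I := N)).mpr ?_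
    show Ideal.Quotient.mk I (MvPolynomial.C (MvPolynomial.constantCoeff z)) - Ideal.Quotient.mk I z ∈ N
    rw [← map_sub, hmk, map_sub, MvPolynomial.constantCoeff_C, sub_self]
    exact zero_mem _
  · rintro a ⟨-, ha⟩
    let C0 := Ideal.span (Set.range fun i => c i 0)
    let ψ : B →+* A ⧸ C0 := Ideal.Quotient.lift I ((Ideal.Quotient.mk C0).comp MvPolynomial.constantCoeff) fun z hz => by
      refine (show I ≤ RingHom.ker ((Ideal.Quotient.mk C0).comp MvPolynomial.constantCoeff) from
        Ideal.span_le.mpr ?_) hz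
      rintro _ ⟨i, rfl⟩
      show Ideal.Quotient.mk C0 (MvPolynomial.constantCoeff (eis d c i)) = 0
      have hd0 : d i ≠ 0 := (lt_of_lt_of_le two_pos (hd i)).ne'
      rw [map_add, map_pow, MvPolynomial.constantCoeff_X, zero_pow hd0, zero_add, map_sum,
        Finset.sum_eq_single 0 (fun k _ hk => by rw [map_mul, map_pow, MvPolynomial.constantCoeff_X, zero_pow hk, mul_zero])
          (fun h => absurd (Finset.mem_range.mpr (lt_of_lt_of_le two_pos (hd i))) h),
        pow_zero, mul_one, MvPolynomial.constantCoeff_C]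
      exact Ideal.Quotient.eq_zero_iff_mem.mpr (Ideal.subset_span (Set.mem_range_self i))
    have hψ : N.map ψ ≤ (maximalIdeal A).map (Ideal.Quotient.mk C0) := Ideal.map_le_iff_le_comap.mpr fun b hb => by
      obtain ⟨z, rfl⟩ := Ideal.Quotient.mk_surjective b
      exact Ideal.mem_map_of_mem _ ((hmk z).mp hb)
    have h1 : ψ (algebraMap A B a) ∈ (N ^ 2).map ψ := Ideal.mem_map_of_mem _ ha
    rw [Ideal.map_pow] at h1
    have h2 := Ideal.pow_right_mono hψ 2 h1
    rw [← Ideal.map_pow, hm, Ideal.map_bot, Ideal.mem_bot] at h2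
    have h3 : ψ (algebraMap A B a) = Ideal.Quotient.mk C0 a := by
      show Ideal.Quotient.mk C0 (MvPolynomial.constantCoeff (MvPolynomial.C a)) = _
      rw [MvPolynomial.constantCoeff_C]
    exact Ideal.Quotient.eq_zero_iff_mem.mp (h3.symm.trans h2)
  · rintro _ ⟨i, rfl⟩
    refine ⟨hc i 0, ?_⟩
    show Ideal.Quotient.mk I (MvPolynomial.C (c i 0)) ∈ N ^ 2
    have h1 : Ideal.Quotient.mk I (eis d c i - MvPolynomial.C (c i 0)) ∈ N ^ 2 := by
      have h := Ideal.mem_map_of_mem (Ideal.Quotient.mk I) (sub_mem_sq d hd c hc i)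
      rw [Ideal.map_pow] at h
      refine Ideal.pow_right_mono ?_ 2 h
      rw [Ideal.map_le_iff_le_comap]
      exact hn.le
    rw [map_sub, show Ideal.Quotient.mk I (eis d c i) = 0 from
      Ideal.Quotient.eq_zero_iff_mem.mpr (Ideal.subset_span (Set.mem_range_self i)), zero_sub] at h1
    exact (neg_mem_iff (S := Ideal B)).mp h1

end Groth.Agent.S4604
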