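import Groth.Statements.S4605
-- import your own Groth.Agent.* helpers here
import Groth.Agent.EGA41Quot.PPoly

set_option autoImplicit false
universe u
open IsLocalRing
open EGA41

namespace Groth.Agent.S4605

/-- Let A be a local ring with maximal ideal m of square zero and residue field K of characteristic p >
0, F_i(T_i) = T_i^p + p Σ_{k=1}^{p-1} c_{ik} T_i^{p-k} − f_i (i in a finite index set) with c_{ik},
f_i ∈ A, and suppose the residues of the f_i in K are p-independent over K^p. Then A' = A[T_i]/(F_i)
is local with maximal ideal m A'. (The identification of the residue field with K(a_i^{1/p}) is not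
restated.) -/
theorem result {A : Type u} [CommRing A]
    [IsLocalRing A] (hm : maximalIdeal A ^ 2 = ⊥) (p : ℕ) [Fact p.Prime] [CharP (ResidueField A) p]
    {ι : Type u} [Finite ι] (c : ι → Fin p → A) (f : ι → A)
    (hind : LinearIndependent (↥(frobenius (ResidueField A) p).fieldRange)
      (fun e : {e : ι →₀ ℕ // ∀ i, e i < p} => EGA41.pMonomial (fun i => residue A (f i)) e.1)) :
    let F : ι → MvPolynomial ι A := fun i =>
      MvPolynomial.X i ^ p + (p : MvPolynomial ι A) * (Finset.univ.sum fun j : Fin p =>
        if (j : ℕ) = 0 then 0 else MvPolynomial.C (c i j) * MvPolynomial.X i ^ (p - (j : ℕ))) - MvPolynomial.C (f i)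
    ∃ _ : IsLocalRing (MvPolynomial ι A ⧸ Ideal.span (Set.range F)),
      maximalIdeal (MvPolynomial ι A ⧸ Ideal.span (Set.range F)) =
        (maximalIdeal A).map (algebraMap A (MvPolynomial ι A ⧸ Ideal.span (Set.range F))) := by
  open IsLocalRing EGA41Quot in
  classical
  intro F
  obtain ⟨hloc, key⟩ := local_ppoly p c f
  haveI := hloc
  refine ⟨hloc, ?_⟩
  let I := Ideal.span (Set.range (ppoly p c f))
  let B := MvPolynomial ι A ⧸ I
  let K := ResidueField A
  let Ω := AlgebraicClosure K
  let mB : Ideal B := (maximalIdeal A).map (algebraMap A B)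
  haveI : Algebra.IsIntegral A B := isIntegral_ppoly p c f
  obtain ⟨g, hgA, hgX⟩ := exists_point p c f
  haveI : CharP Ω p := charP_of_injective_algebraMap (algebraMap K Ω).injective p
  have hp0 : 0 < p := (Fact.out : p.Prime).pos
  let E := {e : ι →₀ ℕ // ∀ i, e i < p}
  let mon : (ι →₀ ℕ) → B := fun e => Ideal.Quotient.mk I (MvPolynomial.monomial e 1)
  have hsmul : ∀ (a : A) (z : B), a • z = algebraMap A B a * z := fun a z => Algebra.smul_def a z
  let W : Submodule A B := mB.restrictScalars A ⊔ Submodule.span A (Set.range fun e : E => mon e.1)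
  have hmBW : ∀ z ∈ mB, z ∈ W := fun z hz => Submodule.mem_sup_left hz
  have hmonW : ∀ e : E, mon e.1 ∈ W := fun e => Submodule.mem_sup_right (Submodule.subset_span ⟨e, rfl⟩)
  have hp : (p : B) ∈ mB := by
    rw [← map_natCast (algebraMap A B)]
    exact Ideal.mem_map_of_mem _ (natCast_mem p)
  have hXp : ∀ i, Ideal.Quotient.mk I (MvPolynomial.X i) ^ p - algebraMap A B (f i) ∈ mB := fun i => by
    letI : CommRing (B ⧸ mB) := Ideal.Quotient.commRing mB
    have h0 : Ideal.Quotient.mk mB (Ideal.Quotient.mk I (ppoly p c f i)) = 0 := by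
      rw [show Ideal.Quotient.mk I (ppoly p c f i) = 0 from
        Ideal.Quotient.eq_zero_iff_mem.mpr (Ideal.subset_span (Set.mem_range_self i)), map_zero]
    have h1 := eval_ppoly p c f ((Ideal.Quotient.mk mB).comp (Ideal.Quotient.mk I))
      (by rw [← map_natCast (Ideal.Quotient.mk mB)]; exact Ideal.Quotient.eq_zero_iff_mem.mpr hp) i
    rw [RingHom.comp_apply, h0, RingHom.comp_apply, RingHom.comp_apply, ← map_pow, ← map_sub] at h1
    exact Ideal.Quotient.eq_zero_iff_mem.mp h1.symm
  have hX : ∀ i, ∀ z ∈ W, z * Ideal.Quotient.mk I (MvPolynomial.X i) ∈ W := fun i z hz => by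
    obtain ⟨z1, hz1, z2, hz2, rfl⟩ := Submodule.mem_sup.mp hz
    rw [add_mul]
    refine add_mem (hmBW _ (Ideal.mul_mem_right _ mB hz1)) ?_
    clear hz
    induction hz2 using Submodule.span_induction with
    | mem x hx =>
      obtain ⟨⟨e, he⟩, rfl⟩ := hx
      show mon e * _ ∈ W
      have h1 : mon e * Ideal.Quotient.mk I (MvPolynomial.X i) = mon (e + Finsupp.single i 1) := by
        simp only [mon, ← map_mul, MvPolynomial.X, MvPolynomial.monomial_mul, mul_one]
      rw [h1]
      by_cases hi : e i + 1 < p
      · refine hmonW ⟨e + Finsupp.single i 1, fun j => ?_⟩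
        rcases eq_or_ne j i with rfl | hj
        · simpa using hi
        · simpa [Finsupp.single_eq_of_ne hj] using he j
      · have hei : e i + 1 = p := by have := he i; omega
        let e' := e.erase i
        have he' : e + Finsupp.single i 1 = e' + Finsupp.single i p := by
          ext j
          rcases eq_or_ne j i with rfl | hj
          · simp [e', hei]
          · simp [e', Finsupp.erase_ne hj, Finsupp.single_eq_of_ne hj]
        have h2 : mon (e + Finsupp.single i 1) =
            mon e' * (Ideal.Quotient.mk I (MvPolynomial.X i) ^ p - algebraMap A B (f i)) + f i • mon e' := by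
          rw [he', hsmul, mul_sub, mul_comm (algebraMap A B (f i)), sub_add_cancel]
          simp only [mon, ← map_pow, ← map_mul, MvPolynomial.X_pow_eq_monomial, MvPolynomial.monomial_mul, mul_one]
        rw [h2]
        refine add_mem (hmBW _ (Ideal.mul_mem_left _ _ (hXp i))) (Submodule.smul_mem _ _ (hmonW ⟨e', fun j => ?_⟩))
        rcases eq_or_ne j i with rfl | hj
        · simpa [e'] using hp0
        · simpa [e', Finsupp.erase_ne hj] using he j
    | zero => rw [zero_mul]; exact zero_mem _
    | add x y _ _ hx hy => rw [add_mul]; exact add_mem hx hy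
    | smul a x _ hx => rw [smul_mul_assoc]; exact Submodule.smul_mem _ _ hx
  have hW : ∀ b : B, b ∈ W := fun b => by
    obtain ⟨z, rfl⟩ := Ideal.Quotient.mk_surjective b
    induction z using MvPolynomial.induction_on with
    | C a =>
      have h := Submodule.smul_mem W a (hmonW ⟨0, fun _ => hp0⟩)
      have h1 : a • mon 0 = Ideal.Quotient.mk I (MvPolynomial.C a) := by
        show a • Ideal.Quotient.mk I (MvPolynomial.monomial 0 1) = _
        rw [MvPolynomial.monomial_zero', map_one, map_one, hsmul, mul_one]
        rfl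
      rwa [h1] at h
    | add u v hu hv => rw [map_add]; exact add_mem hu hv
    | mul_X u i hu => rw [map_mul]; exact hX i _ hu
  have hker : ∀ b : B, g b = 0 → b ∈ mB := fun b hb => by
    obtain ⟨z1, hz1, z2, hz2, rfl⟩ := Submodule.mem_sup.mp (hW b)
    obtain ⟨a, rfl⟩ := Finsupp.mem_span_range_iff_exists_finsupp.mp hz2
    have hg1 : ∀ z ∈ mB, g z = 0 := fun z hz => by
      refine (show mB ≤ RingHom.ker g from Ideal.map_le_iff_le_comap.mpr fun x hx => ?_) hz
      show g (algebraMap A B x) = 0
      rw [hgA, (residue_eq_zero_iff x).mpr hx, map_zero]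
    rw [map_add, hg1 z1 hz1, zero_add, Finsupp.sum, map_sum] at hb
    have hb' := congrArg (fun y : Ω => y ^ p) hb
    simp only [zero_pow hp0.ne', sum_pow_char] at hb'
    have hmon : ∀ e : ι →₀ ℕ, g (mon e) ^ p = algebraMap K Ω (EGA41.pMonomial (fun i => residue A (f i)) e) := by
      intro e
      simp only [mon, MvPolynomial.monomial_eq, map_one, one_mul, EGA41.pMonomial, map_finsuppProd, map_pow,
        Finsupp.prod, ← Finset.prod_pow]
      rw [map_prod (Ideal.Quotient.mk I), map_prod g, ← Finset.prod_pow, map_prod (algebraMap K Ω)]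
      refine Finset.prod_congr rfl fun i _ => ?_
      rw [map_pow (Ideal.Quotient.mk I), map_pow g, map_pow (algebraMap K Ω), ← pow_mul, mul_comm, pow_mul]
      exact congrArg (· ^ e i) (hgX i)
    have hterm : ∀ e : E, g (a e • mon e.1) ^ p =
        algebraMap K Ω (residue A (a e) ^ p * EGA41.pMonomial (fun i => residue A (f i)) e.1) := fun e => by
      rw [hsmul, map_mul, mul_pow, hgA, hmon, map_mul, map_pow]
    simp only [hterm, ← map_sum] at hb'
    rw [map_eq_zero_iff _ (algebraMap K Ω).injective] at hb'
    refine add_mem hz1 (sum_mem fun e he => ?_)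
    have h := linearIndependent_iff'.mp hind a.support
      (fun e => ⟨residue A (a e) ^ p, ⟨residue A (a e), rfl⟩⟩) (by rw [← hb']; rfl) e he
    have h2 : residue A (a e) = 0 := (pow_eq_zero_iff hp0.ne').mp (Subtype.ext_iff.mp h)
    show a e • mon e.1 ∈ mB
    rw [hsmul]
    exact Ideal.mul_mem_right _ _ (Ideal.mem_map_of_mem _ ((residue_eq_zero_iff _).mp h2))
  have hmax : (RingHom.ker g).IsMaximal := by
    haveI : (RingHom.ker g).IsPrime := RingHom.ker_isPrime g
    refine Ideal.isMaximal_of_isIntegral_of_isMaximal_comap (R := A) (RingHom.ker g) ?_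
    rw [show (RingHom.ker g).comap (algebraMap A B) = maximalIdeal A from Ideal.ext fun x => by
      rw [Ideal.mem_comap, RingHom.mem_ker, hgA, map_eq_zero_iff _ (algebraMap K Ω).injective, residue_eq_zero_iff]]
    exact maximalIdeal.isMaximal A
  refine le_antisymm (fun b hb => hker b ?_) ?_
  · rw [← IsLocalRing.eq_maximalIdeal hmax] at hb
    exact hb
  · refine Ideal.map_le_iff_le_comap.mpr fun x hx => ?_
    rw [← IsLocalRing.eq_maximalIdeal hmax, Ideal.mem_comap, RingHom.mem_ker]
    rw [hgA, (residue_eq_zero_iff x).mpr hx, map_zero]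

end Groth.Agent.S4605
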