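import Groth.Statements.S4607
import Mathlib

set_option autoImplicit false
universe u
open TensorProduct
open EGA41

namespace Groth.Agent.S4607

/-- First assertion, case of two factors: for A-algebras A' and A'' the image of Spec(A' ⊗_A A'') in
Spec A is the intersection of the images of Spec A' and Spec A''. -/
theorem result {A A' A'' : Type u} [CommRing A] [CommRing A'] [CommRing A'']
    [Algebra A A'] [Algebra A A''] :
    Set.range (PrimeSpectrum.comap (algebraMap A (A' ⊗[A] A''))) =
      Set.range (PrimeSpectrum.comap (algebraMap A A')) ∩ Set.range (PrimeSpectrum.comap (algebraMap A A'')) := by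
  ext p
  rw [Set.mem_inter_iff, ← PrimeSpectrum.nontrivial_iff_mem_rangeComap (S := A' ⊗[A] A''),
    ← PrimeSpectrum.nontrivial_iff_mem_rangeComap (S := A'),
    ← PrimeSpectrum.nontrivial_iff_mem_rangeComap (S := A'')]
  let k := p.asIdeal.ResidueField
  rw [(TensorProduct.AlgebraTensorModule.distribBaseChange A k A' A'').toEquiv.nontrivial_congr]
  constructor
  · intro h
    refine ⟨?_, ?_⟩
    · by_contra hc
      rw [not_nontrivial_iff_subsingleton] at hc
      haveI := hc
      exact absurd h (not_nontrivial_iff_subsingleton.mpr inferInstance)
    · by_contra hc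
      rw [not_nontrivial_iff_subsingleton] at hc
      haveI := hc
      exact absurd h (not_nontrivial_iff_subsingleton.mpr inferInstance)
  · rintro ⟨h₁, h₂⟩
    exact (Module.Free.chooseBasis k _).tensorProduct (Module.Free.chooseBasis k _) |>.repr.toEquiv.nontrivial

end Groth.Agent.S4607
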