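import Groth.Statements.S4608
import Groth.Agent.CoprodLib.Basic

set_option autoImplicit false
universe u
open AlgebraicGeometry CategoryTheory CategoryTheory.Limits
open EGA41

namespace Groth.Agent.S4608

/-- A morphism from a disjoint union X' ⨿ X'' → Y is quasi-compact if and only if its two components
are. -/
theorem result {X' X'' Y : Scheme.{u}} (f' : X' ⟶ Y) (f'' : X'' ⟶ Y) :
    QuasiCompact (coprod.desc f' f'') ↔ QuasiCompact f' ∧ QuasiCompact f'' := by
  refine ⟨fun h => ⟨⟨fun U hU hc => ?_⟩, ⟨fun U hU hc => ?_⟩⟩, fun ⟨h', h''⟩ => ⟨fun U hU hc => ?_⟩⟩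
  · rw [← CoprodLib.preimage_inl f' f'']
    exact ((CoprodLib.isCompact_iff _).mp (h.1 U hU hc)).1
  · rw [← CoprodLib.preimage_inr f' f'']
    exact ((CoprodLib.isCompact_iff _).mp (h.1 U hU hc)).2
  · rw [CoprodLib.isCompact_iff, CoprodLib.preimage_inl, CoprodLib.preimage_inr]
    exact ⟨h'.1 U hU hc, h''.1 U hU hc⟩

end Groth.Agent.S4608
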