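import Groth.Statements.S4609
import Groth.Agent.CoprodLib.Basic

set_option autoImplicit false
universe u
open AlgebraicGeometry CategoryTheory CategoryTheory.Limits
open EGA41

namespace Groth.Agent.S4609

/-- A morphism from a disjoint union X' ⨿ X'' → Y is quasi-separated if and only if its two components
are. -/
theorem result {X' X'' Y : Scheme.{u}} (f' : X' ⟶ Y) (f'' : X'' ⟶ Y) :
    QuasiSeparated (coprod.desc f' f'') ↔ QuasiSeparated f' ∧ QuasiSeparated f'' := by
  constructor
  · intro h
    exact ⟨coprod.inl_desc f' f'' ▸ (inferInstance : QuasiSeparated (coprod.inl ≫ coprod.desc f' f'')),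
      coprod.inr_desc f' f'' ▸ (inferInstance : QuasiSeparated (coprod.inr ≫ coprod.desc f' f''))⟩
  · rintro ⟨h', h''⟩
    rw [HasAffineProperty.eq_targetAffineLocally @QuasiSeparated]
    rintro ⟨W, hW⟩
    refine (isQuasiSeparated_iff_quasiSeparatedSpace _ (coprod.desc f' f'' ⁻¹ᵁ W).2).mp ?_
    intro U V hU hUo hUc hV hVo hVc
    have h1 := f'.isQuasiSeparated_preimage hW.isQuasiSeparated
    have h2 := f''.isQuasiSeparated_preimage hW.isQuasiSeparated
    rw [CoprodLib.isCompact_iff, Set.preimage_inter, Set.preimage_inter]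
    refine ⟨h1 _ _ ?_ (hUo.preimage (Scheme.Hom.continuous _)) ((CoprodLib.isCompact_iff U).mp hUc).1
        ?_ (hVo.preimage (Scheme.Hom.continuous _)) ((CoprodLib.isCompact_iff V).mp hVc).1,
      h2 _ _ ?_ (hUo.preimage (Scheme.Hom.continuous _)) ((CoprodLib.isCompact_iff U).mp hUc).2
        ?_ (hVo.preimage (Scheme.Hom.continuous _)) ((CoprodLib.isCompact_iff V).mp hVc).2⟩
    · exact (Set.preimage_mono hU).trans (CoprodLib.preimage_inl f' f'' _).le
    · exact (Set.preimage_mono hV).trans (CoprodLib.preimage_inl f' f'' _).le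
    · exact (Set.preimage_mono hU).trans (CoprodLib.preimage_inr f' f'' _).le
    · exact (Set.preimage_mono hV).trans (CoprodLib.preimage_inr f' f'' _).le

end Groth.Agent.S4609
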