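import Groth.Statements.S4611
-- import your own Groth.Agent.* helpers here
import Mathlib

set_option autoImplicit false
universe u
open EGA41

namespace Groth.Agent.S4611

/-- A local algebra essentially of finite type over a ring A is A-isomorphic to a quotient of a
localization A[T_1, …, T_n]_q of a polynomial algebra at a prime ideal q; stated as the existence of
a surjective A-algebra map from such a localization. -/
theorem result {A B : Type u} [CommRing A]
    [CommRing B] [IsLocalRing B] [Algebra A B] [Algebra.EssFiniteType A B] :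
    ∃ (n : ℕ) (q : Ideal (MvPolynomial (Fin n) A)) (_ : q.IsPrime)
      (φ : Localization.AtPrime q →ₐ[A] B), Function.Surjective φ := by
  classical
  let S := Algebra.EssFiniteType.subalgebra A B
  obtain ⟨n, π, hπ⟩ := Algebra.FiniteType.iff_quotient_mvPolynomial''.mp
    (inferInstance : Algebra.FiniteType A S)
  let ψ : MvPolynomial (Fin n) A →ₐ[A] B := S.val.comp π
  let q : Ideal (MvPolynomial (Fin n) A) := (IsLocalRing.maximalIdeal B).comap ψ
  have hunit : ∀ y : q.primeCompl, IsUnit (ψ y) := fun y =>
    IsLocalRing.notMem_maximalIdeal.mp y.2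
  refine ⟨n, q, inferInstance, IsLocalization.liftAlgHom hunit, fun b => ?_⟩
  obtain ⟨⟨s, t⟩, hst⟩ := IsLocalization.surj (Algebra.EssFiniteType.submonoid A B) b
  obtain ⟨p, rfl⟩ := hπ s
  obtain ⟨r, hr⟩ := hπ t
  have ht : IsUnit (ψ r) := by
    change IsUnit ((π r : S) : B)
    rw [hr]
    exact t.2
  refine ⟨IsLocalization.mk' _ p (⟨r, show r ∉ q from IsLocalRing.notMem_maximalIdeal.mpr ht⟩ : q.primeCompl), ?_⟩
  rw [IsLocalization.coe_liftAlgHom, IsLocalization.lift_mk'_spec]
  change ψ p = ψ r * b
  have : b * ((π r : S) : B) = ((π p : S) : B) := by rw [hr]; exact hst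
  exact this.symm.trans (mul_comm _ _)

end Groth.Agent.S4611
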