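import Groth.Statements.S4613
import Mathlib

set_option autoImplicit false
set_option linter.style.haveILetI false
set_option backward.isDefEq.respectTransparency false
universe u
open AlgebraicGeometry CategoryTheory
open EGA41

namespace Groth.Agent.S4613

/-- For a closed immersion j : X → Y: j is locally of finite presentation if and only if its ideal sheaf
is of finite type, i.e. for every affine open U of Y the kernel of Γ(U, O_Y) → Γ(j⁻¹U, O_X) is
finitely generated. (An immersion with image closed in an open U reduces to this case.) -/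
theorem result {X Y : Scheme.{u}} (j : X ⟶ Y)
    [IsClosedImmersion j] :
    LocallyOfFinitePresentation j ↔ ∀ U : Y.affineOpens, (RingHom.ker (j.app U).hom).FG := by
  have hsurj : ∀ U : Y.affineOpens, Function.Surjective (j.app U.1).hom := fun U =>
    j.app_surjective U.1 U.2
  constructor
  · intro h U
    have hW : IsAffineOpen (j ⁻¹ᵁ U.1) := U.2.preimage j
    letI : Algebra Γ(Y, U.1) Γ(X, j ⁻¹ᵁ U.1) := (j.appLE U.1 (j ⁻¹ᵁ U.1) le_rfl).hom.toAlgebra
    haveI : Algebra.FinitePresentation Γ(Y, U.1) Γ(X, j ⁻¹ᵁ U.1) := j.finitePresentation_appLE U.2 hW le_rfl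
    have := Algebra.FinitePresentation.ker_fG_of_surjective (Algebra.ofId Γ(Y, U.1) Γ(X, j ⁻¹ᵁ U.1))
      (by intro b; obtain ⟨a, ha⟩ := hsurj U b; exact ⟨a, by rw [← ha, Scheme.Hom.app_eq_appLE]; rfl⟩)
    rw [Scheme.Hom.app_eq_appLE]
    exact this
  · intro h
    rw [IsZariskiLocalAtTarget.iff_of_iSup_eq_top (P := @LocallyOfFinitePresentation) (fun U : Y.affineOpens => U.1) (iSup_affineOpens_eq_top Y)]
    intro U
    haveI : IsAffine U.1.toScheme := U.2
    haveI : IsAffine (j ⁻¹ᵁ U.1).toScheme := U.2.preimage j
    rw [HasRingHomProperty.iff_of_isAffine (P := @LocallyOfFinitePresentation), morphismRestrict_appTop,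
      CommRingCat.hom_comp, RingHom.finitePresentation_respectsIso.cancel_right_isIso]
    exact RingHom.FinitePresentation.of_surjective _ (j.app_surjective _ ((isAffineOpen_top _).image_of_isOpenImmersion _))
      (h ⟨_, (isAffineOpen_top _).image_of_isOpenImmersion _⟩)

end Groth.Agent.S4613
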