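import Groth.Statements.S4616
-- import your own Groth.Agent.* helpers here
import Groth.Agent.EGA41SymGr.Tower
import Groth.Agent.EGA41SymGr.Separate
import Groth.Agent.EGA41Adic.Field

set_option autoImplicit false
universe u
open TensorProduct KaehlerDifferential IsLocalRing
open EGA41

namespace Groth.Agent.S4616

/-- Let k be a field of characteristic p > 0, A a local k-algebra with maximal ideal m and residue field
K, (k_α) a decreasing directed family of subfields of k with ⋂ k_α(k^p) = k^p. Then A is formally
smooth over k for the m-adic topology if and only if the maps Sym^n_K(m/m²) → m^n/m^(n+1) are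
bijective (n ≥ 1) and, for all large α, Ω_{k/k_α} ⊗_k K → Ω_{A/k_α} ⊗_A K is injective. -/
theorem result {k A : Type u}
    [Field k] (p : ℕ) [Fact p.Prime] [CharP k p] [CommRing A] [IsLocalRing A] [Algebra k A]
    {ι : Type u} [Preorder ι] [IsDirected ι (fun a b => a ≤ b)] [Nonempty ι] (kα : ι → Subfield k)
    (hanti : Antitone kα) (hint : ⨅ α, (kα α ⊔ (frobenius k p).fieldRange) = (frobenius k p).fieldRange) :
    CAlgX.IsAdicFormallySmooth k A (maximalIdeal A) ↔
      (PP16.SymGrBijective A (maximalIdeal A) ∧ ∃ α₀ : ι, ∀ α : ι, α₀ ≤ α →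
        Function.Injective ((mapBaseChange (kα α) k A).lTensor (ResidueField A))) := by
  open Groth.Agent.EGA41SymGr in
  classical
  letI : Field (A ⧸ maximalIdeal A) := Ideal.Quotient.field (maximalIdeal A)
  haveI : Algebra.FormallySmooth (⊥ : Subfield k) k := Groth.Agent.FSField.formallySmooth_of_perfectField _ _
  haveI : Algebra.FormallySmooth (⊥ : Subfield k) (A ⧸ maximalIdeal A) :=
    Groth.Agent.FSField.formallySmooth_of_perfectField _ _
  refine ⟨fun h => ⟨symGrBijective_of_isAdicFormallySmooth (A := (⊥ : Subfield k)) _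
      (isAdicFormallySmooth_trans (Λ := (⊥ : Subfield k)) h), Classical.arbitrary ι, fun α _ =>
      injective_of_isAdicFormallySmooth (Λ := kα α) h⟩,
    fun ⟨hS, α₀, hinj⟩ => ?_⟩
  suffices hinjZ : Function.Injective ((mapBaseChange ℤ k A).lTensor (ResidueField A)) by
    have hext : Extends ℤ k (maximalIdeal A) := extends_of_injective hinjZ
    exact isAdicFormallySmooth_of_extends (Λ := (⊥ : Subfield k)) (isAdicFormallySmooth_of_projective_symGr _ hS)
      (hext.of_tower (Λ := (⊥ : Subfield k)))
  -- a basis of absolute differentials of the form `D y`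
  obtain ⟨b, hbsub, hbspan, hbli⟩ := _root_.exists_linearIndependent k (Set.range (KaehlerDifferential.D ℤ k))
  have hbtop : ⊤ ≤ Submodule.span k (Set.range (Subtype.val : b → Ω[k⁄ℤ])) := by
    rw [Subtype.range_coe, hbspan, KaehlerDifferential.span_range_derivation]
  let B0 := Module.Basis.mk hbli hbtop
  choose g hg using fun i : b => hbsub i.2
  rw [injective_iff_map_eq_zero]
  intro z hz
  let B2 := (B0.baseChange A).baseChange (ResidueField A)
  by_contra hne
  let s : Finset b := (B2.repr z).support
  let t : Finset k := s.image g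
  have hg_inj : Function.Injective g := fun i j h => Subtype.ext (by rw [← hg i, ← hg j, h])
  have ht : LinearIndependent k (fun i : t => KaehlerDifferential.D ℤ k (i : k)) := by
    have hpre : ∀ x : t, ∃ i : b, g i = x := fun x => by
      obtain ⟨i, _, hi⟩ := Finset.mem_image.mp x.2
      exact ⟨i, hi⟩
    choose e he using hpre
    have hfun : (fun i : t => KaehlerDifferential.D ℤ k (i : k)) = (Subtype.val : b → Ω[k⁄ℤ]) ∘ e := funext fun x => by
      rw [Function.comp_apply, ← hg, he]
    rw [hfun]
    exact hbli.comp e fun x y h => Subtype.ext (by rw [← he x, ← he y, h])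
  obtain ⟨α, hα, hind⟩ := Groth.Agent.EGA41SymGr.Separate.exists_linearIndependent p kα hanti hint t ht α₀
  -- the map to the relative differentials
  let q : Ω[k⁄ℤ] →ₗ[k] Ω[k⁄(kα α)] := KaehlerDifferential.map ℤ (kα α) k k
  have hsq : (KaehlerDifferential.mapBaseChange (kα α) k A) ∘ₗ q.baseChange A =
      (KaehlerDifferential.map ℤ (kα α) A A) ∘ₗ KaehlerDifferential.mapBaseChange ℤ k A := by
    refine (B0.baseChange A).ext fun i => ?_
    simp only [LinearMap.comp_apply, Module.Basis.baseChange_apply, LinearMap.baseChange_tmul,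
      KaehlerDifferential.mapBaseChange_tmul, one_smul]
    rw [Module.Basis.mk_apply, ← hg i]
    simp [q, KaehlerDifferential.map_D]
  have hzero : (q.baseChange A).lTensor (ResidueField A) z = 0 := by
    refine hinj α hα ?_
    rw [map_zero, ← LinearMap.lTensor_comp_apply, hsq, LinearMap.lTensor_comp_apply, hz, map_zero]
  obtain ⟨i, hi⟩ := (Finsupp.support_nonempty_iff.mpr fun h => hne (B2.repr.injective (h.trans (map_zero B2.repr).symm)))
  have hit : g i ∈ t := Finset.mem_image_of_mem g hi
  obtain ⟨r, hr⟩ := (Fintype.linearCombination k fun j : t => KaehlerDifferential.D (kα α) k (j : k)).exists_leftInverse_of_injective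
    (LinearMap.ker_eq_bot.mpr (linearIndependent_iff_injective_fintypeLinearCombination.mp hind))
  let φ : Ω[k⁄(kα α)] →ₗ[k] k := LinearMap.proj ⟨g i, hit⟩ ∘ₗ r
  have hφ : ∀ j ∈ s, φ (q (B0 j)) = if j = i then 1 else 0 := fun j hj => by
    have hjt : g j ∈ t := Finset.mem_image_of_mem g hj
    have h1 := LinearMap.congr_fun hr (Pi.single ⟨g j, hjt⟩ 1)
    rw [LinearMap.comp_apply, Fintype.linearCombination_apply_single, one_smul, LinearMap.id_apply] at h1
    show r (q (B0 j)) ⟨g i, hit⟩ = _
    rw [Module.Basis.mk_apply, ← hg j, show q (KaehlerDifferential.D ℤ k (g j)) = KaehlerDifferential.D (kα α) k (g j) by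
      simp [q, KaehlerDifferential.map_D], h1, Pi.single_apply]
    by_cases hji : j = i
    · subst hji; simp
    · rw [if_neg hji, if_neg fun e => hji (hg_inj (congrArg Subtype.val e).symm)]
  let Φ := (φ.baseChange A).lTensor (ResidueField A)
  have h2 : ((φ ∘ₗ q).baseChange A).baseChange (ResidueField A) z = 0 := by
    rw [LinearMap.baseChange_comp, LinearMap.baseChange_comp, LinearMap.comp_apply,
      show (q.baseChange A).baseChange (ResidueField A) z = 0 from hzero, map_zero]
  rw [← B2.linearCombination_repr z, Finsupp.linearCombination_apply, Finsupp.sum, map_sum] at h2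
  have h3 : ∑ j ∈ s, B2.repr z j • (if j = i then ((1 : ResidueField A) ⊗ₜ[A] ((1 : A) ⊗ₜ[k] (1 : k))) else 0) = 0 := by
    refine Eq.trans (Finset.sum_congr rfl fun j hj => ?_) h2
    rw [map_smul]
    congr 1
    simp only [B2, Module.Basis.baseChange_apply, LinearMap.baseChange_tmul, LinearMap.comp_apply, hφ j hj]
    split_ifs <;> simp
  simp only [smul_ite, smul_zero, Finset.sum_ite_eq', if_pos (show i ∈ s from hi)] at h3
  have h4 := congrArg ((TensorProduct.AlgebraTensorModule.rid A (ResidueField A) (ResidueField A)).toLinearMap ∘ₗ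
    ((TensorProduct.AlgebraTensorModule.rid k A A).toLinearMap.baseChange (ResidueField A))) h3
  simp at h4
  exact Finsupp.mem_support_iff.mp hi h4

end Groth.Agent.S4616
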