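import Groth.Statements.S4622
import Mathlib
import Groth.Agent.GeomConn.Normal

set_option autoImplicit false
open CategoryTheory AlgebraicGeometry
universe u
open FBase

namespace Groth.Agent.S4622

/-- Let k be a separably closed field, k' an algebraic closure of k and X a scheme over k. Then the
projection X ⊗_k k' → X is a universal homeomorphism. -/
theorem result {k k' : Type u} [Field k] [IsSepClosed k] [Field k'] [Algebra k k']
    [IsAlgClosure k k'] {X : Scheme.{u}} (f : X ⟶ Spec (CommRingCat.of k)) :
    FlatMor.IsUnivHomeo (FBase.bcπ f k') := by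
  set_option backward.isDefEq.respectTransparency false in
  intro X' Y' i₁ i₂ f' h
  haveI : Algebra.IsAlgebraic k k' := IsAlgClosure.isAlgebraic
  let g := Spec.map (CommRingCat.ofHom (algebraMap k k'))
  haveI : IsIntegralHom g := IsIntegralHom.SpecMap_iff.2 Algebra.IsIntegral.isIntegral
  haveI : Surjective g := ⟨fun t => ⟨IsLocalRing.closedPoint k', @Subsingleton.elim (PrimeSpectrum k) inferInstance _ _⟩⟩
  haveI : UniversallyInjective g := by
    refine ((tfae_universallyInjective g).out 0 1).2 fun (L : Type u) [Field L] g₁ g₂ hg => ?_
    obtain ⟨a, rfl⟩ := Spec.map_surjective g₁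
    obtain ⟨b, rfl⟩ := Spec.map_surjective g₂
    have hg' : Spec.map a ≫ g = Spec.map b ≫ g := hg
    rw [← Spec.map_comp, ← Spec.map_comp] at hg'
    have h1 := congrArg CommRingCat.Hom.hom (Spec.map_injective hg')
    exact congrArg Spec.map (CommRingCat.hom_ext (IsPurelyInseparable.injective_comp_algebraMap k k' L h1))
  haveI : IsIntegralHom (FBase.bcπ f k') := MorphismProperty.pullback_fst f g inferInstance
  haveI : Surjective (FBase.bcπ f k') := MorphismProperty.pullback_fst f g inferInstance
  haveI : UniversallyInjective (FBase.bcπ f k') := MorphismProperty.pullback_fst f g inferInstance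
  haveI : IsIntegralHom f' := MorphismProperty.of_isPullback h.flip inferInstance
  haveI : Surjective f' := MorphismProperty.of_isPullback h.flip inferInstance
  haveI : UniversallyInjective f' := MorphismProperty.of_isPullback h.flip inferInstance
  exact Groth.Agent.GeomConn.isHomeomorph_of_integral f'

end Groth.Agent.S4622
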