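import Groth.Statements.S4623
import Mathlib

set_option autoImplicit false
open CategoryTheory AlgebraicGeometry
universe u
open FBase

namespace Groth.Agent.S4623

/-- Let h : X → Y be a surjective morphism of schemes over a field k. If X is geometrically irreducible
over k, then Y is geometrically irreducible over k. -/
theorem result {k : Type u} [Field k] {X Y : Scheme.{u}}
    (f : X ⟶ Spec (CommRingCat.of k)) (g : Y ⟶ Spec (CommRingCat.of k)) (h : X ⟶ Y) (w : h ≫ g = f)
    [Surjective h] [GeometricallyIrreducible f] : GeometricallyIrreducible g := by
  refine ⟨geometrically_iff_of_isClosedUnderIsomorphisms.mpr fun K _ x => ?_⟩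
  haveI : IrreducibleSpace ↥(Limits.pullback f x) :=
    GeometricallyIrreducible.geometrically_irreducibleSpace (f := f) x _ _ (.of_hasPullback _ _)
  subst w
  let m := (Limits.pullbackRightPullbackFstIso g x h).inv ≫ Limits.pullback.snd h (Limits.pullback.fst g x)
  haveI : Surjective m := inferInstance
  have huniv : (Set.univ : Set ↥(Limits.pullback g x)) = m '' Set.univ := by
    rw [Set.image_univ, Set.range_eq_univ.2 m.surjective]
  rw [irreducibleSpace_def]
  change IsIrreducible (Set.univ : Set ↥(Limits.pullback g x))
  rw [huniv]
  exact (IrreducibleSpace.isIrreducible_univ _).image _ m.continuous.continuousOn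

end Groth.Agent.S4623
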