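import Groth.Statements.S4627
import Mathlib
import Groth.Agent.GeomConn.Basic
import Groth.Agent.FlatMor.ReducedDescent

set_option autoImplicit false
open CategoryTheory AlgebraicGeometry
universe u
open FBase

namespace Groth.Agent.S4627

/-- Let X be a scheme over a field k and K an extension field of k. Then X is geometrically integral
over k if and only if X ⊗_k K, with its structure of K-scheme, is geometrically integral over K. -/
theorem result {k K : Type u} [Field k] [Field K] [Algebra k K]
    {X : Scheme.{u}} (f : X ⟶ Spec (CommRingCat.of k)) :
    GeometricallyIntegral f ↔ GeometricallyIntegral (FBase.bcStr f K) := by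
  set_option backward.isDefEq.respectTransparency false in
  haveI : Surjective (Spec.map (CommRingCat.ofHom (algebraMap k K))) :=
    ⟨fun t => ⟨IsLocalRing.closedPoint K, @Subsingleton.elim (PrimeSpectrum k) inferInstance _ _⟩⟩
  refine ⟨fun h => ?_, fun h => ?_⟩
  · haveI := h
    exact (inferInstance : GeometricallyIntegral (CategoryTheory.Limits.pullback.snd f _))
  · haveI := h
    haveI : GeometricallyReduced f := Groth.Agent.FlatMor.geometricallyReduced_of_baseChange (algebraMap k K)
      (IsPullback.of_hasPullback f (Spec.map (CommRingCat.ofHom (algebraMap k K))))
      (hf' := (inferInstance : GeometricallyReduced (FBase.bcStr f K)))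
    haveI : GeometricallyIrreducible f := ⟨Groth.Agent.GeomConn.geometrically_descends (IrreducibleSpace ·)
      (fun A B q _ hA => Groth.Agent.GeomConn.irreducibleSpace_of_surjective A B q hA) f
      (Spec.map (CommRingCat.ofHom (algebraMap k K)))
      (GeometricallyIrreducible.geometrically_irreducibleSpace (f := FBase.bcStr f K))⟩
    exact GeometricallyIntegral.of_geometricallyReduced_of_geometricallyIrreducible f

end Groth.Agent.S4627
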