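import Groth.Statements.S4632
import Groth.Agent.FlatModB.QuasiFlat

set_option autoImplicit false
set_option backward.isDefEq.respectTransparency false
open CategoryTheory AlgebraicGeometry
universe u
open FDesc

namespace Groth.Agent.S4632

open CategoryTheory.Limits in
/-- Let f : X → Y be a quasi-compact dominant morphism and g : Y' → Y a quasi-flat morphism (for
instance a flat one). Then the base change X ×_Y Y' → Y' is dominant. -/
theorem result {X Y Y' : Scheme.{u}} (f : X ⟶ Y) (g : Y' ⟶ Y)
    [QuasiCompact f] [IsDominant f] (hg : FDesc.IsQuasiFlat g) : IsDominant (pullback.snd f g) := by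
  refine ⟨fun y' => ?_⟩
  obtain ⟨x, hx⟩ := Groth.Agent.FpqcDescent.exists_specializes_of_mem_closure f
    (f.denseRange (g y'))
  obtain ⟨η, hη, e⟩ := Groth.Agent.FlatModB.generalizingMap g hg hx
  refine hη.mem_closed isClosed_closure (subset_closure ?_)
  obtain ⟨z, -, hz⟩ := Scheme.Pullback.exists_preimage_pullback x η e.symm
  exact ⟨z, hz⟩

end Groth.Agent.S4632
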