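import Groth.Statements.S4633
import Groth.Agent.FlatModB.QuasiFlat
import Groth.Agent.SupportLib.Pull
import Groth.Agent.FlatModBC.Basic
import Groth.Agent.QC.Pullback
-- import your own Groth.Agent.* helpers here

set_option autoImplicit false
set_option backward.isDefEq.respectTransparency false
set_option linter.style.haveILetI false
open CategoryTheory AlgebraicGeometry
universe u
open FDesc

namespace Groth.Agent.S4633

open CategoryTheory.Limits in
theorem isQuasiFlat_fst {X Y Y' : Scheme.{u}} (f : X ⟶ Y) (g : Y' ⟶ Y) (hg : FDesc.IsQuasiFlat g) :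
    FDesc.IsQuasiFlat (pullback.fst f g) := by
  obtain ⟨M, hM, hfl, hne⟩ := hg
  refine ⟨(Scheme.Modules.pullback (pullback.snd f g)).obj M, Groth.Agent.QC.isCoh_pullback _ hM, fun x' => ?_, fun x' => ?_⟩
  · exact Groth.Agent.FlatModBC.isFlatOverAt_baseChange (IsPullback.of_hasPullback f g).flip M x' (hfl _)
  · haveI := hM.1
    have h : x' ∈ CohB1.support ((Scheme.Modules.pullback (pullback.snd f g)).obj M) := by
      rw [Groth.Agent.SupportLib.support_pullback _ _ hM.2]
      exact fun hs => not_nontrivial_iff_subsingleton.2 hs (hne _)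
    exact not_subsingleton_iff_nontrivial.1 h

theorem flat_to_field {W : Scheme.{u}} {K : Type u} [Field K] (f : W ⟶ Spec (CommRingCat.of K)) : Flat f := by
  refine Flat.of_stalkMap f fun w => ?_
  haveI : Subsingleton (Spec (CommRingCat.of K)) := inferInstanceAs (Subsingleton (PrimeSpectrum K))
  have key : ∀ (z : Spec (CommRingCat.of K)), z = genericPoint _ → ∀ (L : Type u) [CommRing L]
      (ψ : (Spec (CommRingCat.of K)).presheaf.stalk z →+* L), ψ.Flat := by
    rintro z rfl L _ ψ
    let Fd := (Spec (CommRingCat.of K)).functionField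
    letI : Algebra Fd L := RingHom.toAlgebra ψ
    exact (inferInstance : Module.Flat Fd L)
  exact key _ (Subsingleton.elim _ _) _ _

open CategoryTheory.Limits in
/-- Let f : X → Y be a morphism such that every irreducible component of X dominates an irreducible
component of Y (the closure of its image under f is an irreducible component of Y), and let g : Y' →
Y be quasi-flat (for instance flat). Then every irreducible component of X ×_Y Y' dominates an
irreducible component of Y'. -/
theorem result {X Y Y' : Scheme.{u}} (f : X ⟶ Y) (g : Y' ⟶ Y)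
    (hf : ∀ Z ∈ irreducibleComponents ↥X, closure (⇑f '' Z) ∈ irreducibleComponents ↥Y)
    (hg : FDesc.IsQuasiFlat g) (Z' : Set ↥(pullback f g)) (hZ' : Z' ∈ irreducibleComponents ↥(pullback f g)) :
    closure (⇑(pullback.snd f g) '' Z') ∈ irreducibleComponents ↥Y' := by
  have hc := IsPullback.of_hasPullback f g
  set p := pullback.fst f g
  set q := pullback.snd f g
  have hgen : GeneralizingMap p.base := Groth.Agent.FlatModB.generalizingMap p (isQuasiFlat_fst f g hg)
  have hZ'c := isClosed_of_mem_irreducibleComponents _ hZ'
  have hξ := hZ'.1.isGenericPoint_genericPoint hZ'c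
  set ξ := hZ'.1.genericPoint
  have hmax : ∀ η : ↥(pullback f g), η ⤳ ξ → η = ξ := fun η hη => by
    refine hη.antisymm ?_ |>.eq
    refine hξ.specializes (hZ'.2 isIrreducible_singleton.closure ?_ (subset_closure rfl))
    show Z' ⊆ closure {η}
    rw [← hξ.def]
    exact isClosed_closure.closure_subset_iff.2 (Set.singleton_subset_iff.2 hη.mem_closure)
  -- the projection to X is maximal
  have hxmax : ∀ x1 : X, x1 ⤳ p ξ → x1 = p ξ := fun x1 h1 => by
    obtain ⟨η, hη, e⟩ := hgen h1
    rw [← e, hmax η hη]
  have hcomp : closure ({p ξ} : Set X) ∈ irreducibleComponents ↥X := by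
    refine ⟨isIrreducible_singleton.closure, fun E hE hsub => ?_⟩
    have hE' := hE.isGenericPoint_genericPoint_closure
    have e := hxmax _ (hE'.specializes (subset_closure (hsub (subset_closure rfl))))
    intro z hz
    have := hE'.specializes (subset_closure hz)
    rw [e] at this
    exact this.mem_closure
  have hy := hf _ hcomp
  rw [closure_image_closure f.continuous, Set.image_singleton] at hy
  have hymax : ∀ y1 : Y, y1 ⤳ f (p ξ) → y1 = f (p ξ) := fun y1 h1 => by
    refine h1.antisymm ?_ |>.eq
    exact specializes_iff_mem_closure.2 (hy.2 isIrreducible_singleton.closure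
      (isClosed_closure.closure_subset_iff.2 (Set.singleton_subset_iff.2 h1.mem_closure)) (subset_closure rfl))
  -- now the fibre
  have hq : ∀ y1 : Y', y1 ⤳ q ξ → y1 = q ξ := fun y1 h1 => by
    have hw : f (p ξ) = g (q ξ) := by rw [← Scheme.Hom.comp_apply, hc.w, Scheme.Hom.comp_apply]
    have hy1 : g y1 = f (p ξ) := hymax _ (by rw [hw]; exact h1.map g.continuous)
    set y := f (p ξ) with hydef
    let ι := Y.fromSpecResidueField y
    haveI : Flat (pullback.snd f ι) := flat_to_field _
    haveI : Flat (pullback.snd g ι) := flat_to_field _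
    let P := pullback (pullback.snd f ι) (pullback.snd g ι)
    let r : P ⟶ pullback g ι := pullback.snd _ _
    let m : P ⟶ pullback f g := pullback.lift (pullback.fst _ _ ≫ pullback.fst f ι) (r ≫ pullback.fst g ι) (by
      rw [Category.assoc, pullback.condition, Category.assoc, pullback.condition, pullback.condition_assoc])
    have sq : IsPullback m r q (pullback.fst g ι) := by
      refine IsPullback.of_right ?_ (pullback.lift_snd _ _ _) hc
      rw [pullback.lift_fst]
      have h3 : IsPullback (pullback.fst (pullback.snd f ι) (pullback.snd g ι) ≫ pullback.fst f ι) r f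
          (pullback.snd g ι ≫ ι) := (IsPullback.of_hasPullback _ _).paste_horiz (IsPullback.of_hasPullback f ι)
      rwa [← pullback.condition] at h3
    obtain ⟨b, hb⟩ : q ξ ∈ Set.range (pullback.fst g ι) := by
      rw [Scheme.Pullback.range_fst]
      show g (q ξ) ∈ Set.range ι
      rw [Y.range_fromSpecResidueField, Set.mem_singleton_iff, ← hw]
    obtain ⟨b1, hb1⟩ : y1 ∈ Set.range (pullback.fst g ι) := by
      rw [Scheme.Pullback.range_fst]
      show g y1 ∈ Set.range ι
      rw [Y.range_fromSpecResidueField, Set.mem_singleton_iff, hy1]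
    have hemb : Topology.IsEmbedding (pullback.fst g ι) := (g.fiberι y).isEmbedding
    have hbb : b1 ⤳ b := hemb.isInducing.specializes_iff.1 (by rw [hb, hb1]; exact h1)
    obtain ⟨π0, hπ0, hπ1⟩ := Scheme.exists_preimage_of_isPullback sq ξ b hb.symm
    obtain ⟨η, hη, e⟩ := Flat.generalizingMap r (show b1 ⤳ r π0 by rw [hπ1]; exact hbb)
    have := hmax (m η) (by rw [← hπ0]; exact hη.map m.continuous)
    rw [← hb1, ← e, ← Scheme.Hom.comp_apply, ← sq.w, Scheme.Hom.comp_apply, this]
  rw [show Z' = closure {ξ} from hξ.def.symm, closure_image_closure q.continuous, Set.image_singleton]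
  refine ⟨isIrreducible_singleton.closure, fun E hE hsub => ?_⟩
  have hE' := hE.isGenericPoint_genericPoint_closure
  have e := hq _ (hE'.specializes (subset_closure (hsub (subset_closure rfl))))
  intro z hz
  have := hE'.specializes (subset_closure hz)
  rw [e] at this
  exact this.mem_closure

end Groth.Agent.S4633
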