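import Groth.Statements.S4635
import Groth.Agent.TensorNoEmb.Alg
import Groth.Agent.AssLib.Points

set_option autoImplicit false
set_option linter.style.haveILetI false
set_option backward.isDefEq.respectTransparency false
set_option backward.isDefEq.respectTransparency.types false
universe u
open CategoryTheory AlgebraicGeometry TopologicalSpace
open AssSch

namespace Groth.Agent.S4635

open CategoryTheory.Limits TensorProduct

/-- associated points of `Spec (A ⊗ B)` are maximal points -/
theorem eq_of_specializes_spec {k A B : Type u} [Field k] [CommRing A] [IsDomain A] [CommRing B] [IsDomain B]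
    [Algebra k A] [Algebra k B] {T : Scheme.{u}} (h : Spec (CommRingCat.of (A ⊗[k] B)) ⟶ T) [IsOpenImmersion h]
    (p q : Spec (CommRingCat.of (A ⊗[k] B))) (hp : Curv2.IsAssPoint (Coh.structureModule T) (h.base p))
    (hqp : q ⤳ p) : q = p := by
  rw [AssLib.ass_struct_iff] at hp
  obtain ⟨-, t, ht⟩ := hp
  let R := CommRingCat.of (A ⊗[k] B)
  let e : T.presheaf.stalk (h.base p) ≃+* (Spec R).presheaf.stalk p :=
    (asIso (h.stalkMap p)).commRingCatIsoToRingEquiv
  letI : Algebra R ((Spec R).presheaf.stalk p) :=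
    (inferInstance : Algebra R ((Spec.structureSheaf R).presheaf.stalk p))
  haveI hloc : IsLocalization.AtPrime ((Spec R).presheaf.stalk p) p.asIdeal :=
    StructureSheaf.IsLocalization.to_stalk R p
  obtain ⟨⟨r, c⟩, hrc⟩ := IsLocalization.surj p.asIdeal.primeCompl (e t)
  refine PrimeSpectrum.ext (TensorNoEmb.eq_of_le ((PrimeSpectrum.le_iff_specializes q p).2 hqp) r ?_ ?_)
  · intro s hs h0
    have h1 : e t = 0 := by
      have hu := IsLocalization.map_units ((Spec R).presheaf.stalk p) (⟨s, hs⟩ : p.asIdeal.primeCompl)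
      have hu' := IsLocalization.map_units ((Spec R).presheaf.stalk p) c
      refine hu'.mul_left_eq_zero.1 ?_
      rw [hrc]
      refine hu.mul_right_eq_zero.1 ?_
      rw [← map_mul, h0, map_zero]
    have h2 : t = 0 := e.injective (h1.trans (map_zero e).symm)
    have h3 := ht
    rw [h2] at h3
    refine (IsLocalRing.maximalIdeal.isMaximal (T.presheaf.stalk (h.base p))).ne_top ?_
    rw [h3, Ideal.radical_eq_top, eq_top_iff]
    intro a _
    simp [Submodule.mem_colon_singleton]
  · intro a ha
    have hm : e.symm (algebraMap R ((Spec R).presheaf.stalk p) a) ∈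
        IsLocalRing.maximalIdeal (T.presheaf.stalk (h.base p)) := by
      rw [IsLocalRing.mem_maximalIdeal]
      intro hu
      have := hu.map e
      rw [RingEquiv.apply_symm_apply] at this
      exact (IsLocalization.AtPrime.isUnit_to_map_iff _ p.asIdeal a).1 this ha
    rw [ht] at hm
    obtain ⟨n, hn⟩ := hm
    rw [Submodule.mem_colon_singleton, Submodule.mem_bot, smul_eq_mul] at hn
    have h1 : algebraMap R ((Spec R).presheaf.stalk p) a ^ n * e t = 0 := by
      have := congrArg e hn
      rwa [map_mul, map_pow, RingEquiv.apply_symm_apply, map_zero] at this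
    obtain ⟨s, hs⟩ := (IsLocalization.map_eq_zero_iff p.asIdeal.primeCompl ((Spec R).presheaf.stalk p) (a ^ n * r)).1 (by
      rw [map_mul, map_pow, ← hrc, ← mul_assoc, h1, zero_mul])
    exact ⟨n, s.1, s.2, by rw [mul_assoc]; exact hs⟩

/-- Let X and Y be integral locally Noetherian schemes over a field k such that X ×_k Y is locally
Noetherian. Then the structure sheaf of X ×_k Y has no embedded associated points. -/
theorem result {k : Type u} [Field k] {X Y : Scheme.{u}}
    (f : X ⟶ Spec (CommRingCat.of k)) (g : Y ⟶ Spec (CommRingCat.of k)) [IsIntegral X] [IsIntegral Y]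
    [IsLocallyNoetherian X] [IsLocallyNoetherian Y] [IsLocallyNoetherian (pullback f g)] :
    AssSch.NoEmbedded (Coh.structureModule (pullback f g)) := by
  intro z hz w _ hwz
  obtain ⟨U, hU, hxU, -⟩ := exists_isAffineOpen_mem_and_subset (X := X) (U := ⊤)
    (trivial : (pullback.fst f g) z ∈ (⊤ : X.Opens))
  obtain ⟨V, hV, hyV, -⟩ := exists_isAffineOpen_mem_and_subset (X := Y) (U := ⊤)
    (trivial : (pullback.snd f g) z ∈ (⊤ : Y.Opens))
  haveI : Nonempty U := ⟨⟨_, hxU⟩⟩
  haveI : Nonempty V := ⟨⟨_, hyV⟩⟩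
  let a : CommRingCat.of k ⟶ Γ(X, U) := Spec.preimage (hU.fromSpec ≫ f)
  let b : CommRingCat.of k ⟶ Γ(Y, V) := Spec.preimage (hV.fromSpec ≫ g)
  letI : Algebra k Γ(X, U) := a.hom.toAlgebra
  letI : Algebra k Γ(Y, V) := b.hom.toAlgebra
  have ha : Spec.map (CommRingCat.ofHom (algebraMap k Γ(X, U))) = hU.fromSpec ≫ f := Spec.map_preimage _
  have hb : Spec.map (CommRingCat.ofHom (algebraMap k Γ(Y, V))) = hV.fromSpec ≫ g := Spec.map_preimage _
  let m : pullback (Spec.map (CommRingCat.ofHom (algebraMap k Γ(X, U))))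
      (Spec.map (CommRingCat.ofHom (algebraMap k Γ(Y, V)))) ⟶ pullback f g :=
    pullback.map _ _ _ _ hU.fromSpec hV.fromSpec (𝟙 _)
      (by rw [Category.comp_id]; exact ha) (by rw [Category.comp_id]; exact hb)
  let h : Spec (CommRingCat.of (Γ(X, U) ⊗[k] Γ(Y, V))) ⟶ pullback f g :=
    (pullbackSpecIso k Γ(X, U) Γ(Y, V)).inv ≫ m
  have hrange : z ∈ h.opensRange := by
    show z ∈ Set.range h.base
    rw [Scheme.Hom.comp_base, TopCat.coe_comp, Set.range_comp,
      Set.range_eq_univ.2 (pullbackSpecIso k Γ(X, U) Γ(Y, V)).inv.surjective, Set.image_univ]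
    erw [Scheme.Pullback.range_map]
    refine ⟨?_, ?_⟩
    · show (pullback.fst f g) z ∈ Set.range hU.fromSpec.base
      rw [hU.range_fromSpec]; exact hxU
    · show (pullback.snd f g) z ∈ Set.range hV.fromSpec.base
      rw [hV.range_fromSpec]; exact hyV
  obtain ⟨p, rfl⟩ := hrange
  obtain ⟨q, rfl⟩ : w ∈ Set.range h.base := hwz.mem_open h.opensRange.2 ⟨p, rfl⟩
  rw [eq_of_specializes_spec h p q hz (h.isOpenEmbedding.isInducing.specializes_iff.1 hwz)]

end Groth.Agent.S4635
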