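import Groth.Statements.S4640
import Mathlib

set_option autoImplicit false
universe u
open FDesc

namespace Groth.Agent.S4640

open TensorProduct in
/-- Let A be a Dedekind domain with fraction field K, M an A-module and P' a K-submodule of K ⊗_A M. Let
φ : M → (K ⊗_A M)/P' be m ↦ class of 1 ⊗ m. Then a submodule Q of M equals ker φ if and only if M/Q
is a flat A-module and the kernel of the induced surjection K ⊗_A M → K ⊗_A (M/Q) is P'. Thus M/ker
φ is the unique flat quotient of M with generic fibre (K ⊗_A M)/P'. (The published statement takes A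
Noetherian, regular and of dimension 1; a field is allowed here, where the statement is immediate.) -/
theorem result {A K : Type u} [CommRing A] [IsDedekindDomain A] [Field K]
    [Algebra A K] [IsFractionRing A K] {M : Type u} [AddCommGroup M] [Module A M]
    (P' : Submodule K (K ⊗[A] M)) (Q : Submodule A M) :
    Q = LinearMap.ker ((P'.restrictScalars A).mkQ ∘ₗ TensorProduct.mk A K M 1) ↔
      (Module.Flat A (M ⧸ Q) ∧ LinearMap.ker (Q.mkQ.baseChange K) = P') := by
  classical
  have hmk : ∀ z : K ⊗[A] M, ∃ (s : nonZeroDivisors A) (m : M), (algebraMap A K (s : A)) • z = (1 : K) ⊗ₜ m := by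
    intro z
    obtain ⟨⟨m, s⟩, hs⟩ := IsLocalizedModule.surj (nonZeroDivisors A) (TensorProduct.mk A K M 1) z
    exact ⟨s, m, by rw [algebraMap_smul]; exact hs⟩
  constructor
  · intro hQ
    have hmem : ∀ m, m ∈ Q ↔ (1 : K) ⊗ₜ[A] m ∈ P' := fun m => by
      rw [hQ, LinearMap.mem_ker, LinearMap.comp_apply, Submodule.mkQ_apply, Submodule.Quotient.mk_eq_zero]
      rfl
    refine ⟨?_, ?_⟩
    · haveI : Module.IsTorsionFree A (M ⧸ Q) := by
        let f : M →ₗ[A] (K ⊗[A] M) ⧸ P'.restrictScalars A :=
          (P'.restrictScalars A).mkQ ∘ₗ TensorProduct.mk A K M 1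
        refine ⟨fun r hr x y hxy => ?_⟩
        obtain ⟨m, rfl⟩ := Q.mkQ_surjective x
        obtain ⟨n, rfl⟩ := Q.mkQ_surjective y
        change (Submodule.Quotient.mk (r • m) : M ⧸ Q) = Submodule.Quotient.mk (r • n) at hxy
        rw [Submodule.Quotient.eq, ← smul_sub, hmem] at hxy
        refine (Submodule.Quotient.eq Q).2 ((hmem _).2 ?_)
        rw [TensorProduct.tmul_smul, ← algebraMap_smul K r] at hxy
        exact (P'.smul_mem_iff ((map_ne_zero_iff _ (IsFractionRing.injective A K)).2 hr.ne_zero)).1 hxy
      exact inferInstance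
    · have hex : Function.Exact (Q.subtype.baseChange K) (Q.mkQ.baseChange K) :=
        lTensor_exact K (LinearMap.exact_subtype_mkQ Q) Q.mkQ_surjective
      refine le_antisymm (fun z hz => ?_) (fun z hz => ?_)
      · obtain ⟨w, rfl⟩ := (hex z).1 hz
        induction w using TensorProduct.induction_on with
        | zero => rw [map_zero]; exact zero_mem _
        | add a b ha hb =>
          rw [map_add]
          exact add_mem (ha (hex.apply_apply_eq_zero a)) (hb (hex.apply_apply_eq_zero b))
        | tmul c q =>
          rw [LinearMap.baseChange_tmul, show c ⊗ₜ[A] Q.subtype q = c • ((1 : K) ⊗ₜ[A] Q.subtype q) by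
            rw [TensorProduct.smul_tmul', smul_eq_mul, mul_one]]
          exact P'.smul_mem c ((hmem _).1 q.2)
      · obtain ⟨s, m, hm⟩ := hmk z
        have hs : (algebraMap A K (s : A)) ≠ 0 :=
          (map_ne_zero_iff _ (IsFractionRing.injective A K)).2 (nonZeroDivisors.ne_zero s.2)
        have hmQ : m ∈ Q := (hmem m).2 (hm ▸ P'.smul_mem _ hz)
        refine ((LinearMap.ker (Q.mkQ.baseChange K)).smul_mem_iff hs).1 ?_
        rw [hm, LinearMap.mem_ker, LinearMap.baseChange_tmul, Submodule.mkQ_apply,
          (Submodule.Quotient.mk_eq_zero Q).2 hmQ, TensorProduct.tmul_zero]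
  · rintro ⟨hflat, hker⟩
    have hinj : Function.Injective (TensorProduct.mk A K (M ⧸ Q) 1) := by
      have h1 := Module.Flat.rTensor_preserves_injective_linearMap (M := M ⧸ Q) (Algebra.linearMap A K)
        (IsFractionRing.injective A K)
      intro x y hxy
      have := @h1 ((TensorProduct.lid A (M ⧸ Q)).symm x) ((TensorProduct.lid A (M ⧸ Q)).symm y) (by
        simpa using hxy)
      exact (TensorProduct.lid A (M ⧸ Q)).symm.injective this
    ext m
    rw [LinearMap.mem_ker, LinearMap.comp_apply, Submodule.mkQ_apply, Submodule.Quotient.mk_eq_zero,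
      Submodule.restrictScalars_mem, ← hker, LinearMap.mem_ker, TensorProduct.mk_apply, LinearMap.baseChange_tmul]
    rw [← Submodule.Quotient.mk_eq_zero Q (x := m)]
    exact ⟨fun h => by rw [Submodule.mkQ_apply, h, TensorProduct.tmul_zero],
      fun h => hinj (by rw [map_zero]; exact h)⟩

end Groth.Agent.S4640
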