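import Groth.Statements.S4644
import Groth.Agent.FlatDim.DimAdd

set_option autoImplicit false
set_option linter.style.haveILetI false
set_option backward.isDefEq.respectTransparency false
open Groth.Agent
open CategoryTheory AlgebraicGeometry
universe u
open FBase

namespace Groth.Agent.S4644

/-- Let Y be a nonempty scheme locally of finite type over a field k whose irreducible components all
have the same dimension, and let Z be a locally closed subset of Y (the underlying set of a
subscheme). Then Z is nowhere dense in Y if and only if dim Z < dim Y. (For Y empty the left side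
holds and the right side fails, so Y is taken nonempty; dimensions are Krull dimensions of the
underlying spaces.) -/
theorem result {k : Type u} [Field k] {Y : Scheme.{u}} [Nonempty ↥Y]
    (g : Y ⟶ Spec (CommRingCat.of k)) [LocallyOfFiniteType g]
    (heq : ∀ T ∈ irreducibleComponents ↥Y, topologicalKrullDim ↥T = topologicalKrullDim ↥Y)
    (Z : Set ↥Y) (hZ : IsLocallyClosed Z) :
    IsNowhereDense Z ↔ topologicalKrullDim ↥Z < topologicalKrullDim ↥Y := by
  obtain ⟨y₀⟩ := (inferInstance : Nonempty ↥Y)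
  obtain ⟨ξ₀, hξ₀, -⟩ := Unibranch.exists_isMaxPt_specializes y₀
  set D := WeilCoh.pdim Y ξ₀ with hD
  have hY : topologicalKrullDim ↥Y = (D : WithBot ℕ∞) := by
    rw [← heq _ hξ₀.mem_irreducibleComponents, (FlatDim.pdim_spec g ξ₀).2.2]
  have hmaxD : ∀ ξ : Y, Unibranch.IsMaxPt ξ → WeilCoh.pdim Y ξ = D :=
    (FlatDim.forall_components_iff g D).1 fun T hT => (heq T hT).trans hY
  have hnbhd : ∀ ξ : Y, Unibranch.IsMaxPt ξ → ∃ U : Y.Opens, ξ ∈ U ∧ ∀ w ∈ U, ξ ⤳ w := fun ξ hξ => by
    obtain ⟨U, hU, hUc⟩ := ValFibre.exists_open_fibre g ξ fun y hy _ => hξ y hy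
    exact ⟨U, hU, fun w hw => hUc w hw (Subsingleton.elim _ _)⟩
  rw [hY, ← not_le, FlatDim.natCast_le_dim_iff g hZ]
  constructor
  · rintro hnd ⟨z, hz, hzD⟩
    obtain ⟨ξ, hξ, hξz⟩ := Unibranch.exists_isMaxPt_specializes z
    obtain rfl : z = ξ := by
      by_contra hne
      have := FlatDim.pdim_strict g hξz hne
      rw [hmaxD ξ hξ] at this
      omega
    obtain ⟨U, hzU, hU⟩ := hnbhd z hξ
    have h1 : z ∈ interior (closure Z) := mem_interior.2 ⟨(U : Set Y),
      fun w hw => closure_mono (Set.singleton_subset_iff.2 hz) (hU w hw).mem_closure, U.2, hzU⟩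
    rw [show interior (closure Z) = ∅ from hnd] at h1
    exact h1.elim
  · intro hno
    refine Set.eq_empty_iff_forall_notMem.2 fun y hy => hno ?_
    obtain ⟨ξ, hξ, hξy⟩ := Unibranch.exists_isMaxPt_specializes y
    have hξi : ξ ∈ interior (closure Z) := hξy.mem_open isOpen_interior hy
    obtain ⟨U, hξU, hU⟩ := hnbhd ξ hξ
    obtain ⟨z, hzU, hz⟩ := mem_closure_iff.1 (interior_subset hξi) _ U.2 hξU
    obtain ⟨O, F, hO, hF, rfl⟩ := hZ
    exact ⟨ξ, ⟨(hU z hzU).mem_open hO hz.1,
      closure_minimal Set.inter_subset_right hF (interior_subset hξi)⟩, (hmaxD ξ hξ).ge⟩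

end Groth.Agent.S4644
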