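import Groth.Statements.S4645
import Groth.Agent.GalComp.Conn

set_option autoImplicit false
open CategoryTheory AlgebraicGeometry
universe u
open FBase

namespace Groth.Agent.S4645

/-- Let X be a scheme over a field k with finitely many connected components, each of which contains a
point x such that the separable algebraic closure of k in κ(x) has finite degree over k. Then there
is a finite separable extension k'' of k such that all connected components of X ⊗_k k'' are
geometrically connected over k'': for every extension field K of k'' and every point x' of X ⊗_k
k'', the inverse image in (X ⊗_k k'') ⊗_{k''} K of the connected component of x' is connected. -/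
theorem result {k : Type u} [Field k] {X : Scheme.{u}}
    (f : X ⟶ Spec (CommRingCat.of k)) [Finite (_root_.ConnectedComponents ↥X)]
    (hx : ∀ c : _root_.ConnectedComponents ↥X, ∃ x : X, _root_.ConnectedComponents.mk x = c ∧
      FBase.ResidueFieldProp f x (fun K _ _ => FiniteDimensional k (separableClosure k K))) :
    ∃ (k'' : Type u) (_ : Field k'') (_ : Algebra k k''), FiniteDimensional k k'' ∧ Algebra.IsSeparable k k'' ∧
      ∀ (K : Type u) [Field K] [Algebra k'' K] (x' : ↥(FBase.bc f k'')),
        _root_.IsConnected (⇑(FBase.bcπ (FBase.bcStr f k'') K) ⁻¹' connectedComponent x') := by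
  letI : X.Over (Spec (CommRingCat.of k)) := ⟨f⟩
  haveI := Groth.Agent.GalComp.connectedComponents_finite_sep k X (fun c => by
    obtain ⟨x, hxc, φ, hφ, hfd⟩ := hx c
    exact ⟨x, hxc, Groth.Agent.GalComp.fibre_finite f x φ hφ hfd⟩)
  obtain ⟨E, hE, hfix⟩ := Groth.Agent.GalComp.exists_finite_stabilizing_conn k X
  haveI : Algebra.IsSeparable k E := Algebra.isSeparable_tower_bot_of_isSeparable k E (SeparableClosure k)
  refine ⟨E, inferInstance, inferInstance, hE, inferInstance, fun K _ _ x' => ?_⟩
  exact Groth.Agent.GalComp.isConnected_preimage_of_sep _ (SeparableClosure k)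
    (Groth.Agent.GalComp.preimage_isConnected k X (SeparableClosure k) E hfix x') K

end Groth.Agent.S4645
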