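import Groth.Statements.S4647
import Groth.Agent.FlatMor.ReducedDescent
-- import your own Groth.Agent.* helpers here

set_option autoImplicit false
open CategoryTheory AlgebraicGeometry
universe u
open FDesc

namespace Groth.Agent.S4647

/-- Let f : X → Y be a faithfully flat (flat and surjective) morphism. If all local rings of X are
domains (in particular if X is locally integral) and the underlying space of Y is locally
Noetherian, then Y is locally integral: every point of Y has an open neighbourhood which is an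
integral scheme. -/
theorem result {X Y : Scheme.{u}} (f : X ⟶ Y) [Flat f] [Surjective f]
    (hX : ∀ x : X, IsDomain ↑(X.presheaf.stalk x))
    (hY : ∀ y : Y, ∃ U : Y.Opens, y ∈ U ∧ TopologicalSpace.NoetherianSpace ↥U) (y : Y) :
    ∃ U : Y.Opens, y ∈ U ∧ IsIntegral (U : Scheme.{u}) := by
  have hdomY : ∀ y' : Y, IsDomain ↑(Y.presheaf.stalk y') := by
    intro y'
    obtain ⟨x, rfl⟩ := f.surjective y'
    have := hX x
    algebraize [(f.stalkMap x).hom]
    have hff : Module.FaithfullyFlat (Y.presheaf.stalk (f x)) (X.presheaf.stalk x) :=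
      @Module.FaithfullyFlat.of_flat_of_isLocalHom _ _ _ _ _ _ _
        (Flat.stalkMap f x) (f.toLRSHom.prop x)
    exact ((RingHom.faithfullyFlat_algebraMap_iff.mpr hff).injective).isDomain _
  obtain ⟨U₀, hyU₀, hN⟩ := hY y
  have : TopologicalSpace.NoetherianSpace (U₀ : Scheme.{u}) := hN
  let y₀ : (U₀ : Scheme.{u}) := ⟨y, hyU₀⟩
  let T := irreducibleComponent y₀
  have hfin : (irreducibleComponents ↥(U₀ : Scheme.{u})).Finite :=
    TopologicalSpace.NoetherianSpace.finite_irreducibleComponents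
  let C : Set (U₀ : Scheme.{u}) := ⋃₀ (irreducibleComponents ↥(U₀ : Scheme.{u}) \ {T})
  have hC : IsClosed C := by
    rw [show C = ⋃ Z ∈ irreducibleComponents ↥(U₀ : Scheme.{u}) \ {T}, Z from Set.sUnion_eq_biUnion]
    exact (hfin.subset Set.diff_subset).isClosed_biUnion fun Z hZ =>
      isClosed_of_mem_irreducibleComponents Z hZ.1
  have : ∀ z : (U₀ : Scheme.{u}), IsDomain ↑((U₀ : Scheme.{u}).presheaf.stalk z) := fun z =>
    have := hdomY z.1
    ((U₀.stalkIso z).commRingCatIsoToRingEquiv.toMulEquiv).isDomain _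
  have huniq : ∀ Z ∈ irreducibleComponents ↥(U₀ : Scheme.{u}), y₀ ∈ Z → Z = T := by
    let P := PrimeSpectrum ((U₀ : Scheme.{u}).presheaf.stalk y₀)
    let q₀ : P := ⟨⊥, Ideal.bot_prime⟩
    let ξ := (U₀ : Scheme.{u}).fromSpecStalk y₀ q₀
    have hmax : ∀ z, z ⤳ y₀ → ξ ⤳ z := fun z hz => by
      have hz' : z ∈ Set.range ((U₀ : Scheme.{u}).fromSpecStalk y₀) := by
        rw [Scheme.range_fromSpecStalk]; exact hz
      obtain ⟨q, rfl⟩ := hz'
      exact (((PrimeSpectrum.le_iff_specializes q₀ q).mp bot_le)).map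
        ((U₀ : Scheme.{u}).fromSpecStalk y₀).continuous
    have hcomp : ∀ Z ∈ irreducibleComponents ↥(U₀ : Scheme.{u}), y₀ ∈ Z → Z = closure {ξ} := by
      intro Z hZ hyZ
      have hcl := isClosed_of_mem_irreducibleComponents Z hZ
      have hirr : IsIrreducible Z := hZ.1
      have hgen := hirr.isGenericPoint_genericPoint hcl
      have h1 : Z ⊆ closure {ξ} := by
        rw [← hgen.def]
        exact closure_minimal (Set.singleton_subset_iff.mpr
          (specializes_iff_mem_closure.mp (hmax _ (hgen.specializes hyZ)))) isClosed_closure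
      exact Set.Subset.antisymm h1 (hZ.2 isIrreducible_singleton.closure h1)
    intro Z hZ hyZ
    rw [hcomp Z hZ hyZ, hcomp T (irreducibleComponent_mem_irreducibleComponents y₀) mem_irreducibleComponent]
  have hy0 : y₀ ∉ C := fun h => by
    obtain ⟨Z, hZ, hyZ⟩ := Set.mem_sUnion.mp h
    exact hZ.2 (huniq Z hZ.1 hyZ)
  let W : (U₀ : Scheme.{u}).Opens := ⟨Cᶜ, hC.isOpen_compl⟩
  have hWT : (W : Set (U₀ : Scheme.{u})) ⊆ T := fun z hz => by
    by_contra hzT
    exact hz (Set.mem_sUnion.mpr ⟨irreducibleComponent z,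
      ⟨irreducibleComponent_mem_irreducibleComponents z,
        fun e => hzT (e ▸ mem_irreducibleComponent)⟩, mem_irreducibleComponent⟩)
  refine ⟨U₀.ι ''ᵁ W, ⟨y₀, hy0, rfl⟩, ?_⟩
  have : Nonempty ((U₀.ι ''ᵁ W : Y.Opens) : Scheme.{u}) := ⟨⟨y, y₀, hy0, rfl⟩⟩
  have : IrreducibleSpace ((U₀.ι ''ᵁ W : Y.Opens) : Scheme.{u}) := by
    have h1 : IsIrreducible (W : Set (U₀ : Scheme.{u})) :=
      ⟨⟨y₀, hy0⟩, isIrreducible_irreducibleComponent.2.open_subset W.2 hWT⟩
    have h2 : IsIrreducible ((U₀.ι ''ᵁ W : Y.Opens) : Set Y) :=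
      h1.image _ U₀.ι.continuous.continuousOn
    exact isIrreducible_iff_irreducibleSpace.mp h2
  have : IsReduced Y := by
    have : ∀ z : Y, _root_.IsReduced (Y.presheaf.stalk z) := fun z => by
      have := hdomY z
      infer_instance
    exact isReduced_of_isReduced_stalk Y
  exact isIntegral_of_irreducibleSpace_of_isReduced _


end Groth.Agent.S4647
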