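import Groth.Statements.S4648
import Groth.Agent.FlatModB.QuasiFlat
import Groth.Agent.ConsTop.Surj
import Groth.Agent.ConsEngine.LimClosure
-- import your own Groth.Agent.* helpers here

set_option autoImplicit false
open CategoryTheory AlgebraicGeometry
universe u
open FDesc

namespace Groth.Agent.S4648

/-- Let f : X → Y be a quasi-flat, surjective and quasi-compact morphism and Z a subset of Y. Then Z is
a locally closed pro-constructible subset of Y if and only if f⁻¹(Z) is a locally closed
pro-constructible subset of X. -/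
theorem result {X Y : Scheme.{u}} (f : X ⟶ Y)
    (hf : FDesc.IsQuasiFlat f) [Surjective f] [QuasiCompact f] (Z : Set ↥Y) :
    (IsLocallyClosed Z ∧ ProCons.IsProConstructible Z) ↔
      (IsLocallyClosed (⇑f ⁻¹' Z) ∧ ProCons.IsProConstructible (⇑f ⁻¹' Z)) := by
  refine ⟨fun h => ⟨h.1.preimage f.continuous, Groth.Agent.ConsTop.proCons_preimage f h.2⟩, fun h => ?_⟩
  have hP : ProCons.IsProConstructible Z := Groth.Agent.ConsTop.proCons_of_preimage f (Or.inl inferInstance) h.2
  have hgen : GeneralizingMap f.base := Groth.Agent.FlatModB.generalizingMap f hf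
  refine ⟨?_, hP⟩
  have hcl : f.base ⁻¹' closure Z = closure (f.base ⁻¹' Z) := by
    refine subset_antisymm (fun x hx => ?_) (f.continuous.closure_preimage_subset _)
    obtain ⟨z, hzZ, hz⟩ := Groth.Agent.ConsEngine.exists_specializes_of_mem_closure_proCons hP hx
    obtain ⟨x', hx', e⟩ := hgen hz
    exact hx'.mem_closed isClosed_closure (subset_closure (show f.base x' ∈ Z from e ▸ hzZ))
  have h1 : IsClosed (f.base ⁻¹' (coborder Z)ᶜ) := by
    rw [Set.preimage_compl, isClosed_compl_iff]
    have he : f.base ⁻¹' coborder Z = coborder (f.base ⁻¹' Z) := by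
      simp only [coborder, Set.preimage_compl, Set.preimage_diff, hcl]
    rw [he]
    exact h.1.isOpen_coborder
  have h2 := (Groth.Agent.FlatModB.isQuotientMap f hgen).isClosed_preimage.1 h1
  rw [isClosed_compl_iff] at h2
  exact isLocallyClosed_iff_isOpen_coborder.2 h2

end Groth.Agent.S4648
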