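import Groth.Statements.S4650
import Mathlib
import Groth.Agent.SepSurj.Basic

set_option autoImplicit false
open CategoryTheory AlgebraicGeometry
universe u
open FDesc

namespace Groth.Agent.S4650

/-- Let f : X → Y be a morphism of schemes along which generizations lift (this holds for flat,
quasi-flat or open morphisms). Then every irreducible component of X dominates an irreducible
component of Y: the closure of its image is an irreducible component of Y. -/
theorem result {X Y : Scheme.{u}} (f : X ⟶ Y)
    (hf : GeneralizingMap ⇑f) (T : Set ↥X) (hT : T ∈ irreducibleComponents ↥X) :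
    closure (⇑f '' T) ∈ irreducibleComponents ↥Y := by
  set_option backward.isDefEq.respectTransparency false in
  have hTc := isClosed_of_mem_irreducibleComponents _ hT
  have hη := hT.1.isGenericPoint_genericPoint hTc
  refine ⟨(hT.1.image _ f.continuous.continuousOn).closure, fun E hE hsub => ?_⟩
  have hξ := hE.isGenericPoint_genericPoint_closure
  have h1 : hE.genericPoint ⤳ f hT.1.genericPoint :=
    hξ.specializes (subset_closure (hsub (subset_closure ⟨_, hη.mem, rfl⟩)))
  obtain ⟨w, hw, hwf⟩ := hf h1
  have hwT : w ∈ T := hT.2 isIrreducible_singleton.closure (by
    rw [← hη.def]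
    exact isClosed_closure.closure_subset_iff.2 (Set.singleton_subset_iff.2 hw.mem_closure)) (subset_closure rfl)
  intro e he
  have h2 : hE.genericPoint ∈ closure (f '' T) := subset_closure ⟨w, hwT, hwf⟩
  exact (hξ.specializes (subset_closure he)).mem_closed isClosed_closure h2

end Groth.Agent.S4650
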