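import Groth.Statements.S4651
import Groth.Agent.Unibranch.ComponentDim

set_option autoImplicit false
set_option backward.isDefEq.respectTransparency false
open CategoryTheory AlgebraicGeometry
universe u
open FDesc

namespace Groth.Agent.S4651

/-- Let Y be a scheme whose family of irreducible components is locally finite (every point has an open
neighbourhood meeting only finitely many irreducible components), and let f : X → Y be a morphism
along which generizations lift (e.g. flat, quasi-flat or open) such that every fibre f⁻¹(y) is a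
finite set (e.g. f quasi-finite or radicial). Then the family of irreducible components of X is
locally finite. -/
theorem result {X Y : Scheme.{u}} (f : X ⟶ Y)
    (hY : ∀ y : Y, ∃ U : Set ↥Y, IsOpen U ∧ y ∈ U ∧ {Z ∈ irreducibleComponents ↥Y | (Z ∩ U).Nonempty}.Finite)
    (hf : GeneralizingMap ⇑f) (hfin : ∀ y : Y, (⇑f ⁻¹' {y}).Finite) (x : X) :
    ∃ U : Set ↥X, IsOpen U ∧ x ∈ U ∧ {T ∈ irreducibleComponents ↥X | (T ∩ U).Nonempty}.Finite := by
  obtain ⟨U, hU, hxU, hfin'⟩ := hY (f x)
  refine ⟨⇑f ⁻¹' U, hU.preimage f.continuous, hxU, ?_⟩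
  let B : Set X := ⇑f ⁻¹' ⋃ Z ∈ {Z ∈ irreducibleComponents ↥Y | (Z ∩ U).Nonempty},
    {y : Y | IsGenericPoint y Z}
  have hB : B.Finite := by
    refine Set.Finite.preimage' (Set.Finite.biUnion hfin' fun Z _ => ?_) fun y _ => hfin y
    exact Set.Subsingleton.finite fun a ha b hb => IsGenericPoint.eq ha hb
  refine (hB.image fun ζ => closure ({ζ} : Set X)).subset ?_
  rintro T ⟨hT, t, htT, htU⟩
  obtain ⟨ζ, hζ, rfl⟩ := Groth.Agent.Unibranch.exists_isMaxPt hT
  refine ⟨ζ, ?_, rfl⟩
  have hmax : Groth.Agent.Unibranch.IsMaxPt (f ζ) := fun y hy => by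
    obtain ⟨z, hz, rfl⟩ := hf hy
    rw [hζ z hz]
  refine Set.mem_iUnion₂.mpr ⟨closure {f ζ}, ⟨hmax.mem_irreducibleComponents, f t, ?_, htU⟩,
    isGenericPoint_closure⟩
  exact ((specializes_iff_mem_closure.mpr htT).map f.continuous).mem_closure

end Groth.Agent.S4651
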