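import Groth.Statements.S4652
import Groth.Agent.LocFree.Props
import Mathlib

set_option autoImplicit false
open CategoryTheory AlgebraicGeometry
universe u
open FDesc

namespace Groth.Agent.S4652

/-- Let X be a scheme, F a finitely presented O_X-module and x a point of X. Then F_x is a flat module
over the local ring O_{X,x} if and only if x has an open neighbourhood U such that the restriction
of F to U is finite locally free. -/
theorem result {X : Scheme.{u}} (F : X.Modules) (hF : CohB1.IsFP F) (x : X) :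
    FlatMod.IsFlatAt F x ↔ ∃ U : X.Opens, x ∈ U ∧ FlatMod.IsFinLocFree ((Scheme.Modules.pullback U.ι).obj F) := by
  set_option backward.isDefEq.respectTransparency false in
  constructor
  · intro hflat
    have hqc : Coh.IsQCoh F := by
      refine Groth.Agent.QC.isQCoh_iff_exists_hasPres.mpr fun y => ?_
      obtain ⟨W, hy, hW⟩ := Groth.Agent.QC.isFP_iff_exists_hasFinPres.mp hF y
      exact ⟨W, hy, hW.hasPres⟩
    obtain ⟨U, hU, hx⟩ := Groth.Agent.QC.exists_affine_mem x
    haveI := Groth.Agent.LocFree.finitePresentation_sections_of_isFP hqc hF hU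
    haveI hfree := Groth.Agent.LocFree.free_stalk hU hqc hx hflat
    letI := (X.presheaf.germ U x hx).hom.toAlgebra
    haveI := hU.isLocalization_stalk ⟨x, hx⟩
    obtain ⟨g, hg⟩ := Groth.Agent.LocFree.exists_stalkMap hU hqc hx
    letI := Module.compHom (F.presheaf.stalk x) (X.presheaf.germ U x hx).hom
    haveI : IsScalarTower Γ(X, U) (X.presheaf.stalk x) (F.presheaf.stalk x) :=
      ⟨fun a c m => mul_smul ((X.presheaf.germ U x hx).hom a) c m⟩
    haveI := hg
    obtain ⟨r, hr, hfr, -⟩ := Module.FinitePresentation.exists_free_localizedModule_powers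
      (hU.primeIdealOf ⟨x, hx⟩).asIdeal.primeCompl g (X.presheaf.stalk x)
    obtain ⟨h1, h2⟩ := Groth.Agent.LocFree.free_finite_basicOpen hqc hU r
    obtain ⟨n, ⟨e⟩⟩ := Groth.Agent.LocFree.exists_iso_free_of_affine (hM := hqc) (hU.basicOpen r)
    refine ⟨X.basicOpen r, (Groth.Agent.WeakAssLib.mem_primeIdealOf hU hx r).2 hr,
      Groth.Agent.LocFree.isFinLocFree_of_retract _ n
        ((Scheme.Modules.restrictFunctorIsoPullback _).symm.app F ≪≫ e).hom
        ((Scheme.Modules.restrictFunctorIsoPullback _).symm.app F ≪≫ e).inv (Iso.hom_inv_id _)⟩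
  · rintro ⟨U, hx, hU⟩
    let y : (U : Scheme.{u}) := ⟨x, hx⟩
    have hfree : Module.Flat _ ((DerSch.stalkFunctor (U : Scheme.{u}) y).obj ((Scheme.Modules.pullback U.ι).obj F)) :=
      Groth.Agent.DerPerf.isFlat_of_isFinLocFree hU y
    have : IsIso (U.ι.stalkMap y) := inferInstance
    let φ := (U.ι.stalkMap y).hom
    let ψ := (inv (U.ι.stalkMap y)).hom
    have hψφ : ψ.comp φ = RingHom.id _ := by
      rw [← CommRingCat.hom_comp, IsIso.hom_inv_id]; rfl
    change Module.Flat (X.presheaf.stalk x) ((DerSch.stalkFunctor X x).obj F)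
    exact Groth.Agent.DerPerf.flat_of_extendScalars φ ψ hψφ ((DerSch.stalkFunctor X x).obj F)
      (@Module.Flat.of_linearEquiv _ _ _ _ _ _ _ _ hfree
        ((Groth.Agent.KFlat.pullStalkIso U.ι y).app F).symm.toLinearEquiv)

end Groth.Agent.S4652
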