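import Groth.Statements.S4653
import Groth.Agent.FlatModB.QuasiFlat
import Groth.Agent.SupportLib.Pull
import Groth.Agent.QC.Support
import Groth.Agent.QC.Pullback
-- import your own Groth.Agent.* helpers here

set_option autoImplicit false
set_option backward.isDefEq.respectTransparency false
set_option linter.style.haveILetI false
open CategoryTheory AlgebraicGeometry
universe u
open FDesc

namespace Groth.Agent.S4653

/-- generalisations lift inside the support of a module flat over the base -/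
theorem exists_mem_support_of_specializes {X Y : Scheme.{u}} (f : X ⟶ Y) (M : X.Modules) (hM : Coh.IsCoh M)
    (hflat : FlatMod.IsFlatOver f M) {x : X} (hxs : x ∈ CohB1.support M) {y : Y} (hy : y ⤳ f x) :
    ∃ z ∈ CohB1.support M, z ⤳ x ∧ f z = y := by
  obtain ⟨V, hV, hxV, -⟩ := exists_isAffineOpen_mem_and_subset (X := Y) (x := f x) (U := ⊤) trivial
  obtain ⟨U, hU, hxU, hUV⟩ := exists_isAffineOpen_mem_and_subset (X := X) (x := x) (U := f ⁻¹ᵁ V) hxV
  have hyV : y ∈ V := hy.mem_open V.2 hxV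
  letI : Algebra Γ(Y, V) Γ(X, U) := (f.appLE V U hUV).hom.toAlgebra
  letI := Groth.Agent.FlatModB.secModule f M U V hUV
  haveI : IsScalarTower Γ(Y, V) Γ(X, U) Γ(M, U) :=
    ⟨fun a c m => mul_smul ((f.appLE V U hUV).hom a) c m⟩
  haveI : Module.Flat Γ(Y, V) Γ(M, U) :=
    (Groth.Agent.FlatModB.flat_sections_iff f M hM.1 hU hV hUV).2 fun z _ => hflat z
  haveI : Module.Finite Γ(X, U) Γ(M, U) := (Groth.Agent.QC.isCoh_iff_finite_sections.mp hM).2 ⟨U, hU⟩
  let P := hU.primeIdealOf ⟨x, hxU⟩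
  have hP : P ∈ Module.support Γ(X, U) Γ(M, U) := (Groth.Agent.QC.mem_moduleSupport_iff (hM := hM.1) hU hxU).2 hxs
  let I := Module.annihilator Γ(X, U) Γ(M, U)
  letI : Module (Γ(X, U) ⧸ I) Γ(M, U) := Module.quotientAnnihilator
  haveI : IsScalarTower Γ(X, U) (Γ(X, U) ⧸ I) Γ(M, U) :=
    Module.IsTorsionBySet.isScalarTower (Module.isTorsionBySet_annihilator Γ(X, U) Γ(M, U))
  haveI : Module.Finite (Γ(X, U) ⧸ I) Γ(M, U) := Module.Finite.of_restrictScalars_finite Γ(X, U) _ _
  haveI : IsScalarTower Γ(Y, V) (Γ(X, U) ⧸ I) Γ(M, U) :=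
    Module.IsTorsionBySet.isScalarTower (Module.isTorsionBySet_annihilator Γ(X, U) Γ(M, U))
  rw [Module.mem_support_iff_of_finite] at hP
  let P' : PrimeSpectrum (Γ(X, U) ⧸ I) := ⟨P.asIdeal.map (Ideal.Quotient.mk I),
    Ideal.map_isPrime_of_surjective Ideal.Quotient.mk_surjective (by rw [Ideal.mk_ker]; exact hP)⟩
  have hP'c : P'.asIdeal.comap (Ideal.Quotient.mk I) = P.asIdeal :=
    (Ideal.comap_map_of_surjective _ Ideal.Quotient.mk_surjective _).trans (sup_eq_left.2 (by
      rw [← RingHom.ker_eq_comap_bot, Ideal.mk_ker]; exact hP))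
  have hP' : P' ∈ Module.support (Γ(X, U) ⧸ I) Γ(M, U) := by
    rw [Module.mem_support_iff_of_finite]
    intro a ha
    obtain ⟨a, rfl⟩ := Ideal.Quotient.mk_surjective a
    exact Ideal.mem_map_of_mem _ (hP (Module.mem_annihilator.2 fun m => (Module.mem_annihilator.1 ha m :)))
  let q := hV.primeIdealOf ⟨y, hyV⟩
  have hcomap : PrimeSpectrum.comap (f.appLE V U hUV).hom P = hV.primeIdealOf ⟨f x, hxV⟩ :=
    IsAffineOpen.comap_primeIdealOf_appLE (f := f) V hV U hU hUV hxU
  have hq : q.asIdeal ≤ P'.asIdeal.comap (algebraMap Γ(Y, V) (Γ(X, U) ⧸ I)) := by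
    have h1 : (⟨y, hyV⟩ : V) ⤳ ⟨f x, hxV⟩ := Topology.IsInducing.subtypeVal.specializes_iff.mp hy
    have h2 := (PrimeSpectrum.le_iff_specializes _ _).mpr
      (h1.map hV.isoSpec.hom.continuous)
    rw [show algebraMap Γ(Y, V) (Γ(X, U) ⧸ I) = (Ideal.Quotient.mk I).comp (algebraMap Γ(Y, V) Γ(X, U)) from rfl,
      ← Ideal.comap_comap, hP'c]
    change q.asIdeal ≤ (PrimeSpectrum.comap (f.appLE V U hUV).hom P).asIdeal
    rw [hcomap]
    exact h2
  obtain ⟨Q', hQP, hQ⟩ := Groth.Agent.FlatModB.exists_prime_le_of_flat Γ(M, U) P' hP' q hq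
  let Q := PrimeSpectrum.comap (Ideal.Quotient.mk I) Q'
  have hzU : hU.fromSpec Q ∈ U := hU.range_fromSpec.le ⟨Q, rfl⟩
  refine ⟨hU.fromSpec Q, ?_, ?_, ?_⟩
  · rw [← Groth.Agent.QC.mem_moduleSupport_iff (hM := hM.1) hU hzU]
    have e : hU.primeIdealOf ⟨hU.fromSpec Q, hzU⟩ = Q :=
      hU.fromSpec.isOpenEmbedding.injective (hU.fromSpec_primeIdealOf ⟨_, hzU⟩)
    rw [e, Module.mem_support_iff_of_finite]
    intro a ha
    show Ideal.Quotient.mk I a ∈ Q'.asIdeal
    rw [Ideal.Quotient.eq_zero_iff_mem.2 ha]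
    exact zero_mem _
  · have hle : Q ≤ P := fun a ha => hP'c.le (hQP ha)
    have := ((PrimeSpectrum.le_iff_specializes Q P).mp hle).map hU.fromSpec.continuous
    rwa [hU.fromSpec_primeIdealOf ⟨x, hxU⟩] at this
  · have h3 : Spec.map (f.appLE V U hUV) Q = q := hQ
    rw [← Scheme.Hom.comp_apply, ← hV.SpecMap_appLE_fromSpec f hU hUV, Scheme.Hom.comp_apply, h3]
    exact hV.fromSpec_primeIdealOf ⟨y, hyV⟩

/-- Let f : X → Y be a morphism of schemes, F a quasi-coherent O_X-module of finite type which is flat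
over Y, E a quasi-coherent O_Y-module of finite type, and x a point of X with image y. Then x is a
maximal point of the support of f^*E ⊗ F (a point of the support admitting no proper generization in
it) if and only if y is a maximal point of Supp E and x, viewed in the fibre f⁻¹(y), is a maximal
point of the support of the restriction of F to that fibre. -/
theorem result {X Y : Scheme.{u}} (f : X ⟶ Y) (F : X.Modules) (hF : Coh.IsCoh F)
    (hfl : FlatMod.IsFlatOver f F) (E : Y.Modules) (hE : Coh.IsCoh E) (x : X) :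
    (x ∈ CohB1.support (CohB1.tensorMod ((Scheme.Modules.pullback f).obj E) F) ∧
        ∀ z ∈ CohB1.support (CohB1.tensorMod ((Scheme.Modules.pullback f).obj E) F), z ⤳ x → z = x) ↔
      ((f x ∈ CohB1.support E ∧ ∀ w ∈ CohB1.support E, w ⤳ f x → w = f x) ∧
        (f.asFiber x ∈ CohB1.support ((Scheme.Modules.pullback (f.fiberι (f x))).obj F) ∧
          ∀ z ∈ CohB1.support ((Scheme.Modules.pullback (f.fiberι (f x))).obj F), z ⤳ f.asFiber x → z = f.asFiber x)) := by
  haveI := hE.1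
  haveI := hF.1
  have hT : CohB1.support (CohB1.tensorMod ((Scheme.Modules.pullback f).obj E) F) =
      f.base ⁻¹' CohB1.support E ∩ CohB1.support F := by
    have hfE := Groth.Agent.QC.isCoh_pullback f hE
    haveI := hfE.1
    rw [Groth.Agent.SupportLib.support_tensor _ _ (fun z => Groth.Agent.SupportLib.finite_stalk _ hfE.2 z)
      (fun z => Groth.Agent.SupportLib.finite_stalk _ hF.2 z), Groth.Agent.SupportLib.support_pullback f E hE.2]
  rw [hT, Groth.Agent.SupportLib.support_pullback _ F hF.2]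
  have hx : f.fiberι (f x) (f.asFiber x) = x := f.fiberι_asFiber x
  constructor
  · rintro ⟨⟨hxE, hxF⟩, hmax⟩
    refine ⟨⟨hxE, fun w hw hwx => ?_⟩, (show f.fiberι (f x) (f.asFiber x) ∈ _ by rwa [hx]), fun z hz hzx => ?_⟩
    · obtain ⟨z, hzF, hzx, rfl⟩ := exists_mem_support_of_specializes f F hF hfl hxF hwx
      rw [hmax z ⟨hw, hzF⟩ hzx]
    · refine (f.fiberι (f x)).isEmbedding.injective ?_
      rw [hx]
      refine hmax _ ⟨?_, hz⟩ ((hzx.map (f.fiberι (f x)).continuous).trans (specializes_of_eq hx))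
      have : f.fiberι (f x) z ∈ Set.range (f.fiberι (f x)) := ⟨z, rfl⟩
      rw [f.range_fiberι] at this
      show f (f.fiberι (f x) z) ∈ CohB1.support E
      rw [this]
      exact hxE
  · rintro ⟨⟨hxE, hEmax⟩, hxF, hFmax⟩
    refine ⟨⟨hxE, hx ▸ hxF⟩, fun z hz hzx => ?_⟩
    have hfz : f z = f x := hEmax _ hz.1 (hzx.map f.continuous)
    obtain ⟨z', rfl⟩ : z ∈ Set.range (f.fiberι (f x)) := by rw [f.range_fiberι]; exact hfz
    rw [hFmax z' hz.2 ((f.fiberι (f x)).isEmbedding.isInducing.specializes_iff.1 (by rw [hx]; exact hzx)), hx]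

end Groth.Agent.S4653
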