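import Groth.Statements.S4654
import Groth.Agent.DQCoh.RelTor
import Groth.Agent.FlatCartier.Basic
-- import your own Groth.Agent.* helpers here

set_option autoImplicit false
open CategoryTheory AlgebraicGeometry
universe u
open FDesc

namespace Groth.Agent.S4654

/-- Let f : X → Y be a morphism of schemes and 0 → F' → F → F'' → 0 a short exact sequence of
quasi-coherent O_X-modules such that F'' is flat over Y. Then F is flat over Y if and only if F' is
flat over Y. -/
theorem result {X Y : Scheme.{u}} (f : X ⟶ Y) (S : ShortComplex X.Modules)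
    (hS : S.ShortExact) (h₁ : Coh.IsQCoh S.X₁) (h₂ : Coh.IsQCoh S.X₂) (h₃ : Coh.IsQCoh S.X₃)
    (hflat : FlatMod.IsFlatOver f S.X₃) :
    FlatMod.IsFlatOver f S.X₂ ↔ FlatMod.IsFlatOver f S.X₁ := by
  have key : ∀ x, Module.Flat (Y.presheaf.stalk (f.base x)) ((Groth.Agent.DQCoh.stA f x).obj S.X₂) ↔
      Module.Flat (Y.presheaf.stalk (f.base x)) ((Groth.Agent.DQCoh.stA f x).obj S.X₁) := fun x => by
    have hx := hS.map_of_exact (Groth.Agent.DQCoh.stA f x)
    haveI : Module.Flat (Y.presheaf.stalk (f.base x)) (S.map (Groth.Agent.DQCoh.stA f x)).X₃ := hflat x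
    have hex := (ShortComplex.ShortExact.moduleCat_exact_iff_function_exact _).1 hx.exact
    exact ⟨fun h => haveI : Module.Flat (Y.presheaf.stalk (f.base x)) (S.map (Groth.Agent.DQCoh.stA f x)).X₂ := h
        Groth.Agent.FlatCartier.flat_left _ _ hx.moduleCat_injective_f hex hx.moduleCat_surjective_g,
      fun h => haveI : Module.Flat (Y.presheaf.stalk (f.base x)) (S.map (Groth.Agent.DQCoh.stA f x)).X₁ := h
        Groth.Agent.FlatCartier.flat_mid _ _ hx.moduleCat_injective_f hex hx.moduleCat_surjective_g⟩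
  exact ⟨fun h x => (key x).1 (h x), fun h x => (key x).2 (h x)⟩

end Groth.Agent.S4654
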