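import Groth.Statements.S4657
import Groth.Agent.AssTensor.Length
import Groth.Agent.AssLib.Points
import Groth.Agent.Devissage.Serre

set_option autoImplicit false
open CategoryTheory AlgebraicGeometry
universe u
open AssSch

namespace Groth.Agent.S4657

/-- Let X be a locally Noetherian scheme, U an open subset of X and F a coherent O_X-module such that U
∩ Supp F is dense in Supp F. Then F is a reduced module if and only if its restriction to U is a
reduced module and F has no embedded associated points. -/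
theorem result {X : Scheme.{u}} [IsLocallyNoetherian X] (U : X.Opens) (F : X.Modules)
    (hF : Coh.IsCoh F) (hdense : CohB1.support F ⊆ closure ((U : Set ↥X) ∩ CohB1.support F)) :
    AssSch.IsReducedMod F ↔ AssSch.IsReducedMod ((Scheme.Modules.pullback U.ι).obj F) ∧ AssSch.NoEmbedded F := by
  classical
  have hι : ∀ u, Function.Bijective (U.ι.stalkMap u).hom := fun u =>
    ConcreteCategory.bijective_of_isIso (U.ι.stalkMap u)
  let FU := (Scheme.Modules.pullback U.ι).obj F
  have hker : ∀ u, RingHom.ker (U.ι.stalkMap u).hom •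
      (⊤ : Submodule (X.presheaf.stalk (U.ι u)) (F.presheaf.stalk (U.ι u))) = ⊥ := fun u => by
    rw [(RingHom.injective_iff_ker_eq_bot _).1 (hι u).1, Submodule.bot_smul]
  have hass : ∀ u, Curv2.IsAssPoint FU u ↔ Curv2.IsAssPoint F (U.ι u) := fun u => by
    rw [Groth.Agent.AssTensor.isAssPoint_pullback_of_surjective _ _ _ (hι u).2]
    exact LinearEquiv.isAssociatedPrime_iff (Submodule.quotEquivOfEqBot _ (hker u))
  have hlen : ∀ u, Module.length ((U : Scheme.{u}).presheaf.stalk u) (FU.presheaf.stalk u) =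
      Module.length (X.presheaf.stalk (U.ι u)) (F.presheaf.stalk (U.ι u)) := fun u => by
    rw [Groth.Agent.AssTensor.length_pullback_of_surjective _ _ _ (hι u).2]
    exact (Submodule.quotEquivOfEqBot _ (hker u)).length_eq
  constructor
  · rintro ⟨hne, hl⟩
    exact ⟨⟨fun x hx y hy hsp => U.ι.isEmbedding.injective
      (hne _ ((hass x).1 hx) _ ((hass y).1 hy) (hsp.map U.ι.continuous)),
      fun x hx => (hlen x).trans (hl _ ((hass x).1 hx))⟩, hne⟩
  · rintro ⟨⟨-, hl⟩, hne⟩
    refine ⟨hne, fun x hx => ?_⟩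
    have hmin := ((Groth.Agent.AssLib.ass_minimal_iff hF.1 x).1
      ⟨hx, fun y hy hyx => (hne x hx y hy hyx).symm⟩)
    have hZ : IsClosed (CohB1.support F) := Groth.Agent.Devissage.isClosed_support' hF
    obtain ⟨V, hV, hxV, -⟩ :=
      exists_isAffineOpen_mem_and_subset (X := X) (U := ⊤) (trivial : x ∈ (⊤ : X.Opens))
    haveI : IsNoetherianRing Γ(X, V) := IsLocallyNoetherian.component_noetherian ⟨V, hV⟩
    haveI : IsAffine (V : Scheme.{u}) := hV
    haveI : IsNoetherian (V : Scheme.{u}) := {}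
    let Z : Set ↥(V : Scheme.{u}) := V.ι ⁻¹' CohB1.support F
    obtain ⟨S, hS1, hS2, hS3, hS4⟩ := TopologicalSpace.NoetherianSpace.exists_finite_set_isClosed_irreducible
      (hZ.preimage V.ι.continuous : IsClosed Z)
    obtain ⟨x', rfl⟩ : x ∈ Set.range V.ι := by rw [Scheme.Opens.range_ι]; exact hxV
    have hcl : x' ∈ closure (V.ι ⁻¹' ((U : Set ↥X) ∩ CohB1.support F)) := by
      rw [← V.ι.isOpenEmbedding.isOpenMap.preimage_closure_eq_closure_preimage V.ι.continuous]
      exact hdense (show V.ι x' ∈ CohB1.support F from not_subsingleton_iff_nontrivial.2 hmin.1)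
    have hsub : V.ι ⁻¹' ((U : Set ↥X) ∩ CohB1.support F) = ⋃ t ∈ S, (V.ι ⁻¹' (U : Set ↥X)) ∩ t := by
      rw [Set.preimage_inter, ← Set.inter_iUnion₂, ← Set.sUnion_eq_biUnion]
      exact congrArg _ hS4
    rw [hsub, hS1.closure_biUnion, Set.mem_iUnion₂] at hcl
    obtain ⟨t, ht, hxt⟩ := hcl
    obtain ⟨η, hη⟩ := QuasiSober.sober (hS3 t ht) (hS2 t ht)
    have hηs : η ⤳ x' := hη.specializes ((closure_minimal Set.inter_subset_right (hS2 t ht)) hxt)
    have hηZ : η ∈ Z := by
      rw [show Z = ⋃₀ S from hS4]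
      exact ⟨t, ht, hη.mem⟩
    have hηx : η = x' := V.ι.isEmbedding.injective (hmin.2 _ (not_subsingleton_iff_nontrivial.1 hηZ) (hηs.map V.ι.continuous))
    obtain ⟨z, hzU, hzt⟩ : ((V.ι ⁻¹' (U : Set ↥X)) ∩ t).Nonempty := closure_nonempty_iff.1 ⟨x', hxt⟩
    have hxU : V.ι x' ∈ U := by
      rw [← hηx]
      exact ((hη.specializes hzt).map V.ι.continuous).mem_open U.2 hzU
    obtain ⟨u, hu⟩ : V.ι x' ∈ Set.range U.ι := by rw [Scheme.Opens.range_ι]; exact hxU
    rw [← hu] at hx ⊢
    exact (hlen u).symm.trans (hl u ((hass u).2 hx))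

end Groth.Agent.S4657
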