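import Groth.Statements.S4666
import Mathlib
import Groth.Agent.FpqcDescent.IdealGlue

set_option autoImplicit false
open CategoryTheory AlgebraicGeometry
universe u
open FDesc

namespace Groth.Agent.S4666

/-- Let f : X → Y be a flat and surjective morphism of schemes. Then the map sending a quasi-coherent
sheaf of ideals of O_Y (a closed subscheme of Y) to its inverse image in X is injective. -/
theorem result {X Y : Scheme.{u}} (f : X ⟶ Y) [Flat f] [Surjective f] :
    Function.Injective fun J : Y.IdealSheafData => J.comap f := by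
  intro J₁ J₂ h
  simp only at h
  suffices key : ∀ J J' : Y.IdealSheafData, J.comap f = J'.comap f → J ≤ J' from
    le_antisymm (key _ _ h) (key _ _ h.symm)
  intro J J' hJ U a ha
  let T := {V : X.affineOpens // V.1 ≤ f ⁻¹ᵁ U.1}
  refine Groth.Agent.FpqcDescent.mem_of_flat_cover' (T := T) U (fun _ ↦ X) (fun t ↦ t.1) (fun _ ↦ f)
    (fun t ↦ t.2) (fun y hy ↦ ?_) (J'.ideal U) a fun t ↦ ?_
  · obtain ⟨x, rfl⟩ := f.surjective y
    obtain ⟨V, hV, hxV, hle⟩ := TopologicalSpace.Opens.isBasis_iff_nbhd.mp X.isBasis_affineOpens (show x ∈ f ⁻¹ᵁ U.1 from hy)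
    exact ⟨⟨⟨V, hV⟩, hle⟩, x, hxV, rfl⟩
  · rw [← Groth.Agent.FpqcDescent.ideal_comap_appLE J' f U t.1 t.2, ← hJ,
      Groth.Agent.FpqcDescent.ideal_comap_appLE J f U t.1 t.2]
    exact Ideal.mem_map_of_mem _ ha

end Groth.Agent.S4666
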