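import Groth.Statements.S4672
import Groth.Agent.AlgSpLib.FibreNoeth

set_option autoImplicit false
open CategoryTheory AlgebraicGeometry
universe u
open FBase

namespace Groth.Agent.S4672

open CategoryTheory.Limits in
/-- Let X and Y be locally Noetherian schemes over a field k such that X ×_k Y is locally Noetherian,
with projections p and q. Then a subset W of X ×_k Y is an irreducible component of X ×_k Y if and
only if there exist an irreducible component X' of X and an irreducible component Y' of Y such that
W is a maximal irreducible subset of p⁻¹(X') ∩ q⁻¹(Y') (that is, an irreducible component of the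
space underlying X' ×_k Y' for the reduced structures on X' and Y'). -/
theorem result {k : Type u} [Field k] {X Y : Scheme.{u}}
    (f : X ⟶ Spec (CommRingCat.of k)) (g : Y ⟶ Spec (CommRingCat.of k)) [IsLocallyNoetherian X]
    [IsLocallyNoetherian Y] [IsLocallyNoetherian (pullback f g)] (W : Set ↥(pullback f g)) :
    W ∈ irreducibleComponents ↥(pullback f g) ↔
      ∃ X' ∈ irreducibleComponents ↥X, ∃ Y' ∈ irreducibleComponents ↥Y,
        Maximal (fun V : Set ↥(pullback f g) => IsIrreducible V ∧ V ⊆ ⇑(pullback.fst f g) ⁻¹' X' ∩ ⇑(pullback.snd f g) ⁻¹' Y') W := by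
  haveI hFlf : Flat f := Groth.Agent.AlgSpLib.flat_of_field f
  haveI hFlg : Flat g := Groth.Agent.AlgSpLib.flat_of_field g
  have comp_gen : ∀ {T : Scheme.{u}} (C : Set ↥T), C ∈ irreducibleComponents ↥T → ∀ (c t : ↥T), closure {c} = C →
      t ⤳ c → t = c := by
    intro T C hC c t hc ht
    have h1 : C ⊆ closure {t} := by
      rw [← hc]; exact closure_minimal (Set.singleton_subset_iff.2 ht.mem_closure) isClosed_closure
    have h2 : closure {t} ⊆ C := hC.2 isIrreducible_singleton.closure h1
    refine (Specializes.antisymm ht ?_).eq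
    exact specializes_iff_mem_closure.2 (hc.symm ▸ h2 (subset_closure rfl))
  have key : ∀ {T : Scheme.{u}} (p : pullback f g ⟶ T), GeneralizingMap p → ∀ w : ↥(pullback f g),
      (∀ t, t ⤳ w → t = w) → closure {p w} ∈ irreducibleComponents ↥T := by
    intro T p hp w hw
    refine ⟨isIrreducible_singleton.closure, fun V hV hle => ?_⟩
    obtain ⟨w', hw', he⟩ := hp (hV.isGenericPoint_genericPoint_closure.specializes
      (subset_closure (hle (subset_closure rfl))))
    have := hw w' hw'
    subst this
    intro v hv
    rw [he]
    exact (hV.isGenericPoint_genericPoint_closure.specializes (subset_closure hv)).mem_closure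
  constructor
  · intro hW
    have hWc := isClosed_of_mem_irreducibleComponents W hW
    have hg : IsGenericPoint hW.1.genericPoint W := hW.1.isGenericPoint_genericPoint hWc
    set w := hW.1.genericPoint
    have hw : ∀ t, t ⤳ w → t = w := fun t ht => comp_gen W hW w t hg ht
    refine ⟨_, key (pullback.fst f g) (Flat.generalizingMap _) w hw, _, key (pullback.snd f g) (Flat.generalizingMap _) w hw,
      ⟨hW.1, fun x hx => ?_⟩, fun V hV hle => hW.2 hV.1 hle⟩
    exact ⟨((hg.specializes hx).map (pullback.fst f g).continuous).mem_closure,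
      ((hg.specializes hx).map (pullback.snd f g).continuous).mem_closure⟩
  · rintro ⟨X', hX', Y', hY', ⟨hWirr, hWsub⟩, hmax⟩
    have hX'c := isClosed_of_mem_irreducibleComponents X' hX'
    have hY'c := isClosed_of_mem_irreducibleComponents Y' hY'
    have hWc : IsClosed W := by
      have hcl : closure W ⊆ _ := closure_minimal hWsub
        ((hX'c.preimage (pullback.fst f g).continuous).inter (hY'c.preimage (pullback.snd f g).continuous))
      rw [← closure_subset_iff_isClosed]
      exact hmax ⟨hWirr.closure, hcl⟩ subset_closure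
    have hw0 : IsGenericPoint hWirr.genericPoint W := hWirr.isGenericPoint_genericPoint hWc
    set w := hWirr.genericPoint
    let iX := (Scheme.IdealSheafData.vanishingIdeal (⟨X', hX'c⟩ : TopologicalSpace.Closeds ↥X)).subschemeι
    let iY := (Scheme.IdealSheafData.vanishingIdeal (⟨Y', hY'c⟩ : TopologicalSpace.Closeds ↥Y)).subschemeι
    have rX : Set.range iX = X' := by
      rw [Scheme.IdealSheafData.range_subschemeι]; simp
    have rY : Set.range iY = Y' := by
      rw [Scheme.IdealSheafData.range_subschemeι]; simp
    let m : pullback (iX ≫ f) (iY ≫ g) ⟶ pullback f g :=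
      pullback.map _ _ _ _ iX iY (𝟙 _) (Category.comp_id _) (Category.comp_id _)
    have rm : Set.range m = pullback.fst f g ⁻¹' X' ∩ pullback.snd f g ⁻¹' Y' := by
      rw [Scheme.Pullback.range_map, rX, rY]
    haveI : Flat (iX ≫ f) := Groth.Agent.AlgSpLib.flat_of_field _
    haveI : Flat (iY ≫ g) := Groth.Agent.AlgSpLib.flat_of_field _
    obtain ⟨w₀, hw₀⟩ : w ∈ Set.range m := rm.symm ▸ hWsub hw0.mem
    have hminZ : ∀ t, t ∈ Set.range m → t ⤳ w → t = w := by
      intro t ht htw
      have hZc : IsClosed (Set.range m) := rm.symm ▸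
        (hX'c.preimage (pullback.fst f g).continuous).inter (hY'c.preimage (pullback.snd f g).continuous)
      have hsub : closure {t} ⊆ pullback.fst f g ⁻¹' X' ∩ pullback.snd f g ⁻¹' Y' :=
        rm ▸ closure_minimal (Set.singleton_subset_iff.2 ht) hZc
      have hle : W ⊆ closure {t} := fun x hx => (htw.trans (hw0.specializes hx)).mem_closure
      have := hmax ⟨isIrreducible_singleton.closure, hsub⟩ hle (subset_closure rfl)
      exact (htw.antisymm (hw0.specializes this)).eq
    have hproj : ∀ {T T' : Scheme.{u}} (p : pullback f g ⟶ T) (p' : pullback (iX ≫ f) (iY ≫ g) ⟶ T') (i : T' ⟶ T)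
        (C : Set ↥T), IsClosedImmersion i → Flat p' → m ≫ p = p' ≫ i → Set.range i = C →
        C ∈ irreducibleComponents ↥T → closure {p w} = C := by
      intro T T' p p' i C hi hp' hcomm hr hC
      have hcom : ∀ z, p (m z) = i (p' z) := fun z => by
        rw [← Scheme.Hom.comp_apply, hcomm, Scheme.Hom.comp_apply]
      have hξ : IsGenericPoint hC.1.genericPoint C :=
        hC.1.isGenericPoint_genericPoint (isClosed_of_mem_irreducibleComponents C hC)
      obtain ⟨ξ, hξ'⟩ : hC.1.genericPoint ∈ Set.range i := hr.symm ▸ hξ.mem
      have hs : ξ ⤳ p' w₀ := by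
        rw [← i.isClosedEmbedding.isInducing.specializes_iff, hξ']
        exact hξ.specializes (hr ▸ Set.mem_range_self _)
      obtain ⟨t, ht, hte⟩ := Flat.generalizingMap p' hs
      have h1 : m t = w := hminZ _ (Set.mem_range_self t) (hw₀ ▸ ht.map m.continuous)
      rw [← h1, hcom, hte, hξ']
      exact hξ
    have hfst := hproj (pullback.fst f g) (pullback.fst (iX ≫ f) (iY ≫ g)) iX X' inferInstance inferInstance
      (pullback.lift_fst _ _ _) rX hX'
    have hsnd := hproj (pullback.snd f g) (pullback.snd (iX ≫ f) (iY ≫ g)) iY Y' inferInstance inferInstance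
      (pullback.lift_snd _ _ _) rY hY'
    obtain ⟨W', hW', hWW'⟩ := exists_mem_irreducibleComponents_subset_of_isIrreducible W hWirr
    have hWc' := isClosed_of_mem_irreducibleComponents W' hW'
    have hw' : IsGenericPoint hW'.1.genericPoint W' := hW'.1.isGenericPoint_genericPoint hWc'
    set w' := hW'.1.genericPoint
    have hs : w' ⤳ w := hw'.specializes (hWW' hw0.mem)
    have e1 := comp_gen X' hX' _ _ hfst (hs.map (pullback.fst f g).continuous)
    have e2 := comp_gen Y' hY' _ _ hsnd (hs.map (pullback.snd f g).continuous)
    have hsub : W' ⊆ pullback.fst f g ⁻¹' X' ∩ pullback.snd f g ⁻¹' Y' := fun x hx => by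
      have hsp := hw'.specializes hx
      refine ⟨?_, ?_⟩
      · have h := (hsp.map (pullback.fst f g).continuous).mem_closure
        rw [e1, hfst] at h
        exact h
      · have h := (hsp.map (pullback.snd f g).continuous).mem_closure
        rw [e2, hsnd] at h
        exact h
    have : W = W' := Set.Subset.antisymm hWW' (hmax ⟨hW'.1, hsub⟩ hWW')
    rwa [this]

end Groth.Agent.S4672
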