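import Groth.Statements.S4674


set_option autoImplicit false
open scoped TensorProduct
universe u v w
open FDesc

namespace Groth.Agent.S4674

/-- Let B be a flat A-algebra and M a finitely presented A-module. Then the annihilator of the B-module
B ⊗_A M is the ideal of B generated by the image of the annihilator of M. -/
theorem result {A : Type u} {B : Type v} [CommRing A] [CommRing B] [Algebra A B]
    [Module.Flat A B] (M : Type w) [AddCommGroup M] [Module A M] [Module.FinitePresentation A M] :
    Module.annihilator B (B ⊗[A] M) = (Module.annihilator A M).map (algebraMap A B) := by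
  classical
  apply le_antisymm
  · intro b hb
    obtain ⟨n, m, hm⟩ := Module.Finite.exists_fin (R := A) (M := M)
    let f : A →ₗ[A] (Fin n → M) := LinearMap.pi fun i => LinearMap.toSpanSingleton A M (m i)
    have hker : Module.annihilator A M = LinearMap.ker f := by
      ext a
      rw [Module.mem_annihilator, LinearMap.mem_ker]
      refine ⟨fun h => funext fun i => h _, fun h x => ?_⟩
      have hx : x ∈ Submodule.span A (Set.range m) := hm ▸ trivial
      induction hx using Submodule.span_induction with
      | mem y hy => obtain ⟨i, rfl⟩ := hy; exact congrFun h i
      | zero => simp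
      | add y z _ _ hy hz => rw [smul_add, hy, hz, add_zero]
      | smul c y _ hy => rw [smul_comm, hy, smul_zero]
    have hex : Function.Exact (Module.annihilator A M).subtype f := by
      rw [LinearMap.exact_iff, Submodule.range_subtype, hker]
    have hex' := Module.Flat.lTensor_exact (R := A) B hex
    have h0 : f.lTensor B (b ⊗ₜ[A] (1 : A)) = 0 := by
      apply (TensorProduct.piRight A A B (fun _ : Fin n => M)).injective
      rw [map_zero]
      funext i
      rw [LinearMap.lTensor_tmul, TensorProduct.piRight_apply,
        TensorProduct.piRightHom_tmul, Pi.zero_apply]
      have := Module.mem_annihilator.1 hb ((1 : B) ⊗ₜ[A] m i)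
      rw [TensorProduct.smul_tmul', smul_eq_mul, mul_one] at this
      simpa [f] using this
    obtain ⟨z, hz⟩ := (hex' _).1 h0
    have hb' : b = Algebra.TensorProduct.rid A A B (b ⊗ₜ[A] (1 : A)) := by simp
    rw [hb', ← hz]
    clear hz
    induction z using TensorProduct.induction_on with
    | zero => simp
    | tmul x y =>
      rw [LinearMap.lTensor_tmul, Submodule.subtype_apply, Algebra.TensorProduct.rid_tmul,
        Algebra.smul_def]
      exact Ideal.mul_mem_right _ _ (Ideal.mem_map_of_mem _ y.2)
    | add x y hx hy => rw [map_add, map_add]; exact add_mem hx hy
  · rw [Ideal.map_le_iff_le_comap]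
    intro a ha
    rw [Ideal.mem_comap, Module.mem_annihilator]
    intro z
    induction z using TensorProduct.induction_on with
    | zero => simp
    | tmul x y =>
      rw [algebraMap_smul, TensorProduct.smul_tmul', TensorProduct.smul_tmul,
        Module.mem_annihilator.1 ha, TensorProduct.tmul_zero]
    | add x y hx hy => rw [smul_add, hx, hy, add_zero]

end Groth.Agent.S4674
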