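import Groth.Statements.S4675
import Mathlib

set_option autoImplicit false
universe u v
open FDesc

namespace Groth.Agent.S4675

/-- Let B be a ring, not necessarily commutative, and V, W two left B-modules which are isomorphic. For
a B-linear map u : V → W the following are equivalent: every B-linear map V → W can be written
uniquely as u ∘ c with c a B-linear endomorphism of V (that is, u is a basis of Hom_B(V, W) for its
right module structure over End_B(V)); u is bijective. -/
theorem result {B : Type u} [Ring B] {V W : Type v} [AddCommGroup V] [AddCommGroup W]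
    [Module B V] [Module B W] (e : V ≃ₗ[B] W) (u : V →ₗ[B] W) :
    (∀ v : V →ₗ[B] W, ∃! c : V →ₗ[B] V, v = u ∘ₗ c) ↔ Function.Bijective u := by
  constructor
  · intro h
    obtain ⟨c0, hc0, -⟩ := h e.toLinearMap
    let c1 : W →ₗ[B] V := c0 ∘ₗ e.symm.toLinearMap
    have h1 : u ∘ₗ c1 = LinearMap.id := by
      rw [← LinearMap.comp_assoc, ← hc0]; ext; simp
    obtain ⟨c, hc, hu⟩ := h u
    have h2 : c1 ∘ₗ u = LinearMap.id := by
      have ha := hu (c1 ∘ₗ u) (by simp only; rw [← LinearMap.comp_assoc, h1, LinearMap.id_comp])
      have hb := hu LinearMap.id (LinearMap.comp_id u).symm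
      rw [ha, hb]
    exact ⟨fun x y hxy => (LinearMap.congr_fun h2 x).symm.trans
        ((congrArg c1 hxy).trans (LinearMap.congr_fun h2 y)),
      fun w => ⟨c1 w, LinearMap.congr_fun h1 w⟩⟩
  · intro hu v
    refine ⟨(LinearEquiv.ofBijective u hu).symm.toLinearMap ∘ₗ v, ?_, ?_⟩
    · ext x; simp [LinearEquiv.ofBijective_symm_apply_apply]
    · intro c hc
      ext x
      apply hu.1
      simp [← LinearMap.comp_apply u c, ← hc]

end Groth.Agent.S4675
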