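import Groth.Statements.S4680
import Groth.Agent.FlatModBC.Basic
-- import your own Groth.Agent.* helpers here

set_option autoImplicit false
set_option backward.isDefEq.respectTransparency false
set_option linter.style.haveILetI false
open CategoryTheory AlgebraicGeometry
universe u
open FDesc

namespace Groth.Agent.S4680

open CategoryTheory.Limits TensorProduct in
set_option synthInstance.maxHeartbeats 400000 in
set_option maxHeartbeats 1600000 in
theorem fibre_nonvanishing {X Y X' Y' : Scheme.{u}} {f : X ⟶ Y} {f' : X' ⟶ Y'} {p : X' ⟶ X} {g : Y' ⟶ Y}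
    (hc : IsPullback p f' f g) (F : X.Modules) (hF : Coh.IsQCoh F)
    {V : Y.Opens} (hV : IsAffineOpen V) {W : X.Opens} (hW : IsAffineOpen W) (e : W ≤ f ⁻¹ᵁ V)
    {O : Y'.Opens} (hO : IsAffineOpen O) (eO : O ≤ g ⁻¹ᵁ V) {x : X} (hxW : x ∈ W)
    {y' : Y'} (hyO : y' ∈ O) (hx : f x = g y')
    (hN : letI := FlatMod.moduleStalkOver f F x
      IsLocalRing.maximalIdeal (Y.presheaf.stalk (f x)) • (⊤ : Submodule (Y.presheaf.stalk (f x)) (F.presheaf.stalk x)) ≠ ⊤) :
    ∃ x' : ↥X', f' x' = y' ∧
      letI := FlatMod.moduleStalkOver f' ((Scheme.Modules.pullback p).obj F) x'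
      IsLocalRing.maximalIdeal (Y'.presheaf.stalk (f' x')) • (⊤ : Submodule (Y'.presheaf.stalk (f' x')) (((Scheme.Modules.pullback p).obj F).presheaf.stalk x')) ≠ ⊤ := by
  let A := Γ(Y, V)
  let B := Γ(X, W)
  let C := Γ(Y', O)
  let W' : X'.Opens := p ⁻¹ᵁ W ⊓ f' ⁻¹ᵁ O
  have hW' : IsAffineOpen W' := by
    haveI : IsAffine _ := hV
    haveI : IsAffine _ := hW
    haveI : IsAffine _ := hO
    exact .of_isIso (Scheme.Hom.isPullback_resLE hc eO e (rfl : W' = _)).isoPullback.hom
  have hP := (isIso_pushoutSection_iff hc eO e (rfl : W' = _)).1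
    (isIso_pushoutSection_of_isAffineOpen hc eO e rfl hV hO hW)
  let B' := Γ(X', W')
  letI : Algebra A B := (f.appLE V W e).hom.toAlgebra
  letI : Algebra A C := (g.appLE V O eO).hom.toAlgebra
  letI : Algebra B B' := (p.appLE W W' inf_le_left).hom.toAlgebra
  letI : Algebra C B' := (f'.appLE O W' inf_le_right).hom.toAlgebra
  letI : Algebra A B' := ((algebraMap B B').comp (algebraMap A B)).toAlgebra
  haveI : IsScalarTower A B B' := IsScalarTower.of_algebraMap_eq fun _ => rfl
  haveI : IsScalarTower A C B' := IsScalarTower.of_algebraMap_eq fun a => congr($(hP.w).hom a)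
  haveI : Algebra.IsPushout A B C B' := CommRingCat.isPushout_iff_isPushout.1 hP
  let M : Type u := Γ(F, W)
  letI : Module A M := Module.compHom M (algebraMap A B)
  haveI : IsScalarTower A B M := IsScalarTower.of_algebraMap_smul fun _ _ => rfl
  let K := IsLocalRing.ResidueField (Y'.presheaf.stalk y')
  let ψ : C →+* K := (IsLocalRing.residue _).comp (Y'.presheaf.germ O y' hyO).hom
  letI : Algebra A K := (ψ.comp (algebraMap A C)).toAlgebra
  let ψA : C →ₐ[A] K := { toRingHom := ψ, commutes' := fun _ => rfl }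
  have hψ : ∀ c : C, ψ c = 0 ↔ c ∈ (hO.primeIdealOf ⟨y', hyO⟩).asIdeal := fun c => by
    letI := Y'.presheaf.algebra_section_stalk (⟨y', hyO⟩ : O)
    haveI : IsLocalization.AtPrime (Y'.presheaf.stalk y') (hO.primeIdealOf ⟨y', hyO⟩).asIdeal :=
      hO.isLocalization_stalk ⟨y', hyO⟩
    show IsLocalRing.residue _ (algebraMap C (Y'.presheaf.stalk y') c) = 0 ↔ _
    rw [IsLocalRing.residue_eq_zero_iff]
    exact IsLocalization.AtPrime.to_map_mem_maximal_iff _ _ c
  have hKM : Nontrivial (K ⊗[A] M) := by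
    let k0 := IsLocalRing.ResidueField (Y.presheaf.stalk (f x))
    obtain ⟨ι, hι⟩ : ∃ ι : k0 →+* K, ∀ a : A,
        ι (IsLocalRing.residue _ ((Y.presheaf.germ V (f x) (e hxW)).hom a)) = ψ (algebraMap A C a) := by
      have key : ∀ (y0 : Y) (h0 : y0 ∈ V), y0 = g y' →
          ∃ ι : IsLocalRing.ResidueField (Y.presheaf.stalk y0) →+* K, ∀ a : A,
            ι (IsLocalRing.residue _ ((Y.presheaf.germ V y0 h0).hom a)) = ψ (algebraMap A C a) := by
        intro y0 h0 heq
        subst heq
        refine ⟨IsLocalRing.ResidueField.map (g.stalkMap y').hom, fun a => ?_⟩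
        rw [IsLocalRing.ResidueField.map_residue]
        exact congrArg (IsLocalRing.residue _) (FibCrit.germ_comm g V O eO y' hyO a)
      exact key (f x) (e hxW) hx
    letI : Algebra A k0 :=
      ((IsLocalRing.residue _).comp (Y.presheaf.germ V (f x) (e hxW)).hom).toAlgebra
    letI : Algebra k0 K := ι.toAlgebra
    haveI : IsScalarTower A k0 K := IsScalarTower.of_algebraMap_eq fun a => (hι a).symm
    have hk0 : Nontrivial (k0 ⊗[A] M) := by
      let Oy := Y.presheaf.stalk (f x)
      letI : Algebra A Oy := (Y.presheaf.germ V (f x) (e hxW)).hom.toAlgebra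
      let R := X.presheaf.stalk x
      let N : Type u := F.presheaf.stalk x
      letI : Algebra B R := (X.presheaf.germ W x hxW).hom.toAlgebra
      haveI : IsLocalization.AtPrime R (hW.primeIdealOf ⟨x, hxW⟩).asIdeal := hW.isLocalization_stalk ⟨_, hxW⟩
      letI : Module Oy N := FlatMod.moduleStalkOver f F x
      letI : Module B N := Module.compHom N (X.presheaf.germ W x hxW).hom
      haveI : IsScalarTower B R N := IsScalarTower.of_algebraMap_smul fun _ _ => rfl
      letI : Module A N := Module.compHom N (algebraMap A Oy)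
      haveI : IsScalarTower A Oy N := IsScalarTower.of_algebraMap_smul fun _ _ => rfl
      haveI : IsScalarTower A B N := IsScalarTower.of_algebraMap_smul fun a n => by
        show (X.presheaf.germ W x hxW).hom ((f.appLE V W e).hom a) • n =
          (f.stalkMap x).hom ((Y.presheaf.germ V (f x) (e hxW)).hom a) • n
        rw [← FibCrit.germ_comm f V W e x hxW a]
      obtain ⟨gM, hgM⟩ := LocFree.exists_stalkMap hW hF hxW
      haveI := hgM
      have hbc : IsBaseChange R gM :=
        (isLocalizedModule_iff_isBaseChange (hW.primeIdealOf ⟨x, hxW⟩).asIdeal.primeCompl R gM).1 hgM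
      let I := IsLocalRing.maximalIdeal Oy
      let S0 : Submodule Oy N := I • ⊤
      have hR : ∀ (r : R) (n : N), n ∈ S0 → r • n ∈ S0 := fun r n hn => by
        refine Submodule.smul_induction_on hn (fun a ha m _ => ?_) fun a b ha hb => ?_
        · have h' : a • r • m ∈ S0 := Submodule.smul_mem_smul ha trivial
          have h'' : r • a • m = a • r • m := by
            show r • (f.stalkMap x).hom a • m = (f.stalkMap x).hom a • r • m
            rw [smul_smul, smul_smul, mul_comm]
          rw [h'']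
          exact h'
        · rw [smul_add]
          exact add_mem ha hb
      obtain ⟨m0, hm0⟩ : ∃ m : M, gM m ∉ S0 := by
        by_contra! hall
        refine hN (eq_top_iff.2 fun n _ => ?_)
        induction n using hbc.inductionOn with
        | zero => exact zero_mem _
        | tmul m => exact hall m
        | smul r n hn => exact hR r n (hn trivial)
        | add n1 n2 h1 h2 => exact add_mem (h1 trivial) (h2 trivial)
      letI : Module k0 (N ⧸ S0) := show Module (Oy ⧸ I) (N ⧸ I • (⊤ : Submodule Oy N)) from inferInstance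
      haveI : IsScalarTower A k0 (N ⧸ S0) := IsScalarTower.of_algebraMap_smul fun a q => by
        obtain ⟨n, rfl⟩ := Submodule.Quotient.mk_surjective S0 q
        rfl
      let φ : M →ₗ[A] N ⧸ S0 := (S0.mkQ.restrictScalars A).comp (gM.restrictScalars A)
      refine nontrivial_of_ne ((1 : k0) ⊗ₜ[A] m0) 0 fun h0 => hm0 ?_
      have h1 := congrArg (φ.liftBaseChange k0) h0
      rw [LinearMap.liftBaseChange_tmul, one_smul, map_zero] at h1
      exact (Submodule.Quotient.mk_eq_zero S0).1 h1
    haveI := hk0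
    haveI : Module.Free k0 K := Module.Free.of_divisionRing k0 K
    haveI : Module.FaithfullyFlat k0 K := inferInstance
    haveI : Nontrivial (K ⊗[k0] (k0 ⊗[A] M)) := Module.FaithfullyFlat.lTensor_nontrivial k0 K _
    exact (AlgebraTensorModule.cancelBaseChange A k0 K K M).toEquiv.nontrivial_congr.1 inferInstance
  let T := B ⊗[A] K
  let φ : B' →ₐ[A] T := Algebra.pushoutDesc B' (Algebra.TensorProduct.includeLeft)
    ((Algebra.TensorProduct.includeRight).comp ψA) fun _ _ => mul_comm _ _
  have hφB : ∀ b : B, φ (algebraMap B B' b) = b ⊗ₜ[A] (1 : K) := fun b =>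
    Algebra.pushoutDesc_left _ _ _ _ b
  have hφC : ∀ c : C, φ (algebraMap C B' c) = (1 : B) ⊗ₜ[A] ψ c := fun c =>
    Algebra.pushoutDesc_right _ _ _ _ c
  haveI : Nontrivial (T ⊗[B] M) := by
    haveI : Nontrivial (M ⊗[A] K) := (TensorProduct.comm A K M).toEquiv.nontrivial_congr.1 hKM
    exact ((TensorProduct.comm B T M).trans
      (AlgebraTensorModule.cancelBaseChange A B B M K)).toEquiv.nontrivial_congr.2 inferInstance
  obtain ⟨P, hPs⟩ := (Module.nonempty_support_iff (R := T) (M := T ⊗[B] M)).2 inferInstance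
  let L2 := Localization.AtPrime P.asIdeal
  haveI : Nontrivial (L2 ⊗[B] M) := by
    haveI : Nontrivial (LocalizedModule P.asIdeal.primeCompl (T ⊗[B] M)) := hPs
    haveI : Nontrivial (L2 ⊗[T] (T ⊗[B] M)) :=
      (LocalizedModule.equivTensorProduct P.asIdeal.primeCompl (T ⊗[B] M)).toEquiv.nontrivial_congr.1 inferInstance
    exact (AlgebraTensorModule.cancelBaseChange B T L2 L2 M).toEquiv.nontrivial_congr.1 inferInstance
  let P' : PrimeSpectrum B' := PrimeSpectrum.comap φ.toRingHom P
  let x' : X' := hW'.fromSpec P'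
  obtain ⟨hxW', hprime⟩ := InjFibre.primeIdealOf_fromSpec hW' P'
  have hmemP : ∀ c : C, algebraMap C B' c ∈ P'.asIdeal ↔ c ∈ (hO.primeIdealOf ⟨y', hyO⟩).asIdeal := fun c => by
    show φ (algebraMap C B' c) ∈ P.asIdeal ↔ _
    rw [hφC, ← hψ]
    refine ⟨fun h => ?_, fun h => by rw [h, tmul_zero]; exact zero_mem _⟩
    by_contra h0
    exact P.isPrime.ne_top (P.asIdeal.eq_top_of_isUnit_mem h
      ((isUnit_iff_ne_zero.2 h0).map (Algebra.TensorProduct.includeRight : K →ₐ[A] T)))
  have hfx : f' x' = y' := by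
    have h1 := congr($(IsAffineOpen.SpecMap_appLE_fromSpec f' hO hW' (inf_le_right : W' ≤ f' ⁻¹ᵁ O)) P')
    rw [Scheme.Hom.comp_apply, Scheme.Hom.comp_apply] at h1
    have h2 : (Spec.map (f'.appLE O W' inf_le_right)) P' = hO.primeIdealOf ⟨y', hyO⟩ :=
      PrimeSpectrum.ext (Ideal.ext hmemP)
    rw [h2, hO.fromSpec_primeIdealOf] at h1
    exact h1.symm
  refine ⟨x', hfx, ?_⟩
  intro htop
  have hxW1 : p x' ∈ W := hxW'.1
  have hxO : f' x' ∈ O := hxW'.2
  let R := X.presheaf.stalk (p x')
  let L := X'.presheaf.stalk x'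
  let N : Type u := F.presheaf.stalk (p x')
  letI : Algebra B R := (X.presheaf.germ W (p x') hxW1).hom.toAlgebra
  haveI : IsLocalization.AtPrime R (hW.primeIdealOf ⟨p x', hxW1⟩).asIdeal := hW.isLocalization_stalk ⟨_, hxW1⟩
  letI : Algebra B' L := (X'.presheaf.germ W' x' hxW').hom.toAlgebra
  haveI : IsLocalization.AtPrime L (hW'.primeIdealOf ⟨x', hxW'⟩).asIdeal := hW'.isLocalization_stalk ⟨_, hxW'⟩
  have hu : ∀ s : (hW'.primeIdealOf ⟨x', hxW'⟩).asIdeal.primeCompl,
      IsUnit ((algebraMap T L2).comp φ.toRingHom s.1) := fun s =>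
    IsLocalization.map_units (M := P.asIdeal.primeCompl) L2 ⟨φ s.1, fun h =>
      s.2 ((SetLike.ext_iff.1 (congrArg PrimeSpectrum.asIdeal hprime) s.1).2 h)⟩
  let χ : L →+* L2 := IsLocalization.lift hu
  have hχ : ∀ b : B', χ (algebraMap B' L b) = algebraMap T L2 (φ b) := fun b => IsLocalization.lift_eq _ b
  letI : Algebra R L := (p.stalkMap x').hom.toAlgebra
  letI : Algebra L L2 := χ.toAlgebra
  letI : Algebra R L2 := (χ.comp (algebraMap R L)).toAlgebra
  haveI : IsScalarTower R L L2 := IsScalarTower.of_algebraMap_eq fun _ => rfl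
  haveI : IsScalarTower B R L2 := IsScalarTower.of_algebraMap_eq fun b => by
    show algebraMap B L2 b = χ ((p.stalkMap x').hom ((X.presheaf.germ W (p x') hxW1).hom b))
    rw [FibCrit.germ_comm p W W' inf_le_left x' hxW' b]
    refine Eq.trans ?_ (hχ _).symm
    show _ = algebraMap T L2 (φ (algebraMap B B' b))
    rw [hφB, IsScalarTower.algebraMap_apply B T L2]
    rfl
  letI : Module B N := Module.compHom N (X.presheaf.germ W (p x') hxW1).hom
  haveI : IsScalarTower B R N := IsScalarTower.of_algebraMap_smul fun _ _ => rfl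
  let eP : ((Scheme.Modules.pullback p).obj F).presheaf.stalk x' ≃ₗ[L] L ⊗[R] N :=
    ((KFlat.pullStalkIso p x').app F).toLinearEquiv
  let ρ : L ⊗[R] N →ₗ[L] L2 ⊗[R] N :=
    AlgebraTensorModule.map (Algebra.linearMap L L2) LinearMap.id
  letI := FlatMod.moduleStalkOver f' ((Scheme.Modules.pullback p).obj F) x'
  letI : Algebra C (Y'.presheaf.stalk (f' x')) := (Y'.presheaf.germ O (f' x') hxO).hom.toAlgebra
  haveI : IsLocalization.AtPrime (Y'.presheaf.stalk (f' x')) (hO.primeIdealOf ⟨f' x', hxO⟩).asIdeal :=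
    hO.isLocalization_stalk ⟨f' x', hxO⟩
  have hkill : ∀ a ∈ IsLocalRing.maximalIdeal (Y'.presheaf.stalk (f' x')),
      χ ((f'.stalkMap x').hom a) = 0 := by
    intro a ha
    rw [← IsLocalization.AtPrime.map_eq_maximalIdeal (hO.primeIdealOf ⟨f' x', hxO⟩).asIdeal] at ha
    refine (Ideal.map_le_iff_le_comap (f := algebraMap C (Y'.presheaf.stalk (f' x')))
      (K := RingHom.ker (χ.comp (f'.stalkMap x').hom))).2 ?_ ha
    intro c hc
    show χ ((f'.stalkMap x').hom ((Y'.presheaf.germ O (f' x') hxO).hom c)) = 0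
    rw [FibCrit.germ_comm f' O W' inf_le_right x' hxW' c]
    refine (hχ _).trans ?_
    show algebraMap T L2 (φ (algebraMap C B' c)) = 0
    rw [hφC, (hψ c).2 ?_, tmul_zero, map_zero]
    have h2 : (⟨f' x', hxO⟩ : O) = ⟨y', hyO⟩ := Subtype.ext hfx
    rwa [h2] at hc
  have hzero : ∀ n : N, (1 : L2) ⊗ₜ[R] n = 0 := by
    intro n
    have hρ : ρ ((1 : L) ⊗ₜ[R] n) = (1 : L2) ⊗ₜ[R] n := by
      simp only [ρ, AlgebraTensorModule.map_tmul, Algebra.linearMap_apply, map_one, LinearMap.id_apply]
    rw [← hρ, ← eP.apply_symm_apply ((1 : L) ⊗ₜ[R] n)]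
    refine Submodule.smul_induction_on (p := fun w => ρ (eP w) = 0)
      (show eP.symm ((1 : L) ⊗ₜ[R] n) ∈ _ from htop ▸ Submodule.mem_top) (fun a ha w _ => ?_) fun v w hv hw => ?_
    · show ρ (eP ((f'.stalkMap x').hom a • w)) = 0
      rw [map_smul, map_smul, ← algebraMap_smul L2 ((f'.stalkMap x').hom a) (ρ (eP w))]
      show χ ((f'.stalkMap x').hom a) • _ = 0
      rw [hkill a ha, zero_smul]
    · rw [map_add, map_add, hv, hw, add_zero]
  haveI : Subsingleton (L2 ⊗[R] N) := subsingleton_of_forall_eq 0 fun t => by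
    induction t using TensorProduct.induction_on with
    | zero => rfl
    | tmul l n => rw [← mul_one l, ← smul_eq_mul, ← smul_tmul', hzero, smul_zero]
    | add a b ha hb => rw [ha, hb, add_zero]
  obtain ⟨gM, hgM⟩ := LocFree.exists_stalkMap hW hF hxW1
  have hbc : IsBaseChange R gM :=
    (isLocalizedModule_iff_isBaseChange (hW.primeIdealOf ⟨p x', hxW1⟩).asIdeal.primeCompl R gM).1 hgM
  let eM : L2 ⊗[B] M ≃ₗ[L2] L2 ⊗[R] N := (AlgebraTensorModule.cancelBaseChange B R L2 L2 M).symm.trans
    (AlgebraTensorModule.congr (LinearEquiv.refl L2 L2) hbc.equiv)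
  haveI : Nontrivial (L2 ⊗[R] N) := eM.toEquiv.nontrivial_congr.1 inferInstance
  exact false_of_nontrivial_of_subsingleton (L2 ⊗[R] N)

open CategoryTheory.Limits in
/-- Let f : X → Y and g : Y' → Y be morphisms of schemes, X' = X ×_Y Y' with projections p : X' → X and
f' : X' → Y', and F a quasi-coherent O_X-module which is faithfully flat relative to Y: flat over Y,
and for every point y of Y there is a point x over y with F_x ⊗ κ(y) ≠ 0. Then F' = p^*F is
faithfully flat relative to Y': flat over Y', and for every point y' of Y' there is a point x' of X'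
over y' with F'_{x'} ⊗ κ(y') ≠ 0. -/
theorem result {X Y Y' : Scheme.{u}} (f : X ⟶ Y) (g : Y' ⟶ Y)
    (F : X.Modules) (hF : Coh.IsQCoh F) (hFfl : FlatMod.IsFlatOver f F)
    (hFff : (∀ y : ↥Y, ∃ x : ↥X, f x = y ∧
      letI := FlatMod.moduleStalkOver f F x
      IsLocalRing.maximalIdeal (Y.presheaf.stalk (f x)) • (⊤ : Submodule (Y.presheaf.stalk (f x)) (F.presheaf.stalk x)) ≠ ⊤)) :
    FlatMod.IsFlatOver (pullback.snd f g) ((Scheme.Modules.pullback (pullback.fst f g)).obj F) ∧
      (∀ y' : ↥Y', ∃ x' : ↥(pullback f g), (pullback.snd f g) x' = y' ∧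
      letI := FlatMod.moduleStalkOver (pullback.snd f g) ((Scheme.Modules.pullback (pullback.fst f g)).obj F) x'
      IsLocalRing.maximalIdeal (Y'.presheaf.stalk ((pullback.snd f g) x')) • (⊤ : Submodule (Y'.presheaf.stalk ((pullback.snd f g) x')) (((Scheme.Modules.pullback (pullback.fst f g)).obj F).presheaf.stalk x')) ≠ ⊤) := by
  refine ⟨fun x' => Groth.Agent.FlatModBC.isFlatOverAt_baseChange (IsPullback.of_hasPullback f g) F x' (hFfl _),
    fun y' => ?_⟩
  obtain ⟨x, hx, hN⟩ := hFff (g y')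
  obtain ⟨V, hV, hxV, -⟩ := exists_isAffineOpen_mem_and_subset (X := Y) (x := f x) (U := ⊤) trivial
  obtain ⟨W, hW, hxW, e⟩ := exists_isAffineOpen_mem_and_subset (X := X) (x := x) (U := f ⁻¹ᵁ V) hxV
  obtain ⟨O, hO, hyO, eO⟩ := exists_isAffineOpen_mem_and_subset (X := Y') (x := y') (U := g ⁻¹ᵁ V)
    (show g y' ∈ V from hx ▸ hxV)
  exact fibre_nonvanishing (IsPullback.of_hasPullback f g) F hF hV hW e hO eO hxW hyO hx hN

end Groth.Agent.S4680
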