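import Groth.Statements.S4681
import Groth.Agent.FlatModB.FFDesc

set_option autoImplicit false
set_option backward.isDefEq.respectTransparency false
open CategoryTheory AlgebraicGeometry
universe u
open FDesc Groth.Agent

namespace Groth.Agent.S4681

/-- Let f : X → Y and g : Y → Z be morphisms of schemes and F a quasi-coherent O_X-module which is
faithfully flat relative to Y: flat over Y, and for every point y of Y there is a point x over y
with F_x ⊗ κ(y) ≠ 0. Then g is flat and surjective (faithfully flat) if and only if F is faithfully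
flat relative to Z for the morphism f followed by g: flat over Z, and for every point z of Z there
is a point x of X over z with F_x ⊗ κ(z) ≠ 0. -/
theorem result {X Y Z : Scheme.{u}} (f : X ⟶ Y) (g : Y ⟶ Z)
    (F : X.Modules) (hF : Coh.IsQCoh F) (hFfl : FlatMod.IsFlatOver f F)
    (hFff : (∀ y : ↥Y, ∃ x : ↥X, f x = y ∧
      letI := FlatMod.moduleStalkOver f F x
      IsLocalRing.maximalIdeal (Y.presheaf.stalk (f x)) • (⊤ : Submodule (Y.presheaf.stalk (f x)) (F.presheaf.stalk x)) ≠ ⊤)) :
    (Flat g ∧ Surjective g) ↔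
      (FlatMod.IsFlatOver (f ≫ g) F ∧
        (∀ z : ↥Z, ∃ x : ↥X, (f ≫ g) x = z ∧
      letI := FlatMod.moduleStalkOver (f ≫ g) F x
      IsLocalRing.maximalIdeal (Z.presheaf.stalk ((f ≫ g) x)) • (⊤ : Submodule (Z.presheaf.stalk ((f ≫ g) x)) (F.presheaf.stalk x)) ≠ ⊤)) := by
  have hcomp : ∀ (x : X) (a : Z.presheaf.stalk ((f ≫ g) x)),
      ((f ≫ g).stalkMap x).hom a = (f.stalkMap x).hom ((g.stalkMap (f x)).hom a) :=
    fun x a => congr($(Scheme.Hom.stalkMap_comp f g x) a)
  constructor
  · rintro ⟨hg, hgs⟩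
    refine ⟨fun x => ?_, fun z => ?_⟩
    · let R := Z.presheaf.stalk ((f ≫ g) x)
      letI : Algebra R (Y.presheaf.stalk (f x)) := (g.stalkMap (f x)).hom.toAlgebra
      letI := FlatMod.moduleStalkOver f F x
      letI := FlatMod.moduleStalkOver (f ≫ g) F x
      haveI : IsScalarTower R (Y.presheaf.stalk (f x)) (F.presheaf.stalk x) :=
        IsScalarTower.of_algebraMap_smul fun a m => by
          change (f.stalkMap x).hom ((g.stalkMap (f x)).hom a) • m = ((f ≫ g).stalkMap x).hom a • m
          rw [hcomp]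
      haveI : Module.Flat R (Y.presheaf.stalk (f x)) := Flat.stalkMap g (f x)
      haveI : Module.Flat (Y.presheaf.stalk (f x)) (F.presheaf.stalk x) := hFfl x
      exact Module.Flat.trans R (Y.presheaf.stalk (f x)) (F.presheaf.stalk x)
    · obtain ⟨y, rfl⟩ := g.surjective z
      obtain ⟨x, rfl, hx⟩ := hFff y
      refine ⟨x, rfl, fun htop => hx (eq_top_iff.2 fun m _ => ?_)⟩
      letI := FlatMod.moduleStalkOver f F x
      letI := FlatMod.moduleStalkOver (f ≫ g) F x
      have hm : m ∈ IsLocalRing.maximalIdeal (Z.presheaf.stalk ((f ≫ g) x)) •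
          (⊤ : Submodule (Z.presheaf.stalk ((f ≫ g) x)) (F.presheaf.stalk x)) := by rw [htop]; trivial
      refine Submodule.smul_induction_on hm (fun a ha n _ => ?_) fun a b ha hb => add_mem ha hb
      change ((f ≫ g).stalkMap x).hom a • n ∈ _
      rw [hcomp]
      refine Submodule.smul_mem_smul (r := (g.stalkMap (f x)).hom a) (n := n) ?_ trivial
      intro hu
      exact (IsLocalRing.mem_maximalIdeal a).1 ha (isUnit_of_map_unit (g.stalkMap (f x)).hom a hu)
  · rintro ⟨hfl, hff⟩
    refine ⟨?_, ⟨fun z => ?_⟩⟩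
    · refine Flat.of_stalkMap g fun y => ?_
      obtain ⟨x, rfl, hx⟩ := hFff y
      let R := Z.presheaf.stalk ((f ≫ g) x)
      letI : Algebra R (Y.presheaf.stalk (f x)) := (g.stalkMap (f x)).hom.toAlgebra
      letI := FlatMod.moduleStalkOver f F x
      letI := FlatMod.moduleStalkOver (f ≫ g) F x
      haveI : IsScalarTower R (Y.presheaf.stalk (f x)) (F.presheaf.stalk x) :=
        IsScalarTower.of_algebraMap_smul fun a m => by
          change (f.stalkMap x).hom ((g.stalkMap (f x)).hom a) • m = ((f ≫ g).stalkMap x).hom a • m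
          rw [hcomp]
      haveI : Module.Flat (Y.presheaf.stalk (f x)) (F.presheaf.stalk x) := hFfl x
      haveI : Module.Flat R (F.presheaf.stalk x) := hfl x
      haveI := FlatModB.faithfullyFlat_of_local (Y.presheaf.stalk (f x)) (F.presheaf.stalk x) hx
      exact FlatModB.flat_of_faithfullyFlat_module R (Y.presheaf.stalk (f x)) (F.presheaf.stalk x)
    · obtain ⟨x, hx, -⟩ := hff z
      exact ⟨f x, hx⟩

end Groth.Agent.S4681
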