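import Groth.Statements.S4682
import Groth.Agent.DvrDom.ClosedProper
import Groth.Agent.GeomRedPull.Field
-- import your own Groth.Agent.* helpers here

set_option autoImplicit false
open CategoryTheory AlgebraicGeometry
universe u
open FBase

namespace Groth.Agent.S4682

/-- Let Y be a scheme over a field K', let K be an extension field of K' which is separable over K'
(Spec K → Spec K' is geometrically reduced), let g : Y ⊗_{K'} K → Y be the projection and T a closed
subset of Y ⊗_{K'} K. Then T is defined over K' as a closed subset, that is T = g⁻¹(T') for some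
closed subset T' of Y, if and only if the reduced closed subscheme of Y ⊗_{K'} K with support T is
defined over K', that is, there is a quasi-coherent ideal sheaf of O_Y whose inverse image in Y
⊗_{K'} K is the vanishing ideal sheaf of T. -/
theorem result {K' K : Type u} [Field K'] [Field K] [Algebra K' K]
    {Y : Scheme.{u}} (fY : Y ⟶ Spec (CommRingCat.of K'))
    [GeometricallyReduced (Spec.map (CommRingCat.ofHom (algebraMap K' K)))]
    (T : TopologicalSpace.Closeds ↥(FBase.bc fY K)) :
    (∃ T' : TopologicalSpace.Closeds ↥Y, (T : Set ↥(FBase.bc fY K)) = ⇑(FBase.bcπ fY K) ⁻¹' (T' : Set ↥Y)) ↔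
      ∃ J : Y.IdealSheafData, J.comap (FBase.bcπ fY K) = Scheme.IdealSheafData.vanishingIdeal T := by
  constructor
  · rintro ⟨T', hT'⟩
    let J := Scheme.IdealSheafData.vanishingIdeal T'
    let g := FBase.bcπ fY K
    refine ⟨J, ?_⟩
    haveI : AlgebraicGeometry.IsReduced J.subscheme :=
      Groth.Agent.DvrDom.isReduced_vanishingIdeal_subscheme T'
    let s := Spec.map (CommRingCat.ofHom (algebraMap K' K))
    haveI : AlgebraicGeometry.IsReduced (Limits.pullback s (J.subschemeι ≫ fY)) :=
      Groth.Agent.GeomRedPull.isReduced_pullback s _
    haveI : AlgebraicGeometry.IsReduced (Limits.pullback (J.subschemeι ≫ fY) s) :=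
      isReduced_of_isOpenImmersion (Limits.pullbackSymmetry _ _).hom
    haveI : AlgebraicGeometry.IsReduced (Limits.pullback J.subschemeι (Limits.pullback.fst fY s)) :=
      isReduced_of_isOpenImmersion (Limits.pullbackRightPullbackFstIso fY s J.subschemeι).hom
    haveI h4' : AlgebraicGeometry.IsReduced (Limits.pullback (Limits.pullback.fst fY s) J.subschemeι) :=
      isReduced_of_isOpenImmersion (Limits.pullbackSymmetry (Limits.pullback.fst fY s) J.subschemeι).hom
    haveI h4 : AlgebraicGeometry.IsReduced (Limits.pullback g J.subschemeι) := h4'
    haveI : AlgebraicGeometry.IsReduced (J.comap g).subscheme :=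
      isReduced_of_isOpenImmersion (J.comapIso g).hom
    have hsupp : (J.comap g).support = T := by
      apply TopologicalSpace.Closeds.ext
      rw [Scheme.IdealSheafData.support_comap, TopologicalSpace.Closeds.coe_preimage,
        Scheme.IdealSheafData.coe_support_vanishingIdeal]
      exact hT'.symm
    have hrad : (J.comap g).radical = J.comap g := by
      refine le_antisymm (fun U => ?_) (Scheme.IdealSheafData.le_radical _)
      rw [Scheme.IdealSheafData.radical_ideal]
      have : _root_.IsReduced (Γ((FBase.bc fY K), U.1) ⧸ (J.comap g).ideal U) :=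
        isReduced_of_injective ((J.comap g).subschemeObjIso U).inv.hom
          ((J.comap g).subschemeObjIso U).commRingCatIsoToRingEquiv.symm.injective
      exact (Ideal.isRadical_iff_quotient_reduced _).mpr this
    rw [← hsupp, Scheme.IdealSheafData.vanishingIdeal_support, hrad]
  · rintro ⟨J, hJ⟩
    refine ⟨J.support, ?_⟩
    have h : ((J.comap (FBase.bcπ fY K)).support : Set ↥(FBase.bc fY K)) =
        (Scheme.IdealSheafData.vanishingIdeal T).support := by rw [hJ]
    simp only [Scheme.IdealSheafData.support_comap, TopologicalSpace.Closeds.coe_preimage,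
      Scheme.IdealSheafData.coe_support_vanishingIdeal] at h
    exact h.symm

end Groth.Agent.S4682
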