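import Groth.Statements.S4689
import Groth.Agent.Catenary.DimFormula

set_option autoImplicit false
universe u
open EGA4

namespace Groth.Agent.S4689

/-- Let A be a universally catenary Noetherian local domain and B a domain containing A which is a
finite A-algebra. Then for every maximal ideal n of B the local ring B_n has the same Krull
dimension as A. -/
theorem result (A B : Type u) [CommRing A] [IsDomain A]
    [IsNoetherianRing A] [IsLocalRing A] (hA : CAlg.IsUniversallyCatenary A) [CommRing B] [IsDomain B]
    [Algebra A B] [FaithfulSMul A B] [Module.Finite A B] (n : Ideal B) [n.IsMaximal] :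
    ringKrullDim (Localization.AtPrime n) = ringKrullDim A := by
  haveI : n.LiesOver (IsLocalRing.maximalIdeal A) := ⟨(IsLocalRing.eq_maximalIdeal
    (Ideal.isMaximal_comap_of_isIntegral_of_isMaximal (R := A) n)).symm⟩
  obtain ⟨a, b, c, d, ha, hb, hc, hd, h⟩ :=
    Groth.Agent.Catenary.exists_dimension_formula A hA B (IsLocalRing.maximalIdeal A) n
  haveI : Algebra.IsAlgebraic A B := inferInstance
  haveI : Module.Finite A (B ⧸ n) := inferInstance
  haveI : Module.Finite (A ⧸ IsLocalRing.maximalIdeal A) (B ⧸ n) := Module.Finite.of_restrictScalars_finite A _ _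
  haveI : Algebra.IsAlgebraic (A ⧸ IsLocalRing.maximalIdeal A) (B ⧸ n) := inferInstance
  rw [trdeg_eq_zero] at hb hd
  have hb0 : b = 0 := by exact_mod_cast hb.symm
  have hd0 : d = 0 := by exact_mod_cast hd.symm
  rw [IsLocalization.AtPrime.ringKrullDim_eq_height n (Localization.AtPrime n),
    ← IsLocalRing.maximalIdeal_height_eq_ringKrullDim (R := A), ha, hc, show a = c by omega]

end Groth.Agent.S4689
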