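import Groth.Statements.S4690
import Groth.Agent.FlatDim.DimUC
import Groth.Agent.FlatDim.DimAdd

set_option autoImplicit false
set_option linter.style.haveILetI false
set_option backward.isDefEq.respectTransparency false
open Groth.Agent
universe u
open EGA4

namespace Groth.Agent.S4690

open AlgebraicGeometry CategoryTheory in
/-- Let Y be an irreducible locally Noetherian scheme, X an irreducible scheme and f : X → Y a dominant
morphism locally of finite type; let e be the dimension of the generic fibre of f. Then dim X ≤ dim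
Y + e. If moreover every local ring of Y is universally catenary, the two sides are equal if and
only if dim Y equals the supremum of the dimensions of the local rings of Y at the points of f(X). -/
theorem result {X Y : Scheme.{u}} (f : X ⟶ Y) [IsLocallyNoetherian Y]
    [LocallyOfFiniteType f] [IrreducibleSpace X] [IrreducibleSpace Y] (hf : DenseRange f.base) :
    topologicalKrullDim X ≤ topologicalKrullDim Y + topologicalKrullDim (f.fiber (genericPoint Y)) ∧
      ((∀ y : Y, CAlg.IsUniversallyCatenary (Y.presheaf.stalk y)) →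
        (topologicalKrullDim X = topologicalKrullDim Y + topologicalKrullDim (f.fiber (genericPoint Y)) ↔
          topologicalKrullDim Y = ⨆ y ∈ Set.range f.base, ringKrullDim (Y.presheaf.stalk y))) := by
  haveI : IsLocallyNoetherian X := LocallyOfFiniteType.isLocallyNoetherian f
  set ξ := genericPoint ↥X
  have hξ : f ξ = genericPoint ↥Y := by
    have h1 : closure (Set.range f.base) ⊆ closure {f ξ} := closure_minimal
      (by rintro _ ⟨x, rfl⟩; exact ((genericPoint_specializes x).map f.continuous).mem_closure) isClosed_closure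
    exact ((specializes_iff_mem_closure.2 (h1 (hf (genericPoint ↥Y)))).antisymm (genericPoint_specializes _)).eq
  obtain ⟨e, he1, he2, -⟩ := Unibranch.exists_dim_closure_eq f ξ
  have hfib : topologicalKrullDim (f.fiber (genericPoint ↥Y)) = (e : WithBot ℕ∞) := by
    rw [← hξ]
    refine le_antisymm (Unibranch.natCast_le_iff_of_le_iff.2 fun j hj => ?_)
      ((FlatDim.natCast_le_fibre_iff f _).2 ⟨ξ, rfl, he2⟩)
    obtain ⟨x, -, hx⟩ := (FlatDim.natCast_le_fibre_iff f _).1 hj
    exact (hx.mono (closure_minimal (Set.singleton_subset_iff.2 (genericPoint_specializes x).mem_closure)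
      isClosed_closure)).le he1
  rw [hfib]
  refine ⟨Unibranch.le_of_forall_natCast_le fun l hl => ?_, fun hcat => ?_⟩
  · obtain ⟨x, m, ⟨g, hg, -, -⟩, hlm⟩ := FlatDim.exists_le_of_chain f he1 hl
    refine le_trans ?_ (add_le_add (Unibranch.natCast_le_topologicalKrullDim g hg) le_rfl)
    exact_mod_cast hlm
  have hX : topologicalKrullDim X = (⨆ y ∈ Set.range f.base, ringKrullDim (Y.presheaf.stalk y)) + (e : WithBot ℕ∞) := by
    refine le_antisymm (Unibranch.le_of_forall_natCast_le fun l hl => ?_) ?_
    · obtain ⟨x, m, ⟨g, hg, -, hgl⟩, hlm⟩ := FlatDim.exists_le_of_chain f he1 hl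
      obtain ⟨C, hC, hCle, -⟩ := DimFormula.exists_ringKrullDim_stalk (f x)
      have hmC : m ≤ C := hCle m g hg hgl
      refine le_trans ?_ (add_le_add (le_iSup₂_of_le (f x) ⟨x, rfl⟩ hC.ge) le_rfl)
      exact_mod_cast (by omega : l ≤ C + e)
    · rw [add_comm]
      refine FlatDim.add_le_of_forall fun d hd => ?_
      obtain ⟨y, ⟨x, rfl⟩, C, hC, hdC⟩ : ∃ y ∈ Set.range f.base, ∃ C : ℕ,
          ringKrullDim (Y.presheaf.stalk y) = (C : WithBot ℕ∞) ∧ d ≤ C := by
        by_contra h
        push Not at h
        rcases Nat.eq_zero_or_pos d with rfl | hd0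
        · obtain ⟨C, hC, -⟩ := DimFormula.exists_ringKrullDim_stalk (f ξ)
          exact absurd (h (f ξ) ⟨ξ, rfl⟩ C hC) (by omega)
        · have hle : (⨆ y ∈ Set.range f.base, ringKrullDim (Y.presheaf.stalk y)) ≤ ((d - 1 : ℕ) : WithBot ℕ∞) :=
            iSup₂_le fun y hy => by
              obtain ⟨C, hC, -⟩ := DimFormula.exists_ringKrullDim_stalk y
              rw [hC, Nat.cast_le]
              have := h y hy C hC
              omega
          have := Nat.cast_le.1 (hd.trans hle)
          omega
      obtain ⟨C', hC', -, ζ, -, -, g, hg, -, hgl⟩ := DimFormula.exists_ringKrullDim_stalk (f x)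
      obtain rfl : C' = C := by exact_mod_cast hC'.symm.trans hC
      have := FlatDim.natCast_le_dim_of_uc f x (hcat _) he2 (C := C') ⟨g, hg, hξ ▸ genericPoint_specializes _, hgl⟩
      exact le_trans (Nat.cast_le.2 (by omega)) this
  rw [hX]
  have hcancel : ∀ a b : WithBot ℕ∞, a + (e : WithBot ℕ∞) = b + (e : WithBot ℕ∞) → a = b := fun a b h => by
    rcases a with _ | a <;> rcases b with _ | b
    · rfl
    · exact absurd h WithBot.bot_ne_coe
    · exact absurd h WithBot.coe_ne_bot
    · exact congrArg WithBot.some ((WithTop.add_right_inj (WithTop.natCast_ne_top e)).1 (WithBot.coe_inj.1 h))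
  exact ⟨fun h => (hcancel _ _ h).symm, fun h => by rw [← h]⟩

end Groth.Agent.S4690
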