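import Groth.Statements.S4692
import Groth.Agent.FlatDim.DimUC
import Groth.Agent.FlatDim.DimAdd
import Groth.Agent.S4691

set_option autoImplicit false
set_option linter.style.haveILetI false
set_option backward.isDefEq.respectTransparency false
open Groth.Agent
universe u
open EGA4

namespace Groth.Agent.S4692

open AlgebraicGeometry CategoryTheory in
/-- Let Y be a locally Noetherian scheme all of whose local rings are universally catenary, X an
irreducible scheme, f : X → Y a morphism locally of finite type and n a natural number. If every
fibre of f has dimension at least n then dim X ≥ dim Y + n; if every fibre has dimension exactly n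
then dim X = dim Y + n. (The empty scheme has dimension ⊥, so either hypothesis forces f to be
surjective.) -/
theorem result {X Y : Scheme.{u}} (f : X ⟶ Y) [IsLocallyNoetherian Y]
    [LocallyOfFiniteType f] [IrreducibleSpace X] (hY : ∀ y : Y, CAlg.IsUniversallyCatenary (Y.presheaf.stalk y))
    (n : ℕ) :
    ((∀ y : Y, (n : WithBot ℕ∞) ≤ topologicalKrullDim (f.fiber y)) →
        topologicalKrullDim Y + n ≤ topologicalKrullDim X) ∧
      ((∀ y : Y, topologicalKrullDim (f.fiber y) = n) →
        topologicalKrullDim X = topologicalKrullDim Y + n) := by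
  have key : (∀ y : Y, (n : WithBot ℕ∞) ≤ topologicalKrullDim (f.fiber y)) →
      topologicalKrullDim Y + n ≤ topologicalKrullDim X := fun h => by
    rw [add_comm]
    refine FlatDim.add_le_of_forall fun d hd => ?_
    obtain ⟨g, hg⟩ := Unibranch.exists_chain_of_le_topologicalKrullDim hd
    obtain ⟨x, hx, -⟩ := (FlatDim.natCast_le_fibre_iff f _).1 (h (g (Fin.last d)))
    obtain ⟨x₀, hx₀, -⟩ := (FlatDim.natCast_le_fibre_iff f _).1 (h (g 0))
    obtain ⟨e, he1, he2, -⟩ := Unibranch.exists_dim_closure_eq f (genericPoint ↥X)
    obtain ⟨x', -, hch⟩ := (FlatDim.natCast_le_fibre_iff f _).1 (h (f (genericPoint ↥X)))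
    have hne := (hch.mono (closure_minimal (Set.singleton_subset_iff.2 (genericPoint_specializes x').mem_closure)
      isClosed_closure)).le he1
    have := FlatDim.natCast_le_dim_of_uc f x (hY _) he2 (C := d)
      ⟨g, hg, hx₀ ▸ (genericPoint_specializes x₀).map f.continuous, hx.symm⟩
    exact le_trans (Nat.cast_le.2 (by omega)) this
  exact ⟨key, fun h => le_antisymm (S4691.result f n fun y => (h y).le) (key fun y => (h y).ge)⟩

end Groth.Agent.S4692
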