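import Groth.Statements.S4693
import Mathlib
import Groth.Agent.FlatDepth.CMTensor
-- import your own Groth.Agent.* helpers here

set_option autoImplicit false
universe u
open EGA4

namespace Groth.Agent.S4693

/-- Let A → B be a local homomorphism of Noetherian local rings such that the closed fibre ring B/m_A B
has Krull dimension 0 (that is, m_A B is an ideal of definition of B). Then dim B ≤ dim A. If
moreover some finite B-module which is flat over A has support equal to all of Spec B (for instance
if B is flat over A), then dim B = dim A. -/
theorem result (A B : Type u) [CommRing A] [CommRing B] [IsNoetherianRing A]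
    [IsNoetherianRing B] [IsLocalRing A] [IsLocalRing B] [Algebra A B] [IsLocalHom (algebraMap A B)]
    (h0 : ringKrullDim (EGA4.FibRing A B) = 0) :
    ringKrullDim B ≤ ringKrullDim A ∧
      (∀ (N : Type u) [AddCommGroup N] [Module B N] [Module A N] [IsScalarTower A B N] [Module.Finite B N]
          [Module.Flat A N], Module.support B N = Set.univ → ringKrullDim B = ringKrullDim A) := by
  have hfib : ∀ (N : Type u) [AddCommGroup N] [Module B N] [Module.Finite B N], Module.supportDim B (EGA4.FibMod A B N) ≤ 0 := by
    intro N _ _ _
    rw [← h0, ← FlatDepth.supportDim_quotient_ring (EGA4.mB A B) (EGA4.FibMod A B N)]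
    exact Module.supportDim_le_ringKrullDim _ _
  have hid : ∀ (N : Type u) [AddCommGroup N] [Module B N] [Module A N] [IsScalarTower A B N],
      Module.supportDim B (TensorProduct A N A) = Module.supportDim B N := fun N _ _ _ _ =>
    Module.supportDim_eq_of_equiv (TensorProduct.AlgebraTensorModule.rid A B N)
  have hle : ringKrullDim B ≤ ringKrullDim A := by
    have h1 := FlatDepth.supportDim_tensor_le (A := A) (B := B) A B
    rw [hid B, Module.supportDim_self_eq_ringKrullDim, Module.supportDim_self_eq_ringKrullDim] at h1
    refine h1.trans ((add_le_add le_rfl (hfib B)).trans (le_of_eq ?_))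
    rw [add_zero]
  refine ⟨hle, fun N _ _ _ _ _ _ hs => ?_⟩
  haveI : Nontrivial N := by
    rw [← Module.nonempty_support_iff (R := B), hs]
    exact Set.univ_nonempty
  have hF : Module.supportDim B (EGA4.FibMod A B N) ≠ ⊥ := by
    rw [Module.supportDim_ne_bot_iff_nontrivial, Submodule.Quotient.nontrivial_iff, ne_comm]
    exact Submodule.top_ne_ideal_smul_of_le_jacobson_annihilator ((IsLocalRing.map_maximalIdeal_le (algebraMap A B)).trans
      (IsLocalRing.maximalIdeal_le_jacobson _))
  have hF0 : Module.supportDim B (EGA4.FibMod A B N) = 0 := by
    refine le_antisymm (hfib N) ?_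
    cases h : Module.supportDim B (EGA4.FibMod A B N) with
    | bot => exact absurd h hF
    | coe v => exact WithBot.coe_le_coe.2 bot_le
  have h1 := le_antisymm (FlatDepth.supportDim_tensor_le (A := A) (B := B) A N) (FlatDepth.supportDim_tensor_ge (A := A) (B := B) A N)
  have hN : Module.supportDim B N = ringKrullDim B := by
    rw [Module.supportDim, hs]
    exact Order.krullDim_eq_of_orderIso OrderIso.Set.univ
  rw [hid N, hN, Module.supportDim_self_eq_ringKrullDim] at h1
  erw [hF0] at h1
  rwa [add_zero] at h1

end Groth.Agent.S4693
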