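import Groth.Statements.S4694
import Mathlib
import Groth.Agent.FlatDepth.Localize
-- import your own Groth.Agent.* helpers here

set_option autoImplicit false
universe u
open EGA4

namespace Groth.Agent.S4694

open TensorProduct in
/-- Let A → B be a local homomorphism of Noetherian local rings, M a finite A-module and N a nonzero
finite B-module, flat over A, whose closed-fibre module N/m_A N has finite length. Then the depth of
the B-module N ⊗_A M equals the depth of the A-module M. (The companion equality of codepths in the
published item is not restated.) -/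
theorem result {A B M N : Type u} [CommRing A] [CommRing B]
    [IsNoetherianRing A] [IsNoetherianRing B] [IsLocalRing A] [IsLocalRing B] [Algebra A B]
    [IsLocalHom (algebraMap A B)] [AddCommGroup M] [Module A M] [Module.Finite A M]
    [AddCommGroup N] [Module B N] [Module A N] [IsScalarTower A B N] [Module.Finite B N] [Nontrivial N]
    [Module.Flat A N] (hN : IsFiniteLength B (EGA4.FibMod A B N)) :
    LocCoh.depth B (N ⊗[A] M) = LocCoh.depth A M := by
  have h0 : LocCoh.depth B (N ⧸ (IsLocalRing.maximalIdeal A).map (algebraMap A B) • (⊤ : Submodule B N)) = 0 := by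
    haveI : IsArtinian B (N ⧸ (IsLocalRing.maximalIdeal A).map (algebraMap A B) • (⊤ : Submodule B N)) :=
      (isFiniteLength_iff_isNoetherian_isArtinian.1 hN).2
    haveI : Nontrivial (N ⧸ (IsLocalRing.maximalIdeal A).map (algebraMap A B) • (⊤ : Submodule B N)) := by
      rw [Submodule.Quotient.nontrivial_iff]
      intro h
      have h0 : (⊤ : Submodule B N) = ⊥ := Submodule.eq_bot_of_le_smul_of_le_jacobson_bot _ _
        Module.Finite.fg_top h.ge (CMFlat.map_le.trans (IsLocalRing.jacobson_eq_maximalIdeal ⊥ bot_ne_top).ge)
      exact not_subsingleton N ((Submodule.subsingleton_iff B).1 (subsingleton_of_top_le_bot h0.le))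
    obtain ⟨n, hn⟩ := FlatDepth.exists_socSeq (R := B) (N ⧸ (IsLocalRing.maximalIdeal A).map (algebraMap A B) • (⊤ : Submodule B N))
    rcases n with _ | n
    · exact hn.depth_eq.1
    · exfalso
      obtain ⟨r, hr, hreg, -⟩ := FlatDepth.socSeq_uncons hn
      let M₀ := N ⧸ (IsLocalRing.maximalIdeal A).map (algebraMap A B) • (⊤ : Submodule B N)
      obtain ⟨m, hm⟩ := IsArtinian.range_smul_pow_stabilizes M₀ r
      have hsur : ∀ x : M₀, ∃ y, r • y = x := fun x => by
        have h1 : (r ^ m) • x ∈ LinearMap.range (r ^ (m + 1) • LinearMap.id : M₀ →ₗ[B] M₀) := by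
          rw [← hm (m + 1) m.le_succ]
          exact ⟨x, rfl⟩
        obtain ⟨y, hy⟩ := h1
        refine ⟨y, (hreg.pow m) ?_⟩
        show r ^ m • (r • y) = r ^ m • x
        rw [← mul_smul, ← pow_succ]
        exact hy
      have htop : (⊤ : Submodule B M₀) ≤ IsLocalRing.maximalIdeal B • (⊤ : Submodule B M₀) := fun x _ => by
        obtain ⟨y, rfl⟩ := hsur x
        exact Submodule.smul_mem_smul hr Submodule.mem_top
      have h2 : (⊤ : Submodule B M₀) = ⊥ := Submodule.eq_bot_of_le_smul_of_le_jacobson_bot _ _
        Module.Finite.fg_top htop (IsLocalRing.jacobson_eq_maximalIdeal ⊥ bot_ne_top).ge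
      exact not_subsingleton M₀ ((Submodule.subsingleton_iff B).1 (subsingleton_of_top_le_bot h2.le))
  rw [FlatDepth.depth_tensor N M, h0, add_zero]

end Groth.Agent.S4694
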