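import Groth.Statements.S4699
import Groth.Agent.NormDepth.Main
-- import your own Groth.Agent.* helpers here

set_option autoImplicit false
universe u
open EGA4

namespace Groth.Agent.S4699

/-- Let A be a Noetherian ring, M a finite A-module and I an ideal of A whose radical p is a prime ideal
lying in the support of M (so V(I) is an irreducible closed subset whose generic point is in Supp
M). Then there is an element f outside p such that, for every prime q containing I with f outside q,
the dimension of M_q is the dimension of M_p plus the dimension of (A/I)_q, and the depth of M_q is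
the depth of M_p plus the depth of (A/I)_q (the module (A/I)_q = A_q / I A_q being regarded over
A_q). -/
theorem result (A : Type u) [CommRing A] [IsNoetherianRing A]
    (M : Type u) [AddCommGroup M] [Module A M] [Module.Finite A M] (I : Ideal A) [I.radical.IsPrime]
    (hp : (⟨I.radical, inferInstance⟩ : PrimeSpectrum A) ∈ Module.support A M) :
    ∃ f : A, f ∉ I.radical ∧ ∀ (q : Ideal A) [q.IsPrime], I ≤ q → f ∉ q →
      Module.supportDim (Localization.AtPrime q) (LocalizedModule q.primeCompl M) =
          Module.supportDim (Localization.AtPrime I.radical) (LocalizedModule I.radical.primeCompl M) +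
            Module.supportDim (Localization.AtPrime q)
              (Localization.AtPrime q ⧸ I.map (algebraMap A (Localization.AtPrime q))) ∧
        LocCoh.depth (Localization.AtPrime q) (LocalizedModule q.primeCompl M) =
          LocCoh.depth (Localization.AtPrime I.radical) (LocalizedModule I.radical.primeCompl M) +
            LocCoh.depth (Localization.AtPrime q)
              (Localization.AtPrime q ⧸ I.map (algebraMap A (Localization.AtPrime q))) := by
  let p := I.radical
  have hpM : Nontrivial (LocalizedModule p.primeCompl M) := Module.mem_support_iff.1 hp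
  have hmin : p ∈ I.minimalPrimes := ⟨⟨inferInstance, Ideal.le_radical⟩, fun J hJ _ => hJ.1.radical_le_iff.2 hJ.2⟩
  haveI : IsNoetherianRing (Localization.AtPrime p) := IsLocalization.isNoetherianRing p.primeCompl _ inferInstance
  have hpI : Nontrivial (LocalizedModule p.primeCompl (A ⧸ I)) := NormDepth.nontrivial_quot_loc I p Ideal.le_radical
  obtain ⟨f₁, hf₁, H₁⟩ := NormDepth.depth_add p M hpM
  obtain ⟨f₂, hf₂, H₂⟩ := NormDepth.dim_add p M hpM
  obtain ⟨f₃, hf₃, H₃⟩ := NormDepth.depth_add p (A ⧸ I) hpI
  obtain ⟨f₄, hf₄, H₄⟩ := NormDepth.dim_add p (A ⧸ I) hpI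
  have hdep0 : NormDepth.dp p (A ⧸ I) = 0 := LocH.depth_eq_zero_of_associated _
    (Module.associatedPrimes.minimalPrimes_annihilator_subset_associatedPrimes A _
      (by rw [Ideal.annihilator_quotient]; exact hmin))
  have hdim0 : NormDepth.dm p (A ⧸ I) = 0 := by
    refine le_antisymm ?_ ?_
    · rw [NormDepth.dm, FlatDepth.supportDim_localized_eq]
      refine Order.krullDim_nonpos_iff_forall_isMax.2 fun x y hxy => ?_
      have hx : p ≤ x.1.asIdeal := x.1.2.radical_le_iff.2
        ((Ideal.annihilator_quotient (I := I)).ge.trans (Module.mem_support_iff_of_finite.1 x.2.1))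
      exact (show y.1.asIdeal ≤ x.1.asIdeal from y.2.2.trans hx)
    · obtain ⟨n, hn⟩ := QGorD.exists_nat_supportDim (R := Localization.AtPrime p) (LocalizedModule p.primeCompl (A ⧸ I))
      rw [NormDepth.dm, hn]
      exact_mod_cast Nat.zero_le n
  refine ⟨f₁ * f₂ * f₃ * f₄, ?_, fun q _ hIq hfq => ?_⟩
  · exact Ideal.IsPrime.mul_notMem ‹_› (Ideal.IsPrime.mul_notMem ‹_› (Ideal.IsPrime.mul_notMem ‹_› hf₁ hf₂) hf₃) hf₄
  have hpq : p ≤ q := (‹q.IsPrime›).radical_le_iff.2 hIq
  have n1 : f₁ ∉ q := fun h => hfq (Ideal.mul_mem_right _ _ (Ideal.mul_mem_right _ _ (Ideal.mul_mem_right _ _ h)))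
  have n2 : f₂ ∉ q := fun h => hfq (Ideal.mul_mem_right _ _ (Ideal.mul_mem_right _ _ (Ideal.mul_mem_left _ _ h)))
  have n3 : f₃ ∉ q := fun h => hfq (Ideal.mul_mem_right _ _ (Ideal.mul_mem_left _ _ h))
  have n4 : f₄ ∉ q := fun h => hfq (Ideal.mul_mem_left _ _ h)
  let Aq := Localization.AtPrime q
  let T := Aq ⧸ I.map (algebraMap A Aq)
  let e : LocalizedModule q.primeCompl (A ⧸ I) ≃ₗ[Aq] T :=
    (IsLocalizedModule.iso q.primeCompl
      (IsScalarTower.toAlgHom A (A ⧸ I) T).toLinearMap).extendScalarsOfIsLocalization q.primeCompl Aq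
  rw [← Module.supportDim_eq_of_equiv e, show LocCoh.depth Aq T = NormDepth.dp q (A ⧸ I) from LocH.idealDepth_congr e.symm _]
  refine ⟨?_, ?_⟩
  · have h := H₄ q hpq n4
    rw [hdim0, zero_add] at h
    show NormDepth.dm q M = NormDepth.dm p M + NormDepth.dm q (A ⧸ I)
    rw [h, H₂ q hpq n2]
  · have h := H₃ q hpq n3
    rw [hdep0, zero_add] at h
    show NormDepth.dp q M = NormDepth.dp p M + _
    rw [h, H₁ q hpq n1]

end Groth.Agent.S4699
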