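import Groth.Statements.S4701
import Groth.Agent.RegLocus.J2

set_option autoImplicit false
universe u
open EGA4

namespace Groth.Agent.S4701

/-- Let A be a Noetherian ring. The regular locus of every quotient ring A/I is open in its spectrum if
and only if, for every prime ideal p, the regular locus of the domain A/p contains a nonempty open
subset of Spec(A/p). (The published statement quantifies over all subschemes of Spec A; open
subschemes of the closed ones add nothing, so closed subschemes are used here.) -/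
theorem result (A : Type u) [CommRing A] [IsNoetherianRing A] :
    (∀ I : Ideal A, IsOpen (EGA4.regLocus (A ⧸ I))) ↔
      ∀ (p : Ideal A) [p.IsPrime],
        ∃ U : Set (PrimeSpectrum (A ⧸ p)), IsOpen U ∧ U.Nonempty ∧ U ⊆ EGA4.regLocus (A ⧸ p) := by
  refine ⟨fun h p hp => ⟨EGA4.regLocus (A ⧸ p), h p, ⟨⟨⊥, Ideal.isPrime_bot⟩, RegLocus.mem_regLocus_of_eq_bot _ rfl⟩, subset_rfl⟩,
    fun h I => RegLocus.isOpen_regLocus_of_quotients fun q _ => ?_⟩
  let π : A →+* (A ⧸ I) ⧸ q.asIdeal := (Ideal.Quotient.mk q.asIdeal).comp (Ideal.Quotient.mk I)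
  haveI : (RingHom.ker π).IsPrime := RingHom.ker_isPrime _
  have e : A ⧸ RingHom.ker π ≃+* (A ⧸ I) ⧸ q.asIdeal := RingHom.quotientKerEquivOfSurjective (f := π)
    (Ideal.Quotient.mk_surjective.comp Ideal.Quotient.mk_surjective)
  obtain ⟨U, hU, hne, hUS⟩ := h (RingHom.ker π)
  obtain ⟨f, hf0, hf⟩ := RegLocus.exists_ne_zero_ringEquiv e (RegLocus.exists_ne_zero_of_open hU hne hUS)
  exact RegLocus.exists_open_of_ne_zero hf0 hf

end Groth.Agent.S4701
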