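import Groth.Statements.S4702
import Groth.Agent.FlatDim.DimSets
import Groth.Agent.DimFormula.Dims

set_option autoImplicit false
set_option linter.style.haveILetI false
set_option backward.isDefEq.respectTransparency false
open Groth.Agent
universe u
open EGA4

namespace Groth.Agent.S4702

open AlgebraicGeometry CategoryTheory in
/-- Let Y be an irreducible locally Noetherian scheme of dimension 1, X an irreducible scheme and f : X
→ Y a dominant morphism of finite type. Then for every point y in the image of f, every irreducible
component of the fibre of f at y has dimension equal to the dimension of the generic fibre. -/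
theorem result {X Y : Scheme.{u}} (f : X ⟶ Y) [IsLocallyNoetherian Y]
    [IrreducibleSpace Y] [IrreducibleSpace X] (hY : topologicalKrullDim Y = 1) [LocallyOfFiniteType f]
    [QuasiCompact f] (hf : DenseRange f.base) (y : Y) (hy : y ∈ Set.range f.base)
    (Z : Set ↥(f.fiber y)) (hZ : Z ∈ irreducibleComponents ↥(f.fiber y)) :
    topologicalKrullDim Z = topologicalKrullDim ↥(f.fiber (genericPoint Y)) := by
  haveI : IsLocallyNoetherian X := LocallyOfFiniteType.isLocallyNoetherian f
  obtain ⟨v, hv, rfl⟩ := Unibranch.exists_isMaxPt hZ
  let z := f.fiberι y v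
  have hz : FlatDim.IsFibMax f z := (FlatDim.isFibMax_iff f _ v).1 hv
  have hfz : f z = y := (f.range_fiberι _).le ⟨v, rfl⟩
  set ξ := genericPoint ↥X
  have hξz : ξ ⤳ z := genericPoint_specializes z
  have hξ : f ξ = genericPoint ↥Y := by
    have h1 : closure (Set.range f.base) ⊆ closure {f ξ} := closure_minimal
      (by rintro _ ⟨x, rfl⟩; exact ((genericPoint_specializes x).map f.continuous).mem_closure) isClosed_closure
    exact ((specializes_iff_mem_closure.2 (h1 (hf _))).antisymm (genericPoint_specializes _)).eq
  obtain ⟨e, he1, he2, -⟩ := Unibranch.exists_dim_closure_eq f ξ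
  obtain ⟨δ, h1, h2, -⟩ := Unibranch.exists_dim_closure_eq f z
  obtain rfl : e = δ := by
    refine le_antisymm (FlatDim.le_of_isFibMax f hz hξz he2 h1) ?_
    by_cases hne : f ξ = f z
    · have he : z = ξ := (hz ξ hξz hne).symm
      rw [he] at h2
      exact h2.le he1
    · obtain ⟨c, hc1, g, hg, -, -⟩ := DimFormula.exists_genLE_hasGen (hξz.map f.continuous)
      have hc : c ≤ 1 := by
        have := Unibranch.natCast_le_topologicalKrullDim g hg
        rw [hY] at this
        exact_mod_cast this
      have := DimFormula.dimension_inequality f hξz (a := 1)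
        ⟨![ξ, z], fun i => by fin_cases i; exact ⟨hξz, fun h => hne (congrArg f h)⟩, specializes_rfl, rfl⟩ hc1 h2 he1
      omega
  rw [hfz] at h1 h2
  rw [FlatDim.fibre_closure_dim f y v h1 h2]
  rw [hξ] at he1 he2
  refine le_antisymm ((FlatDim.natCast_le_fibre_iff f _).2 ⟨ξ, hξ, he2⟩)
    (Unibranch.natCast_le_iff_of_le_iff.2 fun j hj => ?_)
  obtain ⟨x, -, hx⟩ := (FlatDim.natCast_le_fibre_iff f _).1 hj
  exact (hx.mono (closure_minimal (Set.singleton_subset_iff.2 (genericPoint_specializes x).mem_closure)
    isClosed_closure)).le he1

end Groth.Agent.S4702
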