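import Groth.Statements.S4707
import Mathlib
import Groth.Agent.NormalBC.Apps
-- import your own Groth.Agent.* helpers here

set_option autoImplicit false
universe u
open EGA4

namespace Groth.Agent.S4707

open TensorProduct in
/-- Let A be a Noetherian ring and A' a Noetherian A-algebra such that A → A' is a normal homomorphism
(flat, with geometrically normal fibres). Let B → C be a homomorphism of A-algebras and D the
integral closure of B in C. Then the integral closure in A' ⊗_A C of the image of A' ⊗_A B is the
image of A' ⊗_A D. (No finiteness is assumed on B or C.) -/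
theorem result (A A' : Type u) [CommRing A] [CommRing A']
    [IsNoetherianRing A] [IsNoetherianRing A'] [Algebra A A'] (h : EGA4.IsNormalHom A A')
    (B C : Type u) [CommRing B] [CommRing C] [Algebra A B] [Algebra A C] [Algebra B C] [IsScalarTower A B C] :
    (integralClosure
          ↥(Algebra.TensorProduct.map (AlgHom.id A' A') (IsScalarTower.toAlgHom A B C)).range (A' ⊗[A] C) :
        Set (A' ⊗[A] C)) =
      Set.range (Algebra.TensorProduct.map (AlgHom.id A' A')
        ((integralClosure B C).val.restrictScalars A)) := by
  let φ := Algebra.TensorProduct.map (AlgHom.id A' A') (IsScalarTower.toAlgHom A B C)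
  ext x
  constructor
  · intro hx
    obtain ⟨p, hp, hpx⟩ := (hx : IsIntegral φ.range x)
    obtain ⟨q, hq, -, hqm⟩ := Polynomial.lifts_and_natDegree_eq_and_monic (f := φ.rangeRestrict.toRingHom)
      (Polynomial.map_surjective _ φ.rangeRestrict_surjective p) hp
    obtain ⟨w, hw⟩ := Groth.Agent.NormalBC.integralClosure_baseChange A A' h B C x ⟨q, hqm, by
      rw [← hq, Polynomial.eval₂_map] at hpx
      exact hpx⟩
    exact ⟨w, hw⟩
  · rintro ⟨w, rfl⟩
    induction w using TensorProduct.induction_on with
    | zero => rw [map_zero]; exact zero_mem (integralClosure φ.range _)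
    | add a b ha hb => rw [map_add]; exact add_mem (S := Subalgebra φ.range _) ha hb
    | tmul a d =>
      show IsIntegral φ.range (a ⊗ₜ[A] (d : C))
      obtain ⟨p, hp, hpd⟩ := (d.2 : IsIntegral B (d : C))
      have h1 : φ.toRingHom.IsIntegralElem ((1 : A') ⊗ₜ[A] (d : C)) := by
        refine ⟨p.map (Algebra.TensorProduct.includeRight : B →ₐ[A] TensorProduct A A' B).toRingHom, hp.map _, ?_⟩
        rw [Polynomial.eval₂_map]
        have := congrArg (Algebra.TensorProduct.includeRight : C →ₐ[A] TensorProduct A A' C).toRingHom hpd
        rw [Polynomial.hom_eval₂, map_zero] at this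
        exact this
      have h2 : IsIntegral φ.range ((1 : A') ⊗ₜ[A] (d : C)) := by
        obtain ⟨q, hq, hqd⟩ := h1
        refine ⟨q.map φ.rangeRestrict.toRingHom, hq.map _, ?_⟩
        rw [Polynomial.eval₂_map]
        exact hqd
      have h3 : IsIntegral φ.range (a ⊗ₜ[A] (1 : C)) := by
        have : a ⊗ₜ[A] (1 : C) = algebraMap φ.range _ (φ.rangeRestrict (a ⊗ₜ[A] (1 : B))) := by
          show _ = φ (a ⊗ₜ[A] (1 : B))
          simp [φ]
        rw [this]
        exact isIntegral_algebraMap
      simpa using h3.mul h2

end Groth.Agent.S4707
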