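import Groth.Statements.S4711
import Groth.Agent.LocNoethTop.ClosedPoint

set_option autoImplicit false
universe u
open EGA4

namespace Groth.Agent.S4711

open AlgebraicGeometry Topology in
/-- In any scheme X, every nonempty locally constructible subset E contains a point x such that the
one-point set {x} is locally closed in X (equivalently x is isolated in its closure). -/
theorem result (X : Scheme.{u}) (E : Set X)
    (hE : Topology.IsLocallyConstructible E) (hne : E.Nonempty) :
    ∃ x ∈ E, IsLocallyClosed ({x} : Set X) := by
  exact Groth.Agent.LocNoethTop.exists_isLocallyClosed_singleton_of_isLocallyConstructible X E hE hne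

end Groth.Agent.S4711
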