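import Groth.Statements.S4712
import Groth.Agent.LocNoethTop.ClosedPoint

set_option autoImplicit false
universe u
open EGA4

namespace Groth.Agent.S4712

open AlgebraicGeometry in
/-- Let X be a locally Noetherian scheme and x a point such that {x} is locally closed in X. Then the
closure of {x} has dimension at most 1, and every point of that closure other than x is a closed
point of X. -/
theorem result (X : Scheme.{u}) [IsLocallyNoetherian X] (x : X)
    (hx : IsLocallyClosed ({x} : Set X)) :
    topologicalKrullDim (closure ({x} : Set X)) ≤ 1 ∧
      ∀ y ∈ closure ({x} : Set X), y ≠ x → IsClosed ({y} : Set X) := by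
  exact ⟨Groth.Agent.LocNoethTop.dim_closure_le_one X hx, fun y hy hne =>
    Groth.Agent.LocNoethTop.isClosed_singleton_of_specializes X hx (specializes_iff_mem_closure.mpr hy) hne⟩

end Groth.Agent.S4712
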