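import Groth.Statements.S4719
import Groth.Agent.DepthPushCM.Basic

set_option autoImplicit false
set_option maxHeartbeats 400000
universe u
open EGA4

namespace Groth.Agent.S4719

/-- Let A → B be a homomorphism of Noetherian rings and M a B-module which is finite as an A-module. (i)
If M satisfies (S_k) as an A-module, it satisfies (S_k) as a B-module. (ii) If for every two primes
q, q' of B in the support of M having the same contraction to A the modules M_q and M_{q'} have the
same dimension, then (S_k) for M as a B-module implies (S_k) for M as an A-module. (The published
statement asks the equal-dimension condition for all pairs of primes of B with the same contraction;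
this row asks it only for primes in the support of M, which is all its proof uses.) -/
theorem result (k : ℕ) (A B : Type u) [CommRing A] [CommRing B] [IsNoetherianRing A]
    [IsNoetherianRing B] [Algebra A B] (M : Type u) [AddCommGroup M] [Module B M] [Module A M]
    [IsScalarTower A B M] [Module.Finite A M] :
    (LocCoh.HasSk k A M → LocCoh.HasSk k B M) ∧
      ((∀ q ∈ Module.support B M, ∀ q' ∈ Module.support B M,
          q.asIdeal.comap (algebraMap A B) = q'.asIdeal.comap (algebraMap A B) →
            Module.supportDim (Localization.AtPrime q.asIdeal) (LocalizedModule q.asIdeal.primeCompl M) =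
              Module.supportDim (Localization.AtPrime q'.asIdeal) (LocalizedModule q'.asIdeal.primeCompl M)) →
        LocCoh.HasSk k B M → LocCoh.HasSk k A M) := by
  haveI : Module.Finite B M := Module.Finite.of_restrictScalars_finite A B M
  refine ⟨fun h q _ => ?_, fun heq h p _ => ?_⟩
  · suffices key : ∀ r : PrimeSpectrum B, min (k : WithBot ℕ∞)
        (Module.supportDim (Localization.AtPrime r.asIdeal) (LocalizedModule r.asIdeal.primeCompl M)) ≤
        ((LocCoh.depth (Localization.AtPrime r.asIdeal) (LocalizedModule r.asIdeal.primeCompl M) : ℕ∞) : WithBot ℕ∞) from
      key ⟨q, inferInstance⟩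
    intro r
    by_cases hr : r ∈ Module.support B M
    · have h0 := h (r.asIdeal.comap (algebraMap A B))
      rw [DepthPush.supportDim_eq (B := B) M, DepthPush.depth_eq (B := B) M] at h0
      have hmem : r ∈ {r' : PrimeSpectrum B | r'.asIdeal.comap (algebraMap A B) = r.asIdeal.comap (algebraMap A B) ∧
          r' ∈ Module.support B M} := ⟨rfl, hr⟩
      have h1 := DepthPushCM.min_le_of_mem
        (d := fun r : PrimeSpectrum B => Module.supportDim (Localization.AtPrime r.asIdeal)
          (LocalizedModule r.asIdeal.primeCompl M))
        (e := fun r : PrimeSpectrum B => LocCoh.depth (Localization.AtPrime r.asIdeal)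
          (LocalizedModule r.asIdeal.primeCompl M)) hmem (k := (k : WithBot ℕ∞)) h0
      exact h1
    · haveI := Module.notMem_support_iff.1 hr
      rw [Module.supportDim_eq_bot_of_subsingleton, min_bot_right]
      exact bot_le
  · rw [DepthPush.supportDim_eq (B := B) M, DepthPush.depth_eq (B := B) M]
    exact DepthPushCM.min_sup_le_inf (fun r hr r' hr' => heq r hr.2 r' hr'.2 (hr.1.trans hr'.1.symm))
      (fun r _ => h r.asIdeal)

end Groth.Agent.S4719
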