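import Groth.Statements.S4720
import Mathlib
import Groth.Agent.LocH.TildeCompl
-- import your own Groth.Agent.* helpers here

set_option autoImplicit false
universe u
open EGA4

namespace Groth.Agent.S4720

/-- Let A be a Noetherian ring, Z a subset of Spec A stable under specialization, M an A-module and N a
submodule of M. If M is Z-pure, so is N; conversely, if N and M/N are Z-pure, so is M. -/
theorem result (A : Type u) [CommRing A] [IsNoetherianRing A]
    (Z : Set (PrimeSpectrum A)) (hZ : StableUnderSpecialization Z) (M : Type u) [AddCommGroup M] [Module A M]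
    (N : Submodule A M) :
    (EGA4.IsPureAlong Z M → EGA4.IsPureAlong Z ↥N) ∧
      (EGA4.IsPureAlong Z ↥N → EGA4.IsPureAlong Z (M ⧸ N) → EGA4.IsPureAlong Z M) := by
  refine ⟨fun h J hJ => ?_, fun hN hQ J hJ => ?_⟩
  · rw [Groth.Agent.LocH.injective_restrCompl_iff, Submodule.eq_bot_iff]
    rintro x ⟨n, hn⟩
    have hx : (x : M) ∈ DRing.torsionSub J M := ⟨n, fun a ha => congrArg Subtype.val (hn a ha)⟩
    rw [(Groth.Agent.LocH.injective_restrCompl_iff J).1 (h J hJ), Submodule.mem_bot] at hx
    exact Subtype.ext hx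
  · rw [Groth.Agent.LocH.injective_restrCompl_iff, Submodule.eq_bot_iff]
    rintro x ⟨n, hn⟩
    have hxN : (Submodule.Quotient.mk x : M ⧸ N) ∈ DRing.torsionSub J (M ⧸ N) :=
      ⟨n, fun a ha => by rw [← Submodule.Quotient.mk_smul, hn a ha]; rfl⟩
    rw [(Groth.Agent.LocH.injective_restrCompl_iff J).1 (hQ J hJ), Submodule.mem_bot, Submodule.Quotient.mk_eq_zero] at hxN
    have hx : (⟨x, hxN⟩ : N) ∈ DRing.torsionSub J ↥N := ⟨n, fun a ha => Subtype.ext (hn a ha)⟩
    rw [(Groth.Agent.LocH.injective_restrCompl_iff J).1 (hN J hJ), Submodule.mem_bot] at hx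
    exact congrArg Subtype.val hx

end Groth.Agent.S4720
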