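import Groth.Statements.S4721
import Groth.Agent.Easy3.Hartshorne

set_option autoImplicit false
universe u
open EGA4

namespace Groth.Agent.S4721

/-- Let A be a Noetherian ring whose spectrum is connected and d a natural number such that for every
prime p of height at least d the local ring A_p has depth at least 2. Then for any two distinct
minimal primes p', p'' of A there is a finite chain of minimal primes starting at p' and ending at
p'' such that any two consecutive members are both contained in a prime ideal of height at most d −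
1 (the spectrum is connected in codimension at most d − 1). -/
theorem result (A : Type u) [CommRing A] [IsNoetherianRing A]
    [ConnectedSpace (PrimeSpectrum A)] (d : ℕ)
    (h : ∀ (p : Ideal A) [p.IsPrime], (d : ℕ∞) ≤ p.height →
      (2 : ℕ∞) ≤ LocCoh.depth (Localization.AtPrime p) (Localization.AtPrime p))
    (p' p'' : Ideal A) (hp' : p' ∈ minimalPrimes A) (hp'' : p'' ∈ minimalPrimes A) (hne : p' ≠ p'') :
    ∃ (n : ℕ) (c : Fin (n + 1) → Ideal A), c 0 = p' ∧ c (Fin.last n) = p'' ∧ (∀ i, c i ∈ minimalPrimes A) ∧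
      ∀ i : Fin n, ∃ (q : Ideal A) (_ : q.IsPrime),
        c i.castSucc ≤ q ∧ c i.succ ≤ q ∧ q.height + 1 ≤ (d : ℕ∞) := by
  classical
  let r : Ideal A → Ideal A → Prop := fun a b => a ∈ minimalPrimes A ∧ b ∈ minimalPrimes A ∧
    ∃ (q : Ideal A) (_ : q.IsPrime), a ≤ q ∧ b ≤ q ∧ q.height + 1 ≤ (d : ℕ∞)
  suffices hr : Relation.ReflTransGen r p' p'' by
    clear hne hp''
    induction hr with
    | refl => exact ⟨0, fun _ => p', rfl, rfl, fun _ => hp', fun i => i.elim0⟩
    | @tail b c _ hbc ih =>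
      obtain ⟨n, f, h0, hl, hmin, hstep⟩ := ih
      refine ⟨n + 1, Fin.snoc f c, ?_, Fin.snoc_last _ _, fun i => ?_, fun i => ?_⟩
      · rw [show (0 : Fin (n + 1 + 1)) = Fin.castSucc 0 from rfl, Fin.snoc_castSucc, h0]
      · induction i using Fin.lastCases with
        | last => rw [Fin.snoc_last]; exact hbc.2.1
        | cast i => rw [Fin.snoc_castSucc]; exact hmin i
      · induction i using Fin.lastCases with
        | last =>
          rw [Fin.succ_last, Fin.snoc_last, Fin.snoc_castSucc, hl]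
          exact hbc.2.2
        | cast i =>
          rw [Fin.succ_castSucc, Fin.snoc_castSucc, Fin.snoc_castSucc]
          exact hstep i
  by_contra hnot
  let M := (minimalPrimes.finite_of_isNoetherianRing A).toFinset
  have hM : ∀ x, x ∈ M ↔ x ∈ minimalPrimes A := fun x => Set.Finite.mem_toFinset _
  let C₁ := M.filter fun x => Relation.ReflTransGen r p' x
  let C₂ := M.filter fun x => ¬ Relation.ReflTransGen r p' x
  have hmem : ∀ (C : Finset (Ideal A)) (p : PrimeSpectrum A),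
      p ∈ PrimeSpectrum.zeroLocus ((C.inf id : Ideal A) : Set A) ↔ ∃ x ∈ C, x ≤ p.asIdeal := fun C p => by
    rw [PrimeSpectrum.mem_zeroLocus, SetLike.coe_subset_coe, p.isPrime.inf_le']
    simp
  have hpre := Groth.Agent.Easy3.Hartshorne.isPreconnected_compl (C₁.inf id ⊔ C₂.inf id) (fun p _ hp => by
    obtain ⟨x, hx, hxp⟩ := (hmem C₁ ⟨p, ‹_›⟩).1 (le_sup_left.trans hp)
    obtain ⟨y, hy, hyp⟩ := (hmem C₂ ⟨p, ‹_›⟩).1 (le_sup_right.trans hp)
    rw [Finset.mem_filter, hM] at hx hy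
    refine h p ?_
    by_contra hh
    exact hy.2 (hx.2.tail ⟨hx.1, hy.1, p, ‹_›, hxp, hyp, Order.add_one_le_of_lt (not_le.1 hh)⟩))
  rw [PrimeSpectrum.zeroLocus_sup] at hpre
  have hmin : ∀ (m : Ideal A) (hm : m ∈ minimalPrimes A) (C : Finset (Ideal A)), C ⊆ M →
      (⟨m, hm.1.1⟩ : PrimeSpectrum A) ∈ PrimeSpectrum.zeroLocus ((C.inf id : Ideal A) : Set A) → m ∈ C := by
    intro m hm C hCM hC
    obtain ⟨x, hx, hxm⟩ := (hmem C _).1 hC
    have hx' := (hM x).1 (hCM hx)
    rwa [le_antisymm (hm.2 hx'.1 hxm) hxm]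
  have h1 : (⟨p', hp'.1.1⟩ : PrimeSpectrum A) ∈ PrimeSpectrum.zeroLocus ((C₁.inf id : Ideal A) : Set A) :=
    (hmem _ _).2 ⟨p', Finset.mem_filter.2 ⟨(hM _).2 hp', .refl⟩, le_rfl⟩
  have h2 : (⟨p'', hp''.1.1⟩ : PrimeSpectrum A) ∈ PrimeSpectrum.zeroLocus ((C₂.inf id : Ideal A) : Set A) :=
    (hmem _ _).2 ⟨p'', Finset.mem_filter.2 ⟨(hM _).2 hp'', hnot⟩, le_rfl⟩
  have hn1 : (⟨p', hp'.1.1⟩ : PrimeSpectrum A) ∉ PrimeSpectrum.zeroLocus ((C₂.inf id : Ideal A) : Set A) := fun hh =>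
    (Finset.mem_filter.1 (hmin p' hp' C₂ (Finset.filter_subset _ _) hh)).2 .refl
  have hn2 : (⟨p'', hp''.1.1⟩ : PrimeSpectrum A) ∉ PrimeSpectrum.zeroLocus ((C₁.inf id : Ideal A) : Set A) := fun hh =>
    hnot (Finset.mem_filter.1 (hmin p'' hp'' C₁ (Finset.filter_subset _ _) hh)).2
  obtain ⟨z, hz, hz1, hz2⟩ := isPreconnected_closed_iff.1 hpre _ _ (PrimeSpectrum.isClosed_zeroLocus _)
    (PrimeSpectrum.isClosed_zeroLocus _) (fun z _ => by
      haveI := z.isPrime
      obtain ⟨m, hm, hmz⟩ := Ideal.exists_minimalPrimes_le (bot_le : (⊥ : Ideal A) ≤ z.asIdeal)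
      by_cases hr : Relation.ReflTransGen r p' m
      · exact Or.inl ((hmem _ _).2 ⟨m, Finset.mem_filter.2 ⟨(hM _).2 hm, hr⟩, hmz⟩)
      · exact Or.inr ((hmem _ _).2 ⟨m, Finset.mem_filter.2 ⟨(hM _).2 hm, hr⟩, hmz⟩))
    ⟨_, fun hh => hn1 hh.2, h1⟩ ⟨_, fun hh => hn2 hh.1, h2⟩
  exact hz ⟨hz1, hz2⟩

end Groth.Agent.S4721
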