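import Groth.Statements.S4728
import Mathlib
import Groth.Agent.FlatDepth.Localize
-- import your own Groth.Agent.* helpers here

set_option autoImplicit false
universe u
open EGA4

namespace Groth.Agent.S4728

/-- Let A be a Noetherian local domain of dimension 1 with maximal ideal m, A' a Noetherian local ring
and A → A' a local homomorphism which is normal (flat, with geometrically normal fibres). Then the
ideal m A' of A' is prime and the local ring of A' at m A' has dimension 1. (The remaining clauses
of the published item, describing A' inside its total ring of fractions, are not restated.) -/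
theorem result (A A' : Type u) [CommRing A] [CommRing A']
    [IsNoetherianRing A] [IsNoetherianRing A'] [IsLocalRing A] [IsLocalRing A'] [IsDomain A]
    (hA : ringKrullDim A = 1) [Algebra A A'] [IsLocalHom (algebraMap A A')] (h : EGA4.IsNormalHom A A') :
    ((IsLocalRing.maximalIdeal A).map (algebraMap A A')).IsPrime ∧
      ((IsLocalRing.maximalIdeal A).map (algebraMap A A')).height = 1 := by
  obtain ⟨_, hfib⟩ := h
  let m := IsLocalRing.maximalIdeal A
  let J := m.map (algebraMap A A')
  let M := IsLocalRing.maximalIdeal A'
  haveI := FlatDepth.isLocalRing_fibLocRing (A := A) M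
  obtain ⟨Q, _, ⟨e⟩⟩ := FlatDepth.exists_fibre_equiv (A := A) M
  obtain ⟨_, -⟩ := FlatDepth.isNormalRing_of_isGeomNormal (hfib (M.comap (algebraMap A A'))) Q
  haveI : IsDomain (EGA4.FibLocRing A A' M) := e.symm.toMulEquiv.isDomain (Localization.AtPrime Q)
  have hJ : J.IsPrime := by
    have h2 : ((M.comap (algebraMap A A')).map (algebraMap A (Localization.AtPrime M))).IsPrime :=
      (Ideal.Quotient.isDomain_iff_prime _).1 inferInstance
    have h4 : J = ((M.comap (algebraMap A A')).map (algebraMap A (Localization.AtPrime M))).comap
        (algebraMap A' (Localization.AtPrime M)) := by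
      rw [IsLocalRing.maximalIdeal_comap, IsScalarTower.algebraMap_eq A A' (Localization.AtPrime M), ← Ideal.map_map]
      let e' := IsLocalization.atUnits A' M.primeCompl (S := Localization.AtPrime M)
        (fun x hx => IsLocalRing.notMem_maximalIdeal.1 hx)
      exact (Ideal.comap_map_of_bijective (algebraMap A' (Localization.AtPrime M)) (by
        have : (algebraMap A' (Localization.AtPrime M) : A' → Localization.AtPrime M) = e' :=
          funext fun x => (e'.commutes x).symm
        rw [this]; exact e'.bijective)).symm
    rw [h4]
    exact Ideal.IsPrime.comap _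
  refine ⟨hJ, ?_⟩
  haveI := hJ
  haveI : J.LiesOver m := ⟨by
    refine le_antisymm Ideal.le_comap_map (IsLocalRing.le_maximalIdeal (Ideal.IsPrime.ne_top (Ideal.IsPrime.comap _)))⟩
  rw [Ideal.height_eq_height_add_of_liesOver_of_hasGoingDown m J, Ideal.map_quotient_self]
  haveI : IsDomain (A' ⧸ J) := Ideal.Quotient.isDomain J
  rw [Ideal.height_bot, add_zero]
  have h5 := IsLocalRing.maximalIdeal_height_eq_ringKrullDim (R := A)
  rw [hA] at h5
  exact_mod_cast h5

end Groth.Agent.S4728
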