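import Groth.Statements.S4732
import Mathlib
-- import your own Groth.Agent.* helpers here

set_option autoImplicit false
universe u
open EGA4

namespace Groth.Agent.S4732

open AlgebraicGeometry CategoryTheory in
/-- Let k be a field, X a scheme locally of finite type over k and x a point of X. Then there are an
open neighbourhood U of x, a k-scheme Y all of whose local rings are regular, and an immersion U → Y
compatible with the structure morphisms to Spec k. -/
theorem result (k : Type u) [Field k] {X : Scheme.{u}}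
    (f : X ⟶ Spec (CommRingCat.of k)) [LocallyOfFiniteType f] (x : X) :
    ∃ (U : X.Opens) (_ : x ∈ U) (Y : Scheme.{u}) (g : Y ⟶ Spec (CommRingCat.of k)) (i : (U : Scheme.{u}) ⟶ Y),
      IsImmersion i ∧ i ≫ g = U.ι ≫ f ∧ ∀ y : Y, IsRegularLocalRing (Y.presheaf.stalk y) := by
  obtain ⟨U, hU, hxU, -⟩ := exists_isAffineOpen_mem_and_subset (X := X) (x := x) (U := ⊤) trivial
  haveI : IsAffine (U : Scheme.{u}) := hU
  let φ := Spec.preimage ((U : Scheme.{u}).isoSpec.inv ≫ U.ι ≫ f)
  have hφ : Spec.map φ = (U : Scheme.{u}).isoSpec.inv ≫ U.ι ≫ f := Spec.map_preimage _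
  letI : Algebra k Γ((U : Scheme.{u}), ⊤) := φ.hom.toAlgebra
  have hft : φ.hom.FiniteType := (HasRingHomProperty.Spec_iff (P := @LocallyOfFiniteType)).mp (hφ ▸ inferInstance)
  haveI : Algebra.FiniteType k Γ((U : Scheme.{u}), ⊤) := hft
  obtain ⟨n, p, hp⟩ := Algebra.FiniteType.iff_quotient_mvPolynomial''.1 (inferInstance : Algebra.FiniteType k Γ((U : Scheme.{u}), ⊤))
  refine ⟨U, hxU, Spec (CommRingCat.of (MvPolynomial (Fin n) k)),
    Spec.map (CommRingCat.ofHom (algebraMap k (MvPolynomial (Fin n) k))),
    (U : Scheme.{u}).isoSpec.hom ≫ Spec.map (CommRingCat.ofHom p.toRingHom), ?_, ?_, fun y => ?_⟩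
  · haveI := IsClosedImmersion.spec_of_surjective (CommRingCat.ofHom p.toRingHom) hp
    exact MorphismProperty.comp_mem _ _ _ (inferInstanceAs (IsImmersion (U : Scheme.{u}).isoSpec.hom))
      (inferInstanceAs (IsImmersion (Spec.map (CommRingCat.ofHom p.toRingHom))))
  · rw [Category.assoc, ← Spec.map_comp]
    erw [show CommRingCat.ofHom (algebraMap k (MvPolynomial (Fin n) k)) ≫ CommRingCat.ofHom p.toRingHom = φ from
      CommRingCat.hom_ext (RingHom.ext fun c => p.commutes c)]
    rw [hφ, Iso.hom_inv_id_assoc]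
  · let z : PrimeSpectrum (MvPolynomial (Fin n) k) := y
    haveI := IsRegularRing.isRegularLocalRing_localization (R := MvPolynomial (Fin n) k) z.asIdeal
    exact IsRegularLocalRing.of_ringEquiv (IsLocalization.algEquiv z.asIdeal.primeCompl (Localization.AtPrime z.asIdeal)
      ((Spec.structureSheaf (MvPolynomial (Fin n) k)).presheaf.stalk z)).toRingEquiv

end Groth.Agent.S4732
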