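import Groth.Statements.S4734
import Groth.Agent.NormFlatLoc.Basic
import Groth.Agent.S2612
import Groth.Agent.FlatDepth.SkTensor
import Groth.Agent.LocH.DepthMisc

set_option linter.style.haveILetI false

set_option autoImplicit false
universe u
open EGA4

namespace Groth.Agent.S4734

/-- Let A be a Noetherian ring, I a nilpotent ideal of A and M a finite A-module whose support is all of
Spec A and which is normally flat along I. Then for every prime p of A: M satisfies Serre's
condition (S_n) at p if and only if the A-module A/I does; and the codepth of M_p is at most n if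
and only if the codepth of the A_p-module (A/I)_p is at most n (codepth written additively as dim ≤
depth + n). -/
theorem result (n : ℕ) (A : Type u) [CommRing A] [IsNoetherianRing A]
    (I : Ideal A) (hI : IsNilpotent I) (M : Type u) [AddCommGroup M] [Module A M] [Module.Finite A M]
    (hsupp : Module.support A M = Set.univ) (hM : EGA4.IsNormallyFlat I M) (p : Ideal A) [p.IsPrime] :
    (EGA4.HasSkAt n A M p ↔ EGA4.HasSkAt n A (A ⧸ I) p) ∧
      (Module.supportDim (Localization.AtPrime p) (LocalizedModule p.primeCompl M) ≤
          ((LocCoh.depth (Localization.AtPrime p) (LocalizedModule p.primeCompl M) : ℕ∞) : WithBot ℕ∞) + n ↔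
        Module.supportDim (Localization.AtPrime p) (LocalizedModule p.primeCompl (A ⧸ I)) ≤
          ((LocCoh.depth (Localization.AtPrime p) (LocalizedModule p.primeCompl (A ⧸ I)) : ℕ∞) : WithBot ℕ∞) + n) := by
  have key : ∀ (q : Ideal A) [q.IsPrime],
      Module.supportDim (Localization.AtPrime q) (LocalizedModule q.primeCompl M) =
        Module.supportDim (Localization.AtPrime q) (LocalizedModule q.primeCompl (A ⧸ I)) ∧
      LocCoh.depth (Localization.AtPrime q) (LocalizedModule q.primeCompl M) =
        LocCoh.depth (Localization.AtPrime q) (LocalizedModule q.primeCompl (A ⧸ I)) := by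
    intro q _
    let Aq := Localization.AtPrime q
    haveI : Nontrivial (LocalizedModule q.primeCompl M) :=
      (Module.mem_support_iff (p := ⟨q, inferInstance⟩)).1 (hsupp.symm ▸ Set.mem_univ _)
    let T := Aq ⧸ I.map (algebraMap A Aq)
    have hIq : IsNilpotent (I.map (algebraMap A Aq)) := by
      obtain ⟨k, hk⟩ := hI
      refine ⟨k, ?_⟩
      rw [← Ideal.map_pow, hk]
      exact Ideal.map_bot
    haveI : IsNoetherianRing Aq := IsLocalization.isNoetherianRing q.primeCompl Aq inferInstance
    have h := S2612.result Aq (I.map (algebraMap A Aq)) hIq (LocalizedModule q.primeCompl M)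
      (NormFlatLoc.isNormallyFlat_localized I q.primeCompl Aq (LocalizedModule.mkLinearMap q.primeCompl M) hM)
    let e : LocalizedModule q.primeCompl (A ⧸ I) ≃ₗ[Aq] T :=
      (IsLocalizedModule.iso q.primeCompl
        (IsScalarTower.toAlgHom A (A ⧸ I) T).toLinearMap).extendScalarsOfIsLocalization q.primeCompl Aq
    refine ⟨?_, ?_⟩
    · rw [h.1, Module.supportDim_eq_of_equiv e, Module.supportDim_quotient_eq_ringKrullDim]
    · rw [h.2]
      exact LocH.idealDepth_congr e.symm _
  refine ⟨?_, by rw [(key p).1, (key p).2]⟩
  rw [FlatDepth.hasSkAt_iff, FlatDepth.hasSkAt_iff]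
  refine forall_congr' fun q => forall_congr' fun _ => forall_congr' fun _ => ?_
  rw [FlatDepth.SkIneq, FlatDepth.SkIneq, (key q).1, (key q).2]

end Groth.Agent.S4734
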