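import Groth.Statements.S4739
-- import your own Groth.Agent.* helpers here
import Groth.Agent.GRingCpl.FormalCat

set_option autoImplicit false
universe u
open EGA4

namespace Groth.Agent.S4739

open TensorProduct in
/-- Let A → B be a local homomorphism of Noetherian local rings and Â the completion of A, and suppose
B' = B ⊗_A Â is Noetherian. Then for every prime ideal n' of B' lying over the maximal ideal of B
and containing the image of the maximal ideal of A through Â (that is, lying over the maximal ideal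
m_A Â of Â), the completion of B and the completion of the local ring B'_{n'} are isomorphic
(existence of a ring isomorphism only). -/
theorem result (A B : Type u) [CommRing A] [CommRing B] [IsNoetherianRing A]
    [IsNoetherianRing B] [IsLocalRing A] [IsLocalRing B] [Algebra A B] [IsLocalHom (algebraMap A B)]
    [IsNoetherianRing (B ⊗[A] EGA4.Cpl A)] (n' : Ideal (B ⊗[A] EGA4.Cpl A)) [n'.IsPrime]
    (h1 : n'.comap (algebraMap B (B ⊗[A] EGA4.Cpl A)) = IsLocalRing.maximalIdeal B)
    (h2 : (IsLocalRing.maximalIdeal A).map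
        ((Algebra.TensorProduct.includeRight.toRingHom : EGA4.Cpl A →+* B ⊗[A] EGA4.Cpl A).comp
          (algebraMap A (EGA4.Cpl A))) ≤ n') :
    Nonempty (EGA4.Cpl B ≃+* EGA4.Cpl (Localization.AtPrime n')) := by
  let B' := B ⊗[A] EGA4.Cpl A
  haveI : Module.Flat A (EGA4.Cpl A) := AdicCompletion.flat_of_isNoetherian _
  have hA : (IsLocalRing.maximalIdeal A).map (algebraMap A B) ≤ IsLocalRing.maximalIdeal B :=
    ((IsLocalRing.local_hom_TFAE (algebraMap A B)).out 0 2).mp (inferInstance : IsLocalHom (algebraMap A B))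
  let J : Ideal B' := (IsLocalRing.maximalIdeal B).map (algebraMap B B')
  have hsmall : ∀ y : B', ∃ b : B, y - algebraMap B B' b ∈ J := fun y => by
    induction y using TensorProduct.induction_on with
    | zero => exact ⟨0, by rw [map_zero, sub_zero]; exact Ideal.zero_mem _⟩
    | add x z hx hz =>
      obtain ⟨a, ha⟩ := hx
      obtain ⟨c, hc⟩ := hz
      exact ⟨a + c, by rw [map_add, add_sub_add_comm]; exact add_mem ha hc⟩
    | tmul x c =>
      obtain ⟨a, ha⟩ := Cohen.exists_sub_mem_pow c 1
      rw [pow_one] at ha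
      refine ⟨a • x, ?_⟩
      have hc : ((Algebra.TensorProduct.includeRight : EGA4.Cpl A →ₐ[A] B').toRingHom.comp (algebraMap A (EGA4.Cpl A))) = algebraMap A B' :=
        RingHom.ext fun r => (Algebra.TensorProduct.includeRight : EGA4.Cpl A →ₐ[A] B').commutes r
      have hle : (IsLocalRing.maximalIdeal (EGA4.Cpl A)).map
          (Algebra.TensorProduct.includeRight : EGA4.Cpl A →ₐ[A] B').toRingHom ≤ J := by
        show (IsLocalRing.maximalIdeal (AdicCompletion (IsLocalRing.maximalIdeal A) A)).map _ ≤ J
        rw [AdicCompletion.maximalIdeal_eq_map, Ideal.map_map, hc,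
          IsScalarTower.algebraMap_eq A B B', ← Ideal.map_map]
        exact Ideal.map_mono hA
      have h3 := J.mul_mem_left (x ⊗ₜ[A] (1 : EGA4.Cpl A))
        (hle (Ideal.mem_map_of_mem (Algebra.TensorProduct.includeRight : EGA4.Cpl A →ₐ[A] B').toRingHom ha))
      change (x ⊗ₜ[A] (1 : EGA4.Cpl A)) * ((1 : B) ⊗ₜ[A] (c - algebraMap A (EGA4.Cpl A) a)) ∈ J at h3
      rw [Algebra.TensorProduct.tmul_mul_tmul, mul_one, one_mul, TensorProduct.tmul_sub,
        Algebra.algebraMap_eq_smul_one, ← TensorProduct.smul_tmul] at h3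
      exact h3
  have hJn : J ≤ n' := Ideal.map_le_iff_le_comap.mpr h1.ge
  have hn : n' = J := le_antisymm (fun y hy => by
    obtain ⟨b, hb⟩ := hsmall y
    have hbm : b ∈ n'.comap (algebraMap B B') := by
      rw [Ideal.mem_comap]
      have h3 := sub_mem hy (hJn hb)
      rwa [sub_sub_cancel] at h3
    rw [h1] at hbm
    have h4 := add_mem hb (Ideal.mem_map_of_mem (algebraMap B B') hbm)
    rwa [sub_add_cancel] at h4) hJn
  let L := Localization.AtPrime n'
  haveI : IsNoetherianRing L := IsLocalization.isNoetherianRing n'.primeCompl L inferInstance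
  have hm : (IsLocalRing.maximalIdeal B).map (algebraMap B L) = IsLocalRing.maximalIdeal L := by
    rw [IsScalarTower.algebraMap_eq B B' L, ← Ideal.map_map, ← Localization.AtPrime.map_eq_maximalIdeal]
    exact congrArg (Ideal.map _) hn.symm
  haveI : IsLocalHom (algebraMap B L) :=
    ((IsLocalRing.local_hom_TFAE (algebraMap B L)).out 2 0).mp hm.le
  haveI : Module.Flat B L := Module.Flat.trans B B' L
  haveI : n'.IsMaximal := by
    refine Ideal.isMaximal_iff.mpr ⟨fun h => (Ideal.IsPrime.ne_top inferInstance) ((Ideal.eq_top_iff_one _).mpr h),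
      fun K x hK hx hxK => ?_⟩
    obtain ⟨b, hb⟩ := hsmall x
    have hbu : IsUnit b := by
      by_contra hb'
      exact hx (by
        have h3 := add_mem (hJn hb) (h1.ge hb' : b ∈ n'.comap (algebraMap B B'))
        rwa [sub_add_cancel] at h3)
    have h4 : algebraMap B B' b ∈ K := by
      have h3 := sub_mem hxK (hK (hJn hb))
      rwa [sub_sub_cancel] at h3
    exact (K.eq_top_iff_one).mp (Ideal.eq_top_of_isUnit_mem _ h4 (hbu.map _))
  have hres : ∀ z : L, ∃ r : B, z - algebraMap B L r ∈ IsLocalRing.maximalIdeal L := fun z => by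
    obtain ⟨y, hy⟩ := (IsLocalization.AtPrime.equivQuotMaximalIdeal n' L).surjective (Ideal.Quotient.mk _ z)
    obtain ⟨y, rfl⟩ := Ideal.Quotient.mk_surjective y
    obtain ⟨b, hb⟩ := hsmall y
    refine ⟨b, ?_⟩
    rw [IsLocalization.AtPrime.equivQuotMaximalIdeal_apply_mk, Ideal.Quotient.eq] at hy
    have h3 : algebraMap B' L (y - algebraMap B B' b) ∈ IsLocalRing.maximalIdeal L :=
      (IsLocalization.AtPrime.to_map_mem_maximal_iff L n' _).mpr (hJn hb)
    rw [show z - algebraMap B L b = algebraMap B' L (y - algebraMap B B' b) - (algebraMap B' L y - z) by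
      rw [map_sub, ← IsScalarTower.algebraMap_apply]; ring]
    exact Submodule.sub_mem (R := L) (M := L) (IsLocalRing.maximalIdeal L) h3 hy
  obtain ⟨_, s1, s2, s3⟩ := FlatDepth.formal_setup B L
  set_option synthInstance.maxHeartbeats 400000 in
  exact ⟨RingEquiv.ofBijective (algebraMap (EGA4.Cpl B) (EGA4.Cpl L))
    ⟨FaithfulSMul.algebraMap_injective _ _, GRingCpl.cpl_map_surjective hm hres⟩⟩

end Groth.Agent.S4739
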