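import Groth.Statements.S4741
import Groth.Agent.SmLocalST.EtReg

set_option autoImplicit false
universe u
open EGA4

namespace Groth.Agent.S4741

open AlgebraicGeometry CategoryTheory in
/-- Suppose X and Y are locally Noetherian schemes, f : X → Y is a morphism that is surjective, and Z is
a closed subset of Y. Then codim(f⁻¹(Z), X) ≤ codim(Z, Y), where the codimension of a closed subset
means the infimum over its points of the dimensions of the local rings there; when f is in addition
flat, these two codimensions coincide. (In the published version the equality part assumes f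
quasi-flat; here f is taken to be flat.) -/
theorem result {X Y : Scheme.{u}} (f : X ⟶ Y) [IsLocallyNoetherian X]
    [IsLocallyNoetherian Y] (hf : Function.Surjective f.base) (Z : Set Y) (hZ : IsClosed Z) :
    (⨅ x ∈ f.base ⁻¹' Z, ringKrullDim (X.presheaf.stalk x)) ≤ ⨅ y ∈ Z, ringKrullDim (Y.presheaf.stalk y) ∧
      (Flat f → (⨅ x ∈ f.base ⁻¹' Z, ringKrullDim (X.presheaf.stalk x)) = ⨅ y ∈ Z, ringKrullDim (Y.presheaf.stalk y)) := by
  have key : ∀ y : Y, ∃ x : X, f.base x = y ∧
      ringKrullDim (X.presheaf.stalk x) ≤ ringKrullDim (Y.presheaf.stalk y) := by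
    intro y
    obtain ⟨x', hx'⟩ := hf y
    obtain ⟨V, hV, hyV, -⟩ := exists_isAffineOpen_mem_and_subset (X := Y) (x := y) (U := ⊤) trivial
    obtain ⟨U, hU, hxU, hUV⟩ := exists_isAffineOpen_mem_and_subset (X := X) (x := x')
      (U := f ⁻¹ᵁ V) (show f.base x' ∈ V from hx' ▸ hyV)
    have e : U ≤ f ⁻¹ᵁ V := hUV
    haveI : IsNoetherianRing Γ(X, U) := IsLocallyNoetherian.component_noetherian ⟨U, hU⟩
    haveI : IsNoetherianRing Γ(Y, V) := IsLocallyNoetherian.component_noetherian ⟨V, hV⟩
    algebraize [(f.appLE V U e).hom]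
    let p := (hV.primeIdealOf ⟨y, hyV⟩).asIdeal
    let P := (hU.primeIdealOf ⟨x', hxU⟩).asIdeal
    have hP : P.comap (algebraMap Γ(Y, V) Γ(X, U)) = p := by
      have h1 := IsAffineOpen.comap_primeIdealOf_appLE (f := f) V hV U hU e hxU
      subst hx'
      exact congrArg PrimeSpectrum.asIdeal h1
    obtain ⟨q, hq, hqP⟩ := Ideal.exists_minimalPrimes_le (Ideal.map_le_iff_le_comap.2 hP.ge :
      p.map (algebraMap Γ(Y, V) Γ(X, U)) ≤ P)
    haveI : q.IsPrime := hq.1.1
    haveI : q.LiesOver p := ⟨le_antisymm (Ideal.map_le_iff_le_comap.1 hq.1.2)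
      ((Ideal.comap_mono hqP).trans hP.le)⟩
    have h0 : (q.map (Ideal.Quotient.mk (p.map (algebraMap Γ(Y, V) Γ(X, U))))).height = 0 := by
      haveI : (q.map (Ideal.Quotient.mk (p.map (algebraMap Γ(Y, V) Γ(X, U))))).IsPrime :=
        Ideal.map_isPrime_of_surjective Ideal.Quotient.mk_surjective (by rw [Ideal.mk_ker]; exact hq.1.2)
      rw [Ideal.height_eq_zero_iff]
      refine ⟨⟨inferInstance, bot_le⟩, fun r hr hrq => ?_⟩
      haveI := hr.1
      have h2 : r.comap (Ideal.Quotient.mk _) ≤ q := by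
        refine (Ideal.comap_mono hrq).trans ?_
        rw [Ideal.comap_map_of_surjective _ Ideal.Quotient.mk_surjective, ← RingHom.ker_eq_comap_bot,
          Ideal.mk_ker]
        exact sup_le le_rfl hq.1.2
      have h3 := hq.2 ⟨Ideal.IsPrime.comap _, by
        refine le_trans (le_of_eq ?_) (Ideal.comap_mono bot_le)
        rw [← RingHom.ker_eq_comap_bot, Ideal.mk_ker]⟩ h2
      rw [← Ideal.map_comap_of_surjective _ Ideal.Quotient.mk_surjective r]
      exact Ideal.map_mono h3
    have hle : q.height ≤ p.height := by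
      have := Ideal.height_le_height_add_of_liesOver p q
      rwa [h0, add_zero] at this
    let x : X := hU.fromSpec ⟨q, inferInstance⟩
    have hxU' : x ∈ U := by
      rw [← SetLike.mem_coe, ← hU.range_fromSpec]; exact ⟨_, rfl⟩
    have hxq : hU.primeIdealOf ⟨x, hxU'⟩ = ⟨q, inferInstance⟩ :=
      hU.fromSpec.isOpenEmbedding.injective (hU.fromSpec_primeIdealOf ⟨x, hxU'⟩)
    have hfx : f.base x = y := by
      have h1 := congrArg (fun φ => φ (⟨q, inferInstance⟩ : PrimeSpectrum Γ(X, U)))
        (IsAffineOpen.SpecMap_appLE_fromSpec f hV hU e)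
      simp only [Scheme.Hom.comp_apply] at h1
      rw [show f.base x = f (hU.fromSpec ⟨q, inferInstance⟩) from rfl, ← h1]
      rw [show (Spec.map (f.appLE V U e)) (⟨q, inferInstance⟩ : PrimeSpectrum Γ(X, U)) =
        hV.primeIdealOf ⟨y, hyV⟩ from PrimeSpectrum.ext (Ideal.LiesOver.over (p := p) (P := q)).symm]
      exact hV.fromSpec_primeIdealOf _
    haveI := hU.isLocalization_stalk ⟨x, hxU'⟩
    haveI := hV.isLocalization_stalk ⟨y, hyV⟩
    letI := (X.presheaf.germ U x hxU').hom.toAlgebra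
    letI := (Y.presheaf.germ V y hyV).hom.toAlgebra
    refine ⟨x, hfx, ?_⟩
    rw [IsLocalization.AtPrime.ringKrullDim_eq_height (hU.primeIdealOf ⟨x, hxU'⟩).asIdeal
        (X.presheaf.stalk x),
      IsLocalization.AtPrime.ringKrullDim_eq_height (hV.primeIdealOf ⟨y, hyV⟩).asIdeal
        (Y.presheaf.stalk y), hxq]
    exact_mod_cast hle
  have h1 : (⨅ x ∈ f.base ⁻¹' Z, ringKrullDim (X.presheaf.stalk x)) ≤
      ⨅ y ∈ Z, ringKrullDim (Y.presheaf.stalk y) := le_iInf₂ fun y hy => by
    obtain ⟨x, hx, h⟩ := key y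
    exact (iInf₂_le x (show f.base x ∈ Z from hx ▸ hy)).trans h
  refine ⟨h1, fun hfl => le_antisymm h1 (le_iInf₂ fun x hx => (iInf₂_le (f.base x) hx).trans ?_)⟩
  letI := (f.stalkMap x).hom.toAlgebra
  haveI : Module.Flat (Y.presheaf.stalk (f.base x)) (X.presheaf.stalk x) := Flat.stalkMap f x
  haveI : IsLocalHom (algebraMap (Y.presheaf.stalk (f.base x)) (X.presheaf.stalk x)) :=
    inferInstanceAs (IsLocalHom (f.stalkMap x).hom)
  exact SmLocalST.ringKrullDim_le_of_flat_local _ _

end Groth.Agent.S4741
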