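import Groth.Statements.S4742
import Groth.Agent.Catenary.Flat
import Groth.Agent.CMFlat.Quotient

set_option autoImplicit false
universe u
open EGA4

namespace Groth.Agent.S4742

/-- Let A be a Noetherian local ring which is equidimensional and catenary, t an element of A belonging
to a system of parameters (dim A/tA + 1 = dim A), and Z a set of prime ideals of A stable under
specialization. Write X = Spec A, X₀ = V(t), X₁ = X ∖ X₀ and Z₀ = Z ∩ X₀, Z₁ = Z ∩ X₁. Then
codim(Z₀, X₀) ≤ codim(Z, X) ≤ codim(Z₁, X₁), where each codimension is the infimum of the heights of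
the primes concerned, heights for Z₀ being taken in A/tA. -/
theorem result (A : Type u) [CommRing A] [IsNoetherianRing A] [IsLocalRing A]
    (hA : EGA4.IsEquidim A) (hA' : CAlg.IsCatenary A) (t : A)
    (ht : ringKrullDim (A ⧸ Ideal.span {t}) + 1 = ringKrullDim A) (Z : Set (PrimeSpectrum A))
    (hZ : StableUnderSpecialization Z) :
    (⨅ p ∈ {p ∈ Z | t ∈ p.asIdeal}, (p.asIdeal.map (Ideal.Quotient.mk (Ideal.span {t}))).height) ≤
        ⨅ p ∈ Z, p.asIdeal.height ∧
      (⨅ p ∈ Z, p.asIdeal.height) ≤ ⨅ p ∈ {p ∈ Z | t ∉ p.asIdeal}, p.asIdeal.height := by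
  obtain ⟨n, hn⟩ := Groth.Agent.SerreReg.exists_dim_nat A
  have htm : t ∈ IsLocalRing.maximalIdeal A := fun hu => by
    haveI : Subsingleton (A ⧸ Ideal.span {t}) := Ideal.Quotient.subsingleton_iff.mpr (Ideal.span_singleton_eq_top.mpr hu)
    rw [ringKrullDim_eq_bot_of_subsingleton, WithBot.bot_add, hn] at ht
    exact absurd ht WithBot.bot_ne_coe
  refine ⟨le_iInf₂ fun p hp => ?_, biInf_mono fun p hp => hp.1⟩
  let J : Ideal A := p.asIdeal ⊔ Ideal.span {t}
  have hJ : J ≤ IsLocalRing.maximalIdeal A :=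
    sup_le (IsLocalRing.le_maximalIdeal p.2.ne_top) ((Ideal.span_singleton_le_iff_mem _).mpr htm)
  haveI : Nontrivial (A ⧸ J) := Ideal.Quotient.nontrivial_iff.mpr fun e => (IsLocalRing.maximalIdeal.isMaximal A).ne_top (top_le_iff.mp (e ▸ hJ))
  haveI : IsLocalRing (A ⧸ J) := IsLocalRing.of_surjective' _ Ideal.Quotient.mk_surjective
  obtain ⟨m, hm⟩ := Groth.Agent.SerreReg.exists_dim_nat (A ⧸ J)
  have hpm : ringKrullDim (A ⧸ p.asIdeal) ≤ ((m + 1 : ℕ) : WithBot ℕ∞) := by
    haveI : Nontrivial (A ⧸ p.asIdeal) := Ideal.Quotient.nontrivial_iff.mpr p.2.ne_top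
    haveI : IsLocalRing (A ⧸ p.asIdeal) := IsLocalRing.of_surjective' _ Ideal.Quotient.mk_surjective
    refine (ringKrullDim_le_ringKrullDim_quotient_add_card {Ideal.Quotient.mk p.asIdeal t} ?_).trans ?_
    · intro z hz
      rw [Finset.coe_singleton, Set.mem_singleton_iff] at hz
      subst hz
      rw [IsLocalRing.ringJacobson_eq_maximalIdeal]
      show ¬IsUnit _
      intro hu
      haveI := IsLocalHom.of_surjective (Ideal.Quotient.mk p.asIdeal) Ideal.Quotient.mk_surjective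
      exact htm (isUnit_of_map_unit (Ideal.Quotient.mk p.asIdeal) t hu)
    rw [Finset.card_singleton, Finset.coe_singleton, ← Set.image_singleton, ← Ideal.map_span,
      ringKrullDim_eq_of_ringEquiv (DoubleQuot.quotQuotEquivQuotSup _ _), hm]
    rfl
  obtain ⟨l, hl⟩ := Order.le_krullDim_iff.mp ((ringKrullDim_quotient (R := A) J) ▸ hm.ge :
    (m : WithBot ℕ∞) ≤ Order.krullDim (PrimeSpectrum.zeroLocus (J : Set A)))
  let q : PrimeSpectrum A := l.head.1
  have hJq : J ≤ q.asIdeal := l.head.2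
  have hmq : (m : WithBot ℕ∞) ≤ ringKrullDim (A ⧸ q.asIdeal) := by
    rw [ringKrullDim_quotient]
    exact Order.le_krullDim_iff.mpr ⟨⟨l.length, fun i => ⟨(l i).1, (l.monotone (Fin.zero_le i) : l.head ≤ l i)⟩,
      fun i => l.step i⟩, hl⟩
  have htq : t ∈ q.asIdeal := hJq (Ideal.mem_sup_right (Ideal.mem_span_singleton_self t))
  refine (iInf₂_le q ⟨hZ (PrimeSpectrum.le_iff_specializes _ _ |>.mp (le_sup_left.trans hJq : p.asIdeal ≤ q.asIdeal)) hp, htq⟩).trans ?_
  haveI : (q.asIdeal.map (Ideal.Quotient.mk (Ideal.span {t}))).IsPrime :=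
    Ideal.map_isPrime_of_surjective Ideal.Quotient.mk_surjective
      (by rw [Ideal.mk_ker]; exact (Ideal.span_singleton_le_iff_mem _).mpr htq)
  have h1 := Groth.Agent.CMFlat.ringKrullDim_quotient_add_le (q.asIdeal.map (Ideal.Quotient.mk (Ideal.span {t})))
  rw [ringKrullDim_eq_of_ringEquiv (DoubleQuot.quotQuotEquivQuotOfLE ((Ideal.span_singleton_le_iff_mem _).mpr htq))] at h1
  have h2 := Groth.Agent.Catenary.dim_equidim_add hA' hA p.asIdeal
  obtain ⟨hp', hhp⟩ := ENat.ne_top_iff_exists.mp (p.asIdeal.height_ne_top p.2.ne_top)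
  haveI : Nontrivial (A ⧸ p.asIdeal) := Ideal.Quotient.nontrivial_iff.mpr p.2.ne_top
  haveI : IsLocalRing (A ⧸ p.asIdeal) := IsLocalRing.of_surjective' _ Ideal.Quotient.mk_surjective
  obtain ⟨a, ha⟩ := Groth.Agent.SerreReg.exists_dim_nat (A ⧸ p.asIdeal)
  haveI : Nontrivial (A ⧸ Ideal.span {t}) := Ideal.Quotient.nontrivial_iff.mpr fun e => htm (Ideal.span_singleton_eq_top.mp e)
  haveI : IsLocalRing (A ⧸ Ideal.span {t}) := IsLocalRing.of_surjective' _ Ideal.Quotient.mk_surjective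
  obtain ⟨d, hd⟩ := Groth.Agent.SerreReg.exists_dim_nat (A ⧸ Ideal.span {t})
  haveI : Nontrivial (A ⧸ q.asIdeal) := Ideal.Quotient.nontrivial_iff.mpr q.2.ne_top
  haveI : IsLocalRing (A ⧸ q.asIdeal) := IsLocalRing.of_surjective' _ Ideal.Quotient.mk_surjective
  obtain ⟨b, hb⟩ := Groth.Agent.SerreReg.exists_dim_nat (A ⧸ q.asIdeal)
  obtain ⟨hq', hhq⟩ := ENat.ne_top_iff_exists.mp
    ((q.asIdeal.map (Ideal.Quotient.mk (Ideal.span {t}))).height_ne_top (Ideal.IsPrime.ne_top inferInstance))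
  rw [ha, hn, ← hhp] at h2
  rw [hb, hd, ← hhq] at h1
  rw [hb] at hmq
  rw [ha] at hpm
  rw [hd, hn] at ht
  rw [← hhp, ← hhq]
  norm_cast at h1 h2 hmq hpm ht ⊢
  omega

end Groth.Agent.S4742
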