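import Groth.Statements.S4744
import Mathlib
import Groth.Agent.FlatDepth.Localize
-- import your own Groth.Agent.* helpers here

set_option autoImplicit false
universe u
open EGA4

namespace Groth.Agent.S4744

/-- Let A → A' be a flat local homomorphism of Noetherian local rings all of whose fibre rings k(p) ⊗_A
A' are Cohen–Macaulay. If the completion map of A' is regular (the formal fibres of A' are
geometrically regular), then the formal fibres of A are Cohen–Macaulay. -/
theorem result (A A' : Type u) [CommRing A] [CommRing A'] [IsNoetherianRing A]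
    [IsNoetherianRing A'] [IsLocalRing A] [IsLocalRing A'] [Algebra A A'] [IsLocalHom (algebraMap A A')]
    [Module.Flat A A'] (hf : ∀ (p : Ideal A) [p.IsPrime], LocCoh.IsCohenMacaulayRing (p.Fiber A'))
    (hA' : CAlg.IsRegularHom A' (EGA4.Cpl A')) : EGA4.HasCMFormalFibres A := by
  obtain ⟨_, _, _, _⟩ := FlatDepth.formal_setup A A'
  haveI : IsNoetherianRing (EGA4.Cpl A) := AdicBasics.isNoetherianRing_completion A
  haveI : IsNoetherianRing (EGA4.Cpl A') := AdicBasics.isNoetherianRing_completion A'
  intro p _
  exact FlatDepth.comp_descent (A := A) (B := EGA4.Cpl A) (C := EGA4.Cpl A') p.ResidueField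
    (fun R _ => LocCoh.IsCohenMacaulayRing R) (fun _ _ _ _ e h => FlatDepth.isCM_of_equiv e h)
    (fun _ _ _ _ _ _ _ _ hS => FlatDepth.cm_descent hS)
    (FlatDepth.cmFibres_comp (A := A) (B := A') (C := EGA4.Cpl A') hf hA' p)

end Groth.Agent.S4744
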