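import Groth.Statements.S4745
-- import your own Groth.Agent.* helpers here
import Groth.Agent.GRingCpl.PFibreMain
import Groth.Agent.GRingCpl.PFibreInst

set_option autoImplicit false
universe u
open EGA4

namespace Groth.Agent.S4745

/-- The case of the property 'normal': let A → B be a local homomorphism of Noetherian local rings
making B a flat A-module, such that the residue field of B is a finite extension of the residue
field k of A, and such that the formal fibres of A are geometrically normal. If the k-algebra k ⊗_A
B̂, where B̂ is the completion of B, is geometrically normal over k, then every fibre of A → B is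
geometrically normal, that is, A → B is a normal homomorphism. -/
theorem result (A B : Type u) [CommRing A] [CommRing B]
    [IsNoetherianRing A] [IsNoetherianRing B] [IsLocalRing A] [IsLocalRing B] [Algebra A B]
    [IsLocalHom (algebraMap A B)] [Module.Flat A B]
    [Module.Finite (IsLocalRing.ResidueField A) (IsLocalRing.ResidueField B)]
    (hA : EGA4.HasGeomNormalFormalFibres A)
    (h : EGA4.IsGeomNormal (IsLocalRing.maximalIdeal A).ResidueField
      ((IsLocalRing.maximalIdeal A).Fiber (EGA4.Cpl B))) :
    EGA4.IsNormalHom A B := by
  haveI : IsNoetherianRing (EGA4.Cpl B) := AdicBasics.isNoetherianRing_completion B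
  refine ⟨inferInstance, fun p _ => ?_⟩
  intro K _ _ hK
  exact (GRingCpl.fibP_iff GRingCpl.locProp_normal.{u}.equiv A B p).mp
    (GRingCpl.fibP_of_cpl_closedFibre GRingCpl.locProp_normal.{u}
      (fun q _ => (GRingCpl.fibP_iff GRingCpl.locProp_normal.{u}.equiv A _ q).mpr (hA q))
      ((GRingCpl.fibP_iff GRingCpl.locProp_normal.{u}.equiv A _ _).mpr h) p) K hK

end Groth.Agent.S4745
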