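import Groth.Statements.S4759
import Groth.Agent.ConsEngine.LimTop

set_option autoImplicit false
universe u
open CategoryTheory AlgebraicGeometry
open Lim8

namespace Groth.Agent.S4759

/-- Let S = lim S_i be a cofiltered limit of schemes with affine transition maps, some stage S_{i₀}
being quasi-compact and quasi-separated. Then every constructible subset Z of S is the preimage
under the projection S ⟶ S_i of a constructible subset of S_i, for some index i over i₀. -/
theorem result {I : Type u} [SmallCategory I] [IsCofiltered I]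
    (D : I ⥤ Scheme.{u}) (c : Limits.Cone D) (hc : Limits.IsLimit c)
    [∀ (i j : I) (f : i ⟶ j), IsAffineHom (D.map f)] (i₀ : I) [CompactSpace (D.obj i₀)]
    [QuasiSeparatedSpace (D.obj i₀)] (Z : Set c.pt) (hZ : Topology.IsConstructible Z) :
    ∃ (i : I) (_ : i ⟶ i₀) (Zi : Set (D.obj i)),
      Topology.IsConstructible Zi ∧ (⇑(c.π.app i) ⁻¹' Zi : Set c.pt) = Z := by
  haveI : ∀ {i j} (f : i ⟶ j), IsAffineHom (D.map f) := fun {i j} f => inferInstance
  let D' := Over.forget i₀ ⋙ D
  haveI : ∀ {a b : Over i₀} (f : a ⟶ b), IsAffineHom (D'.map f) := fun f => inferInstanceAs (IsAffineHom (D.map f.left))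
  haveI : ∀ a : Over i₀, CompactSpace (D'.obj a) := fun a =>
    QuasiCompact.compactSpace_of_compactSpace (D.map a.hom)
  haveI : ∀ a : Over i₀, QuasiSeparatedSpace (D'.obj a) := fun a =>
    quasiSeparatedSpace_of_quasiSeparated (D.map a.hom)
  haveI : IsAffineHom (c.π.app i₀) := isAffineHom_π_app _ _ hc i₀
  haveI : CompactSpace c.pt := QuasiCompact.compactSpace_of_compactSpace (c.π.app i₀)
  haveI : QuasiSeparatedSpace c.pt := quasiSeparatedSpace_of_quasiSeparated (c.π.app i₀)
  haveI : CompactSpace (c.whisker (Over.forget i₀)).pt := ‹CompactSpace c.pt›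
  haveI : QuasiSeparatedSpace (c.whisker (Over.forget i₀)).pt := ‹QuasiSeparatedSpace c.pt›
  obtain ⟨a, Zi, hZi, he⟩ := ConsEngine.exists_stage_eq_preimage D' (c.whisker (Over.forget i₀))
    ((Functor.Initial.isLimitWhiskerEquiv (Over.forget i₀) c).symm hc) (E := Z) hZ.isLocallyConstructible
  haveI : PrespectralSpace (D.obj a.left) := inferInstance
  haveI : CompactSpace (D.obj a.left) := inferInstanceAs (CompactSpace (D'.obj a))
  haveI : QuasiSeparatedSpace (D.obj a.left) := inferInstanceAs (QuasiSeparatedSpace (D'.obj a))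
  exact ⟨a.left, a.hom, Zi, hZi.isConstructible, he⟩

end Groth.Agent.S4759
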