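import Groth.Statements.S4773
import Groth.Agent.S1559
import Groth.Agent.GeomPi0.FinSep
import Groth.Agent.GrpField.Translate
-- import your own Groth.Agent.* helpers here

set_option autoImplicit false
set_option backward.isDefEq.respectTransparency false
set_option linter.style.haveILetI false
universe u
open CategoryTheory AlgebraicGeometry
open Lim8

namespace Groth.Agent.S4773

open CategoryTheory.Limits TensorProduct in
theorem connected_of_geometricallyConnected {k : Type u} [Field k] {X : Scheme.{u}}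
    (f : X ⟶ Spec (CommRingCat.of k)) [GeometricallyConnected f] (K : Type u) [Field K] [Algebra k K] :
    ConnectedSpace ↑(pullback f (Spec.map (CommRingCat.ofHom (algebraMap k K)))) :=
  GeometricallyConnected.connectedSpace_of_subsingleton
    (pullback.snd f (Spec.map (CommRingCat.ofHom (algebraMap k K))))

open CategoryTheory.Limits TensorProduct in
theorem connected_sepClosure {k : Type u} [Field k] {X : Scheme.{u}} (f : X ⟶ Spec (CommRingCat.of k))
    (h : ∀ (K : Type u) [Field K] [Algebra k K] [Module.Finite k K] [Algebra.IsSeparable k K],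
      ConnectedSpace ↑(pullback f (Spec.map (CommRingCat.ofHom (algebraMap k K))))) :
    ConnectedSpace ↑(pullback f (Spec.map (CommRingCat.ofHom (algebraMap k (SeparableClosure k))))) := by
  let L := SeparableClosure k
  let gK : (K : Type u) → [Field K] → [Algebra k K] → (Spec (CommRingCat.of K) ⟶ Spec (CommRingCat.of k)) :=
    fun K _ _ => Spec.map (CommRingCat.ofHom (algebraMap k K))
  have hne : Nonempty ↥(pullback f (gK L)) := by
    obtain ⟨z⟩ := (h k).toNonempty
    obtain ⟨p, -⟩ := Scheme.Pullback.exists_preimage_pullback (f := f) (g := gK L)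
      (pullback.fst f (gK k) z) (IsLocalRing.closedPoint L) (Subsingleton.elim _ _)
    exact ⟨p⟩
  refine connectedSpace_iff_clopen.2 ⟨hne, fun U hU => ?_⟩
  by_contra hcon
  push Not at hcon
  obtain ⟨hU0, hU1⟩ := hcon
  obtain ⟨u, hu⟩ := hU0
  obtain ⟨W, hW, huW, -⟩ := exists_isAffineOpen_mem_and_subset (X := X) (x := pullback.fst f (gK L) u) (U := ⊤) trivial
  obtain ⟨φ, hφ⟩ := Spec.map_surjective (hW.fromSpec ≫ f)
  let A := Γ(X, W)
  letI : Algebra k A := φ.hom.toAlgebra
  let b : Spec (CommRingCat.of A) ⟶ X := hW.fromSpec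
  have hb : b ≫ f = Spec.map (CommRingCat.ofHom (algebraMap k A)) := hφ.symm
  have chart : ∀ (K : Type u) [Field K] [Algebra k K],
      ∃ l : Spec (CommRingCat.of (A ⊗[k] K)) ⟶ pullback f (gK K),
        l ≫ pullback.snd _ _ = Spec.map (CommRingCat.ofHom (Algebra.TensorProduct.includeRight : K →ₐ[k] A ⊗[k] K).toRingHom) ∧
        IsPullback (Spec.map (CommRingCat.ofHom (Algebra.TensorProduct.includeLeft : A →ₐ[k] A ⊗[k] K).toRingHom)) l b
          (pullback.fst f (gK K)) := by
    intro K _ _
    have sqA : IsPullback (Spec.map (CommRingCat.ofHom (Algebra.TensorProduct.includeLeft : A →ₐ[k] A ⊗[k] K).toRingHom))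
        (Spec.map (CommRingCat.ofHom (Algebra.TensorProduct.includeRight : K →ₐ[k] A ⊗[k] K).toRingHom))
        (Spec.map (CommRingCat.ofHom (algebraMap k A))) (gK K) :=
      isPullback_SpecMap_of_isPushout _ _ _ _ (CommRingCat.isPushout_tensorProduct k A K)
    refine ⟨pullback.lift (Spec.map (CommRingCat.ofHom (Algebra.TensorProduct.includeLeft : A →ₐ[k] A ⊗[k] K).toRingHom) ≫ b)
      (Spec.map (CommRingCat.ofHom (Algebra.TensorProduct.includeRight : K →ₐ[k] A ⊗[k] K).toRingHom))
      (by rw [Category.assoc, hb]; exact sqA.w), pullback.lift_snd _ _ _,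
      IsPullback.of_bot ?_ (pullback.lift_fst _ _ _).symm (IsPullback.of_hasPullback _ _)⟩
    rw [pullback.lift_snd, hb]
    exact sqA
  obtain ⟨ls, hls, sqs⟩ := chart L
  obtain ⟨z₀, hz₀⟩ : ∃ z, ls z ∈ U := by
    obtain ⟨z, -, hz⟩ := Scheme.exists_preimage_of_isPullback sqs (hW.primeIdealOf ⟨_, huW⟩) u
      (hW.fromSpec_primeIdealOf ⟨_, huW⟩)
    exact ⟨z, by rw [hz]; exact hu⟩
  obtain ⟨E, hEf, t, ht⟩ := Groth.Agent.GeomPi0.exists_clopen_stage A L (hU.preimage ls.continuous)
  haveI : Module.Finite k E := hEf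
  let ι : Spec (CommRingCat.of L) ⟶ Spec (CommRingCat.of E) := Spec.map (CommRingCat.ofHom (algebraMap E L))
  have hι : ι ≫ gK E = gK L := by
    show Spec.map _ ≫ Spec.map _ = Spec.map _
    rw [← Spec.map_comp]; rfl
  let m : pullback f (gK L) ⟶ pullback f (gK E) :=
    pullback.lift (pullback.fst _ _) (pullback.snd _ _ ≫ ι) (by rw [Category.assoc, hι]; exact pullback.condition)
  have sqm : IsPullback m (pullback.snd f (gK L)) (pullback.snd f (gK E)) ι := by
    refine IsPullback.of_right ?_ (pullback.lift_snd _ _ _) (IsPullback.of_hasPullback _ _)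
    rw [pullback.lift_fst, hι]
    exact IsPullback.of_hasPullback _ _
  haveI : UniversallyOpen ι :=
    (inferInstance : Groth.Agent.GrpField.PointBase (Spec (CommRingCat.of E))).uopen L _
  haveI : IsIntegralHom ι := by
    rw [IsIntegralHom.SpecMap_iff]
    exact algebraMap_isIntegral_iff.2 (inferInstance : Algebra.IsIntegral E L)
  haveI : UniversallyOpen m := MorphismProperty.of_isPullback sqm.flip ‹UniversallyOpen ι›
  haveI : UniversallyClosed m := MorphismProperty.of_isPullback sqm.flip (inferInstance : UniversallyClosed ι)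
  haveI : ConnectedSpace ↥(pullback f (gK E)) := h E
  obtain ⟨lE, hlE, sqE⟩ := chart E
  let φj : A ⊗[k] E →ₐ[k] A ⊗[k] L := (Algebra.TensorProduct.map (AlgHom.id A A) E.val).restrictScalars k
  let j : Spec (CommRingCat.of (A ⊗[k] L)) ⟶ Spec (CommRingCat.of (A ⊗[k] E)) :=
    Spec.map (CommRingCat.ofHom φj.toRingHom)
  have hjp : j ≫ Spec.map (CommRingCat.ofHom (Algebra.TensorProduct.includeLeft : A →ₐ[k] A ⊗[k] E).toRingHom) =
      Spec.map (CommRingCat.ofHom (Algebra.TensorProduct.includeLeft : A →ₐ[k] A ⊗[k] L).toRingHom) := by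
    rw [← Spec.map_comp]; rfl
  have hjq : j ≫ Spec.map (CommRingCat.ofHom (Algebra.TensorProduct.includeRight : E →ₐ[k] A ⊗[k] E).toRingHom) =
      Spec.map (CommRingCat.ofHom (Algebra.TensorProduct.includeRight : L →ₐ[k] A ⊗[k] L).toRingHom) ≫ ι := by
    rw [← Spec.map_comp, ← Spec.map_comp]; rfl
  have hl : j ≫ lE = ls ≫ m := by
    apply pullback.hom_ext
    · rw [Category.assoc, Category.assoc, pullback.lift_fst, ← sqs.w, ← sqE.w, reassoc_of% hjp]
    · rw [Category.assoc, Category.assoc, hlE, pullback.lift_snd, ← Category.assoc ls, hls, hjq]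
  have sqJ : IsPullback j ls lE m := by
    refine IsPullback.of_right ?_ hl sqE
    rw [hjp, pullback.lift_fst]
    exact sqs
  have himg : m '' Uᶜ = Set.univ :=
    IsClopen.eq_univ (⟨m.isClosedMap _ hU.compl.1, m.isOpenMap _ hU.compl.2⟩ : IsClopen (m '' Uᶜ))
      ((Set.nonempty_compl.2 hU1).image _)
  obtain ⟨z, hzU, hz⟩ := himg.ge (Set.mem_univ (lE (j z₀)))
  obtain ⟨z₁, hz1, hz2⟩ := Scheme.exists_preimage_of_isPullback sqJ (j z₀) z hz.symm
  apply hzU
  rw [← hz2]
  show z₁ ∈ ls ⁻¹' U
  have h1 : z₀ ∈ ls ⁻¹' U := hz₀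
  rw [← ht] at h1 ⊢
  show j z₁ ∈ t
  rw [hz1]
  exact h1

/-- Let k be a field and X a quasi-compact scheme over k. Then X is geometrically connected over k if
and only if, for every finite separable field extension K of k, the base change X ⊗_k K is
connected. Connectedness includes being nonempty on both sides. -/
theorem result {k : Type u} [Field k]
    {X : Scheme.{u}} (f : X ⟶ Spec (CommRingCat.of k)) [CompactSpace X] :
    GeometricallyConnected f ↔
      ∀ (K : Type u) [Field K] [Algebra k K] [Module.Finite k K] [Algebra.IsSeparable k K],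
        ConnectedSpace ↑(Limits.pullback f (Spec.map (CommRingCat.ofHom (algebraMap k K)))) := by
  refine ⟨fun h K _ _ _ _ => connected_of_geometricallyConnected f K, fun h => ?_⟩
  letI : X.Over (Spec (CommRingCat.of k)) := ⟨f⟩
  haveI : ConnectedSpace (Curv2.bc k X (SeparableClosure k)) := connected_sepClosure f h
  exact Groth.Agent.S1559.result k X

end Groth.Agent.S4773
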