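import Groth.Statements.S4776
import Groth.Agent.ConsEngine.LimFlat

set_option autoImplicit false
universe u
open CategoryTheory AlgebraicGeometry
open Lim8

namespace Groth.Agent.S4776

/-- Let S = lim S_i be a cofiltered limit of schemes whose transition maps are affine, flat and
surjective, some stage S_{i₀} being quasi-compact, and assume that the underlying topological space
of S is Noetherian. Then S is integral if and only if there is an index i over i₀ such that S_j is
integral for every j over i. (The published statement carries neither the quasi-compactness nor the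
Noetherian hypothesis; its proof combines the reducedness criterion with the irreducibility
criterion for limits, and the latter is proved only under these two hypotheses, so they are assumed
here.) -/
theorem result {I : Type u} [SmallCategory I] [IsCofiltered I]
    (D : I ⥤ Scheme.{u}) (c : Limits.Cone D) (hc : Limits.IsLimit c)
    [∀ (i j : I) (f : i ⟶ j), IsAffineHom (D.map f)] (i₀ : I)
    [CompactSpace (D.obj i₀)] [TopologicalSpace.NoetherianSpace c.pt]
    (hf : ∀ (i j : I) (φ : i ⟶ j), Flat (D.map φ) ∧ Surjective (D.map φ)) :
    IsIntegral c.pt ↔ ∃ (i : I) (_ : i ⟶ i₀), ∀ (j : I) (_ : j ⟶ i), IsIntegral (D.obj j) := by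
  have hs : ∀ i, Surjective (c.π.app i) := fun i =>
    ConsEngine.surjective_π D c hc i fun j φ => (hf j i φ).2
  have hirr := ConsEngine.irreducibleSpace_iff_eventually D c hc i₀ fun j => (hs j).surj.denseRange
  constructor
  · intro h
    obtain ⟨i, φ, hi⟩ := hirr.mp inferInstance
    refine ⟨i, φ, fun j ψ => ?_⟩
    haveI := hi j ψ
    haveI := ConsEngine.flat_π D c hc j fun k χ => (hf k j χ).1
    haveI := hs j
    haveI := Groth.Agent.FlatMor.isReduced_of_flat_surjective (W := c.pt) (c.π.app j)
    exact isIntegral_of_irreducibleSpace_of_isReduced _
  · rintro ⟨i, φ, hi⟩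
    haveI : IrreducibleSpace c.pt := hirr.mpr ⟨i, φ, fun j ψ => by
      haveI := hi j ψ
      infer_instance⟩
    haveI : IsReduced c.pt := by
      by_contra hne
      obtain ⟨k, hk⟩ := ConsEngine.eventually_not_isReduced D c hc hne
      obtain ⟨m, a, b, -⟩ := IsCofilteredOrEmpty.cone_objs i k
      haveI := hi m a
      exact hk m b inferInstance
    exact isIntegral_of_irreducibleSpace_of_isReduced _

end Groth.Agent.S4776
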