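import Groth.Statements.S4777
import Groth.Agent.ColimFP.Basic

set_option autoImplicit false
universe u
open CategoryTheory
open Lim8

namespace Groth.Agent.S4777

/-- Let B be an algebra over a commutative ring A. If, for every inductive system (C_λ) of A-algebras
indexed by a nonempty directed preordered set, the canonical map colim Hom_A(B, C_λ) → Hom_A(B,
colim C_λ) is bijective (that is, Hom_A(B, -) preserves the colimit of the system), then B is an
A-algebra of finite presentation. (This is the necessity half of the characterization of algebras of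
finite presentation by this property; the converse is standard.) -/
theorem result {A B : CommRingCat.{u}} (f : A ⟶ B)
    (h : ∀ (J : Type u) [Preorder J] [IsDirected J (· ≤ ·)] [Nonempty J] (F : J ⥤ Under A),
      Limits.PreservesColimit F (coyoneda.obj (Opposite.op (Under.mk f)))) :
    f.hom.FinitePresentation := by
  classical
  letI := f.hom.toAlgebra
  haveI : Limits.PreservesColimit (ColimFP.diag A B) (coyoneda.obj (Opposite.op (Under.mk f))) :=
    h (ColimFP.Idx A B) (ColimFP.diag A B)
  have hcol := Limits.isColimitOfPreserves (coyoneda.obj (Opposite.op (Under.mk f))) (ColimFP.isColimit A B)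
  obtain ⟨i, g, hg⟩ := Limits.Types.jointly_surjective_of_isColimit hcol
    (𝟙 (Under.mk f) : Under.mk f ⟶ Under.mk f)
  let g' : B →ₐ[A] ColimFP.alg i :=
    { g.right.hom with
      commutes' := fun r => congrArg (fun φ : A ⟶ CommRingCat.of (ColimFP.alg i) => φ r) (Under.w g) }
  have hgid : ∀ b : B, ColimFP.toA i (g' b) = b := fun b =>
    congrArg (fun φ : Under.mk f ⟶ Under.mk f => φ.right b) hg
  haveI := ColimFP.finitePresentation i
  refine Algebra.FinitePresentation.of_surjective (f := ColimFP.toA i) (fun b => ⟨g' b, hgid b⟩) ?_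
  refine ⟨i.gens.attach.image fun x => ColimFP.gen i x - g' x, le_antisymm (Ideal.span_le.2 fun a ha => ?_) fun a ha => ?_⟩
  · obtain ⟨x, -, rfl⟩ := Finset.mem_image.1 (Finset.mem_coe.1 ha)
    simp [RingHom.mem_ker, ColimFP.toA_gen, hgid]
  · have h1 : Ideal.Quotient.mkₐ A (Ideal.span ((i.gens.attach.image fun x => ColimFP.gen i x - g' x : Finset _) : Set (ColimFP.alg i))) =
        (Ideal.Quotient.mkₐ A _).comp (g'.comp (ColimFP.toA i)) := ColimFP.alg_ext fun x => by
      rw [AlgHom.comp_apply, AlgHom.comp_apply, ColimFP.toA_gen]
      exact Ideal.Quotient.eq.2 (Ideal.subset_span (Finset.mem_image.2 ⟨x, Finset.mem_attach _ _, rfl⟩))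
    have h2 := DFunLike.congr_fun h1 a
    rw [AlgHom.comp_apply, AlgHom.comp_apply, show ColimFP.toA i a = 0 from ha, map_zero, map_zero] at h2
    exact Ideal.Quotient.eq_zero_iff_mem.1 h2

end Groth.Agent.S4777
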