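import Groth.Statements.S4778
import Groth.Agent.S9208

set_option autoImplicit false
universe u
open CategoryTheory AlgebraicGeometry
open Lim8

open Groth.Agent CategoryTheory.Limits
set_option backward.isDefEq.respectTransparency false
namespace Groth.Agent.S4778

/-- Let f : X ⟶ S be a morphism of schemes. Suppose that for every affine open U of S and every
projective system (Z_λ) of U-schemes indexed by a nonempty directed preordered set, with every Z_λ
an affine scheme, the functor Hom_S(-, X) takes the limit of the system to the colimit of the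
Hom_S(Z_λ, X) (the canonical map from the colimit is bijective). Then f is locally of finite
presentation. -/
theorem result {X S : Scheme.{u}} (f : X ⟶ S)
    (h : ∀ (U : S.Opens), IsAffineOpen U →
      ∀ (J : Type u) [Preorder J] [IsDirected J (· ≤ ·)] [Nonempty J] (Z : Jᵒᵖ ⥤ Over (U : Scheme.{u})),
      (∀ j, IsAffine (Z.obj j).left) →
      Limits.PreservesColimit (Z ⋙ Over.map U.ι).op (yoneda.obj (Over.mk f))) :
    LocallyOfFinitePresentation f := by
  refine IsZariskiLocalAtTarget.of_iSup_eq_top (P := @LocallyOfFinitePresentation)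
    (fun U : S.affineOpens => (U : S.Opens)) (iSup_affineOpens_eq_top S) fun U => ?_
  refine S9208.result (f ∣_ (U : S.Opens)) fun J _ _ _ D t c hc hD j₀ g hg => ?_
  let Z : Jᵒᵖ ⥤ Over ((U : S.Opens) : Scheme.{u}) :=
    { obj := fun j => Over.mk (t.app j)
      map := fun {i j} φ => Over.homMk (D.map φ) (by simpa using t.naturality φ)
      map_id := fun j => by ext; simp
      map_comp := fun φ ψ => by ext; simp }
  haveI := h (U : S.Opens) U.2 J Z fun j => hD j
  have hπ : ∀ j, c.π.app j ≫ t.app j = c.π.app j₀ ≫ t.app j₀ := fun j => by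
    obtain ⟨k, hjk, hk₀⟩ := directed_of (· ≤ ·) j.unop j₀.unop
    have h1 : (homOfLE hjk).op ≫ 𝟙 j = (homOfLE hjk).op := Category.comp_id _
    have e1 := c.w ((homOfLE hjk).op : Opposite.op k ⟶ j)
    have e2 := c.w ((homOfLE hk₀).op : Opposite.op k ⟶ j₀)
    have n1 := t.naturality ((homOfLE hjk).op : Opposite.op k ⟶ j)
    have n2 := t.naturality ((homOfLE hk₀).op : Opposite.op k ⟶ j₀)
    simp only [Functor.const_obj_obj, Functor.const_obj_map, Category.comp_id] at n1 n2
    rw [← e1, ← e2, Category.assoc, Category.assoc, n1, n2]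
  let C : Cone (Z ⋙ Over.map (U : S.Opens).ι) :=
    { pt := Over.mk (c.π.app j₀ ≫ t.app j₀ ≫ (U : S.Opens).ι)
      π := { app := fun j => Over.homMk (c.π.app j) (by simp [Z, reassoc_of% hπ j])
             naturality := fun i j φ => by ext; simpa [Z] using (c.w φ).symm } }
  let hC : IsLimit C :=
    { lift := fun K => Over.homMk (hc.lift ((Over.forget S).mapCone K |> fun K' =>
          { pt := K'.pt, π := { app := fun j => K'.π.app j, naturality := fun i j φ => K'.π.naturality φ } }))
        (by
          have := Over.w (K.π.app j₀)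
          simp [C, Z] at this ⊢
          exact this)
      fac := fun K j => by ext; simp [C]
      uniq := fun K m hm => by
        ext
        refine hc.hom_ext fun j => ?_
        have := congrArg CommaMorphism.left (hm j)
        simp [C] at this ⊢
        exact this }
  have hcol := isColimitOfPreserves (yoneda.obj (Over.mk f)) hC.op
  let g' : C.pt ⟶ Over.mk f := Over.homMk (g ≫ (f ⁻¹ᵁ (U : S.Opens)).ι) (by
    simp only [C, Over.mk_hom, Category.assoc]
    rw [← morphismRestrict_ι, reassoc_of% hg])
  obtain ⟨j, gj, hgj⟩ := Types.jointly_surjective_of_isColimit hcol g'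
  let gl : D.obj j.unop ⟶ X := gj.left
  have hgl : gl ≫ f = t.app j.unop ≫ (U : S.Opens).ι := Over.w gj
  have hr : Set.range gl ⊆ Set.range (f ⁻¹ᵁ (U : S.Opens)).ι := by
    rintro _ ⟨a, rfl⟩
    rw [Scheme.Opens.range_ι]
    show f (gl a) ∈ (U : S.Opens)
    rw [← Scheme.Hom.comp_apply, hgl, Scheme.Hom.comp_apply]
    exact (t.app j.unop a).2
  refine ⟨j.unop, IsOpenImmersion.lift (f ⁻¹ᵁ (U : S.Opens)).ι gl hr, ?_, ?_⟩
  · rw [← cancel_mono (U : S.Opens).ι, Category.assoc, morphismRestrict_ι, IsOpenImmersion.lift_fac_assoc, hgl]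
  · rw [← cancel_mono (f ⁻¹ᵁ (U : S.Opens)).ι, Category.assoc, IsOpenImmersion.lift_fac]
    exact congrArg CommaMorphism.left hgj

end Groth.Agent.S4778
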