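import Groth.Statements.S4781
import Groth.Agent.DimField.Cons

set_option autoImplicit false
universe u
open CategoryTheory AlgebraicGeometry
open Cons9

namespace Groth.Agent.S4781

/-- Let S be a Noetherian irreducible scheme with generic point η, let X be an irreducible scheme and f
: X ⟶ S a dominant morphism of finite type. Then there is an open neighbourhood U of η in S such
that, for every s ∈ U, all irreducible components of the fibre f⁻¹(s) have dimension equal to dim
f⁻¹(η). Fibres are taken as subspaces of X and dimensions are topological Krull dimensions. -/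
theorem result {X S : Scheme.{u}} (f : X ⟶ S)
    [IsNoetherian S] [IrreducibleSpace S] [IrreducibleSpace X] [IsDominant f]
    [LocallyOfFiniteType f] [QuasiCompact f] :
    ∃ U : S.Opens, genericPoint S ∈ U ∧ ∀ s ∈ U, ∀ T ∈ irreducibleComponents ↥(⇑f ⁻¹' {s}),
      topologicalKrullDim ↥T = topologicalKrullDim ↥(⇑f ⁻¹' {genericPoint S}) := by
  have hη : f (genericPoint X) = genericPoint S := by
    have h1 : IsGenericPoint (f (genericPoint X)) (Set.univ : Set S) := by
      have := (genericPoint_spec X).image f.continuous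
      rwa [Set.image_univ, f.denseRange.closure_range] at this
    exact h1.eq (genericPoint_spec S)
  set η := genericPoint S with hηdef
  have hgen : ∀ x : X, topologicalKrullDim ↥(f.fiber η) ≤ FlatMor.fibreDimAt f x := fun x => by
    obtain ⟨d, hd⟩ := Unibranch.exists_fibreDimAt_eq f x
    rw [hd]
    obtain ⟨U, hxU, hU⟩ := (Unibranch.fibreDimAt_le_iff f x).mp hd.le
    have h2 := Unibranch.chainsLE_of_specializes f (genericPoint_specializes x) hxU (hU.mono Set.inter_subset_left)
    rw [hη, show closure ({genericPoint X} : Set X) = Set.univ from genericPoint_spec X] at h2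
    refine (Unibranch.topologicalKrullDim_le_iff f (f.fiberι η).isEmbedding ?_).mpr h2
    rw [Scheme.Hom.range_fiberι, Set.univ_inter]
  obtain ⟨d, hd⟩ := Unibranch.exists_fibreDimAt_eq f (genericPoint X)
  have hdim : topologicalKrullDim ↥(f.fiber η) = (d : WithBot ℕ∞) :=
    le_antisymm ((hgen _).trans hd.le)
      (hη ▸ (DimField.dim_fiber_le_iff f (f (genericPoint X))).mpr ⟨genericPoint X, hd.ge, rfl⟩)
  let E : Set S := {y : S | topologicalKrullDim ↥(f.fiber y) = topologicalKrullDim ↥(f.fiber η)}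
  obtain ⟨a, ha⟩ := DimField.interior_nonempty_of_genericPoint_mem (E := E)
    (DimField.isConstructible_dim_fiber_eq f η) rfl
  refine ⟨⟨interior E, isOpen_interior⟩, (genericPoint_specializes a).mem_open isOpen_interior ha, fun s hs T hT => ?_⟩
  have hsE : topologicalKrullDim ↥(f.fiber s) = (d : WithBot ℕ∞) :=
    (show s ∈ E from interior_subset (show s ∈ interior E from hs)).trans hdim
  have hom : ∀ y : S, topologicalKrullDim ↥(f.fiber y) = topologicalKrullDim ↥(⇑f ⁻¹' {y}) := fun y =>
    DimField.dim_eq_of_homeomorph (f.fiberHomeo y)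
  refine le_antisymm ?_ ?_
  · refine (Topology.IsEmbedding.subtypeVal.isInducing.topologicalKrullDim_le).trans ?_
    rw [← hom s, ← hom η, hsE, hdim]
  · rw [← hom η, hdim]
    haveI : CompactSpace X := QuasiCompact.compactSpace_of_compactSpace f
    haveI : IsLocallyNoetherian X := LocallyOfFiniteType.isLocallyNoetherian f
    haveI : IsNoetherian X := {}
    haveI : TopologicalSpace.NoetherianSpace ↥(⇑f ⁻¹' {s}) :=
      Topology.IsInducing.noetherianSpace Topology.IsInducing.subtypeVal
    obtain ⟨O, hO, hne, hOT⟩ : ∃ O : Set ↥(⇑f ⁻¹' {s}), IsOpen O ∧ O.Nonempty ∧ O ⊆ T := by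
      have hfin : (irreducibleComponents ↥(⇑f ⁻¹' {s})).Finite :=
        TopologicalSpace.NoetherianSpace.finite_irreducibleComponents
      refine ⟨(⋃₀ (irreducibleComponents ↥(⇑f ⁻¹' {s}) \ {T}))ᶜ, ?_, ?_, fun z hz => ?_⟩
      · rw [isOpen_compl_iff, Set.sUnion_eq_biUnion]
        exact (hfin.subset Set.sdiff_subset).isClosed_biUnion fun Z hZ => isClosed_of_mem_irreducibleComponents Z hZ.1
      · by_contra hemp
        have hsub : T ⊆ ⋃₀ (irreducibleComponents ↥(⇑f ⁻¹' {s}) \ {T}) := fun z _ =>
          by_contra fun hz => hemp ⟨z, hz⟩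
        obtain ⟨Z, hZ, hTZ⟩ := isIrreducible_iff_sUnion_isClosed.mp hT.1 (hfin.subset Set.sdiff_subset).toFinset
          (fun Z hZ => isClosed_of_mem_irreducibleComponents Z ((Set.Finite.mem_toFinset _).mp hZ).1)
          (by rwa [Set.Finite.coe_toFinset])
        have hZ' := (Set.Finite.mem_toFinset _).mp hZ
        exact hZ'.2 (le_antisymm (hT.2 hZ'.1.1 hTZ) hTZ)
      · obtain ⟨Z, hZ, hzZ⟩ := Set.mem_sUnion.mp (show z ∈ ⋃₀ irreducibleComponents ↥(⇑f ⁻¹' {s}) from
          ⟨irreducibleComponent z, irreducibleComponent_mem_irreducibleComponents z, mem_irreducibleComponent⟩)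
        by_cases hZT : Z = T
        · exact hZT ▸ hzZ
        · exact absurd ⟨Z, ⟨hZ, hZT⟩, hzZ⟩ hz
    obtain ⟨⟨x, hx⟩, hxO⟩ := hne
    obtain ⟨W, hW, hWO⟩ := isOpen_induced_iff.mp hO
    have hd' : (d : WithBot ℕ∞) ≤ FlatMor.fibreDimAt f x := hdim ▸ hgen x
    obtain ⟨ch, hch, hch'⟩ := (Unibranch.natCast_le_fibreDimAt_iff f x).mp hd' ⟨W, hW⟩ (hWO.symm.subset hxO)
    have hmem : ∀ i, ch i ∈ ⇑f ⁻¹' {s} := fun i => (hch i).2.trans hx
    haveI : QuasiSober ↥(⇑f ⁻¹' {s}) := (f.fiberHomeo s).symm.isOpenEmbedding.quasiSober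
    haveI : QuasiSober ↥T := (isClosed_of_mem_irreducibleComponents _ hT).isClosedEmbedding_subtypeVal.quasiSober
    refine Unibranch.natCast_le_topologicalKrullDim (α := ↥T)
      (fun i => ⟨⟨ch i, hmem i⟩, hOT (hWO.subset (hch i).1)⟩) fun i => ⟨?_, ?_⟩
    · rw [← Topology.IsInducing.subtypeVal.specializes_iff, ← Topology.IsInducing.subtypeVal.specializes_iff]
      exact (hch' i).1
    · exact fun e => (hch' i).2 (congrArg (fun z : ↥T => z.1.1) e)

end Groth.Agent.S4781
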