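import Groth.Statements.S4783
import Groth.Agent.ConsEngine.LimRed

set_option autoImplicit false
universe u
open CategoryTheory AlgebraicGeometry
open Lim8

namespace Groth.Agent.S4783

/-- Let S = lim S_i be a cofiltered limit of schemes whose transition maps are open immersions (in
particular affine), and let S_{i₀} be a Noetherian stage. Then S is integral if and only if there is
an index i over i₀ such that S_j is integral for every j over i. -/
theorem result {I : Type u} [SmallCategory I] [IsCofiltered I]
    (D : I ⥤ Scheme.{u}) (c : Limits.Cone D) (hc : Limits.IsLimit c)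
    [∀ (i j : I) (f : i ⟶ j), IsAffineHom (D.map f)] (i₀ : I)
    [IsNoetherian (D.obj i₀)] (hoi : ∀ (i j : I) (φ : i ⟶ j), IsOpenImmersion (D.map φ)) :
    IsIntegral c.pt ↔ ∃ (i : I) (_ : i ⟶ i₀), ∀ (j : I) (_ : j ⟶ i), IsIntegral (D.obj j) := by
  constructor
  · intro h
    obtain ⟨i₁, φ₁, hd⟩ := ConsEngine.eventually_denseRange_of_isEmbedding D c hc i₀
      fun j k φ => (hoi j k φ).base_open.isEmbedding
    obtain ⟨i₂, φ₂, hr⟩ := ConsEngine.eventually_isReduced_of_openImmersion D c hc i₀ hoi fun U => by
      haveI := IsLocallyNoetherian.component_noetherian (X := D.obj i₀) U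
      exact IsNoetherian.noetherian _
    obtain ⟨i, a, b, hab⟩ := IsCofiltered.cospan φ₁ φ₂
    refine ⟨i, a ≫ φ₁, fun j ψ => ?_⟩
    haveI := hr j (ψ ≫ b)
    haveI : IrreducibleSpace (D.obj j) := by
      refine (irreducibleSpace_def _).mpr ?_
      show IsIrreducible Set.univ
      rw [← (hd j (ψ ≫ a)).closure_range, ← Set.image_univ]
      exact (((irreducibleSpace_def c.pt).mp inferInstance).image _ (c.π.app j).continuous.continuousOn).closure
    exact isIntegral_of_irreducibleSpace_of_isReduced _
  · rintro ⟨i, φ, hi⟩
    haveI : IrreducibleSpace c.pt := by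
      by_contra hne
      obtain ⟨k, χ, hk⟩ := ConsEngine.eventually_not_irreducibleSpace D c hc i₀ hne
      obtain ⟨m, a, b, -⟩ := IsCofilteredOrEmpty.cone_objs i k
      haveI := hi m a
      exact hk m b inferInstance
    haveI : IsReduced c.pt := by
      by_contra hne
      obtain ⟨k, hk⟩ := ConsEngine.eventually_not_isReduced D c hc hne
      obtain ⟨m, a, b, -⟩ := IsCofilteredOrEmpty.cone_objs i k
      haveI := hi m a
      exact hk m b inferInstance
    exact isIntegral_of_irreducibleSpace_of_isReduced _

end Groth.Agent.S4783
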