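import Groth.Statements.S4794
import Groth.Agent.ModDesc.Iso
import Groth.Agent.QC.Closure
import Groth.Agent.RelPCS.FlatBase
import Groth.Agent.ConsEngine.LimFlat
-- import your own Groth.Agent.* helpers here

set_option autoImplicit false
universe u
open CategoryTheory AlgebraicGeometry
open Lim8

open CategoryTheory.Limits

namespace Groth.Agent.S4794

/-- Let S = lim S_i be a cofiltered limit of schemes whose transition maps are affine and flat, and
S_{i₀} a quasi-compact stage; let f₀ : F₀ ⟶ G₀ be a homomorphism of quasi-coherent O-modules on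
S_{i₀} whose kernel is an O-module of finite type. Then the pullback of f₀ along S ⟶ S_{i₀} is
injective (a monomorphism of O_S-modules) if and only if, for some index j over i₀, the pullback of
f₀ along S_j ⟶ S_{i₀} is injective. -/
theorem result {I : Type u} [SmallCategory I] [IsCofiltered I]
    (D : I ⥤ Scheme.{u}) (c : Limits.Cone D) (hc : Limits.IsLimit c)
    [∀ (i j : I) (f : i ⟶ j), IsAffineHom (D.map f)] (i₀ : I) [CompactSpace (D.obj i₀)]
    (hfl : ∀ (i j : I) (φ : i ⟶ j), Flat (D.map φ))
    {F₀ G₀ : (D.obj i₀).Modules} [Coh.IsQCoh F₀]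
    [Coh.IsQCoh G₀] (f₀ : F₀ ⟶ G₀)
    (hker : CohB1.IsFT (Limits.kernel f₀)) :
    Mono ((Scheme.Modules.pullback (c.π.app i₀)).map f₀) ↔
      ∃ (j : I) (φ : j ⟶ i₀), Mono ((Scheme.Modules.pullback (D.map φ)).map f₀) := by
  haveI : ∀ {i j : I} (f : i ⟶ j), IsAffineHom (D.map f) := fun {i j} f => inferInstance
  haveI : Coh.IsQCoh (kernel f₀) := Groth.Agent.QC.isQCoh_kernel inferInstance inferInstance f₀
  have key : ∀ (T : Scheme.{u}) (q : T ⟶ D.obj i₀) [Flat q],
      Mono ((Scheme.Modules.pullback q).map f₀) ↔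
        Epi ((Scheme.Modules.pullback q).map (0 : kernel f₀ ⟶ kernel f₀)) := by
    intro T q _
    haveI : PreservesFiniteLimits (Scheme.Modules.pullback q) :=
      Groth.Agent.RelPCS.preservesFiniteLimits_pullback q
    haveI : (Scheme.Modules.pullback q).Additive :=
      (Scheme.Modules.pullbackPushforwardAdjunction q).left_adjoint_additive
    let e := PreservesKernel.iso (Scheme.Modules.pullback q) f₀
    rw [Functor.map_zero]
    constructor
    · intro hm
      have hz : IsZero ((Scheme.Modules.pullback q).obj (kernel f₀)) :=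
        (isZero_kernel_of_mono ((Scheme.Modules.pullback q).map f₀)).of_iso e
      exact ⟨fun g h _ => hz.eq_of_src g h⟩
    · intro he
      have hz : IsZero ((Scheme.Modules.pullback q).obj (kernel f₀)) := by
        rw [IsZero.iff_id_eq_zero]
        exact (cancel_epi (0 : (Scheme.Modules.pullback q).obj (kernel f₀) ⟶ _)).mp (by simp)
      exact Preadditive.mono_of_isZero_kernel _ (hz.of_iso e.symm)
  haveI : Flat (c.π.app i₀) := Groth.Agent.ConsEngine.flat_π D c hc i₀ fun j φ => hfl j i₀ φ
  constructor
  · intro h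
    haveI := (key _ (c.π.app i₀)).mp h
    obtain ⟨j, φ, hj⟩ := Groth.Agent.ModDesc.exists_epi_stage D c hc hker (0 : kernel f₀ ⟶ kernel f₀)
    haveI := hfl j i₀ φ
    exact ⟨j, φ, (key _ _).mpr hj⟩
  · rintro ⟨j, φ, hj⟩
    haveI : Flat (c.π.app j) := Groth.Agent.ConsEngine.flat_π D c hc j fun k a => hfl k j a
    haveI : PreservesFiniteLimits (Scheme.Modules.pullback (c.π.app j)) :=
      Groth.Agent.RelPCS.preservesFiniteLimits_pullback _
    let e := Scheme.Modules.pullbackComp (c.π.app j) (D.map φ) ≪≫
      Scheme.Modules.pullbackCongr (c.w φ)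
    rw [← NatIso.naturality_1 e f₀]
    haveI := hj
    haveI : Mono ((Scheme.Modules.pullback (D.map φ) ⋙ Scheme.Modules.pullback (c.π.app j)).map f₀) :=
      inferInstanceAs (Mono ((Scheme.Modules.pullback (c.π.app j)).map
        ((Scheme.Modules.pullback (D.map φ)).map f₀)))
    infer_instance

end Groth.Agent.S4794
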