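import Groth.Statements.S4796
import Groth.Agent.FibExact.Model

set_option autoImplicit false
universe u
open TensorProduct
open Cons9

namespace Groth.Agent.S4796

/-- Let R be a commutative ring, B an R-algebra of finite presentation, F, G, H three B-modules of
finite presentation and u : F → G, v : G → H homomorphisms of B-modules. Then the set of prime
ideals p of R for which the sequence of fibres κ(p) ⊗_R F → κ(p) ⊗_R G → κ(p) ⊗_R H is exact is a
constructible subset of Spec R. Affine form: S = Spec R, X = Spec B with B a finitely presented
R-algebra, the modules finitely presented B-modules, and the fibre of a module M at a prime p taken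
as κ(p) ⊗_R M; the published statement, for a morphism of finite presentation and quasi-coherent
modules of finite presentation, is local on S and on X and reduces to this one. -/
theorem result {R B : Type u} [CommRing R] [CommRing B] [Algebra R B] [Algebra.FinitePresentation R B]
    {F G H : Type u} [AddCommGroup F] [Module B F] [Module R F] [IsScalarTower R B F] [Module.FinitePresentation B F]
    [AddCommGroup G] [Module B G] [Module R G] [IsScalarTower R B G] [Module.FinitePresentation B G]
    [AddCommGroup H] [Module B H] [Module R H] [IsScalarTower R B H] [Module.FinitePresentation B H]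
    (u : F →ₗ[B] G) (v : G →ₗ[B] H) :
    Topology.IsConstructible {p : PrimeSpectrum R |
      Function.Exact ((u.restrictScalars R).baseChange p.asIdeal.ResidueField) ((v.restrictScalars R).baseChange p.asIdeal.ResidueField)} := by
  classical
  obtain ⟨n, π, hπ, hker⟩ := Algebra.FinitePresentation.out (R := R) (A := B)
  let P := MvPolynomial (Fin n) R
  letI : Algebra P B := π.toRingHom.toAlgebra
  letI mF : Module P F := Module.compHom F π.toRingHom
  letI mG : Module P G := Module.compHom G π.toRingHom
  letI mH : Module P H := Module.compHom H π.toRingHom
  haveI : IsScalarTower P B F := ⟨fun p s x => mul_smul (π p) s x⟩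
  haveI : IsScalarTower P B G := ⟨fun p s x => mul_smul (π p) s x⟩
  haveI : IsScalarTower P B H := ⟨fun p s x => mul_smul (π p) s x⟩
  haveI : IsScalarTower R P F := ⟨fun r p x => by
    show π (r • p) • x = r • π p • x
    rw [map_smul, smul_assoc]⟩
  haveI : IsScalarTower R P G := ⟨fun r p x => by
    show π (r • p) • x = r • π p • x
    rw [map_smul, smul_assoc]⟩
  haveI : IsScalarTower R P H := ⟨fun r p x => by
    show π (r • p) • x = r • π p • x
    rw [map_smul, smul_assoc]⟩
  haveI : Module.Finite P B := Module.Finite.of_surjective (Algebra.linearMap P B) hπ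
  haveI : Module.FinitePresentation P B := Module.finitePresentation_of_surjective (Algebra.linearMap P B) hπ hker
  haveI : Module.FinitePresentation P F := Module.FinitePresentation.trans P F B
  haveI : Module.FinitePresentation P G := Module.FinitePresentation.trans P G B
  haveI : Module.FinitePresentation P H := Module.FinitePresentation.trans P H B
  obtain ⟨a, KF, eF, sF, rfl⟩ := Module.FinitePresentation.exists_fin P F
  obtain ⟨b, KG, eG, sG, rfl⟩ := Module.FinitePresentation.exists_fin P G
  obtain ⟨c, KH, eH, sH, rfl⟩ := Module.FinitePresentation.exists_fin P H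
  let uP : F →ₗ[P] G := u.restrictScalars P
  let vP : G →ₗ[P] H := v.restrictScalars P
  choose U hU using fun i => Submodule.Quotient.mk_surjective _ (eG (uP (eF.symm (Submodule.Quotient.mk (Pi.single i 1)))))
  choose V hV using fun i => Submodule.Quotient.mk_surjective _ (eH (vP (eG.symm (Submodule.Quotient.mk (Pi.single i 1)))))
  have hu : ∀ x, eG (uP (eF.symm (Submodule.Quotient.mk x))) =
      Submodule.Quotient.mk (Fintype.linearCombination P U x) := LinearMap.congr_fun
    (LinearMap.pi_ext' (f := eG.toLinearMap ∘ₗ uP ∘ₗ eF.symm.toLinearMap ∘ₗ (Submodule.span P (sF : Set (Fin a → P))).mkQ)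
      (g := (Submodule.span P (sG : Set (Fin b → P))).mkQ ∘ₗ Fintype.linearCombination P U) fun i =>
        LinearMap.ext_ring (by simp [Fintype.linearCombination_apply, hU, Pi.single_apply, Finset.sum_ite_eq']))
  have hv : ∀ x, eH (vP (eG.symm (Submodule.Quotient.mk x))) =
      Submodule.Quotient.mk (Fintype.linearCombination P V x) := LinearMap.congr_fun
    (LinearMap.pi_ext' (f := eH.toLinearMap ∘ₗ vP ∘ₗ eG.symm.toLinearMap ∘ₗ (Submodule.span P (sG : Set (Fin b → P))).mkQ)
      (g := (Submodule.span P (sH : Set (Fin c → P))).mkQ ∘ₗ Fintype.linearCombination P V) fun i =>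
        LinearMap.ext_ring (by simp [Fintype.linearCombination_apply, hV, Pi.single_apply, Finset.sum_ite_eq']))
  exact Groth.Agent.FibExact.isConstructible_of_quotients sF sG sH U V (eF.symm.restrictScalars R)
    (eG.symm.restrictScalars R) (eH.symm.restrictScalars R)
    (fun x hx => (Submodule.Quotient.mk_eq_zero _).1 (by
      rw [← hu, (Submodule.Quotient.mk_eq_zero _).2 (Submodule.subset_span hx)]
      simp))
    (fun x hx => (Submodule.Quotient.mk_eq_zero _).1 (by
      rw [← hv, (Submodule.Quotient.mk_eq_zero _).2 (Submodule.subset_span hx)]
      simp))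
    (u.restrictScalars R) (v.restrictScalars R)
    (fun x => eG.injective (by simpa [uP] using hu x))
    (fun x => eH.injective (by simpa [vP] using hv x))

end Groth.Agent.S4796
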