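import Groth.Statements.S4806
import Groth.Agent.S3042
import Mathlib.AlgebraicGeometry.ZariskisMainTheorem

set_option autoImplicit false
universe u
open CategoryTheory AlgebraicGeometry
open Lim8

namespace Groth.Agent.S4806

/-- Let f : X ⟶ Y be a proper morphism of finite presentation. Then f is a closed immersion if and only
if, for every point y of Y, the scheme-theoretic fibre of f at y is empty or its structure morphism
to Spec κ(y) is an isomorphism. -/
theorem result {X Y : Scheme.{u}} (f : X ⟶ Y) [IsProper f]
    [LocallyOfFinitePresentation f] :
    IsClosedImmersion f ↔ ∀ y : Y, IsEmpty (f.fiber y) ∨ IsIso (f.fiberToSpecResidueField y) := by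
  constructor
  · intro _ y
    by_cases h : IsEmpty ↥(f.fiber y)
    · exact Or.inl h
    · refine Or.inr ?_
      have : IsClosedImmersion (f.fiberToSpecResidueField y) :=
        inferInstanceAs (IsClosedImmersion (Limits.pullback.snd f (Y.fromSpecResidueField y)))
      have : Surjective (f.fiberToSpecResidueField y) := ⟨fun z => by
        obtain ⟨x⟩ := not_isEmpty_iff.1 h
        exact ⟨x, Subsingleton.elim _ _⟩⟩
      exact isIso_of_isClosedImmersion_of_surjective _
  · intro h
    have : Mono f := (Groth.Agent.S3042.result X Y f).2 fun y => by
      rcases h y with h' | h'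
      · exact ⟨fun {Z} g₁ g₂ _ => by
          have : IsEmpty Z := Function.isEmpty g₁
          exact (isInitialOfIsEmpty (X := Z)).hom_ext _ _⟩
      · infer_instance
    exact (IsClosedImmersion.iff_isProper_and_mono (f := f)).2 ⟨inferInstance, this⟩

end Groth.Agent.S4806
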