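import Groth.Statements.S7382
import Groth.Agent.AbsApprox.IntegralImage
import Groth.Agent.AbsApprox.OverLim
import Groth.Agent.AbsApprox.PairOver

set_option autoImplicit false
universe u
open CategoryTheory Limits AlgebraicGeometry Opposite
open Lim

namespace Groth.Agent.S7382

/-- Let `f : X → S` be integral with `S` quasi-compact and quasi-separated. Then, in the category of
schemes over `S`, `X` is the limit of a nonempty directed inverse system of schemes `X_i → S` that
are finite and locally of finite presentation. -/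
theorem result {X S : Scheme.{u}} (f : X ⟶ S) [IsIntegralHom f]
    [CompactSpace S] [QuasiSeparatedSpace S] :
    ∃ (I : Type u) (_ : Preorder I) (_ : IsDirected I (fun a b => a ≤ b)) (_ : Nonempty I)
      (D : Iᵒᵖ ⥤ Over S) (c : Limits.Cone D) (_ : Limits.IsLimit c),
      (∀ i, IsFinite (D.obj i).hom ∧ LocallyOfFinitePresentation (D.obj i).hom) ∧
      Nonempty (c.pt ≅ Over.mk f) := by
  classical
  have : CompactSpace X := QuasiCompact.compactSpace_of_compactSpace f
  have : QuasiSeparatedSpace X := quasiSeparatedSpace_of_quasiSeparated f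
  obtain ⟨J, _, _, _, D, c, hl, e, h1, h2, h3⟩ := Groth.Agent.AbsApprox.exists_limit_over f
  have : IsCofiltered Jᵒᵖ := isCofiltered_op_of_isFiltered _
  have : CategoryTheory.IsConnected Jᵒᵖ := IsCofiltered.isConnected _
  let E := D ⋙ Over.forget S
  let d := (Over.forget S).mapCone c
  have hd : IsLimit d := isLimitOfPreserves (Over.forget S) hl
  have : ∀ {i j : Jᵒᵖ} (a : i ⟶ j), IsAffineHom (E.map a) := fun a => h2 _ _ a
  have : ∀ i, CompactSpace (E.obj i) := fun i => (h1 i).2.2.2.1
  have : ∀ i, QuasiSeparatedSpace (E.obj i) := fun i => (h1 i).2.2.2.2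
  let i₀ : Jᵒᵖ := op (Classical.arbitrary J)
  have hint : ∀ i : Jᵒᵖ, IsIntegralHom (d.π.app i ≫ (D.obj i).hom) := fun i => by
    change IsIntegralHom ((c.π.app i).left ≫ (D.obj i).hom)
    rw [Over.w (c.π.app i)]
    show IsIntegralHom c.pt.hom
    rw [← (MorphismProperty.cancel_left_of_respectsIso @IsIntegralHom e.inv.left c.pt.hom)]
    rw [Over.w e.inv]; exact ‹IsIntegralHom f›
  have : IsAffineHom (d.π.app i₀ ≫ (D.obj i₀).hom) := by have := hint i₀; infer_instance
  obtain ⟨i₂, hi₂⟩ := Groth.Agent.LimMore.exists_isAffineHom_over E (fun i => (D.obj i).hom)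
    (fun a => Over.w (D.map a)) _ hd i₀
  let P := Groth.Agent.AbsApprox.Pair E d (𝟙 d.pt)
  let I : Type u := {p : P // IsFinite (p.L.1.subschemeι ≫ (D.obj (op p.k)).hom)}
  have hcof : ∀ p : P, ∃ q : I, p ≤ q.1 := by
    intro p
    obtain ⟨k, hp, h₂⟩ := exists_ge_ge p.k i₂.unop
    have : IsAffineHom (D.obj (op k)).hom := hi₂ (op k) (homOfLE h₂).op
    have : LocallyOfFinitePresentation (D.obj (op k)).hom := (h1 (op k)).1
    have : CompactSpace (D.obj (op k)).left := (h1 (op k)).2.2.2.1
    have : QuasiSeparatedSpace (D.obj (op k)).left := (h1 (op k)).2.2.2.2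
    let π : d.pt ⟶ (D.obj (op k)).left := 𝟙 d.pt ≫ d.π.app (op k)
    have : IsIntegralHom (π ≫ (D.obj (op k)).hom) := by
      rw [show π = d.π.app (op k) from Category.id_comp _]; exact hint (op k)
    obtain ⟨L, hL⟩ := Groth.Agent.AbsApprox.exists_finite_closed π (D.obj (op k)).hom
    let q : P := Groth.Agent.AbsApprox.Pair.join k (p.pull hp).L L
    exact ⟨⟨q, hL q.L (show L.1 ≤ q.L.1 from le_sup_right)⟩, (p.le_pull hp).trans
      (Groth.Agent.AbsApprox.Pair.le_of_le_fibre (k := k) (L := (p.pull hp).L) le_sup_left)⟩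
  have : Nonempty I := ⟨(hcof (Classical.arbitrary P)).choose⟩
  have hdir : IsDirected I (fun a b => a ≤ b) := ⟨fun a b => by
    obtain ⟨r, ha, hb⟩ := exists_ge_ge a.1 b.1
    obtain ⟨q, hq⟩ := hcof r
    exact ⟨q, ha.trans hq, hb.trans hq⟩⟩
  let F : I →o P := ⟨Subtype.val, fun _ _ h => h⟩
  have : F.monotone.functor.op.Initial := Groth.Agent.AbsApprox.final_of_cofinal F hcof
  have hs : ∀ k : Jᵒᵖ, 𝟙 d.pt ≫ d.π.app k ≫ (D.obj k).hom = c.pt.hom := fun k => by
    rw [Category.id_comp]; exact Over.w (c.π.app k)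
  refine ⟨I, inferInstance, hdir, inferInstance, _, _,
    Groth.Agent.AbsApprox.isLimitPairOverCone E d (𝟙 d.pt) (fun k => (D.obj k).hom) (fun a => Over.w (D.map a))
      c.pt.hom hs F hd hcof, fun q => ⟨q.unop.2, ?_⟩, ⟨(Over.isoMk (Iso.refl _) (Category.id_comp _)) ≪≫ e⟩⟩
  have : LocallyOfFinitePresentation q.unop.1.L.1.subschemeι :=
    Groth.Agent.AbsApprox.lfp_subschemeι_pair E d (𝟙 d.pt) q.unop.1
  have : LocallyOfFinitePresentation (D.obj (op q.unop.1.k)).hom := (h1 _).1
  exact MorphismProperty.comp_mem @LocallyOfFinitePresentation _ _ ‹_› ‹_›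

end Groth.Agent.S7382
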