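import Groth.Statements.S4807
import Groth.Agent.S7382
import Groth.Agent.S2076
import Mathlib.AlgebraicGeometry.Normalization
-- import your own Groth.Agent.* helpers here

set_option autoImplicit false
set_option linter.style.haveILetI false
set_option backward.isDefEq.respectTransparency false
set_option backward.isDefEq.respectTransparency.types false
universe u
open CategoryTheory CategoryTheory.Limits AlgebraicGeometry
open Lim8

namespace Groth.Agent.S4807

/-- Let Y be a quasi-compact quasi-separated scheme and f : X ⟶ Y a separated morphism of finite type.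
Let X' be the relative normalization of Y in X, the spectrum of the integral closure of O_Y in
f_*O_X, with its canonical morphism g : X ⟶ X'. Then f admits a factorization X ⟶ Y' ⟶ Y into an
immersion followed by a finite morphism if and only if g is an immersion. -/
theorem result {X Y : Scheme.{u}} (f : X ⟶ Y)
    [CompactSpace Y] [QuasiSeparatedSpace Y] [IsSeparated f] [LocallyOfFiniteType f] [QuasiCompact f] :
    (∃ (Y' : Scheme.{u}) (f' : X ⟶ Y') (u : Y' ⟶ Y), IsImmersion f' ∧ IsFinite u ∧ f' ≫ u = f) ↔
      IsImmersion f.toNormalization := by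
  constructor
  · rintro ⟨Y', f', v, hf', hv, hfac⟩
    haveI : IsImmersion (f.toNormalization ≫ f.normalizationDesc f' v hfac.symm) := by
      rw [Scheme.Hom.toNormalization_normalizationDesc]; exact hf'
    exact IsImmersion.of_comp f.toNormalization (f.normalizationDesc f' v hfac.symm)
  · intro hg
    haveI : CompactSpace X := QuasiCompact.compactSpace_of_compactSpace f
    obtain ⟨I, hI1, hI2, hI3, D, c, hc, hfin, ⟨e⟩⟩ := Groth.Agent.S7382.result f.fromNormalization
    haveI : IsCofiltered Iᵒᵖ := inferInstance
    haveI : IsConnected Iᵒᵖ := IsCofiltered.isConnected _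
    haveI : ∀ i, IsFinite (D.obj i).hom := fun i => (hfin i).1
    haveI hmap : ∀ {i j : Iᵒᵖ} (a : i ⟶ j), IsAffineHom (D.map a).left := fun {i j} a => by
      haveI : IsAffineHom ((D.map a).left ≫ (D.obj j).hom) := by rw [Over.w (D.map a)]; infer_instance
      exact MorphismProperty.of_postcomp (W := @IsAffineHom) (W' := @IsSeparated) (D.map a).left (D.obj j).hom
        inferInstance inferInstance
    let g : X ⟶ c.pt.left := f.toNormalization ≫ e.inv.left
    have hgf : g ≫ c.pt.hom = f := by
      change (f.toNormalization ≫ e.inv.left) ≫ c.pt.hom = f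
      rw [Category.assoc, Over.w e.inv]
      exact f.toNormalization_fromNormalization
    haveI : IsImmersion g := inferInstanceAs (IsImmersion (f.toNormalization ≫ e.inv.left))
    have hex : ∀ x : X, ∃ W : c.pt.left.Opens, IsAffineOpen W ∧ g x ∈ W ∧ W ≤ g.coborderRange := fun x =>
      exists_isAffineOpen_mem_and_subset (U := g.coborderRange) (subset_coborder (Set.mem_range_self x))
    choose W hW hxW hWle using hex
    obtain ⟨s, hs⟩ := isCompact_univ.elim_finite_subcover (fun x : X => (g ⁻¹ᵁ W x : Set X))
      (fun x => (g ⁻¹ᵁ W x).2) (fun x _ => Set.mem_iUnion.2 ⟨x, hxW x⟩)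
    let U : c.pt.left.Opens := ⨆ x : s, W x.1
    have hUqc : IsCompact (U : Set c.pt.left) := by
      rw [TopologicalSpace.Opens.coe_iSup]
      exact isCompact_iUnion fun x : s => (hW x.1).isCompact
    have hUle : U ≤ g.coborderRange := iSup_le fun x => hWle x.1
    have hgU : Set.range g ⊆ (U : Set c.pt.left) := by
      rintro _ ⟨x, rfl⟩
      obtain ⟨y, hy, hxy⟩ := Set.mem_iUnion₂.1 (hs (Set.mem_univ x))
      exact TopologicalSpace.Opens.mem_iSup.2 ⟨⟨y, hy⟩, hxy⟩
    let E := D ⋙ Over.forget Y
    let d := (Over.forget Y).mapCone c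
    have hd : Limits.IsLimit d := Limits.isLimitOfPreserves (Over.forget Y) hc
    haveI : ∀ {i j : Iᵒᵖ} (a : i ⟶ j), IsAffineHom (E.map a) := fun a => hmap a
    obtain ⟨i₀, V, hV, hVU⟩ := exists_preimage_eq E d hd U hUqc
    haveI : IsConnected (Over i₀) := CategoryTheory.isConnected_of_hasTerminal _
    let T : Over i₀ ⥤ Over Y :=
      { obj := fun j => Over.mk ((E.map j.hom ⁻¹ᵁ V).ι ≫ (D.obj j.left).hom)
        map := fun {j k} a => Over.homMk ((opensDiagram E i₀ V).map a) (by
          simp [E, Over.w (D.map a.left)])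
        map_id := fun j => by ext1; exact (opensDiagram E i₀ V).map_id j
        map_comp := fun a b => by ext1; exact (opensDiagram E i₀ V).map_comp a b }
    let P : Over Y := Over.mk ((d.π.app i₀ ⁻¹ᵁ V).ι ≫ c.pt.hom)
    let cT : Cone T :=
      { pt := P
        π :=
          { app := fun j => Over.homMk ((opensCone E d i₀ V).π.app j) (by
              simp [T, P, E, d, Over.w (c.π.app j.left)])
            naturality := fun j k a => by ext1; exact (opensCone E d i₀ V).π.naturality a } }
    have hcT : IsLimit cT := isLimitOfReflects (Over.forget Y) (isLimitOpensCone E d hd i₀ V)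
    haveI : ∀ (i j : Over i₀) (a : i ⟶ j), IsAffineHom (T.map a).left := fun i j a =>
      inferInstanceAs (IsAffineHom ((opensDiagram E i₀ V).map a))
    haveI : ∀ j : Over i₀, CompactSpace (T.obj j).left := fun j => by
      haveI : IsAffineHom (E.map j.hom) := hmap j.hom
      exact isCompact_iff_compactSpace.1 ((E.map j.hom).isSpectralMap.2 V.2 hV)
    let h : X ⟶ P.left := IsOpenImmersion.lift (d.π.app i₀ ⁻¹ᵁ V).ι g (by
      intro z hz
      refine (Scheme.Opens.range_ι (d.π.app i₀ ⁻¹ᵁ V)).ge ?_
      rw [hVU]; exact hgU hz)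
    have hhι : h ≫ (d.π.app i₀ ⁻¹ᵁ V).ι = g := IsOpenImmersion.lift_fac _ _ _
    haveI : IsClosedImmersion h := by
      let j := c.pt.left.homOfLE (hVU.le.trans hUle)
      have hj : h ≫ j = g.liftCoborder := by
        rw [← cancel_mono g.coborderRange.ι, Category.assoc, Scheme.homOfLE_ι, hhι, Scheme.Hom.liftCoborder_ι]
      haveI : IsClosedImmersion (h ≫ j) := by rw [hj]; infer_instance
      exact IsClosedImmersion.of_comp h j
    haveI : LocallyOfFiniteType (h ≫ cT.pt.hom) := by
      change LocallyOfFiniteType (h ≫ (d.π.app i₀ ⁻¹ᵁ V).ι ≫ c.pt.hom)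
      rw [← Category.assoc, hhι, hgf]
      infer_instance
    obtain ⟨j, hj⟩ := Groth.Agent.S2076.result Y T cT hcT h
    refine ⟨(D.obj j.left).left, (h ≫ (cT.π.app j).left) ≫ (E.map j.hom ⁻¹ᵁ V).ι, (D.obj j.left).hom,
      inferInstance, inferInstance, ?_⟩
    rw [Category.assoc, Category.assoc]
    refine (congrArg (h ≫ ·) (Over.w (cT.π.app j))).trans ?_
    exact (Category.assoc _ _ _).symm.trans ((congrArg (· ≫ c.pt.hom) hhι).trans hgf)

end Groth.Agent.S4807
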