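import Groth.Statements.S4812
import Groth.Agent.ModDesc.Exact
import Groth.Agent.QC.Closure
import Groth.Agent.S4797

set_option autoImplicit false
universe u
open CategoryTheory AlgebraicGeometry
open Lim8

namespace Groth.Agent.S4812

/-- Let S = lim S_i be a cofiltered limit of schemes with affine transition maps and S_{i₀} a
quasi-compact stage; let f₀ : F₀ ⟶ G₀ and g₀ : G₀ ⟶ H₀ be homomorphisms of quasi-coherent O-modules
on S_{i₀}, with F₀ and G₀ of finite type and H₀ of finite presentation. Then the pulled-back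
sequence F ⟶ G ⟶ H ⟶ 0 on S is exact (the composite is zero, the sequence is exact at G, and G ⟶ H
is an epimorphism) if and only if, for some index j over i₀, the pulled-back sequence F_j ⟶ G_j ⟶
H_j ⟶ 0 on S_j is exact. -/
theorem result {I : Type u} [SmallCategory I] [IsCofiltered I]
    (D : I ⥤ Scheme.{u}) (c : Limits.Cone D) (hc : Limits.IsLimit c)
    [∀ (i j : I) (f : i ⟶ j), IsAffineHom (D.map f)] (i₀ : I) [CompactSpace (D.obj i₀)]
    {F₀ G₀ H₀ : (D.obj i₀).Modules} [Coh.IsQCoh F₀] [Coh.IsQCoh G₀] [Coh.IsQCoh H₀]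
    (hF₀ : CohB1.IsFT F₀) (hG₀ : CohB1.IsFT G₀) (hH₀ : CohB1.IsFP H₀) (f₀ : F₀ ⟶ G₀) (g₀ : G₀ ⟶ H₀) :
    (∃ w : (Scheme.Modules.pullback (c.π.app i₀)).map f₀ ≫ (Scheme.Modules.pullback (c.π.app i₀)).map g₀ = 0,
        (ShortComplex.mk _ _ w).Exact ∧ Epi ((Scheme.Modules.pullback (c.π.app i₀)).map g₀)) ↔
      ∃ (j : I) (φ : j ⟶ i₀) (w : (Scheme.Modules.pullback (D.map φ)).map f₀ ≫ (Scheme.Modules.pullback (D.map φ)).map g₀ = 0),
        (ShortComplex.mk _ _ w).Exact ∧ Epi ((Scheme.Modules.pullback (D.map φ)).map g₀) := by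
  haveI : ∀ {i j : I} (f : i ⟶ j), IsAffineHom (D.map f) := fun f => ‹∀ (i j : I) (f : i ⟶ j), IsAffineHom (D.map f)› _ _ f
  constructor
  · rintro ⟨w, hex, hepi⟩
    obtain ⟨j₁, φ₁, h₁⟩ := (S4797.result D c hc i₀ hF₀ (f₀ ≫ g₀) 0).1
      (by rw [Functor.map_comp, w, Functor.map_zero])
    obtain ⟨j₂, φ₂, h₂⟩ := ModDesc.exists_epi_stage D c hc (ModDesc.isFT_of_isFP hH₀) g₀
    obtain ⟨j, a₁, a₂, ha⟩ := IsCofiltered.cospan φ₁ φ₂
    let φ := a₁ ≫ φ₁
    let P := Scheme.Modules.pullback (D.map φ)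
    haveI : Coh.IsQCoh (P.obj F₀) := QC.isQCoh_pullback _ inferInstance
    haveI : Coh.IsQCoh (P.obj G₀) := QC.isQCoh_pullback _ inferInstance
    haveI : Coh.IsQCoh (P.obj H₀) := QC.isQCoh_pullback _ inferInstance
    haveI := ModDesc.compactSpace_stage D φ
    have hw : P.map f₀ ≫ P.map g₀ = 0 := by
      rw [← Functor.map_comp]
      refine (ModDesc.bc_map (D.map a₁) (D.map φ₁) (D.map_comp a₁ φ₁).symm H₀ (f₀ ≫ g₀)).symm.trans ?_
      rw [h₁, ModDesc.bc_map, Functor.map_zero]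
    haveI : Epi (P.map g₀) :=
      (ModDesc.epi_map_iff_trans (D.map a₂) (D.map φ₂) (r := D.map φ) (by rw [← D.map_comp, ← ha]) g₀).2
        inferInstance
    let ν := Limits.cokernel.desc (P.map f₀) (P.map g₀) hw
    haveI : Coh.IsQCoh (Limits.cokernel (P.map f₀)) := QC.isQCoh_cokernel inferInstance inferInstance _
    haveI : Epi ν := epi_of_epi_fac (Limits.cokernel.π_desc _ _ hw)
    haveI : IsIso ((Scheme.Modules.pullback (c.π.app j)).map ν) :=
      (ModDesc.exactEpi_map_iff _ _ _ hw).1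
        ((ModDesc.exactEpi_iff_trans (c.π.app j) (D.map φ) (c.w φ) f₀ g₀).1 ⟨w, hex, hepi⟩)
    obtain ⟨k, a, hk⟩ := ModDesc.exists_isIso_stage_of_epi D c hc
      (QC.isFT_of_epi (Limits.cokernel.π (P.map f₀)) (ModDesc.isFT_pullback _ inferInstance hG₀))
      (ModDesc.isFP_pullback _ inferInstance hH₀) ν
    exact ⟨k, a ≫ φ, (ModDesc.exactEpi_iff_trans (D.map a) (D.map φ) (D.map_comp a φ).symm f₀ g₀).2
      ((ModDesc.exactEpi_map_iff _ _ _ hw).2 hk)⟩
  · rintro ⟨j, φ, w, h⟩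
    haveI := (ModDesc.exactEpi_iff_isIso_desc _ _ w).1 h
    exact (ModDesc.exactEpi_iff_trans (c.π.app j) (D.map φ) (c.w φ) f₀ g₀).2
      ((ModDesc.exactEpi_map_iff _ _ _ w).2 inferInstance)

end Groth.Agent.S4812
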