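import Groth.Statements.S4813
import Groth.Agent.ModDesc.Exact
import Groth.Agent.ModDesc.KerFT
import Groth.Agent.QC.Closure
import Groth.Agent.S4797

set_option autoImplicit false
universe u
open CategoryTheory AlgebraicGeometry
open Lim8

namespace Groth.Agent.S4813

/-- Let S = lim S_i be a cofiltered limit of schemes with affine transition maps and S_{i₀} a
quasi-compact stage; let F₀ be a quasi-coherent O-module of finite type on S_{i₀} and p₁ : F₀ ⟶ G₁,
p₂ : F₀ ⟶ G₂ two surjective homomorphisms onto quasi-coherent O-modules, G₁ being of finite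
presentation. Then, on S, the pullback of p₂ factors through the pullback of p₁ (the quotient G₂
becomes a quotient of G₁ after pullback to S) if and only if, for some index j over i₀, the pullback
of p₂ to S_j factors through the pullback of p₁ to S_j. -/
theorem result {I : Type u} [SmallCategory I] [IsCofiltered I]
    (D : I ⥤ Scheme.{u}) (c : Limits.Cone D) (hc : Limits.IsLimit c)
    [∀ (i j : I) (f : i ⟶ j), IsAffineHom (D.map f)] (i₀ : I) [CompactSpace (D.obj i₀)]
    {F₀ G₁ G₂ : (D.obj i₀).Modules} [Coh.IsQCoh F₀] [Coh.IsQCoh G₁] [Coh.IsQCoh G₂]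
    (hF₀ : CohB1.IsFT F₀) (hG₁ : CohB1.IsFP G₁) (p₁ : F₀ ⟶ G₁) (p₂ : F₀ ⟶ G₂) [Epi p₁] [Epi p₂] :
    (∃ k : (Scheme.Modules.pullback (c.π.app i₀)).obj G₁ ⟶ (Scheme.Modules.pullback (c.π.app i₀)).obj G₂, (Scheme.Modules.pullback (c.π.app i₀)).map p₁ ≫ k = (Scheme.Modules.pullback (c.π.app i₀)).map p₂) ↔
      ∃ (j : I) (φ : j ⟶ i₀) (k : (Scheme.Modules.pullback (D.map φ)).obj G₁ ⟶ (Scheme.Modules.pullback (D.map φ)).obj G₂),
        (Scheme.Modules.pullback (D.map φ)).map p₁ ≫ k = (Scheme.Modules.pullback (D.map φ)).map p₂ := by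
  haveI : ∀ {i j : I} (f : i ⟶ j), IsAffineHom (D.map f) := fun f => ‹∀ (i j : I) (f : i ⟶ j), IsAffineHom (D.map f)› _ _ f
  constructor
  · rintro ⟨k, hk⟩
    let K := Limits.kernel p₁
    haveI : Coh.IsQCoh K := QC.isQCoh_kernel inferInstance inferInstance p₁
    have hK : CohB1.IsFT K := by
      haveI : K.IsQuasicoherent := ‹Coh.IsQCoh K›
      refine QC.isFT_iff_finite_sections.2 fun U => ?_
      exact ModDesc.finite_sections_kernel p₁ hF₀ hG₁ U.2
    obtain ⟨j, φ, hj⟩ := (S4797.result D c hc i₀ hK (Limits.kernel.ι p₁ ≫ p₂) 0).1 (by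
      rw [Functor.map_comp, ← hk, ← Category.assoc, ← Functor.map_comp, Limits.kernel.condition,
        Functor.map_zero, Limits.zero_comp, Functor.map_zero])
    rw [Functor.map_comp, Functor.map_zero] at hj
    haveI := (ModDesc.exactEpi_iff_isIso_desc (Limits.kernel.ι p₁) p₁ (Limits.kernel.condition p₁)).1
      ⟨ShortComplex.exact_kernel p₁, inferInstance⟩
    obtain ⟨w, hex, hepi⟩ := (ModDesc.exactEpi_map_iff (Scheme.Modules.pullback (D.map φ)) (Limits.kernel.ι p₁) p₁
      (Limits.kernel.condition p₁)).2 inferInstance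
    haveI := (ModDesc.exactEpi_iff_isIso_desc _ _ w).1 ⟨hex, hepi⟩
    refine ⟨j, φ, inv (Limits.cokernel.desc _ _ w) ≫ Limits.cokernel.desc _ _ hj, ?_⟩
    rw [← Category.assoc]
    conv_rhs => rw [← Limits.cokernel.π_desc _ _ hj]
    congr 1
    rw [IsIso.comp_inv_eq, Limits.cokernel.π_desc]
  · rintro ⟨j, φ, k, hk⟩
    refine ⟨ModDesc.bc (c.π.app j) (D.map φ) (c.w φ) G₂ k, ?_⟩
    rw [← ModDesc.bc_map (c.π.app j) (D.map φ) (c.w φ) G₁ p₁, ModDesc.bc_comp, hk, ModDesc.bc_map]

end Groth.Agent.S4813
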