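import Groth.Statements.S4814
import Groth.Agent.ModDesc.Descent
import Groth.Agent.ModDesc.Exact
import Groth.Agent.ModDesc.TrAssoc

set_option autoImplicit false
universe u
open CategoryTheory AlgebraicGeometry
open Lim8

namespace Groth.Agent.S4814

/-- Let S = lim S_i be a cofiltered limit of schemes with affine transition maps and S_{i₀} a
quasi-compact quasi-separated stage; let F₀ be a quasi-coherent O-module of finite presentation on
S_{i₀}, F its pullback to S, and p : F ⟶ G a surjective homomorphism onto a quasi-coherent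
O_S-module of finite presentation. Then for some index j over i₀ there are a quasi-coherent O-module
of finite presentation G_j on S_j and a surjective homomorphism p_j : F_j ⟶ G_j from the pullback
F_j of F₀, together with an isomorphism from the pullback of G_j to S onto G which carries the
pullback of p_j (transported along the canonical identification of the pullback of F_j with F) to p.
Every quotient of finite presentation of F thus comes from a quotient of finite presentation of some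
F_j. -/
theorem result {I : Type u} [SmallCategory I] [IsCofiltered I]
    (D : I ⥤ Scheme.{u}) (c : Limits.Cone D) (hc : Limits.IsLimit c)
    [∀ (i j : I) (f : i ⟶ j), IsAffineHom (D.map f)] (i₀ : I)
    [CompactSpace (D.obj i₀)] [QuasiSeparatedSpace (D.obj i₀)]
    (F₀ : (D.obj i₀).Modules) [Coh.IsQCoh F₀] (hF₀ : CohB1.IsFP F₀)
    {G : c.pt.Modules} [Coh.IsQCoh G] (hG : CohB1.IsFP G) (p : (Scheme.Modules.pullback (c.π.app i₀)).obj F₀ ⟶ G) [Epi p] :
    ∃ (j : I) (φ : j ⟶ i₀) (Gj : (D.obj j).Modules) (_ : Coh.IsQCoh Gj) (pj : (Scheme.Modules.pullback (D.map φ)).obj F₀ ⟶ Gj)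
      (e : (Scheme.Modules.pullback (c.π.app j)).obj Gj ≅ G),
      CohB1.IsFP Gj ∧ Epi pj ∧
        ((Scheme.Modules.pullbackComp (c.π.app j) (D.map φ) ≪≫ Scheme.Modules.pullbackCongr (c.w φ)).app F₀).inv ≫
          (Scheme.Modules.pullback (c.π.app j)).map pj ≫ e.hom = p := by
  haveI : ∀ {i j : I} (f : i ⟶ j), IsAffineHom (D.map f) := fun f => ‹∀ (i j : I) (f : i ⟶ j), IsAffineHom (D.map f)› _ _ f
  obtain ⟨j, φ, N, hN, hNfp, ⟨e⟩⟩ := ModDesc.exists_descend (F := G) hc hG (i₀ := i₀)
  haveI := hN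
  haveI := ModDesc.compactSpace_stage D φ
  haveI := ModDesc.qs_stage φ (D := D)
  let P := (Scheme.Modules.pullback (D.map φ)).obj F₀
  haveI : Coh.IsQCoh P := QC.isQCoh_pullback _ inferInstance
  obtain ⟨k, a, hk, hbc⟩ := ModDesc.exists_bc_eq_hom D c hc N (G := P) (ModDesc.isFP_pullback _ inferInstance hF₀)
    ((((ModDesc.trIso (c.π.app j) (D.map φ) (c.w φ)).app F₀).hom ≫ p ≫ e.inv))
  have wψ : D.map a ≫ D.map φ = D.map (a ≫ φ) := (D.map_comp a φ).symm
  let pk := ((ModDesc.trIso (D.map a) (D.map φ) wψ).app F₀).inv ≫ hk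
  let Nk := (Scheme.Modules.pullback (D.map a)).obj N
  let ek := (ModDesc.trIso (c.π.app k) (D.map a) (c.w a)).app N ≪≫ e
  have hpk : ((ModDesc.trIso (c.π.app k) (D.map (a ≫ φ)) (c.w (a ≫ φ))).app F₀).inv ≫
      (Scheme.Modules.pullback (c.π.app k)).map pk ≫ ek.hom = p := by
    show _ ≫ _ ≫ ((ModDesc.trIso (c.π.app k) (D.map a) (c.w a)).app N).hom ≫ e.hom = p
    rw [← Category.assoc _ _ e.hom, ← Category.assoc, ModDesc.transport_formula (D.map a) (D.map φ) wψ F₀ (c.π.app k)
      (c.w (a ≫ φ)) (c.w a) (c.w φ) hk, hbc, Category.assoc, Category.assoc, Category.assoc, e.inv_hom_id,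
      Category.comp_id, Iso.inv_hom_id_assoc]
  haveI : Epi ((Scheme.Modules.pullback (c.π.app k)).map pk) := by
    have : (Scheme.Modules.pullback (c.π.app k)).map pk =
        ((ModDesc.trIso (c.π.app k) (D.map (a ≫ φ)) (c.w (a ≫ φ))).app F₀).hom ≫ p ≫ ek.inv := by
      rw [← hpk, Category.assoc, Category.assoc, ek.hom_inv_id, Iso.hom_inv_id_assoc]
      exact (Category.comp_id _).symm
    rw [this]
    exact epi_comp _ _
  haveI := ModDesc.compactSpace_stage D (a ≫ φ)
  haveI : Coh.IsQCoh ((Scheme.Modules.pullback (D.map (a ≫ φ))).obj F₀) := QC.isQCoh_pullback _ inferInstance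
  haveI : Coh.IsQCoh Nk := QC.isQCoh_pullback _ hN
  obtain ⟨l, b, hepi⟩ := ModDesc.exists_epi_stage D c hc
    (ModDesc.isFT_pullback _ hN (ModDesc.isFT_of_isFP hNfp)) pk
  have wl : D.map b ≫ D.map (a ≫ φ) = D.map (b ≫ a ≫ φ) := (D.map_comp _ _).symm
  refine ⟨l, b ≫ a ≫ φ, (Scheme.Modules.pullback (D.map b)).obj Nk, QC.isQCoh_pullback _ inferInstance,
    ((ModDesc.trIso (D.map b) (D.map (a ≫ φ)) wl).app F₀).inv ≫ (Scheme.Modules.pullback (D.map b)).map pk,
    (ModDesc.trIso (c.π.app l) (D.map b) (c.w b)).app Nk ≪≫ ek,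
    ModDesc.isFP_pullback _ inferInstance (ModDesc.isFP_pullback _ hN hNfp), epi_comp _ _, ?_⟩
  show ((ModDesc.trIso (c.π.app l) (D.map (b ≫ a ≫ φ)) (c.w _)).app F₀).inv ≫ _ ≫
    ((ModDesc.trIso (c.π.app l) (D.map b) (c.w b)).app Nk).hom ≫ ek.hom = p
  rw [← Category.assoc _ _ ek.hom, ← Category.assoc, ModDesc.transport_formula (D.map b) (D.map (a ≫ φ)) wl F₀ (c.π.app l)
    (c.w (b ≫ a ≫ φ)) (c.w b) (c.w (a ≫ φ)), ModDesc.bc_map, Category.assoc]
  exact hpk

end Groth.Agent.S4814
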