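import Groth.Statements.S4816
import Groth.Agent.LimMore.Hom

set_option autoImplicit false
universe u
open CategoryTheory AlgebraicGeometry
open Lim8

namespace Groth.Agent.S4816

open CategoryTheory.Limits in
/-- Let S = lim S_i be a cofiltered limit of schemes with affine transition maps and S_{i₀} a
quasi-compact stage; let ι₁ : Z₁ ⟶ S_{i₀} and ι₂ : Z₂ ⟶ S_{i₀} be two subschemes of finite
presentation of S_{i₀} (immersions which are locally of finite presentation and quasi-compact), with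
base changes Z₁ ×_{S_{i₀}} T ⟶ T to T = S and to T = S_j. Then Z₁ ×_{S_{i₀}} S is a subscheme of Z₂
×_{S_{i₀}} S (its immersion into S factors through that of Z₂ ×_{S_{i₀}} S) if and only if, for some
index j over i₀, Z₁ ×_{S_{i₀}} S_j is a subscheme of Z₂ ×_{S_{i₀}} S_j. -/
theorem result {I : Type u} [SmallCategory I] [IsCofiltered I]
    (D : I ⥤ Scheme.{u}) (c : Limits.Cone D) (hc : Limits.IsLimit c)
    [∀ (i j : I) (f : i ⟶ j), IsAffineHom (D.map f)] (i₀ : I) [CompactSpace (D.obj i₀)]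
    {Z₁ Z₂ : Scheme.{u}} (ι₁ : Z₁ ⟶ D.obj i₀) (ι₂ : Z₂ ⟶ D.obj i₀)
    [IsImmersion ι₁] [LocallyOfFinitePresentation ι₁] [QuasiCompact ι₁]
    [IsImmersion ι₂] [LocallyOfFinitePresentation ι₂] [QuasiCompact ι₂] :
    (∃ k : pullback ι₁ (c.π.app i₀) ⟶ pullback ι₂ (c.π.app i₀),
        k ≫ pullback.snd ι₂ (c.π.app i₀) = pullback.snd ι₁ (c.π.app i₀)) ↔
      ∃ (j : I) (φ : j ⟶ i₀) (k : pullback ι₁ (D.map φ) ⟶ pullback ι₂ (D.map φ)),
        k ≫ pullback.snd ι₂ (D.map φ) = pullback.snd ι₁ (D.map φ) := by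
  haveI : ∀ {i j} (f : i ⟶ j), IsAffineHom (D.map f) := fun {i j} f => inferInstance
  constructor
  · rintro ⟨k, hk⟩
    let f₀ : pullback ι₁ ι₂ ⟶ Z₁ := pullback.fst ι₁ ι₂
    haveI : LocallyOfFinitePresentation f₀ := MorphismProperty.pullback_fst _ _ ‹_›
    haveI : QuasiCompact f₀ := MorphismProperty.pullback_fst _ _ ‹_›
    haveI : IsImmersion f₀ := MorphismProperty.pullback_fst _ _ ‹_›
    let Y := pullback ι₁ (c.π.app i₀)
    let qY : Y ⟶ Z₁ := pullback.fst _ _
    let f : pullback f₀ qY ⟶ Y := pullback.snd _ _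
    haveI : IsImmersion f := MorphismProperty.pullback_snd _ _ ‹_›
    haveI : IsSplitEpi f := by
      have hw : qY ≫ ι₁ = (k ≫ pullback.fst ι₂ (c.π.app i₀)) ≫ ι₂ := by
        rw [Category.assoc, pullback.condition (f := ι₂) (g := c.π.app i₀), ← Category.assoc k, hk]
        exact pullback.condition
      exact ⟨⟨⟨pullback.lift (pullback.lift qY (k ≫ pullback.fst _ _) hw) (𝟙 Y)
        (by rw [Category.id_comp]; exact pullback.lift_fst _ _ _), pullback.lift_snd _ _ _⟩⟩⟩
    haveI : IsIso f := isIso_of_mono_of_isSplitEpi f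
    obtain ⟨j, hj⟩ := Groth.Agent.LimMore.exists_isIso D c hc (f₀ := f₀) (g₀ := ι₁) (.of_hasPullback ι₁ (c.π.app i₀))
      (.of_hasPullback f₀ qY) (f := f)
    haveI := hj
    refine ⟨j.left, j.hom, inv (LimDesc.stageMap D ι₁ f₀ j) ≫
      pullback.lift (LimDesc.toBase D (f₀ ≫ ι₁) j ≫ pullback.snd ι₁ ι₂) (LimDesc.toStage D (f₀ ≫ ι₁) j) ?_, ?_⟩
    · rw [Category.assoc, ← pullback.condition]
      exact (LimDesc.isPullback_stage D (f₀ ≫ ι₁) j).w
    · rw [Category.assoc, pullback.lift_snd, IsIso.inv_comp_eq]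
      exact (LimDesc.stageMap_toStage D ι₁ f₀ j).symm
  · rintro ⟨j, φ, k, hk⟩
    let p : pullback ι₁ (c.π.app i₀) ⟶ pullback ι₁ (D.map φ) :=
      pullback.lift (pullback.fst _ _) (pullback.snd _ _ ≫ c.π.app j) (by rw [Category.assoc, c.w φ]; exact pullback.condition)
    refine ⟨pullback.lift (p ≫ k ≫ pullback.fst _ _) (pullback.snd _ _) ?_, pullback.lift_snd _ _ _⟩
    simp only [Category.assoc]
    rw [pullback.condition, reassoc_of% hk, ← Category.assoc, pullback.lift_snd, Category.assoc, c.w φ]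

end Groth.Agent.S4816
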