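import Groth.Statements.S4823
import Mathlib
import Groth.Agent.FieldAmple.Basic
import Groth.Agent.S4790

set_option autoImplicit false
open CategoryTheory AlgebraicGeometry
universe u
open Cons9

open Opposite
set_option linter.style.haveILetI false

namespace Groth.Agent.S4823

open CategoryTheory.Limits in
/-- Let k be a field, Ω an algebraically closed extension field of k, X a scheme of finite type over k
and F, G two coherent O_X-modules (quasi-coherent of finite presentation). If the pullbacks of F and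
G to X ⊗_k Ω are isomorphic, then there is a finite extension k' of k such that the pullbacks of F
and G to X ⊗_k k' are already isomorphic (base changes are the chosen fibre products with Spec of
the extension, and the modules are pulled back along the first projection). -/
theorem result {k : Type u} [Field k] {X : Scheme.{u}}
    (p : X ⟶ Spec (CommRingCat.of k)) [LocallyOfFiniteType p] [QuasiCompact p]
    (F G : X.Modules) [Coh.IsQCoh F] [Coh.IsQCoh G] (hF : CohB1.IsFP F) (hG : CohB1.IsFP G)
    (Ω : Type u) [Field Ω] [Algebra k Ω] [IsAlgClosed Ω]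
    (e : (Scheme.Modules.pullback (pullback.fst p (Spec.map (CommRingCat.ofHom (algebraMap k Ω))))).obj F ≅
      (Scheme.Modules.pullback (pullback.fst p (Spec.map (CommRingCat.ofHom (algebraMap k Ω))))).obj G) :
    ∃ (k' : Type u) (_ : Field k') (_ : Algebra k k') (_ : Module.Finite k k'),
      Nonempty ((Scheme.Modules.pullback (pullback.fst p (Spec.map (CommRingCat.ofHom (algebraMap k k'))))).obj F ≅
        (Scheme.Modules.pullback (pullback.fst p (Spec.map (CommRingCat.ofHom (algebraMap k k'))))).obj G) := by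
  letI : X.Over (Spec (CommRingCat.of k)) := ⟨p⟩
  haveI : CompactSpace X := QuasiCompact.compactSpace_of_compactSpace p
  haveI : IsLocallyNoetherian X := LocallyOfFiniteType.isLocallyNoetherian p
  haveI : QuasiSeparatedSpace X := inferInstance
  let D := FieldAmple.bcDiagram k Ω X
  let c := FieldAmple.bcCone k Ω X
  let i₀ : (FieldAmple.FgAlg k Ω)ᵒᵖ := op ⟨⊥, Subalgebra.fg_bot⟩
  let fst' : D.obj i₀ ⟶ X := pullback.fst _ _
  haveI : IsAffineHom fst' :=
    MorphismProperty.pullback_fst (P := @IsAffineHom) _ _ (isAffineHom_of_isAffine _)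
  haveI : CompactSpace (D.obj i₀) := QuasiCompact.compactSpace_of_compactSpace fst'
  haveI : QuasiSeparatedSpace (D.obj i₀) := quasiSeparatedSpace_of_quasiSeparated fst'
  let F₀ := (Scheme.Modules.pullback fst').obj F
  let G₀ := (Scheme.Modules.pullback fst').obj G
  haveI : Coh.IsQCoh F₀ := QC.isQCoh_pullback fst' ‹Coh.IsQCoh F›
  haveI : Coh.IsQCoh G₀ := QC.isQCoh_pullback fst' ‹Coh.IsQCoh G›
  have hF₀ : CohB1.IsFP F₀ := ModDesc.isFP_pullback fst' ‹Coh.IsQCoh F› hF
  have hG₀ : CohB1.IsFP G₀ := ModDesc.isFP_pullback fst' ‹Coh.IsQCoh G› hG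
  haveI : ∀ (i j : (FieldAmple.FgAlg k Ω)ᵒᵖ) (f : i ⟶ j), IsAffineHom (D.map f) := fun i j f => inferInstance
  have w₀ : c.π.app i₀ ≫ fst' = pullback.fst p (Spec.map (CommRingCat.ofHom (algebraMap k Ω))) :=
    pullback.lift_fst _ _ _
  have hlim : Nonempty ((Scheme.Modules.pullback (c.π.app i₀)).obj F₀ ≅ (Scheme.Modules.pullback (c.π.app i₀)).obj G₀) :=
    ⟨(ModDesc.trIso _ _ w₀).app F ≪≫ e ≪≫ ((ModDesc.trIso _ _ w₀).app G).symm⟩
  obtain ⟨j, φ, ⟨ej⟩⟩ := (S4790.result D c (FieldAmple.bcIsLimit k Ω X) i₀ F₀ G₀ hF₀ hG₀).1 hlim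
  -- a closed point of the stage
  let B := j.unop.1
  haveI : Algebra.FiniteType k B := (Subalgebra.fg_iff_finiteType _).1 j.unop.2
  obtain ⟨m, hm⟩ := Ideal.exists_maximal B
  letI : Field (B ⧸ m) := Ideal.Quotient.field m
  haveI : Algebra.FiniteType k (B ⧸ m) :=
    Algebra.FiniteType.of_surjective (Ideal.Quotient.mkₐ k m) (Ideal.Quotient.mk_surjective)
  haveI : Module.Finite k (B ⧸ m) := finite_of_finite_type_of_isJacobsonRing k (B ⧸ m)
  refine ⟨B ⧸ m, inferInstance, inferInstance, inferInstance, ?_⟩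
  let q : pullback p (Spec.map (CommRingCat.ofHom (algebraMap k (B ⧸ m)))) ⟶ D.obj j :=
    pullback.lift (pullback.fst _ _)
      (pullback.snd _ _ ≫ Spec.map (CommRingCat.ofHom (algebraMap B (B ⧸ m)))) (by
        rw [Category.assoc, FieldAmple.toK, ← Spec.map_comp]
        exact pullback.condition)
  have w₁ : (q ≫ D.map φ) ≫ fst' = pullback.fst p (Spec.map (CommRingCat.ofHom (algebraMap k (B ⧸ m)))) := by
    rw [Category.assoc, show D.map φ ≫ fst' = pullback.fst _ _ from pullback.lift_fst _ _ _]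
    exact pullback.lift_fst _ _ _
  exact ⟨((ModDesc.trIso _ _ w₁).app F).symm ≪≫ ((ModDesc.trIso q (D.map φ) rfl).app F₀).symm ≪≫
    (Scheme.Modules.pullback q).mapIso ej ≪≫ (ModDesc.trIso q (D.map φ) rfl).app G₀ ≪≫
    (ModDesc.trIso _ _ w₁).app G⟩

end Groth.Agent.S4823
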