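import Groth.Statements.S9629
import Groth.Agent.GeomConn.Basic
import Mathlib.Tactic.TFAE
import Mathlib.FieldTheory.IsAlgClosed.AlgebraicClosure

set_option autoImplicit false
universe u
open CAlg

namespace Groth.Agent.S9629

open TensorProduct in
/-- For a field k and a k-algebra S the following are equivalent: (1) S is geometrically integral, i.e.
k' ⊗_k S is an integral domain for every field extension k'/k; (2) k' ⊗_k S is an integral domain
for every finite field extension k'/k; (3) k̄ ⊗_k S is an integral domain for the algebraic closure
k̄ of k. Here the test fields range over field extensions in the universe of k; this is equivalent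
to the unrestricted notion, since an algebraic closure of k suffices as a test. -/
theorem result {k S : Type u} [Field k] [CommRing S] [Algebra k S] :
    [∀ (k' : Type u) [Field k'] [Algebra k k'], IsDomain (k' ⊗[k] S),
      ∀ (k' : Type u) [Field k'] [Algebra k k'] [Module.Finite k k'], IsDomain (k' ⊗[k] S),
      IsDomain (AlgebraicClosure k ⊗[k] S)].TFAE := by
  classical
  tfae_have 1 → 2 := fun h k' _ _ _ => h k'
  tfae_have 2 → 3 := by
    intro h
    let Kb := AlgebraicClosure k
    haveI : IsDomain (k ⊗[k] S) := h k
    haveI : Nontrivial S := (Algebra.TensorProduct.lid k S).symm.toEquiv.nontrivial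
    haveI : Nontrivial (Kb ⊗[k] S) :=
      TensorProduct.nontrivial_of_linearMap_injective_of_flat_left k Kb S (Algebra.linearMap k S)
        (algebraMap k S).injective
    haveI : NoZeroDivisors (Kb ⊗[k] S) := ⟨fun {x y} hxy => by
      obtain ⟨C₁, hC₁, z₁, hz₁⟩ := exists_fg_and_mem_baseChange ((Algebra.TensorProduct.comm k Kb S) x)
      obtain ⟨C₂, hC₂, z₂, hz₂⟩ := exists_fg_and_mem_baseChange ((Algebra.TensorProduct.comm k Kb S) y)
      let D := C₁ ⊔ C₂
      haveI : Algebra.FiniteType k D := (Subalgebra.fg_iff_finiteType D).1 (hC₁.sup hC₂)
      haveI : Algebra.IsIntegral k D := ⟨fun d => by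
        have := Algebra.IsIntegral.isIntegral (R := k) (d : Kb)
        exact (isIntegral_algHom_iff D.val Subtype.val_injective).mp this⟩
      haveI : Module.Finite k D := Algebra.IsIntegral.finite
      haveI hD : IsDomain ((D : Type u) ⊗[k] S) := by
        letI := (isField_of_isIntegral_of_isField' (R := k) (S := D) (Field.toIsField k)).toField
        exact h D
      haveI : IsDomain (S ⊗[k] D) := (Algebra.TensorProduct.comm k D S).symm.toMulEquiv.isDomain
      let m := Algebra.TensorProduct.map (AlgHom.id S S) D.val
      have hm : Function.Injective m :=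
        Module.Flat.lTensor_preserves_injective_linearMap _ Subtype.val_injective
      have key : ∀ (C : Subalgebra k Kb) (h : C ≤ D) z,
          Algebra.TensorProduct.map (AlgHom.id S S) C.val z =
            m (Algebra.TensorProduct.map (AlgHom.id S S) (Subalgebra.inclusion h) z) := by
        intro C h z
        induction z with
        | zero => simp
        | tmul a b => simp [m]
        | add a b ha hb => simp [map_add, ha, hb]
      have e1 := (key C₁ le_sup_left z₁).symm.trans hz₁
      have e2 := (key C₂ le_sup_right z₂).symm.trans hz₂
      have hxy' := congrArg (Algebra.TensorProduct.comm k Kb S) hxy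
      rw [map_mul, map_zero, ← e1, ← e2, ← map_mul, map_eq_zero_iff m hm] at hxy'
      rcases mul_eq_zero.1 hxy' with h | h
      · exact Or.inl ((Algebra.TensorProduct.comm k Kb S).injective (by rw [← e1, h, map_zero, map_zero]))
      · exact Or.inr ((Algebra.TensorProduct.comm k Kb S).injective (by rw [← e2, h, map_zero, map_zero]))⟩
    exact NoZeroDivisors.to_isDomain _
  tfae_have 3 → 1 := by
    intro h k' _ _
    let Kb := AlgebraicClosure k
    let K := AlgebraicClosure k'
    let φ : Kb →ₐ[k] K := IsAlgClosed.lift
    letI : Algebra Kb K := φ.toRingHom.toAlgebra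
    haveI : IsScalarTower k Kb K := .of_algebraMap_eq fun r => (φ.commutes r).symm
    haveI : IsDomain (Kb ⊗[k] S) := h
    let F := FractionRing (Kb ⊗[k] S)
    haveI : IsDomain (K ⊗[Kb] F) := Groth.Agent.GeomConn.isDomain_tensor F K
    haveI : IsDomain (K ⊗[Kb] (Kb ⊗[k] S)) :=
      (show Function.Injective (Algebra.TensorProduct.map (AlgHom.id K K) (IsScalarTower.toAlgHom Kb (Kb ⊗[k] S) F)) from
        Module.Flat.lTensor_preserves_injective_linearMap (M := K) (IsScalarTower.toAlgHom Kb (Kb ⊗[k] S) F).toLinearMap
          (IsFractionRing.injective _ F)).isDomain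
    haveI : IsDomain (K ⊗[k] S) :=
      (Algebra.TensorProduct.cancelBaseChange k Kb K K S).symm.toMulEquiv.isDomain
    exact (show Function.Injective (Algebra.TensorProduct.map (IsScalarTower.toAlgHom k k' K) (AlgHom.id k S)) from
      Module.Flat.rTensor_preserves_injective_linearMap (M := S) (IsScalarTower.toAlgHom k k' K).toLinearMap
        (algebraMap k' K).injective).isDomain
  tfae_finish

end Groth.Agent.S9629
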