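import Groth.Statements.S4824
import Mathlib
import Groth.Agent.S9629

set_option autoImplicit false
open CategoryTheory AlgebraicGeometry
universe u
open Cons9
open scoped TensorProduct

namespace Groth.Agent.S4824

/-- Let k be a field, Ω an algebraically closed extension of k and F a non-constant polynomial in k[T_1,
…, T_n]. The following are equivalent: (a) the k-scheme Spec(k[T_1, …, T_n]/(F)) is geometrically
integral; (b) for every extension field K of k the image of F in K[T_1, …, T_n] is irreducible; (c)
the image of F in Ω[T_1, …, T_n] is irreducible. (Such an F is called geometrically irreducible.) -/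
theorem result {k : Type u} [Field k] (Ω : Type u) [Field Ω] [Algebra k Ω]
    [IsAlgClosed Ω] {n : ℕ} (F : MvPolynomial (Fin n) k) (hF : 0 < F.totalDegree) :
    List.TFAE [
      GeometricallyIntegral (Spec.map (CommRingCat.ofHom
        (algebraMap k (MvPolynomial (Fin n) k ⧸ Ideal.span ({F} : Set (MvPolynomial (Fin n) k)))))),
      ∀ (K : Type u) [Field K] [Algebra k K], Irreducible (MvPolynomial.map (algebraMap k K) F),
      Irreducible (MvPolynomial.map (algebraMap k Ω) F)] := by
  classical
  let S := MvPolynomial (Fin n) k ⧸ Ideal.span ({F} : Set (MvPolynomial (Fin n) k))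
  have hF0 : F ≠ 0 := fun h => by rw [h, MvPolynomial.totalDegree_zero] at hF; exact lt_irrefl _ hF
  have hirr : ∀ (K : Type u) [Field K] [Algebra k K],
      IsDomain (TensorProduct k K S) ↔ Irreducible (MvPolynomial.map (algebraMap k K) F) := by
    intro K _ _
    have hne : MvPolynomial.map (algebraMap k K) F ≠ 0 := fun h =>
      hF0 (MvPolynomial.map_injective _ (algebraMap k K).injective (by rw [h, map_zero]))
    let e₁ := Algebra.TensorProduct.tensorQuotientEquiv (R := k) k (MvPolynomial (Fin n) k) K
      (Ideal.span ({F} : Set (MvPolynomial (Fin n) k)))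
    let e₂ : (TensorProduct k K (MvPolynomial (Fin n) k)) ≃+* MvPolynomial (Fin n) K :=
      (MvPolynomial.algebraTensorAlgEquiv k K).toRingEquiv
    have hI : Ideal.span ({MvPolynomial.map (algebraMap k K) F} : Set (MvPolynomial (Fin n) K)) =
        ((Ideal.span ({F} : Set (MvPolynomial (Fin n) k))).map
          (Algebra.TensorProduct.includeRight (A := K) (R := k))).map (e₂ : _ →+* _) := by
      rw [Ideal.map_span, Ideal.map_span, Set.image_singleton, Set.image_singleton]
      congr 2
      show _ = MvPolynomial.algebraTensorAlgEquiv k K (1 ⊗ₜ F)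
      rw [MvPolynomial.algebraTensorAlgEquiv_tmul, one_smul]
    rw [(e₁.toRingEquiv.trans (Ideal.quotientEquiv _ _ e₂ hI)).toMulEquiv.isDomain_iff,
      Ideal.Quotient.isDomain_iff_prime, Ideal.span_singleton_prime hne, irreducible_iff_prime]
  have haff : GeometricallyIntegral (Spec.map (CommRingCat.ofHom (algebraMap k S))) ↔
      ∀ (K : Type u) [Field K] [Algebra k K], IsDomain (TensorProduct k K S) := by
    haveI : ObjectProperty.IsClosedUnderIsomorphisms (fun X : Scheme.{u} => AlgebraicGeometry.IsIntegral X) :=
      ⟨fun {X Y} e h => IsIntegral.of_isIso (h := h) e.hom⟩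
    rw [geometricallyIntegral_iff, geometrically_iff_of_commRing_of_isClosedUnderIsomorphisms]
    refine forall_congr' fun K => forall_congr' fun _ => forall_congr' fun _ => ?_
    rw [(Algebra.TensorProduct.comm k K S).toMulEquiv.isDomain_iff]
    constructor
    · intro h
      haveI : AlgebraicGeometry.IsIntegral (Spec (CommRingCat.of (TensorProduct k S K))) :=
        IsIntegral.of_isIso (pullbackSpecIso k S K).hom
      exact (affine_isIntegral_iff (R := CommRingCat.of (TensorProduct k S K))).1 ‹_›
    · intro h
      haveI : AlgebraicGeometry.IsIntegral (Spec (CommRingCat.of (TensorProduct k S K))) :=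
        (affine_isIntegral_iff _).2 h
      exact IsIntegral.of_isIso (pullbackSpecIso k S K).inv
  tfae_have 1 → 2 := fun h K _ _ => (hirr K).1 (haff.1 h K)
  tfae_have 2 → 3 := fun h => h Ω
  tfae_have 3 → 1 := by
    intro h
    haveI : IsDomain (TensorProduct k Ω S) := (hirr Ω).2 h
    let φ : AlgebraicClosure k →ₐ[k] Ω := IsAlgClosed.lift
    haveI : IsDomain (TensorProduct k (AlgebraicClosure k) S) :=
      Function.Injective.isDomain (Algebra.TensorProduct.map φ (AlgHom.id k S)).toRingHom
        (Module.Flat.rTensor_preserves_injective_linearMap (M := S) φ.toLinearMap φ.toRingHom.injective)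
    have h3 : IsDomain (TensorProduct k (AlgebraicClosure k) S) := ‹_›
    have h0 : ∀ (K : Type u) [Field K] [Algebra k K], IsDomain (TensorProduct k K S) :=
      ((Groth.Agent.S9629.result (k := k) (S := S)).out 2 0).1 h3
    exact haff.2 fun K _ _ => h0 K
  tfae_finish

end Groth.Agent.S4824
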