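import Groth.Statements.S4828
import Groth.Agent.FibDepth.GlobalPush
import Groth.Agent.FibDepth.GlobalGood

set_option autoImplicit false
open CategoryTheory AlgebraicGeometry
universe u
set_option backward.isDefEq.respectTransparency false
open Cons9

namespace Groth.Agent.S4828

/-- Let f : X ⟶ S be a morphism of finite presentation (locally of finite presentation, quasi-compact
and quasi-separated) and k a natural number. Then the set of points s of S whose fibre X_s has the
geometric property (R_k), i.e. such that for every extension field K of κ(s) all local rings of X_s
⊗_{κ(s)} K satisfy Serre's condition (R_k), is locally constructible in S. -/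
theorem result {X S : Scheme.{u}} (f : X ⟶ S)
    [LocallyOfFinitePresentation f] [QuasiCompact f] [QuasiSeparated f] (k : ℕ) :
    Topology.IsLocallyConstructible {s : S |
      ∀ (K : Type u) [Field K] [Algebra (IsLocalRing.ResidueField (S.presheaf.stalk s)) K]
        (x' : ↥(FBase.bc (f.fiberToSpecResidueField s) K)),
        LocCoh.HasRk k ((FBase.bc (f.fiberToSpecResidueField s) K).presheaf.stalk x')} := by
  convert FibDepth.isLocallyConstructible_forall_of_fibres f (C := fun y z =>
    haveI := FibDepth.lfp_fiberToSpec f y
    FibDepth.GoodAt (f.fiberToSpecResidueField y) k z) (FibDepth.isLocallyConstructible_goodAt f k) using 1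
  ext s
  haveI := FibDepth.lfp_fiberToSpec f s
  exact ⟨fun h z => (FibDepth.goodAt_iff (f.fiberToSpecResidueField s) k z).1 fun K _ _ x' _ => h K x',
    fun h K _ _ x' => (FibDepth.goodAt_iff (f.fiberToSpecResidueField s) k _).2 (h _) K x' rfl⟩

end Groth.Agent.S4828
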