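import Groth.Statements.S4837
import Mathlib
import Groth.Agent.S8255

set_option autoImplicit false
open CategoryTheory AlgebraicGeometry
universe u
open Lim8
set_option linter.style.haveILetI false

namespace Groth.Agent.S4837

/-- Let f : X ⟶ Y be a quasi-compact quasi-separated morphism, C a quasi-coherent O_Y-algebra with
relative spectrum Z = Spec(C) over Y, g : X ⟶ Z a Y-morphism which is an immersion, and φ : C ⟶
f_*O_X the homomorphism of O_Y-algebras corresponding to g (the canonical identification of C with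
the direct image of O_Z followed by the map induced by g). Then the scheme-theoretic image of g is
the whole of Z, i.e. the kernel ideal of g vanishes, if and only if φ is injective; and when this
holds g is an open immersion. -/
theorem result {X Y : Scheme.{u}} (f : X ⟶ Y)
    [QuasiCompact f] [QuasiSeparated f] (C : RelSpec.QCAlg Y) (g : X ⟶ C.spec) (w : g ≫ C.π = f)
    [IsImmersion g] (φ : C ⟶ RelSpec.QCAlg.directImage f)
    (hφ : C.gammaMap ≫ φ.hom = AffAlg.algHom C.π f g w) :
    (g.ker = ⊥ ↔ ∀ U : Y.Opens, Function.Injective (φ.hom.app (Opposite.op U)).hom) ∧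
      (g.ker = ⊥ → IsOpenImmersion g) := by
  haveI : IsIso C.gammaMap := S8255.result C
  haveI : QuasiCompact g := by
    haveI : QuasiCompact (g ≫ C.π) := w ▸ inferInstance
    exact QuasiCompact.of_comp g C.π
  have hinj : ∀ U : Y.Opens, Function.Injective (g.app (C.π ⁻¹ᵁ U)).hom ↔
      Function.Injective (φ.hom.app (Opposite.op U)).hom := by
    intro U
    subst w
    have h : C.gammaMap.app (Opposite.op U) ≫ φ.hom.app (Opposite.op U) = g.app (C.π ⁻¹ᵁ U) := by
      rw [← NatTrans.comp_app, hφ]
      simp [AffAlg.algHom]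
      rfl
    rw [← h]
    constructor
    · intro hc a b hab
      obtain ⟨a', rfl⟩ := (ConcreteCategory.bijective_of_isIso (C.gammaMap.app (Opposite.op U))).2 a
      obtain ⟨b', rfl⟩ := (ConcreteCategory.bijective_of_isIso (C.gammaMap.app (Opposite.op U))).2 b
      exact congrArg _ (hc hab)
    · intro hc
      exact hc.comp (ConcreteCategory.bijective_of_isIso (C.gammaMap.app (Opposite.op U))).1
  refine ⟨⟨fun h U => (hinj U).1 ?_, fun h => ?_⟩, fun h => ?_⟩
  · intro a b hab
    rw [← sub_eq_zero]
    refine TopCat.Presheaf.section_ext C.spec.sheaf _ (a - b) 0 fun x hx => ?_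
    obtain ⟨_, ⟨V, hV, rfl⟩, hxV, hVU : V ≤ C.π ⁻¹ᵁ U⟩ :=
      C.spec.isBasis_affineOpens.exists_subset_of_mem_open hx (C.π ⁻¹ᵁ U).2
    have hz : C.spec.presheaf.map (homOfLE hVU).op (a - b) = 0 := by
      have hm : C.spec.presheaf.map (homOfLE hVU).op (a - b) ∈ g.ker.ideal ⟨V, hV⟩ := by
        rw [Scheme.Hom.ker_apply, RingHom.mem_ker]
        have := congr($(g.naturality (homOfLE hVU).op).hom (a - b))
        refine this.trans ?_
        rw [CommRingCat.comp_apply, map_sub, hab, sub_self, map_zero]
      rw [h, Scheme.IdealSheafData.ideal_bot, Pi.bot_apply, Ideal.mem_bot] at hm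
      exact hm
    show C.spec.presheaf.germ _ x hx (a - b) = C.spec.presheaf.germ _ x hx 0
    rw [← TopCat.Presheaf.germ_res_apply C.spec.presheaf (homOfLE hVU) x hxV, hz, map_zero, map_zero]
  · refine Scheme.IdealSheafData.ext_of_iSup_eq_top
      (fun U : Y.affineOpens => (⟨C.π ⁻¹ᵁ U.1, U.2.preimage C.π⟩ : C.spec.affineOpens))
      (top_le_iff.1 fun x _ => ?_) fun U => ?_
    · obtain ⟨_, ⟨V, hV, rfl⟩, hxV, -⟩ :=
        Y.isBasis_affineOpens.exists_subset_of_mem_open (Set.mem_univ (C.π.base x)) isOpen_univ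
      exact TopologicalSpace.Opens.mem_iSup.2 ⟨⟨V, hV⟩, hxV⟩
    · rw [Scheme.Hom.ker_apply, Scheme.IdealSheafData.ideal_bot, Pi.bot_apply]
      exact (RingHom.injective_iff_ker_eq_bot _).1 ((hinj U.1).2 (h U.1))
  · haveI : IsIso g.imageι := by
      haveI : IsClosedImmersion (𝟙 C.spec) := inferInstance
      exact IsClosedImmersion.isIso_iff_ker_eq_bot.2
        ((Scheme.IdealSheafData.ker_subschemeι _).trans h)
    rw [← g.toImage_imageι]
    infer_instance

end Groth.Agent.S4837
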