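import Groth.Statements.S4838
import Groth.Agent.GeomPtInt.Locus

set_option autoImplicit false
set_option backward.isDefEq.respectTransparency false
set_option backward.isDefEq.respectTransparency.types false
set_option maxHeartbeats 1000000

open CategoryTheory AlgebraicGeometry
universe u
open Cons9

namespace Groth.Agent.S4838

/-- Let f : X ⟶ S be a morphism of finite presentation (locally of finite presentation, quasi-compact
and quasi-separated). Then the set of points s of S whose fibre X_s is geometrically pointwise
integral over κ(s), i.e. such that for every extension field K of κ(s) all local rings of X_s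
⊗_{κ(s)} K are integral domains, is locally constructible in S. -/
theorem result {X S : Scheme.{u}} (f : X ⟶ S)
    [LocallyOfFinitePresentation f] [QuasiCompact f] [QuasiSeparated f] :
    Topology.IsLocallyConstructible {s : S |
      ∀ x : ↥(f.fiber s), FBase.IsGeomPtIntegralAt (f.fiberToSpecResidueField s) x} := by
  have h : {s : S | ∀ x : ↥(f.fiber s), FBase.IsGeomPtIntegralAt (f.fiberToSpecResidueField s) x} =
      (f.base '' (Groth.Agent.GeomPtInt.gpiLocus f)ᶜ)ᶜ := by
    ext s
    constructor
    · rintro h ⟨x, hx, rfl⟩
      exact hx ((Groth.Agent.GeomPtInt.isGeomPtIntegralAt_fibre_iff f x).1 (h (f.asFiber x)))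
    · intro h z
      exact (Groth.Agent.GeomPtInt.gpi_fibre_iff f s z).2
        (by_contra fun hz => h ⟨_, hz, (f.range_fiberι s).le ⟨z, rfl⟩⟩)
  rw [h]
  exact Groth.Agent.ConsTop.isLocallyConstructible_compl (f.isLocallyConstructible_image
    (Groth.Agent.ConsTop.isLocallyConstructible_compl (Groth.Agent.GeomPtInt.isLocallyConstructible_gpiLocus f)))

end Groth.Agent.S4838
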