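import Groth.Statements.S4839
import Mathlib
import Groth.Agent.FieldAmple.Basic
import Groth.Agent.S4805

set_option autoImplicit false
open CategoryTheory AlgebraicGeometry
universe u
open Cons9

open Opposite CategoryTheory.Limits
set_option linter.style.haveILetI false

namespace Groth.Agent.S4839

open CategoryTheory.Limits in
/-- Let k be a field and X, Y two schemes of finite type over k. If for some field extension K of k
there is a K-isomorphism X ⊗_k K ≅ Y ⊗_k K (X and Y are geometrically isomorphic), then there are a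
finite extension k' of k and a k'-isomorphism X ⊗_k k' ≅ Y ⊗_k k'. This is the case of the property
of being an isomorphism (base changes are the chosen fibre products with Spec of the extension). -/
theorem result {k : Type u} [Field k] {X Y : Scheme.{u}}
    (p : X ⟶ Spec (CommRingCat.of k)) (q : Y ⟶ Spec (CommRingCat.of k))
    [LocallyOfFiniteType p] [QuasiCompact p] [LocallyOfFiniteType q] [QuasiCompact q]
    (K : Type u) [Field K] [Algebra k K]
    (e : pullback p (Spec.map (CommRingCat.ofHom (algebraMap k K))) ≅ pullback q (Spec.map (CommRingCat.ofHom (algebraMap k K))))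
    (he : e.hom ≫ pullback.snd q (Spec.map (CommRingCat.ofHom (algebraMap k K))) = pullback.snd p (Spec.map (CommRingCat.ofHom (algebraMap k K)))) :
    ∃ (k' : Type u) (_ : Field k') (_ : Algebra k k') (_ : Module.Finite k k')
      (e' : pullback p (Spec.map (CommRingCat.ofHom (algebraMap k k'))) ≅ pullback q (Spec.map (CommRingCat.ofHom (algebraMap k k')))),
      e'.hom ≫ pullback.snd q (Spec.map (CommRingCat.ofHom (algebraMap k k'))) = pullback.snd p (Spec.map (CommRingCat.ofHom (algebraMap k k'))) := by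
  letI : X.Over (Spec (CommRingCat.of k)) := ⟨p⟩
  letI : Y.Over (Spec (CommRingCat.of k)) := ⟨q⟩
  let D := FieldAmple.algDiagram k K
  let c := FieldAmple.algCone k K
  have hc : IsLimit c := isLimitOfPreserves Scheme.Spec (FieldAmple.algIsColimit k K).op
  haveI : ∀ (i j : (FieldAmple.FgAlg k K)ᵒᵖ) (f : i ⟶ j), IsAffineHom (D.map f) := fun i j f =>
    isAffineHom_of_isAffine (Spec.map _)
  haveI : ∀ {i j : (FieldAmple.FgAlg k K)ᵒᵖ} (f : i ⟶ j), IsAffineHom (D.map f) := fun f =>
    isAffineHom_of_isAffine (Spec.map _)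
  let i₀ : (FieldAmple.FgAlg k K)ᵒᵖ := op ⟨⊥, Subalgebra.fg_bot⟩
  let t₀ : D.obj i₀ ⟶ Spec (CommRingCat.of k) := FieldAmple.toK k K i₀.unop
  let a₀ : pullback p t₀ ⟶ D.obj i₀ := pullback.snd p t₀
  let b₀ : pullback q t₀ ⟶ D.obj i₀ := pullback.snd q t₀
  have hX : IsPullback (FieldAmple.bcProj k K X i₀.unop)
      (pullback.snd p (Spec.map (CommRingCat.ofHom (algebraMap k K)))) a₀ (c.π.app i₀) :=
    FieldAmple.isPullback_bcProj k K X i₀.unop
  have hY : IsPullback (FieldAmple.bcProj k K Y i₀.unop)
      (pullback.snd q (Spec.map (CommRingCat.ofHom (algebraMap k K)))) b₀ (c.π.app i₀) :=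
    FieldAmple.isPullback_bcProj k K Y i₀.unop
  haveI : LocallyOfFiniteType t₀ := by
    haveI : Algebra.FiniteType k (i₀.unop.1 : Subalgebra k K) := (Subalgebra.fg_iff_finiteType _).1 i₀.unop.2
    exact (HasRingHomProperty.Spec_iff (P := @LocallyOfFiniteType)).2 (RingHom.finiteType_algebraMap.2 ‹_›)
  haveI : IsNoetherianRing (i₀.unop.1 : Subalgebra k K) :=
    haveI : Algebra.FiniteType k (i₀.unop.1 : Subalgebra k K) := (Subalgebra.fg_iff_finiteType _).1 i₀.unop.2
    Algebra.FiniteType.isNoetherianRing k _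
  haveI : IsLocallyNoetherian (D.obj i₀) :=
    inferInstanceAs (IsLocallyNoetherian (Spec (CommRingCat.of (i₀.unop.1 : Subalgebra k K))))
  haveI : CompactSpace (D.obj i₀) :=
    inferInstanceAs (CompactSpace (Spec (CommRingCat.of (i₀.unop.1 : Subalgebra k K))))
  haveI : LocallyOfFiniteType a₀ := MorphismProperty.pullback_snd (P := @LocallyOfFiniteType) _ _ inferInstance
  haveI : LocallyOfFiniteType b₀ := MorphismProperty.pullback_snd (P := @LocallyOfFiniteType) _ _ inferInstance
  haveI : QuasiCompact a₀ := MorphismProperty.pullback_snd (P := @QuasiCompact) _ _ inferInstance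
  haveI : QuasiCompact b₀ := MorphismProperty.pullback_snd (P := @QuasiCompact) _ _ inferInstance
  haveI : IsLocallyNoetherian (pullback p t₀) := LocallyOfFiniteType.isLocallyNoetherian a₀
  haveI : IsLocallyNoetherian (pullback q t₀) := LocallyOfFiniteType.isLocallyNoetherian b₀
  haveI : CompactSpace ↥(pullback p t₀) := QuasiCompact.compactSpace_of_compactSpace a₀
  haveI : LocallyOfFinitePresentation b₀ := inferInstance
  haveI : LocallyOfFinitePresentation a₀ := inferInstance
  obtain ⟨j, fj, hfj, hproj⟩ := LimMore.exists_hom D c hc a₀ b₀ hX hY e.hom he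
  -- the morphism at that stage becomes an isomorphism in the limit
  have hY' := LimDesc.isPullback_proj D b₀ c hY j
  have hX' : IsPullback (LimDesc.proj D a₀ c hX j) e.hom fj (LimDesc.proj D b₀ c hY j) := by
    refine IsPullback.of_bot ?_ hproj hY'
    rw [hfj]
    convert LimDesc.isPullback_proj D a₀ c hX j using 1
    exact he
  haveI : IsLocallyNoetherian (D.obj j.left) :=
    haveI : Algebra.FiniteType k (j.left.unop.1 : Subalgebra k K) := (Subalgebra.fg_iff_finiteType _).1 j.left.unop.2
    haveI : IsNoetherianRing (j.left.unop.1 : Subalgebra k K) := Algebra.FiniteType.isNoetherianRing k _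
    inferInstanceAs (IsLocallyNoetherian (Spec (CommRingCat.of (j.left.unop.1 : Subalgebra k K))))
  haveI : CompactSpace (D.obj j.left) :=
    inferInstanceAs (CompactSpace (Spec (CommRingCat.of (j.left.unop.1 : Subalgebra k K))))
  haveI : LocallyOfFiniteType (LimDesc.toStage D b₀ j) :=
    MorphismProperty.pullback_snd (P := @LocallyOfFiniteType) _ _ inferInstance
  haveI : QuasiCompact (LimDesc.toStage D b₀ j) :=
    MorphismProperty.pullback_snd (P := @QuasiCompact) _ _ inferInstance
  haveI : LocallyOfFiniteType (LimDesc.toStage D a₀ j) :=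
    MorphismProperty.pullback_snd (P := @LocallyOfFiniteType) _ _ inferInstance
  haveI : QuasiCompact (LimDesc.toStage D a₀ j) :=
    MorphismProperty.pullback_snd (P := @QuasiCompact) _ _ inferInstance
  haveI : IsLocallyNoetherian (LimDesc.stage D b₀ j) := LocallyOfFiniteType.isLocallyNoetherian (LimDesc.toStage D b₀ j)
  haveI : IsLocallyNoetherian (LimDesc.stage D a₀ j) := LocallyOfFiniteType.isLocallyNoetherian (LimDesc.toStage D a₀ j)
  haveI : QuasiSeparated (LimDesc.toStage D b₀ j) := inferInstance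
  haveI : LocallyOfFinitePresentation (fj ≫ LimDesc.toStage D b₀ j) := by
    rw [hfj]; infer_instance
  haveI : QuasiCompact (fj ≫ LimDesc.toStage D b₀ j) := by rw [hfj]; infer_instance
  haveI : QuasiSeparated (fj ≫ LimDesc.toStage D b₀ j) := by rw [hfj]; infer_instance
  obtain ⟨l, φ, Xl, Yl, fl, gl, pY, pX, hYl, hXl, hfl⟩ :=
    S4805.result D c hc j.left fj (LimDesc.toStage D b₀ j) e.hom _ _ _ hY' hX'
  have hw : (D.map φ ≫ D.map j.hom) ≫ t₀ = FieldAmple.toK k K l.unop := by
    rw [← D.map_comp]; exact FieldAmple.map_toK k K _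
  have hXl₁ : IsPullback pX (fl ≫ gl) (LimDesc.toStage D a₀ j) (D.map φ) := hfj ▸ hXl.paste_vert hYl
  have hXl₂ : IsPullback ((pX ≫ LimDesc.toBase D a₀ j) ≫ pullback.fst p t₀) (fl ≫ gl) p (FieldAmple.toK k K l.unop) :=
    hw ▸ (hXl₁.paste_horiz (LimDesc.isPullback_stage D a₀ j)).paste_horiz (IsPullback.of_hasPullback p t₀)
  have hYl₂ : IsPullback ((pY ≫ LimDesc.toBase D b₀ j) ≫ pullback.fst q t₀) gl q (FieldAmple.toK k K l.unop) :=
    hw ▸ (hYl.paste_horiz (LimDesc.isPullback_stage D b₀ j)).paste_horiz (IsPullback.of_hasPullback q t₀)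
  -- a closed point of the stage
  let B := l.unop.1
  haveI : Algebra.FiniteType k B := (Subalgebra.fg_iff_finiteType _).1 l.unop.2
  obtain ⟨m, hm⟩ := Ideal.exists_maximal B
  letI : Field (B ⧸ m) := Ideal.Quotient.field m
  haveI : Algebra.FiniteType k (B ⧸ m) :=
    Algebra.FiniteType.of_surjective (Ideal.Quotient.mkₐ k m) (Ideal.Quotient.mk_surjective)
  haveI : Module.Finite k (B ⧸ m) := finite_of_finite_type_of_isJacobsonRing k (B ⧸ m)
  let σ : Spec (CommRingCat.of (B ⧸ m)) ⟶ D.obj l := Spec.map (CommRingCat.ofHom (algebraMap B (B ⧸ m)))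
  have hσ : σ ≫ FieldAmple.toK k K l.unop = Spec.map (CommRingCat.ofHom (algebraMap k (B ⧸ m))) :=
    (Spec.map_comp _ _).symm
  have hX₃ := hσ ▸ (IsPullback.of_hasPullback (fl ≫ gl) σ).paste_horiz hXl₂
  have hY₃ := hσ ▸ (IsPullback.of_hasPullback gl σ).paste_horiz hYl₂
  haveI : IsIso fl := hfl
  let μ := asIso (pullback.map (fl ≫ gl) σ gl σ fl (𝟙 _) (𝟙 _) (by simp) (by simp))
  refine ⟨B ⧸ m, inferInstance, inferInstance, inferInstance, hX₃.isoPullback.symm ≪≫ μ ≪≫ hY₃.isoPullback, ?_⟩
  simp only [Iso.trans_hom, Iso.symm_hom, Category.assoc, IsPullback.isoPullback_hom_snd, μ, asIso_hom,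
    pullback.lift_snd, Category.comp_id, IsPullback.isoPullback_inv_snd]

end Groth.Agent.S4839
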