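import Groth.Statements.S4840
import Groth.Agent.ModDesc.Iso
import Groth.Agent.QC.Closure
import Groth.Agent.RelPCS.FlatBase
import Groth.Agent.ConsEngine.LimFlat
-- import your own Groth.Agent.* helpers here

set_option autoImplicit false
universe u
open CategoryTheory AlgebraicGeometry
open Lim8


namespace Groth.Agent.S4840

open CategoryTheory CategoryTheory.Limits AlgebraicGeometry

/-- Exactness of a pair after an exact functor, as two vanishing conditions. -/
lemma exact_map_iff {C D : Type*} [Category C] [Category D] [Abelian C] [Abelian D] (T : C ⥤ D)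
    [T.Additive] [PreservesFiniteLimits T] [PreservesFiniteColimits T] {A B E : C} (f : A ⟶ B) (g : B ⟶ E) :
    (∃ w : T.map f ≫ T.map g = 0, (ShortComplex.mk _ _ w).Exact) ↔
      T.map (Limits.image.ι f ≫ g) = 0 ∧ T.map (kernel.ι g ≫ cokernel.π f) = 0 := by
  have h1 : T.map f ≫ T.map g = 0 ↔ T.map (Limits.image.ι f ≫ g) = 0 := by
    rw [← T.map_comp, ← cancel_epi (T.map (Limits.factorThruImage f)) (g := T.map (Limits.image.ι f ≫ g)),
      comp_zero, ← T.map_comp, ← Category.assoc, Limits.image.fac]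
  constructor
  · rintro ⟨w, hw⟩
    refine ⟨h1.mp w, ?_⟩
    have h2 := ((ShortComplex.mk _ _ w).exact_iff_kernel_ι_comp_cokernel_π_zero).mp hw
    rw [← cancel_epi (PreservesKernel.iso T g).inv, ← cancel_mono (PreservesCokernel.iso T f).hom,
      T.map_comp, comp_zero, zero_comp, ← h2]
    simp
  · rintro ⟨ha, hb⟩
    refine ⟨h1.mpr ha, ?_⟩
    rw [ShortComplex.exact_iff_kernel_ι_comp_cokernel_π_zero]
    show kernel.ι (T.map g) ≫ cokernel.π (T.map f) = 0
    rw [← cancel_epi (PreservesKernel.iso T g).hom, comp_zero, ← Category.assoc]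
    simp only [PreservesKernel.iso_hom, kernelComparison_comp_ι]
    rw [← cancel_mono (PreservesCokernel.iso T f).inv, zero_comp, Category.assoc]
    simp only [PreservesCokernel.iso_inv, π_comp_cokernelComparison]
    rw [← T.map_comp, hb]

variable {I : Type u} [SmallCategory I] [IsCofiltered I] (D : I ⥤ Scheme.{u}) (c : Limits.Cone D)
  (hc : Limits.IsLimit c) [∀ {i j : I} (f : i ⟶ j), IsAffineHom (D.map f)] {i₀ : I}

include hc in
/-- A map with finite type image which vanishes on the limit vanishes at a stage. -/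
lemma exists_map_eq_zero_stage [CompactSpace (D.obj i₀)] [∀ (i j : I) (f : i ⟶ j), Flat (D.map f)]
    {P Q : (D.obj i₀).Modules} (hP : Coh.IsQCoh P) (hQ : Coh.IsQCoh Q) (h : P ⟶ Q)
    (hJ : CohB1.IsFT (Abelian.image h)) (h0 : (Scheme.Modules.pullback (c.π.app i₀)).map h = 0) :
    ∃ (j : I) (φ : j ⟶ i₀), (Scheme.Modules.pullback (D.map φ)).map h = 0 := by
  haveI : Coh.IsQCoh (Abelian.image h) := Groth.Agent.QC.isQCoh_image hP hQ h
  haveI : Flat (c.π.app i₀) :=
    Groth.Agent.ConsEngine.flat_π D c hc i₀ fun j φ => inferInstance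
  haveI : PreservesFiniteLimits (Scheme.Modules.pullback (c.π.app i₀)) :=
    Groth.Agent.RelPCS.preservesFiniteLimits_pullback _
  haveI : (Scheme.Modules.pullback (c.π.app i₀)).Additive :=
    (Scheme.Modules.pullbackPushforwardAdjunction (c.π.app i₀)).left_adjoint_additive
  rw [← Abelian.image.fac h, Functor.map_comp] at h0
  rw [← comp_zero (f := (Scheme.Modules.pullback (c.π.app i₀)).map (Abelian.factorThruImage h)),
    cancel_epi] at h0
  have hz : IsZero ((Scheme.Modules.pullback (c.π.app i₀)).obj (Abelian.image h)) :=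
    IsZero.of_mono_eq_zero _ h0
  haveI : Epi ((Scheme.Modules.pullback (c.π.app i₀)).map (0 : Abelian.image h ⟶ Abelian.image h)) :=
    ⟨fun a b _ => hz.eq_of_src a b⟩
  obtain ⟨j, φ, hj⟩ :=
    Groth.Agent.ModDesc.exists_epi_stage D c hc hJ (0 : Abelian.image h ⟶ Abelian.image h)
  refine ⟨j, φ, ?_⟩
  haveI : (Scheme.Modules.pullback (D.map φ)).Additive :=
    (Scheme.Modules.pullbackPushforwardAdjunction (D.map φ)).left_adjoint_additive
  rw [Functor.map_zero] at hj
  have hz' : IsZero ((Scheme.Modules.pullback (D.map φ)).obj (Abelian.image h)) := by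
    rw [IsZero.iff_id_eq_zero]
    exact (cancel_epi (0 : (Scheme.Modules.pullback (D.map φ)).obj (Abelian.image h) ⟶ _)).mp (by simp)
  rw [← Abelian.image.fac h, Functor.map_comp]
  exact (congrArg (· ≫ _) (hz'.eq_of_tgt ((Scheme.Modules.pullback (D.map φ)).map
    (Abelian.factorThruImage h)) 0)).trans zero_comp

omit [IsCofiltered I] [∀ {i j : I} (f : i ⟶ j), IsAffineHom (D.map f)] in
/-- vanishing persists to later stages -/
lemma map_eq_zero_of_le {T : Scheme.{u}} {j : I} (φ : j ⟶ i₀) (q : T ⟶ D.obj j) {r : T ⟶ D.obj i₀}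
    (w : q ≫ D.map φ = r) {P Q : (D.obj i₀).Modules} (h : P ⟶ Q)
    (h0 : (Scheme.Modules.pullback (D.map φ)).map h = 0) :
    (Scheme.Modules.pullback r).map h = 0 := by
  haveI : (Scheme.Modules.pullback q).Additive :=
    (Scheme.Modules.pullbackPushforwardAdjunction q).left_adjoint_additive
  let e := Scheme.Modules.pullbackComp q (D.map φ) ≪≫ Scheme.Modules.pullbackCongr w
  rw [← NatIso.naturality_1 e h, Functor.comp_map, h0, Functor.map_zero, zero_comp, comp_zero]

end Groth.Agent.S4840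

open CategoryTheory.Limits

namespace Groth.Agent.S4840

/-- Let S = lim S_i be a cofiltered limit of schemes whose transition maps are affine and flat, and
S_{i₀} a quasi-compact stage; let f₀ : F₀ ⟶ G₀ and g₀ : G₀ ⟶ H₀ be homomorphisms of quasi-coherent
O-modules on S_{i₀} such that the image of f₀ and the kernel of g₀ are O-modules of finite type.
Then the pulled-back sequence F ⟶ G ⟶ H on S is exact (the composite is zero and the sequence is
exact at G) if and only if, for some index j over i₀, the pulled-back sequence F_j ⟶ G_j ⟶ H_j on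
S_j is exact. -/
theorem result {I : Type u} [SmallCategory I] [IsCofiltered I]
    (D : I ⥤ Scheme.{u}) (c : Limits.Cone D) (hc : Limits.IsLimit c)
    [∀ (i j : I) (f : i ⟶ j), IsAffineHom (D.map f)] (i₀ : I) [CompactSpace (D.obj i₀)]
    [∀ (i j : I) (f : i ⟶ j), Flat (D.map f)]
    {F₀ G₀ H₀ : (D.obj i₀).Modules} [Coh.IsQCoh F₀] [Coh.IsQCoh G₀] [Coh.IsQCoh H₀]
    (f₀ : F₀ ⟶ G₀) (g₀ : G₀ ⟶ H₀)
    (hIm : CohB1.IsFT (Limits.image f₀)) (hKer : CohB1.IsFT (Limits.kernel g₀)) :
    (∃ w : (Scheme.Modules.pullback (c.π.app i₀)).map f₀ ≫ (Scheme.Modules.pullback (c.π.app i₀)).map g₀ = 0, (ShortComplex.mk _ _ w).Exact) ↔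
      ∃ (j : I) (φ : j ⟶ i₀) (w : (Scheme.Modules.pullback (D.map φ)).map f₀ ≫ (Scheme.Modules.pullback (D.map φ)).map g₀ = 0),
        (ShortComplex.mk _ _ w).Exact := by
  haveI : ∀ {i j : I} (f : i ⟶ j), IsAffineHom (D.map f) := fun {i j} f => inferInstance
  haveI hflat : Flat (c.π.app i₀) :=
    Groth.Agent.ConsEngine.flat_π D c hc i₀ fun j φ => inferInstance
  haveI hadd : ∀ (T : Scheme.{u}) (q : T ⟶ D.obj i₀), (Scheme.Modules.pullback q).Additive := fun T q =>
    (Scheme.Modules.pullbackPushforwardAdjunction q).left_adjoint_additive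
  haveI hlim : ∀ (T : Scheme.{u}) (q : T ⟶ D.obj i₀) [Flat q],
      PreservesFiniteLimits (Scheme.Modules.pullback q) := fun T q _ =>
    Groth.Agent.RelPCS.preservesFiniteLimits_pullback q
  rw [exact_map_iff]
  have hker : Coh.IsQCoh (kernel g₀) := Groth.Agent.QC.isQCoh_kernel inferInstance inferInstance g₀
  have him : Coh.IsQCoh (Limits.image f₀) :=
    Groth.Agent.QC.isQCoh_of_iso (Abelian.imageIsoImage f₀)
      (Groth.Agent.QC.isQCoh_image inferInstance inferInstance f₀)
  constructor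
  · rintro ⟨ha, hb⟩
    obtain ⟨j, φ, hj⟩ := exists_map_eq_zero_stage D c hc him inferInstance (Limits.image.ι f₀ ≫ g₀)
      (Groth.Agent.QC.isFT_of_epi (Abelian.factorThruImage _) hIm) ha
    obtain ⟨k, ψ, hk⟩ := exists_map_eq_zero_stage D c hc hker
      (Groth.Agent.QC.isQCoh_cokernel inferInstance inferInstance f₀) (kernel.ι g₀ ≫ cokernel.π f₀)
      (Groth.Agent.QC.isFT_of_epi (Abelian.factorThruImage _) hKer) hb
    obtain ⟨l, a, b, hl⟩ := IsCofiltered.cospan φ ψ
    refine ⟨l, a ≫ φ, (exact_map_iff _ f₀ g₀).mpr ⟨map_eq_zero_of_le D φ (D.map a) (D.map_comp a φ).symm _ hj,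
      map_eq_zero_of_le D ψ (D.map b) ?_ _ hk⟩⟩
    rw [hl, D.map_comp]
  · rintro ⟨j, φ, h⟩
    obtain ⟨ha, hb⟩ := (exact_map_iff _ f₀ g₀).mp h
    exact ⟨map_eq_zero_of_le D φ (c.π.app j) (c.w φ) _ ha, map_eq_zero_of_le D φ (c.π.app j) (c.w φ) _ hb⟩

end Groth.Agent.S4840
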