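import Groth.Statements.S4848
import Groth.Agent.FlatSpread.Tensor

set_option autoImplicit false
universe u
open TensorProduct
open EGA43

namespace Groth.Agent.S4848

/-- Let A₀ be a commutative ring, (A_i) a directed system of A₀-algebras with colimit A, B₀ a finitely
presented A₀-algebra and M₀ a finitely presented B₀-module. Then the A-module A ⊗_{A₀} M₀ is flat if
and only if, for some index i, the A_i-module A_i ⊗_{A₀} M₀ is flat. -/
theorem result {A₀ : Type u} [CommRing A₀]
    {ι : Type u} [Preorder ι] (G : ι → Type u) [∀ i, CommRing (G i)] [∀ i, Algebra A₀ (G i)]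
    (g : ∀ i j, i ≤ j → G i →ₐ[A₀] G j)
    (A : Type u) [CommRing A] [Algebra A₀ A] [∀ i, Algebra (G i) A] [∀ i, IsScalarTower A₀ (G i) A]
    (hcolim : FlatCA.IsDirectedColimitRing G (fun i j h => (g i j h).toRingHom) A)
    {B₀ : Type u} [CommRing B₀] [Algebra A₀ B₀] [Algebra.FinitePresentation A₀ B₀]
    (M₀ : Type u) [AddCommGroup M₀] [Module B₀ M₀] [Module A₀ M₀] [IsScalarTower A₀ B₀ M₀]
    [Module.FinitePresentation B₀ M₀] :
    Module.Flat A (A ⊗[A₀] M₀) ↔ ∃ i : ι, Module.Flat (G i) (G i ⊗[A₀] M₀) := by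
  obtain ⟨n, m, π, hπ, -, W, hW, ⟨e⟩⟩ :=
    Groth.Agent.FlatSpread.exists_presentation (R := A₀) (S := B₀) (M := M₀)
  letI : Module (MvPolynomial (Fin n) A₀) M₀ := Module.compHom M₀ π.toRingHom
  haveI : IsScalarTower A₀ (MvPolynomial (Fin n) A₀) M₀ := ⟨fun r p x => by
    change π (r • p) • x = r • π p • x
    rw [map_smul, smul_assoc]⟩
  let e₀ := e.restrictScalars A₀
  obtain ⟨hd, hne, -, -, h5, h6, h7⟩ := hcolim
  let s : Groth.Agent.FlatSpread.Sys.{u, u} (algebraMap A₀ A) :=
    { J := ι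
      G := G
      a := fun i => algebraMap A₀ (G i)
      ψ := fun i => algebraMap (G i) A
      fac := fun i => (IsScalarTower.algebraMap_eq A₀ (G i) A).symm
      nonempty := hne
      lift := fun j x => by
        obtain ⟨i, y, hy⟩ := h6 x
        obtain ⟨k, hjk, hik⟩ := hd.directed j i
        refine ⟨k, (g j k hjk).toRingHom, h5 j k hjk, RingHom.ext fun r => (g j k hjk).commutes r, g i k hik y, ?_⟩
        rw [← hy, ← h5 i k hik]
        rfl
      eq := fun j y hy => by
        obtain ⟨k, hjk, hk⟩ := h7 j y hy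
        exact ⟨k, (g j k hjk).toRingHom, h5 j k hjk, RingHom.ext fun r => (g j k hjk).commutes r, hk⟩ }
  constructor
  · intro h
    obtain ⟨k, hk⟩ := s.exists_fl_bot hW ((Groth.Agent.FlatSpread.flat_tensor_iff W e₀).1 h)
    exact ⟨k, (Groth.Agent.FlatSpread.flat_tensor_iff W e₀).2 hk⟩
  · rintro ⟨i, hi⟩
    refine (Groth.Agent.FlatSpread.flat_tensor_iff W e₀).2 ?_
    have := Groth.Agent.FlatSpread.Fl.baseChange (algebraMap (G i) A) ((Groth.Agent.FlatSpread.flat_tensor_iff W e₀).1 hi)
      (G' := (⊥ : Submonoid _)) (by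
        intro x hx
        rw [Submonoid.mem_bot] at hx ⊢
        rw [hx, map_one])
    rwa [Ideal.map_bot, Groth.Agent.FlatSpread.ext_ext, ← IsScalarTower.algebraMap_eq] at this

end Groth.Agent.S4848
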