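import Groth.Statements.S4850
import Mathlib
import Groth.Agent.InjFibre.Alg
import Groth.Agent.LocFree.Props
import Groth.Agent.FibCrit.Scheme
import Groth.Agent.KFlat.SchemeStalk

set_option autoImplicit false
universe u
open EGA43
set_option linter.style.haveILetI false

namespace Groth.Agent.S4850

theorem lTensor_injective {A M N : Type u} [CommRing A] [AddCommGroup M] [Module A M] [AddCommGroup N] [Module A N]
    (φ : M →ₗ[A] N) (hφ : Function.Injective φ) [Module.Flat A (N ⧸ LinearMap.range φ)] (X : Type u) [AddCommGroup X]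
    [Module A X] : Function.Injective (φ.lTensor X) :=
  LinearMap.lTensor_injective_of_exact_of_flat (LinearMap.range φ).mkQ (Submodule.mkQ_surjective _) φ hφ
    (LinearMap.exact_map_mkQ_range φ) X

/-- an injective map with flat cokernel is injective on fibres -/
theorem fibre_injective {A B M N : Type u} [CommRing A] [CommRing B] [Algebra A B] [AddCommGroup M] [Module A M]
    [Module B M] [IsScalarTower A B M] [AddCommGroup N] [Module A N] [Module B N] [IsScalarTower A B N]
    (φ : M →ₗ[B] N) (hφ : Function.Injective φ) [Module.Flat A (N ⧸ LinearMap.range φ)] (m : Ideal A) (z : M)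
    (hz : φ z ∈ m.map (algebraMap A B) • (⊤ : Submodule B N)) :
    z ∈ m.map (algebraMap A B) • (⊤ : Submodule B M) := by
  have hJ : ∀ (V : Type u) [AddCommGroup V] [Module A V] [Module B V] [IsScalarTower A B V] (v : V),
      v ∈ m.map (algebraMap A B) • (⊤ : Submodule B V) ↔ v ∈ m • (⊤ : Submodule A V) := by
    intro V _ _ _ _ v
    rw [show m • (⊤ : Submodule A V) = (m.map (algebraMap A B) • (⊤ : Submodule B V)).restrictScalars A by
      rw [Ideal.smul_restrictScalars, Submodule.restrictScalars_top], Submodule.restrictScalars_mem]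
  rw [hJ] at hz ⊢
  let φA : M →ₗ[A] N := φ.restrictScalars A
  haveI : Module.Flat A (N ⧸ LinearMap.range φA) :=
    Module.Flat.of_linearEquiv ((Submodule.quotEquivOfEq _ _ (SetLike.ext' rfl :
      LinearMap.range φA = (LinearMap.range φ).restrictScalars A)) ≪≫ₗ Submodule.Quotient.restrictScalarsEquiv A (LinearMap.range φ))
  have h1 : Function.Injective (φA.lTensor (A ⧸ m)) := lTensor_injective φA hφ (A ⧸ m)
  exact (LocalCrit.quot_lTensor_injective_iff m φA).1 h1 z hz

open AlgebraicGeometry CategoryTheory Limits in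
/-- Equivalence of a: and b)): let f : X ⟶ Y be locally of finite presentation, F and F' quasi-coherent
O_X-modules of finite presentation, u : F' ⟶ F a homomorphism and x a point with y = f x, such that
F is f-flat at x. Then the stalk map u_x is injective and Coker u is f-flat at x, if and only if u_x
induces an injective map F'_x / m_y F'_x → F_x / m_y F_x. The second condition is written out: an
element of F'_x whose image under u_x lies in m_y F_x already lies in m_y F'_x. (The vanishing of
the stalk (Ker u)_x is expressed as injectivity of u_x.) -/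
theorem result {X Y : Scheme.{u}} (f : X ⟶ Y)
    [LocallyOfFinitePresentation f] (F F' : X.Modules) [Coh.IsQCoh F] [Coh.IsQCoh F']
    (hF : CohB1.IsFP F) (hF' : CohB1.IsFP F') (u : F' ⟶ F) (x : X) (hflat : FlatMod.IsFlatOverAt f F x) :
    letI J : Ideal ↑(X.presheaf.stalk x) :=
      Ideal.map (f.stalkMap x).hom (IsLocalRing.maximalIdeal ↑(Y.presheaf.stalk (f x)))
    letI ux := (TopCat.Presheaf.stalkFunctor Ab x).map (Scheme.Modules.Hom.mapPresheaf u)
    (Function.Injective ux ∧ FlatMod.IsFlatOverAt f (cokernel u) x) ↔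
      ∀ m : ↑(F'.presheaf.stalk x),
        ux m ∈ (J • (⊤ : Submodule ↑(X.presheaf.stalk x) ↑(F.presheaf.stalk x))) →
          m ∈ (J • (⊤ : Submodule ↑(X.presheaf.stalk x) ↑(F'.presheaf.stalk x))) := by
  let A := ↑(Y.presheaf.stalk (f x))
  let B := ↑(X.presheaf.stalk x)
  let N := ↑(F.presheaf.stalk x)
  let M := ↑(F'.presheaf.stalk x)
  letI : Algebra A B := (f.stalkMap x).hom.toAlgebra
  letI : Module A N := FlatMod.moduleStalkOver f F x
  haveI : IsScalarTower A B N := IsScalarTower.of_algebraMap_smul fun a m => rfl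
  letI : Module A M := FlatMod.moduleStalkOver f F' x
  haveI : IsScalarTower A B M := IsScalarTower.of_algebraMap_smul fun a m => rfl
  haveI : Module.Flat A N := hflat
  let φ : M →ₗ[B] N := Algz.stalkMapₗ u x
  let T := DerSch.stalkFunctor X x
  let eC : ↑((cokernel u).presheaf.stalk x) ≃ₗ[B] N ⧸ LinearMap.range φ :=
    (PreservesCokernel.iso T u ≪≫ ModuleCat.cokernelIsoRangeQuotient (T.map u)).toLinearEquiv
  letI : Module A ↑((cokernel u).presheaf.stalk x) := FlatMod.moduleStalkOver f (cokernel u) x
  haveI : IsScalarTower A B ↑((cokernel u).presheaf.stalk x) := IsScalarTower.of_algebraMap_smul fun a m => rfl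
  have hC : FlatMod.IsFlatOverAt f (cokernel u) x ↔ Module.Flat A (N ⧸ LinearMap.range φ) :=
    ⟨fun h => haveI : Module.Flat A ↑((cokernel u).presheaf.stalk x) := h
      Module.Flat.of_linearEquiv (eC.restrictScalars A).symm,
     fun h => Module.Flat.of_linearEquiv (eC.restrictScalars A)⟩
  let m := IsLocalRing.maximalIdeal A
  let J : Ideal B := m.map (algebraMap A B)
  show (Function.Injective φ ∧ _) ↔ ∀ z : M, φ z ∈ J • (⊤ : Submodule B N) → z ∈ J • (⊤ : Submodule B M)
  rw [hC]
  constructor
  · rintro ⟨hinj, hfl⟩ z hz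
    haveI := hfl
    exact fibre_injective φ hinj m z hz
  · intro h
    obtain ⟨V, hV, hyV, -⟩ := exists_isAffineOpen_mem_and_subset (X := Y) (x := f x) (U := ⊤) trivial
    obtain ⟨W, hW, hxW, hWV⟩ := exists_isAffineOpen_mem_and_subset (X := X) (x := x) (U := f ⁻¹ᵁ V) hyV
    letI : Algebra Γ(Y, V) Γ(X, W) := (f.appLE V W hWV).hom.toAlgebra
    haveI : Algebra.FinitePresentation Γ(Y, V) Γ(X, W) := f.finitePresentation_appLE hV hW hWV
    let q := (hW.primeIdealOf ⟨x, hxW⟩).asIdeal
    have hqR : q.comap (algebraMap Γ(Y, V) Γ(X, W)) = (hV.primeIdealOf ⟨f x, hWV hxW⟩).asIdeal :=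
      congrArg PrimeSpectrum.asIdeal (IsAffineOpen.comap_primeIdealOf_appLE V hV W hW hWV hxW)
    letI := TopCat.Presheaf.algebra_section_stalk Y.presheaf (⟨f x, hWV hxW⟩ : V)
    letI := TopCat.Presheaf.algebra_section_stalk X.presheaf (⟨x, hxW⟩ : W)
    haveI : IsLocalization.AtPrime A (q.comap (algebraMap Γ(Y, V) Γ(X, W))) := by
      simp only [hqR]; exact hV.isLocalization_stalk ⟨f x, hWV hxW⟩
    haveI : IsLocalization.AtPrime B q := hW.isLocalization_stalk ⟨x, hxW⟩
    letI : Algebra Γ(Y, V) B := ((algebraMap Γ(X, W) B).comp (algebraMap Γ(Y, V) Γ(X, W))).toAlgebra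
    haveI : IsScalarTower Γ(Y, V) Γ(X, W) B := IsScalarTower.of_algebraMap_eq fun _ => rfl
    haveI : IsScalarTower Γ(Y, V) A B :=
      IsScalarTower.of_algebraMap_eq fun a => (FibCrit.germ_comm f V W hWV x hxW a).symm
    have fp : ∀ (G : X.Modules), Coh.IsQCoh G → CohB1.IsFP G → Module.FinitePresentation B ↑(G.presheaf.stalk x) := by
      intro G hq hfp
      haveI := LocFree.finitePresentation_sections_of_isFP hq hfp hW
      letI := Module.compHom ↑(G.presheaf.stalk x) (X.presheaf.germ W x hxW).hom
      haveI : IsScalarTower Γ(X, W) B ↑(G.presheaf.stalk x) :=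
        ⟨fun a c m => mul_smul ((X.presheaf.germ W x hxW).hom a) c m⟩
      obtain ⟨γ, hγ⟩ := LocFree.exists_stalkMap hW hq hxW
      exact FinitePresentation.of_isBaseChange γ ((isLocalizedModule_iff_isBaseChange q.primeCompl B γ).mp hγ)
    haveI := fp F inferInstance hF
    haveI := fp F' inferInstance hF'
    letI : Module Γ(Y, V) N := Module.compHom N (algebraMap Γ(Y, V) B)
    haveI : IsScalarTower Γ(Y, V) B N := IsScalarTower.of_algebraMap_smul fun _ _ => rfl
    haveI : IsScalarTower Γ(Y, V) A N := IsScalarTower.of_algebraMap_smul fun a z => by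
      rw [← algebraMap_smul B (algebraMap Γ(Y, V) A a) z, ← IsScalarTower.algebraMap_apply, algebraMap_smul]
    haveI : Module.Flat Γ(Y, V) A := IsLocalization.flat A (q.comap (algebraMap Γ(Y, V) Γ(X, W))).primeCompl
    haveI : Module.Flat Γ(Y, V) N := Module.Flat.trans Γ(Y, V) A N
    have hJeq : (q.comap (algebraMap Γ(Y, V) Γ(X, W))).map (algebraMap Γ(Y, V) B) = J := by
      simp only [J, m]
      rw [IsScalarTower.algebraMap_eq Γ(Y, V) A B, ← Ideal.map_map,
        IsLocalization.AtPrime.map_eq_maximalIdeal (q.comap (algebraMap Γ(Y, V) Γ(X, W))) A]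
    obtain ⟨h1, h2⟩ := InjFibre.atPrime (R := Γ(Y, V)) q φ (fun z hz => by rw [hJeq] at hz ⊢; exact h z hz)
    haveI := h2
    exact ⟨h1, (Module.flat_iff_of_isLocalization A (q.comap (algebraMap Γ(Y, V) Γ(X, W))).primeCompl _).2 h2⟩

end Groth.Agent.S4850
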