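import Groth.Statements.S4851
import Mathlib
import Groth.Agent.InjFibre.Stalk
import Groth.Agent.FlatRes.Basic
import Groth.Agent.KFlat.SchemeStalk

set_option autoImplicit false
universe u
open EGA43

namespace Groth.Agent.S4851

set_option linter.style.haveILetI false

theorem fg_ker_of_flat {A B M N C : Type u} [CommRing A] [CommRing B] [Algebra A B] [Algebra.FinitePresentation A B]
    [AddCommGroup M] [Module B M] [Module.Finite B M] [AddCommGroup N] [Module B N] [Module.FinitePresentation B N]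
    [AddCommGroup C] [Module B C] [Module A C] [IsScalarTower A B C] [Module.FinitePresentation B C] [Module.Flat A C]
    (φ : M →ₗ[B] N) (π : N →ₗ[B] C) (hπ : Function.Surjective π) (hex : Function.Exact φ π) :
    (LinearMap.ker φ).FG := by
  obtain ⟨n, p, hp⟩ := Module.Finite.exists_fin' B N
  haveI := FlatRes.finitePresentation_ker (A := A) (π ∘ₗ p) (hπ.comp hp)
  let k : LinearMap.ker (π ∘ₗ p) →ₗ[B] LinearMap.range φ :=
    (p ∘ₗ (LinearMap.ker (π ∘ₗ p)).subtype).codRestrict _ fun z =>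
      (hex (p z.1)).1 z.2
  have hk : Function.Surjective k := by
    rintro ⟨y, hy⟩
    obtain ⟨z, rfl⟩ := hp y
    exact ⟨⟨z, (hex (p z)).2 hy⟩, rfl⟩
  haveI : Module.FinitePresentation B (LinearMap.range φ) := by
    refine Module.finitePresentation_of_surjective k hk (Submodule.fg_of_fg_map_injective
      (LinearMap.ker (π ∘ₗ p)).subtype (Submodule.injective_subtype _) ?_)
    have : (LinearMap.ker k).map (LinearMap.ker (π ∘ₗ p)).subtype = LinearMap.ker p := by
      ext z
      simp only [Submodule.mem_map, LinearMap.mem_ker, Submodule.subtype_apply]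
      refine ⟨?_, fun hz => ⟨⟨z, by simp [hz]⟩, Subtype.ext hz, rfl⟩⟩
      rintro ⟨⟨w, hw⟩, hw', rfl⟩
      exact congrArg Subtype.val hw'
    rw [this]
    exact Module.FinitePresentation.fg_ker p hp
  rw [← LinearMap.ker_rangeRestrict]
  exact Module.FinitePresentation.fg_ker φ.rangeRestrict φ.surjective_rangeRestrict

theorem isOpen_inj_flat {R S M N : Type u} [CommRing R] [CommRing S] [Algebra R S] [Algebra.FinitePresentation R S]
    [AddCommGroup M] [Module S M] [Module.FinitePresentation S M] [AddCommGroup N] [Module S N] [Module R N]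
    [IsScalarTower R S N] [Module.FinitePresentation S N] (φ : M →ₗ[S] N) :
    IsOpen {q : PrimeSpectrum S | (∀ m, (∃ a ∉ q.asIdeal, a • φ m = 0) → ∃ a ∉ q.asIdeal, a • m = 0) ∧
      Module.Flat R (LocalizedModule q.asIdeal.primeCompl (N ⧸ LinearMap.range φ))} := by
  haveI : Module.FinitePresentation S (N ⧸ LinearMap.range φ) :=
    Module.finitePresentation_of_surjective (LinearMap.range φ).mkQ (Submodule.mkQ_surjective _)
      (by rw [Submodule.ker_mkQ]; exact Module.Finite.iff_fg.1 inferInstance)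
  rw [isOpen_iff_forall_mem_open]
  rintro q ⟨hinj, hfl⟩
  have hU := FlatSpread.isOpen_flatLocus (R := R) (S := S) (M := N ⧸ LinearMap.range φ)
  obtain ⟨_, ⟨g, rfl⟩, hqg, hgU⟩ :=
    PrimeSpectrum.isTopologicalBasis_basic_opens.exists_subset_of_mem_open
      (show q ∈ {q : PrimeSpectrum S | Module.Flat R (LocalizedModule q.asIdeal.primeCompl (N ⧸ LinearMap.range φ))}
        from hfl) hU
  let G := Submonoid.powers g
  haveI : Module.Flat R (LocalizedModule G (N ⧸ LinearMap.range φ)) :=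
    (InjFibre.flat_localized_comap_iff (B := S) (C := S) G).2 fun r hr =>
      hgU (hr g (Submonoid.mem_powers g))
  haveI : Algebra.FinitePresentation S (Localization G) := IsLocalization.Away.finitePresentation g
  haveI : Algebra.FinitePresentation R (Localization G) := Algebra.FinitePresentation.trans R S (Localization G)
  obtain ⟨t, ht⟩ := fg_ker_of_flat (A := R) (LocalizedModule.map G φ)
    (LocalizedModule.map G (LinearMap.range φ).mkQ)
    (IsLocalizedModule.map_surjective G (LocalizedModule.mkLinearMap G N) (LocalizedModule.mkLinearMap G _) _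
      (Submodule.mkQ_surjective _))
    (LocalizedModule.map_exact G φ (LinearMap.range φ).mkQ (LinearMap.exact_map_mkQ_range φ))
  have hkill : ∀ z ∈ t, ∃ a : S, a ∉ q.asIdeal ∧ (a • z : LocalizedModule G M) = 0 := by
    intro z hz
    have hz0 : LocalizedModule.map G φ z = 0 := LinearMap.mem_ker.1 (ht ▸ Submodule.subset_span hz)
    obtain ⟨⟨m, s⟩, rfl⟩ : ∃ p : M × G, LocalizedModule.mk p.1 p.2 = z := by
      induction z using LocalizedModule.induction_on with
      | h m s => exact ⟨⟨m, s⟩, rfl⟩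
    rw [LocalizedModule.map_mk, ← LocalizedModule.zero_mk (1 : G), LocalizedModule.mk_eq] at hz0
    obtain ⟨⟨_, n, rfl⟩, hn⟩ := hz0
    obtain ⟨a, ha, hm⟩ := hinj m ⟨g ^ n, fun h => hqg (q.2.mem_of_pow_mem n h), by
      simpa [Submonoid.smul_def] using hn⟩
    exact ⟨a, ha, by rw [LocalizedModule.smul'_mk, hm, LocalizedModule.zero_mk]⟩
  choose! a ha hat using hkill
  classical
  let h := ∏ z ∈ t, a z
  have hh : h ∉ q.asIdeal := fun hm => by
    obtain ⟨z, hz, hza⟩ := (q.2.prod_mem_iff).1 hm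
    exact ha z hz hza
  have hker : ∀ z ∈ LinearMap.ker (LocalizedModule.map G φ), h • z = 0 := by
    intro z hz
    rw [← ht] at hz
    induction hz using Submodule.span_induction with
    | mem z hz =>
      obtain ⟨c, hc⟩ := Finset.dvd_prod_of_mem a hz
      change (∏ z ∈ t, a z) • z = 0
      rw [hc, mul_comm, mul_smul, hat z hz, smul_zero]
    | zero => exact smul_zero _
    | add x y _ _ hx hy => rw [smul_add, hx, hy, add_zero]
    | smul c x _ hx => rw [smul_comm, hx, smul_zero]
  refine ⟨(PrimeSpectrum.basicOpen g : Set (PrimeSpectrum S)) ∩ PrimeSpectrum.basicOpen h, ?_,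
    PrimeSpectrum.isOpen_basicOpen.inter PrimeSpectrum.isOpen_basicOpen, hqg, hh⟩
  rintro q' ⟨hg', hh'⟩
  refine ⟨?_, hgU hg'⟩
  rintro m ⟨c, hc, hcm⟩
  have h1 : h • LocalizedModule.mk (c • m) (1 : G) = 0 :=
    hker _ (LinearMap.mem_ker.2 (by rw [LocalizedModule.map_mk, map_smul, hcm, LocalizedModule.zero_mk]))
  rw [LocalizedModule.smul'_mk, ← LocalizedModule.zero_mk (1 : G), LocalizedModule.mk_eq] at h1
  obtain ⟨⟨_, n, rfl⟩, hn⟩ := h1
  refine ⟨g ^ n * h * c, fun hm => ?_, ?_⟩
  · rcases q'.2.mem_or_mem hm with h2 | h2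
    · rcases q'.2.mem_or_mem h2 with h3 | h3
      · exact hg' (q'.2.mem_of_pow_mem n h3)
      · exact hh' h3
    · exact hc h2
  · rw [mul_smul, mul_smul]
    simpa [Submonoid.smul_def] using hn

open AlgebraicGeometry CategoryTheory Limits in
theorem stalk_iff {X Y : Scheme.{u}} (f : X ⟶ Y) {F F' : X.Modules} [Coh.IsQCoh F] [Coh.IsQCoh F'] (u : F' ⟶ F)
    {V : Y.Opens} (hV : IsAffineOpen V) {W : X.Opens} (hW : IsAffineOpen W) (e : W ≤ f ⁻¹ᵁ V)
    (φ : Γ(F', W) →ₗ[Γ(X, W)] Γ(F, W)) (hφ : ∀ s, φ s = u.app W s) (x : X) (hx : x ∈ W) :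
    letI : Algebra Γ(Y, V) Γ(X, W) := (f.appLE V W e).hom.toAlgebra
    letI : Module Γ(Y, V) Γ(F, W) := Module.compHom Γ(F, W) (f.appLE V W e).hom
    haveI : IsScalarTower Γ(Y, V) Γ(X, W) Γ(F, W) := IsScalarTower.of_algebraMap_smul fun _ _ => rfl
    (Function.Injective ((TopCat.Presheaf.stalkFunctor Ab x).map (Scheme.Modules.Hom.mapPresheaf u)) ∧
      FlatMod.IsFlatOverAt f (cokernel u) x) ↔
    ((∀ m, (∃ a ∉ (hW.primeIdealOf ⟨x, hx⟩).asIdeal, a • φ m = 0) →
        ∃ a ∉ (hW.primeIdealOf ⟨x, hx⟩).asIdeal, a • m = 0) ∧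
      Module.Flat Γ(Y, V) (LocalizedModule (hW.primeIdealOf ⟨x, hx⟩).asIdeal.primeCompl (Γ(F, W) ⧸ LinearMap.range φ))) := by
  letI : Algebra Γ(Y, V) Γ(X, W) := (f.appLE V W e).hom.toAlgebra
  letI : Module Γ(Y, V) Γ(F, W) := Module.compHom Γ(F, W) (f.appLE V W e).hom
  haveI : IsScalarTower Γ(Y, V) Γ(X, W) Γ(F, W) := IsScalarTower.of_algebraMap_smul fun _ _ => rfl
  let A := ↑(Y.presheaf.stalk (f x))
  let B := ↑(X.presheaf.stalk x)
  let N := ↑(F.presheaf.stalk x)
  let M := ↑(F'.presheaf.stalk x)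
  let ψ : M →ₗ[B] N := Algz.stalkMapₗ u x
  let q := (hW.primeIdealOf ⟨x, hx⟩).asIdeal
  letI := TopCat.Presheaf.algebra_section_stalk Y.presheaf (⟨f x, e hx⟩ : V)
  letI := TopCat.Presheaf.algebra_section_stalk X.presheaf (⟨x, hx⟩ : W)
  haveI hlocA : IsLocalization.AtPrime A (hV.primeIdealOf ⟨f x, e hx⟩).asIdeal :=
    hV.isLocalization_stalk ⟨f x, e hx⟩
  have hlF := QC.isLoc_of_isQCoh hW (hM := (inferInstance : Coh.IsQCoh F))
  have hlF' := QC.isLoc_of_isQCoh hW (hM := (inferInstance : Coh.IsQCoh F'))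
  have hg : ∀ s, ψ (WeakAssLib.mgerm F' hx s) = WeakAssLib.mgerm F hx (φ s) := fun s => by
    rw [hφ]
    exact TopCat.Presheaf.stalkFunctor_map_germ_apply W x hx (Scheme.Modules.Hom.mapPresheaf u) s
  have hunit : ∀ a, a ∉ q → IsUnit ((X.presheaf.germ W x hx).hom a) := fun a ha =>
    WeakAssLib.isUnit_germ hW hx ha
  refine and_congr ?_ ?_
  · change Function.Injective ψ ↔ _
    constructor
    · rintro h m ⟨a, ha, ham⟩
      refine (WeakAssLib.germ_eq_zero_iff hW hlF' hx m).1 (h ?_)
      rw [hg, map_zero]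
      exact (WeakAssLib.germ_eq_zero_iff hW hlF hx _).2 ⟨a, ha, ham⟩
    · intro h
      rw [injective_iff_map_eq_zero]
      intro z hz
      obtain ⟨a, s, ha, has⟩ := WeakAssLib.exists_germ hW hlF' hx z
      have h1 : WeakAssLib.mgerm F hx (φ s) = 0 := by rw [← hg, ← has, map_smul, hz, smul_zero]
      obtain ⟨b, hb, hbs⟩ := h s ((WeakAssLib.germ_eq_zero_iff hW hlF hx _).1 h1)
      have h2 : WeakAssLib.mgerm F' hx s = 0 := (WeakAssLib.germ_eq_zero_iff hW hlF' hx s).2 ⟨b, hb, hbs⟩
      rw [← has] at h2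
      exact (hunit a ha).smul_left_cancel.1 (h2.trans (smul_zero _).symm)
  · let C := ↑((cokernel u).presheaf.stalk x)
    let eC : C ≃ₗ[B] N ⧸ LinearMap.range ψ :=
      (PreservesCokernel.iso (DerSch.stalkFunctor X x) u ≪≫
        ModuleCat.cokernelIsoRangeQuotient ((DerSch.stalkFunctor X x).map u)).toLinearEquiv
    letI : Algebra A B := (f.stalkMap x).hom.toAlgebra
    letI : Module A C := FlatMod.moduleStalkOver f (cokernel u) x
    haveI : IsScalarTower A B C := IsScalarTower.of_algebraMap_smul fun a m => rfl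
    letI : Algebra Γ(Y, V) B := ((algebraMap Γ(X, W) B).comp (algebraMap Γ(Y, V) Γ(X, W))).toAlgebra
    haveI : IsScalarTower Γ(Y, V) A B :=
      IsScalarTower.of_algebraMap_eq fun a => (FibCrit.germ_comm f V W e x hx a).symm
    letI : Module Γ(X, W) C := Module.compHom C (X.presheaf.germ W x hx).hom
    letI : Module Γ(Y, V) C := Module.compHom C (algebraMap Γ(Y, V) B)
    haveI : IsScalarTower Γ(Y, V) B C := IsScalarTower.of_algebraMap_smul fun _ _ => rfl
    haveI : IsScalarTower Γ(Y, V) A C := IsScalarTower.of_algebraMap_smul fun a z => by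
      rw [← algebraMap_smul B (algebraMap Γ(Y, V) A a) z, ← IsScalarTower.algebraMap_apply, algebraMap_smul]
    haveI : IsScalarTower Γ(Y, V) Γ(X, W) C := IsScalarTower.of_algebraMap_smul fun _ _ => rfl
    have hk : ∀ s, (LinearMap.range ψ).mkQ (WeakAssLib.mgerm F hx (φ s)) = 0 := fun s => by
      rw [← hg]; exact (Submodule.Quotient.mk_eq_zero _).2 ⟨_, rfl⟩
    let k₀ : Γ(F, W) →ₗ[Γ(X, W)] C :=
      { toFun := fun s => eC.symm ((LinearMap.range ψ).mkQ (WeakAssLib.mgerm F hx s))
        map_add' := fun a b => by simp only [map_add]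
        map_smul' := fun a s => by
          rw [WeakAssLib.mgerm_smul, map_smul, map_smul]; rfl }
    let k : (Γ(F, W) ⧸ LinearMap.range φ) →ₗ[Γ(X, W)] C := (LinearMap.range φ).liftQ k₀ (by
      rintro _ ⟨s, rfl⟩
      change eC.symm _ = 0
      rw [hk, map_zero])
    haveI : IsLocalizedModule q.primeCompl k := by
      refine ⟨fun a => ?_, fun z => ?_, fun {s s'} hs => ?_⟩
      · rw [Module.End.isUnit_iff]
        exact (hunit a a.2).smul_bijective
      · obtain ⟨w, hw⟩ := Submodule.mkQ_surjective _ (eC z)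
        obtain ⟨a, s, ha, has⟩ := WeakAssLib.exists_germ hW hlF hx w
        refine ⟨(Submodule.Quotient.mk s, ⟨a, ha⟩), ?_⟩
        change (X.presheaf.germ W x hx).hom a • z = eC.symm ((LinearMap.range ψ).mkQ (WeakAssLib.mgerm F hx s))
        rw [← has, map_smul, hw, map_smul, LinearEquiv.symm_apply_apply]
      · obtain ⟨s, rfl⟩ := Submodule.mkQ_surjective _ s
        obtain ⟨s', rfl⟩ := Submodule.mkQ_surjective _ s'
        have h1 := eC.symm.injective hs
        obtain ⟨w, hw⟩ := (Submodule.Quotient.eq _).1 h1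
        obtain ⟨a, m, ha, ham⟩ := WeakAssLib.exists_germ hW hlF' hx w
        have h2 : WeakAssLib.mgerm F hx (a • (s - s') - φ m) = 0 := by
          rw [map_sub, WeakAssLib.mgerm_smul, map_sub, ← hw, ← hg, ← ham, map_smul, sub_self]
        obtain ⟨b, hb, hbs⟩ := (WeakAssLib.germ_eq_zero_iff hW hlF hx _).1 h2
        refine ⟨⟨b * a, q.primeCompl.mul_mem hb ha⟩, ?_⟩
        change (b * a) • (LinearMap.range φ).mkQ s = (b * a) • (LinearMap.range φ).mkQ s'
        rw [← map_smul, ← map_smul]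
        refine (Submodule.Quotient.eq _).2 ⟨b • m, ?_⟩
        rw [smul_sub, sub_eq_zero] at hbs
        rw [map_smul, ← hbs, mul_smul, mul_smul, ← smul_sub, ← smul_sub]
    let e' : LocalizedModule q.primeCompl (Γ(F, W) ⧸ LinearMap.range φ) ≃ₗ[Γ(Y, V)] C :=
      (IsLocalizedModule.iso q.primeCompl k).restrictScalars Γ(Y, V)
    change Module.Flat A C ↔ _
    rw [Module.flat_iff_of_isLocalization A (hV.primeIdealOf ⟨f x, e hx⟩).asIdeal.primeCompl C]
    exact ⟨fun h => haveI := h; Module.Flat.of_linearEquiv e', fun h => haveI := h; Module.Flat.of_linearEquiv e'.symm⟩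

open AlgebraicGeometry CategoryTheory Limits in
/-- Let f : X ⟶ Y be locally of finite presentation, F and F' quasi-coherent O_X-modules of finite
presentation and u : F' ⟶ F a homomorphism. Then the set of points x of X at which the stalk map u_x
is injective and Coker u is f-flat at x is open in X. (No flatness hypothesis on F is made; the form
of this openness statement in which F is moreover assumed f-flat is a special case.) -/
theorem result {X Y : Scheme.{u}} (f : X ⟶ Y)
    [LocallyOfFinitePresentation f] (F F' : X.Modules) [Coh.IsQCoh F] [Coh.IsQCoh F']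
    (hF : CohB1.IsFP F) (hF' : CohB1.IsFP F') (u : F' ⟶ F) :
    IsOpen {x : X | Function.Injective ((TopCat.Presheaf.stalkFunctor Ab x).map (Scheme.Modules.Hom.mapPresheaf u)) ∧
      FlatMod.IsFlatOverAt f (cokernel u) x} := by
  rw [isOpen_iff_forall_mem_open]
  intro x hx
  obtain ⟨V, hV, hyV, -⟩ := exists_isAffineOpen_mem_and_subset (X := Y) (x := f x) (U := ⊤) trivial
  obtain ⟨W, hW, hxW, hWV⟩ := exists_isAffineOpen_mem_and_subset (X := X) (x := x) (U := f ⁻¹ᵁ V) hyV
  letI : Algebra Γ(Y, V) Γ(X, W) := (f.appLE V W hWV).hom.toAlgebra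
  haveI : Algebra.FinitePresentation Γ(Y, V) Γ(X, W) := f.finitePresentation_appLE hV hW hWV
  letI : Module Γ(Y, V) Γ(F, W) := Module.compHom Γ(F, W) (f.appLE V W hWV).hom
  haveI : IsScalarTower Γ(Y, V) Γ(X, W) Γ(F, W) := IsScalarTower.of_algebraMap_smul fun _ _ => rfl
  haveI := LocFree.finitePresentation_sections_of_isFP (inferInstance : Coh.IsQCoh F) hF hW
  haveI := LocFree.finitePresentation_sections_of_isFP (inferInstance : Coh.IsQCoh F') hF' hW
  let φ : Γ(F', W) →ₗ[Γ(X, W)] Γ(F, W) :=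
    { toFun := fun s => u.app W s
      map_add' := map_add _
      map_smul' := fun a s => Scheme.Modules.Hom.app_smul u a s }
  have hO := isOpen_inj_flat (R := Γ(Y, V)) φ
  refine ⟨hW.fromSpec '' _, ?_, hW.fromSpec.isOpenEmbedding.isOpenMap _ hO,
    hW.primeIdealOf ⟨x, hxW⟩, (stalk_iff f u hV hW hWV φ (fun _ => rfl) x hxW).1 hx, hW.fromSpec_primeIdealOf _⟩
  rintro _ ⟨q, hqf, rfl⟩
  obtain ⟨h, hh⟩ := InjFibre.primeIdealOf_fromSpec hW q
  exact (stalk_iff f u hV hW hWV φ (fun _ => rfl) _ h).2 (by rw [hh]; exact hqf)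

end Groth.Agent.S4851
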