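import Groth.Statements.S4852
import Mathlib

set_option autoImplicit false
universe u
open TensorProduct
open EGA43

namespace Groth.Agent.S4852

theorem free_of_forall_flat {A : Type u} [CommRing A] [IsLocalRing A]
    (hnil : IsNilpotent (IsLocalRing.maximalIdeal A))
    {ι : Type u} (B : ι → Type u) [∀ i, CommRing (B i)] [∀ i, Algebra A (B i)]
    (hB : ∀ a : A, (∀ i, algebraMap A (B i) a = 0) → a = 0)
    (M : Type u) [AddCommGroup M] [Module A M] (hM : ∀ i, Module.Flat (B i) (B i ⊗[A] M)) :
    Module.Free A M := by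
  classical
  obtain ⟨n, hn⟩ := hnil
  let k := IsLocalRing.ResidueField A
  let b := Module.Free.chooseBasis k (k ⊗[A] M)
  have hs : Function.Surjective (TensorProduct.mk A k M 1) :=
    TensorProduct.mk_surjective A M k Ideal.Quotient.mk_surjective
  choose v hv using fun i => hs (b i)
  have hspan : ⊤ ≤ Submodule.span A (Set.range v) := by
    have key : Submodule.span A (Set.range v) ⊔ IsLocalRing.maximalIdeal A • ⊤ = ⊤ := by
      refine top_le_iff.mp fun m _ => ?_
      have h1 : (Submodule.span A (Set.range v)).map (TensorProduct.mk A k M 1) = ⊤ := by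
        rw [Submodule.map_span, ← Set.range_comp, show TensorProduct.mk A k M 1 ∘ v = b from funext hv,
          ← Submodule.restrictScalars_span A k Ideal.Quotient.mk_surjective, b.span_eq,
          Submodule.restrictScalars_top]
      obtain ⟨x, hx, hxm⟩ := h1.ge (Submodule.mem_top (x := TensorProduct.mk A k M 1 m))
      have hk : m - x ∈ LinearMap.ker (TensorProduct.mk A k M 1) := by simp [map_sub, hxm]
      have hk' : m - x ∈ (IsLocalRing.maximalIdeal A • ⊤ : Submodule A M) := by
        rw [← LinearMap.ker_tensorProductMk]; exact hk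
      simpa using Submodule.add_mem_sup hx hk'
    have : ∀ j : ℕ, Submodule.span A (Set.range v) ⊔ (IsLocalRing.maximalIdeal A ^ j) • (⊤ : Submodule A M) = ⊤ := by
      intro j
      induction j with
      | zero => simp
      | succ j ih =>
        refine top_le_iff.mp ?_
        conv_lhs => rw [← key, ← ih]
        refine sup_le le_sup_left ?_
        rw [Submodule.smul_sup, ← Submodule.smul_assoc, smul_eq_mul, ← pow_succ']
        exact sup_le (le_sup_of_le_left Submodule.smul_le_right) le_sup_right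
    rw [← this n, hn, Ideal.zero_eq_bot, Submodule.bot_smul, sup_bot_eq]
  refine Module.Free.of_basis (Module.Basis.mk ?_ hspan)
  rw [linearIndependent_iff']
  intro s f hf l hl
  refine hB _ fun i => ?_
  haveI := hM i
  let J : Ideal (B i) := (IsLocalRing.maximalIdeal A).map (algebraMap A (B i))
  have hJ : J ^ n = ⊥ := by
    rw [← Ideal.map_pow, hn]; simp
  let φA : k →ₗ[A] B i ⧸ J :=
    Submodule.liftQ (IsLocalRing.maximalIdeal A)
      ((Ideal.Quotient.mkₐ A J).toLinearMap ∘ₗ Algebra.linearMap A (B i))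
      (fun a ha => Ideal.Quotient.eq_zero_iff_mem.mpr (Ideal.mem_map_of_mem _ ha))
  let ψ : ↥s → (B i ⊗[A] M →ₗ[B i] B i ⧸ J) := fun p =>
    LinearMap.liftBaseChange (B i) (φA ∘ₗ ((b.coord p.1).restrictScalars A) ∘ₗ TensorProduct.mk A k M 1)
  have hψ : ∀ p q : ↥s, ψ p (1 ⊗ₜ v q.1) = if q = p then 1 else 0 := by
    intro p q
    simp only [ψ, LinearMap.liftBaseChange_tmul, one_smul, LinearMap.comp_apply,
      LinearMap.restrictScalars_apply, hv, Module.Basis.coord_apply, Module.Basis.repr_self,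
      Finsupp.single_apply]
    by_cases hqp : q = p
    · rw [if_pos (congrArg Subtype.val hqp), if_pos hqp]
      refine (Submodule.liftQ_apply (IsLocalRing.maximalIdeal A) _ (1 : A)).trans ?_
      simp
    · rw [if_neg (fun h => hqp (Subtype.ext h)), if_neg hqp, map_zero]
  let g : ↥s → B i := fun p => algebraMap A (B i) (f p.1)
  have hg : ∑ p, g p • ((1 : B i) ⊗ₜ[A] v p.1) = 0 := by
    have : (TensorProduct.mk A (B i) M 1) (∑ p ∈ s, f p • v p) = 0 := by rw [hf, map_zero]
    rw [map_sum, ← Finset.sum_coe_sort] at this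
    rw [← this]
    refine Finset.sum_congr rfl fun p _ => ?_
    rw [map_smul, TensorProduct.mk_apply, algebraMap_smul]
  obtain ⟨m, a, y, hay, hfa⟩ := Module.Flat.isTrivialRelation_of_sum_smul_eq_zero hg
  let I : Ideal (B i) := Ideal.span (Set.range g)
  have hI : I ≤ J * I := by
    refine Ideal.span_le.mpr ?_
    rintro _ ⟨p, rfl⟩
    choose z hz using fun j => Ideal.Quotient.mk_surjective (ψ p (y j))
    have hd : ∀ q, (if q = p then (1 : B i) else 0) - ∑ j, a q j * z j ∈ J := fun q => by
      rw [← Ideal.Quotient.eq_zero_iff_mem, map_sub, map_sum]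
      have h1 := congrArg (ψ p) (hay q)
      rw [hψ, map_sum] at h1
      rw [sub_eq_zero]
      rw [show Ideal.Quotient.mk J (if q = p then 1 else 0) = if q = p then (1 : B i ⧸ J) else 0 by
        split_ifs <;> simp, h1]
      refine Finset.sum_congr rfl fun j _ => ?_
      rw [map_smul, map_mul, hz, Algebra.smul_def]
      rfl
    have : g p = ∑ q, g q * ((if q = p then 1 else 0) - ∑ j, a q j * z j) := by
      simp only [mul_sub, Finset.sum_sub_distrib, mul_ite, mul_one, mul_zero, Finset.sum_ite_eq',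
        Finset.mem_univ, if_true, Finset.mul_sum, ← mul_assoc]
      rw [Finset.sum_comm]
      simp only [← Finset.sum_mul, hfa, zero_mul, Finset.sum_const_zero, sub_zero]
    show g p ∈ J * I
    rw [this]
    refine Ideal.sum_mem _ fun q _ => ?_
    rw [mul_comm (g q)]
    exact Ideal.mul_mem_mul (hd q) (Ideal.subset_span ⟨q, rfl⟩)
  have hpow : ∀ j, I ≤ J ^ j * I := by
    intro j
    induction j with
    | zero => simp
    | succ j ih =>
      refine ih.trans ?_
      rw [pow_succ, mul_assoc]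
      exact Ideal.mul_mono_right hI
  have : g ⟨l, hl⟩ ∈ (⊥ : Ideal (B i)) := by
    have := hpow n (Ideal.subset_span ⟨⟨l, hl⟩, rfl⟩)
    rwa [hJ, Ideal.bot_mul] at this
  simpa [g] using this

theorem exists_elem {A : Type u} [CommRing A] [Finite (MaximalSpectrum A)] {N : ℕ}
    (hN : Ring.jacobson A ^ N = ⊥) (m : Ideal A) [m.IsMaximal] :
    ∃ e : A, e ∉ m ∧ (∀ s ∉ m, s ∣ e) ∧ (∀ y ∈ m ^ N, e * y = 0) := by
  classical
  haveI := Fintype.ofFinite (MaximalSpectrum A)
  obtain ⟨x, hxm, hx⟩ : ∃ x, x ∉ m ∧ ∀ M : Ideal A, M.IsMaximal → M ≠ m → x ∈ M := by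
    by_contra! hc
    let T := (Finset.univ : Finset (MaximalSpectrum A)).filter (fun M => M.asIdeal ≠ m)
    have hle : T.inf (fun M => M.asIdeal) ≤ m := fun x hx => by
      by_contra hxm
      obtain ⟨M, hM, hMne, hxM⟩ := hc x hxm
      exact hxM ((Finset.inf_le (b := (⟨M, hM⟩ : MaximalSpectrum A)) (by simp [T, hMne]) :
        T.inf (fun M => M.asIdeal) ≤ M) hx)
    obtain ⟨M, hM, hMm⟩ := (Ideal.IsPrime.inf_le' (inferInstance : m.IsPrime)).mp hle
    exact (Finset.mem_filter.mp hM).2 (M.isMaximal.eq_of_le (‹m.IsMaximal›.ne_top) hMm)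
  have hjac : ∀ z : A, (∀ M : Ideal A, M.IsMaximal → z ∈ M) → z ∈ Ring.jacobson A := fun z hz => by
    rw [← Ideal.jacobson_bot, Ideal.jacobson]
    exact Submodule.mem_sInf.mpr fun M hM => hz M hM.2
  refine ⟨x ^ N, fun h => hxm (Ideal.IsPrime.mem_of_pow_mem inferInstance N h), fun s hs => ?_, ?_⟩
  · obtain ⟨s', i, hi, hsi⟩ := Ideal.IsMaximal.exists_inv (I := m) inferInstance hs
    have hj : x * i ∈ Ring.jacobson A := hjac _ fun M hM => by
      by_cases hMm : M = m
      · exact hMm ▸ m.mul_mem_left x hi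
      · exact M.mul_mem_right i (hx M hM hMm)
    have hd : s * (x * s') ∣ (s * (x * s') + x * i) ^ N - (x * i) ^ N := by
      simpa using sub_dvd_pow_sub_pow (s * (x * s') + x * i) (x * i) N
    have h0 : (x * i) ^ N = 0 := Ideal.mem_bot.mp (hN ▸ Ideal.pow_mem_pow hj N)
    rw [h0, sub_zero, show s * (x * s') + x * i = x by linear_combination x * hsi] at hd
    exact (dvd_mul_right s _).trans hd
  · intro y hy
    have h2 : Ideal.span {x} * m ≤ Ring.jacobson A := Ideal.mul_le.mpr fun r hr z hz => by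
      obtain ⟨c, rfl⟩ := Ideal.mem_span_singleton'.mp hr
      refine hjac _ fun M hM => ?_
      by_cases hMm : M = m
      · exact hMm ▸ m.mul_mem_left _ hz
      · exact M.mul_mem_right _ (M.mul_mem_left c (hx M hM hMm))
    have h3 : x ^ N * y ∈ (Ideal.span {x} * m) ^ N := by
      rw [mul_pow]
      exact Ideal.mul_mem_mul (Ideal.pow_mem_pow (Ideal.mem_span_singleton_self x) N) hy
    exact Ideal.mem_bot.mp (hN ▸ Ideal.pow_right_mono h2 N h3)

/-- Let A be a semi-local ring (finitely many maximal ideals) whose Jacobson radical is nilpotent, for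
instance an Artinian ring, and let (u_i : A → B_i) be a family of ring homomorphisms whose kernels
have zero intersection. Then an A-module M is flat if and only if, for every i, the B_i-module B_i
⊗_A M is flat. -/
theorem result {A : Type u} [CommRing A]
    [Finite (MaximalSpectrum A)] (hnil : IsNilpotent (Ring.jacobson A))
    {ι : Type u} (B : ι → Type u) [∀ i, CommRing (B i)] [∀ i, Algebra A (B i)]
    (hB : ∀ a : A, (∀ i, algebraMap A (B i) a = 0) → a = 0)
    (M : Type u) [AddCommGroup M] [Module A M] :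
    Module.Flat A M ↔ ∀ i, Module.Flat (B i) (B i ⊗[A] M) := by
  refine ⟨fun h i => inferInstance, fun h => ?_⟩
  obtain ⟨N, hN⟩ := hnil
  refine Module.flat_of_localized_maximal M fun m _ => ?_
  obtain ⟨e, hem, hdvd, hkill⟩ := exists_elem (N := N) (by simpa using hN) m
  let Am := Localization.AtPrime m
  have hnil' : IsNilpotent (IsLocalRing.maximalIdeal Am) := by
    refine ⟨N, ?_⟩
    rw [← Localization.AtPrime.map_eq_maximalIdeal, ← Ideal.map_pow]
    refine le_bot_iff.mp (Ideal.map_le_iff_le_comap.mpr fun y hy => ?_)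
    exact Ideal.mem_bot.mpr ((IsLocalization.map_eq_zero_iff m.primeCompl Am y).mpr ⟨⟨e, hem⟩, hkill y hy⟩)
  have hB' : ∀ a : Am, (∀ i, algebraMap Am (Am ⊗[A] B i) a = 0) → a = 0 := by
    intro a ha
    obtain ⟨a, s, rfl⟩ := IsLocalization.exists_mk'_eq m.primeCompl a
    rw [IsLocalization.mk'_eq_zero_iff]
    refine ⟨⟨e, hem⟩, hB _ fun i => ?_⟩
    have h0 : (IsLocalization.mk' Am a s : Am) ⊗ₜ[A] (1 : B i) = 0 := ha i
    have h1 : (1 : Am) ⊗ₜ[A] algebraMap A (B i) a = 0 := by
      have h2 := congrArg (fun z : Am ⊗[A] B i => (s : A) • z) h0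
      simp only [smul_zero, TensorProduct.smul_tmul', Algebra.smul_def] at h2
      rw [IsLocalization.mk'_spec' Am a s, Algebra.algebraMap_eq_smul_one, TensorProduct.smul_tmul,
        ← Algebra.algebraMap_eq_smul_one] at h2
      exact h2
    haveI : IsLocalization (Algebra.algebraMapSubmonoid (B i) m.primeCompl) (B i ⊗[A] Am) :=
      IsLocalization.tensor Am m.primeCompl
    have h3 : algebraMap (B i) (B i ⊗[A] Am) (algebraMap A (B i) a) = 0 := by
      simpa using congrArg (Algebra.TensorProduct.comm A Am (B i)) h1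
    obtain ⟨⟨t, t', ht', rfl⟩, ht⟩ :=
      (IsLocalization.map_eq_zero_iff (Algebra.algebraMapSubmonoid (B i) m.primeCompl) _ _).mp h3
    obtain ⟨c, hc⟩ := hdvd t' ht'
    rw [show e * a = c * (t' * a) by rw [hc]; ring, map_mul, map_mul]
    exact mul_eq_zero_of_right _ ht
  have hM' : ∀ i, Module.Flat (Am ⊗[A] B i) ((Am ⊗[A] B i) ⊗[Am] (Am ⊗[A] M)) := by
    intro i
    letI : Algebra (B i) (Am ⊗[A] B i) := Algebra.TensorProduct.rightAlgebra
    haveI := h i
    have e1 : (Am ⊗[A] B i) ⊗[B i] (B i ⊗[A] M) ≃ₗ[Am ⊗[A] B i] (Am ⊗[A] B i) ⊗[A] M :=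
      TensorProduct.AlgebraTensorModule.cancelBaseChange A (B i) _ _ M
    have e2 : (Am ⊗[A] B i) ⊗[Am] (Am ⊗[A] M) ≃ₗ[Am ⊗[A] B i] (Am ⊗[A] B i) ⊗[A] M :=
      TensorProduct.AlgebraTensorModule.cancelBaseChange A Am _ _ M
    exact Module.Flat.of_linearEquiv (e2.trans e1.symm)
  haveI : Module.Free Am (Am ⊗[A] M) := free_of_forall_flat hnil' (fun i => Am ⊗[A] B i) hB' _ hM'
  haveI : Module.Flat A (Am ⊗[A] M) := Module.Flat.trans A Am _
  exact Module.Flat.of_linearEquiv
    ((LocalizedModule.equivTensorProduct m.primeCompl M).restrictScalars A)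

end Groth.Agent.S4852
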