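import Groth.Statements.S4855
import Groth.Agent.FlatDom.Open
import Groth.Agent.FlatDom.Unit
import Groth.Agent.DerPerf.Local
import Groth.Agent.FlatLimMod.Basic

set_option autoImplicit false
universe u
open CategoryTheory AlgebraicGeometry
set_option backward.isDefEq.respectTransparency false
open EGA43
set_option backward.isDefEq.respectTransparency false

namespace Groth.Agent.S4855

open CategoryTheory.Limits in
/-- Let f : X ⟶ Y be a proper morphism of finite presentation such that the map O_Y → f_* O_X is
injective (on sections over every open subset of Y). Then f is flat if and only if the first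
projection X ×_Y X ⟶ X is flat. -/
theorem result {X Y : Scheme.{u}} (f : X ⟶ Y)
    [IsProper f] [LocallyOfFinitePresentation f] (hinj : ∀ V : Y.Opens, Function.Injective (f.app V)) :
    Flat f ↔ Flat (pullback.fst f f) := by
  refine ⟨fun _ => inferInstance, fun h => ?_⟩
  haveI := h
  haveI : Flat (pullback.snd f f) := by
    rw [← pullbackSymmetry_hom_comp_fst]
    infer_instance
  refine (Flat.iff_flat_stalkMap _).2 fun x => ?_
  rw [Groth.Agent.FlatDom.flat_stalkMap_iff]
  refine Groth.Agent.FlatDom.isFlatOverAt_of_universallyClosed f _ (Groth.Agent.QC.isQCoh_unit X)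
    (Groth.Agent.SchDense.isFP_unit X) x f (fun V s hV hs => ⟨V, hV, le_rfl, ?_⟩) fun x' _ => ?_
  · rw [hinj V (hs.trans (map_zero _).symm), map_zero]
  · exact Groth.Agent.FlatLimMod.isFlatOverAt_of_iso _ (Groth.Agent.DerPerf.pullUnitIso (pullback.fst f f)).symm
      ((Groth.Agent.FlatDom.flat_stalkMap_iff _ x').1 ((Flat.iff_flat_stalkMap _).1 inferInstance x'))

end Groth.Agent.S4855
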