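import Groth.Statements.S4858
import Mathlib

set_option autoImplicit false
universe u
open EGA43

namespace Groth.Agent.S4858

/-- Conditions a), a′), c), c′) (very dense subsets): for a subset X₀ of a topological space X the
following are equivalent: every nonempty locally closed subset of X meets X₀; every closed subset Z
of X equals the closure of Z ∩ X₀; the map U ↦ U ∩ X₀ is injective on open subsets of X; the map F ↦
F ∩ X₀ is injective on closed subsets of X. -/
theorem result {X : Type u} [TopologicalSpace X] (X₀ : Set X) :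
    [∀ Z : Set X, IsLocallyClosed Z → Z.Nonempty → (Z ∩ X₀).Nonempty,
      ∀ Z : Set X, IsClosed Z → closure (Z ∩ X₀) = Z,
      ∀ U V : Set X, IsOpen U → IsOpen V → U ∩ X₀ = V ∩ X₀ → U = V,
      ∀ F F' : Set X, IsClosed F → IsClosed F' → F ∩ X₀ = F' ∩ X₀ → F = F'].TFAE := by
  tfae_have 1 → 2 := by
    intro h Z hZ
    refine (closure_minimal Set.inter_subset_left hZ).antisymm fun z hz => ?_
    by_contra hc
    obtain ⟨w, ⟨hw1, hw2⟩, hw3⟩ := h ((closure (Z ∩ X₀))ᶜ ∩ Z)
      (isClosed_closure.isOpen_compl.isLocallyClosed.inter hZ.isLocallyClosed) ⟨z, hc, hz⟩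
    exact hw1 (subset_closure ⟨hw2, hw3⟩)
  tfae_have 2 → 4 := fun h F F' hF hF' e => by rw [← h F hF, ← h F' hF', e]
  tfae_have 4 → 3 := by
    intro h U V hU hV e
    refine compl_injective (h _ _ hU.isClosed_compl hV.isClosed_compl ?_)
    ext x
    have hx := Set.ext_iff.mp e x
    simp only [Set.mem_inter_iff, Set.mem_compl_iff] at hx ⊢
    tauto
  tfae_have 3 → 1 := by
    rintro h Z ⟨U, F, hU, hF, rfl⟩ ⟨z, hzU, hzF⟩
    by_contra hc
    have := h U (U ∩ Fᶜ) hU (hU.inter hF.isOpen_compl) (by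
      ext x
      simp only [Set.mem_inter_iff, Set.mem_compl_iff]
      exact ⟨fun hx => ⟨⟨hx.1, fun hF => hc ⟨x, ⟨hx.1, hF⟩, hx.2⟩⟩, hx.2⟩, fun hx => ⟨hx.1.1, hx.2⟩⟩)
    exact ((Set.ext_iff.mp this z).mp hzU).2 hzF
  tfae_finish

end Groth.Agent.S4858
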