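import Groth.Statements.S4859
import Mathlib

set_option autoImplicit false
universe u
open EGA43

namespace Groth.Agent.S4859

/-- Conditions a), a′), b) (quasi-homeomorphisms): for a continuous map f : X₀ → X the following are
equivalent: taking preimages is a bijection from the open subsets of X onto the open subsets of X₀;
taking preimages is a bijection from the closed subsets of X onto the closed subsets of X₀; the
topology of X₀ is induced from X through f and the image f(X₀) is very dense in X, in the sense that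
two open subsets of X with the same trace on f(X₀) coincide. -/
theorem result {X₀ X : Type u} [TopologicalSpace X₀] [TopologicalSpace X]
    (f : X₀ → X) (hf : Continuous f) :
    [Function.Bijective (fun U : TopologicalSpace.Opens X =>
        (⟨f ⁻¹' (U : Set X), U.isOpen.preimage hf⟩ : TopologicalSpace.Opens X₀)),
      Function.Bijective (fun F : TopologicalSpace.Closeds X =>
        (⟨f ⁻¹' (F : Set X), F.isClosed.preimage hf⟩ : TopologicalSpace.Closeds X₀)),
      Topology.IsInducing f ∧
        ∀ U V : Set X, IsOpen U → IsOpen V → U ∩ Set.range f = V ∩ Set.range f → U = V].TFAE := by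
  have he : ∀ U V : Set X, (U ∩ Set.range f = V ∩ Set.range f ↔ f ⁻¹' U = f ⁻¹' V) := by
    intro U V
    rw [← Set.image_preimage_eq_inter_range, ← Set.image_preimage_eq_inter_range]
    refine ⟨fun h => ?_, congrArg _⟩
    have := congrArg (f ⁻¹' ·) h
    simp only [Set.preimage_image_preimage (f := f), Set.image_preimage_eq_inter_range,
      Set.preimage_inter_range] at this
    exact this
  tfae_have 1 → 2 := by
    rintro ⟨hi, hs⟩
    refine ⟨fun F G h => ?_, fun F => ?_⟩
    · have := @hi ⟨(F : Set X)ᶜ, F.isClosed.isOpen_compl⟩ ⟨(G : Set X)ᶜ, G.isClosed.isOpen_compl⟩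
        (TopologicalSpace.Opens.ext (by
          have h' : f ⁻¹' (F : Set X) = f ⁻¹' (G : Set X) := congrArg SetLike.coe h
          show f ⁻¹' (F : Set X)ᶜ = f ⁻¹' (G : Set X)ᶜ
          rw [Set.preimage_compl, Set.preimage_compl, h']))
      exact TopologicalSpace.Closeds.ext (compl_inj_iff.1 (congrArg SetLike.coe this))
    · obtain ⟨U, hU⟩ := hs ⟨(F : Set X₀)ᶜ, F.isClosed.isOpen_compl⟩
      have hU' : f ⁻¹' (U : Set X) = (F : Set X₀)ᶜ := congrArg SetLike.coe hU
      exact ⟨⟨(U : Set X)ᶜ, U.isOpen.isClosed_compl⟩, TopologicalSpace.Closeds.ext (by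
        show f ⁻¹' (U : Set X)ᶜ = _
        rw [Set.preimage_compl, hU', compl_compl])⟩
  tfae_have 2 → 3 := by
    rintro ⟨hi, hs⟩
    refine ⟨⟨TopologicalSpace.ext_iff.2 fun s => ?_⟩, fun U V hU hV h => ?_⟩
    · rw [isOpen_induced_iff]
      refine ⟨fun hso => ?_, ?_⟩
      · obtain ⟨F, hF⟩ := hs ⟨sᶜ, hso.isClosed_compl⟩
        have hF' : f ⁻¹' (F : Set X) = sᶜ := congrArg SetLike.coe hF
        exact ⟨(F : Set X)ᶜ, F.isClosed.isOpen_compl, by rw [Set.preimage_compl, hF', compl_compl]⟩
      · rintro ⟨t, ht, rfl⟩; exact ht.preimage hf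
    · have := @hi ⟨Uᶜ, hU.isClosed_compl⟩ ⟨Vᶜ, hV.isClosed_compl⟩
        (TopologicalSpace.Closeds.ext (by
          show f ⁻¹' Uᶜ = f ⁻¹' Vᶜ
          rw [Set.preimage_compl, Set.preimage_compl, (he U V).1 h]))
      exact compl_inj_iff.1 (congrArg SetLike.coe this)
  tfae_have 3 → 1 := by
    rintro ⟨hind, hi⟩
    refine ⟨fun U V h => TopologicalSpace.Opens.ext (hi _ _ U.isOpen V.isOpen ((he _ _).2 (congrArg SetLike.coe h))),
      fun W => ?_⟩
    obtain ⟨t, ht, htW⟩ := hind.isOpen_iff.1 W.isOpen
    exact ⟨⟨t, ht⟩, TopologicalSpace.Opens.ext htW⟩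
  tfae_finish

end Groth.Agent.S4859
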