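import Groth.Statements.S4860
import Mathlib

set_option autoImplicit false
universe u
open EGA43

namespace Groth.Agent.S4860

/-- For an integral domain B the following are equivalent: a) the localization B_f is a field for some
nonzero f; b) the fraction field of B is a finitely generated B-algebra; c) there is a field
containing B (an injective algebra map from B) which is a finitely generated B-algebra; d) the
generic point of Spec B is open. -/
theorem result (B : Type u) [CommRing B] [IsDomain B] :
    [∃ f : B, f ≠ 0 ∧ IsField (Localization.Away f),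
      Algebra.FiniteType B (FractionRing B),
      ∃ (K : Type u) (_ : Field K) (_ : Algebra B K), Function.Injective (algebraMap B K) ∧ Algebra.FiniteType B K,
      IsOpen ({⟨⊥, Ideal.bot_prime⟩} : Set (PrimeSpectrum B))].TFAE := by
  have hbot : ∀ f : B, (PrimeSpectrum.basicOpen f : Set (PrimeSpectrum B)) = {⟨⊥, Ideal.bot_prime⟩} →
      f ≠ 0 ∧ IsField (Localization.Away f) := by
    intro f hf
    have hf0 : f ≠ 0 := fun h => by
      have : (⟨⊥, Ideal.bot_prime⟩ : PrimeSpectrum B) ∈ (PrimeSpectrum.basicOpen f : Set (PrimeSpectrum B)) := by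
        rw [hf]; rfl
      exact this (by simp [h])
    refine ⟨hf0, ?_⟩
    haveI : IsDomain (Localization.Away f) :=
      IsLocalization.isDomain_localization (powers_le_nonZeroDivisors_of_noZeroDivisors hf0)
    by_contra hnf
    obtain ⟨P, hP0, hP⟩ := Ring.not_isField_iff_exists_prime.1 hnf
    have hQ := (IsLocalization.isPrime_iff_isPrime_disjoint (Submonoid.powers f) _ P).1 hP
    have hfQ : f ∉ P.comap (algebraMap B (Localization.Away f)) :=
      fun h => Set.disjoint_left.1 hQ.2 (Submonoid.mem_powers f) h
    haveI := hQ.1
    have hmem : (⟨P.comap (algebraMap B (Localization.Away f)), hQ.1⟩ : PrimeSpectrum B) ∈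
        (PrimeSpectrum.basicOpen f : Set (PrimeSpectrum B)) := hfQ
    rw [hf, Set.mem_singleton_iff] at hmem
    apply hP0
    have h0 : P.comap (algebraMap B (Localization.Away f)) = ⊥ := congrArg PrimeSpectrum.asIdeal hmem
    have hmc := IsLocalization.map_comap (Submonoid.powers f) (Localization.Away f) P
    rw [show P.under B = ⊥ from h0, Ideal.map_bot] at hmc
    exact hmc.symm
  have hinj : ∀ f : B, f ≠ 0 → Function.Injective (algebraMap B (Localization.Away f)) := fun f hf =>
    IsLocalization.injective _ (powers_le_nonZeroDivisors_of_noZeroDivisors hf)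
  tfae_have 1 → 4 := by
    rintro ⟨f, hf0, hF⟩
    letI := hF.toField
    have : ({⟨⊥, Ideal.bot_prime⟩} : Set (PrimeSpectrum B)) = PrimeSpectrum.basicOpen f := by
      rw [← PrimeSpectrum.localization_away_comap_range (Localization.Away f) f]
      ext p
      constructor
      · rintro rfl
        exact ⟨⊥, PrimeSpectrum.ext (by simpa [← RingHom.ker_eq_comap_bot, RingHom.injective_iff_ker_eq_bot] using (RingHom.injective_iff_ker_eq_bot _).1 (hinj f hf0))⟩
      · rintro ⟨q, rfl⟩
        refine PrimeSpectrum.ext ?_
        show q.asIdeal.comap _ = ⊥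
        rw [(Ideal.eq_bot_or_top q.asIdeal).resolve_right q.isPrime.ne_top, ← RingHom.ker_eq_comap_bot]
        exact (RingHom.injective_iff_ker_eq_bot _).1 (hinj f hf0)
    rw [this]
    exact (PrimeSpectrum.basicOpen f).isOpen
  tfae_have 4 → 1 := by
    intro h
    obtain ⟨_, ⟨f, rfl⟩, hm, hsub⟩ :=
      PrimeSpectrum.isTopologicalBasis_basic_opens.isOpen_iff.1 h _ (Set.mem_singleton _)
    exact ⟨f, hbot f (Set.Subset.antisymm hsub (Set.singleton_subset_iff.2 hm))⟩
  tfae_have 1 → 2 := by
    rintro ⟨f, hf0, hF⟩
    letI := hF.toField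
    let l : Localization.Away f →ₐ[B] FractionRing B :=
      IsLocalization.liftAlgHom (M := Submonoid.powers f) (f := Algebra.ofId B (FractionRing B)) (fun y => by
        obtain ⟨k, hk⟩ := y.2
        refine isUnit_iff_ne_zero.2 ?_
        show algebraMap B (FractionRing B) (y : B) ≠ 0
        rw [map_ne_zero_iff _ (IsFractionRing.injective B (FractionRing B)), ← hk]
        exact pow_ne_zero k hf0)
    haveI : Algebra.FiniteType B (Localization.Away f) := inferInstance
    refine Algebra.FiniteType.of_surjective l fun z => ?_
    obtain ⟨a, b, hb, rfl⟩ := IsFractionRing.div_surjective (A := B) z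
    exact ⟨algebraMap B _ a / algebraMap B _ b, by rw [map_div₀, AlgHom.commutes, AlgHom.commutes]⟩
  tfae_have 2 → 3 := fun h => ⟨FractionRing B, inferInstance, inferInstance, IsFractionRing.injective _ _, h⟩
  tfae_have 3 → 1 := by
    rintro ⟨K, _, _, hK, hft⟩
    classical
    haveI : FaithfulSMul B K := (faithfulSMul_iff_algebraMap_injective B K).2 hK
    letI := FractionRing.liftAlgebra B K
    haveI : Algebra.FiniteType (FractionRing B) K := Algebra.FiniteType.of_restrictScalars_finiteType B _ _
    haveI : Module.Finite (FractionRing B) K := finite_of_finite_type_of_isJacobsonRing _ _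
    obtain ⟨G, hG⟩ := hft.1
    haveI : Algebra.IsAlgebraic (FractionRing B) K := Algebra.IsAlgebraic.of_finite _ _
    have halg : ∀ x : K, IsAlgebraic B x := fun x =>
      (IsFractionRing.isAlgebraic_iff B (FractionRing B) K).2 (Algebra.IsAlgebraic.isAlgebraic x)
    choose P hP0 hP using halg
    let f : B := ∏ g ∈ G, (P g).leadingCoeff
    have hf0 : f ≠ 0 := Finset.prod_ne_zero_iff.2 fun g _ => Polynomial.leadingCoeff_ne_zero.2 (hP0 g)
    refine ⟨f, hf0, ?_⟩
    haveI : IsDomain (Localization.Away f) :=
      IsLocalization.isDomain_localization (powers_le_nonZeroDivisors_of_noZeroDivisors hf0)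
    let l : Localization.Away f →+* K := IsLocalization.Away.lift f (g := algebraMap B K)
      (isUnit_iff_ne_zero.2 ((map_ne_zero_iff _ hK).2 hf0))
    letI := l.toAlgebra
    haveI : IsScalarTower B (Localization.Away f) K :=
      IsScalarTower.of_algebraMap_eq fun b => (IsLocalization.Away.lift_eq f _ b).symm
    have hlinj : Function.Injective (algebraMap (Localization.Away f) K) := by
      rw [injective_iff_map_eq_zero]
      intro w hw
      obtain ⟨k, a, ha⟩ := IsLocalization.Away.surj f w
      have := congrArg (algebraMap (Localization.Away f) K) ha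
      rw [map_mul, hw, zero_mul, ← IsScalarTower.algebraMap_apply] at this
      rw [(map_eq_zero_iff _ hK).1 this.symm, map_zero] at ha
      exact ((IsLocalization.Away.algebraMap_isUnit f).pow k).mul_left_eq_zero.1 ha
    have hint : ∀ g ∈ G, IsIntegral (Localization.Away f) g := by
      intro g hg
      have hu : IsUnit (algebraMap B (Localization.Away f) (P g).leadingCoeff) :=
        isUnit_of_dvd_unit (map_dvd _ (Finset.dvd_prod_of_mem (fun g => (P g).leadingCoeff) hg))
          (IsLocalization.Away.algebraMap_isUnit f)
      obtain ⟨u, hu⟩ := hu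
      refine ⟨Polynomial.C (↑u⁻¹ : Localization.Away f) * (P g).map (algebraMap B _), ?_, ?_⟩
      · refine Polynomial.monic_C_mul_of_mul_leadingCoeff_eq_one ?_
        rw [Polynomial.leadingCoeff_map_of_injective (hinj f hf0), ← hu, Units.inv_mul]
      · rw [← Polynomial.aeval_def, map_mul, Polynomial.aeval_map_algebraMap, hP g, mul_zero]
    haveI : Algebra.IsIntegral (Localization.Away f) K := ⟨fun x => by
      have hx : x ∈ Algebra.adjoin B (G : Set K) := hG ▸ Algebra.mem_top
      have hle : Algebra.adjoin B (G : Set K) ≤ (integralClosure (Localization.Away f) K).restrictScalars B :=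
        Algebra.adjoin_le fun g hg => hint g hg
      exact hle hx⟩
    exact isField_of_isIntegral_of_isField hlinj (Field.toIsField K)
  tfae_finish

end Groth.Agent.S4860
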