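import Groth.Statements.S4861
import Mathlib

set_option autoImplicit false
universe u
open EGA43

namespace Groth.Agent.S4861

/-- For a Noetherian integral domain B the following are equivalent (and hence equivalent to: the
fraction field of B is a finitely generated B-algebra; the generic point of Spec B is open): a) the
localization B_f is a field for some nonzero f; e) Spec B is finite; f) B is semi-local (finitely
many maximal ideals) of Krull dimension at most 1. -/
theorem result (B : Type u) [CommRing B] [IsDomain B]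
    [IsNoetherianRing B] :
    [∃ f : B, f ≠ 0 ∧ IsField (Localization.Away f),
      Finite (PrimeSpectrum B),
      Finite (MaximalSpectrum B) ∧ ringKrullDim B ≤ 1].TFAE := by
  classical
  tfae_have 1 → 3 := by
    rintro ⟨f, hf0, hfield⟩
    -- every nonzero prime contains f
    have hmem : ∀ P : Ideal B, P.IsPrime → P ≠ ⊥ → f ∈ P := by
      intro P hP hP0
      by_contra hfP
      have hd : Disjoint (Submonoid.powers f : Set B) (P : Set B) := by
        rw [Set.disjoint_left]
        rintro x ⟨n, rfl⟩ hx
        exact hfP (hP.mem_of_pow_mem n hx)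
      have hPm := IsLocalization.isPrime_of_isPrime_disjoint (Submonoid.powers f) (Localization.Away f) P hP hd
      have hc := IsLocalization.under_map_of_isPrime_disjoint (Submonoid.powers f) (Localization.Away f) hP hd
      haveI : IsSimpleOrder (Ideal (Localization.Away f)) := Ring.isField_iff_isSimpleOrder_ideal.1 hfield
      rcases IsSimpleOrder.eq_bot_or_eq_top (P.map (algebraMap B (Localization.Away f))) with h | h
      · apply hP0
        rw [← hc, h]
        have hinj : Function.Injective (algebraMap B (Localization.Away f)) :=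
          IsLocalization.injective _ (powers_le_nonZeroDivisors_of_noZeroDivisors hf0)
        exact Ideal.comap_bot_of_injective _ hinj
      · exact hPm.ne_top h
    have hht : ∀ {p q : Ideal B}, p.IsPrime → q.IsPrime → q ≠ ⊥ → q ≤ p → p.height ≤ 1 → q = p := by
      intro p q hp hq hq0 hle hh
      by_contra hne
      haveI : (⊥ : Ideal B).IsPrime := Ideal.isPrime_bot
      have h3 : (⊥ : Ideal B).height + 1 ≤ q.height :=
        Ideal.height_add_one_le_of_lt_of_isPrime (bot_lt_iff_ne_bot.2 hq0)
      have h4 : q.height + 1 ≤ p.height :=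
        Ideal.height_add_one_le_of_lt_of_isPrime (lt_of_le_of_ne hle hne)
      have : (2 : ℕ∞) ≤ p.height := by
        calc (2 : ℕ∞) = 0 + 1 + 1 := by norm_num
          _ ≤ (⊥ : Ideal B).height + 1 + 1 := by gcongr; exact zero_le
          _ ≤ q.height + 1 := by gcongr
          _ ≤ p.height := h4
      exact absurd (this.trans hh) (by norm_num)
    have key : ∀ P : Ideal B, P.IsPrime → P ≠ ⊥ → P ∈ (Ideal.span {f}).minimalPrimes := by
      intro P hP hP0
      have hfin := Ideal.finite_minimalPrimes_of_isNoetherianRing B (Ideal.span {f})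
      have hsub : (P : Set B) ⊆ ⋃ q ∈ (hfin.toFinset : Set (Ideal B)), (q : Set B) := by
        intro a ha
        simp only [Set.mem_iUnion, Set.Finite.coe_toFinset, exists_prop]
        have hle : Ideal.span {f} ≤ P := (Ideal.span_singleton_le_iff_mem _).2 (hmem P hP hP0)
        by_cases ha0 : a = 0
        · obtain ⟨q, hq, -⟩ := Ideal.exists_minimalPrimes_le hle
          exact ⟨q, hq, by simp [ha0]⟩
        have hlea : Ideal.span {a} ≤ P := (Ideal.span_singleton_le_iff_mem _).2 ha
        obtain ⟨Q, hQ, hQP⟩ := Ideal.exists_minimalPrimes_le hlea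
        have haQ : a ∈ Q := hQ.1.2 (Ideal.mem_span_singleton_self a)
        have hQ0 : Q ≠ ⊥ := fun h => ha0 (by simpa [h] using haQ)
        haveI := hQ.1.1
        have hh : Q.height ≤ 1 := Ideal.height_le_one_of_isPrincipal_of_mem_minimalPrimes _ _ hQ
        refine ⟨Q, ⟨⟨hQ.1.1, (Ideal.span_singleton_le_iff_mem _).2 (hmem Q hQ.1.1 hQ0)⟩, ?_⟩, haQ⟩
        rintro q ⟨hq, hfq⟩ hqQ
        have hq0 : q ≠ ⊥ := fun h => hf0 (by
          have := hfq (Ideal.mem_span_singleton_self f)
          simpa [h] using this)
        rw [hht hQ.1.1 hq hq0 hqQ hh]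
      obtain ⟨q, hq, hPq⟩ := (Ideal.subset_union_prime ⊥ ⊥ (by
        intro i hi _ _
        exact ((Set.Finite.mem_toFinset hfin).1 hi).1.1)).1 hsub
      rw [Set.Finite.mem_toFinset] at hq
      have hle : Ideal.span {f} ≤ P := (Ideal.span_singleton_le_iff_mem _).2 (hmem P hP hP0)
      have : P = q := le_antisymm hPq (hq.2 ⟨hP, hle⟩ hPq)
      rwa [this]
    have hmax : ∀ P : Ideal B, P ≠ ⊥ → P.IsPrime → P.IsMaximal := by
      intro P hP0 hP
      obtain ⟨M, hM, hPM⟩ := Ideal.exists_le_maximal P hP.ne_top
      have hM0 : M ≠ ⊥ := fun h => hP0 (le_bot_iff.1 (h ▸ hPM))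
      have h1 := key P hP hP0
      have h2 := key M hM.isPrime hM0
      have : P = M := le_antisymm hPM (h2.2 h1.1 hPM)
      rwa [this]
    refine ⟨?_, Ring.krullDimLE_iff.1 (Ring.krullDimLE_one_iff_of_noZeroDivisors.2 hmax)⟩
    have hfin : Set.Finite ({⊥} ∪ (Ideal.span {f}).minimalPrimes) :=
      (Set.finite_singleton _).union (Ideal.finite_minimalPrimes_of_isNoetherianRing B _)
    haveI := hfin.to_subtype
    refine Finite.of_injective (β := ({⊥} ∪ (Ideal.span {f}).minimalPrimes : Set (Ideal B)))
      (fun m => ⟨m.asIdeal, ?_⟩) (fun a b h => MaximalSpectrum.ext (congrArg Subtype.val h))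
    by_cases h : m.asIdeal = ⊥
    · exact Or.inl h
    · exact Or.inr (key _ m.isMaximal.isPrime h)
  tfae_have 3 → 2 := by
    rintro ⟨hfin, hdim⟩
    have hmax := Ring.krullDimLE_one_iff_of_noZeroDivisors.1 (Ring.krullDimLE_iff.2 hdim)
    refine Finite.of_injective (β := Option (MaximalSpectrum B))
      (fun p => if h : p.asIdeal = ⊥ then none else some ⟨p.asIdeal, hmax _ h p.isPrime⟩) ?_
    intro p q h
    simp only at h
    split_ifs at h with h1 h2 h2
    · exact PrimeSpectrum.ext (h1.trans h2.symm)
    · exact PrimeSpectrum.ext (congrArg MaximalSpectrum.asIdeal (Option.some.inj h))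
  tfae_have 2 → 1 := by
    intro hfin
    haveI := Fintype.ofFinite (PrimeSpectrum B)
    have hc : ∀ p : PrimeSpectrum B, ∃ a : B, a ≠ 0 ∧ (p.asIdeal ≠ ⊥ → a ∈ p.asIdeal) := by
      intro p
      by_cases h : p.asIdeal = ⊥
      · exact ⟨1, one_ne_zero, fun h' => absurd h h'⟩
      · obtain ⟨a, ha, ha0⟩ := Submodule.exists_mem_ne_zero_of_ne_bot h
        exact ⟨a, ha0, fun _ => ha⟩
    choose a ha0 ha using hc
    have hf0 : ∏ p, a p ≠ 0 := Finset.prod_ne_zero_iff.2 fun p _ => ha0 p
    refine ⟨∏ p, a p, hf0, ?_⟩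
    haveI : IsDomain (Localization.Away (∏ p, a p)) :=
      IsLocalization.isDomain_localization (powers_le_nonZeroDivisors_of_noZeroDivisors hf0)
    by_contra hnf
    obtain ⟨P, hP0, hP⟩ := Ring.not_isField_iff_exists_prime.1 hnf
    obtain ⟨hc1, hc2⟩ := (IsLocalization.isPrime_iff_isPrime_disjoint (Submonoid.powers (∏ p, a p)) _ P).1 hP
    have hu0 : P.under B ≠ ⊥ := fun h => hP0 (by
      rw [← IsLocalization.map_under (Submonoid.powers (∏ p, a p)) (Localization.Away (∏ p, a p)) P, h, Ideal.map_bot])
    exact Set.disjoint_left.1 hc2 (Submonoid.mem_powers _)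
      (Ideal.prod_mem _ (Finset.mem_univ _) (ha ⟨P.under B, hc1⟩ hu0))
  tfae_finish

end Groth.Agent.S4861
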