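import Groth.Statements.S4862
import Mathlib

set_option autoImplicit false
universe u
open EGA43

namespace Groth.Agent.S4862

/-- For a commutative ring A the following are equivalent: a) A is a Jacobson ring; b) for every prime
ideal p of A which is not maximal and every nonzero f of B = A/p, the localization B_f is not a
field; b′) every finitely generated A-algebra which is a field is a finite A-module. -/
theorem result (A : Type u) [CommRing A] :
    [IsJacobsonRing A,
      ∀ (p : Ideal A) [p.IsPrime], ¬ p.IsMaximal → ∀ f : A ⧸ p, f ≠ 0 → ¬ IsField (Localization.Away f),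
      ∀ (K : Type u) [Field K] [Algebra A K], Algebra.FiniteType A K → Module.Finite A K].TFAE := by
  classical
  tfae_have 1 → 3 := fun h K _ _ hft => finite_of_finite_type_of_isJacobsonRing A K
  tfae_have 3 → 2 := by
    intro h p _ hmax f hf hF
    apply hmax
    rw [Ideal.Quotient.maximal_ideal_iff_isField_quotient]
    letI := hF.toField
    haveI : Algebra.FiniteType (A ⧸ p) (Localization.Away f) := inferInstance
    haveI : Algebra.FiniteType A (Localization.Away f) := Algebra.FiniteType.trans (S := A ⧸ p) inferInstance inferInstance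
    haveI := h (Localization.Away f) inferInstance
    haveI : Algebra.IsIntegral A (Localization.Away f) := Algebra.IsIntegral.of_finite _ _
    haveI : Algebra.IsIntegral (A ⧸ p) (Localization.Away f) := Algebra.IsIntegral.tower_top A
    exact isField_of_isIntegral_of_isField (S := Localization.Away f)
      (IsLocalization.injective _ (powers_le_nonZeroDivisors_of_noZeroDivisors hf)) hF
  tfae_have 2 → 1 := by
    intro h
    rw [isJacobsonRing_iff_prime_eq]
    intro P hP
    refine le_antisymm (fun g hg => ?_) Ideal.le_jacobson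
    by_contra hgP
    -- a prime maximal among those containing `P` and avoiding `g`
    obtain ⟨Q, ⟨hQP, hgQ⟩, hQmax⟩ : ∃ Q : Ideal A, (P ≤ Q ∧ ∀ k : ℕ, g ^ k ∉ Q) ∧
        ∀ Q' : Ideal A, Q ≤ Q' → (∀ k : ℕ, g ^ k ∉ Q') → Q' ≤ Q := by
      obtain ⟨Q, hPQ, hQ⟩ := zorn_le_nonempty₀ {J : Ideal A | ∀ k : ℕ, g ^ k ∉ J} (fun c hc hchain y hy =>
        ⟨sSup c, fun k hk => by
          obtain ⟨J, hJ, hJk⟩ := (Submodule.mem_sSup_of_directed ⟨y, hy⟩ hchain.directedOn).1 hk
          exact hc hJ k hJk, fun z hz => le_sSup hz⟩) P (fun k hk => hgP (hP.mem_of_pow_mem k hk))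
      exact ⟨Q, ⟨hPQ, hQ.prop⟩, fun Q' h1 h2 => hQ.le_of_ge h2 h1⟩
    have hQprime : Q.IsPrime := by
      refine ⟨fun htop => hgQ 0 (htop ▸ Submodule.mem_top), fun {a b} hab => ?_⟩
      by_contra hne
      push Not at hne
      have hext : ∀ c, c ∉ Q → ∃ k : ℕ, g ^ k ∈ Q ⊔ Ideal.span {c} := fun c hc => by
        by_contra hk
        push Not at hk
        exact hc (hQmax _ le_sup_left hk (Ideal.mem_sup_right (Ideal.mem_span_singleton_self c)))
      obtain ⟨k, hk⟩ := hext a hne.1
      obtain ⟨l, hl⟩ := hext b hne.2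
      refine hgQ (k + l) ?_
      rw [pow_add]
      have := Ideal.mul_mem_mul hk hl
      refine (Ideal.mul_le.2 fun x hx y hy => ?_) this
      obtain ⟨q₁, hq₁, c₁, hc₁, rfl⟩ := Submodule.mem_sup.1 hx
      obtain ⟨q₂, hq₂, c₂, hc₂, rfl⟩ := Submodule.mem_sup.1 hy
      obtain ⟨u, rfl⟩ := Ideal.mem_span_singleton.1 hc₁
      obtain ⟨v, rfl⟩ := Ideal.mem_span_singleton.1 hc₂
      rw [show (q₁ + a * u) * (q₂ + b * v) = q₁ * (q₂ + b * v) + a * u * q₂ + (a * b) * (u * v) by ring]
      exact add_mem (add_mem (Q.mul_mem_right _ hq₁) (Q.mul_mem_left _ hq₂)) (Q.mul_mem_right _ hab)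
    have hQnm : ¬ Q.IsMaximal := fun hQm => hgQ 1 (by
      rw [pow_one]
      exact Ideal.mem_sInf.1 hg ⟨hQP, hQm⟩)
    have hg0 : Ideal.Quotient.mk Q g ≠ 0 := fun h0 => hgQ 1 (by simpa using Ideal.Quotient.eq_zero_iff_mem.1 h0)
    refine h Q hQnm _ hg0 ?_
    haveI : IsDomain (Localization.Away (Ideal.Quotient.mk Q g)) :=
      IsLocalization.isDomain_localization (powers_le_nonZeroDivisors_of_noZeroDivisors hg0)
    by_contra hnf
    obtain ⟨J, hJ0, hJ⟩ := Ring.not_isField_iff_exists_prime.1 hnf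
    have hJ' := (IsLocalization.isPrime_iff_isPrime_disjoint (Submonoid.powers (Ideal.Quotient.mk Q g)) _ J).1 hJ
    apply hJ0
    let J₁ := J.comap (algebraMap (A ⧸ Q) (Localization.Away (Ideal.Quotient.mk Q g)))
    have hJ₁ : J₁ = ⊥ := by
      rw [eq_bot_iff]
      intro x hx
      obtain ⟨a, rfl⟩ := Ideal.Quotient.mk_surjective x
      have := hQmax (J₁.comap (Ideal.Quotient.mk Q)) (fun q hq => by
          rw [Ideal.mem_comap, Ideal.Quotient.eq_zero_iff_mem.2 hq]; exact zero_mem _)
        (fun k hk => Set.disjoint_left.1 hJ'.2 ⟨k, (map_pow _ g k).symm⟩ hk)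
      rw [Submodule.mem_bot, Ideal.Quotient.eq_zero_iff_mem]
      exact this hx
    rw [← IsLocalization.map_comap (Submonoid.powers (Ideal.Quotient.mk Q g)) (Localization.Away (Ideal.Quotient.mk Q g)) J]
    show J₁.map _ = ⊥
    rw [hJ₁, Ideal.map_bot]
  tfae_finish

end Groth.Agent.S4862
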