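import Groth.Statements.S4865
import Mathlib
import Groth.Agent.InjFibre.Loc

set_option autoImplicit false
universe u
open EGA43

namespace Groth.Agent.S4865

/-- Let A be a commutative ring, B a finitely presented A-algebra, C a finitely presented B-algebra and
M a finitely presented C-module. Then the set of prime ideals q of B such that the localized module
M_q (M regarded as a B-module) is flat over A is open in Spec B. -/
theorem result {A B C : Type u} [CommRing A] [CommRing B] [CommRing C]
    [Algebra A B] [Algebra B C] [Algebra A C] [IsScalarTower A B C]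
    [Algebra.FinitePresentation A B] [Algebra.FinitePresentation B C]
    (M : Type u) [AddCommGroup M] [Module C M] [Module B M] [Module A M]
    [IsScalarTower B C M] [IsScalarTower A C M] [IsScalarTower A B M] [Module.FinitePresentation C M] :
    IsOpen {q : PrimeSpectrum B | Module.Flat A (LocalizedModule q.asIdeal.primeCompl M)} := by
  haveI : Algebra.FinitePresentation A C := Algebra.FinitePresentation.trans A B C
  let U : Set (PrimeSpectrum C) := {r | Module.Flat A (LocalizedModule r.asIdeal.primeCompl M)}
  have hU : IsOpen U := FlatSpread.isOpen_flatLocus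
  obtain ⟨I, hI⟩ := (PrimeSpectrum.isClosed_iff_zeroLocus_ideal Uᶜ).1 hU.isClosed_compl
  have key : ∀ q : PrimeSpectrum B, Module.Flat A (LocalizedModule q.asIdeal.primeCompl M) ↔
      ∃ b ∉ q.asIdeal, algebraMap B C b ∈ I := by
    intro q
    rw [InjFibre.flat_localized_comap_iff (C := C) q.asIdeal.primeCompl]
    constructor
    · intro h
      by_contra hne
      push Not at hne
      have hd : Disjoint (I : Set C) (Algebra.algebraMapSubmonoid C q.asIdeal.primeCompl : Set C) := by
        rw [Set.disjoint_left]
        rintro _ hc ⟨b, hb, rfl⟩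
        exact hne b hb hc
      obtain ⟨r, hr, hIr, hrd⟩ := Ideal.exists_le_prime_disjoint I _ hd
      have h1 : (⟨r, hr⟩ : PrimeSpectrum C) ∈ U :=
        h ⟨r, hr⟩ fun s hs hmem => Set.disjoint_left.1 hrd hmem (Submonoid.mem_map_of_mem _ hs)
      have h2 : (⟨r, hr⟩ : PrimeSpectrum C) ∈ Uᶜ := by rw [hI]; exact hIr
      exact h2 h1
    · rintro ⟨b, hb, hbI⟩ r hr
      by_contra hn
      have : r ∈ PrimeSpectrum.zeroLocus (I : Set C) := by rw [← hI]; exact hn
      exact hr b hb (this hbI)
  have : {q : PrimeSpectrum B | Module.Flat A (LocalizedModule q.asIdeal.primeCompl M)} =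
      (PrimeSpectrum.zeroLocus (I.comap (algebraMap B C) : Set B))ᶜ := by
    ext q
    simp only [Set.mem_setOf_eq, key, Set.mem_compl_iff, PrimeSpectrum.mem_zeroLocus, Set.not_subset,
      SetLike.mem_coe, Ideal.mem_comap]
    exact ⟨fun ⟨b, hb, hbI⟩ => ⟨b, hbI, hb⟩, fun ⟨b, hbI, hb⟩ => ⟨b, hb, hbI⟩⟩
  rw [this]
  exact (PrimeSpectrum.isClosed_zeroLocus _).isOpen_compl

end Groth.Agent.S4865
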