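import Groth.Statements.S4866
import Groth.Agent.FibRegOpen.Sch

set_option autoImplicit false
set_option linter.style.haveILetI false
set_option backward.isDefEq.respectTransparency false
universe u
open EGA43
open Groth.Agent

namespace Groth.Agent.S4866

open AlgebraicGeometry CategoryTheory Limits in
/-- Let Y be a locally Noetherian scheme, f : X ⟶ Y locally of finite type, F a coherent f-flat
O_X-module and g₁, …, gₙ sections of O_X over X. Then the set of points x of X, with y = f x, such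
that the germs (gᵢ)_x form a weakly regular sequence on the fibre module F_x / m_y F_x (each gᵢ is a
non-zero-divisor on the quotient by the preceding ones; the quotient by all of them may be zero) is
open in X. -/
theorem result {X Y : Scheme.{u}} [IsLocallyNoetherian Y] (f : X ⟶ Y)
    [LocallyOfFiniteType f] (F : X.Modules) (hF : Coh.IsCoh F) (hflat : FlatMod.IsFlatOver f F)
    (n : ℕ) (g : Fin n → Γ(X, ⊤)) :
    IsOpen {x : X |
      RingTheory.Sequence.IsWeaklyRegular
        (↑(F.presheaf.stalk x) ⧸ (Ideal.map (f.stalkMap x).hom (IsLocalRing.maximalIdeal ↑(Y.presheaf.stalk (f x))) •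
          (⊤ : Submodule ↑(X.presheaf.stalk x) ↑(F.presheaf.stalk x))))
        (List.ofFn fun i => (X.presheaf.germ ⊤ x trivial) (g i))} := by
  rw [isOpen_iff_forall_mem_open]
  intro x₀ hx₀
  haveI : IsLocallyNoetherian X := LocallyOfFiniteType.isLocallyNoetherian f
  obtain ⟨V, hV, hyV, -⟩ := exists_isAffineOpen_mem_and_subset (X := Y) (x := f x₀) (U := ⊤) trivial
  obtain ⟨W, hW, hxW, hWV⟩ := exists_isAffineOpen_mem_and_subset (X := X) (x := x₀) (U := f ⁻¹ᵁ V) hyV
  haveI : IsNoetherianRing Γ(Y, V) := IsLocallyNoetherian.component_noetherian ⟨V, hV⟩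
  haveI : IsNoetherianRing Γ(X, W) := IsLocallyNoetherian.component_noetherian ⟨W, hW⟩
  letI : Algebra Γ(Y, V) Γ(X, W) := (f.appLE V W hWV).hom.toAlgebra
  haveI : Algebra.FiniteType Γ(Y, V) Γ(X, W) := f.finiteType_appLE hV hW hWV
  haveI : Algebra.FinitePresentation Γ(Y, V) Γ(X, W) := Algebra.FinitePresentation.of_finiteType.1 inferInstance
  haveI : Module.Finite Γ(X, W) Γ(F, W) := (QC.isCoh_iff_finite_sections.1 hF).2 ⟨W, hW⟩
  haveI : Module.FinitePresentation Γ(X, W) Γ(F, W) := Module.finitePresentation_of_finite _ _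
  letI : Module Γ(Y, V) Γ(F, W) := Module.compHom Γ(F, W) (f.appLE V W hWV).hom
  haveI : IsScalarTower Γ(Y, V) Γ(X, W) Γ(F, W) := IsScalarTower.of_algebraMap_smul fun _ _ => rfl
  let fs : List Γ(X, W) := List.ofFn fun i => X.presheaf.map (homOfLE (le_top : W ≤ ⊤)).op (g i)
  have hfs : ∀ (x : X) (hx : x ∈ W), fs.map (X.presheaf.germ W x hx).hom =
      List.ofFn fun i => (X.presheaf.germ ⊤ x trivial) (g i) := by
    intro x hx
    rw [List.map_ofFn]
    congr 1
    funext i
    exact X.presheaf.germ_res_apply (homOfLE (le_top : W ≤ ⊤)) x hx (g i)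
  let T := {q : PrimeSpectrum Γ(X, W) | Module.Flat Γ(Y, V) (LocalizedModule q.asIdeal.primeCompl Γ(F, W)) ∧
    FibRegOpen.FibReg Γ(Y, V) Γ(F, W) fs q}
  refine ⟨hW.fromSpec '' T, ?_, hW.fromSpec.isOpenEmbedding.isOpenMap _ (FibRegOpen.isOpen_flat_fibReg fs _), ?_⟩
  · rintro _ ⟨q, hq, rfl⟩
    obtain ⟨hxW', hqe⟩ := InjFibre.primeIdealOf_fromSpec hW q
    change RingTheory.Sequence.IsWeaklyRegular _ _
    rw [← hfs _ hxW', ← FibRegOpen.fibReg_chart f F hF.1 hV hW hWV _ hxW', hqe]
    exact hq.2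
  · refine ⟨hW.primeIdealOf ⟨x₀, hxW⟩, ⟨(InjFibre.isFlatOverAt_iff f F hF.1 hV hW hWV x₀ hxW).1 (hflat x₀), ?_⟩,
      hW.fromSpec_primeIdealOf ⟨x₀, hxW⟩⟩
    rw [FibRegOpen.fibReg_chart f F hF.1 hV hW hWV x₀ hxW fs, hfs x₀ hxW]
    exact hx₀

end Groth.Agent.S4866
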