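import Groth.Statements.S4867
import Groth.Agent.FlatLimMod.Stage
import Groth.Agent.ConsMod.Model
import Groth.Agent.InjFibre.Stalk

set_option autoImplicit false
set_option linter.style.haveILetI false
universe u
open CategoryTheory AlgebraicGeometry
open EGA43

namespace Groth.Agent.S4867

/-- Let A be a commutative ring, f : X ⟶ Spec A a morphism of finite presentation, F a quasi-coherent
O_X-module of finite presentation and x a point of X. If F is f-flat at x, then there are a finitely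
generated subring A₀ of A, a morphism of finite type f₀ : X₀ ⟶ Spec A₀, a coherent O_{X₀}-module F₀
and a cartesian square q : X ⟶ X₀ over Spec A ⟶ Spec A₀ together with an isomorphism q^*F₀ ≅ F, such
that F₀ is f₀-flat at q x; and if F is f-flat, F₀ can be chosen f₀-flat. -/
theorem result {A : Type u} [CommRing A] {X : Scheme.{u}}
    (f : X ⟶ Spec (CommRingCat.of A)) [LocallyOfFinitePresentation f] [QuasiCompact f] [QuasiSeparated f]
    (F : X.Modules) [Coh.IsQCoh F] (hF : CohB1.IsFP F) (x : X) :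
    (FlatMod.IsFlatOverAt f F x →
      ∃ (A₀ : Subalgebra ℤ A) (_ : A₀.FG) (X₀ : Scheme.{u}) (f₀ : X₀ ⟶ Spec (CommRingCat.of ↥A₀))
        (_ : LocallyOfFiniteType f₀) (_ : QuasiCompact f₀) (F₀ : X₀.Modules) (_ : Coh.IsCoh F₀) (q : X ⟶ X₀)
        (_ : IsPullback q f f₀ (Spec.map (CommRingCat.ofHom A₀.val.toRingHom)))
        (_ : (Scheme.Modules.pullback q).obj F₀ ≅ F),
        FlatMod.IsFlatOverAt f₀ F₀ (q x)) ∧
    (FlatMod.IsFlatOver f F →
      ∃ (A₀ : Subalgebra ℤ A) (_ : A₀.FG) (X₀ : Scheme.{u}) (f₀ : X₀ ⟶ Spec (CommRingCat.of ↥A₀))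
        (_ : LocallyOfFiniteType f₀) (_ : QuasiCompact f₀) (F₀ : X₀.Modules) (_ : Coh.IsCoh F₀) (q : X ⟶ X₀)
        (_ : IsPullback q f f₀ (Spec.map (CommRingCat.ofHom A₀.val.toRingHom)))
        (_ : (Scheme.Modules.pullback q).obj F₀ ≅ F),
        FlatMod.IsFlatOver f₀ F₀) := by
  let f' : X ⟶ (LimModel.fgCone A).pt := f
  haveI : IsCofiltered (LimModel.FgSub A)ᵒᵖ := isCofiltered_op_of_isFiltered _
  let D := LimModel.fgDiagram A
  let c := LimModel.fgCone A
  haveI : ∀ i, CompactSpace (D.obj i) := fun i => inferInstanceAs (CompactSpace ((LimModel.fgDiagram A).obj i))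
  haveI : ∀ i, QuasiSeparatedSpace (D.obj i) := fun i => inferInstanceAs (QuasiSeparatedSpace ((LimModel.fgDiagram A).obj i))
  haveI : LocallyOfFinitePresentation f' := ‹LocallyOfFinitePresentation f›
  haveI : QuasiCompact f' := ‹QuasiCompact f›
  haveI : QuasiSeparated f' := ‹QuasiSeparated f›
  obtain ⟨j, X₀, f₀, qX, F₀, h1, h2, h3, hq, hqc, hfp, ⟨eF⟩⟩ :=
    ConsMod.exists_model_pair_cone D c (LimModel.fgIsLimit A) f' F hF
  haveI : LocallyOfFinitePresentation (f₀ ≫ 𝟙 (D.obj j)) := by rw [Category.comp_id]; exact h1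
  haveI : QuasiCompact (f₀ ≫ 𝟙 (D.obj j)) := by rw [Category.comp_id]; exact h2
  haveI : QuasiSeparated (f₀ ≫ 𝟙 (D.obj j)) := by rw [Category.comp_id]; exact h3
  haveI := h1
  haveI : CompactSpace X₀ := QuasiCompact.compactSpace_of_compactSpace f₀
  have hY : IsPullback (c.π.app j) (𝟙 c.pt) (𝟙 (D.obj j)) (c.π.app j) := IsPullback.id_vert _
  let hc' := LimDesc.isPullback_comp D (𝟙 (D.obj j)) c hY f₀ hq
  haveI : ∀ k, IsIso (LimDesc.toStage D (𝟙 (D.obj j)) k) := fun k =>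
    (LimDesc.isPullback_stage D (𝟙 (D.obj j)) k).isIso_snd_of_isIso
  let qk (k : Over j) := LimDesc.proj D (f₀ ≫ 𝟙 (D.obj j)) c hc' k
  let Fk (k : Over j) := (Scheme.Modules.pullback (LimDesc.toBase D (f₀ ≫ 𝟙 (D.obj j)) k)).obj F₀
  have hlft (k : Over j) : LocallyOfFiniteType (LimDesc.toStage D (f₀ ≫ 𝟙 (D.obj j)) k) := by
    haveI : LocallyOfFinitePresentation (LimDesc.toStage D (f₀ ≫ 𝟙 (D.obj j)) k) :=
      MorphismProperty.of_isPullback (P := @LocallyOfFinitePresentation) (LimDesc.isPullback_stage D _ k) ‹_›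
    infer_instance
  have hqck (k : Over j) : QuasiCompact (LimDesc.toStage D (f₀ ≫ 𝟙 (D.obj j)) k) :=
    MorphismProperty.of_isPullback (P := @QuasiCompact) (LimDesc.isPullback_stage D _ k) ‹_›
  have hcoh (k : Over j) : Coh.IsCoh (Fk k) :=
    QC.isCoh_pullback _ (⟨hqc, ModDesc.isFT_of_isFP hfp⟩ : Coh.IsCoh F₀)
  have hpk (k : Over j) : IsPullback (qk k) f (LimDesc.toStage D (f₀ ≫ 𝟙 (D.obj j)) k) (c.π.app k.left) := by
    have hp : IsPullback (qk k) (f' ≫ 𝟙 c.pt) (LimDesc.toStage D (f₀ ≫ 𝟙 (D.obj j)) k) (c.π.app k.left) :=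
      LimDesc.isPullback_proj _ _ _ _ _
    rw [Category.comp_id f'] at hp
    exact hp
  let ek (k : Over j) : (Scheme.Modules.pullback (qk k)).obj (Fk k) ≅ F :=
    (ModDesc.trIso (qk k) _ (LimDesc.proj_toBase D _ c hc' k)).app F₀ ≪≫ eF
  constructor
  · intro hx
    haveI := ‹Coh.IsQCoh F›
    obtain ⟨W, hW, hxW, hWsub⟩ := exists_isAffineOpen_mem_and_subset (X := X) (x := x)
      (U := ⟨_, InjFibre.isOpen_setOf_isFlatOverAt f F inferInstance hF⟩) hx
    obtain ⟨k, hk⟩ := FlatLimMod.exists_isFlatOverAt_stage D c (LimModel.fgIsLimit A) f₀ (𝟙 (D.obj j)) hY hq F₀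
      hqc hfp W hxW hW.isCompact fun y hy => FlatLimMod.isFlatOverAt_of_iso f eF.symm (hWsub hy)
    exact ⟨k.left.unop.1, k.left.unop.2, _, LimDesc.toStage D (f₀ ≫ 𝟙 (D.obj j)) k, hlft k, hqck k, Fk k, hcoh k,
      qk k, hpk k, ek k,
      FlatLimMod.isFlatOverAt_comp_iso _ (LimDesc.toStage D (𝟙 (D.obj j)) k)
        (LimDesc.stageMap_toStage D _ f₀ k) _ hk⟩
  · intro hflat
    obtain ⟨k, hk⟩ := FlatLimMod.exists_isFlatOver_stage D c (LimModel.fgIsLimit A) f₀ (𝟙 (D.obj j)) hY hq F₀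
      hqc hfp fun y => FlatLimMod.isFlatOverAt_of_iso f eF.symm (hflat y)
    exact ⟨k.left.unop.1, k.left.unop.2, _, LimDesc.toStage D (f₀ ≫ 𝟙 (D.obj j)) k, hlft k, hqck k, Fk k, hcoh k,
      qk k, hpk k, ek k, fun y =>
      FlatLimMod.isFlatOverAt_comp_iso _ (LimDesc.toStage D (𝟙 (D.obj j)) k)
        (LimDesc.stageMap_toStage D _ f₀ k) _ (hk y)⟩

end Groth.Agent.S4867
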