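import Groth.Statements.S4869
import Groth.Agent.GrFlatColim.Main
import Groth.Agent.RingModel.Basic

set_option autoImplicit false
universe u
open TensorProduct
open EGA43

namespace Groth.Agent.S4869

open MvPolynomial Groth.Agent.FlatSpread Groth.Agent.GrFlatColim

/-- finitely many polynomial data are defined over a subring of finite type over `ℤ` -/
theorem exists_descent {A₀ : Type u} [CommRing A₀] {σ ι : Type} [Finite ι]
    (W : Submodule (MvPolynomial σ A₀) (ι → MvPolynomial σ A₀)) (hW : W.FG) (J : Ideal (MvPolynomial σ A₀)) (hJ : J.FG) :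
    ∃ C : Subalgebra ℤ A₀, C.FG ∧ ∃ (W' : Submodule (MvPolynomial σ C) (ι → MvPolynomial σ C))
      (J' : Ideal (MvPolynomial σ C)),
      ext C.val.toRingHom W' = W ∧ J'.map (MvPolynomial.map C.val.toRingHom) = J := by
  classical
  haveI := Fintype.ofFinite ι
  obtain ⟨S, rfl⟩ := hW
  obtain ⟨T, rfl⟩ := hJ
  let F : Finset A₀ := (T ∪ (S ×ˢ (Finset.univ : Finset ι)).image fun wi => wi.1 wi.2).biUnion fun p => p.coeffs
  let C := Algebra.adjoin ℤ (F : Set A₀)
  have h : ∀ p ∈ T ∪ (S ×ˢ (Finset.univ : Finset ι)).image (fun wi => wi.1 wi.2),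
      ∃ q : MvPolynomial σ C, MvPolynomial.map C.val.toRingHom q = p := fun p hp =>
    MvPolynomial.mem_range_map_iff_coeffs_subset.2 fun c hc =>
      ⟨⟨c, Algebra.subset_adjoin (Finset.mem_biUnion.2 ⟨p, hp, hc⟩)⟩, rfl⟩
  choose s hs using fun (w : {w // w ∈ S}) (i : ι) => h (w.1 i) (Finset.mem_union_right _
    (Finset.mem_image.2 ⟨(w.1, i), Finset.mem_product.2 ⟨w.2, Finset.mem_univ i⟩, rfl⟩))
  choose t ht using fun (p : {p // p ∈ T}) => h p.1 (Finset.mem_union_left _ p.2)
  refine ⟨C, ⟨F, rfl⟩, Submodule.span _ (Set.range s), Ideal.span (Set.range t), ?_, ?_⟩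
  · have hsw : ∀ w, kL C.val.toRingHom (s w) = w.1 := fun w => funext fun i => hs w i
    rw [ext_span, ← Set.range_comp]
    refine congrArg (Submodule.span _) (Set.ext fun x => ?_)
    constructor
    · rintro ⟨w, rfl⟩
      rw [Function.comp_apply, hsw]
      exact w.2
    · intro hx
      exact ⟨⟨x, hx⟩, hsw _⟩
  · rw [Ideal.map_span, ← Set.range_comp]
    refine congrArg Ideal.span (Set.ext fun x => ?_)
    constructor
    · rintro ⟨w, rfl⟩
      rw [Function.comp_apply, ht]
      exact w.2
    · intro hx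
      exact ⟨⟨x, hx⟩, ht _⟩

/-- Let A₀ be a commutative ring, (A_i) a directed system of A₀-algebras with colimit A, B₀ a finitely
presented A₀-algebra, J₀ a finitely generated ideal of B₀ and M₀ a finitely presented B₀-module; put
M = A ⊗_{A₀} M₀ and J = J₀B, and likewise M_i, J_i over each A_i. Then the associated graded module
gr_J(M) = ⊕_k J^k M / J^{k+1} M is flat over A if and only if, for some index i, gr_{J_i}(M_i) is
flat over A_i. Flatness of the graded module is expressed through the equivalent condition that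
every truncation M / J^k M (k ≥ 0) is flat (the pieces J^k M / J^{k+1} M are the kernels of the
surjections M / J^{k+1} M → M / J^k M), and J^k M is realised as the image of A ⊗_{A₀} J₀^k M₀ in A
⊗_{A₀} M₀. (The published statement also asserts that the canonical maps from gr_{J_i}(M_i) ⊗_{A_i}
A to gr_J(M) are then bijective; this row states only the equivalence.) -/
theorem result {A₀ : Type u} [CommRing A₀]
    {ι : Type u} [Preorder ι] (G : ι → Type u) [∀ i, CommRing (G i)] [∀ i, Algebra A₀ (G i)]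
    (g : ∀ i j, i ≤ j → G i →ₐ[A₀] G j)
    (A : Type u) [CommRing A] [Algebra A₀ A] [∀ i, Algebra (G i) A] [∀ i, IsScalarTower A₀ (G i) A]
    (hcolim : FlatCA.IsDirectedColimitRing G (fun i j h => (g i j h).toRingHom) A)
    {B₀ : Type u} [CommRing B₀] [Algebra A₀ B₀] [Algebra.FinitePresentation A₀ B₀]
    (J₀ : Ideal B₀) (hJ₀ : J₀.FG)
    (M₀ : Type u) [AddCommGroup M₀] [Module B₀ M₀] [Module A₀ M₀] [IsScalarTower A₀ B₀ M₀]
    [Module.FinitePresentation B₀ M₀] :
    (∀ k : ℕ, Module.Flat A ((A ⊗[A₀] M₀) ⧸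
        LinearMap.range (((J₀ ^ k • (⊤ : Submodule B₀ M₀)).restrictScalars A₀).subtype.baseChange A))) ↔
      ∃ i : ι, ∀ k : ℕ, Module.Flat (G i) ((G i ⊗[A₀] M₀) ⧸
        LinearMap.range (((J₀ ^ k • (⊤ : Submodule B₀ M₀)).restrictScalars A₀).subtype.baseChange (G i))) := by
  classical
  obtain ⟨n, m, π, hπ, -, W, hW, ⟨e⟩⟩ := exists_presentation (R := A₀) (S := B₀) (M := M₀)
  let P := MvPolynomial (Fin n) A₀
  letI : Algebra P B₀ := π.toRingHom.toAlgebra
  letI : Module P M₀ := Module.compHom M₀ π.toRingHom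
  haveI : IsScalarTower A₀ P M₀ := ⟨fun r p x => by
    change π (r • p) • x = r • π p • x
    rw [map_smul, smul_assoc]⟩
  haveI : IsScalarTower P B₀ M₀ := ⟨fun p b x => by
    change (π p * b) • x = π p • b • x
    rw [mul_smul]⟩
  obtain ⟨S, hS⟩ := hJ₀
  choose t ht using fun b : B₀ => hπ b
  let J : Ideal P := Ideal.span (t '' (S : Set B₀))
  have hJ : J.map π.toRingHom = J₀ := by
    rw [Ideal.map_span, Set.image_image, ← hS]
    congr 1
    ext b
    simp [ht]
  have hJfg : J.FG := ⟨S.image t, by rw [Finset.coe_image]⟩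
  let π₀ : (Fin m → P) →ₗ[P] M₀ := e.toLinearMap.comp W.mkQ
  have hg : Function.Surjective π₀ := e.surjective.comp W.mkQ_surjective
  have hX : ∀ k, (U W J k).restrictScalars A₀ =
      ((J₀ ^ k • (⊤ : Submodule B₀ M₀)).restrictScalars A₀).comap (π₀.restrictScalars A₀) := by
    intro k
    have h1 : (J₀ ^ k • (⊤ : Submodule B₀ M₀)).restrictScalars P = J ^ k • (⊤ : Submodule P M₀) := by
      rw [← hJ, ← Ideal.map_pow]
      exact (Ideal.smul_restrictScalars _ _).trans (by rw [Submodule.restrictScalars_top])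
    have hker : LinearMap.ker π₀ = W := by
      rw [LinearMap.ker_comp, LinearEquiv.ker, Submodule.comap_bot, Submodule.ker_mkQ]
    have h2 : U W J k = (J ^ k • (⊤ : Submodule P M₀)).comap π₀ := by
      rw [show (J ^ k • (⊤ : Submodule P M₀)) = (J ^ k • (⊤ : Submodule P (Fin m → P))).map π₀ by
        rw [Submodule.map_smul'', Submodule.map_top, LinearMap.range_eq_top.2 hg], Submodule.comap_map_eq, hker,
        sup_comm]
    rw [h2, ← h1]
    rfl
  have htr : ∀ (A' : Type u) [CommRing A'] [Algebra A₀ A'] (k : ℕ), Module.Flat A' ((A' ⊗[A₀] M₀) ⧸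
      LinearMap.range (((J₀ ^ k • (⊤ : Submodule B₀ M₀)).restrictScalars A₀).subtype.baseChange A')) ↔
      Fl (⊥ : Ideal A') (⊥ : Submonoid (MvPolynomial (Fin n) A')) (ext (algebraMap A₀ A') (U W J k)) :=
    fun A' _ _ k => flat_trunc_iff (U W J k) (π₀.restrictScalars A₀) hg _ (hX k)
  obtain ⟨hd, hne, -, -, h5, h6, h7⟩ := hcolim
  constructor
  · intro h
    obtain ⟨C, hC, W', J', hW', hJ'⟩ := exists_descent W hW J hJfg
    haveI : Algebra.FiniteType ℤ C := C.fg_iff_finiteType.1 hC
    haveI : IsNoetherianRing C := Algebra.FiniteType.isNoetherianRing ℤ C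
    have hU : ∀ k, ext C.val.toRingHom (U W' J' k) = U W J k := fun k => by rw [ext_U, hW', hJ']
    have halg : algebraMap C A = (algebraMap A₀ A).comp C.val.toRingHom := rfl
    obtain ⟨D, hD, hfl⟩ := exists_fg_fl (R := C) (A := A) W' J' fun k => by
      rw [halg, ← ext_ext, hU]
      exact (htr A k).1 (h k)
    haveI : Algebra.FiniteType C D := D.fg_iff_finiteType.1 hD
    haveI : Algebra.FiniteType ℤ D := Algebra.FiniteType.trans (S := C) inferInstance inferInstance
    obtain ⟨j, χ, hχ⟩ := Groth.Agent.RingModel.exists_ringHom_lift G (fun i => algebraMap (G i) A)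
      (fun s => by
        induction s using Finset.induction with
        | empty => exact ⟨hne.some, fun a ha => absurd ha (Finset.notMem_empty a)⟩
        | insert a s _ ih =>
          obtain ⟨i, hi⟩ := ih
          obtain ⟨i', y, hy⟩ := h6 a
          obtain ⟨k, hik, hi'k⟩ := hd.directed i i'
          refine ⟨k, fun b hb => ?_⟩
          rcases Finset.mem_insert.1 hb with rfl | hb
          · exact ⟨g i' k hi'k y, (RingHom.congr_fun (h5 i' k hi'k) y).trans hy⟩
          · obtain ⟨z, hz⟩ := hi b hb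
            exact ⟨g i k hik z, (RingHom.congr_fun (h5 i k hik) z).trans hz⟩)
      (fun i y hy => by
        obtain ⟨k, hik, hk⟩ := h7 i y hy
        exact ⟨k, (g i k hik).toRingHom, h5 i k hik, hk⟩) D.val.toRingHom
    let a : C →+* G j := χ.comp (algebraMap C D)
    let b : C →+* G j := (algebraMap A₀ (G j)).comp C.val.toRingHom
    have hab : ∀ x, algebraMap (G j) A (a x) = algebraMap (G j) A (b x) := fun x => by
      show ((algebraMap (G j) A).comp χ) (algebraMap C D x) = _
      rw [hχ]
      exact IsScalarTower.algebraMap_apply A₀ (G j) A (x : A₀)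
    obtain ⟨T, hT⟩ := (inferInstance : Algebra.FiniteType ℤ C).out
    have heq : ∀ T : Finset C, ∃ (k : ι) (θ : G j →+* G k), (algebraMap (G k) A).comp θ = algebraMap (G j) A ∧
        θ.comp (algebraMap A₀ (G j)) = algebraMap A₀ (G k) ∧ ∀ x ∈ T, θ (a x) = θ (b x) := by
      intro T
      induction T using Finset.induction with
      | empty => exact ⟨j, RingHom.id _, rfl, rfl, fun x hx => absurd hx (Finset.notMem_empty x)⟩
      | insert x T _ ih =>
        obtain ⟨k, θ, h1, h2, h3⟩ := ih
        obtain ⟨l, hkl, hl⟩ := h7 k (θ (a x) - θ (b x)) (by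
          rw [map_sub, ← RingHom.comp_apply, h1, ← RingHom.comp_apply _ θ, h1, hab, sub_self])
        refine ⟨l, (g k l hkl).toRingHom.comp θ, by rw [← RingHom.comp_assoc, h5 k l hkl, h1], ?_, fun z hz => ?_⟩
        · rw [RingHom.comp_assoc, h2]
          exact RingHom.ext fun r => (g k l hkl).commutes r
        · rcases Finset.mem_insert.1 hz with rfl | hz
          · rw [map_sub, sub_eq_zero] at hl; exact hl
          · exact congrArg (g k l hkl).toRingHom (h3 z hz)
    obtain ⟨k, θ, -, hθ, hθT⟩ := heq T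
    have hext : θ.comp a = θ.comp b := by
      refine RingHom.ext fun x => ?_
      have hle : Algebra.adjoin ℤ (T : Set C) ≤ AlgHom.equalizer (θ.comp a).toIntAlgHom (θ.comp b).toIntAlgHom :=
        Algebra.adjoin_le fun y hy => hθT y hy
      exact hle (hT ▸ Algebra.mem_top : x ∈ Algebra.adjoin ℤ (T : Set C))
    refine ⟨k, fun q => (htr (G k) q).2 ?_⟩
    have hq := (hfl q).baseChange (θ.comp χ) (G' := (⊥ : Submonoid _)) (by
      intro x hx
      rw [Submonoid.mem_bot] at hx ⊢
      rw [hx, map_one])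
    rw [Ideal.map_bot, ext_ext, RingHom.comp_assoc] at hq
    change Fl _ _ (ext (θ.comp a) _) at hq
    rw [hext] at hq
    rw [← hθ, ← hU q, ext_ext, RingHom.comp_assoc]
    exact hq
  · rintro ⟨i, hi⟩ k
    refine (htr A k).2 ?_
    have := ((htr (G i) k).1 (hi k)).baseChange (algebraMap (G i) A) (G' := (⊥ : Submonoid _)) (by
      intro x hx
      rw [Submonoid.mem_bot] at hx ⊢
      rw [hx, map_one])
    rwa [Ideal.map_bot, ext_ext, ← IsScalarTower.algebraMap_eq] at this

end Groth.Agent.S4869
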