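import Groth.Statements.S4872
import Mathlib.AlgebraicGeometry.AffineSpace


set_option autoImplicit false
universe u
open CategoryTheory AlgebraicGeometry
open EGA43 CategoryTheory AlgebraicGeometry CategoryTheory.Limits

namespace Groth.Agent.S4872

/-- Conditions b), c), d) (schematically dominant families): let p : X ⟶ S be a morphism and (f_i : Z_i
⟶ X) a family of morphisms. The following are equivalent: b) for every open V of X, a section of O_X
over V whose images in all the Γ(f_i⁻¹(V), O_{Z_i}) are zero is zero; c) for every open U of X, a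
closed immersion j : Y ⟶ U through which each restriction f_i⁻¹(U) ⟶ U factors is an isomorphism; d)
for every separated S-scheme X', every open U of X and every pair of S-morphisms u, v : U ⟶ X'
having the same composite with each f_i⁻¹(U) ⟶ U, one has u = v. -/
theorem result {X S : Scheme.{u}} (p : X ⟶ S) {ι : Type u} (Z : ι → Scheme.{u})
    (f : ∀ i, Z i ⟶ X) :
    [(∀ (V : (X).Opens) (t : Γ(X, V)), (∀ i, (f i).app V t = 0) → t = 0),
      ∀ (U : X.Opens) (Y : Scheme.{u}) (j : Y ⟶ (U : Scheme.{u})), IsClosedImmersion j →
        (∀ i, ∃ g : ((f i) ⁻¹ᵁ U : Scheme.{u}) ⟶ Y, g ≫ j = (f i) ∣_ U) → IsIso j,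
      ∀ (X' : Scheme.{u}) (q : X' ⟶ S), IsSeparated q → ∀ (U : X.Opens) (u v : (U : Scheme.{u}) ⟶ X'),
        u ≫ q = U.ι ≫ p → v ≫ q = U.ι ≫ p → (∀ i, ((f i) ∣_ U) ≫ u = ((f i) ∣_ U) ≫ v) → u = v].TFAE := by
  tfae_have 1 → 2 := by
    intro h U Y j hj hfac
    rw [IsClosedImmersion.isIso_iff_ker_eq_bot]
    refine Scheme.IdealSheafData.ext ?_
    funext W
    rw [Scheme.Hom.ker_apply, Scheme.IdealSheafData.ideal_bot, Pi.bot_apply, eq_bot_iff]
    intro t ht
    have ht' : (j.app W.1).hom t = 0 := ht
    refine h (U.ι ''ᵁ W.1) t fun i => ?_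
    obtain ⟨g, hg⟩ := hfac i
    have h1 : (((f i) ∣_ U).app W.1).hom t = 0 := by
      rw [← hg, Scheme.Hom.comp_app]
      exact (congrArg (g.app (j ⁻¹ᵁ W.1)).hom ht').trans (map_zero (g.app (j ⁻¹ᵁ W.1)).hom)
    rw [morphismRestrict_app] at h1
    exact (ConcreteCategory.bijective_of_isIso
      ((Z i).presheaf.map (eqToHom (image_morphismRestrict_preimage (f i) U W.1)).op)).1
        (h1.trans (map_zero _).symm)
  tfae_have 2 → 3 := by
    intro h X' q hq U u v hu hv huv
    let uv := pullback.lift u v (hu.trans hv.symm)
    let j := pullback.fst uv (pullback.diagonal q)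
    have hj : IsClosedImmersion j := inferInstance
    have hi : IsIso j := h U _ j hj fun i => by
      refine ⟨pullback.lift ((f i) ∣_ U) (((f i) ∣_ U) ≫ u) ?_, pullback.lift_fst _ _ _⟩
      apply pullback.hom_ext
      · simp only [uv, Category.assoc, pullback.diagonal_fst, Category.comp_id]
        erw [pullback.lift_fst]
      · simp only [uv, Category.assoc, pullback.diagonal_snd, Category.comp_id]
        erw [pullback.lift_snd]
        exact (huv i).symm
    have hc : j ≫ uv = pullback.snd uv (pullback.diagonal q) ≫ pullback.diagonal q :=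
      pullback.condition
    have h1 := congrArg (· ≫ pullback.fst q q) hc
    have h2 := congrArg (· ≫ pullback.snd q q) hc
    simp only [Category.assoc, uv, pullback.diagonal_fst, pullback.diagonal_snd, Category.comp_id] at h1 h2
    erw [pullback.lift_fst] at h1
    erw [pullback.lift_snd] at h2
    exact (cancel_epi j).mp (h1.trans h2.symm)
  tfae_have 3 → 1 := by
    intro h V t ht
    let n : Type u := PUnit
    let q := AffineSpace n S ↘ S
    have hq : IsSeparated q := inferInstance
    let s : Γ(V.toScheme, ⊤) := (X.presheaf.map (eqToHom (V.ι_image_top)).op).hom t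
    let u₀ : V.toScheme ⟶ AffineSpace n S := AffineSpace.homOfVector (V.ι ≫ p) fun _ => s
    let v₀ : V.toScheme ⟶ AffineSpace n S := AffineSpace.homOfVector (V.ι ≫ p) fun _ => 0
    have huv : u₀ = v₀ := h _ q hq V u₀ v₀ (AffineSpace.homOfVector_over _ _)
      (AffineSpace.homOfVector_over _ _) fun i => by
        have hs : ((f i) ∣_ V).appTop.hom s = 0 := by
          have h0 := ht i
          show (((f i) ∣_ V).app ⊤).hom s = 0
          rw [morphismRestrict_app]
          show ((Z i).presheaf.map _).hom (((f i).app (V.ι ''ᵁ ⊤)).hom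
            ((X.presheaf.map (eqToHom (V.ι_image_top)).op).hom t)) = 0
          rw [← CommRingCat.comp_apply (X.presheaf.map _) ((f i).app _), (f i).naturality,
            CommRingCat.comp_apply, h0, map_zero, map_zero]
        simp only [u₀, v₀, AffineSpace.comp_homOfVector]
        congr 1
        funext a
        simp only [Function.comp_apply]
        rw [hs, map_zero]
    have hs0 : s = 0 := by
      have := congrArg (fun w : V.toScheme ⟶ AffineSpace n S =>
        w.appTop (AffineSpace.coord S PUnit.unit)) huv
      simpa [u₀, v₀] using this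
    exact (ConcreteCategory.bijective_of_isIso (X.presheaf.map (eqToHom (V.ι_image_top)).op)).1
      (hs0.trans (map_zero _).symm)
  tfae_finish

end Groth.Agent.S4872
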