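import Groth.Statements.S4873
import Mathlib

set_option autoImplicit false
set_option linter.style.haveILetI false
set_option backward.isDefEq.respectTransparency false
universe u
open CategoryTheory AlgebraicGeometry
open EGA43


namespace Groth.Agent.S4873

/-- Let (f_i : Z_i ⟶ X) be a family of morphisms. If the family is schematically dominant, i.e. a
section of O_X over an open V whose pullback to every f_i⁻¹(V) vanishes is zero, then the union of
the images f_i(Z_i) is dense in X. Conversely, if X is reduced and this union is dense, the family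
is schematically dominant. -/
theorem result {X : Scheme.{u}} {ι : Type u} (Z : ι → Scheme.{u})
    (f : ∀ i, Z i ⟶ X) :
    ((∀ (V : (X).Opens) (t : Γ(X, V)), (∀ i, (f i).app V t = 0) → t = 0) → Dense (⋃ i, Set.range (f i))) ∧
    (IsReduced X → Dense (⋃ i, Set.range (f i)) → (∀ (V : (X).Opens) (t : Γ(X, V)), (∀ i, (f i).app V t = 0) → t = 0)) := by
  constructor
  · intro h
    rw [dense_iff_inter_open]
    rintro V hV ⟨x, hx⟩
    by_contra hne
    have hdis : ∀ (i : ι) (z : Z i), f i z ∉ V := fun i z hz => hne ⟨f i z, hz, Set.mem_iUnion.2 ⟨i, z, rfl⟩⟩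
    have h1 : (1 : Γ(X, ⟨V, hV⟩)) = 0 := h ⟨V, hV⟩ 1 fun i => by
      have hb : f i ⁻¹ᵁ ⟨V, hV⟩ = ⊥ := eq_bot_iff.2 fun z hz => (hdis i z hz).elim
      haveI : Subsingleton Γ(Z i, f i ⁻¹ᵁ ⟨V, hV⟩) := by rw [hb]; infer_instance
      exact Subsingleton.elim _ _
    have h2 : x ∈ X.basicOpen (1 : Γ(X, ⟨V, hV⟩)) := by
      rw [Scheme.mem_basicOpen _ _ x hx, map_one]; exact isUnit_one
    rw [h1, Scheme.basicOpen_zero] at h2
    exact h2
  · intro hred hdense V t ht
    refine (basicOpen_eq_bot_iff t).1 (eq_bot_iff.2 fun x hx => ?_)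
    obtain ⟨y, hy, hy'⟩ := hdense.inter_open_nonempty _ (X.basicOpen t).isOpen ⟨x, hx⟩
    obtain ⟨i, z, rfl⟩ := Set.mem_iUnion.1 hy'
    have h3 : z ∈ f i ⁻¹ᵁ X.basicOpen t := hy
    rw [Scheme.preimage_basicOpen, ht i, Scheme.basicOpen_zero] at h3
    exact h3.elim

end Groth.Agent.S4873
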