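import Groth.Statements.S4874
import Mathlib

set_option autoImplicit false
set_option linter.style.haveILetI false
set_option backward.isDefEq.respectTransparency false
universe u
open CategoryTheory AlgebraicGeometry
open EGA43


namespace Groth.Agent.S4874

/-- Let (f_i : Z_i ⟶ X) be a family of morphisms, g : X' ⟶ X a faithfully flat morphism and f'_i : Z_i
×_X X' ⟶ X' the base changes. If the family (f'_i) is schematically dominant, then so is the family
(f_i). (Schematically dominant: a section of the structure sheaf over an open whose pullback along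
every member of the family vanishes is zero.) -/
theorem result {X X' : Scheme.{u}} {ι : Type u} (Z : ι → Scheme.{u})
    (f : ∀ i, Z i ⟶ X) (g : X' ⟶ X) [Flat g] [Surjective g]
    (h : (∀ (V : (X').Opens) (t : Γ(X', V)), (∀ i, (Limits.pullback.snd (f i) g).app V t = 0) → t = 0)) :
    (∀ (V : (X).Opens) (t : Γ(X, V)), (∀ i, (f i).app V t = 0) → t = 0) := by
  intro V t ht
  have h0 : g.app V t = 0 := h _ _ fun i => by
    have hw : Limits.pullback.fst (f i) g ≫ f i = Limits.pullback.snd (f i) g ≫ g := Limits.pullback.condition
    have := Scheme.Hom.congr_app hw V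
    have h1 := congr($(this).hom t)
    simp only [Scheme.Hom.comp_app, CommRingCat.hom_comp, RingHom.coe_comp, Function.comp_apply] at h1
    rw [show ((f i).app V).hom t = 0 from ht i, map_zero] at h1
    refine (ConcreteCategory.bijective_of_isIso
      ((Limits.pullback (f i) g).presheaf.map (eqToHom (congrArg (fun φ => φ ⁻¹ᵁ V) hw)).op)).1 ?_
    exact h1.symm.trans (map_zero _).symm
  refine TopCat.Presheaf.section_ext X.sheaf V t 0 fun x hx => ?_
  obtain ⟨x', rfl⟩ := g.surjective x
  have hinj : Function.Injective (g.stalkMap x').hom := by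
    algebraize [(g.stalkMap x').hom]
    have : Module.FaithfullyFlat (X.presheaf.stalk (g x')) (X'.presheaf.stalk x') :=
      @Module.FaithfullyFlat.of_flat_of_isLocalHom _ _ _ _ _ _ _ (Flat.stalkMap g x') (g.toLRSHom.prop x')
    exact ‹RingHom.FaithfullyFlat _›.injective
  apply hinj
  change (g.stalkMap x') (X.presheaf.germ V (g x') hx t) = (g.stalkMap x') (X.presheaf.germ V (g x') hx 0)
  rw [Scheme.Hom.germ_stalkMap_apply, map_zero (X.presheaf.germ V (g x') hx).hom, map_zero]
  exact (congrArg _ h0).trans (map_zero _)

end Groth.Agent.S4874
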