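import Groth.Statements.S4876
import Groth.Agent.SepFam.Mor
import Groth.Agent.SepFam.Mod
import Groth.Agent.SepFam.Residue

set_option autoImplicit false
set_option linter.style.haveILetI false
set_option backward.isDefEq.respectTransparency false
set_option maxHeartbeats 1000000
universe u
open CategoryTheory AlgebraicGeometry
open EGA43
open Groth.Agent

namespace Groth.Agent.S4876

/-- Let p : X ⟶ S be a morphism with X locally Noetherian and (f_i : Z_i ⟶ X) a family of morphisms with
every Z_i flat over S. Then the family (f_i) is universally schematically dominant relative to S,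
i.e. for every base change S' ⟶ S the family Z_i ×_S S' ⟶ X ×_S S' is schematically dominant, if and
only if for every point s of S the family of fibres (Z_i)_s ⟶ X_s is schematically dominant.
(Schematically dominant: a section of the structure sheaf over an open whose pullback along every
member vanishes is zero.) -/
theorem result {X S : Scheme.{u}} [IsLocallyNoetherian X]
    (p : X ⟶ S) {ι : Type u} (Z : ι → Scheme.{u}) (f : ∀ i, Z i ⟶ X) [∀ i, Flat (f i ≫ p)] :
    (∀ (S' : Scheme.{u}) (g : S' ⟶ S),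
      (∀ (V : (Limits.pullback p g).Opens) (t : Γ(Limits.pullback p g, V)), (∀ i, (Limits.pullback.map (f i ≫ p) g p g (f i) (𝟙 S') (𝟙 S) (Category.comp_id _) ((Category.comp_id _).trans (Category.id_comp _).symm)).app V t = 0) → t = 0)) ↔
    ∀ s : S, (∀ (V : (p.fiber s).Opens) (t : Γ(p.fiber s, V)), (∀ i, (MoreMor.fiberMap (f i) p s).app V t = 0) → t = 0) := by
  classical
  have hfib : ∀ (s : S) i, MoreMor.fiberMap (f i) p s = Limits.pullback.map (f i ≫ p) (S.fromSpecResidueField s) p
      (S.fromSpecResidueField s) (f i) (𝟙 _) (𝟙 S) (Category.comp_id _) ((Category.comp_id _).trans (Category.id_comp _).symm) := fun s i => by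
    apply Limits.pullback.hom_ext
    · exact (Limits.pullback.lift_fst _ _ _).trans (Limits.pullback.lift_fst _ _ _).symm
    · refine (Limits.pullback.lift_snd _ _ _).trans ?_
      refine Eq.trans ?_ (Limits.pullback.lift_snd _ _ _).symm
      exact (Category.comp_id _).symm
  refine ⟨fun h s V t ht => h _ (S.fromSpecResidueField s) V t fun i => ?_, fun h S' g => ?_⟩
  · have := ht i
    rw [hfib] at this
    exact this
  refine SepFam.sepMor_of_cover _ fun x => ?_
  obtain ⟨V, hV, U, hU, hUV, O, hO, hOV, hx⟩ := SepFam.exists_chart (Limits.pullback.condition (f := p) (g := g)) x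
  have hsq : ∀ {T : Scheme.{u}} (t : T ⟶ S) i, IsPullback (Limits.pullback.fst (f i ≫ p) t)
      (Limits.pullback.map (f i ≫ p) t p t (f i) (𝟙 T) (𝟙 _) (Category.comp_id _) ((Category.comp_id _).trans (Category.id_comp _).symm))
      (f i) (Limits.pullback.fst p t) := fun {T} t i => SepFam.isPullback_map p t (f i) _ (by simp) (by simp)
  obtain ⟨hW, hWj, hiff⟩ := SepFam.piece_iff_mor f (IsPullback.of_hasPullback p g) _ _ (hsq g) hV hU hUV hO hOV
  refine ⟨_, hW, hx, _, _, _, _, hWj, hiff.2 ?_⟩
  letI : Algebra Γ(S, V) Γ(X, U) := (p.appLE V U hUV).hom.toAlgebra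
  letI : Algebra Γ(S, V) Γ(S', O) := (g.appLE V O hOV).hom.toAlgebra
  letI := fun j : SepFam.Piece f U => SepFam.pieceAlg f j.2.2.2
  letI : ∀ j : SepFam.Piece f U, Algebra Γ(S, V) Γ(Z j.1, j.2.1) := fun j =>
    ((algebraMap Γ(X, U) Γ(Z j.1, j.2.1)).comp (algebraMap Γ(S, V) Γ(X, U))).toAlgebra
  haveI : ∀ j : SepFam.Piece f U, IsScalarTower Γ(S, V) Γ(X, U) Γ(Z j.1, j.2.1) := fun j =>
    IsScalarTower.of_algebraMap_eq fun _ => rfl
  haveI : ∀ j : SepFam.Piece f U, Module.Flat Γ(S, V) Γ(Z j.1, j.2.1) := fun j => by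
    refine RingHom.flat_algebraMap_iff.1 ?_
    have h1 := Flat.flat_appLE (f j.1 ≫ p) hV j.2.2.1 (e := j.2.2.2.trans ((f j.1).preimage_mono hUV))
    rw [← Scheme.Hom.appLE_comp_appLE (f j.1) p V U j.2.1 hUV j.2.2.2] at h1
    exact h1
  haveI : IsNoetherianRing Γ(X, U) := IsLocallyNoetherian.component_noetherian ⟨U, hU⟩
  refine SepFam.sepBC_of_fibres (A := Γ(S, V)) _ (fun P _ => ?_) _
  obtain ⟨s, hs, θ, hθ⟩ := SepFam.exists_residue_alg hV P
  let gs := S.fromSpecResidueField s
  obtain ⟨hW', hWj', hiff'⟩ := SepFam.piece_iff_mor f (IsPullback.of_hasPullback p gs) _ _ (hsq gs)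
    hV hU hUV (isAffineOpen_top _) hs
  have hdom : SepFam.SepMor fun i => Limits.pullback.map (f i ≫ p) gs p gs (f i) (𝟙 _) (𝟙 S) (Category.comp_id _)
      ((Category.comp_id _).trans (Category.id_comp _).symm) := fun V t ht => h s V t fun i => by
    rw [hfib]; exact ht i
  letI : Algebra Γ(S, V) Γ(Spec (S.residueField s), ⊤) := (gs.appLE V ⊤ hs).hom.toAlgebra
  have h2 := hiff'.1 (SepFam.sepOn_of_sepMor _ _ _ _ hdom hW'
    (SepFam.piece_cover f (IsPullback.of_hasPullback p gs) _ _ (hsq gs) U ⊤))
  letI := (SepFam.isField_Γ_Spec (S.residueField s)).toField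
  letI : Algebra Γ(Spec (S.residueField s), ⊤) P.ResidueField := θ.toAlgebra
  haveI : IsScalarTower Γ(S, V) Γ(Spec (S.residueField s), ⊤) P.ResidueField :=
    IsScalarTower.of_algebraMap_eq fun a => (hθ a).symm
  exact SepFam.sepBC_field_ext _ h2

end Groth.Agent.S4876
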