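import Groth.Statements.S4877
import Groth.Agent.SepFam.Mor
import Groth.Agent.SepFam.Mod
import Groth.Agent.SepFam.Residue

set_option autoImplicit false
set_option linter.style.haveILetI false
set_option backward.isDefEq.respectTransparency false
set_option maxHeartbeats 1000000
universe u
open CategoryTheory AlgebraicGeometry
open EGA43
open Groth.Agent

namespace Groth.Agent.S4877

/-- Let k be a field, X a k-scheme, (f_i : Z_i ⟶ X) a schematically dominant family of morphisms and S'
an arbitrary k-scheme. Then the family of base changes Z_i ×_k S' ⟶ X ×_k S' is schematically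
dominant. (Schematically dominant: a section of the structure sheaf over an open whose pullback
along every member vanishes is zero.) -/
theorem result {k : Type u} [Field k] {X S' : Scheme.{u}}
    (p : X ⟶ Spec (CommRingCat.of k)) (q : S' ⟶ Spec (CommRingCat.of k))
    {ι : Type u} (Z : ι → Scheme.{u}) (f : ∀ i, Z i ⟶ X)
    (h : (∀ (V : (X).Opens) (t : Γ(X, V)), (∀ i, (f i).app V t = 0) → t = 0)) :
    (∀ (V : (Limits.pullback p q).Opens) (t : Γ(Limits.pullback p q, V)), (∀ i, (Limits.pullback.map (f i ≫ p) q p q (f i) (𝟙 S') (𝟙 _) (Category.comp_id _) ((Category.comp_id _).trans (Category.id_comp _).symm)).app V t = 0) → t = 0) := by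
  classical
  refine SepFam.sepMor_of_cover _ fun x => ?_
  obtain ⟨V, hV, U, hU, hUV, O, hO, hOV, hx⟩ := SepFam.exists_chart (Limits.pullback.condition (f := p) (g := q)) x
  have hVtop : V = ⊤ := by
    refine eq_top_iff.2 fun y _ => ?_
    have : Subsingleton (Spec (CommRingCat.of k)) := inferInstanceAs (Subsingleton (PrimeSpectrum k))
    exact Subsingleton.elim (p ((Limits.pullback.fst p q) x)) y ▸ (hUV hx.1)
  subst hVtop
  have hsq : ∀ i, IsPullback (Limits.pullback.fst (f i ≫ p) q)
      (Limits.pullback.map (f i ≫ p) q p q (f i) (𝟙 S') (𝟙 _) (Category.comp_id _) ((Category.comp_id _).trans (Category.id_comp _).symm))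
      (f i) (Limits.pullback.fst p q) := fun i => SepFam.isPullback_map p q (f i) _ (by simp) (by simp)
  obtain ⟨hW, hWj, hiff⟩ := SepFam.piece_iff_mor f (IsPullback.of_hasPullback p q) _ _ hsq hV hU hUV hO hOV
  refine ⟨_, hW, hx, _, _, _, _, hWj, hiff.2 ?_⟩
  letI := (p.appLE ⊤ U hUV).hom.toAlgebra
  letI := (q.appLE ⊤ O hOV).hom.toAlgebra
  letI := (SepFam.isField_Γ_Spec k).toField
  letI := fun j : SepFam.Piece f U => SepFam.pieceAlg f j.2.2.2
  exact SepFam.sepBC_over_field _ (SepFam.sepOn_of_sepMor f (fun j : SepFam.Piece f U => j.1) (fun j => j.2.1) (fun j => j.2.2.2) h hU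
    fun i z hz => by
      obtain ⟨W, hW, hzW, hWU⟩ := exists_isAffineOpen_mem_and_subset (X := Z i) (x := z) (U := f i ⁻¹ᵁ U) hz
      exact ⟨⟨i, W, hW, hWU⟩, rfl, hzW⟩) _

end Groth.Agent.S4877
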