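import Groth.Statements.S4878
import Mathlib

set_option autoImplicit false
universe u
open TensorProduct
open EGA43

namespace Groth.Agent.S4878

/-- Let A be a commutative ring, (u_i : M → M_i) a family of A-linear maps whose kernels have zero
intersection, and N a projective A-module. Then the kernels of the maps u_i ⊗ 1 : M ⊗_A N → M_i ⊗_A
N have zero intersection. -/
theorem result {A : Type u} [CommRing A]
    {M : Type u} [AddCommGroup M] [Module A M] {ι : Type u} (M' : ι → Type u)
    [∀ i, AddCommGroup (M' i)] [∀ i, Module A (M' i)] (u : ∀ i, M →ₗ[A] M' i)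
    (hu : ⨅ i, LinearMap.ker (u i) = ⊥)
    (N : Type u) [AddCommGroup N] [Module A N] [Module.Projective A N] :
    ⨅ i, LinearMap.ker ((u i).rTensor N) = ⊥ := by
  classical
  obtain ⟨s, hs⟩ := Module.projective_def.1 (inferInstance : Module.Projective A N)
  rw [eq_bot_iff]
  intro x hx
  rw [Submodule.mem_iInf] at hx
  let π : (N →₀ A) →ₗ[A] N := Finsupp.linearCombination A id
  have hπ : π ∘ₗ s = LinearMap.id := LinearMap.ext hs
  have hinj : Function.Injective (s.lTensor M) := by
    intro a b hab
    have := congrArg (π.lTensor M) hab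
    rwa [← LinearMap.comp_apply, ← LinearMap.comp_apply, ← LinearMap.lTensor_comp, hπ,
      LinearMap.lTensor_id, LinearMap.id_apply, LinearMap.id_apply] at this
  let e := TensorProduct.finsuppScalarRight A A M N
  have comm : ∀ (i : ι) (z : M ⊗[A] (N →₀ A)) (n : N),
      TensorProduct.finsuppScalarRight A A (M' i) N ((u i).rTensor (N →₀ A) z) n = u i (e z n) := by
    intro i z n
    induction z using TensorProduct.induction_on with
    | zero => simp
    | tmul m g => simp [e]
    | add a b ha hb => simp [map_add, ha, hb]
  have he : e (s.lTensor M x) = 0 := by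
    ext n
    have : e (s.lTensor M x) n ∈ ⨅ i, LinearMap.ker (u i) := by
      rw [Submodule.mem_iInf]
      intro i
      rw [LinearMap.mem_ker, ← comm]
      have h0 : (u i).rTensor (N →₀ A) (s.lTensor M x) = 0 := by
        have hx0 : (u i).rTensor N x = 0 := hx i
        rw [← LinearMap.comp_apply, LinearMap.rTensor_comp_lTensor, ← LinearMap.lTensor_comp_rTensor,
          LinearMap.comp_apply, hx0, map_zero]
      rw [h0, map_zero, Finsupp.zero_apply]
    rwa [hu, Submodule.mem_bot] at this
  rw [LinearEquiv.map_eq_zero_iff] at he
  rw [Submodule.mem_bot]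
  exact hinj (by rw [he, map_zero])

end Groth.Agent.S4878
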