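import Groth.Statements.S4880
import Mathlib
import Groth.Agent.GenComp.GenericOpen

set_option autoImplicit false
universe u
open CategoryTheory AlgebraicGeometry
open EGA43

namespace Groth.Agent.S4880

/-- For a Noetherian irreducible scheme X the following are equivalent: a) the generic point of X is an
isolated point; b) the underlying set of X is finite; c) X has dimension at most 1 and finitely many
closed points. -/
theorem result (X : Scheme.{u}) [IsNoetherian X]
    [IrreducibleSpace X] :
    [IsOpen ({genericPoint X} : Set X),
      Finite X,
      topologicalKrullDim X ≤ 1 ∧ {x : X | IsClosed ({x} : Set X)}.Finite].TFAE := by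
  have hclosedfin : ∀ s : Set X, s.Finite → (∀ y ∈ s, IsClosed ({y} : Set X)) → IsClosed s := by
    intro s hs h
    have := hs.isClosed_biUnion h
    rwa [Set.biUnion_of_singleton] at this
  tfae_have 1 → 3 := fun h => by
    obtain ⟨hfin, hcl⟩ := Groth.Agent.GenComp.finite_and_closed_of_open X h
    exact ⟨(Groth.Agent.GenComp.topologicalKrullDim_le_one_iff X).mpr hcl, Set.toFinite _⟩
  tfae_have 1 → 2 := fun h => (Groth.Agent.GenComp.finite_and_closed_of_open X h).1
  tfae_have 2 → 1 := fun h => by
    have : ({genericPoint X} : Set X) = (⋃ y ∈ {y : X | y ≠ genericPoint X}, closure {y})ᶜ := by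
      ext w
      simp only [Set.mem_singleton_iff, Set.mem_compl_iff, Set.mem_iUnion, not_exists,
        Set.mem_setOf_eq]
      constructor
      · rintro rfl y hy hm
        exact hy ((Specializes.antisymm (specializes_iff_mem_closure.mpr hm) (genericPoint_specializes y)).eq)
      · intro hw
        by_contra hne
        exact hw w hne (subset_closure rfl)
    rw [this, isOpen_compl_iff]
    exact (Set.toFinite _).isClosed_biUnion fun y _ => isClosed_closure
  tfae_have 3 → 1 := fun ⟨hdim, hfin⟩ => by
    have hcl := (Groth.Agent.GenComp.topologicalKrullDim_le_one_iff X).mp hdim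
    rw [← isClosed_compl_iff]
    exact hclosedfin _ (hfin.subset fun y hy => hcl y hy) fun y hy => hcl y hy
  tfae_finish

end Groth.Agent.S4880
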