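import Groth.Statements.S4882
import Mathlib

set_option autoImplicit false
universe u
open EGA43

namespace Groth.Agent.S4882

/-- Let X be a Jacobson space and Z a locally quasi-constructible subset of X, i.e. every point of X has
an open neighbourhood U such that U ∩ Z is a finite union of locally closed subsets of X. Then the
subspace Z is a Jacobson space, and a point of Z is closed in Z if and only if it is closed in X. -/
theorem result {X : Type u} [TopologicalSpace X] [JacobsonSpace X]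
    (Z : Set X)
    (hZ : ∀ x : X, ∃ U : Set X, IsOpen U ∧ x ∈ U ∧
      ∃ T : Set (Set X), T.Finite ∧ (∀ t ∈ T, IsLocallyClosed t) ∧ U ∩ Z = ⋃₀ T) :
    JacobsonSpace ↥Z ∧ ∀ z : ↥Z, IsClosed ({z} : Set ↥Z) ↔ IsClosed ({(z : X)} : Set X) := by
  have hclosed : ∀ z : ↥Z, IsClosed ({z} : Set ↥Z) → IsClosed ({(z : X)} : Set X) := by
    intro z hz
    obtain ⟨U, hU, hzU, T, -, hT, hUZ⟩ := hZ z.1
    obtain ⟨t, htT, hzt⟩ : (z : X) ∈ ⋃₀ T := hUZ ▸ ⟨hzU, z.2⟩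
    obtain ⟨C, hC, hCz⟩ := isClosed_induced_iff.1 hz
    have heq : ({(z : X)} : Set X) = t ∩ U ∩ C := by
      ext w
      refine ⟨?_, fun hw => ?_⟩
      · rintro rfl
        exact ⟨⟨hzt, hzU⟩, (Set.ext_iff.1 hCz z).2 rfl⟩
      · have hwZ : w ∈ U ∩ Z := by rw [hUZ]; exact ⟨t, htT, hw.1.1⟩
        exact congrArg Subtype.val ((Set.ext_iff.1 hCz ⟨w, hwZ.2⟩).1 hw.2)
    have hlc : IsLocallyClosed ({(z : X)} : Set X) :=
      heq ▸ ((hT t htT).inter hU.isLocallyClosed).inter hC.isLocallyClosed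
    obtain ⟨w, hw, hwc⟩ := nonempty_inter_closedPoints (Set.singleton_nonempty (z : X)) hlc
    rw [Set.mem_singleton_iff] at hw
    subst hw
    exact hwc
  refine ⟨(jacobsonSpace_iff_locallyClosed (X := ↥Z)).2 fun W hWne hW => ?_, fun z => ⟨hclosed z, fun h => ?_⟩⟩
  · obtain ⟨z, hzW⟩ := hWne
    obtain ⟨O, C, hO, hC, rfl⟩ := hW
    obtain ⟨U, hU, hzU, T, -, hT, hUZ⟩ := hZ z.1
    obtain ⟨t, htT, hzt⟩ : (z : X) ∈ ⋃₀ T := hUZ ▸ ⟨hzU, z.2⟩
    obtain ⟨O', hO', rfl⟩ := isOpen_induced_iff.1 hO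
    obtain ⟨C', hC', rfl⟩ := isClosed_induced_iff.1 hC
    obtain ⟨w, ⟨⟨⟨hwt, hwU⟩, hwO⟩, hwC⟩, hwc⟩ := nonempty_inter_closedPoints
      (show (t ∩ U ∩ O' ∩ C').Nonempty from ⟨z, ⟨⟨hzt, hzU⟩, hzW.1⟩, hzW.2⟩)
      ((((hT t htT).inter hU.isLocallyClosed).inter hO'.isLocallyClosed).inter hC'.isLocallyClosed)
    have hwZ : w ∈ U ∩ Z := by rw [hUZ]; exact ⟨t, htT, hwt⟩
    refine ⟨⟨w, hwZ.2⟩, ⟨hwO, hwC⟩, ?_⟩
    show IsClosed ({⟨w, hwZ.2⟩} : Set ↥Z)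
    rw [show ({⟨w, hwZ.2⟩} : Set ↥Z) = Subtype.val ⁻¹' {w} by ext v; simp [Subtype.ext_iff]]
    exact IsClosed.preimage continuous_subtype_val hwc
  · rw [show ({z} : Set ↥Z) = Subtype.val ⁻¹' {(z : X)} by ext v; simp [Subtype.ext_iff]]
    exact h.preimage continuous_subtype_val

end Groth.Agent.S4882
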