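import Groth.Statements.S4883
import Groth.Agent.JacLib.Basic

set_option autoImplicit false
universe u
open CategoryTheory AlgebraicGeometry
open EGA43

namespace Groth.Agent.S4883

/-- Let X be a Noetherian scheme. Then the set of points x of X whose closure is finite is very dense in
X: every nonempty locally closed subset of X contains a point with finite closure. -/
theorem result (X : Scheme.{u}) [IsNoetherian X]
    (Z : Set X) (hZ : IsLocallyClosed Z) (hne : Z.Nonempty) :
    ∃ x ∈ Z, (closure ({x} : Set X)).Finite := by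
  obtain ⟨x, hxZ, hx⟩ := Groth.Agent.JacLib.exists_isLocallyClosed_singleton hZ hne
  refine ⟨x, hxZ, ?_⟩
  obtain ⟨U, F, hU, hF, hUF⟩ := hx
  have hxU : x ∈ U ∩ F := hUF ▸ Set.mem_singleton x
  have hC : IsClosed (closure ({x} : Set X) \ U) := isClosed_closure.sdiff hU
  obtain ⟨S, hSfin, hScl, hSirr, hS⟩ :=
    TopologicalSpace.NoetherianSpace.exists_finite_set_isClosed_irreducible hC
  have hsub : closure ({x} : Set X) ⊆ insert x (closure ({x} : Set X) \ U) := by
    intro z hz
    by_cases hzU : z ∈ U
    · exact Or.inl (hUF.ge ⟨hzU, closure_minimal (Set.singleton_subset_iff.2 hxU.2) hF hz⟩)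
    · exact Or.inr ⟨hz, hzU⟩
  refine Set.Finite.subset (Set.Finite.insert x ?_) hsub
  rw [hS]
  refine hSfin.sUnion fun T hT => ?_
  have hTirr := hSirr T hT
  have hTcl : IsClosed T := hScl T hT
  have hg := hTirr.isGenericPoint_genericPoint hTcl
  have hgC : hTirr.genericPoint ∈ closure ({x} : Set X) \ U := by
    rw [hS]
    exact Set.mem_sUnion.2 ⟨T, hT, hg.mem⟩
  have hgcl := Groth.Agent.JacLib.isClosed_singleton_of_specializes ⟨U, F, hU, hF, hUF⟩
    (specializes_iff_mem_closure.2 hgC.1) (fun h => hgC.2 (by rw [h]; exact hxU.1))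
  have : T = {hTirr.genericPoint} := hg.def.symm.trans hgcl.closure_eq
  exact (Set.finite_singleton hTirr.genericPoint).subset this.le

end Groth.Agent.S4883
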