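import Groth.Statements.S4885
import Mathlib

set_option autoImplicit false
universe u
open EGA43

namespace Groth.Agent.S4885

open scoped Classical in
theorem aux (A A' Q : Type u) [CommRing A] [CommRing A'] [Algebra A A'] [CommRing Q] [Algebra A Q]
    [Module.Finite A Q] [Algebra.FinitePresentation A Q] (π : Q →ₐ[A] A') (hπ : Function.Surjective π) :
    ∃ (ι : Type u) (_ : Preorder ι) (G : ι → Type u) (_ : ∀ i, CommRing (G i)) (_ : ∀ i, Algebra A (G i))
      (g : ∀ i j, i ≤ j → G i →ₐ[A] G j) (_ : ∀ i, Algebra (G i) A') (_ : ∀ i, IsScalarTower A (G i) A'),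
      FlatCA.IsDirectedColimitRing G (fun i j h => (g i j h).toRingHom) A' ∧
        ∀ i, Module.Finite A (G i) ∧ Algebra.FinitePresentation A (G i) := by
  let J : Finset (RingHom.ker π) → Ideal Q := fun s => Ideal.span (Subtype.val '' (s : Set (RingHom.ker π)))
  let G := fun s => Q ⧸ J s
  let g : ∀ s t, s ≤ t → G s →ₐ[A] G t := fun s t hst => Ideal.Quotient.factorₐ A (Ideal.span_mono (Set.image_mono hst))
  let u : ∀ s, G s →ₐ[A] A' := fun s => Ideal.Quotient.liftₐ (J s) π fun x hx => by
    have : J s ≤ RingHom.ker π := Ideal.span_le.2 (by rintro _ ⟨y, -, rfl⟩; exact y.2)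
    exact this hx
  letI : ∀ s, Algebra (G s) A' := fun s => (u s).toRingHom.toAlgebra
  haveI : ∀ s, IsScalarTower A (G s) A' := fun s => IsScalarTower.of_algebraMap_eq fun a => ((u s).commutes a).symm
  refine ⟨Finset (RingHom.ker π), inferInstance, G, inferInstance, inferInstance, g, inferInstance, inferInstance,
    ⟨inferInstance, ⟨∅⟩, ?_, ?_, ?_, ?_, ?_⟩, fun s => ⟨?_, ?_⟩⟩
  · exact fun s => Ideal.Quotient.ringHom_ext (RingHom.ext fun x => rfl)
  · exact fun s t r hst htr => Ideal.Quotient.ringHom_ext (RingHom.ext fun x => rfl)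
  · exact fun s t hst => Ideal.Quotient.ringHom_ext (RingHom.ext fun x => rfl)
  · intro a
    obtain ⟨x, rfl⟩ := hπ a
    exact ⟨∅, Ideal.Quotient.mk _ x, rfl⟩
  · intro s x hx
    obtain ⟨x, rfl⟩ := Ideal.Quotient.mk_surjective x
    have hxK : x ∈ RingHom.ker π := hx
    refine ⟨insert ⟨x, hxK⟩ s, Finset.subset_insert _ _, ?_⟩
    show Ideal.Quotient.mk (J _) x = 0
    rw [Ideal.Quotient.eq_zero_iff_mem]
    exact Ideal.subset_span ⟨⟨x, hxK⟩, Finset.mem_insert_self _ _, rfl⟩
  · exact Module.Finite.of_surjective (Ideal.Quotient.mkₐ A (J s)).toLinearMap Ideal.Quotient.mk_surjective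
  · exact Algebra.FinitePresentation.quotient (Submodule.fg_span (s.finite_toSet.image _))

/-- Every finite algebra A' over a commutative ring A is a directed colimit (filtered inductive limit)
of A-algebras which are finite and of finite presentation over A. -/
theorem result (A A' : Type u) [CommRing A] [CommRing A']
    [Algebra A A'] [Module.Finite A A'] :
    ∃ (ι : Type u) (_ : Preorder ι) (G : ι → Type u) (_ : ∀ i, CommRing (G i)) (_ : ∀ i, Algebra A (G i))
      (g : ∀ i j, i ≤ j → G i →ₐ[A] G j) (_ : ∀ i, Algebra (G i) A') (_ : ∀ i, IsScalarTower A (G i) A'),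
      FlatCA.IsDirectedColimitRing G (fun i j h => (g i j h).toRingHom) A' ∧
        ∀ i, Module.Finite A (G i) ∧ Algebra.FinitePresentation A (G i) := by
  classical
  obtain ⟨n, π, hπ⟩ := Algebra.FiniteType.iff_quotient_mvPolynomial''.1 (inferInstance : Algebra.FiniteType A A')
  haveI : Algebra.IsIntegral A A' := Algebra.IsIntegral.of_finite A A'
  choose h hmon hh using fun i : Fin n => Algebra.IsIntegral.isIntegral (R := A) (π (MvPolynomial.X i))
  let H : Fin n → MvPolynomial (Fin n) A := fun i => Polynomial.aeval (MvPolynomial.X i) (h i)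
  have hH : ∀ i, π (H i) = 0 := fun i => by
    show π (Polynomial.aeval (MvPolynomial.X i) (h i)) = 0
    rw [← Polynomial.aeval_algHom_apply]
    exact hh i
  let J := Ideal.span (Set.range H)
  let π' := Ideal.Quotient.liftₐ J π fun x hx => by
    have : J ≤ RingHom.ker π := Ideal.span_le.2 (by rintro _ ⟨i, rfl⟩; exact hH i)
    exact this hx
  haveI : Algebra.FinitePresentation A (MvPolynomial (Fin n) A ⧸ J) :=
    Algebra.FinitePresentation.quotient (Submodule.fg_span (Set.finite_range H))
  haveI : Algebra.IsIntegral A (MvPolynomial (Fin n) A ⧸ J) := by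
    rw [Algebra.isIntegral_def]
    intro x
    obtain ⟨x, rfl⟩ := Ideal.Quotient.mk_surjective x
    induction x using MvPolynomial.induction_on with
    | C a => exact isIntegral_algebraMap
    | add p q hp hq => rw [map_add]; exact hp.add hq
    | mul_X p i hp =>
      rw [map_mul]
      refine hp.mul ⟨h i, hmon i, ?_⟩
      rw [← Polynomial.aeval_def, show Ideal.Quotient.mk J (MvPolynomial.X i) =
        Ideal.Quotient.mkₐ A J (MvPolynomial.X i) from rfl, Polynomial.aeval_algHom_apply]
      exact Ideal.Quotient.eq_zero_iff_mem.2 (Ideal.subset_span ⟨i, rfl⟩)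
  haveI : Module.Finite A (MvPolynomial (Fin n) A ⧸ J) := Algebra.IsIntegral.finite
  exact aux A A' (MvPolynomial (Fin n) A ⧸ J) π' fun a => by
    obtain ⟨x, rfl⟩ := hπ a
    exact ⟨Ideal.Quotient.mk J x, rfl⟩

end Groth.Agent.S4885
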