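import Groth.Statements.S4886
import Mathlib
import Groth.Agent.S9612

set_option autoImplicit false
universe u
open CategoryTheory AlgebraicGeometry
open EGA43

namespace Groth.Agent.S4886

/-- Let Y be a scheme of finite type over ℤ. (i) A point y of Y is closed if and only if the residue
field k(y) is finite. (ii) For every prime number p and every integer d ≥ 1, the set of points y of
Y such that k(y) is an extension of 𝔽_p of degree dividing d, i.e. admits a ring homomorphism into
the field with p^d elements, is finite. -/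
theorem result (Y : Scheme.{u}) [CompactSpace Y]
    [LocallyOfFiniteType (Limits.IsTerminal.from specULiftZIsTerminal Y)] :
    (∀ y : Y, IsClosed ({y} : Set Y) ↔ Finite ↑(Y.residueField y)) ∧
    ∀ (p d : ℕ) [Fact p.Prime], 0 < d →
      {y : Y | Nonempty (↑(Y.residueField y) →+* GaloisField p d)}.Finite := by
  let π : Y ⟶ Spec (.of (ULift.{u} ℤ)) := Limits.IsTerminal.from specULiftZIsTerminal Y
  have hft : ∀ W : Y.Opens, IsAffineOpen W → Algebra.FiniteType ℤ Γ(Y, W) := by
    intro W hW
    have h : (π.appLE ⊤ W le_top).hom.FiniteType :=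
      HasRingHomProperty.appLE @LocallyOfFiniteType π inferInstance
        ⟨⊤, isAffineOpen_top _⟩ ⟨W, hW⟩ le_top
    let g : ℤ →+* Γ(Spec (.of (ULift.{u} ℤ)), ⊤) :=
      (Scheme.ΓSpecIso (.of (ULift.{u} ℤ))).inv.hom.comp ULift.ringEquiv.symm.toRingHom
    have hg : Function.Surjective g :=
      ((Scheme.ΓSpecIso (.of (ULift.{u} ℤ))).symm.commRingCatIsoToRingEquiv.surjective).comp
        ULift.ringEquiv.symm.surjective
    have h' := h.comp (RingHom.FiniteType.of_surjective g hg)
    have he : (π.appLE ⊤ W le_top).hom.comp g = algebraMap ℤ Γ(Y, W) := RingHom.ext_int _ _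
    rw [he] at h'
    exact RingHom.finiteType_algebraMap.mp h'
  have key : ∀ (W : Y.Opens) (hW : IsAffineOpen W) (p : PrimeSpectrum Γ(Y, W)),
      Nonempty (↑(Y.residueField (hW.fromSpec p)) ≃+* p.asIdeal.ResidueField) := fun W hW p =>
    ⟨((asIso (hW.fromSpec.residueFieldMap p)) ≪≫
      Scheme.Spec.residueFieldIso Γ(Y, W) p).commRingCatIsoToRingEquiv⟩
  have hfin : ∀ (K : Type u) [Field K] [Algebra ℤ K] [Algebra.FiniteType ℤ K], Finite K := by
    intro K _ iA _
    obtain rfl : iA = Ring.toIntAlgebra K := Subsingleton.elim _ _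
    haveI : IsJacobsonRing ℤ := S9612.result (S := ℤ)
    haveI : Module.Finite ℤ K := finite_of_finite_type_of_isJacobsonRing ℤ K
    obtain ⟨n, hn⟩ : ∃ n : ℕ, CharP K n := CharP.exists K
    rcases Nat.eq_zero_or_pos n with rfl | hpos
    · haveI : CharZero K := CharP.charP_to_charZero K
      exact absurd (isField_of_isIntegral_of_isField (R := ℤ) (S := K)
        ((algebraMap ℤ K).injective_int) (Field.toIsField K)) Int.not_isField
    · refine Module.finite_of_fg_torsion K fun x => ⟨⟨(n : ℤ), ?_⟩, ?_⟩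
      · exact mem_nonZeroDivisors_of_ne_zero (by exact_mod_cast hpos.ne')
      · show (n : ℤ) • x = 0
        rw [zsmul_eq_mul, Int.cast_natCast, CharP.cast_eq_zero, zero_mul]
  refine ⟨fun y => ⟨fun hy => ?_, fun hy => ?_⟩, ?_⟩
  · obtain ⟨W, hW, hyW, -⟩ := exists_isAffineOpen_mem_and_subset (U := ⊤) (TopologicalSpace.Opens.mem_top y)
    obtain ⟨p, rfl⟩ : y ∈ Set.range hW.fromSpec := hW.range_fromSpec.ge hyW
    haveI := hft W hW
    obtain ⟨e⟩ := key W hW p
    haveI hmax : p.asIdeal.IsMaximal := (PrimeSpectrum.isClosed_singleton_iff_isMaximal p).mp (by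
      have := hy.preimage hW.fromSpec.continuous
      rwa [← Set.image_singleton, Set.preimage_image_eq _ hW.fromSpec.isOpenEmbedding.injective] at this)
    have hs : Function.Surjective (algebraMap Γ(Y, W) p.asIdeal.ResidueField) := by
      intro x
      obtain ⟨z, hz⟩ := (Ideal.bijective_algebraMap_quotient_residueField p.asIdeal).2 x
      obtain ⟨a, rfl⟩ := Ideal.Quotient.mk_surjective z
      exact ⟨a, hz⟩
    haveI : Algebra.FiniteType ℤ p.asIdeal.ResidueField :=
      RingHom.finiteType_algebraMap.mp (by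
        have h1 := (RingHom.FiniteType.of_surjective _ hs).comp (RingHom.finiteType_algebraMap.mpr (hft W hW))
        rwa [(RingHom.ext_int ((algebraMap Γ(Y, W) p.asIdeal.ResidueField).comp (algebraMap ℤ Γ(Y, W))) (algebraMap ℤ p.asIdeal.ResidueField))] at h1)
    haveI := hfin p.asIdeal.ResidueField
    exact Finite.of_equiv _ e.symm.toEquiv
  · rw [← closure_eq_iff_isClosed]
    refine Set.Subset.antisymm (fun w hw => ?_) subset_closure
    obtain ⟨W, hW, hwW, -⟩ := exists_isAffineOpen_mem_and_subset (U := ⊤) (TopologicalSpace.Opens.mem_top w)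
    have hyw : y ⤳ w := specializes_iff_mem_closure.mpr hw
    have hyW : y ∈ W := hyw.mem_open W.2 hwW
    obtain ⟨p, rfl⟩ : y ∈ Set.range hW.fromSpec := hW.range_fromSpec.ge hyW
    obtain ⟨q, rfl⟩ : w ∈ Set.range hW.fromSpec := hW.range_fromSpec.ge hwW
    obtain ⟨e⟩ := key W hW p
    haveI : Finite p.asIdeal.ResidueField := Finite.of_equiv _ e.toEquiv
    haveI : Finite (Γ(Y, W) ⧸ p.asIdeal) :=
      Finite.of_injective _ (Ideal.injective_algebraMap_quotient_residueField p.asIdeal)
    have hmax : p.asIdeal.IsMaximal :=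
      Ideal.Quotient.maximal_of_isField _ (Finite.isField_of_domain _)
    have hle := (PrimeSpectrum.le_iff_specializes p q).mpr
      (hW.fromSpec.isOpenEmbedding.isInducing.specializes_iff.mp hyw)
    rw [PrimeSpectrum.ext (hmax.eq_of_le q.2.ne_top hle)]
    rfl
  · intro p d _ hd
    let L := GaloisField p d
    haveI : Finite L := inferInstance
    choose W hW hyW using fun y : Y =>
      exists_isAffineOpen_mem_and_subset (U := ⊤) (TopologicalSpace.Opens.mem_top y)
    obtain ⟨s, hs⟩ := isCompact_univ.elim_finite_subcover (fun y => (W y : Set Y)) (fun y => (W y).2)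
      (fun y _ => Set.mem_iUnion.mpr ⟨y, (hyW y).1⟩)
    refine Set.Finite.subset (s := ⋃ y ∈ s, (hW y).fromSpec ''
      {q | Nonempty (q.asIdeal.ResidueField →+* L)}) ?_ ?_
    · refine s.finite_toSet.biUnion fun y _ => Set.Finite.image _ ?_
      haveI := hft (W y) (hW y)
      obtain ⟨t, ht⟩ := (Algebra.FiniteType.out : (⊤ : Subalgebra ℤ Γ(Y, W y)).FG)
      haveI : Finite (Γ(Y, W y) →+* L) := by
        refine Finite.of_injective (β := ↥t → L) (fun φ z => φ z) fun φ ψ hφψ => ?_
        have : φ.toIntAlgHom = ψ.toIntAlgHom := AlgHom.ext_of_adjoin_eq_top ht fun z hz => congrFun hφψ ⟨z, hz⟩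
        exact RingHom.ext fun z => DFunLike.congr_fun this z
      refine Set.Finite.of_injOn (f := fun q : PrimeSpectrum Γ(Y, W y) => q.asIdeal)
        (t := Set.range fun φ : Γ(Y, W y) →+* L => RingHom.ker φ) ?_
        (fun a _ b _ h => PrimeSpectrum.ext h) (Set.finite_range _)
      rintro q ⟨φ⟩
      refine ⟨φ.comp (algebraMap _ _), ?_⟩
      show RingHom.ker (φ.comp (algebraMap Γ(Y, W y) q.asIdeal.ResidueField)) = q.asIdeal
      rw [← RingHom.comap_ker, (RingHom.injective_iff_ker_eq_bot φ).mp φ.injective,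
        ← RingHom.ker_eq_comap_bot, Ideal.ker_algebraMap_residueField]
    · rintro y ⟨φ⟩
      obtain ⟨z, hz, hyz⟩ := Set.mem_iUnion₂.mp (hs (Set.mem_univ y))
      obtain ⟨q, rfl⟩ : y ∈ Set.range (hW z).fromSpec := (hW z).range_fromSpec.ge hyz
      obtain ⟨e⟩ := key (W z) (hW z) q
      exact Set.mem_biUnion hz ⟨q, ⟨φ.comp e.symm.toRingHom⟩, rfl⟩

end Groth.Agent.S4886
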