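import Groth.Statements.S4891
import Groth.Agent.MLMod.FlatNil
import Groth.Agent.FlatModB.FFDesc

set_option autoImplicit false
universe u
open TensorProduct
open EGA43 Groth.Agent TensorProduct

namespace Groth.Agent.S4891

/-- Let A be a commutative ring, J a nilpotent ideal of A, B a commutative A-algebra and M a B-module.
If M is flat over A, M/JM is flat over B/JB, B/JB is flat over A/J and mM ≠ M for every maximal
ideal m of B containing JB, then B is flat over A. (Under the first two hypotheses M is also flat
over B; that implication is stated elsewhere and not repeated here.) -/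
theorem result {A B : Type u} [CommRing A] [CommRing B] [Algebra A B]
    (J : Ideal A) (hJ : IsNilpotent J) (M : Type u) [AddCommGroup M] [Module B M] [Module A M] [IsScalarTower A B M]
    (hc1 : Module.Flat A M)
    (hc2 : Module.Flat (B ⧸ J.map (algebraMap A B)) ((B ⧸ J.map (algebraMap A B)) ⊗[B] M))
    (hd1 : Module.Flat (A ⧸ J) ((A ⧸ J) ⊗[A] B))
    (hd2 : ∀ m : Ideal B, m.IsMaximal → J.map (algebraMap A B) ≤ m → (m • (⊤ : Submodule B M)) ≠ ⊤) :
    Module.Flat A B := by
  haveI := hc1
  let K : Ideal B := J.map (algebraMap A B)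
  haveI := hc2
  have hK : IsNilpotent K := hJ.map (Ideal.mapHom (algebraMap A B))
  let φ : ↥J ⊗[A] M →ₗ[A] ↥K ⊗[B] M :=
    (TensorProduct.mapOfCompatibleSMul B A A ↥K M) ∘ₗ (Algebra.idealMap B J).rTensor M
  have hφs : Function.Surjective φ := by
    intro z
    induction z using TensorProduct.induction_on with
    | zero => exact ⟨0, map_zero _⟩
    | tmul a m =>
      obtain ⟨a, ha⟩ := a
      change a ∈ Ideal.map (algebraMap A B) J at ha
      induction ha using Submodule.span_induction generalizing m with
      | mem y hy =>
        obtain ⟨r, hr, rfl⟩ := hy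
        exact ⟨(⟨r, hr⟩ : J) ⊗ₜ[A] m, rfl⟩
      | zero => exact ⟨0, (map_zero _).trans (zero_tmul _ m).symm⟩
      | add y z hy hz iy iz =>
        obtain ⟨u, hu⟩ := iy m
        obtain ⟨v, hv⟩ := iz m
        exact ⟨u + v, (map_add _ _ _).trans (by rw [hu, hv, ← add_tmul]; rfl)⟩
      | smul b y hy iy =>
        obtain ⟨u, hu⟩ := iy (b • m)
        refine ⟨u, hu.trans ?_⟩
        rw [← smul_tmul]
        rfl
    | add x y hx hy =>
      obtain ⟨u, rfl⟩ := hx
      obtain ⟨v, rfl⟩ := hy
      exact ⟨u + v, map_add _ _ _⟩
  have hφc : ∀ z, TensorProduct.lid B M ((Submodule.subtype K).rTensor M (φ z)) =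
      TensorProduct.lid A M ((Submodule.subtype J).rTensor M z) := by
    intro z
    induction z using TensorProduct.induction_on with
    | zero => simp
    | tmul a m =>
      simp [φ, Algebra.idealMap]
      exact algebraMap_smul B (a : A) m
    | add x y hx hy => simp only [map_add, hx, hy]
  have hKinj : Function.Injective ((Submodule.subtype K).rTensor M) := by
    rw [injective_iff_map_eq_zero]
    intro z hz
    obtain ⟨z, rfl⟩ := hφs z
    have h0 : (Submodule.subtype J).rTensor M z = 0 := by
      apply (TensorProduct.lid A M).injective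
      rw [← hφc, hz, map_zero, map_zero]
    rw [(injective_iff_map_eq_zero _).1 (Module.Flat.rTensor_preserves_injective_linearMap (M := M)
      (Submodule.subtype J) J.injective_subtype) z h0, map_zero]
  haveI : Module.Flat B M := MLMod.flat_of_nilpotent M K hK hKinj
  haveI : Module.FaithfullyFlat B M := ⟨fun m hm => hd2 m hm (by
    haveI := hm
    obtain ⟨n, hn⟩ := hK
    exact hm.isPrime.le_of_pow_le (n := n + 1) (by rw [pow_succ, hn, zero_mul]; exact bot_le))⟩
  exact FlatModB.flat_of_faithfullyFlat_module A B M

end Groth.Agent.S4891
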