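import Groth.Statements.S4892
import Groth.Agent.GrFlatColim.Open
import Groth.Agent.S4869

set_option maxHeartbeats 4000000
set_option maxSynthPendingDepth 3
set_option linter.style.haveILetI false

set_option autoImplicit false
universe u
open TensorProduct
open EGA43

namespace Groth.Agent.S4892

open MvPolynomial Groth.Agent.FlatSpread Groth.Agent.GrFlatColim

/-- tensoring a localisation with a quotient ring -/
theorem flat_tensor_localized_iff {B C N : Type u} [CommRing B] [CommRing C] [Algebra B C]
    (hs : Function.Surjective (algebraMap B C)) [AddCommGroup N] [Module B N] (q : Ideal B) [q.IsPrime]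
    (c : Ideal C) [c.IsPrime] (hc : c.comap (algebraMap B C) = q) :
    Module.Flat C (C ⊗[B] LocalizedModule q.primeCompl N) ↔
      Module.Flat C (LocalizedModule c.primeCompl (C ⊗[B] N)) := by
  have hG : Algebra.algebraMapSubmonoid C q.primeCompl = c.primeCompl := by
    ext x
    constructor
    · rintro ⟨b, hb, rfl⟩ hx
      exact hb (hc.le hx)
    · intro hx
      obtain ⟨b, rfl⟩ := hs x
      exact ⟨b, fun h => hx (hc.ge h), rfl⟩
  let Bq := Localization q.primeCompl
  haveI : IsLocalization c.primeCompl (C ⊗[B] Bq) := hG ▸ inferInstance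
  let Cc := Localization c.primeCompl
  let eC : (C ⊗[B] Bq) ≃ₗ[C] Cc := (IsLocalization.algEquiv c.primeCompl (C ⊗[B] Bq) Cc).toLinearEquiv
  let e : C ⊗[B] LocalizedModule q.primeCompl N ≃ₗ[C] LocalizedModule c.primeCompl (C ⊗[B] N) :=
    ((LinearEquiv.baseChange B C _ _ ((LocalizedModule.equivTensorProduct q.primeCompl N).restrictScalars B)).trans
      ((AlgebraTensorModule.assoc B B C C Bq N).symm.trans
        ((AlgebraTensorModule.congr eC (LinearEquiv.refl B N)).trans
          ((AlgebraTensorModule.cancelBaseChange B C C Cc N).symm)))).trans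
      ((LocalizedModule.equivTensorProduct c.primeCompl (C ⊗[B] N)).restrictScalars C).symm
  exact ⟨fun _ => Module.Flat.of_linearEquiv e.symm, fun _ => Module.Flat.of_linearEquiv e⟩


/-- Affine form: let A be a commutative ring, B a finitely presented A-algebra, J a finitely generated
ideal of B and M a finitely presented B-module; assume that every graded piece J^k / J^{k+1} of B
and every graded piece J^k M / J^{k+1} M of M is flat over A. Then the set W of primes q ⊇ J of B at
which M is normally flat along V(J) — every localisation (J^k M / J^{k+1} M)_q is flat over B/J — is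
open in V(J); equivalently the set of primes q such that J ⊆ q implies this condition is open in
Spec B. Flatness over B/J of the localised piece N_q (a module killed by J) is expressed as flatness
of (B/J) ⊗_B N_q. -/
theorem result {A B : Type u} [CommRing A] [CommRing B] [Algebra A B]
    [Algebra.FinitePresentation A B] (J : Ideal B) (hJ : J.FG)
    (M : Type u) [AddCommGroup M] [Module B M] [Module A M] [IsScalarTower A B M] [Module.FinitePresentation B M]
    (hgrB : ∀ k : ℕ, Module.Flat A (↥(J ^ k) ⧸ Submodule.comap (J ^ k).subtype (J ^ (k + 1))))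
    (hgrM : ∀ k : ℕ, Module.Flat A
      (↥(J ^ k • (⊤ : Submodule B M)) ⧸ Submodule.comap (J ^ k • (⊤ : Submodule B M)).subtype (J ^ (k + 1) • ⊤))) :
    IsOpen {q : PrimeSpectrum B | J ≤ q.asIdeal → ∀ k : ℕ,
      Module.Flat (B ⧸ J) ((B ⧸ J) ⊗[B] LocalizedModule q.asIdeal.primeCompl
        (↥(J ^ k • (⊤ : Submodule B M)) ⧸ Submodule.comap (J ^ k • (⊤ : Submodule B M)).subtype (J ^ (k + 1) • ⊤)))} := by
  classical
  obtain ⟨n, m, π, hπ, -, W, hW, ⟨e⟩⟩ := exists_presentation (R := A) (S := B) (M := M)
  let P := MvPolynomial (Fin n) A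
  letI : Algebra P B := π.toRingHom.toAlgebra
  letI : Module P M := Module.compHom M π.toRingHom
  haveI : IsScalarTower A P M := ⟨fun r p x => by
    change π (r • p) • x = r • π p • x
    rw [map_smul, smul_assoc]⟩
  haveI : IsScalarTower P B M := ⟨fun p b x => by
    change (π p * b) • x = π p • b • x
    rw [mul_smul]⟩
  obtain ⟨S, hS⟩ := hJ
  choose t ht using fun b : B => hπ b
  let JP : Ideal P := Ideal.span (t '' (S : Set B))
  have hJP : JP.map π.toRingHom = J := by
    rw [Ideal.map_span, Set.image_image, ← hS]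
    congr 1
    ext b
    simp [ht]
  have hJfg : JP.FG := ⟨S.image t, by rw [Finset.coe_image]⟩
  let g : (Fin m → P) →ₗ[P] M := e.toLinearMap.comp W.mkQ
  have hg : Function.Surjective g := e.surjective.comp W.mkQ_surjective
  have hsm : ∀ k, (J ^ k • (⊤ : Submodule B M)).restrictScalars P = (JP ^ k • (⊤ : Submodule P (Fin m → P))).map g := by
    intro k
    rw [Submodule.map_smul'', Submodule.map_top, LinearMap.range_eq_top.2 hg, ← hJP, ← Ideal.map_pow]
    exact (Ideal.smul_restrictScalars _ _).trans (by rw [Submodule.restrictScalars_top])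
  have hcomap : ∀ k y, g y ∈ J ^ k • (⊤ : Submodule B M) ↔ y ∈ U W JP k := by
    intro k y
    rw [← Submodule.restrictScalars_mem P, hsm, ← Submodule.mem_comap, Submodule.comap_map_eq, LinearMap.ker_comp,
      LinearEquiv.ker, Submodule.comap_bot, Submodule.ker_mkQ, sup_comm]
  have hfl0 : ∀ k, Fl (⊥ : Ideal A) (⊥ : Submonoid (MvPolynomial (Fin n) A)) (U W JP k) := by
    intro k
    haveI : Module.Flat A (M ⧸ J ^ k • (⊤ : Submodule B M)) := by
      induction k with
      | zero =>
        haveI : Subsingleton (M ⧸ J ^ 0 • (⊤ : Submodule B M)) := Submodule.Quotient.subsingleton_iff.2 (by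
          rw [pow_zero, Ideal.one_eq_top, Submodule.top_smul])
        infer_instance
      | succ k ih => exact S4870.flat_step J M k (hgrM k) ih
    rw [← flat_quot_iff]
    let gk : (Fin m → P) →ₗ[A] M ⧸ J ^ k • (⊤ : Submodule B M) :=
      ((J ^ k • (⊤ : Submodule B M)).mkQ.restrictScalars A).comp (g.restrictScalars A)
    have hk : (U W JP k).restrictScalars A = LinearMap.ker gk := by
      ext y
      exact (hcomap k y).symm.trans (Submodule.Quotient.mk_eq_zero _).symm
    exact Module.Flat.of_linearEquiv ((Submodule.Quotient.restrictScalarsEquiv A (U W JP k)).symm.trans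
      ((Submodule.quotEquivOfEq _ _ hk).trans
        (gk.quotKerEquivOfSurjective ((Submodule.mkQ_surjective _).comp hg))))
  -- descend to a Noetherian ring
  obtain ⟨C₁, hC₁, W', J', hW', hJ'⟩ := S4869.exists_descent W hW JP hJfg
  haveI : Algebra.FiniteType ℤ C₁ := C₁.fg_iff_finiteType.1 hC₁
  haveI : IsNoetherianRing C₁ := Algebra.FiniteType.isNoetherianRing ℤ C₁
  have halg : algebraMap C₁ A = C₁.val.toRingHom := rfl
  obtain ⟨D, hD, hfl⟩ := exists_fg_fl (R := C₁) (A := A) W' J' fun k => by
    rw [halg, ext_U, hW', hJ']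
    exact hfl0 k
  haveI : Algebra.FiniteType C₁ D := D.fg_iff_finiteType.1 hD
  haveI : IsNoetherianRing D := Algebra.FiniteType.isNoetherianRing C₁ D
  let P₀ := MvPolynomial (Fin n) D
  let W₀ := ext (algebraMap C₁ D) W'
  let J₀ : Ideal P₀ := J'.map (MvPolynomial.map (algebraMap C₁ D))
  have hfl₀ : ∀ k, Fl (⊥ : Ideal D) (⊥ : Submonoid (MvPolynomial (Fin n) D)) (U W₀ J₀ k) := fun k => by
    have := hfl k
    rwa [ext_U] at this
  have em : (MvPolynomial.map (algebraMap D A) : P₀ →+* P).comp (MvPolynomial.map (algebraMap C₁ D)) =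
      MvPolynomial.map ((algebraMap D A).comp (algebraMap C₁ D)) := RingHom.ext fun p => MvPolynomial.map_map _ _ p
  have hU : ∀ k, ext (algebraMap D A) (U W₀ J₀ k) = U W JP k := fun k => by
    have e1 : (algebraMap D A).comp (algebraMap C₁ D) = C₁.val.toRingHom := rfl
    rw [ext_U, ext_ext, Ideal.map_map, em, e1, hW', hJ']
  have hX : ∀ k, ext (algebraMap D A) (J₀ ^ k • (⊤ : Submodule P₀ (Fin m → P₀))) = JP ^ k • ⊤ := fun k => by
    have e1 : (algebraMap D A).comp (algebraMap C₁ D) = C₁.val.toRingHom := rfl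
    rw [ext_smul, ext_top, Ideal.map_pow, Ideal.map_map, em, e1, hJ']
  let F' : J₀.Filtration (Fin m → P₀) :=
    { N := fun k => U W₀ J₀ (k + 1)
      mono := fun k => sup_le_sup_left (Submodule.smul_mono_left (Ideal.pow_le_pow_right (Nat.le_succ (k + 1)))) _
      smul_le := fun k => by
        have := pow_smul_U_le W₀ J₀ 1 (k + 1)
        rwa [pow_one, add_comm 1] at this }
  let C := B ⧸ J
  letI : Algebra P₀ P := MvPolynomial.algebraMvPolynomial
  letI : Algebra P₀ C := ((algebraMap P C).comp (algebraMap P₀ P)).toAlgebra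
  haveI : IsScalarTower P₀ P C := IsScalarTower.of_algebraMap_eq' rfl
  have hopen := isOpen_forall_piece C (Fin m → P₀) J₀ F'
  let N : ℕ → Type u := fun k =>
    ↥(J ^ k • (⊤ : Submodule B M)) ⧸ Submodule.comap (J ^ k • (⊤ : Submodule B M)).subtype (J ^ (k + 1) • ⊤)
  have hpiece : ∀ k, Nonempty (C ⊗[P₀] Piece (J₀ ^ k • (⊤ : Submodule P₀ (Fin m → P₀))) (F'.N k) ≃ₗ[C] C ⊗[B] N k) := by
    intro k
    let X₀ := J₀ ^ k • (⊤ : Submodule P₀ (Fin m → P₀))
    haveI : Module.Flat D ((Fin m → P₀) ⧸ (X₀ ⊔ U W₀ J₀ (k + 1))) := by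
      have hsup : X₀ ⊔ U W₀ J₀ (k + 1) = U W₀ J₀ k := by
        refine le_antisymm (sup_le le_sup_right (sup_le_sup_left
          (Submodule.smul_mono_left (Ideal.pow_le_pow_right (Nat.le_succ k))) _))
          (sup_le (le_sup_left.trans le_sup_right) le_sup_left)
      rw [hsup, flat_quot_iff]
      exact hfl₀ k
    have hbc := isBaseChange_piece (A := A) X₀ (U W₀ J₀ (k + 1))
    let X := ext (algebraMap D A) X₀
    let Nsub := J ^ k • (⊤ : Submodule B M)
    have hmem : ∀ y : X, g (y : Fin m → P) ∈ Nsub := fun y => by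
      show g (y : Fin m → P) ∈ Nsub.restrictScalars P
      rw [hsm k, ← hX k]
      exact Submodule.mem_map_of_mem y.2
    let gX : X →ₗ[P] Nsub :=
      { toFun := fun y => ⟨g y, hmem y⟩
        map_add' := fun a b => Subtype.ext (map_add g _ _)
        map_smul' := fun p a => Subtype.ext (map_smul g p (a : Fin m → P)) }
    let ψ : X →ₗ[P] N k :=
      ((Submodule.comap Nsub.subtype (J ^ (k + 1) • ⊤)).mkQ.restrictScalars P).comp
        gX
    have hψ : Function.Surjective ψ := by
      intro z
      obtain ⟨⟨x, hx⟩, rfl⟩ := Submodule.Quotient.mk_surjective _ z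
      obtain ⟨y, hy, rfl⟩ := (hsm k).le hx
      exact ⟨⟨y, (hX k).ge hy⟩, rfl⟩
    have hker : (ext (algebraMap D A) (U W₀ J₀ (k + 1))).comap X.subtype = LinearMap.ker ψ := by
      ext y
      rw [Submodule.mem_comap, hU]
      refine (hcomap (k + 1) _).symm.trans ?_
      rw [LinearMap.mem_ker]
      show g (X.subtype y) ∈ _ ↔ (Submodule.Quotient.mk (gX y) : N k) = 0
      rw [Submodule.Quotient.mk_eq_zero]
      rfl
    let eN : Piece X (ext (algebraMap D A) (U W₀ J₀ (k + 1))) ≃ₗ[P] N k :=
      (Submodule.quotEquivOfEq _ _ hker).trans (ψ.quotKerEquivOfSurjective hψ)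
    haveI : TensorProduct.CompatibleSMul P B C (N k) := ⟨fun b c x => by
      obtain ⟨p, rfl⟩ := hπ b
      rw [show π p = algebraMap P B p from rfl, algebraMap_smul, algebraMap_smul, TensorProduct.smul_tmul]⟩
    exact ⟨((AlgebraTensorModule.cancelBaseChange P₀ P C C _).symm.trans
      (LinearEquiv.baseChange P C _ _ (hbc.equiv.trans eN))).trans
        (TensorProduct.equivOfCompatibleSMul P B C C (N k)).symm⟩
  let cl : PrimeSpectrum C → PrimeSpectrum B := PrimeSpectrum.comap (algebraMap B C)
  have hemb : Topology.IsClosedEmbedding cl :=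
    PrimeSpectrum.isClosedEmbedding_comap_of_surjective _ _ Ideal.Quotient.mk_surjective
  have hset : {q : PrimeSpectrum B | J ≤ q.asIdeal → ∀ k : ℕ,
      Module.Flat (B ⧸ J) ((B ⧸ J) ⊗[B] LocalizedModule q.asIdeal.primeCompl (N k))} =
      (cl '' {c : PrimeSpectrum C | ∀ k, Module.Flat C (LocalizedModule c.asIdeal.primeCompl
        (C ⊗[P₀] Piece (J₀ ^ k • (⊤ : Submodule P₀ (Fin m → P₀))) (F'.N k)))}ᶜ)ᶜ := by
    have key : ∀ c : PrimeSpectrum C, (∀ k, Module.Flat C (LocalizedModule c.asIdeal.primeCompl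
        (C ⊗[P₀] Piece (J₀ ^ k • (⊤ : Submodule P₀ (Fin m → P₀))) (F'.N k)))) ↔
        ∀ k, Module.Flat C (C ⊗[B] LocalizedModule (cl c).asIdeal.primeCompl (N k)) := fun c =>
      forall_congr' fun k => by
        rw [flat_tensor_localized_iff (C := C) Ideal.Quotient.mk_surjective (cl c).asIdeal c.asIdeal rfl]
        exact flat_localized_congr _ (hpiece k).some
    ext q
    constructor
    · rintro h ⟨c, hc, rfl⟩
      refine hc ((key c).2 (h fun x hx => ?_))
      show Ideal.Quotient.mk J x ∈ c.asIdeal
      rw [Ideal.Quotient.eq_zero_iff_mem.2 hx]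
      exact zero_mem _
    · intro h hJq
      have hr : q ∈ Set.range cl := by
        rw [show Set.range cl = PrimeSpectrum.zeroLocus (RingHom.ker (algebraMap B C) : Set B) from
          range_comap_of_surjective _ _ Ideal.Quotient.mk_surjective, Ideal.Quotient.algebraMap_eq,
          Ideal.mk_ker]
        exact hJq
      obtain ⟨c, rfl⟩ := hr
      refine (key c).1 ?_
      by_contra hc
      exact h ⟨c, hc, rfl⟩
  exact hset ▸ (hemb.isClosedMap _ hopen.isClosed_compl).isOpen_compl

end Groth.Agent.S4892
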