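import Groth.Statements.S4894
import Mathlib

set_option autoImplicit false
universe u
open EGA43

namespace Groth.Agent.S4894

/-- Let f : X → Y be continuous and (W_i) an open covering of Y such that every restriction f⁻¹(W_i) →
W_i is a quasi-homeomorphism (taking preimages is a bijection on open subsets). Then f is a
quasi-homeomorphism. -/
theorem result {X Y : Type u} [TopologicalSpace X]
    [TopologicalSpace Y] (f : X → Y) (hf : Continuous f) {ι : Type u} (W : ι → Set Y)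
    (hWo : ∀ i, IsOpen (W i)) (hWc : ⋃ i, W i = Set.univ)
    (h : ∀ i, ((∀ U₁ U₂ : Set ↥(W i), IsOpen U₁ → IsOpen U₂ → ((W i).restrictPreimage f) ⁻¹' U₁ = ((W i).restrictPreimage f) ⁻¹' U₂ → U₁ = U₂) ∧ (∀ V : Set ↥(f ⁻¹' W i), IsOpen V → ∃ U : Set ↥(W i), IsOpen U ∧ ((W i).restrictPreimage f) ⁻¹' U = V))) :
    ((∀ U₁ U₂ : Set Y, IsOpen U₁ → IsOpen U₂ → (f) ⁻¹' U₁ = (f) ⁻¹' U₂ → U₁ = U₂) ∧ (∀ V : Set X, IsOpen V → ∃ U : Set Y, IsOpen U ∧ (f) ⁻¹' U = V)) := by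
  have hmem : ∀ y : Y, ∃ i, y ∈ W i := fun y => Set.mem_iUnion.1 (hWc ▸ Set.mem_univ y)
  refine ⟨fun U₁ U₂ h₁ h₂ he => ?_, fun V hV => ?_⟩
  · ext y
    obtain ⟨i, hi⟩ := hmem y
    have := (h i).1 (Subtype.val ⁻¹' U₁) (Subtype.val ⁻¹' U₂) (h₁.preimage continuous_subtype_val)
      (h₂.preimage continuous_subtype_val) (by ext z; exact (Set.ext_iff.1 he z.1))
    exact Set.ext_iff.1 this ⟨y, hi⟩
  · choose U hUo hU using fun i => (h i).2 (Subtype.val ⁻¹' V) (hV.preimage continuous_subtype_val)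
    have key : ∀ i j (y : Y) (hi : y ∈ W i) (hj : y ∈ W j),
        (⟨y, hi⟩ : W i) ∈ U i → (⟨y, hj⟩ : W j) ∈ U j := by
      intro i j y hi hj hy
      obtain ⟨T, hT, hTi⟩ := isOpen_induced_iff.1 (hUo i)
      obtain ⟨T', hT', hTj⟩ := isOpen_induced_iff.1 (hUo j)
      have := (h j).1 (Subtype.val ⁻¹' (T ∩ W i)) (Subtype.val ⁻¹' (T' ∩ W i))
        ((hT.inter (hWo i)).preimage continuous_subtype_val)
        ((hT'.inter (hWo i)).preimage continuous_subtype_val) (by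
          ext z
          simp only [Set.mem_preimage, Set.mem_inter_iff]
          refine and_congr_left fun hz => ?_
          have e1 := Set.ext_iff.1 (hU i) ⟨z.1, hz⟩
          have e2 := Set.ext_iff.1 (hU j) z
          rw [← hTi] at e1; rw [← hTj] at e2
          exact e1.trans e2.symm)
      have := (Set.ext_iff.1 this ⟨y, hj⟩).1 ⟨by rw [← hTi] at hy; exact hy, hi⟩
      rw [← hTj]; exact this.1
    refine ⟨⋃ i, Subtype.val '' U i,
      isOpen_iUnion fun i => (hWo i).isOpenMap_subtype_val _ (hUo i), ?_⟩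
    ext x
    obtain ⟨i, hi⟩ := hmem (f x)
    have e1 := Set.ext_iff.1 (hU i) ⟨x, hi⟩
    refine Iff.trans ⟨fun hx => ?_, fun hx => Set.mem_iUnion.2 ⟨i, ⟨f x, hi⟩, hx, rfl⟩⟩ e1
    obtain ⟨j, ⟨y, hj⟩, hy, rfl⟩ := Set.mem_iUnion.1 hx
    exact key j i _ hj hi hy

end Groth.Agent.S4894
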