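import Groth.Statements.S4897
import Groth.Agent.EGA43QH.Basic

set_option autoImplicit false
universe u
open EGA43

namespace Groth.Agent.S4897

/-- Let f : X → Y be a quasi-homeomorphism, i.e. a continuous map such that U ↦ f⁻¹(U) is a bijection
from the open subsets of Y onto the open subsets of X. Then Z ↦ f⁻¹(Z) induces bijections from the
locally closed (resp. constructible, resp. locally constructible) subsets of Y onto those of X. -/
theorem result {X Y : Type u}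
    [TopologicalSpace X] [TopologicalSpace Y] (f : X → Y) (hf : Continuous f)
    (hq : Function.Bijective (fun U : TopologicalSpace.Opens Y =>
      (⟨f ⁻¹' (U : Set Y), U.isOpen.preimage hf⟩ : TopologicalSpace.Opens X))) :
    Function.Bijective (fun Z : {Z : Set Y // IsLocallyClosed Z} =>
        (⟨f ⁻¹' Z.1, Z.2.preimage hf⟩ : {Z : Set X // IsLocallyClosed Z})) ∧
      Set.BijOn (fun Z : Set Y => f ⁻¹' Z) {Z | Topology.IsConstructible Z} {Z | Topology.IsConstructible Z} ∧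
      Set.BijOn (fun Z : Set Y => f ⁻¹' Z) {Z | Topology.IsLocallyConstructible Z}
        {Z | Topology.IsLocallyConstructible Z} := by
  have hq' := EGA43QH.IsQH.of_bijective hf hq
  refine ⟨⟨fun Z₁ Z₂ h => ?_, fun W => ?_⟩, ⟨fun Z hZ => hq'.constructible_preimage hf hZ, ?_, ?_⟩, ⟨?_, ?_, ?_⟩⟩
  · exact Subtype.ext (hq'.eq_of_preimage_eq (EGA43QH.FLC.of_lc Z₁.2).locFLC (EGA43QH.FLC.of_lc Z₂.2).locFLC
      (congrArg Subtype.val h))
  · obtain ⟨Z, hZ, hZW⟩ := hq'.exists_lc W.2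
    exact ⟨⟨Z, hZ⟩, Subtype.ext hZW⟩
  · intro Z₁ h₁ Z₂ h₂ h
    exact hq'.eq_of_preimage_eq (EGA43QH.FLC.of_isConstructible h₁).locFLC
      (EGA43QH.FLC.of_isConstructible h₂).locFLC h
  · intro W hW
    obtain ⟨Z, hZ, rfl⟩ := hq'.exists_constructible hf hW
    exact ⟨Z, hZ, rfl⟩
  · intro Z hZ x
    obtain ⟨V, hVn, hV, hc⟩ := hZ (f x)
    have hVx : f x ∈ V := mem_of_mem_nhds hVn
    refine ⟨f ⁻¹' V, (hV.preimage hf).mem_nhds ?_, hV.preimage hf, ?_⟩
    · exact hVx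
    exact (hq'.restrict (Z := V) (EGA43QH.LocFLC.of_open hV)).constructible_preimage hf.restrictPreimage hc
  · intro Z₁ h₁ Z₂ h₂ h
    refine hq'.eq_of_preimage_eq (fun y => ?_) (fun y => ?_) h
    · obtain ⟨V, hyV, hV, hT⟩ := h₁ y
      exact ⟨V, hV, mem_of_mem_nhds hyV, (EGA43QH.subspace_flc_iff hV).1 (EGA43QH.FLC.of_isConstructible hT)⟩
    · obtain ⟨V, hyV, hV, hT⟩ := h₂ y
      exact ⟨V, hV, mem_of_mem_nhds hyV, (EGA43QH.subspace_flc_iff hV).1 (EGA43QH.FLC.of_isConstructible hT)⟩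
  · intro W hW
    obtain ⟨Z, hZ, hZ'⟩ := hq'.locFLC_of_glue hf (W := W) (fun _ C => Topology.IsConstructible C)
      (fun _ _ h => EGA43QH.FLC.of_isConstructible h) (fun x => by
      obtain ⟨V, hxV, hV, hT⟩ := hW x
      obtain ⟨U, hU, rfl⟩ := hq'.surj V hV
      obtain ⟨C, hC, hCW⟩ := (hq'.restrict (Z := U) (EGA43QH.LocFLC.of_open hU)).exists_constructible
        hf.restrictPreimage hT
      exact ⟨U, hU, (mem_of_mem_nhds hxV : x ∈ f ⁻¹' U), C, hC, fun z hz => (Set.ext_iff.1 hCW ⟨z, hz⟩).symm⟩)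
    refine ⟨Z, fun y => ?_, hZ⟩
    obtain ⟨U, hU, hyU, hP⟩ := hZ' y
    exact ⟨U, hU.mem_nhds hyU, hU, hP⟩

end Groth.Agent.S4897
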