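import Groth.Statements.S4898
import Groth.Agent.FlatModBC.FlatteningRing
import Groth.Agent.FlatModBC.Sections

set_option autoImplicit false
universe u
set_option linter.style.haveILetI false
set_option backward.isDefEq.respectTransparency false
open CategoryTheory AlgebraicGeometry
open EGA43

namespace Groth.Agent.S4898

open CategoryTheory.Limits in
/-- Over an affine irreducible base, tested on affine base changes, to which the general statement
reduces: let A be a commutative ring whose spectrum is irreducible, f : X ⟶ Spec A a morphism of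
finite presentation and F a quasi-coherent O_X-module of finite presentation. Then there are an
element h of A which is not nilpotent (so that U = Spec A_h is a nonempty open subset of Spec A) and
a finitely generated ideal J of A_h contained in the nilradical (so that the closed subscheme Z =
V(J) of U, of finite presentation over U, has the same underlying space as U) such that for every
A_h-algebra A' the pullback of F to X ×_{Spec A} Spec A' is flat over Spec A' if and only if J
generates the zero ideal of A', i.e. if and only if Spec A' ⟶ U factors through Z. (The published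
statement also asserts that, for a finite affine open cover (W_i) of X, U can be chosen so that the
sections of the pullback of F over each W_i ×_{Spec A} Spec A' form a free A'-module whenever Spec
A' ⟶ U factors through Z; this row omits that assertion.) -/
theorem result {A : Type u} [CommRing A] [IrreducibleSpace (PrimeSpectrum A)]
    {X : Scheme.{u}} (f : X ⟶ Spec (CommRingCat.of A))
    [LocallyOfFinitePresentation f] [QuasiCompact f] [QuasiSeparated f]
    (F : X.Modules) [Coh.IsQCoh F] (hF : CohB1.IsFP F) :
    ∃ (h : A) (_ : ¬ IsNilpotent h) (J : Ideal (Localization.Away h)) (_ : J.FG)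
      (_ : J ≤ nilradical (Localization.Away h)),
      ∀ (A' : Type u) [CommRing A'] [Algebra (Localization.Away h) A'],
        letI g : Spec (CommRingCat.of A') ⟶ Spec (CommRingCat.of A) :=
          Spec.map (CommRingCat.ofHom ((algebraMap (Localization.Away h) A').comp (algebraMap A (Localization.Away h))))
        (FlatMod.IsFlatOver (pullback.snd f g) ((Scheme.Modules.pullback (pullback.fst f g)).obj F) ↔
          Ideal.map (algebraMap (Localization.Away h) A') J = ⊥) := by
  classical
  let S₀ := Spec (CommRingCat.of A)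
  let V : S₀.Opens := ⊤
  have hV : IsAffineOpen V := isAffineOpen_top S₀
  obtain ⟨Ws, hWs⟩ : ∃ t : Finset X.affineOpens, (f ⁻¹ᵁ V : Set X) = ⋃ W ∈ t, (W.1 : Set X) := by
    have h := (isCompact_and_isOpen_iff_finite_and_eq_biUnion_affineOpens (X := X)).1
      ⟨f.isCompact_preimage hV.isCompact, (f ⁻¹ᵁ V).2⟩
    obtain ⟨t, ht, ht'⟩ := h
    exact ⟨ht.toFinset, by simpa using ht'⟩
  let ι := Fin Ws.card
  let w : ι → X.affineOpens := fun k => (Ws.equivFin.symm k).1
  let eA : A →+* Γ(S₀, V) := (Scheme.ΓSpecIso (CommRingCat.of A)).inv.hom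
  have e : ∀ k, (w k).1 ≤ f ⁻¹ᵁ V := fun _ _ _ => trivial
  let B : ι → Type u := fun k => Γ(X, (w k).1)
  let M : ι → Type u := fun k => Γ(F, (w k).1)
  letI : ∀ k, Algebra Γ(S₀, V) (B k) := fun k => (f.appLE V (w k).1 (e k)).hom.toAlgebra
  haveI : ∀ k, Algebra.FinitePresentation Γ(S₀, V) (B k) := fun k =>
    LocallyOfFinitePresentation.finitePresentation_appLE f hV (w k).2 (e k)
  letI : ∀ k, Module Γ(S₀, V) (M k) := fun k => Module.compHom Γ(F, (w k).1) (f.appLE V (w k).1 (e k)).hom
  haveI : ∀ k, IsScalarTower Γ(S₀, V) (B k) (M k) := fun k => IsScalarTower.of_algebraMap_smul fun _ _ => rfl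
  haveI : ∀ k, Module.FinitePresentation (B k) (M k) := fun k =>
    LocFree.finitePresentation_sections_of_isFP inferInstance hF (w k).2
  let ψ : PrimeSpectrum A ≃ₜ PrimeSpectrum Γ(S₀, V) :=
    PrimeSpectrum.homeomorphOfRingEquiv (Scheme.ΓSpecIso (CommRingCat.of A)).commRingCatIsoToRingEquiv.symm
  haveI : IrreducibleSpace (PrimeSpectrum Γ(S₀, V)) := ψ.surjective.irreducibleSpace ψ.continuous
  obtain ⟨h', hh', J', hJfg, hJnil, hiff⟩ := FlatModBC.exists_flattening (A := Γ(S₀, V)) B M
  let i : Γ(S₀, V) ≃+* A := (Scheme.ΓSpecIso (CommRingCat.of A)).commRingCatIsoToRingEquiv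
  let h : A := i h'
  let Ah := Localization.Away h
  let L := Localization.Away h'
  let j : L ≃+* Ah := IsLocalization.ringEquivOfRingEquiv L Ah i (M := Submonoid.powers h') (T := Submonoid.powers h)
    (Submonoid.map_powers i.toMonoidHom h')
  refine ⟨h, fun hn => hh' ((IsNilpotent.map_iff i.injective).1 hn), J'.map j.toRingHom, hJfg.map _, ?_, ?_⟩
  · refine (Ideal.map_mono hJnil).trans ?_
    rw [Ideal.map_le_iff_le_comap]
    exact fun x hx => mem_nilradical.2 ((mem_nilradical.1 hx).map j.toRingHom)
  intro A' _ _
  let g : Spec (CommRingCat.of A') ⟶ S₀ :=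
    Spec.map (CommRingCat.ofHom ((algebraMap (Localization.Away h) A').comp (algebraMap A (Localization.Away h))))
  let C := Γ(Spec (CommRingCat.of A'), ⊤)
  let iC : C ≃+* A' := (Scheme.ΓSpecIso (CommRingCat.of A')).commRingCatIsoToRingEquiv
  have eO : (⊤ : (Spec (CommRingCat.of A')).Opens) ≤ g ⁻¹ᵁ V := fun _ _ => trivial
  letI : Algebra Γ(S₀, V) C := (g.appLE V ⊤ eO).hom.toAlgebra
  letI : Algebra L C := (iC.symm.toRingHom.comp ((algebraMap Ah A').comp j.toRingHom)).toAlgebra
  haveI : IsScalarTower Γ(S₀, V) L C := IsScalarTower.of_algebraMap_eq fun a => by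
    show (g.appLE V ⊤ eO).hom a = iC.symm (algebraMap Ah A' (j (algebraMap Γ(S₀, V) L a)))
    rw [IsLocalization.ringEquivOfRingEquiv_eq, RingEquiv.eq_symm_apply]
    exact congr($(Scheme.ΓSpecIso_naturality (CommRingCat.ofHom ((algebraMap (Localization.Away h) A').comp (algebraMap A (Localization.Away h))))).hom a).trans rfl
  show FlatMod.IsFlatOver (pullback.snd f g) ((Scheme.Modules.pullback (pullback.fst f g)).obj F) ↔ _
  rw [FlatModBC.isFlatOver_iff_forall_flat (IsPullback.of_hasPullback f g) F hV (Ws : Set X.affineOpens)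
    (fun _ _ _ _ => trivial) (fun x _ => by
      have : x ∈ (f ⁻¹ᵁ V : Set X) := trivial
      rw [hWs, Set.mem_iUnion₂] at this
      obtain ⟨W, hW, hxW⟩ := this
      exact ⟨W, hW, hxW⟩) eO]
  refine Iff.trans ⟨fun H k => H ⟨w k, (Ws.equivFin.symm k).2⟩, fun H W => ?_⟩ ((hiff C).trans ?_)
  · obtain ⟨k, hk⟩ := Ws.equivFin.symm.surjective ⟨W.1, W.2⟩
    have : W = ⟨w k, (Ws.equivFin.symm k).2⟩ := Subtype.ext (congrArg Subtype.val hk).symm
    subst this
    exact H k
  · rw [RingHom.algebraMap_toAlgebra, ← Ideal.map_map, ← Ideal.map_map,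
      Ideal.map_eq_bot_iff_of_injective (f := iC.symm.toRingHom) iC.symm.injective]

end Groth.Agent.S4898
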