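import Groth.Statements.S4900
import Groth.Agent.FlatLimMod.Stage
import Groth.Agent.InjFibre.Stalk

set_option autoImplicit false
set_option backward.isDefEq.respectTransparency false
set_option linter.style.haveILetI false
universe u
open CategoryTheory AlgebraicGeometry
open EGA43

namespace Groth.Agent.S4900

/-- Let S be the limit of a cofiltered system (S_i) of schemes with affine transition morphisms, S_{i₀}
a quasi-compact stage, f₀ : X₀ ⟶ Y₀ an S_{i₀}-morphism between schemes of finite presentation over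
S_{i₀}, F₀ a quasi-coherent O_{X₀}-module of finite presentation, f : X ⟶ Y and F the base changes
to S, and x a point of X. Then F is f-flat at x if and only if there are an index i over i₀ and base
changes f_i : X_i ⟶ Y_i, F_i of f₀, F₀ to S_i (pullback squares, with the induced compatible
morphisms X ⟶ X_i, Y ⟶ Y_i) such that F_i is f_i-flat at the image x_i of x in X_i. -/
theorem result {I : Type u} [SmallCategory I] [IsCofiltered I]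
    (D : I ⥤ Scheme.{u}) (c : Limits.Cone D) (hc : Limits.IsLimit c)
    [∀ (i j : I) (φ : i ⟶ j), IsAffineHom (D.map φ)] (i₀ : I) [CompactSpace (D.obj i₀)]
    {X₀ Y₀ : Scheme.{u}} (f₀ : X₀ ⟶ Y₀) (g₀ : Y₀ ⟶ D.obj i₀)
    [LocallyOfFinitePresentation g₀] [QuasiCompact g₀] [QuasiSeparated g₀]
    [LocallyOfFinitePresentation (f₀ ≫ g₀)] [QuasiCompact (f₀ ≫ g₀)] [QuasiSeparated (f₀ ≫ g₀)]
    (F₀ : X₀.Modules) [Coh.IsQCoh F₀] (hF₀ : CohB1.IsFP F₀)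
    {X Y : Scheme.{u}} (f : X ⟶ Y) (g : Y ⟶ c.pt) (qY : Y ⟶ Y₀) (qX : X ⟶ X₀)
    (hY : IsPullback qY g g₀ (c.π.app i₀)) (hX : IsPullback qX f f₀ qY) (x : X) :
    FlatMod.IsFlatOverAt f ((Scheme.Modules.pullback qX).obj F₀) x ↔
      ∃ (i : I) (φ : i ⟶ i₀) (Xi Yi : Scheme.{u}) (fi : Xi ⟶ Yi) (gi : Yi ⟶ D.obj i)
        (pY : Yi ⟶ Y₀) (pX : Xi ⟶ X₀) (vY : Y ⟶ Yi) (vX : X ⟶ Xi),
        IsPullback pY gi g₀ (D.map φ) ∧ IsPullback pX fi f₀ pY ∧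
          vY ≫ pY = qY ∧ vY ≫ gi = g ≫ c.π.app i ∧ vX ≫ pX = qX ∧ vX ≫ fi = f ≫ vY ∧
          FlatMod.IsFlatOverAt fi ((Scheme.Modules.pullback pX).obj F₀) (vX x) := by
  haveI : ∀ {i j : I} (φ : i ⟶ j), IsAffineHom (D.map φ) := fun φ => ‹∀ (i j : I) (φ : i ⟶ j), IsAffineHom (D.map φ)› _ _ φ
  haveI : LocallyOfFinitePresentation f₀ := LimDesc.lfp_of_comp f₀ g₀
  have hq : Coh.IsQCoh F₀ := inferInstance
  constructor
  · intro h
    have hXS := LimDesc.isPullback_comp D g₀ c hY f₀ hX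
    haveI : LocallyOfFinitePresentation f := MorphismProperty.of_isPullback (P := @LocallyOfFinitePresentation) hX ‹_›
    let T := LimDesc.tower D (f₀ ≫ g₀)
    let cT := LimDesc.towerCone D (f₀ ≫ g₀) c hXS
    have : ∀ {i k : Over i₀} (a : i ⟶ k), IsAffineHom ((LimDesc.tower D (f₀ ≫ g₀)).map a) :=
      fun a => LimDesc.isAffineHom_tower_map D (f₀ ≫ g₀) a
    let P := (Scheme.Modules.pullback qX).obj F₀
    let L : X.Opens := ⟨_, InjFibre.isOpen_setOf_isFlatOverAt f P (QC.isQCoh_pullback qX hq)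
      (ModDesc.isFP_pullback qX hq hF₀)⟩
    obtain ⟨V, hV, hxV, -⟩ := exists_isAffineOpen_mem_and_subset (X := Y₀) (x := f₀ (qX x)) (U := ⊤) trivial
    obtain ⟨U, hU, hxU, hUV⟩ := exists_isAffineOpen_mem_and_subset (X := X₀) (x := qX x) (U := f₀ ⁻¹ᵁ V) hxV
    let o : Over i₀ := Over.mk (𝟙 i₀)
    haveI := LimDesc.isAffineHom_toBase D (f₀ ≫ g₀) o
    have hUo : IsAffineOpen (LimDesc.toBase D (f₀ ≫ g₀) o ⁻¹ᵁ U) := hU.preimage _
    have hxo : x ∈ cT.π.app o ⁻¹ᵁ (LimDesc.toBase D (f₀ ≫ g₀) o ⁻¹ᵁ U) := by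
      change LimDesc.toBase D (f₀ ≫ g₀) o (LimDesc.proj D (f₀ ≫ g₀) c hXS o x) ∈ U
      rwa [← Scheme.Hom.comp_apply, LimDesc.proj_toBase]
    have hcT := LimDesc.isLimitTowerCone D (f₀ ≫ g₀) c hXS hc
    obtain ⟨b, hbL, hxb⟩ := (ModDesc.isAffineOpen_preimage_π T cT hcT (j := o) hUo).exists_basicOpen_le
      (V := L) ⟨x, h⟩ hxo
    obtain ⟨k, a, t, e, ht⟩ := ModDesc.exists_appLE_eq T cT hcT (j := o) hUo b
    haveI := LimDesc.isAffineHom_toBase D g₀ k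
    let Uk : (LimDesc.stage D (f₀ ≫ g₀) k).Opens :=
      (LimDesc.stage D (f₀ ≫ g₀) k).basicOpen (U := T.map a ⁻¹ᵁ (LimDesc.toBase D (f₀ ≫ g₀) o ⁻¹ᵁ U)) t
    have hUkaff : IsAffineOpen (T.map a ⁻¹ᵁ (LimDesc.toBase D (f₀ ≫ g₀) o ⁻¹ᵁ U)) := hUo.preimage _
    have hUk : IsAffineOpen Uk := hUkaff.basicOpen t
    have hUk' : Uk ≤ LimDesc.toBase D (f₀ ≫ g₀) k ⁻¹ᵁ U := by
      refine ((LimDesc.stage D (f₀ ≫ g₀) k).basicOpen_le t).trans ?_
      change (LimDesc.trans D (f₀ ≫ g₀) a) ⁻¹ᵁ _ ≤ _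
      rw [← Scheme.Hom.comp_preimage, LimDesc.trans_toBase]
    have hUkV : Uk ≤ LimDesc.stageMap D g₀ f₀ k ⁻¹ᵁ (LimDesc.toBase D g₀ k ⁻¹ᵁ V) := by
      rw [← Scheme.Hom.comp_preimage, LimDesc.stageMap_toBase, Scheme.Hom.comp_preimage]
      exact hUk'.trans ((LimDesc.toBase D (f₀ ≫ g₀) k).preimage_mono hUV)
    have hb : X.basicOpen b = cT.π.app o ⁻¹ᵁ (LimDesc.toBase D (f₀ ≫ g₀) o ⁻¹ᵁ U) ⊓
        LimDesc.proj D (f₀ ≫ g₀) c hXS k ⁻¹ᵁ Uk := by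
      rw [← ht]
      exact Scheme.basicOpen_appLE _ _ _ _ _
    obtain ⟨j, aj, hj⟩ := FlatLimMod.exists_flat_over_piece D c hc f₀ g₀ hY hX F₀ hq hF₀ k
      (hV.preimage (LimDesc.toBase D g₀ k)) hUk hUkV fun y hy => hbL (hb.ge ⟨by
        have h1 : LimDesc.toBase D (f₀ ≫ g₀) k (LimDesc.proj D (f₀ ≫ g₀) c hXS k y) ∈ U := hUk' hy
        change LimDesc.toBase D (f₀ ≫ g₀) o (LimDesc.proj D (f₀ ≫ g₀) c hXS o y) ∈ U
        rw [← Scheme.Hom.comp_apply, LimDesc.proj_toBase] at h1 ⊢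
        exact h1, hy⟩)
    refine ⟨j.left, j.hom, _, _, LimDesc.stageMap D g₀ f₀ j, LimDesc.toStage D g₀ j, LimDesc.toBase D g₀ j,
      LimDesc.toBase D (f₀ ≫ g₀) j, LimDesc.proj D g₀ c hY j,
      LimDesc.proj D (f₀ ≫ g₀) c hXS j, LimDesc.isPullback_stage D g₀ j,
      LimDesc.isPullback_stageMap D g₀ f₀ j, LimDesc.proj_toBase D g₀ c hY j, LimDesc.proj_toStage D g₀ c hY j,
      LimDesc.proj_toBase D (f₀ ≫ g₀) c hXS j, LimDesc.proj_stageMap D g₀ c hY f₀ hX j, hj _ ?_⟩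
    change LimDesc.trans D (f₀ ≫ g₀) aj (LimDesc.proj D (f₀ ≫ g₀) c hXS j x) ∈ Uk
    have hw : LimDesc.proj D (f₀ ≫ g₀) c hXS j ≫ LimDesc.trans D (f₀ ≫ g₀) aj =
        LimDesc.proj D (f₀ ≫ g₀) c hXS k := cT.w aj
    rw [← Scheme.Hom.comp_apply, hw]
    exact (hb.le hxb).2
  · rintro ⟨i, φ, Xi, Yi, fi, gi, pY, pX, vY, vX, hYi, hXi, hvY, -, hvX, hvf, h⟩
    have hsq : IsPullback vX f fi vY := by
      refine IsPullback.of_right ?_ hvf hXi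
      rw [hvX, hvY]
      exact hX
    exact FlatLimMod.isFlatOverAt_of_iso f ((ModDesc.trIso vX pX hvX).app F₀)
      (FlatModBC.isFlatOverAt_baseChange hsq _ x h)

end Groth.Agent.S4900
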