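import Groth.Statements.S4901
import Groth.Agent.CokStage.Stage

set_option autoImplicit false
set_option linter.style.haveILetI false
universe u
open CategoryTheory AlgebraicGeometry
open EGA43

namespace Groth.Agent.S4901

open CategoryTheory.Limits in
/-- Let S be the limit of a cofiltered system (S_i) of schemes with affine transition morphisms, i₀ an
index, f₀ : X₀ ⟶ Y₀ a morphism locally of finite presentation of S_{i₀}-schemes, F₀ and G₀
quasi-coherent O_{X₀}-modules of finite presentation and h₀ : F₀ ⟶ G₀ a homomorphism; let f : X ⟶ Y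
and h = q^*h₀ be the base changes to S and x a point of X. Then the stalk map h_x is injective and
Coker h is f-flat at x if and only if there are an index i over i₀ and base changes f_i : X_i ⟶ Y_i,
h_i = p^*h₀ to S_i (pullback squares with the compatible morphisms X ⟶ X_i, Y ⟶ Y_i) such that
(h_i)_{x_i} is injective and Coker h_i is f_i-flat at the image x_i of x. -/
theorem result {I : Type u} [SmallCategory I] [IsCofiltered I]
    (D : I ⥤ Scheme.{u}) (c : Limits.Cone D) (hc : Limits.IsLimit c)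
    [∀ (i j : I) (φ : i ⟶ j), IsAffineHom (D.map φ)] (i₀ : I)
    {X₀ Y₀ : Scheme.{u}} (f₀ : X₀ ⟶ Y₀) (g₀ : Y₀ ⟶ D.obj i₀) [LocallyOfFinitePresentation f₀]
    (F₀ G₀ : X₀.Modules) [Coh.IsQCoh F₀] [Coh.IsQCoh G₀] (hF₀ : CohB1.IsFP F₀) (hG₀ : CohB1.IsFP G₀)
    (h₀ : F₀ ⟶ G₀)
    {X Y : Scheme.{u}} (f : X ⟶ Y) (g : Y ⟶ c.pt) (qY : Y ⟶ Y₀) (qX : X ⟶ X₀)
    (hY : IsPullback qY g g₀ (c.π.app i₀)) (hX : IsPullback qX f f₀ qY) (x : X) :
    (Function.Injective ((TopCat.Presheaf.stalkFunctor Ab x).map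
        (Scheme.Modules.Hom.mapPresheaf ((Scheme.Modules.pullback qX).map h₀))) ∧
      FlatMod.IsFlatOverAt f (cokernel ((Scheme.Modules.pullback qX).map h₀)) x) ↔
      ∃ (i : I) (φ : i ⟶ i₀) (Xi Yi : Scheme.{u}) (fi : Xi ⟶ Yi) (gi : Yi ⟶ D.obj i)
        (pY : Yi ⟶ Y₀) (pX : Xi ⟶ X₀) (vY : Y ⟶ Yi) (vX : X ⟶ Xi),
        IsPullback pY gi g₀ (D.map φ) ∧ IsPullback pX fi f₀ pY ∧
          vY ≫ pY = qY ∧ vY ≫ gi = g ≫ c.π.app i ∧ vX ≫ pX = qX ∧ vX ≫ fi = f ≫ vY ∧
          Function.Injective ((TopCat.Presheaf.stalkFunctor Ab (vX x)).map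
            (Scheme.Modules.Hom.mapPresheaf ((Scheme.Modules.pullback pX).map h₀))) ∧
          FlatMod.IsFlatOverAt fi (cokernel ((Scheme.Modules.pullback pX).map h₀)) (vX x) := by
  haveI : ∀ {i j : I} (φ : i ⟶ j), IsAffineHom (D.map φ) := fun φ => ‹∀ (i j : I) (φ : i ⟶ j), IsAffineHom (D.map φ)› _ _ φ
  have hFq : Coh.IsQCoh F₀ := inferInstance
  have hGq : Coh.IsQCoh G₀ := inferInstance
  constructor
  · rintro ⟨hinj, hflat⟩
    obtain ⟨j, h1, h2⟩ := CokStage.exists_injAt_flat_stage D c hc f₀ g₀ hY hX hFq hGq hF₀ hG₀ h₀ x hinj hflat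
    exact ⟨j.left, j.hom, _, _, LimDesc.stageMap D g₀ f₀ j, LimDesc.toStage D g₀ j, LimDesc.toBase D g₀ j,
      LimDesc.toBase D (f₀ ≫ g₀) j, LimDesc.proj D g₀ c hY j,
      LimDesc.proj D (f₀ ≫ g₀) c (LimDesc.isPullback_comp D g₀ c hY f₀ hX) j, LimDesc.isPullback_stage D g₀ j,
      LimDesc.isPullback_stageMap D g₀ f₀ j, LimDesc.proj_toBase D g₀ c hY j, LimDesc.proj_toStage D g₀ c hY j,
      LimDesc.proj_toBase D (f₀ ≫ g₀) c _ j, LimDesc.proj_stageMap D g₀ c hY f₀ hX j, h1, h2⟩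
  · rintro ⟨i, φ, Xi, Yi, fi, gi, pY, pX, vY, vX, hYi, hXi, hvY, -, hvX, hvf, hinj, hflat⟩
    have hsq : IsPullback vX f fi vY := by
      refine IsPullback.of_right ?_ hvf hXi
      rw [hvX, hvY]
      exact hX
    haveI : LocallyOfFinitePresentation fi :=
      MorphismProperty.of_isPullback (P := @LocallyOfFinitePresentation) hXi inferInstance
    let Fi := (Scheme.Modules.pullback pX).obj F₀
    let Gi := (Scheme.Modules.pullback pX).obj G₀
    let ui : Fi ⟶ Gi := (Scheme.Modules.pullback pX).map h₀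
    have hFi : Coh.IsQCoh Fi := QC.isQCoh_pullback pX hFq
    have hGi : Coh.IsQCoh Gi := QC.isQCoh_pullback pX hGq
    obtain ⟨V, hV, hzV, -⟩ := exists_isAffineOpen_mem_and_subset (X := Yi) (x := fi (vX x)) (U := ⊤) trivial
    have hopen := InjFibre.isOpen_setOf_isFlatOverAt fi (cokernel ui) (QC.isQCoh_cokernel hFi hGi ui)
      (CokStage.isFP_cokernel ui hFi hGi (ModDesc.isFP_pullback pX hFq hF₀) (ModDesc.isFP_pullback pX hGq hG₀))
    obtain ⟨U, hU, hzU, hUV⟩ := exists_isAffineOpen_mem_and_subset (X := Xi) (x := vX x)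
      (U := ⟨_, hopen⟩ ⊓ fi ⁻¹ᵁ V) ⟨hflat, hzV⟩
    let η := ModDesc.trIso vX pX hvX
    refine ⟨CokStage.injAt_congr (η.app F₀) (η.app G₀) (η.hom.naturality h₀).symm ?_, ?_⟩
    · refine (CokStage.injAt_pullback_iff hsq ui hFi hGi hV hU (fun y hy => (hUV hy).2)
        (fun y hy => (hUV hy).1) (x' := x) hzU).2 fun r hr => ?_
      refine CokStage.mgerm_pullSectLE_eq_zero vX Fi le_rfl r hzU ?_
      apply hinj
      refine (CokStage.stalk_map_mgerm ui hzU r).trans ?_
      rw [hr, map_zero]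
      exact (map_zero _).symm
    · exact FlatLimMod.isFlatOverAt_of_iso f
        ((PreservesCokernel.iso (Scheme.Modules.pullback vX) ui) ≪≫
          cokernel.mapIso _ _ (η.app F₀) (η.app G₀) (η.hom.naturality h₀))
        (FlatModBC.isFlatOverAt_baseChange hsq _ x hflat)

end Groth.Agent.S4901
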