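import Groth.Statements.S4903
import Mathlib.Tactic
import Mathlib.Topology.LocallyClosed

set_option autoImplicit false
universe u
open EGA43

namespace Groth.Agent.S4903

section
variable {X : Type u} [TopologicalSpace X]

/-- a finite union of locally closed sets -/
def QC (Z : Set X) : Prop := ∃ T : Set (Set X), T.Finite ∧ (∀ t ∈ T, IsLocallyClosed t) ∧ Z = ⋃₀ T

/-- locally quasi-constructible -/
def LQ (Z : Set X) : Prop :=
  ∀ x : X, ∃ U : Set X, IsOpen U ∧ x ∈ U ∧ ∃ T : Set (Set X), T.Finite ∧ (∀ t ∈ T, IsLocallyClosed t) ∧ U ∩ Z = ⋃₀ T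

theorem QC.of_lc {Z : Set X} (h : IsLocallyClosed Z) : QC Z :=
  ⟨{Z}, Set.finite_singleton Z, fun t ht => ht ▸ h, (Set.sUnion_singleton Z).symm⟩

theorem QC.empty : QC (∅ : Set X) := ⟨∅, Set.finite_empty, fun _ h => h.elim, Set.sUnion_empty.symm⟩

theorem QC.univ : QC (Set.univ : Set X) :=
  QC.of_lc ⟨Set.univ, Set.univ, isOpen_univ, isClosed_univ, (Set.inter_self _).symm⟩

theorem QC.union {A B : Set X} (hA : QC A) (hB : QC B) : QC (A ∪ B) := by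
  obtain ⟨S, hS, hS', rfl⟩ := hA
  obtain ⟨T, hT, hT', rfl⟩ := hB
  exact ⟨S ∪ T, hS.union hT, fun t ht => ht.elim (hS' t) (hT' t), (Set.sUnion_union S T).symm⟩

theorem QC.inter {A B : Set X} (hA : QC A) (hB : QC B) : QC (A ∩ B) := by
  obtain ⟨S, hS, hS', rfl⟩ := hA
  obtain ⟨T, hT, hT', rfl⟩ := hB
  refine ⟨Set.image2 (· ∩ ·) S T, hS.image2 _ hT, ?_, ?_⟩
  · rintro _ ⟨a, ha, b, hb, rfl⟩; exact (hS' a ha).inter (hT' b hb)
  · ext x; simp only [Set.mem_inter_iff, Set.mem_sUnion, Set.mem_image2]; aesop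

theorem QC.compl {A : Set X} (hA : QC A) : QC Aᶜ := by
  obtain ⟨T, hT, hT', rfl⟩ := hA
  induction T, hT using Set.Finite.induction_on with
  | empty => rw [Set.sUnion_empty, Set.compl_empty]; exact QC.univ
  | @insert a S _ _ ih =>
    obtain ⟨U, C, hU, hC, rfl⟩ := hT' a (Set.mem_insert _ _)
    rw [Set.sUnion_insert, Set.compl_union, Set.compl_inter]
    exact ((QC.of_lc hU.isClosed_compl.isLocallyClosed).union (QC.of_lc hC.isOpen_compl.isLocallyClosed)).inter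
      (ih fun t ht => hT' t (Set.mem_insert_of_mem _ ht))

theorem QC.lq {Z : Set X} (h : QC Z) : LQ Z := fun x => by
  obtain ⟨T, hT, hT', rfl⟩ := h
  exact ⟨Set.univ, isOpen_univ, trivial, T, hT, hT', Set.univ_inter _⟩

theorem LQ.inter {A B : Set X} (hA : LQ A) (hB : LQ B) : LQ (A ∩ B) := fun x => by
  obtain ⟨U, hU, hxU, hA⟩ := hA x
  obtain ⟨V, hV, hxV, hB⟩ := hB x
  refine ⟨U ∩ V, hU.inter hV, ⟨hxU, hxV⟩, ?_⟩
  rw [Set.inter_inter_inter_comm]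
  exact QC.inter hA hB

theorem LQ.compl {A : Set X} (hA : LQ A) : LQ Aᶜ := fun x => by
  obtain ⟨U, hU, hxU, hA⟩ := hA x
  refine ⟨U, hU, hxU, ?_⟩
  rw [show U ∩ Aᶜ = U ∩ (U ∩ A)ᶜ by ext; simp only [Set.mem_inter_iff, Set.mem_compl_iff]; tauto]
  exact (QC.of_lc hU.isLocallyClosed).inter (QC.compl hA)

theorem meets_lq {X₀ : Set X} (ha : ∀ Z : Set X, IsLocallyClosed Z → Z.Nonempty → (Z ∩ X₀).Nonempty)
    {Z : Set X} (hZ : LQ Z) (hne : Z.Nonempty) : (Z ∩ X₀).Nonempty := by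
  obtain ⟨x, hx⟩ := hne
  obtain ⟨U, -, hxU, T, -, hT, hUZ⟩ := hZ x
  obtain ⟨t, ht, hxt⟩ := hUZ.le ⟨hxU, hx⟩
  obtain ⟨y, hy, hy₀⟩ := ha t (hT t ht) ⟨x, hxt⟩
  exact ⟨y, (hUZ.ge ⟨t, ht, hy⟩).2, hy₀⟩

theorem eq_of_trace {X₀ : Set X} (ha : ∀ Z : Set X, IsLocallyClosed Z → Z.Nonempty → (Z ∩ X₀).Nonempty)
    {Z Z' : Set X} (hZ : LQ Z) (hZ' : LQ Z') (h : Z ∩ X₀ = Z' ∩ X₀) : Z = Z' := by
  have key : ∀ A B : Set X, LQ A → LQ B → A ∩ X₀ = B ∩ X₀ → A ⊆ B := by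
    intro A B hA hB hAB x hx
    by_contra hxB
    obtain ⟨y, ⟨hyA, hyB⟩, hy₀⟩ := meets_lq ha (hA.inter hB.compl) ⟨x, hx, hxB⟩
    exact hyB (hAB.le ⟨hyA, hy₀⟩).1
  exact Set.Subset.antisymm (key _ _ hZ hZ' h) (key _ _ hZ' hZ h.symm)

end


/-- Conditions a), b), b′), c″), c‴) and its last assertion: given a topological space X and a subset X₀
⊆ X, the statements below are equivalent. Every locally closed subset of X that is nonempty
intersects X₀. Every nonempty locally quasi-constructible subset of X intersects X₀; here a subset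
is locally quasi-constructible when each point of X has an open neighbourhood on which the subset's
trace can be written as a union of finitely many locally closed sets. Each locally
quasi-constructible Z ⊆ X is contained in the closure of Z ∩ X₀. Any two quasi-constructible subsets
of X (unions of finitely many locally closed sets) having equal traces on X₀ coincide. Any two
locally quasi-constructible subsets of X having equal traces on X₀ coincide. Assuming these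
conditions, each locally quasi-constructible subset of the subspace X₀ arises as the trace on X₀ of
some locally quasi-constructible subset of X. -/
theorem result {X : Type u} [TopologicalSpace X] (X₀ : Set X) :
    [∀ Z : Set X, IsLocallyClosed Z → Z.Nonempty → (Z ∩ X₀).Nonempty,
      ∀ Z : Set X, (∀ x : X, ∃ U : Set X, IsOpen U ∧ x ∈ U ∧ ∃ T : Set (Set X), T.Finite ∧ (∀ t ∈ T, IsLocallyClosed t) ∧ U ∩ Z = ⋃₀ T) → Z.Nonempty → (Z ∩ X₀).Nonempty,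
      ∀ Z : Set X, (∀ x : X, ∃ U : Set X, IsOpen U ∧ x ∈ U ∧ ∃ T : Set (Set X), T.Finite ∧ (∀ t ∈ T, IsLocallyClosed t) ∧ U ∩ Z = ⋃₀ T) → Z ⊆ closure (Z ∩ X₀),
      ∀ Z Z' : Set X, (∃ T : Set (Set X), T.Finite ∧ (∀ t ∈ T, IsLocallyClosed t) ∧ Z = ⋃₀ T) → (∃ T : Set (Set X), T.Finite ∧ (∀ t ∈ T, IsLocallyClosed t) ∧ Z' = ⋃₀ T) → Z ∩ X₀ = Z' ∩ X₀ → Z = Z',
      ∀ Z Z' : Set X, (∀ x : X, ∃ U : Set X, IsOpen U ∧ x ∈ U ∧ ∃ T : Set (Set X), T.Finite ∧ (∀ t ∈ T, IsLocallyClosed t) ∧ U ∩ Z = ⋃₀ T) → (∀ x : X, ∃ U : Set X, IsOpen U ∧ x ∈ U ∧ ∃ T : Set (Set X), T.Finite ∧ (∀ t ∈ T, IsLocallyClosed t) ∧ U ∩ Z' = ⋃₀ T) → Z ∩ X₀ = Z' ∩ X₀ → Z = Z'].TFAE ∧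
    ((∀ Z : Set X, IsLocallyClosed Z → Z.Nonempty → (Z ∩ X₀).Nonempty) →
      ∀ Z₀ : Set ↥X₀, (∀ x : ↥X₀, ∃ U : Set ↥X₀, IsOpen U ∧ x ∈ U ∧ ∃ T : Set (Set ↥X₀), T.Finite ∧ (∀ t ∈ T, IsLocallyClosed t) ∧ U ∩ Z₀ = ⋃₀ T) →
        ∃ Z : Set X, (∀ x : X, ∃ U : Set X, IsOpen U ∧ x ∈ U ∧ ∃ T : Set (Set X), T.Finite ∧ (∀ t ∈ T, IsLocallyClosed t) ∧ U ∩ Z = ⋃₀ T) ∧ Subtype.val ⁻¹' Z = Z₀) := by
  refine ⟨?_, fun ha Z₀ hZ₀ => ?_⟩
  · tfae_have 1 → 2 := fun ha Z hZ hne => meets_lq ha hZ hne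
    tfae_have 2 → 3 := fun hb Z hZ z hz => by
      refine mem_closure_iff.2 fun V hV hzV => ?_
      obtain ⟨y, ⟨hyV, hyZ⟩, hy₀⟩ := hb (V ∩ Z) (LQ.inter (QC.of_lc hV.isLocallyClosed).lq hZ) ⟨z, hzV, hz⟩
      exact ⟨y, hyV, hyZ, hy₀⟩
    tfae_have 3 → 1 := fun hb Z hZ ⟨z, hz⟩ => by
      obtain ⟨y, -, hy⟩ := mem_closure_iff.1 (hb Z (QC.of_lc hZ).lq hz) Set.univ isOpen_univ trivial
      exact ⟨y, hy⟩
    tfae_have 1 → 5 := fun ha Z Z' hZ hZ' h => eq_of_trace ha hZ hZ' h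
    tfae_have 5 → 4 := fun h Z Z' hZ hZ' => h Z Z' (QC.lq hZ) (QC.lq hZ')
    tfae_have 4 → 1 := fun h Z hZ hne => by
      by_contra hc
      rw [Set.not_nonempty_iff_eq_empty] at hc
      exact hne.ne_empty (h Z ∅ (QC.of_lc hZ) QC.empty (by rw [hc, Set.empty_inter]))
    tfae_finish
  · have hloc : ∀ x : ↥X₀, ∃ (U : Set X) (Z : Set X), IsOpen U ∧ (x : X) ∈ U ∧ QC Z ∧ Z ⊆ U ∧
        ∀ y : ↥X₀, (y : X) ∈ Z ↔ (y : X) ∈ U ∧ y ∈ Z₀ := by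
      intro x
      obtain ⟨U₀, hU₀, hxU, T, hT, hT', hUZ⟩ := hZ₀ x
      obtain ⟨U, hU, rfl⟩ := isOpen_induced_iff.1 hU₀
      choose s hs hst using fun t : T => Topology.IsInducing.subtypeVal.isLocallyClosed_iff.1 (hT' t.1 t.2)
      haveI := hT.to_subtype
      refine ⟨U, U ∩ ⋃₀ Set.range s, hU, hxU, (QC.of_lc hU.isLocallyClosed).inter
        ⟨Set.range s, Set.finite_range s, fun t ⟨i, hi⟩ => hi ▸ hs i, rfl⟩, Set.inter_subset_left, fun y => ?_⟩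
      constructor
      · rintro ⟨hyU, _, ⟨t, rfl⟩, hyt⟩
        exact ⟨hyU, (hUZ.ge ⟨t.1, t.2, (hst t).le hyt⟩).2⟩
      · rintro ⟨hyU, hy⟩
        obtain ⟨t, ht, hyt⟩ := hUZ.le ⟨hyU, hy⟩
        exact ⟨hyU, _, ⟨⟨t, ht⟩, rfl⟩, (hst ⟨t, ht⟩).ge hyt⟩
    choose U Z hU hxU hZ hsub htr using hloc
    have hag : ∀ x y, Z x ∩ U y = Z y ∩ U x := fun x y =>
      eq_of_trace ha ((hZ x).inter (QC.of_lc (hU y).isLocallyClosed)).lq
        ((hZ y).inter (QC.of_lc (hU x).isLocallyClosed)).lq (by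
          ext w
          simp only [Set.mem_inter_iff]
          constructor <;> rintro ⟨⟨h1, h2⟩, hw⟩
          · exact ⟨⟨(htr y ⟨w, hw⟩).2 ⟨h2, ((htr x ⟨w, hw⟩).1 h1).2⟩, hsub x h1⟩, hw⟩
          · exact ⟨⟨(htr x ⟨w, hw⟩).2 ⟨h2, ((htr y ⟨w, hw⟩).1 h1).2⟩, hsub y h1⟩, hw⟩)
    have hcov : ∀ z : X, ∃ x, z ∈ U x := by
      intro z
      by_contra hz
      simp only [not_exists] at hz
      obtain ⟨y, hy, hy₀⟩ := ha (⋃ x, U x)ᶜ (isOpen_iUnion hU).isClosed_compl.isLocallyClosed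
        ⟨z, by simpa using hz⟩
      exact hy (Set.mem_iUnion.2 ⟨⟨y, hy₀⟩, hxU _⟩)
    refine ⟨⋃ x, Z x, fun z => ?_, ?_⟩
    · obtain ⟨x, hx⟩ := hcov z
      refine ⟨U x, hU x, hx, ?_⟩
      have : U x ∩ (⋃ y, Z y) = Z x := by
        ext w
        constructor
        · rintro ⟨hw, hw'⟩
          obtain ⟨y, hy⟩ := Set.mem_iUnion.1 hw'
          exact ((hag y x).le ⟨hy, hw⟩).1
        · exact fun hw => ⟨hsub x hw, Set.mem_iUnion.2 ⟨x, hw⟩⟩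
      rw [this]
      exact hZ x
    · ext y
      simp only [Set.mem_preimage, Set.mem_iUnion]
      exact ⟨fun ⟨x, hx⟩ => ((htr x y).1 hx).2, fun hy => ⟨y, (htr y y).2 ⟨hxU y, hy⟩⟩⟩

end Groth.Agent.S4903
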