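import Groth.Statements.S4905
import Groth.Agent.RedImage.Basic
import Groth.Agent.FittLib.Comap

set_option autoImplicit false
set_option linter.style.haveILetI false
set_option backward.isDefEq.respectTransparency false
universe u
open CategoryTheory AlgebraicGeometry
open EGA43
open Groth.Agent

namespace Groth.Agent.S4905

set_option maxHeartbeats 2000000 in
open CategoryTheory.Limits in
/-- Let k be a field, X a k-scheme, (f_i : Z_i ⟶ X) a family of k-morphisms with every Z_i geometrically
reduced over k, and Y the reduced closed subscheme of X whose underlying space is the closure of ⋃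
f_i(Z_i), i.e. the closed subscheme defined by the vanishing ideal sheaf of that closed set. Let k'
be a field extension of k, X' = X ⊗_k k' and f'_i : Z_i ⊗_k k' ⟶ X' the base changes. Then the
reduced closed subscheme of X' on the closure of ⋃ f'_i(Z_i ⊗_k k') is Y ⊗_k k': the vanishing ideal
sheaf of that closure equals the pullback (comap) along X' ⟶ X of the vanishing ideal sheaf defining
Y. (The published statement also concludes that Y is geometrically reduced over k; this row states
only the equality of Y' with Y ⊗_k k'.) -/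
theorem result {k : Type u} [Field k] {X : Scheme.{u}}
    (p : X ⟶ Spec (CommRingCat.of k)) {ι : Type u} (Z : ι → Scheme.{u}) (f : ∀ i, Z i ⟶ X)
    (hred : ∀ (i : ι) (z : Z i), FBase.IsGeomReducedAt (f i ≫ p) z)
    (k' : Type u) [Field k'] [Algebra k k'] :
    letI q : Spec (CommRingCat.of k') ⟶ Spec (CommRingCat.of k) := Spec.map (CommRingCat.ofHom (algebraMap k k'))
    letI f' : ∀ i, pullback (f i ≫ p) q ⟶ pullback p q :=
      fun i => pullback.map (f i ≫ p) q p q (f i) (𝟙 _) (𝟙 _) (Category.comp_id _) ((Category.comp_id _).trans (Category.id_comp _).symm)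
    Scheme.IdealSheafData.vanishingIdeal (TopologicalSpace.Closeds.closure (⋃ i, Set.range (f' i))) =
      (Scheme.IdealSheafData.vanishingIdeal (TopologicalSpace.Closeds.closure (⋃ i, Set.range (f i)))).comap
        (pullback.fst p q) := by
  let q : Spec (CommRingCat.of k') ⟶ Spec (CommRingCat.of k) := Spec.map (CommRingCat.ofHom (algebraMap k k'))
  let f' : ∀ i, pullback (f i ≫ p) q ⟶ pullback p q :=
    fun i => pullback.map (f i ≫ p) q p q (f i) (𝟙 _) (𝟙 _) (Category.comp_id _) ((Category.comp_id _).trans (Category.id_comp _).symm)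
  have hf1 : ∀ i, f' i ≫ pullback.fst p q = pullback.fst (f i ≫ p) q ≫ f i := fun i => pullback.lift_fst _ _ _
  have hf2 : ∀ i, f' i ≫ pullback.snd p q = pullback.snd (f i ≫ p) q :=
    fun i => (pullback.lift_snd _ _ _).trans (Category.comp_id _)
  haveI hZ' : ∀ i, AlgebraicGeometry.IsReduced (pullback (f i ≫ p) q) := fun i => by
    haveI : ∀ z : ↥(pullback (f i ≫ p) q), _root_.IsReduced ((pullback (f i ≫ p) q).presheaf.stalk z) :=
      fun z => hred i _ k' z rfl
    exact isReduced_of_isReduced_stalk _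
  haveI hZ : ∀ i, AlgebraicGeometry.IsReduced (Z i) := fun i => by
    let qk := Spec.map (CommRingCat.ofHom (algebraMap k k))
    haveI : IsIso qk := by
      change IsIso (Spec.map (CommRingCat.ofHom (algebraMap k k)))
      rw [Algebra.algebraMap_self, CommRingCat.ofHom_id, Spec.map_id]
      infer_instance
    haveI : ∀ z : ↥(pullback (f i ≫ p) qk), _root_.IsReduced ((pullback (f i ≫ p) qk).presheaf.stalk z) :=
      fun z => hred i _ k z rfl
    haveI : AlgebraicGeometry.IsReduced (pullback (f i ≫ p) qk) := isReduced_of_isReduced_stalk _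
    exact isReduced_of_isOpenImmersion (inv (pullback.fst (f i ≫ p) qk))
  let C := TopologicalSpace.Closeds.closure (⋃ i, Set.range (f i))
  let C' := TopologicalSpace.Closeds.closure (⋃ i, Set.range (f' i))
  change Scheme.IdealSheafData.vanishingIdeal C' = (Scheme.IdealSheafData.vanishingIdeal C).comap (pullback.fst p q)
  -- affine charts
  have hK : IsField Γ(Spec (CommRingCat.of k), ⊤) := SepFam.isField_Γ_Spec k
  letI algC := (q.appLE ⊤ ⊤ le_top).hom.toAlgebra
  haveI : Module.Free Γ(Spec (CommRingCat.of k), ⊤) Γ(Spec (CommRingCat.of k'), ⊤) :=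
    letI := hK.toField
    Module.Free.of_divisionRing _ _
  let e := Module.Free.chooseBasis Γ(Spec (CommRingCat.of k), ⊤) Γ(Spec (CommRingCat.of k'), ⊤)
  have hpiece := fun (U : X.affineOpens) => RedImage.exists_piece_basis (IsPullback.of_hasPullback p q)
    (isAffineOpen_top _) U.2 (le_top : U.1 ≤ p ⁻¹ᵁ ⊤) (isAffineOpen_top _) (le_top : ⊤ ≤ q ⁻¹ᵁ ⊤) e
  refine Scheme.IdealSheafData.ext_of_iSup_eq_top (fun U : X.affineOpens =>
    (⟨pullback.fst p q ⁻¹ᵁ U.1 ⊓ pullback.snd p q ⁻¹ᵁ ⊤, (hpiece U).1⟩ : (pullback p q).affineOpens)) ?_ fun U => ?_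
  · refine top_le_iff.1 fun x _ => ?_
    obtain ⟨U, hU, hxU, -⟩ := exists_isAffineOpen_mem_and_subset (X := X) (x := pullback.fst p q x) (U := ⊤) trivial
    exact TopologicalSpace.Opens.mem_iSup.2 ⟨⟨U, hU⟩, hxU, trivial⟩
  obtain ⟨hW, eW, heW⟩ := hpiece U
  let W : (pullback p q).affineOpens := ⟨pullback.fst p q ⁻¹ᵁ U.1 ⊓ pullback.snd p q ⁻¹ᵁ ⊤, hW⟩
  letI algW : Algebra Γ(X, U.1) Γ(pullback p q, W.1) :=
    ((pullback.fst p q).appLE U.1 W.1 inf_le_left).hom.toAlgebra
  refine le_antisymm (fun a ha => ?_) ?_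
  · rw [FittLib.comap_ideal (pullback.fst p q) _ U.2 W.2 inf_le_left]
    have ha' := (RedImage.mem_vanishingIdeal_closure_iff f' W a).1 ha
    rw [← eW.linearCombination_repr a, Finsupp.linearCombination_apply]
    refine Ideal.sum_mem _ fun l _ => ?_
    change (eW.repr a l) • eW l ∈ _
    rw [Algebra.smul_def]
    refine Ideal.mul_mem_right _ _ (Ideal.mem_map_of_mem _ ?_)
    refine (RedImage.mem_vanishingIdeal_closure_iff f U _).2 fun i => ?_
    refine TopCat.Presheaf.section_ext (Z i).sheaf _ _ 0 fun z hz => ?_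
    obtain ⟨V, hV, hzV, hVU⟩ := exists_isAffineOpen_mem_and_subset (X := Z i) (x := z) (U := f i ⁻¹ᵁ U.1) hz
    suffices h0 : (f i).appLE U.1 V hVU (eW.repr a l) = 0 by
      have h1 := (Z i).presheaf.germ_res_apply (homOfLE hVU) z hzV ((f i).app U.1 (eW.repr a l))
      change (Z i).presheaf.germ _ z hz ((f i).app U.1 (eW.repr a l)) = (Z i).presheaf.germ _ z hz 0
      rw [← h1, map_zero]
      change (Z i).presheaf.germ V z hzV ((f i).appLE U.1 V hVU (eW.repr a l)) = 0
      rw [h0, map_zero]
    obtain ⟨hV', eV, heV⟩ := RedImage.exists_piece_basis (IsPullback.of_hasPullback (f i ≫ p) q)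
      (isAffineOpen_top _) hV (le_top : V ≤ (f i ≫ p) ⁻¹ᵁ ⊤) (isAffineOpen_top _) (le_top : ⊤ ≤ q ⁻¹ᵁ ⊤) e
    let V' := pullback.fst (f i ≫ p) q ⁻¹ᵁ V ⊓ pullback.snd (f i ≫ p) q ⁻¹ᵁ ⊤
    letI algV : Algebra Γ(Z i, V) Γ(pullback (f i ≫ p) q, V') :=
      ((pullback.fst (f i ≫ p) q).appLE V V' inf_le_left).hom.toAlgebra
    have hle : V' ≤ f' i ⁻¹ᵁ W.1 := by
      intro y hy
      refine ⟨?_, trivial⟩
      change pullback.fst p q (f' i y) ∈ U.1
      rw [← Scheme.Hom.comp_apply, hf1, Scheme.Hom.comp_apply]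
      exact hVU hy.1
    have hcomb : Finsupp.linearCombination Γ(Z i, V) eV (Finsupp.mapRange ((f i).appLE U.1 V hVU).hom (map_zero _) (eW.repr a)) =
        ((f' i).appLE W.1 V' hle).hom a := by
      conv_rhs => rw [← eW.linearCombination_repr a, Finsupp.linearCombination_apply, map_finsuppSum]
      rw [Finsupp.linearCombination_apply, Finsupp.sum_mapRange_index (fun l => by rw [zero_smul])]
      refine Finsupp.sum_congr fun l _ => ?_
      rw [Algebra.smul_def, Algebra.smul_def, map_mul, heW, heV]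
      have h1 : (pullback.fst p q).appLE U.1 W.1 inf_le_left ≫ (f' i).appLE W.1 V' hle =
          (f i).appLE U.1 V hVU ≫ (pullback.fst (f i ≫ p) q).appLE V V' inf_le_left := by
        rw [Scheme.Hom.appLE_comp_appLE, Scheme.Hom.appLE_comp_appLE]
        simp only [hf1]
      have h2 : (pullback.snd p q).appLE ⊤ W.1 inf_le_right ≫ (f' i).appLE W.1 V' hle =
          (pullback.snd (f i ≫ p) q).appLE ⊤ V' inf_le_right := by
        rw [Scheme.Hom.appLE_comp_appLE]
        simp only [hf2]
      exact congrArg₂ (· * ·) congr($(h1.symm).hom (eW.repr a l)) congr($(h2.symm).hom (e l))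
    have hzero : ((f' i).appLE W.1 V' hle).hom a = 0 := by
      rw [Scheme.Hom.appLE, CommRingCat.comp_apply, ha' i, map_zero]
    rw [hzero] at hcomb
    have h3 := congrArg eV.repr hcomb
    rw [eV.repr_linearCombination, map_zero] at h3
    simpa using Finsupp.ext_iff.1 h3 l
  · rw [FittLib.comap_ideal (pullback.fst p q) _ U.2 W.2 inf_le_left, Ideal.map_le_iff_le_comap]
    intro a ha
    refine (RedImage.mem_vanishingIdeal_closure_iff f' W _).2 fun i => ?_
    have ha' := (RedImage.mem_vanishingIdeal_closure_iff f U a).1 ha i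
    rw [Scheme.Hom.app_eq_appLE, ← CommRingCat.comp_apply, Scheme.Hom.appLE_comp_appLE]
    simp only [hf1]
    rw [← Scheme.Hom.appLE_comp_appLE _ _ U.1 (f i ⁻¹ᵁ U.1) _ le_rfl ?_, CommRingCat.comp_apply, ← Scheme.Hom.app_eq_appLE,
      ha', map_zero]
    intro y hy
    have hy' := hy.1
    change pullback.fst p q (f' i y) ∈ U.1 at hy'
    rw [← Scheme.Hom.comp_apply, hf1] at hy'
    exact hy'

end Groth.Agent.S4905
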