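import Groth.Statements.S4908
import Groth.Agent.SepFam.Mod

set_option autoImplicit false
set_option linter.style.haveILetI false
set_option backward.isDefEq.respectTransparency false
universe u
open CategoryTheory AlgebraicGeometry
open EGA43
open Groth.Agent

namespace Groth.Agent.S4908

/-- Case Z_λ = X: let X be a scheme, u_i : F ⟶ G_i a family of homomorphisms of quasi-coherent
O_X-modules and g : X' ⟶ X a faithfully flat morphism. If the family (g^*u_i : g^*F ⟶ g^*G_i) is
separating — a section of g^*F over an open subset killed by every g^*u_i is zero — then the family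
(u_i) is separating. (The published statement allows homomorphisms into direct images (f_λ)_*G_λ
along morphisms f_λ : Z_λ ⟶ X; this row is the case Z_λ = X, to which the general case reduces.) -/
theorem result {X X' : Scheme.{u}} (F : X.Modules) [Coh.IsQCoh F] {ι : Type u}
    (G : ι → X.Modules) [∀ i, Coh.IsQCoh (G i)] (u : ∀ i, F ⟶ G i) (g : X' ⟶ X) [Flat g] [Surjective g]
    (h : (∀ (V : (X').Opens) (t : ↑(((Scheme.Modules.pullback g).obj F).presheaf.obj (Opposite.op V))), (∀ i, (Scheme.Modules.Hom.mapPresheaf ((Scheme.Modules.pullback g).map (u i))).app (Opposite.op V) t = 0) → t = 0)) :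
    (∀ (V : (X).Opens) (t : ↑((F).presheaf.obj (Opposite.op V))), (∀ i, (Scheme.Modules.Hom.mapPresheaf (u i)).app (Opposite.op V) t = 0) → t = 0) := by
  intro V t ht
  refine WeakAssLib.ext_germ F t fun x hx => ?_
  obtain ⟨x', rfl⟩ := g.surjective x
  obtain ⟨U, hU, hxU, hUV⟩ := exists_isAffineOpen_mem_and_subset (X := X) (x := g x') (U := V) hx
  obtain ⟨W, hW, hxW, hWU⟩ := exists_isAffineOpen_mem_and_subset (X := X') (x := x') (U := g ⁻¹ᵁ U) hxU
  let m : Γ(F, U) := QC.res F hUV t
  have hm : ∀ i, (u i).app U m = 0 := fun i => by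
    change (u i).app U (QC.res F hUV t) = 0
    rw [SepFam.app_res]
    exact (congrArg _ (ht i)).trans (map_zero _)
  have h0 : ModDesc.pullSectLE g F U W hWU m = 0 := h W _ fun i => by
    refine (ModDesc.app_pullSectLE g (u i) U W hWU m).trans ?_
    rw [hm i, map_zero]
  letI : Algebra Γ(X, U) Γ(X', W) := (g.appLE U W hWU).hom.toAlgebra
  haveI : Module.Flat Γ(X, U) Γ(X', W) := RingHom.flat_algebraMap_iff.1 (Flat.flat_appLE g hU hW (e := hWU))
  obtain ⟨Φ, hΦ⟩ := ModDesc.exists_bijective_liftBaseChange g F hU hW hWU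
  have h1 : (1 : Γ(X', W)) ⊗ₜ[Γ(X, U)] m = 0 := Φ.injective (by rw [hΦ, h0, map_zero])
  let j : Γ(X, U) →ₗ[Γ(X, U)] Γ(F, U) := LinearMap.toSpanSingleton _ _ m
  have hex := Module.Flat.lTensor_exact Γ(X', W) (LinearMap.exact_subtype_ker_map j)
  have h2 : j.lTensor Γ(X', W) (1 ⊗ₜ 1) = 0 := by simpa [j] using h1
  obtain ⟨z, hz⟩ := (hex _).1 h2
  have h3 : (1 : Γ(X', W)) ∈ Ideal.map (algebraMap Γ(X, U) Γ(X', W)) (LinearMap.ker j) := by
    have h4 := congrArg (TensorProduct.rid Γ(X, U) Γ(X', W)) hz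
    rw [TensorProduct.rid_tmul, one_smul] at h4
    rw [← h4]
    clear hz h4
    induction z using TensorProduct.induction_on with
    | zero => simp
    | tmul c a =>
      rw [LinearMap.lTensor_tmul, TensorProduct.rid_tmul, Algebra.smul_def]
      exact Ideal.mul_mem_right _ _ (Ideal.mem_map_of_mem _ a.2)
    | add y z hy hz => rw [map_add, map_add]; exact add_mem hy hz
  obtain ⟨a, ha, haq⟩ : ∃ a ∈ (LinearMap.ker j : Ideal Γ(X, U)), a ∉ (hU.primeIdealOf ⟨g x', hxU⟩).asIdeal := by
    by_contra hcon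
    push Not at hcon
    refine (hW.primeIdealOf ⟨x', hxW⟩).isPrime.ne_top ((Ideal.eq_top_iff_one _).2 (Ideal.map_le_iff_le_comap.2 (fun a ha => ?_) h3))
    have h5 := hcon a ha
    rw [← IsAffineOpen.comap_primeIdealOf_appLE (f := g) U hU W hW hWU hxW] at h5
    exact h5
  rw [← WeakAssLib.mgerm_res F hUV hxU t]
  exact (WeakAssLib.germ_eq_zero_iff hU (QC.isLoc_of_isQCoh hU) hxU m).2 ⟨a, haq, ha⟩

end Groth.Agent.S4908
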