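import Groth.Statements.S4909
import Groth.Agent.FlatInj.Core
import Groth.Agent.SepFam.ModFlat
import Groth.Agent.QC.Coherent

set_option autoImplicit false
set_option backward.isDefEq.respectTransparency false
universe u
open CategoryTheory AlgebraicGeometry
open EGA43

namespace Groth.Agent.S4909

open TensorProduct in
/-- Arbitrary families, flat finitely presented algebras. -/
theorem sepBC_flat_fp {B : Type u} [CommRing B] {M : Type u} [AddCommGroup M] [Module B M] {ι : Type u}
    {N : ι → Type u} [∀ i, AddCommGroup (N i)] [∀ i, Module B (N i)] (u : ∀ i, M →ₗ[B] N i)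
    (C : Type u) [CommRing C] [Algebra B C] [Algebra.FinitePresentation B C] [Module.Flat B C]
    (h : SepFam.Sep u) : SepFam.SepBC u C := by
  intro r w hw
  let Cr := Localization.Away r
  haveI : Module.Flat C Cr := IsLocalization.flat Cr (Submonoid.powers r)
  haveI : Module.Flat B Cr := Module.Flat.trans B C Cr
  haveI : Algebra.FinitePresentation C Cr := IsLocalization.Away.finitePresentation r
  haveI : Algebra.FinitePresentation B Cr := Algebra.FinitePresentation.trans B C Cr
  let S := Submonoid.powers r
  let g : C →ₗ[C] Cr := Algebra.linearMap C Cr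
  haveI : IsLocalizedModule S g := inferInstance
  let gM := AlgebraTensorModule.rTensor B M g
  suffices hz : gM w = 0 by
    obtain ⟨⟨_, n, rfl⟩, hn⟩ := (IsLocalizedModule.eq_zero_iff S gM).mp hz
    exact ⟨n, hn⟩
  apply (TensorProduct.comm B Cr M).injective
  rw [map_zero]
  refine Groth.Agent.FlatInj.eq_zero_of_forall_rTensor u (fun f x hx => ?_) _ fun i => ?_
  · induction x using LocalizedModule.induction_on with | _ a s => ?_
    obtain ⟨n, hn⟩ := h f a fun i => by
      have h1 := hx i
      rw [IsLocalizedModule.map_LocalizedModules, ← LocalizedModule.zero_mk (1 : Submonoid.powers f),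
        LocalizedModule.mk_eq] at h1
      obtain ⟨⟨_, n, rfl⟩, hn⟩ := h1
      rw [smul_zero, smul_zero, one_smul, Submonoid.smul_def] at hn
      exact ⟨n, hn⟩
    rw [← LocalizedModule.zero_mk (1 : Submonoid.powers f), LocalizedModule.mk_eq]
    refine ⟨⟨f ^ n, n, rfl⟩, ?_⟩
    rw [smul_zero, smul_zero, one_smul, Submonoid.smul_def]
    exact hn
  · have e : ∀ z : C ⊗[B] M, (u i).rTensor Cr (TensorProduct.comm B Cr M (gM z)) =
        TensorProduct.comm B Cr (N i) (AlgebraTensorModule.rTensor B (N i) g ((u i).baseChange C z)) := by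
      intro z
      induction z using TensorProduct.induction_on with
      | zero => simp
      | add a b ha hb => simp only [map_add, ha, hb]
      | tmul c m => simp [gM]
    rw [e]
    obtain ⟨n, hn⟩ := hw i
    have h0 : AlgebraTensorModule.rTensor B (N i) g ((u i).baseChange C w) = 0 :=
      (IsLocalizedModule.eq_zero_iff S _).mpr ⟨⟨r ^ n, n, rfl⟩, hn⟩
    rw [h0, map_zero]

/-- Case Z_λ = X: let X be a scheme, u_i : F ⟶ G_i a separating family of homomorphisms of
quasi-coherent O_X-modules (a section of F over an open subset killed by every u_i is zero) and g :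
X' ⟶ X a flat morphism locally of finite presentation. Then the family (g^*u_i : g^*F ⟶ g^*G_i) is
separating. (The published statement allows homomorphisms into direct images (f_λ)_*G_λ; this row is
the case Z_λ = X, to which the general case reduces.) -/
theorem result {X X' : Scheme.{u}} (F : X.Modules) [Coh.IsQCoh F] {ι : Type u}
    (G : ι → X.Modules) [∀ i, Coh.IsQCoh (G i)] (u : ∀ i, F ⟶ G i) (g : X' ⟶ X) [Flat g] [LocallyOfFinitePresentation g]
    (h : (∀ (V : (X).Opens) (t : ↑((F).presheaf.obj (Opposite.op V))), (∀ i, (Scheme.Modules.Hom.mapPresheaf (u i)).app (Opposite.op V) t = 0) → t = 0)) :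
    (∀ (V : (X').Opens) (t : ↑(((Scheme.Modules.pullback g).obj F).presheaf.obj (Opposite.op V))), (∀ i, (Scheme.Modules.Hom.mapPresheaf ((Scheme.Modules.pullback g).map (u i))).app (Opposite.op V) t = 0) → t = 0) := by
  have hF : Coh.IsQCoh F := inferInstance
  have hG : ∀ i, Coh.IsQCoh (G i) := fun i => inferInstance
  refine SepFam.sepMod_of_cover _ (QC.isQCoh_pullback _ hF) (fun i => QC.isQCoh_pullback _ (hG i)) fun x => ?_
  obtain ⟨U, hU, hxU, -⟩ := exists_isAffineOpen_mem_and_subset (x := g x) (U := (⊤ : X.Opens)) trivial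
  obtain ⟨W, hW, hxW, hWU⟩ := exists_isAffineOpen_mem_and_subset (x := x) (U := g ⁻¹ᵁ U) hxU
  refine ⟨W, hW, hxW, SepFam.sep_pullback_of_sepBC u hF hG g hU hW hWU ?_⟩
  letI := (g.appLE U W hWU).hom.toAlgebra
  haveI : Algebra.FinitePresentation Γ(X, U) Γ(X', W) := g.finitePresentation_appLE hU hW hWU
  haveI : Module.Flat Γ(X, U) Γ(X', W) := g.flat_appLE hU hW hWU
  exact sepBC_flat_fp _ _ (SepFam.sep_of_sepMod u hF hG h hU)

end Groth.Agent.S4909
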