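import Groth.Statements.S4910
import Groth.Agent.SepFam.Mod
import Groth.Agent.SepFam.Residue
import Groth.Agent.QC.Coherent

set_option autoImplicit false
set_option linter.style.haveILetI false
set_option backward.isDefEq.respectTransparency false
universe u
open CategoryTheory AlgebraicGeometry
open EGA43
open Groth.Agent

namespace Groth.Agent.S4910

open CategoryTheory.Limits in
/-- Case Z_λ = X: let p : X ⟶ S be a morphism with X locally Noetherian, F a coherent O_X-module, (G_i)
a family of quasi-coherent O_X-modules flat over S and u_i : F ⟶ G_i homomorphisms. Then the family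
(u_i) is universally separating relative to S — for every base change S' ⟶ S the pulled-back family
on X ×_S S' is separating (a section of the pulled-back F over an open subset killed by every member
is zero) — if and only if, for every point s of S, the family pulled back to the fibre X_s is
separating. (The published statement allows homomorphisms into direct images (f_λ)_*G_λ with the G_λ
flat over S; this row is the case Z_λ = X.) -/
theorem result {X S : Scheme.{u}} [IsLocallyNoetherian X]
    (p : X ⟶ S) (F : X.Modules) (hF : Coh.IsCoh F) {ι : Type u} (G : ι → X.Modules) [∀ i, Coh.IsQCoh (G i)]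
    (hG : ∀ i, FlatMod.IsFlatOver p (G i)) (u : ∀ i, F ⟶ G i) :
    (∀ (S' : Scheme.{u}) (g : S' ⟶ S),
      (∀ (V : (pullback p g).Opens) (t : ↑(((Scheme.Modules.pullback (pullback.fst p g)).obj F).presheaf.obj (Opposite.op V))), (∀ i, (Scheme.Modules.Hom.mapPresheaf ((Scheme.Modules.pullback (pullback.fst p g)).map (u i))).app (Opposite.op V) t = 0) → t = 0)) ↔
    ∀ s : S, (∀ (V : (p.fiber s).Opens) (t : ↑(((Scheme.Modules.pullback (p.fiberι s)).obj F).presheaf.obj (Opposite.op V))), (∀ i, (Scheme.Modules.Hom.mapPresheaf ((Scheme.Modules.pullback (p.fiberι s)).map (u i))).app (Opposite.op V) t = 0) → t = 0) := by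
  refine ⟨fun h s => h _ _, fun h S' g => ?_⟩
  have hF' : Coh.IsQCoh F := hF.1
  have hG' : ∀ i, Coh.IsQCoh (G i) := fun i => inferInstance
  refine SepFam.sepMod_pullback u (IsPullback.of_hasPullback p g) hF' hG' fun x => ?_
  obtain ⟨V, hV, U, hU, hUV, O, hO, hOV, hx⟩ := SepFam.exists_chart (pullback.condition (f := p) (g := g)) x
  refine ⟨V, hV, U, hU, hUV, O, hO, hOV, hx, ?_⟩
  letI : Algebra Γ(S, V) Γ(X, U) := (p.appLE V U hUV).hom.toAlgebra
  letI : Algebra Γ(S, V) Γ(S', O) := (g.appLE V O hOV).hom.toAlgebra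
  letI : ∀ i, Module Γ(S, V) Γ(G i, U) := fun i => FlatModB.secModule p (G i) U V hUV
  haveI : ∀ i, IsScalarTower Γ(S, V) Γ(X, U) Γ(G i, U) := fun i => IsScalarTower.of_algebraMap_smul fun _ _ => rfl
  haveI : ∀ i, Module.Flat Γ(S, V) Γ(G i, U) := fun i =>
    (FlatModB.flat_sections_iff p (G i) (hG' i) hU hV hUV).2 fun x _ => hG i x
  haveI : IsNoetherianRing Γ(X, U) := IsLocallyNoetherian.component_noetherian ⟨U, hU⟩
  haveI : Module.Finite Γ(X, U) Γ(F, U) := (QC.isCoh_iff_finite_sections.1 hF).2 ⟨U, hU⟩
  refine SepFam.sepBC_of_fibres (A := Γ(S, V)) _ (fun P _ => ?_) _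
  obtain ⟨s, hs, θ, hθ⟩ := SepFam.exists_residue_alg hV P
  obtain ⟨hW, hiff⟩ := SepFam.piece_iff u (IsPullback.of_hasPullback p (S.fromSpecResidueField s)) hF' hG'
    hV hU hUV (isAffineOpen_top _) hs
  letI : Algebra Γ(S, V) Γ(Spec (S.residueField s), ⊤) := ((S.fromSpecResidueField s).appLE V ⊤ hs).hom.toAlgebra
  have h2 := hiff.1 (SepFam.sep_of_sepMod _ (QC.isQCoh_pullback _ hF') (fun i => QC.isQCoh_pullback _ (hG' i)) (h s) hW)
  letI := (SepFam.isField_Γ_Spec (S.residueField s)).toField
  letI : Algebra Γ(Spec (S.residueField s), ⊤) P.ResidueField := θ.toAlgebra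
  haveI : IsScalarTower Γ(S, V) Γ(Spec (S.residueField s), ⊤) P.ResidueField :=
    IsScalarTower.of_algebraMap_eq fun a => (hθ a).symm
  exact SepFam.sepBC_field_ext _ h2

end Groth.Agent.S4910
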