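import Groth.Statements.S4911
import Groth.Agent.SepFam.Mod
import Groth.Agent.SepFam.Residue

set_option autoImplicit false
set_option linter.style.haveILetI false
set_option backward.isDefEq.respectTransparency false
universe u
open CategoryTheory AlgebraicGeometry
open EGA43
open Groth.Agent

namespace Groth.Agent.S4911

open CategoryTheory.Limits in
/-- Case Z_λ = X: let k be a field, X a k-scheme, u_i : F ⟶ G_i a separating family of homomorphisms of
quasi-coherent O_X-modules (a section of F over an open subset killed by every u_i is zero) and S'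
an arbitrary k-scheme. Then the family pulled back to X ×_k S' is separating. (The published
statement allows homomorphisms into direct images (f_λ)_*G_λ; this row is the case Z_λ = X.) -/
theorem result {k : Type u} [Field k] {X S' : Scheme.{u}}
    (p : X ⟶ Spec (CommRingCat.of k)) (q : S' ⟶ Spec (CommRingCat.of k))
    (F : X.Modules) [Coh.IsQCoh F] {ι : Type u} (G : ι → X.Modules) [∀ i, Coh.IsQCoh (G i)] (u : ∀ i, F ⟶ G i)
    (h : (∀ (V : (X).Opens) (t : ↑((F).presheaf.obj (Opposite.op V))), (∀ i, (Scheme.Modules.Hom.mapPresheaf (u i)).app (Opposite.op V) t = 0) → t = 0)) :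
    (∀ (V : (pullback p q).Opens) (t : ↑(((Scheme.Modules.pullback (pullback.fst p q)).obj F).presheaf.obj (Opposite.op V))), (∀ i, (Scheme.Modules.Hom.mapPresheaf ((Scheme.Modules.pullback (pullback.fst p q)).map (u i))).app (Opposite.op V) t = 0) → t = 0) := by
  have hF : Coh.IsQCoh F := inferInstance
  have hG : ∀ i, Coh.IsQCoh (G i) := fun i => inferInstance
  refine SepFam.sepMod_pullback u (IsPullback.of_hasPullback p q) hF hG fun x => ?_
  obtain ⟨V, hV, U, hU, hUV, O, hO, hOV, hx⟩ := SepFam.exists_chart (pullback.condition (f := p) (g := q)) x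
  have hxV : (p ((pullback.fst p q) x)) ∈ V := hUV hx.1
  have hVtop : V = ⊤ := by
    refine eq_top_iff.2 fun y _ => ?_
    have : Subsingleton (Spec (CommRingCat.of k)) := inferInstanceAs (Subsingleton (PrimeSpectrum k))
    exact Subsingleton.elim (p ((pullback.fst p q) x)) y ▸ hxV
  subst hVtop
  refine ⟨⊤, hV, U, hU, hUV, O, hO, hOV, hx, ?_⟩
  letI := (p.appLE ⊤ U hUV).hom.toAlgebra
  letI := (q.appLE ⊤ O hOV).hom.toAlgebra
  letI := (SepFam.isField_Γ_Spec k).toField
  exact SepFam.sepBC_over_field _ (SepFam.sep_of_sepMod u hF hG h hU) _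

end Groth.Agent.S4911
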