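import Groth.Statements.S4914
import Mathlib

set_option autoImplicit false
open CategoryTheory AlgebraicGeometry
universe u v w
open EGA43

namespace Groth.Agent.S4914

/-- Let ψ : X → Y be a continuous map, x a point of X, and (Y_i) a locally finite covering of Y by
closed subsets. If for every index i with ψ x ∈ Y_i the restriction ψ⁻¹(Y_i) → Y_i of ψ is open at
x, then ψ is open at x. -/
theorem result {α : Type u} {β : Type v} {ι : Type w} [TopologicalSpace α]
    [TopologicalSpace β] (ψ : α → β) (hψ : Continuous ψ) (x : α) (Y : ι → Set β) (hY : LocallyFinite Y)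
    (hcl : ∀ i, IsClosed (Y i)) (hcov : ⋃ i, Y i = Set.univ)
    (h : ∀ i, ∀ hi : ψ x ∈ Y i, EGA43.IsOpenAt ((Y i).restrictPreimage ψ) ⟨x, hi⟩) :
    EGA43.IsOpenAt ψ x := by
  intro U hU
  have hfin : {i | ψ x ∈ Y i}.Finite := hY.point_finite (ψ x)
  have h1 : (⋃ i ∈ {i | ψ x ∈ Y i}, Y i) ∈ nhds (ψ x) := by
    refine Filter.mem_of_superset (hY.iInter_compl_mem_nhds hcl (ψ x)) fun y hy => ?_
    obtain ⟨i, hi⟩ := Set.mem_iUnion.1 (hcov ▸ Set.mem_univ y)
    refine Set.mem_biUnion (show i ∈ {i | ψ x ∈ Y i} from ?_) hi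
    by_contra hn
    exact Set.mem_iInter₂.1 hy i hn hi
  have h2 : ∀ i ∈ {i | ψ x ∈ Y i}, ψ '' U ∈ nhdsWithin (ψ x) (Y i) := by
    intro i hi
    have := h i hi ((↑) ⁻¹' U) (continuousAt_subtype_val.preimage_mem_nhds hU)
    refine preimage_coe_mem_nhds_subtype.1 (Filter.mem_of_superset this ?_)
    rintro y ⟨z, hz, rfl⟩
    exact ⟨z, hz, rfl⟩
  have h3 : ψ '' U ∈ nhdsWithin (ψ x) (⋃ i ∈ {i | ψ x ∈ Y i}, Y i) := by
    rw [nhdsWithin_biUnion hfin]
    simpa only [Filter.mem_iSup] using h2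
  rwa [nhdsWithin_eq_nhds.2 h1] at h3

end Groth.Agent.S4914
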