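import Groth.Statements.S4917
import Groth.Agent.EquidimPt.Char

set_option autoImplicit false
open CategoryTheory AlgebraicGeometry
universe u v w
open EGA43

namespace Groth.Agent.S4917

/-- Assume Y is a locally Noetherian scheme and X is an irreducible scheme, and consider a dominant
morphism f : X ⟶ Y that is locally of finite type. Fix a point x of X and write y = f x. If, for
every irreducible component of the fibre X_y that contains x, the morphism f is open at the generic
point of that component, then f is equidimensional at x. -/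
theorem result {X Y : Scheme.{u}} [IsLocallyNoetherian Y]
    [IrreducibleSpace X] (f : X ⟶ Y) [LocallyOfFiniteType f] [IsDominant f] (x : X)
    (h : ∀ z : ↥(f.fiber (f.base x)), f.asFiber x ∈ closure {z} →
      (∀ z' : ↥(f.fiber (f.base x)), z ∈ closure {z'} → z' = z) →
      EGA43.IsOpenAt f.base ((f.fiberι (f.base x)).base z)) :
    EGA43.IsEquidimAt f x := by
  haveI : IsLocallyNoetherian X := LocallyOfFiniteType.isLocallyNoetherian f
  obtain ⟨ξ, hξ⟩ : ∃ ξ : X, ∀ z, ξ ⤳ z := ⟨genericPoint X, genericPoint_specializes⟩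
  obtain ⟨d, hd⟩ := Groth.Agent.Unibranch.exists_fibreDimAt_eq f x
  obtain ⟨U, hxU, hU⟩ := (Groth.Agent.Unibranch.fibreDimAt_le_iff f x).mp hd.le
  have hmaxξ : ∀ ζ : X, Groth.Agent.Unibranch.IsMaxPt ζ → ζ = ξ := fun ζ h => (h ξ (hξ ζ)).symm
  have hfξ : Groth.Agent.Unibranch.IsMaxPt (f ξ) := fun z hz => by
    have h1 : z ∈ closure (Set.range f) := f.denseRange.closure_range ▸ Set.mem_univ _
    have h2 : Set.range f ⊆ closure {f ξ} := by
      rintro _ ⟨a, rfl⟩
      exact ((hξ a).map f.continuous).mem_closure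
    exact ((specializes_iff_mem_closure.mpr (closure_minimal h2 isClosed_closure h1)).antisymm hz).eq.symm
  obtain ⟨m, hmx, hfm, hm, hch⟩ := Groth.Agent.Unibranch.exists_max_hasChain f x hd.ge
  obtain ⟨m', hm'⟩ : m ∈ Set.range (f.fiberι (f x)) := by rw [f.range_fiberι]; exact hfm
  have hopen : EGA43.IsOpenAt f.base m := by
    rw [← hm']
    refine h m' ?_ fun z' hz' => ?_
    · rw [← specializes_iff_mem_closure, ← (f.fiberι (f x)).isEmbedding.isInducing.specializes_iff,
        hm', f.fiberι_asFiber]
      exact hmx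
    · apply (f.fiberι (f x)).isEmbedding.injective
      rw [hm']
      exact hm _ ((f.range_fiberι (f x)).le ⟨_, rfl⟩)
        (hm' ▸ (specializes_iff_mem_closure.mpr hz').map (f.fiberι (f x)).continuous)
  obtain ⟨ζ, hζm, hfζ, hζch⟩ := Groth.Agent.Unibranch.exists_hasChain_of_lifts f (z := m)
    ((hξ m).map f.continuous) hfξ
    fun η' _ hη' => Groth.Agent.Unibranch.exists_specializes_of_isOpenAt f hopen hη'
  have hζch' := hζch d (hfm.symm ▸ hch)
  refine Groth.Agent.EquidimPt.isEquidimAt_of_components f x (e := d)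
    (fun z hz _ => hmaxξ z hz ▸ hfξ) (fun z hz _ => ?_) ⟨U, hxU, hU⟩
  rw [hmaxξ z hz]
  exact hζch'.mono (fun w _ => (hξ w).mem_closure)

end Groth.Agent.S4917
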