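import Groth.Statements.S4918
import Groth.Agent.DimFormula.Open

set_option autoImplicit false
open CategoryTheory AlgebraicGeometry
universe u v w
open EGA43

namespace Groth.Agent.S4918
open Groth.Agent.Unibranch Groth.Agent.EquidimPt Groth.Agent.DimFormula TopologicalSpace

/-- Assume Y is a locally Noetherian scheme and consider a morphism f : X ⟶ Y that is locally of finite
type. Given a point x of X with image y = f x, suppose both local rings O_{X,x} and O_{Y,y} are
equidimensional. Whenever f is open at the generic point of each irreducible component of the fibre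
X_y that contains x, the morphism f is equidimensional at x. -/
theorem result {X Y : Scheme.{u}} [IsLocallyNoetherian Y] (f : X ⟶ Y)
    [LocallyOfFiniteType f] (x : X) (hX : EGA4.IsEquidim (X.presheaf.stalk x))
    (hY : EGA4.IsEquidim (Y.presheaf.stalk (f.base x)))
    (h : ∀ z : ↥(f.fiber (f.base x)), f.asFiber x ∈ closure {z} →
      (∀ z' : ↥(f.fiber (f.base x)), z ∈ closure {z'} → z' = z) →
      EGA43.IsOpenAt f.base ((f.fiberι (f.base x)).base z)) :
    EGA43.IsEquidimAt f x := by
  refine isEquidimAt_of_dim f x hX (dim_le_of_isOpenAt f x fun z hfz hzx hmax => ?_)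
  obtain ⟨z', hz'⟩ : z ∈ Set.range (f.fiberι (f x)) := by rw [Scheme.Hom.range_fiberι]; exact hfz
  rw [← hz']
  refine h z' ?_ fun w hw => ?_
  · rw [← specializes_iff_mem_closure, ← (f.fiberι (f x)).isEmbedding.isInducing.specializes_iff,
      f.fiberι_asFiber x, hz']
    exact hzx
  · apply (f.fiberι (f x)).isEmbedding.injective
    rw [hz']
    refine hmax _ ?_ (hz' ▸ (specializes_iff_mem_closure.mpr hw).map (f.fiberι (f x)).continuous)
    rw [hfz]
    have : f.fiberι (f x) w ∈ Set.range (f.fiberι (f x)) := ⟨w, rfl⟩
    rwa [Scheme.Hom.range_fiberι] at this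

end Groth.Agent.S4918
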