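import Groth.Statements.S4919
import Groth.Agent.Unibranch.ComponentTransfer
import Mathlib

set_option autoImplicit false
open CategoryTheory AlgebraicGeometry
universe u v w
open EGA43

namespace Groth.Agent.S4919

/-- Let Y be an irreducible locally Noetherian scheme with generic point η, f : X ⟶ Y a morphism locally
of finite type, y a point of Y and Z an irreducible component of the fibre f⁻¹(y) (a maximal
irreducible subset of f⁻¹(y), with the topology induced from X) such that f is open at the generic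
point ζ of Z. Then there is an irreducible component X' of X containing Z and dominating Y such that
the local dimension of X' ∩ f⁻¹(y) at ζ equals dim Z, and dim Z = dim (X' ∩ f⁻¹(η)). (The published
statement writes the middle term as the dimension of the whole of X' ∩ f⁻¹(y); its proof yields only
the local dimension at the generic point of Z, and the global equality can fail: for the
endomorphism (a, b) ↦ (ab, b² − b) of the affine plane over a field, the fibre over the origin is
the line b = 0 together with the isolated point (0, 1), at which the map is étale, hence open; with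
Z that point, X' is the whole plane, X' ∩ f⁻¹(y) has dimension 1 and dim Z = 0. So the local form is
stated here.) -/
theorem result {X Y : Scheme.{u}} [IrreducibleSpace Y]
    [IsLocallyNoetherian Y] (f : X ⟶ Y) [LocallyOfFiniteType f] (y : Y) (Z : Set X)
    (hZy : Z ⊆ f.base ⁻¹' {y}) (hZ : IsIrreducible Z)
    (hZmax : ∀ Z' : Set X, IsIrreducible Z' → Z' ⊆ f.base ⁻¹' {y} → Z ⊆ Z' → Z' = Z)
    (hopen : ∀ ζ ∈ Z, Z ⊆ closure {ζ} → EGA43.IsOpenAt f.base ζ) :
    ∃ X' ∈ irreducibleComponents (X : Type u), Z ⊆ X' ∧ Dense (f.base '' X') ∧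
      (∀ ζ ∈ Z, Z ⊆ closure {ζ} → ∀ hζ : ζ ∈ X' ∩ f.base ⁻¹' {y},
        FlatMor.localDim ↥(X' ∩ f.base ⁻¹' {y}) ⟨ζ, hζ⟩ = topologicalKrullDim ↥Z) ∧
      topologicalKrullDim ↥Z = topologicalKrullDim ↥(X' ∩ f.base ⁻¹' {genericPoint Y}) := by
  have he := (f.fiberι y).isEmbedding
  have hrange : Set.range (f.fiberι y) = f ⁻¹' {y} := f.range_fiberι y
  set Z₀ : Set ↥(f.fiber y) := f.fiberι y ⁻¹' Z with hZ₀
  have himg₀ : f.fiberι y '' Z₀ = Z := by
    rw [hZ₀, Set.image_preimage_eq_inter_range, hrange]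
    exact Set.inter_eq_left.mpr hZy
  have hZ₀c : Z₀ ∈ irreducibleComponents ↥(f.fiber y) := by
    refine ⟨⟨?_, ?_⟩, fun T hT hle => ?_⟩
    · obtain ⟨x, hx⟩ := hZ.1
      obtain ⟨p, rfl⟩ := hrange.ge (hZy hx)
      exact ⟨p, hx⟩
    · intro u v hu hv hZu hZv
      obtain ⟨u', hu', rfl⟩ := he.isInducing.isOpen_iff.mp hu
      obtain ⟨v', hv', rfl⟩ := he.isInducing.isOpen_iff.mp hv
      obtain ⟨a, ha, hau⟩ := hZu
      obtain ⟨b, hb, hbv⟩ := hZv
      obtain ⟨c, hc, hcu, hcv⟩ := hZ.2 u' v' hu' hv' ⟨_, ha, hau⟩ ⟨_, hb, hbv⟩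
      obtain ⟨p, rfl⟩ := hrange.ge (hZy hc)
      exact ⟨p, hc, hcu, hcv⟩
    · have h := hZmax (f.fiberι y '' T) (hT.image _ (f.fiberι y).continuous.continuousOn)
        (by rintro _ ⟨p, -, rfl⟩; exact hrange.le ⟨p, rfl⟩)
        (himg₀ ▸ Set.image_mono hle)
      intro p hp
      exact h.le ⟨p, hp, rfl⟩
  obtain ⟨z, hz, hmax, himg, hdim⟩ := Groth.Agent.Unibranch.exists_genericPoint_component f y hZ₀c
  rw [himg₀] at himg
  have hdimZ : topologicalKrullDim ↥Z = topologicalKrullDim ↥(closure ({z} : Set X) ∩ f ⁻¹' {y}) := by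
    rw [IsHomeomorph.topologicalKrullDim_eq _ (Homeomorph.setCongr himg).isHomeomorph]
  subst hz
  have hzZ : z ∈ Z := himg.ge ⟨subset_closure rfl, rfl⟩
  have hζz : ∀ ζ ∈ Z, Z ⊆ closure {ζ} → ζ = z := fun ζ hζ hcl =>
    hmax ζ (hZy hζ) (specializes_iff_mem_closure.mpr (hcl hzZ))
  have hH : EGA43.IsOpenAt f.base z := hopen z hzZ (himg.le.trans Set.inter_subset_left)
  have hηmax : Groth.Agent.Unibranch.IsMaxPt (genericPoint Y) := fun w hw =>
    (hw.antisymm (genericPoint_specializes w)).eq
  obtain ⟨m, hmz, hfm, hm, hmdim⟩ := Groth.Agent.Unibranch.exists_maximal_same_dim f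
    (genericPoint_specializes (f z)) hηmax hmax hH
  have hmmax : Groth.Agent.Unibranch.IsMaxPt m := fun w hw =>
    hm w (hηmax _ (hfm ▸ hw.map f.continuous)) hw
  refine ⟨closure {m}, hmmax.mem_irreducibleComponents, ?_, ?_, fun ζ hζ hcl hζ' => ?_,
    hdimZ.trans hmdim.symm⟩
  · refine himg.le.trans (Set.inter_subset_left.trans ?_)
    exact closure_minimal (Set.singleton_subset_iff.mpr hmz.mem_closure) isClosed_closure
  · rw [dense_iff_closure_eq]
    refine (Groth.Agent.Unibranch.closure_image_closure_singleton f m).trans ?_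
    rw [hfm]
    exact Set.eq_univ_of_forall fun w => (genericPoint_specializes w).mem_closure
  · obtain rfl := hζz ζ hζ hcl
    obtain ⟨d, hd₁, hd₂, hd⟩ := Groth.Agent.Unibranch.exists_dim_closure_eq f ζ
    rw [hdimZ, hd]
    refine le_antisymm ?_ ?_
    · obtain ⟨U, hζU, -, hU⟩ :=
        Groth.Agent.Unibranch.exists_opens_maximal f (U := ⊤) (x := ζ) trivial (f ζ)
      refine (Groth.Agent.Unibranch.localDim_inter_le_iff f isClosed_closure.isLocallyClosed hζ').mpr
        ⟨U, hζU, fun k c hc hch => hd₁ k c (fun i => ⟨?_, (hc i).2⟩) hch⟩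
      obtain ⟨m', hm'ζ, hm'c, hfm', -, -⟩ := hU (c i) (hc i).1.1 (hc i).2
      rw [← hmax m' hfm' hm'ζ]
      exact specializes_iff_mem_closure.mp hm'c
    · refine (Groth.Agent.Unibranch.natCast_le_localDim_inter_iff f isClosed_closure.isLocallyClosed hζ').mpr
        fun U hU => ?_
      have h1 : Groth.Agent.Unibranch.HasChain f (closure {m}) (f m) d := by
        refine (Groth.Agent.Unibranch.natCast_le_topologicalKrullDim_inter_iff f
          isClosed_closure.isLocallyClosed (f m)).mp ?_
        rw [hfm, hmdim, hd]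
      exact h1.of_specializes hmz hU

end Groth.Agent.S4919
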