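import Groth.Statements.S4920
import Mathlib
import Groth.Agent.Unibranch.ComponentTransfer

set_option autoImplicit false
open CategoryTheory AlgebraicGeometry
universe u v w
open EGA43

namespace Groth.Agent.S4920

/-- Let Y be an irreducible locally Noetherian scheme with generic point η, f : X ⟶ Y a morphism locally
of finite type and y a point of Y such that f is open at every point of the fibre over y. For z in Y
write E(z) for the set of dimensions of the irreducible components of the fibre X_z. Then E(y) ⊆
E(η), and consequently dim X_y ≤ dim X_η. -/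
theorem result {X Y : Scheme.{u}} [IrreducibleSpace Y] [IsLocallyNoetherian Y]
    (f : X ⟶ Y) [LocallyOfFiniteType f] (y : Y) (h : ∀ x : X, f.base x = y → EGA43.IsOpenAt f.base x) :
    letI E : Y → Set (WithBot ℕ∞) := fun z =>
      (fun Z : Set ↥(f.fiber z) => topologicalKrullDim ↥Z) '' irreducibleComponents ↥(f.fiber z)
    E y ⊆ E (genericPoint Y) ∧
      topologicalKrullDim ↥(f.fiber y) ≤ topologicalKrullDim ↥(f.fiber (genericPoint Y)) := by
  let E : Y → Set (WithBot ℕ∞) := fun z =>
    (fun Z : Set ↥(f.fiber z) => topologicalKrullDim ↥Z) '' irreducibleComponents ↥(f.fiber z)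
  show E y ⊆ E (genericPoint Y) ∧ _
  have hsub : E y ⊆ E (genericPoint Y) := by
    rintro _ ⟨Z, hZ, rfl⟩
    obtain ⟨z, hz, hmax, -, hdim⟩ := Unibranch.exists_genericPoint_component f y hZ
    subst hz
    have hηmax : Unibranch.IsMaxPt (genericPoint Y) := fun w hw ↦
      (hw.antisymm (genericPoint_specializes w)).eq
    obtain ⟨m, -, hfm, hm, hmdim⟩ := Unibranch.exists_maximal_same_dim f
      (genericPoint_specializes (f z)) hηmax hmax (h z rfl)
    obtain ⟨Z', hZ', hdim'⟩ := Unibranch.exists_component_of_maximal f hfm hm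
    exact ⟨Z', hZ', hdim'.trans (hmdim.trans hdim.symm)⟩
  refine ⟨hsub, Unibranch.topologicalKrullDim_le_of_components fun Z hZ ↦ ?_⟩
  obtain ⟨Z', -, h'⟩ := hsub ⟨Z, hZ, rfl⟩
  exact ⟨Z', h'.symm⟩

end Groth.Agent.S4920
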