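import Groth.Statements.S4923
import Mathlib
import Groth.Agent.Unibranch.FibreDims

set_option autoImplicit false
open CategoryTheory AlgebraicGeometry
universe u v w
open EGA43

namespace Groth.Agent.S4923

/-- Let Y be a locally Noetherian scheme, f : X ⟶ Y an open morphism of finite type and y a point of Y;
for z in Y let E(z) be the set of dimensions of the irreducible components of the fibre X_z. If E(y)
= E(η) for the generic point η of every irreducible component of Y containing y, then E is constant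
on a neighbourhood of y. -/
theorem result {X Y : Scheme.{u}}
    [IsLocallyNoetherian Y] (f : X ⟶ Y) [LocallyOfFiniteType f] [QuasiCompact f] (hf : IsOpenMap f.base) (y : Y) :
    letI E : Y → Set (WithBot ℕ∞) := fun z =>
      (fun Z : Set ↥(f.fiber z) => topologicalKrullDim ↥Z) '' irreducibleComponents ↥(f.fiber z)
    (∀ η : Y, y ∈ closure {η} → closure {η} ∈ irreducibleComponents (Y : Type u) → E y = E η) →
      ∃ V ∈ nhds y, ∀ z ∈ V, E z = E y := by
  intro E_h
  suffices H : ∃ V ∈ nhds y, ∀ z ∈ V, Unibranch.dims f z = Unibranch.dims f y from H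
  have := LocallyOfFiniteType.isLocallyNoetherian f
  have hopen : ∀ (w : Y) (x : X), f.base x = w → EGA43.IsOpenAt f.base x :=
    fun _ x _ U hU ↦ hf.image_mem_nhds hU
  have hη : ∀ η : Y, y ∈ closure {η} → Unibranch.IsMaxPt η → Unibranch.dims f y = Unibranch.dims f η :=
    fun η hyη hm ↦ E_h η hyη hm.mem_irreducibleComponents
  have : LocallyOfFiniteType (f.fiberToSpecResidueField y) := MorphismProperty.pullback_snd _ _ ‹_›
  have : IsLocallyNoetherian (f.fiber y) :=
    LocallyOfFiniteType.isLocallyNoetherian (f.fiberToSpecResidueField y)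
  have : AlgebraicGeometry.IsNoetherian (f.fiber y) := {}
  have hfin : (Unibranch.dims f y).Finite :=
    (TopologicalSpace.NoetherianSpace.finite_irreducibleComponents (α := ↥(f.fiber y))).image _
  have key : ∀ d ∈ Unibranch.dims f y, {z | d ∈ Unibranch.dims f z} ∈ nhds y := by
    rintro _ ⟨Z, hZ, rfl⟩
    obtain ⟨z₀, hz₀, hmax, -, hdim⟩ := Unibranch.exists_genericPoint_component f y hZ
    subst hz₀
    obtain ⟨d, hd₁, hd₂, hd⟩ := Unibranch.exists_dim_closure_eq f z₀
    have hdimZ : topologicalKrullDim ↥Z = (d : WithBot ℕ∞) := hdim.trans hd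
    obtain ⟨U₁, hzU₁, -, hU₁⟩ := Unibranch.exists_opens_maximal f (U := ⊤) (x := z₀) trivial (f z₀)
    have hle : Unibranch.ChainsLE f U₁ (f z₀) d := fun k c hc hch ↦ by
      refine hd₁ k c (fun i ↦ ⟨?_, (hc i).2⟩) hch
      obtain ⟨m', hm'z, hm'c, hfm', -, -⟩ := hU₁ (c i) (hc i).1 (hc i).2
      rw [← hmax m' hfm' hm'z]
      exact specializes_iff_mem_closure.mp hm'c
    obtain ⟨U₂, hzU₂, -, hU₂⟩ := Unibranch.exists_opens_chainsLE f hzU₁ hle
    obtain ⟨-, U, -, hU, hzU, -, hUU₂⟩ := Unibranch.exists_chart_le f hzU₂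
    have : IsAffine U := hU
    let g := U.ι ≫ f
    have hg := Unibranch.isOpenMap_restrict f hf U
    have hS : IsLocallyClosed (U : Set X) := U.2.isLocallyClosed
    have hdimy : topologicalKrullDim ↥(g.fiber (f z₀)) = (d : WithBot ℕ∞) := by
      rw [Unibranch.dim_fiber_restrict]
      exact Unibranch.topologicalKrullDim_inter_eq f hS _ ((hU₂ _).mono hUU₂)
        ((hd₂.of_specializes specializes_rfl hzU).mono Set.inter_subset_left)
    refine Filter.mem_of_superset (Unibranch.dim_const_of_isOpenMap g hg (f z₀) fun η hη _ ↦ ?_) fun z hz ↦ ?_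
    · refine le_antisymm (Unibranch.dim_le_of_isOpenAt g (specializes_iff_mem_closure.mpr hη)
        fun x _ O hO ↦ hg.image_mem_nhds hO) ?_
      rw [hdimy, Unibranch.dim_fiber_restrict]
      exact (Unibranch.topologicalKrullDim_inter_le_iff f hS η).mpr ((hU₂ η).mono hUU₂)
    · have hz' : topologicalKrullDim ↥((U : Set X) ∩ f.base ⁻¹' {z}) = (d : WithBot ℕ∞) := by
        rw [← Unibranch.dim_fiber_restrict]; exact hz.trans hdimy
      obtain ⟨c, hc, hch⟩ := (Unibranch.natCast_le_topologicalKrullDim_inter_iff f hS z).mp hz'.ge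
      obtain ⟨U₃, hcU₃, -, hU₃⟩ := Unibranch.exists_opens_maximal f (U := ⊤) (x := c 0) trivial z
      obtain ⟨m, hmc, -, hfm, -, hm⟩ := hU₃ (c 0) hcU₃ (hc 0).2
      have hub := Unibranch.chainsLE_of_specializes f hmc (hc 0).1
        (show Unibranch.ChainsLE f ((U : Set X) ∩ closure {m}) (f (c 0)) d from
          ((hU₂ _).mono hUU₂).mono Set.inter_subset_left)
      have hlb : Unibranch.HasChain f (closure {m}) (f m) d := ⟨c, fun i ↦
        ⟨specializes_iff_mem_closure.mp (hmc.trans (Unibranch.specializes_of_chain c hch i)),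
          (hc i).2.trans hfm.symm⟩, hch⟩
      obtain ⟨Z', hZ', hdim'⟩ := Unibranch.exists_component_of_maximal f hfm hm
      refine ⟨Z', hZ', ?_⟩
      show topologicalKrullDim ↥Z' = topologicalKrullDim ↥Z
      rw [hdim', hdimZ, ← hfm,
        Unibranch.topologicalKrullDim_inter_eq f isClosed_closure.isLocallyClosed _ hub hlb]
  obtain ⟨O, hyO, hO⟩ := Unibranch.exists_opens_maxPt_specializes y
  refine ⟨(O : Set Y) ∩ ⋂ d ∈ Unibranch.dims f y, {z | d ∈ Unibranch.dims f z},
    Filter.inter_mem (O.2.mem_nhds hyO) ((Filter.biInter_mem hfin).mpr key), fun z hz ↦ ?_⟩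
  refine Set.Subset.antisymm ?_ fun d hd ↦ Set.mem_iInter₂.mp hz.2 d hd
  obtain ⟨η, hηmax, hηz, hηy⟩ := hO z hz.1
  rw [hη η (specializes_iff_mem_closure.mp hηy) hηmax]
  exact Unibranch.dims_subset_of_isOpenAt f hηz (hopen z)

end Groth.Agent.S4923
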