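import Groth.Statements.S4924
import Mathlib
import Groth.Agent.Unibranch.FibreDims
import Groth.Agent.S0402

set_option autoImplicit false
open CategoryTheory AlgebraicGeometry
universe u v w
open EGA43

namespace Groth.Agent.S4924

/-- Let Y be a locally Noetherian scheme, f : X ⟶ Y an open morphism of finite type and y a point of Y.
Then there is an open neighbourhood U of the fibre f⁻¹(y) in X such that the function z ↦ dim (U ∩
f⁻¹(z)) is constant on a neighbourhood of y. -/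
theorem result {X Y : Scheme.{u}} [IsLocallyNoetherian Y]
    (f : X ⟶ Y) [LocallyOfFiniteType f] [QuasiCompact f] (hf : IsOpenMap f.base) (y : Y) :
    ∃ U : X.Opens, f.base ⁻¹' {y} ⊆ (U : Set X) ∧ ∃ V ∈ nhds y, ∀ z ∈ V,
      topologicalKrullDim ↥((U : Set X) ∩ f.base ⁻¹' {z}) = topologicalKrullDim ↥((U : Set X) ∩ f.base ⁻¹' {y}) := by
  have := LocallyOfFiniteType.isLocallyNoetherian f
  rcases Unibranch.exists_natCast_dim_fiber f y with hE | ⟨n, hn⟩
  · refine ⟨⊥, fun x hx ↦ (hE.false ((f.fiberHomeo y).symm ⟨x, hx⟩)).elim, Set.univ, Filter.univ_mem,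
      fun z _ ↦ ?_⟩
    have : ((⊥ : X.Opens) : Set X) ∩ f.base ⁻¹' {z} = ((⊥ : X.Opens) : Set X) ∩ f.base ⁻¹' {y} := by simp
    rw [this]
  let U : X.Opens := ⟨{x | FlatMor.fibreDimAt f x ≤ (n : WithBot ℕ∞)}, S0402.result f n⟩
  have hyU : f.base ⁻¹' {y} ⊆ (U : Set X) := fun x hx ↦ by
    refine (Unibranch.fibreDimAt_le_iff f x).mpr ⟨⊤, trivial, fun k c hc hch ↦ ?_⟩
    exact (Unibranch.topologicalKrullDim_le_iff f (f.fiberι y).isEmbedding (S := Set.univ)
      (by rw [Scheme.Hom.range_fiberι, Set.univ_inter])).mp hn.le k c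
      (fun i ↦ ⟨trivial, (hc i).2.trans hx⟩) hch
  refine ⟨U, hyU, ?_⟩
  let g := U.ι ≫ f
  have hdimy : topologicalKrullDim ↥(g.fiber y) = (n : WithBot ℕ∞) := by
    rw [Unibranch.dim_fiber_restrict, Set.inter_eq_right.mpr hyU,
      ← IsHomeomorph.topologicalKrullDim_eq _ (f.fiberHomeo y).isHomeomorph, hn]
  have hg := Unibranch.isOpenMap_restrict f hf U
  refine ⟨_, Unibranch.dim_const_of_isOpenMap g hg y fun η hη _ ↦ ?_, fun z hz ↦ ?_⟩
  · refine le_antisymm (Unibranch.dim_le_of_isOpenAt g (specializes_iff_mem_closure.mpr hη)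
      fun x _ O hO ↦ hg.image_mem_nhds hO) ?_
    rw [hdimy]
    refine Unibranch.dim_fiber_le_of_forall g η fun x _ ↦ ?_
    obtain ⟨O, hxO, hO⟩ := (Unibranch.fibreDimAt_le_iff f (U.ι x)).mp x.2
    exact (Unibranch.fibreDimAt_le_iff g x).mpr ⟨U.ι ⁻¹ᵁ O, hxO, fun k c hc hch ↦
      hO k (fun i ↦ U.ι (c i)) (fun i ↦ ⟨(hc i).1, (hc i).2⟩) fun i ↦ ⟨(hch i).1.map U.ι.continuous,
        fun h ↦ (hch i).2 (U.ι.isEmbedding.injective h)⟩⟩
  · rw [← Unibranch.dim_fiber_restrict, ← Unibranch.dim_fiber_restrict]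
    exact hz

end Groth.Agent.S4924
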