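import Groth.Statements.S4931
import Groth.Agent.GoingDown.Components

set_option autoImplicit false
open CategoryTheory AlgebraicGeometry
universe u v w
open EGA43

namespace Groth.Agent.S4931

open CategoryTheory.Limits in
/-- Suppose Y is a locally Noetherian scheme and the morphism f : X ⟶ Y is locally of finite type. The
morphism f is universally open exactly when the following holds: given any discrete valuation ring A
together with any morphism g : Spec A ⟶ Y, each irreducible component of the fibre product X ×_Y
Spec A dominates Spec A (i.e. its image under the second projection is dense). -/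
theorem result {X Y : Scheme.{u}} [IsLocallyNoetherian Y] (f : X ⟶ Y)
    [LocallyOfFiniteType f] :
    UniversallyOpen f ↔
      ∀ (A : Type u) [CommRing A] [IsDomain A] [IsDiscreteValuationRing A] (g : Spec (CommRingCat.of A) ⟶ Y),
        ∀ Z ∈ irreducibleComponents (↥(pullback f g) : Type u), Dense ((pullback.snd f g).base '' Z) := by
  rw [Groth.Agent.GoingDown.universallyOpen_iff_forall_isUnivOpenAt]
  constructor
  · intro h A _ _ _ g
    exact (Groth.Agent.GoingDown.forall_dvrGoingDown_iff _).mp
      (fun x _ ↦ Groth.Agent.GoingDown.dvrGoingDown_of_isUnivOpenAt x (h x)) A g rfl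
  · intro h x
    exact Groth.Agent.GoingDown.isUnivOpenAt_of_dvrGoingDown x
      ((Groth.Agent.GoingDown.forall_dvrGoingDown_iff (f x)).mpr (fun A _ _ _ g _ ↦ h A g) x rfl)

end Groth.Agent.S4931
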