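import Groth.Statements.S4932
import Mathlib
import Groth.Agent.Unibranch.ValuationBase
import Groth.Agent.Unibranch.ComponentDim

set_option autoImplicit false
open CategoryTheory AlgebraicGeometry
universe u v w
open EGA43

namespace Groth.Agent.S4932

/-- Let A be a valuation ring (not necessarily discrete), X an irreducible scheme and f : X ⟶ Spec A a
dominant morphism of finite type. If the fibre X_0 of f over the closed point is nonempty, then dim
X_0 = dim X_1, where X_1 is the fibre over the generic point. -/
theorem result {A : Type u} [CommRing A] [IsDomain A]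
    [ValuationRing A] {X : Scheme.{u}} [IrreducibleSpace X] (f : X ⟶ Spec (CommRingCat.of A))
    [LocallyOfFiniteType f] [QuasiCompact f] [IsDominant f]
    (h0 : Nonempty ↥(f.fiber (IsLocalRing.closedPoint A))) :
    topologicalKrullDim ↥(f.fiber (IsLocalRing.closedPoint A)) =
      topologicalKrullDim ↥(f.fiber (genericPoint (Spec (CommRingCat.of A)))) := by
  let R : CommRingCat.{u} := CommRingCat.of A
  let y₀ : ↥(Spec R) := IsLocalRing.closedPoint A
  let η : ↥(Spec R) := genericPoint ↥(Spec R)
  let ζ : X := genericPoint X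
  have hζ : f ζ = η := by
    have h1 := (genericPoint_spec X).image f.continuous
    rw [Set.image_univ, f.denseRange.closure_range] at h1
    exact h1.eq (genericPoint_spec _)
  have hcl : closure ({ζ} : Set X) = Set.univ := genericPoint_spec X
  have hfib : ∀ y, topologicalKrullDim ↥(f.fiber y) =
      topologicalKrullDim ↥((Set.univ : Set X) ∩ f ⁻¹' {y}) := fun y ↦ by
    rw [IsHomeomorph.topologicalKrullDim_eq _ ((f.fiberHomeo y).trans
      (Homeomorph.setCongr (Set.univ_inter (f ⁻¹' {y})).symm)).isHomeomorph]
  obtain ⟨e, hle, hchain, hdim⟩ := Unibranch.exists_dim_closure_eq f ζ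
  rw [hζ, hcl] at hle hchain hdim
  have hS : IsLocallyClosed (Set.univ : Set X) := isClosed_univ.isLocallyClosed
  have h₁ : Unibranch.ChainsLE f Set.univ y₀ e := by
    intro k c hc hch
    refine Unibranch.HasChain.le
      (Unibranch.hasChain_of_specializes_generic (R := R) f (ζ := ζ) (z := c 0)
        (genericPoint_specializes _) hζ ?_) hle
    refine ⟨c, fun i ↦ ⟨(Unibranch.specializes_of_chain c hch i).mem_closure, ?_⟩, hch⟩
    exact (hc i).2.trans (hc 0).2.symm
  obtain ⟨p⟩ := h0
  obtain ⟨x, hx⟩ : ∃ x, f x = y₀ := ⟨f.fiberι y₀ p, (f.range_fiberι y₀).le ⟨p, rfl⟩⟩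
  have h₂ : Unibranch.HasChain f Set.univ y₀ e := by
    by_contra hno
    cases e with
    | zero => exact hno ⟨fun _ ↦ x, fun _ ↦ ⟨trivial, hx⟩, fun i ↦ i.elim0⟩
    | succ e =>
      have hX₀ : Unibranch.ChainsLE f ((↑(⊤ : X.Opens) : Set X) ∩ closure {ζ}) (f x) e := by
        intro k c hc hch
        by_contra hk
        exact hno (Unibranch.HasChain.anti ⟨c, fun i ↦ ⟨trivial, (hc i).2.trans hx⟩, hch⟩ (by omega))
      have h3 := Unibranch.chainsLE_of_specializes f (genericPoint_specializes x)
        (U := ⊤) trivial hX₀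
      rw [hζ, hcl] at h3
      exact absurd (hchain.le h3) (by omega)
  rw [hfib, hfib, Unibranch.topologicalKrullDim_inter_eq f hS y₀ h₁ h₂,
    Unibranch.topologicalKrullDim_inter_eq f hS η hle hchain]

end Groth.Agent.S4932
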