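import Groth.Statements.S4934
import Groth.Agent.Unibranch.ComponentDim

set_option autoImplicit false
open CategoryTheory AlgebraicGeometry
universe u v w
open EGA43

namespace Groth.Agent.S4934

/-- Let Y be a locally Noetherian scheme, f : X ⟶ Y a morphism locally of finite type, x a maximal point
of its fibre X_y, and suppose y = f x is a geometrically unibranch point of Y (so that y lies on
exactly one irreducible component Y₀ of Y, with generic point η). The following are equivalent: a) f
is universally open at x; b) there is an irreducible component Z of X containing x and dominating Y₀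
with dim_x(Z ∩ X_y) = dim(Z ∩ X_η); b') for every open neighbourhood U of x and every generization
y' of y, dim(U ∩ X_{y'}) ≥ dim_x(X_y); c) f is open at x. (The published statement asserts a) ⇔ b) ⇔
b') over an arbitrary base and adds c) for a locally Noetherian one; over the spectrum Y of an
infinite product of copies of a field, the inclusion of a non-open closed point satisfies b) and not
a), and the published proof of b) ⇒ a) uses the openness criterion by lifting of generizations and a
finiteness of irreducible components, both available over a locally Noetherian base, which is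
assumed here throughout.) -/
theorem result {X Y : Scheme.{u}} [IsLocallyNoetherian Y] (f : X ⟶ Y)
    [LocallyOfFiniteType f] (x : X) (hmax : ∀ x' : X, f.base x' = f.base x → x ∈ closure {x'} → x' = x)
    (hy : CAlg2.IsGeomUnibranch (Y.presheaf.stalk (f.base x))) :
    List.TFAE [EGA43.IsUnivOpenAt f x,
      (∀ Y₀ ∈ irreducibleComponents (Y : Type u), f.base x ∈ Y₀ →
        ∃ Z ∈ irreducibleComponents (X : Type u), ∃ hx : x ∈ Z, closure (f.base '' Z) = Y₀ ∧
          ∀ η : Y, closure ({η} : Set Y) = Y₀ →
            FlatMor.localDim ↥(Z ∩ f.base ⁻¹' {f.base x}) ⟨x, ⟨hx, rfl⟩⟩ =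
              topologicalKrullDim ↥(Z ∩ f.base ⁻¹' {η})),
      (∀ U : X.Opens, x ∈ U → ∀ y' : Y, y' ⤳ f.base x →
        FlatMor.fibreDimAt f x ≤ topologicalKrullDim ↥((U : Set X) ∩ f.base ⁻¹' {y'})),
      EGA43.IsOpenAt f.base x] := by
  open Groth.Agent.Unibranch in
  obtain ⟨d, hd⟩ := exists_fibreDimAt_eq f x
  have hself := hasChain_closure_of_maximal f x hmax hd.ge
  tfae_have 1 → 3 := fun H U hxU y' hy' ↦ by
    obtain ⟨ζ, hζx, hfζ, hk⟩ := exists_hasChain_of_isUnivOpenAt f H hy'
    exact hd ▸ (natCast_le_topologicalKrullDim_inter_iff f U.2.isLocallyClosed y').mpr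
      (hasChain_opens_of_lift hζx hfζ (hk d hself) hxU)
  tfae_have 1 → 4 := fun H ↦ isOpenAt_of_isUnivOpenAt f x H
  tfae_have 3 → 2 := fun H Y₀ hY₀ hyY₀ ↦ by
    obtain ⟨Z, hZ, hx, hcl, hdim⟩ := exists_component_dims f x hd hY₀ fun η _ hη U hxU ↦ by
      have h1 := H U hxU η (specializes_iff_mem_closure.mpr (hη.symm ▸ hyY₀))
      rw [hd] at h1
      exact (natCast_le_topologicalKrullDim_inter_iff f U.2.isLocallyClosed η).mp h1
    exact ⟨Z, hZ, hx, hcl, fun η hη ↦ (hdim η hη).1.trans (hdim η hη).2.symm⟩
  tfae_have 4 → 2 := fun H Y₀ hY₀ hyY₀ ↦ by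
    obtain ⟨Z, hZ, hx, hcl, hdim⟩ := exists_component_dims f x hd hY₀ fun η hηmax hη U hxU ↦ by
      obtain ⟨ζ, hζx, hfζ, hk⟩ := exists_hasChain_of_lifts f (z := x)
        (specializes_iff_mem_closure.mpr (hη.symm ▸ hyY₀)) hηmax
        fun η' _ hη' ↦ exists_specializes_of_isOpenAt f H hη'
      exact hasChain_opens_of_lift hζx hfζ (hk d hself) hxU
    exact ⟨Z, hZ, hx, hcl, fun η hη ↦ (hdim η hη).1.trans (hdim η hη).2.symm⟩
  tfae_have 2 → 1 := fun H ↦ by
    obtain ⟨Z, hZ, hx, hcl, hdim⟩ := H _ (irreducibleComponent_mem_irreducibleComponents _)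
      mem_irreducibleComponent
    obtain ⟨η, hη, hηY⟩ := exists_isMaxPt (irreducibleComponent_mem_irreducibleComponents (f.base x))
    obtain ⟨ζ, -, rfl⟩ := exists_isMaxPt hZ
    rw [closure_image_closure_singleton] at hcl
    obtain rfl : η = f ζ := eq_of_closure_eq (hηY.trans hcl.symm)
    exact isUnivOpenAt_of_component f x hy hη (specializes_iff_mem_closure.mpr hx) ⟨hx, rfl⟩
      (hdim _ hηY).le
  tfae_finish

end Groth.Agent.S4934
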