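import Groth.Statements.S4935
import Groth.Agent.Unibranch.OpenAt

set_option autoImplicit false
universe u
open EGA43 CAlg2

namespace Groth.Agent.S4935

/-- Let A be a unibranch local domain, B a domain containing A and integral over A, and 𝔫 a prime ideal
of B lying over the maximal ideal of A. Then Spec B_𝔫 → Spec A is surjective: for every prime ideal
𝔭 of A there is a prime ideal 𝔮 ⊆ 𝔫 of B with 𝔮 ∩ A = 𝔭. -/
theorem result {A B : Type u} [CommRing A] [IsDomain A]
    [IsLocalRing A] (hA : CAlg2.IsUnibranch A) [CommRing B] [IsDomain B] [Algebra A B]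
    (hinj : Function.Injective (algebraMap A B)) [Algebra.IsIntegral A B] (n : Ideal B) [n.IsPrime]
    (hn : n.comap (algebraMap A B) = IsLocalRing.maximalIdeal A) (p : Ideal A) [p.IsPrime] :
    ∃ q : Ideal B, q.IsPrime ∧ q ≤ n ∧ q.comap (algebraMap A B) = p := by
  obtain ⟨hd, hl⟩ := hA
  let m := IsLocalRing.maximalIdeal A
  have hnil : nilradical A = ⊥ := nilradical_eq_zero A
  have hbij : Function.Bijective (algebraMap A (red A)) := by
    refine ⟨?_, Ideal.Quotient.mk_surjective⟩
    rw [injective_iff_map_eq_zero]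
    intro a ha
    have : a ∈ nilradical A := Ideal.Quotient.eq_zero_iff_mem.mp ha
    rwa [hnil, Ideal.mem_bot] at this
  haveI : IsDomain (red A) := hd
  haveI : IsLocalRing (red A) :=
    .of_surjective' (Ideal.Quotient.mk (nilradical A)) Ideal.Quotient.mk_surjective
  haveI : IsLocalization.AtPrime (red A) m := by
    refine ⟨⟨?_, ?_, ?_⟩⟩
    · rintro ⟨s, hs⟩
      exact (IsLocalRing.notMem_maximalIdeal.mp hs).map _
    · intro y
      obtain ⟨a, rfl⟩ := hbij.2 y
      exact ⟨⟨a, 1⟩, by simp⟩
    · intro a b h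
      exact ⟨1, by rw [hbij.1 h]⟩
  let K := FractionRing (red A)
  haveI : IsLocalRing (integralClosure (red A) K) := hl
  haveI : FaithfulSMul A (integralClosure A K) := by
    refine (faithfulSMul_iff_algebraMap_injective _ _).mpr fun a b e ↦ hbij.1
      (IsFractionRing.injective (red A) K ?_)
    rw [← IsScalarTower.algebraMap_apply, ← IsScalarTower.algebraMap_apply]
    exact congrArg Subtype.val e
  haveI : FaithfulSMul A B := (faithfulSMul_iff_algebraMap_injective A B).mpr hinj
  haveI := Groth.Agent.Unibranch.isIntegrallyClosed_integralClosure (R := A) (K := K)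
  have hU := Groth.Agent.Unibranch.uniqueOver_of_local (R := A) (S := red A) (K := K) m
  let nn : PrimeSpectrum B := ⟨n, inferInstance⟩
  let mm : PrimeSpectrum A := ⟨m, inferInstance⟩
  have hnn : PrimeSpectrum.comap (algebraMap A B) nn = mm := PrimeSpectrum.ext hn
  obtain ⟨q, hq, hqp⟩ := Groth.Agent.Unibranch.exists_le_of_mem_nhds nn
    (fun s hs ↦ hnn ▸ Groth.Agent.Unibranch.image_comap_mem_nhds mm hU nn hnn hs) ⟨p, inferInstance⟩
    (by rw [hnn]; exact IsLocalRing.le_maximalIdeal_of_isPrime p)
  exact ⟨q.asIdeal, q.isPrime, hq, congrArg PrimeSpectrum.asIdeal hqp⟩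

end Groth.Agent.S4935
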