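import Groth.Statements.S4937
import Groth.Agent.Unibranch.OpenAt

set_option autoImplicit false
open CategoryTheory AlgebraicGeometry
universe u v w
open EGA43

namespace Groth.Agent.S4937

/-- Let X and Y be irreducible schemes and f : X ⟶ Y a dominant morphism which is locally of finite
presentation and locally quasi-finite. If x is a point of X whose image y = f x has unibranch local
ring O_{Y,y}, then f is open at x. (Stated for f locally of finite presentation, the class to which
the openness criterion by lifting of generizations used in the published argument applies; the
published hypothesis is 'locally quasi-finite', which includes locally of finite type.) -/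
theorem result {X Y : Scheme.{u}} [IrreducibleSpace X]
    [IrreducibleSpace Y] (f : X ⟶ Y) [LocallyOfFinitePresentation f] [LocallyQuasiFinite f] [IsDominant f]
    (x : X) (hy : CAlg2.IsUnibranch (Y.presheaf.stalk (f.base x))) : EGA43.IsOpenAt f.base x := by
  refine Groth.Agent.Unibranch.isOpenAt_of_quasiFiniteAt f x (f.quasiFiniteAt x) hy (genericPoint X)
    (genericPoint_specializes x) ⟨⊤, trivial, fun z _ ↦ ?_⟩
  have h : IsGenericPoint (f.base (genericPoint X)) ⊤ := by
    have := (genericPoint_spec X).image f.continuous
    rw [Set.image_univ, f.denseRange.closure_range] at this
    exact this
  exact h.specializes trivial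

end Groth.Agent.S4937
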