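import Groth.Statements.S4939
import Groth.Agent.DimFormula.Unibranch

set_option autoImplicit false
open CategoryTheory AlgebraicGeometry
universe u v w
open EGA43

namespace Groth.Agent.S4939
open Groth.Agent.Unibranch Groth.Agent.EquidimPt Groth.Agent.DimFormula TopologicalSpace

/-- Suppose Y is a locally Noetherian scheme and f : X ⟶ Y is locally of finite type; take a point x of
X whose image y = f x is geometrically unibranch on Y. Then these three conditions are equivalent:
a) f is equidimensional at x; b) O_{X,x} is an equidimensional local ring, and f is open at every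
generic point of an irreducible component of the fibre X_y that contains x; c) O_{X,x} is
equidimensional, and f is universally open at every such generic point of an irreducible component
of X_y passing through x. (Not formalized here is the additional claim that, when these hold,
restricting f to any reduced irreducible component of X through x gives a morphism equidimensional
at x and universally open at the points of the components of its fibre through x.) -/
theorem result {X Y : Scheme.{u}} [IsLocallyNoetherian Y] (f : X ⟶ Y)
    [LocallyOfFiniteType f] (x : X) (hy : CAlg2.IsGeomUnibranch (Y.presheaf.stalk (f.base x))) :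
    List.TFAE [EGA43.IsEquidimAt f x,
      EGA4.IsEquidim (X.presheaf.stalk x) ∧ (∀ z : ↥(f.fiber (f.base x)), f.asFiber x ∈ closure {z} →
        (∀ z' : ↥(f.fiber (f.base x)), z ∈ closure {z'} → z' = z) → EGA43.IsOpenAt f.base ((f.fiberι (f.base x)).base z)),
      EGA4.IsEquidim (X.presheaf.stalk x) ∧ (∀ z : ↥(f.fiber (f.base x)), f.asFiber x ∈ closure {z} →
        (∀ z' : ↥(f.fiber (f.base x)), z ∈ closure {z'} → z' = z) → EGA43.IsUnivOpenAt f ((f.fiberι (f.base x)).base z))] := by
  tfae_have 1 → 3 := fun h => by
    refine ⟨isEquidim_stalk_of_isEquidimAt f x hy h, fun z hz _ => ?_⟩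
    have hfz : f ((f.fiberι (f x)) z) = f x := by
      have : f.fiberι (f x) z ∈ Set.range (f.fiberι (f x)) := ⟨z, rfl⟩
      rwa [Scheme.Hom.range_fiberι] at this
    have hzx : f.fiberι (f x) z ⤳ x := by
      have := (specializes_iff_mem_closure.mpr hz).map (f.fiberι (f x)).continuous
      rwa [f.fiberι_asFiber x] at this
    exact isUnivOpenAt_of_isEquidimAt f _ (by rw [hfz]; exact hy) (exists_opens_finite_components _)
      (isEquidimAt_of_specializes f hzx hfz h)
  tfae_have 3 → 2 := fun h => ⟨h.1, fun z hz hmax => isOpenAt_of_isUnivOpenAt f _ (h.2 z hz hmax)⟩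
  tfae_have 2 → 1 := fun ⟨hX, h⟩ => by
    refine isEquidimAt_of_dim f x hX (dim_le_of_isOpenAt f x fun z hfz hzx hmax => ?_)
    obtain ⟨z', hz'⟩ : z ∈ Set.range (f.fiberι (f x)) := by rw [Scheme.Hom.range_fiberι]; exact hfz
    rw [← hz']
    refine h z' ?_ fun w hw => ?_
    · rw [← specializes_iff_mem_closure, ← (f.fiberι (f x)).isEmbedding.isInducing.specializes_iff,
        f.fiberι_asFiber x, hz']
      exact hzx
    · apply (f.fiberι (f x)).isEmbedding.injective
      rw [hz']
      refine hmax _ ?_ (hz' ▸ (specializes_iff_mem_closure.mpr hw).map (f.fiberι (f x)).continuous)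
      rw [hfz]
      have : f.fiberι (f x) w ∈ Set.range (f.fiberι (f x)) := ⟨w, rfl⟩
      rwa [Scheme.Hom.range_fiberι] at this
  tfae_finish

end Groth.Agent.S4939
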