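import Groth.Statements.S4941
import Mathlib

set_option autoImplicit false
open CategoryTheory AlgebraicGeometry
universe u v w
open EGA43

namespace Groth.Agent.S4941

open CategoryTheory.Limits in
/-- Let v : Y₁ ⟶ Y be a surjective morphism of schemes whose underlying map is closed, f : X ⟶ Y a
morphism and x a point of X. If the base change f₁ : X ×_Y Y₁ ⟶ Y₁ is open at every point of X ×_Y
Y₁ lying over x, then f is open at x. -/
theorem result {X Y Y₁ : Scheme.{u}} (v : Y₁ ⟶ Y)
    (hv : IsClosedMap v.base) [Surjective v] (f : X ⟶ Y) (x : X)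
    (h : ∀ x₁ : ↥(pullback f v), (pullback.fst f v).base x₁ = x → EGA43.IsOpenAt (pullback.snd f v).base x₁) :
    EGA43.IsOpenAt f.base x := by
  intro U hU
  obtain ⟨V, hVU, hV, hxV⟩ := mem_nhds_iff.mp hU
  set W := (pullback.fst f v).base ⁻¹' V with hW
  set O := interior ((pullback.snd f v).base '' W) with hO
  have hsub : v.base ⁻¹' {f.base x} ⊆ O := by
    intro y₁ hy₁
    obtain ⟨x₁, hx₁, hx₁'⟩ :=
      Scheme.Pullback.exists_preimage_pullback (f := f) (g := v) x y₁ (Eq.symm hy₁)
    have hWn : W ∈ nhds x₁ := (hV.preimage (pullback.fst f v).continuous).mem_nhds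
      (show (pullback.fst f v).base x₁ ∈ V from hx₁.symm ▸ hxV)
    have := h x₁ hx₁ W hWn
    rw [show (pullback.snd f v).base x₁ = y₁ from hx₁'] at this
    exact mem_interior_iff_mem_nhds.mpr this
  have hC : IsClosed (v.base '' Oᶜ) := hv _ isOpen_interior.isClosed_compl
  refine Filter.mem_of_superset (hC.isOpen_compl.mem_nhds ?_) ?_
  · rintro ⟨y₁, hy₁, hyx⟩
    exact hy₁ (hsub hyx)
  · intro y hy
    obtain ⟨y₁, rfl⟩ := v.surjective y
    obtain ⟨w, hw, hwy⟩ := interior_subset (not_not.mp fun hn ↦ hy ⟨y₁, hn, rfl⟩ : y₁ ∈ O)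
    refine ⟨(pullback.fst f v).base w, hVU hw, ?_⟩
    have hcond := congrArg (fun g : pullback f v ⟶ Y ↦ g.base w) (pullback.condition (f := f) (g := v))
    simp only [Scheme.Hom.comp_base, TopCat.coe_comp, Function.comp_apply] at hcond
    rw [hcond, hwy]

end Groth.Agent.S4941
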