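import Groth.Statements.S4943
import Groth.Agent.EquidimPt.Height

set_option autoImplicit false
open CategoryTheory AlgebraicGeometry
universe u v w
open EGA43

namespace Groth.Agent.S4943

/-- Let Y be an irreducible locally Noetherian scheme, f : X ⟶ Y a morphism locally of finite type which
is equidimensional at the point x, y = f x and e = dim_x(X_y). Let X' be an irreducible closed
subset of X containing x, with generic point x', and n a natural number such that codim(X', X) ≤ n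
(the codimension being dim O_{X,x'}) and dim_x(X' ∩ X_y) ≤ e − n. Then codim(X', X) = n, dim_x(X' ∩
X_y) = e − n, and the restriction of f to X' with its reduced subscheme structure is equidimensional
at x. -/
theorem result {X Y : Scheme.{u}} [IrreducibleSpace Y]
    [IsLocallyNoetherian Y] (f : X ⟶ Y) [LocallyOfFiniteType f] (x : X) (hf : EGA43.IsEquidimAt f x)
    (X' : TopologicalSpace.Closeds X) (x' : X) (hx' : closure ({x'} : Set X) = (X' : Set X)) (hx : x ∈ X') (n : ℕ)
    (hcodim : ringKrullDim (X.presheaf.stalk x') ≤ n)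
    (hdim : FlatMor.localDim ↥((X' : Set X) ∩ f.base ⁻¹' {f.base x}) ⟨x, ⟨hx, rfl⟩⟩ + n ≤ FlatMor.fibreDimAt f x) :
    ringKrullDim (X.presheaf.stalk x') = n ∧
      FlatMor.localDim ↥((X' : Set X) ∩ f.base ⁻¹' {f.base x}) ⟨x, ⟨hx, rfl⟩⟩ + n = FlatMor.fibreDimAt f x ∧
      ∀ w : ↥(Scheme.IdealSheafData.vanishingIdeal X').subscheme,
        (Scheme.IdealSheafData.vanishingIdeal X').subschemeι.base w = x →
        EGA43.IsEquidimAt ((Scheme.IdealSheafData.vanishingIdeal X').subschemeι ≫ f) w := by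
  open Groth.Agent.EquidimPt Groth.Agent.Unibranch in
  haveI : IsLocallyNoetherian X := LocallyOfFiniteType.isLocallyNoetherian f
  obtain ⟨e, U, hxU, he, hmax, hge, hle, -⟩ := exists_fibreDimAt_data f x hf
  rw [he] at hdim ⊢
  have hx'x : x' ⤳ x := by rw [specializes_iff_mem_closure, hx']; exact hx
  have hS : IsLocallyClosed (X' : Set X) := X'.isClosed.isLocallyClosed
  obtain ⟨d, hd⟩ : ∃ d : ℕ, FlatMor.localDim ↥((X' : Set X) ∩ f.base ⁻¹' {f.base x}) ⟨x, ⟨hx, rfl⟩⟩ = (d : WithBot ℕ∞) := by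
    have h0 : ((0 : ℕ) : WithBot ℕ∞) ≤ FlatMor.localDim ↥((X' : Set X) ∩ f.base ⁻¹' {f.base x}) ⟨x, ⟨hx, rfl⟩⟩ :=
      (natCast_le_localDim_inter_iff f hS (y := f x) ⟨hx, rfl⟩).mpr fun O hO =>
        ⟨fun _ => x, fun _ => ⟨⟨hO, hx⟩, rfl⟩, fun i => i.elim0⟩
    revert h0 hdim
    generalize FlatMor.localDim ↥((X' : Set X) ∩ f.base ⁻¹' {f.base x}) ⟨x, ⟨hx, rfl⟩⟩ = v
    intro hdim h0
    match v, hdim, h0 with
    | ⊥, _, h0 => exact absurd h0 (by simp)
    | (some ⊤), hdim, _ => exact absurd hdim (by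
        rw [show ((some ⊤ : WithBot ℕ∞)) = ((⊤ : ℕ∞) : WithBot ℕ∞) from rfl,
          show ((n : WithBot ℕ∞)) = (((n : ℕ∞)) : WithBot ℕ∞) from rfl,
          show ((e : WithBot ℕ∞)) = (((e : ℕ∞)) : WithBot ℕ∞) from rfl, ← WithBot.coe_add,
          WithBot.coe_le_coe, top_add, top_le_iff]
        exact ENat.natCast_ne_top e)
    | (some (some d)), _, _ => exact ⟨d, rfl⟩
  rw [hd] at hdim ⊢
  have hdn : d + n ≤ e := by exact_mod_cast hdim
  obtain ⟨h, hh⟩ : ∃ h : ℕ, ringKrullDim (X.presheaf.stalk x') = (h : WithBot ℕ∞) := by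
    have h0 : 0 ≤ ringKrullDim (X.presheaf.stalk x') := ringKrullDim_nonneg_of_nontrivial
    revert h0 hcodim
    generalize ringKrullDim (X.presheaf.stalk x') = v
    intro hcodim h0
    match v, hcodim, h0 with
    | ⊥, _, h0 => exact absurd h0 (by simp)
    | (some ⊤), hcodim, _ => exact absurd hcodim (by
        rw [show ((some ⊤ : WithBot ℕ∞)) = ((⊤ : ℕ∞) : WithBot ℕ∞) from rfl,
          show ((n : WithBot ℕ∞)) = (((n : ℕ∞)) : WithBot ℕ∞) from rfl,
          WithBot.coe_le_coe, top_le_iff]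
        exact ENat.natCast_ne_top n)
    | (some (some d)), _, _ => exact ⟨d, rfl⟩
  rw [hh] at hcodim ⊢
  have hhn : h ≤ n := by exact_mod_cast hcodim
  have hx'U : x' ∈ U := hx'x.mem_open U.2 hxU
  obtain ⟨h1, h2⟩ := hasChain_of_genChainsLE f U hmax hge h (by omega) x' hx'U
    (genChainsLE_of_ringKrullDim_le x' hh.le)
  have hbound : ∀ k, HasChain f (closure {x'}) (f x') k → k ≤ d := fun k hk => by
    have : (k : WithBot ℕ∞) ≤ FlatMor.localDim ↥((X' : Set X) ∩ f.base ⁻¹' {f.base x}) ⟨x, ⟨hx, rfl⟩⟩ :=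
      (natCast_le_localDim_inter_iff f hS (y := f x) ⟨hx, rfl⟩).mpr fun O hO => by
        rw [← hx']; exact hk.of_specializes hx'x hO
    rw [hd] at this
    exact_mod_cast this
  have hk1 := hbound _ h1
  have hfx' : IsMaxPt (f x') := by
    by_contra hcon
    have := hbound _ (h2 hcon)
    omega
  refine ⟨by norm_cast; omega, by norm_cast; omega, fun w hw => ?_⟩
  refine isEquidimAt_closed f X' w x hw (e := d) (fun ξ hξ hξx hξmin => ?_) ?_
  · obtain rfl : x' = ξ := hξmin x' (by rw [← hx']; exact subset_closure rfl)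
      (by rw [specializes_iff_mem_closure, hx']; exact hξ)
    exact ⟨hfx', by rwa [show d = e - h by omega]⟩
  · exact (localDim_inter_le_iff f hS (y := f x) ⟨hx, rfl⟩).mp hd.le

end Groth.Agent.S4943
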