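import Groth.Statements.S4944
import Groth.Agent.EquidimPt.QuasiSection
import Groth.Agent.DvrDom.ClosedProper

set_option autoImplicit false
open CategoryTheory AlgebraicGeometry
universe u v w
open EGA43

namespace Groth.Agent.S4944

/-- Suppose Y is an irreducible, locally Noetherian scheme and f : X ⟶ Y is locally of finite type. Take
a point x of X at which f is equidimensional and which is closed in its fibre f⁻¹(f x). Then one can
find an irreducible reduced scheme T together with an immersion i : T ⟶ X whose image contains x,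
such that the composite T ⟶ Y is dominant and quasi-finite (meaning locally quasi-finite and of
finite type). -/
theorem result {X Y : Scheme.{u}} [IrreducibleSpace Y]
    [IsLocallyNoetherian Y] (f : X ⟶ Y) [LocallyOfFiniteType f] (x : X) (hf : EGA43.IsEquidimAt f x)
    (hcl : ∀ x' : X, f.base x' = f.base x → x ⤳ x' → x' = x) :
    ∃ (T : Scheme.{u}) (i : T ⟶ X), IsImmersion i ∧ IrreducibleSpace ↥T ∧ IsReduced T ∧ x ∈ Set.range i.base ∧
        LocallyOfFiniteType (i ≫ f) ∧ LocallyQuasiFinite (i ≫ f) ∧ QuasiCompact (i ≫ f) ∧ IsDominant (i ≫ f) := by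
  open Groth.Agent.EquidimPt Groth.Agent.Unibranch in
  haveI : IsLocallyNoetherian X := LocallyOfFiniteType.isLocallyNoetherian f
  obtain ⟨e, U, hxU, he, -, -, -, -⟩ := exists_fibreDimAt_data f x hf
  obtain ⟨V, W, hV, hW, hxW, hWV, -⟩ := exists_chart_le f hxU
  haveI : IsAffine (W : Scheme.{u}) := hW
  haveI : IsLocallyNoetherian (W : Scheme.{u}) := inferInstance
  let f' : (W : Scheme.{u}) ⟶ Y := W.ι ≫ f
  let x' : (W : Scheme.{u}) := ⟨x, hxW⟩
  have hfW : ∀ z, f' z = f (W.ι z) := fun z => Scheme.Hom.comp_apply _ _ _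
  -- restriction to the affine open
  have hf' : EGA43.IsEquidimAt f' x' := by
    obtain ⟨e, U, hxU, -, hmax, hge, hle, -⟩ := exists_fibreDimAt_data f x hf
    refine isEquidimAt_of_components f' x' (e := e) (fun ζ hζ hζx => ?_) (fun ζ hζ hζx => ?_) ?_
    · rw [hfW]
      exact hmax _ ((hζx.map W.ι.continuous).mem_open U.2 hxU) ((isMaxPt_opens_iff W ζ).mp hζ)
    · obtain ⟨c, hc, hc'⟩ := (hge _ ((hζx.map W.ι.continuous).mem_open U.2 hxU)
        ((isMaxPt_opens_iff W ζ).mp hζ)).of_specializes specializes_rfl (show W.ι ζ ∈ W from ζ.2)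
      exact ⟨fun i => ⟨c i, (hc i).1.1⟩,
        fun i => ⟨specializes_iff_mem_closure.mp (W.ι.isEmbedding.isInducing.specializes_iff.mp
          (specializes_iff_mem_closure.mpr (hc i).1.2)), by rw [hfW, hfW]; exact (hc i).2⟩,
        fun i => ⟨W.ι.isEmbedding.isInducing.specializes_iff.mp (hc' i).1,
          fun e => (hc' i).2 (congrArg Subtype.val e)⟩⟩
    · exact ⟨W.ι ⁻¹ᵁ U, hxU, fun k c hc hc' => hle (f x) k (fun i => W.ι (c i))
        (fun i => ⟨(hc i).1, by rw [← hfW]; exact (hc i).2.trans (hfW x')⟩)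
        fun i => ⟨(hc' i).1.map W.ι.continuous, fun e => (hc' i).2 (W.ι.isEmbedding.injective e)⟩⟩
  obtain ⟨d, hd⟩ := exists_fibreDimAt_eq f' x'
  obtain ⟨ξ, hξx, hξmax, O₀, hxO₀, hO₀⟩ := exists_zero_dim d f' x' hV
    (fun z => by rw [hfW]; exact hWV z.2) hf' hd.le
    (fun z hz hfz => W.ι.isEmbedding.injective (hcl (W.ι z)
      (by rw [hfW, hfW] at hfz; exact hfz) (hz.map W.ι.continuous)))
  obtain ⟨O, hO, hxO, hOO₀⟩ := exists_isAffineOpen_mem_and_subset hxO₀
  let Z : TopologicalSpace.Closeds (O : Scheme.{u}) :=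
    ⟨O.ι ⁻¹' closure {ξ}, isClosed_closure.preimage O.ι.continuous⟩
  let I := Scheme.IdealSheafData.vanishingIdeal Z
  let i : I.subscheme ⟶ X := I.subschemeι ≫ O.ι ≫ W.ι
  have hr : Set.range I.subschemeι = (Z : Set (O : Scheme.{u})) := by
    rw [Scheme.IdealSheafData.range_subschemeι, Scheme.IdealSheafData.coe_support_vanishingIdeal]
  haveI : AlgebraicGeometry.IsReduced I.subscheme := Groth.Agent.DvrDom.isReduced_vanishingIdeal_subscheme Z
  have hξO : ξ ∈ O := hξx.mem_open O.2 hxO
  obtain ⟨ξ₀, hξ₀⟩ : (⟨ξ, hξO⟩ : (O : Scheme.{u})) ∈ Set.range I.subschemeι := hr.ge (subset_closure rfl : ξ ∈ closure {ξ})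
  obtain ⟨x₀, hx₀⟩ : (⟨x', hxO⟩ : (O : Scheme.{u})) ∈ Set.range I.subschemeι :=
    hr.ge (specializes_iff_mem_closure.mp hξx : x' ∈ closure {ξ})
  have hgen : ∀ z, ξ₀ ⤳ z := fun z => by
    rw [← I.subschemeι.isEmbedding.isInducing.specializes_iff, hξ₀,
      ← O.ι.isEmbedding.isInducing.specializes_iff]
    exact specializes_iff_mem_closure.mpr (hr.le ⟨z, rfl⟩)
  have hpt : ∀ z, (i ≫ f) z = f' (O.ι (I.subschemeι z)) := fun z => by
    simp only [i, f', Scheme.Hom.comp_apply]
  haveI : IsAffine (O : Scheme.{u}) := hO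
  haveI : IsAffine I.subscheme := isAffine_of_isAffineHom I.subschemeι
  haveI : LocallyOfFiniteType (i ≫ f) := inferInstance
  refine ⟨I.subscheme, i, inferInstance, ?_, inferInstance, ⟨x₀, ?_⟩, inferInstance, ?_, ?_, ?_⟩
  · haveI : Nonempty I.subscheme := ⟨ξ₀⟩
    haveI : PreirreducibleSpace I.subscheme := ⟨by
      rw [show (Set.univ : Set I.subscheme) = closure {ξ₀} from
        (Set.eq_univ_of_forall fun z => (hgen z).mem_closure).symm]
      exact isIrreducible_singleton.closure.isPreirreducible⟩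
    exact ⟨inferInstance⟩
  · show i x₀ = x
    simp only [i, Scheme.Hom.comp_apply, hx₀]
    rfl
  · refine LocallyQuasiFinite.of_finite_preimage_singleton _ fun y => ?_
    obtain ⟨M, hM, hMp, hMc⟩ := exists_finite_maximal (i ≫ f) hV (isAffineOpen_top I.subscheme)
      (fun z _ => show (i ≫ f) z ∈ V by rw [hpt, hfW]; exact hWV (O.ι (I.subschemeι z)).2) y
    refine hM.subset fun z hz => ?_
    obtain ⟨m, hm, hmz⟩ := hMc z trivial hz
    suffices m = z from this ▸ hm
    by_contra hne
    let j : I.subscheme → (W : Scheme.{u}) := fun a => O.ι (I.subschemeι a)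
    have hj : Function.Injective j := O.ι.isEmbedding.injective.comp I.subschemeι.isEmbedding.injective
    have hmem : ∀ a, j a ∈ (O₀ : Set (W : Scheme.{u})) ∩ closure {ξ} := fun a =>
      ⟨hOO₀ (I.subschemeι a).2, hr.le ⟨a, rfl⟩⟩
    have := hO₀ y 1 ![j m, j z]
      (fun k => by
        fin_cases k
        · exact ⟨hmem m, (hpt m).symm.trans (hMp m hm).2.1⟩
        · exact ⟨hmem z, (hpt z).symm.trans hz⟩)
      (fun k => by
        fin_cases k
        exact ⟨(hmz.map I.subschemeι.continuous).map O.ι.continuous, fun e => hne (hj e)⟩)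
    omega
  · haveI : CompactSpace I.subscheme := inferInstance
    exact quasiCompact_of_compactSpace (i ≫ f)
  · refine ⟨?_⟩
    have hη : IsMaxPt ((i ≫ f) ξ₀) := by rw [hpt, hξ₀]; exact hξmax
    have hgY : (i ≫ f) ξ₀ = genericPoint Y := (hη _ (genericPoint_specializes _)).symm
    refine Dense.mono (Set.singleton_subset_iff.mpr ⟨ξ₀, rfl⟩) ?_
    rw [hgY]
    exact dense_iff_closure_eq.mpr (genericPoint_closure (α := Y))

end Groth.Agent.S4944
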