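import Groth.Statements.S4945
import Groth.Agent.Unibranch.QuasiSection

set_option autoImplicit false
open CategoryTheory AlgebraicGeometry
universe u v w
open EGA43

namespace Groth.Agent.S4945

/-- Let Y be an irreducible locally Noetherian scheme with generic point η, f : X ⟶ Y a morphism locally
of finite type and y a geometrically unibranch point of Y. The following are equivalent: a) f is
universally open at every point of X_y; b) f is open at every point of X_y; c) for every maximal
point z of X_y there is an irreducible component Z of X containing z and dominating Y with dim_z(Z ∩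
X_y) = dim(Z ∩ X_η); d) for every point x closed in X_y there are an irreducible reduced scheme T
and an immersion T ⟶ X with image containing x such that T ⟶ Y is quasi-finite and dominant. -/
theorem result {X Y : Scheme.{u}} [IrreducibleSpace Y]
    [IsLocallyNoetherian Y] (f : X ⟶ Y) [LocallyOfFiniteType f] (y : Y) (hy : CAlg2.IsGeomUnibranch (Y.presheaf.stalk y)) :
    List.TFAE [∀ x : X, f.base x = y → EGA43.IsUnivOpenAt f x,
      ∀ x : X, f.base x = y → EGA43.IsOpenAt f.base x,
      ∀ z : X, ∀ hzy : f.base z = y, (∀ z' : X, f.base z' = y → z ∈ closure {z'} → z' = z) →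
        ∃ Z ∈ irreducibleComponents (X : Type u), ∃ hz : z ∈ Z, Dense (f.base '' Z) ∧
          FlatMor.localDim ↥(Z ∩ f.base ⁻¹' {y}) ⟨z, ⟨hz, hzy⟩⟩ = topologicalKrullDim ↥(Z ∩ f.base ⁻¹' {genericPoint Y}),
      ∀ x : X, f.base x = y → (∀ x' : X, f.base x' = y → x ⤳ x' → x' = x) →
        ∃ (T : Scheme.{u}) (i : T ⟶ X), IsImmersion i ∧ IrreducibleSpace ↥T ∧ IsReduced T ∧ x ∈ Set.range i.base ∧
        LocallyOfFiniteType (i ≫ f) ∧ LocallyQuasiFinite (i ≫ f) ∧ QuasiCompact (i ≫ f) ∧ IsDominant (i ≫ f)] := by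
  open Groth.Agent.Unibranch in
  have hgY : IsMaxPt (genericPoint Y) := fun z hz ↦ (hz.antisymm (genericPoint_specializes z)).eq
  have hcl : closure ({genericPoint Y} : Set Y) = Set.univ := (genericPoint_spec Y).def
  tfae_have 1 → 2 := fun H x hx ↦ isOpenAt_of_isUnivOpenAt f x (H x hx)
  tfae_have 2 → 3 := fun H z hzy hzmax ↦ by
    subst hzy
    obtain ⟨d, hd⟩ := exists_fibreDimAt_eq f z
    have hself := hasChain_closure_of_maximal f z hzmax hd.ge
    have hY₀ : (Set.univ : Set Y) ∈ irreducibleComponents (Y : Type u) := by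
      rw [← hcl]; exact hgY.mem_irreducibleComponents
    obtain ⟨Z, hZ, hz, hclZ, hdim⟩ := exists_component_dims f z hd hY₀ fun η hηmax hη U hxU ↦ by
      obtain ⟨ζ, hζx, hfζ, hk⟩ := exists_hasChain_of_lifts f (z := z)
        (specializes_iff_mem_closure.mpr (hη.symm ▸ Set.mem_univ (f.base z))) hηmax
        fun η' _ hη' ↦ exists_specializes_of_isOpenAt f (H z rfl) hη'
      exact hasChain_opens_of_lift hζx hfζ (hk d hself) hxU
    exact ⟨Z, hZ, hz, dense_iff_closure_eq.mpr hclZ, (hdim _ hcl).1.trans (hdim _ hcl).2.symm⟩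
  have key : (∀ z : X, ∀ hzy : f.base z = y, (∀ z' : X, f.base z' = y → z ∈ closure {z'} → z' = z) →
      ∃ Z ∈ irreducibleComponents (X : Type u), ∃ hz : z ∈ Z, Dense (f.base '' Z) ∧
        FlatMor.localDim ↥(Z ∩ f.base ⁻¹' {y}) ⟨z, ⟨hz, hzy⟩⟩ =
          topologicalKrullDim ↥(Z ∩ f.base ⁻¹' {genericPoint Y})) →
      ∀ x : X, f.base x = y → ∃ (d : ℕ) (U : X.Opens) (ζ : X), x ∈ U ∧ ζ ⤳ x ∧
        f.base ζ = genericPoint Y ∧ ChainsLE f U (f.base x) d ∧
        HasChain f (closure {ζ}) (f.base ζ) d := fun H x hx ↦ by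
    subst hx
    obtain ⟨d, hd⟩ := exists_fibreDimAt_eq f x
    obtain ⟨U, hxU, hU⟩ := (fibreDimAt_le_iff f x).mp hd.le
    obtain ⟨z, hzx, hfz, hzmax, hzc⟩ := exists_max_hasChain f x hd.ge
    obtain ⟨Z, hZ, hz, hdense, heq⟩ := H z hfz fun z' hz' hzz' ↦
      hzmax z' hz' (specializes_iff_mem_closure.mpr hzz')
    obtain ⟨ζ, -, rfl⟩ := exists_isMaxPt hZ
    have hfζ : f.base ζ = genericPoint Y := by
      refine eq_of_closure_eq (Eq.trans ?_ hcl.symm)
      rw [← closure_image_closure_singleton]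
      exact hdense.closure_eq
    have hζz : ζ ⤳ z := specializes_iff_mem_closure.mpr hz
    obtain ⟨e, -, he, hdim⟩ := exists_dim_closure_eq f ζ
    rw [← hfζ] at heq
    have hde : d ≤ e := by
      have h1 : (d : WithBot ℕ∞) ≤ (e : WithBot ℕ∞) := by
        refine le_trans ?_ (heq.trans hdim).le
        refine (natCast_le_localDim_inter_iff f isClosed_closure.isLocallyClosed _).mpr fun O hO ↦ ?_
        have h2 := HasChain.of_specializes (U := O) (hfz.symm ▸ hzc) specializes_rfl hO
        rw [hfz] at h2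
        exact h2.mono (Set.inter_subset_inter_right _
          (closure_minimal (Set.singleton_subset_iff.mpr hz) isClosed_closure))
      exact_mod_cast h1
    exact ⟨d, U, ζ, hxU, hζz.trans hzx, hfζ, hU, he.anti hde⟩
  tfae_have 3 → 1 := fun H x hx ↦ by
    obtain ⟨d, U, ζ, hxU, hζ, hfζ, hle, hge⟩ := key H x hx
    exact isUnivOpenAt_of_chainsLE f x (hx.symm ▸ hy) hζ
      ⟨⊤, trivial, fun w _ ↦ hfζ.symm ▸ genericPoint_specializes w⟩
      ⟨U, hxU, hle.mono Set.inter_subset_left⟩ hge
  tfae_have 3 → 4 := fun H x hx hxcl ↦ by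
    obtain ⟨d, U, ζ, hxU, hζ, hfζ, hle, hge⟩ := key H x hx
    exact exists_quasiSection f x (hx.symm ▸ hy) (fun x' hx' h ↦ hxcl x' (hx'.trans hx) h) hζ hfζ
      hxU hle hge
  tfae_have 4 → 2 := fun H z hzy O hO ↦ by
    subst hzy
    obtain ⟨O', hO'O, hO', hzO'⟩ := mem_nhds_iff.mp hO
    let ι := f.fiberι (f.base z)
    have hloc : IsLocallyClosed (ι ⁻¹' O') := (hO'.preimage ι.continuous).isLocallyClosed
    obtain ⟨a, haO, hacl⟩ := nonempty_inter_closedPoints
      (X := ↥(f.fiber (f.base z))) ⟨f.asFiber z, by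
        show ι (f.asFiber z) ∈ O'
        rw [Scheme.Hom.fiberι_asFiber]; exact hzO'⟩ hloc
    have hax : f.base (ι a) = f.base z := (f.range_fiberι (f.base z)).le ⟨a, rfl⟩
    obtain ⟨T, i, _, _, _, ⟨t, ht⟩, hft, hqf, _, hdom⟩ := H (ι a) hax fun x' hx' hsp ↦ by
      obtain ⟨b, rfl⟩ := (f.range_fiberι (f.base z)).ge hx'
      have hab : a ⤳ b := ι.isEmbedding.isInducing.specializes_iff.mp hsp
      exact congrArg ι (show b ∈ ({a} : Set _) from hab.mem_closed hacl rfl)
    have hgT : (i ≫ f) (genericPoint T) = genericPoint Y := by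
      refine eq_of_closure_eq (Eq.trans ?_ hcl.symm)
      rw [← Set.image_singleton, ← closure_image_closure (i ≫ f).continuous,
        (genericPoint_spec T).def, Set.image_univ]
      exact hdom.denseRange.closure_range
    have hit : (i ≫ f) t = f.base z := (Scheme.Hom.comp_apply _ _ _).trans ((congrArg f ht).trans hax)
    have h1 : EGA43.IsUnivOpenAt (i ≫ f) t :=
      isUnivOpenAt_of_quasiFiniteAt (i ≫ f) t ((i ≫ f).quasiFiniteAt t) (hit.symm ▸ hy)
        (genericPoint T) (genericPoint_specializes t)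
        ⟨⊤, trivial, fun w _ ↦ hgT.symm ▸ genericPoint_specializes w⟩
    have h2 := isOpenAt_of_isUnivOpenAt f _ (Groth.Agent.GoingDown.isUnivOpenAt_right_of_comp i f t h1)
    rw [show (i t : X) = ι a from ht] at h2
    have h3 := h2 O' (hO'.mem_nhds haO)
    rw [hax] at h3
    exact Filter.mem_of_superset h3 (Set.image_mono hO'O)
  tfae_finish

end Groth.Agent.S4945
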