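import Groth.Statements.S4946
import Groth.Agent.Curves.Basic
import Groth.Agent.RegLoc.Order
import Groth.Agent.DvrDom.ClosedProper
import Mathlib.RingTheory.DiscreteValuationRing.TFAE
import Mathlib.AlgebraicGeometry.ZariskisMainTheorem
import Mathlib.Topology.JacobsonSpace

set_option autoImplicit false
open CategoryTheory AlgebraicGeometry
universe u v w
open EGA43

namespace Groth.Agent.S4946

/-- Let Y be an irreducible locally Noetherian scheme which is regular of dimension 1 (all local rings
regular of dimension at most 1), f : X ⟶ Y a morphism locally of finite type and y a point of Y.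
Then the following are equivalent: d) every irreducible component of X meeting the fibre X_y
dominates Y; e) for every point x closed in X_y and every irreducible component X_i of X containing
x, there are an irreducible reduced scheme T and an immersion T ⟶ X with image containing x and
contained in X_i, such that T ⟶ Y is quasi-finite and dominant. -/
theorem result {X Y : Scheme.{u}} [IrreducibleSpace Y]
    [IsLocallyNoetherian Y] (hY : ∀ y : Y, IsRegularLocalRing (Y.presheaf.stalk y) ∧ ringKrullDim (Y.presheaf.stalk y) ≤ 1)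
    (f : X ⟶ Y) [LocallyOfFiniteType f] (y : Y) :
    (∀ Z ∈ irreducibleComponents (X : Type u), (Z ∩ f.base ⁻¹' {y}).Nonempty → Dense (f.base '' Z)) ↔
      ∀ x : X, f.base x = y → (∀ x' : X, f.base x' = y → x ⤳ x' → x' = x) →
        ∀ Xi ∈ irreducibleComponents (X : Type u), x ∈ Xi →
          ∃ (T : Scheme.{u}) (i : T ⟶ X), IsImmersion i ∧ IrreducibleSpace ↥T ∧ IsReduced T ∧ x ∈ Set.range i.base ∧
            Set.range i.base ⊆ Xi ∧
            LocallyOfFiniteType (i ≫ f) ∧ LocallyQuasiFinite (i ≫ f) ∧ QuasiCompact (i ≫ f) ∧ IsDominant (i ≫ f) := by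
  constructor
  · intro hd x hxy hxcl Xi hXi hxXi
    have : IsLocallyNoetherian X := LocallyOfFiniteType.isLocallyNoetherian f
    have hgen := hXi.1.isGenericPoint_genericPoint (isClosed_of_mem_irreducibleComponents Xi hXi)
    set ξ := hXi.1.genericPoint
    have hdense := hd Xi hXi ⟨x, hxXi, hxy⟩
    have hfξ : f ξ = genericPoint Y := by
      refine IsGenericPoint.eq ?_ (genericPoint_spec Y)
      show closure {f ξ} = Set.univ
      refine Set.eq_univ_of_univ_subset ?_
      rw [← (dense_iff_closure_eq.mp hdense)]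
      refine closure_minimal ?_ isClosed_closure
      rintro _ ⟨w, hw, rfl⟩
      exact specializes_iff_mem_closure.mp ((hgen.specializes hw).map f.continuous)
    -- a point of the generic fibre specialising to `x`, isolated over `y`
    obtain ⟨z, hξz, hzx, hzη, hiso⟩ : ∃ z, ξ ⤳ z ∧ z ⤳ x ∧ f z = genericPoint Y ∧
        ∀ w, z ⤳ w → w ⤳ x → f w = y → w = x := by
      by_cases hy : y = genericPoint Y
      · exact ⟨x, hgen.specializes hxXi, specializes_rfl, hxy.trans hy,
          fun w h1 _ hw ↦ hxcl w hw h1⟩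
      · subst hxy
        have : IsRegularLocalRing (Y.presheaf.stalk (f x)) := (hY (f x)).1
        have : IsDomain (Y.presheaf.stalk (f x)) := Groth.Agent.RegLoc.isDomain _
        have hnf : ¬ IsField (Y.presheaf.stalk (f x)) := by
          intro hF
          refine hy ((Groth.Agent.DvrDom.eq_of_stalkSpecializes_maximalIdeal
            ((genericPoint_spec Y).specializes trivial : genericPoint Y ⤳ f x) fun a ha ↦ ?_))
          rw [IsLocalRing.isField_iff_maximalIdeal_eq.mp hF, Ideal.mem_bot] at ha
          rw [ha, map_zero]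
          exact Ideal.zero_mem _
        have : IsDiscreteValuationRing (Y.presheaf.stalk (f x)) := by
          have hd1 : Module.finrank (IsLocalRing.ResidueField (Y.presheaf.stalk (f x)))
              (IsLocalRing.CotangentSpace (Y.presheaf.stalk (f x))) ≤ 1 := by
            have h1 := (IsRegularLocalRing.iff_finrank_cotangentSpace _).mp (hY (f x)).1
            have h2 := (hY (f x)).2
            rw [← h1] at h2
            exact_mod_cast h2
          have : IsPrincipalIdealRing (Y.presheaf.stalk (f x)) :=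
            ((tfae_of_isNoetherianRing_of_isLocalRing_of_isDomain _).out 5 0).mp hd1
          exact { not_a_field' := fun h ↦ hnf (IsLocalRing.isField_iff_maximalIdeal_eq.mpr h) }
        have hne : f ξ ≠ f x := fun e ↦ hy (e.symm.trans hfξ)
        obtain ⟨z, h1, h2, h3, h4⟩ := Groth.Agent.Curves.exists_curve f (hgen.specializes hxXi) hne
        refine ⟨z, h1, h2, h3.trans hfξ, fun w hw1 hw2 hwy ↦ (h4 w hw1 hw2).resolve_left fun e ↦ hy ?_⟩
        rw [← hwy, e, h3, hfξ]
    -- the closure of `z`
    let C : TopologicalSpace.Closeds X := ⟨closure {z}, isClosed_closure⟩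
    let i := (Scheme.IdealSheafData.vanishingIdeal C).subschemeι
    have hri : Set.range i = closure {z} := Groth.Agent.DvrDom.range_vanishingIdeal_subschemeι C
    have := Groth.Agent.DvrDom.isReduced_vanishingIdeal_subscheme C
    obtain ⟨x₁, hx₁⟩ : x ∈ Set.range i := hri ▸ specializes_iff_mem_closure.mp hzx
    obtain ⟨z₁, hz₁⟩ : z ∈ Set.range i := hri ▸ subset_closure rfl
    have hemb : Topology.IsEmbedding i := i.isClosedEmbedding.isEmbedding
    have hz₁gen : ∀ w, z₁ ⤳ w := fun w ↦ hemb.isInducing.specializes_iff.mp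
      (hz₁.symm ▸ specializes_iff_mem_closure.mpr (hri ▸ ⟨w, rfl⟩ : i w ∈ closure {z}))
    let g := i ≫ f
    have : LocallyOfFiniteType g := inferInstanceAs (LocallyOfFiniteType (i ≫ f))
    have hgw : ∀ w, g w = f (i w) := fun w ↦ Scheme.Hom.comp_apply _ _ _
    have hqf : g.QuasiFiniteAt x₁ := by
      rw [Scheme.Hom.quasiFiniteAt_iff_isOpen_singleton_asFiber]
      have : LocallyOfFiniteType (g.fiberToSpecResidueField (g x₁)) :=
        MorphismProperty.IsStableUnderBaseChange.of_isPullback (P := (@LocallyOfFiniteType : MorphismProperty Scheme.{u}))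
          (IsPullback.of_hasPullback g (Y.fromSpecResidueField (g x₁))) ‹LocallyOfFiniteType g›
      have : IsLocallyNoetherian (g.fiber (g x₁)) :=
        LocallyOfFiniteType.isLocallyNoetherian (g.fiberToSpecResidueField (g x₁))
      have hmem : ∀ w, g (g.fiberι (g x₁) w) = g x₁ := fun w ↦ by
        have : g.fiberι (g x₁) w ∈ Set.range (g.fiberι (g x₁)) := ⟨w, rfl⟩
        rw [g.range_fiberι] at this
        exact this
      have hι := (g.fiberι (g x₁)).isEmbedding
      have hpt : g.fiberι (g x₁) (g.asFiber x₁) = x₁ := g.fiberι_asFiber x₁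
      have hfy : ∀ w, f (i (g.fiberι (g x₁) w)) = y := fun w ↦ by
        rw [← hgw, hmem, hgw, hx₁, hxy]
      refine Groth.Agent.Curves.isOpen_singleton_of_minimal _ (fun w hw ↦ hι.injective ?_) (fun w hw ↦ hι.injective ?_)
      · rw [hpt]
        refine hemb.injective ?_
        rw [hx₁]
        refine hiso _ (hz₁ ▸ (hz₁gen _).map i.continuous) ?_ (hfy w)
        exact ((hw.map (g.fiberι (g x₁)).continuous).map i.continuous).trans
          (specializes_of_eq ((congrArg i hpt).trans hx₁))
      · rw [hpt]
        refine hemb.injective ?_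
        rw [hx₁]
        refine hxcl _ (hfy w) ?_
        exact (specializes_of_eq ((congrArg i hpt).trans hx₁).symm).trans
          ((hw.map (g.fiberι (g x₁)).continuous).map i.continuous)
    obtain ⟨SW, hSW, hxW, hWle⟩ := (Scheme.IdealSheafData.vanishingIdeal C).subscheme.isBasis_affineOpens.exists_subset_of_mem_open
      (show x₁ ∈ g.quasiFiniteLocus from hqf) g.quasiFiniteLocus.2
    obtain ⟨W, hW, rfl⟩ : ∃ U : (Scheme.IdealSheafData.vanishingIdeal C).subscheme.Opens,
      IsAffineOpen U ∧ (U : Set _) = SW := hSW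
    have hzW : z₁ ∈ W := (hz₁gen x₁).mem_open W.2 hxW
    have hTgen : ∀ w : W, (⟨z₁, hzW⟩ : W) ⤳ w := fun w ↦
      W.ι.isOpenEmbedding.isInducing.specializes_iff.mp (hz₁gen (W.ι w))
    refine ⟨W.toScheme, W.ι ≫ i, inferInstance, ?_, inferInstance, ⟨⟨x₁, hxW⟩, ?_⟩, ?_, inferInstance, ?_, ?_, ?_⟩
    · have : PreirreducibleSpace W.toScheme := ⟨by
        have : (Set.univ : Set W.toScheme) = closure {(⟨z₁, hzW⟩ : W)} :=
          (Set.eq_univ_of_forall fun w ↦ specializes_iff_mem_closure.mp (hTgen w)).symm
        rw [this]; exact isPreirreducible_singleton.closure⟩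
      exact { toNonempty := ⟨⟨z₁, hzW⟩⟩ }
    · exact (Scheme.Hom.comp_apply _ _ _).trans hx₁
    · rintro _ ⟨w, rfl⟩
      have hwi : (W.ι ≫ i) w ∈ closure {z} := hri ▸ ⟨_, (Scheme.Hom.comp_apply _ _ _).symm⟩
      exact ((hξz.trans (specializes_iff_mem_closure.mpr hwi))).mem_closed
        (isClosed_of_mem_irreducibleComponents Xi hXi) hgen.mem
    · have : LocallyQuasiFinite (g.quasiFiniteLocus.ι ≫ g) := inferInstance
      rw [Category.assoc, ← Scheme.homOfLE_ι _ (show W ≤ g.quasiFiniteLocus from hWle), Category.assoc]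
      exact MorphismProperty.comp_mem (W := (@LocallyQuasiFinite : MorphismProperty Scheme.{u})) _ _
        inferInstance this
    · have : CompactSpace W.toScheme := isCompact_iff_compactSpace.mp hW.isCompact
      exact QuasiCompact.of_comp ((W.ι ≫ i) ≫ f) (Limits.terminal.from Y)
    · refine ⟨?_⟩
      rw [DenseRange, dense_iff_closure_eq, ← Set.univ_subset_iff,
        ← (genericPoint_spec Y).def]
      refine closure_mono (Set.singleton_subset_iff.mpr ⟨⟨z₁, hzW⟩, ?_⟩)
      show ((W.ι ≫ i) ≫ f) ⟨z₁, hzW⟩ = _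
      exact ((Scheme.Hom.comp_apply _ _ _).trans ((congrArg f ((Scheme.Hom.comp_apply _ _ _).trans hz₁)))).trans hzη
  · intro he Z hZ ⟨x', hx'Z, hx'y⟩
    have : IsClosed Z := isClosed_of_mem_irreducibleComponents Z hZ
    let j := f.fiberι y
    obtain ⟨p, hpj, hpcl⟩ : ((j ⁻¹' Z) ∩ closedPoints (f.fiber y)).Nonempty := by
      refine nonempty_inter_closedPoints ?_ (this.preimage j.continuous).isLocallyClosed
      obtain ⟨p, hp⟩ : x' ∈ Set.range j := by rw [f.range_fiberι]; exact hx'y
      exact ⟨p, show j p ∈ Z from hp ▸ hx'Z⟩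
    have hfy : ∀ q, f (j q) = y := fun q ↦ by
      have : j q ∈ Set.range j := ⟨q, rfl⟩
      rwa [f.range_fiberι] at this
    obtain ⟨T, i, -, -, -, -, hTZ, -, -, -, hdom⟩ := he (j p) (hfy p) (fun w hw hsp ↦ by
      obtain ⟨q, rfl⟩ : w ∈ Set.range j := by rw [f.range_fiberι]; exact hw
      exact congrArg j (Set.mem_singleton_iff.mp
        ((j.isEmbedding.isInducing.specializes_iff.mp hsp).mem_closed (mem_closedPoints_iff.mp hpcl) rfl)))
      Z hZ hpj
    refine hdom.denseRange.mono ?_
    rintro _ ⟨t, rfl⟩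
    exact ⟨i t, hTZ ⟨t, rfl⟩, (Scheme.Hom.comp_apply _ _ _).symm⟩

end Groth.Agent.S4946
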