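import Groth.Statements.S4948
import Groth.Agent.FlatDvr.Scheme
import Groth.Agent.Unibranch.LiftDim

set_option autoImplicit false
open CategoryTheory AlgebraicGeometry
universe u v w
open EGA43

namespace Groth.Agent.S4948

/-- Consider a discrete valuation ring A and set Y = Spec A, whose closed point is y. Given a morphism f
: X ⟶ Y that is locally of finite type, and a point x lying in the fibre X_y, assume two things:
first, f is open at each generic point of an irreducible component of X_y passing through x; second,
X_y is reduced at x (that is, the local ring of the fibre at x is reduced). Under these assumptions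
f is flat at x. -/
theorem result {A : Type u} [CommRing A] [IsDomain A]
    [IsDiscreteValuationRing A] {X : Scheme.{u}} (f : X ⟶ Spec (CommRingCat.of A)) [LocallyOfFiniteType f] (x : X)
    (hx : f.base x = IsLocalRing.closedPoint A)
    (h : ∀ z : ↥(f.fiber (f.base x)), f.asFiber x ∈ closure {z} →
      (∀ z' : ↥(f.fiber (f.base x)), z ∈ closure {z'} → z' = z) → EGA43.IsOpenAt f.base ((f.fiberι (f.base x)).base z))
    (hred : _root_.IsReduced ((f.fiber (f.base x)).presheaf.stalk (f.asFiber x))) :
    (f.stalkMap x).hom.Flat := by
  have : IsLocallyNoetherian X := LocallyOfFiniteType.isLocallyNoetherian f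
  have key := FlatDvr.flat_stalkMap_of_reduced f hx (f.asFiber x) hred fun z hz hfz hmax ↦ ?_
  · rwa [Scheme.Hom.fiberι_asFiber] at key
  obtain ⟨z, rfl⟩ := (Scheme.Hom.range_fiberι f (f.base x)).ge (show z ∈ f ⁻¹' {f.base x} from hfz)
  have hι := (f.fiberι (f.base x)).isEmbedding
  have hopen := h z (specializes_iff_mem_closure.mp (hι.isInducing.specializes_iff.mp hz))
    fun z' hz' ↦ hι.injective (hmax _ ((specializes_iff_mem_closure.mpr hz').map (f.fiberι (f.base x)).continuous)
      ((Scheme.Hom.range_fiberι f (f.base x)).le ⟨z', rfl⟩))
  obtain ⟨ζ, hζ, hζη⟩ := Unibranch.exists_specializes_of_isOpenAt f hopen (η := genericPoint (Spec (CommRingCat.of A)))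
    (genericPoint_specializes _)
  refine ⟨ζ, hζ, fun heq ↦ ?_⟩
  have h1 : genericPoint (Spec (CommRingCat.of A)) = IsLocalRing.closedPoint A := hζη.symm.trans (heq.trans hx)
  rw [genericPoint_eq_bot_of_affine] at h1
  exact IsDiscreteValuationRing.not_a_field A (congrArg PrimeSpectrum.asIdeal h1).symm

end Groth.Agent.S4948
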