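import Groth.Statements.S4950
import Groth.Agent.S2363
import Groth.Agent.GeomPts.Realize

set_option autoImplicit false
open CategoryTheory AlgebraicGeometry
universe u v w
open EGA43

namespace Groth.Agent.S4950

open CategoryTheory.Limits in
/-- Let Y be a locally Noetherian scheme, f : X ⟶ Y a separated quasi-finite morphism, y a point of Y
and y' a generization of y distinct from y; write n(z) for the geometric number of points of the
fibre X_z. Then there are a discrete valuation ring A and a morphism g : Spec A ⟶ Y mapping the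
closed point to y and the generic point to y', such that n(y) is the number of points of the fibre
of X ×_Y Spec A ⟶ Spec A over the closed point and n(y') is the number of points of its fibre over
the generic point. -/
theorem result {X Y : Scheme.{u}} [IsLocallyNoetherian Y] (f : X ⟶ Y)
    [IsSeparated f] [LocallyQuasiFinite f] [LocallyOfFiniteType f] [QuasiCompact f] (y y' : Y) (hne : y' ≠ y)
    (hgen : y' ⤳ y) :
    ∃ (A : Type u) (_ : CommRing A) (_ : IsDomain A) (_ : IsDiscreteValuationRing A) (g : Spec (CommRingCat.of A) ⟶ Y),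
      g.base (IsLocalRing.closedPoint A) = y ∧ g.base (genericPoint (Spec (CommRingCat.of A))) = y' ∧
      MoreMor.nGeomConnComp f y = ENat.card ↥((pullback.snd f g).fiber (IsLocalRing.closedPoint A)) ∧
      MoreMor.nGeomConnComp f y' = ENat.card ↥((pullback.snd f g).fiber (genericPoint (Spec (CommRingCat.of A)))) := by
  classical
  haveI : LocallyOfFiniteType (𝟙 Y) := inferInstance
  obtain ⟨A₀, g₀, hA₀, hg₀, hgen₀⟩ := Groth.Agent.DvrDom.exists_dvr_through (𝟙 Y) y' y hgen hne.symm
  rw [Category.comp_id] at hgen₀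
  obtain ⟨B, _, _, hBn, hBl, hBlh, hBflat, ε, -⟩ := Groth.Agent.S2363.result (A := A₀)
    (AlgebraicClosure (IsLocalRing.ResidueField A₀))
  obtain ⟨ϖ, hϖ⟩ := IsDiscreteValuationRing.exists_irreducible A₀
  let b : B := algebraMap A₀ B ϖ
  have hb : IsLocalRing.maximalIdeal B = Ideal.span {b} := by
    have hmax : ((IsLocalRing.maximalIdeal A₀).map (algebraMap A₀ B)).IsMaximal :=
      Ideal.Quotient.maximal_of_isField _ (ε.toMulEquiv.isField (Field.toIsField _))
    rw [← IsLocalRing.eq_maximalIdeal hmax, hϖ.maximalIdeal_eq, Ideal.map_span, Set.image_singleton]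
  have hreg : IsSMulRegular B b := (IsRegular.of_ne_zero hϖ.ne_zero).isSMulRegular.of_flat
  obtain ⟨hBd, hBdvr⟩ := Groth.Agent.GeomPts.isDomain_and_isDiscreteValuationRing hb hreg
  have hb0 : b ≠ 0 := fun h ↦ one_ne_zero (hreg (show b • (1 : B) = b • 0 by simp [h]))
  let k := IsLocalRing.ResidueField B
  haveI : IsAlgClosed k := IsAlgClosed.of_ringEquiv (AlgebraicClosure (IsLocalRing.ResidueField A₀)) k
    (ε.symm.trans (Ideal.quotEquivOfEq (by
      rw [hb, hϖ.maximalIdeal_eq, Ideal.map_span, Set.image_singleton])))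
  have hinj : Function.Injective (algebraMap A₀ B) := (injective_iff_map_eq_zero _).mpr fun a ha ↦ by
    by_contra hne'
    obtain ⟨n, u, rfl⟩ := IsDiscreteValuationRing.eq_unit_mul_pow_irreducible hne' hϖ
    rw [map_mul, map_pow] at ha
    exact (mul_ne_zero (u.isUnit.map (algebraMap A₀ B)).ne_zero (pow_ne_zero n hb0)) ha
  have hι : Function.Injective ((algebraMap B (FractionRing B)).comp (algebraMap A₀ B)) :=
    (IsFractionRing.injective B (FractionRing B)).comp hinj
  let κ : Y.residueField y' →+* FractionRing B := IsFractionRing.lift hι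
  let v : Spec (CommRingCat.of (FractionRing B)) ⟶ Y :=
    Spec.map (CommRingCat.ofHom κ) ≫ Y.fromSpecResidueField y'
  have hv : Groth.Agent.Weighting.pt v = y' := by
    rw [Groth.Agent.Weighting.pt_comp]; exact Y.fromSpecResidueField_apply y' _
  obtain ⟨L, hL, hn⟩ := Groth.Agent.GeomPts.exists_finite_field_extension f v
  rw [hv] at hn
  let φ : B →+* L := (algebraMap (FractionRing B) L).comp (algebraMap B (FractionRing B))
  have hφ : φ.EssFiniteType := RingHom.EssFiniteType.comp
    (RingHom.essFiniteType_algebraMap.mpr (Algebra.EssFiniteType.of_isLocalization (FractionRing B) (nonZeroDivisors B)))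
    (RingHom.essFiniteType_algebraMap.mpr inferInstance)
  have hbne : φ b ≠ 0 := fun h ↦ hb0 (IsFractionRing.injective B (FractionRing B)
    ((algebraMap (FractionRing B) L).injective (h.trans (by rw [map_zero, map_zero]))))
  obtain ⟨R, hR, hmem, hval⟩ := Groth.Agent.DvrDom.exists_dvr_dominating_hom B φ hφ
    (hb ▸ Ideal.mem_span_singleton_self b) hbne
  let ψ : B →+* R := φ.codRestrict R.toSubring hmem
  haveI : IsLocalHom ψ := ⟨fun a ha ↦ by
    by_contra hu
    have := hval a ((IsLocalRing.mem_maximalIdeal a).mpr hu)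
    exact this.ne ((R.valuation_eq_one_iff (ψ a)).mp ha)⟩
  let χ : A₀ →+* R := ψ.comp (algebraMap A₀ B)
  haveI : IsLocalHom χ := RingHom.isLocalHom_comp _ _
  let g : Spec (CommRingCat.of R) ⟶ Y := Spec.map (CommRingCat.ofHom χ) ≫ g₀
  have hgc : g.base (IsLocalRing.closedPoint R) = y := by
    refine (Scheme.Hom.comp_apply _ _ _).trans ((congrArg g₀ ?_).trans hg₀)
    exact IsLocalRing.comap_closedPoint χ
  -- the closed point
  let eK := Spec.map (CommRingCat.ofHom (IsLocalRing.residue R))
  haveI : IsClosedImmersion eK := IsClosedImmersion.spec_of_surjective _ Ideal.Quotient.mk_surjective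
  let v₀ : Spec (CommRingCat.of k) ⟶ Y := Spec.map (CommRingCat.ofHom
    ((IsLocalRing.residue B).comp (algebraMap A₀ B))) ≫ g₀
  let j := Spec.map (CommRingCat.ofHom (IsLocalRing.ResidueField.map ψ))
  have hfac : eK ≫ g = j ≫ v₀ := by
    simp only [eK, g, j, v₀, ← Spec.map_comp_assoc, ← CommRingCat.ofHom_comp]
    congr 3
  have hpc : Groth.Agent.Weighting.pt eK = IsLocalRing.closedPoint R :=
    IsLocalRing.comap_closedPoint (IsLocalRing.residue R)
  have hclosed : MoreMor.nGeomConnComp f y =
      ENat.card ↥((Limits.pullback.snd f g).fiber (IsLocalRing.closedPoint R)) := by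
    rw [← hpc, Groth.Agent.GeomPts.card_fiber_eq_card_pullback f g eK]
    refine Eq.trans ?_ (Groth.Agent.GeomPts.nGeomConnComp_eq_card_pullback f (eK ≫ g)
      (algebraMap (IsLocalRing.ResidueField R) (AlgebraicClosure (IsLocalRing.ResidueField R))) fun x hx ↦ ?_)
    · rw [Groth.Agent.Weighting.pt_comp, hpc, ← hgc]
    · rw [hfac] at hx ⊢
      obtain ⟨s, hs, hsx⟩ := Groth.Agent.GeomPts.exists_fac_of_isAlgClosed f v₀ _ x
        (hx.trans (Category.assoc _ _ _).symm)
      exact ⟨j ≫ s, by rw [Category.assoc, hs], (Category.assoc _ _ _).symm.trans hsx⟩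
  -- the generic point
  let eL := Spec.map (CommRingCat.ofHom (algebraMap R L))
  haveI : IsPreimmersion eL := IsPreimmersion.of_isLocalization (nonZeroDivisors R)
  have hpg : Groth.Agent.Weighting.pt eL = genericPoint (Spec (CommRingCat.of R)) := by
    rw [genericPoint_eq_bot_of_affine]
    apply PrimeSpectrum.ext
    show (IsLocalRing.maximalIdeal L).comap (algebraMap R L) = ⊥
    rw [IsLocalRing.maximalIdeal_eq_bot, ← RingHom.ker_eq_comap_bot]
    exact (RingHom.injective_iff_ker_eq_bot _).mp (IsFractionRing.injective R L)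
  have hgfac : eL ≫ g = Spec.map (CommRingCat.ofHom (algebraMap (FractionRing B) L)) ≫ v := by
    simp only [eL, g, v, ← hgen₀, ← Spec.map_comp_assoc, ← CommRingCat.ofHom_comp]
    congr 2
    refine CommRingCat.hom_ext (RingHom.ext fun a ↦ ?_)
    show ((χ a : R) : L) = algebraMap (FractionRing B) L (κ (A₀.subtype a))
    rw [show κ (A₀.subtype a) = algebraMap B (FractionRing B) (algebraMap A₀ B a) from
      IsFractionRing.lift_algebraMap hι a]
    rfl
  have hgg : g.base (genericPoint (Spec (CommRingCat.of R))) = y' := by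
    have := congrArg Groth.Agent.Weighting.pt hgfac
    rw [Groth.Agent.Weighting.pt_comp, hpg, Groth.Agent.Weighting.pt_comp, Groth.Agent.Weighting.apply_eq_pt, hv] at this
    exact this
  refine ⟨R, inferInstance, inferInstance, hR, g, hgc, hgg, hclosed, ?_⟩
  rw [← hpg, Groth.Agent.GeomPts.card_fiber_eq_card_pullback f g eL, hgfac]
  exact hn

end Groth.Agent.S4950
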