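import Groth.Statements.S4951
import Mathlib

set_option autoImplicit false
universe u
open EGA43

namespace Groth.Agent.S4951

/-- Let X be a locally Noetherian topological space in which every irreducible closed subset has a
unique generic point (X quasi-sober and T₀), and Z a closed nowhere dense subset of X such that for
every point x of Z the set of generizations of x distinct from x is connected (possibly empty). If X
is connected, then X − Z is connected. (Uniqueness of generic points, automatic for the underlying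
space of a scheme, is needed: in the four-point space {u, v, z₁, z₂} whose open sets are ∅, {u},
{v}, {u, v} and the whole space, the closed nowhere dense set Z = {z₁, z₂} satisfies the hypothesis,
since z₂ is a generization of z₁ and conversely, yet X − Z = {u, v} is not connected.) -/
theorem result {X : Type u} [TopologicalSpace X]
    [QuasiSober X] [T0Space X] (hloc : ∀ x : X, ∃ U ∈ nhds x, TopologicalSpace.NoetherianSpace ↥U) [ConnectedSpace X]
    (Z : Set X) (hZ : IsClosed Z) (hZn : IsNowhereDense Z)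
    (hgen : ∀ x ∈ Z, IsPreconnected ({x' : X | x' ⤳ x} \ {x})) :
    IsConnected Zᶜ := by
  classical
  choose W' hW' hW'N using hloc
  have hWx : ∀ x, x ∈ interior (W' x) := fun x => mem_interior_iff_mem_nhds.mpr (hW' x)
  have hWN : ∀ x, TopologicalSpace.NoetherianSpace ↥(interior (W' x)) := fun x => by
    haveI := hW'N x
    exact (Topology.IsEmbedding.inclusion interior_subset).isInducing.noetherianSpace
  refine ⟨?_, ?_⟩
  · by_contra h
    rw [Set.not_nonempty_iff_eq_empty, Set.compl_empty_iff] at h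
    rw [h, IsNowhereDense, closure_univ, interior_univ] at hZn
    exact (Set.univ_nonempty (α := X)).ne_empty hZn
  rintro U V hU hV hUV ⟨u, hu, huU⟩ ⟨v, hv, hvV⟩
  by_contra hempty
  rw [Set.not_nonempty_iff_eq_empty] at hempty
  -- the two pieces
  let U₁ := U ∩ Zᶜ
  let U₂ := V ∩ Zᶜ
  have hU₁ : IsOpen U₁ := hU.inter hZ.isOpen_compl
  have hU₂ : IsOpen U₂ := hV.inter hZ.isOpen_compl
  have hdisj : ∀ y, y ∈ U₁ → y ∈ U₂ → False := fun y h1 h2 =>
    (Set.eq_empty_iff_forall_notMem.mp hempty y) ⟨h1.2, h1.1, h2.1⟩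
  have hcov : closure U₁ ∪ closure U₂ = Set.univ := by
    rw [← closure_union]
    refine (Dense.mono ?_ (IsClosed.isNowhereDense_iff hZ |>.mp hZn |> interior_eq_empty_iff_dense_compl.mp)).closure_eq
    intro y hy
    rcases hUV hy with h | h
    · exact Or.inl ⟨h, hy⟩
    · exact Or.inr ⟨h, hy⟩
  have hne : (closure U₁ ∩ closure U₂).Nonempty := by
    have := isPreconnected_closed_iff.mp isPreconnected_univ (closure U₁) (closure U₂) isClosed_closure
      isClosed_closure hcov.ge ⟨u, trivial, subset_closure ⟨huU, hu⟩⟩ ⟨v, trivial, subset_closure ⟨hvV, hv⟩⟩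
    simpa using this
  have hsubZ : closure U₁ ∩ closure U₂ ⊆ Z := by
    rintro y ⟨h1, h2⟩
    by_contra hy
    rcases hUV hy with h | h
    · obtain ⟨w, hwU, hw⟩ := mem_closure_iff.mp h2 U₁ hU₁ ⟨h, hy⟩
      exact hdisj w hwU hw
    · obtain ⟨w, hwU, hw⟩ := mem_closure_iff.mp h1 U₂ hU₂ ⟨h, hy⟩
      exact hdisj w hw hwU
  -- a point specialising to a point of a closed set is found in every irreducible component
  have key : ∀ (S : Set X) (z : X), z ∈ S → ∃ η, η ∈ closure S ∧ η ⤳ z ∧
      (∃ T ⊆ S, η ∈ closure T ∧ T ⊆ closure {η}) ∧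
      ∀ η', η' ∈ closure S → η' ⤳ η → η' ∈ S → η' = η := by
    intro S z hz
    let W := interior (W' z)
    haveI := hWN z
    have hW : IsOpen W := isOpen_interior
    let T₀ : Set ↥W := Subtype.val ⁻¹' S
    obtain ⟨C, hC, hzC⟩ : ∃ C ∈ irreducibleComponents ↥T₀, (⟨⟨z, hWx z⟩, hz⟩ : ↥T₀) ∈ C :=
      ⟨_, irreducibleComponent_mem_irreducibleComponents _, mem_irreducibleComponent⟩
    let g : ↥T₀ → X := fun p => p.1.1
    have hg : Topology.IsInducing g := Topology.IsInducing.subtypeVal.comp Topology.IsInducing.subtypeVal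
    have hT : IsIrreducible (g '' C) := hC.1.image g hg.continuous.continuousOn
    obtain ⟨η, hη⟩ := QuasiSober.sober hT.closure isClosed_closure
    have hTS : g '' C ⊆ S := by rintro _ ⟨p, _, rfl⟩; exact p.2
    refine ⟨η, closure_mono hTS hη.mem, ?_, ⟨g '' C, hTS, hη.mem, fun y hy => hη.def.ge (subset_closure hy)⟩, ?_⟩
    · exact hη.specializes (subset_closure ⟨_, hzC, rfl⟩)
    · intro η' _ hsp hS
      have hz' : η' ⤳ z := hsp.trans (hη.specializes (subset_closure ⟨_, hzC, rfl⟩))
      have hW' : η' ∈ W := hz'.mem_open hW (hWx z)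
      let p : ↥T₀ := ⟨⟨η', hW'⟩, hS⟩
      have hCsub : C ⊆ closure {p} := by
        intro q hq
        rw [hg.closure_eq_preimage_closure_image, Set.image_singleton]
        exact (hsp.trans (hη.specializes (subset_closure ⟨q, hq, rfl⟩))).mem_closure
      have hp : p ∈ C := (hC.2 isIrreducible_singleton.closure hCsub) (subset_closure rfl)
      exact (hsp.antisymm (hη.specializes (subset_closure ⟨p, hp, rfl⟩))).eq
  obtain ⟨z, hz⟩ := hne
  obtain ⟨x, hx, -, -, hmax⟩ := key _ z hz
  have hxc : x ∈ closure U₁ ∩ closure U₂ := by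
    rwa [(isClosed_closure.inter isClosed_closure).closure_eq] at hx
  -- generisations in each piece
  have hgenpt : ∀ U' : Set X, IsOpen U' → x ∈ closure U' → ∃ η, η ∈ U' ∧ η ⤳ x := by
    intro U' hU' hx'
    let W := interior (W' x)
    haveI := hWN x
    have hW : IsOpen W := isOpen_interior
    let T₀ : Set ↥W := Subtype.val ⁻¹' U'
    haveI : TopologicalSpace.NoetherianSpace ↥T₀ := Topology.IsInducing.subtypeVal.noetherianSpace
    let g : ↥T₀ → X := fun p => p.1.1
    have hfin := TopologicalSpace.NoetherianSpace.finite_irreducibleComponents (α := ↥T₀)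
    have hx'' : x ∈ closure (⋃ C ∈ irreducibleComponents ↥T₀, g '' C) := by
      have : U' ∩ W ⊆ ⋃ C ∈ irreducibleComponents ↥T₀, g '' C := fun y hy =>
        Set.mem_biUnion (irreducibleComponent_mem_irreducibleComponents (⟨⟨y, hy.2⟩, hy.1⟩ : ↥T₀))
          ⟨_, mem_irreducibleComponent, rfl⟩
      refine closure_mono this ?_
      rw [Set.inter_comm]
      exact hW.inter_closure ⟨hWx x, hx'⟩
    rw [hfin.closure_biUnion] at hx''
    obtain ⟨C, hC, hxC⟩ := Set.mem_iUnion₂.mp hx''
    have hg : Continuous g := continuous_subtype_val.comp continuous_subtype_val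
    obtain ⟨η, hη⟩ := QuasiSober.sober (hC.1.image g hg.continuousOn).closure isClosed_closure
    obtain ⟨p, hp⟩ := hC.1.nonempty
    exact ⟨η, (hη.specializes (subset_closure ⟨p, hp, rfl⟩)).mem_open hU' p.2, hη.specializes hxC⟩
  obtain ⟨η₁, hη₁, hs₁⟩ := hgenpt U₁ hU₁ hxc.1
  obtain ⟨η₂, hη₂, hs₂⟩ := hgenpt U₂ hU₂ hxc.2
  have hxZ := hsubZ hxc
  obtain ⟨y, ⟨hyx, hne'⟩, hy1, hy2⟩ := isPreconnected_closed_iff.mp (hgen x hxZ) (closure U₁) (closure U₂)
    isClosed_closure isClosed_closure (fun y _ => hcov.ge trivial)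
    ⟨η₁, ⟨hs₁, fun h => hη₁.2 (h ▸ hxZ)⟩, subset_closure hη₁⟩
    ⟨η₂, ⟨hs₂, fun h => hη₂.2 (h ▸ hxZ)⟩, subset_closure hη₂⟩
  exact hne' (hmax y (subset_closure ⟨hy1, hy2⟩) hyx ⟨hy1, hy2⟩)

end Groth.Agent.S4951
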