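import Groth.Statements.S4954
import Mathlib
import Groth.Agent.Unibranch.SectionComp
import Groth.Agent.GeomConn.Comp

set_option autoImplicit false
open CategoryTheory AlgebraicGeometry
universe u v w
open EGA43

namespace Groth.Agent.S4954

/-- Let f : X ⟶ Y be a morphism of finite presentation with a section g : Y ⟶ X, and for y in Y let
X_y^0 be the connected component of f⁻¹(y) containing g y. Suppose that every X_y^0 is geometrically
irreducible over κ(y) (its preimage in X_y ⊗ K is irreducible for every field extension K of κ(y)).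
Then the function y ↦ dim X_y^0 is upper semicontinuous on Y. -/
theorem result {X Y : Scheme.{u}} (f : X ⟶ Y)
    [LocallyOfFinitePresentation f] [QuasiCompact f] [QuasiSeparated f] (g : Y ⟶ X) (hg : g ≫ f = 𝟙 Y)
    (hirr : ∀ y : Y, (∀ (K : Type u) [Field K] [Algebra (IsLocalRing.ResidueField (Y.presheaf.stalk y)) K],
        IsIrreducible ((FBase.bcπ (f.fiberToSpecResidueField y) K ≫ f.fiberι y).base ⁻¹' connectedComponentIn (f.base ⁻¹' {y}) (g.base y)))) :
    UpperSemicontinuous (fun y : Y => topologicalKrullDim ↥(connectedComponentIn (f.base ⁻¹' {y}) (g.base y))) := by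
  refine Unibranch.upperSemicontinuous_dim_component f g hg fun y => ?_
  let k := IsLocalRing.ResidueField (Y.presheaf.stalk y)
  let p := FBase.bcπ (f.fiberToSpecResidueField y) k ≫ f.fiberι y
  have hsub : connectedComponentIn (f.base ⁻¹' {y}) (g.base y) ⊆ Set.range p.base := fun z hz ↦ by
    obtain ⟨q, rfl⟩ := (f.range_fiberι y).ge (connectedComponentIn_subset _ _ hz)
    have : Surjective (FBase.bcπ (f.fiberToSpecResidueField y) k) :=
      MorphismProperty.pullback_fst _ _ GeomConn.surjective_Spec_field
    obtain ⟨r, rfl⟩ := (FBase.bcπ (f.fiberToSpecResidueField y) k).surjective q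
    exact ⟨r, rfl⟩
  rw [← Set.image_preimage_eq_of_subset hsub]
  exact (hirr y k).image _ p.continuous.continuousOn

end Groth.Agent.S4954
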