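import Groth.Statements.S4956
import Groth.Agent.Unibranch.SectionDVR
import Groth.Agent.GoingDown.AtPoint
import Groth.Agent.GeomRedAt.Scheme
import Groth.Agent.UOFlat.GeomIrred
import Groth.Agent.S9355
import Groth.Agent.S0402

set_option autoImplicit false
open CategoryTheory AlgebraicGeometry
universe u v w
open EGA43

namespace Groth.Agent.S4956

/-- Let f : X ⟶ Y be a morphism of finite presentation with a section g, X_y^0 the connected component
of f⁻¹(y) containing g y, every X_y^0 geometrically irreducible over κ(y), and y₀ a point of Y such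
that f is universally open at the generic point of X_{y₀}^0. Suppose moreover that either (α) the
fibre over y₀ is geometrically reduced at g y₀ and the local ring O_{Y,y₀} is Noetherian, or (β) dim
X_{y'} = dim X_{y'}^0 for the generic point y' of every irreducible component of Y containing y₀.
Then y ↦ dim X_y^0 is constant on a neighbourhood of y₀. -/
theorem result {X Y : Scheme.{u}} (f : X ⟶ Y)
    [LocallyOfFinitePresentation f] [QuasiCompact f] [QuasiSeparated f] (g : Y ⟶ X) (hg : g ≫ f = 𝟙 Y)
    (hirr : ∀ y : Y, (∀ (K : Type u) [Field K] [Algebra (IsLocalRing.ResidueField (Y.presheaf.stalk y)) K],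
        IsIrreducible ((FBase.bcπ (f.fiberToSpecResidueField y) K ≫ f.fiberι y).base ⁻¹' connectedComponentIn (f.base ⁻¹' {y}) (g.base y))))
    (y₀ : Y) (hopen : ∀ ξ ∈ connectedComponentIn (f.base ⁻¹' {y₀}) (g.base y₀), connectedComponentIn (f.base ⁻¹' {y₀}) (g.base y₀) ⊆ closure {ξ} → EGA43.IsUnivOpenAt f ξ)
    (hαβ : (FBase.IsGeomReducedAt (f.fiberToSpecResidueField (f.base (g.base y₀))) (f.asFiber (g.base y₀)) ∧
        IsNoetherianRing (Y.presheaf.stalk y₀)) ∨
      (∀ y' : Y, y₀ ∈ closure {y'} → closure {y'} ∈ irreducibleComponents (Y : Type u) →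
        topologicalKrullDim ↥(f.fiber y') = topologicalKrullDim ↥(connectedComponentIn (f.base ⁻¹' {y'}) (g.base y')))) :
    ∃ V ∈ nhds y₀, ∀ z ∈ V, topologicalKrullDim ↥(connectedComponentIn (f.base ⁻¹' {z}) (g.base z)) = topologicalKrullDim ↥(connectedComponentIn (f.base ⁻¹' {y₀}) (g.base y₀)) := by
  have hgi : Unibranch.GeomIrredComp f g := fun y K _ _ => hirr y K
  have hC := hgi.isIrreducible
  have hgy₀ : f.base (g.base y₀) = y₀ := by
    have : (g ≫ f).base y₀ = y₀ := by rw [hg]; rfl
    exact this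
  have hlow : ∀ y' : Y, y' ⤳ y₀ → topologicalKrullDim ↥(connectedComponentIn (f.base ⁻¹' {y₀}) (g.base y₀)) ≤
      topologicalKrullDim ↥(connectedComponentIn (f.base ⁻¹' {y'}) (g.base y')) := by
    intro y' hy'
    rcases hαβ with ⟨hα, hnoeth⟩ | hβ
    · let σ : Spec (Y.presheaf.stalk y₀) ⟶ Y := Y.fromSpecStalk y₀
      haveI : IsLocallyNoetherian (Spec (Y.presheaf.stalk y₀)) := inferInstance
      let f' := Limits.pullback.snd f σ
      let e := Limits.pullback.fst f σ
      have hsq : IsPullback e f' f σ := IsPullback.of_hasPullback f σ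
      let g' : Spec (Y.presheaf.stalk y₀) ⟶ Limits.pullback f σ :=
        Limits.pullback.lift (σ ≫ g) (𝟙 _) (by rw [Category.assoc, hg, Category.comp_id, Category.id_comp])
      have hg' : g' ≫ f' = 𝟙 _ := Limits.pullback.lift_snd _ _ _
      have hge : g' ≫ e = σ ≫ g := Limits.pullback.lift_fst _ _ _
      let c : ↥(Spec (Y.presheaf.stalk y₀)) := IsLocalRing.closedPoint _
      have hc : σ.base c = y₀ := Scheme.fromSpecStalk_closedPoint
      obtain ⟨t, ht⟩ := (show y' ∈ Set.range σ.base by rw [Scheme.range_fromSpecStalk]; exact hy')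
      have htc : t ⤳ c := IsLocalRing.specializes_closedPoint t
      obtain ⟨hCc, hirrc, hdimc⟩ := hgi.component_baseChange hg hsq hg' hge c
      obtain ⟨-, -, hdimt⟩ := hgi.component_baseChange hg hsq hg' hge t
      rw [hc] at hdimc hCc
      rw [ht] at hdimt
      rw [← hdimc, ← hdimt]
      have hgc : f'.base (g'.base c) = c := by
        have : (g' ≫ f').base c = c := by rw [hg']; rfl
        exact this
      have hegc : e.base (g'.base c) = g.base y₀ := by
        have : (g' ≫ e).base c = (σ ≫ g).base c := by rw [hge]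
        exact this.trans (congrArg g.base hc)
      have hgi' : Unibranch.GeomIrredComp f' g' := fun t => UOFlat.geomIrredAt_baseChange hg hsq hg' hge t (hgi _)
      refine Unibranch.dim_component_le_of_geomReduced f' g' hg' hgi' c (fun ξ hξ hgen => ?_) ?_ t htc
      · obtain ⟨ξ₀, hξ₀C, hξ₀y, hξ₀max, hC₀, -⟩ :=
          Unibranch.exists_genericPoint_connectedComponent f (y := y₀) hgy₀ (hC y₀)
        have hmem : ξ ∈ f'.base ⁻¹' {c} ∩ e.base ⁻¹' connectedComponentIn (f.base ⁻¹' {y₀}) (g.base y₀) := by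
          rw [← hCc]; exact hξ
        have heξ : e.base ξ = ξ₀ := by
          obtain ⟨w, hw₁, hw₂⟩ := Scheme.Pullback.exists_preimage_pullback (f := f) (g := σ) ξ₀ c
            (hξ₀y.trans hc.symm)
          have hwC : w ∈ connectedComponentIn (f'.base ⁻¹' {c}) (g'.base c) := by
            rw [hCc]
            exact ⟨hw₂, show e.base w ∈ _ from hw₁.symm ▸ hξ₀C⟩
          have hsp : e.base ξ ⤳ ξ₀ := hw₁ ▸ (specializes_iff_mem_closure.mpr (hgen hwC)).map e.continuous
          refine hξ₀max _ ?_ hsp
          exact connectedComponentIn_subset (f.base ⁻¹' {y₀}) _ hmem.2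
        exact GoingDown.isUnivOpenAt_of_isPullback hsq
          (hopen (e.base ξ) hmem.2 (by rw [heξ, hC₀]; exact Set.inter_subset_left))
      · rw [GeomRedAt.isGeomReducedAt_iff, GeomRedAt.gr_baseChange_iff hsq, show e (g'.base c) = g.base y₀ from hegc,
          ← GeomRedAt.isGeomReducedAt_iff]
        exact hα
    · obtain ⟨η, hη, hηy'⟩ := Unibranch.exists_isMaxPt_specializes y'
      obtain ⟨ξ, hξC, hξy, -, hCeq, d, hd, -, hd₂, -⟩ :=
        Unibranch.exists_genericPoint_connectedComponent f hgy₀ (hC y₀)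
      obtain ⟨ζ, -, -, hch⟩ := Unibranch.exists_hasChain_of_isUnivOpenAt f
        (hopen ξ hξC (hCeq.le.trans Set.inter_subset_left))
        (η := η) (by rw [show f ξ = y₀ from hξy]; exact hηy'.trans hy')
      have h1 : (d : WithBot ℕ∞) ≤ topologicalKrullDim ↥(f.fiber η) :=
        (Unibranch.natCast_le_topologicalKrullDim_iff f (f.fiberι η).isEmbedding (S := Set.univ)
          (by rw [Scheme.Hom.range_fiberι, Set.univ_inter])).mpr
          ((hch d (by rw [show f ξ = y₀ from hξy]; exact hd₂)).mono (Set.subset_univ _))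
      rw [hβ η (specializes_iff_mem_closure.mp (hηy'.trans hy')) hη.mem_irreducibleComponents] at h1
      rw [hd]
      exact h1.trans (Unibranch.dim_component_generization_le f g hg hC hηy')
  obtain ⟨d, hd, hd'⟩ := Unibranch.exists_dim_component f g hg hC y₀
  have hcons : Topology.IsLocallyConstructible {x : X | (d : WithBot ℕ∞) ≤ FlatMor.fibreDimAt f x} := by
    rcases Nat.eq_zero_or_pos d with rfl | hdp
    · convert! Topology.IsConstructible.univ.isLocallyConstructible
      refine Set.eq_univ_of_forall fun x => ?_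
      show ((0 : ℕ) : WithBot ℕ∞) ≤ FlatMor.fibreDimAt f x
      obtain ⟨n, hn⟩ := Unibranch.exists_fibreDimAt_eq f x
      rw [hn]; exact_mod_cast Nat.zero_le n
    · have : {x : X | (d : WithBot ℕ∞) ≤ FlatMor.fibreDimAt f x} = {x : X | FlatMor.fibreDimAt f x ≤ ((d - 1 : ℕ) : WithBot ℕ∞)}ᶜ := by
        ext x
        obtain ⟨n, hn⟩ := Unibranch.exists_fibreDimAt_eq f x
        show (d : WithBot ℕ∞) ≤ FlatMor.fibreDimAt f x ↔ ¬ FlatMor.fibreDimAt f x ≤ ((d - 1 : ℕ) : WithBot ℕ∞)
        rw [hn]
        norm_cast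
        omega
      rw [this]
      exact ((S9355.result f (d - 1)).isConstructible (S0402.result f (d - 1))).compl.isLocallyConstructible
  have hmem : g.base ⁻¹' {x : X | (d : WithBot ℕ∞) ≤ FlatMor.fibreDimAt f x} ∈ nhds y₀ := by
    refine Unibranch.mem_nhds_of_isLocallyConstructible (ConsEngine.isLocallyConstructible_preimage g hcons) fun y' hy' ↦ ?_
    obtain ⟨e, he, he'⟩ := Unibranch.exists_dim_component f g hg hC y'
    show (d : WithBot ℕ∞) ≤ FlatMor.fibreDimAt f (g.base y')
    rw [he', ← hd, ← he]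
    exact hlow y' hy'
  refine ⟨_, Filter.inter_mem hmem
    (Unibranch.upperSemicontinuous_dim_component f g hg hC y₀ ((d + 1 : ℕ) : WithBot ℕ∞)
      (by show topologicalKrullDim _ < _; rw [hd]; exact_mod_cast Nat.lt_succ_self d)), fun z ⟨hz₁, hz₂⟩ ↦ ?_⟩
  obtain ⟨e, he, he'⟩ := Unibranch.exists_dim_component f g hg hC z
  have h2 : topologicalKrullDim ↥(connectedComponentIn (f.base ⁻¹' {z}) (g.base z)) < ((d + 1 : ℕ) : WithBot ℕ∞) := hz₂
  have h1 : (d : WithBot ℕ∞) ≤ FlatMor.fibreDimAt f (g.base z) := hz₁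
  rw [he'] at h1
  rw [he] at h2
  rw [he, hd]
  have h1' : d ≤ e := by exact_mod_cast h1
  have h2' : e < d + 1 := by exact_mod_cast h2
  congr 1
  exact_mod_cast (show e = d by omega)

end Groth.Agent.S4956
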