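import Groth.Statements.S4958
import Groth.Agent.Catenary.FibreGen
import Groth.Agent.Unibranch.FibreDims

set_option autoImplicit false
open CategoryTheory AlgebraicGeometry
universe u v w
open EGA43

namespace Groth.Agent.S4958

/-- Let Y be an irreducible locally Noetherian scheme with generic point η, f : X ⟶ Y a morphism of
finite type and y a point of Y whose local ring O_{Y,y} is universally catenary. Suppose that dim
O_{X,z} = dim O_{Y,y} for every maximal point z of the fibre X_y. For z' in Y let E(z') be the set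
of dimensions of the irreducible components of X_{z'}. Then E(y) ⊆ E(η), and hence dim X_y ≤ dim
X_η. -/
theorem result {X Y : Scheme.{u}} [IrreducibleSpace Y]
    [IsLocallyNoetherian Y] (f : X ⟶ Y) [LocallyOfFiniteType f] [QuasiCompact f] (y : Y)
    (hcat : CAlg.IsUniversallyCatenary (Y.presheaf.stalk y))
    (hb : ∀ z : X, f.base z = y → (∀ z' : X, f.base z' = y → z ∈ closure {z'} → z' = z) →
      ringKrullDim (X.presheaf.stalk z) = ringKrullDim (Y.presheaf.stalk y)) :
    letI E : Y → Set (WithBot ℕ∞) := fun z =>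
      (fun Z : Set ↥(f.fiber z) => topologicalKrullDim ↥Z) '' irreducibleComponents ↥(f.fiber z)
    E y ⊆ E (genericPoint Y) ∧
      topologicalKrullDim ↥(f.fiber y) ≤ topologicalKrullDim ↥(f.fiber (genericPoint Y)) := by
  haveI : IsLocallyNoetherian X := LocallyOfFiniteType.isLocallyNoetherian f
  have key : Groth.Agent.Unibranch.dims f y ⊆ Groth.Agent.Unibranch.dims f (genericPoint Y) := by
    rintro _ ⟨Z, hZ, rfl⟩
    obtain ⟨z, hfz, hmax, -, hdim⟩ := Groth.Agent.Unibranch.exists_genericPoint_component f y hZ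
    obtain ⟨d, hdle, hdge, hd⟩ := Groth.Agent.Unibranch.exists_dim_closure_eq f z
    rw [hfz] at hd
    obtain ⟨C, hC, hCle, -⟩ := Groth.Agent.DimFormula.exists_ringKrullDim_stalk y
    have hzdim := hb z hfz fun z' hz' h => hmax z' hz' (specializes_iff_mem_closure.mpr h)
    rw [hC] at hzdim
    obtain ⟨hzle, ζ, hζ, hζz, hge⟩ := (Groth.Agent.DimFormula.ringKrullDim_stalk_eq_iff z).mp hzdim
    obtain ⟨c', hc'le, hc'ge⟩ := Groth.Agent.DimFormula.exists_genLE_hasGen (hζz.map f.continuous)
    obtain ⟨e, hele, hege, he⟩ := Groth.Agent.Unibranch.exists_dim_closure_eq f ζ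
    have h1 := Groth.Agent.DimFormula.dimension_inequality f hζz hge hc'le hdge hele
    have hc'C : c' ≤ C := by
      obtain ⟨g, hg, -, hgl⟩ := hc'ge
      exact hCle c' g hg (hgl.trans hfz)
    obtain ⟨z', -, hz'z, hfz', hz'⟩ := Groth.Agent.Catenary.exists_fibre_point f hζz hege
    obtain rfl := hmax z' (hfz'.trans hfz) hz'z
    have h2 : e ≤ d := hz'.le hdle
    have hed : e = d := by omega
    have hη : f ζ = genericPoint Y := by
      by_contra hne
      obtain ⟨g, hg, hg0, hgl⟩ := hc'ge
      have hη0 : genericPoint Y ⤳ f ζ := genericPoint_specializes _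
      obtain ⟨n, hn, g', hg', -, hg'l⟩ := Groth.Agent.DimFormula.HasGen.trans (a := 1) (b := c')
        (ζ := genericPoint Y) (m := f ζ) (x := f z')
        ⟨![genericPoint Y, f ζ], fun i => by fin_cases i; exact ⟨hη0, Ne.symm hne⟩, specializes_rfl, rfl⟩ ⟨g, hg, hg0, hgl⟩
      have := hCle n g' hg' (hg'l.trans hfz)
      omega
    obtain ⟨Z', hZ', hdim'⟩ := Groth.Agent.Unibranch.exists_component_of_maximal f hη
      fun w _ hw => hζ w hw
    refine ⟨Z', hZ', ?_⟩
    show topologicalKrullDim ↥Z' = topologicalKrullDim ↥Z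
    rw [hdim', ← hη, he, hdim, hd, hed]
  refine ⟨key, Groth.Agent.Unibranch.topologicalKrullDim_le_of_components fun Z hZ => ?_⟩
  obtain ⟨Z', -, h'⟩ := key ⟨Z, hZ, rfl⟩
  exact ⟨Z', h'.symm⟩

end Groth.Agent.S4958
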