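import Groth.Statements.S4959
import Mathlib

set_option autoImplicit false
set_option linter.style.haveILetI false
set_option backward.isDefEq.respectTransparency false
open CategoryTheory CategoryTheory.Limits
open CategoryTheory AlgebraicGeometry
universe u v w
open EGA43

namespace Groth.Agent.S4959

open CategoryTheory.Limits in
/-- Let f : X ⟶ Y be a morphism of schemes and g : Y' ⟶ Y a surjective morphism which is either proper,
or flat and quasi-compact. If the base change f' : X ×_Y Y' ⟶ Y' is universally submersive (all of
its base changes are topological quotient maps), then f is universally submersive. -/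
theorem result {X Y Y' : Scheme.{u}} (f : X ⟶ Y) (g : Y' ⟶ Y) [Surjective g]
    (hg : IsProper g ∨ (Flat g ∧ QuasiCompact g))
    (h : MorphismProperty.universally (topologically @Topology.IsQuotientMap) (pullback.snd f g)) :
    MorphismProperty.universally (topologically @Topology.IsQuotientMap) f := by
  intro X' Z i₁ i₂ f' hp
  let gZ := pullback.fst i₂ g
  have hgZ : Topology.IsQuotientMap gZ.base := by
    haveI : Surjective gZ := inferInstance
    rcases hg with hg | ⟨h₁, h₂⟩
    · haveI := hg
      exact gZ.isClosedMap.isQuotientMap gZ.continuous gZ.surjective
    · haveI := h₁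
      haveI := h₂
      exact Flat.isQuotientMap_of_surjective gZ
  let r := pullback.snd f' gZ
  let l : pullback f' gZ ⟶ pullback f g := pullback.lift (pullback.fst f' gZ ≫ i₁) (r ≫ pullback.snd i₂ g) (by
    rw [Category.assoc, ← hp.w, pullback.condition_assoc, pullback.condition (f := i₂) (g := g), Category.assoc])
  have hbig : IsPullback r (pullback.fst f' gZ ≫ i₁) (pullback.snd i₂ g ≫ g) f := by
    rw [← pullback.condition (f := i₂) (g := g)]
    exact (IsPullback.of_hasPullback f' gZ).flip.paste_vert hp
  have hr : IsPullback r l (pullback.snd i₂ g) (pullback.snd f g) :=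
    IsPullback.of_bot (by simpa [l] using hbig) (pullback.lift_snd _ _ _).symm (IsPullback.of_hasPullback f g).flip
  have h1 : Topology.IsQuotientMap r.base := h l (pullback.snd i₂ g) r hr
  have h2 : Topology.IsQuotientMap ((pullback.fst f' gZ ≫ f').base) := by
    rw [pullback.condition]
    exact hgZ.comp h1
  exact Topology.IsQuotientMap.of_comp (pullback.fst f' gZ).continuous f'.continuous h2

end Groth.Agent.S4959
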