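import Groth.Statements.S4962
import Groth.Agent.FibDepth.GlobalSk

set_option autoImplicit false
open CategoryTheory AlgebraicGeometry
set_option backward.isDefEq.respectTransparency false
universe u v w
open EGA43

namespace Groth.Agent.S4962

/-- Let f : X ⟶ Y be a morphism locally of finite presentation and k a natural number. The set of points
x of X such that f is flat at x and the local ring at x of the fibre of f through x satisfies
Serre's condition (S_k) is open in X. -/
theorem result {X Y : Scheme.{u}} (f : X ⟶ Y) [LocallyOfFinitePresentation f]
    (k : ℕ) :
    IsOpen {x : X | (f.stalkMap x).hom.Flat ∧ LocCoh.HasSk k ((f.fiber (f.base x)).presheaf.stalk (f.asFiber x)) ((f.fiber (f.base x)).presheaf.stalk (f.asFiber x))} := by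
  obtain ⟨O, hO, h⟩ := Groth.Agent.FibDepth.exists_open_flat_sk f k
  convert hO using 1
  ext x
  have := h (f.base x) (f.asFiber x)
  rw [f.fiberι_asFiber] at this
  exact this.symm

end Groth.Agent.S4962
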