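import Groth.Statements.S4966
import Groth.Agent.FibDepth.AssDims

set_option autoImplicit false
open CategoryTheory AlgebraicGeometry
universe u v w
open EGA43
set_option backward.isDefEq.respectTransparency false

namespace Groth.Agent.S4966

/-- Let f : X ⟶ Y be a proper morphism of finite presentation and F a finitely presented O_X-module
which is f-flat; for y in Y write F_y for the restriction of F to the fibre X_y. Let Φ be a finite
set of natural numbers. Then the set of points y of Y such that F_y has no embedded associated point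
and the set of dimensions of the irreducible components of Supp(F_y) is exactly Φ is open in Y. -/
theorem result {X Y : Scheme.{u}} (f : X ⟶ Y) [IsProper f]
    [LocallyOfFinitePresentation f] (F : X.Modules) (hF : CohB1.IsFP F) (hflat : FlatMod.IsFlatOver f F) (Φ : Finset ℕ) :
    IsOpen {y : Y | AssSch.NoEmbedded ((Scheme.Modules.pullback (f.fiberι y)).obj F) ∧
      (fun Z : Set ↥{z : ↥(f.fiber y) | Nontrivial (((Scheme.Modules.pullback (f.fiberι y)).obj F).presheaf.stalk z)} => topologicalKrullDim ↥Z) '' irreducibleComponents ↥{z : ↥(f.fiber y) | Nontrivial (((Scheme.Modules.pullback (f.fiberι y)).obj F).presheaf.stalk z)} =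
        (fun n : ℕ => (n : WithBot ℕ∞)) '' (Φ : Set ℕ)} := by
  classical
  obtain ⟨O₁, hO₁, hO₁'⟩ := Groth.Agent.FibDepth.exists_open_noEmbAt f F hF hflat
  obtain ⟨O₂, hO₂, hO₂'⟩ := Groth.Agent.FibDepth.exists_open_assDimAt f F hF hflat Φ
  have hopen := ((Groth.Agent.FibDepth.isOpen_forall_of_fibres f hO₁ hO₁').inter
    (Groth.Agent.FibDepth.isOpen_forall_of_fibres f hO₂ hO₂')).inter
    (isOpen_biInter_finset (s := Φ) fun n _ => Groth.Agent.FibDepth.isOpen_hasCompDim f F hF hflat n)
  convert hopen using 1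
  ext y
  have hcomp := Groth.Agent.FibDepth.image_components_suppFib f F hF y
  show (_ ∧ _) ↔ ((∀ z, _) ∧ (∀ z, _)) ∧ _
  rw [← Groth.Agent.FibDepth.noEmbedded_iff, Set.mem_iInter₂, and_assoc]
  refine and_congr_right fun hne => ?_
  have hminAss : ∀ z ∈ AssSch.Ass ((Scheme.Modules.pullback (f.fiberι y)).obj F),
      ∀ w ∈ Groth.Agent.FibDepth.suppFib f F y, w ⤳ z → w = z := fun z hz =>
    (Groth.Agent.FibDepth.ass_minimal_fibre_iff f F hF y z hz).1 fun w hw hwz => (hne z hz w hw hwz).symm
  constructor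
  · intro h
    refine ⟨fun z z' hz' _ => ?_, fun n hn => ?_⟩
    · have h1 : topologicalKrullDim ↥(closure ({z'} : Set ↥(f.fiber y))) ∈ (fun n : ℕ => (n : WithBot ℕ∞)) '' (Φ : Set ℕ) := by
        rw [← h]
        exact (hcomp _).2 ⟨z', Groth.Agent.AssLib.nontrivial_of_isAssPoint hz', hminAss z' hz', rfl⟩
      obtain ⟨n, hn, hn'⟩ := h1
      exact ⟨n, hn, hn'.symm⟩
    · have h1 : (n : WithBot ℕ∞) ∈ (fun n : ℕ => (n : WithBot ℕ∞)) '' (Φ : Set ℕ) := ⟨n, hn, rfl⟩
      rw [← h] at h1
      exact (hcomp _).1 h1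
  · rintro ⟨h1, h2⟩
    ext d
    constructor
    · intro hd
      obtain ⟨z, hz, hzmin, hzd⟩ := (hcomp d).1 hd
      haveI := Groth.Agent.FibDepth.isQCoh_of_isFP hF
      obtain ⟨w, hwz, hw⟩ := Groth.Agent.AssLib.exists_ass_specializes
        (Groth.Agent.QC.isQCoh_pullback (f.fiberι y) (Groth.Agent.FibDepth.isQCoh_of_isFP hF)) hz
      obtain rfl := hzmin w (Groth.Agent.AssLib.nontrivial_of_isAssPoint hw) hwz
      obtain ⟨n, hn, hn'⟩ := h1 w w hw specializes_rfl
      exact ⟨n, hn, (hzd.symm.trans hn').symm⟩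
    · rintro ⟨n, hn, rfl⟩
      exact (hcomp _).2 (h2 n hn)

end Groth.Agent.S4966
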