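import Groth.Statements.S4971
import Mathlib.RingTheory.Nakayama
import Mathlib.RingTheory.Noetherian.Basic
import Mathlib.RingTheory.LocalRing.MaximalIdeal.Basic
import Mathlib.RingTheory.Ideal.Maps
import Mathlib.RingTheory.Jacobson.Ideal

set_option autoImplicit false
universe u
open EGA43

namespace Groth.Agent.S4971

/-- Let B be a Noetherian local ring, M, N, P three B-modules with N finitely generated, u : M → N and v
: N → P linear maps with v ∘ u = 0, and t an element of the maximal ideal of B which is P-regular.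
If the induced sequence M/tM → N/tN → P/tP is exact, then M → N → P is exact. -/
theorem result {B : Type u} [CommRing B] [IsNoetherianRing B] [IsLocalRing B]
    {M N P : Type u} [AddCommGroup M] [Module B M] [AddCommGroup N] [Module B N] [Module.Finite B N]
    [AddCommGroup P] [Module B P] (u : M →ₗ[B] N) (v : N →ₗ[B] P) (huv : v ∘ₗ u = 0) (t : B)
    (ht : t ∈ IsLocalRing.maximalIdeal B) (hreg : IsSMulRegular P t)
    (hu : (Ideal.span {t} • ⊤ : Submodule B M) ≤ (Ideal.span {t} • ⊤ : Submodule B N).comap u)
    (hv : (Ideal.span {t} • ⊤ : Submodule B N) ≤ (Ideal.span {t} • ⊤ : Submodule B P).comap v)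
    (hex : LinearMap.ker ((Ideal.span {t} • ⊤ : Submodule B N).mapQ (Ideal.span {t} • ⊤ : Submodule B P) v hv) ≤
      LinearMap.range ((Ideal.span {t} • ⊤ : Submodule B M).mapQ (Ideal.span {t} • ⊤ : Submodule B N) u hu)) :
    LinearMap.ker v ≤ LinearMap.range u := by
  have hK : (LinearMap.ker v).FG := IsNoetherian.noetherian _
  refine Submodule.le_of_le_smul_of_le_jacobson_bot hK (I := Ideal.span {t}) ?_ ?_
  · rw [Ideal.span_le, Set.singleton_subset_iff, SetLike.mem_coe]
    exact (IsLocalRing.jacobson_eq_maximalIdeal (⊥ : Ideal B) bot_ne_top).symm ▸ ht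
  intro y hy
  have h1 := @hex (Submodule.Quotient.mk y) (by
    rw [LinearMap.mem_ker, Submodule.mapQ_apply, LinearMap.mem_ker.1 hy, Submodule.Quotient.mk_zero])
  obtain ⟨z, hz⟩ := h1
  obtain ⟨m, rfl⟩ := Submodule.Quotient.mk_surjective _ z
  rw [Submodule.mapQ_apply, Submodule.Quotient.eq] at hz
  rw [Submodule.ideal_span_singleton_smul, Submodule.mem_smul_pointwise_iff_exists] at hz
  obtain ⟨w, -, hw⟩ := hz
  have hvw : v w = 0 := by
    refine hreg ?_
    show t • v w = t • (0 : P)
    rw [← map_smul, hw, map_sub, ← LinearMap.comp_apply, huv, LinearMap.zero_apply,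
      LinearMap.mem_ker.1 hy, sub_zero, smul_zero]
  rw [show y = u m + t • (-w) by rw [smul_neg, hw]; abel]
  exact Submodule.add_mem_sup (LinearMap.mem_range_self u m)
    (Submodule.smul_mem_smul (Ideal.mem_span_singleton_self t) (neg_mem (LinearMap.mem_ker.2 hvw)))

end Groth.Agent.S4971
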