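import Groth.Statements.S4973
import Mathlib.AlgebraicGeometry.PullbackCarrier
import Mathlib.AlgebraicGeometry.Morphisms.ClosedImmersion

set_option autoImplicit false
open CategoryTheory AlgebraicGeometry
universe u v w
open EGA43

namespace Groth.Agent.S4973

open CategoryTheory.Limits in
/-- Let Y₀ and Y be integral schemes, g : Y ⟶ Y₀ a dominant morphism, f₀ : X₀ ⟶ Y₀ a dominant morphism
whose fibre over the generic point of Y₀ is irreducible, and X'₀ an irreducible component of X₀
meeting that generic fibre (it is unique), regarded as a reduced closed subscheme of X₀. If X = X₀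
×_{Y₀} Y is an integral scheme, then the morphism X'₀ ×_{Y₀} Y ⟶ X induced by the inclusion of X'₀
is an isomorphism. -/
theorem result {X₀ Y₀ Y : Scheme.{u}} [IsIntegral Y₀] [IsIntegral Y]
    (g : Y ⟶ Y₀) [IsDominant g] (f₀ : X₀ ⟶ Y₀) [IsDominant f₀]
    (hirr : IsIrreducible (f₀.base ⁻¹' {genericPoint Y₀}))
    (C : TopologicalSpace.Closeds X₀) (hC : (C : Set X₀) ∈ irreducibleComponents (X₀ : Type u))
    (hCη : ((C : Set X₀) ∩ f₀.base ⁻¹' {genericPoint Y₀}).Nonempty) [IsIntegral (pullback f₀ g)]
    (e₁ : ((Scheme.IdealSheafData.vanishingIdeal C).subschemeι ≫ f₀) ≫ 𝟙 Y₀ =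
      (Scheme.IdealSheafData.vanishingIdeal C).subschemeι ≫ f₀) (e₂ : g ≫ 𝟙 Y₀ = 𝟙 Y ≫ g) :
    IsIso (pullback.map ((Scheme.IdealSheafData.vanishingIdeal C).subschemeι ≫ f₀) g f₀ g
      (Scheme.IdealSheafData.vanishingIdeal C).subschemeι (𝟙 Y) (𝟙 Y₀) e₁ e₂) := by
  set i := (Scheme.IdealSheafData.vanishingIdeal C).subschemeι with hi
  set j := pullback.map (i ≫ f₀) g f₀ g i (𝟙 Y) (𝟙 Y₀) e₁ e₂
  have hj1 : j ≫ pullback.fst f₀ g = pullback.fst (i ≫ f₀) g ≫ i := pullback.lift_fst _ _ _
  have sq : IsPullback (pullback.fst (i ≫ f₀) g) j i (pullback.fst f₀ g) := by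
    refine IsPullback.of_bot ?_ hj1.symm (IsPullback.of_hasPullback f₀ g)
    rw [show j ≫ pullback.snd f₀ g = pullback.snd (i ≫ f₀) g from
      (pullback.lift_snd _ _ _).trans (Category.comp_id _)]
    exact IsPullback.of_hasPullback (i ≫ f₀) g
  haveI : IsClosedImmersion j := MorphismProperty.of_isPullback sq (inferInstance : IsClosedImmersion i)
  suffices h : genericPoint (pullback f₀ g : Scheme.{u}) ∈ Set.range j.base by
    haveI : Surjective j := ⟨Set.range_eq_univ.mp (Set.univ_subset_iff.mp (by
      rw [← genericPoint_closure]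
      exact (j.isClosedEmbedding.isClosed_range).closure_subset_iff.mpr (Set.singleton_subset_iff.mpr h)))⟩
    exact isIso_of_isClosedImmersion_of_surjective j
  set ξ := genericPoint (pullback f₀ g : Scheme.{u})
  obtain ⟨c, hcC, hc⟩ := hCη
  -- `ξ` lies over the generic points
  have hg : g.base (genericPoint Y) = genericPoint Y₀ :=
    ((genericPoint_spec Y).image g.continuous).eq (by
      rw [show closure (g.base '' Set.univ) = ⊤ from by
        rw [Set.top_eq_univ, Set.image_univ]; exact g.denseRange.closure_range]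
      exact genericPoint_spec Y₀)
  obtain ⟨z, hz1, hz2⟩ := Scheme.Pullback.exists_preimage_pullback c (genericPoint Y) (hc.trans hg.symm)
  have hsnd : (pullback.snd f₀ g).base ξ = genericPoint Y := by
    refine (Specializes.antisymm ?_ (genericPoint_specializes _)).eq
    rw [← hz2]
    exact (genericPoint_specializes z).map (pullback.snd f₀ g).continuous
  have hη : (pullback.fst f₀ g).base ξ ∈ f₀.base ⁻¹' {genericPoint Y₀} := by
    show f₀.base _ = _
    rw [← hg, ← hsnd, ← Scheme.Hom.comp_apply, ← Scheme.Hom.comp_apply, pullback.condition]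
  -- the fibre over the generic point lies in `C`
  have hFC : f₀.base ⁻¹' {genericPoint Y₀} ⊆ (C : Set X₀) := by
    obtain ⟨γ, hγ⟩ := QuasiSober.sober hC.1 C.isClosed
    have hγF : f₀.base γ = genericPoint Y₀ :=
      ((((hγ.specializes hcC).map f₀.continuous).trans (specializes_of_eq hc)).antisymm
        (genericPoint_specializes _)).eq
    have hle : (C : Set X₀) ⊆ closure (f₀.base ⁻¹' {genericPoint Y₀}) := by
      rw [← hγ.def]
      exact closure_mono (Set.singleton_subset_iff.mpr hγF)
    exact subset_closure.trans (hC.2 hirr.closure hle)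
  have hmem : (pullback.fst f₀ g).base ξ ∈ Set.range i.base := by
    rw [hi, Scheme.IdealSheafData.range_subschemeι, Scheme.IdealSheafData.coe_support_vanishingIdeal]
    exact hFC hη
  obtain ⟨a, ha⟩ := hmem
  obtain ⟨w, -, hw2⟩ := Scheme.Pullback.exists_preimage_pullback a ξ ha
  refine ⟨sq.isoPullback.inv.base w, ?_⟩
  rw [← Scheme.Hom.comp_apply, sq.isoPullback_inv_snd]
  exact hw2

end Groth.Agent.S4973
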