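import Groth.Statements.S4974
import Groth.Agent.S4944
import Groth.Agent.Hensel.Decomp
import Groth.Agent.Hensel.Local

set_option autoImplicit false
open CategoryTheory AlgebraicGeometry
universe u v w
open EGA43

namespace Groth.Agent.S4974

/-- Consider a complete Noetherian local domain A and put Y = Spec A. Suppose f : X ⟶ Y is locally of
finite type, and take a point x ∈ X mapping to the closed point of Y, where f is equidimensional at
x and x is closed in the fibre containing it. Then one can find a local domain A' that contains A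
and is finite as an A-algebra, together with a Y-morphism h : Spec A' ⟶ X that is an immersion and
has x in its image. -/
theorem result {A : Type u} [CommRing A] [IsDomain A]
    [IsNoetherianRing A] [IsLocalRing A] [IsAdicComplete (IsLocalRing.maximalIdeal A) A] {X : Scheme.{u}}
    (f : X ⟶ Spec (CommRingCat.of A)) [LocallyOfFiniteType f] (x : X) (hx : f.base x = IsLocalRing.closedPoint A)
    (hf : EGA43.IsEquidimAt f x) (hcl : ∀ x' : X, f.base x' = f.base x → x ⤳ x' → x' = x) :
    ∃ (A' : Type u) (_ : CommRing A') (_ : IsDomain A') (_ : IsLocalRing A') (_ : Algebra A A') (_ : Module.Finite A A'),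
      Function.Injective (algebraMap A A') ∧
      ∃ h : Spec (CommRingCat.of A') ⟶ X, h ≫ f = Spec.map (CommRingCat.ofHom (algebraMap A A')) ∧
        IsImmersion h ∧ x ∈ Set.range h.base := by
  haveI : IrreducibleSpace ↥(Spec (CommRingCat.of A)) :=
    inferInstanceAs (IrreducibleSpace (PrimeSpectrum A))
  obtain ⟨T, i, hi, hirr, hred, ⟨x₁, hx₁⟩, hlft, hqf, -, hdom⟩ := Groth.Agent.S4944.result f x hf hcl
  haveI := hi
  haveI := hlft
  haveI := hqf
  haveI := hdom
  haveI : IrreducibleSpace ↥T := hirr
  haveI : AlgebraicGeometry.IsReduced T := hred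
  haveI : AlgebraicGeometry.IsIntegral T := isIntegral_of_irreducibleSpace_of_isReduced T
  obtain ⟨O, hO, hxO, -⟩ := exists_isAffineOpen_mem_and_subset (x := x₁) (U := ⊤) trivial
  haveI : Nonempty O := ⟨⟨x₁, hxO⟩⟩
  let B := Γ(T, O)
  let G : Spec B ⟶ Spec (CommRingCat.of A) := hO.fromSpec ≫ i ≫ f
  haveI : LocallyQuasiFinite G := inferInstance
  haveI : LocallyOfFiniteType G := inferInstance
  haveI : IsDominant hO.fromSpec := ⟨by
    rw [DenseRange, hO.range_fromSpec]
    exact O.2.dense ⟨x₁, hxO⟩⟩
  haveI : IsDominant G := inferInstance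
  obtain ⟨φ, hφ⟩ := Spec.map_surjective G
  letI : Algebra A B := φ.hom.toAlgebra
  haveI : Algebra.FiniteType A B := by
    have : LocallyOfFiniteType (Spec.map φ) := hφ ▸ inferInstance
    exact (HasRingHomProperty.Spec_iff (P := @LocallyOfFiniteType)).mp this
  haveI : Algebra.QuasiFinite A B := by
    have : LocallyQuasiFinite (Spec.map φ) := hφ ▸ inferInstance
    exact (HasRingHomProperty.Spec_iff (P := @LocallyQuasiFinite)).mp this
  haveI : IsDomain B := inferInstance
  have hinj : Function.Injective (algebraMap A B) := by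
    have : IsDominant (Spec.map φ) := hφ ▸ inferInstance
    have h1 := (PrimeSpectrum.denseRange_comap_iff_ker_le_nilRadical φ.hom).mp this.denseRange
    rw [nilradical_eq_zero] at h1
    exact (RingHom.injective_iff_ker_eq_bot φ.hom).mpr (le_bot_iff.mp h1)
  haveI : HenselianLocalRing A :=
    { is_henselian := fun f hf a₀ h1 h2 =>
        (IsAdicComplete.henselianRing A (IsLocalRing.maximalIdeal A)).is_henselian f hf a₀ h1 (h2.map _) }
  let q := hO.primeIdealOf ⟨x₁, hxO⟩
  haveI : q.asIdeal.LiesOver (IsLocalRing.maximalIdeal A) := ⟨by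
    have h1 : G q = IsLocalRing.closedPoint A := by
      simp only [G, Scheme.Hom.comp_apply]
      rw [hO.fromSpec_primeIdealOf ⟨x₁, hxO⟩]
      exact (congrArg f hx₁).trans hx
    rw [← hφ] at h1
    exact (congrArg PrimeSpectrum.asIdeal h1).symm⟩
  haveI : Algebra.QuasiFiniteAt A q.asIdeal := inferInstance
  obtain ⟨e, he, hfin, heq⟩ := Groth.Agent.Hensel.exists_idempotent_notMem A B q.asIdeal
  haveI hBfin : Module.Finite A B := by
    rcases (IsIdempotentElem.iff_eq_zero_or_one.mp he) with rfl | rfl
    · exact absurd q.asIdeal.zero_mem heq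
    · haveI := hfin
      refine Module.Finite.equiv ((Ideal.quotientEquivAlgOfEq A (I := Ideal.span {1 - (1 : B)}) (J := ⊥) ?_).trans
        (AlgEquiv.quotientBot A B)).toLinearEquiv
      simp
  haveI : IsLocalRing B := by
    obtain ⟨ι, _, ε, hε, hloc⟩ := Groth.Agent.Hensel.exists_pi_local A B
    obtain ⟨k, hk⟩ : ∃ k, ε k ≠ 0 := by
      by_contra! hcon
      exact q.2.ne_top ((Ideal.eq_top_iff_one _).mpr (by rw [← hε.complete]; simp [hcon]))
    have h1 : ε k = 1 := (IsIdempotentElem.iff_eq_zero_or_one.mp (hε.idem k)).resolve_left hk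
    haveI := hloc k
    refine RingEquiv.isLocalRing ((Ideal.quotEquivOfEq (I := Ideal.span {1 - ε k}) (J := ⊥) ?_).trans (RingEquiv.quotientBot B))
    simp [h1]
  refine ⟨B, inferInstance, inferInstance, inferInstance, inferInstance, hBfin, hinj, hO.fromSpec ≫ i,
    ?_, inferInstance, ⟨q, ?_⟩⟩
  · rw [Category.assoc]
    exact hφ.symm
  · show (hO.fromSpec ≫ i) q = x
    simp only [Scheme.Hom.comp_apply]
    rw [hO.fromSpec_primeIdealOf ⟨x₁, hxO⟩]
    exact hx₁

end Groth.Agent.S4974
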