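import Groth.Statements.S5927
import Mathlib
import Groth.Agent.Unibranch.SectionDVR

set_option autoImplicit false
open CategoryTheory AlgebraicGeometry
universe u
open EGA43

namespace Groth.Agent.S5927

/-- Let Y be a locally Noetherian scheme, f : X ⟶ Y a morphism locally of finite type with a section g :
Y ⟶ X, X_y^0 the connected component of f⁻¹(y) containing g y, every X_y^0 geometrically irreducible
over κ(y), and y₀ a point of Y such that f is universally open at the generic point of X_{y₀}^0.
Suppose moreover that either (α) the fibre f⁻¹(y₀) is geometrically reduced at g y₀, or (β) dim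
f⁻¹(y') = dim X_{y'}^0 for the generic point y' of every irreducible component of Y containing y₀.
Then y ↦ dim X_y^0 is constant on a neighbourhood of y₀. -/
theorem result {X Y : Scheme.{u}} [IsLocallyNoetherian Y] (f : X ⟶ Y)
    [LocallyOfFiniteType f] (g : Y ⟶ X) (hg : g ≫ f = 𝟙 Y)
    (hirr : ∀ y : Y, (∀ (K : Type u) [Field K] [Algebra (IsLocalRing.ResidueField (Y.presheaf.stalk y)) K],
        IsIrreducible ((FBase.bcπ (f.fiberToSpecResidueField y) K ≫ f.fiberι y).base ⁻¹' connectedComponentIn (f.base ⁻¹' {y}) (g.base y))))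
    (y₀ : Y) (hopen : ∀ ξ ∈ connectedComponentIn (f.base ⁻¹' {y₀}) (g.base y₀), connectedComponentIn (f.base ⁻¹' {y₀}) (g.base y₀) ⊆ closure {ξ} → EGA43.IsUnivOpenAt f ξ)
    (hαβ : FBase.IsGeomReducedAt (f.fiberToSpecResidueField (f.base (g.base y₀))) (f.asFiber (g.base y₀)) ∨
      (∀ y' : Y, y₀ ∈ closure {y'} → closure {y'} ∈ irreducibleComponents (Y : Type u) →
        topologicalKrullDim ↥(f.fiber y') = topologicalKrullDim ↥(connectedComponentIn (f.base ⁻¹' {y'}) (g.base y')))) :
    (∃ V ∈ nhds y₀, ∀ z ∈ V, topologicalKrullDim ↥(connectedComponentIn (f.base ⁻¹' {z}) (g.base z)) = topologicalKrullDim ↥(connectedComponentIn (f.base ⁻¹' {y₀}) (g.base y₀))) := by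
  have hgi : Unibranch.GeomIrredComp f g := fun y K _ _ => hirr y K
  have hC := hgi.isIrreducible
  have := LocallyOfFiniteType.isLocallyNoetherian f
  refine Unibranch.dim_component_const_nhd f g hg hC y₀ fun y' hy' ↦ ?_
  rcases hαβ with hα | hβ
  · exact Unibranch.dim_component_le_of_geomReduced f g hg hgi y₀ hopen hα y' hy'
  obtain ⟨η, hη, hηy'⟩ := Unibranch.exists_isMaxPt_specializes y'
  have hgy₀ : f.base (g.base y₀) = y₀ := by
    have : (g ≫ f).base y₀ = y₀ := by rw [hg]; rfl
    exact this
  obtain ⟨ξ, hξC, hξy, -, hCeq, d, hd, -, hd₂, -⟩ :=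
    Unibranch.exists_genericPoint_connectedComponent f hgy₀ (hC y₀)
  obtain ⟨ζ, -, -, hch⟩ := Unibranch.exists_hasChain_of_isUnivOpenAt f
    (hopen ξ hξC (hCeq.le.trans Set.inter_subset_left))
    (η := η) (by rw [show f ξ = y₀ from hξy]; exact hηy'.trans hy')
  have h1 : (d : WithBot ℕ∞) ≤ topologicalKrullDim ↥(f.fiber η) :=
    (Unibranch.natCast_le_topologicalKrullDim_iff f (f.fiberι η).isEmbedding (S := Set.univ)
      (by rw [Scheme.Hom.range_fiberι, Set.univ_inter])).mpr
      ((hch d (by rw [show f ξ = y₀ from hξy]; exact hd₂)).mono (Set.subset_univ _))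
  rw [hβ η (specializes_iff_mem_closure.mp (hηy'.trans hy')) hη.mem_irreducibleComponents] at h1
  rw [hd]
  exact h1.trans (Unibranch.dim_component_generization_le f g hg hC hηy')

end Groth.Agent.S5927
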