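import Groth.Statements.S4975
import Groth.Agent.GeomFib.SectionConn
import Groth.Agent.GeomFib.OpenCriterion
import Groth.Agent.Unibranch.SectionOpen
import Groth.Agent.S3458
import Groth.Agent.S5927

set_option autoImplicit false
open CategoryTheory AlgebraicGeometry
universe u v w
open EGA43

namespace Groth.Agent.S4975

/-- Let f : X ⟶ Y be a morphism locally of finite type with Y locally Noetherian, g : Y ⟶ X a section of
f, X_y^0 the connected component of f⁻¹(y) containing g y, and X^0 ⊆ X their union. Suppose every
X_y^0 is geometrically integral over κ(y) (its preimage in X_y ⊗ K is irreducible and has reduced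
local rings, for every field extension K of κ(y)). Then y ↦ dim X_y^0 is locally constant on Y if
and only if f is universally open at every point of X^0; and when this holds, X^0 is open in X. (The
published statement also lists, as a further equivalent condition, flatness of the base change of f
to the reduced closed subscheme Y_red at the points of X^0; that condition is not stated here.) -/
theorem result {X Y : Scheme.{u}}
    [IsLocallyNoetherian Y] (f : X ⟶ Y) [LocallyOfFiniteType f] (g : Y ⟶ X) (hg : g ≫ f = 𝟙 Y)
    (hint : ∀ y : Y, (∀ (K : Type u) [Field K] [Algebra (IsLocalRing.ResidueField (Y.presheaf.stalk y)) K],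
        IsIrreducible ((FBase.bcπ (f.fiberToSpecResidueField y) K ≫ f.fiberι y).base ⁻¹' connectedComponentIn (f.base ⁻¹' {y}) (g.base y)) ∧
        ∀ x' : ↥(FBase.bc (f.fiberToSpecResidueField y) K),
          (FBase.bcπ (f.fiberToSpecResidueField y) K ≫ f.fiberι y).base x' ∈ connectedComponentIn (f.base ⁻¹' {y}) (g.base y) →
          _root_.IsReduced ((FBase.bc (f.fiberToSpecResidueField y) K).presheaf.stalk x'))) :
    (IsLocallyConstant (fun y : Y => topologicalKrullDim ↥(connectedComponentIn (f.base ⁻¹' {y}) (g.base y))) ↔ ∀ x ∈ MoreMor.sectionComponents f g, EGA43.IsUnivOpenAt f x) ∧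
      (IsLocallyConstant (fun y : Y => topologicalKrullDim ↥(connectedComponentIn (f.base ⁻¹' {y}) (g.base y))) → IsOpen (MoreMor.sectionComponents f g)) := by
  have hgi : ∀ (y : Y) (K : Type u) [Field K] [Algebra (IsLocalRing.ResidueField (Y.presheaf.stalk y)) K],
      IsIrreducible ((FBase.bcπ (f.fiberToSpecResidueField y) K ≫ f.fiberι y).base ⁻¹'
        connectedComponentIn (f.base ⁻¹' {y}) (g.base y)) := fun y K _ _ => (hint y K).1
  have hgy : ∀ y, f.base (g.base y) = y := fun y => Groth.Agent.GeomFib.section_apply f g hg y
  -- the fibres are geometrically reduced at the points of the components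
  have hred : ∀ (y : Y) (x : X), f.base x = y → x ∈ connectedComponentIn (f.base ⁻¹' {y}) (g.base y) →
      FBase.IsGeomReducedAt (f.fiberToSpecResidueField (f.base x)) (f.asFiber x) := by
    intro y x hxy hx K _ _ x' hx'
    obtain rfl := hxy
    refine (hint (f.base x) K).2 x' ?_
    rw [Scheme.Hom.comp_apply, hx', Scheme.Hom.fiberι_asFiber]
    exact hx
  have huo : IsLocallyConstant (fun y : Y => topologicalKrullDim ↥(connectedComponentIn (f.base ⁻¹' {y}) (g.base y))) →
      ∀ x ∈ MoreMor.sectionComponents f g, EGA43.IsUnivOpenAt f x := fun hlc x hx =>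
    Groth.Agent.S3458.result f g hg hgi (f.base x)
      ⟨_, (hlc.isOpen_fiber _).mem_nhds rfl, fun z hz => hz⟩ x hx
  refine ⟨⟨huo, fun h => ?_⟩, fun hlc => ?_⟩
  · refine (IsLocallyConstant.iff_eventually_eq _).mpr fun y => ?_
    obtain ⟨V, hV, hVc⟩ := Groth.Agent.S5927.result f g hg hgi y
      (fun ξ hξ _ => h ξ (by
        have hξy : f.base ξ = y := connectedComponentIn_subset (f.base ⁻¹' {y}) _ hξ
        show ξ ∈ connectedComponentIn (f.base ⁻¹' {f.base ξ}) (g.base (f.base ξ))
        rw [hξy]; exact hξ))
      (Or.inl (hred y _ (hgy y) (mem_connectedComponentIn (hgy y))))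
    exact Filter.mem_of_superset hV hVc
  · refine isOpen_iff_mem_nhds.mpr fun x hx => ?_
    have := LocallyOfFiniteType.isLocallyNoetherian f
    refine Groth.Agent.GeomFib.mem_nhds_of_forall_generization fun η hη => ?_
    have hηE : η ∈ MoreMor.sectionComponents f g :=
      Groth.Agent.Unibranch.mem_sectionComponents_of_generization f g hg (fun y K _ _ => hgi y K) (f.base x)
        (fun ξ hξ _ => huo hlc ξ (by
          have hξy : f.base ξ = f.base x := connectedComponentIn_subset (f.base ⁻¹' {f.base x}) _ hξ
          show ξ ∈ connectedComponentIn (f.base ⁻¹' {f.base ξ}) (g.base (f.base ξ))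
          rw [hξy]; exact hξ))
        (hred _ _ (hgy _) (mem_connectedComponentIn (hgy _))) rfl hx (hred _ x rfl hx) hη
    obtain ⟨O, hηO, hO⟩ := Groth.Agent.GeomFib.exists_open_mem_sectionComponents f g hg hηE
    exact ⟨O, hηO, fun z hz hηz => hO z hz (hηz.map f.continuous)⟩

end Groth.Agent.S4975
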