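import Groth.Statements.S4976
import Groth.Agent.ProperAt.Main
import Groth.Agent.ProperAt.Fibres
import Groth.Agent.GeomFib.SectionConn

set_option autoImplicit false
open CategoryTheory AlgebraicGeometry
universe u v w
open EGA43
set_option backward.isDefEq.respectTransparency false
set_option linter.style.haveILetI false

namespace Groth.Agent.S4976

/-- Let f : X ⟶ Y be a separated morphism of finite presentation with a section g : Y ⟶ X; let X_y^0 be
the connected component of f⁻¹(y) containing g y and X^0 ⊆ X the union of the X_y^0. If y is a point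
of Y such that X_y^0, as an open subscheme of the fibre X_y, is proper over κ(y), then X^0 is proper
over Y at y: there is an open neighbourhood U of y such that X^0 ∩ f⁻¹(U) is closed in f⁻¹(U) and
the reduced closed subscheme of f⁻¹(U) it carries is proper over U. -/
theorem result {X Y : Scheme.{u}} (f : X ⟶ Y) [IsSeparated f]
    [LocallyOfFinitePresentation f] [QuasiCompact f] [QuasiSeparated f] (g : Y ⟶ X) (hg : g ≫ f = 𝟙 Y) (y : Y)
    (hop : IsOpen ((f.fiberι y).base ⁻¹' connectedComponentIn (f.base ⁻¹' {y}) (g.base y)))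
    (hprop : IsProper (Scheme.Opens.ι (⟨(f.fiberι y).base ⁻¹' connectedComponentIn (f.base ⁻¹' {y}) (g.base y), hop⟩ : (f.fiber y).Opens) ≫
      f.fiberToSpecResidueField y)) :
    ∃ U : Y.Opens, y ∈ U ∧ ∃ hC : IsClosed ((f ⁻¹ᵁ U).ι.base ⁻¹' MoreMor.sectionComponents f g),
      IsProper ((Scheme.IdealSheafData.vanishingIdeal
        (⟨(f ⁻¹ᵁ U).ι.base ⁻¹' MoreMor.sectionComponents f g, hC⟩ : TopologicalSpace.Closeds ↥(f ⁻¹ᵁ U))).subschemeι ≫
        (f ∣_ U)) := by
  have hgf : ∀ y' : Y, f.base (g.base y') = y' := fun y' => Groth.Agent.GeomFib.section_apply f g hg y'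
  have hfib : ∀ y' : Y, MoreMor.sectionComponents f g ∩ f.base ⁻¹' {y'} =
      connectedComponentIn (f.base ⁻¹' {y'}) (g.base y') := by
    intro y'
    refine Set.ext fun x => ⟨fun ⟨hx, hxy⟩ => ?_, fun hx => ?_⟩
    · have hxy : f.base x = y' := hxy
      have hx : x ∈ connectedComponentIn (f.base ⁻¹' {f.base x}) (g.base (f.base x)) := hx
      rwa [hxy] at hx
    · have hxy : f.base x = y' := connectedComponentIn_subset (f.base ⁻¹' {y'}) (g.base y') hx
      refine ⟨?_, hxy⟩
      show x ∈ connectedComponentIn (f.base ⁻¹' {f.base x}) (g.base (f.base x))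
      rwa [hxy]
  have hmem : ∀ y' : Y, g.base y' ∈ MoreMor.sectionComponents f g := fun y' =>
    ((hfib y').ge (mem_connectedComponentIn (hgf y'))).1
  have hC : f.fiberι y ⁻¹' MoreMor.sectionComponents f g =
      (f.fiberι y).base ⁻¹' connectedComponentIn (f.base ⁻¹' {y}) (g.base y) := by
    refine Set.ext fun t => ⟨fun ht => (hfib y).le ⟨ht, (f.range_fiberι y).le ⟨t, rfl⟩⟩,
      fun ht => ((hfib y).ge ht).1⟩
  have hop' : IsOpen ((f.fiberι y).base ⁻¹' MoreMor.sectionComponents f g) :=
    (Groth.Agent.ProperAt.fibOpen_component f (hfib y) (hgf y)).1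
  have hprop' : IsProper (Scheme.Opens.ι (⟨(f.fiberι y).base ⁻¹' MoreMor.sectionComponents f g, hop'⟩ :
      (f.fiber y).Opens) ≫ f.fiberToSpecResidueField y) := by
    rw [show (⟨(f.fiberι y).base ⁻¹' MoreMor.sectionComponents f g, hop'⟩ : (f.fiber y).Opens) =
      ⟨(f.fiberι y).base ⁻¹' connectedComponentIn (f.base ⁻¹' {y}) (g.base y), hop⟩ from
      TopologicalSpace.Opens.ext hC]
    exact hprop
  refine Groth.Agent.ProperAt.exists_proper_nhd f _
    (Groth.Agent.GeomFib.isLocallyConstructible_sectionComponents f g hg) y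
    (fun y' _ => Groth.Agent.ProperAt.fibClosed_component f (hfib y') (hgf y'))
    (fun y' _ => (Groth.Agent.ProperAt.fibOpen_component f (hfib y') (hgf y')).2)
    (fun y' _ => ⟨g.base y', hmem y', hgf y'⟩) ?_ ?_ hop' hprop'
  · intro y' _ K _ X' e f' v hsq _
    let s : Spec (CommRingCat.of K) ⟶ X' := hsq.lift (v ≫ g) (𝟙 _) (by simp [hg])
    have hs : s ≫ f' = 𝟙 _ := hsq.lift_snd _ _ _
    rw [← Groth.Agent.GeomFib.sectionComponents_baseChange f g hg hsq hs (hsq.lift_fst _ _ _)]
    have h1 : ∀ x : X', f'.base x = IsLocalRing.closedPoint K := fun x => Subsingleton.elim _ _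
    rw [show MoreMor.sectionComponents f' s =
        connectedComponentIn (f'.base ⁻¹' {IsLocalRing.closedPoint K}) (s.base (IsLocalRing.closedPoint K)) from
      Set.ext fun x => by
        show x ∈ connectedComponentIn (f'.base ⁻¹' {f'.base x}) (s.base (f'.base x)) ↔ _
        rw [h1 x]]
    exact isPreconnected_connectedComponentIn
  · rintro X' Y' e f' h hsq E hE ⟨W, hW, hWe⟩
    let s : Y' ⟶ X' := hsq.lift (h ≫ g) (𝟙 _) (by simp [hg])
    have hsf : ∀ t, f' (s t) = t := fun t => Groth.Agent.GeomFib.section_apply f' s (hsq.lift_snd _ _ _) t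
    have hse : ∀ t, e (s t) ∈ MoreMor.sectionComponents f g := fun t => by
      rw [← Scheme.Hom.comp_apply, show s ≫ e = h ≫ g from hsq.lift_fst _ _ _]
      exact hmem _
    refine ⟨s ⁻¹' W, hW.preimage s.continuous, Set.ext fun t => ⟨fun ⟨ht, _⟩ => ?_, fun ht => ⟨?_, hE ht⟩⟩⟩
    · have := (hWe.le ⟨ht, hse t⟩).1
      rwa [Set.mem_preimage, hsf] at this
    · exact (hWe.ge ⟨(show f' (s t) ∈ E by rw [hsf]; exact ht), hse t⟩).1

end Groth.Agent.S4976
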