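import Groth.Statements.S4978
import Groth.Agent.DvrDom.ClosedProper
import Groth.Agent.DvrDom.RationalPoint

set_option autoImplicit false
open CategoryTheory AlgebraicGeometry
universe u v w
open EGA43

namespace Groth.Agent.S4978

open CategoryTheory.Limits in
/-- Let Y be a Noetherian scheme, f : X ⟶ Y a separated morphism of finite type, Z a subset of X such
that every maximal point of the closure of Z belongs to Z, and y a point of Y. Then the closure of Z
is proper over Y at y (for some open U ∋ y, its trace on f⁻¹(U) is proper over U with the reduced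
structure) if and only if: for every discrete valuation ring A' and every morphism g : Spec A' ⟶ Y
mapping the closed point to y, every point x' of X' = X ×_Y Spec A' which projects into Z, lies over
the generic point η' of Spec A' and is rational over κ(η') is in the image of some section of X' ⟶
Spec A'. -/
theorem result {X Y : Scheme.{u}} [IsNoetherian Y] (f : X ⟶ Y) [IsSeparated f]
    [LocallyOfFiniteType f] [QuasiCompact f] (Z : Set X)
    (hZ : ∀ z ∈ closure Z, (∀ z' ∈ closure Z, z ∈ closure {z'} → z' = z) → z ∈ Z) (y : Y) :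
    (∃ U : Y.Opens, y ∈ U ∧ ∃ hC : IsClosed ((f ⁻¹ᵁ U).ι.base ⁻¹' closure Z),
      IsProper ((Scheme.IdealSheafData.vanishingIdeal
        (⟨(f ⁻¹ᵁ U).ι.base ⁻¹' closure Z, hC⟩ : TopologicalSpace.Closeds ↥(f ⁻¹ᵁ U))).subschemeι ≫ (f ∣_ U))) ↔
      ∀ (A' : Type u) [CommRing A'] [IsDomain A'] [IsDiscreteValuationRing A'] (g : Spec (CommRingCat.of A') ⟶ Y),
        g.base (IsLocalRing.closedPoint A') = y →
        ∀ x' : ↥(pullback f g), (pullback.fst f g).base x' ∈ Z →
          (pullback.snd f g).base x' = genericPoint (Spec (CommRingCat.of A')) →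
          Function.Bijective ((pullback.snd f g).residueFieldMap x').hom →
          ∃ s : Spec (CommRingCat.of A') ⟶ pullback f g, s ≫ pullback.snd f g = 𝟙 _ ∧ x' ∈ Set.range s.base := by
  let C : TopologicalSpace.Closeds X := ⟨closure Z, isClosed_closure⟩
  constructor
  · rintro ⟨U, hyU, hC, hprop⟩ A' _ _ _ g hg x' hxZ hη hbij
    obtain ⟨σ, hσ, hσx⟩ := Groth.Agent.DvrDom.exists_lift_of_bijective (Limits.pullback.snd f g) x' hbij
      (Groth.Agent.DvrDom.genericMap A') ((Groth.Agent.DvrDom.genericMap_apply_eq_genericPoint A').trans hη.symm)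
    let a : Spec (CommRingCat.of (FractionRing A')) ⟶ X := σ ≫ Limits.pullback.fst f g
    have hag : a ≫ f = Groth.Agent.DvrDom.genericMap A' ≫ g := by
      rw [Category.assoc, Limits.pullback.condition, ← Category.assoc, hσ]
    have hgU : Set.range g ⊆ (U : Set Y) :=
      Groth.Agent.DvrDom.range_subset_of_closedPoint_mem g (hg.symm ▸ hyU)
    have har : Set.range a ⊆ Set.range (f ⁻¹ᵁ U).ι := by
      rw [Scheme.Opens.range_ι]
      rintro _ ⟨q, rfl⟩
      show f (a q) ∈ U
      rw [← Scheme.Hom.comp_apply, hag, Scheme.Hom.comp_apply]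
      exact hgU ⟨_, rfl⟩
    let a' := IsOpenImmersion.lift (f ⁻¹ᵁ U).ι a har
    let w := (Scheme.IdealSheafData.vanishingIdeal
        (⟨(f ⁻¹ᵁ U).ι.base ⁻¹' closure Z, hC⟩ : TopologicalSpace.Closeds ↥(f ⁻¹ᵁ U).toScheme)).subschemeι
    have haC : Set.range a' ⊆ Set.range w := by
      rw [Groth.Agent.DvrDom.range_vanishingIdeal_subschemeι]
      rintro _ ⟨q, rfl⟩
      show (f ⁻¹ᵁ U).ι (a' q) ∈ closure Z
      rw [← Scheme.Hom.comp_apply, IsOpenImmersion.lift_fac, Scheme.Hom.comp_apply,
        show q = IsLocalRing.closedPoint _ from Subsingleton.elim (α := PrimeSpectrum (FractionRing A')) _ _, hσx]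
      exact subset_closure hxZ
    obtain ⟨b, hb⟩ := RedSepLib.exists_lift_of_isReduced a' w haC
    have hgr : Set.range g ⊆ Set.range U.ι := by rwa [Scheme.Opens.range_ι]
    let S : ValuativeCommSq (w ≫ (f ∣_ U)) := ⟨A', FractionRing A', b, IsOpenImmersion.lift U.ι g hgr, ⟨by
      rw [← cancel_mono U.ι, Category.assoc, Category.assoc, morphismRestrict_ι, reassoc_of% hb,
        IsOpenImmersion.lift_fac_assoc]
      simp only [Category.assoc, IsOpenImmersion.lift_fac]
      simpa only [a, Category.assoc] using hag⟩⟩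
    have hE : ValuativeCriterion.Existence (w ≫ (f ∣_ U)) :=
      (show (ValuativeCriterion.Existence ⊓ @QuasiCompact : MorphismProperty Scheme.{u}) (w ≫ (f ∣_ U)) by
        rw [← UniversallyClosed.eq_valuativeCriterion]
        exact (show IsProper (w ≫ (f ∣_ U)) from hprop).toUniversallyClosed).1
    obtain ⟨⟨l, hl1, hl2⟩⟩ := (hE S).exists_lift
    have hlg : (l ≫ w ≫ (f ⁻¹ᵁ U).ι) ≫ f = 𝟙 _ ≫ g := by
      rw [Category.assoc, Category.assoc, ← morphismRestrict_ι, ← Category.assoc w, ← Category.assoc l]
      rw [hl2, IsOpenImmersion.lift_fac, Category.id_comp]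
    refine ⟨Limits.pullback.lift (l ≫ w ≫ (f ⁻¹ᵁ U).ι) (𝟙 _) hlg, Limits.pullback.lift_snd _ _ _, ?_⟩
    have hσeq : Groth.Agent.DvrDom.genericMap A' ≫ Limits.pullback.lift (l ≫ w ≫ (f ⁻¹ᵁ U).ι) (𝟙 _) hlg = σ := by
      apply Limits.pullback.hom_ext
      · rw [Category.assoc, Limits.pullback.lift_fst, ← Category.assoc,
          show Groth.Agent.DvrDom.genericMap A' ≫ l = b from hl1, reassoc_of% hb, IsOpenImmersion.lift_fac]
      · rw [Category.assoc, Limits.pullback.lift_snd, Category.comp_id, hσ]
    rw [← hσx, ← hσeq]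
    exact ⟨_, (Scheme.Hom.comp_apply _ _ _).symm⟩
  · intro H
    obtain ⟨U, hyU, hU⟩ := Groth.Agent.DvrDom.exists_nhd_isProper_closed f C y fun ξ hξC hmax hy V hmem hm ↦
      Groth.Agent.DvrDom.exists_lift_of_dvr f ξ hy V hmem hm fun W hW hWmem hWm ↦ by
        obtain ⟨e, he, hcomp⟩ := Groth.Agent.DvrDom.exists_iso_fractionRing W
        let g := Groth.Agent.DvrDom.centreMap W _ hWmem
        have hsq : Spec.map (CommRingCat.ofHom W.subtype) ≫ g = X.fromSpecResidueField ξ ≫ f := by
          rw [Groth.Agent.DvrDom.subtype_centreMap]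
          exact Groth.Agent.DvrDom.SpecMap_toResidue_fromSpecStalk f ξ hy
        let σ : Spec (CommRingCat.of (FractionRing W)) ⟶ Limits.pullback f g :=
          Limits.pullback.lift (e ≫ X.fromSpecResidueField ξ) (Groth.Agent.DvrDom.genericMap W)
            (by rw [← hcomp, Category.assoc, Category.assoc, hsq])
        have hσ : σ ≫ Limits.pullback.snd f g = Groth.Agent.DvrDom.genericMap W :=
          Limits.pullback.lift_snd _ _ _
        let x' := σ (IsLocalRing.closedPoint (FractionRing W))
        have hfst : Limits.pullback.fst f g x' = ξ := by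
          refine (Scheme.Hom.comp_apply σ _ _).symm.trans ?_
          rw [Limits.pullback.lift_fst]
          exact (Scheme.Hom.comp_apply _ _ _).trans (Scheme.fromSpecResidueField_apply _ _)
        have hsnd : Limits.pullback.snd f g x' = genericPoint (Spec (CommRingCat.of W)) := by
          refine (Scheme.Hom.comp_apply σ _ _).symm.trans ?_
          rw [hσ]
          exact Groth.Agent.DvrDom.genericMap_apply_eq_genericPoint W
        have hbij := Groth.Agent.DvrDom.bijective_residueFieldMap_of_section (Limits.pullback.snd f g) σ hσ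
        obtain ⟨s, hs, q, hq⟩ := H W g
          (Groth.Agent.DvrDom.specMap_fromSpecStalk_closedPoint W y _ hWmem hWm) x'
          (hfst.symm ▸ hZ ξ hξC hmax) hsnd hbij
        have hqη : q = Groth.Agent.DvrDom.genericMap W (IsLocalRing.closedPoint _) := by
          have h1 : Limits.pullback.snd f g (s q) = q := by
            rw [← Scheme.Hom.comp_apply, hs]; rfl
          rw [← h1, show s q = x' from hq, hsnd]
          exact (Groth.Agent.DvrDom.genericMap_apply_eq_genericPoint W).symm
        have hgs : Groth.Agent.DvrDom.genericMap W ≫ s = σ := by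
          refine Groth.Agent.DvrDom.eq_of_bijective (Limits.pullback.snd f g) x' hbij ?_ rfl ?_
          · exact (Scheme.Hom.comp_apply _ _ _).trans ((congrArg s hqη.symm).trans hq)
          · rw [Category.assoc, hs, Category.comp_id, hσ]
        refine ⟨s ≫ Limits.pullback.fst f g, ?_, ?_⟩
        · rw [Category.assoc, Limits.pullback.condition, ← Category.assoc, hs, Category.id_comp]
        · rw [← cancel_epi e, ← Category.assoc, hcomp, ← Category.assoc, hgs, Limits.pullback.lift_fst]
    exact ⟨U, hyU, _, hU (isClosed_closure.preimage (f ⁻¹ᵁ U).ι.continuous)⟩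

end Groth.Agent.S4978
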