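import Groth.Statements.S4979
import Groth.Agent.FinBirat.Descend
import Groth.Agent.AmpleStage.Basic
import Groth.Agent.S2570
import Groth.Agent.ZeroSch.Basic
-- import your own Groth.Agent.* helpers here

set_option autoImplicit false
set_option backward.isDefEq.respectTransparency false
open CategoryTheory AlgebraicGeometry
universe u v w
open EGA43

namespace Groth.Agent.S4979

open CategoryTheory.Limits in
/-- Let Y be a locally Noetherian scheme, f : X ⟶ Y a morphism locally of finite type, g : Y' ⟶ Y a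
morphism locally of finite type which is universally open and surjective, f' : X ×_Y Y' ⟶ Y' the
base change of f, L an invertible O_X-module and L' its pullback to X ×_Y Y'. Suppose there is a
closed subset Z of X which, with its reduced subscheme structure, is proper over Y, and such that
the local rings of X at the points outside Z are integrally closed domains. Then L is ample relative
to f if and only if L' is ample relative to f'. -/
theorem result {X Y Y' : Scheme.{u}}
    [IsLocallyNoetherian Y] (f : X ⟶ Y) [LocallyOfFiniteType f] (g : Y' ⟶ Y) [LocallyOfFiniteType g]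
    [UniversallyOpen g] [Surjective g] (L : X.Modules) (hL : FlatMod.IsFinLocFreeOfRank 1 L)
    (Z : TopologicalSpace.Closeds X) (hZ : IsProper ((Scheme.IdealSheafData.vanishingIdeal Z).subschemeι ≫ f))
    (hnor : ∀ x : X, x ∉ (Z : Set X) → IsDomain (X.presheaf.stalk x) ∧ IsIntegrallyClosed (X.presheaf.stalk x)) :
    RelAmple.IsRelAmple f L ↔
      RelAmple.IsRelAmple (pullback.snd f g) ((Scheme.Modules.pullback (pullback.fst f g)).obj L) := by
  have hinv : PicF.IsInvertible L := ZeroSch.isInvertible_of_rankOne hL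
  refine ⟨fun h => ?_, fun h => ?_⟩
  · haveI := h.1
    exact Groth.Agent.AmpleStage.isRelAmple_of_isPullback (IsPullback.of_hasPullback f g) h
  haveI := h.1
  -- over an affine open of the base
  have key : ∀ U : Y.affineOpens, IsCompact ((f ⁻¹ᵁ U.1 : X.Opens) : Set X) ∧
      CohB1.IsAmple (L.restrict (f ⁻¹ᵁ U.1).ι) := by
    rintro ⟨U, hU⟩
    haveI : IsAffine (U : Scheme.{u}) := hU
    haveI : IsNoetherian (U : Scheme.{u}) := {}
    haveI : LocallyOfFiniteType (g ∣_ U) := IsZariskiLocalAtTarget.restrict (P := @LocallyOfFiniteType) ‹_› U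
    haveI : Surjective (g ∣_ U) := IsZariskiLocalAtTarget.restrict (P := @Surjective) ‹_› U
    haveI : UniversallyOpen (g ∣_ U) := IsZariskiLocalAtTarget.restrict (P := @UniversallyOpen) ‹_› U
    obtain ⟨Y'', h', hfin, hsurj, hsec⟩ := Groth.Agent.S2570.result (g ∣_ U)
    haveI := hfin
    haveI := hsurj
    haveI : IsAffine Y'' := isAffine_of_isAffineHom h'
    let P := pullback f (h' ≫ U.ι)
    let s₂ : P ⟶ Y'' := pullback.snd f (h' ≫ U.ι)
    -- around every point the base change factors through the one to `Y'`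
    have hloc : ∀ y : Y'', ∃ V : Y''.Opens, y ∈ V ∧ IsAffineOpen V ∧
        QuasiCompact (s₂ ∣_ V) ∧
          CohB1.IsAmple (((Scheme.Modules.pullback (pullback.fst f (h' ≫ U.ι))).obj L).restrict (s₂ ⁻¹ᵁ V).ι) := by
      intro y
      obtain ⟨V₀, hy₀, s, hs⟩ := hsec y
      obtain ⟨V, hV, hyV, hVle⟩ := exists_isAffineOpen_mem_and_subset (x := y) (U := V₀) hy₀
      let t : (V : Scheme.{u}) ⟶ Y' := Y''.homOfLE hVle ≫ s ≫ pullback.fst (g ∣_ U) h' ≫ (g ⁻¹ᵁ U).ι
      have ht : t ≫ g = V.ι ≫ h' ≫ U.ι := by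
        simp only [t, Category.assoc, ← morphismRestrict_ι, pullback.condition_assoc, reassoc_of% hs,
          Scheme.homOfLE_ι_assoc]
      have sq2 : IsPullback ((s₂ ⁻¹ᵁ V).ι ≫ pullback.fst f (h' ≫ U.ι)) (s₂ ∣_ V) f (V.ι ≫ h' ≫ U.ι) :=
        (isPullback_morphismRestrict _ _).flip.paste_horiz (IsPullback.of_hasPullback f (h' ≫ U.ι))
      rw [← ht] at sq2
      let p' : (s₂ ⁻¹ᵁ V).toScheme ⟶ pullback f g :=
        pullback.lift ((s₂ ⁻¹ᵁ V).ι ≫ pullback.fst f (h' ≫ U.ι)) ((s₂ ∣_ V) ≫ t)
          (sq2.w.trans (Category.assoc _ _ _).symm)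
      have hp' : p' ≫ pullback.fst f g = (s₂ ⁻¹ᵁ V).ι ≫ pullback.fst f (h' ≫ U.ι) := pullback.lift_fst _ _ _
      have sq : IsPullback p' (s₂ ∣_ V) (pullback.snd f g) t :=
        IsPullback.of_right (by rw [hp']; exact sq2) (pullback.lift_snd _ _ _) (IsPullback.of_hasPullback f g)
      haveI : QuasiCompact (s₂ ∣_ V) := MorphismProperty.of_isPullback (P := @QuasiCompact) sq h.1
      haveI : IsAffine (V : Scheme.{u}) := hV
      refine ⟨V, hyV, hV, inferInstance, ?_⟩
      exact TMul.isAmple_congr (Groth.Agent.AmpleStage.restrictPullIso (pullback.fst f (h' ≫ U.ι))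
          (s₂ ⁻¹ᵁ V) p' (pullback.fst f g) hp' L)
        (TMul.isRelAmple_iff_isAmple.1 (Groth.Agent.AmpleStage.isRelAmple_of_isPullback sq h))
    choose V hyV hV hqc hVA using hloc
    haveI : QuasiCompact s₂ := IsZariskiLocalAtTarget.of_iSup_eq_top (P := @QuasiCompact) V
      (top_le_iff.mp fun y _ => TopologicalSpace.Opens.mem_iSup.mpr ⟨y, hyV y⟩) hqc
    have hPA : CohB1.IsAmple ((Scheme.Modules.pullback (pullback.fst f (h' ≫ U.ι))).obj L) :=
      TMul.isRelAmple_iff_isAmple.1 (TMul.isRelAmple_of_exists (f := s₂) (PicLoc.isInvertible_pullback _ hinv)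
        fun y => ⟨V y, hyV y, hVA y⟩)
    -- which is finite surjective over `f ⁻¹ᵁ U`
    have sqU : IsPullback (f ⁻¹ᵁ U).ι (f ∣_ U) f U.ι := (isPullback_morphismRestrict f U).flip
    let q : P ⟶ (f ⁻¹ᵁ U : Scheme.{u}) :=
      sqU.lift (pullback.fst _ _) (pullback.snd _ _ ≫ h') (by rw [Category.assoc, pullback.condition])
    have hqι : q ≫ (f ⁻¹ᵁ U).ι = pullback.fst f (h' ≫ U.ι) := sqU.lift_fst _ _ _
    have sqq : IsPullback q s₂ (f ∣_ U) h' :=
      IsPullback.of_right (by rw [hqι]; exact IsPullback.of_hasPullback f (h' ≫ U.ι))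
        (sqU.lift_snd _ _ _) sqU
    haveI : IsFinite q := MorphismProperty.of_isPullback sqq.flip hfin
    haveI : Surjective q := MorphismProperty.of_isPullback sqq.flip hsurj
    haveI : CompactSpace P := QuasiCompact.compactSpace_of_compactSpace s₂
    haveI : CompactSpace (f ⁻¹ᵁ U : Scheme.{u}) := q.surjective.compactSpace q.continuous
    refine ⟨isCompact_iff_compactSpace.mpr ‹_›, ?_⟩
    haveI : IsNoetherianRing Γ(Y, U) := IsLocallyNoetherian.component_noetherian ⟨U, hU⟩
    haveI : LocallyOfFiniteType (f ∣_ U) := IsZariskiLocalAtTarget.restrict ‹_› _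
    haveI : QuasiCompact (f ∣_ U) :=
      (HasAffineProperty.iff_of_isAffine (P := @QuasiCompact)).mpr ‹CompactSpace (f ⁻¹ᵁ U : Scheme.{u})›
    refine Groth.Agent.FinBirat.isAmple_of_pullback_of_normalOrFree ((f ∣_ U) ≫ hU.isoSpec.hom) q
      (TMul.isInvertible_restrict _ hinv) ((f ⁻¹ᵁ U).ι.base ⁻¹' (Z : Set X)) ?_ (fun x hx => Or.inl ?_) ?_
    · obtain ⟨hc, hp⟩ := ClSubLib.isProperOver_baseChange (isPullback_morphismRestrict f U).flip
        (show ClSub.IsProperOver f (Z : Set X) from ⟨Z.isClosed, hZ⟩)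
      haveI := hp
      exact ⟨hc, by rw [← Category.assoc]; infer_instance⟩
    · let e := ((f ⁻¹ᵁ U).stalkIso x).commRingCatIsoToRingEquiv
      obtain ⟨h1, h2⟩ := hnor _ hx
      haveI := h1
      haveI := h2
      exact ⟨e.toMulEquiv.isDomain_iff.mpr h1, @IsIntegrallyClosed.of_equiv _ _ _ _ e.symm h2⟩
    · exact TMul.isAmple_congr (((Scheme.Modules.pullbackCongr hqι).app L).symm ≪≫
        ((Scheme.Modules.pullbackComp q (f ⁻¹ᵁ U).ι).app L).symm ≪≫
        (Scheme.Modules.pullback q).mapIso ((Scheme.Modules.restrictFunctorIsoPullback (f ⁻¹ᵁ U).ι).app L).symm) hPA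
  haveI : QuasiCompact f := quasiCompact_iff_forall_isAffineOpen.mpr fun U hU => (key ⟨U, hU⟩).1
  exact ⟨inferInstance, fun U => (key U).2⟩

end Groth.Agent.S4979
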