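import Groth.Statements.S4980
import Groth.Agent.DvrLength.Main
import Groth.Agent.QC.Pullback

set_option autoImplicit false
set_option linter.style.haveILetI false
set_option backward.isDefEq.respectTransparency false
open CategoryTheory AlgebraicGeometry
universe u v w
open EGA43
open Groth.Agent

namespace Groth.Agent.S4980

/-- Let A be a discrete valuation ring, Y = Spec A with closed point y and generic point y', f : X ⟶ Y a
proper morphism and F a coherent O_X-module which is f-flat; write F_y, F_{y'} for the restrictions
of F to the two fibres and suppose F_y has no embedded associated point. Then the sum, over the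
maximal points z' of Supp(F_{y'}), of the lengths of the stalks (F_{y'})_{z'} is at most the sum,
over the maximal points z of Supp(F_y), of the lengths of the stalks (F_y)_z (lengths over the local
rings of the fibres). -/
theorem result {A : Type u} [CommRing A] [IsDomain A]
    [IsDiscreteValuationRing A] {X : Scheme.{u}} (f : X ⟶ Spec (CommRingCat.of A)) [IsProper f] (F : X.Modules)
    (hF : Coh.IsCoh F) (hflat : FlatMod.IsFlatOver f F)
    (hemb : AssSch.NoEmbedded ((Scheme.Modules.pullback (f.fiberι (IsLocalRing.closedPoint A))).obj F)) :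
    letI y : ↥(Spec (CommRingCat.of A)) := IsLocalRing.closedPoint A
    letI y' : ↥(Spec (CommRingCat.of A)) := genericPoint (Spec (CommRingCat.of A))
    ∑ᶠ z' : {v : ↥(f.fiber y') // Nontrivial (((Scheme.Modules.pullback (f.fiberι y')).obj F).presheaf.stalk v) ∧
        ∀ w : ↥(f.fiber y'), Nontrivial (((Scheme.Modules.pullback (f.fiberι y')).obj F).presheaf.stalk w) → v ∈ closure {w} → w = v},
        Module.length ((f.fiber y').presheaf.stalk z'.1) (((Scheme.Modules.pullback (f.fiberι y')).obj F).presheaf.stalk z'.1) ≤
      ∑ᶠ z : {v : ↥(f.fiber y) // Nontrivial (((Scheme.Modules.pullback (f.fiberι y)).obj F).presheaf.stalk v) ∧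
        ∀ w : ↥(f.fiber y), Nontrivial (((Scheme.Modules.pullback (f.fiberι y)).obj F).presheaf.stalk w) → v ∈ closure {w} → w = v},
        Module.length ((f.fiber y).presheaf.stalk z.1) (((Scheme.Modules.pullback (f.fiberι y)).obj F).presheaf.stalk z.1) := by
  let y : ↥(Spec (CommRingCat.of A)) := IsLocalRing.closedPoint A
  let y' : ↥(Spec (CommRingCat.of A)) := genericPoint (Spec (CommRingCat.of A))
  classical
  haveI : IsLocallyNoetherian X := LocallyOfFiniteType.isLocallyNoetherian f
  have hln : ∀ s, IsLocallyNoetherian (f.fiber s) := fun s =>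
    haveI : LocallyOfFiniteType (f.fiberToSpecResidueField s) :=
      inferInstanceAs (LocallyOfFiniteType (Limits.pullback.snd f ((Spec (CommRingCat.of A)).fromSpecResidueField s)))
    LocallyOfFiniteType.isLocallyNoetherian (f.fiberToSpecResidueField s)
  haveI := hln y
  haveI := hln y'
  obtain ⟨π, hπ⟩ := IsDiscreteValuationRing.exists_irreducible A
  let My := (Scheme.Modules.pullback (f.fiberι y)).obj F
  let My' := (Scheme.Modules.pullback (f.fiberι y')).obj F
  haveI : Fintype (DvrLength.MinSupp My) :=
    (DvrLength.finite_minSupp (QC.isCoh_pullback (f.fiberι y) hF)).fintype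
  haveI : Fintype (DvrLength.MinSupp My') :=
    (DvrLength.finite_minSupp (QC.isCoh_pullback (f.fiberι y') hF)).fintype
  change (∑ᶠ z' : DvrLength.MinSupp My', Module.length ((f.fiber y').presheaf.stalk z'.1) (My'.presheaf.stalk z'.1)) ≤
    ∑ᶠ z : DvrLength.MinSupp My, Module.length ((f.fiber y).presheaf.stalk z.1) (My.presheaf.stalk z.1)
  rw [finsum_eq_sum_of_fintype, finsum_eq_sum_of_fintype]
  have hsp : ∀ v : DvrLength.MinSupp My', ∃ w : DvrLength.MinSupp My, f.fiberι y' v.1 ⤳ f.fiberι y w.1 := fun v => by
    obtain ⟨w, hw, h⟩ := DvrLength.exists_specializes f F hF hflat hemb hπ v.2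
    exact ⟨⟨w, hw⟩, h⟩
  choose w hw using hsp
  rw [← Finset.sum_fiberwise (Finset.univ : Finset (DvrLength.MinSupp My')) w]
  refine Finset.sum_le_sum fun z _ => ?_
  refine le_trans (le_of_eq ?_) (DvrLength.sum_le f F hF hflat hπ z.1
    ((Finset.univ.filter fun v => w v = z).image Subtype.val) fun v hv => ?_)
  · rw [Finset.sum_image Subtype.val_injective.injOn]
  · obtain ⟨v, hv', rfl⟩ := Finset.mem_image.1 hv
    exact ⟨v.2, (Finset.mem_filter.1 hv').2 ▸ hw v⟩

end Groth.Agent.S4980
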