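import Groth.Statements.S4981
import Groth.Agent.CompleteDvr.Exists
import Groth.Agent.Curves.Basic
import Groth.Agent.GoingDown.Scheme
import Groth.Agent.DvrDom.RationalPoint
import Groth.Agent.DvrDom.ClosedProper
import Groth.Agent.DvrDom.Scheme

set_option autoImplicit false
open CategoryTheory AlgebraicGeometry
universe u v w
open EGA43

namespace Groth.Agent.S4981

open CategoryTheory.Limits

/-- Let Y be a locally Noetherian scheme, f : X ⟶ Y a morphism locally of finite type, y a point of Y
and x a point of the fibre X_y. Then f is universally open at x if and only if the following holds: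
for every complete discrete valuation ring A with algebraically closed residue field k, every
morphism g : Spec A ⟶ Y sending the closed point to y, and every Y-morphism u₀ : Spec k ⟶ X with
image x, there exist a discrete valuation ring B which is a finite A-algebra through a local
homomorphism φ : A → B, and a Y-morphism u : Spec B ⟶ X, such that the restriction of u to the
closed point Spec κ(B) equals u₀ composed with the morphism Spec κ(B) ⟶ Spec k. -/
theorem result {X Y : Scheme.{u}} [IsLocallyNoetherian Y]
    (f : X ⟶ Y) [LocallyOfFiniteType f] (x : X) :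
    EGA43.IsUnivOpenAt f x ↔
      ∀ (A : Type u) [CommRing A] [IsDomain A] [IsDiscreteValuationRing A]
        [IsAdicComplete (IsLocalRing.maximalIdeal A) A] [IsAlgClosed (IsLocalRing.ResidueField A)]
        (g : Spec (CommRingCat.of A) ⟶ Y), g.base (IsLocalRing.closedPoint A) = f.base x →
        ∀ u₀ : Spec (CommRingCat.of (IsLocalRing.ResidueField A)) ⟶ X,
          u₀ ≫ f = Spec.map (CommRingCat.ofHom (IsLocalRing.residue A)) ≫ g → x ∈ Set.range u₀.base →
          ∃ (B : CommRingCat.{u}) (_ : IsDomain B) (_ : IsDiscreteValuationRing B) (φ : A →+* B)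
            (_ : IsLocalHom φ) (v : Spec B ⟶ X),
            φ.Finite ∧ v ≫ f = Spec.map (CommRingCat.ofHom φ) ≫ g ∧
            Spec.map (CommRingCat.ofHom (IsLocalRing.ResidueField.map φ)) ≫ u₀ =
              Spec.map (CommRingCat.ofHom (IsLocalRing.residue B)) ≫ v := by
  classical
  constructor
  · intro hx A _ _ _ _ _ g hg u₀ hu₀ hxr
    let π := pullback.snd f g
    let σ₀ := pullback.lift u₀ (Spec.map (CommRingCat.ofHom (IsLocalRing.residue A))) hu₀
    let kA := IsLocalRing.ResidueField A
    let x' := σ₀ (IsLocalRing.closedPoint kA)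
    haveI : Subsingleton (Spec (CommRingCat.of kA)) := inferInstanceAs (Subsingleton (PrimeSpectrum kA))
    have hx'x : pullback.fst f g x' = x := by
      obtain ⟨s, hs⟩ := hxr
      refine (Scheme.Hom.comp_apply _ _ _).symm.trans ?_
      rw [pullback.lift_fst, ← hs]
      exact congrArg u₀ (Subsingleton.elim _ _)
    have hσπ : σ₀ ≫ π = Spec.map (CommRingCat.ofHom (IsLocalRing.residue A)) := pullback.lift_snd _ _ _
    have hx'c : π x' = IsLocalRing.closedPoint A := by
      refine (Scheme.Hom.comp_apply _ _ _).symm.trans ?_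
      rw [hσπ]
      exact IsLocalRing.comap_closedPoint (IsLocalRing.residue A)
    obtain ⟨z', hz', hz'c⟩ := Groth.Agent.GoingDown.dvrGoingDown_of_isUnivOpenAt x hx A g hg x' hx'x hx'c
    haveI : LocallyOfFiniteType π := inferInstanceAs (LocallyOfFiniteType (pullback.snd f g))
    haveI : IsLocallyNoetherian (pullback f g) := LocallyOfFiniteType.isLocallyNoetherian π
    -- the local ring of the base
    let e : A ≃+* (Spec (CommRingCat.of A)).presheaf.stalk (π x') :=
      (AlgebraicGeometry.stalkClosedPointIso (CommRingCat.of A)).symm.commRingCatIsoToRingEquiv.trans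
        ((Spec (CommRingCat.of A)).presheaf.stalkCongr (.of_eq hx'c.symm)).commRingCatIsoToRingEquiv
    haveI : IsDomain ((Spec (CommRingCat.of A)).presheaf.stalk (π x')) := e.toMulEquiv.symm.isDomain A
    haveI : IsDiscreteValuationRing ((Spec (CommRingCat.of A)).presheaf.stalk (π x')) :=
      IsDiscreteValuationRing.RingEquivClass.isDiscreteValuationRing e
    obtain ⟨z, hz'z, hzx, hπz, honly⟩ := Groth.Agent.Curves.exists_curve π hz' (fun h ↦ hz'c (h.trans hx'c))
    have hzc : π z ≠ IsLocalRing.closedPoint A := hπz ▸ hz'c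
    -- `x'` is a closed point
    have hclosed : ∀ w, x' ⤳ w → w = x' := by
      intro w hw
      obtain ⟨SW, hSW, hwW, -⟩ := (pullback f g).isBasis_affineOpens.exists_subset_of_mem_open (Set.mem_univ w) isOpen_univ
      obtain ⟨W, hW, rfl⟩ : ∃ U : (pullback f g).Opens, IsAffineOpen U ∧ (U : Set _) = SW := hSW
      haveI : IsAffine W.toScheme := hW
      let s := IsOpenImmersion.lift W.ι σ₀ (by
        rintro _ ⟨p, rfl⟩
        rw [Scheme.Opens.range_ι, Subsingleton.elim p (IsLocalRing.closedPoint kA)]
        exact hw.mem_open W.isOpen hwW)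
      have hs : s ≫ W.ι = σ₀ := IsOpenImmersion.lift_fac _ _ _
      haveI : IsClosedImmersion (s ≫ W.ι ≫ π) := by
        rw [reassoc_of% hs, hσπ]
        exact IsClosedImmersion.spec_of_surjective _ Ideal.Quotient.mk_surjective
      haveI : IsClosedImmersion s := IsClosedImmersion.of_comp s (W.ι ≫ π)
      obtain ⟨w', rfl⟩ : w ∈ Set.range W.ι := by rw [Scheme.Opens.range_ι]; exact hwW
      have hsx : W.ι (s (IsLocalRing.closedPoint kA)) = x' :=
        (Scheme.Hom.comp_apply _ _ _).symm.trans (congr($hs _))
      have : w' ∈ Set.range s := by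
        refine Specializes.mem_closed ?_ s.isClosedEmbedding.isClosed_range ⟨IsLocalRing.closedPoint kA, rfl⟩
        rw [← W.ι.isOpenEmbedding.isInducing.specializes_iff, hsx]
        exact hw
      obtain ⟨p, hp⟩ := this
      rw [← hp, Subsingleton.elim p (IsLocalRing.closedPoint kA)]
      exact hsx
    -- the curve
    let C : TopologicalSpace.Closeds ↥(pullback f g) := ⟨closure {z}, isClosed_closure⟩
    let i := (Scheme.IdealSheafData.vanishingIdeal C).subschemeι
    have hri : Set.range i = closure {z} := Groth.Agent.DvrDom.range_vanishingIdeal_subschemeι C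
    obtain ⟨x₁, hx₁⟩ : x' ∈ Set.range i := hri ▸ specializes_iff_mem_closure.mp hzx
    obtain ⟨z₁, hz₁⟩ : z ∈ Set.range i := hri ▸ subset_closure rfl
    have hemb : Topology.IsEmbedding i := i.isClosedEmbedding.isEmbedding
    have hz₁gen : ∀ w, z₁ ⤳ w := fun w ↦ hemb.isInducing.specializes_iff.mp
      (hz₁.symm ▸ specializes_iff_mem_closure.mpr (hri ▸ ⟨w, rfl⟩ : i w ∈ closure {z}))
    let g₁ := i ≫ π
    haveI : LocallyOfFiniteType g₁ := inferInstanceAs (LocallyOfFiniteType (i ≫ π))
    have hgw : ∀ w, g₁ w = π (i w) := fun w ↦ Scheme.Hom.comp_apply _ _ _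
    have hqf : g₁.QuasiFiniteAt x₁ := by
      rw [Scheme.Hom.quasiFiniteAt_iff_isOpen_singleton_asFiber]
      have : LocallyOfFiniteType (g₁.fiberToSpecResidueField (g₁ x₁)) :=
        MorphismProperty.IsStableUnderBaseChange.of_isPullback (P := (@LocallyOfFiniteType : MorphismProperty Scheme.{u}))
          (IsPullback.of_hasPullback g₁ ((Spec (CommRingCat.of A)).fromSpecResidueField (g₁ x₁))) ‹LocallyOfFiniteType g₁›
      have : IsLocallyNoetherian (g₁.fiber (g₁ x₁)) :=
        LocallyOfFiniteType.isLocallyNoetherian (g₁.fiberToSpecResidueField (g₁ x₁))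
      have hι := (g₁.fiberι (g₁ x₁)).isEmbedding
      have hpt : g₁.fiberι (g₁ x₁) (g₁.asFiber x₁) = x₁ := g₁.fiberι_asFiber x₁
      have hfy : ∀ w, π (i (g₁.fiberι (g₁ x₁) w)) = IsLocalRing.closedPoint A := fun w ↦ by
        have : g₁.fiberι (g₁ x₁) w ∈ Set.range (g₁.fiberι (g₁ x₁)) := ⟨w, rfl⟩
        rw [g₁.range_fiberι] at this
        rw [← hgw]
        exact this.trans ((hgw x₁).trans (hx₁.symm ▸ hx'c))
      refine Groth.Agent.Curves.isOpen_singleton_of_minimal _ (fun w hw ↦ hι.injective ?_) (fun w hw ↦ hι.injective ?_)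
      · rw [hpt]
        refine hemb.injective ?_
        rw [hx₁]
        refine (honly _ (hz₁ ▸ (hz₁gen _).map i.continuous) ?_).resolve_left fun h ↦ hzc (h ▸ hfy w)
        exact ((hw.map (g₁.fiberι (g₁ x₁)).continuous).map i.continuous).trans
          (specializes_of_eq ((congrArg i hpt).trans hx₁))
      · rw [hpt]
        refine hemb.injective ?_
        rw [hx₁]
        refine hclosed _ ?_
        exact (specializes_of_eq ((congrArg i hpt).trans hx₁).symm).trans
          ((hw.map (g₁.fiberι (g₁ x₁)).continuous).map i.continuous)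
    obtain ⟨SW, hSW, hxW, hWle⟩ := (Scheme.IdealSheafData.vanishingIdeal C).subscheme.isBasis_affineOpens.exists_subset_of_mem_open
      (show x₁ ∈ g₁.quasiFiniteLocus from hqf) g₁.quasiFiniteLocus.2
    obtain ⟨W, hW, rfl⟩ : ∃ U : (Scheme.IdealSheafData.vanishingIdeal C).subscheme.Opens,
      IsAffineOpen U ∧ (U : Set _) = SW := hSW
    let zw : W.toScheme := ⟨z₁, (hz₁gen x₁).mem_open W.2 hxW⟩
    let xw : W.toScheme := ⟨x₁, hxW⟩
    let j := W.ι ≫ g₁
    haveI : LocallyQuasiFinite j := by
      have : LocallyQuasiFinite (g₁.quasiFiniteLocus.ι ≫ g₁) := inferInstance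
      show LocallyQuasiFinite (W.ι ≫ g₁)
      rw [← Scheme.homOfLE_ι _ (show W ≤ g₁.quasiFiniteLocus from hWle), Category.assoc]
      exact MorphismProperty.comp_mem (W := (@LocallyQuasiFinite : MorphismProperty Scheme.{u})) _ _
        inferInstance this
    haveI : LocallyOfFiniteType j := inferInstanceAs (LocallyOfFiniteType (W.ι ≫ g₁))
    haveI : IsLocallyNoetherian W.toScheme := LocallyOfFiniteType.isLocallyNoetherian j
    have hjz : j zw = π z := (Scheme.Hom.comp_apply _ _ _).trans ((hgw z₁).trans (congrArg π hz₁))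
    have hjx : j xw = IsLocalRing.closedPoint A :=
      (Scheme.Hom.comp_apply _ _ _).trans ((hgw x₁).trans ((congrArg π hx₁).trans hx'c))
    have hsp : zw ⤳ xw := W.ι.isOpenEmbedding.isInducing.specializes_iff.mp (hz₁gen x₁)
    haveI : LocallyOfFiniteType (𝟙 W.toScheme) := inferInstance
    obtain ⟨R, g', hR, hg'c, hg'g⟩ := Groth.Agent.DvrDom.exists_dvr_through (𝟙 W.toScheme) zw xw hsp
      (fun h ↦ hzc (hjz.symm.trans ((congrArg j h.symm).trans hjx)))
    rw [Category.comp_id] at hg'g
    let L := W.toScheme.residueField zw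
    let φc : CommRingCat.of A ⟶ CommRingCat.of R := Spec.preimage (g' ≫ j)
    have hφc : Spec.map φc = g' ≫ j := Spec.map_preimage _
    let φ : A →+* R := φc.hom
    have hgc : Spec.map φc (IsLocalRing.closedPoint R) = IsLocalRing.closedPoint A := by
      rw [hφc]
      exact (Scheme.Hom.comp_apply _ _ _).trans ((congrArg j hg'c).trans hjx)
    haveI : IsLocalHom φ := ((IsLocalRing.local_hom_TFAE φ).out 0 4).mpr (congrArg PrimeSpectrum.asIdeal hgc)
    let ψc : CommRingCat.of A ⟶ L := Spec.preimage (W.toScheme.fromSpecResidueField zw ≫ j)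
    have hψc : Spec.map ψc = W.toScheme.fromSpecResidueField zw ≫ j := Spec.map_preimage _
    have hψφ : ψc = φc ≫ CommRingCat.ofHom R.subtype := Spec.map_injective (by
      refine hψc.trans (Eq.trans ?_ (Spec.map_comp _ _).symm)
      rw [hφc, ← Category.assoc]
      exact congrArg (· ≫ j) hg'g.symm)
    have hinj : Function.Injective φ := by
      rw [RingHom.injective_iff_ker_eq_bot]
      by_contra hne
      have hp : (RingHom.ker φ).IsPrime := RingHom.ker_isPrime φ
      refine hzc ?_
      refine hjz.symm.trans ?_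
      apply PrimeSpectrum.ext
      have h1 : Spec.map ψc (IsLocalRing.closedPoint L) = j zw := by
        rw [hψc]
        exact (Scheme.Hom.comp_apply _ _ _).trans (congrArg j (W.toScheme.fromSpecResidueField_apply zw _))
      rw [← h1]
      show (IsLocalRing.maximalIdeal L).comap ψc.hom = IsLocalRing.maximalIdeal A
      rw [IsLocalRing.maximalIdeal_eq_bot, ← RingHom.ker_eq_comap_bot, hψφ]
      show RingHom.ker (R.subtype.comp φ) = _
      rw [RingHom.ker_comp_of_injective _ R.subtype_injective]
      exact IsLocalRing.eq_maximalIdeal (IsPrime.to_maximal_ideal hne)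
    letI : Algebra A L := (R.subtype.comp φ).toAlgebra
    have hAL : Function.Injective (algebraMap A L) := R.subtype_injective.comp hinj
    letI : Algebra (FractionRing A) L := (IsFractionRing.lift hAL).toAlgebra
    haveI : IsScalarTower A (FractionRing A) L :=
      IsScalarTower.of_algebraMap_eq fun a ↦ (IsFractionRing.lift_algebraMap hAL a).symm
    haveI : Algebra.QuasiFinite A L := by
      have : LocallyQuasiFinite (W.toScheme.fromSpecResidueField zw ≫ j) := inferInstance
      rw [← hψc] at this
      have h2 := (HasRingHomProperty.Spec_iff (P := @LocallyQuasiFinite)).1 this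
      rw [hψφ] at h2
      exact h2
    haveI : Algebra.QuasiFinite (FractionRing A) L := Algebra.QuasiFinite.of_restrictScalars A _ _
    haveI : Module.Finite (FractionRing A) L := Module.Finite.of_quasiFinite
    have hres := Groth.Agent.CompleteDvr.residue_surjective_of_isAlgClosed (L := L) φ (fun _ ↦ rfl)
    refine ⟨CommRingCat.of R, inferInstanceAs (IsDomain R), hR, φ, ‹_›, g' ≫ W.ι ≫ i ≫ pullback.fst f g,
      Groth.Agent.CompleteDvr.finite_of_residue_surjective φ hinj hres, ?_, ?_⟩
    · rw [show CommRingCat.ofHom φ = φc from rfl, hφc]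
      simp only [j, g₁, π, Category.assoc, pullback.condition]
    · have hb : Function.Bijective (π.residueFieldMap x').hom := by
        obtain ⟨ψ, hψ⟩ := Groth.Agent.DvrDom.exists_fac_descResidueField σ₀ (x := x') rfl
        let pre := Spec.preimage ((Spec (CommRingCat.of A)).fromSpecResidueField (π x'))
        have hc : pre ≫ π.residueFieldMap x' ≫ ψ = CommRingCat.ofHom (IsLocalRing.residue A) := by
          apply Spec.map_injective
          rw [Spec.map_comp, Spec.map_comp, Category.assoc, show Spec.map pre = _ from Spec.map_preimage _,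
            Scheme.Hom.SpecMap_residueFieldMap_fromSpecResidueField, reassoc_of% hψ, hσπ]
        refine ⟨RingHom.injective _, fun a ↦ ?_⟩
        obtain ⟨b, hb⟩ := IsLocalRing.residue_surjective (ψ.hom a)
        exact ⟨pre.hom b, ψ.hom.injective ((congr($(hc).hom b)).trans hb)⟩
      have key : Spec.map (CommRingCat.ofHom (IsLocalRing.ResidueField.map φ)) ≫ σ₀ =
          Spec.map (CommRingCat.ofHom (IsLocalRing.residue R)) ≫ g' ≫ W.ι ≫ i := by
        refine Groth.Agent.DvrDom.eq_of_bijective π x' hb
          ((Scheme.Hom.comp_apply _ _ _).trans (congrArg σ₀ (Subsingleton.elim _ _))) ?_ ?_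
        · refine (Scheme.Hom.comp_apply _ _ _).trans ?_
          refine (congrArg _ (IsLocalRing.comap_closedPoint (IsLocalRing.residue R))).trans ?_
          refine (Scheme.Hom.comp_apply _ _ _).trans ?_
          rw [hg'c]
          exact (Scheme.Hom.comp_apply _ _ _).trans hx₁
        · simp only [Category.assoc, hσπ]
          rw [show g' ≫ W.ι ≫ i ≫ π = Spec.map φc from hφc.symm, ← Spec.map_comp, ← Spec.map_comp]
          congr 1
      have := congrArg (· ≫ pullback.fst f g) key
      simp only [Category.assoc] at this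
      exact (congrArg (_ ≫ ·) (pullback.lift_fst _ _ _).symm).trans this
  · intro H
    refine Groth.Agent.GoingDown.isUnivOpenAt_of_dvrGoingDown x fun R _ _ _ g hg x' hx'x hx'c ↦ ?_
    let κx := (pullback f g).residueField x'
    let K := AlgebraicClosure κx
    let mc : CommRingCat.of R ⟶ κx := Spec.preimage ((pullback f g).fromSpecResidueField x' ≫ pullback.snd f g)
    have hmc : Spec.map mc = (pullback f g).fromSpecResidueField x' ≫ pullback.snd f g := Spec.map_preimage _
    have hker : ∀ r ∈ IsLocalRing.maximalIdeal R, mc.hom r = 0 := by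
      intro r hr
      have h1 : Spec.map mc (IsLocalRing.closedPoint κx) = IsLocalRing.closedPoint R := by
        rw [hmc]
        exact (Scheme.Hom.comp_apply _ _ _).trans
          ((congrArg _ ((pullback f g).fromSpecResidueField_apply x' _)).trans hx'c)
      have h2 : (IsLocalRing.maximalIdeal κx).comap mc.hom = IsLocalRing.maximalIdeal R :=
        congrArg PrimeSpectrum.asIdeal h1
      rw [IsLocalRing.maximalIdeal_eq_bot, ← RingHom.ker_eq_comap_bot] at h2
      exact RingHom.mem_ker.mp (h2.symm ▸ hr)
    let jR : IsLocalRing.ResidueField R →+* κx := Ideal.Quotient.lift _ mc.hom hker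
    letI : Algebra (IsLocalRing.ResidueField R) K := ((algebraMap κx K).comp jR).toAlgebra
    obtain ⟨A, _, _, _, ι, _, _, ε, hιinj, hε⟩ := Groth.Agent.CompleteDvr.exists_complete_dvr_residue R K
    haveI : IsAlgClosed (IsLocalRing.ResidueField A) := IsAlgClosed.of_ringEquiv K _ ε.symm
    let ρ : κx ⟶ CommRingCat.of (IsLocalRing.ResidueField A) :=
      CommRingCat.ofHom (ε.symm.toRingHom.comp (algebraMap κx K))
    have hρ : mc ≫ ρ = CommRingCat.ofHom ((IsLocalRing.residue A).comp ι) := by
      refine CommRingCat.hom_ext (RingHom.ext fun r ↦ ?_)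
      show ε.symm (algebraMap κx K (mc.hom r)) = IsLocalRing.residue A (ι r)
      rw [RingEquiv.symm_apply_eq, hε r]
      rfl
    let gA := Spec.map (CommRingCat.ofHom ι) ≫ g
    let u₀ := Spec.map ρ ≫ (pullback f g).fromSpecResidueField x' ≫ pullback.fst f g
    obtain ⟨B, _, _, φ, _, v, hfin, hvf, hvres⟩ := H A gA
      ((Scheme.Hom.comp_apply _ _ _).trans ((congrArg g (IsLocalRing.comap_closedPoint ι)).trans hg)) u₀ (by
        simp only [u₀, gA, Category.assoc, pullback.condition]
        rw [← reassoc_of% hmc, ← Spec.map_comp_assoc, ← Spec.map_comp_assoc, hρ]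
        rfl) ⟨IsLocalRing.closedPoint _, by
        refine (Scheme.Hom.comp_apply _ _ _).trans ((Scheme.Hom.comp_apply _ _ _).trans ?_)
        exact (congrArg _ ((pullback f g).fromSpecResidueField_apply x' _)).trans hx'x⟩
    let l := pullback.lift v (Spec.map (CommRingCat.ofHom (φ.comp ι))) (by
      rw [hvf, CommRingCat.ofHom_comp, Spec.map_comp, Category.assoc])
    have key : Spec.map (CommRingCat.ofHom (IsLocalRing.residue B)) ≫ l =
        Spec.map (CommRingCat.ofHom (IsLocalRing.ResidueField.map φ)) ≫ Spec.map ρ ≫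
          (pullback f g).fromSpecResidueField x' := by
      refine pullback.hom_ext ?_ ?_
      · simp only [Category.assoc, l, pullback.lift_fst]
        exact hvres.symm
      · simp only [Category.assoc, l, pullback.lift_snd, ← hmc, ← Spec.map_comp]
        rw [← Category.assoc, hρ]
        congr 1
    have hlc : l (IsLocalRing.closedPoint B) = x' := by
      have := congr($key (IsLocalRing.closedPoint _))
      rw [← IsLocalRing.comap_closedPoint (IsLocalRing.residue B)]
      exact (Scheme.Hom.comp_apply _ _ _).symm.trans (this.trans ((Scheme.Hom.comp_apply _ _ _).trans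
        ((Scheme.Hom.comp_apply _ _ _).trans ((pullback f g).fromSpecResidueField_apply x' _))))
    refine ⟨l ⟨⊥, Ideal.isPrime_bot⟩, hlc ▸ (IsLocalRing.specializes_closedPoint _).map l.continuous, fun h ↦ ?_⟩
    have hk : RingHom.ker (φ.comp ι) = IsLocalRing.maximalIdeal R := by
      have := congrArg PrimeSpectrum.asIdeal (((Scheme.Hom.comp_apply _ _ _).trans h :
        (l ≫ pullback.snd f g) ⟨⊥, Ideal.isPrime_bot⟩ = IsLocalRing.closedPoint R))
      rw [pullback.lift_snd] at this
      rw [RingHom.ker_eq_comap_bot]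
      exact this
    obtain ⟨ϖ, hϖ⟩ := IsDiscreteValuationRing.exists_irreducible R
    have hφϖ : φ (ι ϖ) = 0 := by
      have : ϖ ∈ RingHom.ker (φ.comp ι) := hk ▸ hϖ.maximalIdeal_eq ▸ Ideal.mem_span_singleton_self ϖ
      exact RingHom.mem_ker.mp this
    have hker : RingHom.ker φ = IsLocalRing.maximalIdeal A := by
      haveI : (RingHom.ker φ).IsPrime := RingHom.ker_isPrime φ
      refine IsLocalRing.eq_maximalIdeal (IsPrime.to_maximal_ideal fun h0 ↦ ?_)
      have h1 : ι ϖ ∈ RingHom.ker φ := hφϖ
      rw [h0, Ideal.mem_bot, map_eq_zero_iff _ hιinj] at h1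
      exact hϖ.ne_zero h1
    let φk : IsLocalRing.ResidueField A →+* B := Ideal.Quotient.lift _ φ fun a ha ↦ RingHom.mem_ker.mp (hker.symm ▸ ha)
    have hfink : φk.Finite := RingHom.Finite.of_comp_finite (f := IsLocalRing.residue A) (g := φk) hfin
    algebraize [φk]
    have : Algebra.IsIntegral (IsLocalRing.ResidueField A) B := Algebra.IsIntegral.of_finite _ _
    exact IsDiscreteValuationRing.not_isField B (isField_of_isIntegral_of_isField' (Field.toIsField (IsLocalRing.ResidueField A)))

end Groth.Agent.S4981
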