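import Groth.Statements.S4987
import Mathlib
import Groth.Agent.Unram.EqLocus
-- import your own Groth.Agent.* helpers here

set_option autoImplicit false
universe u
open CategoryTheory CategoryTheory.Limits AlgebraicGeometry TopologicalSpace
open Unram17

namespace Groth.Agent.S4987

/-- Let h : Y ⟶ S be formally unramified and locally of finite type, let f, g : X ⟶ Y be two morphisms
over S whose common composite X ⟶ S is closed as a map of topological spaces, and let s be a point
of S such that f and g have the same restriction to the scheme-theoretic fibre of X over s. Then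
there is an open neighbourhood V of s such that f and g agree on the preimage of V. -/
theorem result {X Y S : Scheme.{u}} (h : Y ⟶ S)
    [FormallyUnramified h] [LocallyOfFiniteType h] (f g : X ⟶ Y) (w : g ≫ h = f ≫ h)
    (hc : IsClosedMap (f ≫ h).base) (s : ↥S)
    (hs : (f ≫ h).fiberι s ≫ f = (f ≫ h).fiberι s ≫ g) :
    ∃ V : S.Opens, s ∈ V ∧ ((f ≫ h) ⁻¹ᵁ V).ι ≫ f = ((f ≫ h) ⁻¹ᵁ V).ι ≫ g := by
  obtain ⟨E, hE, hsE, -⟩ := Groth.Agent.Unram.exists_eqLocus h f g w s hs
  refine ⟨⟨((f ≫ h).base '' (E : Set X)ᶜ)ᶜ, (hc _ E.2.isClosed_compl).isOpen_compl⟩, ?_,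
    Groth.Agent.Unram.restrict_eq f g (fun x hx => ?_) hE⟩
  · rintro ⟨x, hx, hxs⟩
    exact hx (hsE x hxs)
  · by_contra hxE
    exact hx ⟨x, hxE, rfl⟩

end Groth.Agent.S4987
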