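import Groth.Statements.S4994
import Groth.Agent.SectSmooth.Forward
import Groth.Agent.SectSmooth.Backward

set_option autoImplicit false
set_option backward.isDefEq.respectTransparency false
universe u
open CategoryTheory CategoryTheory.Limits AlgebraicGeometry TopologicalSpace
open Unram17

namespace Groth.Agent.S4994

/-- Let f : X ⟶ Y be locally of finite presentation. The diagonal X ⟶ X ×_Y X is a quasi-regular
immersion (that is, f is differentially smooth) if and only if the second projection X ×_Y X ⟶ X is
smooth at every point of the image of the diagonal. -/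
theorem result {X Y : Scheme.{u}} (f : X ⟶ Y)
    [LocallyOfFinitePresentation f] :
    RegImm.IsRegularImmersion RegImm.Kind.quasi (pullback.diagonal f) ↔
      ∀ x : ↥X, (pullback.diagonal f).base x ∈ (pullback.snd f f).smoothLocus := by
  have hd : pullback.diagonal f ≫ pullback.snd f f = 𝟙 X := pullback.diagonal_snd f
  haveI : LocallyOfFinitePresentation (pullback.snd f f) := MorphismProperty.pullback_snd _ _ inferInstance
  constructor
  · intro h x
    haveI := h.1
    haveI : Smooth ((⊤ : X.Opens).ι ≫ pullback.diagonal f ≫ pullback.snd f f) := by
      rw [hd, Category.comp_id]; infer_instance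
    exact Groth.Agent.SectSmooth.mem_smoothLocus_of_quasi _ _ x (h.2 x) ⊤ trivial
  · intro h
    haveI : Smooth (pullback.diagonal f ≫ pullback.snd f f) := by rw [hd]; infer_instance
    refine ⟨inferInstance, fun x => ?_⟩
    exact Groth.Agent.KoszulLib.isRegularImmersionAt_mono (Groth.Agent.KoszulLib.seq_of_regular RegImm.Kind.quasi)
      (Groth.Agent.SectSmooth.isRegularImmersionAt_of_smooth _ _ x (h x))


end Groth.Agent.S4994
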