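import Groth.Statements.S4998
import Mathlib
-- import your own Groth.Agent.* helpers here

set_option autoImplicit false
universe u
open Unram17

namespace Groth.Agent.S4998

/-- Let A be an algebra of finite type over a field k. Then A is formally unramified over k if and only
if A is finite over k and every element of A has separable minimal polynomial over k (equivalently,
A is a finite product of finite separable extensions of k). -/
theorem result (k A : Type u) [Field k] [CommRing A]
    [Algebra k A] [Algebra.FiniteType k A] :
    Algebra.FormallyUnramified k A ↔ Module.Finite k A ∧ Algebra.IsSeparable k A := by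
  constructor
  · intro h
    haveI : Module.Finite k A := Algebra.FormallyUnramified.finite_of_free k A
    haveI : IsArtinianRing A := IsArtinianRing.of_finite k A
    haveI : IsReduced A := Algebra.FormallyUnramified.isReduced_of_field k A
    refine ⟨inferInstance, ⟨fun x => ?_⟩⟩
    have hx : IsIntegral k x := IsIntegral.of_finite k x
    let p := minpoly k x
    have hp0 : p ≠ 0 := minpoly.ne_zero hx
    rw [IsSeparable, Polynomial.separable_def]
    refine isCoprime_of_irreducible_dvd (fun hh => hp0 hh.1) fun q hq hqp hqd => ?_
    obtain ⟨r, hr⟩ : q ∣ p := hqp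
    have hr0 : r ≠ 0 := fun h0 => hp0 (by rw [hr, h0, mul_zero])
    have hrdeg : r.natDegree < p.natDegree := by
      rw [hr, Polynomial.natDegree_mul hq.ne_zero hr0]
      have := hq.natDegree_pos
      omega
    have hrx : Polynomial.aeval x r ≠ 0 := fun h0 => absurd (Polynomial.natDegree_le_natDegree
      (minpoly.min k x (Polynomial.monic_mul_leadingCoeff_inv hr0) (by simp [h0]))) (by
        rw [Polynomial.natDegree_mul_leadingCoeff_inv _ hr0]
        exact not_le.2 hrdeg)
    obtain ⟨m, hm, hrm⟩ : ∃ m : Ideal A, m.IsMaximal ∧ Polynomial.aeval x r ∉ m := by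
      by_contra! hall
      exact hrx (mem_nilradical.1 (show Polynomial.aeval x r ∈ nilradical A by
        rw [nilradical_eq_sInf]
        exact Ideal.mem_sInf.2 fun {P} hP =>
          hall P (@IsArtinianRing.isPrime_iff_isMaximal A _ _ P |>.1 hP))).eq_zero
    haveI := hm
    letI := Ideal.Quotient.field m
    haveI : Algebra.FormallyUnramified k (A ⧸ m) := Algebra.FormallyUnramified.comp k A (A ⧸ m)
    have hsep := Algebra.FormallyUnramified.isSeparable k (A ⧸ m)
    let xb : A ⧸ m := Ideal.Quotient.mk m x
    have haev : ∀ s : Polynomial k, Polynomial.aeval xb s = Ideal.Quotient.mk m (Polynomial.aeval x s) := fun s =>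
      Polynomial.aeval_algHom_apply (Ideal.Quotient.mkₐ k m) x s
    have hrb : Polynomial.aeval xb r ≠ 0 := by rw [haev, ne_eq, Ideal.Quotient.eq_zero_iff_mem]; exact hrm
    have hqb : Polynomial.aeval xb q = 0 := by
      have : Polynomial.aeval xb (q * r) = 0 := by rw [haev, ← hr, minpoly.aeval, map_zero]
      rw [map_mul] at this
      exact (mul_eq_zero.1 this).resolve_right hrb
    have hqsep : q.Separable := by
      have hd := (Algebra.IsSeparable.isSeparable k xb)
      exact Polynomial.Separable.of_dvd hd ⟨Polynomial.C q.leadingCoeff⁻¹, (minpoly.eq_of_irreducible hq hqb).symm⟩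
    have hd2 : q ∣ Polynomial.derivative q * r := by
      have : q ∣ Polynomial.derivative q * r + q * Polynomial.derivative r := by
        rw [← Polynomial.derivative_mul, ← hr]; exact hqd
      exact (dvd_add_left (dvd_mul_right q _)).1 this
    have hqr : q ∣ r := IsCoprime.dvd_of_dvd_mul_left (Polynomial.separable_def q |>.1 hqsep) hd2
    obtain ⟨s, rfl⟩ := hqr
    exact hrb (by rw [map_mul, hqb, zero_mul])
  · rintro ⟨_, hs⟩
    refine ⟨Submodule.subsingleton_iff k |>.1 ?_⟩
    suffices h : ∀ x : A, KaehlerDifferential.D k A x = 0 by
      refine subsingleton_of_bot_eq_top ?_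
      refine eq_top_iff.2 fun z _ => ?_
      have hz : z ∈ Submodule.span A (Set.range (KaehlerDifferential.D k A)) := by
        rw [KaehlerDifferential.span_range_derivation]; trivial
      induction hz using Submodule.span_induction with
      | mem y hy => obtain ⟨x, rfl⟩ := hy; rw [h x]; exact zero_mem _
      | zero => exact zero_mem _
      | add a b _ _ ha hb => exact add_mem (ha trivial) (hb trivial)
      | smul r a _ ha => rw [(Submodule.mem_bot k).1 (ha trivial), smul_zero]; exact zero_mem _
    intro x
    obtain ⟨a, b, hab⟩ := (Algebra.IsSeparable.isSeparable k x)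
    have h1 := congrArg (Polynomial.aeval x) hab
    rw [map_add, map_mul, map_mul, map_one, minpoly.aeval, mul_zero, zero_add] at h1
    have h2 := (KaehlerDifferential.D k A).map_aeval (minpoly k x) x
    rw [minpoly.aeval, map_zero] at h2
    calc KaehlerDifferential.D k A x
        = (1 : A) • KaehlerDifferential.D k A x := (one_smul _ _).symm
      _ = 0 := by rw [← h1, mul_smul, ← h2, smul_zero]

end Groth.Agent.S4998
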