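import Groth.Statements.S5001
import Groth.Agent.EtaleCrit.Params
import Groth.Agent.S2790
import Mathlib

set_option autoImplicit false
universe u
open Unram17

namespace Groth.Agent.S5001

/-- Let k be a field, A a k-algebra of finite type equipped with a k-algebra map from the polynomial
ring in n variables, with images g_i of the variables, and p a prime of A such that Spec A has local
dimension n at p, the residue field of p is a finite separable extension of k, and every g_i lies in
p. Then A is etale over the polynomial ring at p if and only if the images of the g_i generate the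
maximal ideal of the local ring A_p. -/
theorem result (k A : Type u) [Field k] [CommRing A] [Algebra k A]
    [Algebra.FiniteType k A] (n : ℕ) [Algebra (MvPolynomial (Fin n) k) A]
    [IsScalarTower k (MvPolynomial (Fin n) k) A] (p : Ideal A) [p.IsPrime]
    (hn : FlatMor.localDim (PrimeSpectrum A) ⟨p, inferInstance⟩ = (n : WithBot ℕ∞))
    [Module.Finite k p.ResidueField] [Algebra.IsSeparable k p.ResidueField]
    (hg : ∀ i : Fin n, algebraMap (MvPolynomial (Fin n) k) A (MvPolynomial.X i) ∈ p) :
    Algebra.IsEtaleAt (MvPolynomial (Fin n) k) p ↔
      Ideal.span (Set.range fun i : Fin n =>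
        algebraMap A (Localization.AtPrime p) (algebraMap (MvPolynomial (Fin n) k) A (MvPolynomial.X i))) =
        IsLocalRing.maximalIdeal (Localization.AtPrime p) := by
  classical
  let P := MvPolynomial (Fin n) k
  let L := Localization.AtPrime p
  haveI : IsNoetherianRing A := Algebra.FiniteType.isNoetherianRing k A
  constructor
  · intro h
    haveI : Algebra.FiniteType P A := Algebra.FiniteType.of_restrictScalars_finiteType k P A
    let M := p.comap (algebraMap P A)
    haveI : p.LiesOver M := ⟨rfl⟩
    haveI : Algebra.FormallyEtale P L := h
    haveI : Algebra.IsUnramifiedAt P p := inferInstanceAs (Algebra.FormallyUnramified P L)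
    letI : Algebra (Localization.AtPrime M) L := Localization.AtPrime.algebraOfLiesOver M p
    have hmap : M.map (algebraMap P L) = IsLocalRing.maximalIdeal L :=
      ((Algebra.isUnramifiedAt_iff_map_eq P M p).mp inferInstance).2
    let J : Ideal P := Ideal.span (Set.range MvPolynomial.X)
    let φ : P →ₐ[k] k := MvPolynomial.aeval fun _ => 0
    have hφX : ∀ i, φ (MvPolynomial.X i) = 0 := fun i => MvPolynomial.aeval_X _ i
    have hd : ∀ f : P, f - MvPolynomial.C (φ f) ∈ J := by
      intro f
      induction f using MvPolynomial.induction_on with
      | C c => rw [show φ (MvPolynomial.C c) = c from φ.commutes c, sub_self]; exact J.zero_mem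
      | add f g hf hg => rw [map_add, map_add, add_sub_add_comm]; exact J.add_mem hf hg
      | mul_X f i hf =>
        rw [map_mul, hφX, mul_zero, map_zero, sub_zero]
        exact J.mul_mem_left _ (Ideal.subset_span ⟨i, rfl⟩)
    haveI : J.IsMaximal := by
      have : RingHom.ker φ.toRingHom = J := by
        refine le_antisymm (fun f hf => ?_) (Ideal.span_le.2 ?_)
        · have := hd f
          rwa [show φ f = 0 from hf, map_zero, sub_zero] at this
        · rintro _ ⟨i, rfl⟩
          exact hφX i
      rw [← this]
      exact RingHom.ker_isMaximal_of_surjective φ.toRingHom fun c => ⟨MvPolynomial.C c, φ.commutes c⟩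
    have hJM : J = M := Ideal.IsMaximal.eq_of_le ‹J.IsMaximal› (Ideal.IsPrime.ne_top inferInstance)
      (Ideal.span_le.2 (by rintro _ ⟨i, rfl⟩; exact hg i))
    rw [← hmap, ← hJM, Ideal.map_span, ← Set.range_comp]
    congr 1
  · intro hm
    refine (Groth.Agent.S2790.result k A n p hn).mpr ?_
    haveI : Algebra.EssFiniteType A L := Algebra.EssFiniteType.of_isLocalization L p.primeCompl
    haveI : Algebra.EssFiniteType k L := Algebra.EssFiniteType.comp k A L
    haveI : Module.Finite L (KaehlerDifferential k L) := inferInstance
    refine Groth.Agent.EtaleCrit.span_of_residue (k := k) (L := L) _ Set.univ ∅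
      (hm.ge.trans (le_of_eq (by rw [Set.image_univ]))) (fun i _ => ?_) ?_
    · exact (IsLocalization.AtPrime.to_map_mem_maximal_iff L p _).mpr (hg i)
    · rw [Set.image_empty, Submodule.span_empty]
      haveI : Algebra.FormallyUnramified k p.ResidueField := Algebra.FormallyUnramified.of_isSeparable _ _
      haveI : Subsingleton (KaehlerDifferential k p.ResidueField) :=
        Algebra.FormallyUnramified.subsingleton_kaehlerDifferential
      exact Subsingleton.elim _ _

end Groth.Agent.S5001
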