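import Groth.Statements.S5004
import Groth.Agent.KoszulLib.NoethQuasi

set_option autoImplicit false
universe u
open CategoryTheory CategoryTheory.Limits AlgebraicGeometry TopologicalSpace
open Nrm16

namespace Groth.Agent.S5004

/-- On a locally Noetherian scheme, every quasi-regular (quasi-coherent) ideal sheaf is a regular ideal
sheaf. -/
theorem result {X : Scheme.{u}} [IsLocallyNoetherian X] (I : X.IdealSheafData)
    (h : RegImm.IsRegularIdeal RegImm.Kind.quasi I) : RegImm.IsRegularIdeal RegImm.Kind.regular I := by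
  intro x hx
  obtain ⟨U, hxU, rs, hrs, hspan⟩ := h x hx
  obtain ⟨a, hxa, hreg⟩ := KoszulLib.exists_regular_basicOpen U x hxU rs hrs (by
    rw [← hspan]
    intro b hb
    by_contra hbP
    have hz := (Scheme.IdealSheafData.mem_support_iff_of_mem hxU).mp hx
    refine (Scheme.mem_zeroLocus_iff _ _ _).mp hz b hb ?_
    rw [show x = U.2.fromSpec (U.2.primeIdealOf ⟨x, hxU⟩) from (U.2.fromSpec_primeIdealOf ⟨x, hxU⟩).symm]
    show U.2.primeIdealOf ⟨x, hxU⟩ ∈ U.2.fromSpec ⁻¹ᵁ X.basicOpen b
    rw [U.2.fromSpec_preimage_basicOpen]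
    exact hbP)
  refine ⟨X.affineBasicOpen a, hxa, _, hreg, (I.map_ideal_basicOpen U a).symm.trans ?_⟩
  rw [hspan]
  exact Ideal.map_ofList _ _

end Groth.Agent.S5004
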