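import Groth.Statements.S5009
-- import your own Groth.Agent.* helpers here
import Groth.Agent.UnramLift.Basic
import Groth.Agent.UnramPoint.Basic

set_option autoImplicit false
universe u
open CategoryTheory CategoryTheory.Limits AlgebraicGeometry TopologicalSpace
open Unram17

namespace Groth.Agent.S5009

/-- Let f : X ⟶ Y be locally of finite presentation and x a point of X. Then f is (formally) unramified
on an open neighbourhood of x if and only if for every surjection of local rings B' → B with
square-zero kernel, every morphism Spec B ⟶ X sending the closed point to x and every morphism Spec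
B' ⟶ Y making the square commute, any two lifts Spec B' ⟶ X compatible with both are equal. -/
theorem result {X Y : Scheme.{u}} (f : X ⟶ Y)
    [LocallyOfFinitePresentation f] (x : ↥X) :
    (∃ U : X.Opens, x ∈ U ∧ FormallyUnramified (U.ι ≫ f)) ↔
      ∀ (B B' : Type u) [CommRing B] [CommRing B'] [IsLocalRing B] [IsLocalRing B'] (φ : B' →+* B),
      Function.Surjective φ → RingHom.ker φ ^ 2 = ⊥ →
      ∀ (α : Spec (CommRingCat.of B) ⟶ X) (β : Spec (CommRingCat.of B') ⟶ Y),
        α.base (IsLocalRing.closedPoint B) = x → Spec.map (CommRingCat.ofHom φ) ≫ β = α ≫ f →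
        ∀ γ₁ γ₂ : Spec (CommRingCat.of B') ⟶ X,
          Spec.map (CommRingCat.ofHom φ) ≫ γ₁ = α → γ₁ ≫ f = β →
          Spec.map (CommRingCat.ofHom φ) ≫ γ₂ = α → γ₂ ≫ f = β → γ₁ = γ₂ := by
  constructor
  · rintro ⟨U, hxU, hU⟩ B B' _ _ _ _ φ hφ hker α β hα hw γ₁ γ₂ h₁ h₁' h₂ h₂'
    haveI := hU
    exact UnramLift.eq_of_lifts f U φ hφ hker α (hα.symm ▸ hxU) γ₁ γ₂ h₁ h₂ (h₁'.trans h₂'.symm)
  · intro h
    exact UnramPoint.exists_nhd_of_stalkMap f x (UnramLift.stalkMap_formallyUnramified_of_unique f x h)

end Groth.Agent.S5009
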