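import Groth.Statements.S5010
import Groth.Agent.PrinParts.Poly
import Mathlib.RingTheory.Localization.FractionRing

set_option autoImplicit false
universe u
open PP16

namespace Groth.Agent.S5010

open MvPolynomial in
theorem aux (k : Type u) [Field k] (K : Type u) [Field K] (σ : Type) [Algebra (MvPolynomial σ k) K]
    [Algebra k K] [IsScalarTower k (MvPolynomial σ k) K] [IsFractionRing (MvPolynomial σ k) K] (n : ℕ)
    (u : σ → PP16.P n k K)
    (hu : ∀ i, u i = PP16.dn n k K (algebraMap (MvPolynomial σ k) K (X i)) -
      algebraMap K (PP16.P n k K) (algebraMap (MvPolynomial σ k) K (X i))) :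
    Function.Surjective (aeval (R := K) (S₁ := PP16.P n k K) u) ∧
      RingHom.ker (aeval (R := K) (S₁ := PP16.P n k K) u).toRingHom = Ideal.span (Set.range (X : σ → MvPolynomial σ K)) ^ (n + 1) := by
  let t : σ → K := fun i => algebraMap (MvPolynomial σ k) K (X i)
  let Q := MvPolynomial σ K ⧸ Groth.Agent.PrinParts.truncIdeal n K σ
  let r0 : MvPolynomial σ k →ₐ[k] Q := aeval fun i => Ideal.Quotient.mk _ (C (t i) + X i)
  let l0 : MvPolynomial σ k →ₐ[k] Q :=
    (IsScalarTower.toAlgHom k K Q).comp (IsScalarTower.toAlgHom k (MvPolynomial σ k) K)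
  let N : Ideal Q := (Ideal.span (Set.range (X : σ → MvPolynomial σ K))).map (Ideal.Quotient.mk _)
  have hN : N ^ (n + 1) = ⊥ := by rw [← Ideal.map_pow]; exact Ideal.map_quotient_self _
  have hd : ∀ p, r0 p - l0 p ∈ N := by
    intro p
    have : (Ideal.Quotient.mkₐ k N).comp r0 = (Ideal.Quotient.mkₐ k N).comp l0 :=
      MvPolynomial.algHom_ext fun i => by
        change Ideal.Quotient.mk N (r0 (X i)) = Ideal.Quotient.mk N (Ideal.Quotient.mk _ (C (t i)))
        rw [Ideal.Quotient.eq, aeval_X, ← map_sub, add_sub_cancel_left]
        exact Ideal.mem_map_of_mem _ (Ideal.subset_span ⟨i, rfl⟩)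
    exact Ideal.Quotient.eq.1 (AlgHom.congr_fun this p)
  have hunit : ∀ y : nonZeroDivisors (MvPolynomial σ k), IsUnit (r0 y) := by
    intro y
    have h1 : IsUnit (l0 y) := (IsLocalization.map_units K y).map (algebraMap K Q)
    have h2 : IsNilpotent (r0 y - l0 y) :=
      ⟨n + 1, by simpa [hN] using Ideal.pow_mem_pow (hd y) (n + 1)⟩
    have h3 := h2.isUnit_add_right_of_commute h1 (Commute.all _ _)
    rwa [sub_add_cancel] at h3
  let r : K →ₐ[k] Q :=
    IsLocalization.liftAlgHom (M := nonZeroDivisors (MvPolynomial σ k)) (f := r0) hunit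
  have hrt : ∀ i, r (t i) = Ideal.Quotient.mk _ (C (t i) + X i) := fun i => by
    rw [IsLocalization.liftAlgHom_apply, IsLocalization.lift_eq]
    exact aeval_X _ i
  obtain ⟨e, he⟩ := Groth.Agent.PrinParts.exists_equiv n t
    (fun f g h => IsLocalization.algHom_ext (nonZeroDivisors (MvPolynomial σ k))
      (MvPolynomial.algHom_ext fun i => h i))
    (fun f g h => IsLocalization.algHom_ext (nonZeroDivisors (MvPolynomial σ k))
      (MvPolynomial.algHom_ext fun i => h i)) r hrt
  have hφ : aeval u = e.symm.toAlgHom.comp
      (Ideal.Quotient.mkₐ K (Groth.Agent.PrinParts.truncIdeal n K σ)) :=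
    MvPolynomial.algHom_ext fun i => by
      rw [aeval_X, hu]
      change _ = e.symm (Ideal.Quotient.mk _ (X i))
      rw [AlgEquiv.eq_symm_apply, map_sub, AlgEquiv.commutes, he, map_add]
      exact add_sub_cancel_left _ _
  rw [hφ]
  refine ⟨e.symm.surjective.comp Ideal.Quotient.mk_surjective, ?_⟩
  ext x
  change e.symm (Ideal.Quotient.mk _ x) = 0 ↔ _
  rw [EmbeddingLike.map_eq_zero_iff, Ideal.Quotient.eq_zero_iff_mem]

/-- Let k be a field and K the field of fractions of the polynomial ring k[T_1, ..., T_r]. For every n,
the K-algebra map from the polynomial ring K[U_1, ..., U_r] to the ring of principal parts of order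
n of K over k (a K-algebra through the first factor) that sends U_i to d^n(T_i) − T_i · 1 is
surjective, and its kernel is the (n+1)-st power of the ideal generated by the U_i. -/
theorem result (k : Type u) [Field k] (r n : ℕ) :
    Function.Surjective
        (MvPolynomial.aeval (R := FractionRing (MvPolynomial (Fin r) k))
          (S₁ := PP16.P n k (FractionRing (MvPolynomial (Fin r) k)))
          (fun i : Fin r =>
            PP16.dn n k (FractionRing (MvPolynomial (Fin r) k))
                (algebraMap (MvPolynomial (Fin r) k) (FractionRing (MvPolynomial (Fin r) k)) (MvPolynomial.X i)) -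
              algebraMap (FractionRing (MvPolynomial (Fin r) k)) (PP16.P n k (FractionRing (MvPolynomial (Fin r) k)))
                (algebraMap (MvPolynomial (Fin r) k) (FractionRing (MvPolynomial (Fin r) k)) (MvPolynomial.X i)))) ∧
      RingHom.ker
          (MvPolynomial.aeval (R := FractionRing (MvPolynomial (Fin r) k))
            (S₁ := PP16.P n k (FractionRing (MvPolynomial (Fin r) k)))
            (fun i : Fin r =>
              PP16.dn n k (FractionRing (MvPolynomial (Fin r) k))
                  (algebraMap (MvPolynomial (Fin r) k) (FractionRing (MvPolynomial (Fin r) k)) (MvPolynomial.X i)) -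
                algebraMap (FractionRing (MvPolynomial (Fin r) k)) (PP16.P n k (FractionRing (MvPolynomial (Fin r) k)))
                  (algebraMap (MvPolynomial (Fin r) k) (FractionRing (MvPolynomial (Fin r) k)) (MvPolynomial.X i)))).toRingHom =
        (Ideal.span (Set.range (MvPolynomial.X : Fin r → MvPolynomial (Fin r) (FractionRing (MvPolynomial (Fin r) k))))) ^ (n + 1) := by
  exact aux k (FractionRing (MvPolynomial (Fin r) k)) (Fin r) n _ fun _ => rfl

end Groth.Agent.S5010
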