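import Groth.Statements.S5011
-- import your own Groth.Agent.* helpers here
import Groth.Agent.UnramFibre.Basic

set_option autoImplicit false
universe u
open CategoryTheory CategoryTheory.Limits AlgebraicGeometry TopologicalSpace
open Unram17

namespace Groth.Agent.S5011

/-- Let f : X ⟶ Y be locally of finite presentation. Then f is etale if and only if f is flat and, for
every point x of X with image y, the quotient of the local ring of X at x by the extension of the
maximal ideal of the local ring of Y at y is a field, finite and separable over the residue field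
κ(y); that is, every fibre of f is a sum of spectra of finite separable extensions of the residue
field. -/
theorem result {X Y : Scheme.{u}} (f : X ⟶ Y)
    [LocallyOfFinitePresentation f] :
    Etale f ↔ Flat f ∧ ∀ x : ↥X,
      letI φ := (f.stalkMap x).hom
      letI 𝔪 := IsLocalRing.maximalIdeal ↑(Y.presheaf.stalk (f.base x))
      letI := (Ideal.quotientMap (𝔪.map φ) φ Ideal.le_comap_map).toAlgebra
      IsField (↑(X.presheaf.stalk x) ⧸ 𝔪.map φ) ∧
        Module.Finite (↑(Y.presheaf.stalk (f.base x)) ⧸ 𝔪) (↑(X.presheaf.stalk x) ⧸ 𝔪.map φ) ∧
        Algebra.IsSeparable (↑(Y.presheaf.stalk (f.base x)) ⧸ 𝔪) (↑(X.presheaf.stalk x) ⧸ 𝔪.map φ) := by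
  constructor
  · intro hf
    haveI := hf
    refine ⟨inferInstance, fun x => ?_⟩
    exact (UnramFibre.quot_iff (f.stalkMap x).hom).2
      ((UnramPoint.stalkMap_formallyUnramified_iff f x).1 (FormallyUnramified.stalkMap f x))
  · rintro ⟨hfl, h⟩
    haveI := hfl
    haveI : FormallyUnramified f := (UnramFibre.formallyUnramified_iff_forall_stalkMap f).2 fun x =>
      (UnramPoint.stalkMap_formallyUnramified_iff f x).2 ((UnramFibre.quot_iff (f.stalkMap x).hom).1 (h x))
    exact Etale.of_formallyUnramified_of_flat f

end Groth.Agent.S5011
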