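import Groth.Statements.S5012
import Groth.Agent.SepReg.Basic
import Groth.Agent.S2451
import Groth.Agent.RegLoc.Normal

set_option autoImplicit false
universe u
set_option linter.style.haveILetI false
open Unram17

namespace Groth.Agent.S5012

/-- Let A be an algebra of finite type over a field k. Then Spec A has a dense open subset consisting of
points at which A is smooth over k if and only if, for every minimal prime p of A, the local ring
A_p is geometrically reduced over k (that is, A_p is a field and a separable extension of k). -/
theorem result (k A : Type u) [Field k] [CommRing A] [Algebra k A]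
    [Algebra.FiniteType k A] :
    (∃ U : TopologicalSpace.Opens (PrimeSpectrum A), Dense (U : Set (PrimeSpectrum A)) ∧
        ∀ p ∈ U, Algebra.IsSmoothAt k p.asIdeal) ↔
      ∀ (p : Ideal A) [p.IsPrime], p ∈ minimalPrimes A →
        Algebra.IsGeometricallyReduced k (Localization.AtPrime p) := by
  haveI : IsNoetherianRing A := Algebra.FiniteType.isNoetherianRing k A
  have hmin : ∀ (p : Ideal A) [p.IsPrime], p ∈ minimalPrimes A → ∀ P : Ideal (Localization.AtPrime p), P.IsPrime →
      P = IsLocalRing.maximalIdeal (Localization.AtPrime p) := by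
    intro p _ hp P hP
    have h1 : P.comap (algebraMap A (Localization.AtPrime p)) ≤ p := by
      have := (IsLocalization.isPrime_iff_isPrime_disjoint p.primeCompl (Localization.AtPrime p) P).1 hP
      intro a ha
      by_contra hap
      exact Set.disjoint_left.1 this.2 hap ha
    have h2 : P.comap (algebraMap A (Localization.AtPrime p)) = p :=
      le_antisymm h1 (hp.2 ⟨inferInstance, bot_le⟩ h1)
    have h2' : P.under A = p := h2
    rw [← IsLocalization.map_comap p.primeCompl (Localization.AtPrime p) P, h2', Localization.AtPrime.map_eq_maximalIdeal]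
  constructor
  · rintro ⟨U, hU, hsm⟩ p hpr hp
    have hpU : (⟨p, hpr⟩ : PrimeSpectrum A) ∈ U := by
      -- a dense open contains every generic point
      have hfin : (minimalPrimes A).Finite := minimalPrimes.finite_of_isNoetherianRing A
      by_contra hne
      let Z : Set (PrimeSpectrum A) := ⋃ q ∈ minimalPrimes A \ {p}, PrimeSpectrum.zeroLocus (q : Set A)
      have hZ : IsClosed Z := (hfin.subset Set.diff_subset).isClosed_biUnion fun q _ => PrimeSpectrum.isClosed_zeroLocus _
      have hUZ : (U : Set (PrimeSpectrum A)) ⊆ Z := by
        intro x hx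
        obtain ⟨q, hq, hqx⟩ := Ideal.exists_minimalPrimes_le (I := ⊥) (J := x.asIdeal) bot_le
        refine Set.mem_biUnion (x := q) ⟨hq, fun h => hne ?_⟩ hqx
        rw [Set.mem_singleton_iff] at h
        subst h
        exact ((PrimeSpectrum.le_iff_specializes ⟨q, hpr⟩ x).1 hqx).mem_open U.2 hx
      have hpZ : (⟨p, hpr⟩ : PrimeSpectrum A) ∈ Z := hZ.closure_subset_iff.2 hUZ (hU _)
      obtain ⟨q, ⟨hq, hqp⟩, hle⟩ := Set.mem_iUnion₂.1 hpZ
      exact hqp (le_antisymm hle (hp.2 hq.1 hle))
    haveI hs : Algebra.IsSmoothAt k p := hsm _ hpU
    haveI := Groth.Agent.SepReg.regular_of_isSmoothAt (k := k) p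
    haveI := Groth.Agent.RegLoc.isDomain (A := Localization.AtPrime p)
    have hF : IsField (Localization.AtPrime p) := by
      rw [IsLocalRing.isField_iff_maximalIdeal_eq]
      exact (hmin p hp ⊥ Ideal.isPrime_bot).symm
    letI := hF.toField
    exact Groth.Agent.S2451.result.1 hs
  · intro h
    haveI : Algebra.FinitePresentation k A := Algebra.FinitePresentation.of_finiteType.1 inferInstance
    refine ⟨⟨Algebra.smoothLocus k A, Algebra.isOpen_smoothLocus⟩, ?_, fun p hp => hp⟩
    have hall : ∀ (p : Ideal A) [p.IsPrime], p ∈ minimalPrimes A → Algebra.IsSmoothAt k p := by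
      intro p _ hp
      haveI := h p hp
      haveI : IsReduced (Localization.AtPrime p) := Algebra.isReduced_of_isGeometricallyReduced (k := k)
      have hF : IsField (Localization.AtPrime p) := by
        rw [IsLocalRing.isField_iff_maximalIdeal_eq]
        have hnil : nilradical (Localization.AtPrime p) = ⊥ := nilradical_eq_zero _
        rw [nilradical_eq_sInf] at hnil
        refine le_antisymm (le_trans (le_sInf fun P hP => ?_) hnil.le) bot_le
        exact (hmin p hp P hP).ge
      letI := hF.toField
      exact (Groth.Agent.S2451.result (k := k) (K := Localization.AtPrime p)).2 ‹_›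
    intro x
    obtain ⟨q, hq, hqx⟩ := Ideal.exists_minimalPrimes_le (I := ⊥) (J := x.asIdeal) bot_le
    haveI : q.IsPrime := hq.1.1
    exact closure_mono (Set.singleton_subset_iff.2
      (show (⟨q, hq.1.1⟩ : PrimeSpectrum A) ∈ Algebra.smoothLocus k A from hall q hq))
      (specializes_iff_mem_closure.1 ((PrimeSpectrum.le_iff_specializes ⟨q, hq.1.1⟩ x).1 hqx))

end Groth.Agent.S5012
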