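import Groth.Statements.S5013
import Groth.Agent.SmoothGR.Basic

set_option autoImplicit false
set_option backward.isDefEq.respectTransparency false
set_option backward.isDefEq.respectTransparency.types false
set_option maxHeartbeats 1000000

universe u
open CategoryTheory CategoryTheory.Limits AlgebraicGeometry TopologicalSpace
open Unram17

namespace Groth.Agent.S5013

/-- Let Y be locally Noetherian, f : X ⟶ Y locally of finite type, x a point of X with image y, and
suppose the local ring of Y at y is reduced and geometrically unibranch. Then f is smooth on an open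
neighbourhood of x if and only if f is equidimensional at x and the local ring of the fibre at x
(the quotient of the local ring of X at x by the extension of the maximal ideal at y) is
geometrically regular over the residue field κ(y). -/
theorem result {X Y : Scheme.{u}} (f : X ⟶ Y)
    [IsLocallyNoetherian Y] [LocallyOfFiniteType f] (x : ↥X)
    (hred : IsReduced ↑(Y.presheaf.stalk (f.base x)))
    (hgu : CAlg2.IsGeomUnibranch ↑(Y.presheaf.stalk (f.base x))) :
    letI φ := (f.stalkMap x).hom
    letI 𝔪 := IsLocalRing.maximalIdeal ↑(Y.presheaf.stalk (f.base x))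
    letI : Algebra (IsLocalRing.ResidueField ↑(Y.presheaf.stalk (f.base x))) (↑(X.presheaf.stalk x) ⧸ 𝔪.map φ) :=
      (Ideal.quotientMap (𝔪.map φ) φ Ideal.le_comap_map).toAlgebra
    (∃ U : X.Opens, x ∈ U ∧ Smooth (U.ι ≫ f)) ↔
      EGA43.IsEquidimAt f x ∧
        CAlg.IsGeometricallyRegular (IsLocalRing.ResidueField ↑(Y.presheaf.stalk (f.base x)))
          (↑(X.presheaf.stalk x) ⧸ 𝔪.map φ) := by
  haveI : LocallyOfFinitePresentation f := LocallyOfFinitePresentation.iff_locallyOfFiniteType.mpr ‹_›
  haveI : _root_.IsReduced ↑(Y.presheaf.stalk (f x)) := hred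
  refine (Groth.Agent.SmoothGR.mem_smoothLocus_iff f x).trans ⟨fun h =>
    ⟨Groth.Agent.SmoothGR.equidim_of_smooth f x h,
      (Groth.Agent.SmoothGR.geomRegular_quot_iff f x).2 (Groth.Agent.SmoothGR.fibre_smooth_of_smooth f x h)⟩, ?_⟩
  rintro ⟨he, h⟩
  obtain ⟨W, hxW, hW⟩ := Groth.Agent.SmoothGR.univOpen_of_equidim f x hgu he
  exact Groth.Agent.SmoothGR.mem_smoothLocus_of_univOpen f x W hxW hW ((Groth.Agent.SmoothGR.geomRegular_quot_iff f x).1 h)

end Groth.Agent.S5013
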