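import Groth.Statements.S5014

set_option autoImplicit false
universe u
open Unram17

namespace Groth.Agent.S5014

/-- Let C be a smooth algebra over a commutative ring A, equipped with an A-algebra map from the
polynomial ring in r variables (images s_i of the variables), and let q be a prime of C. Then C is
etale at q over the polynomial ring if and only if the differentials of the s_i are linearly
independent and generate the module of differentials of the local ring C_q over A, i.e. form a basis
of it. -/
theorem result (A C : Type u) [CommRing A] [CommRing C]
    [Algebra A C] [Algebra.Smooth A C] (r : ℕ) [Algebra (MvPolynomial (Fin r) A) C]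
    [IsScalarTower A (MvPolynomial (Fin r) A) C] (q : Ideal C) [q.IsPrime] :
    Algebra.IsEtaleAt (MvPolynomial (Fin r) A) q ↔
      LinearIndependent (Localization.AtPrime q)
          (fun i : Fin r => KaehlerDifferential.D A (Localization.AtPrime q)
            (algebraMap C (Localization.AtPrime q) (algebraMap (MvPolynomial (Fin r) A) C (MvPolynomial.X i)))) ∧
        Submodule.span (Localization.AtPrime q)
          (Set.range fun i : Fin r => KaehlerDifferential.D A (Localization.AtPrime q)
            (algebraMap C (Localization.AtPrime q) (algebraMap (MvPolynomial (Fin r) A) C (MvPolynomial.X i)))) = ⊤ := by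
  let P := MvPolynomial (Fin r) A
  let T := Localization.AtPrime q
  haveI : Algebra.FormallySmooth C T := Algebra.FormallySmooth.of_isLocalization q.primeCompl
  haveI : Algebra.FormallySmooth A T := Algebra.FormallySmooth.comp A C T
  let B := (KaehlerDifferential.mvPolynomialBasis A (Fin r)).baseChange T
  let φ : TensorProduct P T (KaehlerDifferential A P) →ₗ[T] KaehlerDifferential A T :=
    KaehlerDifferential.mapBaseChange A P T
  have hB : (fun i : Fin r => KaehlerDifferential.D A (Localization.AtPrime q)
      (algebraMap C (Localization.AtPrime q)
        (algebraMap (MvPolynomial (Fin r) A) C (MvPolynomial.X i)))) = φ ∘ B := by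
    funext i
    rw [Function.comp_apply, Module.Basis.baseChange_apply,
      KaehlerDifferential.mvPolynomialBasis_apply, KaehlerDifferential.mapBaseChange_tmul,
      KaehlerDifferential.map_D, one_smul]
    exact congrArg _ (IsScalarTower.algebraMap_apply _ C T (MvPolynomial.X i)).symm
  have key : Algebra.IsEtaleAt (MvPolynomial (Fin r) A) q ↔ Function.Bijective φ := by
    constructor
    · intro h
      have : Algebra.FormallyEtale P T := h
      exact (KaehlerDifferential.tensorKaehlerEquivOfFormallyEtale A P T).bijective
    · rintro ⟨hinj, hsur⟩
      have hex := KaehlerDifferential.exact_mapBaseChange_map A P T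
      have hsurj := KaehlerDifferential.map_surjective A P T
      have hH : Subsingleton (Algebra.H1Cotangent P T) := by
        refine subsingleton_of_forall_eq 0 fun x => ?_
        have hx : Algebra.H1Cotangent.δ A P T x = 0 :=
          hinj (by rw [map_zero]; exact
            (Algebra.H1Cotangent.exact_δ_mapBaseChange A P T).apply_apply_eq_zero x)
        obtain ⟨y, rfl⟩ := (Algebra.H1Cotangent.exact_map_δ A P T x).mp hx
        rw [Subsingleton.elim y 0, map_zero]
      have hΩ : Subsingleton (KaehlerDifferential P T) := by
        refine subsingleton_of_forall_eq 0 fun x => ?_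
        obtain ⟨y, rfl⟩ := hsurj x
        obtain ⟨z, rfl⟩ := hsur y
        exact hex.apply_apply_eq_zero z
      have : Algebra.FormallyUnramified P T := ⟨hΩ⟩
      have : Algebra.FormallySmooth P T :=
        (Algebra.formallySmooth_iff _ _).mpr ⟨Module.Projective.of_free, hH⟩
      exact Algebra.FormallyEtale.iff_formallyUnramified_and_formallySmooth.mpr ⟨‹_›, ‹_›⟩
  rw [key, hB]
  constructor
  · intro h
    exact ⟨B.linearIndependent.map' φ (LinearMap.ker_eq_bot.2 h.1), by
      rw [Set.range_comp, Submodule.span_image, B.span_eq, Submodule.map_top,
        LinearMap.range_eq_top.2 h.2]⟩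
  · rintro ⟨hli, hsp⟩
    refine ⟨?_, ?_⟩
    · rw [← LinearMap.ker_eq_bot, ← B.constr_self T φ]
      refine (LinearMap.ker_eq_bot).2 fun x y hxy => ?_
      rw [Module.Basis.constr_apply, Module.Basis.constr_apply] at hxy
      exact B.repr.injective (hli.finsuppLinearCombination_injective hxy)
    · rw [← LinearMap.range_eq_top, ← Submodule.map_top, ← B.span_eq, Submodule.map_span,
        ← Set.range_comp]
      exact hsp

end Groth.Agent.S5014
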