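import Groth.Statements.S5017
-- import your own Groth.Agent.* helpers here
import Groth.Agent.UnramFibre.Basic
import Mathlib.AlgebraicGeometry.Morphisms.UniversallyInjective

set_option autoImplicit false
universe u
open CategoryTheory CategoryTheory.Limits AlgebraicGeometry TopologicalSpace
open Unram17

namespace Groth.Agent.S5017

/-- Let f : X ⟶ Y be locally of finite type. Then f is a monomorphism if and only if, for every point x
of X with image y, x is the only point of its fibre and the canonical map from the residue field
κ(y) to the quotient of the local ring of X at x by the extension of the maximal ideal at y is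
bijective (each nonempty fibre is Spec κ(y)). -/
theorem result {X Y : Scheme.{u}} (f : X ⟶ Y) [LocallyOfFiniteType f] :
    Mono f ↔ ∀ x : ↥X,
      (∀ x' : ↥X, f.base x' = f.base x → x' = x) ∧
        Function.Bijective
          (Ideal.quotientMap
            ((IsLocalRing.maximalIdeal ↑(Y.presheaf.stalk (f.base x))).map (f.stalkMap x).hom)
            (f.stalkMap x).hom Ideal.le_comap_map) := by
  constructor
  · intro hf x
    haveI := hf
    haveI : IsIso (pullback.diagonal f) := (pullback.isIso_diagonal_iff f).2 ‹_›
    haveI : FormallyUnramified f := inferInstance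
    haveI : UniversallyInjective f := inferInstance
    refine ⟨fun x' hx' => f.injective hx', ?_⟩
    refine (UnramFibre.quot_bijective_iff (f.stalkMap x).hom).2 ?_
    obtain ⟨h1, hfin, hsep⟩ :=
      (UnramPoint.stalkMap_formallyUnramified_iff f x).1 (FormallyUnramified.stalkMap f x)
    refine ⟨h1, ?_⟩
    have hiff : UniversallyInjective f ↔
        Function.Injective f ∧ ∀ x, (f.residueFieldMap x).hom.IsPurelyInseparable :=
      (tfae_universallyInjective f).out 0 2
    have hpi := (hiff.1 ‹_›).2 x
    letI := (f.residueFieldMap x).hom.toAlgebra
    haveI : IsPurelyInseparable (Y.residueField (f x)) (X.residueField x) := hpi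
    exact IsPurelyInseparable.surjective_algebraMap_of_isSeparable (Y.residueField (f x)) (X.residueField x)
  · intro h
    have hb := fun x => (UnramFibre.quot_bijective_iff (f.stalkMap x).hom).1 (h x).2
    haveI : FormallyUnramified f := (UnramFibre.formallyUnramified_iff_forall_stalkMap f).2 fun x => by
      refine (UnramPoint.stalkMap_formallyUnramified_iff f x).2 ⟨(hb x).1, ?_⟩
      letI := (f.residueFieldMap x).hom.toAlgebra
      have e : Y.residueField (f x) ≃ₐ[Y.residueField (f x)] X.residueField x :=
        AlgEquiv.ofBijective (Algebra.ofId _ _) ⟨RingHom.injective _, (hb x).2⟩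
      exact ⟨Module.Finite.equiv e.toLinearEquiv, Algebra.IsSeparable.of_algHom _ _ e.symm.toAlgHom⟩
    haveI : UniversallyInjective f := by
      have hiff : UniversallyInjective f ↔
          Function.Injective f ∧ ∀ x, (f.residueFieldMap x).hom.IsPurelyInseparable :=
        (tfae_universallyInjective f).out 0 2
      refine hiff.2 ⟨fun a b hab => (h b).1 a hab, fun x => ?_⟩
      letI := (f.residueFieldMap x).hom.toAlgebra
      exact (AlgEquiv.isPurelyInseparable (AlgEquiv.ofBijective (Algebra.ofId (Y.residueField (f x)) (X.residueField x))
        ⟨RingHom.injective _, (hb x).2⟩) :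
        IsPurelyInseparable (Y.residueField (f x)) (X.residueField x))
    haveI : Surjective (pullback.diagonal f) := (UniversallyInjective.iff_diagonal f).mp ‹_›
    haveI : IsOpenImmersion (pullback.diagonal f) := inferInstance
    haveI : Epi (pullback.diagonal f).base :=
      (TopCat.epi_iff_surjective _).mpr (pullback.diagonal f).surjective
    haveI : IsIso (pullback.diagonal f) := IsOpenImmersion.isIso _
    exact (pullback.isIso_diagonal_iff f).mp ‹_›

end Groth.Agent.S5017
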