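import Groth.Statements.S5024
import Mathlib
import Groth.Agent.GeomProp.SmoothLocal
import Groth.Agent.FlatDepth.CompDescent
-- import your own Groth.Agent.* helpers here

set_option autoImplicit false
universe u
open CategoryTheory CategoryTheory.Limits AlgebraicGeometry TopologicalSpace
open Unram17

namespace Groth.Agent.S5024

/-- Let Y be locally Noetherian and f : X ⟶ Y locally of finite type, smooth on an open neighbourhood of
a point x with image y. Then for every n the local ring of X at x has Serre's property (S_n),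
respectively (R_n), if and only if the local ring of Y at y has it. -/
theorem result {X Y : Scheme.{u}} (f : X ⟶ Y)
    [IsLocallyNoetherian Y] [LocallyOfFiniteType f] (x : ↥X)
    (hx : ∃ U : X.Opens, x ∈ U ∧ Smooth (U.ι ≫ f)) (n : ℕ) :
    (LocCoh.HasSk n ↑(X.presheaf.stalk x) ↑(X.presheaf.stalk x) ↔
        LocCoh.HasSk n ↑(Y.presheaf.stalk (f.base x)) ↑(Y.presheaf.stalk (f.base x))) ∧
      (LocCoh.HasRk n ↑(X.presheaf.stalk x) ↔ LocCoh.HasRk n ↑(Y.presheaf.stalk (f.base x))) := by
  haveI : LocallyOfFinitePresentation f := LocallyOfFinitePresentation.iff_locallyOfFiniteType.2 inferInstance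
  obtain ⟨A, B, _, _, _, _, hA, q, _, eY, eX, -⟩ := GeomProp.exists_local_model f x (GeomProp.mem_smoothLocus_of_nhd f x hx)
  haveI := hA inferInstance
  haveI := GeomProp.isNoetherianRing_of_smooth A B
  haveI : IsNoetherianRing (Localization.AtPrime q) := IsLocalization.isNoetherianRing q.primeCompl _ inferInstance
  haveI : IsNoetherianRing (Localization.AtPrime (q.comap (algebraMap A B))) :=
    IsLocalization.isNoetherianRing (q.comap (algebraMap A B)).primeCompl _ inferInstance
  haveI : IsNoetherianRing (X.presheaf.stalk x) := isNoetherianRing_of_ringEquiv _ eX.symm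
  haveI : IsNoetherianRing (Y.presheaf.stalk (f.base x)) := isNoetherianRing_of_ringEquiv _ eY.symm
  refine ⟨⟨fun h => ?_, fun h => ?_⟩, ⟨fun h => ?_, fun h => ?_⟩⟩
  · exact FlatDepth.hasSk_of_equiv n eY.symm ((GeomProp.hasSk_iff_of_smooth (A := A) q n).1 (FlatDepth.hasSk_of_equiv n eX h))
  · exact FlatDepth.hasSk_of_equiv n eX.symm ((GeomProp.hasSk_iff_of_smooth (A := A) q n).2 (FlatDepth.hasSk_of_equiv n eY h))
  · exact GeomProp.hasRk_of_equiv n eY.symm ((GeomProp.hasRk_iff_of_smooth (A := A) q n).1 (GeomProp.hasRk_of_equiv n eX h))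
  · exact GeomProp.hasRk_of_equiv n eX.symm ((GeomProp.hasRk_iff_of_smooth (A := A) q n).2 (GeomProp.hasRk_of_equiv n eY h))

end Groth.Agent.S5024
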