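import Groth.Statements.S5025
import Mathlib
import Groth.Agent.GeomProp.SmoothLocal
import Groth.Agent.FlatDepth.CompDescent
-- import your own Groth.Agent.* helpers here

set_option autoImplicit false
universe u
open CategoryTheory CategoryTheory.Limits AlgebraicGeometry TopologicalSpace
open Unram17

namespace Groth.Agent.S5025

/-- Let Y be locally Noetherian and f : X ⟶ Y locally of finite type, smooth on an open neighbourhood of
a point x with image y. Then the local rings of X at x and of Y at y have the same codepth (Krull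
dimension minus depth); written without subtraction: dim O_{X,x} + depth O_{Y,y} = dim O_{Y,y} +
depth O_{X,x}. -/
theorem result {X Y : Scheme.{u}} (f : X ⟶ Y)
    [IsLocallyNoetherian Y] [LocallyOfFiniteType f] (x : ↥X)
    (hx : ∃ U : X.Opens, x ∈ U ∧ Smooth (U.ι ≫ f)) :
    ringKrullDim ↑(X.presheaf.stalk x) +
        ((LocCoh.depth ↑(Y.presheaf.stalk (f.base x)) ↑(Y.presheaf.stalk (f.base x)) : ℕ∞) : WithBot ℕ∞) =
      ringKrullDim ↑(Y.presheaf.stalk (f.base x)) +
        ((LocCoh.depth ↑(X.presheaf.stalk x) ↑(X.presheaf.stalk x) : ℕ∞) : WithBot ℕ∞) := by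
  haveI : LocallyOfFinitePresentation f := LocallyOfFinitePresentation.iff_locallyOfFiniteType.2 inferInstance
  obtain ⟨_, _, h3, h4⟩ := GeomProp.stalk_setup f x (GeomProp.mem_smoothLocus_of_nhd f x hx)
  letI := (f.stalkMap x).hom.toAlgebra
  haveI : IsLocalHom (algebraMap (Y.presheaf.stalk (f.base x)) (X.presheaf.stalk x)) :=
    inferInstanceAs (IsLocalHom (f.stalkMap x).hom)
  haveI : Module.Flat (Y.presheaf.stalk (f.base x)) (X.presheaf.stalk x) := h3
  haveI hF : IsRegularLocalRing (↑(X.presheaf.stalk x) ⧸ (IsLocalRing.maximalIdeal ↑(Y.presheaf.stalk (f.base x))).map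
      (algebraMap (Y.presheaf.stalk (f.base x)) (X.presheaf.stalk x))) := h4
  obtain ⟨c, e, hc, he, hce⟩ := CMFlat.dims (R := Y.presheaf.stalk (f.base x)) (S := X.presheaf.stalk x)
  haveI := CMFlat.isCohenMacaulayLocalRing_of_isRegularLocalRing (↑(X.presheaf.stalk x) ⧸
    (IsLocalRing.maximalIdeal ↑(Y.presheaf.stalk (f.base x))).map
      (algebraMap (Y.presheaf.stalk (f.base x)) (X.presheaf.stalk x)))
  have hd := LocCoh.IsCohenMacaulayLocalRing.supportDim_eq_depth (R := ↑(X.presheaf.stalk x) ⧸
    (IsLocalRing.maximalIdeal ↑(Y.presheaf.stalk (f.base x))).map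
      (algebraMap (Y.presheaf.stalk (f.base x)) (X.presheaf.stalk x)))
  rw [Module.supportDim_self_eq_ringKrullDim] at hd
  rw [hc, hce, FlatDepth.depth_eq_add (R := Y.presheaf.stalk (f.base x)) (S := X.presheaf.stalk x), WithBot.coe_add,
    ← hd, he, Nat.cast_add]
  abel

end Groth.Agent.S5025
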