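import Groth.Statements.S5026
import Groth.Agent.EtaleCrit.Params
import Groth.Agent.S2790
import Mathlib

set_option autoImplicit false
universe u
open Unram17

namespace Groth.Agent.S5026

/-- Let k be a field, A a k-algebra of finite type equipped with a k-algebra map from the polynomial
ring in n variables (images g_i of the variables), p a prime of A such that Spec A has local
dimension n at p, r the Krull dimension of the local ring A_p, and suppose g_i ∈ p for the indices i
< r. Then A is etale at p over the polynomial ring if and only if the images of the g_i with i < r
generate the maximal ideal of A_p and the differentials of the residue classes of the g_i with i ≥ r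
generate the module of differentials of the residue field κ(p) over k. (The published statement adds
that these conditions imply that A is smooth at p over k and that κ(p) is separable over k; this row
does not state that consequence.) -/
theorem result (k A : Type u) [Field k]
    [CommRing A] [Algebra k A] [Algebra.FiniteType k A] (n r : ℕ) [Algebra (MvPolynomial (Fin n) k) A]
    [IsScalarTower k (MvPolynomial (Fin n) k) A] (p : Ideal A) [p.IsPrime]
    (hn : FlatMor.localDim (PrimeSpectrum A) ⟨p, inferInstance⟩ = (n : WithBot ℕ∞))
    (hr : ringKrullDim (Localization.AtPrime p) = (r : WithBot ℕ∞))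
    (hg : ∀ i : Fin n, (i : ℕ) < r → algebraMap (MvPolynomial (Fin n) k) A (MvPolynomial.X i) ∈ p) :
    Algebra.IsEtaleAt (MvPolynomial (Fin n) k) p ↔
      Ideal.span ((fun i : Fin n =>
          algebraMap A (Localization.AtPrime p) (algebraMap (MvPolynomial (Fin n) k) A (MvPolynomial.X i))) ''
            {i : Fin n | (i : ℕ) < r}) = IsLocalRing.maximalIdeal (Localization.AtPrime p) ∧
        Submodule.span p.ResidueField ((fun i : Fin n =>
          KaehlerDifferential.D k p.ResidueField
            (IsLocalRing.residue (Localization.AtPrime p)
              (algebraMap A (Localization.AtPrime p) (algebraMap (MvPolynomial (Fin n) k) A (MvPolynomial.X i))))) ''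
            {i : Fin n | r ≤ (i : ℕ)}) = ⊤ := by
  classical
  let L := Localization.AtPrime p
  haveI : IsNoetherianRing A := Algebra.FiniteType.isNoetherianRing k A
  constructor
  · intro h
    refine ⟨Groth.Agent.EtaleCrit.maximalIdeal_eq_of_etale p hr hg h, ?_⟩
    have hspan := (Groth.Agent.S2790.result k A n p hn).mp h
    rw [eq_top_iff]
    rintro z -
    obtain ⟨w, rfl⟩ := KaehlerDifferential.map_surjective_of_surjective k k L p.ResidueField
      IsLocalRing.residue_surjective z
    have hw : w ∈ Submodule.span L (Set.range fun i : Fin n => KaehlerDifferential.D k L
        (algebraMap A L (algebraMap (MvPolynomial (Fin n) k) A (MvPolynomial.X i)))) :=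
      hspan ▸ Submodule.mem_top
    induction hw using Submodule.span_induction with
    | mem w hw =>
      obtain ⟨i, rfl⟩ := hw
      rw [KaehlerDifferential.map_D]
      by_cases hi : r ≤ (i : ℕ)
      · exact Submodule.subset_span ⟨i, hi, rfl⟩
      · have h0 : algebraMap L p.ResidueField (algebraMap A L
            (algebraMap (MvPolynomial (Fin n) k) A (MvPolynomial.X i))) = 0 :=
          (IsLocalRing.residue_eq_zero_iff _).mpr
            ((IsLocalization.AtPrime.to_map_mem_maximal_iff L p _).mpr (hg i (not_le.mp hi)))
        rw [h0, map_zero]
        exact Submodule.zero_mem _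
    | zero => simp
    | add a b _ _ ha hb => rw [map_add]; exact Submodule.add_mem _ ha hb
    | smul c a _ ha =>
      rw [map_smul, ← algebraMap_smul p.ResidueField c]
      exact Submodule.smul_mem _ _ ha
  · rintro ⟨hm, hres⟩
    refine (Groth.Agent.S2790.result k A n p hn).mpr ?_
    haveI : Algebra.EssFiniteType A L := Algebra.EssFiniteType.of_isLocalization L p.primeCompl
    haveI : Algebra.EssFiniteType k L := Algebra.EssFiniteType.comp k A L
    haveI : Module.Finite L (KaehlerDifferential k L) := inferInstance
    refine Groth.Agent.EtaleCrit.span_of_residue (k := k) (L := L) _ {i : Fin n | (i : ℕ) < r}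
      {i : Fin n | r ≤ (i : ℕ)} hm.ge (fun i hi => ?_) hres
    exact (IsLocalization.AtPrime.to_map_mem_maximal_iff L p _).mpr (hg i hi)

end Groth.Agent.S5026
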