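import Groth.Statements.S5029
import Groth.Agent.CycPB.VBundle
import Mathlib.AlgebraicGeometry.Morphisms.Smooth

set_option autoImplicit false
universe u
open CategoryTheory CategoryTheory.Limits AlgebraicGeometry TopologicalSpace
open Unram17

namespace Groth.Agent.S5029

/-- Let S be a scheme and E a quasi-coherent O_S-module that is finite locally free. If A is a
quasi-coherent O_S-algebra which is the symmetric algebra of E (through j : E ⟶ A), then the
structure morphism of the relative spectrum of A, i.e. of the vector bundle V(E), is smooth. -/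
theorem result {S : Scheme.{u}} (E : S.Modules) (hE : Coh.IsQCoh E)
    (hlf : FlatMod.IsFinLocFree E) (A : RelSpec.QCAlg S) (j : E ⟶ A.toModule) (hA : RelSpec.IsSymAlg E A j) :
    Smooth A.π := by
  have key : ∀ x : S, ∃ (V : S.Opens) (n : ℕ), x ∈ V ∧ Groth.Agent.CycPB.AffChart A.π V n := fun x => by
    obtain ⟨W, n, hxW, ⟨e⟩⟩ := hlf x
    obtain ⟨V, hV, hxV, hVW⟩ := exists_isAffineOpen_mem_and_subset (X := S) (U := W) hxW
    obtain ⟨b⟩ := Groth.Agent.CycPB.exists_basis_of_free e hV hVW hE
    obtain ⟨θ, hθ, hC, -⟩ := Groth.Agent.CycPB.exists_polyEquiv hE hA hV b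
    exact ⟨V, n, hxV, Groth.Agent.CycPB.affChart_of_poly A hV θ hθ hC⟩
  choose V n hx hc using key
  have hA1 : ∀ (m : ℕ) (T : Scheme.{u}), Smooth (AffineSpace (ULift.{u} (Fin m)) T ↘ T) := fun m T => by
    haveI : MorphismProperty.RespectsIso @Smooth.{u} :=
      HasRingHomProperty.eq_affineLocally (P := @Smooth.{u}) ▸
        affineLocally_respectsIso (P := RingHom.Smooth) RingHom.Smooth.propertyIsLocal.respectsIso
    refine MorphismProperty.pullback_fst (P := @Smooth) _ _ ?_
    have := isIso_of_isTerminal specULiftZIsTerminal.{u} terminalIsTerminal (terminal.from _)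
    rw [← terminal.comp_from (Spec.map (CommRingCat.ofHom MvPolynomial.C)),
      MorphismProperty.cancel_right_of_respectsIso (P := @Smooth), HasRingHomProperty.Spec_iff (P := @Smooth)]
    exact RingHom.smooth_algebraMap.2 (show Algebra.Smooth (ULift.{u} ℤ) (MvPolynomial (ULift.{u} (Fin m)) (ULift.{u} ℤ))
      from ⟨inferInstance, inferInstance⟩)
  rw [IsZariskiLocalAtTarget.iff_of_iSup_eq_top (P := @Smooth) V (top_unique fun x _ => Opens.mem_iSup.2 ⟨x, hx x⟩)]
  intro x
  obtain ⟨k, hk⟩ := hc x
  rw [← (hk.flip.isoIsPullback _ _ (isPullback_morphismRestrict A.π (V x))).inv_hom_id_assoc (A.π ∣_ (V x))]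
  have h2 := hk.flip.isoIsPullback_hom_fst _ _ (isPullback_morphismRestrict A.π (V x))
  rw [h2]
  haveI := hA1 (n x) (V x)
  infer_instance

end Groth.Agent.S5029
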