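import Groth.Statements.S5034
import Mathlib
-- import your own Groth.Agent.* helpers here

set_option autoImplicit false
universe u
open Hensel

namespace Groth.Agent.S5034

/-- a') implies a): let R be a local ring such that for every monic polynomial F over R the quotient
ring R[T]/(F) is isomorphic, as a ring, to a finite product of local rings. Then R is henselian. -/
theorem result (R : Type u) [CommRing R] [IsLocalRing R]
    (h : ∀ F : Polynomial R, F.Monic →
      ∃ (ι : Type u) (_ : Fintype ι) (A : ι → Type u) (_ : ∀ i, CommRing (A i)),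
        (∀ i, IsLocalRing (A i)) ∧ Nonempty (AdjoinRoot F ≃+* (∀ i, A i))) :
    HenselianLocalRing R := by
  classical
  set m := IsLocalRing.maximalIdeal R with hmdef
  refine ⟨fun f hf a₀ ha₀ hd => ?_⟩
  let S := AdjoinRoot f
  haveI : Module.Finite R S := hf.finite_adjoinRoot
  let x : S := AdjoinRoot.root f
  obtain ⟨ι, _, A, _, hA, ⟨φ⟩⟩ := h f hf
  let c : ∀ i, A i := fun i => if φ (x - algebraMap R S a₀) i ∈ IsLocalRing.maximalIdeal (A i) then 1 else 0
  let e : S := φ.symm c
  have he : IsIdempotentElem e := by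
    refine IsIdempotentElem.map ?_ φ.symm
    funext i
    by_cases hi : φ (x - algebraMap R S a₀) i ∈ IsLocalRing.maximalIdeal (A i) <;> simp [c, hi]
  let K : Ideal S := Ideal.span {1 - e}
  -- the residue point
  let θ : S →ₐ[R] IsLocalRing.ResidueField R :=
    AdjoinRoot.liftAlgHom f (Algebra.ofId R _) (IsLocalRing.residue R a₀) (by
      change Polynomial.eval₂ (algebraMap R _) _ f = 0
      rw [IsLocalRing.ResidueField.algebraMap_eq, Polynomial.eval₂_at_apply, IsLocalRing.residue_eq_zero_iff]
      exact ha₀)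
  have hθx : θ x = IsLocalRing.residue R a₀ := AdjoinRoot.liftAlgHom_root _ _ _ _
  have hθe : θ e = 1 := by
    rcases (IsIdempotentElem.iff_eq_zero_or_one.1 (he.map θ)) with h0 | h0
    · exfalso
      -- `x - a₀ + e` is a unit
      have hu : IsUnit (x - algebraMap R S a₀ + e) := by
        rw [← MulEquiv.isUnit_map φ, map_add, Pi.isUnit_iff]
        intro i
        rw [Pi.add_apply]
        simp only [e, RingEquiv.apply_symm_apply, c]
        by_cases hi : φ (x - algebraMap R S a₀) i ∈ IsLocalRing.maximalIdeal (A i)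
        · rw [if_pos hi]
          refine IsLocalRing.notMem_maximalIdeal.1 fun h1 => ?_
          have := Ideal.sub_mem _ h1 hi
          rw [add_sub_cancel_left] at this
          exact (IsLocalRing.mem_maximalIdeal _).1 this isUnit_one
        · rw [if_neg hi, add_zero]
          exact IsLocalRing.notMem_maximalIdeal.1 hi
      have h1 := hu.map θ
      rw [map_add, map_sub, hθx, AlgHom.commutes, IsLocalRing.ResidueField.algebraMap_eq, sub_self, zero_add, h0] at h1
      exact not_isUnit_zero h1
    · exact h0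
  let mk : S →ₐ[R] S ⧸ K := Ideal.Quotient.mkₐ R K
  haveI : Module.Finite R (S ⧸ K) := Module.Finite.of_surjective mk.toLinearMap Ideal.Quotient.mk_surjective
  let θK : (S ⧸ K) →ₐ[R] IsLocalRing.ResidueField R := Ideal.Quotient.liftₐ K θ fun z hz => by
    obtain ⟨d, rfl⟩ := Ideal.mem_span_singleton.1 hz
    rw [map_mul, map_sub, map_one, hθe, sub_self, zero_mul]
  haveI : Nontrivial (S ⧸ K) := θK.toRingHom.domain_nontrivial
  haveI : Module.Projective R (S ⧸ K) := by
    haveI : Module.Free R S := hf.free_adjoinRoot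
    let s : (S ⧸ K) →ₗ[R] S := (Submodule.liftQ K (LinearMap.toSpanSingleton S S e) (by
      rw [Submodule.span_le, Set.singleton_subset_iff, SetLike.mem_coe, LinearMap.mem_ker,
        LinearMap.toSpanSingleton_apply, smul_eq_mul, sub_mul, one_mul, he.eq, sub_self])).restrictScalars R
    refine Module.Projective.of_split s mk.toLinearMap (LinearMap.ext fun z => ?_)
    obtain ⟨w, rfl⟩ := Ideal.Quotient.mk_surjective z
    change Ideal.Quotient.mk K (w • e) = Ideal.Quotient.mk K w
    rw [smul_eq_mul, Ideal.Quotient.eq, Ideal.mem_span_singleton]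
    exact ⟨-w, by ring⟩
  haveI : Module.FinitePresentation R (S ⧸ K) := Module.finitePresentation_of_projective R _
  haveI : Module.Free R (S ⧸ K) := Module.free_of_flat_of_isLocalRing
  -- `x ≡ a₀` in the fibre
  set y := mk x
  let z : S := x - algebraMap R S a₀
  have hze : ∀ w : S, IsUnit (z * e * w + 1) := fun w => by
    rw [← MulEquiv.isUnit_map φ, map_add, map_one, map_mul, map_mul, Pi.isUnit_iff]
    intro i
    simp only [e, RingEquiv.apply_symm_apply, c, Pi.add_apply, Pi.mul_apply, Pi.one_apply]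
    by_cases hi : φ (x - algebraMap R S a₀) i ∈ IsLocalRing.maximalIdeal (A i)
    · rw [if_pos hi, mul_one]
      refine IsLocalRing.notMem_maximalIdeal.1 fun h1 => ?_
      have := Ideal.sub_mem _ h1 (Ideal.mul_mem_right (φ w i) _ hi)
      rw [add_sub_cancel_left] at this
      exact (IsLocalRing.mem_maximalIdeal _).1 this isUnit_one
    · rw [if_neg hi, mul_zero, zero_mul, zero_add]
      exact isUnit_one
  have hmke : mk e = 1 := by
    rw [← map_one mk]; exact Ideal.Quotient.eq.2 (by rw [Ideal.mem_span_singleton]; exact ⟨-1, by ring⟩)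
  have hjac : mk z ∈ Ideal.jacobson (⊥ : Ideal (S ⧸ K)) := Ideal.mem_jacobson_bot.2 fun w => by
    obtain ⟨w, rfl⟩ := Ideal.Quotient.mk_surjective w
    have h1 := (hze w).map mk
    rwa [map_add, map_one, map_mul, map_mul, hmke, mul_one] at h1
  obtain ⟨q, hq⟩ := (Polynomial.dvd_iff_isRoot (a := a₀)).2
    (show (f - Polynomial.C (f.eval a₀)).IsRoot a₀ by simp [Polynomial.IsRoot])
  have hqd : q.eval a₀ = f.derivative.eval a₀ := by
    have := congrArg (fun P : Polynomial R => P.derivative.eval a₀) hq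
    simp at this
    exact this.symm
  have hfib : mk z ∈ m.map (algebraMap R (S ⧸ K)) := by
    have h1 : Polynomial.aeval y f = 0 := by
      rw [Polynomial.aeval_algHom_apply, AdjoinRoot.aeval_eq, AdjoinRoot.mk_self, map_zero]
    have h2 := congrArg (Polynomial.aeval y) hq
    rw [map_sub, h1, Polynomial.aeval_C, map_mul, map_sub, Polynomial.aeval_X, Polynomial.aeval_C, zero_sub] at h2
    have hu : IsUnit (Polynomial.aeval y q) := by
      have h3 : IsUnit (algebraMap R (S ⧸ K) (q.eval a₀)) := (hqd ▸ hd).map _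
      obtain ⟨k, hk⟩ := Polynomial.sub_dvd_eval_sub y (algebraMap R (S ⧸ K) a₀) (q.map (algebraMap R (S ⧸ K)))
      rw [Polynomial.eval_map_algebraMap, Polynomial.eval_map, Polynomial.eval₂_at_apply] at hk
      have hyz : y - algebraMap R (S ⧸ K) a₀ = mk z := by simp [y, z, map_sub, AlgHom.commutes]
      rw [hyz, sub_eq_iff_eq_add] at hk
      rw [hk]
      obtain ⟨u, hu⟩ := h3
      rw [← hu, show mk z * k + (u : S ⧸ K) = (mk z * (k * ↑u⁻¹) + 1) * u by
        rw [add_mul, one_mul, ← mul_assoc, mul_assoc (mk z * k), Units.inv_mul, mul_one]]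
      exact (Ideal.mem_jacobson_bot.1 hjac _).mul u.isUnit
    have hyz : y - algebraMap R (S ⧸ K) a₀ = mk z := by simp [y, z, map_sub, AlgHom.commutes]
    rw [hyz] at h2
    have h4 : mk z * Polynomial.aeval y q ∈ m.map (algebraMap R (S ⧸ K)) := by
      rw [← h2]; exact Ideal.neg_mem_iff _ |>.2 (Ideal.mem_map_of_mem _ ha₀)
    exact (Ideal.mul_unit_mem_iff_mem _ hu).1 h4
  have hsurj : (⊤ : Submodule R (S ⧸ K)) ≤ LinearMap.range (Algebra.linearMap R (S ⧸ K)) := by
    refine Submodule.le_of_le_smul_of_le_jacobson_bot Module.Finite.fg_top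
      (IsLocalRing.maximalIdeal_le_jacobson (⊥ : Ideal R)) fun w _ => ?_
    obtain ⟨w, rfl⟩ := Ideal.Quotient.mk_surjective w
    obtain ⟨p, rfl⟩ := AdjoinRoot.mk_surjective w
    refine Submodule.mem_sup.2 ⟨algebraMap R (S ⧸ K) (p.eval a₀), ⟨p.eval a₀, rfl⟩,
      mk (AdjoinRoot.mk f p) - algebraMap R (S ⧸ K) (p.eval a₀), ?_, by
        rw [add_sub_cancel]; rfl⟩
    rw [Ideal.smul_top_eq_map, Submodule.restrictScalars_mem, ← AdjoinRoot.aeval_eq, ← Polynomial.aeval_algHom_apply]
    obtain ⟨k, hk⟩ := Polynomial.sub_dvd_eval_sub y (algebraMap R (S ⧸ K) a₀) (p.map (algebraMap R (S ⧸ K)))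
    rw [Polynomial.eval_map_algebraMap, Polynomial.eval_map, Polynomial.eval₂_at_apply] at hk
    rw [hk, show y - algebraMap R (S ⧸ K) a₀ = mk z by simp [y, z, map_sub, AlgHom.commutes]]
    exact Ideal.mul_mem_right _ _ hfib
  obtain ⟨r, hr⟩ := hsurj (Submodule.mem_top : y ∈ _)
  have hr' : algebraMap R (S ⧸ K) r = y := hr
  refine ⟨r, FaithfulSMul.algebraMap_injective R (S ⧸ K) ?_, ?_⟩
  · rw [map_zero, ← Polynomial.eval₂_at_apply, ← Polynomial.aeval_def, hr', Polynomial.aeval_algHom_apply,
      AdjoinRoot.aeval_eq, AdjoinRoot.mk_self, map_zero]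
  · have h1 := congrArg θK hr'
    rw [AlgHom.commutes, IsLocalRing.ResidueField.algebraMap_eq,
      show θK y = θ x from rfl, hθx] at h1
    rw [← IsLocalRing.residue_eq_zero_iff, map_sub, h1, sub_self]

end Groth.Agent.S5034
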