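import Groth.Statements.S5035
import Mathlib
import Groth.Agent.Hensel.LocalPiece
-- import your own Groth.Agent.* helpers here

set_option autoImplicit false
universe u
open Hensel

namespace Groth.Agent.S5035

/-- a) iff c') (affine form): a local ring R is henselian if and only if, for every R-algebra S of
finite type and every prime q of S lying over the maximal ideal of R such that S is quasi-finite
over R at q, the local ring S_q is a finitely generated R-module. -/
theorem result (R : Type u) [CommRing R] [IsLocalRing R] :
    HenselianLocalRing R ↔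
      ∀ (S : Type u) [CommRing S] [Algebra R S] [Algebra.FiniteType R S] (q : Ideal S) [q.IsPrime],
        q.LiesOver (IsLocalRing.maximalIdeal R) → Algebra.QuasiFiniteAt R q →
          Module.Finite R (Localization.AtPrime q) := by
  refine ⟨fun _ S _ _ _ q _ _ _ => Hensel.finite_atPrime R S q, fun h => ?_⟩
  refine Hensel.henselianLocalRing_of_retraction R fun S _ _ _ q _ hq hsurj => ?_
  haveI := hq
  haveI : Algebra.QuasiFiniteAt R q := by
    haveI : Algebra.QuasiFinite R S := inferInstance
    exact inferInstanceAs (Algebra.QuasiFinite R (Localization q.primeCompl))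
  haveI := h S q hq inferInstance
  haveI : Algebra.FormallyUnramified S (Localization.AtPrime q) :=
    Algebra.FormallyUnramified.of_isLocalization q.primeCompl
  haveI : Algebra.FormallyUnramified R (Localization.AtPrime q) := Algebra.FormallyUnramified.comp R S _
  haveI hflat : Module.Flat R (Localization.AtPrime q) :=
    haveI : Module.Flat S (Localization.AtPrime q) := IsLocalization.flat _ q.primeCompl
    Module.Flat.trans R S _
  haveI : IsLocalHom (algebraMap R (Localization.AtPrime q)) := ⟨fun r hr => by
    by_contra hn
    rw [← mem_nonunits_iff, ← IsLocalRing.mem_maximalIdeal, q.over_def (IsLocalRing.maximalIdeal R)] at hn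
    rw [IsScalarTower.algebraMap_apply R S (Localization.AtPrime q),
      IsLocalization.AtPrime.isUnit_to_map_iff _ q] at hr
    exact hr hn⟩
  haveI : Module.FaithfullyFlat R (Localization.AtPrime q) := Module.FaithfullyFlat.of_flat_of_isLocalHom
  have htop : (⊤ : Submodule R (Localization.AtPrime q)) ≤ LinearMap.range (Algebra.linearMap R _) := by
    refine Submodule.le_of_le_smul_of_le_jacobson_bot Module.Finite.fg_top
      (IsLocalRing.maximalIdeal_le_jacobson ⊥) ?_
    intro x _
    obtain ⟨r, hr⟩ := hsurj (IsLocalRing.residue (Localization.AtPrime q) x)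
    refine Submodule.mem_sup.2 ⟨algebraMap R _ r, ⟨r, rfl⟩, x - algebraMap R _ r, ?_, by abel⟩
    rw [Ideal.smul_top_eq_map, Submodule.restrictScalars_mem, Algebra.FormallyUnramified.map_maximalIdeal,
      ← IsLocalRing.residue_eq_zero_iff, map_sub, sub_eq_zero, ← hr,
      IsScalarTower.algebraMap_apply R (Localization.AtPrime q) q.ResidueField]
    rfl
  let e : R ≃ₐ[R] Localization.AtPrime q := AlgEquiv.ofBijective (Algebra.ofId R _)
    ⟨FaithfulSMul.algebraMap_injective R _, fun x => htop (Submodule.mem_top (x := x))⟩
  exact ⟨e.symm.toAlgHom.comp (IsScalarTower.toAlgHom R S _)⟩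

end Groth.Agent.S5035
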