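import Groth.Statements.S5039
-- import your own Groth.Agent.* helpers here
import Groth.Agent.GRingCpl.HenselReduced
import Groth.Agent.S0567
import Groth.Agent.Hensel.HenselizationMore

set_option autoImplicit false
universe u
open Hensel

namespace Groth.Agent.S5039

/-- Let R be a Noetherian local ring and S its henselization. Then S is universally Japanese if and only
if R is. -/
theorem result (R S : Type u) [CommRing R] [IsLocalRing R] [IsNoetherianRing R]
    [CommRing S] [IsLocalRing S] [Algebra R S] [IsLocalHom (algebraMap R S)] [Hensel.IsHenselization R S] :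
    CAlg.IsUniversallyJapanese S ↔ CAlg.IsUniversallyJapanese R := by
  haveI : IsNoetherianRing S := (Hensel.henselization_isNoetherianRing_iff R S).1 inferInstance
  haveI := Hensel.henselization_flat R S
  have hm := Hensel.henselization_map_maximalIdeal R S
  have hU := Hensel.henselization_unramifiedFibres R S
  have hS := Hensel.henselization_hasEtaleStages R S
  have key : ∀ (T : Type u) [CommRing T] [IsLocalRing T] [IsNoetherianRing T],
      CAlg.IsUniversallyJapanese T ↔ EGA4.HasGeomReducedFormalFibres T := fun T _ _ _ =>
    ⟨fun h => GRingCpl.hasGeomReduced_of_isNagata T ((S0567.result T).mpr ⟨inferInstance, h⟩),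
      fun h => ((S0567.result T).mp (Nagata.isNagata_of_geomReducedFormalFibres h)).2⟩
  rw [key S, key R]
  exact ⟨GRingCpl.hasGeomReducedFormalFibres_descent hU hS,
    GRingCpl.hasGeomReducedFormalFibres_of_etaleStages hm hU hS⟩

end Groth.Agent.S5039
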