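import Groth.Statements.S5042
-- import your own Groth.Agent.* helpers here
import Groth.Agent.S2045
import Groth.Agent.S2773
import Groth.Agent.GRingCpl.QuasiExc

set_option autoImplicit false
universe u
open Hensel

namespace Groth.Agent.S5042

/-- The henselization S of an excellent local ring R is excellent. -/
theorem result (R S : Type u) [CommRing R] [IsLocalRing R]
    [CommRing S] [IsLocalRing S] [Algebra R S] [IsLocalHom (algebraMap R S)] [Hensel.IsHenselization R S]
    (h : EGA4.IsExcellent R) : EGA4.IsExcellent S := by
  haveI := h.1
  haveI : IsNoetherianRing S := (Groth.Agent.Hensel.henselization_isNoetherianRing_iff R S).1 inferInstance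
  have hG : CAlg.IsGRing S := Groth.Agent.S2045.result (R := R) h.2.2.1
  haveI : Finite (MaximalSpectrum S) := by
    haveI : Subsingleton (MaximalSpectrum S) := ⟨fun a b => MaximalSpectrum.ext
      ((IsLocalRing.eq_maximalIdeal a.isMaximal).trans (IsLocalRing.eq_maximalIdeal b.isMaximal).symm)⟩
    infer_instance
  exact ⟨inferInstance, Groth.Agent.S2773.result R S h.2.1, hG,
    Groth.Agent.GRingCpl.isJ2_of_isGRing_of_semilocal S inferInstance hG⟩

end Groth.Agent.S5042
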