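import Groth.Statements.S5048
import Mathlib
import Groth.Agent.Unibranch.ComponentDim
import Groth.Agent.GenFibre.Basic
-- import your own Groth.Agent.* helpers here

set_option autoImplicit false
open CategoryTheory AlgebraicGeometry
universe u
open Unram

namespace Groth.Agent.S5048

/-- Let Y be an irreducible scheme with generic point η and f : X ⟶ Y flat, locally of finite type and
locally quasi-finite. Then a point x of X maps to η if and only if its closure is an irreducible
component of X; thus the irreducible components of X are in canonical bijection with the fibre over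
η. -/
theorem result {X Y : Scheme.{u}} [IrreducibleSpace ↥Y] (f : X ⟶ Y)
    [Flat f] [LocallyOfFiniteType f] [LocallyQuasiFinite f] (x : X) :
    f.base x = genericPoint Y ↔ closure ({x} : Set ↥X) ∈ irreducibleComponents ↥X := by
  have hgen : ∀ z : X, z ⤳ x → f.base x = genericPoint Y → f.base z = f.base x := fun z hz hx =>
    ((hz.map f.continuous).antisymm (hx ▸ genericPoint_specializes (f.base z))).eq
  refine ⟨fun hx => Groth.Agent.Unibranch.IsMaxPt.mem_irreducibleComponents fun z hz =>
    Groth.Agent.GenFibre.eq_of_quasiFiniteAt f (f.quasiFiniteAt x) (hgen z hz hx) (Or.inl hz), fun h => ?_⟩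
  obtain ⟨ζ, hζ, e⟩ := Groth.Agent.Unibranch.exists_isMaxPt h
  obtain rfl : x = ζ := (Groth.Agent.Unibranch.eq_of_closure_eq e).symm
  obtain ⟨z, hz, he⟩ := Flat.generalizingMap f (genericPoint_specializes (f.base x))
  rw [← he, hζ z hz]

end Groth.Agent.S5048
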