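import Groth.Statements.S5049
import Mathlib
import Groth.Agent.Unibranch.ComponentDim
import Groth.Agent.GenFibre.Basic
-- import your own Groth.Agent.* helpers here

set_option autoImplicit false
open CategoryTheory AlgebraicGeometry
universe u
open Unram

namespace Groth.Agent.S5049

/-- Let f : X ⟶ Y be flat, locally of finite type and locally quasi-finite. If the irreducible
components of Y form a locally finite family of subsets, then so do the irreducible components of X. -/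
theorem result {X Y : Scheme.{u}} (f : X ⟶ Y)
    [Flat f] [LocallyOfFiniteType f] [LocallyQuasiFinite f]
    (hY : LocallyFinite (fun Z : ↥(irreducibleComponents ↥Y) => (Z : Set ↥Y))) :
    LocallyFinite (fun Z : ↥(irreducibleComponents ↥X) => (Z : Set ↥X)) := by
  intro x
  obtain ⟨U, hU, hxU, -⟩ := exists_isAffineOpen_mem_and_subset (X := Y) (x := f.base x) (U := ⊤) trivial
  obtain ⟨V, hV, hxV, hVU⟩ := exists_isAffineOpen_mem_and_subset (X := X) (x := x) (U := f ⁻¹ᵁ U) hxU
  obtain ⟨W₀, hW₀, hfin⟩ := hY (f.base x)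
  obtain ⟨W, hW, hWo, hxW⟩ := mem_nhds_iff.1 hW₀
  refine ⟨(V : Set X) ∩ f.base ⁻¹' W, (V.2.inter (hWo.preimage f.continuous)).mem_nhds ⟨hxV, hxW⟩, ?_⟩
  let g := f.resLE U V hVU
  haveI : IsAffine (V : Scheme.{u}) := hV
  haveI : IsAffine (U : Scheme.{u}) := hU
  haveI : LocallyQuasiFinite g := inferInstance
  let B : Set X := ⋃ Z ∈ {Z : irreducibleComponents Y | ((Z : Set Y) ∩ W₀).Nonempty},
    {z : X | z ∈ V ∧ IsGenericPoint (f.base z) (Z : Set Y)}
  have hB : B.Finite := Set.Finite.biUnion hfin fun Z _ => by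
    rcases Set.eq_empty_or_nonempty {z : X | z ∈ V ∧ IsGenericPoint (f.base z) (Z : Set Y)} with h | ⟨a, haV, ha⟩
    · exact h ▸ Set.finite_empty
    refine ((g.finite_preimage_singleton ⟨f.base a, hVU haV⟩).image V.ι).subset ?_
    rintro z ⟨hzV, hz⟩
    refine ⟨⟨z, hzV⟩, Subtype.ext ?_, rfl⟩
    show (g.base (⟨z, hzV⟩ : V)).1 = f.base a
    rw [AlgebraicGeometry.Scheme.Hom.coe_resLE_apply]
    exact hz.eq ha
  refine Set.Finite.subset ((hB.image fun ζ => closure ({ζ} : Set X)).preimage Subtype.val_injective.injOn) ?_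
  rintro ⟨T, hT⟩ ⟨t, htT, htV, htW⟩
  obtain ⟨ζ, hζ, rfl⟩ := Groth.Agent.Unibranch.exists_isMaxPt hT
  refine ⟨ζ, ?_, rfl⟩
  have hmax : Groth.Agent.Unibranch.IsMaxPt (f.base ζ) := fun y hy => by
    obtain ⟨z, hz, rfl⟩ := Flat.generalizingMap f hy
    rw [hζ z hz]
  have hsp : ζ ⤳ t := specializes_iff_mem_closure.mpr htT
  exact Set.mem_iUnion₂.mpr ⟨⟨_, hmax.mem_irreducibleComponents⟩,
    ⟨f.base t, (hsp.map f.continuous).mem_closure, hW htW⟩, hsp.mem_open V.2 htV, isGenericPoint_closure⟩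

end Groth.Agent.S5049
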