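import Groth.Statements.S5050
import Mathlib
-- import your own Groth.Agent.* helpers here

set_option autoImplicit false
universe u v
open CInt

namespace Groth.Agent.S5050

/-- Let A be a Noetherian ring, N a finitely generated A-module, E and F submodules of N and Q an ideal
of A. For every natural number k there is h > 0 with E ⊓ (F ⊔ Q^h N) ≤ (E ⊓ F) ⊔ Q^k N. -/
theorem result {A : Type u} [CommRing A] [IsNoetherianRing A] {N : Type v} [AddCommGroup N]
    [Module A N] [Module.Finite A N] (E F : Submodule A N) (Q : Ideal A) (k : ℕ) :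
    ∃ h : ℕ, 0 < h ∧ E ⊓ (F ⊔ Q ^ h • (⊤ : Submodule A N)) ≤ (E ⊓ F) ⊔ Q ^ k • (⊤ : Submodule A N) := by
  obtain ⟨c, hc⟩ := Ideal.exists_pow_inf_eq_pow_smul Q (E.map F.mkQ)
  refine ⟨k + c + 1, by omega, ?_⟩
  intro e he
  rw [Submodule.mem_inf] at he
  obtain ⟨he, hsum⟩ := he
  obtain ⟨f, hf, q, hq, rfl⟩ := Submodule.mem_sup.1 hsum
  have h1 : F.mkQ (f + q) ∈ Q ^ (k + c + 1) • (⊤ : Submodule A (N ⧸ F)) ⊓ E.map F.mkQ := by
    refine ⟨?_, Submodule.mem_map_of_mem he⟩
    have : F.mkQ f = 0 := by simpa using hf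
    rw [map_add, this, zero_add]
    have h2 := Submodule.mem_map_of_mem (f := F.mkQ) hq
    rw [Submodule.map_smul''] at h2
    exact Submodule.smul_mono le_rfl le_top h2
  rw [hc (k + c + 1) (by omega)] at h1
  have h3 : F.mkQ (f + q) ∈ (Q ^ k • E).map F.mkQ := by
    rw [Submodule.map_smul'']
    exact (Submodule.smul_mono (Ideal.pow_le_pow_right (by omega)) inf_le_right) h1
  obtain ⟨e', he', heq⟩ := h3
  have hF : f + q - e' ∈ F := by
    rw [← Submodule.ker_mkQ F, LinearMap.mem_ker, map_sub, heq, sub_self]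
  have hE : f + q - e' ∈ E := E.sub_mem he (Submodule.smul_le_right he')
  have : f + q = (f + q - e') + e' := by abel
  rw [this]
  exact Submodule.add_mem_sup ⟨hE, hF⟩ (Submodule.smul_mono le_rfl le_top he')

end Groth.Agent.S5050
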