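import Groth.Statements.S5051
-- import your own Groth.Agent.* helpers here
import Groth.Agent.UnibranchEtale.GeomCount

set_option autoImplicit false
open CategoryTheory AlgebraicGeometry
universe u
open Unram

namespace Groth.Agent.S5051

/-- Let f : X ⟶ Y be étale, separated and of finite type. Then y ↦ (number of points of the geometric
fibre of f at y) is lower semicontinuous on Y. -/
theorem result {X Y : Scheme.{u}} (f : X ⟶ Y) [Etale f] [IsSeparated f]
    [LocallyOfFiniteType f] [QuasiCompact f] :
    LowerSemicontinuous (fun y : Y => ENat.card ↥(MoreMor.geomFiber f y)) := by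
  haveI := UnibranchEtale.locallyQuasiFinite_of_unramified f
  have hfin : ∀ y : Y, (f ⁻¹' {y}).Finite := f.finite_preimage_singleton
  have hsc := Weighting.lowerSemicontinuous_fibreCard (f := f) hfin
  intro y c hc
  simp only [UnibranchEtale.card_geomFiber_eq_nGeomConnComp, Weighting.nGeomConnComp_eq f hfin] at hc ⊢
  lift c to ℕ using hc.ne_top
  refine Filter.Eventually.mono (hsc y (c : ℤ) ?_) fun y' hy' => ?_
  · show (c : ℤ) < _
    have hc' : c < (MoreMor.fibreIntegral f (fun _ => (1 : ℤ)) y).toNat := Nat.cast_lt.1 hc
    omega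
  · change (c : ℤ) < MoreMor.fibreIntegral f (fun _ => (1 : ℤ)) y' at hy'
    show ((c : ℕ) : ℕ∞) < _
    exact Nat.cast_lt.2 (by omega)

end Groth.Agent.S5051
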