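import Groth.Statements.S5052
-- import your own Groth.Agent.* helpers here
import Groth.Agent.UnibranchEtale.GeomCount

set_option autoImplicit false
open CategoryTheory AlgebraicGeometry
universe u
open Unram

namespace Groth.Agent.S5052

/-- Let f : X ⟶ Y be étale, separated and of finite type, and y a point of Y. The number of points of
the geometric fibre is constant on a neighbourhood of y if and only if the restriction of f over
some open neighbourhood of y is a finite morphism. -/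
theorem result {X Y : Scheme.{u}} (f : X ⟶ Y) [Etale f] [IsSeparated f]
    [LocallyOfFiniteType f] [QuasiCompact f] (y : Y) :
    (∃ U : Y.Opens, y ∈ U ∧ ∀ y' : Y, y' ∈ U → ENat.card ↥(MoreMor.geomFiber f y') = ENat.card ↥(MoreMor.geomFiber f y)) ↔
      ∃ U : Y.Opens, y ∈ U ∧ IsFinite (f ∣_ U) := by
  classical
  haveI := UnibranchEtale.locallyQuasiFinite_of_unramified f
  have hfin : ∀ y : Y, (f ⁻¹' {y}).Finite := f.finite_preimage_singleton
  have hnn : ∀ y, 0 ≤ MoreMor.fibreIntegral f (fun _ => (1 : ℤ)) y := fun y => by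
    obtain ⟨Ω, _, _, v, rfl⟩ := Weighting.exists_geomPt y
    rw [Weighting.fibreIntegral_eq f _ v (hfin _)]
    exact finsum_mem_induction (fun z : ℤ => 0 ≤ z) le_rfl (fun a b ha hb => add_nonneg ha hb) fun _ _ => zero_le_one
  have hcard : ∀ y, ENat.card ↥(MoreMor.geomFiber f y) = ((MoreMor.fibreIntegral f (fun _ => (1 : ℤ)) y).toNat : ℕ∞) := fun y => by
    rw [UnibranchEtale.card_geomFiber_eq_nGeomConnComp, Weighting.nGeomConnComp_eq f hfin]
  simp only [hcard, Nat.cast_inj]
  constructor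
  · rintro ⟨U, hyU, hU⟩
    refine ⟨U, hyU, Weighting.isFinite_restrict_of_fibreCard_eq (f := f) hfin (MoreMor.fibreIntegral f (fun _ => (1 : ℤ)) y) U
      fun y' hy' => ?_⟩
    have := hU y' hy'
    have := hnn y
    have := hnn y'
    omega
  · rintro ⟨U, hyU, hf⟩
    haveI := hf
    have key : ∀ t : U.toScheme, MoreMor.fibreIntegral f (fun _ => (1 : ℤ)) (U.ι t) = (f ∣_ U).finrank t := fun t => by
      rw [← UnibranchEtale.fibreIntegral_eq_finrank]
      obtain ⟨Ω, _, _, v, rfl⟩ := Weighting.exists_geomPt t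
      haveI := UnibranchEtale.locallyQuasiFinite_of_unramified (f ∣_ U)
      rw [← Weighting.pt_comp, Weighting.fibreIntegral_eq f _ (v ≫ U.ι) (hfin _),
        Weighting.fibreIntegral_eq (f ∣_ U) _ v ((f ∣_ U).finite_preimage_singleton _)]
      have himg : Weighting.Fib f (v ≫ U.ι) = (· ≫ (f ⁻¹ᵁ U).ι) '' Weighting.Fib (f ∣_ U) v := by
        have H := (isPullback_morphismRestrict f U).flip
        refine Set.Subset.antisymm (fun l hl => ⟨H.lift l v hl, H.lift_snd _ _ _, H.lift_fst _ _ _⟩) ?_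
        rintro _ ⟨a, ha, rfl⟩
        show (a ≫ (f ⁻¹ᵁ U).ι) ≫ f = v ≫ U.ι
        rw [Category.assoc, ← morphismRestrict_ι, ← Category.assoc]
        exact congrArg (· ≫ U.ι) ha
      rw [himg, finsum_mem_image (fun a _ b _ h => (cancel_mono (f ⁻¹ᵁ U).ι).1 h)]
    let N : U.toScheme.Opens := ⟨(f ∣_ U).finrank ⁻¹' {(f ∣_ U).finrank ⟨y, hyU⟩},
      (Scheme.Hom.isLocallyConstant_finrank (f ∣_ U)).isOpen_fiber _⟩
    refine ⟨U.ι ''ᵁ N, ⟨⟨y, hyU⟩, rfl, rfl⟩, ?_⟩
    rintro _ ⟨t, ht, rfl⟩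
    show (MoreMor.fibreIntegral f (fun _ => (1 : ℤ)) (U.ι t)).toNat = (MoreMor.fibreIntegral f (fun _ => (1 : ℤ)) (U.ι ⟨y, hyU⟩)).toNat
    rw [key t, key ⟨y, hyU⟩, show (f ∣_ U).finrank t = _ from ht]

end Groth.Agent.S5052
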