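import Groth.Statements.S5053
-- import your own Groth.Agent.* helpers here
import Groth.Agent.UnibranchEtale.GeomCount

set_option autoImplicit false
open CategoryTheory AlgebraicGeometry
universe u
open Unram

namespace Groth.Agent.S5053

/-- Let Y be a connected scheme and f : X ⟶ Y étale, separated and of finite type. Then f is finite if
and only if all geometric fibres of f have the same number of points. -/
theorem result {X Y : Scheme.{u}} [ConnectedSpace ↥Y] (f : X ⟶ Y)
    [Etale f] [IsSeparated f] [LocallyOfFiniteType f] [QuasiCompact f] :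
    IsFinite f ↔ ∃ n : ℕ∞, ∀ y : Y, ENat.card ↥(MoreMor.geomFiber f y) = n := by
  haveI := UnibranchEtale.locallyQuasiFinite_of_unramified f
  have hfin : ∀ y : Y, (f ⁻¹' {y}).Finite := f.finite_preimage_singleton
  have hsc := Weighting.lowerSemicontinuous_fibreCard (f := f) hfin
  simp only [UnibranchEtale.card_geomFiber_eq_nGeomConnComp, Weighting.nGeomConnComp_eq f hfin]
  constructor
  · intro hf
    haveI := hf
    simp only [UnibranchEtale.fibreIntegral_eq_finrank]
    obtain ⟨y₀⟩ := (inferInstance : Nonempty Y)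
    exact ⟨_, fun y => by rw [(Scheme.Hom.isLocallyConstant_finrank f).apply_eq_of_preconnectedSpace y y₀]⟩
  · rintro ⟨n, hn⟩
    obtain ⟨y₀⟩ := (inferInstance : Nonempty Y)
    obtain ⟨d, rfl⟩ : ∃ d : ℕ, (d : ℕ∞) = n := ⟨_, hn y₀⟩
    have hnn : ∀ y, 0 ≤ MoreMor.fibreIntegral f (fun _ => (1 : ℤ)) y := fun y => by
      obtain ⟨Ω, _, _, v, rfl⟩ := Weighting.exists_geomPt y
      rw [Weighting.fibreIntegral_eq f _ v (hfin _)]
      exact finsum_mem_induction (fun z : ℤ => 0 ≤ z) le_rfl (fun a b ha hb => add_nonneg ha hb) fun _ _ => zero_le_one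
    have h := Weighting.isFinite_restrict_of_fibreCard_eq (f := f) hfin (d : ℤ) ⊤ fun y _ => by
      have := hn y
      rw [Nat.cast_inj] at this
      have := hnn y
      omega
    exact (IsZariskiLocalAtTarget.iff_of_iSup_eq_top (P := @IsFinite) (fun _ : PUnit.{u + 1} => (⊤ : Y.Opens)) ciSup_const).2 fun _ => h

end Groth.Agent.S5053
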