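import Groth.Statements.S5056
-- import your own Groth.Agent.* helpers here
import Groth.Agent.GRingCpl.GeomIntegral
import Groth.Agent.FlatDepth.RegHom

set_option autoImplicit false
universe u
open Hensel

open TensorProduct
namespace Groth.Agent.S5056

/-- Let A be a Noetherian henselian local domain whose formal fibres are geometrically normal, Â its
completion (an integral domain), K and L fraction fields of A and Â with L a K-algebra compatibly.
Then L is geometrically reduced over K (a separable extension) and every element of L algebraic over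
K lies in K. -/
theorem result (A : Type u) [CommRing A] [IsNoetherianRing A]
    [HenselianLocalRing A] [IsDomain A] (h : EGA4.HasGeomNormalFormalFibres A) [IsDomain (EGA4.Cpl A)]
    (K L : Type u) [Field K] [Field L] [Algebra A K] [IsFractionRing A K]
    [Algebra (EGA4.Cpl A) L] [IsFractionRing (EGA4.Cpl A) L] [Algebra K L] [Algebra A L]
    [IsScalarTower A K L] [IsScalarTower A (EGA4.Cpl A) L] :
    Algebra.IsGeometricallyReduced K L ∧ ∀ x : L, IsAlgebraic K x → x ∈ Set.range (algebraMap K L) := by
  haveI : Module.Flat A (EGA4.Cpl A) := AdicCompletion.flat_of_isNoetherian _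
  haveI : Nontrivial L := inferInstance
  -- denominators
  let f : K ⊗[A] EGA4.Cpl A →ₐ[K] L :=
    Algebra.TensorProduct.lift (Algebra.ofId K L) (IsScalarTower.toAlgHom A (EGA4.Cpl A) L) fun _ _ => Commute.all _ _
  have hf1 : ∀ c : EGA4.Cpl A, f ((1 : K) ⊗ₜ c) = algebraMap (EGA4.Cpl A) L c := fun c => by simp [f]
  have hden : ∀ z : K ⊗[A] EGA4.Cpl A, ∃ (a : A) (c : EGA4.Cpl A), a ≠ 0 ∧ a • z = (1 : K) ⊗ₜ c := fun z => by
    induction z using TensorProduct.induction_on with
    | zero => exact ⟨1, 0, one_ne_zero, by rw [smul_zero, TensorProduct.tmul_zero]⟩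
    | add x y hx hy =>
      obtain ⟨a, c, ha, hc⟩ := hx
      obtain ⟨b, d, hb, hd⟩ := hy
      refine ⟨a * b, b • c + a • d, mul_ne_zero ha hb, ?_⟩
      rw [smul_add, mul_comm a b, mul_smul, hc, mul_comm b a, mul_smul, hd, TensorProduct.tmul_add,
        TensorProduct.tmul_smul, TensorProduct.tmul_smul]
    | tmul x c =>
      obtain ⟨r, s, hs, rfl⟩ := IsFractionRing.div_surjective A x
      refine ⟨s, r • c, nonZeroDivisors.ne_zero hs, ?_⟩
      rw [TensorProduct.smul_tmul', Algebra.smul_def, mul_div_cancel₀ _ (IsFractionRing.to_map_ne_zero_of_mem_nonZeroDivisors hs),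
        Algebra.algebraMap_eq_smul_one, TensorProduct.smul_tmul]
  have hAL : Function.Injective (algebraMap A L) := by
    rw [IsScalarTower.algebraMap_eq A K L]
    exact (algebraMap K L).injective.comp (IsFractionRing.injective A K)
  have hCL : Function.Injective (algebraMap (EGA4.Cpl A) L) := IsFractionRing.injective (EGA4.Cpl A) L
  have hf : Function.Injective f := by
    rw [injective_iff_map_eq_zero]
    intro z hz
    obtain ⟨a, c, ha, hc⟩ := hden z
    have hc0 : c = 0 := hCL (by
      rw [map_zero, ← hf1, ← hc]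
      show f (a • z) = 0
      rw [show a • z = algebraMap A (K ⊗[A] EGA4.Cpl A) a * z from Algebra.smul_def a z, map_mul, hz, mul_zero])
    rw [hc0, TensorProduct.tmul_zero, show a • z = algebraMap A (K ⊗[A] EGA4.Cpl A) a * z from Algebra.smul_def a z,
      Algebra.TensorProduct.algebraMap_apply] at hc
    exact (((IsUnit.mk0 (algebraMap A K a) fun h0 => ha (IsFractionRing.injective A K (h0.trans (map_zero _).symm))).map
      (Algebra.TensorProduct.includeLeftRingHom : K →+* K ⊗[A] EGA4.Cpl A)).mul_right_eq_zero).mp hc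
  -- finite extensions stay domains
  have hdom : ∀ (K' : Type u) [Field K'] [Algebra K K'], Module.Finite K K' → IsDomain (K' ⊗[K] L) := fun K' _ _ hK' => by
    haveI := hK'
    letI : Algebra A K' := ((algebraMap K K').comp (algebraMap A K)).toAlgebra
    haveI : IsScalarTower A K K' := IsScalarTower.of_algebraMap_eq fun _ => rfl
    let p : Ideal A := ⊥
    haveI : p.IsPrime := Ideal.isPrime_bot
    let φ : p.ResidueField →ₐ[A] K := Ideal.ResidueField.liftₐ p (Algebra.ofId A K) bot_le fun x hx => IsUnit.mk0 _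
      fun h0 => hx (Ideal.mem_bot.mpr (IsFractionRing.injective A K (h0.trans (map_zero _).symm)))
    letI : Algebra p.ResidueField K' := ((algebraMap K K').comp φ.toRingHom).toAlgebra
    haveI : IsScalarTower A p.ResidueField K' := IsScalarTower.of_algebraMap_eq fun a => by
      show algebraMap K K' (algebraMap A K a) = algebraMap K K' (φ (algebraMap A p.ResidueField a))
      rw [φ.commutes]
    have hφ : Function.Surjective φ := fun x => by
      obtain ⟨r, s, hs, rfl⟩ := IsFractionRing.div_surjective A x
      exact ⟨algebraMap A _ r / algebraMap A _ s, by rw [map_div₀, φ.commutes, φ.commutes]⟩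
    haveI : Module.Finite p.ResidueField K' := by
      letI : Algebra p.ResidueField K := φ.toRingHom.toAlgebra
      haveI : IsScalarTower p.ResidueField K K' := IsScalarTower.of_algebraMap_eq fun _ => rfl
      haveI : Module.Finite p.ResidueField K := Module.Finite.of_surjective (Algebra.linearMap p.ResidueField K) hφ
      exact Module.Finite.trans K K'
    haveI := GRingCpl.isDomain_tensor_cpl_of_finite A h p K'
    let m : K' ⊗[K] (K ⊗[A] EGA4.Cpl A) →ₐ[K] K' ⊗[K] L := Algebra.TensorProduct.map (AlgHom.id K K') f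
    have hm : Function.Injective m := Module.Flat.lTensor_preserves_injective_linearMap f.toLinearMap hf
    haveI : IsDomain (K' ⊗[K] (K ⊗[A] EGA4.Cpl A)) :=
      (Algebra.TensorProduct.cancelBaseChange A K K' K' (EGA4.Cpl A)).toMulEquiv.isDomain (K' ⊗[A] EGA4.Cpl A)
    have hfr : ∀ z : K' ⊗[K] L, ∃ t : EGA4.Cpl A, t ≠ 0 ∧ ∃ w, m w = ((1 : K') ⊗ₜ algebraMap (EGA4.Cpl A) L t) * z :=
      fun z => by
        induction z using TensorProduct.induction_on with
        | zero => exact ⟨1, one_ne_zero, 0, by simp⟩
        | add x y hx hy =>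
          obtain ⟨a, ha, v, hv⟩ := hx
          obtain ⟨b, hb, w, hw⟩ := hy
          refine ⟨a * b, mul_ne_zero ha hb, ((1 : K') ⊗ₜ ((1 : K) ⊗ₜ b)) * v + ((1 : K') ⊗ₜ ((1 : K) ⊗ₜ a)) * w, ?_⟩
          have hmt : ∀ t, m ((1 : K') ⊗ₜ ((1 : K) ⊗ₜ t)) = (1 : K') ⊗ₜ algebraMap (EGA4.Cpl A) L t := fun t => by
            show (1 : K') ⊗ₜ f ((1 : K) ⊗ₜ t) = _
            rw [hf1]
          rw [map_add, map_mul, map_mul, hmt, hmt, hv, hw, mul_add, map_mul, ← mul_assoc, ← mul_assoc,
            Algebra.TensorProduct.tmul_mul_tmul, Algebra.TensorProduct.tmul_mul_tmul, one_mul,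
            mul_comm (algebraMap (EGA4.Cpl A) L b) (algebraMap (EGA4.Cpl A) L a)]
        | tmul x l =>
          obtain ⟨r, s, hs, rfl⟩ := IsFractionRing.div_surjective (EGA4.Cpl A) l
          refine ⟨s, nonZeroDivisors.ne_zero hs, x ⊗ₜ ((1 : K) ⊗ₜ r), ?_⟩
          rw [Algebra.TensorProduct.tmul_mul_tmul, one_mul,
            mul_div_cancel₀ _ (IsFractionRing.to_map_ne_zero_of_mem_nonZeroDivisors hs)]
          show x ⊗ₜ f ((1 : K) ⊗ₜ r) = _
          rw [hf1]
    have hu : ∀ t : EGA4.Cpl A, t ≠ 0 → IsUnit ((1 : K') ⊗ₜ[K] algebraMap (EGA4.Cpl A) L t) := fun t ht =>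
      (IsUnit.mk0 _ fun h0 => ht (hCL (h0.trans (map_zero _).symm))).map
        (Algebra.TensorProduct.includeRight : L →ₐ[K] K' ⊗[K] L)
    haveI : Nontrivial (K' ⊗[K] L) := hm.nontrivial
    haveI : NoZeroDivisors (K' ⊗[K] L) := ⟨fun {x y} hxy => by
      obtain ⟨a, ha, v, hv⟩ := hfr x
      obtain ⟨b, hb, w, hw⟩ := hfr y
      have h0 : m (v * w) = 0 := by rw [map_mul, hv, hw, mul_mul_mul_comm, hxy, mul_zero]
      rcases (mul_eq_zero (a := v) (b := w)).mp ((map_eq_zero_iff m hm).mp h0) with h' | h'
      · exact Or.inl ((hu a ha).mul_right_eq_zero.mp (by rw [← hv, h', map_zero]))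
      · exact Or.inr ((hu b hb).mul_right_eq_zero.mp (by rw [← hw, h', map_zero]))⟩
    exact NoZeroDivisors.to_isDomain _
  refine ⟨FlatDepth.geomReduced_of_finite fun K' _ _ hK' => ?_, fun x hx => ?_⟩
  · haveI := hdom K' hK'
    infer_instance
  · let E := IntermediateField.adjoin K {x}
    haveI : Module.Finite K E := IntermediateField.adjoin.finiteDimensional hx.isIntegral
    haveI := hdom E inferInstance
    let i : E ⊗[K] E →ₐ[K] E ⊗[K] L := Algebra.TensorProduct.map (AlgHom.id K E) E.val
    have hi : Function.Injective i :=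
      Module.Flat.lTensor_preserves_injective_linearMap E.val.toLinearMap Subtype.val_injective
    haveI : IsDomain (E ⊗[K] E) := Function.Injective.isDomain i.toRingHom hi
    haveI : IsArtinianRing (E ⊗[K] E) := IsArtinianRing.of_finite K (E ⊗[K] E)
    have hfield := IsArtinianRing.isField_of_isDomain (E ⊗[K] E)
    letI := hfield.toField
    let μ := Algebra.TensorProduct.lmul' K (S := E)
    have hle := LinearMap.finrank_le_finrank_of_injective (f := μ.toLinearMap) μ.toRingHom.injective
    rw [Module.finrank_tensorProduct] at hle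
    have h1 : Module.finrank K E = 1 := le_antisymm (Nat.le_of_mul_le_mul_left (by simpa using hle) Module.finrank_pos)
      Module.finrank_pos
    rw [IntermediateField.finrank_eq_one_iff] at h1
    have hxE : x ∈ E := IntermediateField.mem_adjoin_simple_self K x
    rw [h1, IntermediateField.mem_bot] at hxE
    exact hxE

end Groth.Agent.S5056
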