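import Groth.Statements.S5057
import Mathlib
-- import your own Groth.Agent.* helpers here

set_option autoImplicit false
open CategoryTheory CategoryTheory.Limits AlgebraicGeometry
universe u
open Hensel

namespace Groth.Agent.S5057

/-- Let i : S₀ ⟶ S be a closed immersion such that for every finite morphism g : S' ⟶ S every
open-closed subset of S' ×_S S₀ is the inverse image under the first projection of exactly one
open-closed subset of S'. Then for every finite morphism g : S' ⟶ S, every open subset of S'
containing the image of S' ×_S S₀ is all of S'. -/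
theorem result {S S₀ : Scheme.{u}} (i : S₀ ⟶ S) [IsClosedImmersion i]
    (ha : ∀ (S' : Scheme.{u}) (g : S' ⟶ S), IsFinite g →
      ∀ V : Set ↥(pullback g i), IsClopen V → ∃! U : Set ↥S', IsClopen U ∧ (pullback.fst g i).base ⁻¹' U = V)
    {S' : Scheme.{u}} (g : S' ⟶ S) [IsFinite g] (U : Set ↥S') (hU : IsOpen U)
    (hU₀ : Set.range (pullback.fst g i).base ⊆ U) : U = Set.univ := by
  open CategoryTheory.Limits in
    let I := Scheme.IdealSheafData.vanishingIdeal ⟨Uᶜ, hU.isClosed_compl⟩
    have hr : Set.range I.subschemeι.base = Uᶜ := by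
      rw [Scheme.IdealSheafData.range_subschemeι]
      rfl
    haveI : IsFinite (I.subschemeι ≫ g) := inferInstance
    have hempty : ∀ p : ↥(pullback (I.subschemeι ≫ g) i), False := fun p => by
      let q : pullback (I.subschemeι ≫ g) i ⟶ pullback g i :=
        pullback.lift (pullback.fst _ _ ≫ I.subschemeι) (pullback.snd _ _) (by rw [Category.assoc, pullback.condition])
      have h1 : (pullback.fst g i).base (q.base p) ∈ U := hU₀ ⟨_, rfl⟩
      have h2 : (pullback.fst g i).base (q.base p) = I.subschemeι.base ((pullback.fst (I.subschemeι ≫ g) i).base p) := by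
        rw [← Scheme.Hom.comp_apply, ← Scheme.Hom.comp_apply, pullback.lift_fst]
      have h3 : I.subschemeι.base ((pullback.fst (I.subschemeι ≫ g) i).base p) ∈ Uᶜ := hr ▸ ⟨_, rfl⟩
      exact h3 (h2 ▸ h1)
    obtain ⟨W, -, huniq⟩ := ha _ (I.subschemeι ≫ g) inferInstance ∅ isClopen_empty
    have e1 : (Set.univ : Set ↥I.subscheme) = W :=
      huniq _ ⟨isClopen_univ, Set.eq_empty_of_forall_notMem fun p _ => hempty p⟩
    have e2 : (∅ : Set ↥I.subscheme) = W := huniq _ ⟨isClopen_empty, Set.preimage_empty⟩
    by_contra hne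
    obtain ⟨x, hx⟩ := (Set.ne_univ_iff_exists_notMem U).1 hne
    obtain ⟨z, -⟩ : x ∈ Set.range I.subschemeι.base := hr ▸ hx
    have := e1.trans e2.symm ▸ Set.mem_univ z
    exact this

end Groth.Agent.S5057
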