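import Groth.Statements.S9309
import Mathlib
import Groth.Agent.S2045
import Groth.Agent.GRingCpl.GRingEss
import Groth.Agent.GRingCpl.Dedekind
import Groth.Agent.Hensel.Henselization
import Groth.Agent.Hensel.DirectLimit

set_option autoImplicit false
universe u
open CAlg

namespace Groth.Agent.S9309

open IsLocalRing

theorem isGRing_uliftInt : CAlg.IsGRing (ULift.{u} ℤ) := by
  let e : ℤ ≃+* ULift.{u} ℤ := ULift.ringEquiv.symm
  haveI : IsDomain (ULift.{u} ℤ) := e.symm.toMulEquiv.isDomain
  haveI : IsPrincipalIdealRing (ULift.{u} ℤ) := IsPrincipalIdealRing.of_surjective e.toRingHom e.surjective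
  haveI : CharZero (ULift.{u} ℤ) := charZero_of_injective_ringHom (f := e.toRingHom) e.injective
  exact GRingCpl.isGRing_of_isDedekindDomain_charZero _

theorem isGRing_of_essFiniteType_int (Z : Type u) [CommRing Z] (e : ℤ ≃+* Z) (hZ : CAlg.IsGRing Z)
    (L : Type u) [CommRing L] [Algebra.EssFiniteType ℤ L] : CAlg.IsGRing L := by
  letI : Algebra Z L := ((algebraMap ℤ L).comp e.symm.toRingHom).toAlgebra
  haveI : IsScalarTower ℤ Z L := IsScalarTower.of_algebraMap_eq' (RingHom.ext_int _ _)
  haveI : Algebra.EssFiniteType Z L := Algebra.EssFiniteType.of_comp ℤ _ _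
  exact GRingCpl.isGRing_essFiniteType Z L hZ

variable {A : Type u} [CommRing A] [HenselianLocalRing A] (s : Finset A)

abbrev Sub : Subalgebra ℤ A := Algebra.adjoin ℤ (s : Set A)

abbrev P : Ideal (Sub s) := (maximalIdeal A).comap (Sub s).val.toRingHom

abbrev R : Type u := Localization.AtPrime (P s)

theorem isGRing_R : IsNoetherianRing (R s) ∧ CAlg.IsGRing (R s) := by
  haveI : Algebra.FiniteType ℤ (Sub s) := (Subalgebra.fg_iff_finiteType _).1 ⟨s, rfl⟩
  haveI : Algebra.EssFiniteType (Sub s) (R s) := Algebra.EssFiniteType.of_isLocalization _ (P s).primeCompl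
  have h0 := Algebra.EssFiniteType.comp ℤ (Sub s) (R s)
  haveI : @Algebra.EssFiniteType ℤ (R s) _ _ (Ring.toIntAlgebra (R s)) := by
    convert h0 using 1
    exact Subsingleton.elim _ _
  have h := isGRing_of_essFiniteType_int (ULift.{u} ℤ) ULift.ringEquiv.symm isGRing_uliftInt (R s)
  exact ⟨h.1, h⟩

noncomputable def toA : R s →+* A :=
  IsLocalization.lift (M := (P s).primeCompl) (g := (Sub s).val.toRingHom) fun y =>
    notMem_maximalIdeal.1 y.2

theorem toA_apply (x : Sub s) : toA s (algebraMap _ _ x) = x.1 := IsLocalization.lift_eq _ x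

theorem isLocalHom_toA : IsLocalHom (toA s) := ⟨fun w hw => by
  obtain ⟨b, v, rfl⟩ := IsLocalization.exists_mk'_eq (P s).primeCompl w
  refine (IsLocalization.AtPrime.isUnit_mk'_iff (R s) (P s) b v).2 fun hb => ?_
  have h2 := congrArg (toA s) (IsLocalization.mk'_spec (R s) b v)
  rw [map_mul, toA_apply, toA_apply] at h2
  have h3 : IsUnit (b.1 : A) := h2 ▸ hw.mul (notMem_maximalIdeal.1 v.2)
  exact notMem_maximalIdeal.2 h3 hb⟩

variable {s}

noncomputable def inclSub {t : Finset A} (h : s ≤ t) : Sub s →+* R t :=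
  (algebraMap (Sub t) (R t)).comp
    (Subalgebra.inclusion (Algebra.adjoin_mono (R := ℤ) (Finset.coe_subset.2 h))).toRingHom

theorem inclSub_apply {t : Finset A} (h : s ≤ t) (x : Sub s) :
    inclSub h x = algebraMap (Sub t) (R t) ⟨x.1, Algebra.adjoin_mono (R := ℤ) (Finset.coe_subset.2 h) x.2⟩ := rfl

theorem mem_P {x : Sub s} : x ∈ P s ↔ (x : A) ∈ maximalIdeal A := Ideal.mem_comap

theorem isUnit_inclSub {t : Finset A} (h : s ≤ t) (y : (P s).primeCompl) : IsUnit (inclSub h (y : Sub s)) := by
  rw [inclSub_apply]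
  refine (IsLocalization.AtPrime.isUnit_to_map_iff (R t) (P t) _).2 ?_
  show ¬ _ ∈ P t
  rw [mem_P]
  exact fun hm => y.2 (mem_P.2 hm)

noncomputable def incl {t : Finset A} (h : s ≤ t) : R s →+* R t :=
  IsLocalization.lift (isUnit_inclSub h)

theorem incl_apply {t : Finset A} (h : s ≤ t) (x : Sub s) :
    incl h (algebraMap _ _ x) = algebraMap (Sub t) (R t) ⟨x.1, Algebra.adjoin_mono (R := ℤ) (Finset.coe_subset.2 h) x.2⟩ :=
  (IsLocalization.lift_eq (isUnit_inclSub h) x).trans (inclSub_apply h x)

theorem toA_incl {t : Finset A} (h : s ≤ t) : (toA t).comp (incl h) = toA s :=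
  IsLocalization.ringHom_ext (P s).primeCompl (RingHom.ext fun x => by simp [incl_apply, toA_apply])

theorem isLocalHom_incl {t : Finset A} (h : s ≤ t) : IsLocalHom (incl h) := ⟨fun w hw => by
  haveI := isLocalHom_toA s
  have h1 := hw.map (toA t)
  rw [← RingHom.comp_apply, toA_incl] at h1
  exact isUnit_of_map_unit (toA s) w h1⟩

variable (s)

theorem exists_hens : ∃ (S : Type u) (_ : CommRing S) (_ : HenselianLocalRing S) (_ : Algebra (R s) S)
    (_ : IsLocalHom (algebraMap (R s) S)), _root_.Hensel.IsHenselization (R s) S := by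
  obtain ⟨h₁, h₂⟩ := Groth.Agent.Hensel.exists_henselization (R s)
  exact ⟨_, inferInstance, h₂.henselian, inferInstance, h₁, h₂⟩

/-- Directed limits of henselian local rings along local maps are henselian local. -/
theorem henselianLocal_directLimit {ι : Type u} [Preorder ι] [Nonempty ι] [IsDirected ι (· ≤ ·)]
    (G : ι → Type u) [∀ i, CommRing (G i)] [∀ i, HenselianLocalRing (G i)]
    (f : ∀ i j, i ≤ j → G i →+* G j) [DirectedSystem G (fun i j h => f i j h)]
    (hf : ∀ i j (h : i ≤ j), IsLocalHom (f i j h)) :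
    ∃ _ : HenselianLocalRing (Ring.DirectLimit G (fun i j h => f i j h)),
      ∀ i, IsLocalHom (Ring.DirectLimit.of G (fun i j h => f i j h) i) := by
  classical
  let L := Ring.DirectLimit G (fun i j h => f i j h)
  let of := Ring.DirectLimit.of G (fun i j h => f i j h)
  have hof : ∀ {i j} (h : i ≤ j) x, of j (f i j h x) = of i x := fun h x => Ring.DirectLimit.of_f h x
  haveI hnt : Nontrivial L := by
    refine ⟨⟨0, 1, fun h => ?_⟩⟩
    let i := Classical.arbitrary ι
    have h1 : of i (1 : G i) = 0 := by rw [map_one]; exact h.symm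
    obtain ⟨j, hij, hj⟩ := Ring.DirectLimit.of.zero_exact h1
    rw [map_one] at hj
    exact one_ne_zero hj
  have hlocal : ∀ i, IsLocalHom (of i) := fun i => ⟨fun a ha => by
    obtain ⟨b, hb⟩ := ha.exists_right_inv
    obtain ⟨j, b', rfl⟩ := Ring.DirectLimit.exists_of b
    obtain ⟨l, hil, hjl⟩ := exists_ge_ge i j
    have h1 : of l (f i l hil a * f j l hjl b' - 1) = 0 := by
      rw [map_sub, map_mul, map_one, hof, hof]; exact sub_eq_zero.2 hb
    obtain ⟨m, hlm, hm⟩ := Ring.DirectLimit.of.zero_exact h1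
    rw [map_sub, map_mul, map_one, sub_eq_zero] at hm
    have h2 : IsUnit (f l m hlm (f i l hil a)) := IsUnit.of_mul_eq_one _ hm
    haveI := hf i l hil
    haveI := hf l m hlm
    exact (h2.of_map _).of_map _⟩
  haveI : IsLocalRing L := IsLocalRing.of_isUnit_or_isUnit_one_sub_self fun x => by
    obtain ⟨i, a, rfl⟩ := Ring.DirectLimit.exists_of x
    rcases IsLocalRing.isUnit_or_isUnit_one_sub_self a with h | h
    · exact Or.inl (h.map _)
    · right
      have := h.map (of i)
      rwa [map_sub, map_one] at this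
  have hpair := Groth.Agent.Hensel.henselianRing_directLimit G f (fun i => maximalIdeal (G i)) (fun i j h => by
      rw [Ideal.map_le_iff_le_comap]
      intro x hx
      haveI := hf i j h
      exact map_nonunit (f i j h) x hx) fun i => inferInstance
  have heq : (⨆ i, (maximalIdeal (G i)).map (of i)) = maximalIdeal L := by
    refine le_antisymm (iSup_le fun i => Ideal.map_le_iff_le_comap.2 fun x hx => ?_) fun x hx => ?_
    · haveI := hlocal i
      exact map_nonunit (of i) x hx
    · obtain ⟨i, a, rfl⟩ := Ring.DirectLimit.exists_of x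
      refine Ideal.mem_iSup_of_mem i (Ideal.mem_map_of_mem _ ?_)
      rw [IsLocalRing.mem_maximalIdeal, mem_nonunits_iff] at hx ⊢
      exact fun h => hx (h.map _)
  refine ⟨⟨fun p hp a₀ h₁ h₂ => ?_⟩, hlocal⟩
  haveI := hpair
  obtain ⟨a, ha, haa⟩ := hpair.is_henselian p hp a₀ (heq.ge h₁) (h₂.map _)
  exact ⟨a, ha, heq.le haa⟩

/-- Every henselian local ring A is the colimit of a directed system of henselian local G-rings whose
transition maps are local homomorphisms; that is, there is such a system whose direct limit is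
isomorphic to A. -/
theorem result (A : Type u) [CommRing A]
    [HenselianLocalRing A] :
    ∃ (ι : Type u) (_ : Preorder ι) (_ : IsDirectedOrder ι) (_ : Nonempty ι) (G : ι → Type u)
      (_ : ∀ i, CommRing (G i)) (f : ∀ i j : ι, i ≤ j → (G i →+* G j))
      (_ : DirectedSystem G (fun i j h => f i j h)),
      (∀ i, HenselianLocalRing (G i) ∧ CAlg.IsGRing (G i)) ∧
      (∀ (i j : ι) (h : i ≤ j), IsLocalHom (f i j h)) ∧
      Nonempty (A ≃+* DirectLimit G f) := by
  classical
  choose G hGring hhens hGalg hloc hH using fun s : Finset A => exists_hens s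
  let j : ∀ s : Finset A, R s →+* G s := fun s => algebraMap (R s) (G s)
  haveI hjloc : ∀ s : Finset A, IsLocalHom (j s) := hloc
  have huniq : ∀ (s : Finset A) (T : Type u) [CommRing T] [HenselianLocalRing T] (g g' : G s →+* T),
      IsLocalHom (g.comp (j s)) → g.comp (j s) = g'.comp (j s) → g = g' := by
    intro s T _ _ g g' hl hgg
    haveI := hH s
    exact (_root_.Hensel.IsHenselization.universal (R := R s) (S := G s) T _ hl).unique rfl hgg.symm
  have hex : ∀ (s : Finset A) (T : Type u) [CommRing T] [HenselianLocalRing T] (F : R s →+* T),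
      IsLocalHom F → ∃ g : G s →+* T, g.comp (j s) = F ∧ IsLocalHom g := by
    intro s T _ _ F hF
    haveI := hH s
    obtain ⟨g, hg, -⟩ := _root_.Hensel.IsHenselization.universal (R := R s) (S := G s) T F hF
    refine ⟨g, hg, ((IsLocalRing.local_hom_TFAE g).out 2 0).1 ?_⟩
    rw [← Groth.Agent.Hensel.henselization_map_maximalIdeal (R s) (G s), Ideal.map_map]
    rw [show g.comp (algebraMap (R s) (G s)) = F from hg]
    exact ((IsLocalRing.local_hom_TFAE F).out 0 2).1 hF
  have hinc : ∀ (s t : Finset A) (h : s ≤ t), ∃ g : G s →+* G t, g.comp (j s) = (j t).comp (incl h) ∧ IsLocalHom g :=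
    fun s t h => hex s (G t) _ (by haveI := isLocalHom_incl h; exact RingHom.isLocalHom_comp _ _)
  choose f hf hfloc using hinc
  have hjl : ∀ (s t : Finset A) (h : s ≤ t), IsLocalHom ((j t).comp (incl h)) := fun s t h => by
    haveI := isLocalHom_incl h
    exact RingHom.isLocalHom_comp _ _
  have hincl_refl : ∀ s : Finset A, incl (le_refl s) = RingHom.id (R s) := fun s =>
    IsLocalization.ringHom_ext (P s).primeCompl (RingHom.ext fun x => by simp [incl_apply])
  have hincl_trans : ∀ {a b c : Finset A} (h₁ : a ≤ b) (h₂ : b ≤ c),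
      (incl h₂).comp (incl h₁) = incl (h₁.trans h₂) := fun {a b c} h₁ h₂ =>
    IsLocalization.ringHom_ext (P a).primeCompl (RingHom.ext fun x => by simp [incl_apply])
  haveI hds : DirectedSystem G (fun i j h => f i j h) :=
    { map_self := fun i x => by
        have h1 : f i i (le_refl i) = RingHom.id (G i) := huniq i (G i) _ _ (by rw [hf]; exact hjl _ _ _)
          (by rw [hf, hincl_refl]; rfl)
        rw [h1]; rfl
      map_map := fun k l i hij hjk x => by
        have h1 : (f _ _ hjk).comp (f _ _ hij) = f _ _ (hij.trans hjk) := by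
          refine huniq _ _ _ _ ?_ ?_
          · rw [RingHom.comp_assoc, hf, ← RingHom.comp_assoc, hf, RingHom.comp_assoc, hincl_trans]; exact hjl _ _ _
          · rw [RingHom.comp_assoc, hf, ← RingHom.comp_assoc, hf, RingHom.comp_assoc, hincl_trans, hf]
        exact RingHom.congr_fun h1 x }
  obtain ⟨hD, hofloc⟩ := henselianLocal_directLimit G f hfloc
  let D := Ring.DirectLimit G (fun i j h => f i j h)
  let of : ∀ s : Finset A, G s →+* D := Ring.DirectLimit.of G (fun i j h => f i j h)
  have hof : ∀ {s t : Finset A} (h : s ≤ t) x, of t (f s t h x) = of s x := fun h x => Ring.DirectLimit.of_f h x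
  -- the map to `A`
  have hg : ∀ s : Finset A, ∃ g : G s →+* A, g.comp (j s) = toA s ∧ IsLocalHom g := fun s =>
    hex s A (toA s) (isLocalHom_toA s)
  choose g hgj hgloc using hg
  have hgc : ∀ (s t : Finset A) (h : s ≤ t) (x : G s), g t (f s t h x) = g s x := fun s t h x => by
    refine RingHom.congr_fun (f := (g t).comp (f s t h)) (huniq s A _ _ ?_ ?_) x
    · rw [RingHom.comp_assoc, hf, ← RingHom.comp_assoc, hgj, toA_incl]; exact isLocalHom_toA s
    · rw [RingHom.comp_assoc, hf, ← RingHom.comp_assoc, hgj, toA_incl, hgj]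
  let φ : D →+* A := Ring.DirectLimit.lift G (fun i j h => f i j h) A g hgc
  have hφ : ∀ s x, φ (of s x) = g s x := fun s x => Ring.DirectLimit.lift_of _ _ _ _ _
  -- the section
  let el : ∀ (s : Finset A) (a : A), a ∈ Sub s → D := fun s a h => of s (j s (algebraMap (Sub s) (R s) ⟨a, h⟩))
  have hel : ∀ (s t : Finset A) (a : A) (h : a ∈ Sub s) (h' : a ∈ Sub t), el s a h = el t a h' := by
    intro s t a h h'
    have key : ∀ (s u : Finset A) (hsu : s ≤ u) (h : a ∈ Sub s),
        el s a h = el u a (Algebra.adjoin_mono (R := ℤ) (Finset.coe_subset.2 hsu) h) := by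
      intro s u hsu h
      simp only [el]
      rw [← hof hsu, ← RingHom.comp_apply (f s u hsu), hf, RingHom.comp_apply, incl_apply]
    rw [key s (s ∪ t) Finset.subset_union_left h, key t (s ∪ t) Finset.subset_union_right h']
  let σ₀ : A → D := fun a => el {a} a (Algebra.subset_adjoin (by simp))
  have hσ₀ : ∀ (s : Finset A) (x : Sub s), σ₀ x.1 = of s (j s (algebraMap (Sub s) (R s) x)) := fun s x =>
    hel _ s x.1 _ x.2
  let σ : A →+* D :=
    { toFun := σ₀
      map_one' := by rw [show (1 : A) = ((1 : Sub (∅ : Finset A)) : A) from rfl, hσ₀]; simp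
      map_zero' := by rw [show (0 : A) = ((0 : Sub (∅ : Finset A)) : A) from rfl, hσ₀]; simp
      map_add' := fun a b => by
        let u : Finset A := {a, b}
        let a' : Sub u := ⟨a, Algebra.subset_adjoin (by simp [u])⟩
        let b' : Sub u := ⟨b, Algebra.subset_adjoin (by simp [u])⟩
        rw [show σ₀ (a + b) = σ₀ (a' + b').1 from rfl, show σ₀ a = σ₀ a'.1 from rfl,
          show σ₀ b = σ₀ b'.1 from rfl, hσ₀, hσ₀, hσ₀, map_add, map_add, map_add]
      map_mul' := fun a b => by
        let u : Finset A := {a, b}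
        let a' : Sub u := ⟨a, Algebra.subset_adjoin (by simp [u])⟩
        let b' : Sub u := ⟨b, Algebra.subset_adjoin (by simp [u])⟩
        rw [show σ₀ (a * b) = σ₀ (a' * b').1 from rfl, show σ₀ a = σ₀ a'.1 from rfl,
          show σ₀ b = σ₀ b'.1 from rfl, hσ₀, hσ₀, hσ₀, map_mul, map_mul, map_mul] }
  have hretr : ∀ x, σ (φ x) = x := by
    intro x
    obtain ⟨s, y, rfl⟩ := Ring.DirectLimit.exists_of x
    show σ (φ (of s y)) = of s y
    rw [hφ]
    refine (RingHom.congr_fun (f := of s) (g := σ.comp (g s)) (huniq s D _ _ ?_ ?_) y).symm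
    · haveI := hofloc s
      exact RingHom.isLocalHom_comp _ _
    · refine IsLocalization.ringHom_ext (P s).primeCompl (RingHom.ext fun z => ?_)
      show of s (j s (algebraMap _ _ z)) = σ (g s (j s (algebraMap _ _ z)))
      rw [← RingHom.comp_apply (g s), hgj, toA_apply]
      exact (hσ₀ s z).symm
  have hbij : Function.Bijective φ := by
    refine ⟨Function.LeftInverse.injective hretr, fun a => ⟨σ a, ?_⟩⟩
    show φ (of {a} (j {a} _)) = a
    rw [hφ, ← RingHom.comp_apply (g {a}), hgj, toA_apply]
  refine ⟨Finset A, inferInstance, inferInstance, inferInstance, G, inferInstance, f, hds, fun s => ⟨hhens s, ?_⟩,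
    hfloc, ⟨((RingEquiv.ofBijective φ hbij).symm.trans (Ring.DirectLimit.ringEquiv G f))⟩⟩
  haveI := (isGRing_R s).1
  haveI := hH s
  exact S2045.result (R := R s) (isGRing_R s).2

end Groth.Agent.S9309
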