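import Groth.Statements.S5058
import Mathlib
import Groth.Agent.S9309
import Groth.Agent.S0591

set_option autoImplicit false
open CategoryTheory CategoryTheory.Limits AlgebraicGeometry
universe u
open Hensel

namespace Groth.Agent.S5058

/-- Let A be a henselian local ring and f : X ⟶ Spec A a morphism of finite presentation. Then there
exist a Noetherian henselian local ring A₀, a local ring homomorphism φ : A₀ → A, a morphism of
finite type f₀ : X₀ ⟶ Spec A₀ and a cartesian square exhibiting X as the base change of X₀ along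
Spec φ. -/
theorem result (A : Type u) [CommRing A] [HenselianLocalRing A]
    {X : Scheme.{u}} (f : X ⟶ Spec (CommRingCat.of A)) [LocallyOfFinitePresentation f] [QuasiCompact f] [QuasiSeparated f] :
    ∃ (A₀ : Type u) (_ : CommRing A₀) (_ : HenselianLocalRing A₀) (_ : IsNoetherianRing A₀) (φ : A₀ →+* A) (_ : IsLocalHom φ)
      (X₀ : Scheme.{u}) (f₀ : X₀ ⟶ Spec (CommRingCat.of A₀)) (g : X ⟶ X₀),
      LocallyOfFiniteType f₀ ∧ QuasiCompact f₀ ∧ IsPullback g f f₀ (Spec.map (CommRingCat.ofHom φ)) := by
  classical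
  obtain ⟨ι, _, _, _, G, _, t, hds, hG, htloc, ⟨ε⟩⟩ := S9309.result A
  haveI := hds
  let t' := fun i j (h : i ≤ j) => (t i j h : G i → G j)
  let ε' : Ring.DirectLimit G t' ≃+* A := (Ring.DirectLimit.ringEquiv G t).trans ε.symm
  let leg : ∀ i, G i →+* A := fun i => ε'.toRingHom.comp (Ring.DirectLimit.of G t' i)
  have hleg : ∀ i j h x, leg j (t i j h x) = leg i x := fun i j h x => congrArg ε' (Ring.DirectLimit.of_f h x)
  have hsurj : ∀ a : A, ∃ i x, leg i x = a := fun a => by
    obtain ⟨i, x, hx⟩ := Ring.DirectLimit.exists_of (ε'.symm a)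
    exact ⟨i, x, (congrArg ε' hx).trans (ε'.apply_symm_apply a)⟩
  have hexact : ∀ i x, leg i x = 0 → ∃ j h, t i j h x = 0 := fun i x hx =>
    Ring.DirectLimit.of.zero_exact (f' := t) (ε'.injective (hx.trans (map_zero ε').symm))
  have hlegloc : ∀ i, IsLocalHom (leg i) := fun i => ⟨fun a ha => by
    obtain ⟨b, hb⟩ := ha.exists_right_inv
    obtain ⟨j, y, rfl⟩ := hsurj b
    obtain ⟨l, hil, hjl⟩ := exists_ge_ge i j
    have h1 : leg l (t i l hil a * t j l hjl y - 1) = 0 := by
      rw [map_sub, map_mul, map_one, hleg, hleg, hb, sub_self]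
    obtain ⟨m, hlm, hm⟩ := hexact l _ h1
    rw [map_sub, map_mul, map_one, sub_eq_zero] at hm
    have h2 : IsUnit (t l m hlm (t i l hil a)) := IsUnit.of_mul_eq_one _ hm
    haveI := htloc i l hil
    haveI := htloc l m hlm
    exact (h2.of_map _).of_map _⟩
  let F : ι ⥤ CommRingCat.{u} :=
    { obj := fun i => CommRingCat.of (G i)
      map := fun h => CommRingCat.ofHom (t _ _ (leOfHom h))
      map_id := fun i => CommRingCat.hom_ext (RingHom.ext fun x => DirectedSystem.map_self (f := t') x)
      map_comp := fun f g => CommRingCat.hom_ext (RingHom.ext fun x =>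
        (DirectedSystem.map_map (f := t') (leOfHom f) (leOfHom g) x).symm) }
  let c : Limits.Cocone F :=
    { pt := CommRingCat.of A
      ι := { app := fun i => CommRingCat.ofHom (leg i)
             naturality := fun i j h => CommRingCat.hom_ext (RingHom.ext fun x => hleg i j (leOfHom h) x) } }
  haveI : IsFiltered ι := inferInstance
  haveI : Limits.PreservesColimitsOfShape ι (forget CommRingCat.{u}) :=
    Limits.PreservesFilteredColimitsOfSize.preserves_filtered_colimits ι
  haveI : Limits.ReflectsColimit F (forget CommRingCat.{u}) := Limits.reflectsColimit_of_reflectsIsomorphisms F _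
  have hc : Limits.IsColimit c := by
    refine Limits.isColimitOfReflects (forget CommRingCat) (Limits.Types.FilteredColimit.isColimitOf _ _ ?_ ?_)
    · intro a
      obtain ⟨i, x, hx⟩ := hsurj a
      exact ⟨i, x, hx.symm⟩
    · intro i j x y hxy
      obtain ⟨l, hil, hjl⟩ := exists_ge_ge i j
      have h1 : leg l (t i l hil x - t j l hjl y) = 0 := by
        rw [map_sub, hleg, hleg]; exact sub_eq_zero.2 hxy
      obtain ⟨m, hlm, hm⟩ := hexact l _ h1
      rw [map_sub, sub_eq_zero] at hm
      refine ⟨m, homOfLE (hil.trans hlm), homOfLE (hjl.trans hlm), ?_⟩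
      exact ((DirectedSystem.map_map (f := t') hil hlm x).symm.trans hm).trans
        (DirectedSystem.map_map (f := t') hjl hlm y)
  let D : ιᵒᵖ ⥤ Scheme.{u} := F.op ⋙ Scheme.Spec
  haveI : ∀ (i j : ιᵒᵖ) (g : i ⟶ j), IsAffineHom (D.map g) := fun i j g => by
    show IsAffineHom (Spec.map _)
    infer_instance
  haveI : ∀ i, CompactSpace (D.obj i) := fun i => by
    show CompactSpace (Spec (F.obj i.unop))
    infer_instance
  haveI : ∀ i, QuasiSeparatedSpace (D.obj i) := fun i => by
    show QuasiSeparatedSpace (Spec (F.obj i.unop))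
    infer_instance
  haveI : IsCofiltered ιᵒᵖ := inferInstance
  obtain ⟨i, Xi, fi, g, h1, h2, -, h4⟩ :=
    S0591.result D (Scheme.Spec.mapCone c.op) (Limits.isLimitOfPreserves Scheme.Spec hc.op) X f
  haveI := h1
  exact ⟨G i.unop, inferInstance, (hG i.unop).1, (hG i.unop).2.1, leg i.unop, hlegloc i.unop, Xi, fi, g,
    inferInstance, h2, h4⟩

end Groth.Agent.S5058
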