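import Groth.Statements.S5061
import Groth.Agent.GeomRedPull.Field
import Mathlib

set_option autoImplicit false
set_option linter.style.haveILetI false
set_option backward.isDefEq.respectTransparency false
open scoped TensorProduct
universe u
open EGA418

namespace Groth.Agent.S5061

theorem exists_hom {k A B T : Type u} [CommRing k] [CommRing A] [CommRing B] [CommRing T] [Algebra k A] [Algebra k B]
    (a : A →+* T) (b : B →+* T) (h : ∀ c, a (algebraMap k A c) = b (algebraMap k B c)) :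
    ∃ φ : A ⊗[k] B →+* T, ∀ x y, φ (x ⊗ₜ y) = a x * b y := by
  letI : Algebra k T := (a.comp (algebraMap k A)).toAlgebra
  let a' : A →ₐ[k] T := { a with commutes' := fun c => rfl }
  let b' : B →ₐ[k] T := { b with commutes' := fun c => (h c).symm }
  exact ⟨(Algebra.TensorProduct.lift a' b' fun _ _ => Commute.all _ _).toRingHom,
    fun x y => Algebra.TensorProduct.lift_tmul a' b' (fun _ _ => Commute.all _ _) x y⟩

variable (p : ℕ) [Fact p.Prime] {k K : Type u} [Field k] [CharP k p] [Field K] [Algebra k K]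

/-- a high power of every element comes from `K` -/
theorem exists_pow_eq {P : Type u} [Field P] [Algebra k P]
    (hP : ∀ y : P, ∃ n : ℕ, y ^ p ^ n ∈ (algebraMap k P).range) (z : K ⊗[k] P) :
    ∃ (n : ℕ) (c : K), z ^ p ^ n = c ⊗ₜ 1 := by
  haveI : CharP K p := charP_of_injective_algebraMap (algebraMap k K).injective p
  haveI : Nontrivial (K ⊗[k] P) := (Module.FaithfullyFlat.nontrivial_tensorProduct_iff_left k K).mpr inferInstance
  haveI : CharP (K ⊗[k] P) p :=
    charP_of_injective_algebraMap (algebraMap K (K ⊗[k] P)).injective p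
  induction z using TensorProduct.induction_on with
  | zero => exact ⟨0, 0, by simp⟩
  | tmul x y =>
    obtain ⟨n, a, ha⟩ := hP y
    refine ⟨n, a • x ^ p ^ n, ?_⟩
    rw [Algebra.TensorProduct.tmul_pow, ← ha, Algebra.algebraMap_eq_smul_one, TensorProduct.tmul_smul,
      TensorProduct.smul_tmul']
  | add z w hz hw =>
    obtain ⟨n, c, hc⟩ := hz
    obtain ⟨m, d, hd⟩ := hw
    refine ⟨n + m, c ^ p ^ m + d ^ p ^ n, ?_⟩
    rw [add_pow_char_pow]
    conv_lhs => rw [pow_add, pow_mul, hc, mul_comm (p ^ n) (p ^ m), pow_mul, hd, Algebra.TensorProduct.tmul_pow,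
      Algebra.TensorProduct.tmul_pow, one_pow, one_pow]
    rw [TensorProduct.add_tmul]

theorem isNilpotent_of_mem {P : Type u} [Field P] [Algebra k P]
    (hP : ∀ y : P, ∃ n : ℕ, y ^ p ^ n ∈ (algebraMap k P).range) (Q : Ideal (K ⊗[k] P)) (hQ : Q ≠ ⊤)
    {z : K ⊗[k] P} (hz : z ∈ Q) : IsNilpotent z := by
  obtain ⟨n, c, hc⟩ := exists_pow_eq p hP z
  have hcQ : c ⊗ₜ (1 : P) ∈ Q := hc ▸ Ideal.pow_mem_of_mem Q hz _ (Nat.pos_of_ne_zero (pow_ne_zero _ (Fact.out : p.Prime).ne_zero))
  by_cases h0 : c = 0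
  · exact ⟨p ^ n, by rw [hc, h0, TensorProduct.zero_tmul]⟩
  · refine absurd (Ideal.eq_top_of_isUnit_mem Q hcQ ?_) hQ
    exact (IsUnit.mk0 c h0).map (algebraMap K (K ⊗[k] P))

theorem artinian_iff_fg {P : Type u} [Field P] [Algebra k P]
    (hP : ∀ y : P, ∃ n : ℕ, y ^ p ^ n ∈ (algebraMap k P).range) :
    IsArtinianRing (K ⊗[k] P) ↔ (nilradical (K ⊗[k] P)).FG := by
  have hprime : ∀ Q : Ideal (K ⊗[k] P), Q.IsPrime → Q = nilradical _ := fun Q hQ =>
    le_antisymm (fun z hz => isNilpotent_of_mem p hP Q hQ.ne_top hz) (nilradical_le_prime Q)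
  constructor
  · intro h
    exact IsNoetherian.noetherian _
  · intro h
    haveI : IsNoetherianRing (K ⊗[k] P) := IsNoetherianRing.of_prime fun Q hQ => hprime Q hQ ▸ h
    haveI : Ring.KrullDimLE 0 (K ⊗[k] P) := Ring.KrullDimLE.mk₀ fun Q hQ =>
      let ⟨M, hM, hQM⟩ := Ideal.exists_le_maximal Q hQ.ne_top
      (hprime Q hQ).trans (hprime M hM.isPrime).symm ▸ hM
    exact isArtinianRing_iff_isNoetherianRing_krullDimLE_zero.mpr ⟨inferInstance, inferInstance⟩

theorem exists_finset {k K P : Type u} [CommRing k] [CommRing K] [CommRing P] [Algebra k K] [Algebra k P]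
    (z : K ⊗[k] P) : ∃ t : Finset P, ∀ S : Subalgebra k P, ↑t ⊆ (S : Set P) →
      z ∈ (Algebra.TensorProduct.map (AlgHom.id k K) S.val).range := by
  classical
  induction z using TensorProduct.induction_on with
  | zero => exact ⟨∅, fun S _ => zero_mem _⟩
  | tmul x y => exact ⟨{y}, fun S hS => ⟨x ⊗ₜ ⟨y, hS (by simp)⟩, by simp⟩⟩
  | add z w hz hw =>
    obtain ⟨t, ht⟩ := hz
    obtain ⟨s, hs⟩ := hw
    exact ⟨t ∪ s, fun S hS => add_mem (ht S fun a ha => hS (by simp [Finset.mem_coe.mp ha]))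
      (hs S fun a ha => hS (by simp [Finset.mem_coe.mp ha]))⟩

/-- comparison of `K ⊗ P` with `P ⊗_{k'} (k' ⊗ K)_red` -/
theorem exists_compare {P k' : Type u} [Field P] [Algebra k P] [Field k'] [Algebra k k'] [Algebra k' P]
    [IsScalarTower k k' P] :
    ∃ (ψ : k' ⊗[k] K →+* K ⊗[k] P) (θ : K ⊗[k] P →+* P ⊗[k'] ((k' ⊗[k] K) ⧸ nilradical (k' ⊗[k] K))),
      (∀ a x, ψ (a ⊗ₜ x) = x ⊗ₜ algebraMap k' P a) ∧ Function.Surjective θ ∧
      ∀ z, θ z = 0 ↔ z ∈ (nilradical (k' ⊗[k] K)).map ψ := by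
  obtain ⟨ψ, hψ⟩ := exists_hom (k := k) (A := k') (B := K) (T := K ⊗[k] P)
    ((Algebra.TensorProduct.includeRight : P →ₐ[k] K ⊗[k] P).toRingHom.comp (algebraMap k' P))
    Algebra.TensorProduct.includeLeftRingHom (fun c => by
    show (1 : K) ⊗ₜ[k] algebraMap k' P (algebraMap k k' c) = algebraMap k K c ⊗ₜ (1 : P)
    rw [← IsScalarTower.algebraMap_apply, Algebra.algebraMap_eq_smul_one, Algebra.algebraMap_eq_smul_one,
      TensorProduct.smul_tmul])
  have hψ' : ∀ a x, ψ (a ⊗ₜ x) = x ⊗ₜ algebraMap k' P a := fun a x => by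
    rw [hψ]
    show (1 : K) ⊗ₜ[k] algebraMap k' P a * (x ⊗ₜ (1 : P)) = _
    rw [Algebra.TensorProduct.tmul_mul_tmul, one_mul, mul_one]
  let m := Ideal.Quotient.mk (nilradical (k' ⊗[k] K))
  obtain ⟨θ, hθ⟩ := exists_hom (k := k) (A := K) (B := P) (T := P ⊗[k'] ((k' ⊗[k] K) ⧸ nilradical (k' ⊗[k] K)))
    ((Algebra.TensorProduct.includeRight : _ →ₐ[k'] P ⊗[k'] ((k' ⊗[k] K) ⧸ nilradical (k' ⊗[k] K))).toRingHom.comp
      (m.comp (Algebra.TensorProduct.includeRight : K →ₐ[k] k' ⊗[k] K).toRingHom))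
    Algebra.TensorProduct.includeLeftRingHom (fun c => by
    show (1 : P) ⊗ₜ[k'] m ((1 : k') ⊗ₜ[k] algebraMap k K c) = algebraMap k P c ⊗ₜ[k'] _
    have e : m ((1 : k') ⊗ₜ[k] algebraMap k K c) = algebraMap k k' c • (1 : (k' ⊗[k] K) ⧸ nilradical (k' ⊗[k] K)) := by
      rw [← Algebra.algebraMap_eq_smul_one]
      refine congrArg m ?_
      show _ = algebraMap k k' c ⊗ₜ[k] (1 : K)
      rw [Algebra.algebraMap_eq_smul_one, Algebra.algebraMap_eq_smul_one, TensorProduct.smul_tmul]
    rw [e, ← TensorProduct.smul_tmul, ← Algebra.algebraMap_eq_smul_one, ← IsScalarTower.algebraMap_apply])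
  have hθψ : ∀ w, θ (ψ w) = (1 : P) ⊗ₜ[k'] m w := by
    intro w
    induction w using TensorProduct.induction_on with
    | zero => simp only [map_zero, TensorProduct.tmul_zero]
    | add a b ha hb => simp only [map_add, ha, hb, TensorProduct.tmul_add]
    | tmul a x =>
      rw [hψ', hθ]
      show ((1 : P) ⊗ₜ[k'] m ((1 : k') ⊗ₜ[k] x)) * (algebraMap k' P a ⊗ₜ[k'] _) = _
      rw [Algebra.TensorProduct.tmul_mul_tmul, one_mul, mul_one, Algebra.algebraMap_eq_smul_one,
        TensorProduct.smul_tmul]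
      refine congrArg _ ?_
      rw [Algebra.smul_def]
      show m (a ⊗ₜ (1 : K)) * m ((1 : k') ⊗ₜ[k] x) = _
      rw [← map_mul, Algebra.TensorProduct.tmul_mul_tmul, one_mul, mul_one]
  let mI := Ideal.Quotient.mk ((nilradical (k' ⊗[k] K)).map ψ)
  obtain ⟨ξ, hξ⟩ := exists_hom (k := k') (A := P) (B := (k' ⊗[k] K) ⧸ nilradical (k' ⊗[k] K))
    (T := (K ⊗[k] P) ⧸ (nilradical (k' ⊗[k] K)).map ψ)
    (mI.comp (Algebra.TensorProduct.includeRight : P →ₐ[k] K ⊗[k] P).toRingHom)
    (Ideal.Quotient.lift _ (mI.comp ψ) fun w hw => Ideal.Quotient.eq_zero_iff_mem.mpr (Ideal.mem_map_of_mem ψ hw))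
    (fun a => by
    show mI ((1 : K) ⊗ₜ algebraMap k' P a) = mI (ψ (a ⊗ₜ (1 : K)))
    rw [hψ'])
  refine ⟨ψ, θ, hψ', fun w => ?_, fun z => ⟨fun hz => ?_, fun hz => ?_⟩⟩
  · induction w using TensorProduct.induction_on with
    | zero => exact ⟨0, map_zero _⟩
    | add a b ha hb =>
      obtain ⟨x, rfl⟩ := ha; obtain ⟨y, rfl⟩ := hb
      exact ⟨x + y, map_add _ _ _⟩
    | tmul y b =>
      obtain ⟨w, rfl⟩ := Ideal.Quotient.mk_surjective b
      refine ⟨((1 : K) ⊗ₜ y) * ψ w, ?_⟩
      rw [map_mul, hθψ, hθ, map_one, one_mul]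
      show (y ⊗ₜ[k'] _) * _ = _
      rw [Algebra.TensorProduct.tmul_mul_tmul, one_mul, mul_one]
  · have h : ∀ z, ξ (θ z) = mI z := by
      intro z
      induction z using TensorProduct.induction_on with
      | zero => simp only [map_zero]
      | add a b ha hb => simp only [map_add, ha, hb]
      | tmul x y =>
        rw [hθ, map_mul]
        show ξ ((1 : P) ⊗ₜ[k'] m ((1 : k') ⊗ₜ[k] x)) * ξ (y ⊗ₜ[k'] 1) = _
        rw [hξ, hξ, map_one, one_mul, map_one, mul_one]
        show mI (ψ ((1 : k') ⊗ₜ[k] x)) * mI ((1 : K) ⊗ₜ y) = _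
        rw [hψ', map_one, ← map_mul, Algebra.TensorProduct.tmul_mul_tmul, one_mul, mul_one]
    rw [← Ideal.Quotient.eq_zero_iff_mem, ← h, hz, map_zero]
  · induction hz using Submodule.span_induction with
    | mem w hw =>
      obtain ⟨w, hw, rfl⟩ := hw
      rw [hθψ, show m w = 0 from Ideal.Quotient.eq_zero_iff_mem.mpr hw, TensorProduct.tmul_zero]
    | zero => exact map_zero _
    | add a b _ _ ha hb => rw [map_add, ha, hb, add_zero]
    | smul a b _ hb => rw [smul_eq_mul, map_mul, hb, mul_zero]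

theorem geomReduced_of_lift {P F : Type u} [Field P] [CharP P p] [PerfectField P] [Algebra k P] [Field F] [Algebra k F]
    [Algebra F P] [IsScalarTower k F P] (hP : ∀ y : P, ∃ n : ℕ, y ^ p ^ n ∈ (algebraMap k P).range)
    (S : Set (K ⊗[k] P)) (hS : Ideal.span S = nilradical (K ⊗[k] P))
    (hlift : ∀ s ∈ S, ∃ w, Algebra.TensorProduct.map (AlgHom.id k K) (IsScalarTower.toAlgHom k F P) w = s) :
    Algebra.IsGeometricallyReduced F ((F ⊗[k] K) ⧸ nilradical (F ⊗[k] K)) := by
  haveI : ExpChar k p := ExpChar.prime Fact.out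
  obtain ⟨ψ, θ, hψ, hsurj, hker⟩ := exists_compare (k := k) (K := K) (P := P) (k' := F)
  have hI : nilradical (K ⊗[k] P) ≤ (nilradical (F ⊗[k] K)).map ψ := by
    rw [← hS, Ideal.span_le]
    intro s hs
    obtain ⟨w, hw⟩ := hlift s hs
    have e : ∀ w : K ⊗[k] F, Algebra.TensorProduct.map (AlgHom.id k K) (IsScalarTower.toAlgHom k F P) w =
        ψ (Algebra.TensorProduct.comm k K F w) := by
      intro w
      induction w using TensorProduct.induction_on with
      | zero => simp only [map_zero]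
      | add a b ha hb => simp only [map_add, ha, hb]
      | tmul x a => rw [Algebra.TensorProduct.map_tmul, Algebra.TensorProduct.comm_tmul, hψ]; rfl
    have hw' : ψ (Algebra.TensorProduct.comm k K F w) = s := (e w).symm.trans hw
    refine hw' ▸ Ideal.mem_map_of_mem ψ ?_
    obtain ⟨n, c, hc⟩ := exists_pow_eq (P := F) (K := K) p (fun y => by
      obtain ⟨m, a, ha⟩ := hP (algebraMap F P y)
      exact ⟨m, a, (algebraMap F P).injective (by rw [map_pow, ← IsScalarTower.algebraMap_apply]; exact ha)⟩) w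
    have hsn : IsNilpotent s := by
      have h' : s ∈ nilradical (K ⊗[k] P) := hS ▸ Ideal.subset_span hs
      exact h'
    by_cases h0 : c = 0
    · refine ⟨p ^ n, ?_⟩
      rw [← map_pow, hc, h0, TensorProduct.zero_tmul]
      exact map_zero _
    · exfalso
      have hu : IsUnit (s ^ p ^ n) := by
        rw [← hw', ← map_pow, ← map_pow, hc, show c ⊗ₜ[k] (1 : F) = algebraMap K (K ⊗[k] F) c from rfl]
        exact (((IsUnit.mk0 c h0).map (algebraMap K (K ⊗[k] F))).map (Algebra.TensorProduct.comm k K F)).map ψ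
      haveI : Nontrivial (K ⊗[k] P) := (Module.FaithfullyFlat.nontrivial_tensorProduct_iff_left k K).mpr inferInstance
      exact hu.not_isNilpotent (hsn.pow_of_pos (pow_ne_zero n (Fact.out : p.Prime).ne_zero))
  haveI : IsReduced (P ⊗[F] ((F ⊗[k] K) ⧸ nilradical (F ⊗[k] K))) := ⟨fun w hw => by
    obtain ⟨z, rfl⟩ := hsurj w
    obtain ⟨n, hn⟩ := hw
    rw [← map_pow, hker] at hn
    have hnil : IsNilpotent z := by
      have hle : (nilradical (F ⊗[k] K)).map ψ ≤ nilradical (K ⊗[k] P) :=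
        Ideal.map_le_iff_le_comap.mpr fun a ha => IsNilpotent.map ha ψ
      obtain ⟨m, hm⟩ := hle hn
      exact ⟨n * m, by rw [pow_mul, hm]⟩
    exact (hker z).mpr (hI hnil)⟩
  rw [Algebra.isGeometricallyReduced_field_iff]
  haveI : PerfectField (AlgebraicClosure F) := inferInstance
  haveI : IsPurelyInseparable F P := by
    haveI : ExpChar F p := expChar_of_injective_algebraMap (algebraMap k F).injective p
    rw [isPurelyInseparable_iff_pow_mem F p]
    intro y
    obtain ⟨n, a, ha⟩ := hP y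
    exact ⟨n, algebraMap k F a, by rw [← IsScalarTower.algebraMap_apply, ha]⟩
  obtain ⟨j⟩ := (inferInstance : Nonempty (P →ₐ[F] AlgebraicClosure F))
  letI := j.toRingHom.toAlgebra
  haveI : IsScalarTower F P (AlgebraicClosure F) := IsScalarTower.of_algebraMap_eq fun a => (j.commutes a).symm
  haveI := Groth.Agent.FinHopf.isReduced_tensor_of_perfect P
    (P ⊗[F] ((F ⊗[k] K) ⧸ nilradical (F ⊗[k] K))) (AlgebraicClosure F)
  exact isReduced_of_injective _
    (Algebra.TensorProduct.cancelBaseChange F P (AlgebraicClosure F) (AlgebraicClosure F)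
      ((F ⊗[k] K) ⧸ nilradical (F ⊗[k] K))).symm.injective

/-- a) iff c): let k be a field of characteristic p > 0, P a perfect closure of k (a perfect field
purely inseparable over k) and K an extension field of k. Then the ring K ⊗_k P is Artinian if and
only if there exists a finite purely inseparable extension k' of k such that (k' ⊗_k K) modulo its
nilradical is geometrically reduced over k'. -/
theorem result (p : ℕ) [Fact p.Prime]
    (k K : Type u) [Field k] [CharP k p] [Field K] [Algebra k K]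
    (P : Type u) [Field P] [Algebra k P] [PerfectRing P p] [IsPRadical (algebraMap k P) p] :
    IsArtinianRing (K ⊗[k] P) ↔
      ∃ (k' : Type u) (_ : Field k') (_ : Algebra k k'), Module.Finite k k' ∧ IsPurelyInseparable k k' ∧
        Algebra.IsGeometricallyReduced k' ((k' ⊗[k] K) ⧸ nilradical (k' ⊗[k] K)) := by
  classical
  haveI : CharP P p := charP_of_injective_algebraMap (algebraMap k P).injective p
  haveI : PerfectField P := PerfectRing.toPerfectField P p
  have hP : ∀ y : P, ∃ n : ℕ, y ^ p ^ n ∈ (algebraMap k P).range := fun y => by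
    obtain ⟨n, a, ha⟩ := IsPRadical.pow_mem (algebraMap k P) p y
    exact ⟨n, a, ha⟩
  rw [artinian_iff_fg p hP]
  constructor
  · rintro ⟨S, hS⟩
    choose t ht using fun s : S => exists_finset (s : K ⊗[k] P)
    let T : Finset P := Finset.univ.biUnion t
    have hint : ∀ y : P, IsIntegral k y := fun y => by
      obtain ⟨n, a, ha⟩ := hP y
      exact IsIntegral.of_pow (Nat.pos_of_ne_zero (pow_ne_zero n (Fact.out : p.Prime).ne_zero)) (ha ▸ isIntegral_algebraMap)
    let F := IntermediateField.adjoin k (T : Set P)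
    haveI : FiniteDimensional k F := IntermediateField.finiteDimensional_adjoin fun y _ => hint y
    haveI : ExpChar k p := ExpChar.prime Fact.out
    haveI : IsPurelyInseparable k F := by
      rw [isPurelyInseparable_iff_pow_mem k p]
      intro y
      obtain ⟨n, a, ha⟩ := hP y
      exact ⟨n, a, Subtype.ext ha⟩
    refine ⟨F, inferInstance, inferInstance, inferInstance, inferInstance, ?_⟩
    refine geomReduced_of_lift p hP (S : Set (K ⊗[k] P)) hS fun s hs => ?_
    exact ht ⟨s, hs⟩ F.toSubalgebra fun y hy => IntermediateField.subset_adjoin k _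
      (Finset.mem_coe.mpr (Finset.mem_biUnion.mpr ⟨⟨s, hs⟩, Finset.mem_univ _, hy⟩))
  · rintro ⟨k', _, _, _, _, hgr⟩
    obtain ⟨j⟩ := (inferInstance : Nonempty (k' →ₐ[k] P))
    letI := j.toRingHom.toAlgebra
    haveI : IsScalarTower k k' P := IsScalarTower.of_algebraMap_eq fun a => (j.commutes a).symm
    obtain ⟨ψ, θ, hψ, hsurj, hker⟩ := exists_compare (k := k) (K := K) (P := P) (k' := k')
    haveI := Groth.Agent.GeomRedPull.isReduced_field_tensor (k := k') (A := (k' ⊗[k] K) ⧸ nilradical (k' ⊗[k] K)) P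
    have heq : nilradical (K ⊗[k] P) = (nilradical (k' ⊗[k] K)).map ψ := le_antisymm
      (fun z hz => (hker z).mp (isNilpotent_iff_eq_zero.mp (IsNilpotent.map hz θ)))
      (Ideal.map_le_iff_le_comap.mpr fun a ha => IsNilpotent.map ha ψ)
    haveI : IsNoetherianRing (k' ⊗[k] K) := by
      haveI : IsNoetherianRing (K ⊗[k] k') := IsNoetherianRing.of_finite K _
      exact isNoetherianRing_of_ringEquiv _ (Algebra.TensorProduct.comm k K k').toRingEquiv
    rw [heq]
    exact Ideal.FG.map (IsNoetherian.noetherian (nilradical (k' ⊗[k] K))) ψ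

end Groth.Agent.S5061
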