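import Groth.Statements.S5063
-- import your own Groth.Agent.* helpers here
import Groth.Agent.TwConst.UnramifiedNbhd
import Groth.Agent.UnramPt.Basic

set_option autoImplicit false
open CategoryTheory CategoryTheory.Limits AlgebraicGeometry
universe u
open Unram

namespace Groth.Agent.S5063

/-- Let f : X ⟶ Y be locally of finite presentation. If f is unramified then there are étale morphisms
g_a : Y'_a ⟶ Y and opens U_a of the fibre products X ×_Y Y'_a whose images under the first
projections cover X, such that each U_a ⟶ Y'_a (inclusion followed by the second projection) is a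
closed immersion. Conversely, the existence of such a family with the g_a only assumed flat implies
that f is unramified. -/
theorem result {X Y : Scheme.{u}} (f : X ⟶ Y) [LocallyOfFinitePresentation f] :
    (FormallyUnramified f → ∃ (ι : Type u) (Y' : ι → Scheme.{u}) (g : ∀ a, Y' a ⟶ Y) (U : ∀ a, (pullback f (g a)).Opens),
      (∀ a, Etale (g a)) ∧ (∀ x : X, ∃ a, x ∈ (pullback.fst f (g a)).base '' (U a : Set ↥(pullback f (g a)))) ∧
        ∀ a, IsClosedImmersion ((U a).ι ≫ pullback.snd f (g a))) ∧
    ((∃ (ι : Type u) (Y' : ι → Scheme.{u}) (g : ∀ a, Y' a ⟶ Y) (U : ∀ a, (pullback f (g a)).Opens),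
      (∀ a, Flat (g a)) ∧ (∀ x : X, ∃ a, x ∈ (pullback.fst f (g a)).base '' (U a : Set ↥(pullback f (g a)))) ∧
        ∀ a, IsClosedImmersion ((U a).ι ≫ pullback.snd f (g a))) → FormallyUnramified f) := by
  constructor
  · intro hf
    haveI := hf
    have H : ∀ x : X, ∃ (Y' : Scheme.{u}) (g : Y' ⟶ Y) (U : (pullback f g).Opens), Etale g ∧
        x ∈ (pullback.fst f g).base '' (U : Set ↥(pullback f g)) ∧
        IsClosedImmersion (U.ι ≫ pullback.snd f g) := by
      intro x
      obtain ⟨Y', g, u, hg, hu, K, -, lab, V, v, hV, -, hall, -⟩ :=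
        TwConst.exists_unramified_split f (f x) (fun _ : Unit => x) (fun _ => rfl)
          (fun _ => ⟨⊤, trivial, inferInstance, MorphismProperty.comp_mem _ _ _ inferInstance hf⟩)
      obtain ⟨w, hwx, hwu⟩ := Scheme.Pullback.exists_preimage_pullback (f := f) (g := g) x u hu.symm
      obtain ⟨k, rfl⟩ := hall w () hwu hwx
      exact ⟨Y', g, V k, hg, ⟨v k, (hV k).1, hwx⟩, (hV k).2.1⟩
    choose Y' g U hg hx hc using H
    exact ⟨X, Y', g, U, hg, fun x => ⟨x, hx x⟩, hc⟩
  · rintro ⟨ι, Y', g, U, -, hcov, hc⟩
    have hloc : ∀ x : X, ∃ V : X.Opens, x ∈ V ∧ FormallyUnramified (V.ι ≫ f) := fun x => by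
      obtain ⟨a, w, hw, rfl⟩ := hcov x
      haveI := hc a
      exact UnramPt.exists_nhd_of_baseChange f (g a) w (U a) hw inferInstance
    choose V hxV hV using hloc
    exact (IsZariskiLocalAtSource.iff_of_openCover (P := @FormallyUnramified)
      (X.openCoverOfIsOpenCover V (TopologicalSpace.Opens.ext (Set.eq_univ_of_forall fun x => by
        rw [TopologicalSpace.Opens.coe_iSup]; exact Set.mem_iUnion.2 ⟨x, hxV x⟩)))).2 hV

end Groth.Agent.S5063
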