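import Groth.Statements.S5064
-- import your own Groth.Agent.* helpers here
import Groth.Agent.UnramPt.Basic
import Groth.Agent.SepSurj.Basic

set_option autoImplicit false
open CategoryTheory CategoryTheory.Limits AlgebraicGeometry
universe u
open Unram

namespace Groth.Agent.S5064

/-- Let f : X ⟶ Y be locally of finite presentation. If f is étale then there are étale morphisms g_a :
Y'_a ⟶ Y and opens U_a of the fibre products X ×_Y Y'_a whose images under the first projections
cover X, such that each U_a ⟶ Y'_a (inclusion followed by the second projection) is an open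
immersion. Conversely, the existence of such a family with the g_a only assumed flat implies that f
is étale. -/
theorem result {X Y : Scheme.{u}} (f : X ⟶ Y) [LocallyOfFinitePresentation f] :
    (Etale f → ∃ (ι : Type u) (Y' : ι → Scheme.{u}) (g : ∀ a, Y' a ⟶ Y) (U : ∀ a, (pullback f (g a)).Opens),
      (∀ a, Etale (g a)) ∧ (∀ x : X, ∃ a, x ∈ (pullback.fst f (g a)).base '' (U a : Set ↥(pullback f (g a)))) ∧
        ∀ a, IsOpenImmersion ((U a).ι ≫ pullback.snd f (g a))) ∧
    ((∃ (ι : Type u) (Y' : ι → Scheme.{u}) (g : ∀ a, Y' a ⟶ Y) (U : ∀ a, (pullback f (g a)).Opens),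
      (∀ a, Flat (g a)) ∧ (∀ x : X, ∃ a, x ∈ (pullback.fst f (g a)).base '' (U a : Set ↥(pullback f (g a)))) ∧
        ∀ a, IsOpenImmersion ((U a).ι ≫ pullback.snd f (g a))) → Etale f) := by
  refine ⟨fun hf => ?_, ?_⟩
  · haveI := hf
    refine ⟨PUnit, fun _ => X, fun _ => f, fun _ => (pullback.diagonal f).opensRange, fun _ => hf,
      fun x => ⟨PUnit.unit, pullback.diagonal f x, ⟨x, rfl⟩, ?_⟩, fun _ => ?_⟩
    · rw [← Scheme.Hom.comp_apply, pullback.diagonal_fst]; rfl
    · rw [← MorphismProperty.cancel_left_of_respectsIso @IsOpenImmersion (pullback.diagonal f).isoOpensRange.hom,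
        ← Category.assoc, Scheme.Hom.isoOpensRange_hom_ι, pullback.diagonal_snd]
      infer_instance
  rintro ⟨ι, Y', g, U, hg, hcov, hopen⟩
  have hflat : Flat f := Flat.of_stalkMap f fun x => by
    obtain ⟨a, w, hw, rfl⟩ := hcov x
    haveI := hg a
    haveI := hopen a
    let π : (U a).toScheme ⟶ X := (U a).ι ≫ pullback.fst f (g a)
    haveI : Flat π := inferInstance
    have hπf : π ≫ f = ((U a).ι ≫ pullback.snd f (g a)) ≫ g a := by
      simp only [π, Category.assoc, pullback.condition]
    haveI : Flat (π ≫ f) := by rw [hπf]; infer_instance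
    let u : (U a).toScheme := ⟨w, hw⟩
    have h1 : ((π.stalkMap u).hom.comp (f.stalkMap (π u)).hom).Flat := by
      have h0 := Flat.stalkMap (π ≫ f) u
      rw [Scheme.Hom.stalkMap_comp] at h0
      exact h0
    letI := (f.stalkMap (π u)).hom.toAlgebra
    letI := (π.stalkMap u).hom.toAlgebra
    letI := ((π.stalkMap u).hom.comp (f.stalkMap (π u)).hom).toAlgebra
    haveI : IsScalarTower (Y.presheaf.stalk (f (π u))) (X.presheaf.stalk (π u)) ((U a).toScheme.presheaf.stalk u) :=
      IsScalarTower.of_algebraMap_eq fun _ => rfl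
    haveI : Module.Flat (Y.presheaf.stalk (f (π u))) ((U a).toScheme.presheaf.stalk u) := h1
    haveI : Module.Flat (X.presheaf.stalk (π u)) ((U a).toScheme.presheaf.stalk u) := Flat.stalkMap π u
    haveI : IsLocalHom (algebraMap (X.presheaf.stalk (π u)) ((U a).toScheme.presheaf.stalk u)) := π.toLRSHom.prop u
    haveI : Module.FaithfullyFlat (X.presheaf.stalk (π u)) ((U a).toScheme.presheaf.stalk u) :=
      Module.FaithfullyFlat.of_flat_of_isLocalHom
    exact (SepSurj.flat_of_comp_faithfullyFlat (R := Y.presheaf.stalk (f (π u))) (S := X.presheaf.stalk (π u))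
      (T := (U a).toScheme.presheaf.stalk u) :)
  have hunr : FormallyUnramified f := by
    have hloc : ∀ x : X, ∃ V : X.Opens, x ∈ V ∧ FormallyUnramified (V.ι ≫ f) := fun x => by
      obtain ⟨a, w, hw, rfl⟩ := hcov x
      haveI := hopen a
      exact UnramPt.exists_nhd_of_baseChange f (g a) w (U a) hw inferInstance
    choose V hxV hV using hloc
    exact (IsZariskiLocalAtSource.iff_of_openCover (P := @FormallyUnramified)
      (X.openCoverOfIsOpenCover V (TopologicalSpace.Opens.ext (Set.eq_univ_of_forall fun x => by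
        rw [TopologicalSpace.Opens.coe_iSup]; exact Set.mem_iUnion.2 ⟨x, hxV x⟩)))).2 hV
  exact Etale.of_formallyUnramified_of_flat f

end Groth.Agent.S5064
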