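import Groth.Statements.S5065

import Mathlib

set_option autoImplicit false
set_option maxHeartbeats 1000000
open scoped TensorProduct
universe u
open Unram

namespace Groth.Agent.S5065

theorem from_base {R : Type u} [CommRing R] [IsDomain R] [IsIntegrallyClosed R] {K : Type u} [Field K]
    [Algebra R K] [IsFractionRing R K] {B : Type u} [CommRing B] [Algebra R B] [Algebra.Smooth R B]
    (q : K ⊗[R] B) (hq : IsIntegral R q) : ∃ b : B, q = (1 : K) ⊗ₜ[R] b := by
  let c := Algebra.TensorProduct.comm R K B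
  have hz : c q ∈ integralClosure B (B ⊗[R] K) := IsIntegral.tower_top (hq.map c)
  obtain ⟨w, hw⟩ := (TensorProduct.toIntegralClosure_bijective_of_smooth (R := R) (S := B) (B := K)).2 ⟨_, hz⟩
  have key : ∀ w, ∃ x : B, ((TensorProduct.toIntegralClosure R B K w : integralClosure B (B ⊗[R] K)) : B ⊗[R] K) = x ⊗ₜ 1 := by
    intro w
    induction w with
    | zero => exact ⟨0, by simp⟩
    | tmul x y =>
      obtain ⟨r, hr⟩ := IsIntegrallyClosed.isIntegral_iff.1 y.2
      refine ⟨r • x, ?_⟩
      show x ⊗ₜ[R] (y : K) = _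
      rw [← hr, TensorProduct.smul_tmul, Algebra.smul_def, mul_one]
    | add a c ha hc =>
      obtain ⟨x, hx⟩ := ha
      obtain ⟨y, hy⟩ := hc
      exact ⟨x + y, by rw [map_add, AddMemClass.coe_add, hx, hy, TensorProduct.add_tmul]⟩
  obtain ⟨x, hx⟩ := key w
  rw [hw] at hx
  exact ⟨x, c.injective (hx.trans (by simp [c]))⟩

theorem integral_mul_idem {R : Type*} [CommRing R] {Q : Type*} [CommRing Q] [Algebra R Q] (e q : Q)
    (he : e * e = e) (p : Polynomial R) (hp : p.Monic) (h : e * Polynomial.aeval q p = 0) :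
    IsIntegral R (e * q) := by
  have key : ∀ f : Polynomial R, e * Polynomial.aeval (e * q) f = e * Polynomial.aeval q f := fun f => by
    induction f using Polynomial.induction_on with
    | C a => simp
    | add f g hf hg => rw [map_add, map_add, mul_add, mul_add, hf, hg]
    | monomial n a ih =>
      rw [pow_succ, ← mul_assoc, map_mul (Polynomial.aeval (e * q)), map_mul (Polynomial.aeval q),
        Polynomial.aeval_X, Polynomial.aeval_X]
      linear_combination (e * q) * ih + (Polynomial.aeval q (Polynomial.C a * Polynomial.X ^ n) * q) * he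
  refine ⟨Polynomial.X * p, Polynomial.monic_X.mul hp, ?_⟩
  rw [← Polynomial.aeval_def, map_mul, Polynomial.aeval_X, mul_comm e q, mul_assoc, mul_comm q e, key, h, mul_zero]

theorem exists_factor {Q : Type*} [CommRing Q] [IsArtinianRing Q] [IsReduced Q] {M : Type*} [Field M]
    (ψ : Q →+* M) : ∃ e : Q, e * e = e ∧ ψ e = 1 ∧ (∀ a, ψ a = 0 → e * a = 0) ∧
      ∀ a, ψ a ≠ 0 → ∃ b, ψ b = (ψ a)⁻¹ := by
  classical
  haveI : (RingHom.ker ψ).IsPrime := RingHom.ker_isPrime ψ
  have hmax : (RingHom.ker ψ).IsMaximal := IsArtinianRing.isMaximal_of_isPrime (RingHom.ker ψ)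
  let I : MaximalSpectrum Q := ⟨RingHom.ker ψ, hmax⟩
  let eQ := IsArtinianRing.equivPi Q
  let e : Q := eQ.symm (Pi.single I 1)
  have heI : ∀ J : MaximalSpectrum Q, Ideal.Quotient.mk J.asIdeal e = if J = I then 1 else 0 := fun J => by
    have h := congrFun (eQ.apply_symm_apply (Pi.single I 1)) J
    rw [IsArtinianRing.equivPi_apply] at h
    split_ifs with hJI
    · subst hJI; rw [Pi.single_eq_same] at h; exact h
    · rw [Pi.single_eq_of_ne hJI] at h; exact h
  have hzero : ∀ a : Q, (∀ J : MaximalSpectrum Q, Ideal.Quotient.mk J.asIdeal a = 0) → a = 0 := fun a ha => by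
    apply eQ.injective
    rw [map_zero]
    funext J
    rw [IsArtinianRing.equivPi_apply]
    exact ha J
  refine ⟨e, ?_, ?_, fun a ha => hzero _ fun J => ?_, fun a ha => ?_⟩
  · refine sub_eq_zero.1 <| hzero _ fun J => ?_
    rw [map_sub, map_mul, heI]; split_ifs <;> simp
  · have h := heI I
    rw [if_pos rfl, ← map_one (Ideal.Quotient.mk I.asIdeal), Ideal.Quotient.eq] at h
    have h1 : ψ (e - 1) = 0 := h
    rwa [map_sub, map_one, sub_eq_zero] at h1
  · rw [map_mul, heI]
    split_ifs with h
    · rw [h, one_mul, Ideal.Quotient.eq_zero_iff_mem]; exact ha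
    · rw [zero_mul]
  · obtain ⟨b, i, hi, hbi⟩ := Ideal.IsMaximal.exists_inv hmax ha
    refine ⟨b, ?_⟩
    have h1 := congrArg ψ hbi
    rw [map_add, map_mul, show ψ i = 0 from hi, add_zero, map_one] at h1
    exact eq_inv_of_mul_eq_one_left h1


/-- Let A ⊆ A' be integrally closed domains, L a field algebraic over the fraction field of A in which A
embeds and whose integral closure C over A is an étale A-algebra, and L₁ a field in which A' and L
both embed, compatibly over A, and which is generated as a field by the images of A' and L (a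
compositum of L with the fraction field of A'; the map A' → L₁ is injective, so that the fraction
field of A' is a subfield of L₁). Then the integral closure of A' in L₁ is an étale A'-algebra and
coincides with the A'-subalgebra generated by the image of C. -/
theorem result (A A' L L₁ : Type u) [CommRing A] [IsDomain A]
    [IsIntegrallyClosed A] [CommRing A'] [IsDomain A'] [IsIntegrallyClosed A'] [Algebra A A']
    [Field L] [Algebra A L] [Algebra.IsAlgebraic A L] (hinj : Function.Injective (algebraMap A L))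
    [Algebra.Etale A ↥(integralClosure A L)]
    [Field L₁] [Algebra A' L₁] [Algebra L L₁] [Algebra A L₁] [IsScalarTower A A' L₁] [IsScalarTower A L L₁]
    (hinj' : Function.Injective (algebraMap A' L₁))
    (hgen : Subfield.closure (Set.range (algebraMap A' L₁) ∪ Set.range (algebraMap L L₁)) = ⊤) :
    Algebra.Etale A' ↥(integralClosure A' L₁) ∧
      integralClosure A' L₁ = Algebra.adjoin A' ((algebraMap L L₁) '' {x : L | IsIntegral A x}) := by
  classical
  let C := integralClosure A L
  let K := FractionRing A'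
  let B := A' ⊗[A] C
  let Q := K ⊗[A'] B
  have : Algebra.Etale K Q := inferInstance
  have : Module.Free K Q := Module.Free.of_divisionRing K Q
  have : Module.Finite K Q := Algebra.FormallyUnramified.finite_of_free K Q
  have : IsArtinianRing Q := .of_finite K Q
  have : IsReduced Q := Algebra.FormallyUnramified.isReduced_of_field K Q
  let ρ : K →ₐ[A'] L₁ := IsFractionRing.liftAlgHom (g := Algebra.ofId A' L₁) hinj'
  let ξ : B →ₐ[A'] L₁ := Algebra.TensorProduct.lift (Algebra.ofId A' L₁)
    ((IsScalarTower.toAlgHom A L L₁).comp C.val) fun _ _ => .all _ _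
  let ψ : Q →ₐ[A'] L₁ := Algebra.TensorProduct.lift ρ ξ fun _ _ => .all _ _
  have hψ1 : ∀ b : B, ψ ((1 : K) ⊗ₜ[A'] b) = ξ b := fun b =>
    (Algebra.TensorProduct.lift_tmul ρ ξ (fun _ _ => .all _ _) 1 b).trans (by rw [map_one, one_mul])
  have hξ1 : ∀ c : C, ξ ((1 : A') ⊗ₜ[A] c) = algebraMap L L₁ (c : L) := fun c =>
    (Algebra.TensorProduct.lift_tmul _ _ _ (1 : A') c).trans (by rw [map_one, one_mul]; rfl)
  obtain ⟨e, he2, heψ, hek, hinv⟩ := exists_factor (Q := Q) ψ.toRingHom
  replace heψ : ψ e = 1 := heψ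
  replace hek : ∀ a, ψ a = 0 → e * a = 0 := hek
  -- `ψ` is surjective
  have hsurj : Function.Surjective ψ := by
    let rg : Subring L₁ := RingHom.range (R := Q) ψ.toRingHom
    have hrg : ∀ y ∈ rg, y⁻¹ ∈ rg := by
      rintro _ ⟨a, rfl⟩
      by_cases ha : ψ.toRingHom a = 0
      · exact ⟨0, by rw [map_zero]; exact (inv_eq_zero.2 ha).symm⟩
      · exact hinv a ha
    let T : Subfield L₁ := { rg with inv_mem' := hrg }
    have hA : ∀ a' : A', algebraMap A' L₁ a' ∈ T := fun a' => ⟨algebraMap A' Q a', ψ.commutes a'⟩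
    have hC : ∀ c : C, algebraMap L L₁ (c : L) ∈ T := fun c => ⟨(1 : K) ⊗ₜ ((1 : A') ⊗ₜ[A] c), (hψ1 _).trans (hξ1 c)⟩
    have hL : ∀ l : L, algebraMap L L₁ l ∈ T := fun l => by
      obtain ⟨a, ha, hint⟩ := (Algebra.IsAlgebraic.isAlgebraic (R := A) l).exists_integral_multiple
      have h1 := hC ⟨a • l, hint⟩
      have h0 : algebraMap A L a ≠ 0 := fun h => ha (hinj (by rw [h, map_zero]))
      have h2 : algebraMap L L₁ (algebraMap A L a) ∈ T := by
        rw [← IsScalarTower.algebraMap_apply A L L₁, IsScalarTower.algebraMap_apply A A' L₁]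
        exact hA _
      have h3 := T.mul_mem (T.inv_mem h2) h1
      rw [← map_inv₀, ← map_mul] at h3
      change algebraMap L L₁ ((algebraMap A L a)⁻¹ * (a • l)) ∈ T at h3
      rwa [Algebra.smul_def, inv_mul_cancel_left₀ h0] at h3
    intro y
    have hy : y ∈ T := (Subfield.closure_le.2 (Set.union_subset (Set.range_subset_iff.2 hA) (Set.range_subset_iff.2 hL)))
      (hgen.ge (trivial : y ∈ (⊤ : Subfield L₁)))
    exact hy
  -- integral elements come from `B`
  have hB : ∀ q : Q, IsIntegral A' q → ∃ b : B, q = (1 : K) ⊗ₜ[A'] b := fun q hq => from_base q hq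
  have hBinj : Function.Injective fun b : B => (1 : K) ⊗ₜ[A'] b :=
    Algebra.TensorProduct.includeRight_injective (R := A') (A := K) (IsFractionRing.injective A' K)
  obtain ⟨eB, heB⟩ := hB e ⟨Polynomial.X ^ 2 - Polynomial.X, Polynomial.monic_X_pow_sub (by rw [Polynomial.degree_X]; norm_num),
    by simp [pow_two, he2]⟩
  have hint : ∀ y : L₁, IsIntegral A' y → ∃ b : B, ξ b = y := fun y hy => by
    obtain ⟨q, rfl⟩ := hsurj y
    obtain ⟨p, hp, hpy⟩ := hy
    have hpq : e * Polynomial.aeval q p = 0 := hek _ (by rw [← Polynomial.aeval_algHom_apply]; exact hpy)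
    have hi : IsIntegral A' (e * q) := integral_mul_idem e q he2 p hp hpq
    obtain ⟨b, hb⟩ := hB _ hi
    exact ⟨b, by rw [← hψ1, ← hb, map_mul, heψ, one_mul]⟩
  have hBint : ∀ b : B, IsIntegral A' (ξ b) := fun b => by
    induction b using TensorProduct.induction_on with
    | zero => rw [map_zero]; exact isIntegral_zero
    | add x y hx hy => rw [map_add]; exact hx.add hy
    | tmul a c =>
      rw [show a ⊗ₜ[A] c = a • ((1 : A') ⊗ₜ[A] c) by rw [TensorProduct.smul_tmul', smul_eq_mul, mul_one], map_smul, hξ1]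
      exact IsIntegral.smul a (IsIntegral.tower_top ((c.2 : IsIntegral A (c : L)).map (IsScalarTower.toAlgHom A L L₁)))
  refine ⟨?_, le_antisymm ?_ ?_⟩
  · let S := integralClosure A' L₁
    let ξS : B →ₐ[A'] S := ξ.codRestrict S hBint
    let : Algebra B S := ξS.toRingHom.toAlgebra
    have : IsScalarTower A' B S := .of_algebraMap_eq fun a => (ξS.commutes a).symm
    have hidem : IsIdempotentElem eB := hBinj (by
      change (1 : K) ⊗ₜ[A'] (eB * eB) = (1 : K) ⊗ₜ[A'] eB
      rw [← heB]
      calc (1 : K) ⊗ₜ[A'] (eB * eB) = ((1 : K) ⊗ₜ[A'] eB) * ((1 : K) ⊗ₜ[A'] eB) := by simp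
        _ = e := by rw [← heB, he2])
    have hloc : IsLocalization.Away eB S := by
      refine IsLocalization.away_of_isIdempotentElem hidem (le_antisymm (fun b hb => ?_) ?_) ?_
      · have h1 : ψ ((1 : K) ⊗ₜ[A'] b) = 0 := by
          rw [hψ1]; exact congrArg Subtype.val hb
        have h2 : eB * b = 0 := hBinj (by
          change (1 : K) ⊗ₜ[A'] (eB * b) = (1 : K) ⊗ₜ[A'] (0 : B)
          rw [TensorProduct.tmul_zero, ← hek _ h1, heB, Algebra.TensorProduct.tmul_mul_tmul, one_mul])
        exact Ideal.mem_span_singleton'.2 ⟨b, by rw [mul_sub, mul_one, mul_comm, h2, sub_zero]⟩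
      · rw [Ideal.span_singleton_le_iff_mem, RingHom.mem_ker]
        refine Subtype.ext ?_
        change ξ (1 - eB) = 0
        rw [map_sub, map_one, ← hψ1, ← heB, heψ, sub_self]
      · rintro ⟨y, hy⟩
        obtain ⟨b, hb⟩ := hint y hy
        exact ⟨b, Subtype.ext hb⟩
    have : Algebra.Etale B S := Algebra.Etale.of_isLocalizationAway eB
    exact Algebra.Etale.comp A' B S
  · intro y hy
    obtain ⟨b, rfl⟩ := hint y hy
    induction b using TensorProduct.induction_on with
    | zero => rw [map_zero]; exact zero_mem _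
    | add x y hx hy' => rw [map_add]; exact add_mem (hx (hBint x)) (hy' (hBint y))
    | tmul a c =>
      rw [show a ⊗ₜ[A] c = a • ((1 : A') ⊗ₜ[A] c) by rw [TensorProduct.smul_tmul', smul_eq_mul, mul_one], map_smul, hξ1]
      exact Subalgebra.smul_mem _ (Algebra.subset_adjoin (s := algebraMap L L₁ '' {x : L | IsIntegral A x}) ⟨(c : L), c.2, rfl⟩) a
  · refine Algebra.adjoin_le ?_
    rintro _ ⟨c, hc, rfl⟩
    exact IsIntegral.tower_top ((hc : IsIntegral A c).map (IsScalarTower.toAlgHom A L L₁))

end Groth.Agent.S5065
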