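import Groth.Statements.S5066
import Groth.Agent.Hensel.Local
import Mathlib.FieldTheory.PurelyInseparable.Basic
import Mathlib
-- import your own Groth.Agent.* helpers here

set_option autoImplicit false
universe u
open Hensel

namespace Groth.Agent.S5066

/-- Case of a local ring, affine étale schemes: a local ring A with maximal ideal m is henselian if and
only if, for every finite A-algebra C and every étale A-algebra E, composing with the projection C →
C/mC is a bijection from the set of A-algebra homomorphisms E → C onto the set of A-algebra
homomorphisms E → C/mC. -/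
theorem result (A : Type u) [CommRing A] [IsLocalRing A] :
    HenselianLocalRing A ↔
      ∀ (C : Type u) [CommRing C] [Algebra A C] [Module.Finite A C] (E : Type u) [CommRing E] [Algebra A E] [Algebra.Etale A E],
        Function.Bijective (fun φ : E →ₐ[A] C =>
          (Ideal.Quotient.mkₐ A (Ideal.map (algebraMap A C) (IsLocalRing.maximalIdeal A))).comp φ) := by
  refine ⟨fun _ C _ _ _ E _ _ _ => ?_, fun h => ?_⟩
  · haveI := Hensel.henselianRing_integral A (IsLocalRing.maximalIdeal A) C
    have hK : HenselianRing C (RingHom.ker (Ideal.Quotient.mkₐ A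
        (Ideal.map (algebraMap A C) (IsLocalRing.maximalIdeal A))).toRingHom) := by
      rw [show RingHom.ker (Ideal.Quotient.mkₐ A (Ideal.map (algebraMap A C) (IsLocalRing.maximalIdeal A))).toRingHom =
        _ from Ideal.mk_ker]
      infer_instance
    rw [Function.bijective_iff_existsUnique]
    exact fun σ => Hensel.existsUnique_algHom_of_quotient _ Ideal.Quotient.mk_surjective hK σ
  · refine Hensel.henselianLocalRing_of_retraction A fun S _ _ _ q _ hq hs => ?_
    have hs' : Function.Surjective (algebraMap A q.ResidueField) := hs
    have hm : ∀ a ∈ IsLocalRing.maximalIdeal A, algebraMap A q.ResidueField a = 0 := fun a ha => by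
      rw [IsScalarTower.algebraMap_apply A S q.ResidueField, Ideal.algebraMap_residueField_eq_zero]
      have := hq.over
      rw [this] at ha
      exact ha
    let φ : (A ⧸ IsLocalRing.maximalIdeal A) →ₐ[A] q.ResidueField :=
      Ideal.Quotient.liftₐ _ (Algebra.ofId A q.ResidueField) hm
    have hbij : Function.Bijective φ := ⟨(letI := Ideal.Quotient.field (IsLocalRing.maximalIdeal A)
      φ.toRingHom.injective), fun z => by
        obtain ⟨a, rfl⟩ := hs' z
        exact ⟨Ideal.Quotient.mk _ a, φ.commutes a⟩⟩
    let e := AlgEquiv.ofBijective φ hbij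
    have hJ : (IsLocalRing.maximalIdeal A).map (algebraMap A A) = IsLocalRing.maximalIdeal A := Ideal.map_id _
    let σ : S →ₐ[A] A ⧸ (IsLocalRing.maximalIdeal A).map (algebraMap A A) :=
      (Ideal.quotientEquivAlgOfEq A hJ.symm).toAlgHom.comp
        (e.symm.toAlgHom.comp (IsScalarTower.toAlgHom A S q.ResidueField))
    obtain ⟨f, -⟩ := (h A S).2 σ
    exact ⟨f⟩

end Groth.Agent.S5066
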