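import Groth.Statements.S5067
-- import your own Groth.Agent.* helpers here
import Groth.Agent.UnibranchEtale.QFComponents

set_option autoImplicit false
open CategoryTheory AlgebraicGeometry
universe u
open Unram

namespace Groth.Agent.S5067

/-- Let f : X ⟶ Y be an étale separated morphism of integral schemes which maps the generic point of X
to the generic point of Y and induces a bijection between the residue fields of the generic points
(f is birational). Then f is an open immersion. -/
theorem result {X Y : Scheme.{u}} [IsIntegral X] [IsIntegral Y]
    (f : X ⟶ Y) [Etale f] [IsSeparated f] (hgen : f.base (genericPoint X) = genericPoint Y)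
    (hbir : Function.Bijective (f.residueFieldMap (genericPoint X)).hom) : IsOpenImmersion f := by
  suffices Mono f from IsOpenImmersion.of_flat_of_mono f
  haveI := UnibranchEtale.locallyQuasiFinite_of_unramified f
  have huniq : ∀ x : X, f x = genericPoint Y → x = genericPoint X := fun x hx =>
    (UnibranchEtale.maximal_over_generic f hx _ ((genericPoint_spec X).specializes trivial)).symm
  haveI : IsIso (f.residueFieldMap (genericPoint X)) := (ConcreteCategory.isIso_iff_bijective _).2 hbir
  suffices Surjective (Limits.pullback.diagonal f) by
    haveI : IsIso (Limits.pullback.diagonal f) :=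
      (isIso_iff_isOpenImmersion_and_surjective _).2 ⟨inferInstance, this⟩
    exact (Limits.pullback.isIso_diagonal_iff f).1 this
  refine ⟨fun p => ?_⟩
  obtain ⟨z, hz, hmax⟩ := UnibranchEtale.exists_generic (irreducibleComponent_mem_irreducibleComponents p)
  have hzp : z ⤳ p := hz.specializes mem_irreducibleComponent
  refine hzp.mem_closed (Limits.pullback.diagonal f).isClosedEmbedding.isClosed_range ?_
  have hgz : (Limits.pullback.fst f f ≫ f) z = genericPoint Y :=
    (UnibranchEtale.maximal_image_of_flat (Limits.pullback.fst f f ≫ f) hmax _
      ((genericPoint_spec Y).specializes trivial)).symm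
  let k := (Limits.pullback f f).fromSpecResidueField z
  let a := k ≫ Limits.pullback.fst f f
  let b := k ≫ Limits.pullback.snd f f
  have hab : a ≫ f = b ≫ f := by simp only [a, b, Category.assoc, Limits.pullback.condition]
  have haη : a (IsLocalRing.closedPoint _) = genericPoint X := huniq _ (by
    simp only [a, k, Scheme.Hom.comp_apply, Scheme.fromSpecResidueField_apply]
    exact hgz)
  have hbη : b (IsLocalRing.closedPoint _) = genericPoint X := huniq _ (by
    rw [← Scheme.Hom.comp_apply, ← hab]
    simp only [a, k, Scheme.Hom.comp_apply, Scheme.fromSpecResidueField_apply]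
    exact hgz)
  have key : ∀ (K : Type u) [Field K] (c d : Spec (CommRingCat.of K) ⟶ X),
      c (IsLocalRing.closedPoint K) = genericPoint X → d (IsLocalRing.closedPoint K) = genericPoint X →
      c ≫ f = d ≫ f → c = d := by
    intro K _ c d hc hd hcd
    obtain ⟨φ, rfl⟩ : ∃ φ, c = Spec.map φ ≫ X.fromSpecResidueField (genericPoint X) := by
      rw [← hc]; exact ⟨_, (Scheme.descResidueField_stalkClosedPointTo_fromSpecResidueField K X c).symm⟩
    obtain ⟨ψ, rfl⟩ : ∃ ψ, d = Spec.map ψ ≫ X.fromSpecResidueField (genericPoint X) := by
      rw [← hd]; exact ⟨_, (Scheme.descResidueField_stalkClosedPointTo_fromSpecResidueField K X d).symm⟩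
    rw [Category.assoc, Category.assoc, ← Scheme.Hom.SpecMap_residueFieldMap_fromSpecResidueField,
      ← Category.assoc, ← Category.assoc, cancel_mono, ← Spec.map_comp, ← Spec.map_comp, Spec.map_inj,
      cancel_epi] at hcd
    rw [hcd]
  have hab' : a = b := key _ a b haη hbη hab
  have hk : k = a ≫ Limits.pullback.diagonal f := Limits.pullback.hom_ext
    (by simp only [a, Category.assoc, Limits.pullback.diagonal_fst, Category.comp_id])
    (by simp only [Category.assoc, Limits.pullback.diagonal_snd, Category.comp_id]; exact hab'.symm)
  refine ⟨a (IsLocalRing.closedPoint _), ?_⟩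
  rw [← Scheme.Hom.comp_apply, ← hk]
  exact Scheme.fromSpecResidueField_apply _ _

end Groth.Agent.S5067
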