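import Groth.Statements.S5068
import Groth.Agent.TorCI.CIFlat

set_option autoImplicit false
set_option linter.style.haveILetI false
set_option backward.isDefEq.respectTransparency false
open Groth.Agent
universe u
open CInt

namespace Groth.Agent.S5068

/-- Suppose A and C are Noetherian local rings joined by a flat local homomorphism A → C whose closed
fibre C/m_A C is a regular local ring, and consider a local ring B obtained as a quotient of C by an
ideal J (encoded as a surjective C-algebra B, with J taken to be the kernel). The ideal J admits a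
generating sequence that is transversally regular relative to A (each term a non-zero-divisor modulo
the previous ones, and every partial quotient C/(f_1, …, f_j) A-flat) exactly when two things hold:
B is A-flat, and B/m_A B is a complete intersection (meaning its completion is a regular local ring
divided by a regular sequence). -/
theorem result (A C B : Type u) [CommRing A] [IsLocalRing A]
    [IsNoetherianRing A] [CommRing C] [IsLocalRing C] [IsNoetherianRing C] [Algebra A C] [IsLocalHom (algebraMap A C)]
    [Module.Flat A C] (hreg : IsRegularLocalRing (EGA4.FibRing A C))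
    [CommRing B] [IsLocalRing B] [Algebra C B] [Algebra A B] [IsScalarTower A C B] [IsLocalHom (algebraMap A B)]
    (hsurj : Function.Surjective (algebraMap C B)) :
    (∃ rs : List C, Ideal.ofList rs = RingHom.ker (algebraMap C B) ∧ RegImm.IsTransRegularSeq A C rs) ↔
      (Module.Flat A B ∧ Pi1.IsCompleteIntersection (EGA4.FibRing A B)) := by
  haveI : IsNoetherianRing B := isNoetherianRing_of_surjective C B (algebraMap C B) hsurj
  let J := RingHom.ker (algebraMap C B)
  let mC := (IsLocalRing.maximalIdeal A).map (algebraMap A C)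
  let mB := (IsLocalRing.maximalIdeal A).map (algebraMap A B)
  haveI : IsRegularLocalRing (C ⧸ mC) := hreg
  haveI : IsLocalRing (B ⧸ mB) := inferInstanceAs (IsLocalRing (EGA4.FibRing A B))
  haveI : IsLocalRing (C ⧸ mC) := inferInstanceAs (IsLocalRing (EGA4.FibRing A C))
  have hJ : J ≠ ⊤ := RingHom.ker_ne_top _
  let eJ : (C ⧸ J) ≃ₐ[A] B := Ideal.quotientKerAlgEquivOfSurjective (f := IsScalarTower.toAlgHom A C B) hsurj
  have hmap : mC.map (algebraMap C B) = mB := by rw [Ideal.map_map, ← IsScalarTower.algebraMap_eq]
  let σ : C ⧸ mC →+* B ⧸ mB := Ideal.quotientMap mB (algebraMap C B) (Ideal.map_le_iff_le_comap.1 hmap.le)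
  have hσs : Function.Surjective σ := Ideal.quotientMap_surjective hsurj
  have hσk : RingHom.ker σ = J.map (Ideal.Quotient.mk mC) := by
    refine Ideal.comap_injective_of_surjective _ Ideal.Quotient.mk_surjective ?_
    rw [RingHom.comap_ker, Ideal.comap_map_of_surjective _ Ideal.Quotient.mk_surjective, ← RingHom.ker_eq_comap_bot,
      Ideal.mk_ker,
      show σ.comp (Ideal.Quotient.mk mC) = (Ideal.Quotient.mk mB).comp (algebraMap C B) from RingHom.ext fun _ => rfl,
      ← RingHom.comap_ker, Ideal.mk_ker, ← hmap, Ideal.comap_map_of_surjective _ hsurj,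
      ← RingHom.ker_eq_comap_bot, sup_comm]
  constructor
  · rintro ⟨rs, hrs, hw, hfl⟩
    haveI : Module.Flat A B := by
      haveI := hfl rs.length le_rfl
      exact Module.Flat.of_linearEquiv
        (eJ.symm.trans (Ideal.quotientEquivAlgOfEq A (show J = Ideal.ofList (rs.take rs.length) by rw [List.take_length]; exact hrs.symm))).toLinearEquiv
    refine ⟨inferInstance, (SyntLib.isCompleteIntersection_iff_numCI σ hσs).2 ?_⟩
    obtain ⟨a, ha⟩ := SerreReg.exists_dim_nat A
    obtain ⟨b, hb⟩ := SerreReg.exists_dim_nat B
    obtain ⟨f, hf⟩ := SerreReg.exists_dim_nat (B ⧸ mB)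
    obtain ⟨s, hs⟩ := SerreReg.exists_dim_nat (C ⧸ mC)
    refine TorCI.numCI_of_dims σ (rs.map (Ideal.Quotient.mk mC)) ?_ a s f b hs hf ?_ ?_
    · rw [hσk, ← Ideal.map_ofList, hrs]
    · have h1 := ringKrullDim_add_length_eq_ringKrullDim_of_isRegular rs
        ((SyntLib.isRegular_iff_weakly rs (hrs ▸ hJ)).2 hw)
      rw [ringKrullDim_eq_of_ringEquiv ((Ideal.quotEquivOfEq hrs).trans eJ.toRingEquiv),
        TorCI.ringKrullDim_flat_local A C, ha, hb, hs] at h1
      rw [List.length_map]
      exact_mod_cast h1
    · have h1 := TorCI.ringKrullDim_flat_local A B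
      rw [ha, hb, hf] at h1
      exact_mod_cast h1
  · rintro ⟨hB, hF⟩
    haveI := hB
    obtain ⟨ys, hysreg, hys⟩ := (TorCI.isCI_iff_regular σ hσs).1 hF
    haveI : Module.Flat A (C ⧸ J) := Module.Flat.of_linearEquiv eJ.toLinearEquiv
    obtain ⟨rs, hrs, hreg', hfl⟩ := TorCI.exists_transRegular_lift (A := A) J hJ ys (by rw [← hys, hσk]) hysreg
    refine ⟨rs, hrs, hreg'.toIsWeaklyRegular, fun j hj => ?_⟩
    haveI := hfl j hj
    exact Module.Flat.of_linearEquiv
      ((Submodule.quotEquivOfEq (Ideal.ofList (rs.take j) • (⊤ : Submodule C C)) (Ideal.ofList (rs.take j))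
        (by rw [smul_eq_mul, Ideal.mul_top])).restrictScalars A).symm

end Groth.Agent.S5068
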