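import Groth.Statements.S5069
import Mathlib
-- import your own Groth.Agent.* helpers here

set_option autoImplicit false
universe u v
open Hensel

namespace Groth.Agent.S5069

/-- First assertion, phrased for the images of the inductive system: let B be a Noetherian commutative
ring and (C_i) a family of Artinian subrings of B, directed under inclusion, whose union is B. Then
B is an Artinian ring. -/
theorem result (B : Type u) [CommRing B] [IsNoetherianRing B]
    {ι : Type v} [Nonempty ι] (C : ι → Subring B) (hdir : Directed (fun a b => a ≤ b) C)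
    (hart : ∀ i, IsArtinianRing ↥(C i)) (hcov : ∀ b : B, ∃ i, b ∈ C i) : IsArtinianRing B := by
  haveI : Ring.KrullDimLE 0 B := by
    refine Ring.KrullDimLE.mk₀ fun P hP => ?_
    haveI := hP
    refine ⟨⟨hP.ne_top, fun Q hQ => ?_⟩⟩
    refine (Ideal.eq_top_iff_one Q).2 ?_
    obtain ⟨q, hqQ, hqP⟩ := SetLike.exists_of_lt hQ
    obtain ⟨i, hi⟩ := hcov q
    haveI := hart i
    haveI : (P.comap (C i).subtype).IsMaximal := IsArtinianRing.isMaximal_of_isPrime _
    have h := Ideal.IsMaximal.exists_inv (inferInstance : (P.comap (C i).subtype).IsMaximal) (x := ⟨q, hi⟩) hqP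
    obtain ⟨y, p, hp, hyp⟩ := h
    have h1 : (y : B) * q + (p : B) = 1 := congrArg Subtype.val hyp
    rw [← h1]
    exact Q.add_mem (Q.mul_mem_left _ hqQ) (hQ.le hp)
  exact isArtinianRing_iff_isNoetherianRing_krullDimLE_zero.2 ⟨inferInstance, inferInstance⟩

end Groth.Agent.S5069
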