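import Groth.Statements.S5071
import Groth.Agent.RegIdeal.Quasi
import Groth.Agent.QRAppend.Basic
import Groth.Agent.FlatCartier.Basic
import Groth.Agent.InjFibre.Loc

set_option autoImplicit false
universe u
open CInt

namespace Groth.Agent.S5071

open MvPolynomial in
/-- the quotients by the powers of a quasi-regular ideal -/
theorem flat_quotient_pow {A B : Type u} [CommRing A] [CommRing B] [Algebra A B] {c : ℕ} (f : Fin c → B)
    (hf : CAlgX.IsQuasiRegular f) (hflat : Module.Flat A (B ⧸ Ideal.span (Set.range f))) :
    ∀ s : ℕ, Module.Flat A (B ⧸ Ideal.span (Set.range f) ^ s) := by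
  classical
  let J := Ideal.span (Set.range f)
  intro s
  induction s with
  | zero =>
    haveI : Subsingleton (B ⧸ J ^ 0) := Ideal.Quotient.subsingleton_iff.2 (by rw [pow_zero, Ideal.one_eq_top])
    infer_instance
  | succ s ih =>
    have hfinD : Finite {d : Fin c →₀ ℕ // d.degree = s} := by
      refine Finite.of_injective (fun d (i : Fin c) => (⟨d.1 i, Nat.lt_succ_of_le ((Finsupp.le_degree i d.1).trans d.2.le)⟩ : Fin (s + 1))) ?_
      intro d e h
      exact Subtype.ext (Finsupp.ext fun i => Fin.val_eq_of_eq (congrFun h i))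
    haveI := Fintype.ofFinite {d : Fin c →₀ ℕ // d.degree = s}
    let m : {d : Fin c →₀ ℕ // d.degree = s} → B := fun d => ∏ i, f i ^ d.1 i
    have hm : ∀ d, m d ∈ J ^ s := fun d => by
      have := QRAppend.prod_pow_mem f d.1
      rw [d.2] at this
      exact this
    let g₀ : ∀ d : {d : Fin c →₀ ℕ // d.degree = s}, (B ⧸ J) →ₗ[B] B ⧸ J ^ (s + 1) := fun d =>
      Submodule.mapQ J (J ^ (s + 1)) (LinearMap.mulRight B (m d)) (fun x hx => by
        show x * m d ∈ J ^ (s + 1)
        rw [pow_succ']
        exact Ideal.mul_mem_mul hx (hm d))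
    let g : ({d : Fin c →₀ ℕ // d.degree = s} → B ⧸ J) →ₗ[B] B ⧸ J ^ (s + 1) :=
      LinearMap.lsum B (fun _ => B ⧸ J) B g₀
    have hg : ∀ a : {d : Fin c →₀ ℕ // d.degree = s} → B,
        g (fun d => Ideal.Quotient.mk J (a d)) = Ideal.Quotient.mk _ (∑ d, a d * m d) := fun a => by
      simp only [g, LinearMap.coe_mk, LinearMap.lsum_apply, LinearMap.coe_sum, Finset.sum_apply, LinearMap.comp_apply,
        LinearMap.proj_apply, map_sum]
      rfl
    have heval : ∀ a : {d : Fin c →₀ ℕ // d.degree = s} → B,
        (∑ d, monomial d.1 (a d)).IsHomogeneous s ∧ eval f (∑ d, monomial d.1 (a d)) = ∑ d, a d * m d := fun a => by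
      refine ⟨IsHomogeneous.sum _ _ _ fun d _ => isHomogeneous_monomial _ d.2, ?_⟩
      rw [map_sum]
      refine Finset.sum_congr rfl fun d _ => ?_
      rw [eval_monomial, Finsupp.prod_fintype _ _ (fun i => pow_zero _)]
    have hinj : Function.Injective g := by
      rw [injective_iff_map_eq_zero]
      intro x hx
      choose a ha using fun d => Ideal.Quotient.mk_surjective (x d)
      obtain rfl : (fun d => Ideal.Quotient.mk J (a d)) = x := funext ha
      rw [hg, Ideal.Quotient.eq_zero_iff_mem, ← (heval a).2] at hx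
      funext d
      refine Ideal.Quotient.eq_zero_iff_mem.2 ?_
      have := hf s _ (heval a).1 hx d.1
      rw [coeff_sum, Finset.sum_eq_single d (fun e _ he => by rw [coeff_monomial, if_neg (fun h => he (Subtype.ext h))])
        (fun h => absurd (Finset.mem_univ d) h), coeff_monomial, if_pos rfl] at this
      exact this
    let q := Ideal.Quotient.factorₐ A (Ideal.pow_le_pow_right (Nat.le_succ s) : J ^ (s + 1) ≤ J ^ s)
    have hex : Function.Exact g q := by
      intro y
      obtain ⟨y, rfl⟩ := Ideal.Quotient.mk_surjective y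
      show Ideal.Quotient.mk (J ^ s) y = 0 ↔ _
      rw [Ideal.Quotient.eq_zero_iff_mem]
      constructor
      · intro hy
        obtain ⟨P, hP, -, hPe⟩ := QRAppend.exists_rep f ⊤ s y (by rwa [Ideal.mul_top])
        refine ⟨fun d => Ideal.Quotient.mk J (P.coeff d.1), ?_⟩
        rw [hg, ← (heval fun d => P.coeff d.1).2, ← hPe]
        congr 2
        ext d
        rw [coeff_sum]
        by_cases hd : d.degree = s
        · rw [Finset.sum_eq_single ⟨d, hd⟩ (fun e _ he => by rw [coeff_monomial, if_neg (fun h => he (Subtype.ext h))])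
            (fun h => absurd (Finset.mem_univ _) h), coeff_monomial, if_pos rfl]
        · rw [Finset.sum_eq_zero fun e _ => by rw [coeff_monomial, if_neg]; exact fun h => hd (h ▸ e.2)]
          exact (hP.coeff_eq_zero (by exact hd)).symm
      · rintro ⟨x, hx⟩
        choose a ha using fun d => Ideal.Quotient.mk_surjective (x d)
        obtain rfl : (fun d => Ideal.Quotient.mk J (a d)) = x := funext ha
        rw [hg, Ideal.Quotient.eq] at hx
        have h1 : ∑ d, a d * m d ∈ J ^ s := Ideal.sum_mem _ fun d _ => Ideal.mul_mem_left _ _ (hm d)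
        have := sub_mem h1 (Ideal.pow_le_pow_right (Nat.le_succ s) hx)
        rwa [sub_sub_cancel] at this
    haveI := ih
    haveI : Module.Flat A (B ⧸ J) := hflat
    haveI : Module.Flat A ({d : Fin c →₀ ℕ // d.degree = s} → B ⧸ J) :=
      Module.Flat.of_linearEquiv (DFinsupp.linearEquivFunOnFintype (R := A) (M := fun _ : {d : Fin c →₀ ℕ // d.degree = s} => B ⧸ J)).symm
    exact FlatCartier.flat_mid (g.restrictScalars A) q.toLinearMap hinj hex (Ideal.Quotient.factor_surjective (Ideal.pow_le_pow_right (Nat.le_succ s)))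

/-- Let B be an A-algebra and J an ideal of B generated by a sequence which is transversally regular
relative to A. Then for n < m the module J^n/J^m is flat over A, and for every prime q of B
containing J the localisation (J^n)_q is flat over A (modules regarded as A-modules by restriction
of scalars). -/
theorem result (A B : Type u) [CommRing A] [CommRing B] [Algebra A B]
    (rs : List B) (hrs : RegImm.IsTransRegularSeq A B rs) (n m : ℕ) (hnm : n < m) :
    Module.Flat A (RestrictScalars A B
      (↥(Ideal.ofList rs ^ n) ⧸ (Submodule.comap (Ideal.ofList rs ^ n).subtype (Ideal.ofList rs ^ m)))) ∧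
      ∀ (q : Ideal B) [q.IsPrime], Ideal.ofList rs ≤ q →
        Module.Flat A (RestrictScalars A B (LocalizedModule q.primeCompl ↥(Ideal.ofList rs ^ n))) := by
  obtain ⟨hreg, hfl⟩ := hrs
  let f : Fin rs.length → B := rs.get
  have hJ : Ideal.ofList rs = Ideal.span (Set.range f) := by
    show Ideal.span {r | r ∈ rs} = _
    congr 1
    exact (Set.range_list_get rs).symm
  have hq : CAlgX.IsQuasiRegular f :=
    Groth.Agent.RegIdeal.isQuasiRegular_of_wReg ((Groth.Agent.RegIdeal.wReg_iff f).mpr (by rwa [List.ofFn_get]))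
  haveI hB : Module.Flat A B := by
    haveI := hfl 0 (Nat.zero_le _)
    refine Module.Flat.of_linearEquiv
      ((Ideal.quotientEquivAlgOfEq A (show Ideal.ofList (rs.take 0) = ⊥ by simp)).trans (AlgEquiv.quotientBot A B)).toLinearEquiv.symm
  have hfl' : Module.Flat A (B ⧸ Ideal.span (Set.range f)) := by
    haveI := hfl rs.length le_rfl
    exact Module.Flat.of_linearEquiv
      (Ideal.quotientEquivAlgOfEq A (show Ideal.ofList (rs.take rs.length) = Ideal.span (Set.range f) by
        rw [List.take_length, hJ])).toLinearEquiv.symm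
  have hpow : ∀ s, Module.Flat A (B ⧸ Ideal.ofList rs ^ s) := fun s => by
    rw [hJ]
    exact flat_quotient_pow f hq hfl' s
  let J := Ideal.ofList rs
  refine ⟨?_, fun q _ _ => ?_⟩
  · let X := ↥(J ^ n) ⧸ Submodule.comap (J ^ n).subtype (J ^ m)
    let e : RestrictScalars A B X ≃ₗ[A] X :=
      { RestrictScalars.addEquiv A B X with
        map_smul' := fun a x => by
          show RestrictScalars.addEquiv A B X (a • x) = a • RestrictScalars.addEquiv A B X x
          rw [RestrictScalars.addEquiv_map_smul, algebraMap_smul] }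
    let i : X →ₗ[B] B ⧸ J ^ m := Submodule.mapQ _ (J ^ m) (J ^ n).subtype le_rfl
    let p := Ideal.Quotient.factorₐ A (Ideal.pow_le_pow_right hnm.le : J ^ m ≤ J ^ n)
    have hi : Function.Injective i := by
      rw [injective_iff_map_eq_zero]
      intro x hx
      obtain ⟨x, rfl⟩ := Submodule.Quotient.mk_surjective _ x
      exact (Submodule.Quotient.mk_eq_zero _).2 (Ideal.Quotient.eq_zero_iff_mem.1 hx)
    have hex : Function.Exact i p := by
      intro y
      obtain ⟨y, rfl⟩ := Ideal.Quotient.mk_surjective y
      show Ideal.Quotient.mk (J ^ n) y = 0 ↔ _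
      rw [Ideal.Quotient.eq_zero_iff_mem]
      refine ⟨fun hy => ⟨Submodule.Quotient.mk ⟨y, hy⟩, rfl⟩, ?_⟩
      rintro ⟨x, hx⟩
      obtain ⟨x, rfl⟩ := Submodule.Quotient.mk_surjective _ x
      have := sub_mem x.2 (Ideal.pow_le_pow_right hnm.le (Ideal.Quotient.eq.1 hx))
      simpa using this
    haveI : Module.Flat A (B ⧸ J ^ m) := hpow m
    haveI : Module.Flat A (B ⧸ J ^ n) := hpow n
    haveI : Module.Flat A X :=
      FlatCartier.flat_left (i.restrictScalars A) p.toLinearMap hi hex
        (Ideal.Quotient.factor_surjective (Ideal.pow_le_pow_right hnm.le))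
    exact Module.Flat.of_linearEquiv e
  · haveI : Module.Flat A (B ⧸ J ^ n) := hpow n
    haveI : Module.Flat A ↥(J ^ n) :=
      FlatCartier.flat_left (((J ^ n).subtype).restrictScalars A) (Ideal.Quotient.mkₐ A (J ^ n)).toLinearMap
        (J ^ n).injective_subtype (LinearMap.exact_subtype_mkQ (J ^ n)) Ideal.Quotient.mk_surjective
    let Y := LocalizedModule q.primeCompl ↥(J ^ n)
    let e : RestrictScalars A B Y ≃ₗ[A] Y :=
      { RestrictScalars.addEquiv A B Y with
        map_smul' := fun a x => by
          show RestrictScalars.addEquiv A B Y (a • x) = a • RestrictScalars.addEquiv A B Y x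
          rw [RestrictScalars.addEquiv_map_smul, algebraMap_smul] }
    haveI : Module.Flat A Y := by
      exact InjFibre.flat_localized (R := A) q.primeCompl (LocalizedModule.mkLinearMap q.primeCompl ↥(J ^ n))
    exact Module.Flat.of_linearEquiv e

end Groth.Agent.S5071
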