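import Groth.Statements.S5072
import Mathlib
import Groth.Agent.Hensel.LocalBase
-- import your own Groth.Agent.* helpers here

set_option autoImplicit false
open scoped TensorProduct
universe u
open Hensel

namespace Groth.Agent.S5072

/-- Case of a local ring A and a local finite A-algebra B: let S be a strict henselization of A and T a
strict henselization of B. Then there is a maximal ideal q of B ⊗_A S such that T is isomorphic, as
a B-algebra, to the local ring (B ⊗_A S)_q. -/
theorem result (A B S T : Type u) [CommRing A] [IsLocalRing A]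
    [CommRing B] [IsLocalRing B] [Algebra A B] [Module.Finite A B]
    [CommRing S] [IsLocalRing S] [Algebra A S] [IsLocalHom (algebraMap A S)] [Hensel.IsStrictHenselization A S]
    [CommRing T] [IsLocalRing T] [Algebra B T] [IsLocalHom (algebraMap B T)] [Hensel.IsStrictHenselization B T] :
    ∃ (q : Ideal (B ⊗[A] S)) (_ : q.IsMaximal), Nonempty (Localization.AtPrime q ≃ₐ[B] T) := by
  haveI : Algebra.IsIntegral A B := Algebra.IsIntegral.of_finite A B
  haveI : IsLocalHom (algebraMap A B) := by
    refine ((IsLocalRing.local_hom_TFAE (algebraMap A B)).out 0 4).2 ?_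
    exact IsLocalRing.eq_maximalIdeal
      (Ideal.isMaximal_comap_of_isIntegral_of_isMaximal (R := A) (IsLocalRing.maximalIdeal B))
  set p := IsLocalRing.maximalIdeal A with hp
  set qB := IsLocalRing.maximalIdeal B with hqB
  haveI : qB.LiesOver p := ⟨(IsLocalRing.maximalIdeal_comap (algebraMap A B)).symm⟩
  letI : Algebra (Localization.AtPrime p) S := Hensel.atMaximalAlgebra A S
  haveI : IsScalarTower A (Localization.AtPrime p) S :=
    IsScalarTower.of_algebraMap_eq fun a => (IsLocalization.lift_eq _ a).symm
  haveI := Hensel.isLocalHom_atMaximal A S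
  haveI := Hensel.isStrictHenselization_atMaximal A S
  letI : Algebra (Localization.AtPrime qB) T := Hensel.atMaximalAlgebra B T
  haveI : IsScalarTower B (Localization.AtPrime qB) T :=
    IsScalarTower.of_algebraMap_eq fun a => (IsLocalization.lift_eq _ a).symm
  haveI := Hensel.isLocalHom_atMaximal B T
  haveI := Hensel.isStrictHenselization_atMaximal B T
  letI : Algebra A T := ((algebraMap B T).comp (algebraMap A B)).toAlgebra
  haveI : IsScalarTower A B T := IsScalarTower.of_algebraMap_eq fun _ => rfl
  haveI : IsLocalHom (algebraMap A T) := RingHom.isLocalHom_comp _ _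
  haveI : HenselianLocalRing S := _root_.Hensel.IsStrictHenselization.henselian (R := A)
  haveI : HenselianLocalRing T := _root_.Hensel.IsStrictHenselization.henselian (R := B)
  haveI : IsSepClosed (IsLocalRing.ResidueField T) :=
    (_root_.Hensel.IsStrictHenselization.isSepClosure (R := B) (S := T)).sep_closed
  haveI : Algebra.IsSeparable (IsLocalRing.ResidueField A) (IsLocalRing.ResidueField S) :=
    (_root_.Hensel.IsStrictHenselization.isSepClosure (R := A) (S := S)).separable
  let τ : IsLocalRing.ResidueField S →ₐ[IsLocalRing.ResidueField A] IsLocalRing.ResidueField T := IsSepClosed.lift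
  obtain ⟨g, ⟨hg, -⟩, -⟩ := Hensel.strict_lift (p := p) S (algebraMap A T)
    (IsLocalRing.maximalIdeal_comap (algebraMap A T)) τ.toRingHom fun a => by
      rw [← IsLocalRing.ResidueField.algebraMap_residue, ← IsLocalRing.ResidueField.algebraMap_residue]
      exact τ.commutes _
  letI : Algebra S T := g.toAlgebra
  haveI : IsScalarTower A S T := IsScalarTower.of_algebraMap_eq' hg.symm
  haveI := Hensel.finite_of_quasiFiniteAt A B p qB S T (Hensel.strictHenselization_map_maximalIdeal _ S)
  haveI : Algebra.IsIntegral S (Localization.AtPrime (Hensel.tPoint A B S T)) := Algebra.IsIntegral.of_finite S _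
  obtain ⟨e, he⟩ := Hensel.exists_strictEquiv_of_isIntegral A B p qB S T
  haveI : (Hensel.tPoint A B S T).LiesOver (IsLocalRing.maximalIdeal S) :=
    Hensel.tPoint_liesOver A B p qB S T (Hensel.strictHenselization_map_maximalIdeal _ S)
  haveI : (Hensel.tPoint A B S T).IsMaximal :=
    Ideal.isMaximal_of_isIntegral_of_isMaximal_comap (R := S) _
      (by rw [← Ideal.under_def, ← (Hensel.tPoint A B S T).over_def (IsLocalRing.maximalIdeal S)]
          exact IsLocalRing.maximalIdeal.isMaximal S)
  let σ := (Algebra.TensorProduct.comm A B S).toRingEquiv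
  haveI : ((Hensel.tPoint A B S T).comap (σ : TensorProduct A B S →+* TensorProduct A S B)).IsMaximal :=
    Ideal.comap_isMaximal_of_surjective _ σ.surjective
  refine ⟨(Hensel.tPoint A B S T).comap (σ : TensorProduct A B S →+* TensorProduct A S B), inferInstance,
    ⟨AlgEquiv.ofRingEquiv (f := (Localization.localRingEquiv ((Hensel.tPoint A B S T).comap (σ : TensorProduct A B S →+* TensorProduct A S B))
    (Hensel.tPoint A B S T) σ rfl).trans e) fun b => ?_⟩⟩
  rw [IsScalarTower.algebraMap_apply B (TensorProduct A B S) (Localization.AtPrime _), RingEquiv.trans_apply]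
  rw [show (Localization.localRingEquiv ((Hensel.tPoint A B S T).comap (σ : TensorProduct A B S →+* TensorProduct A S B))
    (Hensel.tPoint A B S T) σ rfl) (algebraMap _ _
    (algebraMap B (TensorProduct A B S) b)) = algebraMap _ _ (σ (algebraMap B (TensorProduct A B S) b)) from
      Localization.localRingHom_to_map _ _ _ _ _, he]
  simp [σ, Hensel.tLift]
  all_goals rfl

end Groth.Agent.S5072
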