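import Groth.Statements.S5073
import Mathlib

set_option autoImplicit false
universe u
open EGA418

namespace Groth.Agent.S5073

/-- Let A be a Noetherian local ring, p a prime ideal and x an element of A. Then there is an element x'
of A whose image in A_p equals that of x and which belongs to no minimal prime ideal of A not
contained in p. -/
theorem result (A : Type u) [CommRing A] [IsNoetherianRing A] [IsLocalRing A]
    (p : Ideal A) [p.IsPrime] (x : A) :
    ∃ x' : A, algebraMap A (Localization.AtPrime p) x' = algebraMap A (Localization.AtPrime p) x ∧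
      ∀ q ∈ minimalPrimes A, ¬ q ≤ p → x' ∉ q := by
  classical
  have hfin : (minimalPrimes A).Finite := minimalPrimes.finite_of_isNoetherianRing A
  let T := hfin.toFinset.filter (fun q => q ≤ p ∨ x ∉ q)
  let U := hfin.toFinset.filter (fun q => ¬ q ≤ p ∧ x ∈ q)
  have hpr : ∀ q ∈ hfin.toFinset, q.IsPrime := fun q hq => (hfin.mem_toFinset.mp hq).1.1
  obtain ⟨z, hzT, hzU⟩ : ∃ z, z ∈ T.inf id ∧ ∀ q ∈ U, z ∉ q := by
    by_contra hc
    push Not at hc
    have hsub : ((T.inf id : Ideal A) : Set A) ⊆ ⋃ q ∈ U, ((id q : Ideal A) : Set A) := fun z hz => by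
      obtain ⟨q, hq, hzq⟩ := hc z hz
      exact Set.mem_iUnion₂.mpr ⟨q, hq, hzq⟩
    obtain ⟨q, hq, hle⟩ := (Ideal.subset_union_prime ⊥ ⊥ (fun q hq _ _ =>
      hpr q (Finset.mem_filter.mp hq).1)).mp hsub
    obtain ⟨hq1, hq2, hq3⟩ := Finset.mem_filter.mp hq
    haveI := hpr q hq1
    obtain ⟨t, ht, htq⟩ := (Ideal.IsPrime.inf_le' (hpr q hq1)).mp hle
    obtain ⟨ht1, ht2⟩ := Finset.mem_filter.mp ht
    have heq : t = q := le_antisymm htq ((hfin.mem_toFinset.mp hq1).2 ⟨hpr t ht1, bot_le⟩ htq)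
    subst heq
    rcases ht2 with h | h
    exacts [hq2 h, h hq3]
  obtain ⟨n, hn⟩ : IsNilpotent (algebraMap A (Localization.AtPrime p) z) := by
    rw [nilpotent_iff_mem_prime]
    intro J hJ
    obtain ⟨q, hq, hqle⟩ := Ideal.exists_minimalPrimes_le (I := (⊥ : Ideal A))
      (J := J.comap (algebraMap A (Localization.AtPrime p))) bot_le
    refine hqle ?_
    have hqp : q ≤ p := hqle.trans (by
      conv_rhs => rw [← IsLocalization.AtPrime.comap_maximalIdeal (Localization.AtPrime p) p]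
      exact Ideal.comap_mono (IsLocalRing.le_maximalIdeal hJ.ne_top))
    exact Finset.inf_le (f := id) (Finset.mem_filter.mpr ⟨hfin.mem_toFinset.mpr hq, Or.inl hqp⟩) hzT
  refine ⟨x + z ^ (n + 1), ?_, fun q hq hqp hmem => ?_⟩
  · rw [map_add, map_pow, pow_succ, hn, zero_mul, add_zero]
  · have hq' : q ∈ hfin.toFinset := hfin.mem_toFinset.mpr hq
    haveI := hpr q hq'
    by_cases hx : x ∈ q
    · exact hzU q (Finset.mem_filter.mpr ⟨hq', hqp, hx⟩)
        (Ideal.IsPrime.mem_of_pow_mem (hpr q hq') _ ((Ideal.add_mem_iff_right q hx).mp hmem))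
    · have hzq : z ∈ q := Finset.inf_le (f := id) (Finset.mem_filter.mpr ⟨hq', Or.inr hx⟩) hzT
      exact hx ((Ideal.add_mem_iff_left q (Ideal.pow_mem_of_mem q hzq _ n.succ_pos)).mp hmem)

end Groth.Agent.S5073
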