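import Groth.Statements.S5074
-- import your own Groth.Agent.* helpers here
import Groth.Agent.EGA418Dim.GeomRegRank
import Groth.Agent.EGA418Dim.CharZeroFibre
import Groth.Agent.EGA418Dim.GenericFree
import Groth.Agent.S3847

set_option autoImplicit false
universe u
open EGA418

namespace Groth.Agent.S5074

/-- Let k be a field of characteristic exponent p such that k is finite over k^p (the Frobenius
endomorphism of k is a finite ring map), A a complete Noetherian local k-algebra whose residue field
is a finite extension of k, and P a prime ideal of A such that A_P is geometrically regular over k.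
Then for every minimal prime q of A contained in P (there is exactly one), the A_P-module obtained
by localising at P the completion of the module of differentials of A over k is free of rank equal
to dim(A/q). -/
theorem result (p : ℕ) (k A : Type u) [Field k] [ExpChar k p]
    (hk : (frobenius k p).Finite) [CommRing A] [IsLocalRing A] [IsNoetherianRing A] [Algebra k A]
    [IsAdicComplete (IsLocalRing.maximalIdeal A) A] [Module.Finite k (IsLocalRing.ResidueField A)]
    (P : Ideal A) [P.IsPrime] (hP : CAlg.IsGeometricallyRegular k (Localization.AtPrime P))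
    (q : Ideal A) (hq : q ∈ minimalPrimes A) (hqP : q ≤ P) (n : ℕ) (hn : ringKrullDim (A ⧸ q) = n) :
    Module.Free (Localization.AtPrime P) (LocalizedModule P.primeCompl (AdicCompletion (IsLocalRing.maximalIdeal A) (KaehlerDifferential k A))) ∧
      Module.finrank (Localization.AtPrime P) (LocalizedModule P.primeCompl (AdicCompletion (IsLocalRing.maximalIdeal A) (KaehlerDifferential k A))) = n := by
  open TensorProduct IsLocalRing in
  classical
  let R := Localization.AtPrime P
  haveI : IsRegularRing R := by
    haveI : IsRegularRing (k ⊗[k] R) := hP k inferInstance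
    exact IsRegularRing.of_ringEquiv (Algebra.TensorProduct.lid k R).toRingEquiv
  haveI : IsRegularLocalRing R := by
    haveI := IsRegularRing.isRegularLocalRing_localization (R := R) (maximalIdeal R)
    exact IsRegularLocalRing.of_ringEquiv (IsLocalization.atUnits R (maximalIdeal R).primeCompl
      (S := Localization.AtPrime (maximalIdeal R))
      fun x hx => not_not.mp fun h => hx ((mem_maximalIdeal _).mpr h)).toRingEquiv.symm
  haveI : IsDomain R := RegLoc.isDomain R
  haveI hqp : q.IsPrime := hq.1.1
  haveI : IsDomain (A ⧸ P) := Ideal.Quotient.isDomain P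
  haveI : IsLocalRing (A ⧸ P) := IsLocalRing.of_surjective' (Ideal.Quotient.mk P) Ideal.Quotient.mk_surjective
  have hker : ∀ a, algebraMap A R a = 0 ↔ a ∈ q := fun a => by
    have hzero : ∀ b, algebraMap A R b = 0 → b ∈ q := fun b hb => by
      obtain ⟨s, hs⟩ := (IsLocalization.map_eq_zero_iff P.primeCompl R b).mp hb
      exact (hqp.mem_or_mem (hs ▸ q.zero_mem : (s : A) * b ∈ q)).resolve_left fun h => s.2 (hqP h)
    refine ⟨hzero a, fun ha => ?_⟩
    exact hq.2 ⟨RingHom.ker_isPrime (algebraMap A R), bot_le⟩ hzero ha
  obtain ⟨d, hd⟩ := SerreReg.exists_dim_nat R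
  obtain ⟨e, he⟩ := SerreReg.exists_dim_nat (A ⧸ P)
  have hde : d + e ≤ n := by
    have h := EGA418Dim.height_add_dim_le A P q hq hqP
    rw [hd, he, hn, ← Nat.cast_add, Nat.cast_le] at h
    exact h
  haveI := EGA418Dim.finite_omegaHat k A
  have hfib : Module.finrank P.ResidueField (P.ResidueField ⊗[A] EGA418Dim.OmegaHat k A) ≤ n := by
    refine le_trans ?_ hde
    cases ‹ExpChar k p› with
    | zero => exact EGA418Dim.finrank_fibre_le_charZero k A P d e hd he
    | prime hprime =>
      haveI := Fact.mk hprime
      exact EGA418Dim.finrank_fibre_le_charP k A P p hk hP d e hd he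
  have hlow : n ≤ Module.finrank q.ResidueField (q.ResidueField ⊗[A] EGA418Dim.OmegaHat k A) := by
    have h := S3847.result k A q q hq le_rfl
    rw [hn, ← Module.finrank_eq_rank, map_natCast] at h
    exact_mod_cast h
  exact EGA418Dim.free_localization_of_bounds P q hqP hker n hfib hlow

end Groth.Agent.S5074
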