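import Groth.Statements.S5076
import Mathlib

set_option autoImplicit false
universe u
open Unram

namespace Groth.Agent.S5076

/-- Let A be a local ring with maximal ideal m, C a finite A-algebra, r a maximal ideal of C, and u an
element of C which lies in every maximal ideal of C other than r, does not lie in r, and whose image
generates C_r modulo m C_r as an A-algebra. Let B = A[u] be the A-subalgebra of C generated by u and
n the inverse image of r in B. Then the canonical homomorphism B_n → C_r is bijective. -/
theorem result (A C : Type u) [CommRing A] [IsLocalRing A]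
    [CommRing C] [Algebra A C] [Module.Finite A C] (r : Ideal C) [r.IsMaximal] (u : C)
    (hu₁ : ∀ r' : Ideal C, r'.IsMaximal → r' ≠ r → u ∈ r') (hu₂ : u ∉ r)
    (hu₃ : Subalgebra.toSubmodule (Algebra.adjoin A {algebraMap C (Localization.AtPrime r) u}) ⊔
        Submodule.restrictScalars A (Ideal.map (algebraMap A (Localization.AtPrime r)) (IsLocalRing.maximalIdeal A)) = ⊤) :
    Function.Bijective (Localization.localRingHom (Ideal.comap (Algebra.adjoin A ({u} : Set C)).val.toRingHom r) r
      (Algebra.adjoin A ({u} : Set C)).val.toRingHom rfl) := by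
  classical
  let B := Algebra.adjoin A ({u} : Set C)
  let P : Ideal B := Ideal.comap B.val.toRingHom r
  haveI : Algebra.IsIntegral B C := Algebra.IsIntegral.tower_top (R := A)
  have hmA : IsLocalRing.maximalIdeal A ≤ r.comap (algebraMap A C) :=
    (IsLocalRing.eq_maximalIdeal (Ideal.isMaximal_comap_of_isIntegral_of_isMaximal r)).ge
  have huB : u ∈ B := Algebra.self_mem_adjoin_singleton A u
  haveI : P.IsMaximal := Ideal.isMaximal_comap_of_isIntegral_of_isMaximal (R := B) r
  -- every element outside `r` divides an element of `B` outside `P`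
  have hdiv : ∀ s ∉ r, ∃ t : B, t ∉ P ∧ s ∣ (t : C) := fun s hs => by
    by_contra hno
    push Not at hno
    have hle : (Ideal.span {s}).comap (algebraMap B C) ≤ P := fun t ht => by
      by_contra htP
      exact hno t htP (Ideal.mem_span_singleton.1 ht)
    obtain ⟨Q, hQ, hQp, hQc⟩ := Ideal.exists_ideal_over_prime_of_isIntegral P (Ideal.span {s}) hle
    haveI := hQp
    haveI : (Q.comap (algebraMap B C)).IsMaximal := hQc.symm ▸ ‹P.IsMaximal›
    have hQm : Q.IsMaximal := Ideal.isMaximal_of_isIntegral_of_isMaximal_comap Q this
    have hQr : Q ≠ r := fun e => hs (e ▸ hQ (Ideal.mem_span_singleton_self s))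
    have h1 : (⟨u, huB⟩ : B) ∈ P := hQc ▸ (show (⟨u, huB⟩ : B) ∈ Q.comap (algebraMap B C) from hu₁ Q hQm hQr)
    exact hu₂ h1
  let f := Localization.localRingHom P r B.val.toRingHom rfl
  have hf : ∀ x : B, f (algebraMap B _ x) = algebraMap C (Localization.AtPrime r) x.1 := fun x =>
    Localization.localRingHom_to_map P r B.val.toRingHom rfl x
  refine ⟨(injective_iff_map_eq_zero _).2 fun z hz => ?_, ?_⟩
  · obtain ⟨⟨b, t⟩, hbt⟩ := IsLocalization.surj P.primeCompl z
    change z * algebraMap B _ (t : B) = algebraMap B _ b at hbt
    have h1 : algebraMap C (Localization.AtPrime r) b.1 = algebraMap C _ 0 := by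
      rw [← hf, ← hbt, map_mul, show f z = 0 from hz, zero_mul, map_zero]
    obtain ⟨s, hs⟩ := IsLocalization.exists_of_eq (M := r.primeCompl) h1
    obtain ⟨w, hw, c, hc⟩ := hdiv s.1 s.2
    have h2 : w * b = 0 := Subtype.ext (by
      show (w : C) * (b : C) = 0
      rw [hc, mul_right_comm, hs, mul_zero, zero_mul])
    have hb : algebraMap B (Localization.AtPrime P) b = 0 :=
      (IsLocalization.map_eq_zero_iff P.primeCompl _ b).2 ⟨⟨w, hw⟩, h2⟩
    rw [hb] at hbt
    exact (IsLocalization.map_units (Localization.AtPrime P) t).mul_left_eq_zero.1 hbt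
  · letI := f.toAlgebra
    let N : Submodule (Localization.AtPrime P) (Localization.AtPrime r) :=
      LinearMap.range (Algebra.linearMap (Localization.AtPrime P) (Localization.AtPrime r))
    have hcoefA : ∀ a : A, f (algebraMap B (Localization.AtPrime P) (algebraMap A B a)) =
        algebraMap A (Localization.AtPrime r) a := fun a => by
      rw [hf, IsScalarTower.algebraMap_apply A C (Localization.AtPrime r)]
      rfl
    have hfg : (⊤ : Submodule (Localization.AtPrime P) (Localization.AtPrime r)).FG := by
      obtain ⟨g, hg⟩ := Module.Finite.fg_top (R := A) (M := C)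
      refine ⟨g.image (algebraMap C (Localization.AtPrime r)), eq_top_iff.2 fun x _ => ?_⟩
      have hC : ∀ c : C, algebraMap C (Localization.AtPrime r) c ∈ Submodule.span (Localization.AtPrime P)
          (↑(g.image (algebraMap C (Localization.AtPrime r))) : Set (Localization.AtPrime r)) := fun c => by
        refine Submodule.span_induction (p := fun c _ => algebraMap C (Localization.AtPrime r) c ∈ _)
          (fun c hc => Submodule.subset_span (Finset.mem_coe.2 (Finset.mem_image_of_mem _ hc)))
          (by rw [map_zero]; exact zero_mem _) (fun c d _ _ h h' => by rw [map_add]; exact add_mem h h')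
          (fun a c _ h => ?_) (hg ▸ Submodule.mem_top : c ∈ Submodule.span A (g : Set C))
        rw [Algebra.smul_def, map_mul, ← IsScalarTower.algebraMap_apply, ← hcoefA]
        exact Submodule.smul_mem _ _ h
      obtain ⟨⟨c, s⟩, hcs⟩ := IsLocalization.surj r.primeCompl x
      obtain ⟨w, hw, d, hd⟩ := hdiv s.1 s.2
      have hwu : IsUnit (algebraMap B (Localization.AtPrime P) w) :=
        IsLocalization.map_units (Localization.AtPrime P) (⟨w, hw⟩ : P.primeCompl)
      refine (Submodule.smul_mem_iff_of_isUnit _ hwu).1 ?_
      show f (algebraMap B _ w) * x ∈ _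
      rw [hf, hd, map_mul, mul_comm, ← mul_assoc, hcs, ← map_mul]
      exact hC _
    have hN : (⊤ : Submodule (Localization.AtPrime P) (Localization.AtPrime r)) ≤
        N ⊔ IsLocalRing.maximalIdeal (Localization.AtPrime P) • ⊤ := fun x _ => by
      obtain ⟨p, hp, q, hq, rfl⟩ := Submodule.mem_sup.1 (hu₃ ▸ Submodule.mem_top :
        x ∈ Subalgebra.toSubmodule (Algebra.adjoin A {algebraMap C (Localization.AtPrime r) u}) ⊔
          Submodule.restrictScalars A (Ideal.map (algebraMap A (Localization.AtPrime r)) (IsLocalRing.maximalIdeal A)))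
      refine Submodule.add_mem_sup ?_ ?_
      · change p ∈ Algebra.adjoin A {algebraMap C (Localization.AtPrime r) u} at hp
        clear * - hp f hcoefA hf huB
        show p ∈ Set.range f
        induction hp using Algebra.adjoin_induction with
        | mem y hy => exact ⟨algebraMap B _ ⟨u, huB⟩, (hf _).trans (Set.mem_singleton_iff.1 hy).symm⟩
        | algebraMap a => exact ⟨_, hcoefA a⟩
        | add y z _ _ hy hz => obtain ⟨y, rfl⟩ := hy; obtain ⟨z, rfl⟩ := hz; exact ⟨y + z, map_add f y z⟩
        | mul y z _ _ hy hz => obtain ⟨y, rfl⟩ := hy; obtain ⟨z, rfl⟩ := hz; exact ⟨y * z, map_mul f y z⟩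
      · change q ∈ Ideal.map (algebraMap A (Localization.AtPrime r)) (IsLocalRing.maximalIdeal A) at hq
        refine Submodule.span_induction (p := fun q _ => q ∈ IsLocalRing.maximalIdeal (Localization.AtPrime P) •
          (⊤ : Submodule (Localization.AtPrime P) (Localization.AtPrime r))) ?_ (zero_mem _)
          (fun _ _ _ _ h h' => add_mem h h') (fun t y _ h => ?_) hq
        · rintro _ ⟨a, ha, rfl⟩
          rw [← hcoefA, ← mul_one (f _)]
          refine Submodule.smul_mem_smul (M := Localization.AtPrime r) ?_ Submodule.mem_top
          rw [IsLocalization.AtPrime.to_map_mem_maximal_iff (Localization.AtPrime P) P]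
          exact hmA ha
        · refine Submodule.smul_induction_on h (fun e he z _ => ?_) (fun y z hy hz => by rw [smul_add]; exact add_mem hy hz)
          rw [smul_comm]
          exact Submodule.smul_mem_smul he Submodule.mem_top
    have := Submodule.le_of_le_smul_of_le_jacobson_bot hfg (IsLocalRing.maximalIdeal_le_jacobson _) hN
    exact fun x => this Submodule.mem_top

end Groth.Agent.S5076
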