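import Groth.Statements.S5077
import Mathlib

set_option autoImplicit false
universe u
open Unram

namespace Groth.Agent.S5077

/-- Let A be a local ring and B a finite A-algebra generated by a single element u. Then there is a
monic polynomial F with coefficients in A such that F(u) = 0 and F'(u) does not belong to any
maximal ideal n of B at which B is unramified over A. -/
theorem result (A B : Type u) [CommRing A] [IsLocalRing A]
    [CommRing B] [Algebra A B] [Module.Finite A B] (u : B) (hu : Algebra.adjoin A ({u} : Set B) = ⊤) :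
    ∃ F : Polynomial A, F.Monic ∧ Polynomial.aeval u F = 0 ∧
      ∀ (n : Ideal B) [n.IsMaximal], Algebra.IsUnramifiedAt A n → Polynomial.aeval u (Polynomial.derivative F) ∉ n := by
  classical
  let π : A →+* IsLocalRing.ResidueField A := IsLocalRing.residue A
  have hπ : Function.Surjective π := Ideal.Quotient.mk_surjective
  have hπP : Function.Surjective (Polynomial.mapRingHom π) := Polynomial.map_surjective π hπ
  have hev : Function.Surjective (Polynomial.aeval u : Polynomial A →ₐ[A] B) := by
    rw [← AlgHom.range_eq_top, ← hu, Algebra.adjoin_singleton_eq_range_aeval]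
  let K : Ideal (Polynomial A) := RingHom.ker (Polynomial.aeval u : Polynomial A →ₐ[A] B)
  let J : Ideal (Polynomial (IsLocalRing.ResidueField A)) := K.map (Polynomial.mapRingHom π)
  obtain ⟨f0, hf0⟩ := (IsPrincipalIdealRing.principal J).principal
  have hmem : ∀ g, g ∈ J ↔ f0 ∣ g := fun g => by rw [hf0]; exact Ideal.mem_span_singleton
  obtain ⟨G0, hG0m, hG0⟩ := Algebra.IsIntegral.isIntegral (R := A) u
  have hf00 : f0 ≠ 0 := fun h0 => by
    have h1 : Polynomial.mapRingHom π G0 ∈ J := Ideal.mem_map_of_mem _ hG0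
    rw [hmem, h0, zero_dvd_iff] at h1
    exact (hG0m.map π).ne_zero h1
  set d := f0.natDegree with hd
  let N := Submodule.span A (Set.range fun i : Fin d => u ^ (i : ℕ))
  let mB : Submodule A B := IsLocalRing.maximalIdeal A • ⊤
  have hsmall : ∀ g : Polynomial A, g.map π = 0 → Polynomial.aeval u g ∈ mB := fun g hg => by
    rw [Polynomial.aeval_eq_sum_range]
    refine Submodule.sum_mem _ fun i _ => Submodule.smul_mem_smul ?_ Submodule.mem_top
    have := congrArg (Polynomial.coeff · i) hg
    simpa [π, Ideal.Quotient.eq_zero_iff_mem, IsLocalRing.residue_eq_zero_iff] using this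
  have htop : (⊤ : Submodule A B) ≤ N ⊔ mB := by
    intro b _
    obtain ⟨g, rfl⟩ := hev b
    set r := g.map π % f0 with hr
    have hrJ : g.map π - r ∈ J := (hmem _).2 ⟨g.map π / f0, by
      rw [hr]; linear_combination -EuclideanDomain.div_add_mod (g.map π) f0⟩
    obtain ⟨G, hG, hGr⟩ := (Ideal.mem_map_iff_of_surjective _ hπP).1 hrJ
    choose l hl using hπ
    let R : Polynomial A := ∑ i : Fin d, Polynomial.C (l (r.coeff i)) * Polynomial.X ^ (i : ℕ)
    have hRmap : R.map π = r := by
      have hrd : r.degree < d := by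
        have := Polynomial.degree_mod_lt (g.map π) hf00
        rwa [Polynomial.degree_eq_natDegree hf00, ← hd, ← hr] at this
      ext j
      simp only [R, Polynomial.map_sum, Polynomial.map_mul, Polynomial.map_C, Polynomial.map_pow, Polynomial.map_X,
        Polynomial.finsetSum_coeff, Polynomial.coeff_C_mul_X_pow, hl]
      by_cases hj : j < d
      · rw [Finset.sum_eq_single ⟨j, hj⟩ (fun i _ hi => if_neg fun h => hi (Fin.ext h.symm)) (by simp), if_pos rfl]
      · rw [Finset.sum_eq_zero fun i _ => if_neg (by omega),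
          Polynomial.coeff_eq_zero_of_degree_lt (hrd.trans_le (by exact_mod_cast not_lt.1 hj))]
    have hGr' : G.map π = g.map π - r := hGr
    have e : Polynomial.aeval u g = Polynomial.aeval u R + Polynomial.aeval u (g - G - R) := by
      rw [map_sub, map_sub, show Polynomial.aeval u G = 0 from hG]; ring
    rw [e]
    refine Submodule.add_mem_sup ?_ (hsmall _ (by simp [Polynomial.map_sub, hRmap, hGr']))
    simp only [R, map_sum, map_mul, Polynomial.aeval_C, map_pow, Polynomial.aeval_X, ← Algebra.smul_def]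
    exact Submodule.sum_mem _ fun i _ => Submodule.smul_mem _ _ (Submodule.subset_span ⟨i, rfl⟩)
  have hN : ⊤ ≤ N := Submodule.le_of_le_smul_of_le_jacobson_bot Module.Finite.fg_top
    (IsLocalRing.maximalIdeal_le_jacobson _) htop
  obtain ⟨c, hc⟩ := (Submodule.mem_span_range_iff_exists_fun A).1 (hN (Submodule.mem_top (x := u ^ d)))
  let F : Polynomial A := Polynomial.X ^ d - ∑ i : Fin d, Polynomial.C (c i) * Polynomial.X ^ (i : ℕ)
  have hFdeg : (∑ i : Fin d, Polynomial.C (c i) * Polynomial.X ^ (i : ℕ)).degree < (d : WithBot ℕ) :=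
    (Polynomial.degree_sum_le _ _).trans_lt ((Finset.sup_lt_iff (WithBot.bot_lt_coe d)).2 fun i _ =>
      (Polynomial.degree_C_mul_X_pow_le _ _).trans_lt (WithBot.coe_lt_coe.2 i.2))
  have hFm : F.Monic := Polynomial.monic_X_pow_sub hFdeg
  have hFd : F.degree = d := by
    rw [Polynomial.degree_sub_eq_left_of_degree_lt (by rwa [Polynomial.degree_X_pow]), Polynomial.degree_X_pow]
  have hFu : Polynomial.aeval u F = 0 := by
    simp only [F, map_sub, map_pow, Polynomial.aeval_X, map_sum, map_mul, Polynomial.aeval_C, ← Algebra.smul_def,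
      hc, sub_self]
  have hdiv : ∀ g, f0 ∣ g → F.map π ∣ g := by
    obtain ⟨q, hq⟩ := (hmem _).1 (Ideal.mem_map_of_mem (Polynomial.mapRingHom π) (show F ∈ K from hFu))
    have hq' : F.map π = f0 * q := hq
    have hq0 : q ≠ 0 := fun h => (hFm.map π).ne_zero (by rw [hq', h, mul_zero])
    have hdeg := congrArg Polynomial.natDegree hq'
    rw [hFm.natDegree_map, Polynomial.natDegree_eq_of_degree_eq_some hFd, Polynomial.natDegree_mul hf00 hq0, ← hd] at hdeg
    intro g hg
    have hu' : IsUnit q := by
      rw [Polynomial.isUnit_iff_degree_eq_zero, Polynomial.degree_eq_natDegree hq0, show q.natDegree = 0 by omega]; rfl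
    rw [hq']; exact (associated_mul_unit_left f0 q hu').dvd.trans hg
  refine ⟨F, hFm, hFu, fun n _ hn hF' => ?_⟩
  letI : Field (B ⧸ n) := Ideal.Quotient.field n
  have hm : ∀ a ∈ IsLocalRing.maximalIdeal A, algebraMap A (B ⧸ n) a = 0 := fun a ha => by
    haveI := Ideal.isMaximal_comap_of_isIntegral_of_isMaximal (R := A) n
    rw [IsScalarTower.algebraMap_apply A B (B ⧸ n), Ideal.Quotient.algebraMap_eq, Ideal.Quotient.eq_zero_iff_mem]
    exact (IsLocalRing.eq_maximalIdeal this ▸ ha : a ∈ n.comap (algebraMap A B))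
  let ub : B ⧸ n := Ideal.Quotient.mk n u
  have hub : ∀ g : Polynomial A, Polynomial.aeval ub g = Ideal.Quotient.mk n (Polynomial.aeval u g) := fun g =>
    Polynomial.aeval_algHom_apply (Ideal.Quotient.mkₐ A n) u g
  let x : DualNumber (B ⧸ n) := TrivSqZeroExt.inl ub
  have hker : K ≤ RingHom.ker (Polynomial.aeval (x + DualNumber.eps) : Polynomial A →ₐ[A] DualNumber (B ⧸ n)) := by
    intro g hg
    obtain ⟨h, hh⟩ := hdiv _ ((hmem _).1 (Ideal.mem_map_of_mem (Polynomial.mapRingHom π) hg))
    obtain ⟨H, rfl⟩ := hπP h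
    have hz : ∀ i, algebraMap A (B ⧸ n) ((g - F * H).coeff i) = 0 := fun i => hm _ (by
      have h0 : (g - F * H).map π = 0 := by
        rw [Polynomial.map_sub, Polynomial.map_mul]; exact sub_eq_zero.2 hh
      rw [← IsLocalRing.residue_eq_zero_iff]
      calc π ((g - F * H).coeff i) = ((g - F * H).map π).coeff i := (Polynomial.coeff_map _ _).symm
        _ = 0 := by rw [h0, Polynomial.coeff_zero])
    have hz' : (g - F * H).map (algebraMap A (B ⧸ n)) = 0 := Polynomial.ext fun i => by
      rw [Polynomial.coeff_map, hz, Polynomial.coeff_zero]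
    have hd' : Polynomial.aeval ub (Polynomial.derivative g) = 0 := by
      have e : Polynomial.aeval ub (Polynomial.derivative (g - F * H)) = 0 := by
        rw [Polynomial.aeval_def, ← Polynomial.eval_map, ← Polynomial.derivative_map, hz']; simp
      rw [Polynomial.derivative_sub, Polynomial.derivative_mul, map_sub, map_add, map_mul, map_mul] at e
      rw [hub F, hFu, hub (Polynomial.derivative F), Ideal.Quotient.eq_zero_iff_mem.2 hF'] at e
      simpa using e
    rw [RingHom.mem_ker, Polynomial.aeval_add_of_sq_eq_zero _ _ _ (by rw [pow_two, DualNumber.eps_mul_eps]),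
      show x = IsScalarTower.toAlgHom A (B ⧸ n) (DualNumber (B ⧸ n)) ub from rfl,
      Polynomial.aeval_algHom_apply (IsScalarTower.toAlgHom A (B ⧸ n) (DualNumber (B ⧸ n))) ub g,
      Polynomial.aeval_algHom_apply (IsScalarTower.toAlgHom A (B ⧸ n) (DualNumber (B ⧸ n))) ub (Polynomial.derivative g),
      hd', hub, show Polynomial.aeval u g = 0 from hg]
    simp
  let φ2 : B →ₐ[A] DualNumber (B ⧸ n) := (Ideal.Quotient.liftₐ K _ hker).comp
    (Ideal.quotientKerAlgEquivOfSurjective hev).symm.toAlgHom
  let φ1 : B →ₐ[A] DualNumber (B ⧸ n) :=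
    (IsScalarTower.toAlgHom A (B ⧸ n) (DualNumber (B ⧸ n))).comp (Ideal.Quotient.mkₐ A n)
  have hφ2 : ∀ g : Polynomial A, φ2 (Polynomial.aeval u g) = Polynomial.aeval (x + DualNumber.eps) g := fun g => by
    show Ideal.Quotient.liftₐ K _ hker ((Ideal.quotientKerAlgEquivOfSurjective hev).symm (Polynomial.aeval u g)) = _
    have he : (Ideal.quotientKerAlgEquivOfSurjective hev).symm (Polynomial.aeval u g) = Ideal.Quotient.mk K g := by
      rw [AlgEquiv.symm_apply_eq]; rfl
    exact (congrArg (Ideal.Quotient.liftₐ K _ hker) he).trans rfl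
  let fs : DualNumber (B ⧸ n) →+* B ⧸ n := (TrivSqZeroExt.fstHom A (B ⧸ n) (B ⧸ n)).toRingHom
  have hfst : ∀ b, fs (φ2 b) = Ideal.Quotient.mk n b := fun b => by
    obtain ⟨g, rfl⟩ := hev b
    rw [hφ2, ← hub]
    show TrivSqZeroExt.fstHom A (B ⧸ n) (B ⧸ n) (Polynomial.aeval _ g) = _
    rw [← Polynomial.aeval_algHom_apply]
    simp [x]
  have hunit : ∀ (φ : B →ₐ[A] DualNumber (B ⧸ n)), (∀ b, fs (φ b) = Ideal.Quotient.mk n b) →
      ∀ s : n.primeCompl, IsUnit (φ s) := fun φ hφ s => by
    rw [TrivSqZeroExt.isUnit_iff_isUnit_fst, show TrivSqZeroExt.fst (φ s) = Ideal.Quotient.mk n s from hφ s]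
    exact isUnit_iff_ne_zero.2 fun h => s.2 (Ideal.Quotient.eq_zero_iff_mem.1 h)
  have h1 : ∀ b, fs (φ1 b) = Ideal.Quotient.mk n b := fun b => rfl
  let ψ1 := IsLocalization.liftAlgHom (S := Localization.AtPrime n) (f := φ1) (hunit φ1 h1)
  let ψ2 := IsLocalization.liftAlgHom (S := Localization.AtPrime n) (f := φ2) (hunit φ2 hfst)
  haveI : Algebra.FormallyUnramified A (Localization.AtPrime n) := hn
  have hnil : IsNilpotent (RingHom.ker fs) := ⟨2, by
    show RingHom.ker fs ^ 2 = ⊥
    rw [eq_bot_iff]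
    show RingHom.ker fs ^ (1 + 1) ≤ ⊥
    rw [pow_succ, pow_one, Ideal.mul_le]
    intro a ha b hb
    change TrivSqZeroExt.fst a = 0 at ha
    change TrivSqZeroExt.fst b = 0 at hb
    rw [Submodule.mem_bot]
    ext <;> simp [ha, hb]⟩
  have heq : ψ1 = ψ2 := Algebra.FormallyUnramified.ext' fs hnil ψ1 ψ2 (fun z => by
    have : (fs.comp ψ1.toRingHom) = fs.comp ψ2.toRingHom := IsLocalization.ringHom_ext n.primeCompl (RingHom.ext fun b => by
      simp [ψ1, ψ2, IsLocalization.lift_eq, h1, hfst])
    exact RingHom.congr_fun this z)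
  have hu12 : φ1 u = φ2 u := by
    have := AlgHom.congr_fun heq (algebraMap B _ u)
    simpa [ψ1, ψ2, IsLocalization.lift_eq] using this
  have h2 : φ2 u = x + DualNumber.eps := by simpa using hφ2 Polynomial.X
  rw [h2] at hu12
  exact one_ne_zero (α := B ⧸ n) (by simpa [φ1, x, TrivSqZeroExt.algebraMap_eq_inl, TrivSqZeroExt.snd_inl] using (congrArg TrivSqZeroExt.snd hu12).symm)

end Groth.Agent.S5077
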