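import Groth.Statements.S5078
import Mathlib
-- import your own Groth.Agent.* helpers here

set_option autoImplicit false
universe u v
open Hensel

namespace Groth.Agent.S5078

/-- Let A be a ring, I an ideal such that A is I-adically separated and complete, and M a finitely
generated projective A-module. Then M is I-adically separated and complete. -/
theorem result {A : Type u} [CommRing A] (I : Ideal A) [IsAdicComplete I A]
    (M : Type v) [AddCommGroup M] [Module A M] [Module.Finite A M] [Module.Projective A M] :
    IsAdicComplete I M := by
  obtain ⟨n, π, hπ⟩ := Module.Finite.exists_fin' A M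
  obtain ⟨s, hs⟩ := Module.projective_lifting_property π LinearMap.id hπ
  refine AdicCompletion.of_bijective_iff.1 ⟨fun x y hxy => ?_, fun y => ?_⟩
  · have hinj : Function.Injective (AdicCompletion.of I (Fin n → A)) := fun u v huv => funext fun i =>
      AdicCompletion.of_injective I A (by
        have h1 := congrArg (AdicCompletion.map I (LinearMap.proj (R := A) (φ := fun _ : Fin n => A) i)) huv
        simpa only [AdicCompletion.map_of, LinearMap.proj_apply] using h1)
    have h1 : s x = s y := hinj (by rw [← AdicCompletion.map_of, hxy, AdicCompletion.map_of])
    have h2 := congrArg π h1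
    rwa [← LinearMap.comp_apply, hs, ← LinearMap.comp_apply, hs] at h2
  · choose z hz using fun i => AdicCompletion.of_surjective I A
      (AdicCompletion.map I (LinearMap.proj (R := A) (φ := fun _ : Fin n => A) i) (AdicCompletion.map I s y))
    have hy : AdicCompletion.of I (Fin n → A) z = AdicCompletion.map I s y := by
      refine (AdicCompletion.piEquivFin I n).injective (funext fun i => ?_)
      simp only [AdicCompletion.piEquivFin]
      erw [AdicCompletion.piEquivOfFintype_apply, AdicCompletion.piEquivOfFintype_apply]
      simp only [AdicCompletion.pi, LinearMap.pi_apply, AdicCompletion.map_of]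
      exact hz i
    refine ⟨π z, ?_⟩
    rw [← AdicCompletion.map_of, hy, ← LinearMap.comp_apply, AdicCompletion.map_comp, hs, AdicCompletion.map_id]
    rfl

end Groth.Agent.S5078
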