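import Groth.Statements.S5080
import Mathlib
import Groth.Agent.S4528

set_option autoImplicit false
universe u
open EGA418 TensorProduct
set_option linter.style.haveILetI false

namespace Groth.Agent.S5080

/-- Let k be a field, A a complete Noetherian local k-algebra with maximal ideal m whose residue field
is a finite extension of k, p a prime ideal distinct from m, Ω̂ the completion of the module of
differentials of A over k, and M the least number of generators of the A_p-module Ω̂_p. Then for
every family x_1, …, x_M of elements of m not in p there are units u_1, …, u_M of A such that the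
images in Ω̂_p of the differentials d(u_i x_i) generate Ω̂_p. -/
theorem result (k A : Type u) [Field k] [CommRing A]
    [IsLocalRing A] [IsNoetherianRing A] [Algebra k A] [IsAdicComplete (IsLocalRing.maximalIdeal A) A]
    [Module.Finite k (IsLocalRing.ResidueField A)] (p : Ideal A) [p.IsPrime] (hp : p ≠ IsLocalRing.maximalIdeal A)
    (M : ℕ) (hgen : ∃ s : Fin M → (LocalizedModule p.primeCompl (AdicCompletion (IsLocalRing.maximalIdeal A) (KaehlerDifferential k A))), Submodule.span (Localization.AtPrime p) (Set.range s) = ⊤)
    (hmin : ∀ (s : Finset (LocalizedModule p.primeCompl (AdicCompletion (IsLocalRing.maximalIdeal A) (KaehlerDifferential k A)))), Submodule.span (Localization.AtPrime p) (↑s : Set (LocalizedModule p.primeCompl (AdicCompletion (IsLocalRing.maximalIdeal A) (KaehlerDifferential k A)))) = ⊤ → M ≤ s.card)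
    (x : Fin M → A) (hx : ∀ i, x i ∈ IsLocalRing.maximalIdeal A ∧ x i ∉ p) :
    ∃ u : Fin M → Aˣ, Submodule.span (Localization.AtPrime p)
      (Set.range (fun i => LocalizedModule.mkLinearMap p.primeCompl (AdicCompletion (IsLocalRing.maximalIdeal A) (KaehlerDifferential k A)) (AdicCompletion.of (IsLocalRing.maximalIdeal A) (KaehlerDifferential k A) (KaehlerDifferential.D k A ((u i : A) * x i))))) = ⊤ := by
  classical
  set m := IsLocalRing.maximalIdeal A
  let Ap := Localization.AtPrime p
  let Ω' := AdicCompletion m (KaehlerDifferential k A)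
  haveI : Module.Finite A Ω' := Groth.Agent.S4528.result (k := k) (A := A)
  let Ωp := LocalizedModule p.primeCompl Ω'
  haveI : Module.Finite Ap Ωp := Module.Finite.of_isLocalizedModule p.primeCompl
    (LocalizedModule.mkLinearMap p.primeCompl Ω')
  let κ := IsLocalRing.ResidueField Ap
  let V := κ ⊗[Ap] Ωp
  let τ : KaehlerDifferential k A →ₗ[A] V :=
    ((TensorProduct.mk Ap κ Ωp 1).restrictScalars A) ∘ₗ
      (LocalizedModule.mkLinearMap p.primeCompl Ω') ∘ₗ (AdicCompletion.of m (KaehlerDifferential k A))
  let ρ : A → V := fun a => τ (KaehlerDifferential.D k A a)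
  let c : A → κ := algebraMap A κ
  have hρmul : ∀ a b, ρ (a * b) = c a • ρ b + c b • ρ a := fun a b => by
    simp only [ρ, c, Derivation.leibniz, map_add, map_smul, algebraMap_smul]
  have hofspan : Submodule.span A (Set.range fun a : A =>
      AdicCompletion.of m (KaehlerDifferential k A) (KaehlerDifferential.D k A a)) = ⊤ := by
    rw [show (Set.range fun a : A => AdicCompletion.of m (KaehlerDifferential k A) (KaehlerDifferential.D k A a)) =
        AdicCompletion.of m (KaehlerDifferential k A) '' Set.range (KaehlerDifferential.D k A) from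
      (Set.range_comp _ _), ← Submodule.map_span, KaehlerDifferential.span_range_derivation, Submodule.map_top,
      ← IsLocalRing.map_mkQ_eq_top, eq_top_iff]
    rintro z -
    obtain ⟨z, rfl⟩ := Submodule.mkQ_surjective _ z
    obtain ⟨y, hy⟩ := Submodule.Quotient.mk_surjective _ (AdicCompletion.eval m (KaehlerDifferential k A) 1 z)
    refine ⟨_, ⟨y, rfl⟩, ?_⟩
    rw [Submodule.mkQ_apply, Submodule.mkQ_apply, Submodule.Quotient.eq]
    have : (AdicCompletion.of m (KaehlerDifferential k A) y - z) ∈
        LinearMap.ker (AdicCompletion.eval m (KaehlerDifferential k A) 1) := by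
      rw [LinearMap.mem_ker, map_sub, ← hy, sub_eq_zero]
      rfl
    rw [← AdicCompletion.pow_smul_top_eq_ker_eval (IsNoetherian.noetherian _), pow_one] at this
    exact this
  have hV : Submodule.span κ (Set.range ρ) = ⊤ := by
    have h1 : Submodule.span Ap (Set.range fun a : A => LocalizedModule.mkLinearMap p.primeCompl Ω'
        (AdicCompletion.of m (KaehlerDifferential k A) (KaehlerDifferential.D k A a))) = ⊤ := by
      have := span_eq_top_of_isLocalizedModule Ap p.primeCompl
        (LocalizedModule.mkLinearMap p.primeCompl Ω') hofspan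
      rwa [← Set.range_comp] at this
    have h2 := congrArg (Submodule.map (TensorProduct.mk Ap κ Ωp 1)) h1
    rw [IsLocalRing.map_tensorProduct_mk_eq_top.mpr rfl, Submodule.map_span, ← Set.range_comp] at h2
    rw [eq_top_iff]
    intro z _
    have : z ∈ Submodule.span Ap (Set.range ρ) := by
      rw [show Set.range ρ = _ from rfl]
      exact h2 ▸ Submodule.mem_top
    exact Submodule.span_le_restrictScalars Ap κ _ this
  have hcx : ∀ i, c (x i) ≠ 0 := fun i h => by
    have : algebraMap A Ap (x i) ∈ IsLocalRing.maximalIdeal Ap := by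
      rw [← IsLocalRing.residue_eq_zero_iff]; exact h
    exact (hx i).2 ((IsLocalization.AtPrime.to_map_mem_maximal_iff Ap p (x i)).mp this)
  have step : ∀ (i : Fin M) (W : Submodule κ V), W ≠ ⊤ → ∃ u : Aˣ, ρ ((u : A) * x i) ∉ W := by
    intro i W hW
    by_cases h1 : ρ (x i) ∈ W
    · have : ∃ u : Aˣ, ρ (u : A) ∉ W := by
        by_contra hall
        push Not at hall
        refine hW (eq_top_iff.mpr (hV ▸ Submodule.span_le.mpr ?_))
        rintro _ ⟨a, rfl⟩
        by_cases ha : IsUnit a
        · exact hall ha.unit
        · have hu : IsUnit (1 + a) := by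
            have := IsLocalRing.isUnit_one_sub_self_of_mem_nonunits (-a) (by simpa using ha)
            simpa using this
          have h := hall hu.unit
          simp only [IsUnit.unit_spec, ρ, map_add, Derivation.map_one_eq_zero, zero_add] at h
          exact h
      obtain ⟨u, hu⟩ := this
      refine ⟨u, fun h => hu ?_⟩
      rw [hρmul] at h
      exact (W.smul_mem_iff (hcx i)).mp (by simpa using W.sub_mem h (W.smul_mem (c u) h1))
    · exact ⟨1, by simpa using h1⟩
  let SpanN : (Fin M → Aˣ) → ℕ → Submodule κ V := fun u j =>
    Submodule.span κ {v | ∃ i : Fin M, (i : ℕ) < j ∧ ρ ((u i : A) * x i) = v}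
  haveI : Module.Finite κ V := inferInstance
  have greedy : ∀ j ≤ M, ∃ u : Fin M → Aˣ, SpanN u j = ⊤ ∨ j ≤ Module.finrank κ (SpanN u j) := by
    intro j
    induction j with
    | zero => exact fun _ => ⟨1, Or.inr (Nat.zero_le _)⟩
    | succ j ih =>
      intro hj
      obtain ⟨u, hu⟩ := ih (by omega)
      by_cases htop : SpanN u j = ⊤
      · refine ⟨u, Or.inl (eq_top_iff.mpr (htop ▸ Submodule.span_mono ?_))⟩
        rintro v ⟨i, hi, rfl⟩
        exact ⟨i, by omega, rfl⟩
      · obtain ⟨w, hw⟩ := step ⟨j, by omega⟩ _ htop
        refine ⟨Function.update u ⟨j, by omega⟩ w, Or.inr ?_⟩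
        have hle : SpanN u j < SpanN (Function.update u ⟨j, by omega⟩ w) (j + 1) := by
          refine lt_of_le_of_ne (Submodule.span_mono ?_) (fun h => hw ?_)
          · rintro v ⟨i, hi, rfl⟩
            exact ⟨i, by omega, by rw [Function.update_of_ne (fun h => by subst h; simp at hi)]⟩
          · rw [h]
            exact Submodule.subset_span ⟨⟨j, by omega⟩, by simp, by rw [Function.update_self]⟩
        have := Submodule.finrank_lt_finrank_of_lt hle
        have := hu.resolve_left htop
        omega
  obtain ⟨u, hu⟩ := greedy M le_rfl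
  have hdim : Module.finrank κ V ≤ M := by
    obtain ⟨s, hs⟩ := hgen
    have : Submodule.span κ (Set.range fun i => (1 : κ) ⊗ₜ[Ap] s i) = ⊤ := by
      rw [eq_top_iff]
      intro z _
      have h2 := congrArg (Submodule.map (TensorProduct.mk Ap κ Ωp 1)) hs
      rw [IsLocalRing.map_tensorProduct_mk_eq_top.mpr rfl, Submodule.map_span, ← Set.range_comp] at h2
      have hz : z ∈ Submodule.span Ap (Set.range ((TensorProduct.mk Ap κ Ωp 1) ∘ s)) := by
        rw [h2]; trivial
      exact Submodule.span_le_restrictScalars Ap κ _ hz
    have h := finrank_range_le_card (R := κ) fun i => (1 : κ) ⊗ₜ[Ap] s i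
    rwa [Set.finrank, this, finrank_top, Fintype.card_fin] at h
  have htop : SpanN u M = ⊤ := hu.elim id fun h =>
    Submodule.eq_top_of_finrank_eq (le_antisymm (Submodule.finrank_le _) (hdim.trans h))
  refine ⟨u, IsLocalRing.map_tensorProduct_mk_eq_top.mp ?_⟩
  rw [Submodule.map_span, ← Set.range_comp, ← Submodule.restrictScalars_span Ap κ IsLocalRing.residue_surjective,
    Submodule.restrictScalars_eq_top_iff, eq_top_iff, ← htop]
  refine Submodule.span_mono ?_
  rintro v ⟨i, -, rfl⟩
  exact ⟨i, rfl⟩

end Groth.Agent.S5080
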