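import Groth.Statements.S5081
import Mathlib

set_option autoImplicit false
universe u
open Unram

namespace Groth.Agent.S5081

/-- Let B be a finite A-algebra generated by a single element u and F a polynomial with coefficients in
A such that F(u) = 0. Then the ideal generated by F'(u) is contained in the annihilator of the
module of differentials of B over A, and equals it when the kernel of the surjection A[T] → B
sending T to u is generated by F. -/
theorem result (A B : Type u) [CommRing A] [CommRing B] [Algebra A B]
    [Module.Finite A B] (u : B) (hu : Algebra.adjoin A ({u} : Set B) = ⊤) (F : Polynomial A) (hF : Polynomial.aeval u F = 0) :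
    Ideal.span {Polynomial.aeval u (Polynomial.derivative F)} ≤ Module.annihilator B (KaehlerDifferential A B) ∧
      (RingHom.ker (Polynomial.aeval u : Polynomial A →ₐ[A] B) = Ideal.span {F} →
        Module.annihilator B (KaehlerDifferential A B) = Ideal.span {Polynomial.aeval u (Polynomial.derivative F)}) := by
  classical
  have hgen : ∀ b : B, ∃ p : Polynomial A, Polynomial.aeval u p = b := fun b => by
    have : b ∈ Algebra.adjoin A ({u} : Set B) := hu ▸ Algebra.mem_top
    rwa [Algebra.adjoin_singleton_eq_range_aeval, AlgHom.mem_range] at this
  have hD : ∀ p : Polynomial A, KaehlerDifferential.D A B (Polynomial.aeval u p) =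
      Polynomial.aeval u (Polynomial.derivative p) • KaehlerDifferential.D A B u := fun p =>
    Derivation.map_aeval (KaehlerDifferential.D A B) p u
  have h1 : Polynomial.aeval u (Polynomial.derivative F) • KaehlerDifferential.D A B u = 0 := by
    rw [← hD, hF, map_zero]
  have hle : Ideal.span {Polynomial.aeval u (Polynomial.derivative F)} ≤
      Module.annihilator B (KaehlerDifferential A B) := by
    rw [Ideal.span_le, Set.singleton_subset_iff, SetLike.mem_coe, Module.mem_annihilator]
    intro w
    have hw : w ∈ Submodule.span B (Set.range (KaehlerDifferential.D A B)) := by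
      rw [KaehlerDifferential.span_range_derivation]; trivial
    induction hw using Submodule.span_induction with
    | mem x hx =>
      obtain ⟨b, rfl⟩ := hx
      obtain ⟨p, rfl⟩ := hgen b
      rw [hD, smul_comm, h1, smul_zero]
    | zero => simp
    | add x y _ _ hx hy => rw [smul_add, hx, hy, add_zero]
    | smul c x _ hx => rw [smul_comm, hx, smul_zero]
  refine ⟨hle, fun hker => le_antisymm ?_ hle⟩
  intro x hx
  set J := Ideal.span {Polynomial.aeval u (Polynomial.derivative F)}
  choose g hg using hgen
  have hwd : ∀ p q : Polynomial A, Polynomial.aeval u p = Polynomial.aeval u q →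
      Ideal.Quotient.mk J (Polynomial.aeval u (Polynomial.derivative p)) =
      Ideal.Quotient.mk J (Polynomial.aeval u (Polynomial.derivative q)) := by
    intro p q hpq
    have : p - q ∈ RingHom.ker (Polynomial.aeval u : Polynomial A →ₐ[A] B) := by
      rw [RingHom.mem_ker, map_sub, hpq, sub_self]
    rw [hker, Ideal.mem_span_singleton] at this
    obtain ⟨c, hc⟩ := this
    rw [Ideal.Quotient.mk_eq_mk_iff_sub_mem, ← map_sub, ← map_sub, hc, Polynomial.derivative_mul,
      map_add, map_mul, map_mul, hF, zero_mul, add_zero]
    exact Ideal.mul_mem_right _ _ (Ideal.mem_span_singleton_self _)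
  let d : B →ₗ[A] B ⧸ J :=
    { toFun := fun b => Ideal.Quotient.mk J (Polynomial.aeval u (Polynomial.derivative (g b)))
      map_add' := fun b c => by
        rw [hwd (g (b + c)) (g b + g c) (by simp [hg])]; simp
      map_smul' := fun a b => by
        rw [hwd (g (a • b)) (a • g b) (by simp [hg]), Polynomial.derivative_smul, map_smul]
        rfl }
  let D : Derivation A B (B ⧸ J) :=
    Derivation.mk' d fun b c => by
      show Ideal.Quotient.mk J _ = b • Ideal.Quotient.mk J _ + c • Ideal.Quotient.mk J _
      rw [hwd (g (b * c)) (g b * g c) (by simp [hg]), Polynomial.derivative_mul, map_add, map_mul,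
        map_mul, hg, hg, map_add, Algebra.smul_def, Algebra.smul_def, Ideal.Quotient.algebraMap_eq,
        map_mul, map_mul]
      ring
  have h2 := congrArg D.liftKaehlerDifferential (Module.mem_annihilator.1 hx (KaehlerDifferential.D A B u))
  rw [map_smul, map_zero, Derivation.liftKaehlerDifferential_comp_D] at h2
  have h3 : D u = 1 := by
    show Ideal.Quotient.mk J _ = 1
    rw [hwd (g u) Polynomial.X (by simp [hg])]; simp
  rw [h3, Algebra.smul_def, mul_one] at h2
  exact Ideal.Quotient.eq_zero_iff_mem.1 h2

end Groth.Agent.S5081
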