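import Groth.Statements.S5082
import Groth.Agent.MeroLib.Basic
import Groth.Agent.QGorD.Basic
import Groth.Agent.S12513
open Groth.Agent.MeroLib

set_option autoImplicit false
universe u
open CategoryTheory CategoryTheory.Limits AlgebraicGeometry TopologicalSpace
open Mero

namespace Groth.Agent.S5082

/-- Let A be a Noetherian local ring. Then the group of divisors of Spec A is trivial (every divisor
equals the unit divisor, divisors being written multiplicatively) if and only if A has depth 0, that
is, if and only if every element of the maximal ideal of A is a zero-divisor. -/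
theorem result (A : Type u) [CommRing A] [IsNoetherianRing A] [IsLocalRing A] :
    (∀ D : Mero.Divisor (Spec (CommRingCat.of A)), D = 1) ↔ LocCoh.depth A A = 0 := by
  let x : Spec (CommRingCat.of A) := IsLocalRing.closedPoint A
  have htop : ∀ U : (Spec (CommRingCat.of A)).Opens, x ∈ U → U = ⊤ := fun U hU => by
    exact (IsLocalRing.closedPoint_mem_iff U).mp hU
  have hxT : x ∈ (⊤ : (Spec (CommRingCat.of A)).Opens) := TopologicalSpace.Opens.mem_top _
  let φ : A →+* (Spec (CommRingCat.of A)).presheaf.stalk x :=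
    (gO x hxT).comp (Scheme.ΓSpecIso (CommRingCat.of A)).inv.hom
  have hφ : Function.Bijective φ := by
    haveI : IsLocalRing (CommRingCat.of A : Type u) := ‹IsLocalRing A›
    have h1 : (stalkClosedPointIso (CommRingCat.of A)).inv =
        (Scheme.ΓSpecIso (CommRingCat.of A)).inv ≫ (Spec (CommRingCat.of A)).presheaf.germ ⊤ x hxT := by
      rw [Iso.eq_inv_comp]
      exact ΓSpecIso_hom_stalkClosedPointIso_inv _
    have h2 : (φ : A → _) = ⇑(stalkClosedPointIso (CommRingCat.of A)).inv.hom := by rw [h1]; rfl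
    rw [h2]
    exact ConcreteCategory.bijective_of_isIso (stalkClosedPointIso (CommRingCat.of A)).inv
  let e := RingEquiv.ofBijective φ hφ
  constructor
  · intro h
    by_contra h0
    obtain ⟨t, htm, ht⟩ := Groth.Agent.QGorD.exists_regular_of_one_le (IsLocalRing.maximalIdeal A) A
      (Order.one_le_iff_pos.mpr (pos_iff_ne_zero.mpr h0))
    let s : Γ(Spec (CommRingCat.of A), ⊤) := (Scheme.ΓSpecIso (CommRingCat.of A)).inv.hom t
    have hs : s ∈ Mero.regSub _ ⊤ := by
      rw [Groth.Agent.S12513.result _ _ (isAffineOpen_top _)]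
      let e₀ := (Scheme.ΓSpecIso (CommRingCat.of A)).symm.commRingCatIsoToRingEquiv
      refine mem_nonZeroDivisors_iff_right.2 fun c hc => e₀.symm.injective ?_
      rw [map_zero]
      refine ht (show t • e₀.symm c = t • 0 from ?_)
      rw [smul_zero, smul_eq_mul, mul_comm, ← map_zero e₀.symm, ← hc, map_mul]
      exact congrArg (_ * ·) (e₀.symm_apply_apply t).symm
    have hu : IsUnit (Mero.toK _ ⊤ s) := isUnit_of_regular _ fun y =>
      ⟨⊤, le_rfl, s, 1, trivial, hs, one_mem _, fun z => by rw [map_one, map_one, mul_one, toK_val]⟩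
    have hD := congrArg (fun D : Mero.Divisor (Spec (CommRingCat.of A)) => D.1 x) (h (Mero.div hu.unit))
    change Mero.germOf hu.unit ⟨x, trivial⟩ = 1 at hD
    rw [germOf_eq, ← QuotientGroup.mk_one, eq_comm, mk_eq_mk_iff] at hD
    obtain ⟨c, hc, e1⟩ := hD
    rw [Units.val_one, one_mul, uval_val, IsUnit.unit_spec, toK_val] at e1
    have hts : IsUnit (φ t) := (iK_inj x e1).symm ▸ hc
    exact htm ((MulEquiv.isUnit_map e.toMulEquiv).mp hts)
  · intro h0 D
    have hunit : ∀ w : (Spec (CommRingCat.of A)).presheaf.stalk x, w ∈ nonZeroDivisors _ → IsUnit w := fun w hw => by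
      by_contra hwu
      obtain ⟨t, rfl⟩ := hφ.2 w
      have h1 := Groth.Agent.QGorD.one_le_of_regular (I := IsLocalRing.maximalIdeal A) (M := A) (x := t)
        (fun htu => hwu (htu.map φ)) fun u v huv => hφ.1 (mul_cancel_left_mem_nonZeroDivisors hw |>.mp
          (by rw [← map_mul, ← map_mul]; exact congrArg φ huv))
      exact absurd (h1.trans_eq h0) (by simp)
    obtain ⟨U, f, -, hxU, hf⟩ := exists_local D x
    obtain ⟨W, hWU, a, b, -, hxW, hb, hab⟩ := exists_frac (f : Γ(Mero.kmod _, U)) ⟨x, hxU⟩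
    have hau := hunit _ (regular_of_isUnit (uval f ⟨x, hxU⟩).isUnit (Mero.germ_mem_regStalk ⟨x, hxW⟩ hb) (hab ⟨x, hxW⟩))
    have hbu := hunit _ (hb ⟨x, hxW⟩)
    refine Subtype.ext (funext fun y => ?_)
    have hyW : y ∈ W := by rw [htop W hxW]; trivial
    have hya : y ∈ (Spec (CommRingCat.of A)).basicOpen a := by
      rw [htop _ ((Scheme.mem_basicOpen _ a x hxW).mpr hau)]; trivial
    have hyb : y ∈ (Spec (CommRingCat.of A)).basicOpen b := by
      rw [htop _ ((Scheme.mem_basicOpen _ b x hxW).mpr hbu)]; trivial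
    have hau' := (Scheme.mem_basicOpen _ a y hyW).mp hya
    have hbu' := (Scheme.mem_basicOpen _ b y hyW).mp hyb
    change D.1 y = 1
    rw [hf ⟨y, hWU hyW⟩, germOf_eq, ← QuotientGroup.mk_one, eq_comm, mk_eq_mk_iff]
    refine ⟨gO y hyW a * hbu'.unit⁻¹, hau'.mul (Units.isUnit _), ?_⟩
    rw [Units.val_one, one_mul, map_mul, ← show _ = iK y (gO y hyW a) from hab ⟨y, hyW⟩, uval_val, mul_assoc,
      ← map_mul, IsUnit.mul_val_inv, map_one, mul_one]

end Groth.Agent.S5082
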