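import Groth.Statements.S5083
import Groth.Agent.MeroLib.Basic
open Groth.Agent.MeroLib

set_option autoImplicit false
universe u
open CategoryTheory CategoryTheory.Limits AlgebraicGeometry TopologicalSpace
open Mero

namespace Groth.Agent.S5083


/-- Multiplication by a unit of `Γ(X, K_X)`. -/
noncomputable def mulHom {X : Scheme.{u}} (D D' : Mero.Divisor X) (f : (Γ(Mero.kmod X, ⊤))ˣ)
    (hD : ∀ x : X, D.1 x = D'.1 x * Mero.germOf f ⟨x, TopologicalSpace.Opens.mem_top x⟩) :
    Mero.divMod D ⟶ Mero.divMod D' :=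
  ⟨PresheafOfModules.homMk (M₁ := (Mero.divMod D).val) (M₂ := (Mero.divMod D').val)
    { app := fun U => AddCommGrpCat.ofHom
        { toFun := fun (t : Γ(Mero.divMod D, U.unop)) => (⟨fun y => t.1 y * (f : Γ(Mero.kmod X, ⊤)).1 ⟨y.1, trivial⟩,
            Mero.kLoc_mul X U.unop _ _ t.2.1 ((Mero.kmod X).presheaf.map (homOfLE (le_top : U.unop ≤ ⊤)).op
              (f : Γ(Mero.kmod X, ⊤))).2,
            fun y g hg => by
              have hg2 : D.1 y.1 = QuotientGroup.mk (g * uval f ⟨y.1, trivial⟩) := by
                rw [hD y.1, hg, QuotientGroup.mk_mul]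
              have h := t.2.2 y _ hg2
              rw [Units.val_mul, uval_val, mul_comm (g : Mero.KStalk X y.1), ← mul_assoc] at h
              exact h⟩ : Γ(Mero.divMod D', U.unop))
          map_zero' := Subtype.ext (funext fun y => zero_mul _)
          map_add' := fun _ _ => Subtype.ext (funext fun y => add_mul _ _ _) }
      naturality := by intros; rfl }
    (fun _ _ _ => Subtype.ext (funext fun y => smul_mul_assoc _ _ _))⟩

theorem mulHom_comp {X : Scheme.{u}} (D D' : Mero.Divisor X) (f f' : (Γ(Mero.kmod X, ⊤))ˣ) (hff : f' = f⁻¹)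
    (hD : ∀ x : X, D.1 x = D'.1 x * Mero.germOf f ⟨x, TopologicalSpace.Opens.mem_top x⟩)
    (hD' : ∀ x : X, D'.1 x = D.1 x * Mero.germOf f' ⟨x, TopologicalSpace.Opens.mem_top x⟩) :
    mulHom D D' f hD ≫ mulHom D' D f' hD' = 𝟙 _ := by
  subst hff
  ext U t
  refine Subtype.ext (funext fun y => ?_)
  change t.1 y * _ * _ = t.1 y
  rw [mul_assoc, mul_comm ((f : Γ(Mero.kmod X, ⊤)).1 _), uval_inv, mul_one]

/-- Let X be a scheme and D, D' divisors on X (global sections of the sheaf of units of K_X modulo units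
of O_X, written multiplicatively). If D and D' are linearly equivalent, i.e. D · D'⁻¹ is the divisor
of a unit of the ring of global sections of K_X, then the O_X-modules O_X(D) and O_X(D') are
isomorphic. (The published statement is an equivalence: O_X(D) and O_X(D') are isomorphic if and
only if D and D' are linearly equivalent; this row states only that linearly equivalent divisors
have isomorphic modules.) -/
theorem result (X : Scheme.{u}) (D D' : Mero.Divisor X) (h : Mero.LinEquiv D D') :
    Nonempty (Mero.divMod D ≅ Mero.divMod D') := by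
  obtain ⟨f, hf⟩ := h
  have hD : ∀ x : X, D.1 x = D'.1 x * Mero.germOf f ⟨x, Opens.mem_top x⟩ := fun x => by
    have := congrArg (fun E : Mero.Divisor X => E.1 x) hf
    simp only [Subgroup.coe_mul, Subgroup.coe_inv, Pi.mul_apply, Pi.inv_apply] at this
    rw [← show _ = Mero.germOf f ⟨x, Opens.mem_top x⟩ from this, mul_comm (D'.1 x), inv_mul_cancel_right]
  have hD' : ∀ x : X, D'.1 x = D.1 x * Mero.germOf f⁻¹ ⟨x, Opens.mem_top x⟩ := fun x => by
    rw [hD x, Mero.germOf, Mero.germOf, map_inv, QuotientGroup.mk_inv, mul_inv_cancel_right]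
  exact ⟨⟨mulHom D D' f hD, mulHom D' D f⁻¹ hD', mulHom_comp _ _ _ _ rfl _ _,
    mulHom_comp _ _ _ _ (inv_inv f).symm _ _⟩⟩

end Groth.Agent.S5083
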