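import Groth.Statements.S5084
import Groth.Agent.MeroLib.RegStalk
import Groth.Agent.MeroLib.Sections
import Groth.Agent.WeakAssLib.Basic
import Groth.Agent.QC.Basic
open Groth.Agent.MeroLib
open Groth.Agent.QC (res app_res)

set_option autoImplicit false
universe u
open CategoryTheory CategoryTheory.Limits AlgebraicGeometry TopologicalSpace
open Mero

namespace Groth.Agent.S5084

/-- Let X be a locally Noetherian scheme and F a quasi-coherent O_X-module. Then F is torsion-free — the
canonical map from F to its sheaf of meromorphic sections K_X(F), m ↦ m/1, is a monomorphism, i.e.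
at every point no germ of a regular function kills a nonzero element of the stalk of F — if and only
if every associated point of F is an associated point of the structure sheaf (a point x such that
the maximal ideal of O_{X,x} is an associated prime of O_{X,x}). -/
theorem result (X : Scheme.{u}) [IsLocallyNoetherian X]
    (F : X.Modules) (hF : Coh.IsQCoh F) :
    Mono (Mero.toMer F) ↔
      ∀ x : ↥X, Curv2.IsAssPoint F x →
        IsAssociatedPrime (IsLocalRing.maximalIdeal ↑(X.presheaf.stalk x)) ↑(X.presheaf.stalk x) := by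
  constructor
  · intro hmono x hx
    by_contra hnot
    obtain ⟨σ, hσm, hσ⟩ : ∃ σ ∈ IsLocalRing.maximalIdeal (X.presheaf.stalk x),
        σ ∈ nonZeroDivisors (X.presheaf.stalk x) := by
      by_contra hc
      push Not at hc
      have h1 : (IsLocalRing.maximalIdeal (X.presheaf.stalk x) : Set (X.presheaf.stalk x)) ⊆
          ⋃ p ∈ (((associatedPrimes.finite (X.presheaf.stalk x : Type u) (X.presheaf.stalk x)).toFinset : Finset (Ideal (X.presheaf.stalk x))) : Set (Ideal (X.presheaf.stalk x))), (p : Set (X.presheaf.stalk x)) := fun σ hσ => by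
        have h2 : σ ∈ ⋃ p ∈ associatedPrimes (X.presheaf.stalk x : Type u) (X.presheaf.stalk x), (p : Set _) := by
          rw [biUnion_associatedPrimes_eq_compl_nonZeroDivisors]; exact hc σ hσ
        simpa using h2
      obtain ⟨p, hp, hle⟩ := (Ideal.subset_union_prime (f := fun p : Ideal (X.presheaf.stalk x) => p) ⊥ ⊥
        (fun p hp _ _ => ((Set.Finite.mem_toFinset _).mp hp).isPrime)).mp h1
      have hp' := (Set.Finite.mem_toFinset _).mp hp
      exact hnot ((IsLocalRing.maximalIdeal.isMaximal _).eq_of_le hp'.isPrime.ne_top hle ▸ hp')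
    obtain ⟨-, m, hm⟩ := hx
    obtain ⟨n, hn⟩ : ∃ n : ℕ, σ ^ n • m = 0 := by
      rw [hm] at hσm
      obtain ⟨n, hn⟩ := hσm
      exact ⟨n, Submodule.mem_colon_singleton.mp hn⟩
    have hm0 : m ≠ 0 := fun hm0 => by
      rw [hm0] at hm
      have : (1 : X.presheaf.stalk x) ∈ IsLocalRing.maximalIdeal _ := by
        rw [hm]; exact Ideal.le_radical (Submodule.mem_colon_singleton.mpr (smul_zero _))
      exact (IsLocalRing.maximalIdeal.isMaximal _).ne_top ((Ideal.eq_top_iff_one _).mpr this)
    clear hm
    obtain ⟨m, hσm'⟩ : ∃ m' : F.presheaf.stalk x, σ • m' = 0 ∧ m' ≠ 0 := by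
      induction n generalizing m with
      | zero => exact absurd (by simpa using hn) hm0
      | succ n ih =>
        by_cases h1 : σ • m = 0
        · exact ⟨m, h1, hm0⟩
        · exact ih (σ • m) (by rw [← mul_smul, ← pow_succ]; exact hn) h1
    obtain ⟨V, hxV, m', rfl⟩ := TopCat.Presheaf.exists_germ_eq (C := Ab.{u}) F.presheaf m
    obtain ⟨O, hxO, b, hb, rfl⟩ := mem_regStalk_of_nonZeroDivisor hσ
    have hxVO : x ∈ (V : X.Opens) ⊓ O := And.intro hxV hxO
    have h3 : gL F x hxVO (X.presheaf.map (homOfLE (inf_le_right : (V : X.Opens) ⊓ O ≤ O)).op b •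
        res F (inf_le_left : (V : X.Opens) ⊓ O ≤ V) m') = gL F x hxVO 0 := by
      rw [gL_smul, gL_res, map_zero]
      simp only [gO, TopCat.Presheaf.germ_res_apply]
      exact hσm'.1
    obtain ⟨T, hxT, i₁, i₂, e⟩ := F.presheaf.germ_eq x _ _ _ _ h3
    haveI : Mono (Mero.toMer F) := hmono
    have h4 : res F (i₁.le.trans inf_le_left) m' = 0 := by
      refine Groth.Agent.QC.app_injective_of_mono (Mero.toMer F) T ?_
      rw [map_zero]
      refine Subtype.ext (funext fun y => ?_)
      change LocalizedModule.mk (gL F y.1 y.2 _) 1 = 0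
      rw [← LocalizedModule.zero_mk 1, LocalizedModule.mk_eq]
      refine ⟨⟨_, Mero.germ_mem_regStalk (⟨y.1, (i₁.le y.2).2⟩ : O) hb⟩, ?_⟩
      have h5 := congrArg (gL F y.1 y.2) e
      simp only [map_zero] at h5
      erw [TopCat.Presheaf.germ_res_apply] at h5
      rw [gL_smul, gL_res] at h5
      simp only [gO, TopCat.Presheaf.germ_res_apply] at h5
      simp only [Submonoid.smul_def, OneMemClass.coe_one, one_smul, smul_zero, gL_res]
      exact h5
    have h6 := congrArg (gL F x hxT) h4
    rw [gL_res, map_zero] at h6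
    exact hσm'.2 h6
  · intro h
    refine Groth.Agent.QC.mono_iff_app_injective (Mero.toMer F) |>.mpr fun U s t hst => ?_
    rw [← sub_eq_zero]
    refine Groth.Agent.WeakAssLib.eq_zero_of_forall hF _ fun x hx hw => ?_
    by_contra hne
    have h0 : (LocalizedModule.mk (gL F x hx (s - t)) 1 : Mero.MStalk F x) = 0 := by
      have h1 := congrArg (fun w : Γ(Mero.merMod F, U) => w.1 ⟨x, hx⟩) hst
      have h1' : (LocalizedModule.mk (gL F x hx s) 1 : Mero.MStalk F x) = LocalizedModule.mk (gL F x hx t) 1 := h1
      rw [LocalizedModule.mk_eq] at h1'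
      obtain ⟨c, hc⟩ := h1'
      rw [← LocalizedModule.zero_mk 1, LocalizedModule.mk_eq]
      refine ⟨c, ?_⟩
      simp only [one_smul, smul_zero] at hc ⊢
      rw [map_sub, smul_sub, hc, sub_self]
    rw [← LocalizedModule.zero_mk 1, LocalizedModule.mk_eq] at h0
    obtain ⟨c, hc⟩ := h0
    simp only [one_smul, smul_zero, Submonoid.smul_def] at hc
    have hassO := h x ((Groth.Agent.WeakAssLib.isAssPoint_iff F x).mpr hw)
    have hcu : IsUnit (c : X.presheaf.stalk x) := by
      by_contra hcu
      have h2 : (c : X.presheaf.stalk x) ∈ ⋃ p ∈ associatedPrimes (X.presheaf.stalk x : Type u) (X.presheaf.stalk x),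
          (p : Set _) := Set.mem_biUnion (x := IsLocalRing.maximalIdeal _) hassO hcu
      rw [biUnion_associatedPrimes_eq_compl_nonZeroDivisors] at h2
      exact h2 (Mero.regStalk_le_nonZeroDivisors x c.2)
    exact hne (hcu.smul_eq_zero.mp hc)

end Groth.Agent.S5084
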