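import Groth.Statements.S5085
import Groth.Agent.MeroLib.Basic
open Groth.Agent.MeroLib

set_option autoImplicit false
universe u
open CategoryTheory CategoryTheory.Limits AlgebraicGeometry TopologicalSpace
open Mero

namespace Groth.Agent.S5085

/-- Let X be a scheme, U an open subset and V an open subset of U which is schematically dense in U (for
every open W ⊆ U, restriction of functions from W to W ∩ V is injective). Then restriction of
sections of the sheaf of meromorphic functions K_X from U to V is injective: the canonical map from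
meromorphic functions to pseudo-functions is injective. -/
theorem result (X : Scheme.{u}) (U V : X.Opens) (hVU : V ≤ U)
    (hV : ∀ W : X.Opens, W ≤ U →
      Function.Injective ⇑(X.presheaf.map (homOfLE (inf_le_left : W ⊓ V ≤ W)).op)) :
    Function.Injective ⇑((Mero.kmod X).presheaf.map (homOfLE hVU).op) := by
  intro f f' hff
  refine Subtype.ext (funext fun x => ?_)
  obtain ⟨W, hWU, a, b, -, hx, hb, hab⟩ := exists_frac (f - f') x
  have ha : X.presheaf.map (homOfLE (inf_le_left : W ⊓ V ≤ W)).op a = 0 := by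
    refine TopCat.Presheaf.section_ext X.sheaf (W ⊓ V) _ 0 fun y hy => iK_inj y ?_
    refine ((congrArg (iK y) (TopCat.Presheaf.germ_res_apply X.presheaf _ y hy a)).trans (hab ⟨y, hy.1⟩).symm).trans ?_
    rw [show (f - f').1 ⟨y, hWU hy.1⟩ = f.1 ⟨y, hWU hy.1⟩ - f'.1 ⟨y, hWU hy.1⟩ from map_sub (Mero.evalK X U ⟨y, hWU hy.1⟩) f f',
      show f.1 ⟨y, hWU hy.1⟩ = f'.1 ⟨y, hWU hy.1⟩ from congrArg (fun w : Γ(Mero.kmod X, V) => w.1 ⟨y, hy.2⟩) hff, sub_self, zero_mul]
    exact (congrArg (iK y) (map_zero _)).trans (map_zero _) |>.symm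
  have ha0 : a = 0 := hV W hWU (ha.trans (map_zero _).symm)
  have h1 := hab ⟨x.1, hx⟩
  rw [ha0, map_zero, map_zero, (isUnit_iK_of_mem (Mero.germ_mem_regStalk ⟨x.1, hx⟩ hb)).mul_left_eq_zero] at h1
  exact sub_eq_zero.mp ((map_sub (Mero.evalK X U x) f f').symm.trans h1)

end Groth.Agent.S5085
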