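import Groth.Statements.S5086
import Groth.Agent.MeroLib.Special
import Mathlib.RingTheory.Ideal.AssociatedPrime.Localization
open Groth.Agent.MeroLib

set_option autoImplicit false
universe u
open CategoryTheory CategoryTheory.Limits AlgebraicGeometry TopologicalSpace
open Mero

namespace Groth.Agent.S5086

/-- Let X be a scheme which is either locally Noetherian, or reduced with locally finite set of
irreducible components (every point has an open neighbourhood meeting only finitely many irreducible
components). Let U be an open subset, V an open subset of U schematically dense in U (restriction of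
functions from every open W ⊆ U to W ∩ V is injective) and g a function on V. Then there is a
section of the sheaf of meromorphic functions K_X over U whose restriction to V is g/1; with part
(i), meromorphic functions over U are exactly the pseudo-functions on U. -/
theorem result (X : Scheme.{u})
    (hX : IsLocallyNoetherian X ∨ (IsReduced X ∧ ∀ x : ↥X, ∃ W : X.Opens, x ∈ W ∧
      {Z : Set ↥X | Z ∈ irreducibleComponents ↥X ∧ (Z ∩ (W : Set ↥X)).Nonempty}.Finite))
    (U V : X.Opens) (hVU : V ≤ U)
    (hV : ∀ W : X.Opens, W ≤ U →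
      Function.Injective ⇑(X.presheaf.map (homOfLE (inf_le_left : W ⊓ V ≤ W)).op))
    (g : Γ(X, V)) :
    ∃ s : Γ(Mero.kmod X, U), (Mero.kmod X).presheaf.map (homOfLE hVU).op s = Mero.toK X V g := by
  classical
  have hden : HasDenoms U V := by
    rcases hX with hN | ⟨hR, hfin⟩
    · refine hasDenoms_of_ass U V fun z hzU hass => ?_
      obtain ⟨W, hW, hzW, hWU⟩ := TopologicalSpace.Opens.isBasis_iff_nbhd.mp X.isBasis_affineOpens hzU
      haveI : IsNoetherianRing Γ(X, W) := IsLocallyNoetherian.component_noetherian ⟨W, hW⟩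
      letI := TopCat.Presheaf.algebra_section_stalk X.presheaf ⟨z, hzW⟩
      haveI := hW.isLocalization_stalk ⟨z, hzW⟩
      have hq := Module.associatedPrimes.comap_mem_associatedPrimes_of_mem_associatedPrimes_of_isLocalizedModule_of_fg
        (hW.primeIdealOf ⟨z, hzW⟩).asIdeal.primeCompl (Algebra.linearMap Γ(X, W) (↑(X.presheaf.stalk z) : Type u))
        _ hass ((isNoetherianRing_iff_ideal_fg _).mp inferInstance _)
      have he := IsLocalization.AtPrime.under_maximalIdeal (↑(X.presheaf.stalk z) : Type u) (hW.primeIdealOf ⟨z, hzW⟩).asIdeal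
      rw [Ideal.under] at he
      rw [he] at hq
      obtain ⟨-, c, hc⟩ := isAssociatedPrime_iff.mp hq
      by_contra hzV
      have hc0 : c = 0 := by
        refine hV W hWU ((TopCat.Presheaf.section_ext X.sheaf (W ⊓ V) _ 0 fun y hy => ?_).trans (map_zero _).symm)
        change gO y hy _ = gO y hy 0
        simp only [gO, TopCat.Presheaf.germ_res_apply, map_zero]
        obtain ⟨r, hr, hry⟩ : ∃ r, r ∈ (hW.primeIdealOf ⟨z, hzW⟩).asIdeal ∧ r ∉ (hW.primeIdealOf ⟨y, hy.1⟩).asIdeal := by
          refine SetLike.not_le_iff_exists.mp fun hle => hzV ?_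
          have h4 : hW.primeIdealOf ⟨z, hzW⟩ ⤳ hW.primeIdealOf ⟨y, hy.1⟩ := (PrimeSpectrum.le_iff_specializes _ _).mp hle
          have := h4.map hW.fromSpec.continuous
          rw [hW.fromSpec_primeIdealOf, hW.fromSpec_primeIdealOf] at this
          exact this.mem_open V.2 hy.2
        rw [hc, Submodule.mem_colon_singleton, Submodule.mem_bot, smul_eq_mul] at hr
        letI := TopCat.Presheaf.algebra_section_stalk X.presheaf ⟨y, hy.1⟩
        haveI := hW.isLocalization_stalk ⟨y, hy.1⟩
        have hu := (IsLocalization.AtPrime.isUnit_to_map_iff (↑(X.presheaf.stalk y) : Type u) _ r).mpr hry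
        have h5 := congrArg (gO y hy.1) hr
        rw [map_mul, map_zero] at h5
        exact hu.mul_right_eq_zero.mp h5
      refine hq.isPrime.ne_top (Ideal.eq_top_iff_one _ |>.mpr ?_)
      rw [hc, hc0, Submodule.mem_colon_singleton, smul_zero]
      exact zero_mem _
    · haveI := hR
      refine hasDenoms_of_maximal hfin U V fun z hzU hmax => ?_
      obtain ⟨W₁, hzW₁, hfinW⟩ := hfin z
      have hbad : ({Z : Set X | Z ∈ irreducibleComponents X ∧ (Z ∩ (W₁ : Set X)).Nonempty} \ {closure {z}}).Finite :=
        hfinW.subset Set.diff_subset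
      have hclosed : IsClosed (⋃ Z ∈ ({Z : Set X | Z ∈ irreducibleComponents X ∧ (Z ∩ (W₁ : Set X)).Nonempty} \ {closure {z}}), Z) :=
        hbad.isClosed_biUnion fun Z hZ => isClosed_of_mem_irreducibleComponents Z hZ.1.1
      have hz0 : z ∈ (U ⊓ W₁ ⊓ ⟨_, hclosed.isOpen_compl⟩ : X.Opens) := by
        refine ⟨⟨hzU, hzW₁⟩, fun hz' => ?_⟩
        obtain ⟨Z, hZ, hzZ⟩ := Set.mem_iUnion₂.mp hz'
        refine hZ.2 ?_
        obtain ⟨w, hw⟩ := QuasiSober.sober hZ.1.1.1 (isClosed_of_mem_irreducibleComponents Z hZ.1.1)
        rw [hmax w (hw.specializes hzZ)] at hw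
        exact hw.symm
      obtain ⟨W, hW, hzW, hWle⟩ := TopologicalSpace.Opens.isBasis_iff_nbhd.mp X.isBasis_affineOpens hz0
      have hWU : W ≤ U := hWle.trans (inf_le_left.trans inf_le_left)
      obtain ⟨y, hy⟩ : ∃ y, y ∈ W ⊓ V := by
        by_contra hne
        push Not at hne
        have h10 : (1 : Γ(X, W)) = 0 := hV W hWU (TopCat.Presheaf.section_ext X.sheaf (W ⊓ V) _ _ fun y hy => absurd hy (hne y))
        have h11 := congrArg (gO z hzW) h10
        rw [map_one, map_zero] at h11
        exact one_ne_zero h11
      have hspec : z ⤳ y := by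
        have hZ : irreducibleComponent y = closure {z} := by
          by_contra hne
          refine (hWle hy.1).2 (Set.mem_iUnion₂.mpr ⟨irreducibleComponent y,
            ⟨⟨irreducibleComponent_mem_irreducibleComponents y, y, mem_irreducibleComponent, (hWle hy.1).1.2⟩, hne⟩,
            mem_irreducibleComponent⟩)
        exact specializes_iff_mem_closure.mpr (hZ ▸ mem_irreducibleComponent)
      exact hspec.mem_open V.2 hy.2
  obtain ⟨s, hs⟩ := exists_extend hVU hden g
  exact ⟨s, Subtype.ext (funext fun y => hs y)⟩

end Groth.Agent.S5086
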