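import Groth.Statements.S5088
import Groth.Agent.MeroLib.Special
import Mathlib.RingTheory.Ideal.AssociatedPrime.Localization
open Groth.Agent.MeroLib

set_option autoImplicit false
universe u
open CategoryTheory CategoryTheory.Limits AlgebraicGeometry TopologicalSpace
open Mero

namespace Groth.Agent.S5088

/-- Case a): let X be a locally Noetherian scheme such that the set of associated points of O_X (the
points x such that the maximal ideal of O_{X,x} is an associated prime of O_{X,x}) is contained in
an affine open subset of X. Then every invertible O_X-module is isomorphic to O_X(D) for some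
divisor D on X; in other words the canonical homomorphism Div(X) → Pic(X) is surjective and Pic(X)
is the group of divisors modulo linear equivalence. -/
theorem result (X : Scheme.{u}) [IsLocallyNoetherian X]
    (hX : ∃ W : X.Opens, IsAffineOpen W ∧ ∀ x : ↥X,
      IsAssociatedPrime (IsLocalRing.maximalIdeal ↑(X.presheaf.stalk x)) ↑(X.presheaf.stalk x) → x ∈ W)
    (L : X.Modules) (hL : PicF.IsInvertible L) :
    ∃ D : Mero.Divisor X, Nonempty (L ≅ Mero.divMod D) := by
  obtain ⟨W, hW, hass⟩ := hX
  haveI : IsNoetherianRing Γ(X, W) := IsLocallyNoetherian.component_noetherian ⟨W, hW⟩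
  have hfin : {z : X | IsAssociatedPrime (IsLocalRing.maximalIdeal (X.presheaf.stalk z)) (X.presheaf.stalk z)}.Finite := by
    refine ((associatedPrimes.finite Γ(X, W) Γ(X, W)).preimage (f := fun z : W => (hW.primeIdealOf z).asIdeal) ?_ |>.image Subtype.val).subset ?_
    · intro z _ z' _ h
      have h1 := congrArg hW.fromSpec (PrimeSpectrum.ext h : hW.primeIdealOf z = hW.primeIdealOf z')
      rw [hW.fromSpec_primeIdealOf, hW.fromSpec_primeIdealOf] at h1
      exact Subtype.ext h1
    · intro z hz
      refine ⟨⟨z, hass z hz⟩, ?_, rfl⟩
      letI := TopCat.Presheaf.algebra_section_stalk X.presheaf ⟨z, hass z hz⟩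
      haveI := hW.isLocalization_stalk ⟨z, hass z hz⟩
      have hq := Module.associatedPrimes.comap_mem_associatedPrimes_of_mem_associatedPrimes_of_isLocalizedModule_of_fg
        (hW.primeIdealOf ⟨z, hass z hz⟩).asIdeal.primeCompl (Algebra.linearMap Γ(X, W) (↑(X.presheaf.stalk z) : Type u))
        _ hz ((isNoetherianRing_iff_ideal_fg _).mp inferInstance _)
      have he := IsLocalization.AtPrime.under_maximalIdeal (↑(X.presheaf.stalk z) : Type u) (hW.primeIdealOf ⟨z, hass z hz⟩).asIdeal
      rw [Ideal.under] at he
      rw [he] at hq
      exact hq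
  obtain ⟨V, e, hV, he⟩ := exists_gen_near_finite hL hW _ (fun z hz => hass z hz) hfin
  exact exists_iso_divMod hL (hasRegularMero_of_gen hL (hasDenoms_of_ass ⊤ V fun z _ hz => hV hz) he)

end Groth.Agent.S5088
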