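import Groth.Statements.S5089
import Groth.Agent.MeroLib.Special
open Groth.Agent.MeroLib

set_option autoImplicit false
universe u
open CategoryTheory CategoryTheory.Limits AlgebraicGeometry TopologicalSpace
open Mero

namespace Groth.Agent.S5089

/-- Case b): let X be a reduced scheme whose set of irreducible components is locally finite (every
point has an open neighbourhood meeting only finitely many irreducible components). Then every
invertible O_X-module is isomorphic to O_X(D) for some divisor D on X; in other words the canonical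
homomorphism Div(X) → Pic(X) is surjective. -/
theorem result (X : Scheme.{u}) [IsReduced X]
    (hX : ∀ x : ↥X, ∃ W : X.Opens, x ∈ W ∧
      {Z : Set ↥X | Z ∈ irreducibleComponents ↥X ∧ (Z ∩ (W : Set ↥X)).Nonempty}.Finite)
    (L : X.Modules) (hL : PicF.IsInvertible L) :
    ∃ D : Mero.Divisor X, Nonempty (L ≅ Mero.divMod D) := by
  classical
  refine exists_iso_divMod hL ?_
  let C : {z : X // ∀ z' : X, z' ⤳ z → z' = z} → Set X := fun z => closure {z.1}
  have hCcomp : ∀ z, C z ∈ irreducibleComponents X := fun z =>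
    Groth.Agent.GenComp.closure_mem_irreducibleComponents fun z' hz' => by rw [z.2 z' hz']
  have hCinj : ∀ z z', C z = C z' → z = z' := fun z z' e => Subtype.ext
    ((specializes_iff_mem_closure.mpr ((show closure {z'.1} = closure {z.1} from e.symm) ▸ subset_closure rfl)).antisymm
      (specializes_iff_mem_closure.mpr ((show closure {z.1} = closure {z'.1} from e) ▸ subset_closure rfl))).eq
  have hlf : LocallyFinite fun Z : irreducibleComponents X => (Z : Set X) := fun x => by
    obtain ⟨W, hxW, hW⟩ := hX x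
    refine ⟨W, W.2.mem_nhds hxW, Set.Finite.of_finite_image (hW.subset ?_) Subtype.val_injective.injOn⟩
    rintro _ ⟨Z, hZ, rfl⟩
    exact ⟨Z.2, hZ⟩
  let Oth : {z : X // ∀ z' : X, z' ⤳ z → z' = z} → Set X := fun z => ⋃ Z : {Z : irreducibleComponents X // (Z : Set X) ≠ C z}, (Z.1 : Set X)
  have hOth : ∀ z, IsClosed (Oth z) := fun z =>
    (hlf.comp_injective Subtype.val_injective).isClosed_iUnion fun Z => isClosed_of_mem_irreducibleComponents _ Z.1.2
  choose U e hzU he using fun z : {z : X // ∀ z' : X, z' ⤳ z → z' = z} => TMul.exists_isGen hL z.1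
  let O : {z : X // ∀ z' : X, z' ⤳ z → z' = z} → X.Opens := fun z => U z ⊓ ⟨_, (hOth z).isOpen_compl⟩
  have hzO : ∀ z, z.1 ∈ O z := fun z => ⟨hzU z, fun hz => by
    obtain ⟨Z, hzZ⟩ := Set.mem_iUnion.mp hz
    refine Z.2 ?_
    obtain ⟨w, hw⟩ := QuasiSober.sober Z.1.2.1 (isClosed_of_mem_irreducibleComponents _ Z.1.2)
    rw [z.2 w (hw.specializes hzZ)] at hw
    exact hw.symm⟩
  have hd : ∀ z z' (x : X), x ∈ O z → x ∈ O z' → z = z' := fun z z' x hx hx' => by
    refine hCinj z z' ?_
    have h1 : ∀ w, x ∈ O w → irreducibleComponent x = C w := fun w hw => by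
      by_contra hne
      exact hw.2 (Set.mem_iUnion.mpr ⟨⟨⟨_, irreducibleComponent_mem_irreducibleComponents x⟩, hne⟩, mem_irreducibleComponent⟩)
    rw [← h1 z hx, ← h1 z' hx']
  obtain ⟨g, hg⟩ := exists_gen_of_disjoint O (fun z => Groth.Agent.QC.res L inf_le_left (e z))
    (fun z O' hO' => by simpa only [Groth.Agent.QC.res_res] using he z O' (hO'.trans inf_le_left)) hd
  exact hasRegularMero_of_gen hL (hasDenoms_of_maximal hX ⊤ _ fun z _ hz =>
    TopologicalSpace.Opens.mem_iSup.mpr ⟨⟨z, hz⟩, hzO ⟨z, hz⟩⟩) hg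

end Groth.Agent.S5089
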