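import Groth.Statements.S5090
import Groth.Agent.CDivNormal.Primes
-- helpers

set_option autoImplicit false
universe u
open CategoryTheory CategoryTheory.Limits AlgebraicGeometry TopologicalSpace
open Div21

namespace Groth.Agent.S5090

open Groth.Agent in
theorem height_genPrime {X : Scheme.{u}} {x y : X} (h : x ⤳ y) :
    ringKrullDim (X.presheaf.stalk x) = (CDivNormal.genPrime h).height := by
  obtain ⟨U, hU, hyU, -⟩ := exists_isAffineOpen_mem_and_subset (x := y) (U := (⊤ : X.Opens)) trivial
  have hxU : x ∈ U := h.mem_open U.2 hyU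
  letI := (X.presheaf.germ U y hyU).hom.toAlgebra
  letI : Algebra Γ(X, U) (X.presheaf.stalk x) := (X.presheaf.germ U x hxU).hom.toAlgebra
  haveI := hU.isLocalization_stalk ⟨y, hyU⟩
  haveI := hU.isLocalization_stalk ⟨x, hxU⟩
  have e : (CDivNormal.genPrime h).under Γ(X, U) = (hU.primeIdealOf ⟨x, hxU⟩).asIdeal := by
    ext a
    exact CDivNormal.germ_mem_genPrime h hU hyU a
  rw [IsLocalization.AtPrime.ringKrullDim_eq_height (hU.primeIdealOf ⟨x, hxU⟩).asIdeal (X.presheaf.stalk x), ← e,
    IsLocalization.height_under (hU.primeIdealOf ⟨y, hyU⟩).asIdeal.primeCompl]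

open Groth.Agent in
theorem isReduced_of_specializes {X : Scheme.{u}} {x y : X} (h : x ⤳ y) [IsDomain (X.presheaf.stalk y)] :
    IsReduced (X.presheaf.stalk x) := by
  obtain ⟨U, hU, hyU, -⟩ := exists_isAffineOpen_mem_and_subset (x := y) (U := (⊤ : X.Opens)) trivial
  have hxU : x ∈ U := h.mem_open U.2 hyU
  letI : Algebra Γ(X, U) (X.presheaf.stalk x) := (X.presheaf.germ U x hxU).hom.toAlgebra
  haveI := hU.isLocalization_stalk ⟨x, hxU⟩
  let M := (hU.primeIdealOf ⟨x, hxU⟩).asIdeal.primeCompl
  refine ⟨fun b hb => ?_⟩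
  obtain ⟨a, s, rfl⟩ := IsLocalization.exists_mk'_eq M b
  obtain ⟨n, hn⟩ := hb
  have h1 : algebraMap Γ(X, U) (X.presheaf.stalk x) (a ^ n) = 0 := by
    rw [map_pow, ← IsLocalization.mk'_spec (M := M) (S := X.presheaf.stalk x) a s, mul_pow, hn, zero_mul]
  obtain ⟨c, hc⟩ := (IsLocalization.map_eq_zero_iff M (X.presheaf.stalk x) _).1 h1
  have hspec : ∀ e : Γ(X, U), (X.presheaf.stalkSpecializes h).hom ((X.presheaf.germ U y hyU).hom e) =
      algebraMap Γ(X, U) (X.presheaf.stalk x) e := fun e => X.presheaf.germ_stalkSpecializes_apply hyU h e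
  have hcn : (X.presheaf.germ U y hyU).hom (c : Γ(X, U)) ≠ 0 := fun e => by
    have := IsLocalization.map_units (X.presheaf.stalk x) c
    rw [← hspec, e, map_zero, isUnit_zero_iff] at this
    exact zero_ne_one this
  have h2 := congrArg (X.presheaf.germ U y hyU).hom hc
  rw [map_mul, map_zero, map_pow, mul_eq_zero, or_iff_right hcn] at h2
  have h3 := hspec a
  rw [eq_zero_of_pow_eq_zero h2, map_zero] at h3
  rw [IsLocalization.mk'_eq_zero_iff]
  exact (IsLocalization.map_eq_zero_iff M _ _).1 h3.symm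

open Groth.Agent in
/-- a maximal closed point of a locally Noetherian scheme is isolated -/
theorem isOpen_singleton_of {X : Scheme.{u}} [IsLocallyNoetherian X] (x : X)
    (hd : ringKrullDim (X.presheaf.stalk x) ≤ 0) (hc : ∀ z, x ⤳ z → z = x) : IsOpen ({x} : Set X) := by
  obtain ⟨U, hU, hxU, -⟩ := exists_isAffineOpen_mem_and_subset (x := x) (U := (⊤ : X.Opens)) trivial
  haveI : IsNoetherianRing Γ(X, U) := IsLocallyNoetherian.component_noetherian ⟨U, hU⟩
  letI : Algebra Γ(X, U) (X.presheaf.stalk x) := (X.presheaf.germ U x hxU).hom.toAlgebra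
  haveI := hU.isLocalization_stalk ⟨x, hxU⟩
  let p := hU.primeIdealOf ⟨x, hxU⟩
  have hp0 : p.asIdeal ∈ minimalPrimes Γ(X, U) := by
    rw [← Ideal.height_eq_zero_iff]
    rw [IsLocalization.AtPrime.ringKrullDim_eq_height p.asIdeal (X.presheaf.stalk x)] at hd
    exact le_antisymm (WithBot.coe_le_coe.1 hd) bot_le
  have hmax : ∀ r : PrimeSpectrum Γ(X, U), p.asIdeal ≤ r.asIdeal → r = p := by
    intro r hr
    have hs : x ⤳ hU.fromSpec r := by
      have hf : hU.fromSpec p = x := hU.fromSpec_primeIdealOf ⟨x, hxU⟩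
      rw [← hf]
      exact Specializes.map ((PrimeSpectrum.le_iff_specializes _ _).1 hr) hU.fromSpec.continuous
    exact hU.fromSpec.isOpenEmbedding.injective ((hc _ hs).trans (hU.fromSpec_primeIdealOf ⟨x, hxU⟩).symm)
  have ho : IsOpen ({p} : Set (PrimeSpectrum Γ(X, U))) := by
    have e : ({p} : Set (PrimeSpectrum Γ(X, U))) =
        (⋃ q ∈ minimalPrimes Γ(X, U) \ {p.asIdeal}, PrimeSpectrum.zeroLocus (q : Set Γ(X, U)))ᶜ := by
      ext r
      simp only [Set.mem_singleton_iff, Set.mem_compl_iff, Set.mem_iUnion₂, PrimeSpectrum.mem_zeroLocus,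
        SetLike.coe_subset_coe, Set.mem_sdiff]
      constructor
      · rintro rfl ⟨q, ⟨hq, hne⟩, hle⟩
        exact hne (le_antisymm hle (hp0.2 ⟨hq.1.1, bot_le⟩ hle))
      · intro hr
        obtain ⟨q, hq, hqr⟩ := Ideal.exists_minimalPrimes_le (I := ⊥) (J := r.asIdeal) bot_le
        by_cases hqp : q = p.asIdeal
        · exact hmax r (hqp ▸ hqr)
        · exact absurd ⟨q, ⟨hq, hqp⟩, hqr⟩ hr
    rw [e]
    exact (((minimalPrimes.finite_of_isNoetherianRing _).subset Set.sdiff_subset).isClosed_biUnion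
      fun q _ => PrimeSpectrum.isClosed_zeroLocus _).isOpen_compl
  have h2 : IsOpen (hU.fromSpec '' ({p} : Set (PrimeSpectrum Γ(X, U)))) := hU.fromSpec.isOpenEmbedding.isOpenMap _ ho
  have h3 : hU.fromSpec '' ({p} : Set (PrimeSpectrum Γ(X, U))) = {hU.fromSpec p} := Set.image_singleton
  rw [h3] at h2
  exact (show hU.fromSpec p = x from hU.fromSpec_primeIdealOf ⟨x, hxU⟩) ▸ h2

open Groth.Agent in
/-- a Noetherian local ring of positive dimension whose height one primes are generated by non zero divisors -/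
theorem isDomain_and_ufd {R : Type u} [CommRing R] [IsNoetherianRing R] [IsLocalRing R]
    (hd : ¬ ringKrullDim R ≤ 0)
    (h : ∀ P : Ideal R, P.IsPrime → P.height = 1 → ∃ t ∈ nonZeroDivisors R, P = Ideal.span {t}) :
    ∃ _ : IsDomain R, UniqueFactorizationMonoid R := by
  let m : PrimeSpectrum R := ⟨IsLocalRing.maximalIdeal R, inferInstance⟩
  have hm : Order.height m = (IsLocalRing.maximalIdeal R).height := (PrimeSpectrum.height_eq_orderHeight m).symm
  have hpos : (0 : ℕ∞) < (IsLocalRing.maximalIdeal R).height := by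
    refine pos_iff_ne_zero.2 fun e => hd ?_
    rw [← IsLocalRing.maximalIdeal_height_eq_ringKrullDim, e]
    exact le_rfl
  obtain ⟨P, hP⟩ : ∃ P : PrimeSpectrum R, Order.height P = (1 : ℕ) := by
    rcases eq_or_lt_of_le (Order.one_le_iff_pos.2 hpos) with e | e
    · exact ⟨m, by rw [hm, ← e]; rfl⟩
    · have hfin : Order.height m < ⊤ := by
        rw [hm]
        exact Ideal.height_lt_top (Ideal.IsPrime.ne_top inferInstance)
      obtain ⟨y, -, hy⟩ := (Order.coe_lt_height_iff hfin).1 (by rw [hm]; exact e : ((1 : ℕ) : ℕ∞) < Order.height m)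
      exact ⟨y, hy⟩
  rw [← PrimeSpectrum.height_eq_orderHeight P] at hP
  obtain ⟨t, ht, hPt⟩ := h P.asIdeal P.2 hP
  obtain ⟨p₀, hp₀, hle⟩ := Ideal.exists_minimalPrimes_le (I := ⊥) (J := P.asIdeal) bot_le
  haveI := hp₀.1.1
  have htp : t ∉ p₀ := fun htp => by
    have : p₀ = P.asIdeal := le_antisymm hle (hPt ▸ (Ideal.span_singleton_le_iff_mem _).2 htp)
    have h0 : P.asIdeal.height = 0 := Ideal.height_eq_zero_iff.2 (this ▸ hp₀)
    rw [h0] at hP
    exact zero_ne_one hP
  have hbot : p₀ = ⊥ := by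
    refine Submodule.eq_bot_of_le_smul_of_le_jacobson_bot P.asIdeal p₀ (IsNoetherian.noetherian _) (fun a ha => ?_) ?_
    · obtain ⟨b, rfl⟩ := Ideal.mem_span_singleton.1 (hPt ▸ hle ha : a ∈ Ideal.span {t})
      exact Submodule.smul_mem_smul (hPt ▸ Ideal.mem_span_singleton_self t)
        ((hp₀.1.1.mem_or_mem ha).resolve_left htp)
    · rw [IsLocalRing.jacobson_eq_maximalIdeal ⊥ bot_ne_top]
      exact IsLocalRing.le_maximalIdeal P.2.ne_top
  haveI : (⊥ : Ideal R).IsPrime := hbot ▸ hp₀.1.1
  haveI : IsDomain R := IsDomain.of_bot_isPrime R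
  refine ⟨inferInstance, (UniqueFactorizationMonoid.iff_forall_isPrincipal_of_height_eq_one (R := R)).2
    fun Q hQ hQ1 => ?_⟩
  obtain ⟨s, -, hs⟩ := h Q hQ hQ1
  exact ⟨⟨s, hs⟩⟩


/-- Equivalence of conditions a'') and c): let X be a locally Noetherian scheme which is reduced at each
of its isolated points (for every point x such that {x} is open, the local ring O_{X,x} is reduced).
Then the following are equivalent. (a'') Every integral closed subscheme of X of codimension 1 is
regularly immersed in X: for every point ζ whose local ring has dimension 1 and every specialization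
x of ζ, the ideal of O_{X,x} defining the closure of ζ with its reduced structure (the preimage of
the maximal ideal of O_{X,ζ} under the specialization map) is generated by one non-zero-divisor of
O_{X,x}. (c) X is locally factorial: every local ring of X is a unique factorisation domain. -/
theorem result (X : Scheme.{u}) [IsLocallyNoetherian X]
    (hred : ∀ x : ↥X, IsOpen ({x} : Set ↥X) → IsReduced ↑(X.presheaf.stalk x)) :
    (∀ ζ : ↥X, ringKrullDim ↑(X.presheaf.stalk ζ) = 1 → ∀ (x : ↥X) (h : ζ ⤳ x),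
        ∃ t : ↑(X.presheaf.stalk x), t ∈ nonZeroDivisors ↑(X.presheaf.stalk x) ∧
          (IsLocalRing.maximalIdeal ↑(X.presheaf.stalk ζ)).comap (X.presheaf.stalkSpecializes h).hom =
            Ideal.span {t}) ↔
      ∀ x : ↥X, ∃ _ : IsDomain ↑(X.presheaf.stalk x), UniqueFactorizationMonoid ↑(X.presheaf.stalk x) := by
  constructor
  · intro H y
    have main : ∀ y : X, ¬ ringKrullDim (X.presheaf.stalk y) ≤ 0 →
        ∃ _ : IsDomain ↑(X.presheaf.stalk y), UniqueFactorizationMonoid ↑(X.presheaf.stalk y) := by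
      intro y hd
      refine isDomain_and_ufd hd fun P hP hP1 => ?_
      obtain ⟨ζ, h, hPζ⟩ := Groth.Agent.CDivNormal.exists_genPrime_eq y P
      obtain ⟨t, ht, e⟩ := H ζ (by rw [height_genPrime h, hPζ, hP1]; rfl) y h
      exact ⟨t, ht, hPζ ▸ e⟩
    by_cases hd : ringKrullDim (X.presheaf.stalk y) ≤ 0
    · haveI : Ring.KrullDimLE 0 (X.presheaf.stalk y) := Ring.krullDimLE_iff.2 (by simpa using hd)
      haveI : _root_.IsReduced (X.presheaf.stalk y) := by
        by_cases hc : ∀ z, y ⤳ z → z = y
        · exact hred y (isOpen_singleton_of y hd hc)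
        · push Not at hc
          obtain ⟨z, hz, hne⟩ := hc
          have hdz : ¬ ringKrullDim (X.presheaf.stalk z) ≤ 0 := fun h0 => by
            haveI : Ring.KrullDimLE 0 (X.presheaf.stalk z) := Ring.krullDimLE_iff.2 (by simpa using h0)
            obtain ⟨w, hw, e⟩ := Groth.Agent.CDivNormal.exists_genPrime_eq z (IsLocalRing.maximalIdeal (X.presheaf.stalk z))
            have e1 : Groth.Agent.CDivNormal.genPrime hz = Groth.Agent.CDivNormal.genPrime (specializes_refl z) := by
              rw [IsLocalRing.eq_maximalIdeal (I := Groth.Agent.CDivNormal.genPrime hz) inferInstance,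
                IsLocalRing.eq_maximalIdeal (I := Groth.Agent.CDivNormal.genPrime (specializes_refl z)) inferInstance]
            exact hne (((Groth.Agent.CDivNormal.specializes_of_le hz (specializes_refl z) e1.le).antisymm
              (Groth.Agent.CDivNormal.specializes_of_le (specializes_refl z) hz e1.ge)).eq).symm
          obtain ⟨hdom, -⟩ := main z hdz
          exact isReduced_of_specializes hz
      letI : Field (X.presheaf.stalk y) := Ring.KrullDimLE.isField_of_isReduced.toField
      exact ⟨inferInstance, inferInstance⟩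
    · exact main y hd
  · intro H ζ hζ x h
    obtain ⟨hdom, hufd⟩ := H x
    have h1 : (Groth.Agent.CDivNormal.genPrime h).height = 1 := WithBot.coe_inj.1 ((height_genPrime h).symm.trans hζ)
    obtain ⟨t, ht⟩ := ((UniqueFactorizationMonoid.iff_forall_isPrincipal_of_height_eq_one).1 hufd _ h1).principal
    refine ⟨t, mem_nonZeroDivisors_of_ne_zero fun e => ?_, ht⟩
    rw [ht, e, Submodule.span_singleton_eq_bot.2 rfl, Ideal.height_bot] at h1
    exact zero_ne_one h1


end Groth.Agent.S5090
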