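import Groth.Statements.S5092
import Mathlib.RingTheory.Ideal.AssociatedPrime.Localization

set_option autoImplicit false
universe u
open CategoryTheory CategoryTheory.Limits AlgebraicGeometry TopologicalSpace
open Mero

namespace Groth.Agent.S5092


/-- A non-unit lying in an associated maximal ideal is a zero divisor. -/
theorem isUnit_of_nonZeroDivisor_of_ass {A : Type u} [CommRing A] [IsLocalRing A] {a : A}
    (ha : a ∈ nonZeroDivisors A) (hm : IsAssociatedPrime (IsLocalRing.maximalIdeal A) A)
    [IsNoetherianRing A] : IsUnit a := by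
  by_contra h
  have h1 : a ∈ ⋃ p ∈ associatedPrimes A A, (p : Set A) :=
    Set.mem_biUnion (x := IsLocalRing.maximalIdeal A) hm h
  rw [biUnion_associatedPrimes_eq_compl_nonZeroDivisors] at h1
  exact h1 ha

/-- An element is a non-zero-divisor in the localisation at `P` once it avoids the associated primes below `P`. -/
theorem algebraMap_mem_nonZeroDivisors {R : Type u} [CommRing R] [IsNoetherianRing R] (P : Ideal R) [P.IsPrime]
    (S : Type u) [CommRing S] [Algebra R S] [IsLocalization.AtPrime S P] (t : R)
    (h : ∀ q ∈ associatedPrimes R R, q ≤ P → t ∉ q) : algebraMap R S t ∈ nonZeroDivisors S := by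
  haveI : IsNoetherianRing S := IsLocalization.isNoetherianRing P.primeCompl S inferInstance
  by_contra hc
  have h1 : algebraMap R S t ∈ ⋃ p ∈ associatedPrimes S S, (p : Set S) := by
    rw [biUnion_associatedPrimes_eq_compl_nonZeroDivisors]; exact hc
  obtain ⟨p, hp, htp⟩ := Set.mem_iUnion₂.mp h1
  have hq := Module.associatedPrimes.comap_mem_associatedPrimes_of_mem_associatedPrimes_of_isLocalizedModule_of_fg
    P.primeCompl (Algebra.linearMap R S) p hp ((isNoetherianRing_iff_ideal_fg R).mp inferInstance _)
  refine h _ hq (fun r hr => ?_) htp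
  by_contra hrP
  exact hp.isPrime.ne_top (Ideal.eq_top_of_isUnit_mem _ hr (IsLocalization.map_units S (⟨r, hrP⟩ : P.primeCompl)))

theorem mem_regSub_of_ass {X : Scheme.{u}} [IsLocallyNoetherian X] (V : X.Opens) (s : Γ(X, V))
    (h : ∀ (x : ↥X) (hx : x ∈ V), IsAssociatedPrime (IsLocalRing.maximalIdeal ↑(X.presheaf.stalk x))
      ↑(X.presheaf.stalk x) → IsUnit ((X.presheaf.germ V x hx).hom s)) : s ∈ Mero.regSub X V := by
  intro x
  obtain ⟨W, hW, hxW, hWV⟩ :=
    TopologicalSpace.Opens.isBasis_iff_nbhd.mp X.isBasis_affineOpens x.2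
  haveI : IsNoetherianRing Γ(X, W) := IsLocallyNoetherian.component_noetherian ⟨W, hW⟩
  letI := TopCat.Presheaf.algebra_section_stalk X.presheaf ⟨x.1, hxW⟩
  haveI := hW.isLocalization_stalk ⟨x.1, hxW⟩
  rw [← TopCat.Presheaf.germ_res_apply X.presheaf (homOfLE hWV) x.1 hxW s]
  refine algebraMap_mem_nonZeroDivisors (hW.primeIdealOf ⟨x.1, hxW⟩).asIdeal
    (↑(X.presheaf.stalk x.1) : Type u) _ fun q hq _ htq => ?_
  haveI := IsAssociatedPrime.isPrime hq
  obtain ⟨z, hz⟩ : ∃ z : W, hW.primeIdealOf z = ⟨q, inferInstance⟩ := by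
    refine ⟨⟨hW.fromSpec ⟨q, inferInstance⟩, ?_⟩, ?_⟩
    · rw [← SetLike.mem_coe, ← hW.range_fromSpec]; exact Set.mem_range_self _
    · exact hW.fromSpec.isOpenEmbedding.injective (hW.fromSpec_primeIdealOf _)
  letI := TopCat.Presheaf.algebra_section_stalk X.presheaf z
  haveI := hW.isLocalization_stalk z
  haveI : IsLocalization.AtPrime (↑(X.presheaf.stalk z.1) : Type u) q := by
    have h2 := hW.isLocalization_stalk z
    rw [hz] at h2
    exact h2
  have hm : IsAssociatedPrime (IsLocalRing.maximalIdeal ↑(X.presheaf.stalk z.1)) ↑(X.presheaf.stalk z.1) := by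
    refine Module.associatedPrimes.mem_associatedPrimes_of_comap_mem_associatedPrimes_of_isLocalizedModule
      q.primeCompl (Algebra.linearMap Γ(X, W) (↑(X.presheaf.stalk z.1) : Type u)) _ ?_
    have he := IsLocalization.AtPrime.under_maximalIdeal (↑(X.presheaf.stalk z.1) : Type u) q
    rw [Ideal.under] at he
    rw [he]; exact hq
  have hu := h z.1 (hWV z.2) hm
  rw [← TopCat.Presheaf.germ_res_apply X.presheaf (homOfLE hWV) z.1 z.2 s] at hu
  exact ((IsLocalization.AtPrime.isUnit_to_map_iff (↑(X.presheaf.stalk z.1) : Type u) q _).mp hu) htq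

/-- Suppose X and Y are schemes, both locally Noetherian, and f : X → Y is a morphism carrying each
associated point of O_X (that is, a point whose local ring has its maximal ideal among its
associated primes) to an associated point of O_Y. Then, given any open subset U of Y and any regular
function s on U (one whose germ at each point of U is a non-zero-divisor), the function on f⁻¹(U)
obtained by pulling s back along f is again regular; as a result, every meromorphic function and
every divisor on Y admits a well-defined pullback along f. -/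
theorem result {X Y : Scheme.{u}} [IsLocallyNoetherian X] [IsLocallyNoetherian Y]
    (f : X ⟶ Y)
    (hf : ∀ x : ↥X, IsAssociatedPrime (IsLocalRing.maximalIdeal ↑(X.presheaf.stalk x)) ↑(X.presheaf.stalk x) →
      IsAssociatedPrime (IsLocalRing.maximalIdeal ↑(Y.presheaf.stalk (f x))) ↑(Y.presheaf.stalk (f x))) :
    ∀ (U : Y.Opens) (s : Γ(Y, U)), s ∈ Mero.regSub Y U → f.app U s ∈ Mero.regSub X (f ⁻¹ᵁ U) := by
  intro U s hs
  refine mem_regSub_of_ass _ _ fun x hx hm => ?_
  rw [← Scheme.Hom.germ_stalkMap_apply f U x hx s]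
  exact (isUnit_of_nonZeroDivisor_of_ass (hs ⟨f x, hx⟩) (hf x hm)).map (f.stalkMap x).hom

end Groth.Agent.S5092
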