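import Groth.Statements.S5097
import Groth.Agent.MeroLib.Basic
open Groth.Agent.MeroLib

set_option autoImplicit false
universe u
open CategoryTheory CategoryTheory.Limits AlgebraicGeometry TopologicalSpace
open Mero

namespace Groth.Agent.S5097

/-- Injectivity of the canonical homomorphism from divisors to invertible fractional ideals: let X be a
scheme and D, D' two divisors on X such that, over every open subset U, a section t of the sheaf of
meromorphic functions lies in O_X(D) (t_x · g ∈ O_{X,x} for a representative g of the germ of D at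
x, for all x in U) if and only if it lies in O_X(D'). Then D = D'. -/
theorem result (X : Scheme.{u}) (D D' : Mero.Divisor X)
    (h : ∀ (U : X.Opens) (t : Γ(Mero.kmod X, U)),
      (∀ x : ↥U, Mero.DivCond D x.1 (t.1 x)) ↔ (∀ x : ↥U, Mero.DivCond D' x.1 (t.1 x))) :
    D = D' := by
  refine Subtype.ext (funext fun x => ?_)
  obtain ⟨U, f, -, hxU, hf⟩ := exists_local D x
  obtain ⟨U', f', -, hxU', hf'⟩ := exists_local D' x
  have key : ∀ (D D' : Mero.Divisor X) (U U' : X.Opens) (f : (Γ(Mero.kmod X, U))ˣ) (f' : (Γ(Mero.kmod X, U'))ˣ)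
      (hx : x ∈ U) (hx' : x ∈ U'), (∀ y : U, D.1 y.1 = Mero.germOf f y) → (∀ y : U', D'.1 y.1 = Mero.germOf f' y) →
      (∀ (W : X.Opens) (t : Γ(Mero.kmod X, W)), (∀ y : W, Mero.DivCond D y.1 (t.1 y)) →
        ∀ y : W, Mero.DivCond D' y.1 (t.1 y)) →
      ∃ r, (f' : Γ(Mero.kmod X, U')).1 ⟨x, hx'⟩ = (f : Γ(Mero.kmod X, U)).1 ⟨x, hx⟩ * iK x r := by
    intro D D' U U' f f' hx hx' hf hf' hDD
    obtain ⟨r, hr⟩ := (divCond_iff (hf' ⟨x, hx'⟩) _).mp
      (hDD (U ⊓ U') ((Mero.kmod X).presheaf.map (homOfLE inf_le_left).op ((f⁻¹ : (Γ(Mero.kmod X, U))ˣ) : Γ(Mero.kmod X, U)))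
        (fun y => (divCond_iff (hf ⟨y.1, y.2.1⟩) _).mpr
          ⟨1, by rw [map_one]; exact (uval_inv f ⟨y.1, y.2.1⟩).symm⟩) ⟨x, hx, hx'⟩)
    refine ⟨r, ?_⟩
    rw [hr, uval_val, res_val, ← mul_assoc, mul_comm ((f : Γ(Mero.kmod X, U)).1 _), uval_inv, one_mul]
  obtain ⟨r, hr⟩ := key D D' U U' f f' hxU hxU' hf hf' fun W t => (h W t).mp
  obtain ⟨r', hr'⟩ := key D' D U' U f' f hxU' hxU hf' hf fun W t => (h W t).mpr
  rw [hf ⟨x, hxU⟩, hf' ⟨x, hxU'⟩, germOf_eq, germOf_eq, mk_eq_mk_iff]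
  refine ⟨r, IsUnit.of_mul_eq_one r' (iK_inj x ?_), hr⟩
  rw [hr, mul_assoc, ← map_mul] at hr'
  rw [map_one]
  exact ((uval f ⟨x, hxU⟩).isUnit.mul_right_injective ((mul_one _).trans hr')).symm

end Groth.Agent.S5097
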