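import Groth.Statements.S5098
import Groth.Agent.MeroLib.Effective
open Groth.Agent.MeroLib

set_option autoImplicit false
universe u
open CategoryTheory CategoryTheory.Limits AlgebraicGeometry TopologicalSpace
open Mero

namespace Groth.Agent.S5098

/-- General form, for divisors on a scheme that need not be integral: let X be a locally Noetherian
scheme and D a divisor on X. If the germ of D is effective (resp. trivial) at every point x whose
local ring O_{X,x} has depth 1, then D is effective (resp. D is the unit divisor, in the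
multiplicative notation used here). -/
theorem result (X : Scheme.{u}) [IsLocallyNoetherian X] (D : Mero.Divisor X) :
    ((∀ x : ↥X, LocCoh.depth ↑(X.presheaf.stalk x) ↑(X.presheaf.stalk x) = 1 → Mero.IsEffectiveAt D x) →
        Mero.IsEffective D) ∧
      ((∀ x : ↥X, LocCoh.depth ↑(X.presheaf.stalk x) ↑(X.presheaf.stalk x) = 1 → D.1 x = 1) → D = 1) := by
  have part1 := fun (D : Mero.Divisor X) (h : ∀ x : X, LocCoh.depth (X.presheaf.stalk x) (X.presheaf.stalk x) = 1 →
    Mero.IsEffectiveAt D x) => dvd_of_depth_one D h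
  refine ⟨part1 D, fun h => ?_⟩
  have htriv : ∀ (E : Mero.Divisor X) (x : X), E.1 x = 1 → Mero.IsEffectiveAt E x := fun E x hx =>
    ⟨1, hx.trans (by rw [← QuotientGroup.mk_one]; exact congrArg _ (Units.ext (by rw [IsUnit.unit_spec, OneMemClass.coe_one, map_one, Units.val_one])))⟩
  have e1 := part1 D fun x hx => htriv _ _ (h x hx)
  have e2 := part1 D⁻¹ fun x hx => htriv _ _ (by
    rw [Subgroup.coe_inv, Pi.inv_apply, h x hx, inv_one])
  refine Subtype.ext (funext fun x => ?_)
  obtain ⟨s, hs⟩ := e1 x
  obtain ⟨t, ht⟩ := e2 x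
  rw [Subgroup.coe_inv, Pi.inv_apply, hs, ← QuotientGroup.mk_inv, mk_eq_mk_iff] at ht
  obtain ⟨c, hc, e⟩ := ht
  rw [IsUnit.unit_spec] at e
  have hst : (s : X.presheaf.stalk x) * t = c := by
    refine iK_inj x ?_
    rw [map_mul, show iK x t = _ from e, ← mul_assoc]
    change iK x s * _ * iK x c = iK x c
    exact (congrArg (· * iK x c) (IsUnit.mul_val_inv _)).trans (one_mul _)
  have hsu : IsUnit (s : X.presheaf.stalk x) := isUnit_of_mul_isUnit_left (hst ▸ hc)
  rw [hs]
  change _ = (1 : Mero.Germ X x)
  rw [← QuotientGroup.mk_one, eq_comm, mk_eq_mk_iff]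
  exact ⟨s, hsu, by rw [IsUnit.unit_spec, Units.val_one, one_mul]⟩

end Groth.Agent.S5098
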