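import Groth.Statements.S5099
import Groth.Agent.MeroLib.Basic
import Groth.Agent.QGorD.Basic
import Groth.Agent.S12513
open Groth.Agent.MeroLib

set_option autoImplicit false
universe u
open CategoryTheory CategoryTheory.Limits AlgebraicGeometry TopologicalSpace
open Mero

namespace Groth.Agent.S5099


/-- If a unit `a / b` of `K` is trivial off the closed point and the depth is at least two, `b` divides `a`. -/
theorem dvd_of_two_le_depth {R : Type u} [CommRing R] [IsNoetherianRing R] [IsLocalRing R]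
    (h2 : 2 ≤ LocCoh.depth R R) {a b : R} (hb : b ∈ nonZeroDivisors R)
    (hJ : ∀ p : Ideal R, p.IsPrime → p ≠ IsLocalRing.maximalIdeal R → ∃ s ∉ p, b ∣ s * a) : b ∣ a := by
  by_cases hbu : IsUnit b
  · exact hbu.dvd
  obtain ⟨y, hym, hy⟩ := Groth.Agent.QGorD.exists_regMod_of_two_le (M := R) h2
    (show b ∈ IsLocalRing.maximalIdeal R from hbu)
    (fun u v huv => mul_cancel_left_mem_nonZeroDivisors hb |>.mp huv)
  let J : Ideal R := (Ideal.span {b}).colon (Set.singleton a)
  have hmem : y ∈ J.radical := by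
    rw [Ideal.radical_eq_sInf, Submodule.mem_sInf]
    rintro p ⟨hJp, hp⟩
    by_cases hpm : p = IsLocalRing.maximalIdeal R
    · rw [hpm]; exact hym
    · obtain ⟨s, hs, hsa⟩ := hJ p hp hpm
      refine absurd (hJp ?_) hs
      exact Submodule.mem_colon.mpr fun v hv => by
        obtain rfl : v = a := hv
        exact Ideal.mem_span_singleton.mpr hsa
  obtain ⟨n, hn⟩ := hmem
  have hn' : b ∣ y ^ n * a := Ideal.mem_span_singleton.mp (Submodule.mem_colon.mp hn a rfl)
  clear hn
  induction n with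
  | zero => simpa using hn'
  | succ n ih =>
    obtain ⟨r, hr⟩ := hn'
    obtain ⟨r', hr'⟩ := hy (y ^ n * a) r (by rw [smul_eq_mul, smul_eq_mul, ← hr, pow_succ]; ring)
    exact ih ⟨r', by rw [hr', smul_eq_mul]⟩

/-- General form, for divisors on a scheme that need not be integral: let X be a locally Noetherian
scheme, D a divisor on X and x a maximal point of the support of D (a point at which the germ of D
is not trivial and none of whose proper generizations has that property). Then the local ring of X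
at x has depth 1. -/
theorem result (X : Scheme.{u}) [IsLocallyNoetherian X] (D : Mero.Divisor X)
    (x : ↥X) (hx : x ∈ Mero.supp D) (hmax : ∀ z : ↥X, z ∈ Mero.supp D → z ⤳ x → z = x) :
    LocCoh.depth ↑(X.presheaf.stalk x) ↑(X.presheaf.stalk x) = 1 := by
  obtain ⟨U, f, -, hxU, hf⟩ := exists_local D x
  obtain ⟨W, hWU, a, b, hW, hxW, hb, hab⟩ := exists_frac (f : Γ(Mero.kmod X, U)) ⟨x, hxU⟩
  have hbn : gO x hxW b ∈ nonZeroDivisors (X.presheaf.stalk x) := hb ⟨x, hxW⟩
  have han : gO x hxW a ∈ nonZeroDivisors (X.presheaf.stalk x) :=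
    regular_of_isUnit (uval f ⟨x, hxU⟩).isUnit (Mero.germ_mem_regStalk ⟨x, hxW⟩ hb) (hab ⟨x, hxW⟩)
  have hnd : ¬ (gO x hxW b ∣ gO x hxW a ∧ gO x hxW a ∣ gO x hxW b) := by
    rintro ⟨⟨r, hr⟩, ⟨r', hr'⟩⟩
    apply hx
    rw [hf ⟨x, hxU⟩, germOf_eq, ← QuotientGroup.mk_one, eq_comm, mk_eq_mk_iff]
    refine ⟨r, IsUnit.of_mul_eq_one r' (mul_cancel_left_mem_nonZeroDivisors hbn |>.mp ?_), ?_⟩
    · rw [mul_one, ← mul_assoc, ← hr, ← hr']
    · rw [Units.val_one, one_mul, uval_val]
      refine (isUnit_iK_of_mem (Mero.germ_mem_regStalk ⟨x, hxW⟩ hb)).mul_left_injective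
        ((hab ⟨x, hxW⟩).trans ?_)
      change iK x (gO x hxW a) = iK x r * iK x (gO x hxW b)
      rw [← map_mul, hr, mul_comm]
  refine le_antisymm (le_of_not_gt fun h2 => hnd ?_) ?_
  swap
  · by_contra h0
    refine hnd ⟨IsUnit.dvd (by_contra fun hbu => h0 ?_), IsUnit.dvd (by_contra fun hau => h0 ?_)⟩
    · exact Groth.Agent.QGorD.one_le_of_regular (M := (X.presheaf.stalk x : Type u)) hbu
        fun u v huv => mul_cancel_left_mem_nonZeroDivisors hbn |>.mp huv
    · exact Groth.Agent.QGorD.one_le_of_regular (M := (X.presheaf.stalk x : Type u)) hau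
        fun u v huv => mul_cancel_left_mem_nonZeroDivisors han |>.mp huv
  have h2' : 2 ≤ LocCoh.depth (X.presheaf.stalk x) (X.presheaf.stalk x) := Order.add_one_le_of_lt h2
  letI := TopCat.Presheaf.algebra_section_stalk X.presheaf ⟨x, hxW⟩
  haveI := hW.isLocalization_stalk ⟨x, hxW⟩
  have key : ∀ p : Ideal (X.presheaf.stalk x), p.IsPrime → p ≠ IsLocalRing.maximalIdeal _ →
      (∃ s ∉ p, gO x hxW b ∣ s * gO x hxW a) ∧ (∃ s ∉ p, gO x hxW a ∣ s * gO x hxW b) := by
    intro p hp hpm
    let q : Ideal Γ(X, W) := p.comap (algebraMap Γ(X, W) (X.presheaf.stalk x : Type u))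
    haveI : q.IsPrime := Ideal.IsPrime.comap _
    obtain ⟨z, hz⟩ : ∃ z : W, hW.primeIdealOf z = ⟨q, inferInstance⟩ := by
      refine ⟨⟨hW.fromSpec ⟨q, inferInstance⟩, ?_⟩, ?_⟩
      · rw [← SetLike.mem_coe, ← hW.range_fromSpec]; exact Set.mem_range_self _
      · exact hW.fromSpec.isOpenEmbedding.injective (hW.fromSpec_primeIdealOf _)
    have hqP : q ≤ (hW.primeIdealOf ⟨x, hxW⟩).asIdeal := fun r hr => by
      by_contra hrP
      exact hp.ne_top (Ideal.eq_top_of_isUnit_mem _ hr
        (IsLocalization.map_units (X.presheaf.stalk x : Type u) (⟨r, hrP⟩ : (hW.primeIdealOf ⟨x, hxW⟩).asIdeal.primeCompl)))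
    have hzx : z.1 ⤳ x := by
      have h1 : hW.primeIdealOf z ⤳ hW.primeIdealOf ⟨x, hxW⟩ :=
        (PrimeSpectrum.le_iff_specializes _ _).mp (by rw [hz]; exact hqP)
      have := h1.map hW.fromSpec.continuous
      rwa [hW.fromSpec_primeIdealOf, hW.fromSpec_primeIdealOf] at this
    have hzne : z.1 ≠ x := by
      intro hzx'
      apply hpm
      obtain rfl : z = ⟨x, hxW⟩ := Subtype.ext hzx'
      have hq : q = (hW.primeIdealOf ⟨x, hxW⟩).asIdeal := (congrArg PrimeSpectrum.asIdeal hz).symm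
      have hm := IsLocalization.AtPrime.under_maximalIdeal (X.presheaf.stalk x : Type u) (hW.primeIdealOf ⟨x, hxW⟩).asIdeal
      have h1 := IsLocalization.map_under (hW.primeIdealOf ⟨x, hxW⟩).asIdeal.primeCompl (X.presheaf.stalk x : Type u) p
      have h2 := IsLocalization.map_under (hW.primeIdealOf ⟨x, hxW⟩).asIdeal.primeCompl (X.presheaf.stalk x : Type u) (IsLocalRing.maximalIdeal _)
      rw [Ideal.under] at h1 h2 hm
      rw [← h1, ← h2, hm]
      exact congrArg (Ideal.map _) hq
    have hDz : D.1 z.1 = 1 := by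
      by_contra hne
      exact hzne (hmax z.1 hne hzx)
    rw [hf ⟨z.1, hWU z.2⟩, germOf_eq, ← QuotientGroup.mk_one, eq_comm, mk_eq_mk_iff] at hDz
    obtain ⟨c, hc, e⟩ := hDz
    rw [Units.val_one, one_mul] at e
    have e' : gO z.1 z.2 a = gO z.1 z.2 b * c := by
      refine iK_inj z.1 ((hab z).symm.trans ?_)
      rw [show ((f : Γ(Mero.kmod X, U))).1 ⟨z.1, hWU z.2⟩ = iK z.1 c from e, ← map_mul, mul_comm]
    letI := TopCat.Presheaf.algebra_section_stalk X.presheaf z
    haveI hloc : IsLocalization.AtPrime (X.presheaf.stalk z.1 : Type u) q := by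
      have h3 := hW.isLocalization_stalk z
      rw [hz] at h3
      exact h3
    have pull : ∀ (u v : Γ(X, W)) (w : X.presheaf.stalk z.1), gO z.1 z.2 u = gO z.1 z.2 v * w →
        ∃ s ∉ p, gO x hxW v ∣ s * gO x hxW u := by
      intro u v w huv
      obtain ⟨⟨r, s⟩, hw⟩ := IsLocalization.surj q.primeCompl w
      have h4 : algebraMap Γ(X, W) (X.presheaf.stalk z.1 : Type u) (u * s.1) =
          algebraMap Γ(X, W) (X.presheaf.stalk z.1 : Type u) (v * r) := by
        rw [map_mul, map_mul, ← hw, ← mul_assoc]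
        exact congrArg (· * _) huv
      obtain ⟨t, ht⟩ := IsLocalization.exists_of_eq (M := q.primeCompl) h4
      refine ⟨algebraMap Γ(X, W) (X.presheaf.stalk x : Type u) (t.1 * s.1), fun hc => (q.primeCompl.mul_mem t.2 s.2) hc,
        ⟨algebraMap Γ(X, W) (X.presheaf.stalk x : Type u) (t.1 * r), ?_⟩⟩
      change algebraMap Γ(X, W) (X.presheaf.stalk x : Type u) _ * algebraMap Γ(X, W) _ u =
        algebraMap Γ(X, W) (X.presheaf.stalk x : Type u) v * _
      rw [← map_mul, ← map_mul]
      exact congrArg _ (by linear_combination ht)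
    obtain ⟨c, rfl⟩ := hc
    exact ⟨pull a b _ e', pull b a ((c⁻¹ : (X.presheaf.stalk z.1)ˣ) : X.presheaf.stalk z.1)
      (by rw [e', mul_assoc, Units.mul_inv, mul_one])⟩
  exact ⟨dvd_of_two_le_depth h2' hbn fun p hp hpm => (key p hp hpm).1,
    dvd_of_two_le_depth h2' han fun p hp hpm => (key p hp hpm).2⟩

end Groth.Agent.S5099
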