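import Groth.Statements.S5100
import Groth.Agent.DivDesc.Order
import Groth.Agent.Catenary.NormalDepth
import Groth.Agent.BlowUpLib.Basic
import Mathlib

set_option autoImplicit false
universe u
open CategoryTheory CategoryTheory.Limits AlgebraicGeometry TopologicalSpace
open Div21

namespace Groth.Agent.S5100


open IsLocalRing in
theorem exists_order {X Y : Scheme.{u}} [IsLocallyNoetherian X] [IsLocallyNoetherian Y] (f : X ⟶ Y)
    (hY : Pi1.IsNormalScheme Y) {𝓘 : Y.IdealSheafData} (hI : BlowUp.IsEffCartierIdeal 𝓘) (y : ↥Y)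
    (hy : ringKrullDim ↑(Y.presheaf.stalk y) = 1) :
    ∃ n : ℕ, ∀ t : ↑(Y.presheaf.stalk y),
      maximalIdeal ↑(Y.presheaf.stalk y) = Ideal.span {t} →
      ∀ (x : ↥X) (hx : f x = y), (∀ z : ↥X, f z = y → z ⤳ x → z = x) →
        ((𝓘.comap f).comap (X.fromSpecStalk x)).ideal ⟨⊤, isAffineOpen_top _⟩ =
          Ideal.span {(Scheme.ΓSpecIso (X.presheaf.stalk x)).inv
            (((f.stalkMap x).hom ((Y.presheaf.stalkCongr (.of_eq hx.symm)).hom t)) ^ n)} := by
  haveI : IsDomain (Y.presheaf.stalk y) := (hY y).1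
  obtain ⟨U, hyU, -, g, hg, hge⟩ := Groth.Agent.BlowUpLib.exists_small_generator hI (O := ⊤) (x := y) trivial
  by_cases hprinc : ∃ ϖ, maximalIdeal (Y.presheaf.stalk y) = Ideal.span {ϖ}
  · obtain ⟨ϖ, hϖ⟩ := hprinc
    have hϖ0 : ϖ ≠ 0 := by
      rintro rfl
      have hbot : maximalIdeal (Y.presheaf.stalk y) = ⊥ := by rw [hϖ]; simp
      rw [ringKrullDim_eq_zero_of_isField (IsLocalRing.isField_iff_maximalIdeal_eq.2 hbot)] at hy
      exact zero_ne_one hy
    have hgy : (Y.presheaf.germ U.1 y hyU).hom g ∈ nonZeroDivisors (Y.presheaf.stalk y) := by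
      refine Groth.Agent.BlowUpLib.mem_nonZeroDivisors_map_of_flat (Y.presheaf.germ U.1 y hyU) ?_ hg
      letI := (Y.presheaf.germ U.1 y hyU).hom.toAlgebra
      haveI := U.2.isLocalization_stalk ⟨y, hyU⟩
      exact IsLocalization.flat _ (U.2.primeIdealOf ⟨y, hyU⟩).asIdeal.primeCompl
    obtain ⟨n, hn⟩ := Groth.Agent.DivDesc.exists_eq_span_pow_of_support (mem_nonZeroDivisors_of_ne_zero hϖ0)
      (hϖ ▸ (maximalIdeal.isMaximal _).isPrime) hgy fun Q hQ hgQ => by
        have hQ0 : Q ≠ ⊥ := fun h => nonZeroDivisors.ne_zero hgy (by rwa [h, Ideal.mem_bot] at hgQ)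
        haveI : Ring.KrullDimLE 1 (Y.presheaf.stalk y) := Ring.krullDimLE_iff.2 hy.le
        rw [IsLocalRing.eq_maximalIdeal (Ring.krullDimLE_one_iff_of_noZeroDivisors.1 ‹_› Q hQ0 hQ), hϖ]
        exact Ideal.mem_span_singleton_self _
    refine ⟨n, fun t ht x hx _ => ?_⟩
    subst hx
    have hgt : Ideal.span {(Y.presheaf.germ U.1 (f x) hyU).hom g} = Ideal.span {t ^ n} := by
      rw [hn, ← Ideal.span_singleton_pow, ← hϖ, ht, Ideal.span_singleton_pow]
    obtain ⟨W, hW, hxW, hWle⟩ := exists_isAffineOpen_mem_and_subset (show x ∈ f ⁻¹ᵁ U.1 from hyU)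
    rw [← hW.fromSpecStalk_eq_fromSpecStalk hxW]
    refine (Groth.Agent.DivDesc.ideal_comap_specMap_fromSpec (𝓘.comap f) ⟨W, hW⟩ (X.presheaf.germ W x hxW).hom).trans ?_
    have hgerm : (X.presheaf.germ W x hxW).hom.comp (f.appLE U.1 W hWle).hom =
        (f.stalkMap x).hom.comp (Y.presheaf.germ U.1 (f x) hyU).hom := by
      rw [← CommRingCat.hom_comp, ← CommRingCat.hom_comp]
      refine congrArg CommRingCat.Hom.hom ?_
      rw [Scheme.Hom.germ_stalkMap, Scheme.Hom.appLE, Category.assoc, TopCat.Presheaf.germ_res]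
    have e2 : ((Ideal.span {g}).map (f.appLE U.1 W hWle).hom).map (X.presheaf.germ W x hxW).hom =
        Ideal.span {((f.stalkMap x).hom t) ^ n} := by
      rw [Ideal.map_map, hgerm, ← Ideal.map_map, Ideal.map_span (Y.presheaf.germ U.1 (f x) hyU).hom,
        Set.image_singleton, hgt, Ideal.map_span, Set.image_singleton, map_pow (f.stalkMap x).hom]
    rw [Groth.Agent.FpqcDescent.ideal_comap_appLE 𝓘 f U ⟨W, hW⟩ hWle, hge, e2, Ideal.map_span, Set.image_singleton]
    have hcongr : (Y.presheaf.stalkCongr (.of_eq (rfl : f x = f x))).hom t = t := by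
      show (Y.presheaf.stalkSpecializes (specializes_rfl : f x ⤳ f x)).hom t = t
      rw [TopCat.Presheaf.stalkSpecializes_refl]
      rfl
    rw [hcongr]
    rfl
  · exact ⟨0, fun t ht => absurd ⟨t, ht⟩ hprinc⟩

/-- Suppose X and Y are locally Noetherian schemes, and consider a morphism f : X → Y that is flat and
surjective (i.e. faithfully flat) and is either quasi-compact or open. Assume Y is normal, and that
whenever y ∈ Y has a local ring of dimension 1, the fibre X_y has no embedded associated point (if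
one associated point of X_y specializes to another, the two coincide). Given an effective Cartier
divisor D' on X, described by its ideal sheaf 𝓙, D' arises as the inverse image of some effective
Cartier divisor on Y exactly when both of the following hold: (1) at each maximal point η of Y,
pulling D' back to the fibre X_η gives zero (the resulting ideal is the unit ideal); and (2) at each
y ∈ Y with one-dimensional local ring (a discrete valuation ring, because Y is normal) one can find
an integer n ≥ 0 so that, for any uniformizer t of O_{Y,y} and any maximal point x of f⁻¹(y), the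
ideal of D' in O_{X,x} (namely the inverse image of 𝓙 on Spec O_{X,x}) is generated by the image of
t raised to the n-th power. -/
theorem result {X Y : Scheme.{u}}
    [IsLocallyNoetherian X] [IsLocallyNoetherian Y] (f : X ⟶ Y) [Flat f] [Surjective f]
    (hf : QuasiCompact f ∨ IsOpenMap f) (hY : Pi1.IsNormalScheme Y)
    (hfib : ∀ y : ↥Y, ringKrullDim ↑(Y.presheaf.stalk y) = 1 → ∀ z z' : ↥(f.fiber y),
      IsAssociatedPrime (IsLocalRing.maximalIdeal ↑((f.fiber y).presheaf.stalk z)) ↑((f.fiber y).presheaf.stalk z) →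
      IsAssociatedPrime (IsLocalRing.maximalIdeal ↑((f.fiber y).presheaf.stalk z')) ↑((f.fiber y).presheaf.stalk z') →
      z' ⤳ z → z' = z)
    (𝓙 : X.IdealSheafData) (hJ : BlowUp.IsEffCartierIdeal 𝓙) :
    (∃ 𝓘 : Y.IdealSheafData, BlowUp.IsEffCartierIdeal 𝓘 ∧ 𝓘.comap f = 𝓙) ↔
      ((∀ η : ↥Y, (∀ z : ↥Y, z ⤳ η → z = η) → 𝓙.comap (f.fiberι η) = ⊤) ∧
        ∀ y : ↥Y, ringKrullDim ↑(Y.presheaf.stalk y) = 1 → ∃ n : ℕ, ∀ t : ↑(Y.presheaf.stalk y),
          IsLocalRing.maximalIdeal ↑(Y.presheaf.stalk y) = Ideal.span {t} →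
          ∀ (x : ↥X) (hx : f x = y), (∀ z : ↥X, f z = y → z ⤳ x → z = x) →
            (𝓙.comap (X.fromSpecStalk x)).ideal ⟨⊤, isAffineOpen_top _⟩ =
              Ideal.span {(Scheme.ΓSpecIso (X.presheaf.stalk x)).inv
                (((f.stalkMap x).hom ((Y.presheaf.stalkCongr (.of_eq hx.symm)).hom t)) ^ n)}) := by
  constructor
  · rintro ⟨𝓘, hI, rfl⟩
    refine ⟨fun η hη => ?_, fun y hy => exists_order f hY hI y hy⟩
    rw [← Scheme.IdealSheafData.comap_comp]
    refine Groth.Agent.BlowUpLib.comap_eq_top 𝓘 _ fun w hw => ?_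
    have h1 : (f.fiberι η ≫ f).base w = η := by
      have := f.range_fiberι η
      exact (this.subset ⟨w, rfl⟩ : f.fiberι η w ∈ f ⁻¹' {η})
    rw [h1] at hw
    exact Groth.Agent.BlowUpLib.notMem_support_of_maximalPt hI hη hw
  · rintro ⟨H, hord⟩
    refine Groth.Agent.DivDesc.exists_descent f hf 𝓙 hJ fun U p hd => ?_
    refine Groth.Agent.DivDesc.exists_agree_of_uniform_order f hY hfib 𝓙 hJ (fun x hx hxs => ?_) hord U p ?_
    · obtain ⟨w, hw⟩ : x ∈ Set.range (f.fiberι (f x)) := by rw [f.range_fiberι]; exact rfl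
      have h1 : w ∈ (𝓙.comap (f.fiberι (f x))).support := by
        rw [← SetLike.mem_coe, Scheme.IdealSheafData.support_comap]
        show f.fiberι (f x) w ∈ 𝓙.support
        rw [hw]; exact hxs
      rw [H _ hx, Scheme.IdealSheafData.support_top] at h1
      exact h1
    · haveI : IsDomain (Y.presheaf.stalk (U.2.fromSpec p)) := (hY _).1
      haveI : IsIntegrallyClosed (Y.presheaf.stalk (U.2.fromSpec p)) := (hY _).2
      by_contra hdim
      exact absurd (le_trans (Groth.Agent.Catenary.two_le_depth_of_normal hdim) hd) (by norm_num)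

end Groth.Agent.S5100
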