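import Groth.Statements.S5102
import Groth.Agent.MeroLib.Basic
import Groth.Agent.InvGen.Basic
import Groth.Agent.TMul.Power
import Groth.Agent.QC.Basic
open Groth.Agent.MeroLib
open Groth.Agent.QC (res app_res)

set_option autoImplicit false
universe u
open CategoryTheory CategoryTheory.Limits AlgebraicGeometry TopologicalSpace
open Mero

namespace Groth.Agent.S5102

/-- Let X be a scheme and J a fractional ideal, i.e. a sub-O_X-module of the sheaf of meromorphic
functions K_X (given by a monomorphism J → K_X). Then J is an invertible O_X-module if and only if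
every point of X has an open neighbourhood U together with a unit f of the ring Γ(U, K_X) such that
J|_U = O_U · f: over every open subset V of U, the sections of J are exactly the r · f|_V with r a
function on V. -/
theorem result (X : Scheme.{u}) (J : X.Modules)
    (ι : J ⟶ Mero.kmod X) [Mono ι] :
    PicF.IsInvertible J ↔ ∀ x : ↥X, ∃ (U : X.Opens) (_ : x ∈ U) (f : (Γ(Mero.kmod X, U))ˣ),
      ∀ (V : X.Opens) (hV : V ≤ U),
        Set.range ⇑(ι.val.app (Opposite.op V)) =
          {t : Γ(Mero.kmod X, V) | ∃ r : Γ(X, V),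
            t = Mero.toK X V r * (Mero.kmod X).presheaf.map (homOfLE hV).op (f : Γ(Mero.kmod X, U))} := by
  classical
  have hι : ∀ V : X.Opens, Function.Injective (ι.app V) := fun V => Groth.Agent.QC.app_injective_of_mono ι V
  constructor
  · intro hJ x
    obtain ⟨U, e, hxU, he⟩ := TMul.exists_isGen hJ x
    obtain ⟨W, hWU, a, b, -, hxW, hb, hab⟩ := exists_frac (ι.app U e) ⟨x, hxU⟩
    have ha : a ∈ Mero.regSub X W := fun y => by
      refine mem_nonZeroDivisors_iff_right.2 fun cy hc => ?_
      obtain ⟨V, hyV, c, rfl⟩ := TopCat.Presheaf.exists_germ_eq (C := CommRingCat) X.presheaf cy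
      have hy2 : y.1 ∈ W ⊓ (V : X.Opens) := And.intro y.2 hyV
      have h0 : gO y.1 hy2 (X.presheaf.map (homOfLE inf_le_right).op c * X.presheaf.map (homOfLE inf_le_left).op a) =
          gO y.1 hy2 0 := by
        simp only [map_mul, map_zero, gO, TopCat.Presheaf.germ_res_apply]
        exact hc
      obtain ⟨O, hyO, i₁, i₂, e0⟩ := X.presheaf.germ_eq y.1 _ _ _ _ h0
      rw [map_zero] at e0
      have hOU : O ≤ U := (i₁.le.trans inf_le_left).trans hWU
      have hz : X.presheaf.map (i₁ ≫ homOfLE inf_le_right).op c • res J hOU e = 0 := by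
        refine hι O ?_
        rw [Scheme.Modules.Hom.app_smul, map_zero, ← app_res]
        refine Subtype.ext (funext fun z => ?_)
        have hzW : z.1 ∈ W := (i₁.le z.2).1
        refine (smul_val _ _ z).trans ?_
        refine (isUnit_iK_of_mem (Mero.germ_mem_regStalk ⟨z.1, hzW⟩ hb)).mul_left_injective ?_
        change _ * iK z.1 (gO z.1 hzW b) = (0 : Mero.KStalk X z.1) * _
        rw [zero_mul, mul_assoc, show (res (Mero.kmod X) hOU (ι.app U e)).1 z * iK z.1 (gO z.1 hzW b) = iK z.1 (gO z.1 hzW a)
          from hab ⟨z.1, hzW⟩, ← map_mul]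
        have h3 := congrArg (gO z.1 z.2) e0
        simp only [gO, TopCat.Presheaf.germ_res_apply, map_mul, map_zero] at h3
        simp only [gO, TopCat.Presheaf.germ_res_apply, map_zero]
        exact (congrArg (iK z.1) h3).trans (map_zero _)
      have hc0 := (he O hOU).1 (hz.trans (zero_smul Γ(X, O) (res J hOU e)).symm)
      have h4 := congrArg (gO y.1 hyO) hc0
      simp only [gO, TopCat.Presheaf.germ_res_apply, map_zero] at h4
      exact h4
    have hu : IsUnit (res (Mero.kmod X) hWU (ι.app U e) : Γ(Mero.kmod X, W)) := isUnit_of_regular _ fun y =>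
      ⟨W, le_rfl, a, b, y.2, ha, hb, fun z => hab z⟩
    refine ⟨W, hxW, hu.unit, fun V hV => ?_⟩
    ext t
    have hval : ∀ r : Γ(X, V), ι.app V (r • res J (hV.trans hWU) e) =
        Mero.toK X V r * (Mero.kmod X).presheaf.map (homOfLE hV).op (hu.unit : Γ(Mero.kmod X, W)) := fun r => by
      rw [Scheme.Modules.Hom.app_smul, ← app_res, IsUnit.unit_spec]
      refine Subtype.ext (funext fun z => (smul_val _ _ z).trans ?_)
      rw [Mero.kmod_mul_apply, toK_val]
      rfl
    constructor
    · rintro ⟨j, rfl⟩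
      obtain ⟨r, hr⟩ := (he V (hV.trans hWU)).2 j
      exact ⟨r, (congrArg (ι.app V) hr.symm).trans (hval r)⟩
    · rintro ⟨r, rfl⟩
      exact ⟨_, hval r⟩
  · intro h
    refine InvGen.isInvertible fun x => ?_
    obtain ⟨U, hxU, f, hf⟩ := h x
    obtain ⟨e, he⟩ : (f : Γ(Mero.kmod X, U)) ∈ Set.range (ι.app U) := by
      refine (Set.ext_iff.mp (hf U le_rfl) _).mpr ⟨1, ?_⟩
      rw [map_one, one_mul]
      exact Subtype.ext (funext fun z => rfl)
    have hval : ∀ (V : X.Opens) (hV : V ≤ U) (r : Γ(X, V)), ι.app V (r • res J hV e) =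
        Mero.toK X V r * (Mero.kmod X).presheaf.map (homOfLE hV).op (f : Γ(Mero.kmod X, U)) := fun V hV r => by
      rw [Scheme.Modules.Hom.app_smul, ← app_res, he]
      refine Subtype.ext (funext fun z => (smul_val _ _ z).trans ?_)
      rw [Mero.kmod_mul_apply, toK_val]
    refine ⟨U, e, hxU, fun V hV => ⟨fun c c' hcc => ?_, fun j => ?_⟩⟩
    · have h1 := congrArg (ι.app V) hcc
      simp only [hval V hV] at h1
      refine TopCat.Presheaf.section_ext X.sheaf V c c' fun y hy => iK_inj y ?_
      exact (uval f ⟨y, hV hy⟩).isUnit.mul_left_injective (congrArg (fun w : Γ(Mero.kmod X, V) => w.1 ⟨y, hy⟩) h1)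
    · obtain ⟨r, hr⟩ := (Set.ext_iff.mp (hf V hV) (ι.app V j)).mp ⟨j, rfl⟩
      exact ⟨r, hι V ((hval V hV r).trans hr.symm)⟩

end Groth.Agent.S5102
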