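import Groth.Statements.S5107
import Groth.Agent.LimDense.Basic
-- import your own Groth.Agent.* helpers here

set_option autoImplicit false
universe u
open CategoryTheory CategoryTheory.Limits AlgebraicGeometry TopologicalSpace
open Lim8

namespace Groth.Agent.S5107

/-- Let (X_i) be a cofiltered system of Noetherian schemes with affine and flat transition morphisms, X
its limit, assumed Noetherian as well, and U₀ an open subset of X_{i₀}, with inverse images U_i in
X_i (for i over i₀) and U in X. Then U is schematically dense in X if and only if there is an index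
i over i₀ such that U_i is schematically dense in X_i (and then, the transition morphisms being
flat, U_j is schematically dense in X_j for every j over i). -/
theorem result {I : Type u} [SmallCategory I]
    [IsCofiltered I] (D : I ⥤ Scheme.{u}) (c : Limits.Cone D) (hc : Limits.IsLimit c)
    [∀ (i j : I) (g : i ⟶ j), IsAffineHom (D.map g)] [∀ (i j : I) (g : i ⟶ j), Flat (D.map g)]
    [∀ i : I, IsNoetherian (D.obj i)] [IsNoetherian c.pt] (i₀ : I) (U₀ : (D.obj i₀).Opens) :
    CInt.IsSchematicallyDense ((c.π.app i₀) ⁻¹ᵁ U₀) ↔
      ∃ (i : I) (g : i ⟶ i₀), CInt.IsSchematicallyDense ((D.map g) ⁻¹ᵁ U₀) := by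
  constructor
  · intro h
    have : ∀ {i j : I} (f : i ⟶ j), IsAffineHom (D.map f) := fun f => inferInstance
    have : Flat (c.π.app i₀) := ConsEngine.flat_π D c hc i₀ fun j φ => inferInstance
    have : QuasiCompact U₀.ι := inferInstance
    have : QuasiCompact (c.π.app i₀ ⁻¹ᵁ U₀).ι :=
      MorphismProperty.of_isPullback (isPullback_morphismRestrict (c.π.app i₀) U₀) inferInstance
    have hK : U₀.ι.ker.comap (c.π.app i₀) = ⊥ := by
      rw [eq_bot_iff, ← Scheme.IdealSheafData.le_map_iff_comap_le, ← SectExtU.ker_ι_eq_bot h,
        Scheme.IdealSheafData.map_ker, ← (isPullback_morphismRestrict (c.π.app i₀) U₀).w]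
      exact Scheme.Hom.le_ker_comp _ _
    obtain ⟨j, f, hf⟩ := LimDense.exists_comap_eq_bot D c hc U₀.ι.ker hK
    exact ⟨j, f, LimDense.isSchematicallyDense_preimage_of_comap (D.map f) U₀ hf⟩
  · rintro ⟨i, g, h⟩
    have : ∀ {i j : I} (f : i ⟶ j), IsAffineHom (D.map f) := fun f => inferInstance
    have : Flat (c.π.app i) := ConsEngine.flat_π D c hc i fun j φ => inferInstance
    have : QuasiCompact (D.map g ⁻¹ᵁ U₀).ι := inferInstance
    rw [← c.w g, Scheme.Hom.comp_preimage]
    exact LimDense.isSchematicallyDense_preimage (c.π.app i) _ h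

end Groth.Agent.S5107
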