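import Groth.Statements.S5110
import Groth.Agent.ConsEngine.LimMaxPt

set_option autoImplicit false
universe u
open CategoryTheory CategoryTheory.Limits AlgebraicGeometry TopologicalSpace
open Lim8

namespace Groth.Agent.S5110

/-- Let (S_i) be a cofiltered system of schemes with affine transition morphisms and S its limit, such
that every S_i has finitely many maximal points and the transition morphisms send maximal points to
maximal points; let S_{i₀} be quasi-compact and V₀ an open subset of S_{i₀}, with inverse images V_i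
in the S_i over i₀ and V in S. If V₀ is dense in S_{i₀} then every V_i and V are dense. Conversely,
if V is dense in S and S has only finitely many maximal points, then V_i is dense in S_i for some i
over i₀. -/
theorem result {I : Type u} [SmallCategory I] [IsCofiltered I]
    (D : I ⥤ Scheme.{u}) (c : Limits.Cone D) (hc : Limits.IsLimit c)
    [∀ (i j : I) (g : i ⟶ j), IsAffineHom (D.map g)]
    (hfin : ∀ i : I, {s : ↥(D.obj i) | ∀ z : ↥(D.obj i), z ⤳ s → z = s}.Finite)
    (hsys : ∀ (i j : I) (g : i ⟶ j) (s : ↥(D.obj i)), (∀ z : ↥(D.obj i), z ⤳ s → z = s) →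
      ∀ z : ↥(D.obj j), z ⤳ D.map g s → z = D.map g s)
    (i₀ : I) [CompactSpace ↥(D.obj i₀)] (V₀ : (D.obj i₀).Opens) :
    (Dense (V₀ : Set ↥(D.obj i₀)) →
        (∀ (i : I) (g : i ⟶ i₀), Dense (((D.map g) ⁻¹ᵁ V₀ : (D.obj i).Opens) : Set ↥(D.obj i))) ∧
          Dense (((c.π.app i₀) ⁻¹ᵁ V₀ : c.pt.Opens) : Set ↥c.pt)) ∧
      (Dense (((c.π.app i₀) ⁻¹ᵁ V₀ : c.pt.Opens) : Set ↥c.pt) →
        {s : ↥c.pt | ∀ z : ↥c.pt, z ⤳ s → z = s}.Finite →
          ∃ (i : I) (g : i ⟶ i₀), Dense (((D.map g) ⁻¹ᵁ V₀ : (D.obj i).Opens) : Set ↥(D.obj i))) := by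
  haveI : ∀ {i j} (f : i ⟶ j), IsAffineHom (D.map f) := fun {i j} f => inferInstance
  have hiff := ConsEngine.isMaxPt_iff_forall D c hc hfin hsys
  refine ⟨fun hd => ⟨fun i g => ?_, ?_⟩, fun hd hcfin => ?_⟩
  · exact ConsEngine.dense_of_forall_isMaxPt _ fun m hm =>
      ConsEngine.mem_of_dense_of_isMaxPt (hfin i₀) V₀ hd (hsys i i₀ g m hm)
  · exact ConsEngine.dense_of_forall_isMaxPt _ fun m hm =>
      ConsEngine.mem_of_dense_of_isMaxPt (hfin i₀) V₀ hd ((hiff m).mp hm i₀)
  · by_contra! hno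
    have hne : ∀ j : Over i₀, ({y : D.obj j.left | ConsEngine.IsMaxPt y ∧ D.map j.hom y ∉ V₀}).Nonempty := by
      intro j
      by_contra hemp
      refine hno j.left j.hom (ConsEngine.dense_of_forall_isMaxPt _ fun m hm => ?_)
      by_contra hm'
      exact hemp ⟨m, hm, hm'⟩
    obtain ⟨z, hz⟩ := ConsEngine.exists_forall_π_mem D c hc (⊤ : (D.obj i₀).Opens) isCompact_univ
      (fun j => {y | ConsEngine.IsMaxPt y ∧ D.map j.hom y ∉ V₀}) hne
      (fun j => (hfin j.left).subset fun y hy => hy.1) (fun j => Set.subset_univ _)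
      (fun {j k} a y hy => ⟨hsys _ _ a.left y hy.1, by
        rw [← Scheme.Hom.comp_apply, ← D.map_comp, Over.w a]
        exact hy.2⟩)
    have hzmax : ConsEngine.IsMaxPt z := (hiff z).mpr fun i => by
      obtain ⟨k, p, q, -⟩ := IsCofilteredOrEmpty.cone_objs i i₀
      have := hsys k i p _ (hz (Over.mk q)).1
      rw [← Scheme.Hom.comp_apply] at this
      change ConsEngine.IsMaxPt ((c.π.app k ≫ D.map p) z) at this
      rw [c.w p] at this
      exact this
    have := ConsEngine.mem_of_dense_of_isMaxPt hcfin ((c.π.app i₀) ⁻¹ᵁ V₀) hd hzmax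
    refine (hz (Over.mk (𝟙 i₀))).2 ?_
    show D.map (𝟙 i₀) (c.π.app i₀ z) ∈ V₀
    rw [← Scheme.Hom.comp_apply, c.w (𝟙 i₀)]
    exact this

end Groth.Agent.S5110
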