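import Groth.Statements.S5116
import Groth.Agent.ProperFEt.EssSurj
import Groth.Agent.FieldFEt.Main
import Groth.Agent.FEtHens.Local

set_option autoImplicit false
set_option backward.isDefEq.respectTransparency false
set_option backward.isDefEq.respectTransparency.types false
set_option maxHeartbeats 1000000
set_option linter.style.haveILetI false

universe u
open Pi1

namespace Groth.Agent.S5116

open AlgebraicGeometry CategoryTheory CategoryTheory.Limits in
/-- The injectivity of π₁ of the geometric closed fibre into π₁ of the total space, in terms of covers.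
Let A be a complete Noetherian local ring with residue field k, k̄ an algebraic closure of k, ξ :
Spec k̄ ⟶ Spec A the resulting geometric point, X a proper A-scheme with X ×_A Spec k̄ connected.
Then every finite etale cover of X ×_A Spec k̄ admits an open and closed immersion, over X ×_A Spec
k̄, into the base change of some finite etale cover of X. -/
theorem result (A : Type u) [CommRing A]
    [IsNoetherianRing A] [IsLocalRing A] [IsAdicComplete (IsLocalRing.maximalIdeal A) A]
    {X : Scheme.{u}} (f : X ⟶ Spec (CommRingCat.of A)) [IsProper f]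
    (ξ : Spec (CommRingCat.of (AlgebraicClosure (IsLocalRing.ResidueField A))) ⟶ Spec (CommRingCat.of A))
    (hξ : ξ = Spec.map (CommRingCat.ofHom ((algebraMap (IsLocalRing.ResidueField A)
      (AlgebraicClosure (IsLocalRing.ResidueField A))).comp (IsLocalRing.residue A))))
    [ConnectedSpace ↥(pullback f ξ)] (V : FEt.Cat (pullback f ξ)) :
    ∃ (U : FEt.Cat X) (ι : V ⟶ (FEt.restrict (pullback.fst f ξ)).obj U),
      IsOpenImmersion ι.left ∧ IsClosedImmersion ι.left := by
  let s := Spec.map (CommRingCat.ofHom (IsLocalRing.residue A))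
  let i : Spec (CommRingCat.of (AlgebraicClosure (IsLocalRing.ResidueField A))) ⟶
      Spec (CommRingCat.of (IsLocalRing.ResidueField A)) :=
    Groth.Agent.FieldFEt.sk (IsLocalRing.ResidueField A) (AlgebraicClosure (IsLocalRing.ResidueField A))
  have h : ξ = i ≫ s := hξ.trans (Groth.Agent.FEtHens.geomClosedFibre_eq A)
  subst h
  let p := pullback.fst f s
  let g := pullback.snd f s
  haveI : QuasiCompact g := inferInstance
  haveI : CompactSpace ↥(pullback f s) := QuasiCompact.compactSpace_of_compactSpace g
  haveI : QuasiSeparatedSpace ↥(pullback f s) := by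
    haveI : IsSeparated g := inferInstance
    exact quasiSeparatedSpace_of_quasiSeparated g
  have sq := (IsPullback.of_hasPullback g i).paste_horiz (IsPullback.of_hasPullback f s)
  let e : pullback g i ≅ pullback f (i ≫ s) := sq.isoPullback
  have he : e.hom ≫ pullback.fst f (i ≫ s) = pullback.fst g i ≫ p := sq.isoPullback_hom_fst
  obtain ⟨U₀, ι, ho, hc⟩ := Groth.Agent.FieldFEt.exists_openClosed_in_baseChange g ((FEt.restrict e.hom).obj V)
  haveI := Groth.Agent.ProperFEt.essSurj_restrict_baseChange (I := IsLocalRing.maximalIdeal A) f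
    (IsLocalRing.residue A) IsLocalRing.residue_surjective IsLocalRing.ker_residue
  let U := (FEt.restrict p).objPreimage U₀
  let eU : (FEt.restrict p).obj U ≅ U₀ := (FEt.restrict p).objObjPreimageIso U₀
  have hfst : pullback.fst f (i ≫ s) = (e.inv ≫ pullback.fst g i) ≫ p := by
    rw [Category.assoc, ← he, Iso.inv_hom_id_assoc]
  let a : FEt.restrict (pullback.fst f (i ≫ s)) ≅ FEt.restrict p ⋙ FEt.restrict (e.inv ≫ pullback.fst g i) :=
    MorphismProperty.Over.pullbackComp (e.inv ≫ pullback.fst g i) p _ hfst
  let b : FEt.restrict (e.inv ≫ pullback.fst g i) ≅ FEt.restrict (pullback.fst g i) ⋙ FEt.restrict e.inv :=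
    MorphismProperty.Over.pullbackComp e.inv (pullback.fst g i) _ rfl
  let T := (FEt.restrict e.hom).obj V
  let kV : V.left ⟶ T.left := inv (pullback.fst V.hom e.hom)
  have hkV : IsPullback kV V.hom T.hom e.inv := by
    refine IsPullback.of_horiz_isIso ⟨?_⟩
    show inv (pullback.fst V.hom e.hom) ≫ pullback.snd V.hom e.hom = V.hom ≫ e.inv
    rw [IsIso.inv_comp_eq, ← Category.assoc, Iso.eq_comp_inv]
    exact pullback.condition.symm
  let j₁ : V ≅ (FEt.restrict e.inv).obj T := (Groth.Agent.LefEssSurj.restrictIso e.inv T V kV hkV).symm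
  let j₂ : (FEt.restrict e.inv).obj ((FEt.restrict (pullback.fst g i)).obj U₀) ≅
      (FEt.restrict (pullback.fst f (i ≫ s))).obj U :=
    (FEt.restrict e.inv).mapIso ((FEt.restrict (pullback.fst g i)).mapIso eU.symm) ≪≫
      (b.app ((FEt.restrict p).obj U)).symm ≪≫ (a.app U).symm
  refine ⟨U, j₁.hom ≫ (FEt.restrict e.inv).map ι ≫ j₂.hom, ?_⟩
  haveI : IsIso j₁.hom.left := ((MorphismProperty.Over.forget _ _ _ ⋙ Over.forget _).mapIso j₁).isIso_hom
  haveI : IsIso j₂.hom.left := ((MorphismProperty.Over.forget _ _ _ ⋙ Over.forget _).mapIso j₂).isIso_hom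
  have hw : ((FEt.restrict e.inv).map ι).left ≫ pullback.fst _ _ = pullback.fst _ _ ≫ ι.left :=
    pullback.lift_fst _ _ _
  have hl : ((FEt.restrict e.inv).map ι).left = pullback.fst _ _ ≫ ι.left ≫ inv (pullback.fst _ _) := by
    rw [← Category.assoc, ← hw, Category.assoc, IsIso.hom_inv_id, Category.comp_id]
  show IsOpenImmersion (j₁.hom.left ≫ ((FEt.restrict e.inv).map ι).left ≫ j₂.hom.left) ∧
    IsClosedImmersion (j₁.hom.left ≫ ((FEt.restrict e.inv).map ι).left ≫ j₂.hom.left)
  rw [hl]
  haveI := ho
  haveI := hc
  exact ⟨inferInstance, inferInstance⟩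

end Groth.Agent.S5116
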