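import Groth.Statements.S5118
import Groth.Agent.Hensel.FiniteEtale
import Mathlib.Algebra.DualNumber
import Mathlib.RingTheory.Norm.Basic


set_option autoImplicit false
set_option linter.style.haveILetI false

universe u
open SGA1t

namespace Groth.Agent.S5118

open Polynomial in
/-- The etaleness criterion for the Kummer group scheme: Let A be a commutative ring and n ≥ 1. The
group scheme μ_n over Spec A is the spectrum of A[t]/(t^n − 1), a free A-module of rank n; it is
etale over A if and only if n is a unit of A (equivalently, n is prime to the characteristic of the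
residue field at every point of Spec A). -/
theorem result (A : Type u) [CommRing A] (n : ℕ) (hn : 1 ≤ n) :
    Algebra.Etale A (AdjoinRoot ((X : A[X]) ^ n - 1)) ↔ IsUnit ((n : ℕ) : A) := by
  classical
  have hm : ((X : A[X]) ^ n - 1).Monic := by simpa using monic_X_pow_sub_C (1 : A) (by omega : n ≠ 0)
  constructor
  · intro _
    nontriviality A
    let S := AdjoinRoot ((X : A[X]) ^ n - 1)
    let I : Ideal S := Ideal.span {((n : ℕ) : S)}
    let S₀ := S ⧸ I
    let t : S₀ := Ideal.Quotient.mk I (AdjoinRoot.root _)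
    have htn : t ^ n = 1 := by
      have h := AdjoinRoot.eval₂_root ((X : A[X]) ^ n - 1)
      simp only [eval₂_sub, eval₂_pow, eval₂_X, eval₂_one, sub_eq_zero] at h
      show (Ideal.Quotient.mk I (AdjoinRoot.root _)) ^ n = 1
      rw [← map_pow, h, map_one]
    have hn0 : ((n : ℕ) : S₀) = 0 := by
      rw [← map_natCast (Ideal.Quotient.mk I), Ideal.Quotient.eq_zero_iff_mem]
      exact Ideal.subset_span rfl
    let g : S₀ → (S →ₐ[A] DualNumber S₀) → Prop := fun a h => h (AdjoinRoot.root _) = TrivSqZeroExt.inl t + TrivSqZeroExt.inr a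
    have lift : ∀ a : S₀, (n : S₀) * t ^ (n - 1) * a = 0 → ∃ h, g a h := fun a ha => by
      refine ⟨AdjoinRoot.liftAlgHom _ (Algebra.ofId A (DualNumber S₀)) (TrivSqZeroExt.inl t + TrivSqZeroExt.inr a) ?_, AdjoinRoot.liftAlgHom_root ..⟩
      simp only [eval₂_sub, eval₂_pow, eval₂_X, eval₂_one, sub_eq_zero]
      refine TrivSqZeroExt.ext ?_ ?_
      · simp [htn]
      · rw [TrivSqZeroExt.snd_pow]
        simpa [mul_assoc] using ha
    obtain ⟨h₁, e₁⟩ := lift 0 (mul_zero _)
    obtain ⟨h₂, e₂⟩ := lift t (by rw [hn0]; simp)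
    haveI : Algebra.FormallyUnramified A S := inferInstance
    have hk : IsNilpotent (RingHom.ker (TrivSqZeroExt.fstHom A S₀ S₀ : DualNumber S₀ →+* S₀)) := by
      refine ⟨2, ?_⟩
      rw [Submodule.pow_succ, Submodule.pow_one, Submodule.zero_eq_bot, eq_bot_iff, Ideal.mul_le]
      intro x hx y hy
      have hx' : TrivSqZeroExt.fst x = 0 := hx
      have hy' : TrivSqZeroExt.fst y = 0 := hy
      exact TrivSqZeroExt.ext (by simp [hx', hy']) (by simp [hx', hy'])
    have he : h₁ = h₂ := Algebra.FormallyUnramified.lift_unique' (TrivSqZeroExt.fstHom A S₀ S₀) hk _ _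
      (AdjoinRoot.algHom_ext (by
        show TrivSqZeroExt.fst (h₁ (AdjoinRoot.root _)) = TrivSqZeroExt.fst (h₂ (AdjoinRoot.root _))
        rw [e₁, e₂]; simp))
    have ht : (0 : S₀) = t := by
      have := congrArg (fun h : S →ₐ[A] DualNumber S₀ => TrivSqZeroExt.snd (h (AdjoinRoot.root _))) he
      simpa [g, e₁, e₂] using this
    have h10 : (1 : S₀) = 0 := by rw [← htn, ← ht, zero_pow (by omega : n ≠ 0)]
    have hu : IsUnit ((n : ℕ) : S) := by
      rw [← Ideal.span_singleton_eq_top, Ideal.eq_top_iff_one, ← Ideal.Quotient.eq_zero_iff_mem, map_one]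
      exact h10
    let pb := AdjoinRoot.powerBasis' hm
    have hN := Algebra.norm_algebraMap_of_basis pb.basis ((n : ℕ) : A)
    rw [map_natCast] at hN
    have := hu.map (Algebra.norm A)
    rw [hN] at this
    refine (isUnit_pow_iff ?_).1 this
    rw [Fintype.card_fin]
    show ((X : A[X]) ^ n - 1).natDegree ≠ 0
    rw [show ((X : A[X]) ^ n - 1).natDegree = n by simpa using natDegree_X_pow_sub_C (n := n) (r := (1 : A))]
    omega
  · intro hu
    refine Groth.Agent.Hensel.etale_adjoinRoot hm ?_
    obtain ⟨b, hb⟩ := hu.exists_left_inv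
    refine ⟨-1, C b * X, ?_⟩
    obtain ⟨m, rfl⟩ : ∃ m, n = m + 1 := ⟨n - 1, by omega⟩
    rw [derivative_sub, derivative_one, derivative_X_pow, sub_zero, Nat.add_sub_cancel]
    calc -1 * ((X : A[X]) ^ (m + 1) - 1) + C b * X * (C ((m + 1 : ℕ) : A) * X ^ m)
        = -(X ^ (m + 1)) + 1 + C (b * ((m + 1 : ℕ) : A)) * X ^ (m + 1) := by rw [C_mul]; ring
      _ = 1 := by rw [hb, C_1]; ring

end Groth.Agent.S5118
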