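import Groth.Statements.S5119
import Mathlib.Algebra.Polynomial.Laurent

set_option autoImplicit false
universe u
open scoped LaurentPolynomial
open SGA1t

namespace Groth.Agent.S5119

/-- The computation behind the exactness of the Kummer sequence 0 → μ_n → G_m → G_m → 0, i.e. faithful
flatness of the n-th power map u_n of G_m: Let A be a commutative ring and n ≥ 1, and let u_n be the
ring endomorphism of A[t, t⁻¹] with u_n(t) = t^n (on monomials, t^k ↦ t^{nk}). Then A[t, t⁻¹] is
free of rank n over itself via u_n, with basis 1, t, …, t^{n−1}: every Laurent polynomial q can be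
written in exactly one way as Σ_{i<n} u_n(c_i) t^i. -/
theorem result (A : Type u) [CommRing A] (n : ℕ) (hn : 1 ≤ n) (q : A[T;T⁻¹]) :
    ∃! c : Fin n → A[T;T⁻¹],
      q = ∑ i : Fin n, (AddMonoidAlgebra.mapDomainRingHom A (AddMonoidHom.mulLeft (n : ℤ)) : A[T;T⁻¹] →+* A[T;T⁻¹]) (c i) *
        LaurentPolynomial.T (i : ℤ) := by
  classical
  have hn0 : (n : ℤ) ≠ 0 := by exact_mod_cast (by omega : n ≠ 0)
  have hinj : Function.Injective fun k : ℤ ↦ (n : ℤ) * k := mul_right_injective₀ hn0
  let u : A[T;T⁻¹] →+* A[T;T⁻¹] :=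
    AddMonoidAlgebra.mapDomainRingHom A (AddMonoidHom.mulLeft (n : ℤ))
  let r : ℤ → Fin n := fun m ↦ ⟨(m % n).toNat, by
    have h1 := Int.emod_lt_of_pos m (show (0 : ℤ) < n by omega)
    have h2 := Int.emod_nonneg m hn0
    omega⟩
  have hdec : ∀ (m : ℤ), m = (n : ℤ) * (m / n) + ((r m : ℕ) : ℤ) := fun m ↦ by
    simp only [r]
    rw [Int.toNat_of_nonneg (Int.emod_nonneg m hn0)]
    exact (Int.mul_ediv_add_emod m n).symm
  have key : ∀ (d : A[T;T⁻¹]) (i : Fin n) (m : ℤ),
      (u d * LaurentPolynomial.T (i : ℤ)).coeff m = if i = r m then d.coeff (m / n) else 0 := by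
    intro d i m
    induction d using LaurentPolynomial.induction_on' with
    | add p q hp hq =>
      rw [map_add, add_mul]
      simp only [AddMonoidAlgebra.coeff_add, Finsupp.add_apply, hp, hq]
      split_ifs <;> simp
    | C_mul_T k a =>
      rw [← LaurentPolynomial.single_eq_C_mul_T]
      simp only [u, AddMonoidAlgebra.mapDomainRingHom_apply, AddMonoidAlgebra.mapDomain_single,
        LaurentPolynomial.T, AddMonoidAlgebra.single_mul_single, AddMonoidHom.coe_mulLeft,
        mul_one, AddMonoidAlgebra.coeff_single, Finsupp.single_apply]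
      have hd := hdec m
      have hlt := i.isLt
      have hlt' := (r m).isLt
      by_cases hi : i = r m
      · subst hi
        rw [if_pos rfl]
        by_cases hk : k = m / n
        · rw [if_pos hk, if_pos (by rw [hk]; exact hd.symm)]
        · rw [if_neg hk, if_neg fun e ↦ hk (mul_left_cancel₀ hn0 (by linarith))]
      · rw [if_neg hi, if_neg]
        intro e
        refine hi (Fin.ext ?_)
        have e1 : ((i : ℕ) : ℤ) % n = ((r m : ℕ) : ℤ) % n := by
          have : ((i : ℕ) : ℤ) = ((r m : ℕ) : ℤ) + (n : ℤ) * (m / n - k) := by linarith [mul_sub (n : ℤ) (m / n) k]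
          rw [this, Int.add_mul_emod_self_left]
        rw [Int.emod_eq_of_lt (by omega) (by omega), Int.emod_eq_of_lt (by omega) (by omega)] at e1
        exact_mod_cast e1
  let c : Fin n → A[T;T⁻¹] := fun i ↦ AddMonoidAlgebra.ofCoeff
    (Finsupp.comapDomain (fun k : ℤ ↦ (n : ℤ) * k + (i : ℤ)) q.coeff
      (fun a _ b _ hab ↦ hinj (by simpa using hab)))
  have hc : ∀ (i : Fin n) (k : ℤ), (c i).coeff k = q.coeff ((n : ℤ) * k + (i : ℤ)) := fun i k ↦ by
    simp only [c]
    exact Finsupp.comapDomain_apply _ _ _ _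
  refine ⟨c, ?_, fun d hd ↦ ?_⟩
  · refine AddMonoidAlgebra.ext (Finsupp.ext fun m ↦ ?_)
    change q.coeff m = (∑ i : Fin n, u (c i) * LaurentPolynomial.T (i : ℤ)).coeff m
    simp only [AddMonoidAlgebra.coeff_sum, Finsupp.finsetSum_apply, key, Finset.sum_ite_eq',
      Finset.mem_univ, if_true, hc, ← hdec]
  · funext i
    refine AddMonoidAlgebra.ext (Finsupp.ext fun k ↦ ?_)
    have h1 := congr_arg (fun p : A[T;T⁻¹] ↦ p.coeff ((n : ℤ) * k + (i : ℤ))) hd
    have hr : r ((n : ℤ) * k + (i : ℤ)) = i := by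
      refine Fin.ext ?_
      simp only [r]
      rw [Int.mul_add_emod_self_left, Int.emod_eq_of_lt (by omega) (by have := i.isLt; omega)]
      simp
    have hq : ((n : ℤ) * k + (i : ℤ)) / n = k := by
      rw [Int.mul_add_ediv_left _ _ hn0, Int.ediv_eq_zero_of_lt (by omega) (by have := i.isLt; omega),
        add_zero]
    change q.coeff _ = (∑ i : Fin n, u (d i) * LaurentPolynomial.T (i : ℤ)).coeff _ at h1
    simp only [AddMonoidAlgebra.coeff_sum, Finsupp.finsetSum_apply, key, Finset.sum_ite_eq',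
      Finset.mem_univ, if_true, hr, hq] at h1
    rw [hc, h1]

end Groth.Agent.S5119
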