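import Groth.Statements.S5120
import Mathlib.Algebra.Polynomial.Div


set_option autoImplicit false
set_option linter.style.haveILetI false

universe u
open SGA1t

namespace Groth.Agent.S5120

open Polynomial in
theorem main (p : ℕ) [hp : Fact p.Prime] (A : Type u) [CommRing A] (q : A[X]) :
    ∃! c : Fin p → A[X], q = ∑ i : Fin p, aeval (X - X ^ p : A[X]) (c i) * X ^ (i : ℕ) := by
  classical
  rcases subsingleton_or_nontrivial A with hA | hA
  · exact ⟨0, Subsingleton.elim _ _, fun _ _ => Subsingleton.elim _ _⟩
  have h1 : 1 < p := hp.out.one_lt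
  set u : A[X] := X ^ p - X
  set s : A[X] := X - X ^ p
  have hs : s = -u := by simp [s, u]
  have hu : u.Monic := monic_X_pow_sub (by rw [degree_X]; exact_mod_cast h1)
  have hud : u.natDegree = p := by
    rw [natDegree_sub_eq_left_of_natDegree_lt (by simpa using h1), natDegree_X_pow]
  have hsum : ∀ r : A[X], r.natDegree < p → r = ∑ i : Fin p, C (r.coeff i) * X ^ (i : ℕ) := fun r hr => by
    rw [Fin.sum_univ_eq_sum_range (fun i => C (r.coeff i) * X ^ i)]
    exact r.as_sum_range_C_mul_X_pow' hr
  have ex : ∀ N, ∀ q : A[X], q.natDegree ≤ N → ∃ c : Fin p → A[X], q = ∑ i : Fin p, aeval s (c i) * X ^ (i : ℕ) := by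
    intro N
    induction N using Nat.strong_induction_on with
    | _ N ih =>
      intro q hq
      rcases lt_or_ge q.natDegree p with hlt | hge
      · exact ⟨fun i => C (q.coeff i), by simpa using hsum q hlt⟩
      obtain ⟨c, hc⟩ := ih (N - p) (by omega) (q /ₘ u) (by rw [natDegree_divByMonic q hu, hud]; omega)
      refine ⟨fun i => C ((q %ₘ u).coeff i) - X * c i, ?_⟩
      conv_lhs => rw [← modByMonic_add_div q u]
      have hr : (q %ₘ u).natDegree < p := hud ▸ natDegree_modByMonic_lt q hu (fun h => by simp [h] at hud; omega)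
      conv_lhs => rw [hsum _ hr, hc, Finset.mul_sum, ← Finset.sum_add_distrib]
      refine Finset.sum_congr rfl fun i _ => ?_
      rw [map_sub, map_mul, aeval_C, aeval_X, algebraMap_eq, hs]
      ring
  have uniq : ∀ N, ∀ c : Fin p → A[X], (∀ i, (c i).natDegree ≤ N) →
      ∑ i : Fin p, aeval s (c i) * X ^ (i : ℕ) = 0 → c = 0 := by
    intro N
    induction N using Nat.strong_induction_on with
    | _ N ih =>
      intro c hdeg h
      have hdvd : u ∣ ∑ i : Fin p, C ((c i).coeff 0) * X ^ (i : ℕ) := by
        have h2 : ∑ i : Fin p, C ((c i).coeff 0) * X ^ (i : ℕ) =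
            u * ∑ i : Fin p, aeval s (c i).divX * X ^ (i : ℕ) := by
          refine sub_eq_zero.1 (Eq.trans ?_ h)
          rw [Finset.mul_sum, ← Finset.sum_sub_distrib]
          refine Finset.sum_congr rfl fun i _ => ?_
          conv_rhs => rw [← divX_mul_X_add (c i)]
          rw [map_add, map_mul, aeval_C, aeval_X, algebraMap_eq, hs]
          ring
        exact ⟨_, h2⟩
      set r := ∑ i : Fin p, C ((c i).coeff 0) * X ^ (i : ℕ) with hr
      have hr0 : r = 0 := by
        by_contra hne
        refine absurd hdvd (hu.not_dvd_of_natDegree_lt hne ?_)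
        rw [hud]
        refine lt_of_le_of_lt (natDegree_sum_le_of_forall_le _ _ (n := p - 1) fun i _ =>
          (natDegree_C_mul_X_pow_le _ _).trans (by omega)) (by omega)
      have hc0 : ∀ i : Fin p, (c i).coeff 0 = 0 := fun i => by
        have := congrArg (fun f => Polynomial.coeff f (i : ℕ)) hr0
        simpa [r, finset_sum_coeff, coeff_C_mul, coeff_X_pow, Fin.val_inj] using this
      rcases Nat.eq_zero_or_pos N with rfl | hN
      · funext i
        rw [eq_C_of_natDegree_le_zero (hdeg i), hc0 i, C_0]; rfl
      have hd : ∀ i, c i = (c i).divX * X := fun i => by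
        conv_lhs => rw [← divX_mul_X_add (c i), hc0 i, C_0, add_zero]
      have := ih (N - 1) (by omega) (fun i => (c i).divX) (fun i => by
        rw [natDegree_divX_eq_natDegree_tsub_one]; have := hdeg i; omega) (by
        refine hu.isRegular.left ?_
        simp only [mul_zero]
        rw [← neg_eq_zero, ← neg_mul, ← hs, Finset.mul_sum, ← h]
        refine Finset.sum_congr rfl fun i _ => ?_
        conv_rhs => rw [hd i, map_mul, aeval_X]
        ring)
      funext i
      rw [hd i, show (c i).divX = 0 from congrFun this i, zero_mul]; rfl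
  obtain ⟨c, hc⟩ := ex _ q le_rfl
  refine ⟨c, hc, fun c' hc' => sub_eq_zero.1 (uniq (Finset.univ.sup fun i => (c' i - c i).natDegree) _
    (fun i => Finset.le_sup (f := fun i => (c' i - c i).natDegree) (Finset.mem_univ i)) ?_)⟩
  simp only [Pi.sub_apply, map_sub, sub_mul, Finset.sum_sub_distrib]
  rw [← hc, ← hc', sub_self]


open Polynomial in
/-- The computation behind the exactness of the Artin-Schreier sequence 0 → Z/p → G_a → G_a → 0 in
characteristic p, i.e. faithful flatness of ℘ = id − F: Let p be a prime and A a ring of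
characteristic p. Then A[t] is free of rank p over itself via the endomorphism t ↦ t − t^p, with
basis 1, t, …, t^{p−1}: every polynomial q can be written in exactly one way as Σ_{i<p} c_i(t − t^p)
t^i. -/
theorem result (p : ℕ) [Fact p.Prime] (A : Type u) [CommRing A] [CharP A p]
    (q : A[X]) :
    ∃! c : Fin p → A[X], q = ∑ i : Fin p, aeval (X - X ^ p : A[X]) (c i) * X ^ (i : ℕ) := by
  exact Groth.Agent.S5120.main p A q

end Groth.Agent.S5120
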