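import Groth.Statements.S5122
import Groth.Agent.EtDD.FpqcPull
import Groth.Agent.S2906

set_option autoImplicit false
set_option backward.isDefEq.respectTransparency false
set_option backward.isDefEq.respectTransparency.types false
set_option maxHeartbeats 1000000

universe u
open SGA1

namespace Groth.Agent.S5122

open AlgebraicGeometry CategoryTheory CategoryTheory.Limits in
/-- Let g : S' ⟶ S be universally submersive, D a descent datum relative to g (functor-of-points form,
for the one-member family g) whose underlying S'-scheme is etale, separated and of finite type over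
S', and p : S₁ ⟶ S faithfully flat and quasi-compact. Then D is effective in the fibred category of
etale separated finite-type schemes (isomorphic to the canonical datum of some etale, separated,
quasi-compact S-scheme) if and only if the descent datum obtained by base change along p, relative
to S' ×_S S₁ ⟶ S₁, is effective in the same sense over S₁. -/
theorem result {S S' S₁ : Scheme.{u}} (g : S' ⟶ S) (hg : SGA1.UnivSubmersive g)
    (D : Desc.SchDDFam (fun _ : PUnit.{1} => g))
    [Etale (D.obj PUnit.unit).hom] [IsSeparated (D.obj PUnit.unit).hom] [QuasiCompact (D.obj PUnit.unit).hom]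
    (p : S₁ ⟶ S) [Flat p] [Surjective p] [QuasiCompact p] :
    (∃ U : Over S, Etale U.hom ∧ IsSeparated U.hom ∧ QuasiCompact U.hom ∧ Nonempty ((Desc.toDDFam (fun _ : PUnit.{1} => g)).obj U ≅ D)) ↔
      (∃ U : Over S₁, Etale U.hom ∧ IsSeparated U.hom ∧ QuasiCompact U.hom ∧
        Nonempty ((Desc.toDDFam (fun _ : PUnit.{1} => pullback.snd g p)).obj U ≅
          (Desc.pullDDFam (f := fun _ : PUnit.{1} => g) (f' := fun _ : PUnit.{1} => pullback.snd g p)
        (α := id) (p := p) (p' := fun _ => pullback.fst g p) (fun _ => pullback.condition)).obj D)) := by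
  let D₀ := (Desc.SchDDFam.toSchDD g).obj D
  haveI : Etale D₀.obj.hom := ‹Etale (D.obj PUnit.unit).hom›
  haveI : IsSeparated D₀.obj.hom := ‹IsSeparated (D.obj PUnit.unit).hom›
  constructor
  · rintro ⟨U, _, _, _, ⟨e⟩⟩
    exact ⟨Over.mk (pullback.fst p U.hom), inferInstanceAs (Etale (pullback.fst p U.hom)),
      inferInstanceAs (IsSeparated (pullback.fst p U.hom)), inferInstanceAs (QuasiCompact (pullback.fst p U.hom)),
      EtDD.nonempty_pull_of_iso (pullback.fst g p) (pullback.snd g p) p pullback.condition D U e⟩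
  · rintro ⟨U₁, hU₁e, hU₁s, hU₁q, ⟨e₁⟩⟩
    let k := pullback.fst g p
    let g₁ := pullback.snd g p
    have hg₁ : SGA1.UnivSubmersive g₁ := EtDD.subm_snd p hg
    have hp : SGA1.UnivSubmersive p := EtDD.subm_of_fpqc p
    let D₁ := EtDD.pullDD D₀ k (g₁ ≫ p) (𝟙 S) (pullback.condition.trans (Category.comp_id _).symm)
    obtain ⟨e₁'⟩ := EtDD.nonempty_toDD_pullDD k g₁ p pullback.condition D U₁ e₁
    have hD₁ : EtDD.HasSec D₁ := EtDD.hasSec_comp hg₁ D₁ U₁ e₁' fun DE hDE => by
      haveI : Etale DE.obj.hom := hDE ▸ hU₁e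
      haveI : IsSeparated DE.obj.hom := hDE ▸ hU₁s
      haveI : QuasiCompact DE.obj.hom := hDE ▸ hU₁q
      obtain ⟨W, -, -, _, ⟨eW⟩⟩ := Groth.Agent.S2906.result p DE
      exact EtDD.hasSec_of_effective W eW
    have hk : SGA1.UnivSubmersive (k ≫ g) := by
      rw [show k ≫ g = g₁ ≫ p from pullback.condition]; exact EtDD.subm_comp hg₁ hp
    have hD : EtDD.HasSec D₀ := EtDD.hasSec_of_refine D₀ k hk
      (EtDD.hasSec_pullDD_congr k (𝟙 S) D₀ (pullback.condition (f := g) (g := p)).symm _ _ hD₁)
    obtain ⟨U, hUe, hUs, ⟨e⟩⟩ := EtDD.exists_effective hg hD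
    obtain ⟨eF⟩ := EtDD.nonempty_toDDFam_of_toDD D U e
    refine ⟨U, hUe, hUs, ?_, ⟨eF⟩⟩
    haveI := hUe
    obtain ⟨e₂⟩ := EtDD.nonempty_pull_of_iso k g₁ p pullback.condition D U eF
    exact EtDD.quasiCompact_of_iso hg₁ p U U₁ hU₁q
      ((Desc.SchDDFam.toSchDD g₁).mapIso (e₁ ≪≫ e₂.symm))

end Groth.Agent.S5122
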