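import Groth.Statements.S5128
import Groth.Agent.EtaleSections.BaseChange

set_option autoImplicit false
universe u
open SGA1

namespace Groth.Agent.S5128

open AlgebraicGeometry CategoryTheory CategoryTheory.Limits in
/-- Let X and Y be S-schemes with Y etale over S. The map f ↦ Γ_f sending an S-morphism f : X ⟶ Y to the
subset of X ×_S Y underlying its graph is a bijection from Hom_S(X, Y) onto the set of open subsets
Γ of X ×_S Y for which the restriction Γ → X of the first projection is radicial (universally
injective) and surjective. Stated as: the graph of every S-morphism is an open immersion, and every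
such open Γ is the image of the graph of exactly one S-morphism. -/
theorem result {S X Y : Scheme.{u}} (p : X ⟶ S)
    (q : Y ⟶ S) [Etale q] :
    (∀ f : {f : X ⟶ Y // f ≫ q = p},
      IsOpenImmersion (pullback.lift (𝟙 X) f.1 ((Category.id_comp p).trans f.2.symm) : X ⟶ pullback p q)) ∧
    ∀ Γ : (pullback p q).Opens, UniversallyInjective (Γ.ι ≫ pullback.fst p q) → Surjective (Γ.ι ≫ pullback.fst p q) →
      ∃! f : {f : X ⟶ Y // f ≫ q = p},
        Set.range (pullback.lift (𝟙 X) f.1 ((Category.id_comp p).trans f.2.symm) : X ⟶ pullback p q).base =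
          (Γ : Set ↥(pullback p q)) := by
  refine ⟨fun f => Groth.Agent.EtaleSections.isOpenImmersion_graph p q f.1 f.2, fun Γ h1 h2 => ?_⟩
  have := h1
  have := h2
  refine ⟨⟨Groth.Agent.EtaleSections.ofGraph p q Γ, Groth.Agent.EtaleSections.ofGraph_comp p q Γ⟩,
    Groth.Agent.EtaleSections.range_graph p q Γ, fun f hf => Subtype.ext ?_⟩
  have h3 := congrArg (fun k => k ≫ pullback.snd p q)
    (Groth.Agent.EtaleSections.eq_of_range_subset p q Γ
      (pullback.lift (𝟙 X) f.1 ((Category.id_comp p).trans f.2.symm)) (le_of_eq hf))
  simpa [Groth.Agent.EtaleSections.ofGraph, pullback.lift_fst, pullback.lift_snd,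
    pullback.lift_fst_assoc, pullback.lift_snd_assoc] using h3

end Groth.Agent.S5128
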