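import Groth.Statements.S5134
import Groth.Agent.DQCoh.QCDescent
import Groth.Agent.DQCoh.TopCohom
import Groth.Agent.ModDesc.Iso
import Groth.Agent.LocFree.Props
import Groth.Agent.UnivInjDesc.Finite

set_option autoImplicit false
open CategoryTheory AlgebraicGeometry
universe u
open SGA1

set_option backward.isDefEq.respectTransparency false
set_option backward.isDefEq.respectTransparency.types false

namespace Groth.Agent.S5134

open CategoryTheory.Limits

/-- For g : S' ⟶ S flat, surjective and quasi-compact and F a quasi-coherent module on S, if the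
pullback of F to S' is of finite presentation then F is of finite presentation. -/
theorem result {S S' : Scheme.{u}} (g : S' ⟶ S) [Flat g] [Surjective g] [QuasiCompact g]
    (F : S.Modules) (hF : Coh.IsQCoh F)
    (h : CohB1.IsFP ((Scheme.Modules.pullback g).obj F)) : CohB1.IsFP F := by
  refine Groth.Agent.QC.isFP_of_local fun y => ?_
  obtain ⟨_, ⟨U, hU, rfl⟩, hyU, -⟩ :=
    S.isBasis_affineOpens.exists_subset_of_mem_open (Set.mem_univ y) isOpen_univ
  let U : S.Opens := U
  refine ⟨_, U.ι, inferInstance, U.range_ι.symm ▸ hyU, ?_⟩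
  haveI : IsAffine (U : Scheme.{u}) := hU
  obtain ⟨κ, _, W, hW, hWU, hcov⟩ := Groth.Agent.DQCoh.pieces_of_qc g U hU
  haveI : ∀ k, IsAffine (W k : Scheme.{u}) := hW
  let T := ∐ fun k => (W k : Scheme.{u})
  let gk : ∀ k, (W k : Scheme.{u}) ⟶ (U : Scheme.{u}) := fun k => g.resLE U (W k) (hWU k)
  let q : T ⟶ (U : Scheme.{u}) := Sigma.desc gk
  let p : T ⟶ S' := Sigma.desc fun k => (W k).ι
  have hpq : q ≫ U.ι = p ≫ g := Sigma.hom_ext _ _ fun k => by simp [q, p, gk, Scheme.Hom.resLE_comp_ι]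
  haveI : ∀ k, Flat (gk k) := fun k => inferInstanceAs (Flat (g.resLE U (W k) (hWU k)))
  haveI : Flat q := IsZariskiLocalAtSource.sigmaDesc (fun k => inferInstance)
  haveI : Surjective q := ⟨fun z => by
    obtain ⟨k, x, hx, hxy⟩ := hcov (U.ι.base z) z.2
    refine ⟨(Sigma.ι (fun k => (W k : Scheme.{u})) k).base ⟨x, hx⟩, U.ι.isOpenEmbedding.injective ?_⟩
    have e : Sigma.ι (fun k => (W k : Scheme.{u})) k ≫ q ≫ U.ι = (W k).ι ≫ g := by
      simp [q, gk, Scheme.Hom.resLE_comp_ι]
    exact (congrArg (fun t => t.base ⟨x, hx⟩) e).trans hxy⟩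
  let H := F.restrict U.ι
  haveI hH : Coh.IsQCoh H := Groth.Agent.QC.isQCoh_restrict _ hF
  let i : (Scheme.Modules.pullback q).obj H ≅ (Scheme.Modules.pullback p).obj ((Scheme.Modules.pullback g).obj F) :=
    (Scheme.Modules.pullback q).mapIso ((Scheme.Modules.restrictFunctorIsoPullback U.ι).app F) ≪≫
      (Scheme.Modules.pullbackComp q U.ι).app F ≪≫ (Scheme.Modules.pullbackCongr hpq).app F ≪≫
      ((Scheme.Modules.pullbackComp p g).app F).symm
  have hfp := Groth.Agent.DQCoh.isFP_of_iso i.symm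
    (Groth.Agent.ModDesc.isFP_pullback p (Groth.Agent.QC.isQCoh_pullback g (hM := hF)) h)
  obtain ⟨Φ, -⟩ := Groth.Agent.ModDesc.exists_bijective_liftBaseChange q H (isAffineOpen_top _)
    (isAffineOpen_top T) le_top
  letI : Algebra Γ((U : Scheme.{u}), ⊤) Γ(T, ⊤) := (q.appLE ⊤ ⊤ le_top).hom.toAlgebra
  have hff : (algebraMap Γ((U : Scheme.{u}), ⊤) Γ(T, ⊤)).FaithfullyFlat := by
    show (q.appLE ⊤ ⊤ le_top).hom.FaithfullyFlat
    rw [show q.appLE ⊤ ⊤ le_top = q.appTop from (Scheme.Hom.appLE_eq_app (f := q) :)]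
    exact (AlgebraicGeometry.Flat.flat_and_surjective_iff_faithfullyFlat_of_isAffine (f := q)).1 ⟨inferInstance, inferInstance⟩
  haveI : Module.FaithfullyFlat Γ((U : Scheme.{u}), ⊤) Γ(T, ⊤) :=
    RingHom.faithfullyFlat_algebraMap_iff.1 hff
  have hinj : Pi1.UnivInjective Γ((U : Scheme.{u}), ⊤) Γ(T, ⊤) := fun P _ _ a b e => by
    obtain ⟨a', rfl⟩ := (TensorProduct.rid _ P).symm.surjective a
    obtain ⟨b', rfl⟩ := (TensorProduct.rid _ P).symm.surjective b
    simp only [TensorProduct.rid_symm_apply, LinearMap.lTensor_tmul, Algebra.linearMap_apply, map_one] at e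
    have := congrArg (TensorProduct.comm _ _ _) e
    simp only [TensorProduct.comm_tmul] at this
    rw [show a' = b' from Module.FaithfullyFlat.tensorProduct_mk_injective P this]
  haveI := Groth.Agent.LocFree.finitePresentation_sections_of_isFP
    (Groth.Agent.QC.isQCoh_pullback q (hM := hH)) hfp (isAffineOpen_top T)
  haveI : Module.FinitePresentation Γ(T, ⊤) (TensorProduct Γ((U : Scheme.{u}), ⊤) Γ(T, ⊤) Γ(H, ⊤)) :=
    Module.FinitePresentation.of_equiv Φ.symm
  haveI := Groth.Agent.UnivInjDesc.finitePresentation_of_tensor hinj Γ(H, ⊤)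
  exact Groth.Agent.QC.isFP_iff_exists_hasFinPres.2 fun x =>
    ⟨⊤, trivial, Groth.Agent.QC.hasFinPres_of_finitePresentation (isAffineOpen_top _) (hM := hH)⟩

end Groth.Agent.S5134
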