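import Groth.Statements.S5135
import Mathlib.RingTheory.Flat.FaithfullyFlat.Basic
import Mathlib.LinearAlgebra.TensorProduct.Tower

set_option autoImplicit false
universe u
open scoped TensorProduct
open SGA1

namespace Groth.Agent.S5135

/-- The affine case, in submodule form (descent of submodules, equivalently of quotient modules): for A
⟶ A' faithfully flat, M an A-module and N' an A'-submodule of A' ⊗ M whose two extensions to (A' ⊗
A') ⊗ M, along a ↦ a ⊗ 1 and a ↦ 1 ⊗ a, generate the same submodule, N' is the base change of the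
submodule of M formed by the elements m with 1 ⊗ m in N'. -/
theorem result (A A' : Type u) [CommRing A] [CommRing A'] [Algebra A A']
    [Module.FaithfullyFlat A A'] (M : Type u) [AddCommGroup M] [Module A M] (N' : Submodule A' (A' ⊗[A] M))
    (h : Submodule.span (A' ⊗[A] A')
          ((N'.restrictScalars A).map
            ((Algebra.TensorProduct.includeLeft : A' →ₐ[A] A' ⊗[A] A').toLinearMap.rTensor M) : Set ((A' ⊗[A] A') ⊗[A] M)) =
        Submodule.span (A' ⊗[A] A')
          ((N'.restrictScalars A).map
            ((Algebra.TensorProduct.includeRight : A' →ₐ[A] A' ⊗[A] A').toLinearMap.rTensor M) : Set ((A' ⊗[A] A') ⊗[A] M))) :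
    ((N'.restrictScalars A).comap (TensorProduct.mk A A' M 1)).baseChange A' = N' := by
  classical
  refine le_antisymm ?_ fun x hx ↦ ?_
  · rw [Submodule.baseChange_eq_span]
    refine Submodule.span_le.mpr ?_
    rintro _ ⟨m, hm, rfl⟩
    exact hm
  let M₀ : Submodule A M := (N'.restrictScalars A).comap (TensorProduct.mk A A' M 1)
  let α : M →ₗ[A] (A' ⊗[A] M) ⧸ N'.restrictScalars A :=
    (N'.restrictScalars A).mkQ ∘ₗ TensorProduct.mk A A' M 1
  let π : (A' ⊗[A] A') ⊗[A] M →ₗ[A] A' ⊗[A] ((A' ⊗[A] M) ⧸ N'.restrictScalars A) :=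
    (N'.restrictScalars A).mkQ.lTensor A' ∘ₗ (TensorProduct.assoc A A' A' M).toLinearMap
  -- `π` kills the span of either extension
  let lb : A' → ((A' ⊗[A] M) ⧸ N'.restrictScalars A) →ₗ[A] ((A' ⊗[A] M) ⧸ N'.restrictScalars A) :=
    fun b ↦ (N'.restrictScalars A).mapQ (N'.restrictScalars A)
      ((b • LinearMap.id : A' ⊗[A] M →ₗ[A'] A' ⊗[A] M).restrictScalars A)
      fun y hy ↦ by
        change b • y ∈ N'
        exact N'.smul_mem b hy
  have hπ : ∀ (c : A' ⊗[A] A') (z), π z = 0 → π (c • z) = 0 := by
    intro c z hz
    induction c with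
    | zero => simp
    | add c d hc hd => rw [add_smul, map_add, hc, hd, add_zero]
    | tmul a b =>
      have key : ∀ w, π ((a ⊗ₜ[A] b) • w) =
          TensorProduct.map (LinearMap.mulLeft A a) (lb b) (π w) := by
        intro w
        induction w with
        | zero => simp
        | add w₁ w₂ h₁ h₂ => simp only [smul_add, map_add, h₁, h₂]
        | tmul t m =>
          induction t with
          | zero => simp
          | add t₁ t₂ h₁ h₂ => simp only [TensorProduct.add_tmul, smul_add, map_add, h₁, h₂]
          | tmul a' b' =>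
            simp [π, lb, TensorProduct.smul_tmul']
      rw [key, hz, map_zero]
  have hspan : ∀ z ∈ Submodule.span (A' ⊗[A] A') ((N'.restrictScalars A).map
      ((Algebra.TensorProduct.includeRight : A' →ₐ[A] A' ⊗[A] A').toLinearMap.rTensor M) :
        Set ((A' ⊗[A] A') ⊗[A] M)), π z = 0 := by
    intro z hz
    induction hz using Submodule.span_induction with
    | mem z hz =>
      obtain ⟨y, hy, rfl⟩ := hz
      have : π ((Algebra.TensorProduct.includeRight : A' →ₐ[A] A' ⊗[A] A').toLinearMap.rTensor M y) =
          1 ⊗ₜ[A] (N'.restrictScalars A).mkQ y := by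
        clear hy
        induction y with
        | zero => simp
        | add y₁ y₂ h₁ h₂ => simp only [map_add, h₁, h₂, TensorProduct.tmul_add]
        | tmul b m => simp [π]
      rw [this, (Submodule.Quotient.mk_eq_zero _).mpr hy |> fun e ↦
        (show (N'.restrictScalars A).mkQ y = 0 from e), TensorProduct.tmul_zero]
    | zero => simp
    | add u v _ _ hu hv => rw [map_add, hu, hv, add_zero]
    | smul c u _ hu => exact hπ c u hu
  have hzero : α.lTensor A' x = 0 := by
    have hxL : (Algebra.TensorProduct.includeLeft : A' →ₐ[A] A' ⊗[A] A').toLinearMap.rTensor M x ∈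
        Submodule.span (A' ⊗[A] A') ((N'.restrictScalars A).map
          ((Algebra.TensorProduct.includeLeft : A' →ₐ[A] A' ⊗[A] A').toLinearMap.rTensor M) :
            Set ((A' ⊗[A] A') ⊗[A] M)) := Submodule.subset_span ⟨x, hx, rfl⟩
    rw [h] at hxL
    have := hspan _ hxL
    rw [← this]
    clear hx this hxL
    induction x with
    | zero => simp
    | add x₁ x₂ h₁ h₂ => simp only [map_add, h₁, h₂]
    | tmul a m => simp [π, α]
  have hker : LinearMap.ker α = M₀ := by
    ext m
    simp [α, M₀, Submodule.Quotient.mk_eq_zero]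
  have hexact : Function.Exact M₀.subtype α := by
    rw [LinearMap.exact_iff, hker, Submodule.range_subtype]
  obtain ⟨w, rfl⟩ := ((Module.Flat.lTensor_exact A' hexact) x).mp hzero
  clear hx hzero
  induction w with
  | zero => simp
  | add w₁ w₂ h₁ h₂ => rw [map_add]; exact Submodule.add_mem _ h₁ h₂
  | tmul a m =>
    rw [LinearMap.lTensor_tmul]
    exact Submodule.tmul_mem_baseChange_of_mem a m.2

end Groth.Agent.S5135
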