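import Groth.Statements.S5138
import Groth.Agent.AlgSpLib.EtST

set_option autoImplicit false
open CategoryTheory AlgebraicGeometry
universe u
open SGA1

namespace Groth.Agent.S5138

/-- For X ⟶ X' ⟶ Y locally of finite type over a locally Noetherian Y and a point x of X, if X ⟶ X' and
the composite X ⟶ Y are both etale near x then X' ⟶ Y is etale near the image of x; 'etale near a
point' is membership in the etale locus, the union of the opens on which the morphism is etale. (The
published statement takes the morphisms of finite type; quasi-compactness plays no role in this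
assertion about single points, so only local finiteness is assumed.) -/
theorem result {X X' Y : Scheme.{u}} (f : X ⟶ X') (g : X' ⟶ Y)
    [IsLocallyNoetherian Y] [LocallyOfFiniteType f] [LocallyOfFiniteType g] (x : X)
    (hf : x ∈ Pi1X.etaleLocus f) (hfg : x ∈ Pi1X.etaleLocus (f ≫ g)) : f.base x ∈ Pi1X.etaleLocus g := by
  have loc : ∀ {A B : Scheme.{u}} (h : A ⟶ B) (W : A.Opens), W ≤ Pi1X.etaleLocus h → Etale (W.ι ≫ h) := by
    intro A B h W hW
    refine IsZariskiLocalAtSource.of_openCover (P := @Etale)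
      (W.toScheme.openCoverOfIsOpenCover
        (fun U : {U : A.Opens // Etale (U.ι ≫ h)} => W.ι ⁻¹ᵁ U.1) ?_) ?_
    · refine top_le_iff.mp fun w _ => ?_
      obtain ⟨U, hU, hw⟩ := TopologicalSpace.Opens.mem_sSup.1 (hW w.2)
      exact TopologicalSpace.Opens.mem_iSup.2 ⟨⟨U, hU⟩, hw⟩
    · rintro ⟨U, hU⟩
      show Etale ((W.ι ⁻¹ᵁ U).ι ≫ W.ι ≫ h)
      rw [← Category.assoc, ← morphismRestrict_ι, Category.assoc]
      have : Etale (U.ι ≫ h) := hU
      infer_instance
  let W := Pi1X.etaleLocus f ⊓ Pi1X.etaleLocus (f ≫ g)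
  have h₁ : Etale (W.ι ≫ f) := loc f W inf_le_left
  have h₂ : Etale (W.ι ≫ f ≫ g) := loc (f ≫ g) W inf_le_right
  let O : X'.Opens := ⟨Set.range (W.ι ≫ f), (W.ι ≫ f).isOpenMap.isOpen_range⟩
  let π : W.toScheme ⟶ O.toScheme := IsOpenImmersion.lift O.ι (W.ι ≫ f) (by rw [Scheme.Opens.range_ι]; rfl)
  have hπ : π ≫ O.ι = W.ι ≫ f := IsOpenImmersion.lift_fac _ _ _
  have hπe : Etale π := by
    have : Etale (π ≫ O.ι) := by rw [hπ]; exact h₁
    exact Etale.of_comp π O.ι
  have hπs : Surjective π := ⟨fun y => by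
    obtain ⟨w, hw⟩ := y.2
    refine ⟨w, Subtype.ext ?_⟩
    rw [← hw, ← hπ]
    rfl⟩
  have hO : Etale (O.ι ≫ g) := Groth.Agent.AlgSpLib.etST_etale.descend π (O.ι ≫ g) hπe hπs (by
    rw [← Category.assoc, hπ, Category.assoc]
    exact h₂)
  exact TopologicalSpace.Opens.mem_sSup.2 ⟨O, hO, ⟨⟨x, hf, hfg⟩, rfl⟩⟩

end Groth.Agent.S5138
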