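import Groth.Statements.S5140
import Groth.Agent.FibCatRep.Cart

set_option autoImplicit false
open CategoryTheory
universe u v u₂ v₂
open FibCat

namespace Groth.Agent.S5140

set_option backward.isDefEq.respectTransparency false
set_option linter.style.haveILetI false
open CategoryTheory.Limits

/-- If the structure functor of 𝒳 is transportable (isomorphisms of C lift to isomorphisms of 𝒳 with any
prescribed source over their source), then a functor 𝒳 ⟶ 𝒴 over C whose underlying functor is an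
equivalence of categories is an equivalence over C. -/
theorem result {C : Type u} [Category.{v} C]
    {𝒳 𝒴 : BasedCategory.{v₂, u₂} C}
    (h𝒳 : ∀ ⦃T S : C⦄ (α : T ≅ S) (ξ : 𝒳.obj), 𝒳.p.obj ξ = T →
      ∃ (ξ' : 𝒳.obj) (e : ξ ≅ ξ'), 𝒳.p.IsHomLift α.hom e.hom)
    (F : 𝒳 ⥤ᵇ 𝒴) [F.toFunctor.IsEquivalence] : FibCat.IsEquivOver F := by
  refine Groth.Agent.FibCatRep.isEquivOver_of_isEquivalence F fun x V α hα => ?_
  obtain ⟨y, e, he⟩ := h𝒳 (asIso α).symm x rfl
  haveI : 𝒳.p.IsHomLift (inv α) e.hom := he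
  haveI : 𝒳.p.IsHomLift (inv (inv α)) e.inv := by
    rw [← IsIso.Iso.inv_hom e]
    exact IsHomLift.inv 𝒳.p (inv α) e.hom
  refine ⟨y, e.symm, IsHomLift.codomain_eq 𝒳.p (inv α) e.hom, ?_⟩
  exact (IsHomLift.fac' 𝒳.p (inv (inv α)) e.inv).trans (by simp)

end Groth.Agent.S5140
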