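import Groth.Statements.S5143
import Groth.Agent.FibCatRep.Cart

set_option autoImplicit false
set_option linter.style.haveILetI false
set_option backward.isDefEq.respectTransparency false
open CategoryTheory CategoryTheory.Limits Groth.Agent.FibCatRep

open CategoryTheory
universe u v u₂ v₂
open FibCat

namespace Groth.Agent.S5143

/-- The fibre product over C of two fibred (resp. prefibred) categories over C is fibred (resp.
prefibred); fibred and prefibred are Mathlib's notions for the structure functors, and the fibre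
product is the 2-fibre product over C of the two structure functors. -/
theorem result {C : Type u} [Category.{v} C] {𝒳 𝒴 : BasedCategory.{v₂, u₂} C} :
    (𝒳.p.IsFibered → 𝒴.p.IsFibered → (FibCat.fp (FibCat.toSelf 𝒳) (FibCat.toSelf 𝒴)).p.IsFibered) ∧
      (𝒳.p.IsPreFibered → 𝒴.p.IsPreFibered → (FibCat.fp (FibCat.toSelf 𝒳) (FibCat.toSelf 𝒴)).p.IsPreFibered) := by
  constructor
  · intro h1 h2
    refine isFibered_fp _ _ (fun φ _ => ?_) (fun φ _ => ?_) <;>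
      exact cart_of_grpd isFibGrpd_selfOver _
  · intro h1 h2
    refine ⟨fun {o V} f => ?_⟩
    obtain ⟨x, φ, hφ⟩ := IsPreFibered.exists_isCartesian 𝒳.p (a := o.obj.fst) rfl f
    obtain ⟨y, ψ, hψ⟩ := IsPreFibered.exists_isCartesian 𝒴.p (a := o.obj.snd) rfl
      (f ≫ eqToHom (fp_obj_eq o).symm)
    haveI := hφ
    haveI := hψ
    have hx := IsHomLift.domain_eq 𝒳.p f φ
    have hy := IsHomLift.domain_eq 𝒴.p (f ≫ eqToHom (fp_obj_eq o).symm) ψ
    have e1 : 𝒳.p.map φ = eqToHom hx ≫ f := (IsHomLift.fac' 𝒳.p f φ).trans (by simp)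
    have e2 : 𝒴.p.map ψ = eqToHom hy ≫ f ≫ eqToHom (fp_obj_eq o).symm :=
      (IsHomLift.fac' 𝒴.p (f ≫ eqToHom (fp_obj_eq o).symm) ψ).trans (by simp)
    obtain ⟨h, he⟩ := map_iso_hom o
    have he' : o.obj.iso.hom = eqToHom h := he
    have h' : 𝒳.p.obj x = 𝒴.p.obj y := hx.trans hy.symm
    let o' : (fp (toSelf 𝒳) (toSelf 𝒴)).obj :=
      ⟨⟨x, y, eqToIso h'⟩, fpProp_of_map (toSelf 𝒳) (toSelf 𝒴) _ h' rfl⟩
    let m : o' ⟶ o := ObjectProperty.homMk ⟨φ, ψ, by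
      change 𝒳.p.map φ ≫ o.obj.iso.hom = eqToHom h' ≫ 𝒴.p.map ψ
      rw [e1, e2, he']
      simp⟩
    haveI : (fp (toSelf 𝒳) (toSelf 𝒴)).p.IsHomLift f m :=
      IsHomLift.of_fac' _ f m hx rfl (e1.trans (by simp))
    refine ⟨o', m, ⟨fun {a} ψ' hψ' => ?_⟩⟩
    have ha : 𝒳.p.obj a.obj.fst = V := IsHomLift.domain_eq (fp (toSelf 𝒳) (toSelf 𝒴)).p f ψ'
    have a1 : 𝒳.p.map ψ'.hom.fst = eqToHom ha ≫ f := by
      have := IsHomLift.fac' (fp (toSelf 𝒳) (toSelf 𝒴)).p f ψ'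
      exact this.trans (by simp)
    haveI : 𝒳.p.IsHomLift f ψ'.hom.fst := IsHomLift.of_fac' _ _ _ ha rfl (a1.trans (by simp))
    haveI : 𝒴.p.IsHomLift (f ≫ eqToHom (fp_obj_eq o).symm) ψ'.hom.snd :=
      IsHomLift.of_fac' _ _ _ ((fp_obj_eq a).trans ha) rfl (by rw [map_snd, a1]; simp)
    obtain ⟨χ₁, ⟨l₁, c₁⟩, u₁⟩ :=
      Functor.IsCartesian.universal_property (p := 𝒳.p) (f := f) (φ := φ) ψ'.hom.fst
    obtain ⟨χ₂, ⟨l₂, c₂⟩, u₂⟩ := Functor.IsCartesian.universal_property (p := 𝒴.p)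
      (f := f ≫ eqToHom (fp_obj_eq o).symm) (φ := ψ) ψ'.hom.snd
    haveI := l₁
    haveI := l₂
    have p1 : 𝒳.p.map χ₁ = eqToHom (ha.trans hx.symm) := (IsHomLift.fac' 𝒳.p (𝟙 V) χ₁).trans (by simp)
    have p2 : 𝒴.p.map χ₂ = eqToHom (((fp_obj_eq a).trans ha).trans hy.symm) :=
      (IsHomLift.fac' 𝒴.p (𝟙 V) χ₂).trans (by simp)
    obtain ⟨h₀, he₀⟩ := map_iso_hom a
    have he₀' : a.obj.iso.hom = eqToHom h₀ := he₀
    let χ : a ⟶ o' := ObjectProperty.homMk ⟨χ₁, χ₂, by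
      change 𝒳.p.map χ₁ ≫ eqToHom h' = a.obj.iso.hom ≫ 𝒴.p.map χ₂
      rw [p1, p2, he₀']
      simp⟩
    refine ⟨χ, ⟨IsHomLift.of_fac' _ _ _ ha hx (p1.trans (by simp)), ?_⟩, fun χ' hχ' => ?_⟩
    · exact ObjectProperty.hom_ext _ (CategoricalPullback.hom_ext c₁ c₂)
    · obtain ⟨hl, hc⟩ := hχ'
      haveI := hl
      have q1 : 𝒳.p.map χ'.hom.fst = eqToHom (ha.trans hx.symm) :=
        (IsHomLift.fac' (fp (toSelf 𝒳) (toSelf 𝒴)).p (𝟙 V) χ').trans (by simp)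
      refine ObjectProperty.hom_ext _ (CategoricalPullback.hom_ext ?_ ?_)
      · exact u₁ _ ⟨IsHomLift.of_fac' _ _ _ ha hx (q1.trans (by simp)),
          congrArg (fun k => k.hom.fst) hc⟩
      · exact u₂ _ ⟨IsHomLift.of_fac' _ _ _ ((fp_obj_eq a).trans ha) hy (by rw [map_snd, q1]; simp),
          congrArg (fun k => k.hom.snd) hc⟩

end Groth.Agent.S5143
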