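import Groth.Statements.S5144
import Mathlib.Tactic

set_option autoImplicit false
set_option linter.style.haveILetI false

open CategoryTheory
universe u v u₂ v₂
open FibCat

namespace Groth.Agent.S5144

/-- If p : 𝒳 ⥤ C is both prefibred and co-prefibred (its opposite functor is prefibred), then p is
fibred if and only if it is co-fibred (its opposite functor is fibred). Prefibred and fibred are
Mathlib's notions, which are the source's. -/
theorem result {C : Type u} [Category.{v} C] {𝒳 : Type u₂} [Category.{v₂} 𝒳]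
    (p : 𝒳 ⥤ C) [p.IsPreFibered] [p.op.IsPreFibered] : p.IsFibered ↔ p.op.IsFibered := by
  constructor
  · intro hp
    refine Functor.IsFibered.of_exists_isStronglyCartesian fun a R f => ?_
    obtain ⟨b, φ, hφ⟩ := Functor.IsPreFibered.exists_isCartesian' (p := p.op) f
    refine ⟨b, φ, ?_⟩
    haveI := hφ
    refine { universal_property' := fun {c} g ψ hψ => ?_ }
    haveI := hψ
    have hu : p.obj b.unop = R.unop := congrArg Opposite.unop (IsHomLift.domain_eq p.op f φ)
    have hc : p.op.obj c = Opposite.op (p.obj c.unop) := rfl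
    have hφm : p.map φ.unop = f.unop ≫ eqToHom hu.symm := by
      have := congrArg Quiver.Hom.unop (IsHomLift.fac' p.op f φ)
      simpa using this
    have hψm : p.map ψ.unop = f.unop ≫ g.unop := by
      have := congrArg Quiver.Hom.unop (IsHomLift.eq_of_isHomLift p.op (g ≫ f) ψ)
      simpa using this.symm
    obtain ⟨d, η, hη⟩ := IsPreFibered.exists_isCartesian p (a := c.unop) rfl g.unop
    haveI := hη
    haveI : p.IsStronglyCartesian g.unop η := inferInstance
    have hd : p.obj d = R.unop := IsHomLift.domain_eq p g.unop η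
    haveI : p.IsHomLift (f.unop ≫ g.unop) ψ.unop := by rw [← hψm]; exact IsHomLift.map _ _
    obtain ⟨ν, ⟨hν, hνc⟩, -⟩ := Functor.IsStronglyCartesian.universal_property'
      (p := p) (f := g.unop) (φ := η) f.unop ψ.unop
    haveI := hν
    haveI : p.op.IsHomLift f ν.op := by
      refine IsHomLift.of_fac' p.op f ν.op (congrArg Opposite.op hd) rfl ?_
      apply Quiver.Hom.unop_inj
      have := IsHomLift.fac' p f.unop ν
      simpa using this
    obtain ⟨μ, ⟨hμ, hμc⟩, hμu⟩ := Functor.IsCartesian.universal_property (p := p.op) (f := f) (φ := φ) ν.op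
    have hμm : p.map μ.unop = eqToHom (hu.trans hd.symm) := by
      have := congrArg Quiver.Hom.unop (IsHomLift.fac' p.op (𝟙 R) μ)
      simpa using this
    have hηm : p.map η = eqToHom hd ≫ g.unop := (IsHomLift.fac' p g.unop η).trans (by simp)
    refine ⟨η.op ≫ μ, ⟨?_, ?_⟩, fun χ hχ => ?_⟩
    · refine IsHomLift.of_fac' p.op g _ rfl (congrArg Opposite.op hu) ?_
      apply Quiver.Hom.unop_inj
      simp [hμm, hηm]
    · rw [Category.assoc, hμc]
      apply Quiver.Hom.unop_inj
      simpa using hνc
    · obtain ⟨hl, hχc⟩ := hχ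
      haveI := hl
      have hχm : p.map χ.unop = eqToHom hu ≫ g.unop := by
        have := congrArg Quiver.Hom.unop (IsHomLift.fac' p.op g χ)
        simpa using this
      haveI : p.IsHomLift (𝟙 R.unop ≫ g.unop) χ.unop :=
        IsHomLift.of_fac' p _ _ hu rfl (hχm.trans (by simp))
      obtain ⟨ξ, ⟨hξ, hξc⟩, -⟩ := Functor.IsStronglyCartesian.universal_property
        p g.unop η (𝟙 R.unop) (𝟙 R.unop ≫ g.unop) rfl χ.unop
      haveI := hξ
      have h2 : φ.unop ≫ ξ = ν := by
        haveI : p.IsHomLift f.unop (φ.unop ≫ ξ) := by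
          refine IsHomLift.of_fac' p _ _ rfl hd ?_
          have := IsHomLift.fac' p (𝟙 R.unop) ξ
          simp [hφm, this]
        apply Functor.IsStronglyCartesian.ext p g.unop η f.unop
        rw [Category.assoc, hξc, hνc, ← hχc]
        rfl
      haveI : p.op.IsHomLift (𝟙 R) ξ.op := by
        refine IsHomLift.of_fac' p.op _ _ (congrArg Opposite.op hd) (congrArg Opposite.op hu) ?_
        apply Quiver.Hom.unop_inj
        have := IsHomLift.fac' p (𝟙 R.unop) ξ
        simpa using this
      have h3 : ξ.op = μ := hμu _ ⟨inferInstance, by rw [← h2]; rfl⟩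
      rw [← h3]
      apply Quiver.Hom.unop_inj
      simpa using hξc.symm
  · intro hp
    refine Functor.IsFibered.of_exists_isStronglyCartesian fun a R f => ?_
    obtain ⟨b, φ, hφ⟩ := Functor.IsPreFibered.exists_isCartesian' (p := p) f
    refine ⟨b, φ, ?_⟩
    haveI := hφ
    refine { universal_property' := fun {c} g ψ hψ => ?_ }
    haveI := hψ
    have hu : p.obj b = R := IsHomLift.domain_eq p f φ
    have hφm : p.map φ = eqToHom hu ≫ f := (IsHomLift.fac' p f φ).trans (by simp)
    have hψm : p.map ψ = g ≫ f := (IsHomLift.eq_of_isHomLift p (g ≫ f) ψ).symm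
    obtain ⟨d, η, hη⟩ := IsPreFibered.exists_isCartesian p.op (a := Opposite.op c) rfl g.op
    haveI := hη
    haveI : p.op.IsStronglyCartesian g.op η := inferInstance
    have hd' : p.op.obj d = Opposite.op R := IsHomLift.domain_eq p.op g.op η
    have hd : p.obj d.unop = R := congrArg Opposite.unop hd'
    haveI : p.op.IsHomLift (f.op ≫ g.op) ψ.op := by
      refine IsHomLift.of_fac' p.op _ _ rfl rfl ?_
      apply Quiver.Hom.unop_inj
      simp [hψm]
    obtain ⟨ν, ⟨hν, hνc⟩, -⟩ := Functor.IsStronglyCartesian.universal_property'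
      (p := p.op) (f := g.op) (φ := η) f.op ψ.op
    haveI := hν
    haveI : p.IsHomLift f ν.unop := by
      refine IsHomLift.of_fac' p f ν.unop hd rfl ?_
      have := congrArg Quiver.Hom.unop (IsHomLift.fac' p.op f.op ν)
      simpa using this
    obtain ⟨μ, ⟨hμ, hμc⟩, hμu⟩ := Functor.IsCartesian.universal_property (p := p) (f := f) (φ := φ) ν.unop
    have hμm : p.map μ = eqToHom (hd.trans hu.symm) :=
      (IsHomLift.fac' p (𝟙 R) μ).trans (by simp)
    have hηm : p.map η.unop = g ≫ eqToHom hd.symm := by
      have := congrArg Quiver.Hom.unop (IsHomLift.fac' p.op g.op η)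
      simpa using this
    refine ⟨η.unop ≫ μ, ⟨?_, ?_⟩, fun χ hχ => ?_⟩
    · exact IsHomLift.of_fac' p g _ rfl hu (by simp [hμm, hηm])
    · rw [Category.assoc, hμc]
      exact congrArg Quiver.Hom.unop hνc
    · obtain ⟨hl, hχc⟩ := hχ
      haveI := hl
      have hχm : p.map χ = g ≫ eqToHom hu.symm := (IsHomLift.fac' p g χ).trans (by simp)
      haveI : p.op.IsHomLift (𝟙 (Opposite.op R) ≫ g.op) χ.op := by
        refine IsHomLift.of_fac' p.op _ _ (congrArg Opposite.op hu) rfl ?_
        apply Quiver.Hom.unop_inj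
        simp [hχm]
      obtain ⟨ξ, ⟨hξ, hξc⟩, -⟩ := Functor.IsStronglyCartesian.universal_property
        p.op g.op η (𝟙 (Opposite.op R)) (𝟙 (Opposite.op R) ≫ g.op) rfl χ.op
      haveI := hξ
      have h2 : φ.op ≫ ξ = ν := by
        haveI : p.op.IsHomLift f.op (φ.op ≫ ξ) := by
          refine IsHomLift.of_fac' p.op _ _ rfl hd' ?_
          have := IsHomLift.fac' p.op (𝟙 (Opposite.op R)) ξ
          rw [Functor.map_comp, this]
          apply Quiver.Hom.unop_inj
          simp [hφm]
        apply Functor.IsStronglyCartesian.ext p.op g.op η f.op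
        rw [Category.assoc, hξc, hνc, ← hχc]
        rfl
      haveI : p.IsHomLift (𝟙 R) ξ.unop := by
        refine IsHomLift.of_fac' p _ _ hd hu ?_
        have := congrArg Quiver.Hom.unop (IsHomLift.fac' p.op (𝟙 (Opposite.op R)) ξ)
        simpa using this
      have h3 : ξ.unop = μ := hμu _ ⟨inferInstance, by rw [← h2]; rfl⟩
      rw [← h3]
      exact congrArg Quiver.Hom.unop hξc.symm

end Groth.Agent.S5144
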