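import Groth.Statements.S5146
-- import your own Groth.Agent.* helpers here
import Mathlib.CategoryTheory.Galois.Full

set_option autoImplicit false
universe u v w
open CategoryTheory PreGaloisCategory
open Pi1

namespace Groth.Agent.S5146

open CategoryTheory.Limits in
/-- For an exact functor H : C ⥤ C' of Galois categories with compatible fibre functors F' and F' ∘ H,
the induced homomorphism u of fundamental groups and a pointed connected object (X, a) of C with
stabilizer U of a: the image of u lies in U if and only if H(X) has a section from the final object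
of C' sending the point to a. -/
theorem result {C C' : Type u} [Category.{v} C] [Category.{v} C']
    [GaloisCategory C] [GaloisCategory C'] (H : C ⥤ C') [PreservesFiniteLimits H] [PreservesFiniteColimits H]
    (F' : C' ⥤ FintypeCat.{w}) [FiberFunctor F'] [FiberFunctor (H ⋙ F')] (X : C) [IsConnected X]
    (a : (H ⋙ F').obj X) :
    (Pi1X.autWhisker H F').range ≤ MulAction.stabilizer (Aut (H ⋙ F')) a ↔
      ∃ s : ⊤_ C' ⟶ H.obj X, ∀ t : F'.obj (⊤_ C'), F'.map s t = a := by
  constructor
  · intro h
    let k : (PreGaloisCategory.functorToAction F').obj (⊤_ C') ⟶ (PreGaloisCategory.functorToAction F').obj (H.obj X) :=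
      { hom := FintypeCat.homMk fun _ => a
        comm := fun σ => by
          apply FintypeCat.hom_ext
          intro t
          exact (h (x := Pi1X.autWhisker H F' σ) ⟨σ, rfl⟩).symm }
    obtain ⟨s, hs⟩ := (PreGaloisCategory.functorToAction F').map_surjective k
    exact ⟨s, fun t => congrArg (fun m : (PreGaloisCategory.functorToAction F').obj (⊤_ C') ⟶
      (PreGaloisCategory.functorToAction F').obj (H.obj X) => m.hom t) hs⟩
  · rintro ⟨s, hs⟩ _ ⟨σ, rfl⟩
    obtain ⟨t⟩ : Nonempty (F'.obj (⊤_ C')) :=
      ((Limits.IsTerminal.isTerminalObj F' _ Limits.terminalIsTerminal).from (FintypeCat.of PUnit.{w + 1}) |>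
        fun m => ⟨m PUnit.unit⟩)
    show σ.hom.app (H.obj X) a = a
    have := congrArg (fun m : F'.obj (⊤_ C') ⟶ F'.obj (H.obj X) => m t) (σ.hom.naturality s)
    simp only [FintypeCat.comp_apply, hs] at this
    exact this

end Groth.Agent.S5146
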