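import Groth.Statements.S5147
-- import your own Groth.Agent.* helpers here
import Mathlib.CategoryTheory.Galois.Full

set_option autoImplicit false
universe u v w
open CategoryTheory PreGaloisCategory
open Pi1

namespace Groth.Agent.S5147

open CategoryTheory.Limits in
/-- In the situation of the first assertion, the stabilizer U of a contains the normal subgroup
generated by the image of u (hence also its closure, U being open) if and only if H(X) is isomorphic
to a finite coproduct of copies of the final object of C'. -/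
theorem result {C C' : Type u} [Category.{v} C] [Category.{v} C']
    [GaloisCategory C] [GaloisCategory C'] (H : C ⥤ C') [PreservesFiniteLimits H] [PreservesFiniteColimits H]
    (F' : C' ⥤ FintypeCat.{w}) [FiberFunctor F'] [FiberFunctor (H ⋙ F')] (X : C) [IsConnected X]
    (a : (H ⋙ F').obj X) :
    Subgroup.normalClosure ((Pi1X.autWhisker H F').range : Set (Aut (H ⋙ F'))) ≤ MulAction.stabilizer (Aut (H ⋙ F')) a ↔
      ∃ n : ℕ, Nonempty (H.obj X ≅ ∐ fun _ : Fin n => ⊤_ C') := by
  have hst : ∀ (τ : Aut (H ⋙ F')) (b : (H ⋙ F').obj X),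
      τ ∈ MulAction.stabilizer (Aut (H ⋙ F')) b ↔ τ • b = b := fun _ _ => MulAction.mem_stabilizer_iff
  constructor
  · intro h
    have hfix : ∀ (σ : Aut F') (b : (H ⋙ F').obj X), σ.hom.app (H.obj X) b = b := by
      intro σ b
      obtain ⟨τ, hτ⟩ := MulAction.exists_smul_eq (Aut (H ⋙ F')) a b
      have hmem : τ⁻¹ * Pi1X.autWhisker H F' σ * τ ∈ MulAction.stabilizer (Aut (H ⋙ F')) a := by
        have := h ((Subgroup.normalClosure_normal).conj_mem _ (Subgroup.subset_normalClosure
          (show Pi1X.autWhisker H F' σ ∈ ((Pi1X.autWhisker H F').range : Set (Aut (H ⋙ F'))) from ⟨σ, rfl⟩)) τ⁻¹)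
        rwa [inv_inv] at this
      have h1 : Pi1X.autWhisker H F' σ • b = b := by
        rw [← hτ, ← mul_smul]
        calc (Pi1X.autWhisker H F' σ * τ) • a = (τ * (τ⁻¹ * Pi1X.autWhisker H F' σ * τ)) • a := by
              rw [← mul_assoc, ← mul_assoc, mul_inv_cancel, one_mul]
          _ = τ • ((τ⁻¹ * Pi1X.autWhisker H F' σ * τ) • a) := mul_smul _ _ _
          _ = τ • a := by rw [(hst _ _).1 hmem]
      exact h1
    have hsec : ∀ b : F'.obj (H.obj X), ∃ s : ⊤_ C' ⟶ H.obj X, ∀ t : F'.obj (⊤_ C'), F'.map s t = b := by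
      intro b
      let k : (PreGaloisCategory.functorToAction F').obj (⊤_ C') ⟶ (PreGaloisCategory.functorToAction F').obj (H.obj X) :=
        { hom := FintypeCat.homMk fun _ => b
          comm := fun σ => by
            apply FintypeCat.hom_ext
            intro t
            exact (hfix σ b).symm }
      obtain ⟨s, hs⟩ := (PreGaloisCategory.functorToAction F').map_surjective k
      exact ⟨s, fun t => congrArg (fun m : (PreGaloisCategory.functorToAction F').obj (⊤_ C') ⟶
        (PreGaloisCategory.functorToAction F').obj (H.obj X) => m.hom t) hs⟩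
    choose s hs using hsec
    obtain ⟨n, ⟨e⟩⟩ := Finite.exists_equiv_fin (F'.obj (H.obj X))
    let d : (∐ fun _ : Fin n => ⊤_ C') ⟶ H.obj X := Sigma.desc fun i => s (e.symm i)
    have hbij : Function.Bijective (F'.map d) := by
      let c := PreservesCoproduct.iso F' (fun _ : Fin n => ⊤_ C')
      have hrepr : ∀ z : F'.obj (∐ fun _ : Fin n => ⊤_ C'), ∃ i t, z = F'.map (Sigma.ι _ i) t := by
        intro z
        obtain ⟨⟨i⟩, t, ht⟩ := Limits.FintypeCat.jointly_surjective (Discrete.functor fun _ : Fin n => F'.obj (⊤_ C')) _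
          (colimit.isColimit _) (c.hom z)
        refine ⟨i, t, ?_⟩
        have h2 : F'.map (Sigma.ι (fun _ : Fin n => ⊤_ C') i) = Sigma.ι (fun _ : Fin n => F'.obj (⊤_ C')) i ≫ c.inv := by
          simp [c]
        rw [h2, FintypeCat.comp_apply]
        exact ((congrArg c.inv ht).trans (by rw [← FintypeCat.comp_apply, Iso.hom_inv_id, FintypeCat.id_apply])).symm
      have hval : ∀ i t, F'.map d (F'.map (Sigma.ι _ i) t) = e.symm i := fun i t => by
        rw [← FintypeCat.comp_apply, ← F'.map_comp, Sigma.ι_desc, hs]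
      refine ⟨fun z z' hz => ?_, fun b => ?_⟩
      · obtain ⟨i, t, rfl⟩ := hrepr z
        obtain ⟨i', t', rfl⟩ := hrepr z'
        rw [hval, hval] at hz
        obtain rfl := e.symm.injective hz
        let hT := Limits.IsTerminal.isTerminalObj F' _ (Limits.terminalIsTerminal (C := C'))
        exact congrArg (F'.map _) (congrArg (fun m : FintypeCat.of PUnit.{w + 1} ⟶ F'.obj (⊤_ C') => m PUnit.unit)
          (hT.hom_ext (FintypeCat.homMk fun _ => t) (FintypeCat.homMk fun _ => t')))
      · let hT := Limits.IsTerminal.isTerminalObj F' _ (Limits.terminalIsTerminal (C := C'))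
        exact ⟨F'.map (Sigma.ι _ (e b)) ((hT.from (FintypeCat.of PUnit.{w + 1})) PUnit.unit),
          by rw [hval, e.symm_apply_apply]⟩
    haveI : IsIso (F'.map d) := (ConcreteCategory.isIso_iff_bijective _).2 hbij
    haveI : IsIso d := isIso_of_reflects_iso d F'
    exact ⟨n, ⟨(asIso d).symm⟩⟩
  · rintro ⟨n, ⟨e⟩⟩
    have hfix : ∀ (σ : Aut F') (b : F'.obj (H.obj X)), σ.hom.app (H.obj X) b = b := by
      intro σ b
      let c := PreservesCoproduct.iso F' (fun _ : Fin n => ⊤_ C')
      obtain ⟨⟨i⟩, t, ht⟩ := Limits.FintypeCat.jointly_surjective (Discrete.functor fun _ : Fin n => F'.obj (⊤_ C')) _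
        (colimit.isColimit _) (c.hom (F'.map e.hom b))
      have hb : F'.map (Sigma.ι (fun _ : Fin n => ⊤_ C') i ≫ e.inv) t = b := by
        have h2 : F'.map (Sigma.ι (fun _ : Fin n => ⊤_ C') i) = Sigma.ι (fun _ : Fin n => F'.obj (⊤_ C')) i ≫ c.inv := by
          simp [c]
        rw [F'.map_comp, FintypeCat.comp_apply, h2, FintypeCat.comp_apply]
        refine (congrArg (fun z => F'.map e.inv (c.inv z)) ht).trans ?_
        show F'.map e.inv (c.inv (c.hom (F'.map e.hom b))) = b
        rw [← FintypeCat.comp_apply c.hom, Iso.hom_inv_id, FintypeCat.id_apply, ← FintypeCat.comp_apply, ← F'.map_comp,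
          Iso.hom_inv_id, F'.map_id, FintypeCat.id_apply]
      let hT := Limits.IsTerminal.isTerminalObj F' _ (Limits.terminalIsTerminal (C := C'))
      have hσt : σ.hom.app (⊤_ C') t = t :=
        congrArg (fun m : F'.obj (⊤_ C') ⟶ F'.obj (⊤_ C') => m t) (hT.hom_ext (σ.hom.app (⊤_ C')) (𝟙 _))
      have := congrArg (fun m : F'.obj (⊤_ C') ⟶ F'.obj (H.obj X) => m t)
        (σ.hom.naturality (Sigma.ι (fun _ : Fin n => ⊤_ C') i ≫ e.inv))
      simp only [FintypeCat.comp_apply, hσt, hb] at this
      exact this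
    let S : Subgroup (Aut (H ⋙ F')) := ⨅ b : (H ⋙ F').obj X, MulAction.stabilizer (Aut (H ⋙ F')) b
    haveI : S.Normal := ⟨fun x hx g => by
      simp only [S, Subgroup.mem_iInf, hst] at hx ⊢
      intro b
      rw [mul_smul, mul_smul, hx (g⁻¹ • b), smul_inv_smul]⟩
    refine le_trans (Subgroup.normalClosure_le_normal (N := S) ?_) (iInf_le _ a)
    rintro _ ⟨σ, rfl⟩
    simp only [S, SetLike.mem_coe, Subgroup.mem_iInf, hst]
    exact fun b => hfix σ b

end Groth.Agent.S5147
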