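import Groth.Statements.S5150
import Groth.Agent.LocH.Depth
import Mathlib
-- import your own Groth.Agent.* helpers here

set_option autoImplicit false
universe u
open CategoryTheory
open LocCoh

namespace Groth.Agent.S5150

/-- Let A be a commutative ring, I an ideal, M and N A-modules, and f_1, …, f_r a weakly M-regular
sequence of elements of I. If N is killed by a power of I then Ext^i_A(N, M) vanishes for all i < r.
(No Noetherian or finiteness hypothesis on A, M or N.) -/
theorem result (A : Type u) [CommRing A] (I : Ideal A) (M N : Type u) [AddCommGroup M] [Module A M] [AddCommGroup N] [Module A N] (rs : List A) (hreg : RingTheory.Sequence.IsWeaklyRegular M rs) (hI : ∀ r ∈ rs, r ∈ I) (k : ℕ) (hN : (I ^ k) • (⊤ : Submodule A N) = ⊥) (i : ℕ) (hi : i < rs.length) : Subsingleton (Abelian.Ext (ModuleCat.of A N) (ModuleCat.of A M) i) := by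
  suffices ∀ (l : List A) (M : Type u) [AddCommGroup M] [Module A M], RingTheory.Sequence.IsWeaklyRegular M l →
      (∀ r ∈ l, r ∈ I) → ∀ j, j < l.length → Subsingleton (Abelian.Ext (ModuleCat.of A N) (ModuleCat.of A M) j) from
    this rs M hreg hI i hi
  intro l
  induction l with
  | nil => intro _ _ _ _ _ j hj; exact absurd hj (Nat.not_lt_zero j)
  | cons r l ih =>
    intro M _ _ h hI j hj
    rw [RingTheory.Sequence.isWeaklyRegular_cons_iff] at h
    have hS := LocH.smulSES_shortExact h.1
    have hstep : ∀ x : Abelian.Ext (ModuleCat.of A N) (ModuleCat.of A M) j, r • x = 0 → x = 0 := by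
      intro x hx
      have hx' : x.comp (Abelian.Ext.mk₀ (LocH.smulSES M r).f) (add_zero j) = 0 := by
        change x.comp (Abelian.Ext.mk₀ (r • 𝟙 (ModuleCat.of A M))) _ = 0
        simpa [Abelian.Ext.mk₀_smul] using hx
      cases j with
      | zero =>
        obtain ⟨φ, rfl⟩ := (Abelian.Ext.mk₀_bijective _ _).2 x
        have := hS.mono_f
        have hc := (Abelian.Ext.mk₀_comp_mk₀ (Y := (LocH.smulSES M r).X₁) φ (LocH.smulSES M r).f).symm.trans hx'
        have h0 := (Abelian.Ext.mk₀_bijective _ _).1 (hc.trans (Abelian.Ext.mk₀_zero ..).symm)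
        exact (congrArg Abelian.Ext.mk₀ (@CategoryTheory.Limits.zero_of_comp_mono _ _ _ _ _ _ φ _ hS.mono_f h0 : φ = 0)).trans (Abelian.Ext.mk₀_zero ..)
      | succ j =>
        obtain ⟨y, hy⟩ := Abelian.Ext.covariant_sequence_exact₁ (ModuleCat.of A N) hS x hx' rfl
        have := ih (QuotSMulTop r M) h.2 (fun s hs => hI s (List.mem_cons_of_mem _ hs)) j (by simpa using hj)
        exact hy.symm.trans (((congrArg (fun z => Abelian.Ext.comp z hS.extClass rfl) (show y = 0 from this.elim _ _))).trans (Abelian.Ext.zero_comp ..))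
    have hkill : r ^ k • 𝟙 (ModuleCat.of A N) = 0 := by
      refine ModuleCat.hom_ext (LinearMap.ext fun n => ?_)
      exact (Submodule.mem_bot A).1 (hN ▸ Submodule.smul_mem_smul (Ideal.pow_mem_pow (hI r List.mem_cons_self) k) Submodule.mem_top)
    refine subsingleton_of_forall_eq 0 fun x => ?_
    have hx : r ^ k • x = 0 := by
      rw [show r ^ k • x = (Abelian.Ext.mk₀ (r ^ k • 𝟙 (ModuleCat.of A N))).comp x (zero_add j) by simp [Abelian.Ext.mk₀_smul],
        hkill, Abelian.Ext.mk₀_zero, Abelian.Ext.zero_comp]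
    have hz : ∀ n : ℕ, ∀ y : Abelian.Ext (ModuleCat.of A N) (ModuleCat.of A M) j, r ^ n • y = 0 → y = 0 := by
      intro n
      induction n with
      | zero => intro y hy; rwa [pow_zero, one_smul] at hy
      | succ n ihn => intro y hy; exact hstep y (ihn _ (by rwa [← mul_smul, ← pow_succ]))
    exact hz k x hx

end Groth.Agent.S5150
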