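import Groth.Statements.S5155
import Mathlib
import Groth.Agent.InjHull.Duality
-- import your own Groth.Agent.* helpers here

set_option autoImplicit false
universe u
open Matlis

namespace Groth.Agent.S5155

/-- Let A be a Noetherian local ring with residue field k. An A-module E is an injective hull of k if
and only if E is injective, E is m-power torsion, and Hom_A(k, E) is simple (one-dimensional over
k). (The torsion condition is needed: for a prime p ≠ m the module E(k) ⊕ E(A/p) is injective with
Hom_A(k, −) simple, represents the same functor on modules of finite length, and is not an injective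
hull of k; the published definition of a dualizing module leaves this condition implicit and the
published proof uses it.) -/
theorem result (A : Type u) [CommRing A] [IsLocalRing A] [IsNoetherianRing A] (E : Type u) [AddCommGroup E] [Module A E] : (∃ f : IsLocalRing.ResidueField A →ₗ[A] E, InjHull.IsInjectiveHull f) ↔ (Module.Injective A E ∧ LocCoh.IsPowerTorsion (IsLocalRing.maximalIdeal A) E ∧ IsSimpleModule A (IsLocalRing.ResidueField A →ₗ[A] E)) := by
  constructor
  · rintro ⟨f, hf⟩
    exact ⟨hf.isInjective, Groth.Agent.InjHull.isPowerTorsion_hull (m := IsLocalRing.maximalIdeal A) hf,
      Groth.Agent.InjHull.isSimpleModule_socle (m := IsLocalRing.maximalIdeal A) hf⟩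
  · rintro ⟨h1, h2, h3⟩
    exact Groth.Agent.InjHull.exists_isInjectiveHull_of_simple_socle
      (m := IsLocalRing.maximalIdeal A) h2 h3

end Groth.Agent.S5155
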