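import Groth.Statements.S5156
import Mathlib
import Groth.Agent.InjHull.Duality
-- import your own Groth.Agent.* helpers here

set_option autoImplicit false
universe u
open Matlis

namespace Groth.Agent.S5156

/-- Let A and B be Noetherian local rings with B a finite A-algebra, and E an injective hull of the
residue field of A (a dualizing module for A). Then Hom_A(B, E), as a B-module through the action on
the source, is an injective hull of the residue field of B (a dualizing module for B). -/
theorem result (A B : Type u) [CommRing A] [IsLocalRing A] [IsNoetherianRing A] [CommRing B] [IsLocalRing B] [IsNoetherianRing B] [Algebra A B] [Module.Finite A B] (E : Type u) [AddCommGroup E] [Module A E] (f : IsLocalRing.ResidueField A →ₗ[A] E) (hf : InjHull.IsInjectiveHull f) : ∃ g : IsLocalRing.ResidueField B →ₗ[B] (ModuleCat.coextendScalars (algebraMap A B)).obj (ModuleCat.of A E), InjHull.IsInjectiveHull g := by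
  let mA := IsLocalRing.maximalIdeal A
  let mB := IsLocalRing.maximalIdeal B
  have hcomap : mB.comap (algebraMap A B) = mA :=
    IsLocalRing.eq_maximalIdeal (Ideal.isMaximal_comap_of_isIntegral_of_isMaximal mB)
  let f' : (A ⧸ mA) →ₗ[A] E := f
  have hf' : InjHull.IsInjectiveHull f' := hf
  have := hf.isInjective
  have : CategoryTheory.Injective (ModuleCat.of A E) :=
    Module.injective_object_of_injective_module A E
  let X := (ModuleCat.coextendScalars (algebraMap A B)).obj (ModuleCat.of A E)
  have hX : CategoryTheory.Injective (ModuleCat.of B X) :=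
    (ModuleCat.restrictCoextendScalarsAdj (algebraMap A B)).map_injective (ModuleCat.of A E) inferInstance
  have hXinj : Module.Injective B X := Module.injective_module_of_injective_object B X
  have := Groth.Agent.InjHull.isArtinian_hull hf'
  let := Ideal.Quotient.field mA
  let := Ideal.Quotient.field mB
  let := Ideal.Quotient.algebraQuotientOfLEComap (hcomap.symm.le)
  have : IsScalarTower A (A ⧸ mA) (B ⧸ mB) := .of_algebraMap_eq fun x => rfl
  have : Module.Finite (A ⧸ mA) (B ⧸ mB) := Module.Finite.of_restrictScalars_finite A _ _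
  obtain ⟨v, hv⟩ := exists_ne (0 : B ⧸ mB)
  obtain ⟨φ, hφv⟩ : ∃ φ : (B ⧸ mB) →ₗ[A ⧸ mA] (A ⧸ mA), φ v ≠ 0 := by
    by_contra hcon
    push Not at hcon
    exact hv ((Module.forall_dual_apply_eq_zero_iff (A ⧸ mA) v).1 hcon)
  have hφ : φ ≠ 0 := fun h => hφv (by rw [h, LinearMap.zero_apply])
  let g0 : X := (ModuleCat.CoextendScalars.equiv (algebraMap A B) (ModuleCat.of A E)).symm
    { toFun := fun (x : B) => f' (φ (Ideal.Quotient.mk mB x))
      map_add' := fun (x y : B) => by
        show f' (φ (Ideal.Quotient.mk mB (x + y))) = _
        rw [map_add, map_add, map_add]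
      map_smul' := fun r (x : B) => by
        show f' (φ (Ideal.Quotient.mk mB (algebraMap A B r * x))) = r • f' (φ (Ideal.Quotient.mk mB x))
        rw [← f'.map_smul, ← IsScalarTower.algebraMap_smul (A ⧸ mA) r (φ _), ← φ.map_smul,
          Algebra.smul_def, map_mul]
        rfl }
  let φ0 := LinearMap.toSpanSingleton B X g0
  have hkill : mB ≤ LinearMap.ker φ0 := fun a ha => by
    rw [LinearMap.mem_ker]
    refine ModuleCat.CoextendScalars.ext (LinearMap.ext fun (x : B) => ?_)
    show f' (φ (Ideal.Quotient.mk mB ((x : B) * a))) = 0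
    rw [Ideal.Quotient.eq_zero_iff_mem.2 (Ideal.mul_mem_left _ _ ha), map_zero, map_zero]
  refine ⟨mB.liftQ φ0 hkill, ⟨Groth.Agent.InjHull.isEssentialInj_of_socle_le (m := mB) ?_ _ ?_ fun y hy => ?_, hXinj⟩⟩
  · intro y
    let := Module.compHom X (algebraMap A B)
    have : IsScalarTower A B X := .of_algebraMap_smul fun r z => rfl
    have hA : IsArtinian A X := by
      obtain ⟨r, gen, hgen⟩ := Module.Finite.exists_fin (R := A) (M := B)
      let ev : X →ₗ[A] (Fin r → E) :=
        { toFun := fun h i => h (gen i)
          map_add' := fun p q => rfl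
          map_smul' := fun c p => funext fun i => by
            show p (gen i * algebraMap A B c) = c • p (gen i)
            rw [mul_comm]
            exact ((ModuleCat.CoextendScalars.equiv (algebraMap A B) (ModuleCat.of A E)) p).map_smul c (gen i) }
      refine isArtinian_of_injective ev fun p q hpq => ModuleCat.CoextendScalars.ext (LinearMap.ext fun (x : B) => ?_)
      have hx : (x : B) ∈ Submodule.span A (Set.range gen) := hgen ▸ Submodule.mem_top
      obtain ⟨c, hc⟩ := (Submodule.mem_span_range_iff_exists_fun A).1 hx
      have hsum : ∀ P : X, P (x : B) = ∑ i, c i • P (gen i) := fun P => by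
        let L : B →ₗ[A] E :=
          { toFun := fun b => P b
            map_add' := fun a b => (ModuleCat.CoextendScalars.equiv (algebraMap A B) (ModuleCat.of A E) P).map_add a b
            map_smul' := fun t a => by
              rw [Algebra.smul_def]
              exact (ModuleCat.CoextendScalars.equiv (algebraMap A B) (ModuleCat.of A E) P).map_smul t a }
        show L x = ∑ i, c i • L (gen i)
        rw [← hc, map_sum]
        exact Finset.sum_congr rfl fun i _ => map_smul L _ _
      show p (x : B) = q (x : B)
      rw [hsum p, hsum q]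
      exact Finset.sum_congr rfl fun i _ => by rw [show p (gen i) = q (gen i) from congrFun hpq i]
    have : IsArtinian B X := isArtinian_of_tower A hA
    exact Groth.Agent.InjHull.isPowerTorsion_of_isArtinian X y
  · have hsimp : IsSimpleModule B (B ⧸ mB) :=
      isSimpleModule_iff_quot_maximal.2 ⟨mB, inferInstance, ⟨LinearEquiv.refl B _⟩⟩
    refine (LinearMap.injective_or_eq_zero (mB.liftQ φ0 hkill)).resolve_right fun h0 => ?_
    obtain ⟨v, rfl⟩ := Ideal.Quotient.mk_surjective v
    have h1 : v • g0 = 0 := LinearMap.congr_fun h0 (Submodule.Quotient.mk v)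
    have h2 : g0 ((1 : B) * v) = 0 := by
      rw [← ModuleCat.CoextendScalars.smul_apply, h1]
      rfl
    rw [one_mul] at h2
    exact hφv (hf'.injective (h2.trans (map_zero f').symm))
  · let yl : B →ₗ[A] E :=
      { toFun := fun b => y b
        map_add' := fun a b => (ModuleCat.CoextendScalars.equiv (algebraMap A B) (ModuleCat.of A E) y).map_add a b
        map_smul' := fun t a => by
          rw [Algebra.smul_def]
          exact (ModuleCat.CoextendScalars.equiv (algebraMap A B) (ModuleCat.of A E) y).map_smul t a }
    have hyB : ∀ b ∈ mB, yl b = 0 := fun b hb => by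
      have h1 : y ((1 : B) * b) = 0 := by
        rw [← ModuleCat.CoextendScalars.smul_apply, hy b hb]
        rfl
      rwa [one_mul] at h1
    have hrange : ∀ b, yl b ∈ LinearMap.range f' := fun b =>
      Groth.Agent.InjHull.mem_range_of_smul_eq_zero hf' fun a ha => by
        rw [← map_smul, Algebra.smul_def]
        exact hyB _ (Ideal.mul_mem_right _ _ (hcomap.ge ha))
    let ψA : (B ⧸ mB) →ₗ[A] (A ⧸ mA) := Submodule.liftQ (mB.restrictScalars A)
      ((LinearEquiv.ofInjective f' hf'.injective).symm.toLinearMap ∘ₗ yl.codRestrict _ hrange)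
      fun b hb => by
        rw [LinearMap.mem_ker, LinearMap.comp_apply, LinearEquiv.coe_coe,
          show yl.codRestrict (LinearMap.range f') hrange b = 0 from Subtype.ext (hyB b hb), map_zero]
    have hψ : ∀ b, f' (ψA (Ideal.Quotient.mk mB b)) = yl b := fun b =>
      congrArg Subtype.val ((LinearEquiv.ofInjective f' hf'.injective).apply_symm_apply
        (yl.codRestrict _ hrange b))
    let ψ : (B ⧸ mB) →ₗ[A ⧸ mA] (A ⧸ mA) :=
      ψA.extendScalarsOfSurjective (S := A ⧸ mA) Ideal.Quotient.mk_surjective
    obtain ⟨c, hc⟩ := Groth.Agent.InjHull.exists_mul_eq_of_finite hφ ψ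
    obtain ⟨c, rfl⟩ := Ideal.Quotient.mk_surjective c
    refine ⟨Submodule.Quotient.mk c, ModuleCat.CoextendScalars.ext (LinearMap.ext fun (x : B) => ?_)⟩
    show f' (φ (Ideal.Quotient.mk mB ((x : B) * c))) = y x
    rw [map_mul, hc]
    exact hψ x

end Groth.Agent.S5156
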