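import Groth.Statements.S5157
import Mathlib
import Groth.Agent.InjHull.Duality
-- import your own Groth.Agent.* helpers here

set_option autoImplicit false
universe u
open Matlis

namespace Groth.Agent.S5157

/-- Let A be a Noetherian local ring, a an ideal with A/a local (i.e. a ≠ A) and E an injective hull of
the residue field of A. Then the annihilator of a in E, E[a] = {e | a e = 0}, is an injective hull
of the residue field of A/a over A/a. -/
theorem result (A : Type u) [CommRing A] [IsLocalRing A] [IsNoetherianRing A] (a : Ideal A) [IsLocalRing (A ⧸ a)] (E : Type u) [AddCommGroup E] [Module A E] (f : IsLocalRing.ResidueField A →ₗ[A] E) (hf : InjHull.IsInjectiveHull f) : ∃ g : IsLocalRing.ResidueField (A ⧸ a) →ₗ[A ⧸ a] (LocCoh.torsionBy a E), InjHull.IsInjectiveHull g := by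
  let m' := IsLocalRing.maximalIdeal (A ⧸ a)
  have ha : a ≤ IsLocalRing.maximalIdeal A :=
    IsLocalRing.le_maximalIdeal (Ideal.Quotient.nontrivial_iff.1 inferInstance)
  have hinj := hf.isInjective
  let f' : (A ⧸ IsLocalRing.maximalIdeal A) →ₗ[A] E := f
  have hmem : f' 1 ∈ LocCoh.torsionBy a E := (Submodule.mem_torsionBySet_iff _ _).2 fun r => by
    rw [← map_smul, Groth.Agent.InjHull.smul_quotient_eq_zero (ha r.2), map_zero]
  let φ := LinearMap.toSpanSingleton (A ⧸ a) (LocCoh.torsionBy a E) ⟨f' 1, hmem⟩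
  have hmax : m'.comap (Ideal.Quotient.mk a) = IsLocalRing.maximalIdeal A := by
    refine IsLocalRing.eq_maximalIdeal ?_
    exact Ideal.comap_isMaximal_of_surjective _ Ideal.Quotient.mk_surjective
  have hm' : m' ≤ LinearMap.ker φ := by
    intro z hz
    obtain ⟨z, rfl⟩ := Ideal.Quotient.mk_surjective z
    have hz' : z ∈ IsLocalRing.maximalIdeal A := hmax ▸ hz
    rw [LinearMap.mem_ker]
    refine Subtype.ext ?_
    show z • f' 1 = 0
    rw [← map_smul, Groth.Agent.InjHull.smul_quotient_eq_zero hz', map_zero]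
  have hval : ∀ z : A, ((m'.liftQ φ hm' (Submodule.Quotient.mk (Ideal.Quotient.mk a z)) :
      LocCoh.torsionBy a E) : E) = f' (Ideal.Quotient.mk _ z) := fun z => by
    show z • f' 1 = _
    rw [← map_smul]
    congr 1
    rw [Algebra.smul_def, mul_one]
    rfl
  refine ⟨m'.liftQ φ hm', ⟨Groth.Agent.InjHull.isEssentialInj_iff.2 ⟨?_, fun x hx => ?_⟩,
    Groth.Agent.InjHull.injective_torsionBy a⟩⟩
  · refine (injective_iff_map_eq_zero (m'.liftQ φ hm')).2 fun z hz => ?_
    obtain ⟨z, rfl⟩ := Submodule.Quotient.mk_surjective _ z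
    obtain ⟨z, rfl⟩ := Ideal.Quotient.mk_surjective z
    have h1 := hval z
    rw [hz, ZeroMemClass.coe_zero] at h1
    have h2 : z ∈ IsLocalRing.maximalIdeal A :=
      Ideal.Quotient.eq_zero_iff_mem.1 (hf.injective (h1.symm.trans (map_zero f').symm))
    rw [Submodule.Quotient.mk_eq_zero]
    rw [← hmax] at h2
    exact h2
  · obtain ⟨r, b, hb, hb0⟩ := Groth.Agent.InjHull.exists_smul_eq_of_isEssentialInj
      hf.toIsEssentialInj (x := (x : E)) (fun h => hx (Subtype.ext h))
    obtain ⟨b, rfl⟩ := Ideal.Quotient.mk_surjective b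
    refine ⟨Ideal.Quotient.mk a r, ⟨Submodule.Quotient.mk (Ideal.Quotient.mk a b), ?_⟩, fun h => ?_⟩
    · exact Subtype.ext ((hval b).trans hb)
    · have h' : r • (x : E) = 0 := congrArg Subtype.val h
      exact hb0 (hf.injective (hb.trans (h'.trans (map_zero f).symm)))

end Groth.Agent.S5157
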