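import Groth.Statements.S5162
import Mathlib
import Groth.Agent.LocH.DepthExt
-- import your own Groth.Agent.* helpers here

set_option autoImplicit false
universe u
open CategoryTheory
open LocCoh

namespace Groth.Agent.S5162

/-- The affine case. Let A be a Noetherian ring, J an ideal, G any A-module and n ≥ 0. Then: H^i_J(G) =
0 for all i < n iff Ext^i_A(F, G) = 0 for all i < n and all finite A-modules F with Supp F ⊆ V(J),
iff Ext^i_A(F, G) = 0 for all i < n for one finite F with Supp F = V(J). (G is not assumed finitely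
generated.) -/
theorem result (A : Type u) [CommRing A] [IsNoetherianRing A] (J : Ideal A) (G : Type u) [AddCommGroup G] [Module A G] (n : ℕ) : ((∀ i : ℕ, i < n → Subsingleton (LocCoh.H J i G)) ↔ ∀ (F : Type u) [AddCommGroup F] [Module A F], Module.Finite A F → Module.support A F ⊆ PrimeSpectrum.zeroLocus (J : Set A) → ∀ i : ℕ, i < n → Subsingleton (Abelian.Ext (ModuleCat.of A F) (ModuleCat.of A G) i)) ∧ ((∀ i : ℕ, i < n → Subsingleton (LocCoh.H J i G)) ↔ ∃ (F : Type u) (_ : AddCommGroup F) (_ : Module A F), Module.Finite A F ∧ Module.support A F = PrimeSpectrum.zeroLocus (J : Set A) ∧ ∀ i : ℕ, i < n → Subsingleton (Abelian.Ext (ModuleCat.of A F) (ModuleCat.of A G) i)) := by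
  have hsupp : Module.support A (A ⧸ J) = PrimeSpectrum.zeroLocus (J : Set A) := by
    ext p
    exact Groth.Agent.LocH.mem_support_quotient_iff
  have h1 : (∀ i : ℕ, i < n → Subsingleton (LocCoh.H J i G)) → ∀ (F : Type u) [AddCommGroup F] [Module A F],
      Module.Finite A F → Module.support A F ⊆ PrimeSpectrum.zeroLocus (J : Set A) → ∀ i : ℕ, i < n →
        Subsingleton (Abelian.Ext (ModuleCat.of A F) (ModuleCat.of A G) i) := fun h F _ _ _ hF i hi =>
    Groth.Agent.LocH.ext_subsingleton_of_H (ModuleCat.of A F) ((Groth.Agent.S7038.result J F).2 (IsNoetherian.noetherian J) hF) i _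
      fun j hj => h j (lt_of_le_of_lt hj hi)
  refine ⟨⟨h1, fun h i hi => ?_⟩, ⟨fun h => ⟨A ⧸ J, inferInstance, inferInstance, inferInstance, hsupp,
    fun i hi => h1 h (A ⧸ J) inferInstance hsupp.le i hi⟩, ?_⟩⟩
  · exact Groth.Agent.LocH.H_subsingleton_of_ext (A ⧸ J) hsupp i (ModuleCat.of A G)
      fun j hj => h (A ⧸ J) inferInstance hsupp.le j (lt_of_le_of_lt hj hi)
  · rintro ⟨F, _, _, hfin, hF, h⟩ i hi
    exact Groth.Agent.LocH.H_subsingleton_of_ext F hF i (ModuleCat.of A G) fun j hj => h j (lt_of_le_of_lt hj hi)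

end Groth.Agent.S5162
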