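import Groth.Statements.S5166
import Groth.Agent.LocH.Avoid
import Mathlib
-- import your own Groth.Agent.* helpers here

set_option autoImplicit false
universe u
open LocCoh

namespace Groth.Agent.S5166

/-- In its local form at a point y ∈ Y (A = O_{X,y}). Let A be a Noetherian local ring and I ≠ A an
ideal contained in no minimal prime of A. Then some prime p ⊉ I has dim A/p = 1. -/
theorem result (A : Type u) [CommRing A] [IsLocalRing A] [IsNoetherianRing A] (I : Ideal A) (hI : I ≠ ⊤) (hdense : ∀ q ∈ minimalPrimes A, ¬ I ≤ q) : ∃ p : PrimeSpectrum A, ¬ I ≤ p.asIdeal ∧ ringKrullDim (A ⧸ p.asIdeal) = 1 := by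
  obtain ⟨q₀, hq₀, -⟩ := Ideal.exists_minimalPrimes_le (bot_le : (⊥ : Ideal A) ≤ IsLocalRing.maximalIdeal A)
  obtain ⟨p, ⟨hp, hIp⟩, hmax⟩ := wellFounded_gt.has_min {p : Ideal A | p.IsPrime ∧ ¬ I ≤ p} ⟨q₀, hq₀.1.1, hdense q₀ hq₀⟩
  refine ⟨⟨p, hp⟩, hIp, ?_⟩
  have hpm : p < IsLocalRing.maximalIdeal A :=
    lt_of_le_of_ne (IsLocalRing.le_maximalIdeal hp.ne_top) fun he => hIp (he ▸ IsLocalRing.le_maximalIdeal hI)
  obtain ⟨a, haI, hap⟩ := SetLike.not_le_iff_exists.1 hIp
  let π := Ideal.Quotient.mk p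
  have hπ : Function.Surjective π := Ideal.Quotient.mk_surjective
  have := IsLocalRing.of_surjective' π hπ
  have hmax' : (IsLocalRing.maximalIdeal A).map π = IsLocalRing.maximalIdeal (A ⧸ p) :=
    ((Ideal.map_eq_top_or_isMaximal_of_surjective π hπ inferInstance).resolve_left fun h =>
      (Ideal.map_isPrime_of_surjective hπ (by rw [Ideal.mk_ker]; exact hpm.le)).ne_top h) |> IsLocalRing.eq_maximalIdeal
  have hle : ((IsLocalRing.maximalIdeal A).map π).height ≤ 1 := by
    refine not_lt.1 fun hht => ?_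
    obtain ⟨t, ht, hpt, htm, hat⟩ := LocH.exists_between p (IsLocalRing.maximalIdeal A) hpm.le hht
      (IsLocalRing.le_maximalIdeal hI haI) hap
    exact hmax t ⟨ht, fun h => hat (h haI)⟩ hpt
  have hge : ((IsLocalRing.maximalIdeal A).map π).height ≠ 0 := fun h => by
    have := Ideal.map_isPrime_of_surjective hπ (I := IsLocalRing.maximalIdeal A) (by rw [Ideal.mk_ker]; exact hpm.le)
    rw [Ideal.height_eq_zero_iff_eq_bot, Ideal.map_eq_bot_iff_le_ker, Ideal.mk_ker] at h
    exact hpm.not_ge h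
  rw [hmax'] at hle hge
  rw [← IsLocalRing.maximalIdeal_height_eq_ringKrullDim, le_antisymm hle (ENat.one_le_iff_ne_zero.2 hge)]
  rfl

end Groth.Agent.S5166
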