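import Groth.Statements.S5168
import Mathlib
import Groth.Agent.InjHull.Noetherian
-- import your own Groth.Agent.* helpers here

set_option autoImplicit false
universe u
open InjHull

namespace Groth.Agent.S5168

/-- Let A be a Noetherian ring, J an ideal and H a J-power torsion A-module. Then H is injective if and
only if Hom_A(−, H) is exact on finite A-modules killed by a power of J, i.e. every linear map to H
from a submodule of such a module M extends to M. -/
theorem result (A : Type u) [CommRing A] [IsNoetherianRing A] (J : Ideal A) (H : Type u) [AddCommGroup H] [Module A H] (hH : LocCoh.IsPowerTorsion J H) : Module.Injective A H ↔ ∀ (M : Type u) [AddCommGroup M] [Module A M], Module.Finite A M → (∃ k : ℕ, (J ^ k) • (⊤ : Submodule A M) = ⊥) → ∀ (N : Submodule A M) (g : N →ₗ[A] H), ∃ g' : M →ₗ[A] H, g'.comp N.subtype = g := by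
  refine ⟨fun h M _ _ _ _ N g => ?_, fun h =>
    Groth.Agent.InjHull.injective_of_powerTorsion J hH fun m N g => ?_⟩
  · obtain ⟨g', hg'⟩ := Module.Injective.out (R := A) N.subtype N.injective_subtype g
    exact ⟨g', LinearMap.ext hg'⟩
  · refine h _ inferInstance ⟨m, ?_⟩ N g
    rw [eq_bot_iff, Submodule.smul_le]
    intro r hr z _
    obtain ⟨z, rfl⟩ := Ideal.Quotient.mk_surjective z
    exact (Submodule.mem_bot A).2 (Ideal.Quotient.eq_zero_iff_mem.2 (Ideal.mul_mem_right z _ hr))

end Groth.Agent.S5168
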