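import Groth.Statements.S5171
import Mathlib
import Groth.Agent.LocH.Depth
-- import your own Groth.Agent.* helpers here

set_option autoImplicit false
universe u
open LocCoh

namespace Groth.Agent.S5171

/-- Let A be a Noetherian ring, J an ideal, n ≥ 0 and G a finite Cohen–Macaulay A-module (each
localization G_p is zero or Cohen–Macaulay). Then H^i_J(G) = 0 for i < n if and only if codim(V(J) ∩
Supp G, Supp G) ≥ n, i.e. dim Supp(G_p) ≥ n for every p ∈ V(J) ∩ Supp G. -/
theorem result (A : Type u) [CommRing A] [IsNoetherianRing A] (J : Ideal A) (G : Type u) [AddCommGroup G] [Module A G] [Module.Finite A G] (hCM : ∀ p : PrimeSpectrum A, Subsingleton (LocalizedModule p.asIdeal.primeCompl G) ∨ LocCoh.IsCohenMacaulayModule (Localization.AtPrime p.asIdeal) (LocalizedModule p.asIdeal.primeCompl G)) (n : ℕ) : (∀ i : ℕ, i < n → Subsingleton (LocCoh.H J i G)) ↔ ∀ p : PrimeSpectrum A, J ≤ p.asIdeal → p ∈ Module.support A G → (n : WithBot ℕ∞) ≤ Module.supportDim (Localization.AtPrime p.asIdeal) (LocalizedModule p.asIdeal.primeCompl G) := by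
  rw [← Groth.Agent.LocH.le_idealDepth_iff, Groth.Agent.LocH.le_idealDepth_iff_forall_prime]
  refine forall₂_congr fun p hp => ?_
  rcases hCM p with h | h
  · refine iff_of_true ?_ fun hs => absurd h (not_subsingleton_iff_nontrivial.2 (Module.mem_support_iff.1 hs))
    rw [LocCoh.depth, LocCoh.idealDepth, if_pos (Subsingleton.elim _ _)]
    exact le_top
  · unfold LocCoh.IsCohenMacaulayModule at h
    rw [h]
    refine ⟨fun hn _ => WithBot.coe_le_coe.2 hn, fun hn => WithBot.coe_le_coe.1 (hn ?_)⟩
    refine Module.mem_support_iff.2 (not_subsingleton_iff_nontrivial.1 fun hsub => ?_)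
    have : Module.supportDim (Localization.AtPrime p.asIdeal) (LocalizedModule p.asIdeal.primeCompl G) = ⊥ :=
      Module.supportDim_eq_bot_of_subsingleton _ _
    rw [this] at h
    exact WithBot.bot_ne_coe h

end Groth.Agent.S5171
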