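import Groth.Statements.S5175
import Mathlib
import Groth.Agent.InjHull.Duality
-- import your own Groth.Agent.* helpers here

set_option autoImplicit false
universe u
open Matlis

namespace Groth.Agent.S5175

/-- Let k₀ be a field and A a Noetherian local k₀-algebra with [k : k₀] finite, k the residue field.
Then the topological dual A' = colim_n Hom_{k₀}(A/m^n, k₀), i.e. the submodule of Hom_{k₀}(A, k₀) of
forms killing some power of m (A acting through the source), is an injective hull of k (it is the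
dualizing module of A). -/
theorem result (k₀ : Type u) [Field k₀] (A : Type u) [CommRing A] [IsLocalRing A] [IsNoetherianRing A] [Algebra k₀ A] [Module.Finite k₀ (A ⧸ IsLocalRing.maximalIdeal A)] : ∃ f : IsLocalRing.ResidueField A →ₗ[A] ↥(⨆ n : ℕ, Submodule.torsionBySet A ((ModuleCat.coextendScalars (algebraMap k₀ A)).obj (ModuleCat.of k₀ k₀)) ((IsLocalRing.maximalIdeal A ^ n : Ideal A) : Set A)), InjHull.IsInjectiveHull f := by
  let m := IsLocalRing.maximalIdeal A
  let X := (ModuleCat.coextendScalars (algebraMap k₀ A)).obj (ModuleCat.of k₀ k₀)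
  have : Module.Injective k₀ k₀ := ⟨fun P Q _ _ _ _ f hf g => by
    obtain ⟨r, hr⟩ := f.exists_leftInverse_of_injective (LinearMap.ker_eq_bot.2 hf)
    exact ⟨g ∘ₗ r, fun x => congrArg g (LinearMap.congr_fun hr x)⟩⟩
  have : CategoryTheory.Injective (ModuleCat.of k₀ k₀) :=
    Module.injective_object_of_injective_module k₀ k₀
  have hX : CategoryTheory.Injective (ModuleCat.of A X) :=
    (ModuleCat.restrictCoextendScalarsAdj (algebraMap k₀ A)).map_injective (ModuleCat.of k₀ k₀) inferInstance
  have : Module.Injective A X := Module.injective_module_of_injective_object A X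
  let T : Submodule A X := ⨆ n : ℕ, Submodule.torsionBySet A X ((m ^ n : Ideal A) : Set A)
  have hTinj : Module.Injective A T := Groth.Agent.InjHull.injective_iSup_torsionBySet X m
  let := Ideal.Quotient.field m
  obtain ⟨v, hv⟩ := exists_ne (0 : A ⧸ m)
  obtain ⟨φ, hφv⟩ : ∃ φ : (A ⧸ m) →ₗ[k₀] k₀, φ v ≠ 0 := by
    by_contra hcon
    push Not at hcon
    exact hv ((Module.forall_dual_apply_eq_zero_iff k₀ v).1 hcon)
  have hφ : φ ≠ 0 := fun h => hφv (by rw [h, LinearMap.zero_apply])
  let g0 : X := (ModuleCat.CoextendScalars.equiv (algebraMap k₀ A) (ModuleCat.of k₀ k₀)).symm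
    { toFun := fun (x : A) => φ (Ideal.Quotient.mk m x)
      map_add' := fun (x y : A) => by
        rw [← map_add φ, ← map_add (Ideal.Quotient.mk m)]
        rfl
      map_smul' := fun r (x : A) => by
        show φ (Ideal.Quotient.mk m (algebraMap k₀ A r * x)) = r • φ (Ideal.Quotient.mk m x)
        rw [← map_smul, Algebra.smul_def, map_mul]
        rfl }
  have hg0 : ∀ x : A, g0 x = φ (Ideal.Quotient.mk m x) := fun x => rfl
  have hkill : ∀ a ∈ m, a • g0 = 0 := fun a ha => by
    refine ModuleCat.CoextendScalars.ext (LinearMap.ext fun (x : A) => ?_)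
    show φ (Ideal.Quotient.mk m (x * a : A)) = 0
    rw [Ideal.Quotient.eq_zero_iff_mem.2 (Ideal.mul_mem_left _ _ ha), map_zero]
  have hg0T : g0 ∈ T := (Groth.Agent.InjHull.mem_iSup_torsionBySet_iff m g0).2
    ⟨1, fun a ha => hkill a (by rwa [pow_one] at ha)⟩
  let g : (A ⧸ m) →ₗ[A] T := m.liftQ (LinearMap.toSpanSingleton A T ⟨g0, hg0T⟩)
    fun a ha => Subtype.ext (hkill a ha)
  have ht : LocCoh.IsPowerTorsion m T := fun y => by
    obtain ⟨n, hn⟩ := (Groth.Agent.InjHull.mem_iSup_torsionBySet_iff m (y : X)).1 y.2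
    exact ⟨n, fun a ha => Subtype.ext (hn a ha)⟩
  refine ⟨g, ⟨Groth.Agent.InjHull.isEssentialInj_of_socle_le (m := m) ht g ?_ fun y hy => ?_, hTinj⟩⟩
  · have hsimp : IsSimpleModule A (A ⧸ m) :=
      isSimpleModule_iff_quot_maximal.2 ⟨m, inferInstance, ⟨LinearEquiv.refl A _⟩⟩
    refine (LinearMap.injective_or_eq_zero g).resolve_right fun h0 => ?_
    obtain ⟨v, rfl⟩ := Ideal.Quotient.mk_surjective v
    have h1 : v • g0 = 0 := congrArg Subtype.val (LinearMap.congr_fun h0 (Submodule.Quotient.mk v))
    refine hφv ?_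
    have h2 : g0 ((1 : A) * v) = 0 := by
      rw [← ModuleCat.CoextendScalars.smul_apply, h1]
      rfl
    rw [hg0, one_mul] at h2
    exact h2
  · have hym : ∀ a ∈ m, ∀ x : A, (y : X) (x * a) = 0 := fun a ha x => by
      rw [← ModuleCat.CoextendScalars.smul_apply, show a • (y : X) = 0 from congrArg Subtype.val (hy a ha)]
      rfl
    let yl := ModuleCat.CoextendScalars.equiv (algebraMap k₀ A) (ModuleCat.of k₀ k₀) (y : X)
    let yl' : A →ₗ[k₀] k₀ :=
      { toFun := fun x => yl x
        map_add' := fun a b => yl.map_add a b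
        map_smul' := fun r a => by
          rw [Algebra.smul_def]
          exact yl.map_smul r a }
    let ψ : (A ⧸ m) →ₗ[k₀] k₀ := Submodule.liftQ (m.restrictScalars k₀) yl' fun a ha => by
      have h1 := hym a ha 1
      rw [one_mul] at h1
      exact h1
    obtain ⟨c, hc⟩ := Groth.Agent.InjHull.exists_mul_eq_of_finite hφ ψ
    obtain ⟨c, rfl⟩ := Ideal.Quotient.mk_surjective c
    refine ⟨Submodule.Quotient.mk c, Subtype.ext (ModuleCat.CoextendScalars.ext (LinearMap.ext fun (x : A) => ?_))⟩
    show φ (Ideal.Quotient.mk m ((x : A) * c)) = yl x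
    rw [map_mul, hc]
    rfl

end Groth.Agent.S5175
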