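import Groth.Statements.S5184
import Groth.Agent.LefEssSurj.Nhd

set_option autoImplicit false
universe u
open CategoryTheory CategoryTheory.Limits AlgebraicGeometry
open LefX

namespace Groth.Agent.S5184

/-- Let X be a locally Noetherian scheme, 𝓘 a quasi-coherent ideal sheaf with Y = V(𝓘) the closed
subscheme it defines, and suppose the effective Lefschetz condition Leff(X, Y) holds. Then for every
finite étale cover R of Y there are an open neighbourhood U of Y and a finite étale cover R' of U
whose restriction to Y is isomorphic to R; here restriction is taken along the inclusion i : Y → U,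
the unique morphism with i followed by U → X equal to Y → X (the statement quantifies over all such
i). -/
theorem result (X : Scheme.{u}) [IsLocallyNoetherian X] (𝓘 : X.IdealSheafData) (h : LefX.LeffCond X 𝓘) (R : FEt.Cat 𝓘.subscheme) : ∃ (U : X.Opens) (R' : FEt.Cat (U : Scheme.{u})), (𝓘.support : Set X) ⊆ (U : Set X) ∧ ∀ i : 𝓘.subscheme ⟶ (U : Scheme.{u}), i ≫ U.ι = 𝓘.subschemeι → Nonempty ((FEt.restrict i).obj R' ≅ R) := by
  exact Groth.Agent.LefEssSurj.exists_extension 𝓘 h R

end Groth.Agent.S5184
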