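import Groth.Statements.S5186
import Groth.Agent.GrothSS.WeakSerre
import Groth.Agent.GrothSS.Main
import Groth.Agent.CohFinite.RPushCoh
import Groth.Agent.CohProperPush.Basic
import Groth.Agent.W7InjStalk.Basic
-- import your own Groth.Agent.* helpers here

set_option autoImplicit false
universe u
open CategoryTheory AlgebraicGeometry
open Coherent

set_option linter.style.haveILetI false
set_option backward.isDefEq.respectTransparency false
set_option backward.isDefEq.respectTransparency.types false
open CategoryTheory.Limits ZeroObject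

namespace Groth.Agent.S5186

/-- Let f : X → S be a proper morphism of schemes with S locally Noetherian, U an open subset of X with
inclusion g : U → X, h = f ∘ g : U → S, F an O_U-module and n ≥ 0. If the higher direct images R^i
g_*(F) are coherent O_X-modules for all i ≤ n, then the higher direct images R^i h_*(F) are coherent
O_S-modules for all i ≤ n. (The existence of injective resolutions in the module categories is
carried as instance arguments.) -/
theorem result {X S : Scheme.{u}} (f : X ⟶ S) [IsProper f] [IsLocallyNoetherian S] (U : X.Opens) [HasInjectiveResolutions (U : Scheme.{u}).Modules] [HasInjectiveResolutions X.Modules] (F : (U : Scheme.{u}).Modules) (n : ℕ) (hg : ∀ i : ℕ, i ≤ n → Coh.IsCoh ((Coh.Rpush U.ι i).obj F)) (i : ℕ) (hi : i ≤ n) : Coh.IsCoh ((Coh.Rpush (U.ι ≫ f) i).obj F) := by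
  classical
  let T : (U : Scheme.{u}).Modules ⥤ X.Modules := Scheme.Modules.pushforward U.ι
  let Q : X.Modules ⥤ S.Modules := Scheme.Modules.pushforward f
  have hT : ∀ I : (U : Scheme.{u}).Modules, Injective I → ∀ q : ℕ, 0 < q → IsZero ((Q.rightDerived q).obj (T.obj I)) := by
    intro I hI q hq
    haveI : Injective (T.obj I) := Injective.injective_of_adjoint (Scheme.Modules.restrictAdjunction U.ι) _
    obtain ⟨q, rfl⟩ := Nat.exists_eq_succ_of_ne_zero hq.ne'
    exact Q.isZero_rightDerived_obj_injective_succ q _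
  let H : ℤ → S.Modules := fun m => if 0 ≤ m then ((T ⋙ Q).rightDerived m.toNat).obj F else 0
  let E2 : ℤ → ℤ → S.Modules := fun p q =>
    if 0 ≤ p ∧ 0 ≤ q then (Q.rightDerived p.toNat).obj ((T.rightDerived q.toNat).obj F) else 0
  obtain ⟨E, a, ha, -, he⟩ := Groth.Agent.GrothSS.exists_grothendieck Q T hT F H E2
    (fun m => ⟨eqToIso (by simp [H])⟩) (fun m hm => by simp only [H, if_neg (not_le.2 hm)]; exact isZero_zero _)
    (fun p q => ⟨eqToIso (by simp [E2])⟩) (fun p q h => by
      simp only [E2, if_neg (show ¬ (0 ≤ p ∧ 0 ≤ q) by omega)]; exact isZero_zero _)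
  let P : ObjectProperty S.Modules := fun M => Coh.IsCoh M
  haveI : WSerre.IsWeakSerre P := Groth.Agent.CohProperPush.isWeakSerre_isCoh
  haveI : P.IsClosedUnderIsomorphisms := ⟨fun e h => Groth.Agent.CohFinite.isCoh_of_iso e h⟩
  haveI : IsLocallyNoetherian X := LocallyOfFiniteType.isLocallyNoetherian f
  have h0 : ∀ p q : ℤ, p < 0 ∨ q < 0 → IsZero ((E.page 2 le_rfl).X (p, q)) := fun p q h => by
    refine IsZero.of_iso ?_ (he p q).some
    simp only [E2, if_neg (show ¬ (0 ≤ p ∧ 0 ≤ q) by omega)]; exact isZero_zero _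
  have h2 : ∀ p q : ℤ, q ≤ (n : ℤ) → p + q ≤ (n : ℤ) + 1 → P ((E.page 2 le_rfl).X (p, q)) := fun p q hq _ => by
    refine P.prop_of_iso (he p q).some.symm ?_
    by_cases h : 0 ≤ p ∧ 0 ≤ q
    · simp only [E2, if_pos h]
      exact Groth.Agent.CohFinite.isCoh_rpush f _ (hg q.toNat (by omega)) p.toNat
    · exact P.prop_of_isZero (by simp only [E2, if_neg h]; exact isZero_zero _)
  have hH : P (H (i : ℤ)) := Groth.Agent.GrothSS.prop_abutment P a (n : ℤ) (i : ℤ) (by omega) (ha _) h2 h0
  simp only [H, if_pos (Int.natCast_nonneg i), Int.toNat_natCast] at hH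
  let α : T ⋙ Q ≅ Scheme.Modules.pushforward (U.ι ≫ f) := Scheme.Modules.pushforwardComp U.ι f
  let β : (T ⋙ Q).rightDerived i ≅ (Scheme.Modules.pushforward (U.ι ≫ f)).rightDerived i :=
    ⟨NatTrans.rightDerived α.hom i, NatTrans.rightDerived α.inv i,
      by rw [← NatTrans.rightDerived_comp, α.hom_inv_id, NatTrans.rightDerived_id],
      by rw [← NatTrans.rightDerived_comp, α.inv_hom_id, NatTrans.rightDerived_id]⟩
  exact P.prop_of_iso (β.app F) hH

end Groth.Agent.S5186
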