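import Groth.Statements.S5193
import Groth.Agent.FlatParaF.Fibre
import Groth.Agent.LeffAmple.Pic
import Groth.Agent.LefRel.Lef

set_option autoImplicit false
universe u
open CategoryTheory CategoryTheory.Limits AlgebraicGeometry
open LefX

namespace Groth.Agent.S5193

/-- Over an affine base. Let A be a Noetherian ring, X a proper flat A-scheme, 𝓘 a quasi-coherent ideal
whose ideal module is invertible with ample inverse L, such that X_0 = V(𝓘) is also flat over A (so
X is projective over A and 𝓘 is cut out by a section t of L regular on every fibre); write X_m =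
V(𝓘^(m+1)) for the m-th thickening of X_0. Assume that every fibre X_s has depth ≥ 3 at each of its
closed points, and that at every point x outside X_0 which is closed in its fibre the local ring of
the fibre at x is parafactorial. Let m ≥ 0 be such that H^i(X, 𝓘^n/𝓘^(n+1)) = H^i(X_0, O_{X_0}(−n))
vanishes for i = 1, 2 and every n > m (over an affine base this is the vanishing of the higher
direct images R^i f_{0*}). Then pull-back of invertible modules Pic(X) → Pic(X_m) is bijective: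
trivial kernel and surjective on isomorphism classes. -/
theorem result (A : Type u) [CommRing A] [IsNoetherianRing A] (X : Scheme.{u}) [X.Over (Spec (CommRingCat.of A))] [IsProper (X ↘ Spec (CommRingCat.of A))] [Flat (X ↘ Spec (CommRingCat.of A))] (𝓘 : X.IdealSheafData) (L : X.Modules) (hL : ClSub.IsInverseOf L (ClSub.idealMod 𝓘)) (hamp : CohB1.IsAmple L) [Flat (𝓘.subschemeι ≫ (X ↘ Spec (CommRingCat.of A)))] (hdepth : ∀ x : X, IsClosed ({((X ↘ Spec (CommRingCat.of A))).asFiber x} : Set ↥(((X ↘ Spec (CommRingCat.of A))).fiber (((X ↘ Spec (CommRingCat.of A))).base x))) → (3 : ℕ∞) ≤ LocCoh.depth ↑(CInt.fiberStalk (X ↘ Spec (CommRingCat.of A)) x) ↑(CInt.fiberStalk (X ↘ Spec (CommRingCat.of A)) x)) (hpf : ∀ x : X, IsClosed ({((X ↘ Spec (CommRingCat.of A))).asFiber x} : Set ↥(((X ↘ Spec (CommRingCat.of A))).fiber (((X ↘ Spec (CommRingCat.of A))).base x))) → x ∉ (𝓘.support : Set X) → ParaF.IsParafactorialLocalRing ↑(CInt.fiberStalk (X ↘ Spec (CommRingCat.of A)) x)) (m :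 ℕ) (hH : ∀ n : ℕ, m < n → ∀ i : ℕ, (i = 1 ∨ i = 2) → Subsingleton (Coh.HH X ((DCoh.tensorBi.obj (CohB1.tensorPow (ClSub.idealMod 𝓘) n)).obj (ClSub.quotMod 𝓘)) i)) : Formal2.PicPullbackInjective (𝓘 ^ (m + 1)).subschemeι ∧ Formal2.PicPullbackSurjective (𝓘 ^ (m + 1)).subschemeι := by
  haveI : IsLocallyNoetherian X := LocallyOfFiniteType.isLocallyNoetherian (X ↘ Spec (CommRingCat.of A))
  have h2 : ∀ x : X, IsClosed ({((X ↘ Spec (CommRingCat.of A))).asFiber x} : Set ↥(((X ↘ Spec (CommRingCat.of A))).fiber (((X ↘ Spec (CommRingCat.of A))).base x))) → (2 : ℕ∞) ≤ LocCoh.depth ↑(CInt.fiberStalk (X ↘ Spec (CommRingCat.of A)) x) ↑(CInt.fiberStalk (X ↘ Spec (CommRingCat.of A)) x) :=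
    fun x hx => le_trans (by norm_num) (hdepth x hx)
  obtain ⟨e⟩ := hL
  have e' : CohB1.tensorMod (ClSub.idealMod 𝓘) L ≅ Coh.structureModule X := _root_.TMul.commIso _ _ ≪≫ e
  have hi : PicF.IsInvertible (ClSub.idealMod 𝓘) := Groth.Agent.S2122.result _ _ e'
  have hL' : ClSub.IsInverseOf L (ClSub.idealMod 𝓘) := ⟨e⟩
  obtain ⟨hflat, hd⟩ := Groth.Agent.LefRel.structure_hyp A (X := X) 2 h2
  obtain ⟨m₀, hm₀⟩ := Groth.Agent.LefRel.exists_vanishing A (Coh.structureModule X)
    Groth.Agent.RefStalk.isCoh_structureModule hflat 2 hd hamp hi ⟨e'⟩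
  have hLeff : LefX.LeffCond X 𝓘 := Groth.Agent.LeffAmple.leff_of_structure A hL' hamp
    (Groth.Agent.LefRel.lefCond A hL' hamp h2)
    (fun P hP => Groth.Agent.LefRel.homToFormal_coherent A hL' hamp h2 P
      (Groth.Agent.K0Coh.isCoh_of_isFinLocFree (Groth.Agent.ResDesc.isFinLocFree_of_isInvertible hP)))
    ⟨m₀, fun n hn j hj => Groth.Agent.CohQC.hh_subsingleton_of_iso (_root_.TMul.leftUnitIso _) j (hm₀ n hn j hj)⟩
    ⟨m + 1, fun n hn => hH n (by omega) 1 (Or.inl rfl)⟩
  refine Groth.Agent.LeffAmple.pic_thickening A hL' hLeff m (fun n hn i hi' => hH n (by omega) i hi') ?_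
  intro U hU x hx
  have hc := Groth.Agent.LefDiv.isClosed_asFiber_of_disjoint (X ↘ Spec (CommRingCat.of A)) 𝓘 L hL' hamp
    ((U : Set X)ᶜ) U.isOpen.isClosed_compl (Set.disjoint_left.2 fun z hz hz' => hz (hU hz')) x hx
  exact Groth.Agent.FlatParaF.isParafactorial_stalk_of_fibre (X ↘ Spec (CommRingCat.of A)) x (hdepth x hc)
    (hpf x hc fun h => hx (hU h))

end Groth.Agent.S5193
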