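import Groth.Statements.S5194
import Groth.Agent.LefZero.RelLef

set_option autoImplicit false
set_option backward.isDefEq.respectTransparency false
set_option backward.isDefEq.respectTransparency.types false
set_option maxHeartbeats 1000000
set_option linter.style.haveILetI false

universe u
open CategoryTheory CategoryTheory.Limits AlgebraicGeometry
open LefX

namespace Groth.Agent.S5194

/-- Over an affine base. Let A be a Noetherian ring, X a proper flat A-scheme, 𝓘 a quasi-coherent ideal
whose ideal module is invertible with ample inverse L, such that X_0 = V(𝓘) is also flat over A (X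
projective over A, 𝓘 cut out by a section of L regular on every fibre). Assume that every fibre X_s
has depth ≥ 3 at each of its closed points, and that at every point x outside X_0 which is closed in
its fibre the local ring of the fibre X_s at x is pure: for every open V of its spectrum,
restriction of finite étale covers from V to V minus the closed point is an equivalence (for
instance a complete intersection, of dimension ≥ 3 here). Then restriction of finite étale covers
from X to X_0 is an equivalence of categories; in particular π_1(X_0) → π_1(X) is an isomorphism for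
a geometric base point on X_0. -/
theorem result (A : Type u) [CommRing A] [IsNoetherianRing A] (X : Scheme.{u}) [X.Over (Spec (CommRingCat.of A))] [IsProper (X ↘ Spec (CommRingCat.of A))] [Flat (X ↘ Spec (CommRingCat.of A))] (𝓘 : X.IdealSheafData) (L : X.Modules) (hL : ClSub.IsInverseOf L (ClSub.idealMod 𝓘)) (hamp : CohB1.IsAmple L) [Flat (𝓘.subschemeι ≫ (X ↘ Spec (CommRingCat.of A)))] (hdepth : ∀ x : X, IsClosed ({((X ↘ Spec (CommRingCat.of A))).asFiber x} : Set ↥(((X ↘ Spec (CommRingCat.of A))).fiber (((X ↘ Spec (CommRingCat.of A))).base x))) → (3 : ℕ∞) ≤ LocCoh.depth ↑(CInt.fiberStalk (X ↘ Spec (CommRingCat.of A)) x) ↑(CInt.fiberStalk (X ↘ Spec (CommRingCat.of A)) x)) (hpure : ∀ x : X, IsClosed ({((X ↘ Spec (CommRingCat.of A))).asFiber x} : Set ↥(((X ↘ Spec (CommRingCat.of A))).fiber (((X ↘ Spec (CommRingCat.of A))).base x))) → x ∉ (𝓘.support : Set X) → SGA2.IsPurePair (Spec (CommRingCat.of ↑(CInt.fiberStalk (X ↘ Spec (CommRingCat.of A)) x))) (FEt.puncturedSpec ↑(CInt.fiberStalk (X ↘ Spec (CommRingCat.of A)) x))) : (FEt.restrict 𝓘.subschemeι).IsEquivalence := by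
  haveI : IsLocallyNoetherian X := LocallyOfFiniteType.isLocallyNoetherian (X ↘ Spec (CommRingCat.of A))
  refine Groth.Agent.LefEssSurj.isEquivalence_of_leff_pure 𝓘
    (Groth.Agent.LefZero.leffCond_of_depth_three A hL hamp hdepth) fun U hU x hx => ?_
  have hc := Groth.Agent.LefDiv.isClosed_asFiber_of_disjoint (X ↘ Spec (CommRingCat.of A)) 𝓘 L hL hamp
    ((U : Set X)ᶜ) U.isOpen.isClosed_compl (Set.disjoint_left.2 fun z hz hz' => hz (hU hz')) x hx
  exact Groth.Agent.LefZero.depth_purity_of_fibre _ x (le_trans (by norm_num) (hdepth x hc))
    (Groth.Agent.LefZero.purityHolds_of_isPurePair (hpure x hc fun h => hx (hU h)))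

end Groth.Agent.S5194
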