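import Groth.Statements.S5212
import Mathlib

set_option autoImplicit false
universe u
open GrpQ

namespace Groth.Agent.S5212

open scoped TensorProduct

/-- For `A'` finite and free as an `A`-module, a prime `p` of `A` and `a ∈ A'`, the element `a` belongs
to some prime of `A'` lying over `p` if and only if its norm belongs to `p`. (The published
statement allows `A'` projective of constant rank over `A`; this row takes `A'` free, where the norm
is the determinant of multiplication.) -/
theorem result {A A' : Type u} [CommRing A] [CommRing A'] [Algebra A A']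
    [Module.Free A A'] [Module.Finite A A'] (p : Ideal A) [p.IsPrime] (a : A') :
    (∃ q : Ideal A', q.IsPrime ∧ q.LiesOver p ∧ a ∈ q) ↔ Algebra.norm A a ∈ p := by
  let e := PrimeSpectrum.preimageEquivFiber A A' ⟨p, ‹_›⟩
  have hnorm : Algebra.norm A a ∈ p ↔ ¬ IsUnit ((1 : p.ResidueField) ⊗ₜ[A] a) := by
    rw [← Ideal.algebraMap_residueField_eq_zero, Algebra.norm_apply, ← LinearMap.det_baseChange,
      Algebra.baseChange_lmul, ← not_ne_iff, ← isUnit_iff_ne_zero]
    refine not_congr ⟨fun h => ?_, fun h => ?_⟩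
    · have hb := (LinearMap.isUnit_iff_isUnit_det _).2 h
      obtain ⟨x, hx⟩ := ((Module.End.isUnit_iff _).1 hb).2 1
      exact IsUnit.of_mul_eq_one x hx
    · exact (h.map (Algebra.lmul p.ResidueField _)).map LinearMap.det
  rw [hnorm]
  constructor
  · rintro ⟨q, hq, hqp, haq⟩ hu
    have hq' : (⟨q, hq⟩ : PrimeSpectrum A') ∈ PrimeSpectrum.comap (algebraMap A A') ⁻¹' {⟨p, ‹_›⟩} :=
      PrimeSpectrum.ext hqp.over.symm
    let Q := e ⟨⟨q, hq⟩, hq'⟩
    have hQ := congrArg (fun z => z.1.asIdeal) (e.symm_apply_apply ⟨⟨q, hq⟩, hq'⟩)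
    have ha' : a ∈ (e.symm Q).1.asIdeal := hQ.symm ▸ haq
    exact Q.isPrime.ne_top (Ideal.eq_top_of_isUnit_mem _ ha' hu)
  · intro hu
    obtain ⟨m, hm, hmem⟩ := exists_max_ideal_of_mem_nonunits (show _ ∈ nonunits _ from hu)
    let q := e.symm ⟨m, hm.isPrime⟩
    exact ⟨q.1.asIdeal, q.1.isPrime, ⟨(congrArg PrimeSpectrum.asIdeal q.2).symm⟩, hmem⟩

end Groth.Agent.S5212
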