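import Groth.Statements.S5213
import Mathlib

set_option autoImplicit false
universe u
open GrpQ

namespace Groth.Agent.S5213

/-- Let `B` be a local ring with infinite residue field, `A` a semi-local ring, `B → A` a ring map
carrying the maximal ideal of `B` into the Jacobson radical of `A`, `M` a finite free `A`-module and
`N` a `B`-submodule of `M` generating `M` as an `A`-module. Then `N` contains a basis of `M` over
`A`. -/
theorem result {B A M : Type u} [CommRing B] [CommRing A]
    [IsLocalRing B] [Infinite (IsLocalRing.ResidueField B)] [Algebra B A]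
    [Finite (MaximalSpectrum A)]
    (hBA : (IsLocalRing.maximalIdeal B).map (algebraMap B A) ≤ (⊥ : Ideal A).jacobson)
    [AddCommGroup M] [Module A M] [Module B M] [IsScalarTower B A M]
    [Module.Free A M] [Module.Finite A M]
    (N : Submodule B M) (hN : Submodule.span A (N : Set M) = ⊤) :
    ∃ b : Module.Basis (Fin (Module.finrank A M)) A M, ∀ i, b i ∈ N := by
  classical
  let n := Module.finrank A M
  have hnt : Nontrivial A ∨ Subsingleton A := (subsingleton_or_nontrivial A).symm
  rcases hnt with _ | _
  swap
  · have : Subsingleton M := Module.subsingleton A M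
    obtain ⟨b⟩ : Nonempty (Module.Basis (Fin n) A M) := ⟨Module.Basis.ofEquivFun
      { toFun := fun _ => 0, invFun := fun _ => 0, map_add' := fun _ _ => (add_zero _).symm,
        map_smul' := fun _ _ => (smul_zero _).symm, left_inv := fun _ => Subsingleton.elim _ _,
        right_inv := fun _ => Subsingleton.elim _ _ }⟩
    exact ⟨b, fun i => (Subsingleton.elim (0 : M) (b i)) ▸ N.zero_mem⟩
  let b₀ : Module.Basis (Fin n) A M := Module.finBasis A M
  let π : ∀ m : MaximalSpectrum A, M →ₗ[A] (Fin n → A ⧸ m.asIdeal) := fun m =>
    LinearMap.pi fun i => (Algebra.linearMap A (A ⧸ m.asIdeal)) ∘ₗ b₀.coord i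
  have hπ : ∀ m, Function.Surjective (π m) := fun m v => by
    choose c hc using fun i => Ideal.Quotient.mk_surjective (v i)
    refine ⟨∑ i, c i • b₀ i, funext fun i => ?_⟩
    simp only [π, LinearMap.pi_apply, LinearMap.comp_apply, Module.Basis.coord_apply, Module.Basis.repr_sum_self]
    exact hc i
  have step : ∀ j ≤ n, ∃ x : Fin j → M, (∀ i, x i ∈ N) ∧
      ∀ m : MaximalSpectrum A, LinearIndependent (A ⧸ m.asIdeal) fun i => π m (x i) := by
    intro j
    induction j with
    | zero => exact fun _ => ⟨Fin.elim0, fun i => i.elim0, fun m => linearIndependent_empty_type⟩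
    | succ j ih =>
      intro hj
      obtain ⟨x, hxN, hx⟩ := ih (Nat.le_of_succ_le hj)
      let k := B ⧸ IsLocalRing.maximalIdeal B
      letI : Field k := Ideal.Quotient.field _
      haveI : Infinite k := ‹Infinite (IsLocalRing.ResidueField B)›
      let V := N ⧸ (IsLocalRing.maximalIdeal B • ⊤ : Submodule B N)
      let U : MaximalSpectrum A → Submodule B N := fun m => ((Submodule.span A (Set.range fun i => π m (x i))).comap
        (π m) |>.restrictScalars B).comap N.subtype
      have hmax : ∀ (m : MaximalSpectrum A) (r : B), r ∈ IsLocalRing.maximalIdeal B → algebraMap B A r ∈ m.asIdeal := by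
        intro m r hr
        have := hBA (Ideal.mem_map_of_mem _ hr)
        exact (Ideal.mem_sInf.1 this) ⟨bot_le, m.isMaximal⟩
      have hle : ∀ m, (IsLocalRing.maximalIdeal B • ⊤ : Submodule B N) ≤ U m := fun m => by
        refine Submodule.smul_le.2 fun r hr y _ => ?_
        show π m (r • (y : M)) ∈ Submodule.span A _
        have h0 : π m (algebraMap B A r • (y : M)) = 0 := by
          funext i
          show Ideal.Quotient.mk m.asIdeal (b₀.repr (algebraMap B A r • (y : M)) i) = 0
          rw [map_smul, Finsupp.smul_apply, smul_eq_mul, map_mul,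
            Ideal.Quotient.eq_zero_iff_mem.2 (hmax m r hr), zero_mul]
        rw [← algebraMap_smul A r (y : M), h0]
        exact zero_mem _
      have hne : ∀ m, (U m).map (Submodule.mkQ (IsLocalRing.maximalIdeal B • ⊤ : Submodule B N)) ≠ ⊤ := by
        intro m htop
        have hU : U m = ⊤ := by
          rw [← Submodule.comap_map_eq_self (f := Submodule.mkQ (IsLocalRing.maximalIdeal B • ⊤ : Submodule B N))
            (p := U m) ((Submodule.ker_mkQ _).trans_le (hle m)),
            htop, Submodule.comap_top]
        have hspan : (⊤ : Submodule A M) ≤ (Submodule.span A (Set.range fun i => π m (x i))).comap (π m) := by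
          rw [← hN, Submodule.span_le]
          intro y hy
          exact (hU ▸ Submodule.mem_top : (⟨y, hy⟩ : N) ∈ U m)
        have h2 : ⊤ ≤ Submodule.span (A ⧸ m.asIdeal) (Set.range fun i => π m (x i)) := by
          intro v _
          obtain ⟨y, rfl⟩ := hπ m v
          exact Submodule.span_le_restrictScalars A (A ⧸ m.asIdeal) _ (hspan (trivial : y ∈ (⊤ : Submodule A M)))
        letI := Ideal.Quotient.field m.asIdeal
        have h3 := finrank_range_le_card (R := A ⧸ m.asIdeal) (fun i => π m (x i))
        rw [Set.finrank, top_le_iff.1 h2, finrank_top, Module.finrank_fin_fun, Fintype.card_fin] at h3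
        omega
      let p : MaximalSpectrum A → Submodule k V := fun m =>
        { toAddSubmonoid := ((U m).map (Submodule.mkQ _)).toAddSubmonoid
          smul_mem' := fun c v hv => by
            obtain ⟨r, rfl⟩ := Ideal.Quotient.mk_surjective c
            rw [show Ideal.Quotient.mk (IsLocalRing.maximalIdeal B) r • v = r • v from algebraMap_smul k r v]
            exact ((U m).map (Submodule.mkQ _)).smul_mem r hv }
      obtain ⟨v, hv⟩ := Submodule.exists_forall_notMem_of_forall_ne_top p fun m h =>
        hne m (Submodule.eq_top_iff'.2 fun v => (Submodule.eq_top_iff'.1 h v : _))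
      obtain ⟨y, rfl⟩ := Submodule.mkQ_surjective _ v
      refine ⟨Fin.snoc x (y : M), fun i => ?_, fun m => ?_⟩
      · refine Fin.lastCases ?_ (fun i => ?_) i
        · simp
        · simpa using hxN i
      · letI := Ideal.Quotient.field m.asIdeal
        rw [show (fun i => π m (Fin.snoc (α := fun _ => M) x (y : M) i)) = Fin.snoc (fun i => π m (x i)) (π m y) from
          Fin.comp_snoc (π m) x _]
        refine linearIndependent_finSnoc.2 ⟨hx m, fun hmem => hv m ⟨y, ?_, rfl⟩⟩
        show π m (y : M) ∈ Submodule.span A _
        rwa [← Submodule.restrictScalars_span A (A ⧸ m.asIdeal) Ideal.Quotient.mk_surjective]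
  obtain ⟨x, hxN, hx⟩ := step n le_rfl
  have hdet : IsUnit (b₀.det x) := by
    by_contra hu
    obtain ⟨m, hm, hmem⟩ := exists_max_ideal_of_mem_nonunits (show _ ∈ nonunits A from hu)
    let m' : MaximalSpectrum A := ⟨m, hm⟩
    letI := Ideal.Quotient.field m
    let T := (b₀.toMatrix x).map (Ideal.Quotient.mk m)
    have h0 : T.det = 0 := by
      show ((b₀.toMatrix x).map (Ideal.Quotient.mk m)).det = 0
      rw [← RingHom.mapMatrix_apply, ← RingHom.map_det, ← b₀.det_apply]
      exact Ideal.Quotient.eq_zero_iff_mem.2 hmem
    have h1 : IsUnit T := Matrix.linearIndependent_cols_iff_isUnit.1 (hx m')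
    exact ((Matrix.isUnit_iff_isUnit_det T).1 h1).ne_zero h0
  obtain ⟨hli, hsp⟩ := (Module.Basis.is_basis_iff_det b₀).2 hdet
  exact ⟨Module.Basis.mk hli hsp.ge, fun i => by rw [Module.Basis.mk_apply]; exact hxN i⟩

end Groth.Agent.S5213
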