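import Groth.Statements.S5220


set_option autoImplicit false
open CategoryTheory CategoryTheory.Limits
universe w v₁ u₁
open GrpQ

namespace Groth.Agent.S5220

/-- In a category with pullbacks: let `d₀ d₁ : X₁ ⇉ X₀` admit a common section and let `f₀ : Y₀ ⟶ X₀` be
an effective epimorphism which is also a universal epimorphism. For the inverse-image pair `Y₁ :=
(Y₀ ×_{X₀,d₁} X₁) ×_{d₀,X₀} Y₀ ⇉ Y₀`, every morphism out of `Y₀` equalized by the two projections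
descends uniquely to a morphism out of `X₀` equalized by `d₀, d₁`. (Only the common section of the
groupoid structure is used.) -/
theorem result {C : Type u₁} [Category.{v₁} C] [HasPullbacks C]
    {X₁ X₀ Y₀ : C} (d₀ d₁ : X₁ ⟶ X₀) (s : X₀ ⟶ X₁) (hs₀ : s ≫ d₀ = 𝟙 X₀) (hs₁ : s ≫ d₁ = 𝟙 X₀)
    (f₀ : Y₀ ⟶ X₀) [EffectiveEpi f₀]
    (hf : MorphismProperty.universally (MorphismProperty.epimorphisms C) f₀)
    {T : C} (g : Y₀ ⟶ T)
    (hg : (pullback.fst (pullback.snd f₀ d₁ ≫ d₀) f₀ ≫ pullback.fst f₀ d₁) ≫ g =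
      pullback.snd (pullback.snd f₀ d₁ ≫ d₀) f₀ ≫ g) :
    ∃! h : X₀ ⟶ T, d₁ ≫ h = d₀ ≫ h ∧ f₀ ≫ h = g := by
  have hker : ∀ {Z : C} (u v : Z ⟶ Y₀), u ≫ f₀ = v ≫ f₀ → u ≫ g = v ≫ g := by
    intro Z u v huv
    let l₁ : Z ⟶ pullback f₀ d₁ := pullback.lift u (u ≫ f₀ ≫ s) (by simp [hs₁])
    let l₂ : Z ⟶ pullback (pullback.snd f₀ d₁ ≫ d₀) f₀ :=
      pullback.lift l₁ v (by
      rw [pullback.lift_snd_assoc, Category.assoc, Category.assoc, hs₀, Category.comp_id, huv])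
    have := congrArg (l₂ ≫ ·) hg
    simp only [l₁, l₂, Category.assoc] at this
    rwa [pullback.lift_fst_assoc, pullback.lift_fst_assoc, pullback.lift_snd_assoc] at this
  have hepi : ∀ {P Q : C} (f' : P ⟶ Q) (i₁ : P ⟶ Y₀) (i₂ : Q ⟶ X₀),
      IsPullback i₁ f' f₀ i₂ → Epi f' := fun f' i₁ i₂ hp => hf i₁ i₂ f' hp.flip
  haveI : Epi (pullback.snd f₀ d₁) := hepi _ _ _ (IsPullback.of_hasPullback f₀ d₁)
  haveI : Epi (pullback.fst (pullback.snd f₀ d₁ ≫ d₀) f₀) :=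
    hepi _ _ _ (IsPullback.of_hasPullback (pullback.snd f₀ d₁ ≫ d₀) f₀).flip
  refine ⟨EffectiveEpi.desc f₀ g hker, ⟨?_, EffectiveEpi.fac f₀ g hker⟩,
    fun h hh => EffectiveEpi.uniq f₀ g hker h hh.2⟩
  rw [← cancel_epi (pullback.snd f₀ d₁),
    ← cancel_epi (pullback.fst (pullback.snd f₀ d₁ ≫ d₀) f₀),
    ← pullback.condition_assoc (f := f₀) (g := d₁), EffectiveEpi.fac,
    ← Category.assoc (pullback.snd f₀ d₁) d₀,
    pullback.condition_assoc (f := pullback.snd f₀ d₁ ≫ d₀) (g := f₀), EffectiveEpi.fac]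
  simpa using hg

end Groth.Agent.S5220
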