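import Groth.Statements.S5221
import Groth.Agent.S5220

set_option autoImplicit false
open CategoryTheory CategoryTheory.Limits
universe w v₁ u₁
open GrpQ

namespace Groth.Agent.S5221

/-- Existence part: in a category with pullbacks: with `d₀ d₁ : X₁ ⇉ X₀` admitting a common section and
`f₀ : Y₀ ⟶ X₀` an effective and universal epimorphism, the pair `(d₀, d₁)` has a coequalizer if and
only if its inverse-image pair on `Y₀` has one. -/
theorem result {C : Type u₁} [Category.{v₁} C] [HasPullbacks C]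
    {X₁ X₀ Y₀ : C} (d₀ d₁ : X₁ ⟶ X₀) (s : X₀ ⟶ X₁) (hs₀ : s ≫ d₀ = 𝟙 X₀) (hs₁ : s ≫ d₁ = 𝟙 X₀)
    (f₀ : Y₀ ⟶ X₀) [EffectiveEpi f₀]
    (hf : MorphismProperty.universally (MorphismProperty.epimorphisms C) f₀) :
    HasCoequalizer d₁ d₀ ↔
      HasCoequalizer (pullback.fst (pullback.snd f₀ d₁ ≫ d₀) f₀ ≫ pullback.fst f₀ d₁)
        (pullback.snd (pullback.snd f₀ d₁ ≫ d₀) f₀) := by
  set a := pullback.fst (pullback.snd f₀ d₁ ≫ d₀) f₀ ≫ pullback.fst f₀ d₁ with ha
  set b := pullback.snd (pullback.snd f₀ d₁ ≫ d₀) f₀ with hb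
  have hw : ∀ {T : C} (h : X₀ ⟶ T), d₁ ≫ h = d₀ ≫ h → a ≫ f₀ ≫ h = b ≫ f₀ ≫ h := by
    intro T h hh
    rw [ha, hb, Category.assoc, pullback.condition_assoc (f := f₀) (g := d₁), hh,
      ← Category.assoc (pullback.snd f₀ d₁) d₀,
      pullback.condition_assoc (f := pullback.snd f₀ d₁ ≫ d₀) (g := f₀)]
  haveI : Epi f₀ := inferInstance
  constructor
  · intro hq
    refine HasColimit.mk ⟨Cofork.ofπ (f₀ ≫ coequalizer.π d₁ d₀)
      (hw _ (coequalizer.condition d₁ d₀)), Cofork.IsColimit.mk' _ fun t => ?_⟩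
    let h := (Groth.Agent.S5220.result d₀ d₁ s hs₀ hs₁ f₀ hf t.π t.condition).exists.choose
    obtain ⟨hh, hfh⟩ : d₁ ≫ h = d₀ ≫ h ∧ f₀ ≫ h = t.π :=
      (Groth.Agent.S5220.result d₀ d₁ s hs₀ hs₁ f₀ hf t.π t.condition).exists.choose_spec
    refine ⟨coequalizer.desc h hh, ?_, fun {m} hm => ?_⟩
    · simp [hfh]
    · change coequalizer d₁ d₀ ⟶ t.pt at m
      refine coequalizer.hom_ext (k := m) ?_
      rw [coequalizer.π_desc, ← cancel_epi f₀, hfh]
      simpa using hm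
  · intro hq
    obtain ⟨h, ⟨hh, hfh⟩, -⟩ :=
      Groth.Agent.S5220.result d₀ d₁ s hs₀ hs₁ f₀ hf (coequalizer.π a b) (coequalizer.condition a b)
    refine HasColimit.mk ⟨Cofork.ofπ h hh, Cofork.IsColimit.mk' _ fun t => ?_⟩
    refine ⟨coequalizer.desc (f₀ ≫ t.π) (hw _ t.condition), ?_, fun {m} hm => ?_⟩
    · rw [← cancel_epi f₀]
      simp [reassoc_of% hfh]
    · change (m : coequalizer a b ⟶ t.pt) = coequalizer.desc (f₀ ≫ t.π) (hw _ t.condition)
      change coequalizer a b ⟶ t.pt at m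
      refine coequalizer.hom_ext (k := m) ?_
      rw [coequalizer.π_desc, ← hfh, Category.assoc]
      exact congrArg (f₀ ≫ ·) hm

end Groth.Agent.S5221
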