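import Groth.Statements.S5223
import Groth.Agent.FibreFlat.Stalk
import Groth.Agent.GrpField.FlatPoint
import Mathlib

set_option autoImplicit false
open CategoryTheory CategoryTheory.Limits AlgebraicGeometry
universe u
open GrpQ

namespace Groth.Agent.S5223

/-- In a cartesian square of schemes `F₂ = F₁ ×_{X₀} X₁` whose bottom map `u : X₁ ⟶ X₀` is flat, the
base-changed map `d' : F₂ ⟶ X₁` is flat at a point `x` if and only if `d : F₁ ⟶ X₀` is flat at the
image of `x` in `F₁`. -/
theorem result {F₂ F₁ X₁ X₀ : Scheme.{u}}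
    {v : F₂ ⟶ F₁} {d' : F₂ ⟶ X₁} {d : F₁ ⟶ X₀} {u : X₁ ⟶ X₀}
    (h : IsPullback v d' d u) [Flat u] (x : F₂) :
    (d'.stalkMap x).hom.Flat ↔ (d.stalkMap (v.base x)).hom.Flat := by
  have : Flat v := MorphismProperty.of_isPullback (P := @Flat) h.flip ‹Flat u›
  constructor
  · intro hd
    refine Groth.Agent.FibreFlat.flatAt_of_comp (Groth.Agent.FibreFlat.flatAt_of_flat v x) ?_
    rw [h.w]
    exact Groth.Agent.FibreFlat.flatAt_comp hd (Groth.Agent.FibreFlat.flatAt_of_flat u _)
  · intro hd
    let j := F₁.fromSpecStalk (v x)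
    have : Flat j := Groth.Agent.GrpField.flat_fromSpecStalk (v x)
    have hj : Flat (j ≫ d) := by
      rw [← Scheme.SpecMap_stalkMap_fromSpecStalk]
      have : Flat (Spec.map (d.stalkMap (v x))) := Flat.SpecMap_iff.2 hd
      have := Groth.Agent.GrpField.flat_fromSpecStalk (d (v x))
      infer_instance
    have sq := (IsPullback.of_hasPullback j v).paste_vert h
    have hflat : Flat (pullback.snd j v ≫ d') := MorphismProperty.of_isPullback (P := @Flat) sq hj
    obtain ⟨p, -, hp⟩ := Scheme.Pullback.exists_preimage_pullback (f := j) (g := v)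
      (IsLocalRing.closedPoint (F₁.presheaf.stalk (v x)) : Spec (F₁.presheaf.stalk (v x))) x
      (Scheme.fromSpecStalk_closedPoint)
    have := Groth.Agent.FibreFlat.flatAt_of_comp (u := p) (g := d') (q := pullback.snd j v)
      (Groth.Agent.FibreFlat.flatAt_of_flat _ p) (Groth.Agent.FibreFlat.flatAt_of_flat _ p)
    rwa [hp] at this

end Groth.Agent.S5223
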