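import Groth.Statements.S5226
import Groth.Agent.EquivRelSh.Basic

set_option autoImplicit false
open CategoryTheory CategoryTheory.Limits
universe w v₁ u₁
open ShfCat

namespace Groth.Agent.S5226

/-- For sheaves of sets on a site with sheafification: if `R ⇉ X` is an equivalence relation with
(universally effective) quotient `X/R` and `Y ⊆ X` is a subsheaf with induced relation `R_Y`, then
the canonical map `Y/R_Y ⟶ X/R` is a monomorphism. Here `R_Y` is built as the iterated pullback of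
`R` along `Y ⟶ X` on both sides. -/
theorem result {C : Type u₁} [Category.{v₁} C]
    (J : GrothendieckTopology C) [HasSheafify J (Type w)]
    {R X Y : Sheaf J (Type w)} {p₁ p₂ : R ⟶ X} (e : UniversallyEffectiveEquivalenceRelation p₁ p₂)
    (ι : Y ⟶ X) [Mono ι]
    [HasCoequalizer (pullback.fst (pullback.fst p₁ ι ≫ p₂) ι ≫ pullback.snd p₁ ι)
      (pullback.snd (pullback.fst p₁ ι ≫ p₂) ι)]
    (g : coequalizer (pullback.fst (pullback.fst p₁ ι ≫ p₂) ι ≫ pullback.snd p₁ ι)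
      (pullback.snd (pullback.fst p₁ ι ≫ p₂) ι) ⟶ e.B)
    (hg : coequalizer.π _ _ ≫ g = ι ≫ e.π) :
    Mono g := by
  refine ⟨fun {Z} a b hab => ?_⟩
  let P1 := pullback p₁ ι
  let Q := coequalizer (pullback.fst (pullback.fst p₁ ι ≫ p₂) ι ≫ pullback.snd p₁ ι) (pullback.snd (pullback.fst p₁ ι ≫ p₂) ι)
  let π : Y ⟶ Q := coequalizer.π _ _
  have hs₁ := Groth.Agent.EquivRelSh.epi_of_isPullback_sheaf J (IsPullback.of_hasPullback π a)
  let s₁ := pullback.snd π a
  let y := pullback.fst π a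
  have hy : y ≫ π = s₁ ≫ a := pullback.condition
  have hs₂ := Groth.Agent.EquivRelSh.epi_of_isPullback_sheaf J (IsPullback.of_hasPullback π (s₁ ≫ b))
  let s₂ := pullback.snd π (s₁ ≫ b)
  let y' := pullback.fst π (s₁ ≫ b)
  have hy' : y' ≫ π = s₂ ≫ s₁ ≫ b := pullback.condition
  have hk : (s₂ ≫ y ≫ ι) ≫ e.π = (y' ≫ ι) ≫ e.π := by
    simp only [Category.assoc]
    rw [← hg]
    change s₂ ≫ y ≫ π ≫ g = y' ≫ π ≫ g
    rw [reassoc_of% hy, reassoc_of% hy', hab]
  let k := e.isKernelPair.lift _ _ hk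
  have hk₁ : k ≫ p₁ = (s₂ ≫ y) ≫ ι := (e.isKernelPair.lift_fst _ _ hk).trans (Category.assoc _ _ _).symm
  let m := pullback.lift k (s₂ ≫ y) hk₁
  have hm : (m ≫ pullback.fst p₁ ι ≫ p₂) = y' ≫ ι := by
    rw [pullback.lift_fst_assoc]
    exact e.isKernelPair.lift_snd _ _ hk
  have h := pullback.lift m y' ((Category.assoc _ _ _).trans hm) ≫= coequalizer.condition
    (pullback.fst (pullback.fst p₁ ι ≫ p₂) ι ≫ pullback.snd p₁ ι) (pullback.snd (pullback.fst p₁ ι ≫ p₂) ι)
  simp only [Category.assoc, pullback.lift_fst_assoc, pullback.lift_snd_assoc, m] at h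
  change s₂ ≫ y ≫ π = y' ≫ π at h
  rw [hy, hy', ← Category.assoc, ← Category.assoc] at h
  haveI : Epi s₁ := hs₁
  haveI : Epi s₂ := hs₂
  exact (cancel_epi (s₂ ≫ s₁)).1 h

end Groth.Agent.S5226
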