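import Groth.Statements.S5228
import Mathlib

set_option linter.style.haveILetI false

set_option autoImplicit false
universe w u
open HopfRep

namespace Groth.Agent.S5228

/-- Over an affine base, in comodule form: for a representation `V` of a diagonalizable group `D(M)`
over a commutative ring `k` (a `k[M]`-comodule), every sub-representation which is a direct summand
as a `k`-module is a direct summand as a representation. (The published statement: a short exact
sequence of quasi-coherent `D(M)`-modules that splits as a sequence of modules splits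
equivariantly.) -/
theorem result {k : Type u} [CommRing k] {M : Type u} [CommGroup M]
    (V : Type w) [AddCommGroup V] [Module k V] [HopfRep.Comod k (MonoidAlgebra k M) V]
    (W : Submodule k V) (hW : HopfRep.IsSubcomod (k := k) (A := MonoidAlgebra k M) W)
    (hsplit : ∃ W' : Submodule k V, IsCompl W W') :
    ∃ W'' : Submodule k V, HopfRep.IsSubcomod (k := k) (A := MonoidAlgebra k M) W'' ∧ IsCompl W W'' := by
  classical
  let b : Module.Basis M k (MonoidAlgebra k M) := MonoidAlgebra.basis M k
  let c : V →ₗ[k] M →₀ V := (TensorProduct.equivFinsuppOfBasisRight b).toLinearMap ∘ₗ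
    HopfRep.Comod.coact (k := k) (A := MonoidAlgebra k M)
  have hexp : ∀ v, HopfRep.Comod.coact (k := k) (A := MonoidAlgebra k M) v = (c v).sum fun m x => x ⊗ₜ b m := by
    intro v
    conv_lhs => rw [← (TensorProduct.equivFinsuppOfBasisRight b).symm_apply_apply
      (HopfRep.Comod.coact (k := k) (A := MonoidAlgebra k M) v), TensorProduct.equivFinsuppOfBasisRight_symm_apply]
    rfl
  have hcomul : ∀ m, CoalgebraStruct.comul (R := k) (b m) = b m ⊗ₜ[k] b m := fun m => by
    simp [b]
  have hcounit : ∀ m, CoalgebraStruct.counit (R := k) (b m) = (1 : k) := fun m => by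
    simp [b]
  have hsum : ∀ v, ((c v).sum fun _ x => x) = v := by
    intro v
    have h := congr(TensorProduct.rid k V ($(HopfRep.Comod.counit_comp (k := k) (A := MonoidAlgebra k M) (V := V)) v))
    simp only [LinearMap.comp_apply, hexp v, map_finsuppSum, LinearMap.lTensor_tmul, hcounit,
      TensorProduct.rid_tmul, LinearMap.flip_apply, TensorProduct.mk_apply, one_smul] at h
    exact h
  have horth : ∀ v n, HopfRep.Comod.coact (k := k) (A := MonoidAlgebra k M) (c v n) = c v n ⊗ₜ b n := by
    intro v n
    have h := LinearMap.congr_fun (HopfRep.Comod.coassoc (k := k) (A := MonoidAlgebra k M) (V := V)) v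
    simp only [LinearMap.comp_apply, LinearEquiv.coe_coe] at h
    rw [hexp v] at h
    simp only [map_finsuppSum, LinearMap.rTensor_tmul, LinearMap.lTensor_tmul, hcomul] at h
    have h' := congrArg (fun t => TensorProduct.equivFinsuppOfBasisRight b ((TensorProduct.assoc k V _ _).symm t) n) h
    simp only [map_finsuppSum, LinearEquiv.symm_apply_apply, TensorProduct.assoc_symm_tmul,
      Finsupp.sum_apply, TensorProduct.equivFinsuppOfBasisRight_apply_tmul_apply, b.repr_self] at h'
    rw [Finsupp.sum_eq_single n, Finsupp.sum_eq_single n] at h'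
    · simpa using h'
    all_goals intros
    all_goals simp_all [Finsupp.single_apply]
  have hcc : ∀ v n, c (c v n) = Finsupp.single n (c v n) := by
    intro v n
    show TensorProduct.equivFinsuppOfBasisRight b (HopfRep.Comod.coact (k := k) (A := MonoidAlgebra k M) (c v n)) = _
    rw [horth]
    ext m
    rw [TensorProduct.equivFinsuppOfBasisRight_apply_tmul_apply, b.repr_self, Finsupp.single_apply, Finsupp.single_apply]
    split_ifs <;> simp
  have hW' : ∀ w ∈ W, ∀ n, c w n ∈ W := by
    intro w hw n
    obtain ⟨t, ht⟩ := hW w hw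
    show TensorProduct.equivFinsuppOfBasisRight b (HopfRep.Comod.coact (k := k) (A := MonoidAlgebra k M) w) n ∈ W
    rw [← ht]
    clear ht
    induction t using TensorProduct.induction_on with
    | zero => simp
    | tmul x y =>
      rw [LinearMap.rTensor_tmul, TensorProduct.equivFinsuppOfBasisRight_apply_tmul_apply]
      exact W.smul_mem _ x.2
    | add x y hx hy => rw [map_add, map_add]; exact W.add_mem hx hy
  obtain ⟨W', hWW⟩ := hsplit
  let p : V →ₗ[k] V := W.subtype ∘ₗ W.projectionOnto W' hWW
  let p' : V →ₗ[k] V := Finsupp.lsum k (fun m => Finsupp.lapply m ∘ₗ c ∘ₗ p) ∘ₗ c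
  have hp' : ∀ v, p' v = (c v).sum fun m x => c (p x) m := fun v => by simp [p', Finsupp.sum]
  have hmem : ∀ v, p' v ∈ W := by
    intro v
    rw [hp']
    exact Submodule.sum_mem _ fun m _ => hW' _ (Subtype.mem _) m
  have hid : ∀ w ∈ W, p' w = w := by
    intro w hw
    rw [hp']
    conv_rhs => rw [← hsum w]
    refine Finsupp.sum_congr fun m _ => ?_
    show c (W.subtype (W.projectionOnto W' hWW (c w m))) m = c w m
    rw [Submodule.projectionOnto_apply_of_mem_left hWW (hW' w hw m), Submodule.subtype_apply, hcc, Finsupp.single_eq_same]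
  let q : V →ₗ[k] W := p'.codRestrict W hmem
  refine ⟨LinearMap.ker q, ?_, LinearMap.isCompl_of_proj fun w => Subtype.ext (hid _ w.2)⟩
  intro v hv
  have hv0 : p' v = 0 := congrArg Subtype.val (LinearMap.mem_ker.mp hv)
  rw [hexp]
  refine Submodule.sum_mem _ fun n _ => ?_
  refine ⟨⟨c v n, ?_⟩ ⊗ₜ b n, rfl⟩
  refine LinearMap.mem_ker.mpr (Subtype.ext ?_)
  show p' (c v n) = 0
  have e : c (p' v) n = c (p (c v n)) n := by
    rw [hp', map_finsuppSum, Finsupp.sum_apply]
    simp only [hcc, Finsupp.single_apply]
    rw [Finsupp.sum_ite_eq']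
    by_cases hn : n ∈ (c v).support
    · rw [if_pos hn]
    · rw [if_neg hn, Finsupp.notMem_support_iff.mp hn]; simp
  rw [hp', hcc, Finsupp.sum_single_index (by simp), ← e, hv0, map_zero, Finsupp.zero_apply]


end Groth.Agent.S5228
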