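import Groth.Statements.S5230
import Groth.Agent.QSlice.Main
import Groth.Agent.TMul.RelAmple

set_option autoImplicit false
open CategoryTheory CategoryTheory.Limits AlgebraicGeometry
universe u
open GrpQ

namespace Groth.Agent.S5230

/-- Let `T` be affine Noetherian, `X, Y, Z` of finite type over `T` with `X` quasi-projective over `T`,
`u : Y ⟶ X` and `v : Y ⟶ Z` morphisms over `T`, and `z ∈ v(Y)` a point closed in its fibre over `T`
at whose preimages `v` is flat. Then some closed subscheme `F ⊆ X` has `u(u⁻¹(F) ∩ v⁻¹(z))` finite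
and nonempty, with `v` restricted to `u⁻¹(F)` flat at the points over `z`. -/
theorem result {T X Y Z : Scheme.{u}} [IsAffine T] [IsNoetherian T]
    (pX : X ⟶ T) (pY : Y ⟶ T) (pZ : Z ⟶ T)
    [LocallyOfFiniteType pY] [QuasiCompact pY] [LocallyOfFiniteType pZ] [QuasiCompact pZ]
    (hX : RelProj.IsQuasiProjective pX)
    (u : Y ⟶ X) (v : Y ⟶ Z) (hu : u ≫ pX = pY) (hv : v ≫ pZ = pY)
    (z : Z) (hz : z ∈ Set.range v.base)
    (hzc : ∀ z' : Z, z' ∈ closure ({z} : Set Z) → pZ.base z' = pZ.base z → z' = z)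
    (hflat : ∀ y : Y, v.base y = z → (v.stalkMap y).hom.Flat) :
    ∃ (F : Scheme.{u}) (i : F ⟶ X), IsClosedImmersion i ∧
      (u.base '' ((u.base ⁻¹' Set.range i.base) ∩ v.base ⁻¹' {z})).Finite ∧
      (u.base '' ((u.base ⁻¹' Set.range i.base) ∩ v.base ⁻¹' {z})).Nonempty ∧
      ∀ y' : ↥(pullback i u), v.base ((pullback.snd i u).base y') = z →
        ((pullback.snd i u ≫ v).stalkMap y').hom.Flat := by
  obtain ⟨hlft, hqc, L, hL⟩ := hX
  haveI := hlft
  haveI := hqc
  haveI : IsLocallyNoetherian Z := LocallyOfFiniteType.isLocallyNoetherian pZ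
  haveI : LocallyOfFiniteType (v ≫ pZ) := hv ▸ inferInstance
  haveI : LocallyOfFiniteType v := locallyOfFiniteType_of_comp v pZ
  haveI : CompactSpace Y := QuasiCompact.compactSpace_of_compactSpace pY
  haveI : LocallyOfFinitePresentation v := inferInstance
  haveI : QuasiCompact v := inferInstance
  obtain ⟨F, i, h1, -, h3, h4, h5⟩ := QSlice.exists_slice pX pZ v u (hu.trans hv.symm)
    ((TMul.isRelAmple_iff_isAmple (f := pX)).1 hL) z hzc hz hflat
  exact ⟨F, i, h1, h3, h4, h5⟩

end Groth.Agent.S5230
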