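import Groth.Statements.S5231
import Mathlib

set_option autoImplicit false
open CategoryTheory
universe w v₁ u₁
open ShfCat

namespace Groth.Agent.S5231

/-- (iii) ⇒ (i): a morphism `f` of sheaves of sets on a site is a monomorphism (resp. an epimorphism) as
soon as, for every object `S`, the morphisms `T ⟶ S` over which the restriction of `f` to the
induced site `C/T` is a monomorphism (resp. an epimorphism) form a covering sieve. No sheafification
is assumed. (The published statement also treats isomorphisms in the same way; that case is left out
here.) -/
theorem result {C : Type u₁} [Category.{v₁} C]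
    (J : GrothendieckTopology C) {F G : Sheaf J (Type w)} (f : F ⟶ G) :
    ((∀ S : C, ∃ R : Sieve S, R ∈ J S ∧ ∀ ⦃T : C⦄ (g : T ⟶ S), R g →
        Mono ((J.overPullback (Type w) T).map f)) → Mono f) ∧
    ((∀ S : C, ∃ R : Sieve S, R ∈ J S ∧ ∀ ⦃T : C⦄ (g : T ⟶ S), R g →
        Epi ((J.overPullback (Type w) T).map f)) → Epi f) := by
  constructor
  · intro h
    haveI : Mono f.hom := by
      haveI : ∀ U, Mono (f.hom.app U) := fun U => by
        rw [CategoryTheory.mono_iff_injective]
        intro a b hab
        obtain ⟨R, hR, hmono⟩ := h U.unop
        refine (((isSheaf_iff_isSheaf_of_type J F.obj).1 F.property).isSeparated R hR).ext fun T g hg => ?_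
        haveI := hmono g hg
        haveI := (sheafToPresheaf (J.over T) (Type w)).map_mono ((J.overPullback (Type w) T).map f)
        haveI := (NatTrans.mono_iff_mono_app
          ((sheafToPresheaf (J.over T) (Type w)).map ((J.overPullback (Type w) T).map f))).1 inferInstance
          (Opposite.op (Over.mk (𝟙 T)))
        have hinj := (CategoryTheory.mono_iff_injective _).1 this
        refine hinj ?_
        change f.hom.app (Opposite.op T) (F.obj.map g.op a) = f.hom.app (Opposite.op T) (F.obj.map g.op b)
        have h1 := NatTrans.naturality_apply f.hom g.op a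
        have h2 := NatTrans.naturality_apply f.hom g.op b
        exact h1.trans ((congrArg _ hab).trans h2.symm)
      exact NatTrans.mono_of_mono_app _
    exact (sheafToPresheaf J (Type w)).mono_of_mono_map ‹Mono f.hom›
  · intro h
    refine ⟨fun {Z} a b hab => ?_⟩
    ext U s
    obtain ⟨R, hR, hepi⟩ := h U.unop
    refine (((isSheaf_iff_isSheaf_of_type J Z.obj).1 Z.property).isSeparated R hR).ext fun T g hg => ?_
    haveI := hepi g hg
    have h3 : (J.overPullback (Type w) T).map a = (J.overPullback (Type w) T).map b := by
      rw [← cancel_epi ((J.overPullback (Type w) T).map f), ← Functor.map_comp, hab, Functor.map_comp]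
    have h4 : a.hom.app (Opposite.op T) (G.obj.map g.op s) = b.hom.app (Opposite.op T) (G.obj.map g.op s) :=
      congrArg (fun q : (J.overPullback (Type w) T).obj G ⟶ (J.overPullback (Type w) T).obj Z =>
        q.hom.app (Opposite.op (Over.mk (𝟙 T))) (G.obj.map g.op s)) h3
    have h1 := NatTrans.naturality_apply a.hom g.op s
    have h2 := NatTrans.naturality_apply b.hom g.op s
    exact h1.symm.trans (h4.trans h2)

end Groth.Agent.S5231
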