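import Groth.Statements.S5232
import Groth.Agent.SchDescent.SheafDescAffine

set_option autoImplicit false
open CategoryTheory CategoryTheory.Limits AlgebraicGeometry
universe u
open GrpQ

namespace Groth.Agent.S5232

/-- On the big fppf site of a scheme `S`, in the case where the local representing objects are affine
over the cover (so that the canonical descent datum is effective): if `Z` is an fppf sheaf over `S`
and, for an fppf cover `S' ⟶ S`, the sheaf `Z ×_S S'` is represented over `S'` by a scheme affine
over `S'`, then `Z` is represented by a scheme affine over `S`. -/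
theorem result {S S' : Scheme.{u}} (f : S' ⟶ S)
    [Flat f] [Surjective f] [LocallyOfFinitePresentation f]
    (Z : QuotSh.Sh Scheme.fppfPrecoverage S)
    (T' : Over S) (a : T' ⟶ Over.mk f) [IsAffineHom a.left]
    (φ : QuotSh.rep Scheme.fppfPrecoverage T' ≅ Z ⨯ QuotSh.rep Scheme.fppfPrecoverage (Over.mk f))
    (hφ : φ.hom ≫ prod.snd = QuotSh.repMap Scheme.fppfPrecoverage a) :
    ∃ T : Over S, IsAffineHom T.hom ∧ Nonempty (QuotSh.rep Scheme.fppfPrecoverage T ≅ Z) := by
  have : IsAffineHom (SchDescent.SheafDesc.datum (a := a) hφ).obj.hom := ‹IsAffineHom a.left›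
  obtain ⟨U, hU, ⟨e⟩⟩ := SchDescent.SheafDesc.effective_fppf f (SchDescent.SheafDesc.datum (a := a) hφ)
  exact ⟨U, hU, SchDescent.SheafDesc.exists_rep_iso hφ e⟩

end Groth.Agent.S5232
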