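import Groth.Statements.S5233
import Mathlib
import Groth.Agent.FpqcDescent.IdealGlue

set_option autoImplicit false
open CategoryTheory CategoryTheory.Limits AlgebraicGeometry
universe u
open GrpQ

namespace Groth.Agent.S5233

/-- For schemes, with (M) the faithfully flat quasi-compact morphisms and (N) the closed immersions: if
`π : X ⟶ X'` is flat, surjective and quasi-compact (so `X' = X/R` for its kernel pair `R ⇉ X`), then
`Y' ↦ π⁻¹(Y')` is a bijection from closed subschemes of `X'` onto the closed subschemes of `X`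
stable under `R`. -/
theorem result {X X' : Scheme.{u}} (π : X ⟶ X')
    [Flat π] [Surjective π] [QuasiCompact π] :
    Set.BijOn (Subobject.pullback π).obj
      {Y' : Subobject X' | IsClosedImmersion Y'.arrow}
      {Y : Subobject X | IsClosedImmersion Y.arrow ∧
        (Subobject.pullback (pullback.fst π π)).obj Y = (Subobject.pullback (pullback.snd π π)).obj Y} := by
  have hpb : ∀ {A B : Scheme.{u}} (f : A ⟶ B) (I : B.IdealSheafData),
      (Subobject.pullback f).obj (Subobject.mk I.subschemeι) = Subobject.mk (I.comap f).subschemeι := fun f I =>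
    Subobject.pullback_obj_mk (f' := (I.comapIso f).hom ≫ pullback.snd _ _)
      ((IsPullback.of_hasPullback f I.subschemeι).flip.of_iso (I.comapIso f).symm (Iso.refl _) (Iso.refl _) (Iso.refl _)
        (by first | exact (Category.comp_id _).trans (Iso.inv_hom_id_assoc _ _).symm | (simp; done)) (by first | exact (Category.comp_id _).trans (Iso.inv_hom_id_assoc _ _).symm | (simp; done)) (by simp) (by simp))
  have hrep : ∀ {A : Scheme.{u}} (Y : Subobject A), IsClosedImmersion Y.arrow →
      ∃ I : A.IdealSheafData, Y = Subobject.mk I.subschemeι := by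
    intro A Y hY
    exact ⟨Y.arrow.ker, Subobject.eq_mk_of_comm _ (asIso Y.arrow.toImage) Y.arrow.toImage_imageι⟩
  have harr : ∀ {A : Scheme.{u}} (I : A.IdealSheafData), IsClosedImmersion (Subobject.mk I.subschemeι).arrow := by
    intro A I
    rw [← Subobject.underlyingIso_hom_comp_eq_mk]
    infer_instance
  have hinj : ∀ {A : Scheme.{u}} (I J : A.IdealSheafData),
      Subobject.mk I.subschemeι = Subobject.mk J.subschemeι → I = J := by
    intro A I J h
    have h1 : (Subobject.isoOfMkEqMk I.subschemeι J.subschemeι h).hom ≫ J.subschemeι = I.subschemeι := Subobject.ofMkLEMk_comp h.le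
    have h2 := Scheme.Hom.ker_comp_of_isIso (Subobject.isoOfMkEqMk I.subschemeι J.subschemeι h).hom J.subschemeι
    rw [h1, I.ker_subschemeι, J.ker_subschemeι] at h2
    exact h2
  have hg : Presieve.ofArrows (fun _ : PUnit.{u + 1} => X) (fun _ => π) ∈ Scheme.fpqcPrecoverage X' := by
    refine ⟨?_, (Scheme.ofArrows_mem_precoverage_iff _).mpr ⟨fun x => ?_, fun _ => inferInstance⟩⟩
    · rw [Presieve.ofArrows_pUnit.{_, _, u + 1}]
      exact Scheme.Hom.singleton_mem_qcPrecoverage π
    · obtain ⟨y, hy⟩ := π.surjective x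
      exact ⟨PUnit.unit, y, hy⟩
  refine ⟨?_, ?_, ?_⟩
  · intro Y hY
    obtain ⟨I, rfl⟩ := hrep Y hY
    refine ⟨?_, ?_⟩
    · rw [hpb]
      exact harr _
    · rw [hpb, hpb, hpb, ← Scheme.IdealSheafData.comap_comp, ← Scheme.IdealSheafData.comap_comp, pullback.condition]
  · intro Y hY Y' hY' h
    obtain ⟨I, rfl⟩ := hrep Y hY
    obtain ⟨J, rfl⟩ := hrep Y' hY'
    rw [hpb, hpb] at h
    have h2 := hinj _ _ h
    have hu := FpqcDescent.existsUnique_descent hg (fun _ => I.comap π) (fun _ _ => by
      rw [← Scheme.IdealSheafData.comap_comp, ← Scheme.IdealSheafData.comap_comp, pullback.condition])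
    obtain rfl : I = J := hu.unique (fun _ => rfl) (fun _ => h2.symm)
    rfl
  · rintro Y ⟨hY, hst⟩
    obtain ⟨I, rfl⟩ := hrep Y hY
    rw [hpb, hpb] at hst
    have h2 := hinj _ _ hst
    obtain ⟨J, hJ, -⟩ := FpqcDescent.existsUnique_descent hg (fun _ => I) (fun _ _ => h2)
    refine ⟨Subobject.mk J.subschemeι, harr _, ?_⟩
    rw [hpb]
    rw [hJ PUnit.unit]

end Groth.Agent.S5233
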