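import Groth.Statements.S5234
import Groth.Agent.MonoFactor.HomogDim
import Groth.Agent.FpqcDescent.Props
import Groth.Agent.FppfSource.Scheme
import Groth.Agent.Grpd.FlatComp
import Mathlib

set_option autoImplicit false
open CategoryTheory CategoryTheory.Limits AlgebraicGeometry MonoidalCategory
universe u
open RedSub

namespace Groth.Agent.S5234

open CartesianMonoidalCategory SemiCartesianMonoidalCategory in
/-- (ii) ⇔ (iii), for schemes with the fppf topology: let `G` be an `S`-group scheme which is faithfully
flat and locally of finite presentation over `S`, acting on `X` so that `X` is formally principal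
homogeneous. Then `X` is a torsor (its structure map is faithfully flat and locally of finite
presentation) if and only if `X` has a point over some faithfully flat, locally finitely presented
`S' ⟶ S`. -/
theorem result {S : Scheme.{u}} {G X : Over S} [GrpObj G]
    (a : AlgGrp.Action G X)
    [Flat G.hom] [Surjective G.hom] [LocallyOfFinitePresentation G.hom]
    (hX : IsIso (lift a.act (snd G X))) :
    RedSub.IsTorsor a ↔
      ∃ S' : Over S, Surjective S'.hom ∧ Flat S'.hom ∧ LocallyOfFinitePresentation S'.hom ∧
        Nonempty (S' ⟶ X) := by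
  constructor
  · rintro ⟨h1, h2, h3, -⟩
    exact ⟨X, h1, h2, h3, ⟨𝟙 X⟩⟩
  rintro ⟨S', h1, h2, h3, ⟨x⟩⟩
  -- `(g, t) ↦ g · x(t)` trivialises `X` over `S'`
  let c : G ⊗ S' ⟶ X ⊗ S' := lift ((G ◁ x) ≫ a.act) (snd G S')
  let j : G ⊗ X ⟶ X ⊗ X := lift a.act (snd G X)
  let d : X ⊗ S' ⟶ G ⊗ S' := lift ((X ◁ x) ≫ inv j ≫ fst G X) (snd X S')
  have hd : (X ◁ x) ≫ inv j = lift (d ≫ fst G S') (d ≫ snd G S' ≫ x) := by
    apply CartesianMonoidalCategory.hom_ext
    · simp only [d, lift_fst, Category.assoc]
    · have : inv j ≫ snd G X = snd X X := by rw [IsIso.inv_comp_eq, lift_snd]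
      simp only [d, lift_snd, lift_snd_assoc, Category.assoc, this, whiskerLeft_snd]
  have hcd : c ≫ d = 𝟙 _ := by
    have h4 : c ≫ (X ◁ x) = (G ◁ x) ≫ j := by
      apply CartesianMonoidalCategory.hom_ext <;> simp [c, j]
    apply CartesianMonoidalCategory.hom_ext
    · rw [Category.assoc, lift_fst, reassoc_of% h4, IsIso.hom_inv_id_assoc, whiskerLeft_fst, Category.id_comp]
    · simp [c, d]
  have hdc : d ≫ c = 𝟙 _ := by
    apply CartesianMonoidalCategory.hom_ext
    · rw [Category.assoc, lift_fst, show d ≫ (G ◁ x) ≫ a.act = (X ◁ x) ≫ inv j ≫ a.act by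
          rw [← Category.assoc (X ◁ x), hd, ← Category.assoc]; congr 1
          apply CartesianMonoidalCategory.hom_ext <;> simp]
      have : inv j ≫ a.act = fst X X := by rw [IsIso.inv_comp_eq, lift_fst]
      rw [this, whiskerLeft_fst, Category.id_comp]
    · simp [c, d]
  have : IsIso c.left := ((Over.forget S).mapIso ⟨c, d, hcd, hdc⟩).isIso_hom
  have hsnd : c.left ≫ (snd X S').left = (snd G S').left := by rw [← Over.comp_left, lift_snd]
  have hG : IsPullback (fst G S').left (snd G S').left G.hom S'.hom := IsPullback.of_hasPullback G.hom S'.hom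
  have hX' : IsPullback (fst X S').left (snd X S').left X.hom S'.hom := IsPullback.of_hasPullback X.hom S'.hom
  have hP : ∀ (P : MorphismProperty Scheme.{u}) [P.IsStableUnderBaseChange],
      P G.hom → P (snd X S').left := by
    intro P _ hPG
    rw [← P.cancel_left_of_respectsIso c.left, hsnd]
    exact MorphismProperty.of_isPullback hG hPG
  refine ⟨?_, ?_, ?_, hX⟩
  · have : Surjective (snd X S').left := hP @Surjective ‹_›
    have : Surjective ((fst X S').left ≫ X.hom) := by rw [hX'.w]; infer_instance
    exact Surjective.of_comp (fst X S').left X.hom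
  · have : Flat (snd X S').left := hP @Flat ‹_›
    have : Flat ((fst X S').left ≫ X.hom) := by rw [hX'.w]; infer_instance
    have : Flat (fst X S').left := MorphismProperty.of_isPullback hX'.flip h2
    have : Surjective (fst X S').left := MorphismProperty.of_isPullback hX'.flip h1
    exact Groth.Agent.GrpdLib.flat_of_flat_comp (fst X S').left X.hom
  · have : LocallyOfFinitePresentation (snd X S').left := hP @LocallyOfFinitePresentation ‹_›
    have : LocallyOfFinitePresentation ((fst X S').left ≫ X.hom) := by rw [hX'.w]; infer_instance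
    have : Flat (fst X S').left := MorphismProperty.of_isPullback hX'.flip h2
    have : Surjective (fst X S').left := MorphismProperty.of_isPullback hX'.flip h1
    have : LocallyOfFinitePresentation (fst X S').left := MorphismProperty.of_isPullback hX'.flip h3
    exact Groth.Agent.FppfSource.lfp (fst X S').left X.hom

end Groth.Agent.S5234
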