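import Groth.Statements.S5235
import Mathlib

set_option autoImplicit false
open CategoryTheory CategoryTheory.Limits AlgebraicGeometry
universe u
open GrpQ

namespace Groth.Agent.S5235

/-- For schemes, with (M) the faithfully flat quasi-compact morphisms and (N) the open immersions: if `π
: X ⟶ X'` is flat, surjective and quasi-compact, then `Y' ↦ π⁻¹(Y')` is a bijection from open
subschemes of `X'` onto the open subschemes of `X` stable under the kernel pair of `π`. -/
theorem result {X X' : Scheme.{u}} (π : X ⟶ X')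
    [Flat π] [Surjective π] [QuasiCompact π] :
    Set.BijOn (Subobject.pullback π).obj
      {Y' : Subobject X' | IsOpenImmersion Y'.arrow}
      {Y : Subobject X | IsOpenImmersion Y.arrow ∧
        (Subobject.pullback (pullback.fst π π)).obj Y = (Subobject.pullback (pullback.snd π π)).obj Y} := by
  have hpb : ∀ {A B : Scheme.{u}} (f : A ⟶ B) (V : B.Opens),
      (Subobject.pullback f).obj (Subobject.mk V.ι) = Subobject.mk (f ⁻¹ᵁ V).ι := fun f V =>
    Subobject.pullback_obj_mk (isPullback_morphismRestrict f V)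
  have hrep : ∀ {A : Scheme.{u}} (Y : Subobject A), IsOpenImmersion Y.arrow →
      ∃ V : A.Opens, Y = Subobject.mk V.ι := by
    intro A Y hY
    exact ⟨Y.arrow.opensRange, Subobject.eq_mk_of_comm _ Y.arrow.isoOpensRange (Scheme.Hom.isoOpensRange_hom_ι _)⟩
  have harr : ∀ {A : Scheme.{u}} (V : A.Opens), IsOpenImmersion (Subobject.mk V.ι).arrow := by
    intro A V
    rw [← Subobject.underlyingIso_hom_comp_eq_mk]
    infer_instance
  have hinj : ∀ {A : Scheme.{u}} (V W : A.Opens), Subobject.mk V.ι = Subobject.mk W.ι → V = W := by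
    intro A V W h
    have key : ∀ V W : A.Opens, Subobject.mk V.ι ≤ Subobject.mk W.ι → V ≤ W := by
      intro V W h x hx
      have := Subobject.ofMkLEMk_comp h
      have h2 := congrArg (fun k => k (⟨x, hx⟩ : V)) this
      simp only [Scheme.Hom.comp_apply] at h2
      rw [show x = V.ι ⟨x, hx⟩ from rfl, ← h2]
      exact (Subobject.ofMkLEMk V.ι W.ι h (⟨x, hx⟩ : V)).2
    exact le_antisymm (key V W h.le) (key W V h.ge)
  refine ⟨?_, ?_, ?_⟩
  · intro Y hY
    obtain ⟨V, rfl⟩ := hrep Y hY
    refine ⟨?_, ?_⟩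
    · rw [hpb]
      exact harr _
    · rw [hpb, hpb, hpb, ← Scheme.Hom.comp_preimage, ← Scheme.Hom.comp_preimage, pullback.condition]
  · intro Y hY Y' hY' h
    obtain ⟨V, rfl⟩ := hrep Y hY
    obtain ⟨W, rfl⟩ := hrep Y' hY'
    rw [hpb, hpb] at h
    have h2 := hinj _ _ h
    obtain rfl : V = W := TopologicalSpace.Opens.ext ((Set.preimage_injective.mpr π.surjective) (congrArg (fun o : X.Opens => (o : Set X)) h2))
    rfl
  · rintro Y ⟨hY, hst⟩
    obtain ⟨V, rfl⟩ := hrep Y hY
    rw [hpb, hpb] at hst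
    have h2 := hinj _ _ hst
    have hsat : π ⁻¹' (π '' (V : Set X)) = (V : Set X) := by
      refine Set.Subset.antisymm ?_ (Set.subset_preimage_image _ _)
      rintro x ⟨y, hy, hxy⟩
      obtain ⟨z, hz1, hz2⟩ := Scheme.Pullback.exists_preimage_pullback y x hxy
      have h3 : z ∈ pullback.fst π π ⁻¹ᵁ V := by
        show pullback.fst π π z ∈ V
        rw [hz1]; exact hy
      rw [h2] at h3
      exact hz2 ▸ h3
    have ho : IsOpen (π '' (V : Set X)) := by
      rw [← (Flat.isQuotientMap_of_surjective π).isOpen_preimage, hsat]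
      exact V.2
    let V' : X'.Opens := ⟨_, ho⟩
    refine ⟨Subobject.mk V'.ι, harr _, ?_⟩
    rw [hpb]
    have e : π ⁻¹ᵁ V' = V := TopologicalSpace.Opens.ext hsat
    rw [e]

end Groth.Agent.S5235
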