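import Groth.Statements.S5237
import Groth.Agent.MonoFactor.HomogDim
import Mathlib

set_option autoImplicit false
open CategoryTheory CategoryTheory.Limits AlgebraicGeometry MonoidalCategory
universe u
open RedSub

namespace Groth.Agent.S5237

open MonObj CartesianMonoidalCategory SemiCartesianMonoidalCategory

/-- descent of morphisms along an fppf cover -/
theorem exists_desc {S : Scheme.{u}} {G X W : Over S} (q : G ⟶ X)
    (hq : Surjective q.left ∧ Flat q.left ∧ LocallyOfFinitePresentation q.left) (t : G ⟶ W)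
    (h : ∀ (T : Over S) (g₁ g₂ : T ⟶ G), g₁ ≫ q = g₂ ≫ q → g₁ ≫ t = g₂ ≫ t) :
    ∃ f : X ⟶ W, q ≫ f = t := by
  haveI := hq.1; haveI := hq.2.1; haveI := hq.2.2
  have hd : ∀ {T : Scheme.{u}} (g₁ g₂ : T ⟶ G.left), g₁ ≫ q.left = g₂ ≫ q.left → g₁ ≫ t.left = g₂ ≫ t.left := by
    intro T g₁ g₂ e
    let T' : Over S := Over.mk (g₁ ≫ G.hom)
    let x : T' ⟶ G := Over.homMk g₁ rfl
    let y : T' ⟶ G := Over.homMk g₂ (by
      change g₂ ≫ G.hom = g₁ ≫ G.hom
      rw [← Over.w q, ← Category.assoc, ← Category.assoc, e])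
    exact congrArg CommaMorphism.left (h T' x y (Over.OverMorphism.ext e))
  refine ⟨Over.homMk (EffectiveEpi.desc q.left t.left hd) ?_,
    Over.OverMorphism.ext (EffectiveEpi.fac q.left t.left hd)⟩
  apply (cancel_epi q.left).mp
  rw [← Category.assoc, EffectiveEpi.fac, Over.w, Over.w]

/-- when two points have the same image in a quotient -/
theorem eq_iff {S : Scheme.{u}} {G H Q : Over S} [GrpObj G] (i : H ⟶ G) (q : G ⟶ Q)
    (hpb : IsPullback (fst G H) ((G ◁ i) ≫ μ[G]) q q) {T : Over S} (g₁ g₂ : T ⟶ G) :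
    g₁ ≫ q = g₂ ≫ q ↔ ∃ h : T ⟶ H, g₁ * (h ≫ i) = g₂ := by
  have key : ∀ h : T ⟶ H, lift g₁ h ≫ (G ◁ i) ≫ μ[G] = g₁ * (h ≫ i) := fun h => by
    rw [lift_whiskerLeft_assoc, Hom.mul_def]
  constructor
  · intro e
    refine ⟨hpb.lift g₁ g₂ e ≫ snd G H, ?_⟩
    rw [← key]
    conv_rhs => rw [← hpb.lift_snd g₁ g₂ e]
    congr 1
    apply CartesianMonoidalCategory.hom_ext <;> simp
  · rintro ⟨h, rfl⟩
    rw [← key]
    have := congrArg (lift g₁ h ≫ ·) hpb.w
    simpa using this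

/-- the tensor product of two covers is a cover -/
theorem tensor_cover {S : Scheme.{u}} {A B A' B' : Over S} (f : A ⟶ B)
    (hf : Surjective f.left ∧ Flat f.left ∧ LocallyOfFinitePresentation f.left) (g : A' ⟶ B')
    (hg : Surjective g.left ∧ Flat g.left ∧ LocallyOfFinitePresentation g.left) :
    Surjective (f ⊗ₘ g).left ∧ Flat (f ⊗ₘ g).left ∧ LocallyOfFinitePresentation (f ⊗ₘ g).left := by
  have e : f ⊗ₘ g = (A ◁ g) ≫ (f ▷ B') := by ext <;> simp
  have h1 := @Groth.Agent.MonoFactor.cover_whiskerLeft _ A _ _ g hg.1 hg.2.1 hg.2.2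
  have h : IsPullback (fst A B') (f ▷ B') f (fst B B') := by
    refine IsPullback.of_isLimit' ⟨(whiskerRight_fst f B').symm⟩
      (Limits.PullbackCone.IsLimit.mk _ (fun c => lift c.fst (c.snd ≫ snd B B'))
        (fun c => lift_fst _ _) (fun c => ?_) (fun c m h1 h2 => ?_))
    · apply CartesianMonoidalCategory.hom_ext
      · rw [Category.assoc, whiskerRight_fst, lift_fst_assoc]
        exact c.condition
      · rw [Category.assoc, whiskerRight_snd, lift_snd]
    · apply CartesianMonoidalCategory.hom_ext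
      · rw [lift_fst]; exact h1
      · rw [lift_snd, ← h2, Category.assoc, whiskerRight_snd]
  have h' := h.map (Over.forget _)
  rw [e, Over.comp_left]
  exact ⟨MorphismProperty.comp_mem _ _ _ h1.1 (MorphismProperty.of_isPullback (P := @Surjective) h' hf.1),
    MorphismProperty.comp_mem _ _ _ h1.2.1 (MorphismProperty.of_isPullback (P := @Flat) h' hf.2.1),
    MorphismProperty.comp_mem _ _ _ h1.2.2 (MorphismProperty.of_isPullback (P := @LocallyOfFinitePresentation) h' hf.2.2)⟩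

open MonObj GrpObj CartesianMonoidalCategory in
/-- For group schemes and the fppf topology: if `q : G ⟶ Q = G/H` is the fppf quotient of `G` by a
normal subgroup `H`, with its group structure, then a homomorphism `G ⟶ K` that kills `H` factors
uniquely through `q`, and the factorisation is a homomorphism. -/
theorem result {S : Scheme.{u}} {H G Q K : Over S}
    [GrpObj H] [GrpObj G] [GrpObj Q] [GrpObj K]
    (i : H ⟶ G) [IsMonHom i] [Mono i] (hn : AlgGrp.IsNormalHom i)
    (q : G ⟶ Q) [IsMonHom q] (hq : RedSub.IsQuotient i q)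
    (f : G ⟶ K) [IsMonHom f] (hf : i ≫ f = 1) :
    ∃! g : Q ⟶ K, q ≫ g = f ∧ IsMonHom g := by
  obtain ⟨hs, hfl, hfp, hpb⟩ := hq
  have hker : ∀ {T : Over S} (t : T ⟶ H), (t ≫ i) ≫ f = 1 := fun t => by
    rw [Category.assoc, hf, MonObj.comp_one]
  obtain ⟨g, hg⟩ := exists_desc q ⟨hs, hfl, hfp⟩ f fun T g₁ g₂ e => by
    obtain ⟨t, rfl⟩ := (eq_iff i q hpb g₁ g₂).1 e
    rw [MonObj.mul_comp, hker, _root_.mul_one]
  have := Groth.Agent.MonoFactor.epi_of_cover q ⟨hs, hfl, hfp⟩
  have := Groth.Agent.MonoFactor.epi_of_cover _ (tensor_cover q ⟨hs, hfl, hfp⟩ q ⟨hs, hfl, hfp⟩)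
  refine ⟨g, ⟨hg, ⟨?_, ?_⟩⟩, fun g' hg' => by rw [← cancel_epi q, hg, hg'.1]⟩
  · rw [← IsMonHom.one_hom q, Category.assoc, hg, IsMonHom.one_hom]
  · rw [← cancel_epi (q ⊗ₘ q), ← Category.assoc, ← IsMonHom.mul_hom, Category.assoc, hg, ← Category.assoc,
      tensorHom_comp_tensorHom, hg, IsMonHom.mul_hom]

end Groth.Agent.S5237
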