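import Groth.Statements.S5238
import Mathlib.AlgebraicGeometry.Sites.Fpqc
import Mathlib.AlgebraicGeometry.Sites.SheafQuasiCompact
import Groth.Agent.QFDom.Basic

set_option autoImplicit false
set_option backward.isDefEq.respectTransparency false
open CategoryTheory AlgebraicGeometry
universe w u
open GrpQ

namespace Groth.Agent.S5238

open AlgebraicGeometry CategoryTheory in
theorem isMultiplicative_inf (P Q : MorphismProperty Scheme.{u}) [P.IsMultiplicative] [Q.IsMultiplicative] :
    (P ⊓ Q).IsMultiplicative where
  id_mem X := ⟨P.id_mem X, Q.id_mem X⟩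
  comp_mem f g hf hg := ⟨P.comp_mem f g hf.1 hg.1, Q.comp_mem f g hf.2 hg.2⟩

open AlgebraicGeometry CategoryTheory in
instance instMultFlatLfp : (@Flat ⊓ @LocallyOfFinitePresentation : MorphismProperty Scheme.{u}).IsMultiplicative :=
  haveI : MorphismProperty.IsMultiplicative (@LocallyOfFinitePresentation : MorphismProperty Scheme.{u}) :=
    { id_mem := fun _ => inferInstance }
  isMultiplicative_inf _ _

open AlgebraicGeometry CategoryTheory in
theorem fppfTopology_eq :
    Scheme.fppfTopology.{u} = Scheme.propQCTopology (@Flat ⊓ @LocallyOfFinitePresentation) := by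
  show Scheme.fppfPrecoverage.toGrothendieck = _
  have : Scheme.fppfPrecoverage.{u} = Scheme.propQCPrecoverage (@Flat ⊓ @LocallyOfFinitePresentation) := by
    refine le_antisymm (le_inf ?_ le_rfl) inf_le_right
    exact Scheme.precoverage_le_qcPrecoverage_of_isOpenMap fun X Y f ⟨_, _⟩ ↦ f.isOpenMap
  rw [this]

/-- A presheaf of sets on schemes is a sheaf for the fppf topology (the topology generated by jointly
surjective families of flat morphisms locally of finite presentation) if and only if it is a Zariski
sheaf and satisfies the sheaf condition for every single morphism of affine schemes `T ⟶ S` which is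
flat, surjective, locally of finite presentation and locally quasi-finite. (Between affine schemes
such a morphism is faithfully flat, of finite presentation and quasi-finite; that these quasi-finite
covers suffice rests on the existence of quasi-finite flat quasi-sections of flat surjective
morphisms locally of finite presentation.) -/
theorem result (F : Scheme.{u}ᵒᵖ ⥤ Type w) :
    Presheaf.IsSheaf Scheme.fppfTopology F ↔
      Presheaf.IsSheaf Scheme.zariskiTopology F ∧
        ∀ (T S : Scheme.{u}) [IsAffine T] [IsAffine S] (f : T ⟶ S)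
          [Flat f] [Surjective f] [LocallyOfFinitePresentation f] [LocallyQuasiFinite f],
          Presieve.IsSheafFor F (Presieve.singleton f) := by
  rw [isSheaf_iff_isSheaf_of_type, isSheaf_iff_isSheaf_of_type]
  refine ⟨fun hF => ⟨Presieve.isSheaf_of_le _ (Precoverage.toGrothendieck_mono
    Scheme.zariskiPrecoverage_le_fppfPrecoverage) hF, fun T S _ _ f _ _ _ _ => ?_⟩, fun ⟨hzar, hqf⟩ => ?_⟩
  · rw [Presieve.isSheafFor_iff_generate]
    exact hF _ (Precoverage.generate_mem_toGrothendieck f.singleton_mem_fppfPrecoverage)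
  -- the quasi-finite topology
  let P : MorphismProperty Scheme.{u} := (@Flat ⊓ @LocallyOfFinitePresentation) ⊓ @LocallyQuasiFinite
  haveI : IsZariskiLocalAtSource P := inferInstance
  haveI : P.IsMultiplicative := isMultiplicative_inf _ _
  have hJ : Presieve.IsSheaf (Scheme.propQCTopology P) F := by
    rw [isSheaf_type_propQCTopology_iff]
    refine ⟨hzar, fun {R S} f hf hs => ?_⟩
    obtain ⟨⟨_, _⟩, _⟩ := hf
    exact hqf _ _ (Spec.map f)
  rw [fppfTopology_eq, isSheaf_type_propQCTopology_iff]
  refine ⟨hzar, fun {R S} φ hφ hs => ?_⟩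
  obtain ⟨hfl, hfp⟩ := hφ
  rw [Presieve.isSheafFor_iff_generate]
  refine hJ _ ?_
  -- a quasi-finite refinement
  letI := φ.hom.toAlgebra
  haveI : Module.Flat R S := Flat.SpecMap_iff.1 hfl
  haveI : Algebra.FinitePresentation R S := (HasRingHomProperty.Spec_iff (P := @LocallyOfFinitePresentation)).1 hfp
  haveI : Module.FaithfullyFlat R S := Module.FaithfullyFlat.of_comap_surjective hs.1
  obtain ⟨S', _, _, hqf', -, hff, hfp', ⟨σ⟩⟩ := Groth.Agent.QFDom.exists_dominating R S
  let ψ : R ⟶ CommRingCat.of S' := CommRingCat.ofHom (algebraMap R S')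
  haveI : Flat (Spec.map ψ) := Flat.SpecMap_iff.2 (RingHom.flat_algebraMap_iff.2 inferInstance)
  haveI : LocallyOfFinitePresentation (Spec.map ψ) :=
    (HasRingHomProperty.Spec_iff (P := @LocallyOfFinitePresentation)).2
      (RingHom.finitePresentation_algebraMap.2 hfp')
  haveI : LocallyQuasiFinite (Spec.map ψ) :=
    (HasRingHomProperty.Spec_iff (P := @LocallyQuasiFinite)).2 (RingHom.quasiFinite_algebraMap.2 hqf')
  haveI : Surjective (Spec.map ψ) := ⟨PrimeSpectrum.comap_surjective_of_faithfullyFlat⟩
  refine GrothendieckTopology.superset_covering _ ?_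
    ((Spec.map ψ).generate_singleton_mem_propQCTopology (P := P) ⟨⟨‹_›, ‹_›⟩, ‹_›⟩)
  rw [Sieve.generate_le_iff]
  rintro _ _ ⟨⟩
  refine ⟨_, Spec.map (CommRingCat.ofHom σ.toRingHom), Spec.map φ, ⟨⟩, ?_⟩
  rw [← Spec.map_comp]
  congr 1
  ext a
  exact σ.commutes a

end Groth.Agent.S5238
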