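import Groth.Statements.S5252
import Groth.Agent.MultT.FlatIso
import Groth.Agent.MultT.TorsionDiag
import Groth.Agent.MultT.SplitConn

set_option autoImplicit false
universe u
open TensorProduct SGA3b
open SGA3b

namespace Groth.Agent.S5252

/-- Let A be an Artinian local ring with residue field k and H = Spec C an affine A-group with C flat
and of finite type over A, whose closed fibre Spec (k ⊗ C) is a k-group of multiplicative type. Then
H is of multiplicative type and isotrivial. (Affine group schemes over an affine base are taken in
Hopf-algebra form; base change is the tensor product; a homomorphism of groups Spec A ⟶ Spec C is a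
bialgebra map C → A.) -/
theorem result (A : Type u) [CommRing A] [IsArtinianRing A] [IsLocalRing A]
    (C : Type u) [CommRing C] [HopfAlgebra A C] [Module.Flat A C] (hft : Algebra.FiniteType A C)
    (h0 : IsMultType (IsLocalRing.ResidueField A) (IsLocalRing.ResidueField A ⊗[A] C)) :
    IsMultType A C ∧ IsIsotrivial A C := by
  haveI := hft
  haveI : IsNoetherianRing A := inferInstance
  have hI : IsNilpotent (IsLocalRing.maximalIdeal A) := (isArtinianRing_iff_isNilpotent_maximalIdeal A).1 inferInstance
  obtain ⟨k', _, _, hfin, hsep, M, _, -, hd⟩ := Groth.Agent.MultT.exists_finite_separable_split h0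
  haveI := hfin
  haveI := hsep
  haveI : Algebra.FormallyEtale (IsLocalRing.ResidueField A) k' := Algebra.FormallyEtale.of_isSeparable _ k'
  haveI : Algebra.FinitePresentation (IsLocalRing.ResidueField A) k' :=
    Algebra.FinitePresentation.of_finiteType.1 inferInstance
  haveI : Algebra.Etale (IsLocalRing.ResidueField A) k' := { formallyEtale := inferInstance, finitePresentation := inferInstance }
  have h1 : IsIsotrivial (IsLocalRing.ResidueField A) (IsLocalRing.ResidueField A ⊗[A] C) :=
    ⟨k', inferInstance, inferInstance, inferInstance, inferInstance, inferInstance, M, inferInstance, hd⟩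
  have h2 : IsIsotrivial A C := Groth.Agent.MultT.isIsotrivial_of_flat hI h1
  exact ⟨Groth.Agent.MultT.isMultType_of_isotrivial h2, h2⟩

end Groth.Agent.S5252
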