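import Groth.Statements.S5261
import Groth.Agent.MTFT.Basic
import Groth.Agent.S3042

set_option autoImplicit false
open CategoryTheory MonoidalCategory CartesianMonoidalCategory MonObj GrpObj AlgebraicGeometry
universe u
open SGA3x

namespace Groth.Agent.S5261

/-- Let u : H ⟶ G be a homomorphism of S-groups, with H of multiplicative type and of finite type, and
suppose S locally Noetherian or G locally of finite presentation over S. If for every s ∈ S the
homomorphism u_s : H_s ⟶ G_s induced on the fibres at s is a monomorphism, then u is a monomorphism. -/
theorem result {S : Scheme.{u}} (H G : Over S) [GrpObj H] [GrpObj G]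
    (hH : SGA3x.IsMultTypeFT H) (hG : IsLocallyNoetherian S ∨ LocallyOfFinitePresentation G.hom)
    (u : H ⟶ G) [IsMonHom u]
    (hfib : ∀ s : S, Mono ((Over.pullback (S.fromSpecResidueField s)).map u).left) :
    Mono u.left := by
  haveI := Groth.Agent.MTFT.locallyOfFiniteType H hH
  haveI : LocallyOfFiniteType (u.left ≫ G.hom) := by rw [Over.w u]; infer_instance
  haveI : LocallyOfFiniteType u.left := locallyOfFiniteType_of_comp u.left G.hom
  refine (Groth.Agent.S3042.result _ _ u.left).2 fun y => ?_
  let s : S := G.hom y
  let u' := ((Over.pullback (S.fromSpecResidueField s)).map u).left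
  have hsq : IsPullback (Limits.pullback.fst H.hom (S.fromSpecResidueField s)) u' u.left
      (Limits.pullback.fst G.hom (S.fromSpecResidueField s)) := by
    have h1 : u' ≫ Limits.pullback.snd G.hom (S.fromSpecResidueField s) =
        Limits.pullback.snd H.hom (S.fromSpecResidueField s) :=
      Over.w ((Over.pullback (S.fromSpecResidueField s)).map u)
    have h2 : u' ≫ Limits.pullback.fst G.hom (S.fromSpecResidueField s) =
        Limits.pullback.fst H.hom (S.fromSpecResidueField s) ≫ u.left := by
      simp [u', Over.pullback]; exact Limits.pullback.lift_fst _ _ _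
    refine IsPullback.of_bot ?_ h2.symm (IsPullback.of_hasPullback G.hom (S.fromSpecResidueField s))
    rw [h1, Over.w u]
    exact IsPullback.of_hasPullback H.hom (S.fromSpecResidueField s)
  let q : Spec (G.left.residueField y) ⟶ Limits.pullback G.hom (S.fromSpecResidueField s) :=
    Limits.pullback.lift (G.left.fromSpecResidueField y) (Spec.map (G.hom.residueFieldMap y))
      (Scheme.Hom.SpecMap_residueFieldMap_fromSpecResidueField G.hom y).symm
  haveI : Mono u' := hfib s
  have hy : IsPullback (Limits.pullback.fst u' q ≫ Limits.pullback.fst H.hom (S.fromSpecResidueField s))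
      (Limits.pullback.snd u' q) u.left (G.left.fromSpecResidueField y) := by
    have := (IsPullback.of_hasPullback u' q).paste_horiz hsq
    rwa [show q ≫ Limits.pullback.fst G.hom (S.fromSpecResidueField s) = G.left.fromSpecResidueField y from
      Limits.pullback.lift_fst _ _ _] at this
  show Mono (Limits.pullback.snd u.left (G.left.fromSpecResidueField y))
  rw [← hy.isoPullback_inv_snd]
  infer_instance

end Groth.Agent.S5261
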