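import Groth.Statements.S5272
import Groth.Agent.MTBridge.SqZeroConj
-- import your own Groth.Agent.* helpers here

set_option autoImplicit false
open CategoryTheory MonoidalCategory CartesianMonoidalCategory MonObj GrpObj AlgebraicGeometry
universe u
open SGA3x

namespace Groth.Agent.S5272

/-- Let S = Spec R be affine, J an ideal of R with J² = 0 and S₀ = Spec (R/J); let H be an S-group of
multiplicative type (fpqc-locally on S isomorphic, as a group, to diagonalisable groups D(M), M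
allowed to vary and taken in Type 0), G an arbitrary S-group, and u, v : H ⟶ G two homomorphisms
whose restrictions to S₀ agree (h ≫ u = h ≫ v for every point h of H defined over an S₀-scheme).
Then there is an S-point g of G whose restriction to S₀ is the unit and such that v = int(g) ∘ u:
for every point h of H, v(h) = g u(h) g⁻¹. -/
theorem result {R : Type u} [CommRing R] (J : Ideal R) (hJ : J ^ 2 = ⊥)
    (H G : Over (Spec (CommRingCat.of R))) [GrpObj H] [GrpObj G]
    (hH : TwC.Locally (Spec (CommRingCat.of R)) TwC.Topology.fpqc (fun S' f => ∃ (M : Type) (_ : AddCommGroup M), Nonempty (Grp.mk (Red.bc f H) ≅ Grp.mk (Red.DS S' M))))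
    (u v : H ⟶ G) [IsMonHom u] [IsMonHom v]
    (h0 : ∀ (X : Over (Spec (CommRingCat.of R))) (p : X ⟶ (Over.mk (Spec.map (CommRingCat.ofHom (Ideal.Quotient.mk J))) : Over (Spec (CommRingCat.of R)))) (h : X ⟶ H), h ≫ u = h ≫ v) :
    ∃ g : 𝟙_ (Over (Spec (CommRingCat.of R))) ⟶ G, toUnit (Over.mk (Spec.map (CommRingCat.ofHom (Ideal.Quotient.mk J))) : Over (Spec (CommRingCat.of R))) ≫ g = 1 ∧
      ∀ (X : Over (Spec (CommRingCat.of R))) (h : X ⟶ H), h ≫ v = (toUnit X ≫ g) * (h ≫ u) * (toUnit X ≫ g)⁻¹ := by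
  obtain ⟨A, _, _, hA, ⟨e⟩⟩ := Groth.Agent.MTBridge.exists_hopf_of_locally H hH
  haveI : IsMonHom (e.inv.hom.hom ≫ u) := inferInstanceAs (IsMonHom (e.inv.hom.hom ≫ u))
  haveI : IsMonHom (e.inv.hom.hom ≫ v) := inferInstanceAs (IsMonHom (e.inv.hom.hom ≫ v))
  obtain ⟨g, hg0, hg⟩ := Groth.Agent.MTBridge.exists_conj_sq hJ hA (e.inv.hom.hom ≫ u) (e.inv.hom.hom ≫ v)
    (fun Y p h => by rw [← Category.assoc, ← Category.assoc, h0 Y p (h ≫ e.inv.hom.hom)])
  obtain ⟨g', hg'⟩ := Groth.Agent.MTBridge.exists_section G g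
  have hpt : ∀ {T : Type u} [CommRing T] [Algebra R T],
      Groth.Agent.MTBridge.spMap (Algebra.ofId R T) ≫ g =
        toUnit ((Spec (CommRingCat.of T)).asOver (Spec (CommRingCat.of R))) ≫ g' := fun {T} _ _ => hg' _ _
  refine ⟨g', ?_, fun X h => ?_⟩
  · have h1 := hg' _ (Groth.Agent.MTBridge.spMap (Ideal.Quotient.mkₐ R J))
    rw [hg0] at h1
    exact h1.symm
  · have h1 := congrArg (fun k => (h ≫ e.hom.hom.hom) ≫ k) hg
    have he : e.hom.hom.hom ≫ e.inv.hom.hom = 𝟙 _ := ((Grp.forget _).mapIso e).hom_inv_id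
    simp only [hpt, MonObj.comp_mul, GrpObj.comp_inv, Category.assoc, reassoc_of% he] at h1
    have h2 : ∀ (Z : Over (Spec (CommRingCat.of R))) (k : X ⟶ Z), k ≫ toUnit Z ≫ g' = toUnit X ≫ g' :=
      fun Z k => by rw [← Category.assoc, comp_toUnit]
    have h4 : h ≫ e.hom.hom.hom ≫ toUnit ((Spec (CommRingCat.of A)).asOver (Spec (CommRingCat.of R))) ≫ g' =
        toUnit X ≫ g' := (Category.assoc h e.hom.hom.hom _).symm.trans (h2 _ (h ≫ e.hom.hom.hom))
    rw [h4] at h1
    exact h1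

end Groth.Agent.S5272
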