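import Groth.Statements.S5278
-- import your own Groth.Agent.* helpers here
import Mathlib

set_option autoImplicit false
open CategoryTheory AlgebraicGeometry
universe u
open SGA3x

namespace Groth.Agent.S5278

/-- Let X be a connected scheme, f : X' ⟶ X a finite etale morphism and x a point of X. Then every
connected component of X' meets the fibre of f over x; equivalently the map from the connected
components of the fibre (or of the geometric fibre) to those of X' is surjective. -/
theorem result {X X' : Scheme.{u}} [ConnectedSpace X] (f : X' ⟶ X)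
    [IsFinite f] [Etale f] (x : X) (c : X') :
    ∃ x' : X', f.base x' = x ∧ x' ∈ connectedComponent c := by
  classical
  have hmeet : ∀ U : Set X', IsClopen U → U.Nonempty → (U ∩ f.base ⁻¹' {x}).Nonempty := by
    intro U hU hne
    have hcl : IsClopen (f.base '' U) :=
      ⟨f.isClosedMap U hU.isClosed, f.isOpenMap U hU.isOpen⟩
    obtain ⟨z, hz, hzx⟩ := (hcl.eq_univ (hne.image f.base)).ge (Set.mem_univ x)
    exact ⟨z, hz, hzx⟩
  have hfin : (f.base ⁻¹' {x}).Finite := f.finite_preimage_singleton x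
  let P : ℕ → Prop := fun n => ∃ U : Set X', IsClopen U ∧ c ∈ U ∧ (U ∩ f.base ⁻¹' {x}).ncard = n
  have hP : ∃ n, P n := ⟨_, Set.univ, isClopen_univ, trivial, rfl⟩
  obtain ⟨U, hU, hcU, hn⟩ := Nat.find_spec hP
  have hconn : _root_.IsPreconnected U := by
    intro u v hu hv hcov hUu hUv
    by_contra hno
    rw [Set.not_nonempty_iff_eq_empty] at hno
    have key : ∀ u v : Set X', IsOpen u → IsOpen v → U ⊆ u ∪ v → U ∩ (u ∩ v) = ∅ → IsClopen (U ∩ u) := by
      intro u v hu hv hcov hno
      refine ⟨?_, hU.isOpen.inter hu⟩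
      have : U ∩ u = U ∩ vᶜ := by
        ext w
        refine ⟨fun hw => ⟨hw.1, fun hwv => ?_⟩, fun hw => ⟨hw.1, (hcov hw.1).resolve_right hw.2⟩⟩
        exact (Set.eq_empty_iff_forall_notMem.1 hno) w ⟨hw.1, hw.2, hwv⟩
      rw [this]
      exact hU.isClosed.inter hv.isClosed_compl
    wlog hc : c ∈ u generalizing u v
    · exact this v u hv hu (by rwa [Set.union_comm]) hUv hUu (by rwa [Set.inter_comm v u])
        ((hcov hcU).resolve_left hc)
    have h1 := key u v hu hv hcov hno
    have h2 := key v u hv hu (by rwa [Set.union_comm]) (by rwa [Set.inter_comm v u])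
    obtain ⟨z, hz, hzx⟩ := hmeet (U ∩ v) h2 hUv
    have hlt : (U ∩ u ∩ f.base ⁻¹' {x}).ncard < Nat.find hP := by
      rw [← hn]
      refine Set.ncard_lt_ncard ⟨Set.inter_subset_inter_left _ Set.inter_subset_left, fun h => ?_⟩
        (hfin.subset Set.inter_subset_right)
      exact (Set.eq_empty_iff_forall_notMem.1 hno) z ⟨hz.1, (h ⟨hz.1, hzx⟩).1.2, hz.2⟩
    exact Nat.find_min hP hlt ⟨U ∩ u, h1, ⟨hcU, hc⟩, rfl⟩
  obtain ⟨z, hz, hzx⟩ := hmeet U hU ⟨c, hcU⟩
  exact ⟨z, hzx, hconn.subset_connectedComponent hcU hz⟩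

end Groth.Agent.S5278
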