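import Groth.Statements.S5280
import Groth.Agent.MTBridge.ActTrivGeo
-- import your own Groth.Agent.* helpers here

set_option autoImplicit false
open CategoryTheory MonoidalCategory CartesianMonoidalCategory MonObj GrpObj AlgebraicGeometry
universe u
open SGA3x

namespace Groth.Agent.S5280

/-- Let i₀ : S₀ ⟶ S be a closed immersion whose ideal is locally nilpotent (nilpotent on each member of
an affine open cover of S; in particular S₀ and S have the same underlying space), u : G ⟶ H a
homomorphism of S-groups with G of multiplicative type (fpqc-locally on S isomorphic, as a group, to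
diagonalisable groups D(M), M allowed to vary and taken in Type 0) and H locally of finite
presentation over S. If the restriction u₀ of u to S₀ is central (u(g) commutes with h for all
points g of G and h of H defined over an S₀-scheme), then u is central. -/
theorem result {S S₀ : Scheme.{u}} (i₀ : S₀ ⟶ S) [IsClosedImmersion i₀]
    (hnil : ∀ x : S, ∃ U : S.affineOpens, x ∈ (U : S.Opens) ∧ IsNilpotent (i₀.ker.ideal U))
    (G H : Over S) [GrpObj G] [GrpObj H] (hG : TwC.Locally S TwC.Topology.fpqc (fun S' f => ∃ (M : Type) (_ : AddCommGroup M), Nonempty (Grp.mk (Red.bc f G) ≅ Grp.mk (Red.DS S' M))))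
    [LocallyOfFinitePresentation H.hom] (u : G ⟶ H) [IsMonHom u]
    (h0 : ∀ (Y : Over S) (p : Y ⟶ Over.mk i₀) (g : Y ⟶ G) (h : Y ⟶ H), (g ≫ u) * h = h * (g ≫ u)) :
    ∀ (Y : Over S) (g : Y ⟶ G) (h : Y ⟶ H), (g ≫ u) * h = h * (g ≫ u) := by
  let a : AlgGrp.Action G H :=
    { act := (fst G H ≫ u) * snd G H * (fst G H ≫ u)⁻¹
      one_act := by
        simp [MonObj.comp_mul, GrpObj.comp_inv, whiskerRight_fst_assoc, IsMonHom.one_hom]
        rw [show fst (𝟙_ (Over S)) H = toUnit _ from toUnit_unique _ _, ← Hom.one_def]
        simp [leftUnitor_hom]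
      mul_act := by
        simp [MonObj.comp_mul, GrpObj.comp_inv, whiskerRight_fst_assoc, IsMonHom.mul_hom]
        have e : tensorHom u u ≫ MonObj.mul (X := H) = (fst G G ≫ u) * (snd G G ≫ u) := by
          rw [Hom.mul_def]; congr 1
        simp [e, MonObj.comp_mul, GrpObj.comp_inv, _root_.mul_assoc] }
  intro Y g h
  have key := Groth.Agent.MTBridge.act_trivial i₀ hnil G H hG a (fun Y p g h => by
    simp only [a, MonObj.comp_mul, GrpObj.comp_inv, lift_fst_assoc, lift_snd]
    rw [h0 Y p g h, mul_inv_cancel_right]) Y g h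
  simp only [a, MonObj.comp_mul, GrpObj.comp_inv, lift_fst_assoc, lift_snd] at key
  exact mul_inv_eq_iff_eq_mul.1 key

end Groth.Agent.S5280
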