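import Groth.Statements.S5281
import Groth.Agent.MTBridge.NilHomBC
import Groth.Agent.S2973
import Groth.Agent.S2979
import Groth.Agent.MultT.QuasiBC
import Groth.Agent.ThickProp.Lft
import Groth.Agent.GrpLoc.BaseChange
-- import your own Groth.Agent.* helpers here

set_option autoImplicit false
set_option linter.style.haveILetI false
set_option synthInstance.maxHeartbeats 400000
open CategoryTheory MonoidalCategory CartesianMonoidalCategory MonObj GrpObj AlgebraicGeometry
universe u
open SGA3x

namespace Groth.Agent.S5281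

/-- Finite type lifts along nilpotent ideals. -/
theorem finiteType_of_nil {R A : Type u} [CommRing R] [CommRing A] [Algebra R A] (J : Ideal R) (hJ : IsNilpotent J)
    [h : Algebra.FiniteType (R ⧸ J) (TensorProduct R (R ⧸ J) A)] : Algebra.FiniteType R A := by
  haveI : Algebra.FiniteType R (TensorProduct R (R ⧸ J) A) :=
    Algebra.FiniteType.trans (S := R ⧸ J) inferInstance h
  let π : A →ₐ[R] TensorProduct R (R ⧸ J) A := Algebra.TensorProduct.includeRight
  have hπ : Function.Surjective π := fun z => by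
    induction z using TensorProduct.induction_on with
    | zero => exact ⟨0, map_zero _⟩
    | add x y hx hy =>
      obtain ⟨a, rfl⟩ := hx; obtain ⟨b, rfl⟩ := hy
      exact ⟨a + b, map_add _ _ _⟩
    | tmul r a =>
      obtain ⟨r, rfl⟩ := Ideal.Quotient.mk_surjective r
      refine ⟨r • a, ?_⟩
      rw [map_smul]
      show r • ((1 : R ⧸ J) ⊗ₜ[R] a) = _
      rw [TensorProduct.smul_tmul', Algebra.smul_def, _root_.mul_one]
      rfl
  obtain ⟨n, f, hf⟩ := (Algebra.FiniteType.iff_quotient_mvPolynomial'' (R := R)).1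
    (inferInstance : Algebra.FiniteType R (TensorProduct R (R ⧸ J) A))
  choose g hg using hπ
  let F : MvPolynomial (Fin n) R →ₐ[R] A := MvPolynomial.aeval fun i => g (f (MvPolynomial.X i))
  have hF : π.comp F = f := MvPolynomial.algHom_ext fun i => by simp [F, hg]
  have hker : ∀ a : A, π a = 0 → a ∈ (J • ⊤ : Submodule R A) := fun a ha => by
    have h2 := congrArg (TensorProduct.quotTensorEquivQuotSMul A J) (show ((1 : R ⧸ J) ⊗ₜ[R] a) = 0 from ha)
    rw [map_zero, show (1 : R ⧸ J) = Ideal.Quotient.mk J 1 from rfl,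
      TensorProduct.quotTensorEquivQuotSMul_mk_tmul, one_smul] at h2
    exact (Submodule.Quotient.mk_eq_zero _).1 h2
  let W : Submodule R A := F.toLinearMap.range
  have hW : ∀ k : ℕ, (⊤ : Submodule R A) ≤ W ⊔ J ^ k • ⊤ := by
    intro k
    induction k with
    | zero =>
      rw [pow_zero, Ideal.one_eq_top, Submodule.top_smul]
      exact le_sup_right
    | succ k ih =>
      refine ih.trans (sup_le le_sup_left (Submodule.smul_le.2 fun c hc a _ => ?_))
      obtain ⟨q, hq⟩ := hf (π a)
      have h1 : a - F q ∈ (J • ⊤ : Submodule R A) := hker _ (by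
        rw [map_sub, show π (F q) = f q from AlgHom.congr_fun hF q, hq, sub_self])
      rw [show c • a = c • F q + c • (a - F q) by rw [← smul_add, add_sub_cancel]]
      refine Submodule.add_mem_sup (W.smul_mem c ⟨q, rfl⟩) ?_
      rw [pow_succ, ← smul_eq_mul, Submodule.smul_assoc]
      exact Submodule.smul_mem_smul hc h1
  obtain ⟨k, hk⟩ := hJ
  refine Algebra.FiniteType.of_surjective F fun a => ?_
  have h1 := hW k (Submodule.mem_top : a ∈ ⊤)
  rw [hk, Ideal.zero_eq_bot, Submodule.bot_smul, sup_bot_eq] at h1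
  exact h1

/-- Let S = Spec R be affine, J a nilpotent ideal of R, S₀ = Spec (R/J), G an S-group which is smooth
over S, and j₀ : H₀ ⟶ G₀ = G ×_S S₀ a sub-group-scheme (a homomorphism which is an immersion) of
multiplicative type (H₀ fpqc-locally on S₀ isomorphic, as a group, to diagonalisable groups D(M), M
allowed to vary and taken in Type 0). Then there is a subgroup scheme j : H ⟶ G (a homomorphism
which is an immersion), with H flat over S, whose base change to S₀ coincides with H₀ as a subgroup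
of G₀: there is an isomorphism H ×_S S₀ ≅ H₀ over S₀ compatible with the two maps to G₀. -/
theorem result {R : Type u} [CommRing R] (J : Ideal R) (hJ : IsNilpotent J)
    (G : Over (Spec (CommRingCat.of R))) [GrpObj G] (hG : Smooth G.hom)
    (H₀ : Over (Spec (CommRingCat.of (R ⧸ J)))) [GrpObj H₀]
    (hH₀ : TwC.Locally (Spec (CommRingCat.of (R ⧸ J))) TwC.Topology.fpqc (fun S' f => ∃ (M : Type) (_ : AddCommGroup M), Nonempty (Grp.mk (Red.bc f H₀) ≅ Grp.mk (Red.DS S' M))))
    (j₀ : H₀ ⟶ Red.bc (Spec.map (CommRingCat.ofHom (Ideal.Quotient.mk J))) G) [IsMonHom j₀] [IsImmersion j₀.left] :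
    ∃ (H : Over (Spec (CommRingCat.of R))) (_ : GrpObj H) (j : H ⟶ G), IsMonHom j ∧ IsImmersion j.left ∧ Flat H.hom ∧
      ∃ φ : Red.bc (Spec.map (CommRingCat.ofHom (Ideal.Quotient.mk J))) H ≅ H₀, φ.hom ≫ j₀ = (Over.pullback (Spec.map (CommRingCat.ofHom (Ideal.Quotient.mk J)))).map j := by
  let q := Spec.map (CommRingCat.ofHom (Ideal.Quotient.mk J))
  haveI := hG
  haveI : Smooth (Red.bc q G).hom := inferInstanceAs (Smooth (Limits.pullback.snd G.hom q))
  haveI : LocallyOfFiniteType H₀.hom := by
    rw [← Over.w j₀]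
    infer_instance
  obtain ⟨A₀, _, _, hA₀, ⟨e₀⟩⟩ := Groth.Agent.MTBridge.exists_hopf_of_locally H₀ hH₀
  haveI : IsIso e₀.inv.hom.hom := ((Grp.forget _).mapIso e₀).isIso_inv
  haveI hft₀ : Algebra.FiniteType (R ⧸ J) A₀ := by
    have h1 : LocallyOfFiniteType (Groth.Agent.MTBridge.specGrp (R ⧸ J) A₀).X.hom := by
      rw [← Over.w e₀.inv.hom.hom]
      haveI : IsIso e₀.inv.hom.hom.left :=
        inferInstanceAs (IsIso ((Over.forget _).map e₀.inv.hom.hom))
      infer_instance
    have h2 : LocallyOfFiniteType (Spec.map (CommRingCat.ofHom (algebraMap (R ⧸ J) A₀))) := h1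
    rw [HasRingHomProperty.Spec_iff (P := @LocallyOfFiniteType)] at h2
    exact RingHom.finiteType_algebraMap.1 h2
  have hJn : ∀ x ∈ J, IsNilpotent x := fun x hx => by
    obtain ⟨n, hn⟩ := hJ
    refine ⟨n, ?_⟩
    have := Ideal.pow_mem_pow hx n
    rwa [hn, Ideal.zero_eq_bot, Ideal.mem_bot] at this
  obtain ⟨A, _, _, hq, ⟨α⟩⟩ := Groth.Agent.S2979.result R J hJn A₀ (Groth.Agent.S2973.result (R ⧸ J) A₀ hft₀ hA₀)
  have hA := Groth.Agent.MultT.isMultType_of_quasi hq
  let H := (Groth.Agent.MTBridge.specGrp R A).X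
  obtain ⟨e₁⟩ := Groth.Agent.MTBridge.nonempty_bc_specGrp R (R ⧸ J) A
  obtain ⟨e₂⟩ := Groth.Agent.MTBridge.nonempty_specGrp_iso α.symm
  let φ : Grp.mk (Red.bc q H) ≅ Grp.mk H₀ := e₁ ≪≫ e₂ ≪≫ e₀.symm
  let φ' : Red.bc q H ≅ H₀ := (Grp.forget _).mapIso φ
  haveI : IsMonHom φ'.hom := inferInstanceAs (IsMonHom φ.hom.hom.hom)
  haveI : IsMonHom (φ'.hom ≫ j₀) := inferInstance
  obtain ⟨f, hf, hfb⟩ := Groth.Agent.MTBridge.exists_hom_lift_bc_of_iso hJ hA (Iso.refl (Grp.mk H)) hG (φ'.hom ≫ j₀)
  refine ⟨H, inferInstance, f, hf, ?_, ?_, φ', hfb.symm⟩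
  · haveI : Algebra.FiniteType (R ⧸ J) (TensorProduct R (R ⧸ J) A) :=
      Algebra.FiniteType.equiv hft₀ (α : TensorProduct R (R ⧸ J) A ≃ₐ[R ⧸ J] A₀).symm
    haveI := finiteType_of_nil (A := A) J hJ
    haveI : LocallyOfFiniteType H.hom := by
      show LocallyOfFiniteType (Spec.map (CommRingCat.ofHom (algebraMap R A)))
      rw [HasRingHomProperty.Spec_iff (P := @LocallyOfFiniteType)]
      exact RingHom.finiteType_algebraMap.2 inferInstance
    haveI : LocallyOfFiniteType f.left := by
      haveI : LocallyOfFiniteType (f.left ≫ G.hom) := by rw [Over.w]; infer_instance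
      exact locallyOfFiniteType_of_comp f.left G.hom
    haveI : IsIso φ'.hom.left := inferInstanceAs (IsIso ((Over.forget _).map φ'.hom))
    haveI : IsImmersion ((Over.pullback q).map f).left := by
      rw [hfb, Over.comp_left]; infer_instance
    haveI : IsClosedImmersion q := IsClosedImmersion.spec_of_surjective _ Ideal.Quotient.mk_surjective
    haveI : Surjective q := ⟨fun z => by
      let z' : PrimeSpectrum R := z
      have hz : z' ∈ Set.range (PrimeSpectrum.comap (Ideal.Quotient.mk J)) := by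
        rw [range_comap_of_surjective _ _ Ideal.Quotient.mk_surjective, PrimeSpectrum.mem_zeroLocus, Ideal.mk_ker]
        intro x hx
        exact nilradical_le_prime z'.asIdeal (mem_nilradical.2 (hJn x hx))
      exact hz⟩
    haveI : IsClosedImmersion (Limits.pullback.fst G.hom q) := inferInstance
    haveI : Surjective (Limits.pullback.fst G.hom q) := inferInstance
    have hsq := Groth.Agent.GrpLoc.isPullback_bc q f
    exact Groth.Agent.ThickProp.isImmersion_of_lft hsq
  · show Flat (Spec.map (CommRingCat.ofHom (algebraMap R A)))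
    rw [HasRingHomProperty.Spec_iff (P := @Flat)]
    haveI := Groth.Agent.MultT.flat hA
    exact RingHom.flat_algebraMap_iff.2 inferInstance

end Groth.Agent.S5281
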