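import Groth.Statements.S5284
import Groth.Agent.MTBridge.FreeAct
-- import your own Groth.Agent.* helpers here

set_option autoImplicit false
set_option linter.style.haveILetI false
set_option backward.isDefEq.respectTransparency false
open CategoryTheory MonoidalCategory CartesianMonoidalCategory MonObj GrpObj AlgebraicGeometry
universe u
open SGA3x

namespace Groth.Agent.S5284

/-- Let G be an S-group of multiplicative type (fpqc-locally on S isomorphic, as a group, to
diagonalisable groups D(M), M allowed to vary and taken in Type 0) acting on an S-scheme X which is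
affine over S, the action being free (a point g of G fixing a point x of X is the unit). Then the
graph morphism G ×_S X ⟶ X ×_S X, (g, x) ↦ (g·x, x), is a closed immersion; and for every section σ
of X over S the orbit morphism G ⟶ X, g ↦ g·σ, is a closed immersion. -/
theorem result {S : Scheme.{u}} (G X : Over S) [GrpObj G]
    (hG : TwC.Locally S TwC.Topology.fpqc (fun S' f => ∃ (M : Type) (_ : AddCommGroup M), Nonempty (Grp.mk (Red.bc f G) ≅ Grp.mk (Red.DS S' M)))) (hX : IsAffineHom X.hom) (a : AlgGrp.Action G X)
    (hfree : ∀ (Y : Over S) (g : Y ⟶ G) (x : Y ⟶ X), lift g x ≫ a.act = x → g = 1) :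
    IsClosedImmersion (lift a.act (snd G X)).left ∧
      ∀ σ : 𝟙_ (Over S) ⟶ X, IsClosedImmersion (a.orbitMap σ).left := by
  haveI hgr := Groth.Agent.MTBridge.graph_closed G X hG hX a hfree
  refine ⟨hgr, fun σ => ?_⟩
  haveI := hX
  haveI : IsSeparated X.hom := inferInstance
  let sec : G ⟶ G ⊗ X := lift (𝟙 G) (toUnit G ≫ σ)
  let sX : X ⟶ X ⊗ X := lift (𝟙 X) (toUnit X ≫ σ)
  haveI : IsClosedImmersion sec.left := by
    haveI : IsSeparated (fst G X).left := by
      show IsSeparated (Limits.pullback.fst G.hom X.hom)
      infer_instance
    haveI : IsClosedImmersion (sec.left ≫ (fst G X).left) := by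
      rw [← Over.comp_left, lift_fst]
      exact inferInstanceAs (IsClosedImmersion (𝟙 G.left))
    exact IsClosedImmersion.of_comp sec.left (fst G X).left
  haveI : IsSeparated sX.left := by
    haveI : Mono (sX.left ≫ (fst X X).left) := by
      rw [← Over.comp_left, lift_fst]
      exact inferInstanceAs (Mono (𝟙 X.left))
    haveI : Mono sX.left := mono_of_mono sX.left (fst X X).left
    infer_instance
  have key : sec ≫ lift a.act (snd G X) = a.orbitMap σ ≫ sX := by
    simp only [sec, sX, AlgGrp.Action.orbitMap, comp_lift, lift_snd, Category.comp_id]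
    congr 1
    simp only [← Category.assoc, comp_toUnit]
  haveI : IsClosedImmersion ((a.orbitMap σ).left ≫ sX.left) := by
    rw [← Over.comp_left, ← key, Over.comp_left]
    infer_instance
  exact IsClosedImmersion.of_comp (a.orbitMap σ).left sX.left

end Groth.Agent.S5284
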