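import Groth.Statements.S5289
import Groth.Agent.MTBridge.SubEqNil
import Groth.Agent.S5272
-- import your own Groth.Agent.* helpers here

set_option autoImplicit false
open CategoryTheory MonoidalCategory CartesianMonoidalCategory MonObj GrpObj AlgebraicGeometry
universe u
open SGA3x

namespace Groth.Agent.S5289

/-- Let S = Spec R be affine, J an ideal of R with J² = 0 and S₀ = Spec (R/J); let G be an arbitrary
S-group and i : H ⟶ G, i' : H' ⟶ G two sub-group-schemes (homomorphisms which are immersions) of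
multiplicative type (fpqc-locally on S isomorphic, as groups, to diagonalisable groups D(M), M
allowed to vary and taken in Type 0), such that H ×_S S₀ and H' ×_S S₀ coincide as subgroups of G
×_S S₀. Then there is an S-point g of G whose restriction to S₀ is the unit and which conjugates H
onto H': int(g) ∘ i factors through i' by an isomorphism H ≅ H'. -/
theorem result {R : Type u} [CommRing R] (J : Ideal R) (hJ : J ^ 2 = ⊥)
    (G H H' : Over (Spec (CommRingCat.of R))) [GrpObj G] [GrpObj H] [GrpObj H']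
    (hH : TwC.Locally (Spec (CommRingCat.of R)) TwC.Topology.fpqc (fun S' f => ∃ (M : Type) (_ : AddCommGroup M), Nonempty (Grp.mk (Red.bc f H) ≅ Grp.mk (Red.DS S' M))))
    (hH' : TwC.Locally (Spec (CommRingCat.of R)) TwC.Topology.fpqc (fun S' f => ∃ (M : Type) (_ : AddCommGroup M), Nonempty (Grp.mk (Red.bc f H') ≅ Grp.mk (Red.DS S' M))))
    (i : H ⟶ G) [IsMonHom i] [IsImmersion i.left] (i' : H' ⟶ G) [IsMonHom i'] [IsImmersion i'.left]
    (h0 : ∃ ψ : Red.bc (Spec.map (CommRingCat.ofHom (Ideal.Quotient.mk J))) H ≅ Red.bc (Spec.map (CommRingCat.ofHom (Ideal.Quotient.mk J))) H',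
      ψ.hom ≫ (Over.pullback (Spec.map (CommRingCat.ofHom (Ideal.Quotient.mk J)))).map i' = (Over.pullback (Spec.map (CommRingCat.ofHom (Ideal.Quotient.mk J)))).map i) :
    ∃ g : 𝟙_ (Over (Spec (CommRingCat.of R))) ⟶ G, toUnit (Over.mk (Spec.map (CommRingCat.ofHom (Ideal.Quotient.mk J))) : Over (Spec (CommRingCat.of R))) ≫ g = 1 ∧ SGA3x.ConjBy i i' g := by
  haveI : Mono i := Over.mono_of_mono_left i
  haveI : Mono i' := Over.mono_of_mono_left i'
  obtain ⟨ψ, hψ⟩ := h0
  have hψ' : ψ.inv ≫ (Over.pullback (Spec.map (CommRingCat.ofHom (Ideal.Quotient.mk J)))).map i =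
      (Over.pullback (Spec.map (CommRingCat.ofHom (Ideal.Quotient.mk J)))).map i' := by
    rw [← hψ, Iso.inv_hom_id_assoc]
  obtain ⟨u, hu, hu0⟩ := Groth.Agent.MTBridge.exists_hom_lift_sub J i i' ⟨2, hJ⟩ hH hH' ψ.hom hψ
  obtain ⟨v, hv, hv0⟩ := Groth.Agent.MTBridge.exists_hom_lift_sub J i' i ⟨2, hJ⟩ hH' hH ψ.inv hψ'
  have hiso : ∀ {K : Over (Spec (CommRingCat.of R))} [GrpObj K] (c : 𝟙_ _ ⟶ K) (k : K ⟶ K),
      (∀ (X : Over (Spec (CommRingCat.of R))) (h : X ⟶ K), h ≫ k = (toUnit X ≫ c) * h * (toUnit X ≫ c)⁻¹) →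
      IsIso k := by
    intro K _ c k hk
    have ht : ∀ (m : K ⟶ K), m ≫ toUnit K ≫ c = toUnit K ≫ c := fun m => by
      rw [← Category.assoc, comp_toUnit]
    refine ⟨(toUnit K ≫ c)⁻¹ * 𝟙 K * (toUnit K ≫ c), ?_, ?_⟩
    · simp only [MonObj.comp_mul, GrpObj.comp_inv, ht, Category.comp_id]
      rw [show k = (toUnit K ≫ c) * 𝟙 K * (toUnit K ≫ c)⁻¹ from by simpa only [Category.id_comp] using hk K (𝟙 K)]
      simp [_root_.mul_assoc]
    · rw [hk]
      simp [_root_.mul_assoc]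
  haveI : IsMonHom (u ≫ v) := inferInstance
  haveI : IsMonHom (v ≫ u) := inferInstance
  obtain ⟨c, -, hc⟩ := Groth.Agent.S5272.result J hJ H H hH (𝟙 H) (u ≫ v) fun X p h => by
    rw [← cancel_mono i]
    simp only [Category.assoc, Category.id_comp]
    rw [← Category.assoc h u, hv0 X p (h ≫ u), Category.assoc, hu0 X p h]
  obtain ⟨c', -, hc'⟩ := Groth.Agent.S5272.result J hJ H' H' hH' (𝟙 H') (v ≫ u) fun X p h => by
    rw [← cancel_mono i']
    simp only [Category.assoc, Category.id_comp]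
    rw [← Category.assoc h v, hu0 X p (h ≫ v), Category.assoc, hv0 X p h]
  haveI := hiso c (u ≫ v) (fun X h => by simpa only [Category.comp_id] using hc X h)
  haveI := hiso c' (v ≫ u) (fun X h => by simpa only [Category.comp_id] using hc' X h)
  haveI : IsIso u := by
    have h1 : (inv (v ≫ u) ≫ v) ≫ u = 𝟙 _ := by rw [Category.assoc]; exact IsIso.inv_hom_id _
    have h2 : u ≫ (v ≫ inv (u ≫ v)) = 𝟙 _ := by rw [← Category.assoc]; exact IsIso.hom_inv_id _
    refine ⟨v ≫ inv (u ≫ v), h2, ?_⟩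
    calc (v ≫ inv (u ≫ v)) ≫ u = ((inv (v ≫ u) ≫ v) ≫ u) ≫ (v ≫ inv (u ≫ v)) ≫ u := by rw [h1, Category.id_comp]
      _ = (inv (v ≫ u) ≫ v) ≫ (u ≫ (v ≫ inv (u ≫ v))) ≫ u := by simp only [Category.assoc]
      _ = 𝟙 _ := by rw [h2, Category.id_comp, h1]
  obtain ⟨g, hg0, hg⟩ := Groth.Agent.S5272.result J hJ H G hH i (u ≫ i') fun X p h => (hu0 X p h).symm
  refine ⟨g, hg0, asIso u, ?_⟩
  simpa only [Category.id_comp, asIso_hom] using (hg H (𝟙 H)).symm

end Groth.Agent.S5289
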