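import Groth.Statements.S5290
import Groth.Agent.MTBridge.SubEqNil
-- import your own Groth.Agent.* helpers here

set_option autoImplicit false
open CategoryTheory MonoidalCategory CartesianMonoidalCategory MonObj GrpObj AlgebraicGeometry
universe u
open SGA3x

namespace Groth.Agent.S5290

/-- Let S = Spec R be affine, J a nilpotent ideal of R and S₀ = Spec (R/J); let G be an arbitrary
S-group and i : H ⟶ G, i' : H' ⟶ G two sub-group-schemes (homomorphisms which are immersions) of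
multiplicative type (fpqc-locally on S isomorphic, as groups, to diagonalisable groups D(M), M
allowed to vary and taken in Type 0), with H central in G (every point of G commutes with every
point of H). If H ×_S S₀ and H' ×_S S₀ coincide as subgroups of G ×_S S₀, then H = H' as subgroups
of G: there is an isomorphism H ≅ H' compatible with i and i'. -/
theorem result {R : Type u} [CommRing R] (J : Ideal R) (hJ : IsNilpotent J)
    (G H H' : Over (Spec (CommRingCat.of R))) [GrpObj G] [GrpObj H] [GrpObj H']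
    (hH : TwC.Locally (Spec (CommRingCat.of R)) TwC.Topology.fpqc (fun S' f => ∃ (M : Type) (_ : AddCommGroup M), Nonempty (Grp.mk (Red.bc f H) ≅ Grp.mk (Red.DS S' M))))
    (hH' : TwC.Locally (Spec (CommRingCat.of R)) TwC.Topology.fpqc (fun S' f => ∃ (M : Type) (_ : AddCommGroup M), Nonempty (Grp.mk (Red.bc f H') ≅ Grp.mk (Red.DS S' M))))
    (i : H ⟶ G) [IsMonHom i] [IsImmersion i.left] (i' : H' ⟶ G) [IsMonHom i'] [IsImmersion i'.left]
    (hc : ∀ (X : Over (Spec (CommRingCat.of R))) (g : X ⟶ G) (h : X ⟶ H), g * (h ≫ i) = (h ≫ i) * g)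
    (h0 : ∃ ψ : Red.bc (Spec.map (CommRingCat.ofHom (Ideal.Quotient.mk J))) H ≅ Red.bc (Spec.map (CommRingCat.ofHom (Ideal.Quotient.mk J))) H',
      ψ.hom ≫ (Over.pullback (Spec.map (CommRingCat.ofHom (Ideal.Quotient.mk J)))).map i' = (Over.pullback (Spec.map (CommRingCat.ofHom (Ideal.Quotient.mk J)))).map i) :
    ∃ φ : H ≅ H', φ.hom ≫ i' = i := by
  haveI : Mono i := Over.mono_of_mono_left i
  haveI : Mono i' := Over.mono_of_mono_left i'
  obtain ⟨ψ, hψ⟩ := h0
  have hψ' : ψ.inv ≫ (Over.pullback (Spec.map (CommRingCat.ofHom (Ideal.Quotient.mk J)))).map i =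
      (Over.pullback (Spec.map (CommRingCat.ofHom (Ideal.Quotient.mk J)))).map i' := by
    rw [← hψ, Iso.inv_hom_id_assoc]
  obtain ⟨u, hu, hu0⟩ := Groth.Agent.MTBridge.exists_hom_lift_sub J i i' hJ hH hH' ψ.hom hψ
  obtain ⟨v, hv, hv0⟩ := Groth.Agent.MTBridge.exists_hom_lift_sub J i' i hJ hH' hH ψ.inv hψ'
  have hmon : ∀ {K : Over (Spec (CommRingCat.of R))} [GrpObj K] (d : K ⟶ G),
      (∀ (T : Over (Spec (CommRingCat.of R))) (x y : T ⟶ K), (x * y) ≫ d = (x ≫ d) * (y ≫ d)) → IsMonHom d := by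
    intro K _ d h
    refine ⟨?_, ?_⟩
    · have h1 := h _ (1 : 𝟙_ _ ⟶ K) 1
      rw [_root_.mul_one] at h1
      have h2 := left_eq_mul.1 h1
      simpa [Hom.one_def] using h2
    · have h1 := h _ (fst K K) (snd K K)
      rw [Hom.mul_def, lift_fst_snd, Category.id_comp, Hom.mul_def] at h1
      rw [h1]
      congr 1
  have central : ∀ {T : Over (Spec (CommRingCat.of R))} (g : T ⟶ G) (h : T ⟶ H),
      g * (h ≫ i) = (h ≫ i) * g := fun g h => hc _ g h
  have hui : u ≫ i' = i := by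
    let d : H ⟶ G := (u ≫ i') * i⁻¹
    haveI : IsMonHom d := hmon d fun T x y => by
      simp only [d, MonObj.comp_mul, GrpObj.comp_inv]
      rw [MonObj.mul_comp x y i, ← Category.assoc (x * y), MonObj.mul_comp x y u, MonObj.mul_comp _ _ i',
        Category.assoc, Category.assoc, _root_.mul_inv_rev]
      have c1 : Commute ((x ≫ i)⁻¹) ((y ≫ u ≫ i') * (y ≫ i)⁻¹) :=
        Commute.inv_left (central ((y ≫ u ≫ i') * (y ≫ i)⁻¹) x).symm
      calc (x ≫ u ≫ i') * (y ≫ u ≫ i') * ((y ≫ i)⁻¹ * (x ≫ i)⁻¹)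
          = (x ≫ u ≫ i') * (((y ≫ u ≫ i') * (y ≫ i)⁻¹) * (x ≫ i)⁻¹) := by simp only [_root_.mul_assoc]
        _ = (x ≫ u ≫ i') * ((x ≫ i)⁻¹ * ((y ≫ u ≫ i') * (y ≫ i)⁻¹)) := by rw [c1.eq]
        _ = _ := by simp only [_root_.mul_assoc]
    have h1 := Groth.Agent.MTBridge.hom_eq_one J hJ hH d fun Y p h => by
      simp only [d, MonObj.comp_mul, GrpObj.comp_inv]
      rw [hu0 Y p h, mul_inv_cancel]
    exact mul_inv_eq_one.1 h1
  have hvi : v ≫ i = i' := by
    let d : H' ⟶ G := i' * (v ≫ i)⁻¹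
    haveI : IsMonHom d := hmon d fun T x y => by
      simp only [d, MonObj.comp_mul, GrpObj.comp_inv]
      rw [MonObj.mul_comp x y i', ← Category.assoc (x * y), MonObj.mul_comp x y v, MonObj.mul_comp _ _ i,
        Category.assoc, Category.assoc, _root_.mul_inv_rev]
      have c1 : Commute ((x ≫ v ≫ i)⁻¹) ((y ≫ i') * (y ≫ v ≫ i)⁻¹) := by
        refine Commute.inv_left ?_
        have := central ((y ≫ i') * (y ≫ v ≫ i)⁻¹) (x ≫ v)
        rw [Category.assoc] at this
        exact this.symm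
      calc (x ≫ i') * (y ≫ i') * ((y ≫ v ≫ i)⁻¹ * (x ≫ v ≫ i)⁻¹)
          = (x ≫ i') * (((y ≫ i') * (y ≫ v ≫ i)⁻¹) * (x ≫ v ≫ i)⁻¹) := by simp only [_root_.mul_assoc]
        _ = (x ≫ i') * ((x ≫ v ≫ i)⁻¹ * ((y ≫ i') * (y ≫ v ≫ i)⁻¹)) := by rw [c1.eq]
        _ = _ := by simp only [_root_.mul_assoc]
    have h1 := Groth.Agent.MTBridge.hom_eq_one J hJ hH' d fun Y p h => by
      simp only [d, MonObj.comp_mul, GrpObj.comp_inv]
      rw [hv0 Y p h, mul_inv_cancel]
    exact (mul_inv_eq_one.1 h1).symm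
  refine ⟨⟨u, v, ?_, ?_⟩, hui⟩
  · rw [← cancel_mono i, Category.assoc, hvi, hui, Category.id_comp]
  · rw [← cancel_mono i', Category.assoc, hui, hvi, Category.id_comp]

end Groth.Agent.S5290
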