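import Groth.Statements.S5294
import Groth.Agent.MTBridge.EndoId
-- import your own Groth.Agent.* helpers here

set_option autoImplicit false
open CategoryTheory MonoidalCategory CartesianMonoidalCategory MonObj GrpObj AlgebraicGeometry
universe u
open SGA3x

namespace Groth.Agent.S5294

/-- Let S = Spec R be affine, J a nilpotent ideal of R and S₀ = Spec (R/J); let G be an S-group smooth
over S, i : H ⟶ G and i' : H' ⟶ G two sub-group-schemes (homomorphisms which are immersions) of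
multiplicative type (fpqc-locally on S isomorphic, as groups, to diagonalisable groups D(M), M
allowed to vary and taken in Type 0), and g₀ an S₀-valued point of G with int(g₀)(H₀) = H'₀: for
points over S₀-schemes, conjugation by g₀ carries the points of H onto the points of H'. Then g₀
lifts to an S-point g of G with int(g)(H) = H' (int(g) ∘ i factors through i' by an isomorphism). -/
theorem result {R : Type u} [CommRing R] (J : Ideal R) (hJ : IsNilpotent J)
    (G H H' : Over (Spec (CommRingCat.of R))) [GrpObj G] [GrpObj H] [GrpObj H'] (hG : Smooth G.hom)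
    (hH : TwC.Locally (Spec (CommRingCat.of R)) TwC.Topology.fpqc (fun S' f => ∃ (M : Type) (_ : AddCommGroup M), Nonempty (Grp.mk (Red.bc f H) ≅ Grp.mk (Red.DS S' M))))
    (hH' : TwC.Locally (Spec (CommRingCat.of R)) TwC.Topology.fpqc (fun S' f => ∃ (M : Type) (_ : AddCommGroup M), Nonempty (Grp.mk (Red.bc f H') ≅ Grp.mk (Red.DS S' M))))
    (i : H ⟶ G) [IsMonHom i] [IsImmersion i.left] (i' : H' ⟶ G) [IsMonHom i'] [IsImmersion i'.left]
    (g₀ : (Over.mk (Spec.map (CommRingCat.ofHom (Ideal.Quotient.mk J))) : Over (Spec (CommRingCat.of R))) ⟶ G)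
    (h0 : ∀ (X : Over (Spec (CommRingCat.of R))) (p : X ⟶ (Over.mk (Spec.map (CommRingCat.ofHom (Ideal.Quotient.mk J))) : Over (Spec (CommRingCat.of R)))),
      (∀ h : X ⟶ H, ∃ h' : X ⟶ H', (p ≫ g₀) * (h ≫ i) * (p ≫ g₀)⁻¹ = h' ≫ i') ∧
      (∀ h' : X ⟶ H', ∃ h : X ⟶ H, (p ≫ g₀)⁻¹ * (h' ≫ i') * (p ≫ g₀) = h ≫ i)) :
    ∃ g : 𝟙_ (Over (Spec (CommRingCat.of R))) ⟶ G, toUnit (Over.mk (Spec.map (CommRingCat.ofHom (Ideal.Quotient.mk J))) : Over (Spec (CommRingCat.of R))) ≫ g = g₀ ∧ SGA3x.ConjBy i i' g := by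
  haveI : Mono i := Over.mono_of_mono_left i
  haveI : Mono i' := Over.mono_of_mono_left i'
  let q := Spec.map (CommRingCat.ofHom (Ideal.Quotient.mk J))
  haveI : IsMonHom (1 : H ⟶ G) :=
    { one_hom := by rw [MonObj.comp_one, Hom.one_def, toUnit_unique (toUnit (𝟙_ _)) (𝟙 _), Category.id_comp]
      mul_hom := by
        rw [MonObj.comp_one, ← lift_fst_comp_snd_comp, ← Hom.mul_def, MonObj.comp_one, MonObj.comp_one, _root_.mul_one] }
  obtain ⟨g₁, hg₁, -⟩ := Groth.Agent.MTBridge.exists_conj_nil hJ hH hG 1 1 g₀ (fun X p h => by simp)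
  have hpt : ∀ (X : Over (Spec (CommRingCat.of R))) (p : X ⟶ Over.mk q), p ≫ g₀ = toUnit X ≫ g₁ := fun X p => by
    rw [← hg₁, ← Category.assoc, comp_toUnit]
  let i₁ : H ⟶ G := (toUnit H ≫ g₁) * i * (toUnit H ≫ g₁)⁻¹
  haveI : IsMonHom i₁ := Groth.Agent.MTBridge.isMonHom_conj i g₁
  have hi₁ : ∀ {X : Over (Spec (CommRingCat.of R))} (h : X ⟶ H),
      h ≫ i₁ = (toUnit X ≫ g₁) * (h ≫ i) * (toUnit X ≫ g₁)⁻¹ := fun h => by
    simp only [i₁, MonObj.comp_mul, GrpObj.comp_inv]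
    rw [← Category.assoc, comp_toUnit]
  haveI : Mono i₁ := ⟨fun a b hab => by
    rw [hi₁, hi₁] at hab
    exact (cancel_mono i).1 (mul_left_cancel (mul_right_cancel hab))⟩
  obtain ⟨ψ, hψ⟩ : ∃ ψ : Red.bc q H ⟶ Red.bc q H', ψ ≫ (Over.pullback q).map i' = (Over.pullback q).map i₁ := by
    let h := Groth.Agent.MTBridge.fromBC q (𝟙 (Red.bc q H))
    obtain ⟨h', hh'⟩ := (h0 _ (Groth.Agent.MTBridge.mapToMk q _)).1 h
    refine ⟨Groth.Agent.MTBridge.toBC q h', ?_⟩
    rw [← Groth.Agent.MTBridge.toBC_comp, ← hh', hpt, ← hi₁, Groth.Agent.MTBridge.toBC_comp,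
      Groth.Agent.MTBridge.toBC_fromBC, Category.id_comp]
  obtain ⟨ψ', hψ'⟩ : ∃ ψ' : Red.bc q H' ⟶ Red.bc q H, ψ' ≫ (Over.pullback q).map i₁ = (Over.pullback q).map i' := by
    let h' := Groth.Agent.MTBridge.fromBC q (𝟙 (Red.bc q H'))
    obtain ⟨h, hh⟩ := (h0 _ (Groth.Agent.MTBridge.mapToMk q _)).2 h'
    refine ⟨Groth.Agent.MTBridge.toBC q h, ?_⟩
    have h2 : h ≫ i₁ = h' ≫ i' := by
      rw [hi₁, ← hh, hpt]
      group
    rw [← Groth.Agent.MTBridge.toBC_comp, h2, Groth.Agent.MTBridge.toBC_comp, Groth.Agent.MTBridge.toBC_fromBC,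
      Category.id_comp]
  obtain ⟨u, hu, hu0⟩ := Groth.Agent.MTBridge.exists_hom_lift_sub J i₁ i' hJ hH hH' ψ hψ
  obtain ⟨v, hv, hv0⟩ := Groth.Agent.MTBridge.exists_hom_lift_sub J i' i₁ hJ hH' hH ψ' hψ'
  have huv : u ≫ v = 𝟙 H := by
    refine Groth.Agent.MTBridge.endo_eq_id J hJ H hH _ fun X p h => (cancel_mono i₁).1 ?_
    rw [Category.assoc, Category.assoc, ← Category.assoc h u, hv0 X p (h ≫ u), Category.assoc, hu0 X p h]
  have hvu : v ≫ u = 𝟙 H' := by
    refine Groth.Agent.MTBridge.endo_eq_id J hJ H' hH' _ fun X p h => (cancel_mono i').1 ?_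
    rw [Category.assoc, Category.assoc, ← Category.assoc h v, hu0 X p (h ≫ v), Category.assoc, hv0 X p h]
  haveI : IsMonHom (u ≫ i') := inferInstance
  obtain ⟨g₂, hg₂, hg⟩ := Groth.Agent.MTBridge.exists_conj_nil hJ hH hG i₁ (u ≫ i') 1
    (fun X p h => by rw [MonObj.comp_one, _root_.one_mul, inv_one, _root_.mul_one, hu0 X p h])
  refine ⟨g₂ * g₁, by rw [MonObj.comp_mul, hg₂, hg₁, _root_.one_mul], ⟨u, v, huv, hvu⟩, ?_⟩
  have h1 := hg H (𝟙 H)
  simp only [Category.id_comp] at h1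
  show _ = u ≫ i'
  rw [h1, MonObj.comp_mul]
  simp only [i₁]
  group

end Groth.Agent.S5294
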