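import Groth.Statements.S5297
import Groth.Agent.MTBridge.EndoId
import Groth.Agent.MTBridge.NilHomBC
-- import your own Groth.Agent.* helpers here

set_option autoImplicit false
open CategoryTheory MonoidalCategory CartesianMonoidalCategory MonObj GrpObj AlgebraicGeometry
universe u
open SGA3x

namespace Groth.Agent.S5297

/-- In the lifting form that formal smoothness of the transporter means. Let S = Spec R be affine, J a
nilpotent ideal of R and S₀ = Spec (R/J); let G be an S-group smooth over S, k : K ⟶ G a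
sub-group-scheme (a homomorphism which is an immersion) with K smooth over S or of multiplicative
type, H an S-group of multiplicative type (fpqc-locally on S isomorphic, as a group, to
diagonalisable groups D(M), M allowed to vary and taken in Type 0), u : H ⟶ G a homomorphism, and g₀
an S₀-valued point of G such that int(g₀) ∘ u takes the points of H defined over S₀-schemes into K.
Then g₀ lifts to an S-point g of G such that int(g) ∘ u factors through K on all points. -/
theorem result {R : Type u} [CommRing R] (J : Ideal R) (hJ : IsNilpotent J)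
    (G K H : Over (Spec (CommRingCat.of R))) [GrpObj G] [GrpObj K] [GrpObj H] (hG : Smooth G.hom)
    (k : K ⟶ G) [IsMonHom k] [IsImmersion k.left]
    (hK : Smooth K.hom ∨ TwC.Locally (Spec (CommRingCat.of R)) TwC.Topology.fpqc (fun S' f => ∃ (M : Type) (_ : AddCommGroup M), Nonempty (Grp.mk (Red.bc f K) ≅ Grp.mk (Red.DS S' M))))
    (hH : TwC.Locally (Spec (CommRingCat.of R)) TwC.Topology.fpqc (fun S' f => ∃ (M : Type) (_ : AddCommGroup M), Nonempty (Grp.mk (Red.bc f H) ≅ Grp.mk (Red.DS S' M))))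
    (u : H ⟶ G) [IsMonHom u] (g₀ : (Over.mk (Spec.map (CommRingCat.ofHom (Ideal.Quotient.mk J))) : Over (Spec (CommRingCat.of R))) ⟶ G)
    (h0 : ∀ (X : Over (Spec (CommRingCat.of R))) (p : X ⟶ (Over.mk (Spec.map (CommRingCat.ofHom (Ideal.Quotient.mk J))) : Over (Spec (CommRingCat.of R)))) (h : X ⟶ H),
      ∃ x : X ⟶ K, (p ≫ g₀) * (h ≫ u) * (p ≫ g₀)⁻¹ = x ≫ k) :
    ∃ g : 𝟙_ (Over (Spec (CommRingCat.of R))) ⟶ G, toUnit (Over.mk (Spec.map (CommRingCat.ofHom (Ideal.Quotient.mk J))) : Over (Spec (CommRingCat.of R))) ≫ g = g₀ ∧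
      ∀ (X : Over (Spec (CommRingCat.of R))) (h : X ⟶ H), ∃ x : X ⟶ K, (toUnit X ≫ g) * (h ≫ u) * (toUnit X ≫ g)⁻¹ = x ≫ k := by
  haveI : Mono k := Over.mono_of_mono_left k
  let q := Spec.map (CommRingCat.ofHom (Ideal.Quotient.mk J))
  haveI : IsMonHom (1 : H ⟶ G) :=
    { one_hom := by rw [MonObj.comp_one, Hom.one_def, toUnit_unique (toUnit (𝟙_ _)) (𝟙 _), Category.id_comp]
      mul_hom := by
        rw [MonObj.comp_one, ← lift_fst_comp_snd_comp, ← Hom.mul_def, MonObj.comp_one, MonObj.comp_one, _root_.mul_one] }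
  obtain ⟨g₁, hg₁, -⟩ := Groth.Agent.MTBridge.exists_conj_nil hJ hH hG 1 1 g₀ (fun X p h => by simp)
  let u₁ : H ⟶ G := (toUnit H ≫ g₁) * u * (toUnit H ≫ g₁)⁻¹
  haveI : IsMonHom u₁ := Groth.Agent.MTBridge.isMonHom_conj u g₁
  have hu₁ : ∀ {X : Over (Spec (CommRingCat.of R))} (h : X ⟶ H),
      h ≫ u₁ = (toUnit X ≫ g₁) * (h ≫ u) * (toUnit X ≫ g₁)⁻¹ := fun h => by
    simp only [u₁, MonObj.comp_mul, GrpObj.comp_inv]
    rw [← Category.assoc, comp_toUnit]
  obtain ⟨ψ, hψ⟩ : ∃ ψ : Red.bc q H ⟶ Red.bc q K, ψ ≫ (Over.pullback q).map k = (Over.pullback q).map u₁ := by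
    let h := Groth.Agent.MTBridge.fromBC q (𝟙 (Red.bc q H))
    obtain ⟨x, hx⟩ := h0 _ (Groth.Agent.MTBridge.mapToMk q _) h
    refine ⟨Groth.Agent.MTBridge.toBC q x, ?_⟩
    have hp : Groth.Agent.MTBridge.mapToMk q (Red.bc q H) ≫ g₀ = toUnit _ ≫ g₁ := by
      rw [← hg₁, ← Category.assoc, comp_toUnit]
    rw [← Groth.Agent.MTBridge.toBC_comp, ← hx, hp, ← hu₁, Groth.Agent.MTBridge.toBC_comp,
      Groth.Agent.MTBridge.toBC_fromBC, Category.id_comp]
  obtain ⟨w, hw, hw0⟩ : ∃ w : H ⟶ K, IsMonHom w ∧ ∀ (Y : Over (Spec (CommRingCat.of R))) (_ : Y ⟶ Over.mk q)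
      (h : Y ⟶ H), h ≫ w ≫ k = h ≫ u₁ := by
    rcases hK with hKs | hKm
    · haveI : Mono ((Over.pullback q).map k) := inferInstance
      haveI : IsMonHom ((Over.pullback q).map k) := inferInstance
      haveI : IsMonHom ((Over.pullback q).map u₁) := inferInstance
      haveI : IsMonHom ψ :=
        { one_hom := by
            refine (cancel_mono ((Over.pullback q).map k)).1 ?_
            rw [Category.assoc, hψ, IsMonHom.one_hom, IsMonHom.one_hom]
          mul_hom := by
            refine (cancel_mono ((Over.pullback q).map k)).1 ?_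
            rw [Category.assoc, hψ, IsMonHom.mul_hom, Category.assoc, IsMonHom.mul_hom, ← Category.assoc,
              MonoidalCategory.tensorHom_comp_tensorHom, hψ] }
      obtain ⟨w, hw, hwb⟩ := Groth.Agent.MTBridge.exists_hom_lift_bc hJ hH hKs ψ
      refine ⟨w, hw, fun Y p h => ?_⟩
      refine (cancel_epi (Groth.Agent.MTBridge.mapIso' p).hom).1 ?_
      refine ((Over.mapPullbackAdj q).homEquiv _ G).injective ?_
      show Groth.Agent.MTBridge.toBC q _ = Groth.Agent.MTBridge.toBC q _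
      rw [← Category.assoc, ← Category.assoc, Groth.Agent.MTBridge.toBC_comp, Groth.Agent.MTBridge.toBC_comp,
        Category.assoc, hwb, hψ, ← Category.assoc, ← Groth.Agent.MTBridge.toBC_comp]
    · exact Groth.Agent.MTBridge.exists_hom_lift_sub J u₁ k hJ hH hKm ψ hψ
  haveI : IsMonHom (w ≫ k) := inferInstance
  obtain ⟨g₂, hg₂, hg⟩ := Groth.Agent.MTBridge.exists_conj_nil hJ hH hG u₁ (w ≫ k) 1
    (fun X p h => by rw [MonObj.comp_one, _root_.one_mul, inv_one, _root_.mul_one, hw0 X p h])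
  refine ⟨g₂ * g₁, by rw [MonObj.comp_mul, hg₂, hg₁, _root_.one_mul], fun X h => ⟨h ≫ w, ?_⟩⟩
  rw [Category.assoc, hg X h, hu₁, MonObj.comp_mul]
  group

end Groth.Agent.S5297
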