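import Groth.Statements.S5318
import Groth.Agent.UnitUnram.Basic
import Groth.Agent.FibCrit.Props
import Groth.Agent.EtaleSections.Basic
import Mathlib

set_option autoImplicit false
universe u
open CategoryTheory CategoryTheory.Limits MonoidalCategory CartesianMonoidalCategory MonObj GrpObj AlgebraicGeometry
open SGA3

namespace Groth.Agent.S5318

/-- (ii) ⟺ (iii) and, for G locally of finite presentation over S, (ii) ⟺ (iv): let G be an S-group
scheme. The unit section of G is an open immersion if and only if G is locally of finite
presentation over S on some open containing the unit section and every fibre G_s is unramified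
(formally unramified and locally of finite presentation) over κ(s). If G is locally of finite
presentation over S, the unit section is an open immersion if and only if G is unramified over S. -/
theorem result (S : Scheme.{u}) (G : Over S) [GrpObj G] :
    (IsOpenImmersion η[G].left ↔
      ((∃ W : G.left.Opens, (∀ p : ↥(𝟙_ (Over S)).left, η[G].left.base p ∈ W) ∧ LocallyOfFinitePresentation (W.ι ≫ G.hom)) ∧
        ∀ s : S, FormallyUnramified (G.hom.fiberToSpecResidueField s) ∧ LocallyOfFinitePresentation (G.hom.fiberToSpecResidueField s))) ∧
    (LocallyOfFinitePresentation G.hom → (IsOpenImmersion η[G].left ↔ FormallyUnramified G.hom)) := by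
  classical
  have hsec : η[G].left ≫ G.hom = 𝟙 S := Over.w η[G]
  refine ⟨⟨fun h => ⟨?_, fun s => ?_⟩, fun ⟨⟨W, hW, hWfp⟩, hf⟩ => ?_⟩, fun hfp => ⟨fun h => ?_, fun h => ?_⟩⟩
  · refine ⟨η[G].left.opensRange, fun p => ⟨p, rfl⟩, ?_⟩
    let e := η[G].left.isoOpensRange
    have he : e.hom ≫ η[G].left.opensRange.ι = η[G].left := η[G].left.isoOpensRange_hom_ι
    have : η[G].left.opensRange.ι ≫ G.hom = e.inv := by
      rw [← cancel_epi e.hom, ← Category.assoc, he, hsec, Iso.hom_inv_id]
      rfl
    rw [this]
    infer_instance
  · haveI : IsOpenImmersion (pullback.diagonal G.hom) := (UnitUnram.isOpenImmersion_unit_iff G).1 h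
    haveI : IsOpenImmersion (pullback.diagonal (pullback.snd G.hom (S.fromSpecResidueField s))) :=
      MorphismProperty.pullback_snd (P := .diagonal @IsOpenImmersion) _ _ ‹_›
    haveI h1 : LocallyOfFiniteType (pullback.snd G.hom (S.fromSpecResidueField s)) :=
      @UnitUnram.locallyOfFiniteType_of_diagonal (S.residueField s) _ _ _ ‹_›
    have h2 : FormallyUnramified (pullback.snd G.hom (S.fromSpecResidueField s)) := inferInstance
    have h3 : LocallyOfFinitePresentation (pullback.snd G.hom (S.fromSpecResidueField s)) := inferInstance
    exact ⟨h2, h3⟩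
  · haveI := hWfp
    have hfib : ∀ s, FormallyUnramified ((W.ι ≫ G.hom).fiberToSpecResidueField s) := fun s => by
      have h1 : FormallyUnramified (pullback.snd G.hom (S.fromSpecResidueField s)) := (hf s).1
      show FormallyUnramified (pullback.snd (W.ι ≫ G.hom) (S.fromSpecResidueField s))
      rw [← pullbackRightPullbackFstIso_inv_snd_snd]
      exact MorphismProperty.comp_mem _ _ _ inferInstance
        (MorphismProperty.comp_mem @FormallyUnramified _ _ inferInstance h1)
    haveI := FibCrit.formallyUnramified_of_fiberToSpecResidueField _ hfib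
    have hr : Set.range η[G].left ⊆ Set.range W.ι := by
      rw [Scheme.Opens.range_ι]
      rintro _ ⟨p, rfl⟩
      exact hW p
    let e := IsOpenImmersion.lift W.ι η[G].left hr
    have he : e ≫ W.ι = η[G].left := IsOpenImmersion.lift_fac _ _ _
    have he' : e ≫ W.ι ≫ G.hom = 𝟙 S := by rw [← Category.assoc, he]; exact hsec
    haveI : IsOpenImmersion e := EtaleSections.isOpenImmersion_section (W.ι ≫ G.hom) e he'
    rw [← he]
    infer_instance
  · haveI : IsOpenImmersion (pullback.diagonal G.hom) := (UnitUnram.isOpenImmersion_unit_iff G).1 h
    infer_instance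
  · haveI := hfp
    haveI := h
    exact (UnitUnram.isOpenImmersion_unit_iff G).2 inferInstance

end Groth.Agent.S5318
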