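import Groth.Statements.S5319
import Groth.Agent.UnitUnram.Basic
import Mathlib

set_option autoImplicit false
universe u
open CategoryTheory CategoryTheory.Limits MonoidalCategory CartesianMonoidalCategory MonObj GrpObj AlgebraicGeometry
open SGA3

namespace Groth.Agent.S5319

/-- Let u : G → H be a homomorphism of S-group schemes which is locally of finite type, with every fibre
G_s locally of finite type over κ(s), and let i : K → G be the kernel of u (the square i, u, unit of
H is cartesian). The following are equivalent: u is locally quasi-finite; every fibre u_s : G_s →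
H_s is locally quasi-finite; K is locally quasi-finite over S; every fibre of K over S is a discrete
space. -/
theorem result (S : Scheme.{u}) (G H : Over S) [GrpObj G] [GrpObj H] (u : G ⟶ H) [IsMonHom u]
    [LocallyOfFiniteType u.left] (hG : ∀ s : S, LocallyOfFiniteType (G.hom.fiberToSpecResidueField s)) (K : Over S) [GrpObj K] (i : K ⟶ G) [IsMonHom i] (hK : AlgGrp.IsKernel i u) :
    (LocallyQuasiFinite u.left ↔ ∀ s : S, LocallyQuasiFinite ((Over.pullback (S.fromSpecResidueField s)).map u).left) ∧
    (LocallyQuasiFinite u.left ↔ LocallyQuasiFinite K.hom) ∧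
    (LocallyQuasiFinite u.left ↔ ∀ s : S, DiscreteTopology ↥(K.hom.base ⁻¹' {s})) := by
  have hKlft : LocallyOfFiniteType K.hom := UnitUnram.kernel_hom u i @LocallyOfFiniteType hK inferInstance
  refine ⟨⟨fun h s => MorphismProperty.of_isPullback (GrpLoc.isPullback_bc (S.fromSpecResidueField s) u) h,
    fun h => LimDesc.locallyQuasiFinite_of_forall_quasiFiniteAt _ fun x => ?_⟩,
    UnitUnram.lqf_iff_kernel u i hK, (UnitUnram.lqf_iff_kernel u i hK).trans ?_⟩
  · obtain ⟨x', hx'⟩ : x ∈ Set.range (pullback.fst G.hom (S.fromSpecResidueField (G.hom x))) := by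
      rw [Scheme.Pullback.range_fst, Scheme.range_fromSpecResidueField]
      rfl
    have := h (G.hom x)
    rw [← hx']
    exact LimDesc.quasiFiniteAt_of_baseChange (GrpLoc.isPullback_bc (S.fromSpecResidueField (G.hom x)) u)
      (((Over.pullback (S.fromSpecResidueField (G.hom x))).map u).left.quasiFiniteAt x')
  · rw [locallyQuasiFinite_iff_isDiscrete_preimage_singleton]
    exact forall_congr' fun s => isDiscrete_iff_discreteTopology

end Groth.Agent.S5319
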