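import Groth.Statements.S5320
import Groth.Agent.UnitUnram.Basic
import Mathlib

set_option autoImplicit false
universe u
open CategoryTheory CategoryTheory.Limits MonoidalCategory CartesianMonoidalCategory MonObj GrpObj AlgebraicGeometry
open SGA3

namespace Groth.Agent.S5320

/-- Let u : G → H be a homomorphism of S-group schemes which is locally of finite presentation, with
every fibre G_s locally of finite type over κ(s), and let i : K → G be the kernel of u (the square
i, u, unit of H is cartesian, K with the group structure making i a homomorphism). The following are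
equivalent: u is unramified (formally unramified); every fibre u_s : G_s → H_s is unramified; K is
unramified over S; the unit section of K is an open immersion. -/
theorem result (S : Scheme.{u}) (G H : Over S) [GrpObj G] [GrpObj H] (u : G ⟶ H) [IsMonHom u]
    [LocallyOfFinitePresentation u.left] (hG : ∀ s : S, LocallyOfFiniteType (G.hom.fiberToSpecResidueField s)) (K : Over S) [GrpObj K] (i : K ⟶ G) [IsMonHom i] (hK : AlgGrp.IsKernel i u) :
    (FormallyUnramified u.left ↔ ∀ s : S, FormallyUnramified ((Over.pullback (S.fromSpecResidueField s)).map u).left) ∧
    (FormallyUnramified u.left ↔ FormallyUnramified K.hom) ∧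
    (FormallyUnramified u.left ↔ IsOpenImmersion η[K].left) := by
  have hKlft : LocallyOfFiniteType K.hom := UnitUnram.kernel_hom u i @LocallyOfFiniteType hK inferInstance
  refine ⟨⟨fun h s => MorphismProperty.of_isPullback (GrpLoc.isPullback_bc (S.fromSpecResidueField s) u) h,
    fun h => ?_⟩, UnitUnram.formallyUnramified_iff_kernel u i hK,
    (UnitUnram.formallyUnramified_iff_kernel u i hK).trans ?_⟩
  · have key : ∀ x, ∃ U : G.left.Opens, x ∈ U ∧ FormallyUnramified (U.ι ≫ u.left) := fun x => by
      obtain ⟨x', hx'⟩ : x ∈ Set.range (pullback.fst G.hom (S.fromSpecResidueField (G.hom x))) := by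
        rw [Scheme.Pullback.range_fst, Scheme.range_fromSpecResidueField]
        rfl
      have := h (G.hom x)
      let sq := GrpLoc.isPullback_bc (S.fromSpecResidueField (G.hom x)) u
      obtain ⟨U, hU, hUu⟩ := UnramPt.exists_nhd_of_baseChange u.left
        (pullback.fst H.hom (S.fromSpecResidueField (G.hom x))) (sq.isoPullback.hom x') ⊤ trivial (by
          refine MorphismProperty.comp_mem @FormallyUnramified _ _ inferInstance ?_
          rw [← sq.isoPullback_inv_snd]
          exact MorphismProperty.comp_mem @FormallyUnramified _ _ inferInstance this)
      refine ⟨U, ?_, hUu⟩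
      rwa [← Scheme.Hom.comp_apply, sq.isoPullback_hom_fst, hx'] at hU
    choose U hxU hU using key
    exact IsZariskiLocalAtSource.of_iSup_eq_top U
      (top_le_iff.1 fun x _ => TopologicalSpace.Opens.mem_iSup.2 ⟨x, hxU x⟩) hU
  · rw [UnitUnram.isOpenImmersion_unit_iff]
    exact ⟨fun h => by haveI := h; infer_instance, fun h => by haveI := h; infer_instance⟩

end Groth.Agent.S5320
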