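import Groth.Statements.S5321
import Groth.Agent.UnramPt.Basic
import Groth.Agent.UnibranchEtale.RationalSection
import Mathlib

set_option autoImplicit false
universe u
open CategoryTheory CategoryTheory.Limits MonoidalCategory CartesianMonoidalCategory MonObj GrpObj AlgebraicGeometry
open SGA3

namespace Groth.Agent.S5321

/-- Consider a morphism π : X → S admitting a section ε, and assume the map of underlying spaces of π is
closed. Fix a point s of S, and suppose that on some open neighbourhood of ε(s) the morphism π is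
locally of finite presentation, and that the fibre X_s → Spec κ(s) is an isomorphism. Under these
assumptions one can find an open subset U of S containing s such that π restricts to an isomorphism
π⁻¹(U) → U (consequently ε restricted to U is an isomorphism onto π⁻¹(U)). -/
theorem result (X S : Scheme.{u}) (π : X ⟶ S) (ε : S ⟶ X) (hε : ε ≫ π = 𝟙 S)
    (hcl : IsClosedMap π.base) (s : S)
    (hfp : ∃ W : X.Opens, ε.base s ∈ W ∧ LocallyOfFinitePresentation (W.ι ≫ π))
    (hs : IsIso (π.fiberToSpecResidueField s)) :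
    ∃ U : S.Opens, s ∈ U ∧ IsIso (π ∣_ U) := by
  classical
  obtain ⟨W, hW, hWfp⟩ := hfp
  haveI := hWfp
  have hfib : ∀ z : X, π z = s → z = ε s := by
    intro z hz
    haveI := hs
    have hsub : Subsingleton ↥(π.fiber s) :=
      (TopCat.homeoOfIso (asIso ((π.fiberToSpecResidueField s).base))).toEquiv.subsingleton
    obtain ⟨a, rfl⟩ : z ∈ Set.range (π.fiberι s) := by rw [Scheme.Hom.range_fiberι]; exact hz
    obtain ⟨b, hb⟩ : ε s ∈ Set.range (π.fiberι s) := by
      rw [Scheme.Hom.range_fiberι]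
      show π (ε s) = s
      rw [← Scheme.Hom.comp_apply, hε]; rfl
    rw [← hb, Subsingleton.elim a b]
  obtain ⟨w, hw⟩ : ε s ∈ Set.range W.ι := by rw [Scheme.Opens.range_ι]; exact hW
  obtain ⟨x', hx'⟩ : w ∈ Set.range (pullback.fst (W.ι ≫ π) (S.fromSpecResidueField s)) := by
    rw [Scheme.Pullback.range_fst, Scheme.range_fromSpecResidueField]
    show (W.ι ≫ π) w = s
    rw [Scheme.Hom.comp_apply, hw, ← Scheme.Hom.comp_apply, hε]; rfl
  have hFU : FormallyUnramified (pullback.snd (W.ι ≫ π) (S.fromSpecResidueField s)) := by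
    haveI := hs
    rw [← pullbackRightPullbackFstIso_inv_snd_snd]
    haveI : IsIso (pullback.snd π (S.fromSpecResidueField s)) := hs
    exact MorphismProperty.comp_mem _ _ _ inferInstance
      (MorphismProperty.comp_mem @FormallyUnramified _ _ inferInstance inferInstance)
  obtain ⟨U₁, hwU₁, hU₁⟩ := UnramPt.exists_nhd_of_baseChange (W.ι ≫ π) (S.fromSpecResidueField s) x' ⊤ trivial
    (MorphismProperty.comp_mem @FormallyUnramified _ _ inferInstance hFU)
  rw [hx'] at hwU₁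
  haveI := hU₁
  let g : (U₁ : Scheme.{u}) ⟶ X := U₁.ι ≫ W.ι
  let V : S.Opens := ε ⁻¹ᵁ g.opensRange
  have hsV : s ∈ V := by
    show ε s ∈ Set.range g
    refine ⟨⟨w, hwU₁⟩, ?_⟩
    show W.ι (U₁.ι _) = _
    exact hw
  have hlift : Set.range (V.ι ≫ ε) ⊆ Set.range g := by
    rintro _ ⟨t, rfl⟩
    rw [Scheme.Hom.comp_apply]
    exact t.2
  let v := IsOpenImmersion.lift g (V.ι ≫ ε) hlift
  have hv : v ≫ g = V.ι ≫ ε := IsOpenImmersion.lift_fac _ _ _
  haveI : IsOpenImmersion v := UnibranchEtale.isOpenImmersion_of_section (U₁.ι ≫ W.ι ≫ π) V v (by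
    rw [← Category.assoc U₁.ι, ← Category.assoc]
    show (v ≫ g) ≫ π = V.ι
    rw [hv, Category.assoc, hε, Category.comp_id])
  haveI : IsOpenImmersion (V.ι ≫ ε) := by rw [← hv]; infer_instance
  let Z : Set X := (Set.range (V.ι ≫ ε))ᶜ
  have hZ : IsClosed Z := (V.ι ≫ ε).isOpenEmbedding.isOpen_range.isClosed_compl
  have hsZ : s ∉ π '' Z := by
    rintro ⟨z, hz, hzs⟩
    refine hz ⟨⟨s, hsV⟩, ?_⟩
    rw [hfib z hzs, Scheme.Hom.comp_apply]
    rfl
  let U : S.Opens := V ⊓ ⟨(π '' Z)ᶜ, (hcl Z hZ).isOpen_compl⟩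
  refine ⟨U, ⟨hsV, hsZ⟩, ?_⟩
  have hρ : Set.range (U.ι ≫ ε) ⊆ Set.range (π ⁻¹ᵁ U).ι := by
    rintro _ ⟨t, rfl⟩
    rw [Scheme.Opens.range_ι, Scheme.Hom.comp_apply]
    show π (ε (U.ι t)) ∈ U
    rw [← Scheme.Hom.comp_apply, hε]
    exact t.2
  let ρ := IsOpenImmersion.lift (π ⁻¹ᵁ U).ι (U.ι ≫ ε) hρ
  have hρ' : ρ ≫ (π ⁻¹ᵁ U).ι = U.ι ≫ ε := IsOpenImmersion.lift_fac _ _ _
  refine ⟨ρ, ?_, ?_⟩
  · have hb : Set.range (π ⁻¹ᵁ U).ι ⊆ Set.range (V.ι ≫ ε) := by
      rw [Scheme.Opens.range_ι]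
      intro x hx
      by_contra h
      exact hx.2 ⟨x, h, rfl⟩
    have hbf := IsOpenImmersion.lift_fac (V.ι ≫ ε) (π ⁻¹ᵁ U).ι hb
    rw [← cancel_mono (π ⁻¹ᵁ U).ι, Category.assoc, hρ', morphismRestrict_ι_assoc, Category.id_comp]
    rw [← hbf]
    simp only [Category.assoc, reassoc_of% hε]
  · rw [← cancel_mono U.ι, Category.assoc, morphismRestrict_ι, reassoc_of% hρ', hε, Category.comp_id,
      Category.id_comp]

end Groth.Agent.S5321
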