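import Groth.Statements.S5323
import Groth.Agent.GrpDim.FibreDiv

set_option autoImplicit false
universe u
open CategoryTheory CategoryTheory.Limits MonoidalCategory CartesianMonoidalCategory MonObj GrpObj AlgebraicGeometry
open SGA3

namespace Groth.Agent.S5323

/-- Let S be a quasi-compact quasi-separated scheme and G an S-group scheme whose fibres G_s are locally
of finite type over κ(s). Then there is a quasi-compact open subset of G containing the union of the
neutral components of the fibres G_s. -/
theorem result (S : Scheme.{u}) [CompactSpace S] [QuasiSeparatedSpace S]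
    (G : Over S) [GrpObj G] (hG : ∀ s : S, LocallyOfFiniteType (G.hom.fiberToSpecResidueField s)) :
    ∃ U : G.left.Opens, IsCompact (U : Set G.left) ∧ SGA3x.neutralSet G ⊆ U := by
  obtain ⟨K, hK, -, hle⟩ := GrpDim.exists_isCompact_neutralSet_of_fibre G hG ⊤
    isCompact_univ isQuasiSeparated_univ
  have hA : ∀ x : G.left, ∃ A : G.left.Opens, IsAffineOpen A ∧ x ∈ A := fun x => by
    obtain ⟨A, hA, hxA, -⟩ := exists_isAffineOpen_mem_and_subset (show x ∈ (⊤ : G.left.Opens) from trivial)
    exact ⟨A, hA, hxA⟩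
  choose A hA hxA using hA
  obtain ⟨I, hI⟩ := hK.elim_finite_subcover (fun x : G.left => (A x : Set G.left)) (fun x => (A x).2)
    (fun x _ => Set.mem_iUnion.2 ⟨x, hxA x⟩)
  refine ⟨⨆ x ∈ I, A x, ?_, fun x hx => ?_⟩
  · rw [show ((⨆ x ∈ I, A x : G.left.Opens) : Set G.left) = ⋃ x ∈ I, (A x : Set G.left) by simp]
    exact I.finite_toSet.isCompact_biUnion fun t _ => (hA t).isCompact
  · obtain ⟨y, hyI, hy⟩ := Set.mem_iUnion₂.1 (hI (hle x hx trivial))
    exact TopologicalSpace.Opens.mem_iSup.2 ⟨y, TopologicalSpace.Opens.mem_iSup.2 ⟨hyI, hy⟩⟩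

end Groth.Agent.S5323
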