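import Groth.Statements.S5328
import Groth.Agent.GrpDim.HomImage

set_option autoImplicit false
universe u
open CategoryTheory CategoryTheory.Limits MonoidalCategory CartesianMonoidalCategory MonObj GrpObj AlgebraicGeometry
open SGA3

namespace Groth.Agent.S5328

/-- Let u : G → H be a homomorphism between S-group schemes locally of finite presentation over S, and
let G⁰, H⁰ be the unions of the neutral components of the fibres. If u is flat then u(G⁰) = H⁰.
Conversely, if G is flat over S, the fibres H_s are reduced and u(G⁰) = H⁰, then u is flat. -/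
theorem result (S : Scheme.{u}) (G H : Over S) [GrpObj G] [GrpObj H]
    [LocallyOfFinitePresentation G.hom] [LocallyOfFinitePresentation H.hom] (u : G ⟶ H) [IsMonHom u] :
    (Flat u.left → u.left.base '' SGA3x.neutralSet G = SGA3x.neutralSet H) ∧
    (Flat G.hom → (∀ s : S, IsReduced (H.hom.fiber s)) → u.left.base '' SGA3x.neutralSet G = SGA3x.neutralSet H →
      Flat u.left) := by
  open Groth.Agent.GrpDim in
  constructor
  · intro hfl
    ext y
    constructor
    · rintro ⟨x, hx, rfl⟩
      rw [neutralSet_iff] at hx ⊢
      rw [hom_apply u x]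
      exact image_comp0_subset u _ ⟨x, hx, rfl⟩
    · intro hy
      rw [neutralSet_iff] at hy
      obtain ⟨x, hx, rfl⟩ := (image_comp0_eq u (H.hom y)).ge hy
      refine ⟨x, ?_, rfl⟩
      rw [neutralSet_iff, ← hom_apply u x]
      exact hx
  · intro hfl hred himg
    refine flat_of_image_comp0_eq u hred fun s y hy => ?_
    rw [← neutralSet_inter H] at hy
    obtain ⟨x, hx, rfl⟩ := himg.ge hy.1
    refine ⟨x, ?_, rfl⟩
    rw [← neutralSet_inter G]
    exact ⟨hx, (hom_apply u x).symm.trans hy.2⟩

end Groth.Agent.S5328
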