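import Groth.Statements.S5331
import Groth.Agent.S0346

set_option autoImplicit false
universe u
open CategoryTheory CategoryTheory.Limits MonoidalCategory CartesianMonoidalCategory MonObj GrpObj AlgebraicGeometry
open SGA3

open Groth.Agent
set_option backward.isDefEq.respectTransparency false
namespace Groth.Agent.S5331

/-- Let S be a scheme whose underlying topological space is discrete. Then every S-group scheme is
separated over S. -/
theorem result (S : Scheme.{u}) [DiscreteTopology S] (G : Over S) [GrpObj G] :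
    IsSeparated G.hom := by
  refine (S0346.result S G).1.2 ?_
  have hs : η[G].left ≫ G.hom = 𝟙 S := Over.w η[G]
  haveI : IsImmersion (η[G].left ≫ G.hom) := by rw [hs]; exact inferInstanceAs (IsImmersion (𝟙 _))
  haveI : IsImmersion η[G].left := IsImmersion.of_comp _ G.hom
  let σ : S ⟶ G.left := η[G].left
  have hσ : ∀ s, G.hom (σ s) = s := fun s => by
    show G.hom (η[G].left s) = s
    rw [← Scheme.Hom.comp_apply, hs]; rfl
  refine IsClosedImmersion.of_isPreimmersion _ (isOpen_compl_iff.mp (isOpen_iff_forall_mem_open.mpr fun x hx => ?_))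
  let V : S.Opens := ⟨{G.hom x}, isOpen_discrete _⟩
  refine ⟨G.hom ⁻¹' {G.hom x} ∩ (closure {σ (G.hom x)})ᶜ, ?_, ((isOpen_discrete _).preimage G.hom.continuous).inter isClosed_closure.isOpen_compl, rfl, ?_⟩
  · rintro y ⟨hy, hyc⟩ ⟨s, rfl⟩
    have : s = G.hom x := (hσ s).symm.trans hy
    exact hyc (subset_closure (by rw [← this]; rfl))
  · intro hc
    obtain ⟨W, hW, hxW, hWV⟩ := exists_isAffineOpen_mem_and_subset (U := G.hom ⁻¹ᵁ V) (show G.hom x ∈ V from rfl)
    haveI : IsAffine W := hW
    have hsW : σ (G.hom x) ∈ W := (specializes_iff_mem_closure.mpr hc).mem_open W.isOpen hxW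
    have hVW : Set.range (V.ι ≫ σ) ⊆ Set.range W.ι := by
      rintro _ ⟨v, rfl⟩
      rw [Scheme.Opens.range_ι, Scheme.Hom.comp_apply]
      have hv : V.ι v = G.hom x := v.2
      show σ (V.ι v) ∈ W
      rw [hv]; exact hsW
    have hWf : Set.range (W.ι ≫ G.hom) ⊆ Set.range V.ι := by
      rintro _ ⟨w, rfl⟩
      rw [Scheme.Opens.range_ι, Scheme.Hom.comp_apply]
      exact hWV w.2
    let t : (V : Scheme.{u}) ⟶ W := IsOpenImmersion.lift W.ι (V.ι ≫ σ) hVW
    let g : (W : Scheme.{u}) ⟶ V := IsOpenImmersion.lift V.ι (W.ι ≫ G.hom) hWf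
    have htg : t ≫ g = 𝟙 _ := by
      rw [← cancel_mono V.ι, Category.assoc, IsOpenImmersion.lift_fac, IsOpenImmersion.lift_fac_assoc,
        Category.assoc, hs, Category.comp_id, Category.id_comp]
    haveI : IsClosedImmersion (t ≫ g) := by rw [htg]; infer_instance
    haveI : IsClosedImmersion t := IsClosedImmersion.of_comp t g
    have hcl : IsClosed (Set.range t) := t.isClosedEmbedding.isClosed_range
    let v₀ : V := ⟨G.hom x, rfl⟩
    have ht : W.ι (t v₀) = σ (G.hom x) := by
      rw [← Scheme.Hom.comp_apply, IsOpenImmersion.lift_fac, Scheme.Hom.comp_apply]; rfl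
    have hsp : t v₀ ⤳ (⟨x, hxW⟩ : W) := W.ι.isEmbedding.isInducing.specializes_iff.mp
      (by rw [ht]; exact specializes_iff_mem_closure.mpr hc)
    obtain ⟨v, hv⟩ := hsp.mem_closed hcl ⟨v₀, rfl⟩
    refine hx ⟨G.hom x, ?_⟩
    show σ (G.hom x) = x
    rw [show G.hom x = V.ι v from v.2.symm, ← Scheme.Hom.comp_apply, ← IsOpenImmersion.lift_fac W.ι (V.ι ≫ σ) hVW, Scheme.Hom.comp_apply, hv]
    rfl

end Groth.Agent.S5331
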