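import Groth.Statements.S5332
import Groth.Agent.GrpAct.Separated
import Groth.Agent.GrpAct.OrbitDense
import Mathlib.AlgebraicGeometry.Fiber
import Mathlib.FieldTheory.IsAlgClosed.AlgebraicClosure

set_option autoImplicit false
universe u
open CategoryTheory CategoryTheory.Limits MonoidalCategory CartesianMonoidalCategory MonObj GrpObj AlgebraicGeometry
open SGA3

namespace Groth.Agent.S5332

/-- Let G be an S-group scheme locally of finite presentation over S and universally open over S on some
open containing the unit section, acting on an S-scheme X so that the morphism G ×_S X → X ×_S X,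
(g, x) ↦ (gx, x), is surjective. Suppose that for every point s of S the fibre X_s is locally of
finite type over κ(s) and there is an open subscheme U of X, separated over S, whose fibre U_s is
dense in X_s. Then X is separated over S. -/
theorem result (S : Scheme.{u}) (G X : Over S) [GrpObj G] [LocallyOfFinitePresentation G.hom]
    (hGo : ∃ W : G.left.Opens, (∀ p : ↥(𝟙_ (Over S)).left, η[G].left.base p ∈ W) ∧ UniversallyOpen (W.ι ≫ G.hom))
    (a : AlgGrp.Action G X) (hΦ : Surjective (lift a.act (snd G X)).left)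
    (hft : ∀ s : S, LocallyOfFiniteType (X.hom.fiberToSpecResidueField s))
    (hU : ∀ s : S, ∃ U : X.left.Opens, IsSeparated (U.ι ≫ X.hom) ∧
      X.hom.base ⁻¹' {s} ⊆ closure ((U : Set X.left) ∩ X.hom.base ⁻¹' {s})) :
    IsSeparated X.hom := by
  classical
  obtain ⟨W, hW1, hW⟩ := hGo
  refine Groth.Agent.GrpAct.isSeparated_of_translate a W fun z => ?_
  let s := (X ⊗ X).hom z
  obtain ⟨U, hUsep, hUd⟩ := hU s
  refine ⟨U, hUsep, ?_⟩
  let κ : Type u := (X ⊗ X).left.residueField z
  let K : Type u := AlgebraicClosure κ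
  let g₀ : Spec (CommRingCat.of K) ⟶ Spec ((X ⊗ X).left.residueField z) :=
    Spec.map (CommRingCat.ofHom (algebraMap κ K))
  let wl : Spec (CommRingCat.of K) ⟶ (X ⊗ X).left := g₀ ≫ (X ⊗ X).left.fromSpecResidueField z
  let f : Spec (CommRingCat.of K) ⟶ S := wl ≫ (X ⊗ X).hom
  let T : Over S := Over.mk f
  let w : T ⟶ X ⊗ X := Over.homMk wl
  let t₀ : T.left := IsLocalRing.closedPoint K
  have hw : ∀ t, w.left t = z := fun t => by
    change (g₀ ≫ (X ⊗ X).left.fromSpecResidueField z) t = z
    rw [Scheme.Hom.comp_apply, Scheme.fromSpecResidueField_apply]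
  have hfs : f (IsLocalRing.closedPoint K) = s := by
    change (w.left ≫ (X ⊗ X).hom) t₀ = s
    rw [Scheme.Hom.comp_apply, hw]
  -- factor through the residue field of `s`
  obtain ⟨φ, hφ⟩ : ∃ φ : S.residueField s ⟶ CommRingCat.of K, Spec.map φ ≫ S.fromSpecResidueField s = f := by
    obtain ⟨x, hx⟩ := (Scheme.SpecToEquivOfField K S).symm.surjective f
    have : x.1 = s := by rw [← hfs, ← hx]; exact (Scheme.fromSpecResidueField_apply x.1 _).symm
    obtain ⟨x1, x2⟩ := x
    subst this
    exact ⟨x2, hx⟩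
  haveI : LocallyOfFiniteType (pullback.snd G.hom f) := inferInstance
  haveI : LocallyOfFiniteType (pullback.snd (X.hom.fiberToSpecResidueField s) (Spec.map φ)) :=
    MorphismProperty.pullback_snd _ _ (hft s)
  let e : pullback (X.hom.fiberToSpecResidueField s) (Spec.map φ) ≅ (X ⊗ T).left :=
    pullbackLeftPullbackSndIso X.hom (S.fromSpecResidueField s) (Spec.map φ) ≪≫ pullback.congrHom rfl hφ
  have hesnd : e.hom ≫ pullback.snd X.hom f = pullback.snd (X.hom.fiberToSpecResidueField s) (Spec.map φ) := by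
    simp only [e, Iso.trans_hom, Category.assoc, pullback.congrHom_hom, pullback.map, pullback.lift_snd, Category.comp_id]
    exact pullbackLeftPullbackSndIso_hom_snd _ _ _
  have hefst : e.hom ≫ pullback.fst X.hom f =
      pullback.fst (X.hom.fiberToSpecResidueField s) (Spec.map φ) ≫ X.hom.fiberι s := by
    simp only [e, Iso.trans_hom, Category.assoc, pullback.congrHom_hom, pullback.map, pullback.lift_fst, Category.comp_id]
    exact pullbackLeftPullbackSndIso_hom_fst _ _ _
  haveI : LocallyOfFiniteType (pullback.snd X.hom f) := by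
    rw [← MorphismProperty.cancel_left_of_respectsIso @LocallyOfFiniteType e.hom, hesnd]
    infer_instance
  -- the open `U` stays dense
  have hUdense : Dense ((fst X T).left ⁻¹' (U : Set X.left)) := by
    refine dense_iff_inter_open.2 fun O hO hOn => ?_
    have hfib : Dense ((X.hom.fiberι s) ⁻¹' (U : Set X.left)) := by
      refine dense_iff_inter_open.2 fun O' hO' hO'n => ?_
      obtain ⟨p, hp⟩ := hO'n
      obtain ⟨V, hV, hVO⟩ := (X.hom.fiberι s).isEmbedding.isInducing.isOpen_iff.1 hO'
      have hps : X.hom.fiberι s p ∈ X.hom ⁻¹' {s} := by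
        rw [← X.hom.range_fiberι s]; exact ⟨p, rfl⟩
      obtain ⟨q, hqV, hqU, hqs⟩ := mem_closure_iff.1 (hUd hps) V hV (by rwa [← hVO] at hp)
      obtain ⟨q', rfl⟩ : q ∈ Set.range (X.hom.fiberι s) := by rw [X.hom.range_fiberι s]; exact hqs
      exact ⟨q', by rw [← hVO]; exact hqV, hqU⟩
    haveI : UniversallyOpen (Spec.map φ) :=
      (inferInstance : Groth.Agent.GrpField.PointBase (Spec (CommRingCat.of (S.residueField s)))).uopen K _
    let q := e.inv ≫ pullback.fst (X.hom.fiberToSpecResidueField s) (Spec.map φ)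
    have hq : IsOpenMap q := q.isOpenMap
    obtain ⟨y, ⟨y', hy', hyy⟩, hyU⟩ := hfib.inter_open_nonempty _ (hq O hO) (hOn.image q)
    refine ⟨y', hy', ?_⟩
    change pullback.fst X.hom f y' ∈ U
    rw [show pullback.fst X.hom f = q ≫ X.hom.fiberι s by
      rw [Category.assoc, ← hefst, Iso.inv_hom_id_assoc], Scheme.Hom.comp_apply, hyy]
    exact hyU
  -- orbit maps are surjective
  have horb : ∀ v : T ⟶ X, Surjective (lift (lift (fst G T) (snd G T ≫ v) ≫ a.act) (snd G T)).left := by
    intro v
    refine ⟨fun y => ?_⟩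
    let Φ := lift a.act (snd G X)
    let Ty : Over S := Over.mk ((X ⊗ T).left.fromSpecResidueField y ≫ (X ⊗ T).hom)
    let yy : Ty ⟶ X ⊗ T := Over.homMk ((X ⊗ T).left.fromSpecResidueField y)
    let p : Ty ⟶ X ⊗ X := lift (yy ≫ fst X T) (yy ≫ snd X T ≫ v)
    let t₁ : Ty.left := IsLocalRing.closedPoint ((X ⊗ T).left.residueField y)
    haveI := hΦ
    obtain ⟨g, hg⟩ := Φ.left.surjective (p.left t₁)
    obtain ⟨r, -, hr⟩ := Scheme.Pullback.exists_preimage_pullback (f := Φ.left) (g := p.left) g t₁ hg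
    let T' : Over S := Over.mk (pullback.snd Φ.left p.left ≫ Ty.hom)
    let b : T' ⟶ Ty := Over.homMk (pullback.snd Φ.left p.left)
    let u : T' ⟶ G ⊗ X := Over.homMk (pullback.fst Φ.left p.left) (by
      change _ ≫ (G ⊗ X).hom = _ ≫ Ty.hom
      rw [← Over.w Φ, ← Over.w p, pullback.condition_assoc])
    have hu : u ≫ Φ = b ≫ p := by
      apply Over.OverMorphism.ext
      exact (pullback.condition : pullback.fst Φ.left p.left ≫ Φ.left = pullback.snd Φ.left p.left ≫ p.left)
    have e1 : u ≫ snd G X = b ≫ yy ≫ snd X T ≫ v := by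
      have := congrArg (fun k => k ≫ snd X X) hu
      simpa [Φ, p] using this
    have e2 : u ≫ a.act = b ≫ yy ≫ fst X T := by
      have := congrArg (fun k => k ≫ fst X X) hu
      simpa [Φ, p] using this
    refine ⟨(lift (u ≫ fst G X) (b ≫ yy ≫ snd X T)).left r, ?_⟩
    rw [← Scheme.Hom.comp_apply, ← Over.comp_left,
      show lift (u ≫ fst G X) (b ≫ yy ≫ snd X T) ≫ lift (lift (fst G T) (snd G T ≫ v) ≫ a.act) (snd G T) =
        b ≫ yy by
        apply CartesianMonoidalCategory.hom_ext
        · simp only [Category.assoc, lift_fst]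
          rw [Groth.Agent.GrpAct.comp_smul, ← e2, lift_fst, lift_snd_assoc]
          simp only [Category.assoc]
          rw [← e1, ← comp_lift_assoc, lift_fst_snd, Category.id_comp]
        · simp, Over.comp_left, Scheme.Hom.comp_apply]
    exact Scheme.fromSpecResidueField_apply y _
  let x := w ≫ fst X X
  let y := w ≫ snd X X
  let P : ∀ v : T ⟶ X, Set (G ⊗ T).left := fun v =>
    (lift (lift (fst G T) (snd G T ≫ v) ≫ a.act) (snd G T)).left ⁻¹' ((fst X T).left ⁻¹' (U : Set X.left))
  have hPd : ∀ v, Dense (P v) := fun v => Groth.Agent.GrpAct.dense_preimage_orbit a f v (horb v)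
    (U.2.preimage (fst X T).left.continuous) hUdense
  have hPo : ∀ v, IsOpen (P v) := fun v => (U.2.preimage (fst X T).left.continuous).preimage (Scheme.Hom.continuous _)
  have hWne : ((fst G T).left ⁻¹' (W : Set G.left)).Nonempty := by
    refine ⟨(lift (toUnit T ≫ η[G]) (𝟙 T)).left t₀, ?_⟩
    rw [Set.mem_preimage, ← Scheme.Hom.comp_apply, ← Over.comp_left, lift_fst, Over.comp_left,
      Scheme.Hom.comp_apply]
    exact hW1 _
  obtain ⟨g, ⟨hgW, hgx⟩, hgy⟩ := (hPd y).inter_open_nonempty _
    ((W.2.preimage (fst G T).left.continuous).inter (hPo x))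
    ((hPd x).inter_open_nonempty _ (W.2.preimage (fst G T).left.continuous) hWne)
  let o : G ⊗ T ⟶ G ⊗ (X ⊗ X) := G ◁ w
  refine ⟨o.left g, ?_, ?_, ?_, ?_⟩
  · rw [← Scheme.Hom.comp_apply, ← Over.comp_left, show o ≫ snd G (X ⊗ X) = snd G T ≫ w by simp [o],
      Over.comp_left, Scheme.Hom.comp_apply, hw]
  · rw [← Scheme.Hom.comp_apply, ← Over.comp_left, show o ≫ fst G (X ⊗ X) = fst G T by simp [o]]
    exact hgW
  · rw [← Scheme.Hom.comp_apply, ← Over.comp_left,
      show o ≫ lift (fst G (X ⊗ X)) (snd G (X ⊗ X) ≫ fst X X) ≫ a.act =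
        lift (lift (fst G T) (snd G T ≫ x) ≫ a.act) (snd G T) ≫ fst X T by
        simp [o, x, Groth.Agent.GrpAct.comp_smul]]
    exact hgx
  · rw [← Scheme.Hom.comp_apply, ← Over.comp_left,
      show o ≫ lift (fst G (X ⊗ X)) (snd G (X ⊗ X) ≫ snd X X) ≫ a.act =
        lift (lift (fst G T) (snd G T ≫ y) ≫ a.act) (snd G T) ≫ fst X T by
        simp [o, y, Groth.Agent.GrpAct.comp_smul]]
    exact hgy

end Groth.Agent.S5332
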