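import Groth.Statements.S5333
import Groth.Agent.RedSepLib.Basic
import Groth.Agent.DvrDom.ClosedProper
import Mathlib.AlgebraicGeometry.Morphisms.Immersion

set_option autoImplicit false
universe u
open CategoryTheory CategoryTheory.Limits MonoidalCategory CartesianMonoidalCategory MonObj GrpObj AlgebraicGeometry
open SGA3

namespace Groth.Agent.S5333

/-- (i) ⟺ (iii) ⟺ (iv'): let f : X → S be a morphism of schemes. Then X is separated over S if and only
if for every reduced scheme T and every two morphisms T → X with the same composite to S which agree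
on a dense open subscheme of T are equal; and X is separated over S if and only if every two points
of X in the same fibre over S lie in a common open subscheme of X which is separated over S. -/
theorem result (X S : Scheme.{u}) (f : X ⟶ S) :
    (IsSeparated f ↔ ∀ (T : Scheme.{u}) [IsReduced T] (g₁ g₂ : T ⟶ X) (U : T.Opens), g₁ ≫ f = g₂ ≫ f →
      Dense (U : Set T) → U.ι ≫ g₁ = U.ι ≫ g₂ → g₁ = g₂) ∧
    (IsSeparated f ↔ ∀ x₁ x₂ : X, f.base x₁ = f.base x₂ →
      ∃ V : X.Opens, x₁ ∈ V ∧ x₂ ∈ V ∧ IsSeparated (V.ι ≫ f)) := by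
  refine ⟨⟨fun _ T _ g₁ g₂ U hf hU hg => ?_, fun h => ?_⟩,
    ⟨fun _ x₁ x₂ _ => ⟨⊤, trivial, trivial, inferInstance⟩, fun h => ?_⟩⟩
  · have : IsDominant U.ι := ⟨by rwa [DenseRange, Scheme.Opens.range_ι]⟩
    exact ext_of_isDominant_of_isSeparated f hf U.ι hg
  all_goals
    refine ⟨IsClosedImmersion.of_isPreimmersion _ (closure_eq_iff_isClosed.1
      (Set.Subset.antisymm ?_ subset_closure))⟩
  · let δ := pullback.diagonal f
    let C : TopologicalSpace.Closeds ↥(pullback f f) := ⟨closure (Set.range δ), isClosed_closure⟩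
    let T := (Scheme.IdealSheafData.vanishingIdeal C).subscheme
    let j : T ⟶ pullback f f := (Scheme.IdealSheafData.vanishingIdeal C).subschemeι
    have : IsReduced T := Groth.Agent.DvrDom.isReduced_vanishingIdeal_subscheme C
    have hj : Set.range j = closure (Set.range δ) := by
      rw [Scheme.IdealSheafData.range_subschemeι, Scheme.IdealSheafData.coe_support_vanishingIdeal]
      rfl
    let U : T.Opens := j ⁻¹ᵁ δ.coborderRange
    have hU : Dense (U : Set T) := by
      have hsub : j ⁻¹' Set.range δ ⊆ U := fun z hz => subset_coborder hz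
      intro z
      refine closure_mono hsub ?_
      rw [j.isEmbedding.closure_eq_preimage_closure_image, Set.mem_preimage,
        Set.image_preimage_eq_inter_range, hj,
        Set.inter_eq_left.2 (subset_closure (s := Set.range δ)), ← hj]
      exact ⟨z, rfl⟩
    let l : (U : Scheme) ⟶ δ.coborderRange := IsOpenImmersion.lift δ.coborderRange.ι (U.ι ≫ j) (by
      rintro _ ⟨z, rfl⟩
      rw [Scheme.Opens.range_ι]
      exact z.2)
    have hl : l ≫ δ.coborderRange.ι = U.ι ≫ j := IsOpenImmersion.lift_fac _ _ _
    have : IsReduced (U : Scheme) := isReduced_of_isOpenImmersion U.ι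
    obtain ⟨m, hm⟩ := Groth.Agent.RedSepLib.exists_lift_of_isReduced l δ.liftCoborder (by
      rintro _ ⟨z, rfl⟩
      have h1 : δ.coborderRange.ι (l z) ∈ Set.range δ := by
        rw [← Scheme.Hom.comp_apply, hl, Scheme.Hom.comp_apply]
        have h2 : j (U.ι z) ∈ coborder (Set.range δ) ∩ closure (Set.range δ) :=
          ⟨z.2, hj ▸ ⟨U.ι z, rfl⟩⟩
        rwa [coborder_inter_closure] at h2
      obtain ⟨x, hx⟩ := h1
      refine ⟨x, δ.coborderRange.ι.isOpenEmbedding.injective ?_⟩
      rw [← Scheme.Hom.comp_apply, Scheme.Hom.liftCoborder_ι, hx])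
    have hmj : m ≫ δ = U.ι ≫ j := by
      rw [← hl, ← hm, Category.assoc, Scheme.Hom.liftCoborder_ι]
    have heq := h T (j ≫ pullback.fst f f) (j ≫ pullback.snd f f) U
      (by simp only [Category.assoc, pullback.condition]) hU
      (by rw [← Category.assoc, ← Category.assoc, ← hmj]; simp [δ])
    intro p hp
    rw [← hj] at hp
    obtain ⟨z, rfl⟩ := hp
    refine ⟨(j ≫ pullback.fst f f) z, ?_⟩
    have e : (j ≫ pullback.fst f f) ≫ δ = j := by
      apply pullback.hom_ext
      · rw [Category.assoc, pullback.diagonal_fst, Category.comp_id]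
      · rw [Category.assoc, pullback.diagonal_snd, Category.comp_id, heq]
    rw [← Scheme.Hom.comp_apply, e]
  · intro p hp
    obtain ⟨V, h₁, h₂, hV⟩ := h (pullback.fst f f p) (pullback.snd f f p) (by
      rw [← Scheme.Hom.comp_apply, ← Scheme.Hom.comp_apply, pullback.condition])
    let g : pullback (V.ι ≫ f) (V.ι ≫ f) ⟶ pullback f f :=
      pullback.map _ _ _ _ V.ι V.ι (𝟙 _) (by simp) (by simp)
    have hg : Set.range g = pullback.fst f f ⁻¹' (V : Set X) ∩ pullback.snd f f ⁻¹' (V : Set X) := by
      simp only [g, Scheme.Pullback.range_map, Scheme.Opens.range_ι]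
    have hgo : IsOpen (Set.range g) := hg ▸ (V.2.preimage (pullback.fst f f).continuous).inter
      (V.2.preimage (pullback.snd f f).continuous)
    obtain ⟨w, rfl⟩ : p ∈ Set.range g := hg ▸ ⟨h₁, h₂⟩
    have hd : pullback.diagonal (V.ι ≫ f) ≫ g = V.ι ≫ pullback.diagonal f := by
      apply pullback.hom_ext <;>
        simp only [g, pullback.map, Category.assoc, pullback.lift_fst, pullback.lift_snd, pullback.diagonal_fst, pullback.diagonal_snd, pullback.diagonal_fst_assoc, pullback.diagonal_snd_assoc, Category.comp_id]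
    have hgι : IsOpenImmersion g := inferInstance
    have hw : w ∈ closure (g ⁻¹' Set.range (pullback.diagonal f)) := by
      rw [← g.isOpenEmbedding.isOpenMap.preimage_closure_eq_closure_preimage g.continuous]
      exact hp
    have hsub : g ⁻¹' Set.range (pullback.diagonal f) ⊆ Set.range (pullback.diagonal (V.ι ≫ f)) := by
      rintro z ⟨x, hx⟩
      have hxV : x ∈ V := by
        have h3 : g z ∈ Set.range g := ⟨z, rfl⟩
        rw [hg, ← hx] at h3
        have h4 := h3.1
        rwa [Set.mem_preimage, ← Scheme.Hom.comp_apply, pullback.diagonal_fst] at h4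
      refine ⟨⟨x, hxV⟩, g.isOpenEmbedding.injective ?_⟩
      rw [← Scheme.Hom.comp_apply, hd, Scheme.Hom.comp_apply]
      exact hx
    obtain ⟨x, hx⟩ := closure_minimal hsub
      (pullback.diagonal (V.ι ≫ f)).isClosedEmbedding.isClosed_range hw
    exact ⟨V.ι x, by rw [← Scheme.Hom.comp_apply, ← hd, Scheme.Hom.comp_apply, hx]⟩

end Groth.Agent.S5333
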