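import Groth.Statements.S5335
import Groth.Agent.UOFlat.ReducedBase
import Groth.Agent.Assoc.Kernel

set_option autoImplicit false
universe u
open CategoryTheory CategoryTheory.Limits MonoidalCategory CartesianMonoidalCategory MonObj GrpObj AlgebraicGeometry
open SGA3

namespace Groth.Agent.S5335
/-- everything over a local artinian base is universally open -/
theorem universallyOpen_hom {A : Type u} [CommRing A] [IsArtinianRing A] [IsLocalRing A] {X : Scheme.{u}}
    (f : X ⟶ Spec (CommRingCat.of A)) : UniversallyOpen f := by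
  let π := Spec.map (CommRingCat.ofHom (IsLocalRing.residue A))
  haveI : IsClosedImmersion π := IsClosedImmersion.spec_of_surjective _ IsLocalRing.residue_surjective
  haveI : Subsingleton ↥(Spec (CommRingCat.of A)) := inferInstanceAs (Subsingleton (PrimeSpectrum A))
  haveI : Surjective π := ⟨fun y => ⟨(IsLocalRing.closedPoint (IsLocalRing.ResidueField A)), Subsingleton.elim _ _⟩⟩
  haveI : Subsingleton ↥(Spec (CommRingCat.of (IsLocalRing.ResidueField A))) :=
    inferInstanceAs (Subsingleton (PrimeSpectrum (IsLocalRing.ResidueField A)))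
  haveI : UniversallyOpen (pullback.snd f π) := inferInstance
  haveI : UniversallyOpen π := Groth.Agent.UOFlat.universallyOpen_of_surjective_closedImmersion π
  refine ⟨fun X' Y' i₁ i₂ f' H => ?_⟩
  let r := pullback.fst f π
  have h1 : UniversallyOpen (r ≫ f) := by rw [pullback.condition]; infer_instance
  have sq : IsPullback (pullback.snd r i₁ ≫ f') (pullback.fst r i₁) i₂ (r ≫ f) :=
    (IsPullback.of_hasPullback r i₁).flip.paste_horiz H
  have h2 : IsOpenMap (pullback.snd r i₁ ≫ f') := h1.universally_isOpenMap _ _ _ sq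
  intro E hE
  haveI : Surjective (pullback.snd r i₁) := MorphismProperty.pullback_snd r i₁ inferInstance
  have := h2 _ (hE.preimage (pullback.snd r i₁).continuous)
  rw [Scheme.Hom.comp_base, TopCat.coe_comp, Set.image_comp,
    Set.image_preimage_eq _ (pullback.snd r i₁).surjective] at this
  exact this

/-- base change of a dense quasi-compact map along an open map -/
theorem dense_whiskerRight {A : Type u} [CommRing A] [IsArtinianRing A] [IsLocalRing A]
    {X X' : Over (Spec (CommRingCat.of A))} (f : X' ⟶ X) (Z : Over (Spec (CommRingCat.of A)))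
    [QuasiCompact f.left] (hf : DenseRange f.left.base) :
    DenseRange (f ▷ Z).left.base ∧ QuasiCompact (f ▷ Z).left := by
  have sq := Groth.Agent.Assoc.isPullback_whiskerRight (Z := Z) f
  refine ⟨?_, MorphismProperty.of_isPullback sq inferInstance⟩
  haveI := universallyOpen_hom Z.hom
  haveI : UniversallyOpen (fst X Z).left := inferInstanceAs (UniversallyOpen (pullback.fst X.hom Z.hom))
  have hr : Set.range (f ▷ Z).left = (fst X Z).left ⁻¹' Set.range f.left := by
    ext w
    constructor
    · rintro ⟨q, rfl⟩
      exact ⟨_, congrArg (fun k : _ ⟶ X.left => k q) sq.w⟩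
    · rintro ⟨a, ha⟩
      obtain ⟨q, -, hq⟩ := Scheme.exists_preimage_of_isPullback sq a w ha
      exact ⟨q, hq⟩
  show Dense (Set.range (f ▷ Z).left)
  rw [hr]
  exact hf.preimage (fst X Z).left.isOpenMap

/-- the same on the other side -/
theorem dense_whiskerLeft {A : Type u} [CommRing A] [IsArtinianRing A] [IsLocalRing A]
    {Y Y' : Over (Spec (CommRingCat.of A))} (g : Y' ⟶ Y) (Z : Over (Spec (CommRingCat.of A)))
    [QuasiCompact g.left] (hg : DenseRange g.left.base) :
    DenseRange (Z ◁ g).left.base ∧ QuasiCompact (Z ◁ g).left := by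
  have sq := Groth.Agent.Assoc.isPullback_whiskerLeft (Z := Z) g
  refine ⟨?_, MorphismProperty.of_isPullback sq inferInstance⟩
  haveI := universallyOpen_hom Z.hom
  haveI : UniversallyOpen (snd Z Y).left := inferInstanceAs (UniversallyOpen (pullback.snd Z.hom Y.hom))
  have hr : Set.range (Z ◁ g).left = (snd Z Y).left ⁻¹' Set.range g.left := by
    ext w
    constructor
    · rintro ⟨q, rfl⟩
      exact ⟨_, congrArg (fun k : _ ⟶ Y.left => k q) sq.w⟩
    · rintro ⟨a, ha⟩
      obtain ⟨q, -, hq⟩ := Scheme.exists_preimage_of_isPullback sq a w ha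
      exact ⟨q, hq⟩
  show Dense (Set.range (Z ◁ g).left)
  rw [hr]
  exact hg.preimage (snd Z Y).left.isOpenMap

/-- Let A be a local artinian ring and f : X' → X, g : Y' → Y two quasi-compact dominant morphisms of
schemes over A. Then the product morphism f ×_A g : X' ×_A Y' → X ×_A Y is dominant (and
quasi-compact). -/
theorem result (A : Type u) [CommRing A] [IsArtinianRing A] [IsLocalRing A] (X X' Y Y' : Over (Spec (CommRingCat.of A)))
    (f : X' ⟶ X) (g : Y' ⟶ Y) [QuasiCompact f.left] [QuasiCompact g.left]
    (hf : DenseRange f.left.base) (hg : DenseRange g.left.base) :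
    DenseRange (f ⊗ₘ g).left.base ∧ QuasiCompact (f ⊗ₘ g).left := by
  obtain ⟨h1, q1⟩ := dense_whiskerRight f Y' hf
  obtain ⟨h2, q2⟩ := dense_whiskerLeft g X hg
  rw [MonoidalCategory.tensorHom_def, Over.comp_left]
  refine ⟨?_, inferInstance⟩
  rw [Scheme.Hom.comp_base, TopCat.coe_comp]
  exact h2.comp h1 (X ◁ g).left.continuous

end Groth.Agent.S5335
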