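import Groth.Statements.S5338
import Mathlib
import Groth.Agent.ThickProp.DeformRing

set_option autoImplicit false
universe u
open CategoryTheory CategoryTheory.Limits MonoidalCategory CartesianMonoidalCategory MonObj GrpObj AlgebraicGeometry
open SGA3

namespace Groth.Agent.S5338

/-- Let A → B → C be homomorphisms of commutative rings and n a nilpotent ideal of A; write nB and nC
for the extended ideals. (i) If C/nC is a (B/nB)-algebra of finite type, then C is a B-algebra of
finite type. (ii) If moreover C is flat over A and C/nC is a (B/nB)-algebra of finite presentation,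
then C is a B-algebra of finite presentation. -/
theorem result (A B C : Type u) [CommRing A] [CommRing B] [CommRing C]
    [Algebra A B] [Algebra B C] [Algebra A C] [IsScalarTower A B C] (n : Ideal A) (hn : IsNilpotent n) :
    (Algebra.FiniteType (B ⧸ n.map (algebraMap A B)) (C ⧸ (n.map (algebraMap A B)).map (algebraMap B C)) →
      Algebra.FiniteType B C) ∧
    (Module.Flat A C →
      Algebra.FinitePresentation (B ⧸ n.map (algebraMap A B)) (C ⧸ (n.map (algebraMap A B)).map (algebraMap B C)) →
      Algebra.FinitePresentation B C) := by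
  set 𝔞 := n.map (algebraMap A B) with h𝔞
  set 𝔠 := 𝔞.map (algebraMap B C) with h𝔠
  have hC : 𝔠 = n.map (algebraMap A C) := by
    rw [h𝔠, h𝔞, Ideal.map_map, ← IsScalarTower.algebraMap_eq]
  have h : (Ideal.Quotient.mk 𝔠).comp (algebraMap B C) =
      (algebraMap (B ⧸ 𝔞) (C ⧸ 𝔠)).comp (Ideal.Quotient.mk 𝔞) := rfl
  refine ⟨fun hft => ?_, fun hflat hfp => ?_⟩
  · have hn' : IsNilpotent (RingHom.ker (Ideal.Quotient.mk 𝔞)) := by
      rw [Ideal.mk_ker, h𝔞]
      obtain ⟨k, hk⟩ := hn
      exact ⟨k, by rw [← Ideal.map_pow, hk, Ideal.zero_eq_bot, Ideal.map_bot]; rfl⟩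
    exact RingHom.finiteType_algebraMap.mp
      (Groth.Agent.ThickProp.finiteType_of_nilpotent (algebraMap B C) _ _ _ h
        (by rw [Ideal.mk_ker, Ideal.mk_ker]) Ideal.Quotient.mk_surjective Ideal.Quotient.mk_surjective
        hn' (RingHom.finiteType_algebraMap.mpr hft))
  · haveI := hflat
    exact Groth.Agent.ThickProp.finitePresentation_of_reduction (A := A) h Ideal.Quotient.mk_surjective
      Ideal.Quotient.mk_surjective (by rw [Ideal.mk_ker]) (by rw [Ideal.mk_ker, hC]) hn
      (RingHom.finitePresentation_algebraMap.mpr hfp)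

end Groth.Agent.S5338
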