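import Groth.Statements.S5339
import Groth.Agent.GrpLoc.LftArtin

set_option autoImplicit false
universe u
open CategoryTheory CategoryTheory.Limits MonoidalCategory CartesianMonoidalCategory MonObj GrpObj AlgebraicGeometry
open SGA3

namespace Groth.Agent.S5339

/-- Let A be a local artinian ring and G a flat A-group scheme (not assumed locally of finite type). If
G is locally quasi-finite and locally of finite type (resp. unramified, resp. smooth, resp. etale)
over A on some nonempty open subscheme, then G is locally quasi-finite and locally of finite type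
(resp. unramified, resp. smooth, resp. etale) over A. -/
theorem result (A : Type u) [CommRing A] [IsArtinianRing A] [IsLocalRing A] (G : Over (Spec (CommRingCat.of A))) [GrpObj G] [Flat G.hom]
    (W : G.left.Opens) (hW : (W : Set G.left).Nonempty) :
    (LocallyQuasiFinite (W.ι ≫ G.hom) → LocallyOfFiniteType (W.ι ≫ G.hom) → LocallyQuasiFinite G.hom ∧ LocallyOfFiniteType G.hom) ∧
    (FormallyUnramified (W.ι ≫ G.hom) → LocallyOfFinitePresentation (W.ι ≫ G.hom) →
      FormallyUnramified G.hom ∧ LocallyOfFinitePresentation G.hom) ∧
    (Smooth (W.ι ≫ G.hom) → Smooth G.hom) ∧ (Etale (W.ι ≫ G.hom) → Etale G.hom) := by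
  have hu : (toUnit G).left = G.hom := by
    have h := Over.w (toUnit G)
    exact (Category.comp_id _).symm.trans h
  have : IsMonHom (toUnit G) :=
    { one_hom := toUnit_unique _ _
      mul_hom := toUnit_unique _ _ }
  have hlft : LocallyOfFiniteType (W.ι ≫ G.hom) → LocallyOfFiniteType G.hom :=
    GrpLoc.locallyOfFiniteType_of_restrict_artinian G W hW
  rw [← hu]
  refine ⟨fun h1 h2 => ?_, fun h1 h2 => ?_, fun h => ?_, fun h => ?_⟩
  · have := hlft (by rw [← hu]; exact h2)
    exact ⟨GrpLoc.locallyQuasiFinite_of_restrict_artinian (toUnit G) W hW h1, by rw [hu]; exact this⟩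
  · have := hlft (by rw [← hu]; infer_instance)
    exact ⟨GrpLoc.formallyUnramified_of_restrict (toUnit G) W hW h1,
      GrpLoc.lfp_of_restrict_artinian (toUnit G) W hW h2⟩
  · have := hlft (by rw [← hu]; infer_instance)
    exact GrpLoc.smooth_of_restrict (toUnit G) W hW h
  · have := hlft (by rw [← hu]; infer_instance)
    exact GrpLoc.etale_of_restrict (toUnit G) W hW h

end Groth.Agent.S5339
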