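import Groth.Statements.S5343
import Mathlib

set_option autoImplicit false
universe u
open CategoryTheory CategoryTheory.Limits MonoidalCategory CartesianMonoidalCategory MonObj GrpObj AlgebraicGeometry
open SGA3

namespace Groth.Agent.S5343

/-- Let R be a commutative ring and B a commutative R-algebra which is projective as an R-module. Then
the image of Spec B → Spec R is an open and closed subset of Spec R. (The published statement
concerns a quasi-coherent algebra on any scheme which is a direct summand of a free module; this row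
is the affine case.) -/
theorem result (R B : Type u) [CommRing R] [CommRing B] [Algebra R B] [Module.Projective R B] :
    IsClopen (Set.range (PrimeSpectrum.comap (algebraMap R B))) := by
  classical
  obtain ⟨i, hi⟩ := (inferInstance : Module.Projective R B).out
  let c := i 1
  let 𝔠 : Ideal R := Ideal.span (Set.range c)
  have hfg : 𝔠.FG := Submodule.fg_span c.finite_range
  have hone : (1 : B) = ∑ k ∈ c.support, c k • k := by
    conv_lhs => rw [← hi (1 : B)]
    rfl
  have hic : ∀ (y : B) l, i y l ∈ 𝔠 := by
    intro y l
    have h1 : y = ∑ k ∈ c.support, c k • (k * y) := by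
      calc y = (∑ k ∈ c.support, c k • k) * y := by rw [← hone, _root_.one_mul]
        _ = _ := by rw [Finset.sum_mul]; simp only [smul_mul_assoc]
    rw [h1, map_sum, Finsupp.finset_sum_apply]
    refine sum_mem fun k _ => ?_
    rw [map_smul, Finsupp.smul_apply, smul_eq_mul]
    exact Ideal.mul_mem_right _ _ (Ideal.subset_span ⟨k, rfl⟩)
  have hidem : IsIdempotentElem 𝔠 := by
    refine le_antisymm Ideal.mul_le_left (Ideal.span_le.2 ?_)
    rintro _ ⟨l, rfl⟩
    show i 1 l ∈ 𝔠 * 𝔠
    rw [hone, map_sum, Finsupp.finset_sum_apply]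
    refine sum_mem fun k _ => ?_
    rw [map_smul, Finsupp.smul_apply, smul_eq_mul]
    exact Ideal.mul_mem_mul (Ideal.subset_span ⟨k, rfl⟩) (hic k l)
  obtain ⟨e, he, hec⟩ := (Ideal.isIdempotentElem_iff_of_fg 𝔠 hfg).1 hidem
  have key : Set.range (PrimeSpectrum.comap (algebraMap R B)) = (PrimeSpectrum.zeroLocus (𝔠 : Set R))ᶜ := by
    ext p
    rw [PrimeSpectrum.mem_range_comap_iff, Set.mem_compl_iff, PrimeSpectrum.mem_zeroLocus, SetLike.coe_subset_coe]
    constructor
    · intro h hle
      refine p.isPrime.ne_top ((Ideal.eq_top_iff_one _).2 ?_)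
      rw [← h, Ideal.mem_comap, map_one, hone]
      refine sum_mem fun k _ => ?_
      rw [Algebra.smul_def]
      exact Ideal.mul_mem_right _ _ (Ideal.mem_map_of_mem _ (hle (Ideal.subset_span ⟨k, rfl⟩)))
    · intro hle
      refine le_antisymm (fun r hr => ?_) Ideal.le_comap_map
      obtain ⟨l, hl⟩ : ∃ l, c l ∉ p.asIdeal := by
        by_contra hne
        push Not at hne
        exact hle (Ideal.span_le.2 (by rintro _ ⟨l, rfl⟩; exact hne l))
      have h1 : r • (1 : B) ∈ p.asIdeal • (⊤ : Submodule R B) := by
        rw [Ideal.smul_top_eq_map, Submodule.restrictScalars_mem, ← Algebra.algebraMap_eq_smul_one]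
        exact hr
      have h2 : ∀ y ∈ p.asIdeal • (⊤ : Submodule R B), i y l ∈ p.asIdeal := by
        intro y hy
        refine Submodule.smul_induction_on hy (fun a ha z _ => ?_) fun u v hu hv => by
          rw [map_add, Finsupp.add_apply]; exact add_mem hu hv
        rw [map_smul, Finsupp.smul_apply, smul_eq_mul]
        exact Ideal.mul_mem_right _ _ ha
      have h3 := h2 _ h1
      rw [map_smul, Finsupp.smul_apply, smul_eq_mul] at h3
      exact (p.isPrime.mem_or_mem h3).resolve_right hl
  rw [key, hec, show ((R ∙ e : Submodule R R) : Set R) = (Ideal.span {e} : Set R) from rfl, PrimeSpectrum.zeroLocus_span]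
  exact (PrimeSpectrum.isClopen_iff_zeroLocus.2 ⟨e, he, rfl⟩).compl

end Groth.Agent.S5343
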