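import Groth.Statements.S5344
import Groth.Agent.GrpArtCC.Basic
import Mathlib

set_option autoImplicit false
universe u
open CategoryTheory CategoryTheory.Limits MonoidalCategory CartesianMonoidalCategory MonObj GrpObj AlgebraicGeometry
open SGA3

namespace Groth.Agent.S5344

/-- Let A be a local artinian ring and G an A-group scheme locally of finite type, and let G⁰ be the
connected component of the unit point. Then G⁰ is open in G; it is stable under the group law: for
every A-scheme T and all points g, h : T → G whose images lie in G⁰, the image of g h⁻¹ lies in G⁰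
(so G⁰ carries an open subgroup scheme, the neutral component); and it is normal: for every A-scheme
T, every point g : T → G and every point n : T → G whose image lies in G⁰, the image of g n g⁻¹ lies
in G⁰. -/
theorem result (A : Type u) [CommRing A] [IsArtinianRing A] [IsLocalRing A] (G : Over (Spec (CommRingCat.of A))) [GrpObj G] [LocallyOfFiniteType G.hom]
    (pt : ↥(𝟙_ (Over (Spec (CommRingCat.of A)))).left) :
    IsOpen (connectedComponent (η[G].left.base pt)) ∧
    (∀ (T : Over (Spec (CommRingCat.of A))) (g h : T ⟶ G), Set.range g.left.base ⊆ connectedComponent (η[G].left.base pt) →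
      Set.range h.left.base ⊆ connectedComponent (η[G].left.base pt) →
      Set.range (g * h⁻¹).left.base ⊆ connectedComponent (η[G].left.base pt)) ∧
    ∀ (T : Over (Spec (CommRingCat.of A))) (g n : T ⟶ G), Set.range n.left.base ⊆ connectedComponent (η[G].left.base pt) →
      Set.range (g * n * g⁻¹).left.base ⊆ connectedComponent (η[G].left.base pt) := by
  refine ⟨?_, fun T g h hg hh => ?_, fun T g n hn => ?_⟩
  · haveI : IsLocallyNoetherian G.left := LocallyOfFiniteType.isLocallyNoetherian G.hom
    haveI : LocallyConnectedSpace G.left := LocNoethTop.locallyConnectedSpace fun x => by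
      obtain ⟨U, hU, hxU, -⟩ :=
        exists_isAffineOpen_mem_and_subset (show x ∈ (⊤ : G.left.Opens) from trivial)
      refine ⟨U, U.2.mem_nhds hxU, ?_⟩
      haveI : IsNoetherianRing Γ(G.left, U) := IsLocallyNoetherian.component_noetherian ⟨U, hU⟩
      exact noetherianSpace_of_isAffineOpen U hU
    exact isOpen_connectedComponent
  · refine GrpArtCC.range_subset_of_map A G _ pt ?_
    rw [Functor.map_mul, Functor.map_inv']
    exact GrpArtCC.range_div_subset _ _ (GrpArtCC.range_map_subset A G g pt hg)
      (GrpArtCC.range_map_subset A G h pt hh)
  · refine GrpArtCC.range_subset_of_map A G _ pt ?_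
    rw [Functor.map_mul, Functor.map_mul, Functor.map_inv']
    exact GrpArtCC.range_conj_subset _ _ (GrpArtCC.range_map_subset A G n pt hn)

end Groth.Agent.S5344
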