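import Groth.Statements.S5346
import Groth.Agent.GrpArtCC.Basic
import Groth.Agent.GrpLoc.BaseChange
import Groth.Agent.ThickProp.Scheme
import Groth.Agent.EtInvariance.ThickLft
import Mathlib

set_option autoImplicit false
universe u
open CategoryTheory CategoryTheory.Limits MonoidalCategory CartesianMonoidalCategory MonObj GrpObj AlgebraicGeometry
open SGA3

namespace Groth.Agent.S5346

/-- Let A be a local artinian ring with residue field k and i : Spec k → Spec A the closed point. (i) If
X is an A-scheme whose base change X ⊗_A k is locally of finite type (resp. of finite type) over k,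
then X is locally of finite type (resp. of finite type) over A. (ii) If u : X → Y is a morphism of
A-schemes whose base change u ⊗_A k is an immersion (resp. a closed immersion), then u is an
immersion (resp. a closed immersion). -/
theorem result (A : Type u) [CommRing A] [IsArtinianRing A] [IsLocalRing A] (X Y : Over (Spec (CommRingCat.of A))) (u : X ⟶ Y) :
    letI i : Spec (CommRingCat.of (IsLocalRing.ResidueField A)) ⟶ (Spec (CommRingCat.of A)) := Spec.map (CommRingCat.ofHom (IsLocalRing.residue A))
    (LocallyOfFiniteType (pullback.snd X.hom i) → LocallyOfFiniteType X.hom) ∧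
    (LocallyOfFiniteType (pullback.snd X.hom i) → QuasiCompact (pullback.snd X.hom i) → QuasiCompact X.hom) ∧
    (IsImmersion ((Over.pullback i).map u).left → IsImmersion u.left) ∧
    (IsClosedImmersion ((Over.pullback i).map u).left → IsClosedImmersion u.left) := by
  let i : Spec (CommRingCat.of (IsLocalRing.ResidueField A)) ⟶ Spec (CommRingCat.of A) := GrpArtCC.cl A
  have hi : IsClosedImmersion i := inferInstanceAs (IsClosedImmersion (GrpArtCC.cl A))
  have his : Surjective i := inferInstanceAs (Surjective (GrpArtCC.cl A))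
  have hn : IsNilpotent i.ker := by
    haveI : IsArtinianRing Γ(Spec (CommRingCat.of A), ⊤) :=
      (Scheme.ΓSpecIso (CommRingCat.of A)).commRingCatIsoToRingEquiv.symm.surjective.isArtinianRing
        (f := (Scheme.ΓSpecIso (CommRingCat.of A)).commRingCatIsoToRingEquiv.symm.toRingHom)
    obtain ⟨n, hn⟩ := IsArtinianRing.isNilpotent_nilradical (R := Γ(Spec (CommRingCat.of A), ⊤))
    refine ⟨n, (EtInvariance.pow_ker_eq_bot_iff i n).2 (eq_bot_iff.2 ?_)⟩
    refine le_trans (Ideal.pow_right_mono (fun a ha => ?_) n) hn.le
    exact ThickProp.ker_app_le_nilradical (iY := i) ⟨⊤, isAffineOpen_top _⟩ ha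
  have lft : ∀ Z : Over (Spec (CommRingCat.of A)), LocallyOfFiniteType (pullback.snd Z.hom i) → LocallyOfFiniteType Z.hom :=
    fun Z h => ThickProp.locallyOfFiniteType_of_finiteOrder (IsPullback.of_hasPullback Z.hom i) hn
  let p := pullback.fst Y.hom i
  have hpn : IsNilpotent p.ker := ThickProp.isNilpotent_ker_left (IsPullback.of_hasPullback Y.hom i) hn
  haveI : IsClosedImmersion p := MorphismProperty.pullback_fst _ _ hi
  haveI : Surjective p := MorphismProperty.pullback_fst _ _ his
  let f := ((Over.pullback i).map u).left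
  have sq : IsPullback (pullback.fst X.hom i) f u.left p := GrpLoc.isPullback_bc i u
  refine ⟨lft X, fun h hq => ?_, fun h => ?_, fun h => ?_⟩
  · haveI : QuasiCompact (pullback.snd X.hom i) := hq
    haveI : CompactSpace ↥(pullback X.hom i) := QuasiCompact.compactSpace_of_compactSpace (pullback.snd X.hom i)
    haveI : Surjective (pullback.fst X.hom i) := MorphismProperty.pullback_fst _ _ his
    haveI : CompactSpace X.left :=
      (pullback.fst X.hom i).surjective.compactSpace (pullback.fst X.hom i).continuous
    exact HasAffineProperty.iff_of_isAffine (P := @QuasiCompact).2 ‹_›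
  · haveI : IsImmersion f := h
    haveI hlft : LocallyOfFiniteType u.left := ThickProp.locallyOfFiniteType_of_finiteOrder sq hpn
    haveI : Surjective (pullback.fst X.hom i) := MorphismProperty.pullback_fst _ _ his
    have hpe : IsHomeomorph p :=
      isHomeomorph_iff_isEmbedding_surjective.2 ⟨p.isClosedEmbedding.isEmbedding, p.surjective⟩
    have hrange : Set.range u.left = p '' Set.range f := by
      have hw : pullback.fst X.hom i ≫ u.left = f ≫ p := sq.w
      ext y
      constructor
      · rintro ⟨x, rfl⟩
        obtain ⟨z, rfl⟩ := (pullback.fst X.hom i).surjective x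
        refine ⟨f z, ⟨z, rfl⟩, ?_⟩
        rw [← Scheme.Hom.comp_apply, ← hw, Scheme.Hom.comp_apply]
      · rintro ⟨_, ⟨z, rfl⟩, rfl⟩
        refine ⟨pullback.fst X.hom i z, ?_⟩
        rw [← Scheme.Hom.comp_apply, hw, Scheme.Hom.comp_apply]
    have hlc : IsLocallyClosed (Set.range u.left) := by
      rw [hrange]
      exact f.isLocallyClosed_range.image hpe.isEmbedding.isInducing
        (by rw [hpe.surjective.range_eq]; exact isOpen_univ.isLocallyClosed)
    let W : Y.left.Opens := ⟨coborder (Set.range u.left), hlc.isOpen_coborder⟩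
    have hW : Set.range u.left ⊆ Set.range W.ι := by
      rw [Scheme.Opens.range_ι]; exact subset_coborder
    let u' := IsOpenImmersion.lift W.ι u.left hW
    have hu' : u' ≫ W.ι = u.left := IsOpenImmersion.lift_fac _ _ _
    have hf' : Set.range f ⊆ Set.range (p ⁻¹ᵁ W).ι := by
      rw [Scheme.Opens.range_ι]
      rintro _ ⟨z, rfl⟩
      refine subset_coborder ?_
      rw [hrange]
      exact ⟨f z, ⟨z, rfl⟩, rfl⟩
    let f' := IsOpenImmersion.lift (p ⁻¹ᵁ W).ι f hf'
    have hf'' : f' ≫ (p ⁻¹ᵁ W).ι = f := IsOpenImmersion.lift_fac _ _ _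
    have sq' : IsPullback (pullback.fst X.hom i) f' u' (p ∣_ W) := by
      refine IsPullback.of_bot ?_ ?_ (isPullback_morphismRestrict p W)
      · rw [hf'', hu']; exact sq
      · rw [← cancel_mono W.ι, Category.assoc, hu', Category.assoc, morphismRestrict_ι, reassoc_of% hf'', sq.w]
    haveI : IsImmersion (f' ≫ (p ⁻¹ᵁ W).ι) := hf'' ▸ h
    haveI : IsImmersion f' := IsImmersion.of_comp f' (p ⁻¹ᵁ W).ι
    haveI : IsClosedImmersion f' := by
      refine IsClosedImmersion.of_isPreimmersion f' ?_
      have : Set.range f' = (p ⁻¹ᵁ W).ι ⁻¹' (p ⁻¹' Set.range u.left) := by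
        rw [hrange, hpe.injective.preimage_image]
        ext z
        constructor
        · rintro ⟨w, rfl⟩
          exact ⟨w, by rw [← Scheme.Hom.comp_apply, hf'']⟩
        · rintro ⟨w, hw⟩
          refine ⟨w, (p ⁻¹ᵁ W).ι.isOpenEmbedding.injective ?_⟩
          rw [← hw, ← Scheme.Hom.comp_apply, hf'']
      rw [this]
      have hcl : IsClosed ((W.ι) ⁻¹' Set.range u.left) := by
        exact isClosed_preimage_val_coborder
      have e : (p ⁻¹ᵁ W).ι ⁻¹' (p ⁻¹' Set.range u.left) = (p ∣_ W) ⁻¹' (W.ι ⁻¹' Set.range u.left) := by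
        rw [← Set.preimage_comp, ← Set.preimage_comp]
        congr 1
        funext z
        simp only [Function.comp_apply, ← Scheme.Hom.comp_apply, morphismRestrict_ι]
      rw [e]
      exact hcl.preimage (p ∣_ W).continuous
    haveI : LocallyOfFiniteType u' := by
      haveI : LocallyOfFiniteType (u' ≫ W.ι) := hu' ▸ hlft
      exact locallyOfFiniteType_of_comp u' W.ι
    haveI : Surjective (p ∣_ W) := IsZariskiLocalAtTarget.restrict ‹_› W
    haveI : IsClosedImmersion (p ∣_ W) := IsZariskiLocalAtTarget.restrict ‹_› W
    haveI : IsClosedImmersion u' := ThickProp.isClosedImmersion_of_lft sq'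
    rw [← hu']
    infer_instance
  · haveI : IsClosedImmersion f := h
    haveI hlft : LocallyOfFiniteType u.left := ThickProp.locallyOfFiniteType_of_finiteOrder sq hpn
    exact ThickProp.isClosedImmersion_of_lft sq

end Groth.Agent.S5346
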