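import Groth.Statements.S5349
import Groth.Agent.GrpComp.HomogTop

set_option autoImplicit false
universe u
open CategoryTheory CategoryTheory.Limits MonoidalCategory CartesianMonoidalCategory MonObj GrpObj AlgebraicGeometry
open SGA3

namespace Groth.Agent.S5349

/-- Let G be a group scheme over a field k (not assumed of finite type) acting on an irreducible
k-scheme X so that the morphism G ×_k X → X ×_k X, (g, x) ↦ (gx, x), is surjective. Then X is
quasi-compact. -/
theorem result (k : Type u) [Field k] (G X : Over (Spec (CommRingCat.of k))) [GrpObj G] (a : AlgGrp.Action G X) (hΦ : Surjective (lift a.act (snd G X)).left)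
    [IrreducibleSpace X.left] : CompactSpace X.left := by

  obtain ⟨y⟩ : Nonempty X.left := inferInstance
  refine ⟨?_⟩
  have h : irreducibleComponent y = Set.univ :=
    subset_antisymm (Set.subset_univ _) ((irreducibleComponent_mem_irreducibleComponents y).2
      (IrreducibleSpace.isIrreducible_univ _) (Set.subset_univ _))
  rw [← h]
  exact Groth.Agent.GrpComp.isCompact_component a hΦ y

end Groth.Agent.S5349
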