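import Groth.Statements.S5350
import Groth.Agent.GrpComp.HomogTop

set_option autoImplicit false
universe u
open CategoryTheory CategoryTheory.Limits MonoidalCategory CartesianMonoidalCategory MonObj GrpObj AlgebraicGeometry
open SGA3

namespace Groth.Agent.S5350

/-- Let G be a group scheme over a field k (not assumed of finite type) acting on a k-scheme X so that G
×_k X → X ×_k X, (g, x) ↦ (gx, x), is surjective; let C⁰ be an irreducible component of G containing
the unit point and U an open subset of X. Let C⁰·U be the image under the action of the set of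
points of G ×_k X whose projections lie in C⁰ and in U. Then (i) C⁰·U is open in X and equals the
union of the irreducible components of X whose generic point lies in U; (ii) if U is retrocompact in
X then C⁰·U is the closure of U (so is open and closed). -/
theorem result (k : Type u) [Field k] (G X : Over (Spec (CommRingCat.of k))) [GrpObj G] (a : AlgGrp.Action G X) (hΦ : Surjective (lift a.act (snd G X)).left)
    (pt : ↥(𝟙_ (Over (Spec (CommRingCat.of k)))).left) (C0 : Set G.left) (hC0 : C0 ∈ irreducibleComponents ↥G.left)
    (he : η[G].left.base pt ∈ C0) (U : X.left.Opens) :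
    letI V : Set X.left := a.act.left.base '' {z : ↥(G ⊗ X).left | (fst G X).left.base z ∈ C0 ∧ (snd G X).left.base z ∈ U}
    IsOpen V ∧ V = ⋃₀ {Z : Set X.left | Z ∈ irreducibleComponents ↥X.left ∧ ∃ ξ ∈ U, closure {ξ} = Z} ∧
    (IsRetrocompact (U : Set X.left) → V = closure (U : Set X.left)) := by

  have hsub : Subsingleton (Spec (CommRingCat.of k)) := inferInstanceAs (Subsingleton (PrimeSpectrum k))
  have hC : C0 = connectedComponent (Groth.Agent.GrpComp.ept G) := by
    have hpt : η[G].left pt = Groth.Agent.GrpComp.ept G :=
      congrArg η[G].left (Subsingleton.elim (α := Spec (CommRingCat.of k)) _ _)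
    rw [(Groth.Agent.GrpComp.connectedComponent_ept G).1, ← hpt]
    exact Groth.Agent.GrpComp.eq_irreducibleComponent' G hC0 he
  subst hC
  have hV : a.act.left '' {z : ↥(G ⊗ X).left |
      (fst G X).left z ∈ connectedComponent (Groth.Agent.GrpComp.ept G) ∧ (snd G X).left z ∈ U} =
      Groth.Agent.GrpComp.sweep a (U : Set X.left) := rfl
  rw [hV]
  refine ⟨Groth.Agent.GrpComp.isOpen_sweep a _ U.2, ?_, fun hU => ?_⟩
  · refine Set.ext fun y => ?_
    rw [Groth.Agent.GrpComp.mem_sweep_iff a hΦ]
    constructor
    · rintro ⟨x, hx, he'⟩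
      have hI : IsIrreducible (irreducibleComponent x) := isIrreducible_irreducibleComponent
      have hg := hI.closure_genericPoint isClosed_irreducibleComponent
      refine ⟨irreducibleComponent y, ⟨irreducibleComponent_mem_irreducibleComponents y,
        hI.genericPoint, ?_, he' ▸ hg⟩, mem_irreducibleComponent⟩
      exact (specializes_iff_mem_closure.2 (hg.symm ▸ mem_irreducibleComponent)).mem_open U.2 hx
    · rintro ⟨Z, ⟨hZ, ξ, hξ, rfl⟩, hy⟩
      refine ⟨ξ, hξ, ?_⟩
      rw [← Groth.Agent.GrpComp.uniq_homog a hΦ ξ _ hZ (subset_closure rfl)]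
      exact Groth.Agent.GrpComp.uniq_homog a hΦ y _ hZ hy
  · haveI : QuasiCompact U.ι := ⟨fun W hW hWc => by
      rw [U.ι.isEmbedding.isCompact_iff, Set.image_preimage_eq_inter_range, U.range_ι, Set.inter_comm]
      exact hU hWc hW⟩
    exact Groth.Agent.GrpComp.sweep_eq_closure a hΦ U

end Groth.Agent.S5350
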