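import Groth.Statements.S5352
import Groth.Agent.Takeuchi.Quot
import Groth.Agent.AdjRep.KerObj
import Groth.Agent.AVQuot.Basic
import Groth.Agent.GrpField.QAAffine
import Groth.Agent.GrpField.SchImgExists

set_option autoImplicit false
universe u
open CategoryTheory CategoryTheory.Limits MonoidalCategory CartesianMonoidalCategory MonObj GrpObj AlgebraicGeometry
open SGA3

noncomputable section

namespace Groth.Agent.S5352


open Groth.Agent
set_option backward.isDefEq.respectTransparency false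
open scoped MonObj

variable {k : Type u} [Field k]

/-- The affine cokernel of a closed normal subgroup, of finite type. -/
theorem exists_quot {F G : Over (Spec (CommRingCat.of k))} [GrpObj F] [GrpObj G] [LocallyOfFiniteType G.hom]
    [QuasiCompact G.hom] [IsAffine G.left] (u : F ⟶ G) [IsMonHom u] [IsClosedImmersion u.left] (hN : AlgGrp.IsNormalHom u) :
    ∃ (Q : Over (Spec (CommRingCat.of k))) (_ : GrpObj Q) (p : G ⟶ Q), IsMonHom p ∧ Flat p.left ∧
      Surjective p.left ∧ LocallyOfFinitePresentation p.left ∧ AlgGrp.IsKernel u p ∧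
      LocallyOfFiniteType Q.hom ∧ QuasiCompact Q.hom ∧ IsAffine Q.left := by
  obtain ⟨Q, hQ, q, hq, hQa, hQl, hqf, hqs, hker⟩ := Takeuchi.exists_affine_quotient G F u hN
  haveI := hQa
  haveI := hQl
  haveI : LocallyOfFiniteType (q.left ≫ Q.hom) := by rw [Over.w]; infer_instance
  haveI : LocallyOfFiniteType q.left := locallyOfFiniteType_of_comp q.left Q.hom
  haveI : IsLocallyNoetherian Q.left := LocallyOfFiniteType.isLocallyNoetherian Q.hom
  exact ⟨Q, hQ, q, hq, hqf, hqs, inferInstance, hker, hQl, inferInstance, hQa⟩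

theorem comm_of_mono {A B : Over (Spec (CommRingCat.of k))} [GrpObj A] [GrpObj B] [IsCommMonObj B] (i : A ⟶ B)
    [IsMonHom i] [Mono i] : IsCommMonObj A :=
  ⟨by rw [← cancel_mono i, Category.assoc, IsMonHom.mul_hom, ← Category.assoc, ← BraidedCategory.braiding_naturality,
    Category.assoc, IsCommMonObj.mul_comm]⟩

theorem epi_of_cover {A B : Over (Spec (CommRingCat.of k))} (p : A ⟶ B) [Flat p.left] [Surjective p.left] : Epi p :=
  AVQuot.epi_of_covering p

theorem comm_of_cover {A B : Over (Spec (CommRingCat.of k))} [GrpObj A] [GrpObj B] [IsCommMonObj A] (p : A ⟶ B)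
    [IsMonHom p] [Flat p.left] [Surjective p.left] [LocallyOfFinitePresentation p.left] : IsCommMonObj B := by
  obtain ⟨h1, h2, -⟩ := AVQuot.covering_tensor p p
  haveI := h1
  haveI := h2
  haveI := epi_of_cover (p ⊗ₘ p)
  exact ⟨by rw [← cancel_epi (p ⊗ₘ p), BraidedCategory.braiding_naturality_assoc, ← IsMonHom.mul_hom,
    ← Category.assoc, IsCommMonObj.mul_comm]⟩

theorem isMonHom_of_cover {A B C : Over (Spec (CommRingCat.of k))} [GrpObj A] [GrpObj B] [GrpObj C] (p : A ⟶ B)
    [IsMonHom p] [Flat p.left] [Surjective p.left] [LocallyOfFinitePresentation p.left] (g : B ⟶ C)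
    [IsMonHom (p ≫ g)] : IsMonHom g := by
  obtain ⟨h1, h2, -⟩ := AVQuot.covering_tensor p p
  haveI := h1
  haveI := h2
  haveI := epi_of_cover (p ⊗ₘ p)
  refine ⟨?_, ?_⟩
  · rw [← IsMonHom.one_hom p, Category.assoc, IsMonHom.one_hom]
  · rw [← cancel_epi (p ⊗ₘ p), ← IsMonHom.mul_hom_assoc, IsMonHom.mul_hom (f := p ≫ g),
      MonoidalCategory.tensorHom_comp_tensorHom_assoc]

theorem normal_of_comm {A B : Over (Spec (CommRingCat.of k))} [GrpObj A] [GrpObj B] [IsCommMonObj B] (i : A ⟶ B) :
    AlgGrp.IsNormalHom i := fun T g n => ⟨n, by rw [mul_comm g (n ≫ i), _root_.mul_inv_cancel_right]⟩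

variable (k) in
abbrev AG := ObjectProperty.FullSubcategory
      (fun G : CommGrp (Over (Spec (CommRingCat.of k))) => LocallyOfFiniteType G.X.hom ∧ QuasiCompact G.X.hom ∧ IsAffine G.X.left)

instance lftAG (X : AG k) : LocallyOfFiniteType X.obj.X.hom := X.property.1
instance qcAG (X : AG k) : QuasiCompact X.obj.X.hom := X.property.2.1

instance affAG (X : AG k) : IsAffine X.obj.X.left := X.property.2.2

/-- The object of a commutative algebraic group. -/
abbrev ofGrp (A : Over (Spec (CommRingCat.of k))) [GrpObj A] [IsCommMonObj A] [LocallyOfFiniteType A.hom]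
    [QuasiCompact A.hom] [IsAffine A.left] : AG k := ⟨CommGrp.mk A, ⟨‹_›, ‹_›, ‹_›⟩⟩

/-- The underlying morphism. -/
abbrev un {X Y : AG k} (f : X ⟶ Y) : X.obj.X ⟶ Y.obj.X := f.hom.hom.hom.hom

instance isMonHom_un {X Y : AG k} (f : X ⟶ Y) : IsMonHom (un f) := f.hom.hom.hom.isMonHom_hom

theorem ext_un {X Y : AG k} {f g : X ⟶ Y} (h : un f = un g) : f = g :=
  ObjectProperty.hom_ext _ (CommGrp.hom_ext _ _ h)

/-- A morphism from a homomorphism. -/
def mkHom {X Y : AG k} (f : X.obj.X ⟶ Y.obj.X) [IsMonHom f] : X ⟶ Y :=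
  ObjectProperty.homMk (InducedCategory.homMk (Grp.ofHom f))

theorem un_mkHom {X Y : AG k} (f : X.obj.X ⟶ Y.obj.X) [IsMonHom f] : un (mkHom f) = f := rfl

theorem un_comp {X Y Z : AG k} (f : X ⟶ Y) (g : Y ⟶ Z) : un (f ≫ g) = un f ≫ un g := rfl

theorem un_id (X : AG k) : un (𝟙 X) = 𝟙 X.obj.X := rfl

theorem isMonHom_mul {M N : Over (Spec (CommRingCat.of k))} [GrpObj M] [GrpObj N] [IsCommMonObj N] (f g : M ⟶ N)
    [IsMonHom f] [IsMonHom g] : IsMonHom (f * g) where
  one_hom := by
    rw [MonObj.comp_mul, IsMonHom.one_hom, IsMonHom.one_hom,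
      show η[N] = (1 : 𝟙_ (Over (Spec (CommRingCat.of k))) ⟶ N) by
        rw [Hom.one_def, toUnit_unique (toUnit _) (𝟙 _), Category.id_comp],
      _root_.one_mul]
  mul_hom := by
    have e : ∀ q : M ⟶ N, (q ⊗ₘ q) ≫ μ[N] = (fst M M ≫ q) * (snd M M ≫ q) := fun q => by
      rw [Hom.mul_def]
      congr 1
    rw [MonObj.comp_mul, IsMonHom.mul_hom, IsMonHom.mul_hom, e, e, e, MonObj.comp_mul, MonObj.comp_mul,
      _root_.mul_mul_mul_comm]

theorem isMonHom_inv {M N : Over (Spec (CommRingCat.of k))} [GrpObj M] [GrpObj N] [IsCommMonObj N] (f : M ⟶ N)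
    [IsMonHom f] : IsMonHom f⁻¹ := inferInstance

def homGrp (X Y : AG k) : AddSubgroup (Additive (X.obj.X ⟶ Y.obj.X)) where
  carrier := {g | IsMonHom g.toMul}
  add_mem' {a b} (ha : IsMonHom a.toMul) (hb : IsMonHom b.toMul) := @isMonHom_mul _ _ _ _ _ _ _ a.toMul b.toMul ha hb
  zero_mem' := (inferInstance : IsMonHom (1 : X.obj.X ⟶ Y.obj.X))
  neg_mem' {a} (ha : IsMonHom a.toMul) := (inferInstance : IsMonHom (a.toMul)⁻¹)

def homEquiv (X Y : AG k) : (X ⟶ Y) ≃ homGrp X Y where
  toFun f := ⟨Additive.ofMul (un f), isMonHom_un f⟩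
  invFun g := haveI : IsMonHom g.1.toMul := g.2; mkHom g.1.toMul
  left_inv _ := rfl
  right_inv _ := rfl

instance preadd : Preadditive (AG k) where
  homGroup X Y := (homEquiv X Y).addCommGroup
  add_comp X Y Z f f' g := ext_un (MonObj.mul_comp (un f) (un f') (un g))
  comp_add X Y Z f g g' := ext_un (MonObj.comp_mul (un f) (un g) (un g'))

theorem un_zero (X Y : AG k) : un (0 : X ⟶ Y) = 1 := rfl

instance hasProd : HasFiniteProducts (AG k) := by
  haveI : HasBinaryProducts (AG k) := by
    haveI : ∀ X Y : AG k, HasLimit (pair X Y) := fun X Y => by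
      haveI : LocallyOfFiniteType (X.obj.X ⊗ Y.obj.X).hom :=
        MorphismProperty.comp_mem _ _ _ (MorphismProperty.pullback_fst _ _ (lftAG Y)) (lftAG X)
      haveI : QuasiCompact (X.obj.X ⊗ Y.obj.X).hom :=
        MorphismProperty.comp_mem _ _ _ (MorphismProperty.pullback_fst _ _ (qcAG Y)) (qcAG X)
      haveI : IsAffine (X.obj.X ⊗ Y.obj.X).left := inferInstanceAs (IsAffine (Limits.pullback X.obj.X.hom Y.obj.X.hom))
      let P := ofGrp (X.obj.X ⊗ Y.obj.X)
      refine ⟨⟨⟨BinaryFan.mk (P := P) (mkHom (X := P) (fst X.obj.X Y.obj.X)) (mkHom (X := P) (snd X.obj.X Y.obj.X)),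
        BinaryFan.IsLimit.mk _ (fun f g => mkHom (Y := P) (lift (un f) (un g)))
          (fun f g => ext_un (lift_fst _ _)) (fun f g => ext_un (lift_snd _ _)) fun f g m h1 h2 => ?_⟩⟩⟩
      refine ext_un (CartesianMonoidalCategory.hom_ext _ _ ?_ ?_)
      · exact (congrArg un h1).trans (lift_fst _ _).symm
      · exact (congrArg un h2).trans (lift_snd _ _).symm
    exact hasBinaryProducts_of_hasLimit_pair _
  haveI : HasTerminal (AG k) := by
    haveI : LocallyOfFiniteType (𝟙_ (Over (Spec (CommRingCat.of k)))).hom :=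
      inferInstanceAs (LocallyOfFiniteType (𝟙 (Spec (CommRingCat.of k))))
    haveI : QuasiCompact (𝟙_ (Over (Spec (CommRingCat.of k)))).hom :=
      inferInstanceAs (QuasiCompact (𝟙 (Spec (CommRingCat.of k))))
    haveI : IsAffine (𝟙_ (Over (Spec (CommRingCat.of k)))).left := inferInstanceAs (IsAffine (Spec (CommRingCat.of k)))
    let T := ofGrp (𝟙_ (Over (Spec (CommRingCat.of k))))
    haveI : ∀ X : AG k, Unique (X ⟶ T) := fun X => ⟨⟨0⟩, fun f => ext_un (toUnit_unique _ _)⟩
    exact hasTerminal_of_unique T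
  exact hasFiniteProducts_of_has_binary_and_terminal

/-- The kernel. -/
theorem exists_ker {X Y : AG k} (f : X ⟶ Y) : ∃ (K : AG k) (i : K ⟶ X), IsClosedImmersion (un i).left ∧
    AlgGrp.IsKernel (un i) (un f) := by
  obtain ⟨N, hN, i, him, hic, -, hker⟩ := AdjRep.exists_kernel (un f)
  haveI := him; haveI := hic
  haveI : Mono i := Over.mono_of_mono_left i
  haveI := comm_of_mono i
  haveI : LocallyOfFiniteType N.hom := by rw [← Over.w i]; infer_instance
  haveI : QuasiCompact N.hom := by rw [← Over.w i]; infer_instance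
  haveI : IsAffine N.left := isAffine_of_isAffineHom i.left
  exact ⟨ofGrp N, mkHom (X := ofGrp N) i, hic, hker⟩

theorem kernel_lift {X Y K : AG k} {f : X ⟶ Y} {i : K ⟶ X} [IsClosedImmersion (un i).left]
    (hker : AlgGrp.IsKernel (un i) (un f)) {T : AG k} (t : T ⟶ X) (ht : t ≫ f = 0) : ∃ l : T ⟶ K, l ≫ i = t := by
  have h1 : un t ≫ un f = toUnit _ ≫ η[Y.obj.X] := (congrArg un ht).trans (Hom.one_def)
  haveI : Mono (un i) := Over.mono_of_mono_left (un i)
  let l := hker.lift (un t) (toUnit _) h1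
  have hl : l ≫ un i = un t := hker.lift_fst _ _ _
  haveI : IsMonHom l :=
    { one_hom := by rw [← cancel_mono (un i), Category.assoc, hl, IsMonHom.one_hom, IsMonHom.one_hom]
      mul_hom := by
        rw [← cancel_mono (un i), Category.assoc, hl, Category.assoc, IsMonHom.mul_hom, IsMonHom.mul_hom,
          MonoidalCategory.tensorHom_comp_tensorHom_assoc, hl] }
  exact ⟨mkHom l, ext_un hl⟩

theorem kernel_zero {X Y K : AG k} {f : X ⟶ Y} {i : K ⟶ X} (hker : AlgGrp.IsKernel (un i) (un f)) : i ≫ f = 0 :=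
  ext_un ((hker.w).trans (Hom.one_def).symm)

/-- the limit cone of a kernel -/
theorem kernel_isLimit {X Y K : AG k} {f : X ⟶ Y} {i : K ⟶ X} [IsClosedImmersion (un i).left]
    (hker : AlgGrp.IsKernel (un i) (un f)) : Nonempty (IsLimit (KernelFork.ofι i (kernel_zero hker))) := by
  haveI : Mono (un i) := Over.mono_of_mono_left (un i)
  haveI : Mono i := ⟨fun a b h => ext_un ((cancel_mono (un i)).1 (congrArg un h))⟩
  exact ⟨KernelFork.IsLimit.ofι' i _ fun {T} t ht =>
    ⟨(kernel_lift hker t ht).choose, (kernel_lift hker t ht).choose_spec⟩⟩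

instance hasKer : HasKernels (AG k) := ⟨fun {X Y} f => by
  obtain ⟨K, i, hi, hker⟩ := exists_ker f
  haveI := hi
  exact ⟨⟨⟨_, (kernel_isLimit hker).some⟩⟩⟩⟩

/-- The cokernel, with the image. -/
theorem exists_coker {X Y : AG k} (f : X ⟶ Y) : ∃ (I Q : AG k) (g : X ⟶ I) (i : I ⟶ Y) (p : Y ⟶ Q),
    g ≫ i = f ∧ IsClosedImmersion (un i).left ∧ Flat (un g).left ∧ Surjective (un g).left ∧
    Flat (un p).left ∧ Surjective (un p).left ∧ LocallyOfFinitePresentation (un p).left ∧
    AlgGrp.IsKernel (un i) (un p) := by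
  haveI : IsSeparated Y.obj.X.hom := GrpField.isSeparated_hom _
  haveI : QuasiCompact (un f).left := by
    haveI : QuasiCompact ((un f).left ≫ Y.obj.X.hom) := by rw [Over.w]; infer_instance
    exact QuasiCompact.of_comp _ Y.obj.X.hom
  obtain ⟨K, hK, i, g, him, hgm, hgi, hic, hgd, hgq, hgs⟩ := GrpField.SchImg.exists_image (un f)
  haveI := him; haveI := hgm; haveI := hic; haveI := hgq; haveI := hgd
  haveI : Mono i := Over.mono_of_mono_left i
  haveI := comm_of_mono i
  haveI : LocallyOfFiniteType K.hom := by rw [← Over.w i]; infer_instance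
  haveI : QuasiCompact K.hom := by rw [← Over.w i]; infer_instance
  haveI : Flat g.left := GrpField.flat_of_schDom g ((isSchemeTheoreticallyDominant_iff _).1 hgd)
  obtain ⟨Q, hQ, p, hpm, hpf, hps, hpl, hker, hQl, hQq, hQa⟩ := exists_quot i (normal_of_comm i)
  haveI := hpm; haveI := hpf; haveI := hps; haveI := hpl; haveI := hQl; haveI := hQq; haveI := hQa
  haveI := comm_of_cover p
  haveI : IsAffine K.left := isAffine_of_isAffineHom i.left
  exact ⟨ofGrp K, ofGrp Q, mkHom (Y := ofGrp K) g, mkHom (X := ofGrp K) i, mkHom (Y := ofGrp Q) p, ext_un hgi,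
    hic, ‹_›, hgs, hpf, hps, hpl, hker⟩

/-- A covering homomorphism is the cokernel of anything with the same kernel. -/
theorem exists_desc_cover {Y Q I : AG k} {p : Y ⟶ Q} {i : I ⟶ Y} [Flat (un p).left] [Surjective (un p).left]
    [LocallyOfFinitePresentation (un p).left] (hker : AlgGrp.IsKernel (un i) (un p)) {Z : AG k} (h : Y ⟶ Z)
    (hh : i ≫ h = 0) : ∃ l : Q ⟶ Z, p ≫ l = h := by
  obtain ⟨l, hl⟩ := AVQuot.exists_desc (un p) (un h) fun {V} a b e => by
    have h1 : (a * b⁻¹) ≫ un p = toUnit V ≫ η[Q.obj.X] := by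
      rw [MonObj.mul_comp, GrpObj.inv_comp, e, _root_.mul_inv_cancel, Hom.one_def]
    have h2 := hker.lift_fst (a * b⁻¹) (toUnit V) h1
    have h3 : (a * b⁻¹) ≫ un h = 1 := by
      rw [← h2, Category.assoc, ← un_comp, hh, un_zero, MonObj.comp_one]
    rw [MonObj.mul_comp, GrpObj.inv_comp, mul_inv_eq_one] at h3
    exact h3
  haveI : IsMonHom (un p ≫ l) := by rw [hl]; infer_instance
  haveI := isMonHom_of_cover (un p) l
  exact ⟨mkHom l, ext_un hl⟩

instance hasCoker : HasCokernels (AG k) := ⟨fun {X Y} f => by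
  obtain ⟨I, Q, g, i, p, hgi, hic, hgf, hgs, hpf, hps, hpl, hker⟩ := exists_coker f
  haveI := hpf; haveI := hps; haveI := hpl; haveI := hgf; haveI := hgs
  haveI := epi_of_cover (un g)
  haveI := epi_of_cover (un p)
  haveI : Epi g := ⟨fun a b h => ext_un ((cancel_epi (un g)).1 (congrArg un h))⟩
  haveI : Epi p := ⟨fun a b h => ext_un ((cancel_epi (un p)).1 (congrArg un h))⟩
  have w : f ≫ p = 0 := by rw [← hgi, Category.assoc, kernel_zero hker, comp_zero]
  have hdesc : ∀ {Z : AG k} (h : Y ⟶ Z), f ≫ h = 0 → ∃ l : Q ⟶ Z, p ≫ l = h := fun h hh =>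
    exists_desc_cover hker h (by rw [← cancel_epi g, reassoc_of% hgi, hh, comp_zero])
  exact ⟨⟨⟨CokernelCofork.ofπ p w, CokernelCofork.IsColimit.ofπ' p w fun {Z} h hh =>
    ⟨(hdesc h hh).choose, (hdesc h hh).choose_spec⟩⟩⟩⟩⟩

theorem normalMono {X Y : AG k} (f : X ⟶ Y) [Mono f] : Nonempty (NormalMono f) := by
  obtain ⟨K, ι', hιc, hker⟩ := exists_ker f
  have h0 : ι' = 0 := by rw [← cancel_mono f, kernel_zero hker, zero_comp]
  haveI : Mono (un f) := ⟨fun {T} a b e => by
    have h1 : (a * b⁻¹) ≫ un f = toUnit T ≫ η[Y.obj.X] := by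
      rw [MonObj.mul_comp, GrpObj.inv_comp, e, _root_.mul_inv_cancel, Hom.one_def]
    have h2 := hker.lift_fst (a * b⁻¹) (toUnit T) h1
    refine mul_inv_eq_one.1 (h2.symm.trans ?_)
    exact (congrArg (fun q => hker.lift (a * b⁻¹) (toUnit T) h1 ≫ q) ((congrArg un h0).trans (un_zero _ _))).trans
      (MonObj.comp_one _)⟩
  haveI : IsSeparated Y.obj.X.hom := GrpField.isSeparated_hom _
  haveI : QuasiCompact (un f).left := by
    haveI : QuasiCompact ((un f).left ≫ Y.obj.X.hom) := by rw [Over.w]; infer_instance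
    exact QuasiCompact.of_comp _ Y.obj.X.hom
  haveI : Subsingleton (Spec (CommRingCat.of k)) := inferInstanceAs (Subsingleton (PrimeSpectrum k))
  haveI : IsClosedImmersion (un f).left := GrpField.isClosedImmersion_of_mono (un f)
  obtain ⟨Q, hQ, p, hpm, hpf, hps, hpl, hkerp, hQl, hQq, hQa⟩ := exists_quot (un f) (normal_of_comm _)
  haveI := hpm; haveI := hpf; haveI := hps; haveI := hpl; haveI := hQl; haveI := hQq; haveI := hQa
  haveI := comm_of_cover p
  exact ⟨{ Z := ofGrp Q
           g := mkHom (Y := ofGrp Q) p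
           w := kernel_zero (f := mkHom (Y := ofGrp Q) p) hkerp
           isLimit := (kernel_isLimit (f := mkHom (Y := ofGrp Q) p) hkerp).some }⟩

theorem normalEpi {X Y : AG k} (f : X ⟶ Y) [Epi f] : Nonempty (NormalEpi f) := by
  obtain ⟨I, Q, g, i, p, hgi, hic, hgf, hgs, hpf, hps, hpl, hkerp⟩ := exists_coker f
  haveI := hic; haveI := hgf; haveI := hgs
  have hp0 : p = 0 := by rw [← cancel_epi f, ← hgi, Category.assoc, kernel_zero hkerp, comp_zero, comp_zero]
  haveI : Mono (un i) := Over.mono_of_mono_left (un i)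
  let s := hkerp.lift (𝟙 Y.obj.X) (toUnit _) (by rw [Category.id_comp, hp0, un_zero, Hom.one_def])
  have hs : s ≫ un i = 𝟙 _ := hkerp.lift_fst _ _ _
  haveI : IsSplitEpi (un i) := ⟨⟨s, hs⟩⟩
  haveI : IsIso (un i) := isIso_of_mono_of_isSplitEpi _
  haveI : IsIso (un i).left := inferInstanceAs (IsIso ((Over.forget _).map (un i)))
  have hfu : (un f).left = (un g).left ≫ (un i).left := by rw [← Over.comp_left, ← un_comp, hgi]
  haveI : Flat (un f).left := by rw [hfu]; infer_instance
  haveI : Surjective (un f).left := by rw [hfu]; infer_instance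
  haveI : LocallyOfFinitePresentation (un f).left := by
    haveI : LocallyOfFiniteType ((un f).left ≫ Y.obj.X.hom) := by rw [Over.w]; infer_instance
    haveI : LocallyOfFiniteType (un f).left := locallyOfFiniteType_of_comp _ Y.obj.X.hom
    haveI : IsLocallyNoetherian Y.obj.X.left := LocallyOfFiniteType.isLocallyNoetherian Y.obj.X.hom
    infer_instance
  obtain ⟨K, j, hjc, hkerf⟩ := exists_ker f
  exact ⟨{ W := K
           g := j
           w := kernel_zero hkerf
           isColimit := CokernelCofork.IsColimit.ofπ' f _ fun {Z} h hh =>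
             ⟨(exists_desc_cover hkerf h hh).choose, (exists_desc_cover hkerf h hh).choose_spec⟩ }⟩




/-- Let k be a field. The category of commutative affine algebraic k-groups (commutative group objects
in k-schemes whose underlying scheme is affine and of finite type over k, as a full subcategory of
commutative group objects over Spec k) is an abelian category. -/
theorem result (k : Type u) [Field k] :
    Nonempty (Abelian (ObjectProperty.FullSubcategory
      (fun G : CommGrp (Over (Spec (CommRingCat.of k))) => LocallyOfFiniteType G.X.hom ∧ QuasiCompact G.X.hom ∧ IsAffine G.X.left))) := by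
  haveI : IsNormalMonoCategory (AG k) := ⟨fun f _ => normalMono f⟩
  haveI : IsNormalEpiCategory (AG k) := ⟨fun f _ => normalEpi f⟩
  exact ⟨({ } : Abelian (AG k))⟩

end Groth.Agent.S5352
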