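import Groth.Statements.S5356
import Mathlib
import Groth.Agent.MTBridge.EssFree
import Groth.Agent.MLMod.ProjLift
import Groth.Agent.FpqcDescent.Affine

set_option autoImplicit false
universe u
open CategoryTheory CategoryTheory.Limits MonoidalCategory CartesianMonoidalCategory MonObj GrpObj AlgebraicGeometry
open SGA3

open CategoryTheory.Limits
open scoped TensorProduct
set_option backward.isDefEq.respectTransparency false
set_option linter.style.haveILetI false

namespace Groth.Agent.S5356

/-- b), c) (first assertion of c)): (a) an essentially free morphism f : X → S is flat, and conversely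
if S is the spectrum of an artinian ring every flat S-scheme is essentially free over S; (b) every
scheme over a field is essentially free over it; (c) if X is essentially free over S then X ×_S S'
is essentially free over S' for every S' → S. -/
theorem result :
    (∀ (X S : Scheme.{u}) (f : X ⟶ S), SGA3x.IsEssentiallyFree f → Flat f) ∧
    (∀ (A : Type u) [CommRing A] [IsArtinianRing A] (X : Scheme.{u}) (f : X ⟶ Spec (CommRingCat.of A)),
      Flat f → SGA3x.IsEssentiallyFree f) ∧
    (∀ (k : Type u) [Field k] (X : Scheme.{u}) (f : X ⟶ Spec (CommRingCat.of k)), SGA3x.IsEssentiallyFree f) ∧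
    (∀ (X S S' : Scheme.{u}) (f : X ⟶ S) (g : S' ⟶ S), SGA3x.IsEssentiallyFree f →
      SGA3x.IsEssentiallyFree (pullback.snd f g)) := by
  have hproj : ∀ (A : Type u) [CommRing A] [IsArtinianRing A] (M : Type u) [AddCommGroup M] [Module A M]
      [Module.Flat A M], Module.Projective A M := fun A _ _ M _ _ _ => by
    obtain ⟨n, hn⟩ := IsArtinianRing.isNilpotent_jacobson_bot (R := A)
    haveI : IsSemisimpleRing (A ⧸ (⊥ : Ideal A).jacobson) := by
      haveI : IsArtinianRing (A ⧸ (⊥ : Ideal A).jacobson) := inferInstance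
      rw [IsArtinianRing.isSemisimpleRing_iff_jacobson, ← Ideal.jacobson_bot, ← Ideal.jacobson_eq_iff_jacobson_quotient_eq_bot]
      exact Ideal.jacobson_idem
    haveI := Module.projective_of_isSemisimpleRing (A ⧸ (⊥ : Ideal A).jacobson)
      (M ⧸ ((⊥ : Ideal A).jacobson • ⊤ : Submodule A M))
    exact MLMod.projective_of_flat_nilpotent _ n hn M
  have hart : ∀ (A : Type u) [CommRing A] [IsArtinianRing A] (X : Scheme.{u}) (f : X ⟶ Spec (CommRingCat.of A)),
      Flat f → SGA3x.IsEssentiallyFree f := fun A _ _ X f hf s => by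
    refine ⟨⊤, trivial, isAffineOpen_top _, Spec (CommRingCat.of A), inferInstance,
      (Scheme.topIso _).inv, inferInstance, inferInstance, fun x => ?_⟩
    obtain ⟨V, hV, hxV, -⟩ := exists_isAffineOpen_mem_and_subset (U := ⊤) (x := x) trivial
    refine ⟨V, hxV, hV, ?_⟩
    haveI : IsAffine V.toScheme := hV
    haveI : IsArtinianRing Γ(Spec (CommRingCat.of A), ⊤) :=
      (Scheme.ΓSpecIso (CommRingCat.of A)).symm.commRingCatIsoToRingEquiv.surjective.isArtinianRing
        (f := (Scheme.ΓSpecIso (CommRingCat.of A)).symm.commRingCatIsoToRingEquiv.toRingHom)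
    haveI : Flat f := hf
    have hp := (HasRingHomProperty.iff_of_isAffine (P := @Flat)
      (f := V.ι ≫ pullback.snd f ((Scheme.topIso (Spec (CommRingCat.of A))).inv ≫ Scheme.Opens.ι _))).1 inferInstance
    letI := (V.ι ≫ pullback.snd f ((Scheme.topIso (Spec (CommRingCat.of A))).inv ≫ Scheme.Opens.ι _)).appTop.hom.toAlgebra
    haveI : Module.Flat Γ(Spec (CommRingCat.of A), ⊤) Γ(V.toScheme, ⊤) := hp
    exact hproj _ _
  refine ⟨fun X S f hf => ?_, hart, fun k _ X f => hart k X f inferInstance, fun X S S' f h hf s' => ?_⟩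
  · choose U hsU hU T hT g hgf hgs V hxV hV hp using hf
    refine IsZariskiLocalAtTarget.of_iSup_eq_top (P := @Flat) U
      (top_le_iff.1 fun s _ => TopologicalSpace.Opens.mem_iSup.2 ⟨s, hsU s⟩) fun s => ?_
    have hflat : Flat (pullback.snd f (g s ≫ (U s).ι)) := by
      refine IsZariskiLocalAtSource.of_openCover (P := @Flat)
        (Scheme.openCoverOfIsOpenCover _ (V s) (TopologicalSpace.IsOpenCover.mk
          (top_le_iff.1 fun x _ => TopologicalSpace.Opens.mem_iSup.2 ⟨x, hxV s x⟩))) fun x => ?_
      haveI := hT s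
      haveI : IsAffine (V s x).toScheme := hV s x
      change Flat ((V s x).ι ≫ pullback.snd f (g s ≫ (U s).ι))
      refine (HasRingHomProperty.iff_of_isAffine (P := @Flat)).2 ?_
      letI := ((V s x).ι ≫ pullback.snd f (g s ≫ (U s).ι)).appTop.hom.toAlgebra
      haveI := hp s x
      exact (inferInstance : Module.Flat Γ(T s, ⊤) Γ((V s x).toScheme, ⊤))
    haveI := hgf s
    haveI := hgs s
    haveI := hT s
    haveI : IsAffine (U s).toScheme := hU s
    have h1 : Flat (pullback.snd (pullback.snd f (U s).ι) (g s)) := by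
      rw [← pullbackLeftPullbackSndIso_hom_snd]
      infer_instance
    have h2 : Flat (pullback.snd f (U s).ι) :=
      MorphismProperty.of_pullback_snd_of_descendsAlong (Q := @Surjective ⊓ @Flat ⊓ @QuasiCompact)
        ⟨⟨inferInstance, inferInstance⟩, inferInstance⟩ h1
    rw [← MorphismProperty.cancel_left_of_respectsIso @Flat (pullbackRestrictIsoRestrict f (U s)).hom,
      pullbackRestrictIsoRestrict_hom_morphismRestrict]
    exact h2
  · obtain ⟨U, hsU, hU, T, hT, g, hgf, hgs, hV⟩ := hf (h s')
    obtain ⟨U', hU', hsU', hle⟩ := exists_isAffineOpen_mem_and_subset (U := h ⁻¹ᵁ U) (x := s') hsU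
    haveI : IsAffine U.toScheme := hU
    haveI : IsAffine U'.toScheme := hU'
    let v : U'.toScheme ⟶ U.toScheme := IsOpenImmersion.lift U.ι (U'.ι ≫ h) (by
      rintro _ ⟨x, rfl⟩
      rw [Scheme.Opens.range_ι]
      exact hle x.2)
    have hv : v ≫ U.ι = U'.ι ≫ h := IsOpenImmersion.lift_fac _ _ _
    let R' := Γ(pullback g v, ⊤)
    let g' : Spec R' ⟶ U'.toScheme := (pullback g v).isoSpec.inv ≫ pullback.snd g v
    let k : Spec R' ⟶ T := (pullback g v).isoSpec.inv ≫ pullback.fst g v
    have hk : (g' ≫ U'.ι) ≫ h = k ≫ g ≫ U.ι := by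
      simp only [g', k, Category.assoc, ← hv, pullback.condition_assoc]
    refine ⟨U', hsU', hU', Spec R', inferInstance, g', inferInstance, inferInstance, fun x => ?_⟩
    have sqA := (IsPullback.of_hasPullback (pullback.snd f h) (g' ≫ U'.ι)).paste_horiz (IsPullback.of_hasPullback f h)
    rw [hk] at sqA
    let β := (IsPullback.of_hasPullback f (g ≫ U.ι)).lift
      (pullback.fst (pullback.snd f h) (g' ≫ U'.ι) ≫ pullback.fst f h)
      (pullback.snd (pullback.snd f h) (g' ≫ U'.ι) ≫ k) (sqA.w.trans (Category.assoc _ _ _).symm)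
    have sqB : IsPullback β (pullback.snd (pullback.snd f h) (g' ≫ U'.ι)) (pullback.snd f (g ≫ U.ι)) k :=
      IsPullback.of_right (by simpa [β] using sqA) (by simp [β]) (IsPullback.of_hasPullback _ _)
    haveI : IsAffineHom k := isAffineHom_of_isAffine _
    haveI : IsAffineHom β := MorphismProperty.of_isPullback (P := @IsAffineHom) sqB.flip inferInstance
    obtain ⟨V, hxV, hVa, hp⟩ := hV (β x)
    refine ⟨β ⁻¹ᵁ V, hxV, hVa.preimage β, ?_⟩
    haveI : IsAffine V.toScheme := hVa
    set q := V.ι ≫ pullback.snd f (g ≫ U.ι) with hq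
    have sqC : IsPullback (β ∣_ V) ((β ⁻¹ᵁ V).ι ≫ pullback.snd (pullback.snd f h) (g' ≫ U'.ι)) q k :=
      (isPullback_morphismRestrict β V).paste_vert sqB
    letI : Algebra Γ(T, ⊤) Γ(V.toScheme, ⊤) := q.appTop.hom.toAlgebra
    letI : Algebra Γ(T, ⊤) R' := ((pullback.fst g v).appTop).hom.toAlgebra
    haveI : Module.Projective Γ(T, ⊤) Γ(V.toScheme, ⊤) := hp
    have hspec : ∀ {Z : Scheme.{u}} [IsAffine Z] (p : Z ⟶ T),
        Z.isoSpec.hom ≫ Spec.map p.appTop = p ≫ T.isoSpec.hom := fun p => Scheme.isoSpec_hom_naturality p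
    haveI : IsIso (pullback.fst q T.isoSpec.inv) := inferInstance
    obtain ⟨E, hE⟩ := MTBridge.exists_iso_pullback_tensor q T.isoSpec.inv Γ(V.toScheme, ⊤)
      (asIso (pullback.fst q T.isoSpec.inv) ≪≫ V.toScheme.isoSpec) (by
        rw [Iso.trans_hom, asIso_hom, Category.assoc]
        show _ ≫ _ ≫ Spec.map q.appTop = _
        rw [hspec, ← Category.assoc, pullback.condition, Category.assoc, Iso.inv_hom_id, Category.comp_id])
      R' k (by
        show k = Spec.map (pullback.fst g v).appTop ≫ T.isoSpec.inv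
        rw [Iso.eq_comp_inv, ← cancel_epi (pullback g v).isoSpec.hom, hspec]
        simp [k])
    exact ClosedRep.projective_appTop _ (sqC.isoPullback ≪≫ E)
      ((Category.assoc _ _ _).trans ((congrArg (_ ≫ ·) hE).trans sqC.isoPullback_hom_snd))

end Groth.Agent.S5356
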