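import Groth.Statements.S5357
import Groth.Agent.ClosedRep.Preimage
import Groth.Agent.GrpField.Isogeny

set_option autoImplicit false
universe u
open CategoryTheory CategoryTheory.Limits MonoidalCategory CartesianMonoidalCategory MonObj GrpObj AlgebraicGeometry
open SGA3

namespace Groth.Agent.S5357

/-- Let G be a group scheme over a field k, X a k-scheme and u, v : X → G two morphisms of k-schemes.
Then the transporter of u into v, the subfunctor of G whose points with values in S' are the g such
that g u(x) g⁻¹ = v(x) for every S'' → S' and every point x of X with values in S'', is represented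
by a closed subscheme of G. (For u = v this says that the centralizer of u is represented by a
closed subscheme of G; that it is a subgroup scheme is not stated here.) -/
theorem result (k : Type u) [Field k] (G X : Over (Spec (CommRingCat.of k))) [GrpObj G]
    (u v : X ⟶ G) :
    ∃ (T : Over (Spec (CommRingCat.of k))) (t : T ⟶ G), IsClosedImmersion t.left ∧
      ∀ (S' : Over (Spec (CommRingCat.of k))) (g : S' ⟶ G), (∃ z : S' ⟶ T, z ≫ t = g) ↔
        ∀ (S'' : Over (Spec (CommRingCat.of k))) (s : S'' ⟶ S') (x : S'' ⟶ X), (s ≫ g) * (x ≫ u) * (s ≫ g)⁻¹ = x ≫ v := by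
  have : IsSeparated G.hom := Groth.Agent.ClosedRep.isSeparated_of_field k G
  have : IsClosedImmersion (η[G] : 𝟙_ (Over (Spec (CommRingCat.of k))) ⟶ G).left :=
    Groth.Agent.GrpField.isClosedImmersion_unit
  let f : X ⊗ G ⟶ G := snd X G * (fst X G ≫ u) * (snd X G)⁻¹
  let f' : X ⊗ G ⟶ G := fst X G ≫ v
  have := Groth.Agent.ClosedRep.isClosedImmersion_equalizer_of_grp f f'
  obtain ⟨T, t, ht, h⟩ := Groth.Agent.ClosedRep.exists_closed_eqLocus f f'
    (Groth.Agent.ClosedRep.isLocFree_of_field k X.hom)
  refine ⟨T, t, ht, fun S' g => ((h S' g).trans (Groth.Agent.ClosedRep.forall_lift_iff f f' g)).trans ?_⟩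
  simp only [f, f', MonObj.comp_mul, GrpObj.comp_inv, CartesianMonoidalCategory.lift_fst_assoc,
    CartesianMonoidalCategory.lift_snd]

end Groth.Agent.S5357
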