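import Groth.Statements.S5359
import Groth.Agent.MonoEndo.Main
import Mathlib

set_option autoImplicit false
universe u
open CategoryTheory CategoryTheory.Limits MonoidalCategory CartesianMonoidalCategory MonObj GrpObj AlgebraicGeometry
open SGA3

namespace Groth.Agent.S5359

/-- Let G be an S-group scheme and u : X → G a monomorphism of S-schemes with X of finite presentation
over S. If a point g : T → G is such that, for every T' → T and every point x of X with values in
T', the conjugate g x g⁻¹ is again a point of X, then the same holds for g⁻¹: the transporter of X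
into X coincides with the strict transporter (the normalizer of X). -/
theorem result (S : Scheme.{u}) (G X : Over S) [GrpObj G] (u : X ⟶ G) [Mono u]
    [LocallyOfFinitePresentation X.hom] [QuasiCompact X.hom] [QuasiSeparated X.hom]
    (T : Over S) (g : T ⟶ G)
    (hg : ∀ (T' : Over S) (t : T' ⟶ T) (x : T' ⟶ X), ∃ x' : T' ⟶ X, (t ≫ g) * (x ≫ u) * (t ≫ g)⁻¹ = x' ≫ u) :
    ∀ (T' : Over S) (t : T' ⟶ T) (x : T' ⟶ X), ∃ x' : T' ⟶ X, (t ≫ g)⁻¹ * (x ≫ u) * (t ≫ g) = x' ≫ u := by
  intro T' t x
  obtain ⟨x', hx'⟩ := hg (X ⊗ T) (snd X T) (fst X T)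
  let φ : X ⊗ T ⟶ X ⊗ T := lift x' (snd X T)
  have hmono : Mono φ := ⟨fun {W} a b e => by
    have e2 : a ≫ snd X T = b ≫ snd X T := by simpa [φ] using congrArg (· ≫ snd X T) e
    have e1 : a ≫ x' = b ≫ x' := by simpa [φ] using congrArg (· ≫ fst X T) e
    have h3 := congrArg (· ≫ u) e1
    simp only [Category.assoc, ← hx', MonObj.comp_mul, GrpObj.comp_inv, reassoc_of% e2,
      mul_left_inj, mul_right_inj] at h3
    refine CartesianMonoidalCategory.hom_ext _ _ ?_ e2
    rw [← cancel_mono u, Category.assoc, Category.assoc]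
    exact h3⟩
  have hp1 : LocallyOfFinitePresentation (snd X T).left :=
    MorphismProperty.pullback_snd (P := @LocallyOfFinitePresentation) X.hom T.hom ‹_›
  have hp2 : QuasiCompact (snd X T).left := MorphismProperty.pullback_snd (P := @QuasiCompact) X.hom T.hom ‹_›
  have hp3 : QuasiSeparated (snd X T).left := MorphismProperty.pullback_snd (P := @QuasiSeparated) X.hom T.hom ‹_›
  have : IsIso φ.left := Groth.Agent.MonoEndo.isIso_of_mono (snd X T).left φ.left (by rw [← Over.comp_left, lift_snd])
  have : IsIso ((Over.forget S).map φ) := ‹IsIso φ.left›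
  have : IsIso φ := isIso_of_reflects_iso φ (Over.forget S)
  have h2 : inv φ ≫ snd X T = snd X T := by rw [IsIso.inv_comp_eq, lift_snd]
  refine ⟨lift x t ≫ inv φ ≫ fst X T, ?_⟩
  have h1 : lift x t ≫ inv φ ≫ φ ≫ fst X T = x := by simp
  rw [lift_fst] at h1
  have h3 := congrArg (· ≫ u) h1
  simp only [Category.assoc, ← hx', MonObj.comp_mul, GrpObj.comp_inv, reassoc_of% h2, lift_snd_assoc] at h3
  simp only [Category.assoc, ← h3, ← _root_.mul_assoc, inv_mul_cancel, _root_.one_mul]
  rw [_root_.mul_assoc, inv_mul_cancel, _root_.mul_one]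

end Groth.Agent.S5359
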