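import Groth.Statements.S5360
import Groth.Agent.MonoEndo.Main
import Mathlib

set_option autoImplicit false
universe u
open CategoryTheory CategoryTheory.Limits MonoidalCategory CartesianMonoidalCategory MonObj GrpObj AlgebraicGeometry
open SGA3

namespace Groth.Agent.S5360

/-- Let G be an S-scheme of finite presentation over S with an associative composition law m : G ×_S G →
G such that for every S-scheme S' and every point g of G with values in S' the left and right
translations by g are injective on G(S'), and such that G has an S-point. Then G is an S-group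
scheme: there is a group object structure on G over S whose multiplication is m. -/
theorem result (S : Scheme.{u}) (G : Over S)
    [LocallyOfFinitePresentation G.hom] [QuasiCompact G.hom] [QuasiSeparated G.hom]
    (m : G ⊗ G ⟶ G) (hassoc : (m ▷ G) ≫ m = (α_ G G G).hom ≫ (G ◁ m) ≫ m)
    (hl : ∀ (T : Over S) (g : T ⟶ G), Function.Injective (fun x : T ⟶ G => lift g x ≫ m))
    (hr : ∀ (T : Over S) (g : T ⟶ G), Function.Injective (fun x : T ⟶ G => lift x g ≫ m))
    (e : 𝟙_ (Over S) ⟶ G) :
    ∃ inst : GrpObj G, inst.mul = m := by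
  have hop : ∀ {T : Over S} (a b c : T ⟶ G), lift (lift a b ≫ m) c ≫ m = lift a (lift b c ≫ m) ≫ m := by
    intro T a b c
    have := congrArg (lift (lift a b) c ≫ ·) hassoc
    simpa using this
  have hnat : ∀ {T T' : Over S} (s : T' ⟶ T) (a b : T ⟶ G), s ≫ lift a b ≫ m = lift (s ≫ a) (s ≫ b) ≫ m := by
    intro T T' s a b
    rw [← Category.assoc, comp_lift]
  have hsolve : ∀ (T : Over S) (g y : T ⟶ G), ∃ x : T ⟶ G, lift g x ≫ m = y := by
    intro T g y
    let L : G ⊗ T ⟶ G ⊗ T := lift (lift (snd G T ≫ g) (fst G T) ≫ m) (snd G T)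
    have hmono : Mono L := ⟨fun {W} u v e => by
      have e2 : u ≫ snd G T = v ≫ snd G T := by simpa [L] using congrArg (· ≫ snd G T) e
      have e1 := congrArg (· ≫ fst G T) e
      simp only [L, Category.assoc, lift_fst] at e1
      rw [hnat, hnat, reassoc_of% e2] at e1
      exact CartesianMonoidalCategory.hom_ext _ _ (hl W (v ≫ snd G T ≫ g) e1) e2⟩
    have hp1 : LocallyOfFinitePresentation (snd G T).left :=
      MorphismProperty.pullback_snd (P := @LocallyOfFinitePresentation) G.hom T.hom ‹_›
    have hp2 : QuasiCompact (snd G T).left :=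
      MorphismProperty.pullback_snd (P := @QuasiCompact) G.hom T.hom ‹_›
    have hp3 : QuasiSeparated (snd G T).left :=
      MorphismProperty.pullback_snd (P := @QuasiSeparated) G.hom T.hom ‹_›
    have : IsIso L.left := Groth.Agent.MonoEndo.isIso_of_mono (snd G T).left L.left (by rw [← Over.comp_left, lift_snd])
    have : IsIso ((Over.forget S).map L) := ‹IsIso L.left›
    have : IsIso L := isIso_of_reflects_iso L (Over.forget S)
    have h2 : inv L ≫ snd G T = snd G T := by rw [IsIso.inv_comp_eq, lift_snd]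
    refine ⟨lift y (𝟙 T) ≫ inv L ≫ fst G T, ?_⟩
    have h1 : lift y (𝟙 T) ≫ inv L ≫ L ≫ fst G T = y := by simp
    rw [lift_fst, hnat, hnat, reassoc_of% h2, lift_snd_assoc, Category.id_comp] at h1
    exact h1
  obtain ⟨u, hu⟩ := hsolve (𝟙_ (Over S)) e e
  have hleft : ∀ {T : Over S} (y : T ⟶ G), lift (toUnit T ≫ u) y ≫ m = y := by
    intro T y
    refine hl T (toUnit T ≫ e) ?_
    change lift _ _ ≫ m = lift _ _ ≫ m
    rw [← hop, ← hnat, hu]
  have hright : ∀ {T : Over S} (y : T ⟶ G), lift y (toUnit T ≫ u) ≫ m = y := by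
    intro T y
    refine hr T (toUnit T ≫ u) ?_
    change lift _ _ ≫ m = lift _ _ ≫ m
    rw [hop, hleft]
  obtain ⟨ι', hι⟩ := hsolve G (𝟙 G) (toUnit G ≫ u)
  have hι' : lift ι' (𝟙 G) ≫ m = toUnit G ≫ u := by
    refine hr G ι' ?_
    change lift _ _ ≫ m = lift _ _ ≫ m
    rw [hop, hι, hright, hleft]
  refine ⟨{ one := u, mul := m, one_mul := ?_, mul_one := ?_, mul_assoc := hassoc, inv := ι',
            left_inv := hι', right_inv := hι }, rfl⟩
  · rw [show u ▷ G = lift (toUnit _ ≫ u) (snd (𝟙_ (Over S)) G) from by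
      apply CartesianMonoidalCategory.hom_ext
      · rw [whiskerRight_fst, lift_fst, toUnit_unique (fst (𝟙_ (Over S)) G) (toUnit _)]
      · rw [whiskerRight_snd, lift_snd], hleft]
    exact (leftUnitor_hom G).symm
  · rw [show G ◁ u = lift (fst G (𝟙_ (Over S))) (toUnit _ ≫ u) from by
      apply CartesianMonoidalCategory.hom_ext
      · rw [whiskerLeft_fst, lift_fst]
      · rw [whiskerLeft_snd, lift_snd, toUnit_unique (snd G (𝟙_ (Over S))) (toUnit _)], hright]
    exact (rightUnitor_hom G).symm

end Groth.Agent.S5360
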