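import Groth.Statements.S5361
import Groth.Agent.SubGen.Basic
import Groth.Agent.GrpField.FibreHom
import Groth.Agent.GrpField.Range
import Mathlib

set_option autoImplicit false
universe u
open CategoryTheory CategoryTheory.Limits MonoidalCategory CartesianMonoidalCategory MonObj GrpObj AlgebraicGeometry
open SGA3

namespace Groth.Agent.S5361


open CategoryTheory.Limits
set_option backward.isDefEq.respectTransparency false

/-- Let G be a group scheme over a field k, X a geometrically reduced k-scheme, f : X → G a k-morphism,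
and i : Γ → G the smallest closed subgroup scheme of G through which f factors (the subgroup
generated by f). Then for every k-scheme S, the base change Γ_S → G_S is the smallest subgroup
scheme of G_S through which f_S factors: for every homomorphism i' : Γ' → G_S of S-group schemes
which is an immersion (not necessarily closed) such that f_S factors through i', Γ_S → G_S factors
through i'. -/
theorem result (k : Type u) [Field k] (G X : Over (Spec (CommRingCat.of k))) [GrpObj G]
    [GeometricallyReduced X.hom] (f : X ⟶ G) (Γ : Over (Spec (CommRingCat.of k))) [GrpObj Γ] (i : Γ ⟶ G) [IsMonHom i] [IsClosedImmersion i.left]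
    (hf : ∃ f' : X ⟶ Γ, f' ≫ i = f)
    (hmin : ∀ (Γ' : Over (Spec (CommRingCat.of k))) (_ : GrpObj Γ') (i' : Γ' ⟶ G), IsMonHom i' → IsClosedImmersion i'.left →
        (∃ f'' : X ⟶ Γ', f'' ≫ i' = f) → ∃ j : Γ ⟶ Γ', j ≫ i' = i)
    (S : Scheme.{u}) (σ : S ⟶ (Spec (CommRingCat.of k))) :
    ∀ (Γ' : Over S) (_ : GrpObj Γ') (i' : Γ' ⟶ Red.bc σ G), IsMonHom i' → IsImmersion i'.left →
      (∃ f'' : Red.bc σ X ⟶ Γ', f'' ≫ i' = (Over.pullback σ).map f) →
      ∃ j : Red.bc σ Γ ⟶ Γ', j ≫ i' = (Over.pullback σ).map i := by
  intro Γ' _ i' him' himm' hf''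
  obtain ⟨K, hK, iK, w, himK, hiK, hw, hd, hfK, hminK⟩ := SubGen.exists_generated f
  letI := hK
  haveI := himm'
  obtain ⟨j₀, hj₀⟩ := hmin K hK iK himK hiK hfK
  suffices h : ∃ j, j ≫ i' = (Over.pullback σ).map iK by
    obtain ⟨j, hj⟩ := h
    exact ⟨(Over.pullback σ).map j₀ ≫ j, by rw [Category.assoc, hj, ← Functor.map_comp, hj₀]⟩
  have hwords : ∀ l, ∃ a, a ≫ i' = (Over.pullback σ).map (SubGen.word f l) := by
    obtain ⟨f'', hf''⟩ := hf''
    intro l
    induction l with
    | nil =>
      refine ⟨(Over.pullback σ).map (toUnit _) ≫ 1, ?_⟩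
      show _ = (Over.pullback σ).map (η[G] : 𝟙_ _ ⟶ G)
      rw [Category.assoc, MonObj.one_comp, MonObj.comp_one, show (η[G] : 𝟙_ _ ⟶ G) = 1 from by
        rw [Hom.one_def, toUnit_unit, Category.id_comp], Functor.map_one]
    | cons b l ih =>
      obtain ⟨a, ha⟩ := ih
      show ∃ c, c ≫ i' = (Over.pullback σ).map
        ((fst X (SubGen.src X l) ≫ SubGen.letter f b) * (snd X (SubGen.src X l) ≫ SubGen.word f l))
      refine ⟨((Over.pullback σ).map (fst X (SubGen.src X l)) ≫
        (match b with | true => f'' | false => f''⁻¹)) *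
          ((Over.pullback σ).map (snd X (SubGen.src X l)) ≫ a), ?_⟩
      rw [Functor.map_mul, Functor.map_comp, Functor.map_comp, MonObj.mul_comp, Category.assoc,
        Category.assoc, ha]
      congr 2
      cases b <;> simp [SubGen.letter, GrpObj.inv_comp, hf'', Functor.map_inv']
  let P : Over (Spec (CommRingCat.of k)) := Over.mk σ
  have hb : ∀ {A B : Over (Spec (CommRingCat.of k))} (g : A ⟶ B),
      ((Over.pullback σ).map g).left = (g ▷ P).left := fun g => by
    apply pullback.hom_ext
    · exact (pullback.lift_fst _ _ _).trans (congrArg (fun q => q.left) (whiskerRight_fst g P)).symm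
    · exact (pullback.lift_snd _ _ _).trans (congrArg (fun q => q.left) (whiskerRight_snd g P)).symm
  -- set theoretically
  have hrange : Set.range (iK ▷ P).left ⊆ Set.range i'.left := by
    rintro _ ⟨z, rfl⟩
    let s : S := (snd K P).left z
    let ρ := S.fromSpecResidueField s
    let T : Over (Spec (CommRingCat.of k)) := Over.mk (ρ ≫ σ)
    let m : T ⟶ P := Over.homMk ρ rfl
    have hclosed : IsClosed ((G ◁ m).left ⁻¹' Set.range i'.left) := by
      letI : GrpObj (GrpField.fib Γ' s) := GrpField.fibGrp Γ' s
      letI : GrpObj (GrpField.fib (Red.bc σ G) s) := GrpField.fibGrp (Red.bc σ G) s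
      haveI : IsImmersion (GrpField.fibHom i' s).left :=
        MorphismProperty.of_isPullback (GrpField.isPullback_fibHom i' s) himm'
      have h1 : IsClosed (Set.range (GrpField.fibHom i' s).left) :=
        (GrpField.isSubgroupSet_range (GrpField.fibHom i' s)).isClosed_of_isLocallyClosed
          (GrpField.fibHom i' s).left.isLocallyClosed_range
      have h2 : (pullback.fst (Red.bc σ G).hom ρ) ⁻¹' Set.range i'.left =
          Set.range (GrpField.fibHom i' s).left := by
        ext y
        constructor
        · rintro ⟨x, hx⟩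
          obtain ⟨v, -, hv⟩ := Scheme.Pullback.exists_preimage_pullback (f := i'.left)
            (g := pullback.fst (Red.bc σ G).hom ρ) x y hx
          refine ⟨(GrpField.isPullback_fibHom i' s).isoPullback.inv v, ?_⟩
          erw [← Scheme.Hom.comp_apply, IsPullback.isoPullback_inv_snd]
          exact hv
        · rintro ⟨v, rfl⟩
          exact ⟨pullback.fst Γ'.hom ρ v, by
            rw [← Scheme.Hom.comp_apply, ← GrpField.fibHom_fst, Scheme.Hom.comp_apply]; rfl⟩
      have h1' : IsClosed ((pullback.fst (Red.bc σ G).hom ρ) ⁻¹' Set.range i'.left) := by rw [h2]; exact h1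
      let e : (G ⊗ T).left ⟶ (GrpField.fib (Red.bc σ G) s).left :=
        pullback.lift (G ◁ m).left (snd G T).left (by
          exact congrArg (fun q => q.left) (whiskerLeft_snd G m))
      have he : e ≫ pullback.fst (Red.bc σ G).hom ρ = (G ◁ m).left := pullback.lift_fst _ _ _
      rw [← he, Scheme.Hom.comp_base, TopCat.coe_comp, Set.preimage_comp]
      exact h1'.preimage e.continuous
    let q := pullback.fst (G ◁ m).left i'.left
    haveI : IsImmersion q := MorphismProperty.pullback_fst _ _ himm'
    haveI : IsClosedImmersion q := IsClosedImmersion.of_isPreimmersion q (by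
      rw [Scheme.Pullback.range_fst]; exact hclosed)
    let Z : Over (Spec (CommRingCat.of k)) := Over.mk (q ≫ (G ⊗ T).hom)
    haveI : IsClosedImmersion (Over.homMk q rfl : Z ⟶ G ⊗ T).left := ‹IsClosedImmersion q›
    obtain ⟨b, hb'⟩ := hd.factor (T := T) (iK ▷ T) (Over.homMk q rfl : Z ⟶ G ⊗ T) fun l => by
      obtain ⟨a, ha⟩ := hwords l
      have e1 : (w l ▷ T) ≫ (iK ▷ T) = SubGen.word f l ▷ T := by rw [← comp_whiskerRight, hw]
      have e2 : (SubGen.word f l ▷ T).left ≫ (G ◁ m).left = ((SubGen.src X l ◁ m).left ≫ a.left) ≫ i'.left := by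
        rw [Category.assoc, show a.left ≫ i'.left = ((Over.pullback σ).map (SubGen.word f l)).left from
          congrArg (fun q => q.left) ha, hb, ← Over.comp_left, ← Over.comp_left, whisker_exchange]
      refine ⟨Over.homMk (pullback.lift _ _ e2) ?_, ?_⟩
      · show pullback.lift _ _ e2 ≫ q ≫ (G ⊗ T).hom = _
        rw [pullback.lift_fst_assoc, Over.w]
      · rw [e1]
        exact Over.OverMorphism.ext (pullback.lift_fst _ _ e2).symm
    obtain ⟨y, hy1, hy2⟩ := Scheme.Pullback.exists_preimage_pullback (f := (snd K P).left) (g := ρ) z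
      (IsLocalRing.closedPoint (S.residueField s)) (Scheme.fromSpecResidueField_apply _ _).symm
    let y' : (K ⊗ T).left := (pullback.lift (pullback.fst (snd K P).left ρ ≫ (fst K P).left)
      (pullback.snd (snd K P).left ρ) (by
        rw [show T.hom = ρ ≫ σ from rfl, ← pullback.condition_assoc, Category.assoc, Over.w (fst K P)]
        congr 1
        exact (Over.w (snd K P)).symm) : pullback (snd K P).left ρ ⟶ (K ⊗ T).left) y
    have hy' : (K ◁ m).left y' = z := by
      refine Eq.trans ?_ hy1
      refine ((Scheme.Hom.comp_apply _ _ _).symm).trans ?_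
      refine congrArg (fun q : pullback (snd K P).left ρ ⟶ (K ⊗ P).left => q y) ?_
      apply pullback.hom_ext
      · simp only [Category.assoc]
        erw [Over.whiskerLeft_left_fst, pullback.lift_fst]
        rfl
      · simp only [Category.assoc]
        erw [Over.whiskerLeft_left_snd, pullback.lift_snd_assoc]
        exact (pullback.condition).symm
    have hmem : (iK ▷ T).left y' ∈ Set.range q := ⟨b.left y', by rw [hb', Over.comp_left, Scheme.Hom.comp_apply]; rfl⟩
    rw [Scheme.Pullback.range_fst] at hmem
    rw [← hy', ← Scheme.Hom.comp_apply, ← Over.comp_left, whisker_exchange, Over.comp_left,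
      Scheme.Hom.comp_apply]
    exact hmem
  -- scheme theoretically
  let W : (Red.bc σ G).left.Opens :=
    ⟨coborder (Set.range i'.left), i'.left.isLocallyClosed_range.isOpen_coborder⟩
  have hW : Set.range i'.left ⊆ Set.range W.ι := by
    rw [Scheme.Opens.range_ι]; exact subset_coborder
  let u := IsOpenImmersion.lift W.ι i'.left hW
  have hu : u ≫ W.ι = i'.left := IsOpenImmersion.lift_fac _ _ _
  haveI : IsImmersion (u ≫ W.ι) := hu ▸ himm'
  haveI : IsImmersion u := IsImmersion.of_comp u W.ι
  haveI : IsClosedImmersion u := IsClosedImmersion.of_isPreimmersion u (by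
    have : Set.range u = W.ι ⁻¹' Set.range i'.left := by
      rw [← hu, Scheme.Hom.comp_base, TopCat.coe_comp, Set.range_comp,
        W.ι.isOpenEmbedding.injective.preimage_image]
    rw [this]
    exact isClosed_preimage_val_coborder)
  let Y : Over (Spec (CommRingCat.of k)) := Over.mk (W.ι ≫ (G ⊗ P).hom)
  let Z : Over (Spec (CommRingCat.of k)) := Over.mk (u ≫ Y.hom)
  have hKW : Set.range (iK ▷ P).left ⊆ Set.range W.ι := hrange.trans hW
  haveI : IsClosedImmersion (Over.homMk u rfl : Z ⟶ Y).left := ‹IsClosedImmersion u›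
  let φ : K ⊗ P ⟶ Y := Over.homMk (IsOpenImmersion.lift W.ι (iK ▷ P).left hKW) (by
    show IsOpenImmersion.lift W.ι (iK ▷ P).left hKW ≫ W.ι ≫ (G ⊗ P).hom = _
    rw [IsOpenImmersion.lift_fac_assoc, Over.w])
  obtain ⟨b, hb'⟩ := hd.factor (T := P) φ (Over.homMk u rfl : Z ⟶ Y) fun l => by
    obtain ⟨a, ha⟩ := hwords l
    have e : (w l ▷ P).left ≫ φ.left = a.left ≫ u := by
      rw [← cancel_mono W.ι, Category.assoc, Category.assoc, hu,
        show a.left ≫ i'.left = ((Over.pullback σ).map (SubGen.word f l)).left from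
          congrArg (fun q => q.left) ha, hb]
      show (w l ▷ P).left ≫ IsOpenImmersion.lift W.ι (iK ▷ P).left hKW ≫ W.ι = _
      rw [IsOpenImmersion.lift_fac, ← Over.comp_left, ← comp_whiskerRight, hw]
    refine ⟨Over.homMk a.left ?_, Over.OverMorphism.ext e⟩
    show a.left ≫ u ≫ Y.hom = _
    rw [← Category.assoc, ← e, Category.assoc, Over.w φ, Over.w]
  have e : b.left ≫ i'.left = ((Over.pullback σ).map iK).left := by
    rw [hb, ← hu, ← Category.assoc]
    have := congrArg (fun q => q.left ≫ W.ι) hb'
    refine this.symm.trans ?_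
    exact IsOpenImmersion.lift_fac _ _ _
  refine ⟨Over.homMk b.left ?_, Over.OverMorphism.ext e⟩
  rw [← Over.w i', ← Category.assoc]
  exact (congrArg (· ≫ (Red.bc σ G).hom) e).trans (Over.w ((Over.pullback σ).map iK))

end Groth.Agent.S5361
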