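import Groth.Statements.S5362
import Groth.Agent.SubGen.Basic
import Groth.Agent.SmoothRed.Scheme
import Mathlib

set_option autoImplicit false
universe u
open CategoryTheory CategoryTheory.Limits MonoidalCategory CartesianMonoidalCategory MonObj GrpObj AlgebraicGeometry
open SGA3

namespace Groth.Agent.S5362


open CategoryTheory.Limits

/-- Let G be a group scheme locally of finite type over a field k, and a : A → G, b : B → G two closed
subgroup schemes which are smooth and of finite type over k, such that B normalizes A (conjugating a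
point of A by a point of B gives a point of A). Let i : Γ → G be the smallest closed subgroup scheme
of G through which both a and b factor. Then Γ is reduced and its underlying set is A·B, the image
of A ×_k B under (x, y) ↦ a(x) b(y). -/
theorem result (k : Type u) [Field k] (G A B : Over (Spec (CommRingCat.of k))) [GrpObj G] [GrpObj A] [GrpObj B]
    [LocallyOfFiniteType G.hom] (a : A ⟶ G) [IsMonHom a] [IsClosedImmersion a.left] (b : B ⟶ G) [IsMonHom b]
    [IsClosedImmersion b.left] [Smooth A.hom] [QuasiCompact A.hom] [Smooth B.hom] [QuasiCompact B.hom]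
    (hN : ∀ (T : Over (Spec (CommRingCat.of k))) (y : T ⟶ B) (x : T ⟶ A), ∃ x' : T ⟶ A, (y ≫ b) * (x ≫ a) * (y ≫ b)⁻¹ = x' ≫ a)
    (Γ : Over (Spec (CommRingCat.of k))) [GrpObj Γ] (i : Γ ⟶ G) [IsMonHom i] [IsClosedImmersion i.left]
    (ha : ∃ a' : A ⟶ Γ, a' ≫ i = a) (hb : ∃ b' : B ⟶ Γ, b' ≫ i = b)
    (hmin : ∀ (Γ' : Over (Spec (CommRingCat.of k))) (_ : GrpObj Γ') (i' : Γ' ⟶ G), IsMonHom i' → IsClosedImmersion i'.left →
        (∃ a'' : A ⟶ Γ', a'' ≫ i' = a) → (∃ b'' : B ⟶ Γ', b'' ≫ i' = b) → ∃ j : Γ ⟶ Γ', j ≫ i' = i) :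
    IsReduced Γ.left ∧ Set.range i.left.base = Set.range ((a ⊗ₘ b) ≫ μ[G]).left.base := by
  let h : A ⊗ B ⟶ G := (fst A B ≫ a) * (snd A B ≫ b)
  have hh : (a ⊗ₘ b) ≫ μ[G] = h := by rw [← lift_fst_comp_snd_comp, ← Hom.mul_def]
  rw [hh]
  obtain ⟨K, iK, w', hiK, hw', hd, hminK⟩ := SubGen.exists_image (fun _ : Unit => h)
  haveI := hiK
  let w := w' ()
  have hw : w ≫ iK = h := hw' ()
  have hkey : ∀ {T : Over (Spec (CommRingCat.of k))} (a₁ a₂ : T ⟶ A) (b₁ b₂ : T ⟶ B),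
      ∃ c : T ⟶ A ⊗ B, c ≫ h = ((a₁ ≫ a) * (b₁ ≫ b))⁻¹ * ((a₂ ≫ a) * (b₂ ≫ b)) := by
    intro T a₁ a₂ b₁ b₂
    obtain ⟨a', ha'⟩ := hN T b₁⁻¹ (a₁⁻¹ * a₂)
    refine ⟨lift a' (b₁⁻¹ * b₂), ?_⟩
    simp only [h, MonObj.comp_mul, lift_fst_assoc, lift_snd_assoc, ← ha', GrpObj.inv_comp,
      MonObj.mul_comp]
    group
  have hA : ∃ e, (K ◁ w) ≫ ((fst K K ≫ iK)⁻¹ * (snd K K ≫ iK)) = e ≫ iK := by
    refine hd.factor (T := A ⊗ B) ((K ◁ w) ≫ ((fst K K ≫ iK)⁻¹ * (snd K K ≫ iK))) iK fun _ => ?_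
    obtain ⟨c, hc⟩ := hkey (fst (A ⊗ B) (A ⊗ B) ≫ fst A B) (snd (A ⊗ B) (A ⊗ B) ≫ fst A B)
      (fst (A ⊗ B) (A ⊗ B) ≫ snd A B) (snd (A ⊗ B) (A ⊗ B) ≫ snd A B)
    refine ⟨c ≫ w, ?_⟩
    rw [Category.assoc c, hw, hc]
    simp [MonObj.comp_mul, GrpObj.comp_inv, reassoc_of% whiskerRight_fst, hw, h, hw']
  obtain ⟨E, hE⟩ : ∃ e, (β_ K K).hom ≫ ((fst K K ≫ iK)⁻¹ * (snd K K ≫ iK)) = e ≫ iK :=
    hd.factor (T := K) ((β_ K K).hom ≫ ((fst K K ≫ iK)⁻¹ * (snd K K ≫ iK))) iK fun _ => by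
      obtain ⟨e, he⟩ := hA
      refine ⟨(β_ (A ⊗ B) K).hom ≫ e, ?_⟩
      rw [Category.assoc, ← he, ← BraidedCategory.braiding_naturality_left_assoc]
  have h1 : ∀ {T : Over (Spec (CommRingCat.of k))}, lift (1 : T ⟶ A) (1 : T ⟶ B) ≫ h = 1 := by
    intro T; simp [h, MonObj.comp_mul, MonObj.one_comp]
  obtain ⟨hKg, hKm⟩ := GrpField.SchImg.exists_grpObj_of_div iK
    ⟨lift (1 : 𝟙_ _ ⟶ A) 1 ≫ w, by
      rw [Category.assoc, hw, h1, Hom.one_def, toUnit_unit, Category.id_comp]⟩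
    (fun T k₁ k₂ => ⟨lift k₂ k₁ ≫ E, by
      rw [Category.assoc, ← hE]; simp [MonObj.comp_mul, GrpObj.comp_inv]⟩)
  letI := hKg
  haveI := hKm
  obtain ⟨j, hj⟩ := hmin K hKg iK hKm hiK
    ⟨lift (𝟙 A) 1 ≫ w, by rw [Category.assoc, hw]; simp [h, MonObj.comp_mul, MonObj.one_comp]⟩
    ⟨lift 1 (𝟙 B) ≫ w, by rw [Category.assoc, hw]; simp [h, MonObj.comp_mul, MonObj.one_comp]⟩
  obtain ⟨j', hj'⟩ := hminK Γ i inferInstance fun _ => by
    obtain ⟨a', ha'⟩ := ha
    obtain ⟨b', hb'⟩ := hb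
    exact ⟨(fst A B ≫ a') * (snd A B ≫ b'), by simp [h, MonObj.mul_comp, ha', hb']⟩
  haveI : Mono i := GrpField.SchImg.mono_of_isClosedImmersion i
  haveI : Mono iK := GrpField.SchImg.mono_of_isClosedImmersion iK
  haveI : IsIso j := ⟨j', by rw [← cancel_mono i, Category.assoc, hj', Category.id_comp, hj],
    by rw [← cancel_mono iK, Category.assoc, hj, Category.id_comp, hj']⟩
  haveI : IsIso j.left := inferInstanceAs (IsIso ((Over.forget _).map j))
  -- reduced
  haveI hsm : Smooth (A ⊗ B).hom := by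
    rw [Over.tensorObj_hom]
    haveI : Smooth (pullback.fst A.hom B.hom) := MorphismProperty.pullback_fst _ _ ‹Smooth B.hom›
    infer_instance
  haveI : IsReduced (A ⊗ B).left := SmoothRed.isReduced_of_smooth_scheme (A ⊗ B).hom
  haveI : IsReduced K.left := by
    let J := K.left.nilradical
    haveI := RedSepLib.isReduced_subscheme_nilradical K.left
    let R : Over (Spec (CommRingCat.of k)) := Over.mk (J.subschemeι ≫ K.hom)
    let r : R ⟶ K := Over.homMk J.subschemeι rfl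
    obtain ⟨g, hg⟩ := RedSepLib.exists_lift_of_isReduced w.left J.subschemeι (by
      rw [Scheme.IdealSheafData.range_subschemeι, Scheme.support_nilradical]
      exact Set.subset_univ _)
    haveI hr : IsIso r := hd R r (inferInstanceAs (IsClosedImmersion J.subschemeι)) fun _ =>
      ⟨Over.homMk g (by show g ≫ J.subschemeι ≫ K.hom = _; rw [reassoc_of% hg, Over.w]),
        Over.OverMorphism.ext hg⟩
    haveI : IsIso r.left := inferInstanceAs (IsIso ((Over.forget _).map r))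
    haveI : IsReduced R.left := ‹IsReduced J.subscheme›
    exact isReduced_of_isOpenImmersion (inv r.left)
  refine ⟨isReduced_of_isOpenImmersion j.left, ?_⟩
  -- the range is closed
  haveI : LocallyOfFiniteType (A ⊗ B).hom := inferInstance
  haveI : QuasiCompact (A ⊗ B).hom := by
    rw [Over.tensorObj_hom]
    haveI : QuasiCompact (pullback.fst A.hom B.hom) := MorphismProperty.pullback_fst _ _ ‹QuasiCompact B.hom›
    infer_instance
  haveI : IsLocallyNoetherian G.left := LocallyOfFiniteType.isLocallyNoetherian G.hom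
  haveI : LocallyOfFiniteType h.left := by
    haveI : LocallyOfFiniteType (h.left ≫ G.hom) := by rw [Over.w]; infer_instance
    exact locallyOfFiniteType_of_comp h.left G.hom
  haveI : IsSeparated G.hom := ClosedRep.isSeparated_of_field k G
  haveI : QuasiCompact h.left := by
    haveI : QuasiCompact (h.left ≫ G.hom) := by rw [Over.w]; infer_instance
    exact QuasiCompact.of_comp h.left G.hom
  have hsub : GrpField.IsSubgroupSet (Set.range h.left) := by
    have hr : ∀ {T T' : Over (Spec (CommRingCat.of k))} [GrpField.IsPt T] [GrpField.IsPt T'] (v : T' ⟶ T)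
        (c : T ⟶ G) (x : T' ⟶ A ⊗ B), x ≫ h = v ≫ c → ∀ t, c.left t ∈ Set.range h.left := by
      intro T T' _ _ v c x hx t
      obtain ⟨t', rfl⟩ := GrpField.surjective_of_isPt v t
      exact ⟨x.left t', by
        rw [← Scheme.Hom.comp_apply, ← Scheme.Hom.comp_apply, ← Over.comp_left, ← Over.comp_left, hx]⟩
    have hd : ∀ ⦃T : Over (Spec (CommRingCat.of k))⦄ [GrpField.IsPt T] (c₁ c₂ : T ⟶ G),
        (∀ t, c₁.left t ∈ Set.range h.left) → (∀ t, c₂.left t ∈ Set.range h.left) →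
        ∀ t, (c₁⁻¹ * c₂).left t ∈ Set.range h.left := by
      intro T _ c₁ c₂ h₁ h₂ t
      obtain ⟨T₁, _, v₁, x₁, e₁⟩ := GrpField.exists_lift_pt h c₁ t (h₁ t)
      obtain ⟨t₁⟩ := GrpField.IsPt.nonempty T₁
      obtain ⟨T₂, _, v₂, x₂, e₂⟩ := GrpField.exists_lift_pt h (v₁ ≫ c₂) t₁ (h₂ _)
      obtain ⟨c, hc⟩ := hkey (v₂ ≫ x₁ ≫ fst A B) (x₂ ≫ fst A B) (v₂ ≫ x₁ ≫ snd A B) (x₂ ≫ snd A B)
      refine hr (v₂ ≫ v₁) _ c ?_ t
      have e₁' := congrArg (fun q => v₂ ≫ q) e₁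
      simp only [h, MonObj.comp_mul, Category.assoc] at hc e₁' e₂ ⊢
      rw [hc, e₁', e₂]
      simp only [GrpObj.comp_inv]
    have hone : ∀ {T : Over (Spec (CommRingCat.of k))} [GrpField.IsPt T] (t : T.left),
        (1 : T ⟶ G).left t ∈ Set.range h.left := fun {T} _ t =>
      hr (𝟙 T) _ (lift (1 : T ⟶ A) (1 : T ⟶ B)) (by rw [h1, Category.id_comp]) t
    refine ⟨⟨_, (lift (1 : 𝟙_ _ ⟶ A) (1 : 𝟙_ _ ⟶ B)).left (IsLocalRing.closedPoint k), rfl⟩,
      fun T _ c₁ c₂ h₁ h₂ t => ?_, fun T _ c₁ h₁ t => ?_⟩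
    · have := hd c₁⁻¹ c₂ (fun s => by
        have := hd c₁ 1 h₁ (fun s => hone s) s
        rwa [_root_.mul_one] at this) h₂ t
      rwa [_root_.inv_inv] at this
    · have := hd c₁ 1 h₁ (fun s => hone s) t
      rwa [_root_.mul_one] at this
  have hcl : IsClosed (Set.range h.left) := by
    have hA : Topology.IsLocallyConstructible (Set.range h.left) := by
      rw [← Set.image_univ]
      exact h.left.isLocallyConstructible_image .univ
    let O : Set G.left := ⋃₀ {W | IsOpen W ∧ closure (Set.range h.left) ∩ W ⊆ Set.range h.left}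
    refine hsub.isClosed (U := closure (Set.range h.left) ∩ O)
      (fun x ⟨hx, W, hW, hxW⟩ => hW.2 ⟨hx, hxW⟩) ⟨O, isOpen_sUnion fun W hW => hW.1, rfl⟩
      (fun x hx => mem_closure_iff.2 fun W hW hxW => ?_)
    obtain ⟨W', h1, h2, ⟨z, hz, hzA⟩, h3⟩ :=
      GrpField.exists_isOpen_inter_closure_subset hA hW (mem_closure_iff.1 hx W hW hxW)
    exact ⟨z, h1 hz, subset_closure hzA, W', ⟨h2, h3⟩, hz⟩
  refine subset_antisymm ?_ ?_
  · let C : TopologicalSpace.Closeds K.left := ⟨iK.left ⁻¹' Set.range h.left, hcl.preimage iK.left.continuous⟩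
    let J := Scheme.IdealSheafData.vanishingIdeal C
    let Z : Over (Spec (CommRingCat.of k)) := Over.mk (J.subschemeι ≫ K.hom)
    obtain ⟨g, hg⟩ := RedSepLib.exists_lift_of_isReduced w.left J.subschemeι (by
      rintro _ ⟨s, rfl⟩
      rw [Scheme.IdealSheafData.range_subschemeι, Scheme.IdealSheafData.coe_support_vanishingIdeal]
      exact ⟨s, by rw [← Scheme.Hom.comp_apply, ← Over.comp_left, hw]⟩)
    haveI hiso := hd Z (Over.homMk J.subschemeι rfl) (inferInstanceAs (IsClosedImmersion J.subschemeι))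
      fun _ => ⟨Over.homMk g (by show g ≫ J.subschemeι ≫ K.hom = _; rw [reassoc_of% hg, Over.w]),
        Over.OverMorphism.ext hg⟩
    haveI : IsIso J.subschemeι :=
      inferInstanceAs (IsIso ((Over.forget _).map (Over.homMk J.subschemeι rfl : Z ⟶ K)))
    rintro _ ⟨z, rfl⟩
    have hz : j.left z ∈ Set.range J.subschemeι := J.subschemeι.surjective _
    rw [Scheme.IdealSheafData.range_subschemeι, Scheme.IdealSheafData.coe_support_vanishingIdeal] at hz
    obtain ⟨y, hy⟩ := hz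
    exact ⟨y, by rw [hy, ← Scheme.Hom.comp_apply, ← Over.comp_left, hj]⟩
  · rintro _ ⟨y, rfl⟩
    exact ⟨j'.left (w.left y), by
      rw [← Scheme.Hom.comp_apply, ← Scheme.Hom.comp_apply, ← Over.comp_left, ← Over.comp_left, hj', hw]⟩

end Groth.Agent.S5362
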