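import Groth.Statements.S5363
import Groth.Agent.ClosedRep.Over
import Groth.Agent.GrpField.SchImg
import Mathlib

set_option autoImplicit false
universe u
open CategoryTheory CategoryTheory.Limits MonoidalCategory CartesianMonoidalCategory MonObj GrpObj AlgebraicGeometry
open SGA3

namespace Groth.Agent.S5363

/-- Let G be a group scheme over a field k and g a k-rational point of G. Then the smallest closed
subgroup scheme Γ of G through which g factors (the closed subgroup generated by g) is commutative. -/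
theorem result (k : Type u) [Field k] (G : Over (Spec (CommRingCat.of k))) [GrpObj G]
    (g : 𝟙_ (Over (Spec (CommRingCat.of k))) ⟶ G) (Γ : Over (Spec (CommRingCat.of k))) [GrpObj Γ] (i : Γ ⟶ G) [IsMonHom i] [IsClosedImmersion i.left]
    (hf : ∃ f' : 𝟙_ (Over (Spec (CommRingCat.of k))) ⟶ Γ, f' ≫ i = g)
    (hmin : ∀ (Γ' : Over (Spec (CommRingCat.of k))) (_ : GrpObj Γ') (i' : Γ' ⟶ G), IsMonHom i' → IsClosedImmersion i'.left →
        (∃ f'' : 𝟙_ (Over (Spec (CommRingCat.of k))) ⟶ Γ', f'' ≫ i' = g) → ∃ j : Γ ⟶ Γ', j ≫ i' = i) :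
    IsCommMonObj Γ := by
  obtain ⟨g', hg'⟩ := hf
  haveI : Mono i := GrpField.SchImg.mono_of_isClosedImmersion i
  haveI : IsClosedImmersion η[G].left :=
    isClosedImmersion_of_comp_eq_id (Y := Spec (CommRingCat.of k)) G.hom η[G].left (by simp)
  -- the centralizer of `g` in `Γ` is everything
  have hA : ∀ {T : Over (Spec (CommRingCat.of k))} (x : T ⟶ Γ),
      (x ≫ i) * (toUnit T ≫ g) = (toUnit T ≫ g) * (x ≫ i) := by
    let f₁ : Γ ⟶ G := i * (toUnit Γ ≫ g)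
    let f₂ : Γ ⟶ G := (toUnit Γ ≫ g) * i
    haveI := ClosedRep.isClosedImmersion_equalizer_of_grp f₁ f₂
    let e := equalizer.ι f₁ f₂ ≫ i
    haveI : IsClosedImmersion e.left := by rw [Over.comp_left]; infer_instance
    have hE : ∀ {T : Over (Spec (CommRingCat.of k))} (y : T ⟶ Γ),
        (∃ z, z ≫ equalizer.ι f₁ f₂ = y) ↔ (y ≫ i) * (toUnit T ≫ g) = (toUnit T ≫ g) * (y ≫ i) := by
      intro T y
      have hy : y ≫ f₁ = (y ≫ i) * (toUnit T ≫ g) ∧ y ≫ f₂ = (toUnit T ≫ g) * (y ≫ i) := by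
        simp [f₁, f₂, MonObj.comp_mul]
      constructor
      · rintro ⟨z, rfl⟩
        rw [← hy.1, ← hy.2, Category.assoc, Category.assoc, equalizer.condition]
      · intro h
        exact ⟨equalizer.lift y (by rw [hy.1, hy.2, h]), equalizer.lift_ι _ _⟩
    obtain ⟨hEg, hEm⟩ := GrpField.SchImg.exists_grpObj_of_div e
      (by
        obtain ⟨z, hz⟩ := (hE (η[Γ])).2 (by
          rw [IsMonHom.one_hom i, show η[G] = (1 : _ ⟶ G) from by rw [Hom.one_def, toUnit_unit, Category.id_comp]]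
          simp)
        exact ⟨z, by rw [reassoc_of% hz, IsMonHom.one_hom i]⟩)
      (fun T k₁ k₂ => by
        have h₁ := (hE (k₁ ≫ equalizer.ι f₁ f₂)).1 ⟨k₁, rfl⟩
        have h₂ := (hE (k₂ ≫ equalizer.ι f₁ f₂)).1 ⟨k₂, rfl⟩
        obtain ⟨z, hz⟩ := (hE ((k₁ ≫ equalizer.ι f₁ f₂)⁻¹ * (k₂ ≫ equalizer.ι f₁ f₂))).2 (by
          rw [MonObj.mul_comp, GrpObj.inv_comp]
          exact (((show Commute _ _ from h₁).inv_left).mul_left h₂).eq)
        exact ⟨z, by simp only [e, reassoc_of% hz, MonObj.mul_comp, GrpObj.inv_comp, Category.assoc]⟩)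
    obtain ⟨z₀, hz₀⟩ := (hE g').2 (by rw [hg', toUnit_unit, Category.id_comp])
    obtain ⟨j, hj⟩ := hmin _ hEg e hEm inferInstance ⟨z₀, by simp only [e, reassoc_of% hz₀, hg']⟩
    have hj' : j ≫ equalizer.ι f₁ f₂ = 𝟙 Γ := by
      rw [← cancel_mono i, Category.assoc, Category.id_comp]; exact hj
    intro T x
    exact (hE x).1 ⟨x ≫ j, by rw [Category.assoc, hj', Category.comp_id]⟩
  -- the centre of `Γ` is everything
  let F₁ : Γ ⊗ Γ ⟶ G := (fst Γ Γ ≫ i) * (snd Γ Γ ≫ i)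
  let F₂ : Γ ⊗ Γ ⟶ G := (snd Γ Γ ≫ i) * (fst Γ Γ ≫ i)
  haveI := ClosedRep.isClosedImmersion_equalizer_of_grp F₁ F₂
  obtain ⟨Z, z, hz, hZ⟩ := ClosedRep.exists_closed_eqLocus F₁ F₂ (ClosedRep.isLocFree_of_field k Γ.hom)
  have hZ' : ∀ {T : Over (Spec (CommRingCat.of k))} (x : T ⟶ Γ), (∃ w, w ≫ z = x) ↔
      ∀ (T'' : Over (Spec (CommRingCat.of k))) (t : T'' ⟶ T) (a : T'' ⟶ Γ),
        (a ≫ i) * ((t ≫ x) ≫ i) = ((t ≫ x) ≫ i) * (a ≫ i) := by
    intro T x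
    rw [hZ, ClosedRep.forall_lift_iff]
    simp [F₁, F₂, MonObj.comp_mul]
  let e := z ≫ i
  haveI : IsClosedImmersion e.left := by rw [Over.comp_left]; infer_instance
  obtain ⟨hZg, hZm⟩ := GrpField.SchImg.exists_grpObj_of_div e
    (by
      obtain ⟨w, hw⟩ := (hZ' (η[Γ])).2 (fun T'' t a => by
        rw [Category.assoc, IsMonHom.one_hom i, show t ≫ η[G] = (1 : T'' ⟶ G) from by
          rw [Hom.one_def, toUnit_unique (toUnit T'') t]]
        simp)
      exact ⟨w, by rw [reassoc_of% hw, IsMonHom.one_hom i]⟩)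
    (fun T k₁ k₂ => by
      have h₁ := (hZ' (k₁ ≫ z)).1 ⟨k₁, rfl⟩
      have h₂ := (hZ' (k₂ ≫ z)).1 ⟨k₂, rfl⟩
      obtain ⟨w, hw⟩ := (hZ' ((k₁ ≫ z)⁻¹ * (k₂ ≫ z))).2 (fun T'' t a => by
        simp only [MonObj.comp_mul, GrpObj.comp_inv, MonObj.mul_comp, GrpObj.inv_comp]
        exact (((show Commute _ _ from h₁ T'' t a).inv_right).mul_right (h₂ T'' t a)).eq)
      exact ⟨w, by simp only [e, reassoc_of% hw, MonObj.mul_comp, GrpObj.inv_comp, Category.assoc]⟩)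
  obtain ⟨w₀, hw₀⟩ := (hZ' g').2 (fun T'' t a => by
    rw [Category.assoc, hg', toUnit_unique t (toUnit T'')]
    exact hA a)
  obtain ⟨j, hj⟩ := hmin _ hZg e hZm inferInstance ⟨w₀, by simp only [e, reassoc_of% hw₀, hg']⟩
  have hj' : j ≫ z = 𝟙 Γ := by rw [← cancel_mono i, Category.assoc, Category.id_comp]; exact hj
  have key := (hZ' (𝟙 Γ)).1 ⟨j, hj'⟩ (Γ ⊗ Γ) (snd Γ Γ) (fst Γ Γ)
  simp only [Category.comp_id] at key
  refine ⟨?_⟩
  rw [← cancel_mono i, Category.assoc, IsMonHom.mul_hom i]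
  have e1 : (i ⊗ₘ i) ≫ μ[G] = (fst Γ Γ ≫ i) * (snd Γ Γ ≫ i) := by
    rw [Hom.mul_def, lift_fst_comp_snd_comp]
  rw [e1, MonObj.comp_mul, braiding_hom_fst_assoc, braiding_hom_snd_assoc, ← key]

end Groth.Agent.S5363
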