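import Groth.Statements.S5371
import Groth.Agent.CoverMap.Quot
import Groth.Agent.FppfSource.Scheme
import Groth.Agent.UnramPoint.Basic
import Groth.Agent.UnramPoint.Descend
import Groth.Agent.ThickLib.Basic
import Groth.Agent.S0079
import Mathlib

set_option autoImplicit false
universe u
open CategoryTheory CategoryTheory.Limits MonoidalCategory CartesianMonoidalCategory MonObj GrpObj AlgebraicGeometry
open SGA3

namespace Groth.Agent.S5371

/-- unramifiedness descends along flat surjective precomposition -/
theorem formallyUnramified_of_comp {X Y Z : Scheme.{u}} (f : X ⟶ Y) (g : Y ⟶ Z) [Flat f] [Surjective f]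
    [LocallyOfFiniteType g] [LocallyOfFiniteType (f ≫ g)] [FormallyUnramified (f ≫ g)] :
    FormallyUnramified g := by
  have hpt : ∀ y : Y, ∃ U : Y.Opens, y ∈ U ∧ FormallyUnramified (U.ι ≫ g) := by
    intro y
    obtain ⟨x, rfl⟩ := f.surjective y
    refine Groth.Agent.UnramPoint.exists_nhd_of_stalkMap g (f x) ?_
    have hcomp : ((f ≫ g).stalkMap x).hom = (f.stalkMap x).hom.comp (g.stalkMap (f x)).hom :=
      congrArg CommRingCat.Hom.hom (Scheme.Hom.stalkMap_comp f g x)
    refine Groth.Agent.UnramPoint.formallyUnramified_of_flat_comp _ (f.stalkMap x).hom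
      (Flat.stalkMap f x) (LocallyOfFiniteType.stalkMap g (f x)) ?_ ?_
    · rw [← hcomp]; exact LocallyOfFiniteType.stalkMap (f ≫ g) x
    · rw [← hcomp]; exact FormallyUnramified.stalkMap (f ≫ g) x
  choose U hU hUf using hpt
  exact (IsZariskiLocalAtSource.iff_of_openCover (P := @FormallyUnramified)
    (Y.openCoverOfIsOpenCover U (TopologicalSpace.IsOpenCover.mk (eq_top_iff.2 fun y _ =>
      TopologicalSpace.Opens.mem_iSup.2 ⟨y, hU y⟩)))).2 hUf

/-- local quasi-finiteness descends along open surjective precomposition -/
theorem lqf_of_comp {X Y Z : Scheme.{u}} (f : X ⟶ Y) (g : Y ⟶ Z) [UniversallyOpen f] [Surjective f]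
    [LocallyOfFiniteType g] [LocallyOfFiniteType (f ≫ g)] [LocallyQuasiFinite (f ≫ g)] :
    LocallyQuasiFinite g := by
  rw [locallyQuasiFinite_iff_isDiscrete_preimage_singleton]
  intro z
  have hd := (f ≫ g).isDiscrete_preimage_singleton z
  rw [isDiscrete_iff_forall_exists_isOpen] at hd ⊢
  intro y hy
  obtain ⟨x, rfl⟩ := f.surjective y
  have hx : x ∈ (f ≫ g) ⁻¹' {z} := hy
  obtain ⟨U, hU, hUx⟩ := hd x hx
  refine ⟨f '' U, f.isOpenMap U hU, ?_⟩
  ext y'
  constructor
  · rintro ⟨⟨x', hx', rfl⟩, hy'⟩
    have : x' ∈ U ∩ (f ≫ g) ⁻¹' {z} := ⟨hx', hy'⟩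
    rw [hUx] at this
    rw [Set.mem_singleton_iff.1 this]
    rfl
  · rintro rfl
    exact ⟨⟨x, (hUx.ge rfl).1, rfl⟩, hy⟩

/-- Let u : G' → G be a monomorphism of S-group schemes and p : G → G'' a morphism of S-schemes which is
covering for the fpqc topology (some Z → G'' which is flat, surjective, with every affine open of
G'' the image of a quasi-compact open of Z, factors through p) and such that the square (g, h) ↦
g·u(h), first projection G ×_S G' → G, p, p is cartesian, so that G'' represents the fpqc quotient
sheaf G/G'. (xii) G' is flat and locally of finite presentation over S if and only if p is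
surjective, flat and locally of finite presentation; in that case, if G is locally of finite
presentation (resp. locally of finite type, of finite type, smooth, etale, unramified, locally
quasi-finite) over S, so is G''. (xiii) If G' is flat and of finite presentation over S then p is of
finite presentation, and G is of finite presentation over S if and only if G'' is. -/
theorem result (S : Scheme.{u}) (G G' G'' : Over S) [GrpObj G] [GrpObj G']
    (u : G' ⟶ G) [IsMonHom u] [Mono u] (p : G ⟶ G'')
    (hcov : (∃ (Z : Scheme.{u}) (q : Z ⟶ G''.left) (r : Z ⟶ G.left), r ≫ p.left = q ∧ Surjective q ∧ Flat q ∧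
        ∀ V : G''.left.Opens, IsAffineOpen V → ∃ W : Z.Opens, IsCompact (W : Set Z) ∧ q.base '' (W : Set Z) = (V : Set G''.left)))
    (hsq : IsPullback ((G ◁ u) ≫ μ[G]) (fst G G') p p) :
    ((Flat G'.hom ∧ LocallyOfFinitePresentation G'.hom) ↔
      (Surjective p.left ∧ Flat p.left ∧ LocallyOfFinitePresentation p.left)) ∧
    (Flat p.left → LocallyOfFinitePresentation p.left →
      (LocallyOfFinitePresentation G.hom → LocallyOfFinitePresentation G''.hom) ∧
      (LocallyOfFiniteType G.hom → LocallyOfFiniteType G''.hom) ∧
      (LocallyOfFiniteType G.hom → QuasiCompact G.hom → QuasiCompact G''.hom) ∧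
      (Smooth G.hom → Smooth G''.hom) ∧ (Etale G.hom → Etale G''.hom) ∧
      (FormallyUnramified G.hom → LocallyOfFinitePresentation G.hom → FormallyUnramified G''.hom) ∧
      (LocallyQuasiFinite G.hom → LocallyOfFiniteType G.hom → LocallyQuasiFinite G''.hom)) ∧
    (Flat G'.hom → LocallyOfFinitePresentation G'.hom → QuasiCompact G'.hom → QuasiSeparated G'.hom →
      QuasiCompact p.left ∧ QuasiSeparated p.left ∧ LocallyOfFinitePresentation p.left ∧
      ((LocallyOfFinitePresentation G.hom ∧ QuasiCompact G.hom ∧ QuasiSeparated G.hom) ↔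
        (LocallyOfFinitePresentation G''.hom ∧ QuasiCompact G''.hom ∧ QuasiSeparated G''.hom))) := by
  have hc := Groth.Agent.CoverMap.covers_of_hcov hcov
  have hsq' := hsq.map (Over.forget S)
  have hfst : IsPullback (fst G G').left (snd G G').left G.hom G'.hom := IsPullback.of_hasPullback G.hom G'.hom
  have hu : IsPullback u.left G'.hom p.left (η[G] ≫ p).left := (Groth.Agent.CoverMap.isPullback_unit hsq).map (Over.forget S)
  have hflat := (Groth.Agent.CoverMap.flat_iff hsq hc).1
  refine ⟨⟨fun ⟨h1, h2⟩ => ⟨hc.surjective, hflat.1 h1, hc.descend @LocallyOfFinitePresentation hsq'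
      (MorphismProperty.of_isPullback (P := @LocallyOfFinitePresentation) hfst.flip h2)⟩,
    fun ⟨h1, h2, h3⟩ => ⟨hflat.2 h2, MorphismProperty.of_isPullback (P := @LocallyOfFinitePresentation) hu h3⟩⟩, ?_, ?_⟩
  · intro hf hp
    haveI := hc.surjective
    have hw : p.left ≫ G''.hom = G.hom := Over.w p
    refine ⟨fun h => ?_, fun h => ?_, fun h h' => ?_, fun h => ?_, fun h => ?_, fun h h' => ?_, fun h h' => ?_⟩
    · have : LocallyOfFinitePresentation (p.left ≫ G''.hom) := by rw [hw]; exact h
      exact Groth.Agent.FppfSource.lfp p.left G''.hom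
    · have : LocallyOfFiniteType (p.left ≫ G''.hom) := by rw [hw]; exact h
      exact Groth.Agent.FppfSource.lft p.left G''.hom
    · have : QuasiCompact (p.left ≫ G''.hom) := by rw [hw]; exact h'
      exact Groth.Agent.ThickLib.quasiCompact_of_comp_surjective p.left G''.hom
    · have : Smooth (p.left ≫ G''.hom) := by rw [hw]; exact h
      exact Groth.Agent.FppfSource.smooth p.left G''.hom
    · have : Etale (p.left ≫ G''.hom) := by rw [hw]; exact h
      exact Groth.Agent.FppfSource.etale p.left G''.hom
    · have : FormallyUnramified (p.left ≫ G''.hom) := by rw [hw]; exact h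
      have : LocallyOfFinitePresentation (p.left ≫ G''.hom) := by rw [hw]; exact h'
      have := Groth.Agent.FppfSource.lfp p.left G''.hom
      exact formallyUnramified_of_comp p.left G''.hom
    · have : LocallyQuasiFinite (p.left ≫ G''.hom) := by rw [hw]; exact h
      have : LocallyOfFiniteType (p.left ≫ G''.hom) := by rw [hw]; exact h'
      have := Groth.Agent.FppfSource.lft p.left G''.hom
      exact lqf_of_comp p.left G''.hom
  · intro h1 h2 h3 h4
    haveI := hc.surjective
    have hw : p.left ≫ G''.hom = G.hom := Over.w p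
    haveI hp1 : Flat p.left := hflat.1 h1
    haveI hp2 : LocallyOfFinitePresentation p.left := hc.descend @LocallyOfFinitePresentation hsq'
      (MorphismProperty.of_isPullback (P := @LocallyOfFinitePresentation) hfst.flip h2)
    haveI hp3 : QuasiCompact p.left := hc.descend @QuasiCompact hsq'
      (MorphismProperty.of_isPullback (P := @QuasiCompact) hfst.flip h3)
    haveI hp4 : QuasiSeparated p.left := hc.descend @QuasiSeparated hsq'
      (MorphismProperty.of_isPullback (P := @QuasiSeparated) hfst.flip h4)
    refine ⟨hp3, hp4, hp2, fun ⟨a1, a2, a3⟩ => ⟨?_, ?_, ?_⟩, fun ⟨a1, a2, a3⟩ => ?_⟩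
    · have : LocallyOfFinitePresentation (p.left ≫ G''.hom) := by rw [hw]; exact a1
      exact Groth.Agent.FppfSource.lfp p.left G''.hom
    · have : QuasiCompact (p.left ≫ G''.hom) := by rw [hw]; exact a2
      exact Groth.Agent.ThickLib.quasiCompact_of_comp_surjective p.left G''.hom
    · refine ⟨?_⟩
      have hdG : QuasiCompact (Limits.pullback.diagonal G.hom) := a3.1
      have hpp := (Groth.Agent.CoverMap.covers_tensor hc).surjective
      have hm : p ≫ lift (𝟙 G'') (𝟙 G'') = lift (𝟙 G) (𝟙 G) ≫ (p ⊗ₘ p) := by
        apply CartesianMonoidalCategory.hom_ext <;> simp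
      have : QuasiCompact (p ⊗ₘ p).left := by
        rw [MonoidalCategory.tensorHom_def, Over.comp_left]
        exact MorphismProperty.comp_mem _ _ _
          (MorphismProperty.of_isPullback (P := @QuasiCompact) ((Groth.Agent.Assoc.isPullback_whiskerRight p).flip).flip hp3)
          (MorphismProperty.of_isPullback (P := @QuasiCompact) ((Groth.Agent.Assoc.isPullback_whiskerLeft p).flip).flip hp3)
      have : QuasiCompact (p.left ≫ Limits.pullback.diagonal G''.hom) := by
        rw [← Groth.Agent.CoverMap.diag_left, ← Over.comp_left, hm, Over.comp_left, Groth.Agent.CoverMap.diag_left]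
        exact MorphismProperty.comp_mem _ _ _ hdG this
      exact Groth.Agent.ThickLib.quasiCompact_of_comp_surjective p.left (Limits.pullback.diagonal G''.hom)
    · rw [← hw]
      exact ⟨inferInstance, inferInstance, inferInstance⟩

end Groth.Agent.S5371
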