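import Groth.Statements.S5375
import Groth.Agent.Comod.Coeff
import Mathlib.RingTheory.Adjoin.FG

set_option autoImplicit false
universe u
open CategoryTheory CategoryTheory.Limits MonoidalCategory CartesianMonoidalCategory MonObj GrpObj AlgebraicGeometry
open SGA3

namespace Groth.Agent.S5375

open Groth.Agent.Comod
open scoped TensorProduct

/-- Let A be a commutative Hopf algebra over a field k (an affine k-group, not necessarily of finite
type) and x an element of A. Then there is a subalgebra B of A of finite type over k containing x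
which is a sub-Hopf-algebra: the comultiplication sends B into B ⊗ B and the antipode preserves B. -/
theorem result (k : Type u) [Field k] (A : Type u) [CommRing A] [HopfAlgebra k A] (x : A) :
    ∃ B : Subalgebra k A, x ∈ B ∧ B.FG ∧ SGA3.IsHopfSubalgebra k A B := by
  classical
  obtain ⟨n, M, hM, hmem⟩ := exists_corep_of_finset k ({x} : Finset A)
  let S := HopfAlgebra.antipodeAlgHom k A
  let N := M.map S
  let gens : Finset A := (Finset.univ.image fun p : Fin n × Fin n => M p.1 p.2) ∪
    (Finset.univ.image fun p : Fin n × Fin n => N p.1 p.2)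
  let B := Algebra.adjoin k (gens : Set A)
  have hMB : ∀ i j, M i j ∈ B := fun i j => Algebra.subset_adjoin (by
    show M i j ∈ gens
    exact Finset.mem_union_left _ (Finset.mem_image.mpr ⟨(i, j), Finset.mem_univ _, rfl⟩))
  have hNB : ∀ i j, N i j ∈ B := fun i j => Algebra.subset_adjoin (by
    show N i j ∈ gens
    exact Finset.mem_union_right _ (Finset.mem_image.mpr ⟨(i, j), Finset.mem_univ _, rfl⟩))
  let ι₁ : A →ₐ[k] A ⊗[k] A := Algebra.TensorProduct.includeLeft
  let ι₂ : A →ₐ[k] A ⊗[k] A := Algebra.TensorProduct.includeRight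
  have hι : ∀ f : A →ₐ[k] A ⊗[k] A, ∀ {X Y : Matrix (Fin n) (Fin n) A}, X * Y = 1 →
      X.map f * Y.map f = 1 := fun f X Y h => by
    rw [← Matrix.map_mul, h, Matrix.map_one _ (map_zero _) (map_one _)]
  have hΔN : N.map (Bialgebra.comulAlgHom k A) = N.map ι₂ * N.map ι₁ := by
    refine left_inv_eq_right_inv (hι _ hM.antipode_mul) ?_
    rw [hM.map_comul, Matrix.mul_assoc, ← Matrix.mul_assoc (M.map ι₂), hι ι₂ hM.mul_antipode,
      Matrix.one_mul, hι ι₁ hM.mul_antipode]
  have hSN : N.map S = M := by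
    refine left_inv_eq_right_inv (a := N) ?_ hM.antipode_mul
    show (M.map S).map S * M.map S = 1
    rw [← Matrix.map_mul, hM.antipode_mul, Matrix.map_one _ (map_zero _) (map_one _)]
  let R := (Algebra.TensorProduct.map B.val B.val).range
  have hR : ∀ (a b : A), a ∈ B → b ∈ B → a ⊗ₜ[k] b ∈ R := fun a b ha hb =>
    ⟨(⟨a, ha⟩ : B) ⊗ₜ (⟨b, hb⟩ : B), rfl⟩
  have hgen : ∀ g ∈ gens, Bialgebra.comulAlgHom k A g ∈ R ∧ S g ∈ B := by
    intro g hg
    rcases Finset.mem_union.mp hg with h | h <;> obtain ⟨⟨i, j⟩, -, rfl⟩ := Finset.mem_image.mp h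
    · refine ⟨?_, hNB i j⟩
      rw [show Bialgebra.comulAlgHom k A (M i j) = _ from congrFun (congrFun hM.map_comul i) j, Matrix.mul_apply]
      refine R.sum_mem fun l _ => R.mul_mem (hR _ _ (hMB i l) B.one_mem) (hR _ _ B.one_mem (hMB l j))
    · refine ⟨?_, by rw [show S (N i j) = M i j from congrFun (congrFun hSN i) j]; exact hMB i j⟩
      rw [show Bialgebra.comulAlgHom k A (N i j) = _ from congrFun (congrFun hΔN i) j, Matrix.mul_apply]
      refine R.sum_mem fun l _ => R.mul_mem (hR _ _ B.one_mem (hNB i l)) (hR _ _ (hNB l j) B.one_mem)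
  refine ⟨B, ?_, ⟨gens, rfl⟩, fun b hb => ?_, fun b hb => ?_⟩
  · refine (?_ : Submodule.span k (Set.range fun p : Fin n × Fin n => M p.1 p.2) ≤ B.toSubmodule)
      (hmem x (Finset.mem_singleton_self x))
    rw [Submodule.span_le]
    rintro _ ⟨p, rfl⟩
    exact hMB p.1 p.2
  · obtain ⟨t, ht⟩ := (Algebra.adjoin_le (S := R.comap (Bialgebra.comulAlgHom k A)) fun g hg => (hgen g hg).1) hb
    exact ⟨t, ht⟩
  · exact (Algebra.adjoin_le (S := B.comap S) fun g hg => (hgen g hg).2) hb

end Groth.Agent.S5375
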