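import Groth.Statements.S5376


set_option autoImplicit false
universe u
open CategoryTheory CategoryTheory.Limits MonoidalCategory CartesianMonoidalCategory MonObj GrpObj AlgebraicGeometry
open SGA3

namespace Groth.Agent.S5376

open TensorProduct in
theorem act_counit {k A V : Type*} [Field k] [CommRing A] [HopfAlgebra k A] [AddCommGroup V] [Module k V]
    [HopfRep.Comod k A V] (v : V) :
    HopfRep.Comod.act k A V (Bialgebra.counitAlgHom k A) v = v := by
  have h := LinearMap.congr_fun (HopfRep.Comod.counit_comp (k := k) (A := A) (V := V)) v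
  simp only [LinearMap.comp_apply, LinearMap.flip_apply, TensorProduct.mk_apply] at h
  show TensorProduct.rid k V ((CoalgebraStruct.counit (R := k) (A := A)).lTensor V
    (HopfRep.Comod.coact (k := k) (A := A) v)) = v
  rw [h, TensorProduct.rid_tmul, one_smul]

open TensorProduct in
theorem act_mul {k A V : Type*} [Field k] [CommRing A] [HopfAlgebra k A] [AddCommGroup V] [Module k V]
    [HopfRep.Comod k A V] (g h : A →ₐ[k] k) (v : V) :
    HopfRep.Comod.act k A V g (HopfRep.Comod.act k A V h v) =
      HopfRep.Comod.act k A V ((Algebra.TensorProduct.lift g h fun _ _ => Commute.all _ _).comp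
        (Bialgebra.comulAlgHom k A)) v := by
  have hc := LinearMap.congr_fun (HopfRep.Comod.coassoc (k := k) (A := A) (V := V)) v
  let GH : A ⊗[k] A →ₗ[k] k := (Algebra.TensorProduct.lift g h fun _ _ => Commute.all _ _).toLinearMap
  have h1 : ((TensorProduct.rid k V).toLinearMap ∘ₗ LinearMap.lTensor V g.toLinearMap ∘ₗ
      HopfRep.Comod.coact (k := k) (A := A)) ∘ₗ ((TensorProduct.rid k V).toLinearMap ∘ₗ
        LinearMap.lTensor V h.toLinearMap) =
      ((TensorProduct.rid k V).toLinearMap ∘ₗ LinearMap.lTensor V GH) ∘ₗ
        (TensorProduct.assoc k V A A).toLinearMap ∘ₗ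
          LinearMap.rTensor A (HopfRep.Comod.coact (k := k) (A := A)) := by
    refine TensorProduct.ext' fun w a => ?_
    simp only [LinearMap.comp_apply, LinearMap.lTensor_tmul, LinearEquiv.coe_coe,
      TensorProduct.rid_tmul, LinearMap.rTensor_tmul, map_smul]
    induction HopfRep.Comod.coact (k := k) (A := A) w using TensorProduct.induction_on with
    | zero => simp
    | tmul x b =>
      simp [GH, smul_smul, mul_comm]
    | add x y hx hy => simp only [map_add, TensorProduct.add_tmul, smul_add, hx, hy]
  have h2 := LinearMap.congr_fun h1 (HopfRep.Comod.coact (k := k) (A := A) v)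
  simp only [LinearMap.comp_apply, LinearEquiv.coe_coe] at h2 hc
  rw [hc, ← LinearMap.lTensor_comp_apply] at h2
  exact h2

open TensorProduct in
theorem mem_range_of_forall {k A V : Type*} [Field k] [IsAlgClosed k] [CommRing A] [Algebra k A]
    [Algebra.FiniteType k A] [IsReduced A] [AddCommGroup V] [Module k V] (E : Submodule k V)
    (x : V ⊗[k] A)
    (h : ∀ g : A →ₐ[k] k, TensorProduct.rid k V (g.toLinearMap.lTensor V x) ∈ E) :
    x ∈ LinearMap.range (E.subtype.rTensor A) := by
  have hex : Function.Exact (E.subtype.rTensor A) (E.mkQ.rTensor A) :=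
    rTensor_exact A (LinearMap.exact_subtype_mkQ E) (Submodule.mkQ_surjective E)
  refine LinearMap.mem_range.2 ((hex x).1 ?_)
  let b := Module.Free.chooseBasis k (V ⧸ E)
  apply (TensorProduct.equivFinsuppOfBasisLeft b).injective
  rw [map_zero]
  refine Finsupp.ext fun i => ?_
  rw [Finsupp.zero_apply]
  have key : ∀ (g : A →ₐ[k] k) (z : (V ⧸ E) ⊗[k] A),
      g (TensorProduct.equivFinsuppOfBasisLeft b z i) =
        b.repr (TensorProduct.rid k (V ⧸ E) (g.toLinearMap.lTensor (V ⧸ E) z)) i := by
    intro g z
    induction z using TensorProduct.induction_on with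
    | zero => simp
    | tmul w a =>
      simp [TensorProduct.equivFinsuppOfBasisLeft_apply_tmul, mul_comm]
    | add z w hz hw => simp only [map_add, Finsupp.add_apply, hz, hw]
  have hall : ∀ g : A →ₐ[k] k, g (TensorProduct.equivFinsuppOfBasisLeft b (E.mkQ.rTensor A x) i) = 0 := by
    intro g
    rw [key]
    have : ∀ z : V ⊗[k] A,
        TensorProduct.rid k (V ⧸ E) (g.toLinearMap.lTensor (V ⧸ E) (E.mkQ.rTensor A z)) =
        E.mkQ (TensorProduct.rid k V (g.toLinearMap.lTensor V z)) := by
      intro z
      induction z using TensorProduct.induction_on with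
      | zero => simp
      | tmul w a => simp
      | add z w hz hw => simp only [map_add, hz, hw]
    rw [this]
    have h0 : E.mkQ (TensorProduct.rid k V (g.toLinearMap.lTensor V x)) = 0 := by
      simpa using h g
    rw [h0, map_zero, Finsupp.zero_apply]
  haveI : IsJacobsonRing A := isJacobsonRing_of_finiteType (A := k)
  have hnil : IsNilpotent (TensorProduct.equivFinsuppOfBasisLeft b (E.mkQ.rTensor A x) i) := by
    rw [← mem_nilradical, nilradical, Ideal.radical_eq_jacobson, Ideal.jacobson, Ideal.mem_sInf]
    rintro m ⟨-, hm⟩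
    haveI := hm
    letI : Field (A ⧸ m) := Ideal.Quotient.field m
    haveI : Module.Finite k (A ⧸ m) := finite_of_finite_type_of_isJacobsonRing k (A ⧸ m)
    haveI : Algebra.IsIntegral k (A ⧸ m) := inferInstance
    let e : k ≃ₐ[k] (A ⧸ m) := AlgEquiv.ofBijective (Algebra.ofId k (A ⧸ m))
      (IsAlgClosed.algebraMap_bijective_of_isIntegral (k := k) (K := A ⧸ m))
    have := hall (e.symm.toAlgHom.comp (Ideal.Quotient.mkₐ k m))
    simp only [AlgHom.comp_apply, Ideal.Quotient.mkₐ_eq_mk, AlgEquiv.coe_algHom,
      EmbeddingLike.map_eq_zero_iff] at this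
    exact Ideal.Quotient.eq_zero_iff_mem.1 this
  exact hnil.eq_zero

/-- Let k be an algebraically closed field, A a finitely generated commutative Hopf algebra over k which
is reduced (a reduced affine algebraic k-group G), V a finite-dimensional A-comodule and v a vector
of V. Let E be the k-subspace of V spanned by the vectors g·v for g running over the k-points of G
(algebra maps A → k). Then E is a subcomodule of V containing v, and it is the smallest one. -/
theorem result (k : Type u) [Field k] [IsAlgClosed k] (A : Type u) [CommRing A] [HopfAlgebra k A]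
    [Algebra.FiniteType k A] [IsReduced A] (V : Type u) [AddCommGroup V] [Module k V] [HopfRep.Comod k A V]
    [Module.Finite k V] (v : V) :
    letI E : Submodule k V := Submodule.span k (Set.range fun g : A →ₐ[k] k => HopfRep.Comod.act k A V g v)
    HopfRep.IsSubcomod (k := k) (A := A) E ∧ v ∈ E ∧
      ∀ W : Submodule k V, HopfRep.IsSubcomod (k := k) (A := A) W → v ∈ W → E ≤ W := by
  refine ⟨?_, ?_, ?_⟩
  · intro w hw
    refine mem_range_of_forall _ _ fun g => ?_
    show HopfRep.Comod.act k A V g w ∈ _
    induction hw using Submodule.span_induction with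
    | mem x hx =>
      obtain ⟨h, rfl⟩ := hx
      exact Submodule.subset_span ⟨_, (act_mul g h v).symm⟩
    | zero => rw [map_zero]; exact zero_mem _
    | add x y _ _ hx hy => rw [map_add]; exact add_mem hx hy
    | smul c x _ hx => rw [map_smul]; exact Submodule.smul_mem _ c hx
  · exact Submodule.subset_span ⟨Bialgebra.counitAlgHom k A, act_counit v⟩
  · intro W hW hv
    rw [Submodule.span_le]
    rintro _ ⟨g, rfl⟩
    obtain ⟨y, hy⟩ := LinearMap.mem_range.1 (hW v hv)
    show TensorProduct.rid k V (g.toLinearMap.lTensor V (HopfRep.Comod.coact (k := k) (A := A) v)) ∈ W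
    rw [← hy]
    clear hy
    induction y using TensorProduct.induction_on with
    | zero => simp
    | tmul w a => simpa using W.smul_mem _ w.2
    | add z w hz hw => simp only [map_add]; exact add_mem hz hw

end Groth.Agent.S5376
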