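import Groth.Statements.S5377
import Mathlib.RingTheory.RingHom.FaithfullyFlat
import Mathlib.RingTheory.Flat.EquationalCriterion
import Mathlib.Algebra.Category.Ring.FilteredColimits
import Mathlib.CategoryTheory.Limits.ConcreteCategory.Basic

set_option autoImplicit false
universe u
open CategoryTheory CategoryTheory.Limits MonoidalCategory CartesianMonoidalCategory MonObj GrpObj AlgebraicGeometry
open SGA3

namespace Groth.Agent.S5377

/-- Let (C_i → A_i)_i be a filtered direct system of homomorphisms of commutative rings, each of which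
is faithfully flat. Then the induced homomorphism colim C_i → colim A_i is faithfully flat. -/
theorem result (J : Type u) [SmallCategory J] [IsFiltered J]
    (C A : J ⥤ CommRingCat.{u}) (φ : C ⟶ A) (h : ∀ j : J, (φ.app j).hom.FaithfullyFlat) :
    (colimMap φ).hom.FaithfullyFlat := by
  classical
  letI := (colimMap φ).hom.toAlgebra
  change Module.FaithfullyFlat (colimit C : CommRingCat) (colimit A : CommRingCat)
  have hι : ∀ (F : J ⥤ CommRingCat.{u}) {i j : J} (f : i ⟶ j) (x : F.obj i),
      (colimit.ι F j).hom ((F.map f).hom x) = (colimit.ι F i).hom x := fun F i j f x =>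
    congrArg (fun k => k.hom x) (colimit.w F f)
  have hφ : ∀ {i j : J} (f : i ⟶ j) (x : C.obj i),
      (A.map f).hom ((φ.app i).hom x) = (φ.app j).hom ((C.map f).hom x) := fun {i j} f x =>
    (congrArg (fun k => k.hom x) (φ.naturality f)).symm
  have halg : ∀ (j : J) (x : C.obj j),
      algebraMap (colimit C : CommRingCat) (colimit A : CommRingCat) ((colimit.ι C j).hom x) =
        (colimit.ι A j).hom ((φ.app j).hom x) := fun j x =>
    congrArg (fun k => k.hom x) (ι_colimMap φ j)
  -- finitely many elements of both colimits come from one stage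
  have hstage : ∀ {n : ℕ} (c : Fin n → (colimit C : CommRingCat)) (a : Fin n → (colimit A : CommRingCat)),
      ∃ (j : J) (c' : Fin n → C.obj j) (a' : Fin n → A.obj j),
        (∀ i, (colimit.ι C j).hom (c' i) = c i) ∧ ∀ i, (colimit.ι A j).hom (a' i) = a i := by
    intro n c a
    choose jc c₀ hc using fun i => Concrete.colimit_exists_rep C (c i)
    choose ja a₀ ha using fun i => Concrete.colimit_exists_rep A (a i)
    obtain ⟨j, hj⟩ := IsFiltered.sup_objs_exists (Finset.univ.image jc ∪ Finset.univ.image ja)
    have fc : ∀ i, jc i ⟶ j := fun i => (hj (by simp)).some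
    have fa : ∀ i, ja i ⟶ j := fun i => (hj (by simp)).some
    exact ⟨j, fun i => (C.map (fc i)).hom (c₀ i), fun i => (A.map (fa i)).hom (a₀ i),
      fun i => (hι C _ _).trans (hc i), fun i => (hι A _ _).trans (ha i)⟩
  rw [Module.FaithfullyFlat.iff_flat_and_ideal_smul_eq_top]
  refine ⟨Module.Flat.iff_forall_isTrivialRelation.2 fun {l} {f} {x} hfx => ?_, fun I hI => ?_⟩
  · obtain ⟨j, c, a, hc, ha⟩ := hstage f x
    have h0 : (colimit.ι A j).hom (∑ i, (φ.app j).hom (c i) * a i) = (colimit.ι A j).hom 0 := by
      rw [map_zero, map_sum, ← hfx]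
      exact Finset.sum_congr rfl fun i _ => by rw [map_mul, ← halg, hc, ha, Algebra.smul_def]
    obtain ⟨k, p, q, hk⟩ := Concrete.colimit_exists_of_rep_eq A _ _ h0
    letI := (φ.app k).hom.toAlgebra
    haveI : Module.FaithfullyFlat (C.obj k) (A.obj k) := h k
    have hrel : ∑ i, (C.map p).hom (c i) • (A.map p).hom (a i) = 0 := by
      have : (A.map p).hom (∑ i, (φ.app j).hom (c i) * a i) = (A.map q).hom 0 := hk
      rw [map_zero, map_sum] at this
      rw [← this]
      exact Finset.sum_congr rfl fun i _ => by
        rw [map_mul, hφ, Algebra.smul_def, RingHom.algebraMap_toAlgebra]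
    obtain ⟨m, r, y, hy, hr⟩ := Module.Flat.isTrivialRelation_of_sum_smul_eq_zero hrel
    refine ⟨m, fun i s => (colimit.ι C k).hom (r i s), fun s => (colimit.ι A k).hom (y s),
      fun i => ?_, fun s => ?_⟩
    · rw [← ha i, ← hι A p, show (A.map p).hom (a i) = _ from hy i, map_sum]
      dsimp only
      exact Finset.sum_congr rfl fun s _ => by
        rw [Algebra.smul_def, Algebra.smul_def, halg, map_mul, RingHom.algebraMap_toAlgebra]
    · have := congrArg (colimit.ι C k).hom (hr s)
      rw [map_sum, map_zero] at this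
      rw [← this]
      exact Finset.sum_congr rfl fun i _ => by rw [map_mul, ← hc i, hι C p]
  · rw [Ideal.smul_top_eq_map, Submodule.restrictScalars_eq_top_iff, Ideal.eq_top_iff_one,
      Ideal.map, Submodule.mem_span_image_iff_exists_fun] at hI
    obtain ⟨t, ht, w, hw⟩ := hI
    let e := t.equivFin.symm
    obtain ⟨j, c, a, hc, ha⟩ := hstage (fun i => (e i : (colimit C : CommRingCat))) (fun i => w (e i))
    have h1 : (colimit.ι A j).hom (∑ i, a i * (φ.app j).hom (c i)) = (colimit.ι A j).hom 1 := by
      rw [map_one, map_sum, ← hw, ← e.sum_comp]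
      exact Finset.sum_congr rfl fun i _ => by rw [map_mul, ha, ← halg, hc, smul_eq_mul]
    obtain ⟨k, p, q, hk⟩ := Concrete.colimit_exists_of_rep_eq A _ _ h1
    letI := (φ.app k).hom.toAlgebra
    haveI hk' : Module.FaithfullyFlat (C.obj k) (A.obj k) := h k
    have hmem : ∀ i, (C.map p).hom (c i) ∈ I.comap (colimit.ι C k).hom := fun i => by
      rw [Ideal.mem_comap, hι C p, hc]
      exact ht (e i).2
    have htop : I.comap (colimit.ι C k).hom • (⊤ : Submodule (C.obj k) (A.obj k)) = ⊤ := by
      rw [Ideal.smul_top_eq_map, Submodule.restrictScalars_eq_top_iff, Ideal.eq_top_iff_one]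
      have : (A.map p).hom (∑ i, a i * (φ.app j).hom (c i)) = (A.map q).hom 1 := hk
      rw [map_one, map_sum] at this
      rw [← this]
      exact sum_mem fun i _ => by
        rw [map_mul, hφ]
        exact Ideal.mul_mem_left _ _ (Ideal.mem_map_of_mem _ (hmem i))
    have := ((Module.FaithfullyFlat.iff_flat_and_ideal_smul_eq_top _ _).1 hk').2 _ htop
    rwa [Ideal.comap_eq_top_iff] at this

end Groth.Agent.S5377
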