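import Groth.Statements.S5380
-- import your own Groth.Agent.* helpers here
import Mathlib

set_option autoImplicit false
universe u
open CategoryTheory CategoryTheory.Limits MonoidalCategory CartesianMonoidalCategory MonObj GrpObj AlgebraicGeometry
open SGA3

namespace Groth.Agent.S5380

theorem smul_regular_tensor {A : Type u} [CommRing A] (a : A) {M : Type u} [AddCommGroup M] [Module A M]
    [Module.Flat (A ⧸ Ideal.span {a}) (TensorProduct A (A ⧸ Ideal.span {a}) M)]
    {F P : Type u} [AddCommGroup F] [Module A F] [AddCommGroup P] [Module A P]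
    (q : F →ₗ[A] P) (hq : Function.Surjective q) (hP : ∀ z : P, a • z = 0 → z = 0)
    (hF : ∀ z : TensorProduct A F M, a • z = 0 → z = 0) :
    ∀ x : TensorProduct A P M, a • x = 0 → x = 0 := by
  intro x hx
  let J : Ideal A := Ideal.span {a}
  let inc : LinearMap.ker q →ₗ[A] F := (LinearMap.ker q).subtype
  have hexq : Function.Exact inc q := LinearMap.exact_subtype_ker_map q
  have hex := _root_.rTensor_exact M hexq hq
  obtain ⟨y, rfl⟩ := LinearMap.rTensor_surjective M hq x
  rw [← map_smul] at hx
  obtain ⟨s, hs⟩ := (hex (a • y)).mp hx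
  have hrange : ∀ (N : Type u) [AddCommGroup N] [Module A N],
      (J • ⊤ : Submodule A N) = LinearMap.range (a • (LinearMap.id : N →ₗ[A] N)) := by
    intro N _ _
    ext z
    rw [Submodule.ideal_span_singleton_smul, Submodule.mem_smul_pointwise_iff_exists]
    constructor
    · rintro ⟨w, -, rfl⟩; exact ⟨w, rfl⟩
    · rintro ⟨w, rfl⟩; exact ⟨w, trivial, rfl⟩
  let fbar : (LinearMap.ker q ⧸ (J • ⊤ : Submodule A (LinearMap.ker q))) →ₗ[A]
      (F ⧸ (J • ⊤ : Submodule A F)) :=
    Submodule.mapQ _ _ inc (by
      rw [← Submodule.map_le_iff_le_comap, Submodule.map_smul'']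
      exact Submodule.smul_mono le_rfl le_top)
  have hfinj : Function.Injective fbar := by
    rw [← LinearMap.ker_eq_bot, eq_bot_iff]
    intro z hz
    obtain ⟨w, rfl⟩ := Submodule.Quotient.mk_surjective _ z
    rw [LinearMap.mem_ker, Submodule.mapQ_apply, Submodule.Quotient.mk_eq_zero, hrange] at hz
    obtain ⟨v, hv⟩ := hz
    have hv' : a • v = (w : F) := hv
    have hqv : v ∈ LinearMap.ker q := by
      have h0 : a • q v = 0 := by rw [← map_smul, hv']; exact w.2
      exact hP _ h0
    rw [Submodule.mem_bot, Submodule.Quotient.mk_eq_zero, hrange]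
    exact ⟨⟨v, hqv⟩, Subtype.ext hv'⟩
  let fJ := fbar.extendScalarsOfSurjective (S := A ⧸ J) Ideal.Quotient.mk_surjective
  have hfT : Function.Injective (fbar.rTensor M) := by
    let eS := TensorProduct.AlgebraTensorModule.cancelBaseChange A (A ⧸ J) (A ⧸ J)
      (LinearMap.ker q ⧸ (J • ⊤ : Submodule A (LinearMap.ker q))) M
    let eF := TensorProduct.AlgebraTensorModule.cancelBaseChange A (A ⧸ J) (A ⧸ J)
      (F ⧸ (J • ⊤ : Submodule A F)) M
    have hin : Function.Injective (fJ.rTensor (TensorProduct A (A ⧸ J) M)) :=
      Module.Flat.rTensor_preserves_injective_linearMap fJ hfinj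
    have hc : ∀ z, eF.symm (fbar.rTensor M z) = fJ.rTensor (TensorProduct A (A ⧸ J) M) (eS.symm z) := by
      intro z
      induction z using TensorProduct.induction_on with
      | zero => simp
      | tmul u m => rfl
      | add u v hu hv => simp only [map_add, hu, hv]
    intro z z' h
    refine eS.symm.injective (hin ?_)
    rw [← hc, ← hc, h]
  have hs0 : ((J • ⊤ : Submodule A (LinearMap.ker q)).mkQ).rTensor M s = 0 := by
    refine hfT ?_
    rw [map_zero, ← LinearMap.rTensor_comp_apply]
    have : fbar ∘ₗ (J • ⊤ : Submodule A (LinearMap.ker q)).mkQ = (J • ⊤ : Submodule A F).mkQ ∘ₗ inc := rfl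
    rw [this, LinearMap.rTensor_comp_apply, hs, map_smul, ← LinearMap.smul_apply, ← LinearMap.rTensor_smul]
    have : (a • (J • ⊤ : Submodule A F).mkQ) = 0 := LinearMap.ext fun w => by
      rw [LinearMap.smul_apply, LinearMap.zero_apply, Submodule.mkQ_apply, ← Submodule.Quotient.mk_smul,
        Submodule.Quotient.mk_eq_zero]
      exact Submodule.smul_mem_smul (Ideal.mem_span_singleton_self a) trivial
    rw [this, LinearMap.rTensor_zero, LinearMap.zero_apply]
  have hexS : Function.Exact (a • (LinearMap.id : LinearMap.ker q →ₗ[A] LinearMap.ker q))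
      ((J • ⊤ : Submodule A (LinearMap.ker q)).mkQ) :=
    LinearMap.exact_iff.mpr (by rw [Submodule.ker_mkQ, hrange])
  obtain ⟨s', hs'⟩ := ((_root_.rTensor_exact M hexS (Submodule.mkQ_surjective _)) s).mp hs0
  rw [LinearMap.rTensor_smul, LinearMap.smul_apply, LinearMap.rTensor_id_apply] at hs'
  have hy : y = inc.rTensor M s' := by
    rw [← sub_eq_zero]
    refine hF _ ?_
    rw [smul_sub, ← map_smul, hs', hs, sub_self]
  rw [hy]
  exact (hex _).mpr ⟨s', rfl⟩

/-- Let R be a discrete valuation ring with uniformizer π, A a flat commutative R-algebra and M an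
A-module which is flat over R. Suppose that M/πM is a flat module over A/πA and that M ⊗_R K is a
flat module over A ⊗_R K, K the fraction field of R (equivalently, M[1/π] is flat over A[1/π], the
form used here). Then M is a flat A-module. -/
theorem result (R : Type u) [CommRing R] [IsDomain R] [IsDiscreteValuationRing R]
    (π : R) (hπ : Irreducible π) (A : Type u) [CommRing A] [Algebra R A] [Module.Flat R A]
    (M : Type u) [AddCommGroup M] [Module A M] [Module R M] [IsScalarTower R A M] [Module.Flat R M]
    (h1 : Module.Flat (A ⧸ Ideal.span {algebraMap R A π}) (M ⧸ (Ideal.span {algebraMap R A π} • (⊤ : Submodule A M))))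
    (h2 : Module.Flat (Localization.Away (algebraMap R A π)) (LocalizedModule (Submonoid.powers (algebraMap R A π)) M)) :
    Module.Flat A M := by
  classical
  let a : A := algebraMap R A π
  let J : Ideal A := Ideal.span {a}
  have haM : ∀ m : M, a • m = 0 → m = 0 := fun m hm => by
    have : π • m = 0 := by rw [← algebraMap_smul A π m]; exact hm
    exact (Module.Flat.isSMulRegular_of_nonZeroDivisors (R := R) (M := M)
      (mem_nonZeroDivisors_of_ne_zero hπ.ne_zero)).right_eq_zero_of_smul this
  have haA : ∀ b : A, a * b = 0 → b = 0 := fun b hb => by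
    have : π • b = 0 := by rw [Algebra.smul_def]; exact hb
    exact (Module.Flat.isSMulRegular_of_nonZeroDivisors (R := R) (M := A)
      (mem_nonZeroDivisors_of_ne_zero hπ.ne_zero)).right_eq_zero_of_smul this
  haveI : Module.Flat (A ⧸ J) (TensorProduct A (A ⧸ J) M) :=
    Module.Flat.of_linearEquiv (R := A ⧸ J)
      ((TensorProduct.quotTensorEquivQuotSMul M J).extendScalarsOfSurjective
        (S := A ⧸ J) Ideal.Quotient.mk_surjective)
  have hreg : ∀ (I : Ideal A) (x : TensorProduct A I M), a • x = 0 → x = 0 := by
    intro I
    refine smul_regular_tensor a (Finsupp.linearCombination A (id : I → I))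
      (Finsupp.linearCombination_surjective A Function.surjective_id)
      (fun z hz => Subtype.ext (haA _ (congrArg Subtype.val hz))) fun z hz => ?_
    let e := TensorProduct.finsuppScalarLeft A M I
    have h1 : a • e z = 0 := by rw [← map_smul, hz, map_zero]
    refine e.injective ((Finsupp.ext fun i => haM _ ?_).trans (map_zero e).symm)
    exact DFunLike.congr_fun h1 i
  rw [Module.Flat.iff_rTensor_injective']
  intro I
  rw [← LinearMap.ker_eq_bot, eq_bot_iff]
  intro x hx
  haveI : Module.Flat (Localization.Away a) (LocalizedModule (Submonoid.powers a) M) := h2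
  haveI : Module.Flat A (Localization.Away a) := IsLocalization.flat _ (Submonoid.powers a)
  haveI : Module.Flat A (LocalizedModule (Submonoid.powers a) M) :=
    Module.Flat.trans A (Localization.Away a) _
  let g := LocalizedModule.mkLinearMap (Submonoid.powers a) M
  have hx' : g.lTensor I x = 0 := by
    refine (Module.Flat.rTensor_preserves_injective_linearMap
      (M := LocalizedModule (Submonoid.powers a) M) I.subtype Subtype.val_injective) ?_
    have hc : ∀ z, I.subtype.rTensor _ (g.lTensor I z) = g.lTensor A (I.subtype.rTensor M z) := by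
      intro z
      induction z using TensorProduct.induction_on with
      | zero => simp
      | tmul u m => rfl
      | add u v hu hv => simp only [map_add, hu, hv]
    rw [map_zero, hc, LinearMap.mem_ker.mp hx, map_zero]
  have hx'' : TensorProduct.AlgebraTensorModule.rTensor A I g ((TensorProduct.comm A I M) x) = 0 := by
    have hc : ∀ z, TensorProduct.AlgebraTensorModule.rTensor A I g ((TensorProduct.comm A I M) z) =
        TensorProduct.comm A I _ (g.lTensor I z) := by
      intro z
      induction z using TensorProduct.induction_on with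
      | zero => simp
      | tmul u m => rfl
      | add u v hu hv => simp only [map_add, hu, hv]
    rw [hc, hx', map_zero]
  obtain ⟨⟨_, n, rfl⟩, hn⟩ :=
    (IsLocalizedModule.eq_zero_iff (Submonoid.powers a) (TensorProduct.AlgebraTensorModule.rTensor A I g)).mp hx''
  have hn' : a ^ n • x = 0 := by
    refine (TensorProduct.comm A I M).injective ?_
    rw [map_smul, map_zero]
    exact hn
  clear hx hx' hx'' hn
  rw [Submodule.mem_bot]
  induction n generalizing x with
  | zero => simpa using hn'
  | succ n ih => exact hreg I x (ih (by rw [← mul_smul, ← pow_succ]; exact hn'))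

end Groth.Agent.S5380
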