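import Groth.Statements.S5381
import Mathlib

set_option autoImplicit false
universe u
open CategoryTheory CategoryTheory.Limits MonoidalCategory CartesianMonoidalCategory MonObj GrpObj AlgebraicGeometry
open SGA3

namespace Groth.Agent.S5381

/-- For S the spectrum of a Dedekind domain R: let X be a scheme which is flat, quasi-compact and
quasi-separated over R. Then the ring of global sections Γ(X, O_X) is a flat R-module. (The
published remark takes S locally noetherian and regular of dimension 1 and also observes, when S is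
local with closed point s and uniformizer π, that Γ(X, O_X)/πΓ(X, O_X) → Γ(X_s, O_{X_s}) is
injective; this row takes S the spectrum of a Dedekind domain and omits the injectivity.) -/
theorem result (R : Type u) [CommRing R] [IsDedekindDomain R]
    (X : Scheme.{u}) (f : X ⟶ Spec (CommRingCat.of R)) [Flat f] [QuasiCompact f] [QuasiSeparated f] :
    letI := ((Scheme.ΓSpecIso (CommRingCat.of R)).inv ≫ f.appTop).hom.toAlgebra
    Module.Flat R Γ(X, ⊤) := by
  letI := ((Scheme.ΓSpecIso (CommRingCat.of R)).inv ≫ f.appTop).hom.toAlgebra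
  rw [IsDedekindDomain.flat_iff_torsion_eq_bot, Submodule.eq_bot_iff]
  rintro s ⟨⟨r, hr⟩, hrs⟩
  haveI : IsAffine (Spec (CommRingCat.of R)) := inferInstance
  refine X.IsSheaf.section_ext fun x _ => ?_
  obtain ⟨_, ⟨V, hV, rfl⟩, hxV, -⟩ :=
    X.isBasis_affineOpens.exists_subset_of_mem_open (Set.mem_univ x) isOpen_univ
  refine ⟨V, le_top, hxV, ?_⟩
  rw [map_zero]
  have hflat : RingHom.Flat ((Scheme.ΓSpecIso (CommRingCat.of R)).inv ≫ f.appLE ⊤ V (by simp)).hom := by
    refine RingHom.Flat.comp ?_ (f.flat_appLE (isAffineOpen_top _) hV _)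
    exact RingHom.Flat.of_bijective
      (ConcreteCategory.bijective_of_isIso (Scheme.ΓSpecIso (CommRingCat.of R)).inv)
  letI := ((Scheme.ΓSpecIso (CommRingCat.of R)).inv ≫ f.appLE ⊤ V (by simp)).hom.toAlgebra
  haveI : Module.Flat R Γ(X, V) := hflat
  have hreg := Module.Flat.isSMulRegular_of_nonZeroDivisors (M := Γ(X, V)) hr
  refine hreg ?_
  have hcomp : (X.presheaf.map (homOfLE (le_top : V ≤ ⊤)).op).hom
      (((Scheme.ΓSpecIso (CommRingCat.of R)).inv ≫ f.appTop).hom r) =
        ((Scheme.ΓSpecIso (CommRingCat.of R)).inv ≫ f.appLE ⊤ V (by simp)).hom r := by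
    rw [← CommRingCat.comp_apply, Category.assoc]
    rfl
  have h2 := congrArg (X.presheaf.map (homOfLE (le_top : V ≤ ⊤)).op).hom
    (show ((Scheme.ΓSpecIso (CommRingCat.of R)).inv ≫ f.appTop).hom r * s = 0 from hrs)
  rw [map_mul, map_zero, hcomp] at h2
  show r • _ = r • (0 : Γ(X, V))
  rw [smul_zero]
  exact h2

end Groth.Agent.S5381
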