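import Groth.Statements.S5382
import Groth.Agent.HullDed.FinType
-- import your own Groth.Agent.* helpers here

set_option autoImplicit false
universe u
open CategoryTheory CategoryTheory.Limits MonoidalCategory CartesianMonoidalCategory MonObj GrpObj AlgebraicGeometry
open SGA3

namespace Groth.Agent.S5382

/-- (iii) (for S the spectrum of a Dedekind domain R with fraction field K): let G be an R-group scheme
which is flat and of finite type over R, and ρ : G → Spec O(G) the canonical morphism to its affine
hull. (ii) ρ is locally of finite presentation and Spec O(G) is of finite type over R. (iii) If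
moreover the generic fibre G_K is affine, then the kernel of ρ (the fibre of ρ over the image of the
unit section) is etale over R. (The published statement also asserts that ρ is quasi-compact and
quasi-separated, that Spec O(G) represents the fppf quotient of G by this kernel, and that the
kernel is trivial when G is separated; this row omits those assertions.) -/
theorem result (R : Type u) [CommRing R] [IsDedekindDomain R]
    (K : Type u) [Field K] [Algebra R K] [IsFractionRing R K]
    (G : Over (Spec (CommRingCat.of R))) [GrpObj G] [Flat G.hom] [QuasiCompact G.hom] [QuasiSeparated G.hom]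
    [LocallyOfFiniteType G.hom] :
    LocallyOfFinitePresentation G.left.toSpecΓ ∧
    LocallyOfFiniteType (Spec.map G.hom.appTop ≫ (Spec (CommRingCat.of R)).isoSpec.inv) ∧
    (IsAffine (pullback G.hom (Spec.map (CommRingCat.ofHom (algebraMap R K)))) →
      Etale (pullback.snd G.left.toSpecΓ (η[G].left ≫ G.left.toSpecΓ) ≫ (𝟙_ (Over (Spec (CommRingCat.of R)))).hom)) := by
  have : CompactSpace G.left := QuasiCompact.compactSpace_of_compactSpace G.hom
  have : QuasiSeparatedSpace G.left := quasiSeparatedSpace_of_quasiSeparated G.hom
  obtain ⟨h1, h2⟩ := Groth.Agent.HullDed.finiteness_hull G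
  have e : Spec.map G.hom.appTop ≫ (Spec (CommRingCat.of R)).isoSpec.inv =
      Spec.map (Groth.Agent.HullDed.str G.hom) := by
    refine Groth.Agent.HullDed.ext_of_toSpecΓ ?_
    rw [Groth.Agent.HullDed.toSpecΓ_str, ← Scheme.toSpecΓ_naturality_assoc]
    simp [Scheme.isoSpec]
  refine ⟨h1, e ▸ h2, fun hgen => ?_⟩
  have h : (CommRingCat.ofHom (algebraMap R K)).hom.Flat :=
    (RingHom.flat_algebraMap_iff).2 (IsLocalization.flat K (nonZeroDivisors R))
  have hdom : IsSchemeTheoreticallyDominant (Spec.map (CommRingCat.ofHom (algebraMap R K))) := by
    refine (isSchemeTheoreticallyDominant_iff _).2 (Groth.Agent.HullDed.ker_eq_bot_of_injective _ ?_)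
    intro x y hxy
    apply (ConcreteCategory.bijective_of_isIso (Scheme.ΓSpecIso (CommRingCat.of R)).hom).1
    apply IsFractionRing.injective R K
    have e := Scheme.ΓSpecIso_naturality (CommRingCat.ofHom (algebraMap R K))
    have h1 := congr($e x)
    have h2 := congr($e y)
    exact h1.symm.trans ((congrArg (Scheme.ΓSpecIso (CommRingCat.of K)).hom hxy).trans h2)
  refine Groth.Agent.HullDed.etale_kernel G (Spec.map (CommRingCat.ofHom (algebraMap R K))) ?_ hgen
  haveI := (HasRingHomProperty.Spec_iff (P := @Flat)).2 h
  exact HasRingHomProperty.appTop (P := @Flat) _ inferInstance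

end Groth.Agent.S5382
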