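import Groth.Statements.S5383
-- import your own Groth.Agent.* helpers here
import Groth.Agent.Unibranch.OpenAt

set_option autoImplicit false
universe u
open CategoryTheory CategoryTheory.Limits MonoidalCategory CartesianMonoidalCategory MonObj GrpObj AlgebraicGeometry
open SGA3

namespace Groth.Agent.S5383

/-- (i) let A ⊆ B be domains with B integral over A, and q a prime of B such that the local ring of A at
p = q ∩ A is unibranch; then Spec B → Spec A is open at q (it maps neighbourhoods of q to
neighbourhoods of p). (ii) Let f : X → Y be a dominant morphism of irreducible schemes which is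
locally of finite type, x a point of X isolated in its fibre (f quasi-finite at x) such that the
local ring of Y at f(x) is unibranch; then f is open at x. -/
theorem result :
    (∀ (A B : Type u) [CommRing A] [IsDomain A] [CommRing B] [IsDomain B] [Algebra A B],
      Function.Injective (algebraMap A B) → Algebra.IsIntegral A B →
      ∀ q : PrimeSpectrum B, CAlg2.IsUnibranch (Localization.AtPrime (q.asIdeal.comap (algebraMap A B))) →
        EGA43.IsOpenAt (PrimeSpectrum.comap (algebraMap A B)) q) ∧
    (∀ (X Y : Scheme.{u}) (f : X ⟶ Y) [IrreducibleSpace X] [IrreducibleSpace Y] [LocallyOfFiniteType f],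
      DenseRange f.base → ∀ x : X, (nhdsWithin x (f.base ⁻¹' {f.base x})) = pure x →
        CAlg2.IsUnibranch (Y.presheaf.stalk (f.base x)) → EGA43.IsOpenAt f.base x) := by
  refine ⟨fun A B _ _ _ _ _ hinj hint q h => ?_, fun X Y f _ _ _ hd x hx h => ?_⟩
  · obtain ⟨p₀, hp₀, hle, hmin, R', _, _, alg, hn, hi, hf, hU⟩ :=
      Unibranch.exists_uniqueOver_of_isUnibranch (q.asIdeal.comap (algebraMap A B))
        (Localization.AtPrime (q.asIdeal.comap (algebraMap A B))) h
    obtain rfl : p₀ = ⊥ := le_bot_iff.1 (hmin ⊥ Ideal.isPrime_bot bot_le)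
    letI : Algebra A R' := ((algebraMap (A ⧸ (⊥ : Ideal A)) R').comp (Ideal.Quotient.mk ⊥)).toAlgebra
    haveI : Algebra.IsIntegral A R' := ⟨fun z => RingHom.IsIntegral.trans _ _
      (RingHom.isIntegral_of_surjective _ Ideal.Quotient.mk_surjective) (fun w => hi.isIntegral w) z⟩
    haveI : FaithfulSMul A R' := (faithfulSMul_iff_algebraMap_injective _ _).2
      ((FaithfulSMul.algebraMap_injective (A ⧸ (⊥ : Ideal A)) R').comp (RingEquiv.quotientBot A).symm.injective)
    haveI : FaithfulSMul A B := (faithfulSMul_iff_algebraMap_injective _ _).2 hinj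
    haveI := hint
    haveI := hn
    intro U hU'
    refine Unibranch.image_comap_mem_nhds (R' := R') _ ?_ q rfl hU'
    have key : ∀ Q : Ideal R', Q.comap (algebraMap A R') = q.asIdeal.comap (algebraMap A B) →
        Q.comap (algebraMap (A ⧸ (⊥ : Ideal A)) R') =
          (q.asIdeal.comap (algebraMap A B)).map (Ideal.Quotient.mk ⊥) := fun Q hQ => by
      rw [← hQ]
      exact (Ideal.map_comap_of_surjective _ Ideal.Quotient.mk_surjective _).symm
    exact fun Q₁ Q₂ h₁ h₂ e₁ e₂ => hU Q₁ Q₂ h₁ h₂ (key _ e₁) (key _ e₂)
  · have hqf : f.QuasiFiniteAt x := by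
      rw [AlgebraicGeometry.Scheme.Hom.quasiFiniteAt_iff_isOpen_singleton_asFiber]
      have h1 : {x} ∈ nhdsWithin x (f.base ⁻¹' {f.base x}) := by rw [hx]; exact rfl
      obtain ⟨U, hUo, hxU, hU⟩ := mem_nhdsWithin.1 h1
      convert hUo.preimage (f.fiberι (f x)).continuous
      ext z
      refine ⟨fun hz => ?_, fun hz => ?_⟩
      · rw [Set.mem_singleton_iff] at hz
        rw [Set.mem_preimage, hz, f.fiberι_asFiber]
        exact hxU
      · refine (f.fiberι (f x)).isEmbedding.injective ?_
        rw [f.fiberι_asFiber]
        exact hU ⟨hz, (f.range_fiberι (f x)).le ⟨z, rfl⟩⟩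
    refine Unibranch.isOpenAt_of_quasiFiniteAt f x hqf h (genericPoint X)
      ((genericPoint_spec X).specializes trivial) ⟨⊤, trivial, fun z _ => ?_⟩
    have hd' := (genericPoint_spec X).image f.continuous
    rw [Set.image_univ, hd.closure_range] at hd'
    exact hd'.specializes trivial

end Groth.Agent.S5383
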