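import Groth.Statements.S5385
import Groth.Agent.S0372
import Groth.Agent.S0376
import Groth.Agent.S0377
import Groth.Agent.CMChart.OverField

set_option autoImplicit false
universe u
open CategoryTheory CategoryTheory.Limits MonoidalCategory CartesianMonoidalCategory MonObj GrpObj AlgebraicGeometry
open SGA3

namespace Groth.Agent.S5385
open IsLocalRing in
/-- an artinian local ring is complete -/
theorem isAdicComplete_maximalIdeal (T : Type u) [CommRing T] [IsArtinianRing T] [IsLocalRing T] :
    IsAdicComplete (maximalIdeal T) T := by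
  obtain ⟨N, hN⟩ := IsArtinianRing.isNilpotent_jacobson_bot (R := T)
  rw [IsLocalRing.jacobson_eq_maximalIdeal ⊥ bot_ne_top] at hN
  exact { haus' := fun x hx => by
            have := hx N
            rwa [SModEq.zero, hN, Ideal.zero_eq_bot, Submodule.bot_smul, Submodule.mem_bot] at this
          prec' := fun f hf => ⟨f N, fun n => by
            rcases le_total n N with h | h
            · exact hf h
            · have := hf h
              rw [hN, Ideal.zero_eq_bot, Submodule.bot_smul, SModEq.bot] at this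
              rw [this]⟩ }


/-- Let A be an artinian ring and X a nonempty scheme locally of finite type over A. Then X has a closed
point whose local ring is Cohen–Macaulay. -/
theorem result (A : Type u) [CommRing A] [IsArtinianRing A] (X : Scheme.{u})
    (f : X ⟶ Spec (CommRingCat.of A)) [LocallyOfFiniteType f] [Nonempty X] :
    ∃ x : X, IsClosed ({x} : Set X) ∧ LocCoh.IsCohenMacaulayLocalRing (X.presheaf.stalk x) := by
  obtain ⟨x₀⟩ := ‹Nonempty X›
  let P : Spec (CommRingCat.of A) := f x₀
  let D : (Spec (CommRingCat.of A)).Opens := ⟨{P}, isOpen_discrete _⟩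
  obtain ⟨W, hW, hxW, hWD⟩ := exists_isAffineOpen_mem_and_subset (show x₀ ∈ f ⁻¹ᵁ D from rfl)
  let φ : CommRingCat.of A ⟶ Γ(X, W) := Spec.preimage (hW.fromSpec ≫ f)
  have hφ : Spec.map φ = hW.fromSpec ≫ f := Spec.map_preimage _
  have hft : φ.hom.FiniteType := (HasRingHomProperty.Spec_iff (P := @LocallyOfFiniteType)).1 (by
    rw [hφ]; infer_instance)
  letI : Algebra A Γ(X, W) := φ.hom.toAlgebra
  haveI : Algebra.FiniteType A Γ(X, W) := hft
  have hu : ∀ a : P.asIdeal.primeCompl, IsUnit (φ.hom a) := by
    intro a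
    by_contra hna
    obtain ⟨M, hM, haM⟩ := exists_max_ideal_of_mem_nonunits hna
    let q : Spec Γ(X, W) := ⟨M, hM.isPrime⟩
    have hq : Spec.map φ q = P := by
      rw [hφ, Scheme.Hom.comp_apply]
      exact hWD (show hW.fromSpec q ∈ (W : Set X) by rw [← hW.range_fromSpec]; exact ⟨q, rfl⟩)
    have : (a : A) ∈ P.asIdeal := (congrArg PrimeSpectrum.asIdeal hq).le haM
    exact a.2 this
  let A' := Localization.AtPrime P.asIdeal
  letI : Algebra A' Γ(X, W) := (IsLocalization.lift (M := P.asIdeal.primeCompl) (S := A') hu).toAlgebra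
  haveI : IsScalarTower A A' Γ(X, W) := .of_algebraMap_eq fun a => (IsLocalization.lift_eq hu a).symm
  haveI : Algebra.FiniteType A' Γ(X, W) := Algebra.FiniteType.of_restrictScalars_finiteType A A' Γ(X, W)
  haveI : IsArtinianRing A' := inferInstance
  haveI : IsNoetherianRing Γ(X, W) := Algebra.FiniteType.isNoetherianRing A' Γ(X, W)
  haveI : IsAdicComplete (IsLocalRing.maximalIdeal A') A' := isAdicComplete_maximalIdeal A'
  obtain ⟨ω, hω⟩ := S0376.result A'
  obtain ⟨ω', hω'⟩ := S0377.result A' ω hω Γ(X, W)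
  obtain ⟨hopen, hdense⟩ := S0372.result Γ(X, W) ω' hω'
  let U : Set X := hW.fromSpec '' {q | LocCoh.IsCohenMacaulayLocalRing (Localization.AtPrime q.asIdeal)}
  have hUo : IsOpen U := hW.fromSpec.isOpenEmbedding.isOpenMap _ hopen
  have hne : U.Nonempty := by
    haveI : Nonempty (PrimeSpectrum Γ(X, W)) := ⟨hW.primeIdealOf ⟨x₀, hxW⟩⟩
    exact hdense.nonempty.image _
  haveI : JacobsonSpace X := LocallyOfFiniteType.jacobsonSpace f
  obtain ⟨x, hxU, hx⟩ := nonempty_inter_closedPoints (Z := U) hne hUo.isLocallyClosed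
  refine ⟨x, hx, ?_⟩
  obtain ⟨q, hq, rfl⟩ := hxU
  have h1 : LocCoh.IsCohenMacaulayLocalRing ((Spec Γ(X, W)).presheaf.stalk q) :=
    Groth.Agent.CMChart.isCohenMacaulayLocalRing_of_ringEquiv (StructureSheaf.stalkIso _ q).toRingEquiv hq
  exact Groth.Agent.CMChart.isCohenMacaulayLocalRing_of_ringEquiv
    (asIso (hW.fromSpec.stalkMap q)).commRingCatIsoToRingEquiv.symm h1

end Groth.Agent.S5385
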