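import Groth.Statements.S5387


set_option autoImplicit false
universe u
open CategoryTheory CategoryTheory.Limits MonoidalCategory CartesianMonoidalCategory MonObj GrpObj AlgebraicGeometry
open SGA3

namespace Groth.Agent.S5387

/-- Let k be an algebraically closed field, G a group scheme locally of finite type over k and x a
closed point of G. Then the local ring of G at x is isomorphic to the local ring of G at the unit
point (an isomorphism is induced by a translation; this row asserts the existence of an isomorphism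
of rings). -/
theorem result (k : Type u) [Field k] [IsAlgClosed k] (G : Over (Spec (CommRingCat.of k))) [GrpObj G]
    [LocallyOfFiniteType G.hom] (pt : ↥(𝟙_ (Over (Spec (CommRingCat.of k)))).left) (x : G.left) (hx : IsClosed ({x} : Set G.left)) :
    Nonempty (G.left.presheaf.stalk (η[G].left.base pt) ≅ G.left.presheaf.stalk x) := by
  obtain ⟨p, hp⟩ : ∃ p : 𝟙_ (Over (Spec (CommRingCat.of k))) ⟶ G, p.left (IsLocalRing.closedPoint k) = x :=
    ⟨Over.homMk ((pointEquivClosedPoint G.hom).symm ⟨x, hx⟩).1 ((pointEquivClosedPoint G.hom).symm ⟨x, hx⟩).2,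
      congrArg Subtype.val ((pointEquivClosedPoint G.hom).apply_symm_apply ⟨x, hx⟩)⟩
  let t : G ≅ G :=
    { hom := (toUnit G ≫ p) * 𝟙 G
      inv := (toUnit G ≫ p⁻¹) * 𝟙 G
      hom_inv_id := by simp [MonObj.comp_mul, GrpObj.comp_inv, _root_.mul_assoc]
      inv_hom_id := by simp [MonObj.comp_mul, GrpObj.comp_inv, _root_.mul_assoc] }
  haveI : IsIso t.hom.left := ((Over.forget _).mapIso t).isIso_hom
  have h1 : η[G] ≫ t.hom = p := by
    simp only [t, MonObj.comp_mul, ← Category.assoc, Category.comp_id]
    rw [show η[G] = (1 : 𝟙_ _ ⟶ G) by rw [Hom.one_def, toUnit_unit, Category.id_comp], _root_.mul_one,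
      toUnit_unique ((1 : 𝟙_ _ ⟶ G) ≫ toUnit G) (𝟙 _), Category.id_comp]
  have hx' : t.hom.left (η[G].left pt) = x := by
    rw [← Scheme.Hom.comp_apply, ← Over.comp_left, h1, ← hp]
    exact congrArg _ (Subsingleton.elim (α := PrimeSpectrum k) _ _)
  exact ⟨(asIso (t.hom.left.stalkMap (η[G].left pt))).symm ≪≫ G.left.presheaf.stalkCongr (Inseparable.of_eq hx')⟩

end Groth.Agent.S5387
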