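import Groth.Statements.S5388
import Groth.Agent.GrpBasic.ReducedNhd

set_option autoImplicit false
universe u
open CategoryTheory CategoryTheory.Limits MonoidalCategory CartesianMonoidalCategory MonObj GrpObj AlgebraicGeometry
open SGA3

namespace Groth.Agent.S5388

/-- Let G be a group scheme locally of finite type over a field k, e its unit point and K a perfect
extension field of k. If K ⊗_k O_{G,e} is a reduced ring, then G is smooth over k. (The published
statement is for a group flat and locally of finite type over a local artinian ring, with K the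
perfect closure of the residue field; this row is the case of a base field, with K any perfect
extension.) -/
theorem result (k : Type u) [Field k] (G : Over (Spec (CommRingCat.of k))) [GrpObj G]
    [LocallyOfFiniteType G.hom] (pt : ↥(𝟙_ (Over (Spec (CommRingCat.of k)))).left) (K : Type u) [Field K] [Algebra k K] [PerfectField K] :
    letI := ((Scheme.ΓSpecIso (CommRingCat.of k)).inv ≫ G.hom.appTop ≫ G.left.presheaf.germ ⊤ (η[G].left.base pt) trivial).hom.toAlgebra
    IsReduced (TensorProduct k K (G.left.presheaf.stalk (η[G].left.base pt))) → Smooth G.hom := by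
  intro hred
  let x := η[G].left.base pt
  let := ((Scheme.ΓSpecIso (CommRingCat.of k)).inv ≫ G.hom.appTop ≫
    G.left.presheaf.germ ⊤ x trivial).hom.toAlgebra
  have halg : Spec.map (CommRingCat.ofHom (algebraMap k (G.left.presheaf.stalk x))) =
      G.left.fromSpecStalk x ≫ G.hom := by
    apply AlgebraicGeometry.ext_of_isAffine
    rw [Scheme.Hom.comp_appTop, Scheme.fromSpecStalk_appTop, RingHom.algebraMap_toAlgebra,
      CommRingCat.ofHom_hom]
    rw [← cancel_mono (Scheme.ΓSpecIso _).hom, Scheme.ΓSpecIso_naturality]
    simp
  obtain ⟨y, hy⟩ := Groth.Agent.GrpBasic.exists_isReduced_stalk_pullback G.hom K x halg hred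
  let g := Spec.map (CommRingCat.ofHom (algebraMap k K))
  apply MorphismProperty.of_pullback_snd_of_descendsAlong
    (Q := @Surjective ⊓ @Flat ⊓ @QuasiCompact) (f := G.hom) (g := g)
  · exact ⟨⟨inferInstance, inferInstance⟩, inferInstance⟩
  · let : GrpObj (Over.mk G.hom) := inferInstanceAs (GrpObj G)
    let G' : Over (Spec (CommRingCat.of K)) := Over.mk (Limits.pullback.snd G.hom g)
    let : GrpObj G' := Over.grpObjMkPullbackSnd
    have : LocallyOfFiniteType G'.hom :=
      inferInstanceAs (LocallyOfFiniteType (Limits.pullback.snd G.hom g))
    exact @Groth.Agent.GrpBasic.smooth_of_perfect_stalk K _ _ G' _ _ y hy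

end Groth.Agent.S5388
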