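import Groth.Statements.S5389
import Groth.Agent.MaxOpen.Basic

set_option autoImplicit false
universe u
open CategoryTheory CategoryTheory.Limits MonoidalCategory CartesianMonoidalCategory MonObj GrpObj AlgebraicGeometry
open SGA3

namespace Groth.Agent.S5389

/-- Let P be a property of morphisms of schemes which is local on the target for the fpqc topology
(stable under base change, Zariski-local on the target, and descending along flat surjective
quasi-compact morphisms). Let u : G → H be a homomorphism of S-group schemes with G flat and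
universally open over S, W the largest open subscheme of H over which the restriction of u has P,
and V = u⁻¹(W). Then the image U of V in S is open and V is an open subgroup scheme of G over U: V
contains the unit point of every fibre of G that it meets, V is stable under the inversion of G, and
the product of a point of G ×_S G whose two projections lie in V lies in V. -/
theorem result (P : MorphismProperty Scheme.{u}) [P.IsStableUnderBaseChange] [IsZariskiLocalAtTarget P]
    [P.DescendsAlong (@Flat ⊓ @Surjective ⊓ @QuasiCompact)]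
    (S : Scheme.{u}) (G H : Over S) [GrpObj G] [GrpObj H] (u : G ⟶ H) [IsMonHom u] [Flat G.hom] [UniversallyOpen G.hom]
    (W : H.left.Opens) (hW : P (u.left ∣_ W)) (hmax : ∀ W' : H.left.Opens, P (u.left ∣_ W') → W' ≤ W) :
    letI V : G.left.Opens := u.left ⁻¹ᵁ W
    IsOpen (G.hom.base '' (V : Set G.left)) ∧
    (∀ g ∈ V, ∀ p : ↥(𝟙_ (Over S)).left, (𝟙_ (Over S)).hom.base p = G.hom.base g → η[G].left.base p ∈ V) ∧
    (∀ g ∈ V, ι[G].left.base g ∈ V) ∧
    (∀ z : ↥(G ⊗ G).left, (fst G G).left.base z ∈ V → (snd G G).left.base z ∈ V → μ[G].left.base z ∈ V) := by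
  classical
  let V := u.left ⁻¹ᵁ W
  let m' : H ⊗ G ⟶ H := fst H G * (snd H G ≫ u)
  -- the automorphism `(h, g) ↦ (h u(g), g)`
  let σ : H ⊗ G ≅ H ⊗ G :=
    { hom := lift m' (snd H G)
      inv := lift (fst H G * (snd H G ≫ u)⁻¹) (snd H G)
      hom_inv_id := by
        apply CartesianMonoidalCategory.hom_ext <;> simp [m', MonObj.comp_mul, GrpObj.comp_inv]
      inv_hom_id := by
        apply CartesianMonoidalCategory.hom_ext <;> simp [m', MonObj.comp_mul, GrpObj.comp_inv] }
  haveI hflat : Flat (fst H G).left := inferInstanceAs (Flat (Limits.pullback.fst H.hom G.hom))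
  haveI huo : UniversallyOpen (fst H G).left := inferInstanceAs (UniversallyOpen (Limits.pullback.fst H.hom G.hom))
  have hm : m'.left = σ.hom.left ≫ (fst H G).left := by
    rw [← Over.comp_left, lift_fst]
  haveI : IsIso σ.hom := Iso.isIso_hom σ
  haveI : IsIso σ.hom.left := inferInstanceAs (IsIso ((Over.forget S).map σ.hom))
  haveI : Flat m'.left := by rw [hm]; infer_instance
  haveI : UniversallyOpen m'.left := by rw [hm]; infer_instance
  have key : ∀ {T : Over S} (s : T ⟶ H ⊗ G),
      Groth.Agent.MaxOpen.Has P u.left (s ≫ fst H G).left ↔ Groth.Agent.MaxOpen.Has P u.left (s ≫ m').left := by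
    intro T s
    let mk : ∀ t : T ⟶ H, Over S := fun t => Over.mk (Limits.pullback.snd u.left t.left ≫ T.hom)
    let pa : ∀ t : T ⟶ H, mk t ⟶ G := fun t => Over.homMk (Limits.pullback.fst u.left t.left) (by
      show Limits.pullback.fst u.left t.left ≫ G.hom = Limits.pullback.snd u.left t.left ≫ T.hom
      rw [← Over.w u, Limits.pullback.condition_assoc, Over.w t])
    let pb : ∀ t : T ⟶ H, mk t ⟶ T := fun t => Over.homMk (Limits.pullback.snd u.left t.left) rfl
    have hp : ∀ t : T ⟶ H, pa t ≫ u = pb t ≫ t := fun t => Over.OverMorphism.ext Limits.pullback.condition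
    have up : ∀ (t : T ⟶ H) {Z : Over S} (a : Z ⟶ G) (b : Z ⟶ T), a ≫ u = b ≫ t →
        ∃ z : Z ⟶ mk t, z ≫ pa t = a ∧ z ≫ pb t = b := fun t Z a b h => by
      refine ⟨Over.homMk (Limits.pullback.lift a.left b.left (congrArg CommaMorphism.left h)) ?_, ?_, ?_⟩
      · show Limits.pullback.lift _ _ _ ≫ Limits.pullback.snd _ _ ≫ T.hom = Z.hom
        rw [Limits.pullback.lift_snd_assoc, Over.w]
      · exact Over.OverMorphism.ext (Limits.pullback.lift_fst _ _ _)
      · exact Over.OverMorphism.ext (Limits.pullback.lift_snd _ _ _)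
    have ext' : ∀ (t : T ⟶ H) {Z : Over S} (z z' : Z ⟶ mk t),
        z ≫ pa t = z' ≫ pa t → z ≫ pb t = z' ≫ pb t → z = z' := fun t Z z z' h h' =>
      Over.OverMorphism.ext (Limits.pullback.hom_ext (congrArg CommaMorphism.left h) (congrArg CommaMorphism.left h'))
    let t₁ := s ≫ fst H G
    let t₂ := s ≫ m'
    let c := s ≫ snd H G
    have ht : t₂ = t₁ * (c ≫ u) := by simp [t₁, t₂, c, m', MonObj.comp_mul]
    obtain ⟨a, ha₁, ha₂⟩ := up t₂ (pa t₁ * (pb t₁ ≫ c)) (pb t₁) (by
      simp [ht, MonObj.mul_comp, MonObj.comp_mul, hp])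
    obtain ⟨b, hb₁, hb₂⟩ := up t₁ (pa t₂ * (pb t₂ ≫ c)⁻¹) (pb t₂) (by
      simp [ht, MonObj.mul_comp, GrpObj.inv_comp, MonObj.comp_mul, hp])
    have hab : a ≫ b = 𝟙 _ := ext' t₁ _ _
      (by rw [Category.assoc, hb₁, MonObj.comp_mul, GrpObj.comp_inv, ← Category.assoc, ha₁, ha₂,
        mul_inv_cancel_right, Category.id_comp]) (by rw [Category.assoc, hb₂, ha₂, Category.id_comp])
    have hba : b ≫ a = 𝟙 _ := ext' t₂ _ _
      (by rw [Category.assoc, ha₁, MonObj.comp_mul, ← Category.assoc, hb₁, hb₂,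
        inv_mul_cancel_right, Category.id_comp]) (by rw [Category.assoc, ha₂, hb₂, Category.id_comp])
    refine P.arrow_mk_iso_iff (Arrow.isoMk ((Over.forget S).mapIso ⟨a, b, hab, hba⟩) (Iso.refl _) ?_)
    show a.left ≫ (pb t₂).left = (pb t₁).left ≫ 𝟙 _
    rw [Category.comp_id]
    exact congrArg CommaMorphism.left ha₂
  obtain ⟨hA, hA'⟩ := Groth.Agent.MaxOpen.preimage_spec (P := P) (fst H G).left (fst H G).left.isOpenMap W hW hmax
  obtain ⟨hB, hB'⟩ := Groth.Agent.MaxOpen.preimage_spec (P := P) m'.left m'.left.isOpenMap W hW hmax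
  have heq : ∀ x, (fst H G).left x ∈ W ↔ m'.left x ∈ W := by
    intro x
    constructor
    · intro hx
      exact hB' ((fst H G).left ⁻¹ᵁ W)
        ((key (T := Over.mk (((fst H G).left ⁻¹ᵁ W).ι ≫ (H ⊗ G).hom)) (Over.homMk ((fst H G).left ⁻¹ᵁ W).ι rfl)).mp hA) hx
    · intro hx
      exact hA' (m'.left ⁻¹ᵁ W)
        ((key (T := Over.mk ((m'.left ⁻¹ᵁ W).ι ≫ (H ⊗ G).hom)) (Over.homMk (m'.left ⁻¹ᵁ W).ι rfl)).mpr hB) hx
  have hμ : ∀ z : ↥(G ⊗ G).left, (fst G G).left z ∈ V ↔ μ[G].left z ∈ V := by
    intro z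
    have e1 : (u ▷ G) ≫ fst H G = fst G G ≫ u := by simp
    have e2 : (u ▷ G) ≫ m' = μ[G] ≫ u := by
      simp [m', MonObj.comp_mul, IsMonHom.mul_hom, ← Hom.mul_def]
      rw [Hom.mul_def]
      congr 1
      all_goals (apply CartesianMonoidalCategory.hom_ext <;> simp)
    have := heq ((u ▷ G).left z)
    rw [← Scheme.Hom.comp_apply, ← Scheme.Hom.comp_apply, ← Over.comp_left, ← Over.comp_left, e1, e2] at this
    exact this
  have hunit : ∀ g ∈ V, (toUnit G ≫ η[G]).left g ∈ V := by
    intro g hg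
    have := (hμ ((lift (𝟙 G) ι[G]).left g)).mp (by
      rw [← Scheme.Hom.comp_apply, ← Over.comp_left, lift_fst]; exact hg)
    rwa [← Scheme.Hom.comp_apply, ← Over.comp_left, GrpObj.right_inv] at this
  refine ⟨G.hom.isOpenMap _ V.2, fun g hg p hp => ?_, fun g hg => ?_, fun z hz _ => (hμ z).mp hz⟩
  · have he : (toUnit G).left g = p := by
      have h1 : (toUnit G).left = G.hom := by simpa using Over.w (toUnit G)
      rw [h1]
      exact hp.symm
    have h2 := hunit g hg
    rw [Over.comp_left, Scheme.Hom.comp_apply, he] at h2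
    exact h2
  · have h3 := (hμ ((lift (toUnit G ≫ η[G]) ι[G]).left g)).mp (by
      rw [← Scheme.Hom.comp_apply, ← Over.comp_left, lift_fst]; exact hunit g hg)
    rw [← Scheme.Hom.comp_apply, ← Over.comp_left] at h3
    rwa [show lift (toUnit G ≫ η[G]) ι[G] ≫ μ[G] = ι[G] from by
      rw [← Hom.mul_def, ← Hom.one_def, _root_.one_mul]] at h3

end Groth.Agent.S5389
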