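import Groth.Statements.S5391
import Groth.Agent.SlicePt.ThroughScheme

set_option autoImplicit false
universe u
open CategoryTheory CategoryTheory.Limits MonoidalCategory CartesianMonoidalCategory MonObj GrpObj AlgebraicGeometry
open SGA3

namespace Groth.Agent.S5391

/-- Let f : X → S be a morphism locally of finite presentation, s a point of S and x a point of the
fibre X_s = f⁻¹(s) which is closed in it. Suppose f is universally open at the generic point z of
some irreducible component Z of the fibre X_s containing x, with the local dimension of X_s at x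
equal to dim Z. Then there are an affine scheme S', an etale morphism w : S' → S, a finite
surjective morphism of finite presentation π : S'' → S', and a morphism h : S'' → X with h f = π w,
such that exactly one point s'' of S'' lies over s, h(s'') = x, and h induces an isomorphism κ(x) ≅
κ(s''). -/
theorem result (X S : Scheme.{u}) (f : X ⟶ S) [LocallyOfFinitePresentation f]
    (s : S) (x : X) (hxs : f.base x = s) (hx : IsClosed ((Subtype.val : ↥(f.base ⁻¹' {s}) → X) ⁻¹' {x}))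
    (Z : Set ↥(f.base ⁻¹' {s})) (hZ : Z ∈ irreducibleComponents ↥(f.base ⁻¹' {s})) (hxZ : x ∈ (Subtype.val '' Z))
    (z : X) (hz : z ∈ Subtype.val '' Z ∧ Subtype.val '' Z ⊆ closure {z}) (hopen : EGA43.IsUnivOpenAt f z)
    (hdim : FlatMor.localDim ↥(f.base ⁻¹' {s}) ⟨x, hxs⟩ = topologicalKrullDim ↥Z) :
    ∃ (S' S'' : Scheme.{u}) (_ : IsAffine S') (w : S' ⟶ S) (π : S'' ⟶ S') (h : S'' ⟶ X),
      Etale w ∧ IsFinite π ∧ Surjective π ∧ LocallyOfFinitePresentation π ∧ h ≫ f = π ≫ w ∧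
      ∃ s'' : S'', (π ≫ w).base ⁻¹' {s} = {s''} ∧ h.base s'' = x ∧ IsIso (h.residueFieldMap s'') := by
  classical
  replace hxs : f x = s := hxs
  obtain ⟨A, hA, hsA, -⟩ := exists_isAffineOpen_mem_and_subset (x := s) (U := (⊤ : S.Opens)) trivial
  obtain ⟨W, hW, hxW, hWA⟩ := exists_isAffineOpen_mem_and_subset (x := x) (U := f ⁻¹ᵁ A)
    (show f x ∈ A by rw [hxs]; exact hsA)
  have e : W ≤ f ⁻¹ᵁ A := hWA
  obtain ⟨⟨x', hx'Z, hx'⟩, hzZ, hZz⟩ := And.intro hxZ hz
  have hzx : z ⤳ x := specializes_iff_mem_closure.mpr (hZz hxZ)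
  have hzs : f z = s := by obtain ⟨w, -, rfl⟩ := hzZ; exact w.2
  have hzW : z ∈ W := hzx.mem_open W.2 hxW
  let φ := f.appLE A W e
  have hφ : Spec.map φ ≫ hA.fromSpec = hW.fromSpec ≫ f := IsAffineOpen.SpecMap_appLE_fromSpec f hA hW e
  have hfp : φ.hom.FinitePresentation :=
    HasRingHomProperty.appLE @LocallyOfFinitePresentation f ‹_› ⟨A, hA⟩ ⟨W, hW⟩ e
  letI := φ.hom.toAlgebra
  haveI : Algebra.FinitePresentation Γ(S, A) Γ(X, W) := hfp
  obtain ⟨p, hp⟩ : s ∈ Set.range hA.fromSpec := by rw [hA.range_fromSpec]; exact hsA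
  haveI := PrimeSpectrum.isPrime p
  have hps : ∀ p' : Spec Γ(S, A), hA.fromSpec p' = s ↔ p' = p :=
    fun p' => ⟨fun h => hA.fromSpec.isOpenEmbedding.injective (h.trans hp.symm), fun h => h ▸ hp⟩
  have hover : ∀ q : PrimeSpectrum Γ(X, W),
      q.asIdeal.comap (algebraMap Γ(S, A) Γ(X, W)) = p.asIdeal ↔ f (hW.fromSpec q) = s := by
    intro q
    rw [← Unibranch.fromSpec_comap_appLE f hA hW e q]
    exact (show q.asIdeal.comap (algebraMap Γ(S, A) Γ(X, W)) = p.asIdeal ↔
      PrimeSpectrum.comap φ.hom q = p from ⟨fun h => PrimeSpectrum.ext h, fun h => congrArg PrimeSpectrum.asIdeal h⟩).trans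
      (hps _).symm
  obtain ⟨q, hq⟩ : ∃ q : PrimeSpectrum Γ(X, W), hW.fromSpec q = x := show x ∈ Set.range hW.fromSpec by
    rw [hW.range_fromSpec]; exact hxW
  obtain ⟨q₀, hq₀⟩ : ∃ q : PrimeSpectrum Γ(X, W), hW.fromSpec q = z := show z ∈ Set.range hW.fromSpec by
    rw [hW.range_fromSpec]; exact hzW
  have hspec : ∀ a c : PrimeSpectrum Γ(X, W), a ≤ c ↔ hW.fromSpec a ⤳ hW.fromSpec c := fun a c =>
    ((PrimeSpectrum.le_iff_specializes a c).trans
      (hW.fromSpec.isOpenEmbedding.isInducing.specializes_iff (x := a) (y := c)).symm)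
  have hle : (q₀ : PrimeSpectrum Γ(X, W)) ≤ q := (hspec q₀ q).mpr (hq₀.symm ▸ hq.symm ▸ hzx)
  have hmax : ∀ q' : PrimeSpectrum Γ(X, W), q'.asIdeal.comap (algebraMap Γ(S, A) Γ(X, W)) = p.asIdeal →
      (q : PrimeSpectrum Γ(X, W)) ≤ q' → q' = q := by
    intro q' hq' hqq'
    have h1 := (hspec _ _).mp hqq'
    rw [hq] at h1
    refine hW.fromSpec.isOpenEmbedding.injective (Eq.trans ?_ hq.symm)
    have h2 : (⟨x, hxs⟩ : ↥(f.base ⁻¹' {s})) ⤳ ⟨hW.fromSpec q', (hover q').mp hq'⟩ :=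
      Topology.IsEmbedding.subtypeVal.isInducing.specializes_iff.mp h1
    exact h2.mem_closed hx rfl
  have hchain : ∀ l : LTSeries (PrimeSpectrum Γ(X, W)),
      (∀ i, (l i).asIdeal.comap (algebraMap Γ(S, A) Γ(X, W)) = p.asIdeal ∧ l i ≤ q) →
      ∃ l' : LTSeries (PrimeSpectrum Γ(X, W)),
        (∀ i, (l' i).asIdeal.comap (algebraMap Γ(S, A) Γ(X, W)) = p.asIdeal ∧ q₀ ≤ l' i) ∧
        l.length ≤ l'.length := by
    intro l hl
    have h1 := SlicePt.natCast_le_localDim f s ⟨x, hxs⟩ (fun i => hW.fromSpec (l i))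
      (fun i => ⟨(hspec _ _).mp (show l i.castSucc < l i.succ from l.step i).le,
        fun h => (show l i.castSucc < l i.succ from l.step i).ne (hW.fromSpec.isOpenEmbedding.injective h)⟩)
      (fun i => (hover (l i)).mp (hl i).1) (fun i => hq ▸ (hspec _ _).mp (hl i).2)
    rw [hdim] at h1
    obtain ⟨c, hc, hcc⟩ := SlicePt.exists_hasChain_component f s Z (isClosed_of_mem_irreducibleComponents Z hZ) z
      hzZ hZz hA hW e hzW h1
    choose d hd using fun i => (show ∃ q' : PrimeSpectrum Γ(X, W), hW.fromSpec q' = c i from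
      show c i ∈ Set.range hW.fromSpec by rw [hW.range_fromSpec]; exact (hc i).1.1)
    refine ⟨⟨l.length, d, fun i => ?_⟩, fun i => ⟨(hover _).mpr (show f (hW.fromSpec (d i)) = s by rw [hd]; exact (hc i).2),
      (hspec q₀ (d i)).mpr (hq₀.symm ▸ (hd i).symm ▸ specializes_iff_mem_closure.mpr (hc i).1.2)⟩, le_rfl⟩
    have h2 : (d i.castSucc : PrimeSpectrum Γ(X, W)) ≤ d i.succ := (hspec _ _).mpr ((hd i.castSucc).symm ▸ (hd i.succ).symm ▸ (hcc i).1)
    refine lt_of_le_of_ne h2 fun h => (hcc i).2 ?_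
    rw [← hd, ← hd, h]
  obtain ⟨R', _, _, B', _, _, hh, hR', hfin, hfp', hsurj, hcomp, b, hb, hres, huniq⟩ :=
    SlicePt.exists_quasiSection_through (R := Γ(S, A)) (B := Γ(X, W)) p.asIdeal q q₀
      ((hover q).mpr (by rw [hq]; exact hxs)) ((hover q₀).mpr (by rw [hq₀]; exact hzs)) hle hmax hchain
      (fun V _ _ _ _ _ Q hQ hQm hQq => by
        haveI := hQ
        exact SlicePt.exists_generization_of_univOpenAt f hopen hA hW e q₀ hq₀ V Q hQm hQq)
  haveI := hR'
  haveI := hfin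
  haveI := hfp'
  let w₀ : Spec (CommRingCat.of R') ⟶ Spec Γ(S, A) := Spec.map (CommRingCat.ofHom (algebraMap Γ(S, A) R'))
  let π : Spec (CommRingCat.of B') ⟶ Spec (CommRingCat.of R') := Spec.map (CommRingCat.ofHom (algebraMap R' B'))
  haveI : Etale w₀ := (HasRingHomProperty.Spec_iff (P := @Etale)).mpr (RingHom.etale_algebraMap.mpr hR')
  haveI : IsFinite π := (IsFinite.SpecMap_iff _).mpr (RingHom.finite_algebraMap.mpr hfin)
  haveI : LocallyOfFinitePresentation π :=
    (HasRingHomProperty.Spec_iff (P := @LocallyOfFinitePresentation)).mpr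
      (RingHom.finitePresentation_algebraMap.mpr hfp')
  haveI : Surjective π := ⟨hsurj⟩
  let h₀ : Spec (CommRingCat.of B') ⟶ Spec Γ(X, W) := Spec.map (CommRingCat.ofHom hh)
  have e1 : h₀ ≫ Spec.map φ = π ≫ w₀ := by
    simp only [h₀, π, w₀, ← Spec.map_comp]
    congr 1
    exact CommRingCat.hom_ext hcomp
  have hw : (h₀ ≫ hW.fromSpec) ≫ f = π ≫ w₀ ≫ hA.fromSpec := by
    rw [Category.assoc, ← hφ, ← Category.assoc, e1, Category.assoc]
  have hfib : ∀ y : Spec (CommRingCat.of B'), (π ≫ w₀ ≫ hA.fromSpec) y = s ↔ y = b := fun y => by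
    refine ((hps (w₀ (π y))).trans ?_).trans (huniq y)
    exact ⟨fun h => by rw [← Ideal.comap_comap]; exact congrArg PrimeSpectrum.asIdeal h,
      fun h => PrimeSpectrum.ext (by rw [← Ideal.comap_comap] at h; exact h)⟩
  have hb' : h₀ b = q := PrimeSpectrum.ext hb.symm
  haveI : IsIso (h₀.residueFieldMap b) :=
    SlicePt.isIso_residueFieldMap_specMap (CommRingCat.ofHom hh) b q hb hres
  refine ⟨_, _, inferInstance, w₀ ≫ hA.fromSpec, π, h₀ ≫ hW.fromSpec, inferInstance, inferInstance, inferInstance,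
    inferInstance, hw, b, Set.ext fun y => hfib y, ?_, ?_⟩
  · show hW.fromSpec (h₀ b) = x
    rw [hb', hq]
  · let b' : Spec (CommRingCat.of B') := b
    haveI h2 : IsIso (h₀.residueFieldMap b') := ‹IsIso (h₀.residueFieldMap b)›
    haveI : IsOpenImmersion hW.fromSpec := IsAffineOpen.isOpenImmersion_fromSpec hW
    haveI h1 : IsIso (hW.fromSpec.residueFieldMap (h₀ b')) := inferInstance
    exact (Scheme.residueFieldMap_comp h₀ hW.fromSpec b').symm ▸ @IsIso.comp_isIso _ _ _ _ _ _ _ h1 h2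

end Groth.Agent.S5391
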