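import Groth.Statements.S5392
import Groth.Agent.SubLocus.Main
-- import your own Groth.Agent.* helpers here

set_option autoImplicit false
universe u
open CategoryTheory CategoryTheory.Limits MonoidalCategory CartesianMonoidalCategory MonObj GrpObj AlgebraicGeometry
open SGA3

namespace Groth.Agent.S5392

/-- Let X be an S-group scheme which is smooth and of finite presentation over S with connected fibres,
Y an S-group scheme of finite presentation over S and i : Y → X a homomorphism which is a
monomorphism. Then there is a closed immersion t : T → S, locally of finite presentation, such that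
a morphism g : S' → S factors through t exactly when the base change of i along g is an isomorphism. -/
theorem result (S : Scheme.{u}) (X Y : Over S) [GrpObj X] [GrpObj Y]
    [Smooth X.hom] [QuasiCompact X.hom] [QuasiSeparated X.hom]
    (hconn : ∀ s : S, _root_.IsConnected (X.hom.base ⁻¹' {s}))
    [LocallyOfFinitePresentation Y.hom] [QuasiCompact Y.hom] [QuasiSeparated Y.hom]
    (i : Y ⟶ X) [IsMonHom i] [Mono i] :
    ∃ (T : Scheme.{u}) (t : T ⟶ S), IsClosedImmersion t ∧ LocallyOfFinitePresentation t ∧
      ∀ (S' : Scheme.{u}) (g : S' ⟶ S),
        (∃ g' : S' ⟶ T, g' ≫ t = g) ↔ IsIso ((Over.pullback g).map i) := by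
  have hconn' := hconn
  have : GeometricallyIrreducible X.hom :=
    Groth.Agent.GrpField.geometricallyIrreducible_of_connected_fibres X hconn'
  have hw : i.left ≫ X.hom = Y.hom := Over.w i
  have : QuasiCompact (i.left ≫ X.hom) := hw ▸ ‹QuasiCompact Y.hom›
  have : QuasiCompact i.left := QuasiCompact.of_comp i.left X.hom
  have : LocallyOfFinitePresentation (i.left ≫ X.hom) := hw ▸ ‹LocallyOfFinitePresentation Y.hom›
  have : LocallyOfFinitePresentation i.left := Groth.Agent.LimDesc.lfp_of_comp i.left X.hom
  obtain ⟨T, t, ht, htfp, hT⟩ := Groth.Agent.SubLocus.exists_locus i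
  refine ⟨T, t, ht, htfp, fun S' g => (hT S' g).trans ?_⟩
  have sq := Groth.Agent.SubLocus.isPullback_map i g
  constructor
  · intro hl
    have := (Groth.Agent.SubLocus.exists_lift_iff_isIso i.left _).mp hl
    have : IsIso ((Over.pullback g).map i).left := by
      rw [← sq.flip.isoPullback_hom_snd]
      infer_instance
    have : IsIso ((Over.forget S').map ((Over.pullback g).map i)) := this
    exact isIso_of_reflects_iso _ (Over.forget S')
  · intro _
    have : IsIso ((Over.pullback g).map i).left := inferInstanceAs (IsIso ((Over.forget S').map ((Over.pullback g).map i)))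
    refine ⟨inv ((Over.pullback g).map i).left ≫ Limits.pullback.fst Y.hom g, ?_⟩
    exact (Category.assoc _ _ _).trans ((congrArg (_ ≫ ·) sq.w.symm).trans (IsIso.inv_hom_id_assoc _ _))

end Groth.Agent.S5392
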