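import Groth.Statements.S5394
import Groth.Agent.GrpMax.Basic
import Groth.Agent.GrpBasic.Open
import Groth.Agent.Assoc.Kernel
import Groth.Agent.LimDesc.FPCancel
import Mathlib

set_option autoImplicit false
universe u
open CategoryTheory CategoryTheory.Limits MonoidalCategory CartesianMonoidalCategory MonObj GrpObj AlgebraicGeometry
open SGA3

namespace Groth.Agent.S5394

/-- Let G be an S-group scheme which is flat and locally of finite presentation over S and f : X → G a
morphism of S-schemes with X locally of finite presentation over S. Suppose that for every point s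
of S and every maximal point g of the fibre G_s (generic point of an irreducible component) there is
a point x of X with f(x) = g at which f is flat. Let V be the open subscheme of X where f is flat.
Then the morphism V ×_S V → G, (x, y) ↦ f(x)·f(y), is flat, locally of finite presentation and
surjective; in particular X ×_S X → G, (x, y) ↦ f(x)·f(y), is covering for the fppf topology. (The
published statement does not assume G flat over S and asserts only the covering property; this row
assumes G flat over S, as the flatness step of the printed proof does, and concludes the flat,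
locally finitely presented, surjective form that proof establishes. Without flatness of G the
flatness conclusion fails, e.g. for the identity of the closed subgroup tx = 0 of the additive group
over k[t].) -/
theorem result (S : Scheme.{u}) (G X : Over S) [GrpObj G] [LocallyOfFinitePresentation G.hom] [Flat G.hom]
    [LocallyOfFinitePresentation X.hom] (f : X ⟶ G)
    (hf : ∀ (s : S) (g : ↥(G.hom.base ⁻¹' {s})), closure {g} ∈ irreducibleComponents ↥(G.hom.base ⁻¹' {s}) →
      ∃ x : X.left, f.left.base x = g.1 ∧ (f.left.stalkMap x).hom.Flat)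
    (V : X.left.Opens) (hV : (V : Set X.left) = {x : X.left | (f.left.stalkMap x).hom.Flat}) :
    letI fV : Over.mk (V.ι ≫ X.hom) ⟶ G := Over.homMk (V.ι ≫ f.left) ((Category.assoc _ _ _).trans (congrArg (V.ι ≫ ·) (Over.w f)))
    Flat ((fV ⊗ₘ fV) ≫ μ[G]).left ∧ LocallyOfFinitePresentation ((fV ⊗ₘ fV) ≫ μ[G]).left ∧
      Surjective ((fV ⊗ₘ fV) ≫ μ[G]).left := by
  let fV : Over.mk (V.ι ≫ X.hom) ⟶ G :=
    Over.homMk (V.ι ≫ f.left) ((Category.assoc _ _ _).trans (congrArg (V.ι ≫ ·) (Over.w f)))
  change Flat ((fV ⊗ₘ fV) ≫ μ[G]).left ∧ LocallyOfFinitePresentation ((fV ⊗ₘ fV) ≫ μ[G]).left ∧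
    Surjective ((fV ⊗ₘ fV) ≫ μ[G]).left
  have hVf : Flat fV.left := by
    refine Flat.of_stalkMap _ fun x => ?_
    have hx : (f.left.stalkMap (V.ι x)).hom.Flat := (Set.ext_iff.1 hV x.1).1 x.2
    change ((V.ι ≫ f.left).stalkMap x).hom.Flat
    rw [Scheme.Hom.stalkMap_comp]
    exact hx.comp (Flat.stalkMap V.ι x)
  have : LocallyOfFinitePresentation (f.left ≫ G.hom) := by rw [Over.w]; infer_instance
  have : LocallyOfFiniteType G.hom := inferInstance
  have : LocallyOfFinitePresentation f.left := Groth.Agent.LimDesc.lfp_of_comp f.left G.hom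
  have hVp : LocallyOfFinitePresentation fV.left := inferInstanceAs (LocallyOfFinitePresentation (V.ι ≫ f.left))
  let W : Over S := Over.mk (V.ι ≫ X.hom)
  have h1 := Groth.Agent.Assoc.isPullback_whiskerRight (Z := W) fV
  have h2 := Groth.Agent.Assoc.isPullback_whiskerLeft (Z := G) fV
  have hmulF : Flat μ[G].left := by
    rw [Groth.Agent.GrpBasic.mul_left_eq]
    have : Flat (fst G G).left := MorphismProperty.pullback_fst G.hom G.hom ‹Flat G.hom›
    infer_instance
  have hmulP : LocallyOfFinitePresentation μ[G].left := by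
    rw [Groth.Agent.GrpBasic.mul_left_eq]
    have : LocallyOfFinitePresentation (fst G G).left := MorphismProperty.pullback_fst G.hom G.hom ‹LocallyOfFinitePresentation G.hom›
    infer_instance
  rw [MonoidalCategory.tensorHom_def, Category.assoc, Over.comp_left, Over.comp_left]
  refine ⟨MorphismProperty.comp_mem _ _ _ (MorphismProperty.of_isPullback (P := @Flat) h1 hVf)
      (MorphismProperty.comp_mem _ _ _ (MorphismProperty.of_isPullback (P := @Flat) h2 hVf) hmulF),
    MorphismProperty.comp_mem _ _ _ (MorphismProperty.of_isPullback (P := @LocallyOfFinitePresentation) h1 hVp)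
      (MorphismProperty.comp_mem _ _ _ (MorphismProperty.of_isPullback (P := @LocallyOfFinitePresentation) h2 hVp) hmulP),
    ⟨fun g => ?_⟩⟩
  obtain ⟨z, hz, hz1, hz2⟩ := Groth.Agent.GrpMax.exists_mul_eq_maximal g
  have hpre : ∀ y : G.left, Groth.Agent.GrpMax.IsMaxInFibre y → ∃ v : W.left, fV.left v = y := by
    intro y hy
    obtain ⟨x, hx, hxf⟩ := hf _ ⟨y, rfl⟩ (hy.closure_mem _ rfl)
    refine ⟨⟨x, (Set.ext_iff.1 hV x).2 hxf⟩, ?_⟩
    exact hx
  obtain ⟨v2, hv2⟩ := hpre _ hz2
  obtain ⟨v1, hv1⟩ := hpre _ hz1
  obtain ⟨q, hq1, hq2⟩ := Scheme.Pullback.exists_preimage_pullback (f := fV.left) (g := (snd G G).left) v2 z hv2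
  let z2 := h2.isoPullback.inv q
  have hz2' : (G ◁ fV).left z2 = z := by
    rw [← Scheme.Hom.comp_apply, h2.isoPullback_inv_snd]; exact hq2
  have hfst2 : (fst G W).left z2 = (fst G G).left z := by
    rw [← hz2', ← Scheme.Hom.comp_apply (G ◁ fV).left, ← Over.comp_left, whiskerLeft_fst]
  obtain ⟨q', hq1', hq2'⟩ := Scheme.Pullback.exists_preimage_pullback (f := fV.left) (g := (fst G W).left) v1 z2
    (hv1.trans hfst2.symm)
  refine ⟨h1.isoPullback.inv q', ?_⟩
  rw [Scheme.Hom.comp_apply, Scheme.Hom.comp_apply, ← Scheme.Hom.comp_apply h1.isoPullback.inv,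
    h1.isoPullback_inv_snd, hq2', hz2', hz]

end Groth.Agent.S5394
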