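import Groth.Statements.S5395
import Mathlib

set_option autoImplicit false
universe u
open CategoryTheory CategoryTheory.Limits MonoidalCategory CartesianMonoidalCategory MonObj GrpObj AlgebraicGeometry
open SGA3

namespace Groth.Agent.S5395

theorem exists_lc_of_isConstructible {X : Type*} [TopologicalSpace X] {s : Set X} (hs : Topology.IsConstructible s) :
    (∀ x ∈ s, ∃ L, IsLocallyClosed L ∧ x ∈ L ∧ L ⊆ s) ∧ (∀ x ∉ s, ∃ L, IsLocallyClosed L ∧ x ∈ L ∧ L ⊆ sᶜ) := by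
  induction hs using Topology.IsConstructible.empty_union_induction with
  | open_retrocompact U hU _ =>
    exact ⟨fun x hx => ⟨U, hU.isLocallyClosed, hx, subset_rfl⟩,
      fun x hx => ⟨Uᶜ, hU.isClosed_compl.isLocallyClosed, hx, subset_rfl⟩⟩
  | union s _ t _ hs ht =>
    refine ⟨?_, fun x hx => ?_⟩
    · rintro x (hx | hx)
      · obtain ⟨L, h1, h2, h3⟩ := hs.1 x hx; exact ⟨L, h1, h2, h3.trans Set.subset_union_left⟩
      · obtain ⟨L, h1, h2, h3⟩ := ht.1 x hx; exact ⟨L, h1, h2, h3.trans Set.subset_union_right⟩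
    · obtain ⟨L, h1, h2, h3⟩ := hs.2 x (fun h => hx (Or.inl h))
      obtain ⟨M, k1, k2, k3⟩ := ht.2 x (fun h => hx (Or.inr h))
      exact ⟨L ∩ M, h1.inter k1, ⟨h2, k2⟩, fun y hy hy' => hy'.elim (h3 hy.1) (k3 hy.2)⟩
  | compl s _ hs =>
    refine ⟨fun x hx => hs.2 x hx, fun x hx => ?_⟩
    rw [compl_compl]
    exact hs.1 x (not_not.mp hx)

theorem exists_lc {X : Type*} [TopologicalSpace X] {E : Set X} (hE : ProCons.IsIndConstructible E) {x : X} (hx : x ∈ E) :
    ∃ L, IsLocallyClosed L ∧ x ∈ L ∧ L ⊆ E := by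
  obtain ⟨U, hU, hxU, S, hS, hES⟩ := hE x
  obtain ⟨T, hT, hxT⟩ : (⟨x, hxU⟩ : ↥U) ∈ ⋃₀ S := by rw [← hES]; exact hx
  obtain ⟨V, hVn, hV, hVT⟩ := hS T hT ⟨x, hxU⟩
  obtain ⟨L, h1, h2, h3⟩ := (exists_lc_of_isConstructible hVT).1 ⟨⟨x, hxU⟩, mem_of_mem_nhds hVn⟩ hxT
  refine ⟨Subtype.val '' (Subtype.val '' L), ?_, ⟨_, ⟨_, h2, rfl⟩, rfl⟩, ?_⟩
  · refine (h1.image Topology.IsInducing.subtypeVal ?_).image Topology.IsInducing.subtypeVal ?_
    · rw [Subtype.range_coe]; exact hV.isLocallyClosed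
    · rw [Subtype.range_coe]; exact hU.isLocallyClosed
  · rintro _ ⟨_, ⟨y, hy, rfl⟩, rfl⟩
    have : y.1 ∈ ⋃₀ S := ⟨T, hT, h3 hy⟩
    rw [← hES] at this
    exact this

/-- Let k be an algebraically closed field, G a group scheme locally of finite type over k, and A, B two
ind-constructible subsets of G. Let A·B be the image under the multiplication of the set of points
of G ×_k G whose two projections lie in A and B. Then every closed point z of G lying in A·B is the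
product of a closed point of G ×_k G whose two projections lie in A and B (and are then closed
points): the rational points of A·B are the products of rational points of A and of B. -/
theorem result (k : Type u) [Field k] [IsAlgClosed k] (G : Over (Spec (CommRingCat.of k))) [GrpObj G]
    [LocallyOfFiniteType G.hom] (A B : Set G.left) (hA : ProCons.IsIndConstructible A) (hB : ProCons.IsIndConstructible B)
    (z : G.left) (hz : IsClosed ({z} : Set G.left))
    (hzAB : z ∈ μ[G].left.base '' {w : ↥(G ⊗ G).left | (fst G G).left.base w ∈ A ∧ (snd G G).left.base w ∈ B}) :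
    ∃ w : ↥(G ⊗ G).left, IsClosed ({w} : Set ↥(G ⊗ G).left) ∧ (fst G G).left.base w ∈ A ∧ (snd G G).left.base w ∈ B ∧
      μ[G].left.base w = z := by
  obtain ⟨w₀, ⟨hwA, hwB⟩, hwz⟩ := hzAB
  obtain ⟨L₁, hL₁, ha₁, hL₁A⟩ := exists_lc hA hwA
  obtain ⟨L₂, hL₂, hb₂, hL₂B⟩ := exists_lc hB hwB
  haveI : LocallyOfFiniteType (G ⊗ G).hom :=
    inferInstanceAs (LocallyOfFiniteType (pullback.fst G.hom G.hom ≫ G.hom))
  haveI : JacobsonSpace ↥(G ⊗ G).left := LocallyOfFiniteType.jacobsonSpace (G ⊗ G).hom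
  have hlc : IsLocallyClosed ((fst G G).left.base ⁻¹' L₁ ∩ (snd G G).left.base ⁻¹' L₂ ∩ μ[G].left.base ⁻¹' {z}) :=
    ((hL₁.preimage (fst G G).left.continuous).inter (hL₂.preimage (snd G G).left.continuous)).inter
      (hz.preimage μ[G].left.continuous).isLocallyClosed
  obtain ⟨w, ⟨⟨h1, h2⟩, h3⟩, hw⟩ := nonempty_inter_closedPoints (Z := (fst G G).left.base ⁻¹' L₁ ∩ (snd G G).left.base ⁻¹' L₂ ∩ μ[G].left.base ⁻¹' {z}) ⟨w₀, ⟨ha₁, hb₂⟩, hwz⟩ hlc
  exact ⟨w, hw, hL₁A h1, hL₂B h2, h3⟩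

end Groth.Agent.S5395
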