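import Groth.Statements.S5397
import Groth.Agent.GrpAct.TranslateFibre
import Groth.Agent.GrpAct.Separated

set_option autoImplicit false
universe u
open CategoryTheory CategoryTheory.Limits MonoidalCategory CartesianMonoidalCategory MonObj GrpObj AlgebraicGeometry
open SGA3

namespace Groth.Agent.S5397

/-- Let G be an S-group scheme locally of finite presentation over S and universally open over S on some
open containing the unit section, acting on an S-scheme X so that G ×_S X → X ×_S X, (g, x) ↦ (gx,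
x), is surjective, and suppose every fibre X_s is a quasi-separated and connected space. Then X is
separated over S; and if there is an open subscheme V of X, quasi-compact over S, meeting every
nonempty fibre X_s, then X is quasi-compact over S. (The published statement concludes that X is
quasi-compact over S without the open V; for a local scheme S whose punctured spectrum is not
quasi-compact, the trivial group acting on the disjoint union of the closed point and the punctured
spectrum satisfies every hypothesis and is not quasi-compact over S, so the open V is required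
here.) -/
theorem result (S : Scheme.{u}) (G X : Over S) [GrpObj G]
    [LocallyOfFinitePresentation G.hom]
    (hGo : ∃ W : G.left.Opens, (∀ p : ↥(𝟙_ (Over S)).left, η[G].left.base p ∈ W) ∧ UniversallyOpen (W.ι ≫ G.hom))
    (a : AlgGrp.Action G X) (hΦ : Surjective (lift a.act (snd G X)).left)
    (hqs : ∀ s : S, QuasiSeparatedSpace ↥(X.hom.base ⁻¹' {s}))
    (hconn : ∀ s : S, _root_.IsPreconnected (X.hom.base ⁻¹' {s})) :
    IsSeparated X.hom ∧
    ((∃ V : X.left.Opens, QuasiCompact (V.ι ≫ X.hom) ∧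
        ∀ s : S, (X.hom.base ⁻¹' {s}).Nonempty → ((V : Set X.left) ∩ X.hom.base ⁻¹' {s}).Nonempty) →
      QuasiCompact X.hom) := by
  classical
  obtain ⟨W, hW1, hW⟩ := hGo
  have hgen : ∀ v : X.left, ∃ ξ : X.left, X.hom ξ = X.hom v ∧ ∀ u : X.left, X.hom u = X.hom v → ξ ⤳ u :=
    fun v => Groth.Agent.GrpAct.exists_fibre_generic a hΦ _ (hqs _) (hconn _) ⟨v, rfl⟩
  have heW : ∀ (T : Over S) (t : T.left), (toUnit T ≫ η[G]).left t ∈ W := fun T t => hW1 ((toUnit T).left t)
  refine ⟨Groth.Agent.GrpAct.isSeparated_of_translate a W fun z => ?_, ?_⟩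
  · let κ : Type u := (X ⊗ X).left.residueField z
    let K : Type u := AlgebraicClosure κ
    let g₀ : Spec (CommRingCat.of K) ⟶ Spec ((X ⊗ X).left.residueField z) :=
      Spec.map (CommRingCat.ofHom (algebraMap κ K))
    let f := g₀ ≫ (X ⊗ X).left.fromSpecResidueField z ≫ (X ⊗ X).hom
    let T := Over.mk f
    let w : T ⟶ X ⊗ X := Over.homMk (g₀ ≫ (X ⊗ X).left.fromSpecResidueField z) (Category.assoc _ _ _)
    obtain ⟨t⟩ : Nonempty T.left := inferInstanceAs (Nonempty (PrimeSpectrum K))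
    have hw : w.left t = z := Scheme.fromSpecResidueField_apply z _
    obtain ⟨ξ, hξm, hξ⟩ := hgen ((w ≫ fst X X).left t)
    have hT : X.hom ((w ≫ fst X X).left t) = T.hom t := by rw [← Scheme.Hom.comp_apply, Over.w]
    rw [hT] at hξm hξ
    obtain ⟨U, hU, hξU, -⟩ := exists_isAffineOpen_mem_and_subset (x := ξ) (U := (⊤ : X.left.Opens)) trivial
    haveI : IsAffine U.toScheme := hU
    haveI : IsSeparated ((U.ι ≫ X.hom) ≫ terminal.from S) := by
      rw [terminal.comp_from]; infer_instance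
    refine ⟨U, IsSeparated.of_comp _ (terminal.from S), ?_⟩
    obtain ⟨g, hgW, hgx, hgy⟩ := Groth.Agent.GrpAct.exists_pt_translate a hΦ f t W (heW T t) U hξU hξm hξ
      (w ≫ fst X X) (w ≫ snd X X)
    refine ⟨(lift g w).left t, ?_, ?_, ?_, ?_⟩
    · rw [← Scheme.Hom.comp_apply, ← Over.comp_left, lift_snd, hw]
    · rw [← Scheme.Hom.comp_apply, ← Over.comp_left, lift_fst]
      exact hgW
    · rw [← Scheme.Hom.comp_apply, ← Over.comp_left,
        show lift g w ≫ lift (fst G (X ⊗ X)) (snd G (X ⊗ X) ≫ fst X X) ≫ a.act = lift g (w ≫ fst X X) ≫ a.act by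
          simp [Groth.Agent.GrpAct.comp_smul]]
      exact hgx
    · rw [← Scheme.Hom.comp_apply, ← Over.comp_left,
        show lift g w ≫ lift (fst G (X ⊗ X)) (snd G (X ⊗ X) ≫ snd X X) ≫ a.act = lift g (w ≫ snd X X) ≫ a.act by
          simp [Groth.Agent.GrpAct.comp_smul]]
      exact hgy
  rintro ⟨V, hV, hVmeet⟩
  refine quasiCompact_iff_forall_isAffineOpen.2 fun A hA => ?_
  haveI : IsAffine A.toScheme := hA
  -- a quasi-compact open neighbourhood of the unit section over `A`
  let E := (𝟙_ (Over S)).left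
  choose N hN hmem hNle using fun q : A =>
    exists_isAffineOpen_mem_and_subset (x := η[G].left (q.1 : E)) (U := W ⊓ G.hom ⁻¹ᵁ A) ⟨hW1 _, by
      show G.hom (η[G].left (q.1 : E)) ∈ A
      rw [← Scheme.Hom.comp_apply, Over.w]
      exact q.2⟩
  obtain ⟨T₀, hT₀⟩ := (hA.isCompact.image η[G].left.continuous).elim_finite_subcover
    (fun q : A => (N q : Set G.left)) (fun q => (N q).2)
    (by rintro _ ⟨q, hq, rfl⟩; exact Set.mem_iUnion.mpr ⟨⟨q, hq⟩, hmem _⟩)
  let W₁ : G.left.Opens := ⨆ q ∈ T₀, N q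
  have hW₁c : CompactSpace W₁.toScheme := isCompact_iff_compactSpace.mp (by
    simp only [W₁, TopologicalSpace.Opens.coe_iSup]
    exact T₀.isCompact_biUnion fun q _ => (hN q).isCompact)
  have hW₁A : ∀ g ∈ W₁, G.hom g ∈ A := fun g hg => by
    obtain ⟨q, hq⟩ := TopologicalSpace.Opens.mem_iSup.mp hg
    obtain ⟨-, hq⟩ := TopologicalSpace.Opens.mem_iSup.mp hq
    exact (hNle q hq).2
  have hW₁e : ∀ q : A, η[G].left (q.1 : E) ∈ W₁ := fun q => by
    have := hT₀ ⟨q.1, q.2, rfl⟩
    simpa [W₁] using this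
  let V₁ : X.left.Opens := V ⊓ X.hom ⁻¹ᵁ A
  haveI : CompactSpace V₁.toScheme := isCompact_iff_compactSpace.mp (by
    have e : (V₁ : Set X.left) = V.ι '' ↑((V.ι ≫ X.hom) ⁻¹ᵁ A) := Set.ext fun v =>
      ⟨fun h => ⟨⟨v, h.1⟩, h.2, rfl⟩, by rintro ⟨v', hv', rfl⟩; exact ⟨v'.2, hv'⟩⟩
    rw [e]
    exact ((V.ι ≫ X.hom).isCompact_preimage hA.isCompact).image V.ι.continuous)
  let α : W₁.toScheme ⟶ A.toScheme := IsOpenImmersion.lift A.ι (W₁.ι ≫ G.hom) (by
    rintro _ ⟨q, rfl⟩; rw [Scheme.Opens.range_ι]; exact hW₁A _ q.2)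
  let β : V₁.toScheme ⟶ A.toScheme := IsOpenImmersion.lift A.ι (V₁.ι ≫ X.hom) (by
    rintro _ ⟨q, rfl⟩; rw [Scheme.Opens.range_ι]; exact q.2.2)
  haveI : QuasiCompact α := by
    haveI : QuasiCompact (α ≫ terminal.from A.toScheme) := by rw [terminal.comp_from]; infer_instance
    exact QuasiCompact.of_comp α (terminal.from A.toScheme)
  haveI : CompactSpace ↥(pullback α β) := QuasiCompact.compactSpace_of_compactSpace (pullback.snd α β)
  have hαf : α ≫ A.ι = W₁.ι ≫ G.hom := IsOpenImmersion.lift_fac _ _ _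
  have hβf : β ≫ A.ι = V₁.ι ≫ X.hom := IsOpenImmersion.lift_fac _ _ _
  let m : pullback α β ⟶ X.left := pullback.lift (pullback.fst α β ≫ W₁.ι) (pullback.snd α β ≫ V₁.ι) (by
      rw [Category.assoc, Category.assoc, ← hαf, ← hβf, pullback.condition_assoc]) ≫ a.act.left
  suffices h : (X.hom.base ⁻¹' (A : Set S)) = Set.range m by
    show IsCompact (X.hom.base ⁻¹' (A : Set S))
    rw [h]; exact isCompact_range m.continuous
  refine Set.Subset.antisymm (fun y hy => ?_) ?_
  swap
  · rintro _ ⟨p, rfl⟩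
    show X.hom (m p) ∈ A
    have e : m ≫ X.hom = pullback.snd α β ≫ β ≫ A.ι := by
      simp only [m, Category.assoc, Over.w]
      rw [show (G ⊗ X).hom = (snd G X).left ≫ X.hom from (Over.w (snd G X)).symm]
      exact (Category.assoc _ _ _).symm.trans ((congrArg (· ≫ X.hom) (pullback.lift_snd _ _ _)).trans
        ((Category.assoc _ _ _).trans (congrArg (pullback.snd α β ≫ ·) hβf.symm)))
    rw [← Scheme.Hom.comp_apply, e, Scheme.Hom.comp_apply, Scheme.Hom.comp_apply]
    exact ((β (pullback.snd α β p)) : A).2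
  let κ : Type u := X.left.residueField y
  let K : Type u := AlgebraicClosure κ
  let g₀ : Spec (CommRingCat.of K) ⟶ Spec (X.left.residueField y) :=
    Spec.map (CommRingCat.ofHom (algebraMap κ K))
  let f := g₀ ≫ X.left.fromSpecResidueField y ≫ X.hom
  let T := Over.mk f
  let w : T ⟶ X := Over.homMk (g₀ ≫ X.left.fromSpecResidueField y) (Category.assoc _ _ _)
  obtain ⟨t⟩ : Nonempty T.left := inferInstanceAs (Nonempty (PrimeSpectrum K))
  have hw : w.left t = y := Scheme.fromSpecResidueField_apply y _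
  have hT : T.hom t = X.hom y := by rw [← hw, ← Scheme.Hom.comp_apply, Over.w]
  obtain ⟨ξ, hξm, hξ⟩ := hgen y
  obtain ⟨v, hvV, hv⟩ := hVmeet (X.hom y) ⟨y, rfl⟩
  have hξV : ξ ∈ V₁ := ⟨(hξ v hv).mem_open V.2 hvV, by show X.hom ξ ∈ A; rw [hξm]; exact hy⟩
  rw [← hT] at hξm hξ
  let O : G.left.Opens := ι[G].left ⁻¹ᵁ W₁
  have he : (toUnit T ≫ η[G]).left t ∈ O := by
    show ι[G].left ((toUnit T ≫ η[G]).left t) ∈ W₁
    rw [← Scheme.Hom.comp_apply, ← Over.comp_left,
      show (toUnit T ≫ η[G]) ≫ ι[G] = toUnit T ≫ η[G] by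
        rw [← Hom.inv_def, ← Hom.one_def, inv_one]]
    exact hW₁e ⟨(toUnit T).left t, by
      have : (toUnit T).left t = T.hom t := congr($(Over.w (toUnit T)) t)
      rw [this, hT]; exact hy⟩
  obtain ⟨g, hgO, hgy, -⟩ := Groth.Agent.GrpAct.exists_pt_translate a hΦ f t O he V₁ hξV hξm hξ w w
  let u : T ⟶ G := g ≫ ι[G]
  let x : T ⟶ X := lift g w ≫ a.act
  have hsub : Subsingleton T.left := inferInstanceAs (Subsingleton (PrimeSpectrum K))
  let uW : T.left ⟶ W₁.toScheme := IsOpenImmersion.lift W₁.ι u.left (by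
    rintro _ ⟨q, rfl⟩; rw [Scheme.Opens.range_ι, Subsingleton.elim q t]; exact hgO)
  let xV : T.left ⟶ V₁.toScheme := IsOpenImmersion.lift V₁.ι x.left (by
    rintro _ ⟨q, rfl⟩; rw [Scheme.Opens.range_ι, Subsingleton.elim q t]; exact hgy)
  have huW : uW ≫ W₁.ι = u.left := IsOpenImmersion.lift_fac _ _ _
  have hxV : xV ≫ V₁.ι = x.left := IsOpenImmersion.lift_fac _ _ _
  have hcond : uW ≫ α = xV ≫ β := by
    rw [← cancel_mono A.ι, Category.assoc, Category.assoc, hαf, hβf,
      ← Category.assoc, ← Category.assoc, huW, hxV, Over.w, Over.w]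
  refine ⟨pullback.lift uW xV hcond t, ?_⟩
  rw [← Scheme.Hom.comp_apply, ← hw]
  refine congrArg (fun q : T.left ⟶ X.left => q t) ?_
  have e2 : lift u x ≫ a.act = w := by
    show lift (g ≫ ι[G]) (lift g w ≫ a.act) ≫ a.act = w
    rw [← Groth.Agent.GrpAct.mul_smul, ← Hom.inv_def, inv_mul_cancel,
      Groth.Agent.GrpAct.one_smul']
  rw [← e2, Over.comp_left]
  show _ ≫ _ ≫ a.act.left = _
  rw [← Category.assoc]
  congr 1
  apply pullback.hom_ext
  · rw [Category.assoc, pullback.lift_fst, pullback.lift_fst_assoc, huW]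
    exact congr($((lift_fst u x)).left).symm
  · rw [Category.assoc, pullback.lift_snd, pullback.lift_snd_assoc, hxV]
    exact congr($((lift_snd u x)).left).symm


end Groth.Agent.S5397
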