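import Groth.Statements.S5398
import Groth.Agent.EulerSmooth.Scheme
import Groth.Agent.S1937

set_option autoImplicit false
set_option backward.isDefEq.respectTransparency false
universe u
open CategoryTheory CategoryTheory.Limits MonoidalCategory CartesianMonoidalCategory MonObj GrpObj AlgebraicGeometry
open SGA3

namespace Groth.Agent.S5398

/-- Let S be a scheme all of whose residue fields have characteristic zero and G an S-group scheme which
is locally of finite presentation over S on some open containing the unit section ε. Then G is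
smooth over S on some open containing the unit section if and only if the O_S-module ω_{G/S} =
ε^*(Ω¹_{G/S}) is finite locally free. (The published statement asks residue characteristic zero only
at the closed points of S; on a scheme with no closed point that condition is empty and the
equivalence fails for the group of p-th roots of unity in characteristic p, while the Jacobian
criterion used in the proof needs every residue field of characteristic zero, so this row asks it at
every point. This row also assumes G quasi-separated over S, so that the diagonal used to define Ω¹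
is quasi-compact.) -/
theorem result (S : Scheme.{u})
    (hS : ∀ x : S, CharZero (S.residueField x))
    (G : Over S) [GrpObj G] [QuasiSeparated G.hom]
    (hfp : ∃ W : G.left.Opens, (∀ p : ↥(𝟙_ (Over S)).left, η[G].left.base p ∈ W) ∧ LocallyOfFinitePresentation (W.ι ≫ G.hom)) :
    (∃ W : G.left.Opens, (∀ p : ↥(𝟙_ (Over S)).left, η[G].left.base p ∈ W) ∧ Smooth (W.ι ≫ G.hom)) ↔
      FlatMod.IsFinLocFree ((Scheme.Modules.pullback η[G].left).obj (Omega.sheaf G.hom)) := by
  let f := G.hom
  let e : S ⟶ G.left := η[G].left
  have he : e ≫ f = 𝟙 S := Over.w η[G]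
  obtain ⟨W₀, hW₀, hfp₀⟩ := hfp
  constructor
  · rintro ⟨W, hW, hsm⟩
    haveI := hsm
    haveI : QuasiSeparated (W.ι ≫ G.hom) := inferInstance
    obtain ⟨b⟩ := ExtFund.nonempty_omega_etale W.ι G.hom (W.ι ≫ G.hom) rfl
    have h1 : FlatMod.IsFinLocFree ((Scheme.Modules.pullback W.ι).obj (Omega.sheaf G.hom)) :=
      RelGen.isFinLocFree_of_iso b.symm
        (OmegaLib.isFinLocFree_of_formallySmooth (InfLift.isFormallySmoothHom_of_smooth (W.ι ≫ G.hom))
          (OmegaLib.isUniversal_dOmega _))
    let e' : S ⟶ W.toScheme := IsOpenImmersion.lift W.ι e (by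
      rintro _ ⟨p, rfl⟩
      rw [Scheme.Opens.range_ι]
      exact hW p)
    have he' : e' ≫ W.ι = e := IsOpenImmersion.lift_fac _ _ _
    exact RelGen.isFinLocFree_of_iso
      ((Scheme.Modules.pullbackComp e' W.ι).app _ ≪≫ (Scheme.Modules.pullbackCongr he').app _)
      (SGA6Ext.isFinLocFree_pullback e' h1)
  · intro hω
    obtain ⟨⟨φ⟩, -⟩ := Groth.Agent.S1937.result S G
    have hC : FlatMod.IsFinLocFree (Omega.conormal η[G].left) := by
      refine RelGen.isFinLocFree_of_iso ?_ hω
      exact (Scheme.Modules.pullback e).mapIso φ ≪≫ (Scheme.Modules.pullbackComp e f).app _ ≪≫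
        (Scheme.Modules.pullbackCongr he).app _ ≪≫ (Scheme.Modules.pullbackId S).app _
    have hΩ : FlatMod.IsFinLocFree (Omega.sheaf G.hom) :=
      RelGen.isFinLocFree_of_iso φ.symm (SGA6Ext.isFinLocFree_pullback _ hC)
    haveI := hfp₀
    let g := W₀.ι ≫ G.hom
    let L : W₀.toScheme.Opens := g.smoothLocus
    refine ⟨W₀.ι ''ᵁ L, fun p => ?_, ?_⟩
    · exact ⟨⟨e p, hW₀ p⟩, EulerSmooth.mem_smoothLocus_of_section hS G.hom e he hΩ W₀ p (hW₀ p), rfl⟩
    · haveI : Smooth (L.ι ≫ g) := Scheme.Hom.smoothLocus_eq_top_iff.1 (by
        rw [← Scheme.Hom.preimage_smoothLocus_eq]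
        exact eq_top_iff.2 fun x _ => x.2)
      rw [show (W₀.ι ''ᵁ L).ι ≫ G.hom = (W₀.ι.isoImage L).inv ≫ L.ι ≫ g by
        simp [g]]
      infer_instance

end Groth.Agent.S5398
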