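import Groth.Statements.S5400
import Groth.Agent.GrpDim.Construct
import Groth.Agent.GrpDim.Represent
import Groth.Agent.ConsEngine.LimTop

set_option autoImplicit false
universe u
open CategoryTheory CategoryTheory.Limits MonoidalCategory CartesianMonoidalCategory MonObj GrpObj AlgebraicGeometry
open SGA3

namespace Groth.Agent.S5400
instance lfp_bc {S S' : Scheme.{u}} (f : S' ⟶ S) (G : Over S) [LocallyOfFinitePresentation G.hom] :
    LocallyOfFinitePresentation (Red.bc f G).hom :=
  inferInstanceAs (LocallyOfFinitePresentation (pullback.snd G.hom f))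

/-- the neutral set of a base change -/
theorem neutralSet_bc {S S' : Scheme.{u}} (f : S' ⟶ S) (G : Over S) [GrpObj G] :
    SGA3x.neutralSet (Red.bc f G) = (pullback.fst G.hom f).base ⁻¹' SGA3x.neutralSet G := by
  ext w
  rw [Set.mem_preimage, Groth.Agent.GrpDim.neutralSet_iff, Groth.Agent.GrpDim.neutralSet_iff]
  exact Groth.Agent.GrpDim.comp0_bc_iff f G w

/-- the neutral component is representable exactly when it is open -/
theorem rep_iff_isOpen {S : Scheme.{u}} (H : Over S) [GrpObj H] [LocallyOfFinitePresentation H.hom] :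
    (∃ (G0 : Over S) (i0 : G0 ⟶ H), Mono i0 ∧ ∀ (T : Over S) (g : T ⟶ H),
      (∃ z : T ⟶ G0, z ≫ i0 = g) ↔ Set.range g.left.base ⊆ SGA3x.neutralSet H) ↔
    IsOpen (SGA3x.neutralSet H) := by
  constructor
  · rintro ⟨G0, i0, hm, hrep⟩
    haveI := hm
    obtain ⟨hi, hr⟩ := Groth.Agent.GrpDim.Represents.isOpenImmersion (i := i0) hrep
      (Groth.Agent.GrpDim.isIndConstructible_neutralSet H)
    rw [← hr]
    exact i0.left.isOpenEmbedding.isOpen_range
  · intro h
    let N : H.left.Opens := ⟨_, h⟩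
    let i0 : Over.mk (N.ι ≫ H.hom) ⟶ H := Over.homMk N.ι rfl
    refine ⟨_, i0, (Over.forget S).mono_of_mono_map (inferInstanceAs (Mono N.ι)), fun T g => ⟨?_, fun hg => ?_⟩⟩
    · rintro ⟨z, rfl⟩ _ ⟨t, rfl⟩
      exact (z.left t).2
    · have hr : Set.range g.left ⊆ Set.range N.ι := by rw [N.range_ι]; exact hg
      have hfac := IsOpenImmersion.lift_fac N.ι g.left hr
      refine ⟨Over.homMk (IsOpenImmersion.lift N.ι g.left hr) ?_, Over.OverMorphism.ext hfac⟩
      show IsOpenImmersion.lift N.ι g.left hr ≫ N.ι ≫ H.hom = T.hom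
      rw [reassoc_of% hfac, Over.w]


/-- Let S be the limit of a cofiltered system (S_i) of quasi-compact quasi-separated schemes with affine
transition morphisms, j an index and G_j an S_j-group scheme of finite presentation; put G = G_j
×_{S_j} S. Then the neutral component subfunctor of G is representable (there is a monomorphism G⁰ →
G through which a point factors exactly when its image lies in the union of the neutral components
of the fibres) if and only if there is an index i over j such that the neutral component of G_j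
×_{S_j} S_i is representable. -/
theorem result {I : Type u} [SmallCategory I] [IsCofiltered I]
    (D : I ⥤ Scheme.{u}) (c : Limits.Cone D) (hc : Limits.IsLimit c)
    [∀ (i i' : I) (f : i ⟶ i'), IsAffineHom (D.map f)] [∀ i, CompactSpace (D.obj i)] [∀ i, QuasiSeparatedSpace (D.obj i)]
    (j : I) (Gj : Over (D.obj j)) [GrpObj Gj]
    [LocallyOfFinitePresentation Gj.hom] [QuasiCompact Gj.hom] [QuasiSeparated Gj.hom] :
    (∃ (G0 : Over c.pt) (i0 : G0 ⟶ Red.bc (c.π.app j) Gj), Mono i0 ∧
      ∀ (T : Over c.pt) (g : T ⟶ Red.bc (c.π.app j) Gj), (∃ z : T ⟶ G0, z ≫ i0 = g) ↔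
        Set.range g.left.base ⊆ SGA3x.neutralSet (Red.bc (c.π.app j) Gj)) ↔
    ∃ (i : I) (f : i ⟶ j) (G0 : Over (D.obj i)) (i0 : G0 ⟶ Red.bc (D.map f) Gj), Mono i0 ∧
      ∀ (T : Over (D.obj i)) (g : T ⟶ Red.bc (D.map f) Gj), (∃ z : T ⟶ G0, z ≫ i0 = g) ↔
        Set.range g.left.base ⊆ SGA3x.neutralSet (Red.bc (D.map f) Gj) := by
  have key : ∀ {S : Scheme.{u}} (H : Over S) [GrpObj H] [LocallyOfFinitePresentation H.hom],
      (∃ (G0 : Over S) (i0 : G0 ⟶ H), Mono i0 ∧ ∀ (T : Over S) (g : T ⟶ H),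
        (∃ z : T ⟶ G0, z ≫ i0 = g) ↔ Set.range g.left.base ⊆ SGA3x.neutralSet H) ↔
      IsOpen (SGA3x.neutralSet H) := fun {S} H _ _ => rep_iff_isOpen H
  haveI : ∀ {a b : I} (f : a ⟶ b), IsAffineHom (D.map f) := fun f => inferInstance
  rw [key]
  simp only [key]
  constructor
  · intro h
    let t : Over j := Over.mk (𝟙 j)
    haveI : CompactSpace Gj.left := QuasiCompact.compactSpace_of_compactSpace Gj.hom
    haveI : ∀ k, CompactSpace ((Groth.Agent.LimDesc.tower D Gj.hom).obj k) :=
      fun k => Groth.Agent.LimDesc.compactSpace_stage D Gj.hom k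
    have hY := IsPullback.of_hasPullback Gj.hom (c.π.app j)
    let Z : Set ((Groth.Agent.LimDesc.tower D Gj.hom).obj t) :=
      Groth.Agent.LimDesc.toBase D Gj.hom t ⁻¹' SGA3x.neutralSet Gj
    have hZ : Topology.IsLocallyConstructible Z := Groth.Agent.ConsEngine.isLocallyConstructible_preimage
      (Groth.Agent.LimDesc.toBase D Gj.hom t) (Groth.Agent.GrpDim.isLocallyConstructible_neutralSet Gj)
    obtain ⟨k, φ, hk⟩ := Groth.Agent.ConsEngine.exists_isOpen_preimage (Groth.Agent.LimDesc.tower D Gj.hom)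
      (Groth.Agent.LimDesc.towerCone D Gj.hom c hY) (Groth.Agent.LimDesc.isLimitTowerCone D Gj.hom c hY hc) t hZ (by
        rw [neutralSet_bc] at h
        refine (Eq.subst (motive := fun X : Set ↥(pullback Gj.hom (c.π.app j)) => IsOpen X) ?_ h : IsOpen
          (((Groth.Agent.LimDesc.towerCone D Gj.hom c hY).π.app t).base ⁻¹' Z : Set ↥(pullback Gj.hom (c.π.app j))))
        ext w
        show pullback.fst Gj.hom (c.π.app j) w ∈ SGA3x.neutralSet Gj ↔ Groth.Agent.LimDesc.toBase D Gj.hom t (Groth.Agent.LimDesc.proj D Gj.hom c hY t w) ∈ SGA3x.neutralSet Gj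
        rw [← Scheme.Hom.comp_apply, Groth.Agent.LimDesc.proj_toBase])
    refine ⟨k.left, k.hom, ?_⟩
    rw [neutralSet_bc]
    refine (Eq.subst (motive := fun X : Set ↥(pullback Gj.hom (D.map k.hom)) => IsOpen X) ?_ hk : IsOpen
      ((pullback.fst Gj.hom (D.map k.hom)).base ⁻¹' SGA3x.neutralSet Gj))
    ext w
    show Groth.Agent.LimDesc.toBase D Gj.hom t ((Groth.Agent.LimDesc.trans D Gj.hom φ) w) ∈ SGA3x.neutralSet Gj ↔ pullback.fst Gj.hom (D.map k.hom) w ∈ SGA3x.neutralSet Gj
    rw [← Scheme.Hom.comp_apply, Groth.Agent.LimDesc.trans_toBase]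
  · rintro ⟨i, f, h⟩
    rw [neutralSet_bc] at h ⊢
    let p : pullback Gj.hom (c.π.app j) ⟶ pullback Gj.hom (D.map f) :=
      pullback.map _ _ _ _ (𝟙 _) (c.π.app i) (𝟙 _) (by simp) (by simp)
    have hp : p ≫ pullback.fst Gj.hom (D.map f) = pullback.fst Gj.hom (c.π.app j) :=
      (pullback.lift_fst _ _ _).trans (Category.comp_id _)
    have := h.preimage p.continuous
    refine (Eq.subst (motive := fun X : Set ↥(pullback Gj.hom (c.π.app j)) => IsOpen X) ?_ this : IsOpen
      ((pullback.fst Gj.hom (c.π.app j)).base ⁻¹' SGA3x.neutralSet Gj))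
    ext w
    show pullback.fst Gj.hom (D.map f) (p w) ∈ SGA3x.neutralSet Gj ↔ pullback.fst Gj.hom (c.π.app j) w ∈ SGA3x.neutralSet Gj
    rw [← Scheme.Hom.comp_apply, hp]

end Groth.Agent.S5400
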