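import Groth.Statements.S5401
import Groth.Agent.GrpDim.Construct
import Groth.Agent.ConsEngine.Stages

set_option autoImplicit false
universe u
open CategoryTheory CategoryTheory.Limits MonoidalCategory CartesianMonoidalCategory MonObj GrpObj AlgebraicGeometry
open SGA3

namespace Groth.Agent.S5401

/-- Let S₀ be a scheme, (S_i) a cofiltered system of quasi-compact quasi-separated S₀-schemes with
affine transition morphisms and S its limit, and G an S₀-group scheme locally of finite presentation
over S₀. Write G⁰(T), for an S₀-scheme T, for the set of S₀-morphisms T → G whose image lies in the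
union of the neutral components of the fibres of G. Then the canonical map colim G⁰(S_i) → G⁰(S) is
surjective: every element of G⁰(S) is the restriction of an element of G⁰(S_i) for some i. (The
published statement asserts that this map is bijective; its injectivity holds for S₀-morphisms to
any scheme locally of finite type over S₀ and is not stated here. The published setting takes S₀
quasi-compact and quasi-separated and the S_i affine over S₀; this row allows any cofiltered system
of quasi-compact quasi-separated S₀-schemes with affine transition morphisms.) -/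
theorem result {I : Type u} [SmallCategory I] [IsCofiltered I]
    (D : I ⥤ Scheme.{u}) (c : Limits.Cone D) (hc : Limits.IsLimit c)
    [∀ (i i' : I) (f : i ⟶ i'), IsAffineHom (D.map f)] [∀ i, CompactSpace (D.obj i)] [∀ i, QuasiSeparatedSpace (D.obj i)]
    (S₀ : Scheme.{u}) (q : ∀ i, D.obj i ⟶ S₀) (hq : ∀ (i i' : I) (f : i ⟶ i'), D.map f ≫ q i' = q i)
    (qlim : c.pt ⟶ S₀) (hqlim : ∀ i, c.π.app i ≫ q i = qlim)
    (G : Over S₀) [GrpObj G] [LocallyOfFinitePresentation G.hom] :
    ∀ u : c.pt ⟶ G.left, u ≫ G.hom = qlim → Set.range u.base ⊆ SGA3x.neutralSet G →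
      ∃ (i : I) (ui : D.obj i ⟶ G.left), ui ≫ G.hom = q i ∧ Set.range ui.base ⊆ SGA3x.neutralSet G ∧ c.π.app i ≫ ui = u := by
  intro u hu hrange
  haveI : ∀ {i i' : I} (f : i ⟶ i'), IsAffineHom (D.map f) := fun f => inferInstance
  obtain ⟨i, ui, hui, huiq⟩ := Scheme.exists_π_app_comp_eq_of_locallyOfFinitePresentation (I := I) (D := D)
    (t := { app := q, naturality := fun a b f => by simp [hq a b f] }) (f := G.hom) (c := c) hc u (by
      ext k; simp [hu, hqlim k])
  have hK : ProCons.IsProConstructible ((ui ⁻¹' SGA3x.neutralSet G)ᶜ : Set (D.obj i)) := by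
    rw [Groth.Agent.ConsTop.isProConstructible_iff_indCons_compl, compl_compl]
    exact Groth.Agent.ConsEngine.indCons_preimage ui (Groth.Agent.GrpDim.isIndConstructible_neutralSet G)
  obtain ⟨j, φ, hj⟩ := Groth.Agent.ConsEngine.exists_preimage_eq_empty D c hc i hK
    (Set.eq_empty_iff_forall_notMem.2 fun z hz => hz (by
      show ui (c.π.app i z) ∈ SGA3x.neutralSet G
      rw [← Scheme.Hom.comp_apply, hui]
      exact hrange ⟨z, rfl⟩))
  refine ⟨j, D.map φ ≫ ui, ?_, ?_, ?_⟩
  · rw [Category.assoc, show ui ≫ G.hom = q i from huiq]
    exact hq j i φ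
  · rintro _ ⟨z, rfl⟩
    by_contra hz
    exact Set.eq_empty_iff_forall_notMem.1 hj z hz
  · rw [← Category.assoc, c.w φ, hui]

end Groth.Agent.S5401
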