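import Groth.Statements.S5402
import Groth.Agent.SlicePt.Nhd
import Groth.Agent.SlicePt.Translate

set_option autoImplicit false
universe u
open CategoryTheory CategoryTheory.Limits MonoidalCategory CartesianMonoidalCategory MonObj GrpObj AlgebraicGeometry
open SGA3

namespace Groth.Agent.S5402

/-- Let G be an S-group scheme locally of finite presentation over S and universally open over S on some
open containing the unit section, acting on an S-scheme X so that G ×_S X → X ×_S X, (g, x) ↦ (gx,
x), is surjective. Let U be an open subset of X, s a point of S such that the fibre X_s is locally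
of finite type over κ(s) and U ∩ X_s is dense in X_s, and A a finite set of points of X_s. Then
there are morphisms S'' → S' → S, the first finite and surjective and the second etale, with exactly
one point of S'' lying over s, and an S-morphism h : S'' → G, such that for every point z of X ×_S
S'' whose image in X lies in A, the image in X of the translate h·z lies in U. -/
theorem result (S : Scheme.{u}) (G X : Over S) [GrpObj G]
    [LocallyOfFinitePresentation G.hom]
    (hGo : ∃ W : G.left.Opens, (∀ p : ↥(𝟙_ (Over S)).left, η[G].left.base p ∈ W) ∧ UniversallyOpen (W.ι ≫ G.hom))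
    (a : AlgGrp.Action G X) (hΦ : Surjective (lift a.act (snd G X)).left)
    (U : X.left.Opens) (s : S) (hft : LocallyOfFiniteType (X.hom.fiberToSpecResidueField s))
    (hdense : X.hom.base ⁻¹' {s} ⊆ closure ((U : Set X.left) ∩ X.hom.base ⁻¹' {s}))
    (A : Set X.left) (hA : A.Finite) (hAs : A ⊆ X.hom.base ⁻¹' {s}) :
    ∃ (S' S'' : Scheme.{u}) (w : S' ⟶ S) (π : S'' ⟶ S') (h : Over.mk (π ≫ w) ⟶ G),
      Etale w ∧ IsFinite π ∧ Surjective π ∧ (∃ s₀ : S'', (π ≫ w).base ⁻¹' {s} = {s₀}) ∧
      ∀ z : ↥(X ⊗ Over.mk (π ≫ w)).left, (fst X (Over.mk (π ≫ w))).left.base z ∈ A →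
        (lift (snd X (Over.mk (π ≫ w)) ≫ h) (fst X (Over.mk (π ≫ w))) ≫ a.act).left.base z ∈ U := by
  haveI := hft
  obtain ⟨W, hW, hWo⟩ := hGo
  haveI := hWo
  obtain ⟨T, hne, hgood⟩ := SlicePt.exists_good_open a hΦ s U hdense A hA hAs W hW
  haveI : UniversallyOpen ((W ⊓ T).ι ≫ G.hom) := by
    rw [← G.left.homOfLE_ι (inf_le_left : W ⊓ T ≤ W), Category.assoc]
    infer_instance
  obtain ⟨S', S'', w, π, h, -, hw, hπ, hsurj, -, hh, s₀, x, hs₀, hhO, hxc, hx⟩ :=
    SlicePt.exists_quasiSection_nhd G.hom (W ⊓ T) s hne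
  refine ⟨S', S'', w, π, Over.homMk h hh, hw, hπ, hsurj, ⟨s₀, hs₀⟩, fun z hz => ?_⟩
  let Z := Over.mk (π ≫ w)
  let h' : Z ⟶ G := Over.homMk h hh
  let o := (lift (snd X Z ≫ h') (fst X Z)).left z
  have hs : (snd X Z).left z = s₀ := by
    have hm : (snd X Z).left z ∈ (π ≫ w).base ⁻¹' {s} := by
      show ((snd X Z).left ≫ Z.hom) z = s
      rw [Over.w (snd X Z), ← Over.w (fst X Z), Scheme.Hom.comp_apply]
      exact hAs hz
    rw [hs₀] at hm
    exact hm
  have hfst : pullback.fst G.hom X.hom o = G.hom.fiberι s x := by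
    show ((lift (snd X Z ≫ h') (fst X Z)).left ≫ pullback.fst G.hom X.hom) z = _
    rw [show (lift (snd X Z ≫ h') (fst X Z)).left ≫ pullback.fst G.hom X.hom = (snd X Z).left ≫ h from
      congrArg (fun k => k.left) (lift_fst (snd X Z ≫ h') (fst X Z)), Scheme.Hom.comp_apply, hs, hx]
  have hsnd : pullback.snd G.hom X.hom o = (fst X Z).left z := by
    show ((lift (snd X Z ≫ h') (fst X Z)).left ≫ pullback.snd G.hom X.hom) z = _
    rw [show (lift (snd X Z ≫ h') (fst X Z)).left ≫ pullback.snd G.hom X.hom = (fst X Z).left from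
      congrArg (fun k => k.left) (lift_snd (snd X Z ≫ h') (fst X Z))]
  exact hgood x hxc (by rw [hx]; exact hhO.2) o hfst (by rw [hsnd]; exact hz)

end Groth.Agent.S5402
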