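import Groth.Statements.S5403
import Groth.Agent.GrpComp.HomogTop

set_option autoImplicit false
universe u
open CategoryTheory CategoryTheory.Limits MonoidalCategory CartesianMonoidalCategory MonObj GrpObj AlgebraicGeometry
open SGA3

namespace Groth.Agent.S5403

/-- Let G be a group scheme over a field k (not assumed of finite type) acting on a quasi-separated
k-scheme X so that G ×_k X → X ×_k X, (g, x) ↦ (gx, x), is surjective, and let x be a k-rational
point of X and C the connected component of X containing x. Then the orbit morphism g ↦ g·x maps the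
irreducible component of G containing the unit point (the underlying set of the neutral component
G⁰) onto C, and for every field extension K of k the inverse image of C in X ⊗_k K is irreducible. -/
theorem result (k : Type u) [Field k] (G X : Over (Spec (CommRingCat.of k)))
    [GrpObj G] [QuasiSeparatedSpace X.left] (a : AlgGrp.Action G X) (hΦ : Surjective (lift a.act (snd G X)).left)
    (x : 𝟙_ (Over (Spec (CommRingCat.of k))) ⟶ X) (pt : ↥(𝟙_ (Over (Spec (CommRingCat.of k)))).left)
    (C0 : Set G.left) (hC0 : C0 ∈ irreducibleComponents ↥G.left) (he : η[G].left.base pt ∈ C0) :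
    (a.orbitMap x).left.base '' C0 = connectedComponent (x.left.base pt) ∧
    ∀ (K : Type u) [Field K] [Algebra k K],
      IsIrreducible ((pullback.fst X.hom (Spec.map (CommRingCat.ofHom (algebraMap k K)))).base ⁻¹' connectedComponent (x.left.base pt)) := by

  obtain ⟨D⟩ := Groth.Agent.GrpComp.nonempty_idComp G
  haveI : IsIso (𝟙_ (Over (Spec (CommRingCat.of k)))).hom :=
    inferInstanceAs (IsIso (𝟙 (Spec (CommRingCat.of k))))
  have hsub : Subsingleton (Spec (CommRingCat.of k)) := inferInstanceAs (Subsingleton (PrimeSpectrum k))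
  have hC : C0 = connectedComponent (Groth.Agent.GrpComp.ept G) := by
    have hpt : η[G].left pt = Groth.Agent.GrpComp.ept G :=
      congrArg η[G].left (Subsingleton.elim (α := Spec (CommRingCat.of k)) _ _)
    rw [(Groth.Agent.GrpComp.connectedComponent_ept G).1, ← hpt]
    exact Groth.Agent.GrpComp.eq_irreducibleComponent' G hC0 he
  have h2 := Groth.Agent.GrpComp.connectedComponent_eq_homog a hΦ (x.left pt)
  refine ⟨?_, fun K _ _ => ?_⟩
  · have h := Groth.Agent.GrpComp.component_eq_range_psi a hΦ D (g := 𝟙 _) x pt
    change _ = connectedComponent (x.left pt)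
    rw [h2, h, hC, ← D.range]
    have key : Groth.Agent.GrpComp.psi a D x = fst D.obj (𝟙_ _) ≫ D.incl ≫ a.orbitMap x := by
      simp only [Groth.Agent.GrpComp.psi, AlgGrp.Action.orbitMap, comp_lift_assoc, Category.comp_id,
        ← Category.assoc]
      rw [comp_lift, Category.comp_id, ← Category.assoc,
        toUnit_unique ((fst D.obj (𝟙_ _) ≫ D.incl) ≫ toUnit G) (snd D.obj (𝟙_ _))]
    change (a.orbitMap x).left '' Set.range D.incl.left =
      Set.range (Groth.Agent.GrpComp.psi a D x).left
    rw [key]
    refine subset_antisymm ?_ ?_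
    · rintro _ ⟨_, ⟨g, rfl⟩, rfl⟩
      refine ⟨(lift (𝟙 D.obj) (toUnit D.obj)).left g, ?_⟩
      rw [← Scheme.Hom.comp_apply, ← Over.comp_left, lift_fst_assoc, Category.id_comp,
        Over.comp_left, Scheme.Hom.comp_apply]
    · rintro _ ⟨g, rfl⟩
      exact ⟨_, ⟨(fst D.obj (𝟙_ _)).left g, rfl⟩, rfl⟩
  · change IsIrreducible (_ ⁻¹' connectedComponent (x.left pt))
    rw [h2]
    exact Groth.Agent.GrpComp.isIrreducible_preimage_component a hΦ x pt

end Groth.Agent.S5403
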