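import Groth.Statements.S5422
import Groth.Agent.UnipConil.Comodules

set_option autoImplicit false
universe u
open TensorProduct
open SGA3t2b

namespace Groth.Agent.S5422

open TensorProduct Coalgebra Groth.Agent.Comod
open scoped Groth.Agent.Comod

/-- Coefficients of a vector fixed by the kernel come from the quotient group. -/
theorem coeff_mem_range {k : Type u} [Field k] {A C : Type u} [CommRing A] [HopfAlgebra k A] [CommRing C]
    [HopfAlgebra k C] (ψ : C →ₐc[k] A) (J : Ideal A) [J.IsHopfIdeal k]
    (hJ : J = Ideal.map (ψ : C →+* A) (RingHom.ker (Bialgebra.counitAlgHom k C)))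
    {V : Type u} [AddCommGroup V] [Module k V] [HopfRep.Comod k A V] {v : V}
    (hfix : (Ideal.Quotient.mkₐ k J).toLinearMap.lTensor V (HopfRep.Comod.coact (k := k) (A := A) v) =
      v ⊗ₜ[k] (1 : A ⧸ J)) (φ : V →ₗ[k] k) :
    ∃ x : C, ψ x = cL φ (HopfRep.Comod.coact (k := k) (A := A) v) := by
  refine UnipFilt.coinv_mem (HopfRange.isSubHopf_range ψ) J ?_ ?_
  · rw [hJ, Ideal.map_le_iff_le_comap]
    exact fun b hb => Ideal.subset_span ⟨⟨b, rfl⟩, (CoalgHomClass.counit_comp_apply ψ b).trans hb⟩
  · rw [mem_range_lTensor_iff]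
    intro θ
    rw [map_sub, cL_comul, cL_tmul]
    have e1 : Ideal.Quotient.mkₐ k J (cL (φ ∘ₗ dact k A V (WithConv.toConv θ)) (HopfRep.Comod.coact (k := k) (A := A) v)) =
        cL (φ ∘ₗ dact k A V (WithConv.toConv θ)) (v ⊗ₜ[k] (1 : A ⧸ J)) := by
      rw [← hfix, cL_lTensor]; rfl
    rw [cL_tmul] at e1
    refine Ideal.Quotient.eq.1 (e1.trans ?_)
    rw [show Ideal.Quotient.mk J (θ (cL φ (HopfRep.Comod.coact (k := k) (A := A) v)) • (1 : A)) =
      θ (cL φ (HopfRep.Comod.coact (k := k) (A := A) v)) • (1 : A ⧸ J) from rfl]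
    congr 1
    exact (apply_cL_coact (WithConv.toConv θ) φ v).symm


/-- Parts (ii), (iii) and (iv) (Hopf-algebra form; 'unipotent' in the fixed-vector form: every non-zero
finite-dimensional representation has a non-zero fixed vector, which is equivalent to the published
definition for affine algebraic groups): let k be a field and A the coordinate Hopf algebra of an
affine algebraic k-group E. (ii) If E is unipotent, so is every closed subgroup Spec B (B a Hopf
quotient of A, φ : A → B a surjective bialgebra map). (iii) If E is unipotent, so is every quotient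
group Spec C (ψ : C → A an injective bialgebra map). (iv) If ψ : C → A is an injective bialgebra map
(quotient U = Spec C), J the Hopf ideal of A generated by the image of the augmentation ideal of C
(kernel N = Spec (A/J)), and both U and N are unipotent, then E is unipotent. -/
theorem result (k : Type u) [Field k] (A : Type u) [CommRing A] [HopfAlgebra k A] [Algebra.FiniteType k A] :
    (∀ (B : Type u) [CommRing B] [HopfAlgebra k B] [Algebra.FiniteType k B] (φ : A →ₐc[k] B),
      Function.Surjective φ → HopfRep.IsUnipotent k A → HopfRep.IsUnipotent k B) ∧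
    (∀ (C : Type u) [CommRing C] [HopfAlgebra k C] [Algebra.FiniteType k C] (ψ : C →ₐc[k] A),
      Function.Injective ψ → HopfRep.IsUnipotent k A → HopfRep.IsUnipotent k C) ∧
    (∀ (C : Type u) [CommRing C] [HopfAlgebra k C] [Algebra.FiniteType k C] (ψ : C →ₐc[k] A)
      (J : Ideal A) [J.IsHopfIdeal k],
      Function.Injective ψ → J = Ideal.map (ψ : C →+* A) (RingHom.ker (Bialgebra.counitAlgHom k C)) →
      HopfRep.IsUnipotent k C → HopfRep.IsUnipotent k (A ⧸ J) → HopfRep.IsUnipotent k A) := by
  refine ⟨fun B _ _ _ φ hφ hU => ?_, fun C _ _ _ ψ hψ hU => ?_, fun C _ _ _ ψ J _ hψ hJ hUC hUJ => ?_⟩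
  · exact UnipConil.isUnipotent_of_conil (UnipConil.isConil_of_surjective φ hφ (UnipConil.isConil_of_unipotent hU))
  · exact UnipConil.isUnipotent_of_conil (UnipConil.isConil_of_injective ψ hψ (UnipConil.isConil_of_unipotent hU))
  · intro V _ _ c hfin hnt
    let π : A →ₐc[k] A ⧸ J := Bialgebra.Quotient.mkBialgHom J
    obtain ⟨v, hv, hv0⟩ := (Submodule.ne_bot_iff _).1
      (@hUJ V _ _ (Comod.pushforward π.toCoalgHom c) hfin hnt)
    refine UnipConil.exists_fixed_of_coeff hv0 fun φ => ?_
    obtain ⟨x, hx⟩ := coeff_mem_range ψ J hJ (v := v) hv φ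
    obtain ⟨n, hn⟩ := UnipConil.isConil_of_unipotent hUC x
    exact ⟨n, hx ▸ UnipConil.filt_map' ψ n x hn⟩

end Groth.Agent.S5422
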