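import Groth.Statements.S5425
import Groth.Agent.UnipLie.Mu
import Groth.Agent.UnipLie.LieHopf
import Groth.Agent.UnipLie.Connected
import Groth.Agent.UnipLie.BaseChange

set_option autoImplicit false
universe u
open TensorProduct
open SGA3t2b

namespace Groth.Agent.S5425

/-- (i) ⟺ (iv) ⟺ (v): let k be a field of characteristic p > 0 with algebraic closure k̄, and A a
finitely generated commutative Hopf algebra over k with no idempotents other than 0 and 1 (a
connected affine algebraic group G). Then the following are equivalent: (i) G is unipotent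
(fixed-vector form); (iv) G_{k̄} contains no closed subgroup isomorphic to μ_p; (v) the Lie algebra
of G is a unipotent p-Lie algebra: for every ε-derivation D : A → k some p^n-fold convolution power
of D (n > 0) vanishes. -/
theorem result (k : Type u) [Field k] (p : ℕ) [Fact p.Prime] [CharP k p] (A : Type u) [CommRing A] [HopfAlgebra k A]
    [Algebra.FiniteType k A] (hconn : ∀ e : A, IsIdempotentElem e → e = 0 ∨ e = 1) :
    (HopfRep.IsUnipotent k A ↔
      ¬ ∃ φ : (AlgebraicClosure k ⊗[k] A) →ₐc[AlgebraicClosure k]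
        MonoidAlgebra (AlgebraicClosure k) (Multiplicative (ZMod p)), Function.Surjective φ) ∧
    (HopfRep.IsUnipotent k A ↔
      ∀ D : LieHopf.Lie k A, ∃ n : ℕ, 0 < n ∧
        LieHopf.convPow (D.toLinearMap.restrictScalars k ∘ₗ LinearMap.id) (p ^ n) = 0) := by
  have hK : CharP (AlgebraicClosure k) p :=
    charP_of_injective_algebraMap (algebraMap k (AlgebraicClosure k)).injective p
  have hback : Groth.Agent.UnipLie.NilLie (AlgebraicClosure k) (AlgebraicClosure k ⊗[k] A) →
      HopfRep.IsUnipotent k A := fun h =>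
    Groth.Agent.UnipConil.isUnipotent_of_conil (Groth.Agent.UnipConil.isConil_of_baseChange (AlgebraicClosure k)
      (Groth.Agent.UnipConil.isConil_of_unipotent (Groth.Agent.UnipLie.isUnipotent_of_nilLie_connected p h
        (Groth.Agent.UnipLie.idem_trivial_geometric hconn))))
  refine ⟨⟨fun hU => ?_, fun h => ?_⟩, ⟨fun hU D => ?_, fun h => ?_⟩⟩
  · exact Groth.Agent.UnipLie.no_mu_of_isConil (Groth.Agent.UnipConil.isConil_baseChange (AlgebraicClosure k)
      (Groth.Agent.UnipConil.isConil_of_unipotent hU)) (Fact.out : p.Prime).one_lt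
  · refine hback (by_contra fun hn => h ?_)
    exact Groth.Agent.UnipLie.exists_mu_of_not_nilLie p hn
  · obtain ⟨n, hn, h0⟩ := Groth.Agent.UnipLie.pow_eq_zero_of_isConil p
      (Groth.Agent.UnipConil.isConil_of_unipotent hU) (Groth.Agent.UnipLie.eDer_lie D)
    exact ⟨n, hn, (Groth.Agent.UnipLie.convPow_eq_zero_iff _ _).mpr h0⟩
  · refine hback (Groth.Agent.UnipLie.nilLie_baseChange (AlgebraicClosure k) p fun X hX => ?_)
    obtain ⟨D, hD⟩ := Groth.Agent.UnipLie.exists_lie hX
    obtain ⟨n, -, hn⟩ := h D
    refine ⟨p ^ n, ?_⟩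
    have h0 := (Groth.Agent.UnipLie.convPow_eq_zero_iff _ _).mp hn
    rw [show X = WithConv.toConv (Groth.Agent.UnipLie.lieFun D) from by rw [hD]]
    exact h0

end Groth.Agent.S5425
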