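import Groth.Statements.S5432
import Groth.Agent.UnipMult.Eigen
import Groth.Agent.HopfDomain.Basic
import Groth.Agent.SmoothRed.Basic
import Groth.Agent.SchFinB.Schematic
import Groth.Agent.Rigid.FibreTranslate

set_option autoImplicit false
universe u
open TensorProduct
open SGA3t2b

namespace Groth.Agent.S5432

open AlgebraicGeometry CategoryTheory CategoryTheory.Limits
set_option backward.isDefEq.respectTransparency false

/-- Let k be a field, C a finitely generated commutative Hopf algebra which is formally smooth with no
idempotents other than 0 and 1 and unipotent in the fixed-vector sense (a smooth connected unipotent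
algebraic group U), and B a commutative Hopf algebra of multiplicative type (isomorphic to a group
algebra after a faithfully flat extension of k; the group H, not assumed of finite type). Then every
morphism of k-schemes U → H is constant: every k-algebra map f : B → C satisfies f(b) = ε_C(f(b)) ·
1. -/
theorem result (k : Type u) [Field k] (C B : Type u) [CommRing C] [HopfAlgebra k C] [Algebra.FiniteType k C]
    [Algebra.FormallySmooth k C] (hconn : ∀ e : C, IsIdempotentElem e → e = 0 ∨ e = 1)
    (hU : HopfRep.IsUnipotent k C) [CommRing B] [HopfAlgebra k B]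
    (hB : SGA3b.IsMultTypeConst k B) (f : B →ₐ[k] C) :
    ∀ b : B, f b = algebraMap k C (Bialgebra.counitAlgHom k C (f b)) := by
  obtain ⟨R', _, _, hff, M, _, ⟨e⟩⟩ := hB
  haveI : Nontrivial R' := (FaithfulSMul.algebraMap_injective k R').nontrivial
  obtain ⟨m, hm⟩ := Ideal.exists_maximal R'
  letI := Ideal.Quotient.field m
  let K := AlgebraicClosure (R' ⧸ m)
  let σ : R' →ₐ[k] K := (IsScalarTower.toAlgHom k (R' ⧸ m) K).comp (Ideal.Quotient.mkₐ k m)
  let Φ : R' ⊗[k] B →ₐ[k] K ⊗[k] B := Algebra.TensorProduct.map σ (AlgHom.id k B)
  let S : Submodule K (K ⊗[k] B) := Submodule.span K {u | IsUnit u}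
  have hS : ∀ b : B, (1 : K) ⊗ₜ[k] b ∈ S := by
    intro b
    have h : ∀ y : MonoidAlgebra R' M, Φ (e.symm y) ∈ S := by
      intro y
      induction y using MonoidAlgebra.induction_linear with
      | zero => simp
      | add p q hp hq => rw [map_add, map_add]; exact add_mem hp hq
      | single x r =>
        have hsr : (MonoidAlgebra.single x r : MonoidAlgebra R' M) = r • MonoidAlgebra.single x 1 := by simp
        have hu : IsUnit (Φ (e.symm (MonoidAlgebra.single x 1))) :=
          (((Group.isUnit x).map (MonoidAlgebra.of R' M)).map e.symm).map Φ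
        have hlin : ∀ z : R' ⊗[k] B, Φ (r • z) = σ r • Φ z := by
          intro z
          induction z using TensorProduct.induction_on with
          | zero => simp
          | tmul p q => simp [Φ, TensorProduct.smul_tmul']
          | add p q hp hq => simp only [smul_add, map_add, hp, hq]
        rw [hsr, map_smul, hlin]
        exact S.smul_mem _ (Submodule.subset_span hu)
    have := h (e ((1 : R') ⊗ₜ[k] b))
    rw [show e.symm (e ((1 : R') ⊗ₜ[k] b)) = (1 : R') ⊗ₜ[k] b from e.toLinearEquiv.symm_apply_apply _] at this
    simpa [Φ] using this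
  haveI : Nontrivial C := (Bialgebra.counitAlgHom k C).toRingHom.domain_nontrivial
  haveI : Algebra.FinitePresentation k C := Algebra.FinitePresentation.of_finiteType.1 inferInstance
  haveI : Algebra.Smooth k C := ⟨inferInstance, inferInstance⟩
  haveI : _root_.IsReduced (K ⊗[k] C) := Groth.Agent.SmoothRed.isReduced_of_smooth K (K ⊗[k] C)
  have hconnK : ∀ x : K ⊗[k] C, IsIdempotentElem x → x = 0 ∨ x = 1 := by
    haveI : ConnectedSpace (PrimeSpectrum C) :=
      (Groth.Agent.SchFinB.connectedSpace_iff_idem C).2 ⟨inferInstance, hconn⟩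
    haveI : ConnectedSpace ↥(Spec (CommRingCat.of C)) := inferInstanceAs (ConnectedSpace (PrimeSpectrum C))
    let f := Spec.map (CommRingCat.ofHom (algebraMap k C))
    let p := Spec.map (CommRingCat.ofHom (Bialgebra.counitAlgHom k C).toRingHom)
    have hp : p ≫ f = 𝟙 _ := by
      rw [← Spec.map_comp, ← Spec.map_id]
      congr 1
      ext x : 2
      exact (Bialgebra.counitAlgHom k C).commutes x
    haveI := Groth.Agent.Rigid.geometricallyConnected_of_section f p hp
    let g := Spec.map (CommRingCat.ofHom (algebraMap k K))
    haveI : ConnectedSpace ↥(pullback f g) :=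
      pullback_of_geometrically GeometricallyConnected.geometrically_connectedSpace K g
    have h2 : ConnectedSpace (PrimeSpectrum (K ⊗[k] C)) :=
      ((pullbackSymmetry f g) ≪≫ pullbackSpecIso k K C).hom.homeomorph.connectedSpace_iff.1 ‹_›
    exact ((Groth.Agent.SchFinB.connectedSpace_iff_idem _).1 h2).2
  let fK : K ⊗[k] B →ₐ[K] K ⊗[k] C := Algebra.TensorProduct.map (AlgHom.id K K) f
  have key : ∀ y ∈ S, fK y = algebraMap K _ (Bialgebra.counitAlgHom K (K ⊗[k] C) (fK y)) := by
    intro y hy
    induction hy using Submodule.span_induction with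
    | mem u hu =>
      have hv : IsUnit (fK u) := IsUnit.map fK hu
      have hε : Bialgebra.counitAlgHom K (K ⊗[k] C) (fK u) ≠ 0 := (hv.map _).ne_zero
      set c := Bialgebra.counitAlgHom K (K ⊗[k] C) (fK u)
      have hw : IsUnit (c⁻¹ • fK u) := by
        rw [Algebra.smul_def]
        exact ((inv_ne_zero hε).isUnit.map _).mul hv
      have h1 : Bialgebra.counitAlgHom K (K ⊗[k] C) (c⁻¹ • fK u) = 1 := by
        rw [map_smul, smul_eq_mul]; exact inv_mul_cancel₀ hε
      have h2 := Groth.Agent.HopfDomain.comul_unit hconnK hw h1
      have h3 := Groth.Agent.UnipMult.groupLike_eq_one hU _ h2 hw.ne_zero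
      rw [Algebra.algebraMap_eq_smul_one, ← h3, smul_inv_smul₀ hε]
    | zero => simp
    | add p q _ _ hp hq => simp only [map_add, ← hp, ← hq]
    | smul r p _ hp => rw [map_smul, map_smul, smul_eq_mul, map_mul, ← hp, ← Algebra.smul_def]
  intro b
  have h := key _ (hS b)
  apply Algebra.TensorProduct.includeRight_injective (A := K) (B := C) (algebraMap k K).injective
  simp only [Algebra.TensorProduct.includeRight_apply]
  simp only [fK, Algebra.TensorProduct.map_tmul, AlgHom.id_apply] at h
  rw [h, show Bialgebra.counitAlgHom K (K ⊗[k] C) ((1 : K) ⊗ₜ[k] f b) =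
      algebraMap k K (Bialgebra.counitAlgHom k C (f b)) by simp [Algebra.algebraMap_eq_smul_one],
    ← IsScalarTower.algebraMap_apply]
  exact ((Algebra.TensorProduct.includeRight : C →ₐ[k] K ⊗[k] C).commutes _).symm

end Groth.Agent.S5432
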