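import Groth.Statements.S5434
import Mathlib.AlgebraicGeometry.Morphisms.Separated
import Mathlib.AlgebraicGeometry.Morphisms.ClosedImmersion
import Mathlib.AlgebraicGeometry.Fiber
import Mathlib.CategoryTheory.Comma.Over.Pullback

set_option autoImplicit false
universe u
open CategoryTheory MonoidalCategory CartesianMonoidalCategory MonObj GrpObj AlgebraicGeometry CategoryTheory.Limits
open SGA3x

namespace Groth.Agent.S5434

/-- Let X be an S-scheme and U an open subscheme of X which is schematically dense in X relative to S: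
for every S′ → S the preimage of U in X ×_S S′ is schematically dense (restriction of functions to
it is injective on every open). Let Y be an S-scheme whose fibres Y_s are separated (over κ(s)). If
two S-morphisms f, g : X → Y agree on U, then f = g. -/
theorem result (S : Scheme.{u}) (X Y : Over S) (U : X.left.Opens) (hU : (∀ (S' : Scheme.{u}) (g : S' ⟶ S), CInt.IsSchematicallyDense ((pullback.fst X.hom g) ⁻¹ᵁ U)))
    (hY : ∀ s : S, IsSeparated (pullback.snd Y.hom (S.fromSpecResidueField s)))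
    (f g : X ⟶ Y) (h : U.ι ≫ f.left = U.ι ≫ g.left) : f = g := by
  -- schematically dense opens are dense
  have hdense : ∀ {P : Scheme.{u}} (O : P.Opens), CInt.IsSchematicallyDense O → Dense (O : Set P) := by
    intro P O hO
    rw [dense_iff_inter_open]
    intro A hA ⟨a, ha⟩
    by_contra hne
    rw [Set.not_nonempty_iff_eq_empty] at hne
    have he : (⟨A, hA⟩ : P.Opens) ⊓ O = ⊥ := TopologicalSpace.Opens.ext hne
    have : Subsingleton Γ(P, (⟨A, hA⟩ : P.Opens) ⊓ O) := by rw [he]; infer_instance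
    have h01 : (0 : Γ(P, ⟨A, hA⟩)) = 1 := hO ⟨A, hA⟩ (Subsingleton.elim _ _)
    have := congrArg (P.presheaf.germ ⟨A, hA⟩ a ha).hom h01
    rw [map_zero, map_one] at this
    exact zero_ne_one this
  -- equality on points
  have hpt : ∀ x, f.left x = g.left x := by
    intro x
    let s := X.hom x
    let π := S.fromSpecResidueField s
    let fs := (Over.pullback π).map f
    let gs := (Over.pullback π).map g
    let Us : ((Over.pullback π).obj X).left.Opens := (pullback.fst X.hom π) ⁻¹ᵁ U
    have : IsSeparated ((Over.pullback π).obj Y).hom := hY s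
    let E := equalizer fs gs
    let ι₀ : E.left ⟶ ((Over.pullback π).obj X).left := (equalizer.ι fs gs).left
    have hfU : ∀ (k : X ⟶ Y), ((Over.pullback π).map k).left ≫ pullback.fst Y.hom π =
        pullback.fst X.hom π ≫ k.left := fun k => by
      simp only [Over.pullback_map_left]; exact pullback.lift_fst _ _ _
    have heq : Us.ι ≫ fs.left = Us.ι ≫ gs.left := by
      let r : (Us : Scheme) ⟶ (U : Scheme) := IsOpenImmersion.lift U.ι (Us.ι ≫ pullback.fst X.hom π) (by
        rintro _ ⟨z, rfl⟩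
        rw [Scheme.Opens.range_ι]
        exact z.2)
      have hr : r ≫ U.ι = Us.ι ≫ pullback.fst X.hom π := IsOpenImmersion.lift_fac _ _ _
      apply pullback.hom_ext
      · simp only [Category.assoc, fs, gs]
        rw [hfU f, hfU g, ← reassoc_of% hr, ← reassoc_of% hr, h]
      · have e1 : fs.left ≫ pullback.snd Y.hom π = pullback.snd X.hom π := Over.w fs
        have e2 : gs.left ≫ pullback.snd Y.hom π = pullback.snd X.hom π := Over.w gs
        simp only [Category.assoc]
        exact congrArg (Us.ι ≫ ·) (e1.trans e2.symm)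
    have hsurj : Set.range ι₀ = Set.univ := by
      have hcl : IsClosed (Set.range ι₀) := (Scheme.Hom.isClosedEmbedding ι₀).isClosed_range
      refine Set.eq_univ_of_univ_subset ?_
      rw [← (hdense Us (hU _ π)).closure_eq]
      refine closure_minimal (fun z hz => ?_) hcl
      let v : Over.mk (Us.ι ≫ ((Over.pullback π).obj X).hom) ⟶ (Over.pullback π).obj X := Over.homMk Us.ι
      let l := equalizer.lift v (show v ≫ fs = v ≫ gs by ext1; exact heq)
      refine ⟨l.left ⟨z, hz⟩, ?_⟩
      have hl : l.left ≫ ι₀ = Us.ι :=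
        congrArg (fun k : Over.mk (Us.ι ≫ ((Over.pullback π).obj X).hom) ⟶ _ => k.left) (equalizer.lift_ι v _)
      rw [← Scheme.Hom.comp_apply, hl]
      rfl
    obtain ⟨z, hz⟩ : x ∈ Set.range (pullback.fst X.hom π) := by
      rw [show Set.range (pullback.fst X.hom π) = X.hom ⁻¹' {s} from X.hom.range_fiberι s]; rfl
    obtain ⟨w, hw⟩ : z ∈ Set.range ι₀ := hsurj ▸ Set.mem_univ z
    have hc : ι₀ ≫ fs.left = ι₀ ≫ gs.left :=
      congrArg (fun k : E ⟶ _ => k.left) (equalizer.condition fs gs)
    have h3 := congrArg (fun k => (k ≫ pullback.fst Y.hom π) w) hc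
    simp only [Category.assoc, fs, gs, hfU, Scheme.Hom.comp_apply] at h3
    rwa [hw, hz] at h3
  -- schematic density in `X` itself
  have hX : CInt.IsSchematicallyDense U := by
    intro V
    have hp := hU S (𝟙 S)
    let p := pullback.fst X.hom (𝟙 S)
    have h1 := hp (p ⁻¹ᵁ V)
    have hiso : Function.Bijective (p.app V).hom := ConcreteCategory.bijective_of_isIso (p.app V)
    have hnat : (X.left.presheaf.map (homOfLE (inf_le_left : V ⊓ U ≤ V)).op) ≫ p.app (V ⊓ U) =
        p.app V ≫ (pullback X.hom (𝟙 S)).presheaf.map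
          (homOfLE (inf_le_left : p ⁻¹ᵁ V ⊓ p ⁻¹ᵁ U ≤ p ⁻¹ᵁ V)).op := p.naturality _
    intro a b hab
    refine hiso.1 (h1 ?_)
    have := congrArg (p.app (V ⊓ U)).hom hab
    have ea := congrArg (fun k => k.hom a) hnat
    have eb := congrArg (fun k => k.hom b) hnat
    exact ea.symm.trans (this.trans eb)
  -- locally on `X`
  apply Over.OverMorphism.ext
  suffices key : ∀ x, ∃ W : X.left.Opens, x ∈ W ∧ W.ι ≫ f.left = W.ι ≫ g.left by
    choose W hxW hW using key
    refine (X.left.openCoverOfIsOpenCover W ?_).hom_ext _ _ hW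
    exact TopologicalSpace.IsOpenCover.mk (top_le_iff.1 fun x _ => TopologicalSpace.Opens.mem_iSup.2 ⟨x, hxW x⟩)
  intro x
  obtain ⟨V, hV, hxV, -⟩ := exists_isAffineOpen_mem_and_subset (X := Y.left) (x := f.left x) (U := ⊤) trivial
  obtain ⟨W, hW, hxW, eW⟩ := exists_isAffineOpen_mem_and_subset (X := X.left) (x := x) (U := f.left ⁻¹ᵁ V) hxV
  have eW' : W ≤ g.left ⁻¹ᵁ V := fun z hz => by
    change g.left z ∈ V
    rw [← hpt z]
    exact eW hz
  refine ⟨W, hxW, ?_⟩
  have hφ : ∀ (k : X.left ⟶ Y.left) (e : W ≤ k ⁻¹ᵁ V),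
      W.ι ≫ k = hW.isoSpec.hom ≫ Spec.map (k.appLE V W e) ≫ hV.fromSpec := by
    intro k e
    rw [← hW.isoSpec_hom_fromSpec, Category.assoc]
    congr 1
    exact (hV.SpecMap_appLE_fromSpec k hW e).symm
  rw [hφ _ eW, hφ _ eW']
  congr 3
  ext a
  apply hX W
  have hle : W ⊓ U ≤ U.ι.opensRange := by rw [Scheme.Opens.opensRange_ι]; exact inf_le_right
  haveI := Scheme.Hom.isIso_app U.ι (W ⊓ U) hle
  refine (ConcreteCategory.bijective_of_isIso (U.ι.app (W ⊓ U))).1 ?_
  have key : ∀ (k : X.left ⟶ Y.left) (e : W ≤ k ⁻¹ᵁ V),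
      k.appLE V W e ≫ X.left.presheaf.map (homOfLE (inf_le_left : W ⊓ U ≤ W)).op ≫ U.ι.app (W ⊓ U) =
        (U.ι ≫ k).appLE V (U.ι ⁻¹ᵁ (W ⊓ U)) (fun z hz => e hz.1) := by
    intro k e
    rw [← Category.assoc, Scheme.Hom.appLE_map, Scheme.Hom.app_eq_appLE, Scheme.Hom.appLE_comp_appLE]
  have e1 := key f.left eW
  have e2 := key g.left eW'
  have e3 : (U.ι ≫ f.left).appLE V (U.ι ⁻¹ᵁ (W ⊓ U)) (fun z hz => eW hz.1) =
      (U.ι ≫ g.left).appLE V (U.ι ⁻¹ᵁ (W ⊓ U)) (fun z hz => eW' hz.1) := by
    simp only [h]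
  exact congrArg (fun k => k.hom a) ((e1.trans e3).trans e2.symm)

end Groth.Agent.S5434
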