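import Groth.Statements.S5447
import Groth.Agent.RootSys.Partition

set_option autoImplicit false
open RootD

namespace Groth.Agent.S5447

open Groth.Agent.RootSys

/-- If every root can be written in exactly one way as an integer combination of the roots indexed by Δ
with coefficients all of the same sign, then these roots are linearly independent (so Δ is a system
of simple roots) and indivisible. -/
theorem result {ι M N : Type*} [AddCommGroup M] [AddCommGroup N]
    (P : RootPairing ι ℤ M N) [Finite ι] (Δ : Set ι)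
    (h : ∀ k : ι, ∃! c : ι →₀ ℤ, (↑c.support ⊆ Δ ∧ ((∀ j, 0 ≤ c j) ∨ (∀ j, c j ≤ 0)) ∧
      Finsupp.linearCombination ℤ P.root c = P.root k)) :
    RootD.IsSimpleSys P Δ ∧ ∀ i ∈ Δ, RootD.IsIndiv P i := by
  classical
  have hu : ∀ k (c d : ι →₀ ℤ), ↑c.support ⊆ Δ → ↑d.support ⊆ Δ → ((∀ a, 0 ≤ c a) ∨ ∀ a, c a ≤ 0) →
      ((∀ a, 0 ≤ d a) ∨ ∀ a, d a ≤ 0) → lc P c = P.root k → lc P d = P.root k → c = d :=
    fun k c d hc hd sc sd ec ed => (h k).unique ⟨hc, sc, ec⟩ ⟨hd, sd, ed⟩
  have hcov : ∀ k, P.root k ∈ RootD.natSpan P Δ ∨ -P.root k ∈ RootD.natSpan P Δ := fun k => by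
    obtain ⟨c, ⟨hc, hs, he⟩, -⟩ := h k
    rcases hs with hs | hs
    · exact Or.inl (he ▸ lc_mem_natSpan hc hs)
    · refine Or.inr ?_
      rw [← he, ← map_neg]
      exact lc_mem_natSpan (by simpa using hc) fun a => by simpa using hs a
  have hS : RootD.IsPosSys P (RootD.posOf P Δ) := by
    refine (isPosSys_iff _).mpr ⟨fun k hk hk' => ?_, fun k => (hcov k).imp_right fun hh => ?_,
      fun a b k ha hb hk => show P.root k ∈ RootD.natSpan P Δ from hk ▸ add_mem ha hb⟩
    · obtain ⟨c, hc, hnn, he⟩ := exists_nonneg_coef (show P.root k ∈ RootD.natSpan P Δ from hk)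
      obtain ⟨d, hd, hnn', he'⟩ := exists_nonneg_coef (show P.root (opp P k) ∈ RootD.natSpan P Δ from hk')
      have e := hu k c (-d) hc (by simpa using hd) (Or.inl hnn) (Or.inr fun a => by simpa using hnn' a) he
        (by rw [lc, map_neg, ← lc, he', root_opp, neg_neg])
      have hc0 : c = 0 := Finsupp.ext fun a => by
        have e1 := DFunLike.congr_fun e a
        rw [Finsupp.neg_apply] at e1
        have := hnn a
        have := hnn' a
        rw [Finsupp.zero_apply]
        omega
      rw [hc0, lc, map_zero] at he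
      exact P.ne_zero k he.symm
    · show P.root (opp P k) ∈ RootD.natSpan P Δ
      rw [root_opp]; exact hh
  have hsup : ∀ i ∈ Δ, ↑(Finsupp.single i (1 : ℤ)).support ⊆ Δ := fun i hi a ha =>
    Finset.mem_singleton.mp (Finsupp.support_single_subset ha) ▸ hi
  have hob : ∀ i ∈ Δ, ∀ j ∈ Δ, i ≠ j → P.pairing i j ≤ 0 := by
    intro i hi j hj hij
    by_contra! hp
    obtain ⟨l, hl⟩ := sub_root_mem hp hij
    have key : ∀ a b m, a ∈ Δ → b ∈ Δ → a ≠ b → P.root a = P.root m + P.root b →
        P.root m ∈ RootD.natSpan P Δ → False := by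
      intro a b m ha hb hab e hm
      obtain ⟨c, hc, hnn, he⟩ := exists_nonneg_coef hm
      have e' := hu a (Finsupp.single a 1) (c + Finsupp.single b 1) (hsup a ha)
        (fun x hx => (Finset.mem_union.mp (Finsupp.support_add hx)).elim (fun h' => hc h') fun h' => hsup b hb h')
        (Or.inl fun x => by rw [Finsupp.single_apply]; split_ifs <;> norm_num)
        (Or.inl fun x => by
          have := hnn x
          rw [Finsupp.add_apply, Finsupp.single_apply]
          split_ifs <;> omega)
        (by simp [lc]) (by rw [lc, map_add, ← lc, he, e]; simp)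
      have e2 := DFunLike.congr_fun e' b
      rw [Finsupp.single_eq_of_ne hab.symm, Finsupp.add_apply, Finsupp.single_eq_same] at e2
      have := hnn b
      omega
    rcases hcov l with hp' | hp'
    · exact key i j l hi hj hij (by rw [hl]; abel) hp'
    · exact key j i (opp P l) hj hi hij.symm (by rw [root_opp, hl]; abel) (by rw [root_opp]; exact hp')
  have hsys : RootD.IsSimpleSys P Δ :=
    ⟨linIndepOn_of_obtuse hS (fun i hi => root_mem_natSpan hi) hob, hcov⟩
  exact ⟨hsys, fun i hi => isIndiv_of_mem hsys hi⟩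

end Groth.Agent.S5447
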