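import Groth.Statements.S5451
import Groth.Agent.RootSys.Weyl

set_option autoImplicit false
open RootD

namespace Groth.Agent.S5451

open Groth.Agent.RootSys

/-- If a root is a positive integer combination of roots α_i, then it can be reached from 0 by
successively adding roots taken among the α_i in such a way that every partial sum is a root. -/
theorem result {ι M N : Type*} [AddCommGroup M] [AddCommGroup N]
    (P : RootPairing ι ℤ M N) [Finite ι] {n : ℕ} (a : Fin n → ι) (m : Fin n → ℕ)
    (hm : ∀ i, 0 < m i) (k : ι) (hk : P.root k = ∑ i, m i • P.root (a i)) :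
    ∃ (l : ℕ) (b : Fin l → Fin n), 0 < l ∧
      (∀ p : Fin l, ∃ j : ι, P.root j = ∑ q ∈ Finset.univ.filter (fun q : Fin l => q.val ≤ p.val), P.root (a (b q))) ∧
      P.root k = ∑ q, P.root (a (b q)) := by
  classical
  have key : ∀ (s : Multiset (Fin n)) (k : ι), (s.map fun i => P.root (a i)).sum = P.root k →
      ∃ L : List (Fin n), L ≠ [] ∧ (∀ p, 0 < p → p ≤ L.length →
        ∃ j, P.root j = ((L.take p).map fun i => P.root (a i)).sum) ∧
        P.root k = (L.map fun i => P.root (a i)).sum := by
    intro s
    induction hn : s.card using Nat.strong_induction_on generalizing s with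
    | h N ih =>
      intro k hk
      obtain ⟨x, hx, hp⟩ := exists_pairing_pos (P := P) (s := s.map a) (k := k) one_pos (by
        rw [one_smul, sumRoots, Multiset.map_map]; exact hk.symm)
      obtain ⟨i, hi, rfl⟩ := Multiset.mem_map.mp hx
      rcases eq_or_ne k (a i) with rfl | hne
      · refine ⟨[i], by simp, fun p hp0 hpl => ⟨a i, ?_⟩, by simp⟩
        obtain rfl : p = 1 := by simp at hpl; omega
        simp
      obtain ⟨j, hj⟩ := sub_root_mem (pairing_pos_comm.mp hp) hne
      obtain ⟨L, -, hL, hLs⟩ := ih _ (hn ▸ Multiset.card_erase_lt_of_mem hi) (s.erase i) rfl j (by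
        rw [hj, ← hk]
        conv_rhs => rw [← Multiset.cons_erase hi]
        simp)
      have hk' : P.root k = ((L ++ [i]).map fun i => P.root (a i)).sum := by
        rw [List.map_append, List.sum_append, ← hLs, hj]
        simp
      refine ⟨L ++ [i], by simp, fun p hp0 hpl => ?_, hk'⟩
      rcases Nat.lt_or_ge L.length p with h | h
      · refine ⟨k, ?_⟩
        rw [List.take_of_length_le (by simp; omega)]
        exact hk'
      · rw [List.take_append_of_le_length h]
        exact hL p hp0 h
  obtain ⟨L, hne, hL, hk'⟩ := key (∑ i, Multiset.replicate (m i) i) k (by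
    rw [show Multiset.map (fun i => P.root (a i)) (∑ i, Multiset.replicate (m i) i) =
      ∑ i, (Multiset.replicate (m i) i).map fun i => P.root (a i) from
      map_sum (Multiset.mapAddMonoidHom _) _ _, Multiset.sum_sum, hk]
    simp)
  refine ⟨L.length, fun q => L[q], List.length_pos_of_ne_nil hne, fun p => ?_, ?_⟩
  · obtain ⟨j, hj⟩ := hL (p.val + 1) (Nat.succ_pos _) p.isLt
    refine ⟨j, hj.trans ?_⟩
    have key2 : ∀ N, N ≤ L.length → ((L.take N).map fun i => P.root (a i)).sum =
        ∑ q ∈ Finset.univ.filter (fun q : Fin L.length => q.val < N), P.root (a L[q]) := by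
      intro N
      induction N with
      | zero => intro; simp
      | succ N ih =>
        intro hN
        have e : Finset.univ.filter (fun q : Fin L.length => q.val < N + 1) =
            insert ⟨N, hN⟩ (Finset.univ.filter (fun q : Fin L.length => q.val < N)) :=
          Finset.ext fun q => by simp [Fin.ext_iff]; omega
        rw [e, Finset.sum_insert (by simp), ← ih (by omega), List.map_take, List.map_take,
          List.sum_take_succ _ _ (by simpa using hN), List.getElem_map, add_comm]
        rfl
    rw [key2 _ p.isLt]
    exact Finset.sum_congr (Finset.ext fun q => by simp [Nat.lt_succ_iff]) fun q _ => rfl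
  · rw [hk', ← List.sum_ofFn]
    refine congrArg List.sum (List.ext_getElem (by simp) fun i h1 h2 => by simp)

end Groth.Agent.S5451
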