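import Groth.Statements.S5461
import Groth.Agent.RootSys.Partition

set_option autoImplicit false
open RootD

namespace Groth.Agent.S5461

open Groth.Agent.RootSys

/-- If R' is the trace of a vector subspace on the roots, every system of simple roots Δ' of the root
datum with roots R' is contained in a system of simple roots Δ of the whole datum, and R' is the set
of roots in the span of Δ'. -/
theorem result {ι M N : Type*} [AddCommGroup M] [AddCommGroup N]
    (P : RootPairing ι ℤ M N) [Finite ι] (R' : Set ι)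
    (hsat : ∀ k : ι, (∃ n : ℕ, 0 < n ∧ n • P.root k ∈ Submodule.span ℤ (P.root '' R')) → k ∈ R')
    (Δ' : Set ι) (hΔ'R : Δ' ⊆ R') (hli : LinearIndepOn ℤ P.root Δ')
    (hgen : ∀ k ∈ R', P.root k ∈ RootD.natSpan P Δ' ∨ -P.root k ∈ RootD.natSpan P Δ') :
    ∃ Δ : Set ι, RootD.IsSimpleSys P Δ ∧ Δ' ⊆ Δ ∧ R' = RootD.inSpan P Δ' := by
  classical
  obtain ⟨f, hf⟩ := exists_vanishing_exactly hsat
  let T : Set ι := {k | k ∈ R' ∧ P.root k ∈ RootD.natSpan P Δ'}
  have hco : ∀ k ∈ T, ∃ c : ι →₀ ℤ, ↑c.support ⊆ Δ' ∧ (∀ a, 0 ≤ c a) ∧ lc P c = P.root k := fun k hk =>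
    exists_nonneg_coef hk.2
  have hnz : ∀ (k : ι) (c : ι →₀ ℤ), lc P c = P.root k → c ≠ 0 := fun k c he h0 => by
    rw [h0, lc, map_zero] at he
    exact P.ne_zero k he.symm
  have hoppR : ∀ k ∈ R', opp P k ∈ R' := fun k hk =>
    (hf _).mp (by rw [root_opp, map_neg, (hf k).mpr hk, neg_zero])
  have hS := isPosSys_refine f (P := P) (T := T) ?_ ?_ ?_ (fun i hi => (hf i).mpr hi.1)
  · have hΔ := isSimpleSys_simpleOf hS
    generalize hSdef : ({k : ι | 0 < f (P.root k)} ∪ T) = S at hS hΔ
    have hsub : Δ' ⊆ simpleOf P S := by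
      intro i hi
      refine ⟨hSdef ▸ Or.inr ⟨hΔ'R hi, root_mem_natSpan hi⟩, ?_⟩
      rintro ⟨a, b, ha, hb, he⟩
      rw [← hSdef] at ha hb
      have e := congr_arg f he
      rw [(hf i).mpr (hΔ'R hi), map_add] at e
      have hT : a ∈ T ∧ b ∈ T := by
        rcases ha with ha | ha <;> rcases hb with hb | hb
        · linarith [show 0 < f (P.root a) from ha, show 0 < f (P.root b) from hb]
        · linarith [show 0 < f (P.root a) from ha, (hf b).mpr hb.1]
        · linarith [show 0 < f (P.root b) from hb, (hf a).mpr ha.1]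
        · exact ⟨ha, hb⟩
      obtain ⟨c, hc, hcn, hce⟩ := hco a hT.1
      obtain ⟨d, hd, hdn, hde⟩ := hco b hT.2
      have e1 : c + d = Finsupp.single i 1 := linearIndepOn_iffₛ.mp hli _
        (fun x hx => (Finset.mem_union.mp (Finsupp.support_add hx)).elim (fun h => hc h) fun h => hd h) _
        (fun x hx => Finset.mem_singleton.mp (Finsupp.support_single_subset hx) ▸ hi)
        (by rw [map_add, show Finsupp.linearCombination ℤ P.root c = _ from hce,
          show Finsupp.linearCombination ℤ P.root d = _ from hde, ← he]; simp)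
      have key : ∀ x, x ≠ i → c x = 0 ∧ d x = 0 := fun x hx => by
        have e2 := DFunLike.congr_fun e1 x
        rw [Finsupp.add_apply, Finsupp.single_eq_of_ne hx] at e2
        have := hcn x; have := hdn x
        omega
      have e2 := DFunLike.congr_fun e1 i
      rw [Finsupp.add_apply, Finsupp.single_eq_same] at e2
      have hci : c i ≠ 0 := fun h0 => hnz a c hce (Finsupp.ext fun x => by
        rcases eq_or_ne x i with rfl | hx
        · exact h0
        · exact (key x hx).1)
      have hdi : d i ≠ 0 := fun h0 => hnz b d hde (Finsupp.ext fun x => by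
        rcases eq_or_ne x i with rfl | hx
        · exact h0
        · exact (key x hx).2)
      have := hcn i; have := hdn i
      omega
    refine ⟨simpleOf P S, hΔ, hsub, Set.Subset.antisymm (fun k hk => ?_) fun k hk => hsat k ⟨1, one_pos, ?_⟩⟩
    · have key : ∀ x, P.root x ∈ RootD.natSpan P Δ' → P.root x ∈ Submodule.span ℤ (P.root '' Δ') := fun x hx => by
        refine (AddSubmonoid.closure_le (S := (Submodule.span ℤ (P.root '' Δ')).toAddSubmonoid)).mpr ?_ hx
        exact Submodule.subset_span
      rcases hgen k hk with h | h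
      · exact key k h
      · have h' := key (opp P k) (by rw [root_opp]; exact h)
        rw [root_opp] at h'
        exact neg_mem_iff.mp h'
    · rw [one_smul]
      exact Submodule.span_mono (Set.image_mono hΔ'R) hk
  · rintro i ⟨-, h1⟩ ⟨-, h2⟩
    obtain ⟨c, hc, hcn, hce⟩ := exists_nonneg_coef h1
    obtain ⟨d, hd, hdn, hde⟩ := exists_nonneg_coef h2
    have e := linearIndepOn_iff.mp hli (c + d)
      (fun x hx => (Finset.mem_union.mp (Finsupp.support_add hx)).elim (fun h => hc h) fun h => hd h)
      (by rw [map_add, show Finsupp.linearCombination ℤ P.root c = _ from hce,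
        show Finsupp.linearCombination ℤ P.root d = _ from hde, root_opp, add_neg_cancel])
    refine hnz i c hce (Finsupp.ext fun x => ?_)
    have e1 := DFunLike.congr_fun e x
    rw [Finsupp.add_apply, Finsupp.zero_apply] at e1
    have := hcn x; have := hdn x
    rw [Finsupp.zero_apply]
    omega
  · intro i hi
    have hiR := (hf i).mp hi
    exact (hgen i hiR).imp (fun h => ⟨hiR, h⟩) fun h => ⟨hoppR i hiR, by rw [root_opp]; exact h⟩
  · rintro a b k ⟨ha, ha'⟩ ⟨hb, hb'⟩ hk
    exact ⟨(hf k).mp (by rw [hk, map_add, (hf a).mpr ha, (hf b).mpr hb, add_zero]), hk ▸ add_mem ha' hb'⟩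

end Groth.Agent.S5461
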