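import Groth.Statements.S5463
import Groth.Agent.RootSys.Partition

set_option autoImplicit false
open RootPairing
open scoped Pointwise
open RootD

namespace Groth.Agent.S5463

open Groth.Agent.RootSys

/-- An element w of the Weyl group belongs to the subgroup generated by the reflections in Δ' ⊆ Δ (Δ a
system of simple roots) if and only if w(α) - α lies in the rational span of Δ' for every root α. -/
theorem result {ι M N : Type*} [AddCommGroup M] [AddCommGroup N]
    (P : RootPairing ι ℤ M N) [Finite ι] (Δ Δ' : Set ι) (hΔ : RootD.IsSimpleSys P Δ)
    (hsub : Δ' ⊆ Δ) (g : P.Aut) (hg : g ∈ P.weylGroup) :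
    g ∈ Subgroup.closure ((fun i : ι => Equiv.reflection P i) '' Δ') ↔
      ∀ k : ι, ∃ n : ℕ, 0 < n ∧ n • (P.root (g • k) - P.root k) ∈ Submodule.span ℤ (P.root '' Δ') := by
  classical
  constructor
  · intro hgc k
    refine ⟨1, one_pos, ?_⟩
    rw [one_smul]
    clear hg
    induction hgc using Subgroup.closure_induction_left generalizing k with
    | one => simp
    | mul_left x hx y _ ih =>
      obtain ⟨a, ha, rfl⟩ := hx
      rw [mul_smul, root_reflection_smul, sub_right_comm]
      exact sub_mem (ih k) (Submodule.smul_mem _ _ (Submodule.subset_span ⟨a, ha, rfl⟩))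
    | inv_mul_cancel x hx y _ ih =>
      obtain ⟨a, ha, rfl⟩ := hx
      rw [mul_smul, inv_eq_of_mul_eq_one_left (reflection_mul_self a), root_reflection_smul, sub_right_comm]
      exact sub_mem (ih k) (Submodule.smul_mem _ _ (Submodule.subset_span ⟨a, ha, rfl⟩))
  · intro hmove
    rw [← closure_eq_weylGroup hΔ] at hg
    obtain ⟨l, hl, he⟩ := (reflData hΔ).exists_word hg
    clear hg
    induction hn : l.length using Nat.strong_induction_on generalizing l g with
    | h n ih =>
      by_cases hpos : ∀ j ∈ Δ, g • j ∈ RootD.posOf P Δ
      · rw [eq_one_of_mapsTo hΔ (closure_eq_weylGroup hΔ ▸ he ▸ ReflData.prod_mem hl) hpos]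
        exact one_mem _
      · push Not at hpos
        obtain ⟨j, hj, hneg⟩ := hpos
        have hjS : j ∈ Δ' := by
          by_contra hjS
          obtain ⟨m, hm, hmem⟩ := hmove j
          obtain ⟨c, hc, hce⟩ := (Finsupp.mem_span_image_iff_linearCombination ℤ).mp hmem
          have e := lc_injective hΔ (c := (m : ℤ) • coef hΔ (g • j) - Finsupp.single j (m : ℤ)) (d := c)
            (fun a ha => (Finset.mem_union.mp (Finsupp.support_sub ha)).elim
              (fun h => coef_support hΔ _ (Finsupp.support_smul h))
              fun h => Finset.mem_singleton.mp (Finsupp.support_single_subset h) ▸ hj)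
            (fun a ha => hsub (hc ha))
            (by rw [lc, map_sub, map_zsmul, Finsupp.linearCombination_single, ← lc, lc_coef, show lc P c = _ from hce,
              natCast_zsmul, natCast_zsmul, smul_sub])
          have e1 := DFunLike.congr_fun e j
          rw [Finsupp.notMem_support_iff.mp (fun h => hjS (hc h)), Finsupp.sub_apply, Finsupp.smul_apply,
            Finsupp.single_eq_same, smul_eq_mul, sub_eq_zero] at e1
          have : (0 : ℤ) < coef hΔ (g • j) j := by
            have : (m : ℤ) * coef hΔ (g • j) j = m * 1 := by rw [e1, mul_one]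
            rw [mul_left_cancel₀ (by omega) this]
            norm_num
          exact hneg (mem_posOf_of_coef_pos hΔ this)
        subst he
        obtain ⟨l', h1, h2, h3⟩ := (reflData hΔ).exists_delete hj hl hneg
        have hgs := ih l'.length (by omega) ((l.map (refl P)).prod * refl P j) (fun k => by
          obtain ⟨m, hm, hmem⟩ := hmove (refl P j • k)
          refine ⟨m, hm, ?_⟩
          have e : P.root (((l.map (refl P)).prod * refl P j) • k) - P.root k =
              (P.root ((l.map (refl P)).prod • refl P j • k) - P.root (refl P j • k)) - P.pairing k j • P.root j := by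
            rw [mul_smul, root_reflection_smul]
            abel
          rw [e, smul_sub]
          exact sub_mem hmem (nsmul_mem (Submodule.smul_mem _ _ (Submodule.subset_span (show P.root j ∈ P.root '' Δ' from ⟨j, hjS, rfl⟩))) m))
          l' h1 h3 rfl
        have e := mul_mem hgs (Subgroup.subset_closure ⟨j, hjS, rfl⟩)
        have e' : (l.map (refl P)).prod * (refl P j * refl P j) ∈ Subgroup.closure (refl P '' Δ') := mul_assoc (l.map (refl P)).prod (refl P j) (refl P j) ▸ e
        rw [show refl P j * refl P j = 1 from reflection_mul_self j, mul_one] at e'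
        exact e'

end Groth.Agent.S5463
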