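import Groth.Statements.S5464
import Groth.Agent.RootSys.Partition

set_option autoImplicit false
open RootD

namespace Groth.Agent.S5464

open Groth.Agent.RootSys

/-- Given an indivisible root α and a root γ not proportional to it, there is a system of simple roots
containing α and a simple root β of it with γ = aα + bβ, a, b ∈ ℕ. -/
theorem result {ι M N : Type*} [AddCommGroup M] [AddCommGroup N]
    (P : RootPairing ι ℤ M N) [Finite ι] (i k : ι) (hα : RootD.IsIndiv P i)
    (hli : LinearIndependent ℤ ![P.root i, P.root k]) :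
    ∃ Δ : Set ι, RootD.IsSimpleSys P Δ ∧ i ∈ Δ ∧
      ∃ j ∈ Δ, ∃ a b : ℕ, P.root k = a • P.root i + b • P.root j := by
  classical
  let R2 : Set ι := {x | ∃ n : ℕ, 0 < n ∧ n • P.root x ∈ Submodule.span ℤ (P.root '' {i, k})}
  let R1 : Set ι := {x | ∃ n : ℕ, 0 < n ∧ n • P.root x ∈ Submodule.span ℤ (P.root '' {i})}
  have hsat : ∀ U : Set ι, IsSaturated P {x | ∃ n : ℕ, 0 < n ∧ n • P.root x ∈ Submodule.span ℤ (P.root '' U)} := by
    intro U x ⟨n, hn, h⟩
    obtain ⟨c, hc, hce⟩ : ∃ c : ℕ, 0 < c ∧ c • (n • P.root x) ∈ Submodule.span ℤ (P.root '' U) := by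
      refine Submodule.span_induction (p := fun y _ => ∃ c : ℕ, 0 < c ∧ c • y ∈ Submodule.span ℤ (P.root '' U))
        ?_ ⟨1, one_pos, by simp⟩ ?_ ?_ h
      · rintro _ ⟨a, ⟨m, hm, hma⟩, rfl⟩
        exact ⟨m, hm, hma⟩
      · rintro y z _ _ ⟨a, ha, hy⟩ ⟨b, hb, hz⟩
        refine ⟨a * b, Nat.mul_pos ha hb, ?_⟩
        rw [smul_add]
        refine add_mem ?_ ?_
        · rw [mul_comm, mul_smul]; exact nsmul_mem hy b
        · rw [mul_smul]; exact nsmul_mem hz a
      · rintro z y _ ⟨a, ha, hy⟩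
        exact ⟨a, ha, by rw [smul_comm]; exact Submodule.smul_mem _ _ hy⟩
    exact ⟨c * n, Nat.mul_pos hc hn, by rw [mul_smul]; exact hce⟩
  have hmem : ∀ (U : Set ι), ∀ a ∈ U, a ∈ {x | ∃ n : ℕ, 0 < n ∧ n • P.root x ∈ Submodule.span ℤ (P.root '' U)} :=
    fun U a ha => ⟨1, one_pos, by rw [one_smul]; exact Submodule.subset_span ⟨a, ha, rfl⟩⟩
  obtain ⟨f₁, hf₁⟩ := exists_vanishing_exactly (hsat {i, k})
  obtain ⟨g₀, hg₀⟩ := exists_vanishing_exactly (hsat {i})
  have hkR1 : k ∉ R1 := by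
    rintro ⟨n, hn, h⟩
    rw [Set.image_singleton, Submodule.mem_span_singleton] at h
    obtain ⟨c, hc⟩ := h
    have := (LinearIndependent.pair_iff.mp hli c (-(n : ℤ)) (by rw [hc, neg_smul, natCast_zsmul, add_neg_cancel])).2
    omega
  obtain ⟨f₂, hf₂, hfk⟩ : ∃ f₂ : M →+ ℚ, (∀ x, f₂ (P.root x) = 0 ↔ x ∈ R1) ∧ 0 < f₂ (P.root k) := by
    rcases lt_or_gt_of_ne (mt (hg₀ k).mp hkR1) with h | h
    · exact ⟨-g₀, fun x => by rw [AddMonoidHom.neg_apply, neg_eq_zero]; exact hg₀ x,
        by rw [AddMonoidHom.neg_apply]; linarith⟩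
    · exact ⟨g₀, hg₀, h⟩
  let T₂ : Set ι := {x | x = i ∨ P.root x = (2 : ℤ) • P.root i}
  have hT2f : ∀ x ∈ T₂, f₂ (P.root x) = 0 := fun x hx => by
    rcases hx with rfl | hx
    · exact (hf₂ x).mpr (hmem _ x rfl)
    · rw [hx, map_zsmul, (hf₂ i).mpr (hmem _ i rfl), smul_zero]
  have hT2p : ∀ x ∈ T₂, 2 ≤ P.pairing x i := fun x hx => by
    rcases hx with rfl | hx
    · rw [P.pairing_same]
    · rw [← P.root_coroot'_eq_pairing, hx, map_zsmul, P.root_coroot'_eq_pairing, P.pairing_same]; norm_num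
  have hS2 := isPosSys_refine f₂ (P := P) (T := T₂) (fun x hx h => by
      have h1 := hT2p x hx
      have h2 := hT2p _ h
      rw [pairing_opp_left] at h2
      omega)
    (fun x hx => by
      obtain ⟨n, hn, h⟩ := (hf₂ x).mp hx
      rw [Set.image_singleton, Submodule.mem_span_singleton] at h
      obtain ⟨c, hc⟩ := h
      rcases lt_trichotomy c 0 with hlt | rfl | hgt
      · exact Or.inr (proportional_cases (n := (n : ℤ)) (m := -c) (by omega) (by omega)
          (by rw [root_opp, smul_neg, natCast_zsmul, ← hc, neg_smul]) hα)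
      · rw [zero_smul] at hc
        exact absurd (torsionFree_root (n := (n : ℤ)) (by omega) (by rw [natCast_zsmul, ← hc, smul_zero]) P) (P.ne_zero x)
      · exact Or.inl (proportional_cases (n := (n : ℤ)) (by omega) hgt (by rw [natCast_zsmul, ← hc]) hα))
    (fun a b c ha hb hc => by
      have hu : ∀ x ∈ T₂, ∃ u : ℤ, 0 < u ∧ P.root x = u • P.root i := fun x hx => by
        rcases hx with rfl | hx
        · exact ⟨1, one_pos, (one_smul ℤ _).symm⟩
        · exact ⟨2, two_pos, hx⟩
      obtain ⟨u, hu0, hau⟩ := hu a ha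
      obtain ⟨v, hv0, hbv⟩ := hu b hb
      exact proportional_cases (n := 1) one_pos (m := u + v) (by omega)
        (by rw [one_smul, hc, hau, hbv, add_smul]) hα)
    hT2f
  let T₁ : Set ι := R2 ∩ ({x | 0 < f₂ (P.root x)} ∪ T₂)
  have hS1 := isPosSys_refine f₁ (P := P) (T := T₁) (fun x hx h => hS2.disjoint hx.2 h.2)
    (fun x hx => (hS2.cover x).imp (fun h => ⟨(hf₁ x).mp hx, h⟩)
      fun h => ⟨(hf₁ _).mp (by rw [root_opp, map_neg, hx, neg_zero]), h⟩)
    (fun a b c ha hb hc => ⟨(hf₁ c).mp (by rw [hc, map_add, (hf₁ a).mpr ha.1, (hf₁ b).mpr hb.1, add_zero]),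
      IsPosSys.closed hS2 ha.2 hb.2 hc⟩)
    (fun x hx => (hf₁ x).mpr hx.1)
  have hΔ := isSimpleSys_simpleOf hS1
  have hsp := inSpan_simple_inter (hsat {i, k}) hf₁ hS1 Set.inter_subset_left
  generalize hSdef : ({x : ι | 0 < f₁ (P.root x)} ∪ T₁) = S at hS1 hΔ hsp
  have hf1nn : ∀ a ∈ S, 0 ≤ f₁ (P.root a) := fun a ha => by
    rw [← hSdef] at ha
    exact ha.elim (fun h => le_of_lt h) fun h => ((hf₁ a).mpr h.1).ge
  have hiS : i ∈ simpleOf P S := by
    refine ⟨hSdef ▸ Or.inr ⟨hmem _ i (Or.inl rfl), Or.inr (Or.inl rfl)⟩, ?_⟩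
    rintro ⟨a, b, ha, hb, he⟩
    have e1 := congr_arg f₁ he
    rw [(hf₁ i).mpr (hmem _ i (Or.inl rfl)), map_add] at e1
    have hz : ∀ x ∈ S, f₁ (P.root x) = 0 → 0 < f₂ (P.root x) ∨ x ∈ T₂ := fun x hx h0 => by
      rw [← hSdef] at hx
      rcases hx with hx | hx
      · exact absurd h0 (ne_of_gt hx)
      · exact hx.2
    have h1 := hf1nn a ha
    have h2 := hf1nn b hb
    have e2 := congr_arg f₂ he
    rw [(hf₂ i).mpr (hmem _ i rfl), map_add] at e2
    have e3 := congr_arg (P.coroot' i) he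
    rw [map_add, P.root_coroot'_eq_pairing, P.pairing_same, P.root_coroot'_eq_pairing, P.root_coroot'_eq_pairing] at e3
    rcases hz a ha (by linarith) with ha' | ha' <;> rcases hz b hb (by linarith) with hb' | hb'
    · linarith
    · linarith [hT2f b hb']
    · linarith [hT2f a ha']
    · linarith [hT2p a ha', hT2p b hb']
  let D : Set ι := simpleOf P S ∩ R2
  have hiD : i ∈ D := ⟨hiS, hmem _ i (Or.inl rfl)⟩
  have hkD : k ∈ RootD.inSpan P D := hsp ▸ hmem _ k (Or.inr rfl)
  have hkS : k ∈ RootD.posOf P (simpleOf P S) := by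
    rw [posOf_simpleOf hS1, ← hSdef]
    exact Or.inr ⟨hmem _ k (Or.inr rfl), Or.inl hfk⟩
  obtain ⟨j, hjD, hji, hcj⟩ : ∃ j ∈ D, j ≠ i ∧ coef hΔ k j ≠ 0 := by
    by_contra! hall
    have e := root_eq_of_coef_on_single hΔ (i := i) (k := k) fun a ha => by
      by_contra hai
      exact ha (hall a ((mem_inSpan_iff hΔ Set.inter_subset_left k).mp hkD a ha) hai)
    have := (LinearIndependent.pair_iff.mp hli (coef hΔ k i) (-1) (by rw [e]; module)).2
    norm_num at this
  have honly : ∀ a, coef hΔ k a ≠ 0 → a = i ∨ a = j := by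
    intro a ha
    by_contra! hne
    have haD := (mem_inSpan_iff hΔ Set.inter_subset_left k).mp hkD a ha
    obtain ⟨n, hn, hn'⟩ := haD.2
    rw [Set.image_pair, Submodule.mem_span_pair] at hn'
    obtain ⟨p, q, hpq⟩ := hn'
    obtain ⟨m, hm, hm'⟩ := hjD.2
    rw [Set.image_pair, Submodule.mem_span_pair] at hm'
    obtain ⟨p', q', hpq'⟩ := hm'
    have hzero : lc P (Finsupp.single a (q' * n) - Finsupp.single j (q * m) - Finsupp.single i (q' * p - q * p')) = 0 := by
      simp only [lc, map_sub, Finsupp.linearCombination_single]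
      rw [mul_smul, mul_smul, natCast_zsmul, natCast_zsmul, ← hpq, ← hpq']
      module
    have e := lc_injective hΔ (c := Finsupp.single a (q' * n) - Finsupp.single j (q * m) - Finsupp.single i (q' * p - q * p')) (d := 0) (fun x hx => by
      rcases Finset.mem_union.mp (Finsupp.support_sub hx) with h | h
      · rcases Finset.mem_union.mp (Finsupp.support_sub h) with h | h
        · exact Finset.mem_singleton.mp (Finsupp.support_single_subset h) ▸ haD.1
        · exact Finset.mem_singleton.mp (Finsupp.support_single_subset h) ▸ hjD.1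
      · exact Finset.mem_singleton.mp (Finsupp.support_single_subset h) ▸ hiD.1) (by simp)
      (by rw [hzero]; simp [lc])
    have ea := DFunLike.congr_fun e a
    simp [Finsupp.single_eq_of_ne hne.1, Finsupp.single_eq_of_ne hne.2] at ea
    have ej := DFunLike.congr_fun e j
    simp [Finsupp.single_eq_of_ne hne.2.symm, Finsupp.single_eq_of_ne hji] at ej
    rcases ea with hq' | hn0
    · rw [hq', zero_smul, add_zero] at hpq'
      have := lc_injective hΔ (c := Finsupp.single j (m : ℤ)) (d := Finsupp.single i p')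
        (fun x hx => Finset.mem_singleton.mp (Finsupp.support_single_subset hx) ▸ hjD.1)
        (fun x hx => Finset.mem_singleton.mp (Finsupp.support_single_subset hx) ▸ hiD.1)
        (by simp only [lc, Finsupp.linearCombination_single]; rw [natCast_zsmul, ← hpq'])
      have e' := DFunLike.congr_fun this j
      rw [Finsupp.single_eq_same, Finsupp.single_eq_of_ne hji] at e'
      omega
    · omega
  refine ⟨simpleOf P S, hΔ, hiS, j, hjD.1, (coef hΔ k i).toNat, (coef hΔ k j).toNat, ?_⟩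
  have hnn := (mem_posOf_iff hΔ k).mp hkS
  rw [← natCast_zsmul, ← natCast_zsmul, Int.toNat_of_nonneg (hnn i), Int.toNat_of_nonneg (hnn j)]
  conv_lhs => rw [← lc_coef hΔ k, show coef hΔ k = Finsupp.single i (coef hΔ k i) + Finsupp.single j (coef hΔ k j) from
    Finsupp.ext fun a => by
      rw [Finsupp.add_apply]
      rcases eq_or_ne a i with rfl | hai
      · rw [Finsupp.single_eq_same, Finsupp.single_eq_of_ne hji.symm, add_zero]
      rcases eq_or_ne a j with rfl | haj
      · rw [Finsupp.single_eq_same, Finsupp.single_eq_of_ne hai, zero_add]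
      rw [Finsupp.single_eq_of_ne hai, Finsupp.single_eq_of_ne haj, add_zero]
      exact by_contra fun h0 => (honly a h0).elim hai haj]
  simp [lc]

end Groth.Agent.S5464
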