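import Groth.Statements.S5465
import Groth.Agent.RootSys.Dominant

set_option autoImplicit false
open RootD

namespace Groth.Agent.S5465

open Groth.Agent.RootSys

/-- A map from the roots to an abelian group that is odd and additive on pairs of roots whose sum is a
root extends uniquely to a homomorphism on the lattice generated by the roots. -/
theorem result {ι M N : Type*} [AddCommGroup M] [AddCommGroup N]
    (P : RootPairing ι ℤ M N) [Finite ι] {G : Type*} [AddCommGroup G] (f : ι → G)
    (hneg : ∀ i : ι, f (P.reflectionPerm i i) = -f i)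
    (hadd : ∀ i j k : ι, P.root k = P.root i + P.root j → f k = f i + f j) :
    ∃! φ : Submodule.span ℤ (Set.range P.root) →+ G,
      ∀ i : ι, φ ⟨P.root i, Submodule.subset_span (Set.mem_range_self i)⟩ = f i := by
  classical
  obtain ⟨Δ, hΔ⟩ := exists_simpleSys (P := P)
  let F : (ι →₀ ℤ) →+ G := (Finsupp.linearCombination ℤ f).toAddMonoidHom
  have hF : ∀ k, F (coef hΔ k) = f k := by
    have hpos : ∀ k, k ∈ RootD.posOf P Δ → F (coef hΔ k) = f k := by
      intro k
      induction hn : (ht hΔ k).toNat using Nat.strong_induction_on generalizing k with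
      | h n ih =>
        intro hk
        by_cases hkΔ : k ∈ Δ
        · simp [F, coef_simple hΔ hkΔ]
        obtain ⟨a, b, ha, hb, he⟩ := not_not.mp fun h => hkΔ ((mem_simple_iff hΔ hk).mpr h)
        have := (mem_posOf_iff_ht hΔ a).mp ha
        have := (mem_posOf_iff_ht hΔ b).mp hb
        have := ht_of_eq_add hΔ he
        rw [coef_of_eq_add hΔ he, map_add, ih _ (by omega) a rfl ha, ih _ (by omega) b rfl hb, hadd a b k he]
    intro k
    by_cases hk : k ∈ RootD.posOf P Δ
    · exact hpos k hk
    · have e := hpos _ ((opp_mem_posOf_iff hΔ k).mpr hk)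
      rw [coef_opp hΔ, map_neg, show f (opp P k) = -f k from hneg k, neg_inj] at e
      exact e
  have hex : ∀ x : Submodule.span ℤ (Set.range P.root), ∃ c : ι →₀ ℤ, ↑c.support ⊆ Δ ∧ lc P c = (x : M) := by
    rintro ⟨x, hx⟩
    induction hx using Submodule.span_induction with
    | mem z hz => obtain ⟨a, rfl⟩ := hz; exact ⟨coef hΔ a, coef_support hΔ a, lc_coef hΔ a⟩
    | zero => exact ⟨0, by simp, map_zero _⟩
    | add x y _ _ ihx ihy =>
      obtain ⟨a, ha, hax⟩ := ihx; obtain ⟨b, hb, hby⟩ := ihy
      exact ⟨a + b, fun z hz => (Finset.mem_union.mp (Finsupp.support_add hz)).elim (fun h => ha h) fun h => hb h,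
        by rw [lc, map_add, ← lc, ← lc, hax, hby]⟩
    | smul q x _ ihx =>
      obtain ⟨a, ha, hax⟩ := ihx
      exact ⟨q • a, fun z hz => ha (Finsupp.support_smul hz), by rw [lc, map_zsmul, ← lc, hax]⟩
  choose c hc hcx using hex
  refine ⟨AddMonoidHom.mk' (fun x => F (c x)) fun x y => ?_, fun i => ?_, fun ψ hψ => ?_⟩
  · rw [← map_add]
    congr 1
    exact lc_injective hΔ (hc _)
      (fun z hz => (Finset.mem_union.mp (Finsupp.support_add hz)).elim (fun h => hc x h) fun h => hc y h)
      (by rw [hcx, lc, map_add, ← lc, ← lc, hcx, hcx, Submodule.coe_add])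
  · show F (c _) = f i
    rw [← coef_eq hΔ (hc ⟨P.root i, Submodule.subset_span (Set.mem_range_self i)⟩) (hcx _), hF]
  · refine AddMonoidHom.ext fun x => ?_
    show ψ x = F (c x)
    have hx : x = (c x).sum fun a z => z • (⟨P.root a, Submodule.subset_span (Set.mem_range_self a)⟩ :
        Submodule.span ℤ (Set.range P.root)) := by
      refine Subtype.ext ?_
      rw [Finsupp.sum, Submodule.coe_sum]
      exact (hcx x).symm
    conv_lhs => rw [hx]
    rw [map_finsuppSum]
    simp only [map_zsmul, hψ]
    exact (Finsupp.linearCombination_apply ℤ (c x)).symm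

end Groth.Agent.S5465
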