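import Groth.Statements.S5468
import Groth.Agent.RootSys.Partition

set_option autoImplicit false
open RootD

namespace Groth.Agent.S5468

open Groth.Agent.RootSys

/-- Two roots whose reflections are distinct and commute are orthogonal. -/
theorem result {ι M N : Type*} [AddCommGroup M] [AddCommGroup N]
    (P : RootPairing ι ℤ M N) [Finite ι] (i j : ι)
    (hne : P.reflection i ≠ P.reflection j) (hc : Commute (P.reflection i) (P.reflection j)) :
    P.IsOrthogonal i j := by
  by_contra hno
  have hne' : P.pairing i j ≠ 0 := fun h => hno (isOrthogonal_iff.mpr h)
  have hcomm : refl P i * refl P j = refl P j * refl P i := aut_ext fun x => by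
    simp only [mul_smul, RootPairing.Equiv.reflection_smul]
    exact LinearEquiv.congr_fun hc.eq x
  have h1 : refl P (refl P j • i) = refl P i := by
    show RootPairing.Equiv.reflection P (refl P j • i) = refl P i
    rw [← conj_reflection]
    show refl P j * refl P i * (refl P j)⁻¹ = refl P i
    rw [← hcomm, mul_inv_cancel_right]
  have h2 := congrArg (fun g : P.Aut => g • P.root (refl P j • i)) h1
  change refl P (refl P j • i) • P.root (refl P j • i) = refl P i • P.root (refl P j • i) at h2
  rw [← root_smul, reflection_smul_self, root_opp, ← root_smul, root_reflection_smul] at h2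
  rw [root_reflection_smul, show P.root (refl P j • i) = P.root i - P.pairing i j • P.root j from root_reflection_smul j i] at h2
  obtain ⟨c, h2⟩ : ∃ c : ℤ, -(P.root i - P.pairing i j • P.root j) = P.root i - P.pairing i j • P.root j - c • P.root i := ⟨_, h2⟩
  have h3 : (2 * P.pairing i j) • P.root j = (2 - c) • P.root i := by
    linear_combination (norm := module) h2
  by_cases hc0 : 2 - c = 0
  · rw [hc0, zero_smul] at h3
    exact P.ne_zero j (torsionFree_root (mul_ne_zero two_ne_zero hne') (by rw [h3, smul_zero]) P)
  have e := reflection_eq_of_proportional hc0 (mul_ne_zero two_ne_zero hne') h3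
  refine hne (LinearEquiv.ext fun x => ?_)
  rw [← RootPairing.Equiv.reflection_smul, ← RootPairing.Equiv.reflection_smul]
  exact congrArg (fun g : P.Aut => g • x) e.symm

end Groth.Agent.S5468
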