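import Groth.Statements.S5471
import Groth.Agent.RootSys.Irreducible

set_option autoImplicit false
open RootPairing
open scoped Pointwise
open RootD

namespace Groth.Agent.S5471

open Groth.Agent.RootSys

/-- In a reduced irreducible root datum the ratios of squared root lengths to the minimal one form one
of the sets {1}, {1, 2}, {1, 3}. -/
theorem result {ι M N : Type*} [AddCommGroup M] [AddCommGroup N]
    (P : RootPairing ι ℤ M N) [Finite ι] [Fintype ι] [Nonempty ι] [P.IsReduced]
    (hirr : ∀ R' : Set ι, RootD.IsClosedSub P R' → RootD.IsSymmSub P R' → RootD.IsClosedSub P R'ᶜ →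
      RootD.IsSymmSub P R'ᶜ → R' = ∅ ∨ R' = Set.univ)
    (i₀ : ι) (hmin : ∀ i : ι, P.RootForm (P.root i₀) (P.root i₀) ≤ P.RootForm (P.root i) (P.root i)) :
    (∀ i : ι, P.RootForm (P.root i) (P.root i) = P.RootForm (P.root i₀) (P.root i₀) ∨
        P.RootForm (P.root i) (P.root i) = 2 * P.RootForm (P.root i₀) (P.root i₀) ∨
        P.RootForm (P.root i) (P.root i) = 3 * P.RootForm (P.root i₀) (P.root i₀)) ∧
      ¬ ((∃ i : ι, P.RootForm (P.root i) (P.root i) = 2 * P.RootForm (P.root i₀) (P.root i₀)) ∧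
          ∃ j : ι, P.RootForm (P.root j) (P.root j) = 3 * P.RootForm (P.root i₀) (P.root i₀)) := by
  classical
  haveI : Module.IsReflexive ℤ M := .of_isPerfPair P.toLinearMap
  haveI : Module.IsReflexive ℤ N := .of_isPerfPair P.flip.toLinearMap
  have hlen : ∀ (g : P.Aut) a, P.RootForm (P.root (g • a)) (P.root (g • a)) = P.RootForm (P.root a) (P.root a) :=
    fun g a => by rw [root_smul, rootForm_smul_eq]
  have h0 := rootForm_pos (P := P) i₀
  have key : ∀ i, ∃ r : ℤ, (r = 1 ∨ r = 2 ∨ r = 3) ∧
      P.RootForm (P.root i) (P.root i) = r * P.RootForm (P.root i₀) (P.root i₀) := by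
    intro i
    obtain ⟨g, hg, hne⟩ := IsIrred.exists_pairing_ne hirr i₀ i
    obtain ⟨r, hr, e⟩ := length_cases hne (by rw [hlen]; exact hmin i)
    rw [hlen] at e
    rcases hr with hr | hr | hr | rfl
    · exact ⟨r, Or.inl hr, e⟩
    · exact ⟨r, Or.inr (Or.inl hr), e⟩
    · exact ⟨r, Or.inr (Or.inr hr), e⟩
    · exfalso
      have el := length_ratio (P := P) (i := i) (j := g • i₀)
      rw [hlen, e] at el
      have e4 : 4 * P.pairing (g • i₀) i = P.pairing i (g • i₀) :=
        mul_left_cancel₀ h0.ne' (by linear_combination el)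
      have h4 := pairing_mul_pairing_le (P := P) i (g • i₀)
      rw [← e4] at h4
      have hc : P.coxeterWeightIn ℤ i (g • i₀) = 4 := by
        rw [RootPairing.coxeterWeightIn, pairingIn_int, pairingIn_int, ← e4]
        have hq : P.pairing (g • i₀) i ≠ 0 := fun h => hne (by rw [← e4, h, mul_zero])
        have : (P.pairing (g • i₀) i) * P.pairing (g • i₀) i = 1 := by nlinarith [mul_self_pos.mpr hq]
        linear_combination 4 * this
      refine P.coxeterWeightIn_ne_four ℤ (fun h => ?_) (fun h => ?_) hc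
      · rw [h, hlen] at e; linarith
      · rw [h] at e; simp only [map_neg, LinearMap.neg_apply, neg_neg] at e; rw [hlen] at e; linarith
  refine ⟨fun i => ?_, ?_⟩
  · obtain ⟨r, rfl | rfl | rfl, e⟩ := key i
    · exact Or.inl (by rw [e, one_mul])
    · exact Or.inr (Or.inl e)
    · exact Or.inr (Or.inr e)
  · rintro ⟨⟨i, hi⟩, ⟨j, hj⟩⟩
    obtain ⟨g, hg, hne⟩ := IsIrred.exists_pairing_ne hirr i j
    have el := length_ratio (P := P) (i := j) (j := g • i)
    rw [hlen, hi, hj] at el
    have el' : 3 * P.pairing (g • i) j = 2 * P.pairing j (g • i) := mul_left_cancel₀ h0.ne' (by linear_combination el)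
    have h4 := pairing_mul_pairing_le (P := P) j (g • i)
    obtain ⟨c, hc⟩ : (2 : ℤ) ∣ P.pairing (g • i) j := by omega
    rw [hc] at el' h4
    have hc0 : c ≠ 0 := fun h => hne (by rw [h] at el'; omega)
    have hp : P.pairing j (g • i) = 3 * c := by omega
    rw [hp] at h4
    nlinarith [mul_self_pos.mpr hc0]

end Groth.Agent.S5471
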