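import Groth.Statements.S5472
import Groth.Agent.RootSys.Dominant

set_option autoImplicit false
open RootPairing
open scoped Pointwise
open RootD

namespace Groth.Agent.S5472

open Groth.Agent.RootSys

/-- Let Δ be a system of simple roots (root-only sense), γ a positive root and α, β simple roots with
(γ, α^v) > 0 and (γ, β^v) ≥ 0 (equivalently: the order of s_α(γ) along Δ is smaller than that of γ,
and the order of s_β(γ) is at most that of γ). Then for every w in the group generated by s_α and
s_β the order of w(γ) along Δ is at most that of γ, and strictly smaller unless w ∈ {1, s_β}. The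
order is the sum of the coefficients along Δ; the conclusion is stated for the coefficient vector c
of γ - w(γ) along Δ: its coefficient sum is ≥ 0, and > 0 unless w = 1 or w = s_β. -/
theorem result {ι M N : Type*} [AddCommGroup M] [AddCommGroup N]
    (P : RootPairing ι ℤ M N) [Finite ι] (Δ : Set ι) (hΔ : RootD.IsSimpleSys P Δ)
    (k i j : ι) (hk : k ∈ RootD.posOf P Δ) (hi : i ∈ Δ) (hj : j ∈ Δ)
    (hα : 0 < P.pairing k i) (hβ : 0 ≤ P.pairing k j)
    (g : P.Aut) (hg : g ∈ Subgroup.closure {Equiv.reflection P i, Equiv.reflection P j})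
    (c : ι →₀ ℤ) (hc : ↑c.support ⊆ Δ)
    (hck : Finsupp.linearCombination ℤ P.root c = P.root k - P.root (g • k)) :
    0 ≤ c.sum (fun _ a => a) ∧ (g ≠ 1 → g ≠ Equiv.reflection P j → 0 < c.sum (fun _ a => a)) := by
  classical
  let S : Set ι := {i, j}
  have hS : S ⊆ Δ := Set.insert_subset hi (Set.singleton_subset_iff.mpr hj)
  have hg' : g ∈ Subgroup.closure (refl P '' S) := by rwa [Set.image_pair]
  have key : ∀ g : P.Aut, g ∈ Subgroup.closure (refl P '' S) →
      ht hΔ (g • k) ≤ ht hΔ k ∧ (g ≠ 1 → g ≠ refl P j → ht hΔ (g • k) < ht hΔ k) := by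
    intro g hg
    refine ReflData.induction_desc ((reflData hΔ).mono hS)
      (p := fun g => ht hΔ (g • k) ≤ ht hΔ k ∧ (g ≠ 1 → g ≠ refl P j → ht hΔ (g • k) < ht hΔ k))
      ⟨(congrArg _ (one_smul _ _)).le, fun h => absurd rfl h⟩ (fun g hg l hl hneg ih => ?_) hg
    have hpos : g • l ∈ RootD.posOf P Δ := by
      rw [smul_smul_self_reflection, opp_mem_posOf_iff hΔ] at hneg
      exact not_not.mp hneg
    have hht := (mem_posOf_iff_ht hΔ _).mp hpos
    have hroot : P.root ((g * refl P l) • k) = P.root (g • k) - P.pairing k l • P.root (g • l) := by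
      rw [root_smul, smul_reflection, ← root_smul, P.root_coroot'_eq_pairing]
    have hc' : coef hΔ ((g * refl P l) • k) = coef hΔ (g • k) - P.pairing k l • coef hΔ (g • l) :=
      coef_eq hΔ (fun z hz => (Finset.mem_union.mp (Finsupp.support_sub hz)).elim (fun h => coef_support hΔ _ h)
        fun h => coef_support hΔ _ (Finsupp.support_smul h))
        (by rw [lc, map_sub, map_zsmul, ← lc, ← lc, lc_coef, lc_coef, hroot])
    have e : ht hΔ ((g * refl P l) • k) = ht hΔ (g • k) - P.pairing k l * ht hΔ (g • l) := by
      show (coef hΔ ((g * refl P l) • k)).sum _ = _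
      rw [hc', sub_eq_add_neg, Finsupp.sum_add_index' (fun _ => rfl) (fun _ _ _ => rfl), ← neg_smul,
        Finsupp.sum_smul_index (fun _ => rfl), ← Finsupp.mul_sum]
      show ht hΔ (g • k) + -P.pairing k l * ht hΔ (g • l) = _
      ring
    rw [e]
    rcases hl with rfl | hl
    · have := mul_pos hα hht
      exact ⟨by omega, fun _ _ => by have := ih.1; omega⟩
    · obtain rfl : l = j := hl
      have := mul_nonneg hβ hht.le
      refine ⟨by omega, fun h1 h2 => ?_⟩
      have h1' : g ≠ 1 := fun h => h2 (by rw [h, one_mul])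
      have h2' : g ≠ refl P l := fun h => h1 (by rw [h]; exact reflection_mul_self l)
      have := ih.2 h1' h2'
      omega
  have hce : c = coef hΔ k - coef hΔ (g • k) := lc_injective hΔ hc
    (fun z hz => (Finset.mem_union.mp (Finsupp.support_sub hz)).elim (fun h => coef_support hΔ _ h)
      fun h => coef_support hΔ _ h)
    (by show _ = Finsupp.linearCombination ℤ P.root _
        rw [map_sub, ← lc, ← lc, lc_coef, lc_coef]; exact hck)
  have hsum : c.sum (fun _ a => a) = ht hΔ k - ht hΔ (g • k) := by
    rw [hce]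
    exact Finsupp.sum_sub_index (fun _ _ _ => rfl)
  obtain ⟨h1, h2⟩ := key g hg'
  rw [hsum]
  exact ⟨by omega, fun a b => by have := h2 a b; omega⟩

end Groth.Agent.S5472
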