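import Groth.Statements.S5473
import Groth.Agent.RootSys.Dominant

set_option autoImplicit false
open RootD

namespace Groth.Agent.S5473

open Groth.Agent.RootSys

/-- If a linear map f and its transpose g induce bijections from the roots of R' onto the roots of R and
from the coroots of R onto the coroots of R' respectively (a morphism of root data in the
two-bijection sense), then the two bijections correspond: the coroot of α' is g applied to the
coroot of f(α'). -/
theorem result {ι M N ι' M' N' : Type*} [AddCommGroup M] [AddCommGroup N] [AddCommGroup M'] [AddCommGroup N']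
    (P : RootPairing ι ℤ M N) (P' : RootPairing ι' ℤ M' N') [Finite ι] [Finite ι']
    (f : M' →ₗ[ℤ] M) (g : N →ₗ[ℤ] N') (hfg : ∀ (m' : M') (n : N), P.toLinearMap (f m') n = P'.toLinearMap m' (g n))
    (e : ι' ≃ ι) (he : ∀ i' : ι', f (P'.root i') = P.root (e i'))
    (e' : ι ≃ ι') (he' : ∀ i : ι, g (P.coroot i) = P'.coroot (e' i)) :
    ∀ i' : ι', g (P.coroot (e i')) = P'.coroot i' := by
  intro c
  let d := e' (e c)
  have hp : ∀ a b, P'.pairing a (e' b) = P.pairing (e a) b := fun a b => by
    show P'.toLinearMap (P'.root a) (P'.coroot (e' b)) = P.toLinearMap (P.root (e a)) (P.coroot b)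
    rw [← he', ← hfg, he]
  have hinj : ∀ x ∈ P'.rootSpan ℤ, f x = 0 → x = 0 := fun x hx h0 => eq_zero_of_coroot'_eq_zero hx fun j => by
    obtain ⟨b, rfl⟩ := e'.surjective j
    show P'.toLinearMap x (P'.coroot (e' b)) = 0
    rw [← he', ← hfg, h0, map_zero, LinearMap.zero_apply]
  have hspan : ∀ a, P'.root a ∈ P'.rootSpan ℤ := fun a => Submodule.subset_span ⟨a, rfl⟩
  let T : ι' → ι' := fun a => e.symm (RootPairing.Equiv.reflection P (e c) • e a)
  have hT : ∀ a, P'.root (T a) = P'.root a - P'.pairing a d • P'.root c := fun a => by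
    refine sub_eq_zero.mp (hinj _ (sub_mem (hspan _) (sub_mem (hspan a) (Submodule.smul_mem _ _ (hspan c)))) ?_)
    rw [map_sub, map_sub, map_zsmul, he, he, he, Equiv.apply_symm_apply, root_reflection_smul, hp]
    exact sub_self _
  have hcc : P'.pairing c d = 2 := by rw [hp, P.pairing_same]
  have hU : ∀ a, P'.root (T (RootPairing.Equiv.reflection P' c • a)) =
      P'.root a + (P'.pairing a c - P'.pairing a d) • P'.root c := fun a => by
    have e1 : P'.pairing (RootPairing.Equiv.reflection P' c • a) d = P'.pairing a d - P'.pairing a c * 2 := by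
      rw [← P'.root_coroot'_eq_pairing, root_reflection_smul, map_sub, map_zsmul, P'.root_coroot'_eq_pairing,
        P'.root_coroot'_eq_pairing, hcc, smul_eq_mul]
    rw [hT, root_reflection_smul, e1]
    module
  have hnc : P'.root c ≠ 0 := P'.ne_zero c
  have key : ∀ a, P'.pairing a d = P'.pairing a c := fun a => by
    by_contra hne
    let w : ℤ := P'.pairing a c - P'.pairing a d
    have hw : w ≠ 0 := by omega
    have hcw : P'.pairing c c - P'.pairing c d = 0 := by rw [P'.pairing_same, hcc]; rfl
    let U : ι' → ι' := fun x => T (RootPairing.Equiv.reflection P' c • x)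
    have hiter : ∀ n : ℕ, P'.root (U^[n] a) = P'.root a + ((n : ℤ) * w) • P'.root c := by
      intro n
      induction n with
      | zero => simp
      | succ n ih =>
        have h1 : ∀ j, P'.coroot' j (P'.root (U^[n] a)) = P'.pairing a j + (n : ℤ) * w * P'.pairing c j := fun j => by
          rw [ih, map_add, map_zsmul, P'.root_coroot'_eq_pairing, P'.root_coroot'_eq_pairing, smul_eq_mul]
        simp only [P'.root_coroot'_eq_pairing] at h1
        have hw' : P'.pairing (U^[n] a) c - P'.pairing (U^[n] a) d = w := by
          rw [h1, h1]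
          linear_combination (n : ℤ) * w * hcw
        rw [Function.iterate_succ_apply', hU, hw', ih]
        push_cast
        module
    obtain ⟨n, m, hnm, he2⟩ := Finite.exists_ne_map_eq_of_infinite (fun n : ℕ => U^[n] a)
    have e2 := (hiter n).symm.trans ((congr_arg P'.root he2).trans (hiter m))
    have e3 : ((n : ℤ) * w) • P'.root c = ((m : ℤ) * w) • P'.root c := add_left_cancel e2
    have e4 := congr_arg (P'.coroot' c) e3
    simp only [map_zsmul, P'.root_coroot'_eq_pairing, P'.pairing_same, smul_eq_mul] at e4
    exact hnm (by exact_mod_cast mul_right_cancel₀ hw (mul_right_cancel₀ two_ne_zero e4))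
  rw [he']
  refine sub_eq_zero.mp (eq_zero_of_coroot'_eq_zero (P := P'.flip)
    (sub_mem (Submodule.subset_span ⟨d, rfl⟩) (Submodule.subset_span ⟨c, rfl⟩)) fun a => ?_)
  show P'.toLinearMap (P'.root a) (P'.coroot d - P'.coroot c) = 0
  rw [map_sub]
  exact sub_eq_zero.mpr (key a)

end Groth.Agent.S5473
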