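import Groth.Statements.S5474
import Groth.Agent.RootSys.Rank
import Mathlib.GroupTheory.FiniteAbelian.Basic

set_option autoImplicit false
open RootD

namespace Groth.Agent.S5474

open Groth.Agent.RootSys

/-- Every morphism between semisimple root data is an isogeny (injective on weight lattices with finite
cokernel). -/
theorem result {ι M N ι' M' N' : Type*} [AddCommGroup M] [AddCommGroup N] [AddCommGroup M'] [AddCommGroup N']
    (P : RootPairing ι ℤ M N) (P' : RootPairing ι' ℤ M' N') [Finite ι] [Finite ι']
    [Module.Finite ℤ M] [Module.Finite ℤ N] [Module.Finite ℤ M'] [Module.Finite ℤ N']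
    (hss : Module.finrank ℤ (Submodule.span ℤ (Set.range P.root)) = Module.finrank ℤ M)
    (hss' : Module.finrank ℤ (Submodule.span ℤ (Set.range P'.root)) = Module.finrank ℤ M')
    (f : RootPairing.Hom P' P) :
    Function.Injective f.weightMap ∧ Finite (M ⧸ LinearMap.range f.weightMap) := by
  haveI : Module.IsReflexive ℤ M := .of_isPerfPair P.toLinearMap
  have hco : ∀ i' m', P.coroot' (f.indexEquiv i') (f.weightMap m') = P'.coroot' i' m' := fun i' m' => by
    have e := LinearMap.congr_fun
      (RootPairing.Hom.weight_coweight_transpose_apply P' P (P.coroot (f.indexEquiv i')) f) m'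
    rw [RootPairing.Hom.coroot_coweightMap_apply, Equiv.symm_apply_apply] at e
    exact e
  constructor
  · rw [← LinearMap.ker_eq_bot, eq_bot_iff]
    intro m hm
    rw [← iInf_ker_eq_bot (P := P') hss', Submodule.mem_iInf]
    intro i'
    rw [LinearMap.mem_ker, ← hco, LinearMap.mem_ker.mp hm, map_zero]
  · haveI : Module.Finite ℤ (M ⧸ LinearMap.range f.weightMap) := inferInstance
    refine Module.finite_of_fg_torsion _ ?_
    intro x
    obtain ⟨m, rfl⟩ := Submodule.Quotient.mk_surjective _ x
    obtain ⟨n, hn, h⟩ := exists_smul_mem_span (P := P) hss m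
    refine ⟨⟨(n : ℤ), mem_nonZeroDivisors_of_ne_zero (by omega)⟩, ?_⟩
    show (n : ℤ) • (Submodule.Quotient.mk m : M ⧸ LinearMap.range f.weightMap) = 0
    rw [← Submodule.Quotient.mk_smul, Submodule.Quotient.mk_eq_zero, natCast_zsmul]
    refine Submodule.span_le.mpr ?_ h
    rintro _ ⟨i, rfl⟩
    exact ⟨P'.root (f.indexEquiv.symm i), by rw [RootPairing.Hom.root_weightMap_apply, Equiv.apply_symm_apply]⟩

end Groth.Agent.S5474
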