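import Groth.Statements.S5475
import Groth.Agent.RootSys.Irreducible

set_option autoImplicit false
open RootD

namespace Groth.Agent.S5475

open Groth.Agent.RootSys

/-- In an adjoint root datum every indivisible root is an indivisible element of the weight lattice. -/
theorem result {ι M N : Type*} [AddCommGroup M] [AddCommGroup N]
    (P : RootPairing ι ℤ M N) [Finite ι] (had : Submodule.span ℤ (Set.range P.root) = ⊤)
    (i : ι) (hind : RootD.IsIndiv P i) (m : M) (n : ℤ) (h : n • m = P.root i) : n = 1 ∨ n = -1 := by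
  obtain ⟨Δ, hΔ⟩ := exists_simpleSys (P := P)
  obtain ⟨g, -, j, hj, rfl⟩ := exists_conj_simple hΔ hind
  have h' : n • (g⁻¹ • m) = P.root j := by rw [smul_comm, h, root_smul, inv_smul_smul]
  obtain ⟨c, hc, hcm⟩ : ∃ c : ι →₀ ℤ, ↑c.support ⊆ Δ ∧ lc P c = g⁻¹ • m := by
    classical
    have hm : g⁻¹ • m ∈ Submodule.span ℤ (Set.range P.root) := had ▸ Submodule.mem_top
    refine Submodule.span_induction (p := fun x _ => ∃ c : ι →₀ ℤ, ↑c.support ⊆ Δ ∧ lc P c = x) ?_ ?_ ?_ ?_ hm
    · rintro _ ⟨a, rfl⟩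
      exact ⟨coef hΔ a, coef_support hΔ a, lc_coef hΔ a⟩
    · exact ⟨0, by simp, map_zero _⟩
    · rintro x y _ _ ⟨a, ha, hax⟩ ⟨b, hb, hby⟩
      exact ⟨a + b, fun z hz => (Finset.mem_union.mp (Finsupp.support_add hz)).elim (fun h => ha h) fun h => hb h,
        by rw [lc, map_add, ← lc, ← lc, hax, hby]⟩
    · rintro q x _ ⟨a, ha, hax⟩
      exact ⟨q • a, fun z hz => ha (Finsupp.support_smul hz), by rw [lc, map_zsmul, ← lc, hax]⟩
  have e : n • c = Finsupp.single j 1 := lc_injective hΔ (fun z hz => hc (Finsupp.support_smul hz))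
    (fun z hz => Finset.mem_singleton.mp (Finsupp.support_single_subset hz) ▸ hj)
    (by rw [lc, map_zsmul, ← lc, hcm, h']; simp [lc])
  have e2 := DFunLike.congr_fun e j
  rw [Finsupp.smul_apply, Finsupp.single_eq_same, smul_eq_mul] at e2
  exact Int.eq_one_or_neg_one_of_mul_eq_one e2

end Groth.Agent.S5475
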