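import Groth.Statements.S5476
import Groth.Agent.RootSys.Rank

set_option autoImplicit false
open RootD

namespace Groth.Agent.S5476

open Groth.Agent.RootSys

/-- The lattice of the coradical (weights killed by every coroot) and the lattice of the radical
(coweights killed by every root) both have rank rgred - rgss, the rank of the weight lattice minus
the rank of the lattice generated by the roots; and the datum is semisimple (the roots span a
sublattice of full rank) if and only if the coradical lattice vanishes, if and only if the radical
lattice vanishes. -/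
theorem result {ι M N : Type*} [AddCommGroup M] [AddCommGroup N]
    (P : RootPairing ι ℤ M N) [Finite ι] [Module.Finite ℤ M] [Module.Finite ℤ N] :
    (Module.finrank ℤ (⨅ i : ι, LinearMap.ker (P.coroot' i) : Submodule ℤ M) +
        Module.finrank ℤ (Submodule.span ℤ (Set.range P.root)) = Module.finrank ℤ M) ∧
      (Module.finrank ℤ (⨅ i : ι, LinearMap.ker (P.root' i) : Submodule ℤ N) +
        Module.finrank ℤ (Submodule.span ℤ (Set.range P.root)) = Module.finrank ℤ M) ∧
      (Module.finrank ℤ (Submodule.span ℤ (Set.range P.root)) = Module.finrank ℤ M ↔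
        (⨅ i : ι, LinearMap.ker (P.coroot' i) : Submodule ℤ M) = ⊥) ∧
      (Module.finrank ℤ (Submodule.span ℤ (Set.range P.root)) = Module.finrank ℤ M ↔
        (⨅ i : ι, LinearMap.ker (P.root' i) : Submodule ℤ N) = ⊥) := by
  have e1 := finrank_ker_add (P := P)
  have e2 : Module.finrank ℤ (⨅ i : ι, LinearMap.ker (P.root' i) : Submodule ℤ N) +
      Module.finrank ℤ (Submodule.span ℤ (Set.range P.root)) = Module.finrank ℤ M := by
    have e := finrank_ker_add (P := P.flip)
    rw [show Submodule.span ℤ (Set.range P.flip.root) = P.corootSpan ℤ from rfl] at e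
    haveI := Fintype.ofFinite ι
    rw [P.finrank_corootSpan_eq', finrank_coweight P] at e
    exact e
  haveI : Module.IsReflexive ℤ M := .of_isPerfPair P.toLinearMap
  haveI : Module.IsReflexive ℤ N := .of_isPerfPair P.flip.toLinearMap
  haveI : IsAddTorsionFree M := .of_isTorsionFree ℤ M
  haveI : IsAddTorsionFree N := .of_isTorsionFree ℤ N
  refine ⟨e1, e2, ?_, ?_⟩
  · exact ⟨fun h => Submodule.finrank_eq_zero.mp (by omega), fun h => by rw [h, finrank_bot] at e1; omega⟩
  · exact ⟨fun h => Submodule.finrank_eq_zero.mp (by omega), fun h => by rw [h, finrank_bot] at e2; omega⟩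

end Groth.Agent.S5476
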