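import Groth.Statements.S5478
import Groth.Agent.RootSys.Partition

set_option autoImplicit false
open RootPairing
open scoped Pointwise
open RootD

namespace Groth.Agent.S5478

open Groth.Agent.RootSys

/-- The group of automorphisms of a root datum that act trivially on the radical is finite. -/
theorem result {ι M N : Type*} [AddCommGroup M] [AddCommGroup N]
    (P : RootPairing ι ℤ M N) [Finite ι] :
    Set.Finite {u : P.Aut | ∀ m : M, ∃ n : ℕ, 0 < n ∧ n • (u • m - m) ∈ Submodule.span ℤ (Set.range P.root)} := by
  refine Set.Finite.of_finite_image (f := fun u : P.Aut => fun i : ι => u • i) (Set.toFinite _) ?_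
  intro u hu v hv huv
  refine aut_ext fun m => ?_
  obtain ⟨n, hn, h⟩ := hu m
  obtain ⟨n', hn', h'⟩ := hv m
  have hmem : (n * n') • (u • m - v • m) ∈ P.rootSpan ℤ := by
    rw [show u • m - v • m = (u • m - m) - (v • m - m) by abel, smul_sub]
    refine sub_mem ?_ ?_
    · rw [mul_comm, mul_smul]; exact nsmul_mem h n'
    · rw [mul_smul]; exact nsmul_mem h' n
  have h0 := eq_zero_of_coroot'_eq_zero (P := P) hmem fun j => by
    obtain ⟨i, rfl⟩ := MulAction.surjective u j
    show P.coroot' (u • i) _ = 0
    rw [map_nsmul, map_sub, coroot'_smul, show u • i = v • i from congrFun huv i, coroot'_smul, sub_self, smul_zero]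
  refine sub_eq_zero.mp (torsionFree_root (n := ((n * n' : ℕ) : ℤ)) ?_ ?_ P)
  · exact_mod_cast (Nat.mul_pos hn hn').ne'
  · rw [natCast_zsmul, h0, smul_zero]

end Groth.Agent.S5478
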