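import Groth.Statements.S5481
import Groth.Agent.RootSys.PMor
import Groth.Agent.S5446

set_option autoImplicit false
open RootD

namespace Groth.Agent.S5481

open Groth.Agent.RootSys

/-- The root bijection u of a p-morphism of reduced root data carries systems of simple roots onto
systems of simple roots and systems of positive roots onto systems of positive roots, bijectively. -/
theorem result {ι M N ι' M' N' : Type*} [AddCommGroup M] [AddCommGroup N] [AddCommGroup M'] [AddCommGroup N']
    (P : RootPairing ι ℤ M N) (P' : RootPairing ι' ℤ M' N') [Finite ι] [Finite ι'] [P.IsReduced] [P'.IsReduced]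
    (p : ℕ) (hp : 0 < p) (f : M' →ₗ[ℤ] M) (g : N →ₗ[ℤ] N')
    (hfg : ∀ (m' : M') (n : N), P.toLinearMap (f m') n = P'.toLinearMap m' (g n))
    (u : ι ≃ ι') (q : ι → ℕ) (hq : ∀ i, ∃ e : ℕ, q i = p ^ e)
    (hroot : ∀ i : ι, f (P'.root (u i)) = (q i : ℤ) • P.root i)
    (hcoroot : ∀ i : ι, g (P.coroot i) = (q i : ℤ) • P'.coroot (u i)) (Δ : Set ι) :
    (RootD.IsSimpleSys P Δ ↔ RootD.IsSimpleSys P' (u '' Δ)) ∧
      (RootD.IsPosSys P Δ ↔ RootD.IsPosSys P' (u '' Δ)) := by
  classical
  have hpos : ∀ i, 0 < q i := fun i => by obtain ⟨e, he⟩ := hq i; rw [he]; exact pow_pos hp e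
  have h : PData P P' f g u q := ⟨hfg, hpos, hroot, hcoroot⟩
  haveI := Fintype.ofFinite ι
  have fwd : ∀ Δ : Set ι, RootD.IsSimpleSys P Δ → RootD.IsSimpleSys P' (u '' Δ) := by
    intro Δ hΔ
    obtain ⟨hli, hcone⟩ := h.simple_image hΔ
    refine Groth.Agent.S5446.result P' _ (fun i _ => isIndiv_of_isReduced P' i) hli fun k' => ?_
    obtain ⟨k, rfl⟩ := u.surjective k'
    by_cases hk : k ∈ RootD.posOf P Δ
    · obtain ⟨n, hn, hm⟩ := hcone k hk; exact ⟨n, hn, Or.inl hm⟩
    · obtain ⟨n, hn, hm⟩ := hcone _ ((opp_mem_posOf_iff hΔ k).mpr hk)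
      rw [h.opp_compat, root_opp] at hm
      exact ⟨n, hn, Or.inr hm⟩
  have bwd : ∀ Δ : Set ι, RootD.IsSimpleSys P' (u '' Δ) → RootD.IsSimpleSys P Δ := by
    intro Δ hΔ'
    refine Groth.Agent.S5446.result P _ (fun i _ => isIndiv_of_isReduced P i) ?_ fun k => ?_
    · rw [linearIndepOn_iff]
      intro l hl h0
      let Q : ℕ := ∏ a, q a
      let c : ι' →₀ ℤ := l.sum fun a z => Finsupp.single (u a) (z * ((Q / q a : ℕ) : ℤ))
      have hcs : ↑c.support ⊆ u '' Δ := fun b hb => by
        obtain ⟨a, ha, hab⟩ := Finset.mem_biUnion.mp (Finsupp.support_sum hb)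
        exact ⟨a, hl ha, (Finset.mem_singleton.mp (Finsupp.support_single_subset hab)).symm⟩
      have hc : c = 0 := by
        refine linearIndepOn_iff.mp hΔ'.linInd c hcs (h.inj ?_ ?_)
        · rw [Finsupp.linearCombination_apply]
          exact Submodule.sum_mem _ fun a _ => Submodule.smul_mem _ _ (Submodule.subset_span ⟨a, rfl⟩)
        · rw [map_finsuppSum, map_finsuppSum]
          simp only [Finsupp.linearCombination_single, map_zsmul, hroot, smul_smul]
          have e : ∀ a, ((Q / q a : ℕ) : ℤ) * q a = Q := fun a => by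
            exact_mod_cast Nat.div_mul_cancel (Finset.dvd_prod_of_mem q (Finset.mem_univ a))
          simp only [mul_assoc, e, mul_comm _ (Q : ℤ), mul_smul, ← Finsupp.smul_sum]
          rw [Finsupp.linearCombination_apply] at h0
          rw [h0, smul_zero]
      ext a
      have e := DFunLike.congr_fun hc (u a)
      simp only [c, Finsupp.sum_apply, Finsupp.zero_apply] at e
      rw [Finsupp.sum, Finset.sum_eq_single a (fun b _ hb => Finsupp.single_eq_of_ne fun h => hb (u.injective h).symm)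
        (fun ha => by rw [Finsupp.notMem_support_iff.mp ha, zero_mul, Finsupp.single_zero]; rfl),
        Finsupp.single_eq_same, mul_eq_zero] at e
      exact e.resolve_right (by
        have := Nat.div_pos (Nat.le_of_dvd (Finset.prod_pos fun a _ => hpos a)
          (Finset.dvd_prod_of_mem q (Finset.mem_univ a))) (hpos a)
        exact_mod_cast this.ne')
    · have key : ∀ k, u k ∈ RootD.posOf P' (u '' Δ) → (q k) • P.root k ∈ RootD.natSpan P Δ := by
        intro k hk
        obtain ⟨c, hc, hnn, hce⟩ := exists_nonneg_coef (show P'.root (u k) ∈ RootD.natSpan P' (u '' Δ) from hk)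
        have e := congr_arg f hce
        rw [hroot, natCast_zsmul, lc, Finsupp.linearCombination_apply, map_finsuppSum] at e
        rw [← e]
        refine AddSubmonoid.sum_mem _ fun b hb => ?_
        obtain ⟨a, ha, rfl⟩ := hc hb
        show f (c (u a) • P'.root (u a)) ∈ RootD.natSpan P Δ
        obtain ⟨n, hn⟩ := Int.eq_ofNat_of_zero_le (hnn (u a))
        rw [hn, map_zsmul, hroot, natCast_zsmul, natCast_zsmul]
        exact AddSubmonoid.nsmul_mem _ (AddSubmonoid.nsmul_mem _ (root_mem_natSpan ha) _) _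
      by_cases hk : u k ∈ RootD.posOf P' (u '' Δ)
      · exact ⟨q k, hpos k, Or.inl (key k hk)⟩
      · have := key (opp P k) (by rw [h.opp_compat]; exact (opp_mem_posOf_iff hΔ' _).mpr hk)
        rw [root_opp] at this
        exact ⟨q (opp P k), hpos _, Or.inr this⟩
  have hposeq : ∀ Δ : Set ι, RootD.IsSimpleSys P Δ → u '' RootD.posOf P Δ = RootD.posOf P' (u '' Δ) := by
    intro Δ hΔ
    have hΔ' := fwd Δ hΔ
    have hS' := isPosSys_posOf hΔ'
    obtain ⟨-, hcone⟩ := h.simple_image hΔ
    have hsub : ∀ k ∈ RootD.posOf P Δ, u k ∈ RootD.posOf P' (u '' Δ) := fun k hk => by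
      obtain ⟨n, hn, hm⟩ := hcone k hk
      refine hS'.sat n hn (natSpan_mono ?_ hm)
      exact fun a ha => simple_mem_posOf hΔ' ha
    refine Set.Subset.antisymm (fun x ⟨k, hk, e⟩ => e ▸ hsub k hk) fun x hx => ?_
    obtain ⟨k, rfl⟩ := u.surjective x
    refine ⟨k, by_contra fun hk => ?_, rfl⟩
    have := hsub _ ((opp_mem_posOf_iff hΔ k).mpr hk)
    rw [h.opp_compat] at this
    exact (opp_mem_posOf_iff hΔ' _).mp this hx
  refine ⟨⟨fwd Δ, bwd Δ⟩, fun hS => ?_, fun hS => ?_⟩
  · have hD := isSimpleSys_simpleOf hS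
    rw [← posOf_simpleOf hS, hposeq _ hD]
    exact isPosSys_posOf (fwd _ hD)
  · have hD := isSimpleSys_simpleOf hS
    have e0 : simpleOf P' (u '' Δ) = u '' (u ⁻¹' simpleOf P' (u '' Δ)) := (u.image_preimage _).symm
    have hD0 : RootD.IsSimpleSys P (u ⁻¹' simpleOf P' (u '' Δ)) := bwd _ (e0 ▸ hD)
    have e := hposeq _ hD0
    rw [← e0, posOf_simpleOf hS] at e
    rw [← u.injective.image_injective e]
    exact isPosSys_posOf hD0

end Groth.Agent.S5481
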