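import Groth.Statements.S5482
import Groth.Agent.RootSys.Partition

set_option autoImplicit false
open RootD

namespace Groth.Agent.S5482

open Groth.Agent.RootSys

/-- If the roots are partitioned into two closed symmetric subsets R', R'', then with Δ' = Δ ∩ R', Δ'' =
Δ ∩ R'' for a system of simple roots Δ one has R' = R_{Δ'}, R'' = R_{Δ''}, and Δ' is orthogonal to
Δ''. -/
theorem result {ι M N : Type*} [AddCommGroup M] [AddCommGroup N]
    (P : RootPairing ι ℤ M N) [Finite ι] (Δ : Set ι) (hΔ : RootD.IsSimpleSys P Δ) (R' : Set ι)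
    (hc : RootD.IsClosedSub P R') (hs : RootD.IsSymmSub P R') (hc' : RootD.IsClosedSub P R'ᶜ)
    (hs' : RootD.IsSymmSub P R'ᶜ) :
    R' = RootD.inSpan P (Δ ∩ R') ∧ R'ᶜ = RootD.inSpan P (Δ \ R') ∧
      ∀ i ∈ Δ ∩ R', ∀ j ∈ Δ \ R', P.IsOrthogonal i j := by
  have h : IsClosedPartition P R' := ⟨hc, hs, hc', hs'⟩
  have horth : ∀ i ∈ Δ ∩ R', ∀ j ∈ Δ \ R', P.IsOrthogonal i j := fun i hi j hj =>
    isOrthogonal_iff.mpr (by_contra fun hne => hj.2 (h.mem_of_pairing_ne hi.2 hne))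
  have h' : IsClosedPartition P R'ᶜ := ⟨hc', hs', by rwa [compl_compl], by rwa [compl_compl]⟩
  have hsd : Δ \ (Δ ∩ R') = Δ \ R' := Set.sdiff_self_inter
  have key : ∀ k, (k ∈ RootD.inSpan P (Δ ∩ R') → k ∈ R') ∧ (k ∈ RootD.inSpan P (Δ \ R') → k ∉ R') := by
    intro k
    obtain ⟨i, hi, hci, hp⟩ := exists_support_not_orthogonal hΔ k
    exact ⟨fun hk => h.mem_of_pairing_ne ((mem_inSpan_iff hΔ Set.inter_subset_left k).mp hk i hci).2
        (fun e => hp (pairing_zero_comm.mp e)),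
      fun hk => h'.mem_of_pairing_ne ((mem_inSpan_iff hΔ Set.sdiff_subset k).mp hk i hci).2
        (fun e => hp (pairing_zero_comm.mp e))⟩
  have hor : ∀ k, k ∈ RootD.inSpan P (Δ ∩ R') ∨ k ∈ RootD.inSpan P (Δ \ R') := fun k => by
    have := mem_inSpan_or hΔ Set.inter_subset_left (fun i hi j hj => (horth i hi j (hsd ▸ hj)).1) k
    rwa [hsd] at this
  exact ⟨Set.ext fun k => ⟨fun hk => (hor k).resolve_right fun h2 => (key k).2 h2 hk, (key k).1⟩,
    Set.ext fun k => ⟨fun hk => (hor k).resolve_left fun h2 => hk ((key k).1 h2), (key k).2⟩, horth⟩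

end Groth.Agent.S5482
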