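import Groth.Statements.S5486
import Groth.Agent.RootSys.Partition

set_option autoImplicit false
open RootD

namespace Groth.Agent.S5486

open Groth.Agent.RootSys

/-- For orthogonal roots α, β, the sum α + β is a root if and only if the difference α - β is. -/
theorem result {ι M N : Type*} [AddCommGroup M] [AddCommGroup N]
    (P : RootPairing ι ℤ M N) [Finite ι] (i j : ι) (h : P.IsOrthogonal i j) :
    P.root i + P.root j ∈ Set.range P.root ↔ P.root i - P.root j ∈ Set.range P.root := by
  have e : P.root i - P.root j = (RootPairing.Equiv.reflection P j) • (P.root i + P.root j) := by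
    rw [smul_add, ← root_smul, ← root_smul, root_reflection_smul, root_reflection_smul, h.1, P.pairing_same]
    module
  constructor
  · rintro ⟨k, hk⟩
    exact ⟨RootPairing.Equiv.reflection P j • k, by rw [root_smul, hk, e]⟩
  · rintro ⟨k, hk⟩
    refine ⟨RootPairing.Equiv.reflection P j • k, ?_⟩
    rw [root_smul, hk, e, ← mul_smul, reflection_mul_self, one_smul]

end Groth.Agent.S5486
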