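import Groth.Statements.S5488
import Groth.Agent.RootSys.Weyl

set_option autoImplicit false
open RootPairing
open scoped Pointwise
open RootD

namespace Groth.Agent.S5488

open Groth.Agent.RootSys

/-- The reduced datum of indivisible roots has the same Weyl group: the reflections in indivisible roots
generate W. -/
theorem result {ι M N : Type*} [AddCommGroup M] [AddCommGroup N]
    (P : RootPairing ι ℤ M N) [Finite ι] :
    Subgroup.closure ((fun i : ι => Equiv.reflection P i) '' {i : ι | RootD.IsIndiv P i}) = P.weylGroup := by
  refine le_antisymm (closure_le_weylGroup _) ?_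
  rw [RootPairing.weylGroup, Subgroup.closure_le]
  rintro _ ⟨k, rfl⟩
  by_cases hk : RootD.IsIndiv P k
  · exact Subgroup.subset_closure ⟨k, hk, rfl⟩
  · simp only [RootD.IsIndiv, not_forall, not_not] at hk
    obtain ⟨j, hj⟩ := hk
    refine Subgroup.subset_closure ⟨j, fun l hl => ?_, (reflection_double hj.symm).symm⟩
    have h2 : P.pairing l k * 4 = 2 := by
      rw [← P.pairing_same k, ← P.root_coroot'_eq_pairing k k, ← hj, ← hl, smul_smul, map_zsmul,
        P.root_coroot'_eq_pairing]
      simp [mul_comm]
    omega

end Groth.Agent.S5488
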