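import Groth.Statements.S5489
import Groth.Agent.RootSys.Weyl

set_option autoImplicit false
open RootD

namespace Groth.Agent.S5489

open Groth.Agent.RootSys

/-- If a root α, distinct from roots α_1, ..., α_n, is a non-negative rational combination of them, then
some α_l with non-zero coefficient has (α^v, α_l) > 0 and α - α_l a root. -/
theorem result {ι M N : Type*} [AddCommGroup M] [AddCommGroup N]
    (P : RootPairing ι ℤ M N) [Finite ι] {n : ℕ} (a : Fin n → ι) (m : Fin n → ℕ)
    (k : ι) (hne : ∀ l, a l ≠ k) (c : ℕ) (hc : 0 < c) (hk : c • P.root k = ∑ l, m l • P.root (a l)) :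
    ∃ l : Fin n, m l ≠ 0 ∧ 0 < P.pairing (a l) k ∧ P.root k - P.root (a l) ∈ Set.range P.root := by
  classical
  let s : Multiset ι := ∑ l, Multiset.replicate (m l) (a l)
  have hs : sumRoots P s = ∑ l, m l • P.root (a l) := by
    show (Multiset.map P.root s).sum = _
    rw [show Multiset.map P.root s = ∑ l, (Multiset.replicate (m l) (a l)).map P.root from
      map_sum (Multiset.mapAddMonoidHom P.root) _ _, Multiset.sum_sum]
    simp
  obtain ⟨b, hb, hp⟩ := exists_pairing_pos (P := P) (s := s) hc (hk.trans hs.symm)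
  obtain ⟨l, -, hl⟩ := Multiset.mem_sum.mp hb
  obtain ⟨h0, rfl⟩ := Multiset.mem_replicate.mp hl
  exact ⟨l, h0, hp, sub_root_mem (pairing_pos_comm.mp hp) (hne l).symm⟩

end Groth.Agent.S5489
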