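import Groth.Statements.S5493
import Mathlib

set_option autoImplicit false
open RootD

namespace Groth.Agent.S5493
lemma top_le_span_support {κ X Y : Type*} [AddCommGroup X] [AddCommGroup Y] (Q : RootPairing κ ℤ X Y)
    (c : Q.Base) (h : Submodule.span ℤ (Set.range Q.root) = ⊤) :
    ⊤ ≤ Submodule.span ℤ (Set.range fun i : c.support => Q.root i) := by
  rw [← h]
  refine Submodule.span_le.mpr ?_
  rintro _ ⟨k, rfl⟩
  have := c.root_mem_span_int k
  rwa [Set.image_eq_range] at this


/-- Adjoint case; the simply connected case is dual: two reduced adjoint root data with systems of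
simple roots Δ, Δ' and a bijection u : Δ → Δ' respecting the Cartan matrices are isomorphic through
a unique isomorphism inducing u on Δ. -/
theorem result {ι M N ι' M' N' : Type*} [AddCommGroup M] [AddCommGroup N] [AddCommGroup M'] [AddCommGroup N']
    (P : RootPairing ι ℤ M N) (P' : RootPairing ι' ℤ M' N') [Finite ι] [Finite ι'] [P.IsReduced] [P'.IsReduced]
    (had : Submodule.span ℤ (Set.range P.root) = ⊤) (had' : Submodule.span ℤ (Set.range P'.root) = ⊤)
    (b : P.Base) (b' : P'.Base) (u : ↥b.support ≃ ↥b'.support)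
    (hu : ∀ i j : ↥b.support, P.pairing (i : ι) (j : ι) = P'.pairing (u i : ι') (u j : ι')) :
    ∃! e : RootPairing.Equiv P P', ∀ i : ↥b.support, e.indexEquiv (i : ι) = (u i : ι') := by
  classical
  let B : Module.Basis b.support ℤ M := Module.Basis.mk (b.linearIndepOn_root.restrict_scalars' ℤ) (top_le_span_support P b had)
  let B' : Module.Basis b'.support ℤ M' :=
    Module.Basis.mk (b'.linearIndepOn_root.restrict_scalars' ℤ) (top_le_span_support P' b' had')
  have hBa : ∀ i : b.support, B i = P.root i := fun i => Module.Basis.mk_apply _ _ i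
  have hBa' : ∀ i : b'.support, B' i = P'.root i := fun i => Module.Basis.mk_apply _ _ i
  let φ : M ≃ₗ[ℤ] M' := B.equiv B' u
  have hφ : ∀ i : b.support, φ (P.root i) = P'.root (u i) := fun i => by
    rw [← hBa, Module.Basis.equiv_apply, hBa']
  let Good : ι → ι' → Prop := fun k k' =>
    φ (P.root k) = P'.root k' ∧ ∀ x, P'.coroot' k' (φ x) = P.coroot' k x
  have hbase : ∀ i : b.support, Good i (u i) := fun i => ⟨hφ i, fun x => by
    have : (P'.coroot' (u i)).comp φ.toLinearMap = P.coroot' i := B.ext fun j => by
      rw [hBa]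
      show P'.coroot' (u i) (φ (P.root j)) = P.coroot' i (P.root j)
      rw [hφ, P'.root_coroot'_eq_pairing, P.root_coroot'_eq_pairing, hu]
    exact LinearMap.congr_fun this x⟩
  have hstep : ∀ {i i' j j'}, Good i i' → Good j j' → Good (P.reflectionPerm j i) (P'.reflectionPerm j' i') := by
    intro i i' j j' hi hj
    constructor
    · rw [P.root_reflectionPerm, P'.root_reflectionPerm, P.reflection_apply_root, P'.reflection_apply_root,
        map_sub, map_smul, hi.1, hj.1, ← P'.root_coroot'_eq_pairing, ← P.root_coroot'_eq_pairing, ← hi.1, hj.2]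
    · intro x
      show P'.toLinearMap (φ x) (P'.coroot _) = P.toLinearMap x (P.coroot _)
      rw [P.coroot_reflectionPerm, P'.coroot_reflectionPerm, P.coreflection_apply_coroot,
        P'.coreflection_apply_coroot, map_sub, map_sub, map_smul, map_smul]
      have e1 : P'.pairing j' i' = P.pairing j i := by
        rw [← P'.root_coroot'_eq_pairing, ← P.root_coroot'_eq_pairing, ← hj.1, hi.2]
      rw [e1]
      exact congrArg₂ (fun a c => a - P.pairing j i • c) (hi.2 x) (hj.2 x)
  have hex : ∀ k, ∃ k', Good k k' := fun k => b.induction_reflect k (p := fun k => ∃ k', Good k k')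
    (fun i ⟨i', hi⟩ => ⟨_, hstep hi hi⟩) (fun i hi => ⟨_, hbase ⟨i, hi⟩⟩)
    (fun i j ⟨i', hi⟩ hj => ⟨_, hstep hi (hbase ⟨j, hj⟩)⟩)
  have hsurj : ∀ k', ∃ k, Good k k' := fun k' => b'.induction_reflect k' (p := fun k' => ∃ k, Good k k')
    (fun i' ⟨i, hi⟩ => ⟨_, hstep hi hi⟩)
    (fun i' hi' => ⟨u.symm ⟨i', hi'⟩, by simpa using hbase (u.symm ⟨i', hi'⟩)⟩)
    (fun i' j' ⟨i, hi⟩ hj' => ⟨_, hstep hi (by simpa using hbase (u.symm ⟨j', hj'⟩))⟩)
  choose σ hσ using hex
  have hσinj : Function.Injective σ := fun a c e =>
    P.root.injective (φ.injective ((hσ a).1.trans ((congrArg P'.root e).trans (hσ c).1.symm)))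
  have hσsurj : Function.Surjective σ := fun k' => by
    obtain ⟨k, hk⟩ := hsurj k'
    exact ⟨k, P'.root.injective ((hσ k).1.symm.trans hk.1)⟩
  let se : ι ≃ ι' := Equiv.ofBijective σ ⟨hσinj, hσsurj⟩
  let e : RootPairing.Equiv P P' :=
    { weightMap := φ
      coweightMap := (P'.flip.toPerfPair.trans (φ.dualMap.trans P.flip.toPerfPair.symm)).toLinearMap
      indexEquiv := se
      weight_coweight_transpose := by ext; simp
      root_weightMap := funext fun i => (hσ i).1
      coroot_coweightMap := funext fun i' => P.flip.toPerfPair.injective (LinearMap.ext fun x => by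
        obtain ⟨i, rfl⟩ := se.surjective i'
        simp only [Function.comp_apply, Equiv.symm_apply_apply]
        have e := (hσ i).2 x
        simpa [-Equiv.ofBijective_apply, show se i = σ i from rfl] using e)
      bijective_weightMap := LinearEquiv.bijective _
      bijective_coweightMap := LinearEquiv.bijective _ }
  have he : ∀ i : b.support, e.indexEquiv (i : ι) = (u i : ι') := fun i =>
    P'.root.injective ((hσ i).1.symm.trans (hφ i))
  refine ⟨e, he, fun f hf => ?_⟩
  have hw : f.weightMap = e.weightMap := B.ext fun i => by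
    rw [hBa, RootPairing.Hom.root_weightMap_apply,
      RootPairing.Hom.root_weightMap_apply, hf i, he i]
  refine RootPairing.Equiv.ext hw (LinearMap.ext fun y => P.flip.toPerfPair.injective ?_) (Equiv.ext fun i =>
    P'.root.injective ?_)
  · rw [← RootPairing.Hom.weight_coweight_transpose_apply, ← RootPairing.Hom.weight_coweight_transpose_apply, hw]
  · rw [← RootPairing.Hom.root_weightMap_apply, ← RootPairing.Hom.root_weightMap_apply, hw]


end Groth.Agent.S5493
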