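import Groth.Statements.S5494
import Groth.Agent.RootSys.Partition

set_option autoImplicit false
open RootD

namespace Groth.Agent.S5494

open Groth.Agent.RootSys

/-- If a system of simple roots has no partition into two non-empty orthogonal subsets, then any two
roots are linked by a chain of roots with consecutive members non-orthogonal. -/
theorem result {ι M N : Type*} [AddCommGroup M] [AddCommGroup N]
    (P : RootPairing ι ℤ M N) [Finite ι] (Δ : Set ι) (hΔ : RootD.IsSimpleSys P Δ)
    (hconn : ∀ Δ' : Set ι, Δ' ⊆ Δ → (∀ i ∈ Δ', ∀ j ∈ Δ \ Δ', P.IsOrthogonal i j) → Δ' = ∅ ∨ Δ' = Δ)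
    (i j : ι) : Relation.ReflTransGen (fun a b : ι => ¬ P.IsOrthogonal a b) i j := by
  let r : ι → ι → Prop := fun a b => ¬ P.IsOrthogonal a b
  let C : Set ι := {b | Relation.ReflTransGen r i b}
  have hlink : ∀ k, ∃ s ∈ Δ, r k s := fun k => by
    obtain ⟨s, hs, -, hp⟩ := exists_support_not_orthogonal hΔ k
    exact ⟨s, hs, fun h => hp h.1⟩
  rcases hconn (Δ ∩ C) Set.inter_subset_left (fun a ha b hb => by
      by_contra h
      exact hb.2 ⟨hb.1, Relation.ReflTransGen.tail ha.2 h⟩) with h | h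
  · obtain ⟨s, hs, hr⟩ := hlink i
    exact absurd (show s ∈ Δ ∩ C from ⟨hs, Relation.ReflTransGen.single hr⟩) (h ▸ Set.notMem_empty s)
  · obtain ⟨s, hs, hr⟩ := hlink j
    rw [← h] at hs
    exact Relation.ReflTransGen.tail hs.2 fun h' => hr ⟨h'.2, h'.1⟩

end Groth.Agent.S5494
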