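import Groth.Statements.S5495
import Groth.Agent.RootSys.Partition

set_option autoImplicit false
open RootD

namespace Groth.Agent.S5495

open Groth.Agent.RootSys

/-- If α is an indivisible root and kα is a root for a rational k, then k is an integer. -/
theorem result {ι M N : Type*} [AddCommGroup M] [AddCommGroup N]
    (P : RootPairing ι ℤ M N) [Finite ι] (i j : ι) (hind : RootD.IsIndiv P i) (a b : ℤ) (hb : b ≠ 0)
    (h : b • P.root j = a • P.root i) : b ∣ a := by
  have ha : a ≠ 0 := fun h0 => P.ne_zero j (torsionFree_root hb (by rw [h, h0, zero_smul, smul_zero]) P)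
  have key : ∀ (b a : ℤ) (j : ι), 0 < b → 0 < a → b • P.root j = a • P.root i → b ∣ a := by
    intro b a j hb ha h
    rcases proportional_cases hb ha h hind with rfl | h2
    · exact ⟨1, by
        have e := congr_arg (P.coroot' j) h
        rw [map_zsmul, map_zsmul, P.root_coroot'_eq_pairing, P.pairing_same, smul_eq_mul, smul_eq_mul] at e
        omega⟩
    · exact ⟨2, by
        have e := congr_arg (P.coroot' i) h
        rw [h2] at e
        simp only [map_zsmul, P.root_coroot'_eq_pairing, P.pairing_same, smul_eq_mul] at e
        omega⟩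
  rcases lt_or_gt_of_ne hb with hb | hb <;> rcases lt_or_gt_of_ne ha with ha | ha
  · exact neg_dvd.mp (dvd_neg.mp (key (-b) (-a) j (by omega) (by omega) (by rw [neg_smul, neg_smul, h])))
  · exact neg_dvd.mp (key (-b) a (opp P j) (by omega) ha (by rw [root_opp, neg_smul_neg, h]))
  · exact dvd_neg.mp (key b (-a) (opp P j) hb (by omega) (by rw [root_opp, smul_neg, h, neg_smul]))
  · exact key b a j hb ha h

end Groth.Agent.S5495
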