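import Groth.Statements.S5496
import Groth.Agent.RootSys.Dominant

set_option autoImplicit false
open RootPairing
open scoped Pointwise
open RootD

namespace Groth.Agent.S5496

open Groth.Agent.RootSys

lemma rootForm_smul {ι M N : Type*} [AddCommGroup M] [AddCommGroup N] {P : RootPairing ι ℤ M N} [Fintype ι]
    (g : P.Aut) (x y : M) : P.RootForm (g • x) (g • y) = P.RootForm x y := by
  rw [RootPairing.rootForm_apply_apply, RootPairing.rootForm_apply_apply,
    ← Equiv.sum_comp (MulAction.toPerm g : Equiv.Perm ι) (fun i => P.coroot' i (g • x) * P.coroot' i (g • y))]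
  refine Finset.sum_congr rfl fun i _ => ?_
  show P.coroot' (g • i) (g • x) * P.coroot' (g • i) (g • y) = _
  rw [coroot'_smul, coroot'_smul]

/-- For non-proportional roots α, β let n be the least integer n > 0 with (s_α s_β)^n(α) = α and (s_α
s_β)^n(β) = β. Then the subgroup W_{α,β} generated by s_α and s_β is presented by s_α² = s_β² = (s_α
s_β)^n = 1; equivalently it has exactly 2n elements. -/
theorem result {ι M N : Type*} [AddCommGroup M] [AddCommGroup N]
    (P : RootPairing ι ℤ M N) [Finite ι] (i j : ι) (hli : LinearIndependent ℤ ![P.root i, P.root j])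
    (n : ℕ) (hn : IsLeast {m : ℕ | 0 < m ∧ ((Equiv.reflection P i * Equiv.reflection P j) ^ m) • i = i ∧
      ((Equiv.reflection P i * Equiv.reflection P j) ^ m) • j = j} n) :
    Nat.card (Subgroup.closure ({Equiv.reflection P i, Equiv.reflection P j} : Set P.Aut)) = 2 * n := by
  classical
  haveI := Fintype.ofFinite ι
  let r := refl P i * refl P j
  let s := refl P i
  let t := refl P j
  have hfix : ∀ m : ℕ, (r ^ m) • i = i → (r ^ m) • j = j → r ^ m = 1 := by
    intro m hi hj
    refine aut_ext fun x => ?_
    have hmem : ∀ m : ℕ, (r ^ m) • x - x ∈ Submodule.span ℤ {P.root i, P.root j} := by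
      intro m
      induction m with
      | zero => simp
      | succ m ih =>
        rw [pow_succ', mul_smul]
        generalize (r ^ m) • x = y at ih ⊢
        rw [show r • y = refl P i • refl P j • y from mul_smul _ _ _, RootPairing.Equiv.reflection_smul,
          RootPairing.Equiv.reflection_smul, P.reflection_apply, P.reflection_apply, sub_right_comm]
        refine sub_mem ?_ (Submodule.smul_mem _ _ (Submodule.subset_span (Set.mem_insert _ _)))
        rw [sub_right_comm]
        exact sub_mem ih (Submodule.smul_mem _ _ (Submodule.subset_span (Set.mem_insert_of_mem _ rfl)))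
    obtain ⟨a, b, hab⟩ := Submodule.mem_span_pair.mp (hmem m)
    have hz : ∀ l, (r ^ m) • l = l → P.RootForm (P.root l) ((r ^ m) • x - x) = 0 := fun l hl => by
      rw [map_sub]
      conv_lhs => arg 1; rw [← hl, root_smul, rootForm_smul]
      exact sub_self _
    have h0 : P.RootForm ((r ^ m) • x - x) ((r ^ m) • x - x) = 0 := by
      have e : ((r ^ m) • x - x) = a • P.root i + b • P.root j := hab.symm
      conv_lhs => arg 1; rw [e]
      simp [hz i hi, hz j hj]
    rw [one_smul]
    exact sub_eq_zero.mp (P.eq_zero_of_mem_rootSpan_of_rootForm_self_eq_zero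
      (Submodule.span_mono (by intro z hz; rcases hz with rfl | rfl <;> exact ⟨_, rfl⟩) (hmem m)) h0)
  have hr : r ^ n = 1 := hfix n hn.1.2.1 hn.1.2.2
  have hord : orderOf r = n := by
    refine le_antisymm (orderOf_le_of_pow_eq_one hn.1.1 hr) (hn.2 ⟨?_, ?_, ?_⟩)
    · exact orderOf_pos_iff.mpr (isOfFinOrder_iff_pow_eq_one.mpr ⟨n, hn.1.1, hr⟩)
    · show (r ^ orderOf r) • i = i
      rw [pow_orderOf_eq_one, one_smul]
    · show (r ^ orderOf r) • j = j
      rw [pow_orderOf_eq_one, one_smul]
  have hss : s * s = 1 := reflection_mul_self i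
  have htt : t * t = 1 := reflection_mul_self j
  have hconj : s * r * s = r⁻¹ := eq_inv_of_mul_eq_one_left (by
    show s * (s * t) * s * (s * t) = 1
    rw [← mul_assoc s s t, hss, one_mul, mul_assoc t s, ← mul_assoc s s t, hss, one_mul, htt])
  have hsnot : s ∉ Subgroup.zpowers r := by
    rintro ⟨k, hk⟩
    have hcomm : Commute s r := hk ▸ (Commute.refl r).zpow_left k
    have hr2 : r * r = 1 := by
      have e : s * r * s = r := by rw [hcomm.eq, mul_assoc, hss, mul_one]
      rw [e] at hconj
      conv_lhs => arg 1; rw [hconj]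
      exact inv_mul_cancel r
    change r ^ k = s at hk
    rcases Int.even_or_odd k with ⟨q, rfl⟩ | ⟨q, rfl⟩
    · rw [← two_mul, zpow_mul, zpow_two, hr2, one_zpow] at hk
      have e := congrArg (fun g : P.Aut => g • i) hk
      simp only [one_smul] at e
      exact opp_ne i e.symm
    · rw [zpow_add, zpow_one, zpow_mul, zpow_two, hr2, one_zpow, one_mul] at hk
      have e := congrArg (fun g : P.Aut => g • j) (mul_left_cancel (hk.trans (mul_one s).symm))
      simp only [one_smul] at e
      exact opp_ne j e
  let Z := Subgroup.zpowers r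
  let T : Set P.Aut := (Z : Set P.Aut) ∪ (fun z => z * s) '' (Z : Set P.Aut)
  have hsz : ∀ z ∈ Z, s * z * s ∈ Z := by
    rintro _ ⟨k, rfl⟩
    show s * r ^ k * s ∈ Z
    have : s * r ^ k * s = (s * r * s) ^ k := by
      rw [show s * r * s = s * r * s⁻¹ by rw [inv_eq_of_mul_eq_one_left hss]]
      rw [conj_zpow, inv_eq_of_mul_eq_one_left hss]
    rw [this, hconj]
    exact Z.zpow_mem (Z.inv_mem (Subgroup.mem_zpowers r)) k
  have hclos : (Subgroup.closure ({refl P i, refl P j} : Set P.Aut) : Set P.Aut) = T := by
    refine Set.Subset.antisymm (fun g hg => ?_) ?_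
    · have hstep : ∀ x ∈ ({refl P i, refl P j} : Set P.Aut), ∀ y ∈ T, x * y ∈ T := by
        rintro x hx y hy
        have hs : ∀ y ∈ T, s * y ∈ T := by
          rintro y (hy | ⟨z, hz, rfl⟩)
          · exact Or.inr ⟨s * y * s, hsz y hy, by show s * y * s * s = s * y; rw [mul_assoc, hss, mul_one]⟩
          · exact Or.inl (by show s * (z * s) ∈ Z; rw [← mul_assoc]; exact hsz z hz)
        rcases hx with rfl | rfl
        · exact hs y hy
        · have e : refl P j * y = s * (r * y) := by
            show t * y = s * (s * t * y)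
            rw [← mul_assoc s, ← mul_assoc s, hss, one_mul]
          rw [e]
          refine hs _ ?_
          rcases hy with hy | ⟨z, hz, rfl⟩
          · exact Or.inl (Z.mul_mem (Subgroup.mem_zpowers r) hy)
          · exact Or.inr ⟨r * z, Z.mul_mem (Subgroup.mem_zpowers r) hz, mul_assoc _ _ _⟩
      induction hg using Subgroup.closure_induction_left with
      | one => exact Or.inl Z.one_mem
      | mul_left x hx y _ ih => exact hstep x hx y ih
      | inv_mul_cancel x hx y _ ih =>
        rw [show x⁻¹ = x from inv_eq_of_mul_eq_one_left (by rcases hx with rfl | rfl; exacts [hss, htt])]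
        exact hstep x hx y ih
    · have hz : Z ≤ Subgroup.closure ({refl P i, refl P j} : Set P.Aut) := Subgroup.zpowers_le.mpr
        (mul_mem (Subgroup.subset_closure (Set.mem_insert _ _)) (Subgroup.subset_closure (Set.mem_insert_of_mem _ rfl)))
      rintro g (hg | ⟨z, hzm, rfl⟩)
      · exact hz hg
      · exact mul_mem (hz hzm) (Subgroup.subset_closure (Set.mem_insert _ _))
  have hfin : (Z : Set P.Aut).Finite := by
    have : Finite Z := Nat.finite_of_card_ne_zero (by rw [Nat.card_zpowers, hord]; have := hn.1.1; omega)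
    exact Set.toFinite _
  show Nat.card ((Subgroup.closure ({refl P i, refl P j} : Set P.Aut) : Set P.Aut) : Type _) = 2 * n
  rw [hclos, Nat.card_coe_set_eq, Set.ncard_union_eq ?_ hfin (hfin.image _),
    Set.ncard_image_of_injective _ (mul_left_injective s), ← Nat.card_coe_set_eq,
    show Nat.card ((Z : Set P.Aut) : Type _) = n from hord ▸ Nat.card_zpowers r, two_mul]
  rw [Set.disjoint_left]
  rintro g hg ⟨z, hz, rfl⟩
  exact hsnot ((Z.mul_mem_cancel_left hz).mp hg)

end Groth.Agent.S5496
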