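import Groth.Statements.S5498
import Groth.Agent.RootSys.Irreducible

set_option autoImplicit false
open RootD

namespace Groth.Agent.S5498

open Groth.Agent.RootSys

/-- If R is irreducible then so is the dual datum R^v, and long(α)·long(α^v) (equivalently ℓ(α) ℓ(α^v))
is constant on the roots. -/
theorem result {ι M N : Type*} [AddCommGroup M] [AddCommGroup N]
    (P : RootPairing ι ℤ M N) [Finite ι] [Fintype ι] [Nonempty ι]
    (hirr : ∀ R' : Set ι, RootD.IsClosedSub P R' → RootD.IsSymmSub P R' → RootD.IsClosedSub P R'ᶜ →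
      RootD.IsSymmSub P R'ᶜ → R' = ∅ ∨ R' = Set.univ) :
    (∀ R' : Set ι, RootD.IsClosedSub P.flip R' → RootD.IsSymmSub P.flip R' → RootD.IsClosedSub P.flip R'ᶜ →
      RootD.IsSymmSub P.flip R'ᶜ → R' = ∅ ∨ R' = Set.univ) ∧
    ∀ i j : ι, P.RootForm (P.root i) (P.root i) * P.CorootForm (P.coroot i) (P.coroot i) =
      P.RootForm (P.root j) (P.root j) * P.CorootForm (P.coroot j) (P.coroot j) := by
  refine ⟨IsIrred.flip hirr, fun i j => ?_⟩
  obtain ⟨g, hg, hne⟩ := IsIrred.exists_pairing_ne hirr i j
  have e := norms_eq_of_pairing_ne hne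
  have hflip : ∀ a b : ι, P.RootForm (P.root (g • a)) (P.root (g • a)) = P.RootForm (P.root a) (P.root a) := by
    intro a b
    classical
    rw [root_smul, rootForm_smul_eq]
  let C : Set ι := {b | P.RootForm (P.root b) (P.root b) * P.CorootForm (P.coroot b) (P.coroot b) =
    P.RootForm (P.root i) (P.root i) * P.CorootForm (P.coroot i) (P.coroot i)}
  have hp := isClosedPartition_of_orth (P := P) (R' := C) fun a ha b hb =>
    by_contra fun hne => hb ((norms_eq_of_pairing_ne hne).symm.trans ha)
  rcases hirr C hp.closed hp.symm hp.closed' hp.symm' with h0 | h0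
  · exact absurd (show i ∈ C from rfl) (h0 ▸ Set.notMem_empty i)
  · exact (h0.symm ▸ Set.mem_univ j : j ∈ C).symm

end Groth.Agent.S5498
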