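import Groth.Statements.S5499
import Groth.Agent.RootSys.Irreducible

set_option autoImplicit false
open RootD

namespace Groth.Agent.S5499

open Groth.Agent.RootSys

/-- For an irreducible datum, where long(α) = ℓ(α)/ℓ(α₀) with ℓ(α₀) minimal: there is a unique
homomorphism u : Γ_0(R) → M^v with u(α) = long(α) α^v for every root α. -/
theorem result {ι M N : Type*} [AddCommGroup M] [AddCommGroup N]
    (P : RootPairing ι ℤ M N) [Finite ι] [Fintype ι]
    (hirr : ∀ R' : Set ι, RootD.IsClosedSub P R' → RootD.IsSymmSub P R' → RootD.IsClosedSub P R'ᶜ →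
      RootD.IsSymmSub P R'ᶜ → R' = ∅ ∨ R' = Set.univ)
    (i₀ : ι) (hmin : ∀ i : ι, P.RootForm (P.root i₀) (P.root i₀) ≤ P.RootForm (P.root i) (P.root i)) :
    ∃! u : Submodule.span ℤ (Set.range P.root) →+ N, ∀ i : ι,
      u ⟨P.root i, Submodule.subset_span (Set.mem_range_self i)⟩ =
        (P.RootForm (P.root i) (P.root i) / P.RootForm (P.root i₀) (P.root i₀)) • P.coroot i := by
  classical
  haveI : Module.IsReflexive ℤ N := .of_isPerfPair P.flip.toLinearMap
  haveI : IsAddTorsionFree N := .of_isTorsionFree ℤ N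
  have h0 := rootForm_pos (P := P) i₀
  let B₀ := P.RootForm (P.root i₀) (P.root i₀)
  have key : ∀ i, B₀ • ((P.RootForm (P.root i) (P.root i) / B₀) • P.coroot i) = (2 : ℤ) • P.Polarization (P.root i) := by
    intro i
    obtain ⟨g, hg, hne⟩ := IsIrred.exists_pairing_ne hirr i₀ i
    have hl : P.RootForm (P.root (g • i₀)) (P.root (g • i₀)) = B₀ := by rw [root_smul, rootForm_smul_eq]
    obtain ⟨r, -, e⟩ := length_cases hne (by rw [hl]; exact hmin i)
    rw [hl] at e
    rw [smul_smul, e, Int.mul_ediv_cancel _ h0.ne', mul_comm, ← e, P.rootForm_self_smul_coroot, two_zsmul, two_nsmul]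
  have hex : ∀ x : Submodule.span ℤ (Set.range P.root), ∃ y, B₀ • y = (2 : ℤ) • P.Polarization (x : M) := by
    rintro ⟨x, hx⟩
    induction hx using Submodule.span_induction with
    | mem z hz => obtain ⟨i, rfl⟩ := hz; exact ⟨_, key i⟩
    | zero => exact ⟨0, by simp⟩
    | add a b _ _ iha ihb =>
      obtain ⟨y, hy⟩ := iha; obtain ⟨z, hz⟩ := ihb
      exact ⟨y + z, by rw [smul_add, hy, hz, map_add, smul_add]⟩
    | smul c a _ iha =>
      obtain ⟨y, hy⟩ := iha
      exact ⟨c • y, by rw [smul_comm, hy, map_zsmul, smul_comm]⟩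
  choose u hu using hex
  have hcan : ∀ a b : N, B₀ • a = B₀ • b → a = b := fun a b h => smul_right_injective N h0.ne' h
  refine ⟨AddMonoidHom.mk' u fun a b => hcan _ _ (by rw [smul_add, hu, hu, hu, Submodule.coe_add, map_add, smul_add]),
    fun i => hcan _ _ (by rw [AddMonoidHom.mk'_apply, hu, key]), fun v hv => ?_⟩
  refine AddMonoidHom.ext fun x => ?_
  have : v.toIntLinearMap = (AddMonoidHom.mk' u fun a b => hcan _ _ (by
      rw [smul_add, hu, hu, hu, Submodule.coe_add, map_add, smul_add])).toIntLinearMap := by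
    refine LinearMap.ext_on (s := ((↑) : _ → M) ⁻¹' Set.range P.root) (by rw [Submodule.span_span_coe_preimage]) ?_
    rintro ⟨z, hz⟩ ⟨i, hi⟩
    subst hi
    exact (hv i).trans (hcan _ _ (by rw [key]; exact (hu ⟨P.root i, hz⟩).symm))
  exact LinearMap.congr_fun this x

end Groth.Agent.S5499
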