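import Groth.Statements.S5500
import Groth.Agent.RootSys.PMor
import Groth.Agent.RootSys.Irreducible

set_option autoImplicit false
open RootD

namespace Groth.Agent.S5500

open Groth.Agent.RootSys

/-- For a p-morphism between irreducible reduced root data there is a rational constant k with k ·
long(u(α)) = q(α)² · long(α) for every root α; stated as the proportionality q(α)² ℓ(α) ℓ'(u β) =
q(β)² ℓ(β) ℓ'(u α) of the canonical quadratic forms. -/
theorem result {ι M N ι' M' N' : Type*} [AddCommGroup M] [AddCommGroup N] [AddCommGroup M'] [AddCommGroup N']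
    (P : RootPairing ι ℤ M N) (P' : RootPairing ι' ℤ M' N') [Finite ι] [Finite ι'] [Fintype ι] [Fintype ι'] [P.IsReduced] [P'.IsReduced]
    (hirr : ∀ R₁ : Set ι, RootD.IsClosedSub P R₁ → RootD.IsSymmSub P R₁ → RootD.IsClosedSub P R₁ᶜ →
      RootD.IsSymmSub P R₁ᶜ → R₁ = ∅ ∨ R₁ = Set.univ)
    (hirr' : ∀ R₁ : Set ι', RootD.IsClosedSub P' R₁ → RootD.IsSymmSub P' R₁ → RootD.IsClosedSub P' R₁ᶜ →
      RootD.IsSymmSub P' R₁ᶜ → R₁ = ∅ ∨ R₁ = Set.univ)
    (p : ℕ) (hp : 0 < p) (f : M' →ₗ[ℤ] M) (g : N →ₗ[ℤ] N')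
    (hfg : ∀ (m' : M') (n : N), P.toLinearMap (f m') n = P'.toLinearMap m' (g n))
    (u : ι ≃ ι') (q : ι → ℕ) (hq : ∀ i, ∃ e : ℕ, q i = p ^ e)
    (hroot : ∀ i : ι, f (P'.root (u i)) = (q i : ℤ) • P.root i)
    (hcoroot : ∀ i : ι, g (P.coroot i) = (q i : ℤ) • P'.coroot (u i)) (i j : ι) :
    ((q i : ℤ) ^ 2 * P.RootForm (P.root i) (P.root i)) * P'.RootForm (P'.root (u j)) (P'.root (u j)) =
      ((q j : ℤ) ^ 2 * P.RootForm (P.root j) (P.root j)) * P'.RootForm (P'.root (u i)) (P'.root (u i)) := by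
  classical
  have hpos : ∀ i, 0 < q i := fun i => by obtain ⟨e, he⟩ := hq i; rw [he]; exact pow_pos hp e
  have h : PData P P' f g u q := ⟨hfg, hpos, hroot, hcoroot⟩
  let F : ι → ι → Prop := fun i j => ((q i : ℤ) ^ 2 * P.RootForm (P.root i) (P.root i)) * P'.RootForm (P'.root (u j)) (P'.root (u j)) =
      ((q j : ℤ) ^ 2 * P.RootForm (P.root j) (P.root j)) * P'.RootForm (P'.root (u i)) (P'.root (u i))
  have hne : ∀ a b, P.pairing a b ≠ 0 → F a b := by
    intro a b hab
    have e1 := length_ratio (P := P) (i := a) (j := b)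
    have e2 := length_ratio (P := P') (i := u a) (j := u b)
    have e3 := h.pairing_eq a b
    have e4 := h.pairing_eq b a
    have hq' : P'.pairing (u a) (u b) ≠ 0 := fun h0 => by
      rw [h0, mul_zero] at e4
      exact hab ((mul_eq_zero.mp e4).resolve_left (by have := hpos a; omega))
    refine mul_right_cancel₀ hq' ?_
    show _ * _ * _ * _ = _ * _ * _ * _
    linear_combination ((q a : ℤ) ^ 2 * P.RootForm (P.root a) (P.root a)) * (-1 : ℤ) * e2 +
      (q a * q b * P'.RootForm (P'.root (u a)) (P'.root (u a))) * e1 +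
      (q b * P.RootForm (P.root b) (P.root b) * P'.RootForm (P'.root (u a)) (P'.root (u a))) * e4 -
      (q a * P.RootForm (P.root a) (P.root a) * P'.RootForm (P'.root (u a)) (P'.root (u a))) * e3
  have hp' := isClosedPartition_of_orth (P := P) (R' := {b | F i b}) fun a ha b hb => by_contra fun hab => hb (by
    have e := hne a b hab
    have hia : F i a := ha
    show F i b
    have hBa : P'.RootForm (P'.root (u a)) (P'.root (u a)) ≠ 0 := (rootForm_pos (P := P') (u a)).ne'
    refine mul_right_cancel₀ hBa ?_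
    linear_combination P'.RootForm (P'.root (u b)) (P'.root (u b)) * hia +
      P'.RootForm (P'.root (u i)) (P'.root (u i)) * e)
  rcases hirr {b | F i b} hp'.closed hp'.symm hp'.closed' hp'.symm' with h0 | h0
  · exact absurd (show i ∈ {b | F i b} from rfl) (h0 ▸ Set.notMem_empty i)
  · exact (h0.symm ▸ Set.mem_univ j : j ∈ {b | F i b})

end Groth.Agent.S5500
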