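import Groth.Statements.S5501
import Groth.Agent.RootSys.Partition
import Mathlib.LinearAlgebra.FreeModule.PID
import Mathlib.GroupTheory.FiniteAbelian.Basic

set_option autoImplicit false
universe u v w
open RootD

namespace Groth.Agent.S5501

open Groth.Agent.RootSys

/-- Adjoint case; the simply connected case is dual: a semisimple root datum R is adjoint if and only if
every isogeny R' → R is an isomorphism. -/
theorem result {ι : Type u} {M : Type v} {N : Type w} [AddCommGroup M] [AddCommGroup N]
    (P : RootPairing ι ℤ M N) [Finite ι] [Module.Finite ℤ M] [Module.Finite ℤ N]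
    (hss : Module.finrank ℤ (Submodule.span ℤ (Set.range P.root)) = Module.finrank ℤ M) :
    Submodule.span ℤ (Set.range P.root) = ⊤ ↔
      ∀ (ι' : Type u) (M' N' : Type v) [AddCommGroup M'] [AddCommGroup N'] [Finite ι']
        [Module.Finite ℤ M'] [Module.Finite ℤ N'] (P' : RootPairing ι' ℤ M' N') (f : RootPairing.Hom P' P),
        Function.Injective f.weightMap → Finite (M ⧸ LinearMap.range f.weightMap) →
          Function.Bijective f.weightMap := by
  classical
  haveI := Fintype.ofFinite ι
  haveI : Module.IsReflexive ℤ M := .of_isPerfPair P.toLinearMap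
  constructor
  · intro htop ι' M' N' _ _ _ _ _ P' f hinj _
    refine ⟨hinj, LinearMap.range_eq_top.mp (eq_top_iff.mpr (htop ▸ Submodule.span_le.mpr ?_))⟩
    rintro _ ⟨i, rfl⟩
    exact ⟨P'.root (f.indexEquiv.symm i), by rw [RootPairing.Hom.root_weightMap_apply, Equiv.apply_symm_apply]⟩
  · intro h
    let V : Submodule ℤ M := Submodule.span ℤ (Set.range P.root)
    haveI : Module.Finite ℤ V := Module.Finite.iff_fg.mpr (Submodule.fg_span (Set.finite_range _))
    haveI : IsAddTorsionFree M := .of_isTorsionFree ℤ M
    haveI : Module.Free ℤ V := Module.free_of_finite_type_torsion_free'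
    let co : ι → Module.Dual ℤ V := fun i => (P.coroot' i).comp V.subtype
    have hco : Function.Injective co := by
      intro i j hij
      refine P.coroot.injective (sub_eq_zero.mp (eq_zero_of_coroot'_eq_zero (P := P.flip)
        (sub_mem (Submodule.subset_span ⟨i, rfl⟩) (Submodule.subset_span ⟨j, rfl⟩)) fun a => ?_))
      show P.toLinearMap (P.root a) (P.coroot i - P.coroot j) = 0
      rw [map_sub, sub_eq_zero]
      exact LinearMap.congr_fun hij ⟨P.root a, Submodule.subset_span ⟨a, rfl⟩⟩
    let P' : RootPairing ι ℤ V (Module.Dual ℤ V) :=
      { toLinearMap := Module.Dual.eval ℤ V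
        root := ⟨fun i => ⟨P.root i, Submodule.subset_span ⟨i, rfl⟩⟩, fun i j h => P.root.injective (congrArg Subtype.val h)⟩
        coroot := ⟨co, hco⟩
        root_coroot_two := fun i => P.root_coroot_two i
        reflectionPerm := P.reflectionPerm
        reflectionPerm_root := fun i j => Subtype.ext (P.reflectionPerm_root i j)
        reflectionPerm_coroot := fun i j => LinearMap.ext fun x => by
          have e := congrArg (P.toLinearMap (x : M)) (P.reflectionPerm_coroot i j)
          simp only [map_sub, map_zsmul] at e
          exact e }
    let g : N →ₗ[ℤ] Module.Dual ℤ V := V.subtype.dualMap ∘ₗ P.flip.toPerfPair.toLinearMap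
    have hg : ∀ i, g (P.coroot i) = co i := fun i => rfl
    let f : RootPairing.Hom P' P :=
      { weightMap := V.subtype
        coweightMap := g
        indexEquiv := Equiv.refl ι
        weight_coweight_transpose := by ext x v; rfl
        root_weightMap := rfl
        coroot_coweightMap := funext fun i => hg i }
    haveI : Finite (M ⧸ LinearMap.range f.weightMap) := by
      rw [show LinearMap.range f.weightMap = V from Submodule.range_subtype V]
      have e := Submodule.finrank_quotient_add_finrank V
      have h0 : Module.finrank ℤ (M ⧸ V) = 0 := by have := hss; change Module.finrank ℤ V = _ at this; omega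
      refine Module.finite_of_fg_torsion _ fun {x} => ?_
      obtain ⟨a, ha, hax⟩ := Module.finrank_eq_zero_iff.mp h0 x
      exact ⟨⟨a, mem_nonZeroDivisors_of_ne_zero ha⟩, hax⟩
    have hb := h ι V (Module.Dual ℤ V) P' f Subtype.val_injective inferInstance
    refine eq_top_iff.mpr fun x _ => ?_
    obtain ⟨v, rfl⟩ := hb.2 x
    exact v.2

end Groth.Agent.S5501
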