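import Groth.Statements.S5502
import Groth.Agent.RootSys.Irreducible
import Groth.Agent.S5485

set_option autoImplicit false
open RootD

namespace Groth.Agent.S5502

open Groth.Agent.RootSys

/-- If β = Σ_{α ∈ Δ} a_α α along a system of simple roots Δ, then ℓ(β) divides 2 a_α ℓ(α), and 2ℓ(β)
divides it when α^v is indivisible (ℓ the canonical quadratic form). -/
theorem result {ι M N : Type*} [AddCommGroup M] [AddCommGroup N]
    (P : RootPairing ι ℤ M N) [Finite ι] [Fintype ι] (Δ : Set ι) (hΔ : RootD.IsSimpleSys P Δ)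
    (k : ι) (c : ι →₀ ℤ) (hc : ↑c.support ⊆ Δ) (hck : Finsupp.linearCombination ℤ P.root c = P.root k)
    (i : ι) (hi : i ∈ Δ) :
    P.RootForm (P.root k) (P.root k) ∣ 2 * c i * P.RootForm (P.root i) (P.root i) ∧
      (RootD.IsIndiv P.flip i → 2 * P.RootForm (P.root k) (P.root k) ∣ 2 * c i * P.RootForm (P.root i) (P.root i)) := by
  classical
  haveI : Module.IsReflexive ℤ N := .of_isPerfPair P.flip.toLinearMap
  haveI : IsAddTorsionFree N := .of_isTorsionFree ℤ N
  have hF := Groth.Agent.S5485.result P Δ hΔ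
  obtain rfl : coef hΔ k = c := coef_eq hΔ hc hck
  let D : Set ι := {j : ι | ∃ i ∈ Δ, (j = i ∧ RootD.IsIndiv P.flip i) ∨ (2 : ℤ) • P.coroot j = P.coroot i}
  have hmult : ∀ i : Δ, ∃ j : D, ∃ e : ℤ, (e = 1 ∨ e = 2) ∧ (RootD.IsIndiv P.flip i → e = 1) ∧
      P.coroot (i : ι) = e • P.coroot (j : ι) := by
    rintro ⟨i, hi⟩
    by_cases hind : RootD.IsIndiv P.flip i
    · exact ⟨⟨i, i, hi, Or.inl ⟨rfl, hind⟩⟩, 1, Or.inl rfl, fun _ => rfl, (one_smul _ _).symm⟩
    · have hind' := hind
      simp only [RootD.IsIndiv, not_forall, not_not] at hind'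
      obtain ⟨j, hj⟩ := hind'
      change (2 : ℤ) • P.coroot j = P.coroot i at hj
      exact ⟨⟨j, i, hi, Or.inr hj⟩, 2, Or.inr rfl, fun h => absurd h hind, hj.symm⟩
  choose σ e he hei hσ using hmult
  have hσinj : Function.Injective σ := by
    intro a b hab
    by_contra hne
    have h1 := hσ a
    rw [hab] at h1
    have e0 : ∑ x ∈ ({a, b} : Finset Δ), (if x = a then e b else -e a) • P.coroot (x : ι) = 0 := by
      rw [Finset.sum_pair hne, if_pos rfl, if_neg (Ne.symm hne), h1, hσ b, smul_smul, smul_smul, ← add_smul]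
      convert zero_smul ℤ (P.coroot (σ b : ι)) using 2
      ring
    have := linearIndependent_iff'.mp (linIndepOn_coroot hΔ.linInd).linearIndependent _ _ e0 a (Finset.mem_insert_self _ _)
    rw [if_pos rfl] at this
    rcases he b with h | h <;> omega
  have hvec : lc P.flip (P.RootForm (P.root k) (P.root k) • coef hF k) =
      ∑ a : Δ, (coef hΔ k a * P.RootForm (P.root (a : ι)) (P.root (a : ι)) * e a) • P.coroot (σ a : ι) := by
    rw [lc, map_zsmul, ← lc, lc_coef]
    show P.RootForm (P.root k) (P.root k) • P.coroot k = _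
    rw [P.rootForm_self_smul_coroot]
    conv_lhs => rw [← lc_coef hΔ k, lc, Finsupp.linearCombination_apply, map_finsuppSum, Finsupp.smul_sum]
    rw [Finsupp.sum_fintype _ _ (fun a => by simp),
      ← Finset.sum_subset (Finset.subset_univ (Finset.univ.filter fun a => a ∈ Δ)) (fun a _ ha => by
        have : a ∉ Δ := fun h => ha (Finset.mem_filter.mpr ⟨Finset.mem_univ _, h⟩)
        simp [coef_eq_zero_of_notMem hΔ k this]),
      Finset.sum_subtype (Finset.univ.filter fun a => a ∈ Δ) (p := fun a => a ∈ Δ) (by simp)]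
    refine Finset.sum_congr rfl fun a _ => ?_
    rw [map_zsmul, smul_comm, ← P.rootForm_self_smul_coroot, hσ a, smul_smul, smul_smul]
  have hcoef : ∀ a : Δ, P.RootForm (P.root k) (P.root k) * coef hF k (σ a : ι) =
      coef hΔ k a * P.RootForm (P.root (a : ι)) (P.root (a : ι)) * e a := by
    intro a
    have heq := lc_injective hF (c := P.RootForm (P.root k) (P.root k) • coef hF k)
      (d := ∑ b : Δ, Finsupp.single (σ b : ι) (coef hΔ k b * P.RootForm (P.root (b : ι)) (P.root (b : ι)) * e b))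
      (fun x hx => coef_support hF k (Finsupp.support_smul hx))
      (fun x hx => by
        obtain ⟨b, -, hb⟩ := Finset.mem_biUnion.mp (Finsupp.support_finsetSum hx)
        exact Finset.mem_singleton.mp (Finsupp.support_single_subset hb) ▸ (σ b).2)
      (by rw [hvec, lc, map_sum]; simp only [Finsupp.linearCombination_single]; rfl)
    have e2 := DFunLike.congr_fun heq (σ a : ι)
    rw [Finsupp.smul_apply, smul_eq_mul, Finsupp.finsetSum_apply,
      Finset.sum_eq_single a (fun b _ hb => Finsupp.single_eq_of_ne fun h => hb (hσinj (Subtype.ext h)).symm)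
        (fun h => absurd (Finset.mem_univ _) h), Finsupp.single_eq_same] at e2
    exact e2
  have h := hcoef ⟨i, hi⟩
  refine ⟨?_, fun hind => ?_⟩
  · rcases he ⟨i, hi⟩ with h' | h' <;> rw [h'] at h
    · exact ⟨2 * coef hF k (σ ⟨i, hi⟩ : ι), by linear_combination (-2) * h⟩
    · exact ⟨coef hF k (σ ⟨i, hi⟩ : ι), by linear_combination -h⟩
  · rw [hei ⟨i, hi⟩ hind] at h
    exact ⟨coef hF k (σ ⟨i, hi⟩ : ι), by linear_combination (-2) * h⟩

end Groth.Agent.S5502
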