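import Groth.Statements.S5506
import Groth.Agent.RootSys.Partition

set_option autoImplicit false
open RootD

namespace Groth.Agent.S5506

open Groth.Agent.RootSys

/-- The class of a root under 'joined by a chain of pairwise non-orthogonal roots' is closed and
symmetric, and so is its complement; these classes are the irreducible components. -/
theorem result {ι M N : Type*} [AddCommGroup M] [AddCommGroup N]
    (P : RootPairing ι ℤ M N) [Finite ι] (i : ι) :
    RootD.IsClosedSub P {j : ι | Relation.ReflTransGen (fun a b : ι => ¬ P.IsOrthogonal a b) i j} ∧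
      RootD.IsSymmSub P {j : ι | Relation.ReflTransGen (fun a b : ι => ¬ P.IsOrthogonal a b) i j} ∧
      RootD.IsClosedSub P {j : ι | Relation.ReflTransGen (fun a b : ι => ¬ P.IsOrthogonal a b) i j}ᶜ ∧
      RootD.IsSymmSub P {j : ι | Relation.ReflTransGen (fun a b : ι => ¬ P.IsOrthogonal a b) i j}ᶜ := by
  let r : ι → ι → Prop := fun a b => ¬ P.IsOrthogonal a b
  have hsymm : ∀ a b, r a b → r b a := fun a b h hba => h ⟨hba.2, hba.1⟩
  have hopp : ∀ a, r a (P.reflectionPerm a a) := fun a h => by
    have e := pairing_opp_left (P := P) a a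
    rw [P.pairing_same] at e
    have h2 : P.pairing (opp P a) a = 0 := h.2
    omega
  have hlink : ∀ a b k, P.root k = P.root a + P.root b → r k a ∨ r k b := by
    intro a b k hk
    by_contra! hh
    obtain ⟨h1, h2⟩ := hh
    have e := congr_arg (P.coroot' k) hk
    rw [map_add, P.root_coroot'_eq_pairing, P.root_coroot'_eq_pairing, P.root_coroot'_eq_pairing,
      P.pairing_same, (not_not.mp h1).2, (not_not.mp h2).2] at e
    norm_num at e
  refine ⟨fun a b k ha hb hk => ?_, fun a ha => Relation.ReflTransGen.tail ha (hopp a),
    fun a b k ha hb hk => fun hC => ?_, fun a ha hC => ha (Relation.ReflTransGen.tail hC (hsymm _ _ (hopp a)))⟩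
  · rcases hlink a b k hk with h | h
    · exact Relation.ReflTransGen.tail ha (hsymm _ _ h)
    · exact Relation.ReflTransGen.tail hb (hsymm _ _ h)
  · rcases hlink a b k hk with h | h
    · exact ha (Relation.ReflTransGen.tail hC h)
    · exact hb (Relation.ReflTransGen.tail hC h)

end Groth.Agent.S5506
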