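import Groth.Statements.S5507
import Groth.Agent.RootSys.Irreducible

set_option autoImplicit false
open RootD

namespace Groth.Agent.S5507

open Groth.Agent.RootSys

/-- For a system of simple roots Δ there are positive integers m_α (the lengths) such that the matrix
(m_α a_{α,β}) with a_{α,β} = (α^v, β) is symmetric and positive definite. -/
theorem result {ι M N : Type*} [AddCommGroup M] [AddCommGroup N]
    (P : RootPairing ι ℤ M N) [Finite ι] (Δ : Finset ι) (hΔ : RootD.IsSimpleSys P (↑Δ : Set ι)) :
    ∃ m : ↥Δ → ℤ, (∀ a, 0 < m a) ∧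
      (Matrix.of fun (a b : ↥Δ) => m a * P.pairing (b : ι) (a : ι)).IsSymm ∧
      (Matrix.of fun (a b : ↥Δ) => m a * P.pairing (b : ι) (a : ι)).PosDef := by
  classical
  haveI := Fintype.ofFinite ι
  refine ⟨fun a => P.RootForm (P.root (a : ι)) (P.root (a : ι)), fun a => rootForm_pos _, ?_, ?_⟩
  · refine Matrix.IsSymm.ext fun a b => ?_
    show P.RootForm (P.root (b : ι)) (P.root (b : ι)) * P.pairing (a : ι) b = P.RootForm (P.root (a : ι)) (P.root (a : ι)) * P.pairing (b : ι) a
    rw [rootForm_mul_pairing, rootForm_mul_pairing, rootForm_comm]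
  · rw [show (Matrix.of fun (a b : ↥Δ) => P.RootForm (P.root (a : ι)) (P.root (a : ι)) * P.pairing (b : ι) (a : ι)) =
      (2 : ℤ) • gram P Δ from Matrix.ext fun a b => rootForm_mul_pairing _ _]
    refine Matrix.PosDef.of_dotProduct_mulVec_pos (Matrix.ext fun a b => ?_) fun x hx => ?_
    · show star ((2 : ℤ) • gram P Δ b a) = (2 : ℤ) • gram P Δ a b
      rw [star_trivial]
      exact congrArg _ (rootForm_comm _ _)
    · rw [star_trivial, Matrix.smul_mulVec, dotProduct_smul, smul_eq_mul]
      exact mul_pos two_pos (gram_form_pos hΔ.linInd hx)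

end Groth.Agent.S5507
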