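import Groth.Statements.S5511
import Groth.Agent.RedCartan.Inter
-- import your own Groth.Agent.* helpers here

set_option autoImplicit false
open CategoryTheory MonoidalCategory CartesianMonoidalCategory MonObj GrpObj AlgebraicGeometry
universe u
open RedSub

set_option backward.isDefEq.respectTransparency false

namespace Groth.Agent.S5511

/-- The centre of a reductive group is the intersection of its maximal tori, in the functorial sense.
Let G be a reductive S-group and j : Z ⟶ G its centre. For a point g of G with values in X, g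
factors through Z if and only if, for every scheme Y over X and every maximal torus T ⟶ G_Y of the
base change of G to Y, the Y-valued point of G_Y defined by g factors through T. -/
theorem result {S : Scheme.{u}} {G Z : Over S} [GrpObj G] [GrpObj Z]
    (hG : Red.IsReductive G) (j : Z ⟶ G) (hZ : Red.IsCentre j) (X : Over S) (g : X ⟶ G) :
    (∃ z : X ⟶ Z, z ≫ j = g) ↔
      ∀ (Y : Scheme.{u}) (y : Y ⟶ X.left) (T : Over Y) [GrpObj T] (i : T ⟶ Red.bc (y ≫ X.hom) G),
        Red.IsMaximalTorus i →
          ∃ p : Y ⟶ T.left, p ≫ T.hom = 𝟙 Y ∧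
            p ≫ i.left ≫ Limits.pullback.fst G.hom (y ≫ X.hom) = y ≫ g.left := by
  haveI := hG.1; haveI := hG.2.1; haveI := hZ.1; haveI := hZ.2.1
  have hconn := RedCartan.isConnected_fibre_of_isReductive hG
  have hu := RedCartan.unipotentRankZero_of_isReductive hG
  constructor
  · rintro ⟨a, ha⟩ Y y T _ i hi
    let F := y ≫ X.hom
    haveI : Smooth (Red.bc F G).hom := inferInstanceAs (Smooth (Limits.pullback.snd G.hom F))
    haveI : IsAffineHom (Red.bc F G).hom := MorphismProperty.pullback_snd (P := @IsAffineHom) G.hom F ‹_›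
    obtain ⟨-, -, hcent⟩ := MTCentre.centralizer_self (MTImage.isConnected_fibre_bc G hconn F)
      (MTCentre.cartanIsTorus_bc (MTCentre.cartanIsTorus_of_urz hconn hu) F) i hi
    let yb : (Over.map F).obj (𝟙_ (Over Y)) ⟶ X := Over.homMk y (by
      show y ≫ X.hom = 𝟙 Y ≫ F
      rw [Category.id_comp])
    obtain ⟨p, hp⟩ := (hcent (𝟙_ (Over Y)) (MTBridge.toBC F (yb ≫ g))).2 fun X' x h => by
      obtain ⟨w, hw⟩ := MTBridge.exists_toBC' F (h ≫ i)
      rw [← hw, ← MTBridge.toBC_naturality, ← MTBridge.toBC_mul, ← MTBridge.toBC_mul, ← ha]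
      have hc := (hZ.2.2 Z j).1 ⟨𝟙 Z, Category.id_comp j⟩ _ (((Over.map F).map x ≫ yb) ≫ a) w
      simp only [Category.comp_id, Category.assoc] at hc ⊢
      rw [hc]
    refine ⟨p.left, Over.w p, ?_⟩
    have h1 := congrArg (fun m => m.left ≫ Limits.pullback.fst G.hom F) hp
    simpa [MTDescent.left_toBC_fst_eq, yb] using h1
  · intro h
    refine (hZ.2.2 X g).2 fun X' x w => ?_
    rw [Category.comp_id]
    exact RedCartan.commute_of_inAllTori hconn hu (x ≫ g) (RedCartan.InAllTori.comp h x) w

end Groth.Agent.S5511
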