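import Groth.Statements.S5512
import Groth.Agent.RootBase.TypeRLocus
import Groth.Agent.Chev.CentDense
import Groth.Agent.S3901
import Groth.Agent.Chev.GeomPtIso
import Groth.Agent.Chev.NonAffTori
-- import your own Groth.Agent.* helpers here

set_option autoImplicit false
open CategoryTheory MonoidalCategory CartesianMonoidalCategory MonObj GrpObj AlgebraicGeometry
universe u
open RedSub

set_option backward.isDefEq.respectTransparency false

namespace Groth.Agent.S5512
/-- A maximal torus of a subgroup which contains a maximal torus of the group is maximal in the group. -/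
theorem isMaxTorus_comp {k : Type u} [Field k] [IsAlgClosed k] {G H T T₀ : Over (Spec (CommRingCat.of k))} [GrpObj G]
    [GrpObj H] [GrpObj T] [GrpObj T₀] [IsAffine H.left] [Smooth H.hom] [ConnectedSpace H.left] (i : H ⟶ G) [IsMonHom i]
    [Mono i] (t : T ⟶ H) (ht : AGF.IsMaxTorus t) (t₀ : T₀ ⟶ H) [IsMonHom t₀] (ht₀ : AGF.IsMaxTorus (t₀ ≫ i)) :
    AGF.IsMaxTorus (t ≫ i) := by
  obtain ⟨hm₀, hmono₀, hT₀, hmax₀⟩ := ht₀
  haveI := hm₀; haveI := hmono₀
  haveI : Mono t₀ := mono_of_mono t₀ i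
  have ht₀' : AGF.IsMaxTorus t₀ := ⟨inferInstance, inferInstance, hT₀, fun T' _ j _ _ f hT' hf =>
    hmax₀ T' (j ≫ i) f hT' (by rw [reassoc_of% hf])⟩
  obtain ⟨g, e, he⟩ := S3901.result k H T T₀ t t₀ ht ht₀'
  haveI := ht.1; haveI := ht.2.1
  haveI : IsMonHom (AGF.conjBy g t) := (Chev.Borel.isMaxTorus_conjBy g t ht).1
  haveI : IsMonHom e.hom := MTSplit.isMonHom_of_comp_mono e.hom t₀ (AGF.conjBy g t) he
  have h1 : AGF.IsMaxTorus (e.hom ≫ t₀ ≫ i) := by
    refine ⟨inferInstance, inferInstance, ht.2.2.1, fun T' _ j _ _ f hT' hf => ?_⟩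
    haveI : IsIso (e.inv ≫ f) := hmax₀ T' j (e.inv ≫ f) hT' (by rw [Category.assoc, hf, e.inv_hom_id_assoc])
    exact @IsIso.of_isIso_comp_left _ _ _ _ _ e.inv f (Iso.isIso_inv e) this
  have h2 : AGF.conjBy (g ≫ i)⁻¹ (e.hom ≫ t₀ ≫ i) = t ≫ i := by
    rw [← Category.assoc, he]
    simp only [AGF.conjBy, MonObj.mul_comp, GrpObj.inv_comp, Category.assoc, GrpObj.comp_inv, _root_.inv_inv]
    group
  exact h2 ▸ Chev.Borel.isMaxTorus_conjBy (g ≫ i)⁻¹ _ h1


/-- For a reductive S-group G. Let i : H ⟶ G be a subgroup of type (R) and k : K ⟶ H a homomorphism.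
Then k is a subgroup of type (R) of H if and only if k ≫ i is a subgroup of type (R) of G. (For H of
type (R) in a reductive G, the Cartan subgroups of the geometric fibres of H are their maximal tori,
which are maximal tori of the geometric fibres of G, so the prelude's notion of type (R) relative to
H is the source's.) -/
theorem result {S : Scheme.{u}} {G H K : Over S} [GrpObj G] [GrpObj H] [GrpObj K]
    (hG : Red.IsReductive G) (i : H ⟶ G) (hH : RedSub.IsTypeR i) (k : K ⟶ H) [IsMonHom k] :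
    RedSub.IsTypeR k ↔ RedSub.IsTypeR (k ≫ i) := by
  obtain ⟨⟨i1, i2⟩, i3, -, hconn, hHt⟩ := hH
  haveI := i1; haveI := i2; haveI := i3
  haveI : Mono i := Over.mono_of_mono_left i
  have hfib : ∀ s : S, IsMonHom ((Over.pullback (Red.geomPt s)).map i) ∧ Mono ((Over.pullback (Red.geomPt s)).map i) ∧
      IsAffine (Red.geomFibre s H).left ∧ Smooth (Red.geomFibre s H).hom ∧
      ConnectedSpace (Red.geomFibre s H).left := fun s => by
    obtain ⟨-, j1, j2, j3, j4, j5⟩ := RootBase.sub_fibre hG i hconn s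
    haveI := j2
    exact ⟨j1, Over.mono_of_mono_left _, j3, j4, j5⟩
  constructor
  · rintro ⟨⟨-, hk⟩, hs, hq, hc, htor⟩
    haveI := hk
    refine ⟨⟨inferInstance, by rw [Over.comp_left]; infer_instance⟩, hs, hq, hc, fun s => ?_⟩
    obtain ⟨j1, j2, j3, j4, j5⟩ := hfib s
    haveI := j1; haveI := j2; haveI := j3; haveI := j4; haveI := j5
    obtain ⟨T, _, t, htm, ht⟩ := htor s
    obtain ⟨T₀, _, t₀, ht₀m, ht₀⟩ := hHt s
    haveI := ht₀m
    refine ⟨T, _, t, htm, ?_⟩
    rw [Functor.map_comp, ← Category.assoc]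
    exact Chev.Borel.isMaximalTorus_of_isMaxTorus _ (isMaxTorus_comp _ _
      (Chev.Borel.isMaxTorus_of_isMaximalTorus _ ht) t₀ (Chev.Borel.isMaxTorus_of_isMaximalTorus _ ht₀))
  · rintro ⟨⟨-, hk⟩, hs, hq, hc, htor⟩
    haveI : IsImmersion (k.left ≫ i.left) := by rw [← Over.comp_left]; exact hk
    refine ⟨⟨inferInstance, IsImmersion.of_comp k.left i.left⟩, hs, hq, hc, fun s => ?_⟩
    obtain ⟨j1, j2, j3, j4, j5⟩ := hfib s
    haveI := j1; haveI := j2
    obtain ⟨T, _, t, htm, ht⟩ := htor s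
    haveI := htm
    rw [Functor.map_comp, ← Category.assoc] at ht
    obtain ⟨-, hmono, hT, hmax⟩ := Chev.Borel.isMaxTorus_of_isMaximalTorus _ ht
    haveI := hmono
    haveI : Mono (t ≫ (Over.pullback (Red.geomPt s)).map k) := mono_of_mono _ ((Over.pullback (Red.geomPt s)).map i)
    haveI : IsMonHom ((Over.pullback (Red.geomPt s)).map k) := inferInstance
    refine ⟨T, _, t, htm, Chev.Borel.isMaximalTorus_of_isMaxTorus _
      ⟨inferInstance, inferInstance, hT, fun T' _ j _ _ f hT' hf =>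
        hmax T' (j ≫ (Over.pullback (Red.geomPt s)).map i) f hT' (by rw [reassoc_of% hf, Category.assoc])⟩⟩

end Groth.Agent.S5512
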