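import Groth.Statements.S5514
import Groth.Agent.RedEssFree.Cell
import Groth.Agent.S2958
import Groth.Agent.S3954
import Groth.Agent.S3951
import Groth.Agent.RootBase.SplitMap
import Groth.Agent.RootBase.IsoSplit

set_option autoImplicit false
open CategoryTheory MonoidalCategory CartesianMonoidalCategory MonObj GrpObj AlgebraicGeometry
universe u
set_option backward.isDefEq.respectTransparency false
set_option backward.isDefEq.respectTransparency.types false
set_option maxHeartbeats 1000000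
set_option synthInstance.maxHeartbeats 400000
open RedSub Groth.Agent
open scoped CategoryTheory.Obj

namespace Groth.Agent.S5514

/-- A reductive S-group G is essentially free over S: every point of S has an affine open neighbourhood
U and a flat surjective morphism from an affine scheme S' to U such that G_{S'} is covered by affine
opens whose rings of functions are projective modules over the ring of S'. -/
theorem result {S : Scheme.{u}} (G : Over S) [GrpObj G] (hG : Red.IsReductive G) :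
    SGA3x.IsEssentiallyFree G.hom := by
  intro s
  classical
  obtain ⟨U1, f, hf, ⟨u1, hu1⟩, ⟨D⟩⟩ := Groth.Agent.S2958.result G hG s
  haveI := hf
  obtain ⟨W, hW, hsW, -⟩ := exists_isAffineOpen_mem_and_subset (U := (⊤ : S.Opens)) (x := s) trivial
  obtain ⟨V1, hV1, hu1V, hV1W⟩ := exists_isAffineOpen_mem_and_subset (U := f ⁻¹ᵁ W) (x := u1)
    (show f.base u1 ∈ W by rw [hu1]; exact hsW)
  obtain ⟨r, hr, hsr⟩ := hW.exists_basicOpen_le (V := ⟨f.base '' V1, f.isOpenMap _ V1.2⟩) ⟨s, u1, hu1V, hu1⟩ hsW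
  let U := S.basicOpen r
  let V' := U1.basicOpen (f.appLE W V1 hV1W r)
  have hV' : V' = V1 ⊓ f ⁻¹ᵁ U := Scheme.basicOpen_appLE f V1 W hV1W r
  have hV'a : IsAffineOpen V' := hV1.basicOpen _
  have hUa : IsAffineOpen U := hW.basicOpen r
  let v : Spec Γ(U1, V') ⟶ U1 := hV'a.fromSpec
  have hrv : Set.range v.base = (V' : Set U1) := hV'a.range_fromSpec
  let g : Spec Γ(U1, V') ⟶ (U : Scheme.{u}) := IsOpenImmersion.lift U.ι (v ≫ f) (by
    rintro _ ⟨x, rfl⟩
    rw [Scheme.Opens.range_ι]
    have hx : v.base x ∈ (V' : Set U1) := hrv ▸ ⟨x, rfl⟩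
    exact ((SetLike.ext_iff.1 hV' _).1 hx).2)
  have hg : g ≫ U.ι = v ≫ f := IsOpenImmersion.lift_fac _ _ _
  haveI : Etale g := by
    haveI : Etale (g ≫ U.ι) := by rw [hg]; infer_instance
    exact MorphismProperty.of_postcomp (W := @Etale) (W' := @Etale) g U.ι inferInstance ‹_›
  haveI : Surjective g := ⟨fun y => by
    obtain ⟨z, hz, hzy⟩ := hr (show U.ι.base y ∈ S.basicOpen r from y.2)
    have hz' : z ∈ (V' : Set U1) := by
      rw [hV']
      exact ⟨hz, show f.base z ∈ U by rw [hzy]; exact y.2⟩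
    rw [← hrv] at hz'
    obtain ⟨x, hx⟩ := hz'
    refine ⟨x, U.ι.isOpenEmbedding.injective ?_⟩
    show (g ≫ U.ι).base x = _
    rw [hg]
    show f.base (v.base x) = _
    rw [hx, hzy]⟩
  refine ⟨U, hsr, hUa, Spec Γ(U1, V'), inferInstance, g, inferInstance, inferInstance, fun x => ?_⟩
  let q := g ≫ U.ι
  obtain ⟨D', -⟩ := RootBase.exists_bc_comp v (f := q) hg.symm hG D
  letI := D'.grpT; letI := D'.acgM; letI := D'.fintypeIdx; letI := D'.finiteM; letI := D'.freeM
  haveI : Nonempty ↥(Spec Γ(U1, V')) := by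
    haveI : Nonempty (U : Scheme.{u}) := ⟨⟨s, hsr⟩⟩
    exact ⟨(Surjective.surj (f := g) (Classical.arbitrary _)).choose⟩
  obtain ⟨b⟩ := RootBase.nonempty_base_split D'
  choose nr hnr using D'.refl
  let eneg := fun l => ((Fintype.equivFin ↥(RedSub.negRoots D'.P b)).symm l).1
  let epos := fun l => ((Fintype.equivFin ↥(RedSub.posRoots D'.P b)).symm l).1
  have henum : ∀ (X : Set D'.idx) [Fintype X],
      RedSub.Enumerates X (fun l => ((Fintype.equivFin ↥X).symm l).1) := fun X _ => by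
    refine ⟨fun a c h => (Fintype.equivFin ↥X).symm.injective (Subtype.ext h), Set.ext fun a => ⟨?_, fun ha => ?_⟩⟩
    · rintro ⟨l, rfl⟩
      exact ((Fintype.equivFin ↥X).symm l).2
    · exact ⟨Fintype.equivFin ↥X ⟨a, ha⟩, by simp⟩
  have hneg : RedSub.Enumerates (RedSub.negRoots D'.P b) eneg := henum _
  have hpos : RedSub.Enumerates (RedSub.posRoots D'.P b) epos := henum _
  obtain ⟨w, hw⟩ := Groth.Agent.S3954.result D' b eneg epos hneg hpos nr hnr x
  haveI := (Groth.Agent.S3951.result D' b eneg epos hneg hpos).1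
  let n0 := (w.map nr).prod
  let L : Red.bc q G ≅ Red.bc q G :=
    { hom := (toUnit _ ≫ n0) * 𝟙 _
      inv := (toUnit _ ≫ n0⁻¹) * 𝟙 _
      hom_inv_id := by simp [MonObj.comp_mul, GrpObj.comp_inv, comp_toUnit_assoc, ← _root_.mul_assoc]
      inv_hom_id := by simp [MonObj.comp_mul, GrpObj.comp_inv, comp_toUnit_assoc, ← _root_.mul_assoc] }
  have hc : RedSub.cellMap D' eneg epos ≫ L.hom = (toUnit _ ≫ n0) * RedSub.cellMap D' eneg epos := by
    simp [L, MonObj.comp_mul, comp_toUnit_assoc]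
  rw [← hc] at hw
  let m := RedSub.cellMap D' eneg epos ≫ L.hom
  haveI : IsIso L.hom.left := ((Over.forget _).mapIso L).isIso_hom
  haveI : IsOpenImmersion m.left := by rw [Over.comp_left]; infer_instance
  obtain ⟨B, _, _, hB, ⟨i⟩⟩ := ((RedEssFree.PP.pow RedEssFree.PP.ga _).tensor
    ((RedEssFree.PP.of_iso ((Grp.forget _).mapIso D'.split) (RedEssFree.PP.DS D'.M)).tensor
      (RedEssFree.PP.pow RedEssFree.PP.ga _)) :
    RedEssFree.PP (RedSub.pow (Red.Ga (Spec Γ(U1, V'))) _ ⊗ (D'.T ⊗ RedSub.pow (Red.Ga (Spec Γ(U1, V'))) _)))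
  haveI := hB
  haveI : IsAffine (RedSub.pow (Red.Ga (Spec Γ(U1, V'))) (Fintype.card ↥(RedSub.negRoots D'.P b)) ⊗
      (D'.T ⊗ RedSub.pow (Red.Ga (Spec Γ(U1, V'))) (Fintype.card ↥(RedSub.posRoots D'.P b)))).left :=
    haveI : IsIso i.hom.left := ((Over.forget _).mapIso i).isIso_hom
    haveI := isAffine_Spec (CommRingCat.of B)
    IsAffine.of_isIso (Y := Spec (CommRingCat.of B)) i.hom.left
  refine ⟨m.left.opensRange, hw, isAffineOpen_opensRange m.left, ?_⟩
  refine ClosedRep.projective_appTop _ (m.left.isoOpensRange.symm ≪≫ (Over.forget _).mapIso i) ?_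
  rw [Iso.trans_hom, Category.assoc]
  show m.left.isoOpensRange.inv ≫ i.hom.left ≫ _ = _
  rw [show i.hom.left ≫ Spec.map (CommRingCat.ofHom (algebraMap _ B)) = _ from Over.w i.hom, Iso.inv_comp_eq,
    ← Category.assoc, Scheme.Hom.isoOpensRange_hom_ι]
  exact (Over.w m).symm

end Groth.Agent.S5514
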