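import Groth.Statements.S5515
import Groth.Agent.BorelConj.Killing

set_option autoImplicit false
open CategoryTheory MonoidalCategory CartesianMonoidalCategory MonObj GrpObj AlgebraicGeometry
universe u
open RedSub

namespace Groth.Agent.S5515

/-- For a reductive S-group G. Two Killing pairs T ⊆ B and T' ⊆ B' of G (B, B' Borel subgroups in the
sense of the source, T, T' maximal tori of G contained in them) are conjugate locally for the etale
topology on S: every point of S lies in the image of an etale morphism U ⟶ S over which one U-point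
of G conjugates B_U onto B'_U and T_U onto T'_U. -/
theorem result {S : Scheme.{u}} {G B B' T T' : Over S} [GrpObj G] [GrpObj B] [GrpObj B']
    [GrpObj T] [GrpObj T'] (hG : Red.IsReductive G) (i : B ⟶ G) (i' : B' ⟶ G) (hB : RedSub.IsBorelSub i)
    (hB' : RedSub.IsBorelSub i') (t : T ⟶ B) (t' : T' ⟶ B') [IsMonHom t] [IsMonHom t']
    (hT : Red.IsMaximalTorus (t ≫ i)) (hT' : Red.IsMaximalTorus (t' ≫ i')) (s : S) :
    ∃ (U : Scheme.{u}) (f : U ⟶ S) (_ : Etale f), s ∈ Set.range f.base ∧
      ∃ g : 𝟙_ _ ⟶ Red.bc f G, RedSub.ConjEq ((Over.pullback f).map i) ((Over.pullback f).map i') g ∧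
        RedSub.ConjEq ((Over.pullback f).map (t ≫ i)) ((Over.pullback f).map (t' ≫ i')) g := by
  exact Groth.Agent.BorelConj.exists_conj_killing hG i i' hB hB' t t' hT hT' s

end Groth.Agent.S5515
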