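import Groth.Statements.S5517
import Groth.Agent.RootBase.Main
-- import your own Groth.Agent.* helpers here

set_option autoImplicit false
open CategoryTheory MonoidalCategory CartesianMonoidalCategory MonObj GrpObj AlgebraicGeometry
universe u
open RedSub

set_option backward.isDefEq.respectTransparency false

namespace Groth.Agent.S5517

/-- Let G be a reductive S-group and i : T ⟶ G a maximal torus which is split (T ≅ D_S(M) as groups, M
finitely generated free). Then G is splittable relative to T Zariski-locally on S: every point s of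
S has an open neighbourhood U such that G_U admits a splitting whose maximal torus is T_U with
inclusion i_U. -/
theorem result {S : Scheme.{u}} {G T : Over S} [GrpObj G] [GrpObj T]
    (hG : Red.IsReductive G) (i : T ⟶ G) (hT : Red.IsMaximalTorus i) (M : Type) [AddCommGroup M] [Module.Finite ℤ M]
    [Module.Free ℤ M] (hsplit : Red.IsSplitTorusWith M T) (s : S) :
    ∃ U : S.Opens, s ∈ U ∧ ∃ (D : Red.SplitRed (Red.bc U.ι G)) (e : D.T ≅ Red.bc U.ι T),
      D.i = e.hom ≫ (Over.pullback U.ι).map i := by
  obtain ⟨E⟩ := hsplit
  obtain ⟨U, hsU, hU⟩ := RootBase.exists_split_nhd hG (RootBase.isMaximalTorus_DS hT E) s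
  obtain ⟨D, hD, hi⟩ := RootBase.exists_splitRed_bc U.ι hG hT E (hU U.ι (by rw [U.range_ι]))
  exact ⟨U, hsU, D, eqToIso hD, RootBase.eq_eqToHom_comp hD hi⟩

end Groth.Agent.S5517
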