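import Groth.Statements.S5518
import Groth.Agent.S3951
import Groth.Agent.RootBase.Gen
import Groth.Agent.RootBase.Extend
-- import your own Groth.Agent.* helpers here

set_option autoImplicit false
open CategoryTheory MonoidalCategory CartesianMonoidalCategory MonObj GrpObj AlgebraicGeometry
universe u
open RedSub

set_option backward.isDefEq.respectTransparency false

namespace Groth.Agent.S5518

/-- Let G be a split reductive S-group with big cell map c : Ω = G_a^{R_-} x_S T x_S G_a^{R_+} ⟶ G, and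
f : Ω ⟶ H an S-morphism to an S-group scheme such that f(z) = f(x) f(y) whenever x, y, z are points
of Ω with c(z) = c(x) c(y). Then f extends uniquely to a homomorphism G ⟶ H: there is exactly one
homomorphism of S-groups whose composite with c is f. (The published statement allows H to be any
fppf sheaf of groups.) -/
theorem result {S : Scheme.{u}} {G H : Over S} [GrpObj G] [GrpObj H] (D : Red.SplitRed G)
    (b : D.P.Base) {n m : ℕ} (eneg : Fin n → D.idx) (epos : Fin m → D.idx)
    (hneg : RedSub.Enumerates (RedSub.negRoots D.P b) eneg) (hpos : RedSub.Enumerates (RedSub.posRoots D.P b) epos)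
    (f : RedSub.pow (Red.Ga S) n ⊗ (D.T ⊗ RedSub.pow (Red.Ga S) m) ⟶ H)
    (hf : ∀ (X : Over S) (x y z : X ⟶ RedSub.pow (Red.Ga S) n ⊗ (D.T ⊗ RedSub.pow (Red.Ga S) m)),
      z ≫ RedSub.cellMap D eneg epos = (x ≫ RedSub.cellMap D eneg epos) * (y ≫ RedSub.cellMap D eneg epos) →
        z ≫ f = (x ≫ f) * (y ≫ f)) :
    ∃! g : G ⟶ H, IsMonHom g ∧ RedSub.cellMap D eneg epos ≫ g = f := by
  letI := D.grpT
  letI := D.acgM
  letI := D.fintypeIdx
  letI := D.finiteM
  letI := D.freeM
  obtain ⟨ho, -⟩ := S3951.result D b eneg epos hneg hpos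
  haveI := ho
  obtain ⟨y0, hy0, -⟩ := RootBase.exists_pow_prod (G := G) (fun l => D.u (eneg l)) (X := 𝟙_ (Over S)) fun _ => 1
  obtain ⟨y1, hy1, -⟩ := RootBase.exists_pow_prod (G := G) (fun l => D.u (epos l)) (X := 𝟙_ (Over S)) fun _ => 1
  haveI := D.maximalTorus.1
  refine RootBase.existsUnique_hom_open D.reductive _ (lift y0 (lift (1 : 𝟙_ (Over S) ⟶ D.T) y1)) ?_ f hf
  rw [RedSub.cellMap, MonObj.comp_mul, MonObj.comp_mul]
  simp only [lift_fst_assoc, lift_snd_assoc]
  rw [RootBase.prodMap_one _ (fun k => (D.rootHom _).1) y0 hy0, RootBase.prodMap_one _ (fun k => (D.rootHom _).1) y1 hy1,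
    MonObj.one_comp (X := 𝟙_ (Over S)) D.i, _root_.one_mul, _root_.one_mul]

end Groth.Agent.S5518
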