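import Groth.Statements.S5519
import Groth.Agent.RootBase.BruhatCover
-- import your own Groth.Agent.* helpers here

set_option autoImplicit false
open CategoryTheory MonoidalCategory CartesianMonoidalCategory MonObj GrpObj AlgebraicGeometry
universe u
open RedSub

set_option backward.isDefEq.respectTransparency false

namespace Groth.Agent.S5519

set_option backward.isDefEq.respectTransparency false in
/-- Let G be a split reductive S-group of semisimple rank 1 (every root is a or -a, with a positive for
the system of simple roots b), Ω ⟶ G its big cell map, and x an S-point of G_a whose coordinate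
function is a unit (so u_a(x) is a section of U_a generating it). Then G = Ω ∪ u_a(x) Ω: every point
of the underlying space of G is in the image of the big cell map or of its left translate by u_a(x). -/
theorem result {S : Scheme.{u}} {G : Over S} [GrpObj G] (D : Red.SplitRed G)
    (b : D.P.Base) {n m : ℕ} (eneg : Fin n → D.idx) (epos : Fin m → D.idx)
    (hneg : RedSub.Enumerates (RedSub.negRoots D.P b) eneg) (hpos : RedSub.Enumerates (RedSub.posRoots D.P b) epos)
    (a : D.idx) (ha : a ∈ RedSub.posRoots D.P b) (hR : ∀ c : D.idx, c = a ∨ c = D.P.reflectionPerm a a)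
    (x : 𝟙_ (Over S) ⟶ Red.Ga S) (hx : IsUnit (Red.gaFn x)) (p : ↥G.left) :
    p ∈ Set.range (RedSub.cellMap D eneg epos).left.base ∨
      p ∈ Set.range ((toUnit _ ≫ x ≫ D.u a) * RedSub.cellMap D eneg epos).left.base := by
  classical
  letI := D.grpT
  letI := D.acgM
  letI := D.fintypeIdx
  letI := D.finiteM
  letI := D.freeM
  haveI : Nonempty S := ⟨G.hom p⟩
  haveI := RootBase.isReduced_of_splitRed D
  have F : RootBase.Frame (D.split.inv.hom.hom ≫ D.i) D.P.root D.u := RootBase.frame_of_splitRed D
  choose nr hnr using D.refl
  have hw := RootBase.realises_of_reflections D b (n := nr) (fun a _ => hnr a)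
  have hap : b.IsPos a := (RootSys.mem_posRoots_iff b a).1 ha
  have ha' : a ∈ b.support := by
    obtain ⟨l, a₀, hl, ha₀, hr, -⟩ := RootBase.exists_word_conj b a
    rcases hR a₀ with h | h
    · rwa [← h]
    · exact absurd hap ((RootSys.isPos_opp_iff b a).1 (h ▸ RootPairing.Base.isPos_of_mem_support ha₀))
  obtain ⟨X', f, hf, ⟨z⟩, hX', hg⟩ := F.exists_allPts (𝟙 G) p
  rw [Category.comp_id] at hg
  rcases F.allPts_subset_two D.pairing_eq hw hX' ⟨z⟩ ha' hR (x := toUnit X' ≫ x) (RootBase.isUnit_gaFn_comp hx) hg
    with h | h
  · exact Or.inl (hf z ▸ RootBase.mem_range_cell D b hneg hpos z h)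
  · refine Or.inr ?_
    rw [← hf z]
    exact RootBase.mem_range_translate D b hneg hpos z (x ≫ D.u a) (by rwa [← Category.assoc])

end Groth.Agent.S5519
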