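import Groth.Statements.S5520
import Groth.Agent.RootBase.BruhatCover
-- import your own Groth.Agent.* helpers here

set_option autoImplicit false
open CategoryTheory MonoidalCategory CartesianMonoidalCategory MonObj GrpObj AlgebraicGeometry
universe u
open RedSub

set_option backward.isDefEq.respectTransparency false

namespace Groth.Agent.S5520

set_option backward.isDefEq.respectTransparency false in
/-- Let G be a split pinned reductive S-group (pinning D), Ω ⟶ G the big cell map of its system of
positive roots, and for each simple root a let x_a be an S-point of G_a with unit coordinate. Let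
U_1 be the submonoid of G(S) generated by the sections u_a(x_a), a simple. Then the open sets u Ω, u
∈ U_1, cover G. -/
theorem result {S : Scheme.{u}} {G : Over S} [GrpObj G] (D : Red.Pinning G)
    {n m : ℕ} (eneg : Fin n → D.idx) (epos : Fin m → D.idx)
    (hneg : RedSub.Enumerates (RedSub.negRoots D.P D.base) eneg) (hpos : RedSub.Enumerates (RedSub.posRoots D.P D.base) epos)
    (x : D.idx → (𝟙_ (Over S) ⟶ Red.Ga S)) (hx : ∀ a ∈ D.base.support, IsUnit (Red.gaFn (x a))) (p : ↥G.left) :
    ∃ w ∈ Submonoid.closure {g : 𝟙_ (Over S) ⟶ G | ∃ a ∈ D.base.support, g = x a ≫ D.u a},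
      p ∈ Set.range ((toUnit _ ≫ w) * RedSub.cellMap D.toSplitRed eneg epos).left.base := by
  classical
  letI := D.grpT
  letI := D.acgM
  letI := D.fintypeIdx
  letI := D.finiteM
  letI := D.freeM
  haveI : Nonempty S := ⟨G.hom p⟩
  haveI := RootBase.isReduced_of_splitRed D.toSplitRed
  have F : RootBase.Frame (D.split.inv.hom.hom ≫ D.i) D.P.root D.u := RootBase.frame_of_splitRed D.toSplitRed
  choose nr hnr using D.refl
  have hw := RootBase.realises_of_reflections D.toSplitRed D.base (n := nr) (fun a _ => hnr a)
  obtain ⟨X', f, hf, ⟨z⟩, hX', hg⟩ := F.exists_allPts (𝟙 G) p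
  rw [Category.comp_id] at hg
  obtain ⟨l, hl, h⟩ := F.allPts_subset_simpleTranslates D.pairing_eq hw hX' ⟨z⟩
    (x := fun a => toUnit X' ≫ x a) (fun a ha => RootBase.isUnit_gaFn_comp (hx a ha)) hg
  refine ⟨(l.map fun a => x a ≫ D.u a).prod, list_prod_mem fun g hg => ?_, ?_⟩
  · obtain ⟨a, ha, rfl⟩ := List.mem_map.1 hg
    exact Submonoid.subset_closure ⟨a, hl a ha, rfl⟩
  rw [← hf z]
  refine RootBase.mem_range_translate D.toSplitRed D.base hneg hpos z _ ?_
  rw [← RootBase.wpt_eq]
  simpa only [RootBase.wpt, Category.assoc] using h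

end Groth.Agent.S5520
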