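import Groth.Statements.S5521
import Groth.Agent.RootBase.Comm
-- import your own Groth.Agent.* helpers here

set_option autoImplicit false
open CategoryTheory MonoidalCategory CartesianMonoidalCategory MonObj GrpObj AlgebraicGeometry
universe u
open RedSub

set_option backward.isDefEq.respectTransparency false

namespace Groth.Agent.S5521

/-- Let G be a split reductive S-group (splitting D, root homomorphisms u_c : G_a ⟶ G), b a system of
simple roots and α, β two roots positive for b. Let e be an injective enumeration of the roots of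
the form i α + j β with i, j ≥ 1, with exponents (i_k, j_k). Then there is a unique family (C_k) of
global functions on S such that, for all points x, y of G_a (with values in any X over S), u_α(x)
u_β(y) u_α(x)⁻¹ = u_β(y) · ∏_k u_{e k}(C_k x^{i_k} y^{j_k}), the product taken in the order of e;
here a point z of G_a with coordinate C_k x^{i_k} y^{j_k} is any point whose coordinate function is
that product. -/
theorem result {S : Scheme.{u}} {G : Over S} [GrpObj G] (D : Red.SplitRed G) (b : D.P.Base)
    (α β : D.idx) (hα : α ∈ RedSub.posRoots D.P b) (hβ : β ∈ RedSub.posRoots D.P b)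
    {n : ℕ} (e : Fin n → D.idx) (i j : Fin n → ℕ) (he : Function.Injective e)
    (hij : ∀ k, 1 ≤ i k ∧ 1 ≤ j k ∧ D.P.root (e k) = (i k : ℤ) • D.P.root α + (j k : ℤ) • D.P.root β)
    (hall : ∀ (c : D.idx) (p q : ℕ), 1 ≤ p → 1 ≤ q → D.P.root c = (p : ℤ) • D.P.root α + (q : ℤ) • D.P.root β →
      c ∈ Set.range e) :
    ∃! C : Fin n → Γ(S, ⊤), ∀ (X : Over S) (x y : X ⟶ Red.Ga S) (z : Fin n → (X ⟶ Red.Ga S)),
      (∀ k, Red.gaFn (z k) = X.hom.appTop (C k) * Red.gaFn x ^ (i k) * Red.gaFn y ^ (j k)) →
        (x ≫ D.u α) * (y ≫ D.u β) * (x ≫ D.u α)⁻¹ =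
          (y ≫ D.u β) * (List.ofFn (fun k => z k ≫ D.u (e k))).prod := by
  letI := D.grpT
  letI := D.acgM
  letI := D.fintypeIdx
  letI := D.finiteM
  letI := D.freeM
  rcases isEmpty_or_nonempty S with hS | hS
  · have hsub : Subsingleton Γ(S, ⊤) := by
      have : (⊤ : S.Opens) = ⊥ := by ext x; exact isEmptyElim x
      rw [this]; infer_instance
    refine ⟨fun _ => 0, fun X x y z _ => ?_, fun C' _ => funext fun k => Subsingleton.elim _ _⟩
    haveI : IsEmpty X.left := Function.isEmpty X.hom
    exact Over.OverMorphism.ext (isInitialOfIsEmpty.hom_ext _ _)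
  have F := RootBase.frame_of_splitRed D
  obtain ⟨mu, hp, -, -⟩ := RootBase.exists_pos_hom D.P b
  have ha : 0 < mu (D.P.root α) := (hp α).2 hα
  have hb : 0 < mu (D.P.root β) := (hp β).2 hβ
  by_cases hli : ∀ x y : ℤ, x • D.P.root α + y • D.P.root β = 0 → x = 0 ∧ y = 0
  · exact F.exists_comm_global mu ha hb hli e i j he hij hall
  -- dependent positive roots are equal
  push Not at hli
  obtain ⟨x, y, hxy, hne⟩ := hli
  have hy : y ≠ 0 := fun h => by
    rw [h, zero_smul, add_zero] at hxy
    exact hne ((smul_eq_zero.1 hxy).resolve_right (D.P.ne_zero α)) h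
  have hαβ : D.P.root β = D.P.root α := by
    rcases F.dep (a := α) (b := β) (-x) y hy
      (show y • D.P.root β = (-x) • D.P.root α by rw [neg_smul]; exact eq_neg_of_add_eq_zero_right hxy) with h | h
    · exact h
    · rw [h, map_neg] at hb; omega
  obtain rfl : β = α := D.P.root.injective hαβ
  obtain rfl : n = 0 := by
    by_contra hn0
    let k : Fin n := ⟨0, Nat.pos_of_ne_zero hn0⟩
    obtain ⟨hi, hj, h⟩ := hij k
    rw [← add_smul] at h
    rcases F.dep (a := β) (b := e k) ((i k : ℤ) + j k) 1 one_ne_zero (by rw [one_smul, h]) with h1 | h1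
    · rw [h1] at h
      have h2 := congrArg mu h
      rw [map_zsmul, smul_eq_mul] at h2
      have h3 : (2 : ℤ) ≤ (i k : ℤ) + j k := by omega
      nlinarith
    · rw [h1] at h
      have h2 := congrArg mu h
      rw [map_zsmul, smul_eq_mul, map_neg] at h2
      have h3 : (2 : ℤ) ≤ (i k : ℤ) + j k := by omega
      nlinarith
  refine ⟨finZeroElim, fun X x' y' z _ => ?_, fun C' _ => funext fun k => k.elim0⟩
  haveI := (D.rootHom β).1
  rw [List.ofFn_zero, List.prod_nil, _root_.mul_one, ← MonObj.mul_comp,
    show x' * y' = y' * x' from BGaNotS.gaPt_ext (by rw [BGaNotS.gaFn_mul, BGaNotS.gaFn_mul, add_comm]),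
    MonObj.mul_comp, mul_inv_cancel_right]

end Groth.Agent.S5521
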