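import Groth.Statements.S5524
import Groth.Agent.RootBase.TypeRSplit
-- import your own Groth.Agent.* helpers here

set_option autoImplicit false
open CategoryTheory MonoidalCategory CartesianMonoidalCategory MonObj GrpObj AlgebraicGeometry
universe u
open RedSub

set_option backward.isDefEq.respectTransparency false

namespace Groth.Agent.S5524

/-- Let S be connected, G a split reductive S-group (splitting D), H a subgroup of type (R) containing
the torus T, with root set R'. For a root a, the intersection H ∩ U_a is trivial (a point x of G_a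
with u_a(x) ∈ H is the zero point) if and only if a ∉ R'. -/
theorem result {S : Scheme.{u}} [ConnectedSpace S] {G H : Over S} [GrpObj G] [GrpObj H]
    (D : Red.SplitRed G) (h : H ⟶ G) (hH : RedSub.IsTypeR h) (t : D.T ⟶ H) (ht : t ≫ h = D.i) (R' : Set D.idx)
    (hR' : ∀ a : D.idx, (∃ v : Red.Ga S ⟶ H, v ≫ h = D.u a) ↔ a ∈ R') (a : D.idx) :
    (∀ (X : Over S) (x : X ⟶ Red.Ga S) (y : X ⟶ H), x ≫ D.u a = y ≫ h → x = 1) ↔ a ∉ R' := by
  letI := D.grpT
  letI := D.acgM
  letI := D.fintypeIdx
  letI := D.finiteM
  letI := D.freeM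
  constructor
  · intro hx ha
    obtain ⟨x, w, hxw, hne⟩ := RootBase.inFib_of_fac_split D h ((hR' a).2 ha) (Classical.arbitrary S)
    exact hne (hx _ x w hxw)
  · intro ha X x y hxy
    have hrs := RootBase.rootSet_iff D h hH t ht hR'
    obtain ⟨⟨i1, i2⟩, i3, -, hconn, -⟩ := hH
    haveI := i1; haveI := i2; haveI := i3
    obtain ⟨i4, hcH⟩ := RootBase.cH_hcH D h t ht
    haveI := i4
    exact (RootBase.frame_of_splitRed D).eq_one_of_notInFib (RootBase.exists_opp D) hconn hcH
      (fun b => (em (b ∈ R')).imp (fun hb s => (hrs b s).2 hb) fun hb s hs => hb ((hrs b s).1 hs))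
      (fun s hs => ha ((hrs a s).1 hs)) x y hxy

end Groth.Agent.S5524
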