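import Groth.Statements.S5525
import Groth.Agent.RootBase.TypeRSolvMain
-- import your own Groth.Agent.* helpers here

set_option autoImplicit false
open CategoryTheory MonoidalCategory CartesianMonoidalCategory MonObj GrpObj AlgebraicGeometry
universe u
open RedSub

set_option backward.isDefEq.respectTransparency false

namespace Groth.Agent.S5525

/-- (i) ⟺ (iii): Let S be connected, G a split reductive S-group (splitting D), H a subgroup of type (R)
of G containing the torus T, with root set R'. Then the geometric fibres of H are solvable if and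
only if R' ∩ -R' = ∅. -/
theorem result {S : Scheme.{u}} [ConnectedSpace S] {G H : Over S} [GrpObj G] [GrpObj H]
    (D : Red.SplitRed G) (h : H ⟶ G) (hH : RedSub.IsTypeR h) (t : D.T ⟶ H) (ht : t ≫ h = D.i) (R' : Set D.idx)
    (hR' : ∀ a : D.idx, (∃ v : Red.Ga S ⟶ H, v ≫ h = D.u a) ↔ a ∈ R') :
    (∀ s : S, Red.IsSolvableGrp (Red.geomFibre s H)) ↔ ∀ a ∈ R', D.P.reflectionPerm a a ∉ R' := by
  refine ⟨fun hsol => ?_, fun has s => (RootBase.solvable_split D h hH t ht R' hR' s).2 has⟩
  letI := D.acgM
  obtain ⟨s⟩ : Nonempty S := inferInstance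
  obtain ⟨mu, -, hpos⟩ := (RootBase.solvable_split D h hH t ht R' hR' s).1 (hsol s)
  exact RootBase.asymm_of_pos D mu hpos

end Groth.Agent.S5525
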