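import Groth.Statements.S5526
import Groth.Agent.RootBase.TypeRSolvMain
import Groth.Agent.S5522
import Groth.Agent.RootBase.BigCell
-- import your own Groth.Agent.* helpers here

set_option autoImplicit false
open CategoryTheory MonoidalCategory CartesianMonoidalCategory MonObj GrpObj AlgebraicGeometry
universe u
open RedSub

set_option backward.isDefEq.respectTransparency false

namespace Groth.Agent.S5526

/-- (iii) ⟺ (ii): Let S be connected, G a split reductive S-group (splitting D), H a subgroup of type
(R) containing the torus T, with root set R'. Then R' ∩ -R' = ∅ if and only if R' is contained in a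
system of positive roots (so that H is contained in the corresponding Borel subgroup). Note R' need
not be closed. -/
theorem result {S : Scheme.{u}} [ConnectedSpace S] {G H : Over S} [GrpObj G] [GrpObj H]
    (D : Red.SplitRed G) (h : H ⟶ G) (hH : RedSub.IsTypeR h) (t : D.T ⟶ H) (ht : t ≫ h = D.i) (R' : Set D.idx)
    (hR' : ∀ a : D.idx, (∃ v : Red.Ga S ⟶ H, v ≫ h = D.u a) ↔ a ∈ R') :
    (∀ a ∈ R', D.P.reflectionPerm a a ∉ R') ↔ ∃ b : D.P.Base, R' ⊆ RedSub.posRoots D.P b := by
  letI := D.acgM
  refine ⟨fun has => ?_, fun ⟨b, hb⟩ => ?_⟩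
  · obtain ⟨s⟩ : Nonempty S := inferInstance
    obtain ⟨hto, hfrom⟩ := RootBase.solvable_split D h hH t ht R' hR' s
    obtain ⟨mu, -, hpos⟩ := hto (hfrom has)
    obtain ⟨b, hb⟩ := S5522.result D {a | 0 < mu (D.P.root a)}
      (fun a b c ha hb hab => by
        show 0 < mu (D.P.root c)
        rw [← hab, map_add]
        exact add_pos ha hb)
      (RootBase.asymm_of_pos D mu fun a ha => ha)
    exact ⟨b, fun a ha => hb (hpos a ha)⟩
  · letI := D.finiteM
    letI := D.freeM
    obtain ⟨mu, hmp, -, -⟩ := RootBase.exists_pos_hom D.P b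
    exact RootBase.asymm_of_pos D mu fun a ha => (hmp a).2 (hb ha)

end Groth.Agent.S5526
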