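import Groth.Statements.S5528
import Groth.Agent.S5525
import Groth.Agent.S5526
import Groth.Agent.RootBase.TypeRRefl
import Groth.Agent.RootBase.TypeRNorm
-- import your own Groth.Agent.* helpers here

set_option autoImplicit false
open CategoryTheory MonoidalCategory CartesianMonoidalCategory MonObj GrpObj AlgebraicGeometry
universe u
open RedSub

set_option backward.isDefEq.respectTransparency false

namespace Groth.Agent.S5528

/-- (i) ⟺ (v): Let S be connected, G a split reductive S-group (splitting D), H a subgroup of type (R)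
containing the torus T (with root set R'). Then the geometric fibres of H are solvable if and only
if H ∩ Norm_G(T) = T: every point of H normalising T lies in T. -/
theorem result {S : Scheme.{u}} [ConnectedSpace S] {G H : Over S} [GrpObj G] [GrpObj H]
    (D : Red.SplitRed G) (h : H ⟶ G) (hH : RedSub.IsTypeR h) (t : D.T ⟶ H) (ht : t ≫ h = D.i) (R' : Set D.idx)
    (hR' : ∀ a : D.idx, (∃ v : Red.Ga S ⟶ H, v ≫ h = D.u a) ↔ a ∈ R') :
    (∀ s : S, Red.IsSolvableGrp (Red.geomFibre s H)) ↔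
      ∀ (X : Over S) (x : X ⟶ H),
        (∀ (X' : Over S) (y : X' ⟶ X) (s : X' ⟶ D.T),
          (∃ s' : X' ⟶ D.T, (y ≫ x ≫ h) * (s ≫ D.i) * (y ≫ x ≫ h)⁻¹ = s' ≫ D.i) ∧
          (∃ s' : X' ⟶ D.T, (y ≫ x ≫ h)⁻¹ * (s ≫ D.i) * (y ≫ x ≫ h) = s' ≫ D.i)) →
        ∃ s : X ⟶ D.T, s ≫ t = x := by
  classical
  letI := D.grpT
  letI := D.acgM
  letI := D.fintypeIdx
  letI := D.finiteM
  letI := D.freeM
  obtain ⟨⟨i1, i2⟩, i3, -⟩ := id hH
  haveI := i1; haveI := i2; haveI := i3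
  haveI : Mono h := Over.mono_of_mono_left h
  haveI := D.maximalTorus.1
  haveI : Mono D.i := D.maximalTorus.2.1
  haveI : IsMonHom t := MTSplit.isMonHom_of_comp_mono t h D.i ht
  obtain ⟨c, hc, F⟩ : ∃ c : Red.DS S D.M ⟶ G, D.split.inv.hom.hom ≫ D.i = c ∧ RootBase.Frame c D.P.root D.u :=
    ⟨_, rfl, RootBase.frame_of_splitRed D⟩
  haveI := F.hc.1; haveI := F.hG.1; haveI := F.hG.2.1
  haveI : ∀ a, IsMonHom (D.u a) := fun a => (F.hu a).1
  constructor
  · intro hsol X x hnorm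
    obtain ⟨b, hb⟩ := (S5526.result D h hH t ht R' hR').1 ((S5525.result D h hH t ht R' hR').1 hsol)
    obtain ⟨mu, hmp, -, -⟩ := RootBase.exists_pos_hom D.P b
    obtain ⟨N, e', -, he⟩ := RootBase.exists_extend R' (Fin.elim0 : Fin 0 → D.idx) (fun x => x.elim0) fun x => x.elim0
    obtain ⟨φ, hφ⟩ := RootBase.exists_iso_borelMap D h hH t ht R' hR' b hb _ he
    let e := Fin.append (Fin.elim0 : Fin 0 → D.idx) e'
    obtain ⟨τ, hτ⟩ : ∃ τ : X ⟶ D.T, τ = x ≫ φ.inv ≫ fst _ _ := ⟨_, rfl⟩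
    obtain ⟨Y, hY⟩ : ∃ Y : X ⟶ RedSub.pow (Red.Ga S) (0 + N), Y = x ≫ φ.inv ≫ snd _ _ := ⟨_, rfl⟩
    have hx : x ≫ h = (τ ≫ D.i) * (Y ≫ RedSub.prodMap (Red.Ga S) _ fun l => D.u (e l)) := by
      rw [hY, hτ, show h = φ.inv ≫ RedSub.borelMap D _ from (by rw [← hφ, Iso.inv_hom_id_assoc]),
        RedSub.borelMap, MonObj.comp_mul, MonObj.comp_mul]
      simp only [Category.assoc]
      rfl
    haveI : IsClosedImmersion D.i.left := MTBridge.isClosedImmersion_of_mono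
      (MTBridge.locally_of_isMultTypeFT' _ (MTBridge.isMultTypeFT_of_isTorus _ D.maximalTorus.2.2.1)) inferInstance D.i
    haveI : IsClosedImmersion (RedSub.borelMap D e).left :=
      RootBase.isClosedImmersion_borelMap D b e he.1 (he.2.trans_subset hb)
    haveI : Mono (RedSub.borelMap D e) := Over.mono_of_mono_left _
    refine ⟨τ, (cancel_mono h).1 ?_⟩
    rw [Category.assoc, ht, hx]
    suffices hone : Y ≫ RedSub.prodMap (Red.Ga S) _ (fun l => D.u (e l)) = 1 by rw [hone, _root_.mul_one]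
    refine DynPar.hom_ext_pts _ _ fun B _ f y => ?_
    rw [MonObj.comp_one]
    obtain ⟨g0, hg0⟩ : ∃ g0 : LieS.pt B f ⟶ G, g0 = (y ≫ Y) ≫ RedSub.prodMap (Red.Ga S) _ fun l => D.u (e l) :=
      ⟨_, rfl⟩
    rw [← Category.assoc, ← hg0]
    have hg0U : g0 ∈ DynPar.USub f (Red.DSmap S mu ≫ c) := hg0 ▸ RootBase.prodMap_mem_USub_global mu f
      (fun l => F.hu (e l)) (fun l => (hmp _).2 (hb (he.2.subset ⟨l, rfl⟩))) _
    obtain ⟨a, ha0, ha⟩ := (DynPar.mem_USub f _).1 (inv_mem hg0U)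
    obtain ⟨z, hz⟩ : ∃ z : LieS.pt (AddMonoidAlgebra B ℤ) (DynPar.fL f ℤ) ⟶ D.T,
        z = (DynPar.xu f ℤ ≫ Red.DSmap S mu) ≫ D.split.inv.hom.hom := ⟨_, rfl⟩
    have hz' : z ≫ D.i = DynPar.xu f ℤ ≫ Red.DSmap S mu ≫ c := by simp only [hz, Category.assoc, hc]
    obtain ⟨z', hz''⟩ := (hnorm _ (DynPar.qc ℤ f ≫ y) z).1
    obtain ⟨τ', hτ'⟩ : ∃ τ' : LieS.pt (AddMonoidAlgebra B ℤ) (DynPar.fL f ℤ) ⟶ D.T,
        τ' = DynPar.qc ℤ f ≫ y ≫ τ := ⟨_, rfl⟩
    have hqx : (DynPar.qc ℤ f ≫ y) ≫ x ≫ h = (τ' ≫ D.i) * (DynPar.qc ℤ f ≫ g0) := by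
      rw [hx, hg0, hτ', MonObj.comp_mul]
      simp only [Category.assoc]
    rw [hqx] at hz''
    obtain ⟨A, hA⟩ := RootBase.exists_fac_orbit D.i f ((DynPar.qc (DynPar.NN ℤ) f ≫ g0) * a)
      (τ'⁻¹ * z' * τ' * z⁻¹) (by
        rw [MonObj.comp_mul, ha, DynPar.orb_apply, ← Category.assoc, DynPar.qn_qc, GrpObj.comp_inv,
          MonObj.mul_comp, MonObj.mul_comp, MonObj.mul_comp, GrpObj.inv_comp, GrpObj.inv_comp, ← hz'', hz']
        group)
    have hgT : (DynPar.qz f ℤ ≫ A) ≫ D.i = g0 := by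
      rw [Category.assoc, hA, MonObj.comp_mul, ha0, _root_.mul_one, ← Category.assoc, DynPar.qz_qc,
        Category.id_comp]
    obtain ⟨o, -, ho⟩ := RootBase.exists_pow_prod (fun l => D.u (e l))
      fun _ : Fin (0 + N) => (1 : LieS.pt B f ⟶ Red.Ga S)
    simp only [MonObj.one_comp, List.ofFn_const, List.prod_replicate, one_pow] at ho
    have heq : lift (DynPar.qz f ℤ ≫ A) o = lift (1 : LieS.pt B f ⟶ D.T) (y ≫ Y) := by
      rw [← cancel_mono (RedSub.borelMap D e), RedSub.borelMap, MonObj.comp_mul, MonObj.comp_mul, lift_fst_assoc,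
        lift_snd_assoc, lift_fst_assoc, lift_snd_assoc, ho, hgT, MonObj.one_comp, _root_.mul_one, _root_.one_mul,
        hg0]
    rw [← hgT, show DynPar.qz f ℤ ≫ A = 1 by simpa using congrArg (fun w => w ≫ fst _ _) heq, MonObj.one_comp]
  · intro hnt
    refine (S5525.result D h hH t ht R' hR').2 fun a ha ha' => ?_
    obtain ⟨n, hn⟩ := RootBase.exists_refl_mem D h hH t ht R' hR' a ha ha'
    let rf := Red.DSmap S (D.P.reflection a).toLinearMap.toAddMonoidHom
    have e0 : D.split.inv.hom.hom ≫ D.split.hom.hom.hom = 𝟙 _ :=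
      congrArg (fun f => f.hom.hom) D.split.inv_hom_id
    have e0' : D.split.hom.hom.hom ≫ D.split.inv.hom.hom = 𝟙 _ :=
      congrArg (fun f => f.hom.hom) D.split.hom_inv_id
    have hinv : rf ≫ rf = 𝟙 _ := by
      refine HomDiag.ch_ext fun m => ?_
      rw [HomDiag.ch_DSmap, ← Category.id_comp rf, HomDiag.ch_DSmap, toAdd_ofAdd]
      congr 2
      exact D.P.reflection_same a m.toAdd
    obtain ⟨s, hs⟩ := hnt (𝟙_ (Over S)) n fun X' y z => by
      rw [toUnit_unique y (toUnit X')]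
      refine ⟨⟨z ≫ D.split.hom.hom.hom ≫ rf ≫ D.split.inv.hom.hom, by simpa only [Category.assoc] using hn X' z⟩,
        ⟨z ≫ D.split.hom.hom.hom ≫ rf ≫ D.split.inv.hom.hom, ?_⟩⟩
      have h1 := hn X' (z ≫ D.split.hom.hom.hom ≫ rf ≫ D.split.inv.hom.hom)
      simp only [Category.assoc, reassoc_of% e0, reassoc_of% hinv, reassoc_of% e0', rf] at h1 ⊢
      rw [mul_inv_eq_iff_eq_mul] at h1
      rw [_root_.mul_assoc, ← h1, inv_mul_cancel_left]
    obtain ⟨p⟩ : Nonempty S := inferInstance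
    have h2 : D.P.root a + D.P.root a ≠ 0 := fun h0 => by
      have h3 := congrArg (fun v => D.P.toLinearMap v (D.P.coroot a)) h0
      simp only [map_add, map_zero, LinearMap.add_apply, LinearMap.zero_apply, D.P.root_coroot_two] at h3
      norm_num at h3
    obtain ⟨g, hg⟩ := RootBase.exists_ch_ne p h2
    have h4 := hn _ (g ≫ D.split.inv.hom.hom)
    simp only [← hs, Category.assoc, reassoc_of% e0, ht, hc] at h4
    obtain ⟨w, hw⟩ : ∃ w : RootBase.GP p ⟶ Red.DS S D.M, toUnit _ ≫ s ≫ D.i = w ≫ c :=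
      ⟨toUnit _ ≫ s ≫ D.split.hom.hom.hom, by rw [← hc]; simp only [Category.assoc, reassoc_of% e0']⟩
    have hcomm : (w ≫ c) * (g ≫ c) = (g ≫ c) * (w ≫ c) := by
      rw [← MonObj.mul_comp, ← MonObj.mul_comp,
        show w * g = g * w from HomDiag.ch_ext fun m => by rw [HomDiag.ch_mul, HomDiag.ch_mul, mul_comm]]
    rw [hw, hcomm, mul_inv_cancel_right, ← Category.assoc g rf c] at h4
    haveI : Mono c := F.hc.2.1
    have h5 : g = g ≫ rf := (cancel_mono c).1 h4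
    apply hg
    have h6 : HomDiag.ch g (Multiplicative.ofAdd (D.P.root a)) =
        HomDiag.ch g (Multiplicative.ofAdd (-D.P.root a)) := by
      rw [← D.P.reflection_apply_self a]
      conv_lhs => rw [h5]
      rw [HomDiag.ch_DSmap]
      rfl
    rw [ofAdd_add, map_mul]
    nth_rw 1 [h6]
    rw [← map_mul, ← ofAdd_add, neg_add_cancel, ofAdd_zero, map_one]

end Groth.Agent.S5528
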