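import Groth.Statements.S5529
import Groth.Agent.RootBase.SymMain
-- import your own Groth.Agent.* helpers here

set_option autoImplicit false
open CategoryTheory MonoidalCategory CartesianMonoidalCategory MonObj GrpObj AlgebraicGeometry
universe u
open RedSub

set_option backward.isDefEq.respectTransparency false

namespace Groth.Agent.S5529

/-- (i) ⟺ (ii): Let S be connected, G a split reductive S-group (splitting D), H a subgroup of type (R)
containing the torus T, with root set R'. Then the geometric fibres of H are reductive if and only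
if R' is symmetric (R' = -R'); and when R' is symmetric H is a reductive S-group. -/
theorem result {S : Scheme.{u}} [ConnectedSpace S] {G H : Over S} [GrpObj G] [GrpObj H]
    (D : Red.SplitRed G) (h : H ⟶ G) (hH : RedSub.IsTypeR h) (t : D.T ⟶ H) (ht : t ≫ h = D.i) (R' : Set D.idx)
    (hR' : ∀ a : D.idx, (∃ v : Red.Ga S ⟶ H, v ≫ h = D.u a) ↔ a ∈ R') :
    ((∀ s : S, Red.IsReductiveOver (AlgebraicClosure (S.residueField s)) (Red.geomFibre s H)) ↔
        ∀ a ∈ R', D.P.reflectionPerm a a ∈ R') ∧
      ((∀ a ∈ R', D.P.reflectionPerm a a ∈ R') → Red.IsReductive H) := by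
  refine ⟨⟨fun hred => RootBase.symm_of_reductive D h hH t ht R' hR' hred,
    fun hs s => ?_⟩, fun hs => (RootBase.isReductive_of_symm D h hH t ht R' hR' hs).2⟩
  exact (RootBase.isReductive_of_symm D h hH t ht R' hR' hs).2.2.2 s

end Groth.Agent.S5529
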