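import Groth.Statements.S5532
import Groth.Agent.RootBase.UnipStabL
import Groth.Agent.MTImage.ToriConj
import Groth.Agent.UnipTor.Main
import Groth.Agent.RedCent.Reductive
-- import your own Groth.Agent.* helpers here

set_option autoImplicit false
open CategoryTheory MonoidalCategory CartesianMonoidalCategory MonObj GrpObj AlgebraicGeometry
universe u
open RedSub

set_option backward.isDefEq.respectTransparency false

namespace Groth.Agent.S5532
open Limits
open scoped CategoryTheory.Obj


set_option maxHeartbeats 2000000 in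
/-- Let G be a reductive S-group, T a maximal torus and U a sub-group-scheme of G, smooth over S, whose
geometric fibres are connected and contain no non-trivial subtorus, and which is normalised by T.
Then there is a subgroup H of type (R) of G with solvable geometric fibres, containing T and U, such
that U is the unipotent radical of H and multiplication T x_S U ⟶ H is an isomorphism. -/
theorem result {S : Scheme.{u}} {G T U : Over S} [GrpObj G]
    [GrpObj T] [GrpObj U] (hG : Red.IsReductive G) (i : T ⟶ G) (hT : Red.IsMaximalTorus i) (j : U ⟶ G)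
    (hU : RedSub.IsSubgrp j) [Smooth U.hom]
    (hfib : ∀ s : S, ConnectedSpace ↥(Red.geomFibre s U).left ∧
      Red.HasNoSubtorus (AlgebraicClosure (S.residueField s)) (Red.geomFibre s U))
    (hnorm : ∀ (X : Over S) (x : X ⟶ T) (y : X ⟶ U), ∃ y' : X ⟶ U, (x ≫ i) * (y ≫ j) * (x ≫ i)⁻¹ = y' ≫ j) :
    ∃ (H : Over S) (_ : GrpObj H) (h : H ⟶ G) (t : T ⟶ H) (u : U ⟶ H), RedSub.IsTypeR h ∧
      (∀ s : S, Red.IsSolvableGrp (Red.geomFibre s H)) ∧ t ≫ h = i ∧ u ≫ h = j ∧ IsMonHom t ∧ IsMonHom u ∧
      Par.IsUnipotentRadical u ∧ IsIso ((t ⊗ₘ u) ≫ μ[H]) := by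
  classical
  haveI := hG.1
  haveI := hG.2.1
  obtain ⟨him, himono, hTt, -⟩ := id hT
  haveI := him; haveI := himono
  obtain ⟨hjm, hji⟩ := id hU
  haveI := hjm; haveI := hji
  haveI : Mono j := Over.mono_of_mono_left j
  have hj : RootBase.IsTUnip i j := ⟨hjm, hji, inferInstance, hfib, hnorm⟩
  haveI := MTImage.smooth_torus hTt
  haveI : IsAffineHom T.hom := MTBridge.isAffineHom T (MTBridge.isMultTypeFT_of_isTorus T hTt)
  have hfst := UnipTor.fst_eq_one i hTt j hfib
  have hdisj : ∀ (X : Over S) (y : X ⟶ U) (x : X ⟶ T), y ≫ j = x ≫ i → y = 1 := fun X y x h => by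
    rw [← pullback.lift_fst (f := j) (g := i) y x h, hfst, MonObj.comp_one]
  obtain ⟨P, hPg, e, φ, r, lT, lU, hφm, hφmono, hrm, hlTm, hlUm, he, her, hlT, hlU, hTφ, hUφ⟩ :=
    RootBase.exists_semidirect i j hnorm hdisj
  haveI := hφm; haveI := hφmono; haveI := hrm; haveI := hlTm; haveI := hlUm
  haveI hm : IsClosedImmersion (RootBase.mT i j).left := RootBase.isClosedImmersion_mT hG i hT j hj
  haveI : IsIso e.inv.left := inferInstanceAs (IsIso ((Over.forget S).map e.inv))
  haveI : IsIso e.hom.left := inferInstanceAs (IsIso ((Over.forget S).map e.hom))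
  haveI hφc : IsClosedImmersion φ.left := by
    rw [show φ = e.inv ≫ RootBase.mT i j by rw [RootBase.mT, ← he, Iso.inv_hom_id_assoc], Over.comp_left]
    infer_instance
  haveI : IsClosedImmersion lU.left := by
    haveI := RootBase.isClosedImmersion_section (T := T) (X := U) 1
    rw [hlU, Over.comp_left]
    infer_instance
  haveI : IsClosedImmersion j.left := by rw [← hUφ, Over.comp_left]; infer_instance
  haveI : QuasiCompact P.hom := by rw [← Over.w φ]; infer_instance
  haveI : QuasiCompact U.hom := by rw [← Over.w j]; infer_instance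
  haveI : Smooth P.hom := by
    haveI : Smooth (T ⊗ U).hom := by
      show Smooth (pullback.fst T.hom U.hom ≫ T.hom)
      infer_instance
    rw [← Over.w e.inv]
    infer_instance
  -- the decomposition of points
  obtain ⟨q, hdec⟩ : ∃ q : P ⟶ U, (r ≫ lT) * (q ≫ lU) = 𝟙 P := by
    refine ⟨e.inv ≫ snd T U, ?_⟩
    rw [← cancel_epi e.hom, ← cancel_mono φ, Category.assoc, MonObj.mul_comp, MonObj.comp_mul, Category.assoc,
      Category.assoc, hTφ, hUφ, reassoc_of% her, Category.assoc, Iso.hom_inv_id_assoc, Category.comp_id, he]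
  have hker : ∀ {X : Over S} (x : X ⟶ P), x ≫ r = 1 → (x ≫ q) ≫ lU = x := fun x hx => by
    conv_rhs => rw [← Category.comp_id x, ← hdec, MonObj.comp_mul, reassoc_of% hx, MonObj.one_comp,
      _root_.one_mul]
    rw [Category.assoc]
  have hUr : lU ≫ r = 1 := by rw [hlU, Category.assoc, her, lift_fst]
  have hTr : lT ≫ r = 𝟙 T := by rw [hlT, Category.assoc, her, lift_fst]
  have hcommT : ∀ {X : Over S} (a b : X ⟶ T), a * b = b * a := fun a b => RedR1.mul_comm_torus hTt a b
  -- the geometric fibres
  have hfibP : ∀ s : S, ConnectedSpace ↥(Red.geomFibre s P).left ∧ Red.IsSolvableGrp (Red.geomFibre s P) := by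
    intro s
    let τ := Red.geomPt s
    let F := Over.pullback τ
    haveI : ConnectedSpace ↥(Red.geomFibre s U).left := (hfib s).1
    have hTs : Red.IsTorus (Red.geomFibre s T) := Chev.Borel.isTorus_bc_scheme T τ hTt
    haveI : ConnectedSpace ↥(Red.geomFibre s T).left := Chev.connectedSpace_of_isTorus hTs
    haveI : Smooth (Red.geomFibre s T).hom := inferInstanceAs (Smooth (pullback.snd T.hom τ))
    haveI : Smooth (Red.geomFibre s U).hom := inferInstanceAs (Smooth (pullback.snd U.hom τ))
    haveI : Smooth (Red.geomFibre s P).hom := inferInstanceAs (Smooth (pullback.snd P.hom τ))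
    haveI : QuasiCompact (Red.geomFibre s P).hom := inferInstanceAs (QuasiCompact (pullback.snd P.hom τ))
    refine ⟨?_, ?_⟩
    · haveI := (UniRad.prod_conn (Red.geomFibre s T) (Red.geomFibre s U)).1
      let E : Red.geomFibre s T ⊗ Red.geomFibre s U ≅ Red.geomFibre s P :=
        Functor.Monoidal.μIso F T U ≪≫ F.mapIso e
      haveI : IsIso E.hom.left := inferInstanceAs (IsIso ((Over.forget _).map E.hom))
      exact E.hom.left.homeomorph.surjective.connectedSpace E.hom.left.continuous
    · haveI : IsAffine (Red.geomFibre s U).left := by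
        haveI : IsAffineHom U.hom := by rw [← Over.w j]; infer_instance
        haveI : IsAffineHom (Red.geomFibre s U).hom := inferInstanceAs (IsAffineHom (pullback.snd U.hom τ))
        exact isAffine_of_isAffineHom (Red.geomFibre s U).hom
      haveI := RedCent.isSolvable_of_noSubtorus (hfib s).2
      haveI := DynPar.isMonHom_map' τ r
      haveI := DynPar.isMonHom_map' τ lU
      refine RootBase.isSolvableGrp_of_retraction (fun a b => RedR1.mul_comm_torus hTs a b) (F.map r) (F.map lU)
        fun x hx => ⟨x ≫ F.map q, ?_⟩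
      have hd : (F.map r ≫ F.map lT) * (F.map q ≫ F.map lU) = 𝟙 _ := by
        rw [← Functor.map_comp, ← Functor.map_comp, ← Functor.map_mul, hdec, CategoryTheory.Functor.map_id]
      conv_rhs => rw [← Category.comp_id x, ← hd, MonObj.comp_mul, reassoc_of% hx, MonObj.one_comp,
        _root_.one_mul]
      rw [Category.assoc]
  refine ⟨P, hPg, φ, lT, lU, ⟨⟨hφm, inferInstance⟩, inferInstance, inferInstance,
    fun s => ParNorm.isConnected_fibre P (fun s => (hfibP s).1) s, fun s => ?_⟩, fun s => (hfibP s).2, hTφ, hUφ,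
    hlTm, hlUm, ⟨hlUm, inferInstance, ?_, inferInstance, inferInstance, hfib, ?_⟩, ?_⟩
  · refine ⟨Red.geomFibre s T, inferInstance, (Over.pullback (Red.geomPt s)).map lT,
      DynPar.isMonHom_map' _ lT, ?_⟩
    rw [← Functor.map_comp, hTφ]
    exact Chev.MaxTorusBC.isMaximalTorus_bc i hT _
  · intro X g n
    refine ⟨_, (hker _ ?_).symm⟩
    rw [MonObj.mul_comp, MonObj.mul_comp, GrpObj.inv_comp, Category.assoc, hUr, MonObj.comp_one, _root_.mul_one,
      mul_inv_cancel]
  · intro U' _ u' _ hu'c hu'n hu's _ hu'fib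
    haveI := hu'c; haveI := hu's
    haveI : IsClosedImmersion (u' ≫ φ).left := inferInstanceAs (IsClosedImmersion (u'.left ≫ φ.left))
    haveI : IsMonHom (u' ≫ φ) := inferInstance
    have hj' : RootBase.IsTUnip i (u' ≫ φ) := ⟨inferInstance, inferInstance, inferInstance, hu'fib, fun X x y => by
      obtain ⟨y', hy'⟩ := hu'n X (x ≫ lT) y
      refine ⟨y', ?_⟩
      have h2 := congrArg (fun z => z ≫ φ) hy'
      simpa only [MonObj.mul_comp, GrpObj.inv_comp, Category.assoc, hTφ] using h2⟩
    obtain ⟨k, hk⟩ := RootBase.exists_le_of_isTUnip hG i hT j hj (u' ≫ φ) hj' fun s => by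
      let τ := Red.geomPt s
      let F := Over.pullback τ
      haveI := DynPar.isMonHom_map' τ r
      haveI := DynPar.isMonHom_map' τ u'
      haveI : Smooth (Red.geomFibre s U').hom := inferInstanceAs (Smooth (pullback.snd U'.hom τ))
      haveI : IsAffine (Red.geomFibre s U').left := by
        haveI : IsAffineHom U'.hom := by rw [← Over.w (u' ≫ φ)]; infer_instance
        haveI : IsAffineHom (Red.geomFibre s U').hom := inferInstanceAs (IsAffineHom (pullback.snd U'.hom τ))
        exact isAffine_of_isAffineHom (Red.geomFibre s U').hom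
      haveI := (hu'fib s).1
      have h1 : F.map u' ≫ F.map r = 1 :=
        UniRad.hom_torus_eq_one (hu'fib s).2 (Chev.Borel.isTorus_bc_scheme T τ hTt) _
      refine RootBase.fibreLe_of_geomFibre (f := F.map u' ≫ F.map q) ?_
      have hd : (F.map r ≫ F.map lT) * (F.map q ≫ F.map lU) = 𝟙 _ := by
        rw [← Functor.map_comp, ← Functor.map_comp, ← Functor.map_mul, hdec, CategoryTheory.Functor.map_id]
      have h2 : F.map u' ≫ F.map q ≫ F.map lU = F.map u' := by
        conv_rhs => rw [← Category.comp_id (F.map u'), ← hd, MonObj.comp_mul, reassoc_of% h1, MonObj.one_comp,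
          _root_.one_mul]
      rw [Category.assoc, ← hUφ, Functor.map_comp, Functor.map_comp]
      simpa only [Category.assoc] using congrArg (fun z => z ≫ F.map φ) h2
    refine ⟨k, ?_⟩
    rw [← cancel_mono φ, Category.assoc, hUφ, hk]
  · have h3 : (lT ⊗ₘ lU) ≫ μ[P] = e.hom := by
      rw [← cancel_mono φ, he, show (lT ⊗ₘ lU) ≫ μ[P] = (fst T U ≫ lT) * (snd T U ≫ lU) by
        rw [Hom.mul_def]
        congr 1, MonObj.mul_comp, Category.assoc, Category.assoc, hTφ, hUφ]
    rw [h3]
    infer_instance

end Groth.Agent.S5532
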