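import Groth.Statements.S5534
import Groth.Agent.Corad.Tori
-- import your own Groth.Agent.* helpers here

set_option backward.isDefEq.respectTransparency false
set_option linter.style.haveILetI false
set_option synthInstance.maxHeartbeats 400000
set_option maxHeartbeats 1000000

set_option autoImplicit false
open CategoryTheory MonoidalCategory CartesianMonoidalCategory MonObj GrpObj AlgebraicGeometry
universe u
open RedSub

namespace Groth.Agent.S5534

/-- Let G be a reductive S-group and D = dér(G) ⟶ G its derived group. (a) For every maximal torus T of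
G, the intersection T ∩ D (a fibre product T' with T' ⟶ T, T' ⟶ D homomorphisms) is a maximal torus
of D. (b) For every maximal torus T' of D, the centraliser of T' in G is representable by a maximal
torus of G. These two constructions are inverse bijections between maximal tori of G and of D. -/
theorem result {S : Scheme.{u}} {G D : Over S} [GrpObj G] [GrpObj D]
    (hG : Red.IsReductive G) (d : D ⟶ G) [IsMonHom d]
    (hker : ∃ (C : Over S) (_ : GrpObj C) (f₀ : G ⟶ C), IsMonHom f₀ ∧ (∀ (X : Over S) (a b : X ⟶ C), a * b = b * a) ∧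
      AlgGrp.IsKernel d f₀)
    (hkill : RedSub.KilledByCommutative d) :
    (∀ (T T' : Over S) [GrpObj T] [GrpObj T'] (i : T ⟶ G) (a : T' ⟶ T) (b : T' ⟶ D) [IsMonHom a] [IsMonHom b],
        Red.IsMaximalTorus i → IsPullback a b i d → Red.IsMaximalTorus b) ∧
    (∀ (T' : Over S) [GrpObj T'] (b : T' ⟶ D), Red.IsMaximalTorus b →
        ∃ (T : Over S) (_ : GrpObj T) (i : T ⟶ G), Red.IsCentralizerOf (b ≫ d) i ∧ Red.IsMaximalTorus i) := by
  obtain ⟨C, _, f₀, hc⟩ := Groth.Agent.Corad.exists_corad_of_ker hG d hker hkill
  have w := Groth.Agent.Corad.wc_of_isCorad hG hc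
  refine ⟨fun T T' _ _ i a b _ _ hT hsq => ?_, fun T' _ b hb =>
    Groth.Agent.Corad.exists_maximalTorus_of_derived hG hc b hb⟩
  exact Groth.Agent.Corad.isMaximalTorus_inter hG w i hT a b hsq
    (Groth.Agent.Corad.isTorus_inter hG hc i hT a b hsq)

end Groth.Agent.S5534
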