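import Groth.Statements.S5536
import Groth.Agent.Corad.SubTorus
-- import your own Groth.Agent.* helpers here

set_option backward.isDefEq.respectTransparency false
set_option linter.style.haveILetI false
set_option synthInstance.maxHeartbeats 400000
set_option maxHeartbeats 1000000

set_option autoImplicit false
open CategoryTheory MonoidalCategory CartesianMonoidalCategory MonObj GrpObj AlgebraicGeometry
universe u
open RedSub

namespace Groth.Agent.S5536

/-- Let G be a reductive S-group, D = dér(G) its derived group, and H ⟶ G a sub-group-scheme containing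
D (hence normal with commutative quotient), smooth over S with connected fibres. Then H is closed in
G and H is a reductive S-group. -/
theorem result {S : Scheme.{u}} {G D H : Over S} [GrpObj G] [GrpObj D]
    [GrpObj H] (hG : Red.IsReductive G) (d : D ⟶ G) [IsMonHom d]
    (hker : ∃ (C : Over S) (_ : GrpObj C) (f₀ : G ⟶ C), IsMonHom f₀ ∧ (∀ (X : Over S) (a b : X ⟶ C), a * b = b * a) ∧
      AlgGrp.IsKernel d f₀)
    (hkill : RedSub.KilledByCommutative d)
    (k : H ⟶ G) (hH : RedSub.IsSubgrp k) (hDH : ∃ e : D ⟶ H, e ≫ k = d) [Smooth H.hom]
    (hconn : RedSub.HasConnectedFibres H) :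
    IsClosedImmersion k.left ∧ Red.IsReductive H := by
  obtain ⟨C, _, f₀, hc⟩ := Groth.Agent.Corad.exists_corad_of_ker hG d hker hkill
  obtain ⟨e, he⟩ := hDH
  exact Groth.Agent.Corad.closed_reductive_sub hG hc k hH e he hconn

end Groth.Agent.S5536
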