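import Groth.Statements.S5539
import Groth.Agent.ParStd.GenPosNbhd

set_option backward.isDefEq.respectTransparency false

set_option autoImplicit false
open CategoryTheory MonoidalCategory CartesianMonoidalCategory MonObj GrpObj AlgebraicGeometry
universe u
open RedSub

namespace Groth.Agent.S5539

/-- Let G be a reductive S-group and B, B' two Borel subgroups of G. If the geometric fibres of B and B'
at a point s are in general position (their intersection is a maximal torus of the geometric fibre
of G), then there is an open neighbourhood V of s such that B_V and B'_V are in general position: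
B_V ∩ B'_V is a maximal torus of G_V. -/
theorem result {S : Scheme.{u}} {G B B' : Over S} [GrpObj G] [GrpObj B] [GrpObj B']
    (hG : Red.IsReductive G) (i : B ⟶ G) (i' : B' ⟶ G) (hB : Red.IsBorel i) (hB' : Red.IsBorel i') (s : S)
    (hs : ∃ (T : Over (Spec (CommRingCat.of (AlgebraicClosure (S.residueField s))))) (_ : GrpObj T)
      (t : T ⟶ Red.geomFibre s B) (t' : T ⟶ Red.geomFibre s B'), IsMonHom t ∧
        IsPullback t t' ((Over.pullback (Red.geomPt s)).map i) ((Over.pullback (Red.geomPt s)).map i') ∧
        Red.IsMaximalTorus (t ≫ (Over.pullback (Red.geomPt s)).map i)) :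
    ∃ V : S.Opens, s ∈ V ∧ ∃ (T : Over (V : Scheme.{u})) (_ : GrpObj T) (t : T ⟶ Red.bc V.ι B) (t' : T ⟶ Red.bc V.ι B'),
      IsMonHom t ∧ IsPullback t t' ((Over.pullback V.ι).map i) ((Over.pullback V.ι).map i') ∧
        Red.IsMaximalTorus (t ≫ (Over.pullback V.ι).map i) := by
  obtain ⟨V, hsV, hV⟩ := Groth.Agent.ParStd.exists_opposite_nhd hG i hB i' hB' s hs
  have hGV := Groth.Agent.DynPar.isReductive_bc V.ι hG
  have hBV := Groth.Agent.ParStd.isBorel_bc V.ι hG hB
  have hBV' := Groth.Agent.ParStd.isBorel_bc V.ι hG hB'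
  have hPV' := Groth.Agent.ParStd.isParabolic_of_isBorel hBV'
  obtain ⟨Q, f, c, hc, -⟩ := Groth.Agent.ParStd.exists_atlas hGV _ hPV'
  obtain ⟨U', _, u', hU', -⟩ := Groth.Agent.ParStd.exists_radical_of_atlas hGV _ hPV' hc
  exact ⟨V, hsV, Groth.Agent.ParStd.exists_torus_of_opposite hGV _ hBV _ hBV' u' hU' hV⟩

end Groth.Agent.S5539
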