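import Groth.Statements.S5540
import Groth.Agent.RootBase.TypeREq
-- import your own Groth.Agent.* helpers here

set_option autoImplicit false
open CategoryTheory MonoidalCategory CartesianMonoidalCategory MonObj GrpObj AlgebraicGeometry
universe u
open RedSub

set_option backward.isDefEq.respectTransparency false

namespace Groth.Agent.S5540

/-- For a reductive S-group G. Let T be a maximal torus of G and H, H' two subgroups of type (R) of G
containing T. Then the set U of points of S where the geometric fibres of H and H' coincide inside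
that of G is open and closed, and H_U = H'_U as subgroups of G_U. -/
theorem result {S : Scheme.{u}} {G T H H' : Over S} [GrpObj G] [GrpObj T] [GrpObj H] [GrpObj H']
    (hG : Red.IsReductive G) (i : T ⟶ G) (hT : Red.IsMaximalTorus i) (h : H ⟶ G) (h' : H' ⟶ G)
    (hH : RedSub.IsTypeR h) (hH' : RedSub.IsTypeR h') (t : T ⟶ H) (t' : T ⟶ H') (ht : t ≫ h = i) (ht' : t' ≫ h' = i) :
    IsClopen {s : S | ∃ e : Red.geomFibre s H ≅ Red.geomFibre s H',
        e.hom ≫ (Over.pullback (Red.geomPt s)).map h' = (Over.pullback (Red.geomPt s)).map h} ∧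
      ∀ (V : S.Opens), (∀ s ∈ V, ∃ e : Red.geomFibre s H ≅ Red.geomFibre s H',
          e.hom ≫ (Over.pullback (Red.geomPt s)).map h' = (Over.pullback (Red.geomPt s)).map h) →
        ∃ e : Red.bc V.ι H ≅ Red.bc V.ι H', e.hom ≫ (Over.pullback V.ι).map h' = (Over.pullback V.ι).map h := by
  have key := RootBase.geomFibre_iso_iff hG i hT h h' hH hH' t t' ht ht'
  have hloc : ∀ s : S, ∃ W : S.Opens, s ∈ W ∧ ∀ w ∈ W,
      (RootBase.FibreLe h h' w ∧ RootBase.FibreLe h' h w ↔ RootBase.FibreLe h h' s ∧ RootBase.FibreLe h' h s) := fun s => by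
    obtain ⟨W₁, hW₁, h1⟩ := RootBase.exists_nhd_fibreLe hG i hT h h' hH hH' t t' ht ht' s
    obtain ⟨W₂, hW₂, h2⟩ := RootBase.exists_nhd_fibreLe hG i hT h' h hH' hH t' t ht' ht s
    exact ⟨W₁ ⊓ W₂, ⟨hW₁, hW₂⟩, fun w hw => and_congr (h1 w hw.1) (h2 w hw.2)⟩
  refine ⟨⟨isOpen_compl_iff.1 ?_, ?_⟩, fun V hV => ?_⟩
  · rw [isOpen_iff_mem_nhds]
    intro s hs
    obtain ⟨W, hW, h1⟩ := hloc s
    exact Filter.mem_of_superset (W.2.mem_nhds hW) fun w hw hw' => hs ((key s).2 ((h1 w hw).1 ((key w).1 hw')))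
  · rw [isOpen_iff_mem_nhds]
    intro s hs
    obtain ⟨W, hW, h1⟩ := hloc s
    exact Filter.mem_of_superset (W.2.mem_nhds hW) fun w hw => (key w).2 ((h1 w hw).2 ((key s).1 hs))
  · exact RootBase.exists_iso_bc hG i hT h h' hH hH' t t' ht ht' V.ι (fun x => ((key _).1 (hV _ x.2)).1)
      fun x => ((key _).1 (hV _ x.2)).2

end Groth.Agent.S5540
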