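import Groth.Statements.S5541
import Groth.Agent.Corad.CharGroup
-- import your own Groth.Agent.* helpers here

set_option backward.isDefEq.respectTransparency false
set_option linter.style.haveILetI false
set_option synthInstance.maxHeartbeats 400000
set_option maxHeartbeats 1000000

set_option autoImplicit false
open CategoryTheory MonoidalCategory CartesianMonoidalCategory MonObj GrpObj AlgebraicGeometry
universe u
open RedSub

namespace Groth.Agent.S5541

/-- Let G be a reductive S-group. The character functor D_S(G) = Hom_{S-gr}(G, G_{m,S}) is representable
by a twisted constant S-group: there are an S-group A and a universal family of characters υ : G x_S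
A ⟶ G_{m,S} (every family of characters over an S-scheme T is pulled back from υ along a unique T ⟶
A, and the group law of A multiplies characters pointwise), and A is fpqc-locally on S a constant
group. (The type, ℤ^(reductive rank − semisimple rank) at each point, is not restated.) -/
theorem result {S : Scheme.{u}} (G : Over S) [GrpObj G]
    (hG : Red.IsReductive G) :
    ∃ (A : Over S) (_ : GrpObj A) (υ : G ⊗ A ⟶ Red.Gm S), AutFam.RepresentsHom G (Red.Gm S) A υ ∧
      (∀ (X : Over S) (g : X ⟶ G) (a b : X ⟶ A), lift g (a * b) ≫ υ = (lift g a ≫ υ) * (lift g b ≫ υ)) ∧
      TwC.IsTwConstGrp TwC.Topology.fpqc A := by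
  exact Groth.Agent.Corad.exists_charGroup hG

end Groth.Agent.S5541
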