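import Groth.Statements.S5542
import Groth.Agent.RootBase.BruhatNorm
import Groth.Agent.RootBase.BruhatSplit
import Groth.Agent.RootBase.IsoSplit
-- import your own Groth.Agent.* helpers here

set_option autoImplicit false
open CategoryTheory MonoidalCategory CartesianMonoidalCategory MonObj GrpObj AlgebraicGeometry
universe u
open RedSub

set_option backward.isDefEq.respectTransparency false

namespace Groth.Agent.S5542

set_option maxHeartbeats 4000000 in
set_option backward.isDefEq.respectTransparency false in
/-- The identification W_S ⥲ Norm_G(T)/T for a split group, in the following pointwise form. Let G be a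
split reductive S-group (splitting D, torus T ≅ D_S(M)) and N ⟶ G the normaliser of T. Then for
every X over S whose underlying space is connected and every X-point n of N, int(n) acts on T_X
through an element of the Weyl group: there is a word a_1 … a_k in the roots such that n t n⁻¹ is,
for every point t of T (after base change), the image of t under the automorphism of T corresponding
to the product of the reflections s_{a_1} ⋯ s_{a_k} of M. -/
theorem result {S : Scheme.{u}} {G N : Over S} [GrpObj G] [GrpObj N]
    (D : Red.SplitRed G) (j : N ⟶ G) (hN : Red.IsNormalizerOf D.i j) (X : Over S) [ConnectedSpace ↥X.left]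
    (n : X ⟶ N) :
    ∃ l : List D.idx, ∀ (X' : Over S) (y : X' ⟶ X) (t : X' ⟶ D.T),
      (y ≫ n ≫ j) * (t ≫ D.i) * (y ≫ n ≫ j)⁻¹ =
        t ≫ D.split.hom.hom.hom ≫
          Red.DSmap S ((l.map fun a => D.P.reflection a).prod : D.M ≃ₗ[ℤ] D.M).toLinearMap.toAddMonoidHom ≫
            D.split.inv.hom.hom ≫ D.i := by
  classical
  letI := D.grpT
  letI := D.acgM
  letI := D.fintypeIdx
  letI := D.finiteM
  letI := D.freeM
  obtain ⟨x₀⟩ : Nonempty ↥X.left := inferInstance
  haveI : Nonempty S := ⟨X.hom x₀⟩
  haveI := RootBase.isReduced_of_splitRed D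
  have F : RootBase.Frame (D.split.inv.hom.hom ≫ D.i) D.P.root D.u := RootBase.frame_of_splitRed D
  obtain ⟨f⟩ := RootBase.nonempty_base_split D
  choose nr hnr using D.refl
  have hw := RootBase.realises_of_reflections D f (n := nr) (fun a _ => hnr a)
  obtain ⟨hj, -, hjn⟩ := hN
  have hinv : D.split.hom.hom.hom ≫ D.split.inv.hom.hom = 𝟙 _ := congrArg (fun z => z.hom.hom) D.split.hom_inv_id
  have hinv' : D.split.inv.hom.hom ≫ D.split.hom.hom.hom = 𝟙 _ := congrArg (fun z => z.hom.hom) D.split.inv_hom_id
  obtain ⟨l, hl⟩ := F.exists_word_of_normalizes D.pairing_eq hw X (n ≫ j) fun X' ρ t => by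
    obtain ⟨t', ht'⟩ := (((hjn X (n ≫ j)).1 ⟨n, rfl⟩) X' ρ (t ≫ D.split.inv.hom.hom)).1
    refine ⟨t' ≫ D.split.hom.hom.hom, ?_⟩
    simp only [Category.assoc, reassoc_of% hinv] at ht' ⊢
    exact ht'
  refine ⟨l.reverse, fun X' y t => ?_⟩
  have h := hl X' y (t ≫ D.split.hom.hom.hom)
  simp only [Category.assoc, reassoc_of% hinv] at h
  exact h

end Groth.Agent.S5542
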