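import Groth.Statements.S5544
import Groth.Agent.RootBase.SplitType
import Groth.Agent.S2958
-- import your own Groth.Agent.* helpers here

set_option autoImplicit false
open CategoryTheory MonoidalCategory CartesianMonoidalCategory MonObj GrpObj AlgebraicGeometry
universe u
open RedSub

set_option backward.isDefEq.respectTransparency false

namespace Groth.Agent.S5544

/-- Let G be a reductive S-group. The function s ↦ type of G at s is locally constant: every point s of
S has an open neighbourhood U such that, for every s' ∈ U, the root datum of any splitting of the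
geometric fibre of G at s is isomorphic (an equivalence of root pairings) to that of any splitting
of the geometric fibre at s'. -/
theorem result {S : Scheme.{u}} (G : Over S) [GrpObj G] (hG : Red.IsReductive G) (s : S) :
    ∃ U : S.Opens, s ∈ U ∧ ∀ s' : S, s' ∈ U →
      ∀ (D : Red.SplitRed (Red.geomFibre s G)) (D' : Red.SplitRed (Red.geomFibre s' G)),
        Nonempty (RootPairing.Equiv D.P D'.P) := by
  obtain ⟨W, f, hf, ⟨w, hw⟩, ⟨D₀⟩⟩ := S2958.result G hG s
  haveI := hf
  refine ⟨⟨Set.range f.base, f.isOpenMap.isOpen_range⟩, ⟨w, hw⟩, ?_⟩
  rintro s' ⟨w', rfl⟩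
  subst hw
  intro D D'
  exact RootBase.nonempty_equiv_pair f w w' hG D₀ D D'

end Groth.Agent.S5544
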