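import Groth.Statements.S5545
import Groth.Agent.RootBase.SymMain
-- import your own Groth.Agent.* helpers here

set_option autoImplicit false
open CategoryTheory MonoidalCategory CartesianMonoidalCategory MonObj GrpObj AlgebraicGeometry
universe u
open RedSub

set_option backward.isDefEq.respectTransparency false

namespace Groth.Agent.S5545

/-- Let S be connected, G a split reductive S-group (splitting D), H a subgroup of type (R) containing
the torus T with symmetric root set R'. Then (H, T, M, R') is a splitting of H: H admits a splitting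
D' whose torus maps isomorphically to T over H and G compatibly with the identifications with D_S(M)
(through an isomorphism of character groups carrying the roots of D' to the roots of D indexed by
R'), and whose root homomorphisms are the u_a, a ∈ R'. -/
theorem result {S : Scheme.{u}} [ConnectedSpace S] {G H : Over S} [GrpObj G] [GrpObj H]
    (D : Red.SplitRed G) (h : H ⟶ G) (hH : RedSub.IsTypeR h) (t : D.T ⟶ H) (ht : t ≫ h = D.i) (R' : Set D.idx)
    (hR' : ∀ a : D.idx, (∃ v : Red.Ga S ⟶ H, v ≫ h = D.u a) ↔ a ∈ R') (hsymm : ∀ a ∈ R', D.P.reflectionPerm a a ∈ R') :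
    ∃ (D' : Red.SplitRed H) (e : D'.T ≅ D.T) (eidx : D'.idx ≃ ↥R') (em : D'.M ≃+ D.M),
      D'.i = e.hom ≫ t ∧
      e.hom ≫ D.split.hom.hom.hom = D'.split.hom.hom.hom ≫ Red.DSmap S em.symm.toAddMonoidHom ∧
      (∀ a' : D'.idx, em (D'.P.root a') = D.P.root (eidx a' : D.idx)) ∧
      (∀ a' : D'.idx, D'.u a' ≫ h = D.u (eidx a' : D.idx)) := by
  classical
  have Y := RootBase.exists_symSub D h hH t ht R' hR' hsymm
  obtain ⟨hclosed, hred⟩ := RootBase.isReductive_of_symm D h hH t ht R' hR' hsymm
  letI := D.grpT
  letI := D.acgM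
  letI := D.fintypeIdx
  letI := D.finiteM
  letI := D.freeM
  obtain ⟨⟨i1, i2⟩, i3, -, -, -⟩ := id hH
  haveI := i1; haveI := i2; haveI := i3; haveI := hclosed
  haveI : Mono h := Over.mono_of_mono_left h
  haveI := (RootBase.cH_hcH D h t ht).1
  haveI := RootBase.isReduced_of_splitRed D
  haveI := D.maximalTorus.1
  haveI : Mono D.i := D.maximalTorus.2.1
  haveI : IsMonHom t := MTSplit.isMonHom_of_comp_mono t h D.i ht
  haveI : Fintype ↥R' := Fintype.ofFinite _
  have hst : ∀ a ∈ R', ∀ b ∈ R', D.P.reflectionPerm a b ∈ R' := fun a ha b hb => Y.stable ha hb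
  choose uH huH using fun a : ↥R' => (hR' a.1).2 a.2
  have hmax : Red.IsMaximalTorus t := by
    haveI : Mono (t ≫ h) := by rw [ht]; infer_instance
    haveI : Mono t := mono_of_mono t h
    refine ⟨inferInstance, inferInstance, D.maximalTorus.2.2.1, fun s T' _ j _ _ f hT' hf => ?_⟩
    haveI := DynPar.isMonHom_map' (Red.geomPt s) h
    haveI : IsImmersion ((Over.pullback (Red.geomPt s)).map h).left :=
      MorphismProperty.overPullbackMap (P := @IsImmersion) (Red.geomPt s) h inferInstance
    haveI : Mono ((Over.pullback (Red.geomPt s)).map h) := Over.mono_of_mono_left _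
    haveI : Mono (j ≫ (Over.pullback (Red.geomPt s)).map h) := mono_comp _ _
    exact D.maximalTorus.2.2.2 s T' (j ≫ (Over.pullback (Red.geomPt s)).map h) f hT' (by
      rw [reassoc_of% hf, ← Functor.map_comp, ht])
  have hroot : ∀ a : ↥R', Red.IsRootHom t (D.split.hom.hom.hom ≫ Red.chi S (D.P.root a.1)) (uH a) := fun a => by
    have hG := D.rootHom a.1
    haveI := hG.1
    haveI : IsMonHom (uH a) := MTSplit.isMonHom_of_comp_mono (uH a) h (D.u a.1) (huH a)
    refine ⟨inferInstance, ?_, fun X s x => ?_⟩
    · haveI : IsClosedImmersion ((uH a).left ≫ h.left) := by rw [← Over.comp_left, huH]; exact hG.2.1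
      exact IsClosedImmersion.of_comp _ h.left
    · obtain ⟨y, hy, hy'⟩ := hG.2.2 X s x
      refine ⟨y, ?_, hy'⟩
      rw [← cancel_mono h]
      simp only [MonObj.mul_comp, GrpObj.inv_comp, Category.assoc, huH, ht]
      exact hy
  have hrefl : ∀ a : ↥R', ∃ n : 𝟙_ (Over S) ⟶ H, ∀ (X : Over S) (s : X ⟶ D.T),
      (toUnit X ≫ n) * (s ≫ t) * (toUnit X ≫ n)⁻¹ =
        s ≫ D.split.hom.hom.hom ≫ Red.DSmap S (D.P.reflection a.1).toLinearMap.toAddMonoidHom ≫
          D.split.inv.hom.hom ≫ t := fun a => by
    obtain ⟨n, hn⟩ := RootBase.exists_refl_mem D h hH t ht R' hR' a.1 a.2 (hsymm a.1 a.2)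
    refine ⟨n, fun X s => ?_⟩
    rw [← cancel_mono h]
    simp only [MonObj.mul_comp, GrpObj.inv_comp, Category.assoc, ht]
    exact hn X s
  have hdim : ∀ s : S, topologicalKrullDim ↥(Red.geomFibre s H).left =
      ((Module.finrank ℤ D.M + Fintype.card ↥R' : ℕ) : WithBot ℕ∞) := fun s => by
    haveI := DynPar.isMonHom_map' (Red.geomPt s) h
    haveI : IsImmersion ((Over.pullback (Red.geomPt s)).map h).left :=
      MorphismProperty.overPullbackMap (P := @IsImmersion) (Red.geomPt s) h inferInstance
    haveI : Smooth (Red.bc (Red.geomPt s) H).hom :=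
      MorphismProperty.pullback_snd (P := @Smooth) H.hom (Red.geomPt s) inferInstance
    haveI : IsMonHom (DynPar.bcHom' (Red.geomPt s) (D.split.inv.hom.hom ≫ t)) := DynPar.isMonHom_bcHom' _ _
    have F := (Y.bc (Red.geomPt s)).frameH (fun a => RootSys.bcGa (Red.geomPt s) (uH a)) fun a => by
      rw [RootSys.bcGa, RootSys.bcGa, Category.assoc, ← Functor.map_comp, huH]
    haveI := Chev.Borel.isIso_geomPt (AlgebraicClosure (S.residueField s))
      (IsLocalRing.closedPoint (AlgebraicClosure (S.residueField s)))
    exact RootIntrinsic.dim_bc_iso _ _ _ (F.hdim (IsLocalRing.closedPoint (AlgebraicClosure (S.residueField s))))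
  refine ⟨
    { T := D.T
      i := t
      M := D.M
      idx := ↥R'
      P := RootBase.subPairing D.P R' hst
      pairing_eq := D.pairing_eq
      u := uH
      reductive := hred
      maximalTorus := hmax
      split := D.split
      rootHom := hroot
      refl := hrefl
      dim_fibre := hdim }, Iso.refl _, Equiv.refl _, AddEquiv.refl _, ?_, ?_, fun a' => rfl, fun a' => huH a'⟩
  · exact (Category.id_comp t).symm
  · refine (Category.id_comp _).trans ?_
    refine Eq.trans ?_ (Category.id_comp _)
    refine (Category.comp_id _).symm.trans ?_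
    congr 1
    refine Groth.Agent.HomDiag.ch_ext fun m => ?_
    rw [← Category.id_comp (Red.DSmap S _), Groth.Agent.HomDiag.ch_DSmap]
    rfl

end Groth.Agent.S5545
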