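import Groth.Statements.S5546
import Groth.Agent.RootBase.TypeRUnip
-- import your own Groth.Agent.* helpers here

set_option autoImplicit false
open CategoryTheory MonoidalCategory CartesianMonoidalCategory MonObj GrpObj AlgebraicGeometry
universe u
open RedSub

set_option backward.isDefEq.respectTransparency false

namespace Groth.Agent.S5546

/-- Let S be connected, G a split reductive S-group (splitting D), H a subgroup of type (R) containing T
whose root set R' lies in a system of positive roots. Then the product of the root groups U_a, a ∈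
R', taken in any order, maps G_a^{R'} isomorphically onto one and the same closed subgroup scheme U
= U_{R'} of H, smooth over S, which is the unipotent radical of H; and H = T ⋉ U (multiplication T
x_S U ⟶ H is an isomorphism). -/
theorem result {S : Scheme.{u}} [ConnectedSpace S] {G H : Over S} [GrpObj G] [GrpObj H]
    (D : Red.SplitRed G) (h : H ⟶ G) (hH : RedSub.IsTypeR h) (t : D.T ⟶ H) (ht : t ≫ h = D.i) (R' : Set D.idx)
    (hR' : ∀ a : D.idx, (∃ v : Red.Ga S ⟶ H, v ≫ h = D.u a) ↔ a ∈ R')
    (hpos : ∃ b : D.P.Base, R' ⊆ RedSub.posRoots D.P b) :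
    ∃ (U : Over S) (_ : GrpObj U) (u : U ⟶ H), IsMonHom u ∧ IsClosedImmersion (u ≫ h).left ∧ Smooth U.hom ∧
      Par.IsUnipotentRadical u ∧ IsIso ((t ⊗ₘ u) ≫ μ[H]) ∧
      ∀ {m : ℕ} (e : Fin m → D.idx), RedSub.Enumerates R' e →
        ∃ ψ : RedSub.pow (Red.Ga S) m ≅ U, ψ.hom ≫ u ≫ h = RedSub.prodMap (Red.Ga S) m (fun k => D.u (e k)) := by
  obtain ⟨b, hb⟩ := hpos
  exact RootBase.exists_unipRad D h hH t ht R' hR' b hb

end Groth.Agent.S5546
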