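import Groth.Statements.S5549
import Groth.Agent.RootBase.TypeRLocus
import Groth.Agent.S4118
import Groth.Agent.S8407
import Groth.Agent.Chev.CentBC
import Groth.Agent.MTBridge.FixedLocus
import Groth.Agent.MTImage.SubTorus
import Groth.Agent.Chev.GeomPtIso
import Groth.Agent.Chev.NonAffTori
import Groth.Agent.RedR1.Gen
-- import your own Groth.Agent.* helpers here

set_option autoImplicit false
open CategoryTheory MonoidalCategory CartesianMonoidalCategory MonObj GrpObj AlgebraicGeometry
universe u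
open RedSub

set_option backward.isDefEq.respectTransparency false

namespace Groth.Agent.S5549

/-- For a reductive S-group G. Let T be a maximal torus of G, Q a subtorus of T, z : Z ⟶ G the
centraliser of Q in G and H a subgroup of type (R) of G containing T. Then H ∩ Z (a fibre product P
with homomorphisms P ⟶ H, P ⟶ Z) is a subgroup of type (R) of Z. -/
theorem result {S : Scheme.{u}} {G T Q Z H : Over S} [GrpObj G] [GrpObj T] [GrpObj Q]
    [GrpObj Z] [GrpObj H] (hG : Red.IsReductive G) (i : T ⟶ G) (hT : Red.IsMaximalTorus i) (q : Q ⟶ T) [IsMonHom q]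
    [Mono q] (hQ : Red.IsTorus Q) (z : Z ⟶ G) (hZ : Red.IsCentralizerOf (q ≫ i) z) (h : H ⟶ G)
    (hH : RedSub.IsTypeR h) (t : T ⟶ H) (ht : t ≫ h = i)
    (P : Over S) [GrpObj P] (a : P ⟶ H) (b : P ⟶ Z) [IsMonHom a] [IsMonHom b] (hP : IsPullback a b h z) :
    RedSub.IsTypeR b := by
  obtain ⟨⟨i1, i2⟩, i3, i4, hconn, -⟩ := hH
  haveI := i1; haveI := i2; haveI := i3; haveI := i4
  haveI := hT.1; haveI := hT.2.1
  haveI := hG.1; haveI := hG.2.1
  haveI := hZ.1; haveI := hZ.2.1
  haveI : Mono h := Over.mono_of_mono_left h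
  haveI : IsMonHom t := MTSplit.isMonHom_of_comp_mono t h i ht
  haveI : Mono t := mono_of_mono_fac ht
  haveI : IsSeparated G.hom := inferInstance
  haveI : IsSeparated H.hom := by rw [← Over.w h]; infer_instance
  haveI : Mono a := MorphismProperty.of_isPullback (P := MorphismProperty.monomorphisms _) hP.flip hZ.2.1
  have hab : ∀ (Y : Over S) (x : Y ⟶ H), (∃ w : Y ⟶ P, w ≫ a = x) ↔ ∃ w : Y ⟶ Z, w ≫ z = x ≫ h :=
    fun Y x => ⟨fun ⟨w, hw⟩ => ⟨w ≫ b, by rw [Category.assoc, ← hP.w, reassoc_of% hw]⟩,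
      fun ⟨w, hw⟩ => ⟨hP.lift x w hw.symm, hP.lift_fst _ _ _⟩⟩
  have hcent : Red.IsCentralizerOf (q ≫ t) a := by
    refine ⟨inferInstance, inferInstance, fun Y x => (hab Y x).trans ((hZ.2.2 Y (x ≫ h)).trans
      (forall₃_congr fun Y' y s => ?_))⟩
    rw [← cancel_mono h, MonObj.mul_comp, MonObj.mul_comp]
    simp only [Category.assoc, ht]
  -- the centraliser is the fixed locus of conjugation
  obtain ⟨act, hact⟩ := S4118.exists_conjAction (q ≫ t)
  obtain ⟨W, w, hwc, hWs, hW⟩ := MTBridge.exists_fixed_locus Q H (MTBridge.isMultTypeFT_of_isTorus Q hQ) act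
  haveI := hwc; haveI := hWs
  haveI : Mono w := Over.mono_of_mono_left w
  have hWP : ∀ (Y : Over S) (x : Y ⟶ H), (∃ v : Y ⟶ W, v ≫ w = x) ↔ ∃ v : Y ⟶ P, v ≫ a = x := fun Y x => by
    rw [hW, hcent.2.2]
    refine forall₃_congr fun Y' f g => ?_
    rw [hact, mul_inv_eq_iff_eq_mul]
    exact eq_comm
  obtain ⟨e, he⟩ := (hWP P a).2 ⟨𝟙 _, Category.id_comp a⟩
  obtain ⟨e', he'⟩ := (hWP W w).1 ⟨𝟙 _, Category.id_comp w⟩
  haveI : IsIso e := ⟨e', by rw [← cancel_mono a, Category.assoc, he', he, Category.id_comp],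
    by rw [← cancel_mono w, Category.assoc, he, he', Category.id_comp]⟩
  haveI : IsIso e.left := inferInstanceAs (IsIso ((Over.forget S).map e))
  haveI : Smooth P.hom := by rw [← Over.w e]; infer_instance
  haveI : IsClosedImmersion a.left := by rw [← he, Over.comp_left]; infer_instance
  haveI : QuasiCompact P.hom := by rw [← Over.w a]; infer_instance
  haveI hbi : IsImmersion b.left := by
    haveI : IsImmersion (b.left ≫ z.left) := by
      rw [← Over.comp_left, ← hP.w, Over.comp_left]; infer_instance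
    exact IsImmersion.of_comp b.left z.left
  refine ⟨⟨inferInstance, hbi⟩, inferInstance, inferInstance,
    fun s => MTImage.isConnected_fibre_of_geom (fun s => ?_) s, fun s => ?_⟩
  · -- connectedness of the geometric fibres
    let τ := Red.geomPt s
    let F := Over.pullback τ
    obtain ⟨-, -, -, j3, j4, j5⟩ := RootBase.sub_fibre hG h hconn s
    haveI := j3; haveI := j4; haveI := j5
    haveI : Limits.PreservesLimitsOfShape Limits.WalkingCospan F :=
      (Adjunction.rightAdjoint_preservesLimits (Over.mapPullbackAdj τ)).preservesLimitsOfShape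
    haveI : IsAffineHom (Red.bc τ H).hom := isAffineHom_of_isAffine _
    exact (S8407.result _ (Red.bc τ H) (Red.bc τ Q) (F.map (q ≫ t)) (Chev.Borel.isTorus_bc_scheme Q τ hQ)
      (Red.bc τ P) (F.map a) (Chev.CentBC.isCentralizerOf_bc τ (q ≫ t) a hcent)).2
  · -- the torus stays maximal
    let τ := Red.geomPt s
    let F := Over.pullback τ
    haveI : Limits.PreservesLimitsOfShape Limits.WalkingCospan F :=
      (Adjunction.rightAdjoint_preservesLimits (Over.mapPullbackAdj τ)).preservesLimitsOfShape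
    obtain ⟨tP, htP⟩ := (hcent.2.2 T t).2 fun Y y g => by
      simp only [← Category.assoc]
      rw [← MonObj.mul_comp, ← MonObj.mul_comp, RedR1.mul_comm_torus hT.2.2.1]
    haveI : IsMonHom tP := MTSplit.isMonHom_of_comp_mono tP a t htP
    haveI : Mono tP := mono_of_mono_fac htP
    have hi : (F.map tP ≫ F.map b) ≫ F.map z = F.map i := by
      rw [← F.map_comp, ← F.map_comp, Category.assoc, ← hP.w, reassoc_of% htP, ht]
    obtain ⟨-, -, hTK, hmax⟩ := Chev.Borel.isMaxTorus_of_isMaximalTorus _ (Chev.MaxTorusBC.isMaximalTorus_bc i hT τ)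
    haveI : Mono b := Over.mono_of_mono_left b
    refine ⟨_, inferInstance, F.map tP, inferInstance, Chev.Borel.isMaximalTorus_of_isMaxTorus _
      ⟨inferInstance, inferInstance, hTK, fun T' _ j _ _ f hT' hf =>
        hmax T' (j ≫ F.map z) f hT' (by
          rw [reassoc_of% hf]; exact (Category.assoc _ _ _).symm.trans hi)⟩⟩

end Groth.Agent.S5549
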