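import Groth.Statements.S5552
import Groth.Agent.RootBase.BruhatImm
-- import your own Groth.Agent.* helpers here

set_option autoImplicit false
open CategoryTheory MonoidalCategory CartesianMonoidalCategory MonObj GrpObj AlgebraicGeometry
universe u
open RedSub

set_option backward.isDefEq.respectTransparency false

namespace Groth.Agent.S5552

set_option maxHeartbeats 4000000 in
set_option backward.isDefEq.respectTransparency false in
/-- Let G be a split reductive S-group (splitting D, system of simple roots b, enumerations of the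
negative and positive roots, S-points n_a realising the reflections), l a word in the roots with
Weyl element w and n_l = n_{a_1} ⋯ n_{a_k}, and e an enumeration of R_- ∩ w(R_-). Then the Bruhat
cell map G_a^{R_- ∩ w(R_-)} x_S T x_S G_a^{R_+} ⟶ G, (y, t, x) ↦ ∏ u(y) · n_l · t · ∏ u(x), is an
immersion, and its image is contained and closed in the open translate n_l Ω of the big cell (it is
the subscheme B' N_w B of the source). -/
theorem result {S : Scheme.{u}} {G : Over S} [GrpObj G] (D : Red.SplitRed G)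
    (b : D.P.Base) {n m : ℕ} (eneg : Fin n → D.idx) (epos : Fin m → D.idx)
    (hneg : RedSub.Enumerates (RedSub.negRoots D.P b) eneg) (hpos : RedSub.Enumerates (RedSub.posRoots D.P b) epos)
    (nr : D.idx → (𝟙_ (Over S) ⟶ G)) (hnr : RedSub.RealisesReflections D nr) (l : List D.idx) {k : ℕ}
    (e : Fin k → D.idx) (he : RedSub.Enumerates (RedSub.negMeetNeg D.P b (RedSub.wordPerm D.P l)) e) :
    IsImmersion (RedSub.bruhatMap D nr l e epos).left ∧
      ∃ C : Set ↥G.left, IsClosed C ∧
        Set.range (RedSub.bruhatMap D nr l e epos).left.base =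
          Set.range ((toUnit _ ≫ (l.map nr).prod) * RedSub.cellMap D eneg epos).left.base ∩ C := by
  classical
  letI := D.grpT
  letI := D.acgM
  letI := D.fintypeIdx
  letI := D.finiteM
  letI := D.freeM
  rcases isEmpty_or_nonempty S with hS | hS
  · haveI : IsEmpty (RedSub.pow (Red.Ga S) k ⊗ (D.T ⊗ RedSub.pow (Red.Ga S) m)).left :=
      Function.isEmpty (RedSub.pow (Red.Ga S) k ⊗ (D.T ⊗ RedSub.pow (Red.Ga S) m)).hom
    haveI : IsEmpty G.left := Function.isEmpty G.hom
    exact ⟨inferInstance, Set.univ, isClosed_univ, Subsingleton.elim _ _⟩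
  haveI := RootBase.isReduced_of_splitRed D
  have F : RootBase.Frame (D.split.inv.hom.hom ≫ D.i) D.P.root D.u := RootBase.frame_of_splitRed D
  have hn : ∀ a, ∀ (X : Over S) (t : X ⟶ Red.DS S D.M), RootBase.cj (nr a) (t ≫ D.split.inv.hom.hom ≫ D.i) =
      RootBase.refl (D.P.root a) (D.P.coroot a).toAddMonoidHom t ≫ D.split.inv.hom.hom ≫ D.i := fun a => by
    intro X t
    have h := hnr a X (t ≫ D.split.inv.hom.hom)
    have hinv : D.split.inv.hom.hom ≫ D.split.hom.hom.hom = 𝟙 _ := congrArg (fun z => z.hom.hom) D.split.inv_hom_id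
    simp only [Category.assoc, reassoc_of% hinv] at h
    rw [RootBase.cj, h, ← Category.assoc]
    congr 1
    refine HomDiag.ch_ext fun m => ?_
    obtain ⟨m, rfl⟩ : ∃ k : D.M, Multiplicative.ofAdd k = m := ⟨m.toAdd, rfl⟩
    rw [HomDiag.ch_DSmap, toAdd_ofAdd, RootBase.ch_refl]
    congr 2
    show D.P.reflection a m = m - D.P.coroot a m • D.P.root a
    rw [D.P.reflection_apply]
    show m - D.P.toLinearMap m (D.P.coroot a) • D.P.root a = _
    rw [D.pairing_eq]
    rfl
  obtain ⟨ψ, hψ, hψe⟩ := F.exists_negKept_incl (B := b) D.pairing_eq hn l e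
    (by rw [RootBase.negKept_eq]; exact he) eneg hneg
  haveI := hψ
  haveI := (S3951.result D b eneg epos hneg hpos).1
  haveI := RootBase.isClosedImmersion_whiskerRight (C := D.T ⊗ RedSub.pow (Red.Ga S) m) ψ
  let tr : G ≅ G :=
    { hom := (toUnit G ≫ (l.map nr).prod) * 𝟙 G
      inv := (toUnit G ≫ (l.map nr).prod)⁻¹ * 𝟙 G
      hom_inv_id := by
        rw [MonObj.comp_mul, GrpObj.comp_inv, ← Category.assoc,
          toUnit_unique (((toUnit G ≫ (l.map nr).prod) * 𝟙 G) ≫ toUnit G) (toUnit G), Category.comp_id,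
          inv_mul_cancel_left]
      inv_hom_id := by
        rw [MonObj.comp_mul, ← Category.assoc,
          toUnit_unique (((toUnit G ≫ (l.map nr).prod)⁻¹ * 𝟙 G) ≫ toUnit G) (toUnit G), Category.comp_id,
          mul_inv_cancel_left] }
  haveI : IsIso tr.hom.left := ((Over.forget _).mapIso tr).isIso_hom
  have hj : (toUnit _ ≫ (l.map nr).prod) * RedSub.cellMap D eneg epos = RedSub.cellMap D eneg epos ≫ tr.hom := by
    show _ = _ ≫ ((toUnit G ≫ (l.map nr).prod) * 𝟙 G)
    rw [MonObj.comp_mul, ← Category.assoc, Category.comp_id,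
      toUnit_unique (RedSub.cellMap D eneg epos ≫ toUnit G) (toUnit _)]
  have hb : RedSub.bruhatMap D nr l e epos =
      (ψ ▷ (D.T ⊗ RedSub.pow (Red.Ga S) m)) ≫ ((toUnit _ ≫ (l.map nr).prod) * RedSub.cellMap D eneg epos) := by
    rw [RedSub.bruhatMap, RedSub.cellMap, MonObj.comp_mul, MonObj.comp_mul, MonObj.comp_mul,
      ← Category.assoc _ (toUnit _), toUnit_unique ((ψ ▷ _) ≫ toUnit _) (toUnit _), whiskerRight_fst_assoc,
      whiskerRight_snd_assoc, whiskerRight_snd_assoc, ← _root_.mul_assoc, ← _root_.mul_assoc _ (fst _ _ ≫ ψ ≫ _)]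
    congr 1
    have h := congrArg (fun f => fst (RedSub.pow (Red.Ga S) k) (D.T ⊗ RedSub.pow (Red.Ga S) m) ≫ f) hψe
    simp only [MonObj.comp_mul, ← Category.assoc] at h
    rw [toUnit_unique (fst _ _ ≫ toUnit _) (toUnit _)] at h
    simpa only [Category.assoc] using h
  have hjo : IsOpenImmersion ((toUnit _ ≫ (l.map nr).prod) * RedSub.cellMap D eneg epos).left := by
    rw [hj, Over.comp_left]; infer_instance
  rw [hb, Over.comp_left]
  refine ⟨inferInstance, closure (Set.range ⇑((ψ ▷ (D.T ⊗ RedSub.pow (Red.Ga S) m)).left ≫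
    ((toUnit _ ≫ (l.map nr).prod) * RedSub.cellMap D eneg epos).left)), isClosed_closure, ?_⟩
  generalize ((toUnit _ ≫ (l.map nr).prod) * RedSub.cellMap D eneg epos).left = j at hjo
  have hcl := (ψ ▷ (D.T ⊗ RedSub.pow (Red.Ga S) m)).left.isClosedEmbedding.isClosed_range
  generalize (ψ ▷ (D.T ⊗ RedSub.pow (Red.Ga S) m)).left = i at hcl
  have e : Set.range ⇑(i ≫ j) = ⇑j '' Set.range ⇑i := by rw [← Set.range_comp]; rfl
  rw [e]
  refine Set.Subset.antisymm (fun x hx => ⟨?_, subset_closure hx⟩) ?_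
  · obtain ⟨y, -, rfl⟩ := hx; exact ⟨y, rfl⟩
  · rintro _ ⟨⟨y, rfl⟩, hy⟩
    refine ⟨y, ?_, rfl⟩
    rw [← hcl.closure_eq, j.isOpenEmbedding.isEmbedding.closure_eq_preimage_closure_image]
    exact hy

end Groth.Agent.S5552
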