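import Groth.Statements.S5553
import Groth.Agent.RootBase.Normal
import Groth.Agent.RootBase.Unip2
import Groth.Agent.RootBase.TypeRRefl
import Groth.Agent.S5522
-- import your own Groth.Agent.* helpers here

set_option autoImplicit false
open CategoryTheory MonoidalCategory CartesianMonoidalCategory MonObj GrpObj AlgebraicGeometry
universe u
open RedSub

set_option backward.isDefEq.respectTransparency false

namespace Groth.Agent.S5553
open Limits
open scoped CategoryTheory.Obj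


set_option maxHeartbeats 8000000 in
set_option synthInstance.maxHeartbeats 400000 in
/-- Let S be connected, G a split reductive S-group (splitting D), R' a closed set of roots, R_1 its
symmetric part and R_2 = R' ∖ R_1, H' = H_{R'} and H_1 = H_{R_1} the subgroups of type (R)
containing T with these root sets, H_1 ⊆ H'. Then there is a normal subgroup U_2 of H', its
unipotent radical, which for every ordering of R_2 is the image of G_a^{R_2} under the ordered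
product of the root homomorphisms, such that H' is the semidirect product H_1 ⋉ U_2 (multiplication
H_1 x_S U_2 ⟶ H' is an isomorphism); and U_2 ∩ Norm_G(H_1) = e. -/
theorem result {S : Scheme.{u}} [ConnectedSpace S] {G H' H₁ : Over S} [GrpObj G]
    [GrpObj H'] [GrpObj H₁] (D : Red.SplitRed G) (R' : Set D.idx)
    (hcl : ∀ a b c : D.idx, a ∈ R' → b ∈ R' → D.P.root a + D.P.root b = D.P.root c → c ∈ R')
    (h' : H' ⟶ G) (hH' : RedSub.IsTypeR h') (t' : D.T ⟶ H') (ht' : t' ≫ h' = D.i)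
    (hR' : ∀ a : D.idx, (∃ v : Red.Ga S ⟶ H', v ≫ h' = D.u a) ↔ a ∈ R')
    (h₁ : H₁ ⟶ G) (hH₁ : RedSub.IsTypeR h₁) (t₁ : D.T ⟶ H₁) (ht₁ : t₁ ≫ h₁ = D.i)
    (hR₁ : ∀ a : D.idx, (∃ v : Red.Ga S ⟶ H₁, v ≫ h₁ = D.u a) ↔ (a ∈ R' ∧ D.P.reflectionPerm a a ∈ R'))
    (f₁ : H₁ ⟶ H') (hf₁ : f₁ ≫ h' = h₁) :
    ∃ (U₂ : Over S) (_ : GrpObj U₂) (u₂ : U₂ ⟶ H'), IsMonHom u₂ ∧ Par.IsUnipotentRadical u₂ ∧
      IsIso ((f₁ ⊗ₘ u₂) ≫ μ[H']) ∧
      (∀ {m : ℕ} (e : Fin m → D.idx), RedSub.Enumerates {a | a ∈ R' ∧ D.P.reflectionPerm a a ∉ R'} e →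
        ∃ ψ : RedSub.pow (Red.Ga S) m ≅ U₂, ψ.hom ≫ u₂ ≫ h' = RedSub.prodMap (Red.Ga S) m (fun k => D.u (e k))) ∧
      ∀ (X : Over S) (x : X ⟶ U₂),
        (∀ (X' : Over S) (y : X' ⟶ X) (z : X' ⟶ H₁),
          (∃ z' : X' ⟶ H₁, (y ≫ x ≫ u₂ ≫ h') * (z ≫ h₁) * (y ≫ x ≫ u₂ ≫ h')⁻¹ = z' ≫ h₁) ∧
          (∃ z' : X' ⟶ H₁, (y ≫ x ≫ u₂ ≫ h')⁻¹ * (z ≫ h₁) * (y ≫ x ≫ u₂ ≫ h') = z' ≫ h₁)) → x = 1 := by
  classical
  letI := D.grpT
  letI := D.acgM
  letI := D.fintypeIdx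
  letI := D.finiteM
  letI := D.freeM
  haveI := RootBase.isReduced_of_splitRed D
  obtain ⟨⟨i1, i2⟩, i3, -, hconn, -⟩ := id hH'
  obtain ⟨⟨j1, j2⟩, j3, -, -, -⟩ := id hH₁
  haveI := i1; haveI := i2; haveI := i3; haveI := j1; haveI := j2; haveI := j3
  haveI : Mono h' := Over.mono_of_mono_left h'
  haveI : Mono h₁ := Over.mono_of_mono_left h₁
  haveI : IsMonHom f₁ := MTSplit.isMonHom_of_comp_mono f₁ h' h₁ hf₁
  obtain ⟨c, hc, F⟩ : ∃ c : Red.DS S D.M ⟶ G, D.split.inv.hom.hom ≫ D.i = c ∧ RootBase.Frame c D.P.root D.u :=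
    ⟨_, rfl, RootBase.frame_of_splitRed D⟩
  haveI := F.hc.1
  haveI := F.hG.1
  haveI := F.hG.2.1
  haveI := D.maximalTorus.1
  haveI : ∀ a, IsMonHom (D.u a) := fun a => (F.hu a).1
  have hinv : D.split.hom.hom.hom ≫ D.split.inv.hom.hom = 𝟙 _ := congrArg (fun z => z.hom.hom) D.split.hom_inv_id
  -- the roots
  let R₁ : Set D.idx := {a | a ∈ R' ∧ D.P.reflectionPerm a a ∈ R'}
  let R₂ : Set D.idx := {a | a ∈ R' ∧ D.P.reflectionPerm a a ∉ R'}
  have hroot : ∀ i, D.P.root (RootSys.opp D.P i) = -D.P.root i := fun i => RootSys.root_opp i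
  have hoo : ∀ i, RootSys.opp D.P (RootSys.opp D.P i) = i := fun i => D.P.root.injective (by rw [hroot, hroot, neg_neg])
  have hmix : ∀ a x z : D.idx, x ∈ R₂ → a ∈ R' → D.P.root x + D.P.root a = D.P.root z → z ∈ R₂ := by
    rintro a x z ⟨hx, hx'⟩ ha hz
    refine ⟨hcl x a z hx ha hz, fun hz' => hx' (hcl a (RootSys.opp D.P z) (RootSys.opp D.P x) ha hz' ?_)⟩
    rw [hroot, hroot, ← hz]
    abel
  have hcl₂ : ∀ x y z : D.idx, x ∈ R₂ → y ∈ R₂ → D.P.root x + D.P.root y = D.P.root z → z ∈ R₂ :=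
    fun x y z hx hy hz => hmix y x z hx hy.1 hz
  have hasym : ∀ a ∈ R₂, D.P.reflectionPerm a a ∉ R₂ := fun a ha h => ha.2 h.1
  obtain ⟨s₀⟩ : Nonempty S := inferInstance
  obtain ⟨b, hb⟩ := S5522.result D R₂ hcl₂ hasym
  obtain ⟨mu, hmp, -, -⟩ := RootBase.exists_pos_hom D.P b
  obtain ⟨U₂, hU₂g, v, hvm, hvc, hvs, hvfib, hvnorm, hpt, hprod⟩ := F.exists_UPsi
    (Ψ := R₂) (fun i j k hi hj hk => hcl₂ i j k hi hj hk.symm) mu (fun a ha => (hmp a).2 (hb ha))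
  haveI := hvm; haveI := hvc; haveI := hvs
  haveI : Mono v := Over.mono_of_mono_left v
  -- the subgroup lies in the given one
  obtain ⟨n₂, e₂, -, he₂⟩ := RootBase.exists_extend R₂ (Fin.elim0 : Fin 0 → D.idx) (fun x => x.elim0) fun x => x.elim0
  obtain ⟨ψ₂, hψ₂⟩ := hprod _ he₂
  choose w hw using fun l => (hR' (Fin.append Fin.elim0 e₂ l)).2 (he₂.2.subset ⟨l, rfl⟩).1
  obtain ⟨u₂, hu₂⟩ : ∃ u₂ : U₂ ⟶ H', u₂ ≫ h' = v := ⟨ψ₂.inv ≫ RedSub.prodMap (Red.Ga S) _ w, by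
    rw [Category.assoc, RootBase.prodMap_comp_hom]
    simp only [hw]
    rw [← hψ₂, Iso.inv_hom_id_assoc]⟩
  haveI : IsMonHom u₂ := MTSplit.isMonHom_of_comp_mono u₂ h' v hu₂
  haveI : IsClosedImmersion u₂.left := by
    haveI : IsClosedImmersion (u₂.left ≫ h'.left) := by rw [← Over.comp_left, hu₂]; exact hvc
    exact IsClosedImmersion.of_comp _ h'.left
  haveI : QuasiCompact U₂.hom := by rw [← Over.w v]; infer_instance
  -- it is normalised
  have htor : ∀ (X : Over S) (s : X ⟶ D.T), s ≫ D.i ∈ RootBase.Nrm v X := fun X s => by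
    refine RootBase.mem_Nrm_of_stable _ (P := fun {X} g => ∃ s : X ⟶ D.T, s ≫ D.i = g)
      (fun q g ⟨s, hs⟩ => ⟨q ≫ s, by rw [Category.assoc, hs]⟩)
      (fun g ⟨s, hs⟩ => ⟨s⁻¹, by rw [GrpObj.inv_comp, hs]⟩) (fun {X} g z hg => ?_) ⟨s, rfl⟩
    obtain ⟨s, rfl⟩ := hg
    obtain ⟨z', hz'⟩ := hvnorm X (s ≫ D.split.hom.hom.hom) z
    rw [← hc, Category.assoc, reassoc_of% hinv] at hz'
    exact ⟨z', hz'⟩
  have hne : ∀ a, RootSys.opp D.P a ≠ a := fun a e => by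
    have e2 := congrArg (fun m => D.P.toLinearMap m (D.P.coroot a)) (RootSys.root_opp (P := D.P) a)
    simp only [e, map_neg, LinearMap.neg_apply, D.P.root_coroot_two] at e2
    omega
  have hN : ∀ (X : Over S) (y : X ⟶ H'), y ≫ h' ∈ RootBase.Nrm v X := fun X y => by
    refine RootBase.typeR_le_Nrm D h' hH' t' ht' R' hR' b v htor (fun a ha X z => ?_) y
    refine F.root_mem_Nrm hcl₂ (fun i hi hi' => ?_) (fun x w hx hw => hmix a x w hx ha hw) v hpt z
    rcases hi with rfl | hi <;> rcases hi' with hi' | hi'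
    · exact hne _ hi'
    · exact hi'.2 (show RootSys.opp D.P (RootSys.opp D.P i) ∈ R' by rw [hoo]; exact ha)
    · exact hi.2 (show RootSys.opp D.P i ∈ R' by rw [hi']; exact ha)
    · exact hasym i hi hi'
  have hnormU : ∀ (X : Over S) (y : X ⟶ H') (x : X ⟶ U₂), ∃ x' : X ⟶ U₂,
      (y ≫ h') * (x ≫ v) * (y ≫ h')⁻¹ = x' ≫ v := fun X y x => by
    obtain ⟨x', hx'⟩ := (hN X y).1 X (𝟙 X) x
    rw [Category.id_comp] at hx'
    exact ⟨x', hx'⟩
  -- coordinates for the positive roots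
  obtain ⟨N, e', -, he⟩ := RootBase.exists_extend (RedSub.posRoots D.P b) (Fin.elim0 : Fin 0 → D.idx)
    (fun x => x.elim0) fun x => x.elim0
  let e := Fin.append (Fin.elim0 : Fin 0 → D.idx) e'
  obtain ⟨m, σ, hσ, hr, res⟩ := RootBase.exists_restrict (S := S) (G := G) fun l => e l ∈ R₂
  obtain ⟨φ, hφ⟩ := hprod (fun l => e (σ l)) ⟨he.1.comp hσ, Set.ext fun a => ⟨by
    rintro ⟨l, rfl⟩; exact hr.subset ⟨l, rfl⟩, fun ha => by
    obtain ⟨x, rfl⟩ := he.2.ge (hb ha)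
    obtain ⟨l, hl⟩ := hr.ge (show x ∈ {l | e l ∈ R₂} from ha)
    exact ⟨l, congrArg e hl⟩⟩⟩
  have hcoord : ∀ {X : Over S} (x : X ⟶ U₂), ∃ Y : X ⟶ RedSub.pow (Red.Ga S) _,
      (∀ l, e l ∉ R₂ → Y ≫ RootBase.proj S _ l = 1) ∧
      Y ≫ RedSub.prodMap (Red.Ga S) _ (fun l => D.u (e l)) = x ≫ v := fun {X} x => by
    obtain ⟨Y, hY, hY'⟩ := (res (fun l => D.u (e l)) fun _ => inferInstance).1 (x ≫ φ.inv)
    exact ⟨Y, hY, by rw [hY', Category.assoc, ← hφ, Iso.inv_hom_id_assoc]⟩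
  have honly : ∀ {X : Over S} (x : X ⟶ U₂) (Y : X ⟶ RedSub.pow (Red.Ga S) _),
      (∀ l, e l ∉ R₂ → Y ≫ RootBase.proj S _ l = 1) →
      Y ≫ RedSub.prodMap (Red.Ga S) _ (fun l => D.u (e l)) = x ≫ v →
      (∀ l, e l ∈ R₂ → Y ≫ RootBase.proj S _ l = 1) → x = 1 := fun {X} x Y h1 h2 h3 => by
    rw [← cancel_mono v, ← h2, MonObj.one_comp]
    exact RootBase.prodMap_one _ (fun _ => inferInstance) _ fun l => (em (e l ∈ R₂)).elim (h3 l) (h1 l)
  have hdisj : ∀ (X : Over S) (x : X ⟶ U₂) (z : X ⟶ H₁), x ≫ v = z ≫ h₁ → x = 1 := fun X x z hxz => by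
    obtain ⟨Y, hY, hY'⟩ := hcoord x
    refine honly x Y hY hY' fun l hl => DynPar.hom_ext_pts _ _ fun B _ f y => ?_
    rw [MonObj.comp_one, ← Category.assoc]
    refine RootBase.coord_eq_one_of_mem D h₁ hH₁ t₁ ht₁ R₁ hR₁ b e he f (y ≫ Y) (y ≫ z) ?_ l fun h => hl.2 h.2
    rw [Category.assoc, Category.assoc, ← hxz, hY']
  -- the product
  obtain ⟨P, hPg, E, φP, -, lH, lU, hφm, hφmono, -, hlHm, hlUm, hE, -, -, -, hHφ, hUφ⟩ :=
    RootBase.exists_semidirect h₁ v (fun X y x => by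
      obtain ⟨x', hx'⟩ := hnormU X (y ≫ f₁) x
      rw [Category.assoc, hf₁] at hx'
      exact ⟨x', hx'⟩) hdisj
  haveI := hφm; haveI := hφmono; haveI := hlHm; haveI := hlUm
  obtain ⟨ρ, hρ⟩ : ∃ ρ : P ⟶ H', ρ ≫ h' = φP := ⟨E.inv ≫ ((fst _ _ ≫ f₁) * (snd _ _ ≫ u₂)), by
    rw [Category.assoc, MonObj.mul_comp, Category.assoc, Category.assoc, hf₁, hu₂, ← hE, Iso.inv_hom_id_assoc]⟩
  have hμ : (f₁ ⊗ₘ u₂) ≫ μ[H'] = E.hom ≫ ρ := by
    rw [← cancel_mono h', Category.assoc E.hom, hρ, hE, show (f₁ ⊗ₘ u₂) ≫ μ[H'] = (fst _ _ ≫ f₁) * (snd _ _ ≫ u₂) by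
      rw [Hom.mul_def]; congr 1, MonObj.mul_comp, Category.assoc, Category.assoc, hf₁, hu₂]
  haveI : IsMonHom ρ := MTSplit.isMonHom_of_comp_mono ρ h' φP hρ
  haveI : Mono ρ := mono_of_mono_fac hρ
  haveI hρi : IsIso ρ := by
    haveI : GeometricallyIrreducible H'.hom := GrpField.geometricallyIrreducible_of_connected_fibres H' hconn
    have hlift : ∀ a ∈ R', ∃ q : Red.Ga S ⟶ P, q ≫ φP = D.u a := fun a ha => by
      by_cases ha' : D.P.reflectionPerm a a ∈ R'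
      · obtain ⟨q, hq⟩ := (hR₁ a).2 ⟨ha, ha'⟩
        exact ⟨q ≫ lH, by rw [Category.assoc, hHφ, hq]⟩
      · obtain ⟨q, hq⟩ := (hpt _ (D.u a)).2 (by
          have := RootBase.mem_Gam (u := D.u) (Ψ := R₂) (show a ∈ R₂ from ⟨ha, ha'⟩) (𝟙 (Red.Ga S))
          rwa [Category.id_comp] at this)
        exact ⟨q ≫ lU, by rw [Category.assoc, hUφ, hq]⟩
    obtain ⟨n, en, -, hen⟩ := RootBase.exists_extend (R' ∩ RedSub.negRoots D.P b) (Fin.elim0 : Fin 0 → D.idx)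
      (fun x => x.elim0) fun x => x.elim0
    obtain ⟨k, ep, -, hep⟩ := RootBase.exists_extend (R' ∩ RedSub.posRoots D.P b) (Fin.elim0 : Fin 0 → D.idx)
      (fun x => x.elim0) fun x => x.elim0
    obtain ⟨j, hj, hjo⟩ := RootBase.exists_cell_split D h' hH' t' ht' R' hR' b _ _ hen hep
    haveI := hjo
    choose qn hqn using fun l => hlift (Fin.append Fin.elim0 en l) (hen.2.subset ⟨l, rfl⟩).1
    choose qp hqp using fun l => hlift (Fin.append Fin.elim0 ep l) (hep.2.subset ⟨l, rfl⟩).1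
    obtain ⟨τ, hτ⟩ : ∃ τ, τ ≫ φP = RedSub.cellMap D (Fin.append Fin.elim0 en) (Fin.append Fin.elim0 ep) := by
      refine ⟨(fst _ _ ≫ RedSub.prodMap (Red.Ga S) _ qn) *
        ((snd _ _ ≫ fst _ _ ≫ t₁ ≫ lH) * (snd _ _ ≫ snd _ _ ≫ RedSub.prodMap (Red.Ga S) _ qp)), ?_⟩
      rw [RedSub.cellMap, MonObj.mul_comp, MonObj.mul_comp]
      simp only [Category.assoc, RootBase.prodMap_comp_hom, hqn, hqp, hHφ, ht₁]
    have hτj : τ ≫ ρ = j := by rw [← cancel_mono h', Category.assoc, hρ, hτ, hj]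
    obtain ⟨e0, he0⟩ : ∃ e0, e0 ≫ j = (1 : 𝟙_ (Over S) ⟶ H') := by
      obtain ⟨o, ho⟩ := RootBase.exists_origin (S := S) (G := G) (0 + n)
      obtain ⟨o', ho'⟩ := RootBase.exists_origin (S := S) (G := G) (0 + k)
      refine ⟨lift o (lift 1 o'), ?_⟩
      rw [← cancel_mono h', Category.assoc, hj, MonObj.one_comp, RedSub.cellMap, MonObj.comp_mul, MonObj.comp_mul,
        lift_fst_assoc, lift_snd_assoc, lift_fst_assoc, lift_snd_assoc, lift_snd_assoc, MonObj.one_comp,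
        ho _ (fun l => inferInstance), ho' _ (fun l => inferInstance)]
      simp
    obtain ⟨X', f, cc, hf, hfs, hfl, hd⟩ := RootBase.exists_translate_open' j e0 he0 ![𝟙 H']
    haveI := hf; haveI := hfs; haveI := hfl
    obtain ⟨d, hd⟩ := hd 0
    change d ≫ j = (cc ≫ j) * (f ≫ 𝟙 H') at hd
    rw [Category.comp_id] at hd
    obtain ⟨q, hq⟩ : ∃ q : X' ⟶ P, q ≫ ρ = f := ⟨(cc ≫ τ)⁻¹ * (d ≫ τ), by
      rw [MonObj.mul_comp, GrpObj.inv_comp, Category.assoc, Category.assoc, hτj, hd, inv_mul_cancel_left]⟩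
    have hq' : q.left ≫ ρ.left = f.left := congrArg (fun z => z.left) hq
    haveI : Mono ρ.left := inferInstanceAs (Mono ((Over.forget S).map ρ))
    let p := Limits.pullback.fst f.left ρ.left
    let s := Limits.pullback.lift (𝟙 _) q.left (show 𝟙 _ ≫ f.left = q.left ≫ ρ.left by rw [Category.id_comp, hq'])
    have hs : s ≫ p = 𝟙 _ := Limits.pullback.lift_fst _ _ _
    haveI : IsIso p := ⟨s, by rw [← cancel_mono p, Category.assoc, hs, Category.comp_id, Category.id_comp], hs⟩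
    haveI : IsIso ρ.left := MorphismProperty.of_pullback_fst_of_descendsAlong
      (P := MorphismProperty.isomorphisms Scheme.{u})
      (Q := (@Surjective ⊓ @Flat ⊓ @LocallyOfFinitePresentation : MorphismProperty Scheme.{u})) (f := f.left)
      ⟨⟨inferInstance, inferInstance⟩, inferInstance⟩ ‹IsIso p›
    haveI : IsIso ((Over.forget S).map ρ) := ‹IsIso ρ.left›
    exact isIso_of_reflects_iso ρ (Over.forget S)
  refine ⟨U₂, hU₂g, u₂, inferInstance, ⟨inferInstance, inferInstance, ?_, inferInstance, inferInstance, hvfib, ?_⟩,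
    by rw [hμ]; infer_instance, fun e he => ?_, ?_⟩
  · intro X y x
    obtain ⟨x', hx'⟩ := hnormU X y x
    refine ⟨x', ?_⟩
    rw [← cancel_mono h', MonObj.mul_comp, MonObj.mul_comp, GrpObj.inv_comp, Category.assoc, hu₂, hx', Category.assoc,
      hu₂]
  · -- maximality
    intro U' _ u' _ hu'c hu'n hu's _ hu'fib
    haveI := hu'c; haveI := hu's
    haveI : IsImmersion (u' ≫ h').left := inferInstanceAs (IsImmersion (u'.left ≫ h'.left))
    have hconj : ∀ (X : Over S) (y : X ⟶ H') (x : X ⟶ U'), ∃ x' : X ⟶ U',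
        (y ≫ h') * (x ≫ u' ≫ h') * (y ≫ h')⁻¹ = x' ≫ u' ≫ h' := fun X y x => by
      obtain ⟨x', hx'⟩ := hu'n X y x
      refine ⟨x', ?_⟩
      have h2 := congrArg (fun z => z ≫ h') hx'
      simpa only [MonObj.mul_comp, GrpObj.inv_comp, Category.assoc] using h2
    have hst : RootBase.IsStabUnip c (u' ≫ h') := ⟨hu'fib, fun X x y => by
      obtain ⟨y', hy'⟩ := hconj X (x ≫ D.split.inv.hom.hom ≫ t') y
      exact ⟨y', by simpa only [Category.assoc, ht', hc] using hy'⟩⟩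
    obtain ⟨-, -, mu', hmu', hpos', hprod'⟩ := F.exists_unip_global hst
    have hsub : ∀ a, (∃ v, v ≫ u' ≫ h' = D.u a) → a ∈ R₂ := by
      intro a ha
      obtain ⟨va, hva⟩ := ha
      have haR : a ∈ R' := (hR' a).1 ⟨va ≫ u', by rw [Category.assoc, hva]⟩
      refine ⟨haR, fun ha' => ?_⟩
      obtain ⟨nr, hnr⟩ := RootBase.exists_refl_mem D h₁ hH₁ t₁ ht₁ R₁ hR₁ a ⟨haR, ha'⟩
        ⟨ha', show RootSys.opp D.P (RootSys.opp D.P a) ∈ R' by rw [hoo]; exact haR⟩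
      let K := AlgebraicClosure (S.residueField s₀)
      let f : Spec (CommRingCat.of K) ⟶ S := Red.geomPt s₀
      let x : LieS.pt K f ⟶ Red.Ga S := BGaNotS.gaPt 1
      have hx : x ≠ 1 := fun e => by
        have h1 := congrArg Red.gaFn e
        rw [BGaNotS.gaFn_gaPt, BGaNotS.gaFn_one] at h1
        have h2 := congrArg (Scheme.ΓSpecIso (CommRingCat.of K)).hom h1
        rw [map_one, map_zero] at h2
        exact one_ne_zero h2
      obtain ⟨ng, hng⟩ : ∃ ng : LieS.pt K f ⟶ G, ng = toUnit _ ≫ nr ≫ h₁ := ⟨_, rfl⟩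
      obtain ⟨g, hg⟩ : ∃ g, g = ng * (x ≫ D.u a) * ng⁻¹ := ⟨_, rfl⟩
      -- it is contracted by the functional
      have hgp : g ∈ DynPar.USub f (Red.DSmap S mu' ≫ c) := by
        obtain ⟨x', hx'⟩ := hconj _ (toUnit _ ≫ nr ≫ f₁) (x ≫ va)
        simp only [Category.assoc, hf₁, hva] at hx'
        obtain ⟨n', e₃, -, he₃⟩ := RootBase.exists_extend {a | ∃ v, v ≫ u' ≫ h' = D.u a}
          (Fin.elim0 : Fin 0 → D.idx) (fun x => x.elim0) fun x => x.elim0
        obtain ⟨ψ', hψ'⟩ := hprod' _ he₃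
        rw [hg, hng, hx', show u' ≫ h' = ψ'.inv ≫ ψ'.hom ≫ u' ≫ h' from (Iso.inv_hom_id_assoc _ _).symm, hψ',
          ← Category.assoc]
        exact RootBase.prodMap_mem_USub_global mu' f (fun l => F.hu (Fin.append Fin.elim0 e₃ l))
          (fun l => hpos' _ (he₃.2.subset ⟨l, rfl⟩)) _
      -- and by its opposite
      have hgn : g ∈ DynPar.USub f (Red.DSmap S (-mu') ≫ c) := by
        let rf : D.M →+ D.M := (D.P.reflection a).toLinearMap.toAddMonoidHom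
        have hν : 0 < ((-mu').comp rf) (D.P.root a) := by
          show 0 < (-mu') (D.P.reflection a (D.P.root a))
          rw [D.P.reflection_apply_self, map_neg, AddMonoidHom.neg_apply, neg_neg]
          exact hpos' a ⟨va, hva⟩
        have hxν : x ≫ D.u a ∈ DynPar.USub f (Red.DSmap S ((-mu').comp rf) ≫ c) := by
          obtain ⟨Y, -, hY⟩ := RootBase.exists_pow_prod (fun _ : Fin 1 => D.u a) fun _ => x
          have := RootBase.prodMap_mem_USub_global ((-mu').comp rf) f (fun _ : Fin 1 => F.hu a) (fun _ => hν) Y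
          rw [hY] at this
          simpa using this
        obtain ⟨A, hA0, hA⟩ := (DynPar.mem_USub f _).1 hxν
        refine (DynPar.mem_USub f _).2 ⟨(DynPar.qc _ f ≫ ng) * A * (DynPar.qc _ f ≫ ng)⁻¹, ?_, ?_⟩
        · rw [MonObj.comp_mul, MonObj.comp_mul, hA0, GrpObj.comp_inv, _root_.mul_one, mul_inv_cancel]
        · rw [MonObj.comp_mul, MonObj.comp_mul, GrpObj.comp_inv, ← Category.assoc, DynPar.qn_qc, hA,
            DynPar.orb_apply, DynPar.orb_apply]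
          -- the reflection moves the cocharacter
          obtain ⟨st, hst'⟩ : ∃ st : LieS.pt (AddMonoidAlgebra K ℤ) (DynPar.fL f ℤ) ⟶ D.T,
              st = DynPar.xu f ℤ ≫ Red.DSmap S ((-mu').comp rf) ≫ D.split.inv.hom.hom := ⟨_, rfl⟩
          have hs1 : st ≫ D.i = DynPar.xu f ℤ ≫ Red.DSmap S ((-mu').comp rf) ≫ c := by
            simp only [hst', Category.assoc, hc]
          have hs2 := hnr _ st
          have e0 : D.split.inv.hom.hom ≫ D.split.hom.hom.hom = 𝟙 _ :=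
            congrArg (fun z => z.hom.hom) D.split.inv_hom_id
          have e1 : Red.DSmap S ((-mu').comp rf) ≫ Red.DSmap S rf = Red.DSmap S (-mu') := by
            refine HomDiag.ch_ext fun m => ?_
            rw [HomDiag.ch_DSmap, ← Category.id_comp (Red.DSmap S ((-mu').comp rf)), HomDiag.ch_DSmap,
              ← Category.id_comp (Red.DSmap S (-mu')), HomDiag.ch_DSmap]
            congr 2
            show (-mu') (D.P.reflection a (D.P.reflection a m.toAdd)) = (-mu') m.toAdd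
            rw [D.P.reflection_same]
          rw [show st ≫ D.split.hom.hom.hom ≫ Red.DSmap S rf ≫ D.split.inv.hom.hom ≫ D.i =
            DynPar.xu f ℤ ≫ Red.DSmap S (-mu') ≫ c by
              simp only [hst', Category.assoc, reassoc_of% e0, reassoc_of% e1, hc], hs1,
            toUnit_unique (toUnit _) (DynPar.qc ℤ f ≫ toUnit _), Category.assoc, ← hng] at hs2
          rw [← hs2, hg]
          simp only [MonObj.comp_mul, GrpObj.comp_inv]
          group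
      have h1 := F.eq_one_of_mem_USub_neg mu' hmu' hgp hgn
      rw [hg] at h1
      have h2 : x ≫ D.u a = 1 := by
        calc x ≫ D.u a = ng⁻¹ * (ng * (x ≫ D.u a) * ng⁻¹) * ng := by group
          _ = 1 := by rw [h1]; group
      haveI := (F.hu a).2.1
      haveI : Mono (D.u a) := Over.mono_of_mono_left _
      exact hx ((cancel_mono (D.u a)).1 (h2.trans (MonObj.one_comp _).symm))
    obtain ⟨n', e₃, -, he₃⟩ := RootBase.exists_extend {a | ∃ v, v ≫ u' ≫ h' = D.u a}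
      (Fin.elim0 : Fin 0 → D.idx) (fun x => x.elim0) fun x => x.elim0
    obtain ⟨ψ', hψ'⟩ := hprod' _ he₃
    obtain ⟨q, hq⟩ := (hpt _ (RedSub.prodMap (Red.Ga S) _ fun l => D.u (Fin.append Fin.elim0 e₃ l))).2 (by
      rw [← Category.id_comp (RedSub.prodMap _ _ _), RootBase.comp_prodMap_eq]
      exact RootBase.prod_mem_Gam (fun l => hsub _ (he₃.2.subset ⟨l, rfl⟩)) _)
    refine ⟨ψ'.inv ≫ q, ?_⟩
    rw [← cancel_mono h', Category.assoc, hu₂, Category.assoc, hq, ← hψ', Iso.inv_hom_id_assoc]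
  · obtain ⟨ψ, hψ⟩ := hprod e he
    exact ⟨ψ, by rw [hu₂, hψ]⟩
  · -- the intersection with the normaliser
    intro X x hnorm
    rw [hu₂] at hnorm
    obtain ⟨Y, hY, hY'⟩ := hcoord x
    refine honly x Y hY hY' fun l hl => DynPar.hom_ext_pts _ _ fun B _ f y => ?_
    rw [MonObj.comp_one, ← Category.assoc]
    obtain ⟨g0, hg0⟩ : ∃ g0 : LieS.pt B f ⟶ G, g0 = (y ≫ Y) ≫ RedSub.prodMap (Red.Ga S) _ fun l => D.u (e l) :=
      ⟨_, rfl⟩
    have hg0U : g0 ∈ DynPar.USub f (Red.DSmap S mu ≫ c) := hg0 ▸ RootBase.prodMap_mem_USub_global mu f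
      (fun l => F.hu (e l)) (fun l => (hmp _).2 (he.2.subset ⟨l, rfl⟩)) _
    obtain ⟨a, ha0, ha⟩ := (DynPar.mem_USub f _).1 (inv_mem hg0U)
    obtain ⟨z, hz⟩ : ∃ z : LieS.pt (AddMonoidAlgebra B ℤ) (DynPar.fL f ℤ) ⟶ H₁,
        z = (DynPar.xu f ℤ ≫ Red.DSmap S mu) ≫ D.split.inv.hom.hom ≫ t₁ := ⟨_, rfl⟩
    have hz' : z ≫ h₁ = DynPar.xu f ℤ ≫ Red.DSmap S mu ≫ c := by
      simp only [hz, Category.assoc, ht₁, hc]
    obtain ⟨z', hz''⟩ := (hnorm _ (DynPar.qc ℤ f ≫ y) z).1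
    have hqx : (DynPar.qc ℤ f ≫ y) ≫ x ≫ v = DynPar.qc ℤ f ≫ g0 := by
      rw [hg0, ← hY']; simp only [Category.assoc]
    rw [hqx] at hz''
    obtain ⟨A, hA⟩ := RootBase.exists_fac_orbit h₁ f ((DynPar.qc (DynPar.NN ℤ) f ≫ g0) * a)
      (z' * z⁻¹) (by
        rw [MonObj.comp_mul, ha, DynPar.orb_apply, ← Category.assoc, DynPar.qn_qc, GrpObj.comp_inv,
          MonObj.mul_comp, GrpObj.inv_comp, ← hz'', hz']
        group)
    have hgH : (DynPar.qz f ℤ ≫ A) ≫ h₁ = g0 := by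
      rw [Category.assoc, hA, MonObj.comp_mul, ha0, _root_.mul_one, ← Category.assoc, DynPar.qz_qc, Category.id_comp]
    exact RootBase.coord_eq_one_of_mem D h₁ hH₁ t₁ ht₁ R₁ hR₁ b e he f (y ≫ Y) _ (by rw [hgH, hg0]) l
      fun h => hl.2 h.2

end Groth.Agent.S5553
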