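import Groth.Statements.S5554
import Groth.Agent.S4116
import Groth.Agent.BorelConj.Points
import Groth.Agent.RedCartan.Inter
import Groth.Agent.MTImage.Cartan
import Groth.Agent.Chev.MaxTorusBC
import Groth.Agent.DynPar.BaseChange
-- import your own Groth.Agent.* helpers here

set_option autoImplicit false
open CategoryTheory MonoidalCategory CartesianMonoidalCategory MonObj GrpObj AlgebraicGeometry
universe u
open RedSub

set_option backward.isDefEq.respectTransparency false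

set_option backward.isDefEq.respectTransparency false
set_option maxHeartbeats 4000000
set_option synthInstance.maxHeartbeats 400000
set_option linter.style.haveILetI false

namespace Groth.Agent.S5554
open Limits in
/-- Conjugation by a point as conjugacy of families. -/
theorem conjEq_of_conjBy {U : Scheme.{u}} {A B G : Over U} [GrpObj A] [GrpObj B] [GrpObj G] {a : A ⟶ G} {b : B ⟶ G}
    {g : 𝟙_ (Over U) ⟶ G} (h : SGA3x.ConjBy a b g) : RedSub.ConjEq a b g := by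
  obtain ⟨φ, hφ⟩ := h
  have key : ∀ (Y : Over U) (x : Y ⟶ 𝟙_ _) (z : Y ⟶ A), (x ≫ g) * (z ≫ a) * (x ≫ g)⁻¹ = (z ≫ φ.hom) ≫ b :=
    fun Y x z => by
      rw [Category.assoc, ← hφ, MonObj.comp_mul, MonObj.comp_mul, GrpObj.comp_inv, ← Category.assoc,
        toUnit_unique (z ≫ toUnit _) x]
  refine fun Y x => ⟨fun z => ⟨_, key Y x z⟩, fun z => ⟨z ≫ φ.inv, ?_⟩⟩
  have := key Y x (z ≫ φ.inv)
  rw [Category.assoc z φ.inv φ.hom, φ.inv_hom_id, Category.comp_id] at this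
  rw [← this]
  group

open Limits in
theorem baseEquiv_nat {S U : Scheme.{u}} (ψ : U ⟶ S) {A : Over S} [GrpObj A] {Y Y' : Over U} (y : Y' ⟶ Y)
    (c : (Over.map ψ).obj Y ⟶ A) :
    y ≫ SubGen.Locus.baseEquiv ψ A Y c = SubGen.Locus.baseEquiv ψ A Y' ((Over.map ψ).map y ≫ c) :=
  ((Over.mapPullbackAdj ψ).homEquiv_naturality_left y c).symm

open Limits in
/-- The conjugate of a maximal torus by a point normalising a subgroup of type (R), inside that subgroup. -/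
theorem exists_conj_torus {U : Scheme.{u}} {G H T : Over U} [GrpObj G] [GrpObj H] [GrpObj T]
    (h : H ⟶ G) [IsMonHom h] [Mono h] (t : T ⟶ H) [IsMonHom t] (hT : Red.IsMaximalTorus (t ≫ h))
    (g : 𝟙_ (Over U) ⟶ G) (hg : ∀ z : T ⟶ H, ∃ z', (toUnit T ≫ g)⁻¹ * (z ≫ h) * (toUnit T ≫ g) = z' ≫ h) :
    ∃ i : T ⟶ H, Red.IsMaximalTorus i ∧
      ∀ (Y : Over U) (y : Y ⟶ T), y ≫ i ≫ h = (toUnit Y ≫ g)⁻¹ * (y ≫ t ≫ h) * (toUnit Y ≫ g) := by
  obtain ⟨i, hi⟩ := hg t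
  have hG : i ≫ h = AGF.conjBy g⁻¹ (t ≫ h) := by
    rw [← hi, AGF.conjBy, GrpObj.comp_inv, _root_.inv_inv]
  haveI := hT.1; haveI := hT.2.1
  have hm := RedCartan.isMaximalTorus_conjBy g⁻¹ (t ≫ h) hT
  rw [← hG] at hm
  haveI := hm.1; haveI := hm.2.1
  haveI : IsMonHom i := MTSplit.isMonHom_of_comp_mono i h _ rfl
  haveI : Mono i := mono_of_mono i h
  refine ⟨i, MTImage.isMaximalTorus_of_comp i h hm, fun Y y => ?_⟩
  rw [← hi, MonObj.comp_mul, MonObj.comp_mul, GrpObj.comp_inv, ← Category.assoc y (toUnit T),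
    toUnit_unique (y ≫ toUnit T) (toUnit Y)]


/-- The non-trivial point (the last arrow of 1 → W_H(T) → W_N(T) → N/H → 1 is an epimorphism of etale
sheaves), for a reductive S-group G. Let H ⟶ G be a subgroup of type (R), N ⟶ G its normaliser with
H ⟶ N, and T a maximal torus of G contained in H. Then for every X over S and every X-point n of N,
every point of X has an etale neighbourhood f : Y ⟶ X and a Y-point y of H such that (n ∘ f) · y⁻¹
normalises T. -/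
theorem result {S : Scheme.{u}} {G H N T : Over S} [GrpObj G] [GrpObj H] [GrpObj N]
    [GrpObj T] (hG : Red.IsReductive G) (h : H ⟶ G) (hH : RedSub.IsTypeR h) (nG : N ⟶ G) (hN : Red.IsNormalizerOf h nG)
    (k : H ⟶ N) (hk : k ≫ nG = h) [IsMonHom k] (t : T ⟶ H) [IsMonHom t] (hT : Red.IsMaximalTorus (t ≫ h))
    (X : Over S) (n : X ⟶ N) (p : ↥X.left) :
    ∃ (Y : Scheme.{u}) (f : Y ⟶ X.left) (_ : Etale f), p ∈ Set.range f.base ∧
      ∃ y : Over.mk (f ≫ X.hom) ⟶ H,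
        ∀ (X' : Over S) (z : X' ⟶ Over.mk (f ≫ X.hom)) (s : X' ⟶ T),
          (∃ s' : X' ⟶ T, (z ≫ ((Over.homMk f ≫ n) * (y ≫ k)⁻¹) ≫ nG) * (s ≫ t ≫ h) *
              (z ≫ ((Over.homMk f ≫ n) * (y ≫ k)⁻¹) ≫ nG)⁻¹ = s' ≫ t ≫ h) ∧
          (∃ s' : X' ⟶ T, (z ≫ ((Over.homMk f ≫ n) * (y ≫ k)⁻¹) ≫ nG)⁻¹ * (s ≫ t ≫ h) *
              (z ≫ ((Over.homMk f ≫ n) * (y ≫ k)⁻¹) ≫ nG) = s' ≫ t ≫ h) := by
  haveI := hG.1; haveI := hG.2.1
  obtain ⟨⟨i1, i2⟩, i3, i4, -, -⟩ := id hH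
  haveI := i1; haveI := i2; haveI := i3; haveI := i4
  haveI : Mono h := Over.mono_of_mono_left h
  let ψ := X.hom
  haveI : Limits.PreservesLimitsOfShape Limits.WalkingCospan (Over.pullback ψ) :=
    (Adjunction.rightAdjoint_preservesLimits (Over.mapPullbackAdj ψ)).preservesLimitsOfShape
  let n₀ : Over.mk ψ ⟶ G := n ≫ nG
  obtain ⟨hp⟩ : Nonempty (IsMonHom ((Over.pullback ψ).map h)) := ⟨DynPar.isMonHom_map' ψ h⟩
  haveI := hp
  haveI : IsMonHom ((Over.pullback ψ).map t) := DynPar.isMonHom_map' ψ t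
  haveI : IsImmersion ((Over.pullback ψ).map h).left :=
    MorphismProperty.overPullbackMap (P := @IsImmersion) ψ h i2
  haveI : Mono ((Over.pullback ψ).map h) := Over.mono_of_mono_left _
  have hTX : Red.IsMaximalTorus ((Over.pullback ψ).map t ≫ (Over.pullback ψ).map h) := by
    rw [← Functor.map_comp]
    exact Chev.MaxTorusBC.isMaximalTorus_bc (t ≫ h) hT ψ
  obtain ⟨i₂, hi₂, hi₂e⟩ := exists_conj_torus ((Over.pullback ψ).map h) ((Over.pullback ψ).map t) hTX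
    (SubGen.ratEquiv ψ G n₀) fun z => by
      obtain ⟨z, rfl⟩ := (SubGen.Locus.baseEquiv ψ H _).surjective z
      obtain ⟨w, hw⟩ := ((hN.2.2 X (n ≫ nG)).1 ⟨n, rfl⟩ _ (BorelConj.proj ψ _) z).2
      refine ⟨SubGen.Locus.baseEquiv ψ H _ w, ?_⟩
      rw [BorelConj.equiv_unit, ← BorelConj.equiv_comp, ← BorelConj.equiv_comp, ← map_inv, ← map_mul, ← map_mul]
      exact congrArg _ hw
  haveI : IsMonHom ((Over.pullback ψ).map t) := DynPar.isMonHom_map' ψ t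
  haveI := hT.2.1
  haveI : Mono t := mono_of_mono t h
  have hi₁ : Red.IsMaximalTorus ((Over.pullback ψ).map t) := MTImage.isMaximalTorus_of_comp _ _ hTX
  haveI : Smooth (Red.bc ψ H).hom := inferInstanceAs (Smooth (Limits.pullback.snd H.hom ψ))
  haveI : QuasiCompact (Red.bc ψ H).hom := inferInstanceAs (QuasiCompact (Limits.pullback.snd H.hom ψ))
  haveI : IsSeparated H.hom := by rw [← Over.w h]; infer_instance
  haveI : IsSeparated (Red.bc ψ H).hom := inferInstanceAs (IsSeparated (Limits.pullback.snd H.hom ψ))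
  obtain ⟨Y, f, hf, hfs, g, hg⟩ := S4116.result X.left (Red.bc ψ H) (Red.bc ψ T) (Red.bc ψ T) i₂
    ((Over.pullback ψ).map t) hi₂ hi₁
  obtain ⟨c₂, rfl⟩ := (SubGen.Locus.baseEquiv f (Red.bc ψ H) _).surjective g
  have hc := BorelConj.conjEq_up f i₂ ((Over.pullback ψ).map t) c₂ (conjEq_of_conjBy hg)
  obtain ⟨c₁, rfl⟩ := (SubGen.Locus.baseEquiv ψ H _).surjective c₂
  let δ : Over.mk (f ≫ X.hom) ⟶ (Over.map ψ).obj ((Over.map f).obj (𝟙_ (Over Y))) := Over.homMk (𝟙 Y) (by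
    show 𝟙 Y ≫ (𝟙 Y ≫ f) ≫ X.hom = f ≫ X.hom
    rw [Category.id_comp, Category.id_comp])
  refine ⟨Y, f, hf, hfs.surj p, δ ≫ c₁, fun X' z s => ?_⟩
  -- the point over the base change
  let Y' : Over X.left := Over.mk (z.left ≫ f)
  let e : (Over.map ψ).obj Y' ≅ X' := Over.isoMk (Iso.refl _) (by
    show 𝟙 _ ≫ X'.hom = (z.left ≫ f) ≫ X.hom
    rw [Category.id_comp, Category.assoc]
    exact (Over.w z).symm)
  let x : Y' ⟶ (Over.map f).obj (𝟙_ (Over Y)) := Over.homMk z.left (by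
    exact congrArg (z.left ≫ ·) (Category.id_comp f))
  have ex : (Over.map ψ).map x = e.hom ≫ z ≫ δ := Over.OverMorphism.ext (by
    exact (Category.comp_id z.left).symm.trans (Category.id_comp _).symm)
  have ea : BorelConj.proj ψ Y' = e.hom ≫ z ≫ Over.homMk f rfl := Over.OverMorphism.ext (by
    show z.left ≫ f = 𝟙 _ ≫ z.left ≫ f
    rw [Category.id_comp])
  obtain ⟨a, ha⟩ : ∃ a : X' ⟶ G, a = z ≫ Over.homMk f rfl ≫ n₀ := ⟨_, rfl⟩
  obtain ⟨b, hb⟩ : ∃ b : X' ⟶ G, b = (z ≫ δ ≫ c₁) ≫ h := ⟨_, rfl⟩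
  obtain ⟨k1, k2⟩ := hc Y' x
  -- translate
  have tr : ∀ (sT : (Over.map ψ).obj Y' ⟶ T) (sH : Y' ⟶ Red.bc ψ T),
      (SubGen.Locus.baseEquiv ψ T Y' sT = sH) →
      sH ≫ i₂ ≫ (Over.pullback ψ).map h =
        SubGen.Locus.baseEquiv ψ G Y' ((e.hom ≫ a)⁻¹ * (sT ≫ t ≫ h) * (e.hom ≫ a)) := by
    rintro sT _ rfl
    rw [hi₂e, BorelConj.equiv_unit, ← Functor.map_comp, ← BorelConj.equiv_comp, ← map_inv, ← map_mul, ← map_mul, ea, ha]
    simp only [Category.assoc]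
  have key : (∃ s' : X' ⟶ T, b * (a⁻¹ * (s ≫ t ≫ h) * a) * b⁻¹ = s' ≫ t ≫ h) ∧
      ∃ s' : X' ⟶ T, b⁻¹ * (s ≫ t ≫ h) * b = a⁻¹ * (s' ≫ t ≫ h) * a := by
    have hcan : ∀ {u v : X' ⟶ G}, SubGen.Locus.baseEquiv ψ G Y' (e.hom ≫ u) =
        SubGen.Locus.baseEquiv ψ G Y' (e.hom ≫ v) → u = v := fun h1 =>
      (cancel_epi e.hom).1 ((SubGen.Locus.baseEquiv ψ G Y').injective h1)
    constructor
    · obtain ⟨w, hw⟩ := k1 (SubGen.Locus.baseEquiv ψ T Y' (e.hom ≫ s))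
      obtain ⟨w, rfl⟩ := (SubGen.Locus.baseEquiv ψ T Y').surjective w
      refine ⟨e.inv ≫ w, hcan ?_⟩
      have h2 := congrArg (fun m => m ≫ (Over.pullback ψ).map h) hw
      simp only [MonObj.mul_comp, GrpObj.inv_comp] at h2
      rw [baseEquiv_nat, ex, ← BorelConj.equiv_comp] at h2
      simp only [Category.assoc] at h2
      rw [tr _ _ rfl, ← Functor.map_comp, ← BorelConj.equiv_comp,
        ← map_inv, ← map_mul, ← map_mul] at h2
      simp only [MonObj.comp_mul, GrpObj.comp_inv, hb, Category.assoc, Iso.hom_inv_id_assoc] at h2 ⊢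
      exact h2
    · obtain ⟨w, hw⟩ := k2 (SubGen.Locus.baseEquiv ψ T Y' (e.hom ≫ s))
      obtain ⟨w, rfl⟩ := (SubGen.Locus.baseEquiv ψ T Y').surjective w
      refine ⟨e.inv ≫ w, hcan ?_⟩
      have h2 := congrArg (fun m => m ≫ (Over.pullback ψ).map h) hw
      simp only [MonObj.mul_comp, GrpObj.inv_comp] at h2
      rw [baseEquiv_nat, ex, ← BorelConj.equiv_comp] at h2
      simp only [Category.assoc] at h2
      rw [tr _ _ rfl, ← Functor.map_comp, ← BorelConj.equiv_comp,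
        ← map_inv, ← map_mul, ← map_mul] at h2
      simp only [MonObj.comp_mul, GrpObj.comp_inv, hb, Category.assoc, Iso.hom_inv_id_assoc] at h2 ⊢
      exact h2
  haveI := hN.1
  have hz : (z ≫ ((Over.homMk f ≫ n) * ((δ ≫ c₁) ≫ k)⁻¹) ≫ nG) = a * b⁻¹ := by
    rw [ha, hb, ← Category.assoc z, MonObj.comp_mul, GrpObj.comp_inv, MonObj.mul_comp, GrpObj.inv_comp, ← hk]
    simp only [n₀, Category.assoc]
  obtain ⟨⟨s₁, h₁⟩, s₂, h₂⟩ := key
  rw [hz]
  exact ⟨⟨s₂, by rw [show ∀ X : X' ⟶ G, a * b⁻¹ * X * (a * b⁻¹)⁻¹ = a * (b⁻¹ * X * b) * a⁻¹ from fun X => by group, h₂]; group⟩, ⟨s₁, by rw [← h₁]; group⟩⟩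

end Groth.Agent.S5554
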