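import Groth.Statements.S5556
import Groth.Agent.RootBase.TypeRLie
-- import your own Groth.Agent.* helpers here

set_option autoImplicit false
open CategoryTheory MonoidalCategory CartesianMonoidalCategory MonObj GrpObj AlgebraicGeometry
universe u
open RedSub

set_option backward.isDefEq.respectTransparency false

namespace Groth.Agent.S5556

/-- For a reductive S-group G. Let T be a maximal torus and H, H' two subgroups of type (R) of G
containing T. Then H = H' if and only if 𝔥 = 𝔥': H and H' coincide as subgroups of G (an isomorphism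
over G) if and only if, for every affine S-scheme Spec B, Lie(H/S)(Spec B) and Lie(H'/S)(Spec B)
have the same image in Lie(G/S)(Spec B). -/
theorem result {S : Scheme.{u}} {G T H H' : Over S} [GrpObj G] [GrpObj T] [GrpObj H] [GrpObj H']
    (hG : Red.IsReductive G) (i : T ⟶ G) (hT : Red.IsMaximalTorus i) (h : H ⟶ G) (h' : H' ⟶ G) [IsMonHom h]
    [IsMonHom h'] (hH : RedSub.IsTypeR h) (hH' : RedSub.IsTypeR h') (t : T ⟶ H) (t' : T ⟶ H') (ht : t ≫ h = i)
    (ht' : t' ≫ h' = i) :
    (∃ e : H ≅ H', e.hom ≫ h' = h) ↔
      ∀ (B : Type u) [CommRing B] (f : Spec (CommRingCat.of B) ⟶ S),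
        (LieS.map B f h).range = (LieS.map B f h').range := by
  constructor
  · rintro ⟨e, he⟩ B _ f
    refine le_antisymm ?_ ?_
    · rintro _ ⟨v, rfl⟩
      refine ⟨⟨v.1 ≫ e.hom, ?_⟩, Subtype.ext ?_⟩
      · rw [LieS.mem_Lie_iff]
        haveI : Mono h' := by
          haveI : IsImmersion h'.left := hH'.1.2
          exact Over.mono_of_mono_left h'
        rw [← cancel_mono h']
        simp only [Category.assoc, he, MonObj.one_comp]
        exact ((Category.assoc _ _ _).symm.trans (congrArg (· ≫ h) ((LieS.mem_Lie_iff H B f v.1).1 v.2))).trans (MonObj.one_comp h)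
      · exact (Category.assoc _ _ _).trans (congrArg (v.1 ≫ ·) he)
    · rintro _ ⟨v, rfl⟩
      have he' : e.inv ≫ h = h' := by rw [Iso.inv_comp_eq, he]
      refine ⟨⟨v.1 ≫ e.inv, ?_⟩, Subtype.ext ?_⟩
      · rw [LieS.mem_Lie_iff]
        haveI : Mono h := by
          haveI : IsImmersion h.left := hH.1.2
          exact Over.mono_of_mono_left h
        rw [← cancel_mono h]
        simp only [Category.assoc, he', MonObj.one_comp]
        exact ((Category.assoc _ _ _).symm.trans (congrArg (· ≫ h') ((LieS.mem_Lie_iff H' B f v.1).1 v.2))).trans (MonObj.one_comp h')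
      · exact (Category.assoc _ _ _).trans (congrArg (v.1 ≫ ·) he')
  · intro hB
    haveI : IsImmersion h.left := hH.1.2
    haveI : IsImmersion h'.left := hH'.1.2
    haveI : Mono h := Over.mono_of_mono_left h
    haveI : Mono h' := Over.mono_of_mono_left h'
    exact RootBase.exists_iso_of_le h h'
      (RootBase.exists_le_of_fibreLe hG i hT h h' hH hH' t t' ht ht'
        (RootBase.fibreLe_of_lie hG i hT h h' hH hH' t t' ht ht' fun B _ f => (hB B f).le))
      (RootBase.exists_le_of_fibreLe hG i hT h' h hH' hH t' t ht' ht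
        (RootBase.fibreLe_of_lie hG i hT h' h hH' hH t' t ht' ht fun B _ f => (hB B f).ge))

end Groth.Agent.S5556
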