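import Groth.Statements.S5558
import Groth.Agent.Corad.Isogeny
-- import your own Groth.Agent.* helpers here

set_option backward.isDefEq.respectTransparency false
set_option linter.style.haveILetI false
set_option synthInstance.maxHeartbeats 400000
set_option maxHeartbeats 1000000

set_option autoImplicit false
open CategoryTheory MonoidalCategory CartesianMonoidalCategory MonObj GrpObj AlgebraicGeometry
universe u
open RedSub

namespace Groth.Agent.S5558

/-- (ii) ⟺ (iv): Let G be a reductive S-group with derived group D = dér(G) ⟶ G and radical R = rad(G)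
(maximal torus of the centre). Then multiplication R x_S D ⟶ G is an isomorphism if and only if R ∩
D = e. -/
theorem result {S : Scheme.{u}} {G D Z R : Over S} [GrpObj G] [GrpObj D]
    [GrpObj Z] [GrpObj R] (hG : Red.IsReductive G) (d : D ⟶ G) [IsMonHom d]
    (hker : ∃ (C : Over S) (_ : GrpObj C) (f₀ : G ⟶ C), IsMonHom f₀ ∧ (∀ (X : Over S) (a b : X ⟶ C), a * b = b * a) ∧
      AlgGrp.IsKernel d f₀)
    (hkill : RedSub.KilledByCommutative d)
    (j : Z ⟶ G) (hZ : Red.IsCentre j) (r : R ⟶ Z) (hR : Red.IsMaximalTorus r) :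
    IsIso (((r ≫ j) ⊗ₘ d) ≫ μ[G]) ↔
      ∀ (X : Over S) (x : X ⟶ R) (y : X ⟶ D), x ≫ r ≫ j = y ≫ d → x = 1 := by
  obtain ⟨C, _, f₀, h⟩ := Groth.Agent.Corad.exists_corad_of_ker hG d hker hkill
  haveI := h.hf
  haveI := hZ.1
  haveI := hR.1
  haveI := Groth.Agent.Corad.mono_radical hG h j hZ r hR
  obtain ⟨h1, h2, h3⟩ := Groth.Agent.Corad.isogeny_radical hG h j hZ r hR
  haveI := Groth.Agent.Corad.lfp_radical hG h j hZ r hR
  rw [← Category.assoc] at h1 h2
  haveI := h1
  haveI := h2
  exact Groth.Agent.Corad.isIso_mul_iff d f₀ h.ker (r ≫ j)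

end Groth.Agent.S5558
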