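import Groth.Statements.S5561
import Groth.Agent.RootBase.TypeRNorm
-- import your own Groth.Agent.* helpers here

set_option autoImplicit false
open CategoryTheory MonoidalCategory CartesianMonoidalCategory MonObj GrpObj AlgebraicGeometry
universe u
open RedSub

set_option backward.isDefEq.respectTransparency false

namespace Groth.Agent.S5561

set_option maxHeartbeats 4000000 in
/-- Let S be connected, G a split reductive S-group (splitting D), H a subgroup of type (R) containing T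
whose root set R' is contained in some system of positive roots, H'' a subgroup of type (R)
containing T with root set R'', and K ⊆ H the subgroup of type (R) containing T with root set R' ∩
R''. Then H ∩ Norm_G(H'') = K: a point of H normalises H'' if and only if it factors through K. -/
theorem result {S : Scheme.{u}} [ConnectedSpace S] {G H : Over S} [GrpObj G] [GrpObj H]
    (D : Red.SplitRed G) (h : H ⟶ G) (hH : RedSub.IsTypeR h) (t : D.T ⟶ H) (ht : t ≫ h = D.i) (R' : Set D.idx)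
    (hR' : ∀ a : D.idx, (∃ v : Red.Ga S ⟶ H, v ≫ h = D.u a) ↔ a ∈ R')
    (hpos : ∃ b : D.P.Base, R' ⊆ RedSub.posRoots D.P b)
    {H'' K : Over S} [GrpObj H''] [GrpObj K] (h'' : H'' ⟶ G) (hH'' : RedSub.IsTypeR h'') (t'' : D.T ⟶ H'')
    (ht'' : t'' ≫ h'' = D.i) (R'' : Set D.idx) (hR'' : ∀ a : D.idx, (∃ v : Red.Ga S ⟶ H'', v ≫ h'' = D.u a) ↔ a ∈ R'')
    (kG : K ⟶ G) (hK : RedSub.IsTypeR kG) (tK : D.T ⟶ K) (htK : tK ≫ kG = D.i)
    (hRK : ∀ a : D.idx, (∃ v : Red.Ga S ⟶ K, v ≫ kG = D.u a) ↔ a ∈ R' ∩ R'') (fK : K ⟶ H) (hfK : fK ≫ h = kG)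
    (X : Over S) (x : X ⟶ H) :
    (∀ (X' : Over S) (y : X' ⟶ X) (z : X' ⟶ H''),
        (∃ z' : X' ⟶ H'', (y ≫ x ≫ h) * (z ≫ h'') * (y ≫ x ≫ h)⁻¹ = z' ≫ h'') ∧
        (∃ z' : X' ⟶ H'', (y ≫ x ≫ h)⁻¹ * (z ≫ h'') * (y ≫ x ≫ h) = z' ≫ h'')) ↔
      ∃ w : X ⟶ K, w ≫ fK = x := by
  classical
  letI := D.grpT
  letI := D.acgM
  letI := D.fintypeIdx
  letI := D.finiteM
  letI := D.freeM
  obtain ⟨⟨i1, i2⟩, i3, -⟩ := id hH
  obtain ⟨⟨j1, j2⟩, j3, -⟩ := id hH''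
  haveI := i1; haveI := i2; haveI := i3; haveI := j1; haveI := j2; haveI := j3
  haveI : Mono h := Over.mono_of_mono_left h
  haveI : Mono h'' := Over.mono_of_mono_left h''
  constructor
  · intro hnorm
    obtain ⟨b, hb⟩ := hpos
    obtain ⟨c, hc, F⟩ : ∃ c : Red.DS S D.M ⟶ G, D.split.inv.hom.hom ≫ D.i = c ∧ RootBase.Frame c D.P.root D.u :=
      ⟨_, rfl, RootBase.frame_of_splitRed D⟩
    haveI := F.hc.1
    haveI := F.hG.1
    haveI := F.hG.2.1
    haveI := D.maximalTorus.1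
    haveI : ∀ a, IsMonHom (D.u a) := fun a => (F.hu a).1
    obtain ⟨mu, hmp, -, -⟩ := RootBase.exists_pos_hom D.P b
    obtain ⟨N, e', -, he⟩ := RootBase.exists_extend (RedSub.posRoots D.P b) (Fin.elim0 : Fin 0 → D.idx)
      (fun x => x.elim0) fun x => x.elim0
    let e := Fin.append (Fin.elim0 : Fin 0 → D.idx) e'
    have henum : ∀ {R : Set D.idx} {m : ℕ} (σ : Fin m → Fin (0 + N)), R ⊆ RedSub.posRoots D.P b →
        Function.Injective σ → Set.range σ = {l | e l ∈ R} → RedSub.Enumerates R fun l => e (σ l) := by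
      intro R m σ hR hσ hr
      refine ⟨he.1.comp hσ, Set.ext fun a => ⟨?_, fun ha => ?_⟩⟩
      · rintro ⟨l, rfl⟩
        exact hr.subset ⟨l, rfl⟩
      · obtain ⟨x, rfl⟩ := he.2.ge (hR ha)
        obtain ⟨l, hl⟩ := hr.ge (show x ∈ {l | e l ∈ R} from ha)
        exact ⟨l, congrArg e hl⟩
    obtain ⟨m, σ, hσ, hr, res⟩ := RootBase.exists_restrict (S := S) (G := G) fun l => e l ∈ R'
    obtain ⟨n, ρ, hρ, hr', res'⟩ := RootBase.exists_restrict (S := S) (G := G) fun l => e l ∈ R' ∩ R''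
    obtain ⟨φ, hφ⟩ := RootBase.exists_iso_borelMap D h hH t ht R' hR' b hb _ (henum σ hb hσ hr)
    obtain ⟨ψ, hψ⟩ := RootBase.exists_iso_borelMap D kG hK tK htK (R' ∩ R'') hRK b
      (Set.inter_subset_left.trans hb) _ (henum ρ (Set.inter_subset_left.trans hb) hρ hr')
    obtain ⟨Y, hY, hY'⟩ := (res (fun l => D.u (e l)) fun _ => inferInstance).1 (x ≫ φ.inv ≫ snd _ _)
    obtain ⟨τ, hτ⟩ : ∃ τ : X ⟶ D.T, τ = x ≫ φ.inv ≫ fst _ _ := ⟨_, rfl⟩
    have hx : x ≫ h = (τ ≫ D.i) * (Y ≫ RedSub.prodMap (Red.Ga S) _ fun l => D.u (e l)) := by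
      rw [hY', hτ, show h = φ.inv ≫ RedSub.borelMap D _ from (by rw [← hφ, Iso.inv_hom_id_assoc]),
        RedSub.borelMap, MonObj.comp_mul, MonObj.comp_mul]
      simp only [Category.assoc]
    have hvan : ∀ l, e l ∉ R'' → Y ≫ RootBase.proj S _ l = 1 := fun l hl =>
      DynPar.hom_ext_pts _ _ fun B _ f y => by
        rw [MonObj.comp_one, ← Category.assoc]
        -- the unipotent part normalises, hence lies in, the subgroup
        obtain ⟨g0, hg0⟩ : ∃ g0 : LieS.pt B f ⟶ G, g0 = (y ≫ Y) ≫ RedSub.prodMap (Red.Ga S) _ fun l => D.u (e l) :=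
          ⟨_, rfl⟩
        have hg0U : g0 ∈ DynPar.USub f (Red.DSmap S mu ≫ c) := hg0 ▸ RootBase.prodMap_mem_USub_global mu f
          (fun l => F.hu (e l)) (fun l => (hmp _).2 (he.2.subset ⟨l, rfl⟩)) _
        obtain ⟨a, ha0, ha⟩ := (DynPar.mem_USub f _).1 (inv_mem hg0U)
        obtain ⟨z, hz⟩ : ∃ z : LieS.pt (AddMonoidAlgebra B ℤ) (DynPar.fL f ℤ) ⟶ H'',
            z = (DynPar.xu f ℤ ≫ Red.DSmap S mu) ≫ D.split.inv.hom.hom ≫ t'' := ⟨_, rfl⟩
        have hz' : z ≫ h'' = DynPar.xu f ℤ ≫ Red.DSmap S mu ≫ c := by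
          simp only [hz, Category.assoc, ht'', hc]
        obtain ⟨z', hz''⟩ := (hnorm _ (DynPar.qc ℤ f ≫ y) z).1
        obtain ⟨τ', hτ'⟩ : ∃ τ' : LieS.pt (AddMonoidAlgebra B ℤ) (DynPar.fL f ℤ) ⟶ H'',
            τ' = DynPar.qc ℤ f ≫ y ≫ τ ≫ t'' := ⟨_, rfl⟩
        have hqx : (DynPar.qc ℤ f ≫ y) ≫ x ≫ h = (τ' ≫ h'') * (DynPar.qc ℤ f ≫ g0) := by
          rw [hx, hg0, hτ', MonObj.comp_mul]
          simp only [Category.assoc, ht'']
        rw [hqx] at hz''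
        obtain ⟨A, hA⟩ := RootBase.exists_fac_orbit h'' f ((DynPar.qc (DynPar.NN ℤ) f ≫ g0) * a)
          (τ'⁻¹ * z' * τ' * z⁻¹) (by
            rw [MonObj.comp_mul, ha, DynPar.orb_apply, ← Category.assoc, DynPar.qn_qc, GrpObj.comp_inv,
              MonObj.mul_comp, MonObj.mul_comp, MonObj.mul_comp, GrpObj.inv_comp, GrpObj.inv_comp, ← hz'', hz']
            group)
        have hgH : (DynPar.qz f ℤ ≫ A) ≫ h'' = g0 := by
          rw [Category.assoc, hA, MonObj.comp_mul, ha0, _root_.mul_one, ← Category.assoc, DynPar.qz_qc,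
            Category.id_comp]
        exact RootBase.coord_eq_one_of_mem D h'' hH'' t'' ht'' R'' hR'' b e he f (y ≫ Y) _ (by rw [hgH, hg0]) l hl
    obtain ⟨r, hr''⟩ := (res' (fun l => D.u (e l)) fun _ => inferInstance).2 Y fun l hl => by
      by_cases h1 : e l ∈ R'
      · exact hvan l fun h2 => hl ⟨h1, h2⟩
      · exact hY l h1
    refine ⟨lift τ r ≫ ψ.hom, ?_⟩
    rw [← cancel_mono h, Category.assoc, Category.assoc, hfK, hψ, hx, hr'', RedSub.borelMap, MonObj.comp_mul,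
      lift_fst_assoc, lift_snd_assoc]
  · rintro ⟨w, rfl⟩ X' y z
    obtain ⟨k, hk⟩ := RootBase.exists_le_split D kG hK tK htK h'' hH'' t'' ht'' fun a s hs =>
      RootBase.inFib_of_fac_split D h'' ((hR'' a).2 ((RootBase.rootSet_iff D kG hK tK htK hRK a s).1 hs).2) s
    have e : y ≫ (w ≫ fK) ≫ h = (y ≫ w ≫ k) ≫ h'' := by simp only [Category.assoc, hfK, hk]
    exact ⟨⟨(y ≫ w ≫ k) * z * (y ≫ w ≫ k)⁻¹, by rw [e, MonObj.mul_comp, MonObj.mul_comp, GrpObj.inv_comp]⟩,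
      ⟨(y ≫ w ≫ k)⁻¹ * z * (y ≫ w ≫ k), by rw [e, MonObj.mul_comp, MonObj.mul_comp, GrpObj.inv_comp]⟩⟩

end Groth.Agent.S5561
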