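import Groth.Statements.S5562
import Groth.Agent.RootBase.Normal
import Groth.Agent.S5526
-- import your own Groth.Agent.* helpers here

set_option autoImplicit false
open CategoryTheory MonoidalCategory CartesianMonoidalCategory MonObj GrpObj AlgebraicGeometry
universe u
open RedSub

set_option backward.isDefEq.respectTransparency false

namespace Groth.Agent.S5562

set_option maxHeartbeats 2000000 in
/-- Let S be connected, G a split reductive S-group (splitting D), H a subgroup of type (R) containing T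
whose root set R' is closed with R' ∩ -R' = ∅, U = U_{R'} its unipotent radical, and H'' a subgroup
of type (R) containing T with root set R'' such that no root of R'' is the opposite of a root of R'.
If α ∈ R', β ∈ R'' and α + β a root imply α + β ∈ R', then H'' normalises U. (The published
statement does not require R'' ∩ -R' = ∅; that condition is necessary: for G = SL₂, H = B the Borel
subgroup with R' = {α} and H'' = G with R'' = {α, -α}, the remaining hypotheses hold vacuously, 2α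
and 0 not being roots, while a representative of the reflection s_α conjugates U_α onto U_{-α}; the
published proof applies the commutator formula to α ∈ R' and β ∈ R'', which requires β ≠ -α, and
with that condition it proves the statement given here.) -/
theorem result {S : Scheme.{u}} [ConnectedSpace S] {G H : Over S} [GrpObj G] [GrpObj H]
    (D : Red.SplitRed G) (h : H ⟶ G) (hH : RedSub.IsTypeR h) (t : D.T ⟶ H) (ht : t ≫ h = D.i) (R' : Set D.idx)
    (hR' : ∀ a : D.idx, (∃ v : Red.Ga S ⟶ H, v ≫ h = D.u a) ↔ a ∈ R')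
    (hcl : ∀ a b c : D.idx, a ∈ R' → b ∈ R' → D.P.root a + D.P.root b = D.P.root c → c ∈ R')
    (hasym : ∀ a ∈ R', D.P.reflectionPerm a a ∉ R') {U : Over S} [GrpObj U] (u : U ⟶ H) (hU : Par.IsUnipotentRadical u)
    {H'' : Over S} [GrpObj H''] (h'' : H'' ⟶ G) (hH'' : RedSub.IsTypeR h'') (t'' : D.T ⟶ H'') (ht'' : t'' ≫ h'' = D.i)
    (R'' : Set D.idx) (hR'' : ∀ a : D.idx, (∃ v : Red.Ga S ⟶ H'', v ≫ h'' = D.u a) ↔ a ∈ R'')
    (hmix : ∀ a b c : D.idx, a ∈ R' → b ∈ R'' → D.P.root a + D.P.root b = D.P.root c → c ∈ R')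
    (hopp : ∀ a ∈ R', D.P.reflectionPerm a a ∉ R'') :
    ∀ (X : Over S) (y : X ⟶ H'') (x : X ⟶ U), ∃ x' : X ⟶ U,
      (y ≫ h'') * (x ≫ u ≫ h) * (y ≫ h'')⁻¹ = x' ≫ u ≫ h := by
  classical
  letI := D.grpT
  letI := D.acgM
  letI := D.fintypeIdx
  letI := D.finiteM
  letI := D.freeM
  haveI := RootBase.isReduced_of_splitRed D
  have F := RootBase.frame_of_splitRed D
  obtain ⟨b, hb⟩ := (S5526.result D h hH t ht R' hR').1 hasym
  obtain ⟨mu, hmp, -, -⟩ := RootBase.exists_pos_hom D.P b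
  have hcl' : RootD.IsClosedSub D.P R' := fun i j k hi hj hk => hcl i j k hi hj hk.symm
  obtain ⟨U₁, _, u₁, hu₁, hu₁c, -, hU₁, -, hprod₁⟩ := RootBase.exists_unipRad D h hH t ht R' hR' b hb
  obtain ⟨U₀, _, v₀, -, -, -, -, hnorm₀, hpt, hprod₀⟩ := F.exists_UPsi hcl' mu fun a ha => (hmp a).2 (hb ha)
  obtain ⟨n, e, -, he⟩ := RootBase.exists_extend R' (Fin.elim0 : Fin 0 → D.idx) (fun x => x.elim0) fun x => x.elim0
  obtain ⟨ψ₁, hψ₁⟩ := hprod₁ _ he
  obtain ⟨ψ₀, hψ₀⟩ := hprod₀ _ he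
  -- the given radical is the standard one
  obtain ⟨h1, h2, h3, h4, h5, h6, h7⟩ := id hU
  obtain ⟨g1, g2, g3, g4, g5, g6, g7⟩ := id hU₁
  obtain ⟨p, hp⟩ := @h7 U₁ _ u₁ g1 g2 g3 g4 g5 g6
  obtain ⟨q, hq⟩ := @g7 U _ u h1 h2 h3 h4 h5 h6
  have hv : ∀ (X : Over S) (g : X ⟶ G), (∃ x : X ⟶ U₁, x ≫ u₁ ≫ h = g) ↔ g ∈ RootBase.Gam D.u R' X := by
    intro X g
    rw [← hpt X g]
    constructor
    · rintro ⟨x, rfl⟩
      exact ⟨x ≫ ψ₁.inv ≫ ψ₀.hom, by rw [Category.assoc, Category.assoc, hψ₀, ← hψ₁, Iso.inv_hom_id_assoc]⟩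
    · rintro ⟨x, rfl⟩
      exact ⟨x ≫ ψ₀.inv ≫ ψ₁.hom, by rw [Category.assoc, Category.assoc, hψ₁, ← hψ₀, Iso.inv_hom_id_assoc]⟩
  haveI : IsClosedImmersion (u₁ ≫ h).left := hu₁c
  have hinv : D.split.hom.hom.hom ≫ D.split.inv.hom.hom = 𝟙 _ := congrArg (fun z => z.hom.hom) D.split.hom_inv_id
  haveI : IsMonHom D.i := D.maximalTorus.1
  intro X y x
  have key : y ≫ h'' ∈ RootBase.Nrm (u₁ ≫ h) X := by
    refine RootBase.typeR_le_Nrm D h'' hH'' t'' ht'' R'' hR'' b (u₁ ≫ h) (fun X s => ?_) (fun a ha X z => ?_) y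
    · refine RootBase.mem_Nrm_of_stable _ (P := fun {X} g => ∃ s : X ⟶ D.T, s ≫ D.i = g)
        (fun q g ⟨s, hs⟩ => ⟨q ≫ s, by rw [Category.assoc, hs]⟩)
        (fun g ⟨s, hs⟩ => ⟨s⁻¹, by rw [GrpObj.inv_comp, hs]⟩) (fun {X} g z hg => ?_) ⟨s, rfl⟩
      obtain ⟨s, rfl⟩ := hg
      obtain ⟨z₀, hz₀⟩ : ∃ z₀ : X ⟶ U₀, z₀ ≫ v₀ = z ≫ u₁ ≫ h := (hpt X _).2 ((hv X _).1 ⟨z, rfl⟩)
      obtain ⟨z', hz'⟩ := hnorm₀ X (s ≫ D.split.hom.hom.hom) z₀
      rw [Category.assoc, reassoc_of% hinv, hz₀] at hz'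
      obtain ⟨w, hw⟩ := (hv X _).2 ((hpt X _).1 ⟨z', rfl⟩)
      exact ⟨w, hz'.trans hw.symm⟩
    · by_cases haR : a ∈ R'
      · exact F.root_mem_Nrm hcl
          (by rw [Set.insert_eq_of_mem haR]; exact fun i hi => hasym i hi)
          (fun x w hx hw => hcl x a w hx haR hw) (u₁ ≫ h) hv z
      · refine F.root_mem_Nrm hcl (fun i hi hi' => ?_) (fun x w hx hw => hmix x a w hx ha hw) (u₁ ≫ h) hv z
        have hne : RootSys.opp D.P a ≠ a := fun e => by
          have e2 := congrArg (fun m => D.P.toLinearMap m (D.P.coroot a)) (RootSys.root_opp (P := D.P) a)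
          simp only [e, map_neg, LinearMap.neg_apply, D.P.root_coroot_two] at e2
          omega
        have hoo : ∀ i, RootSys.opp D.P (RootSys.opp D.P i) = i := fun i => D.P.root.injective (by
          rw [RootSys.root_opp, RootSys.root_opp, neg_neg])
        rcases hi with rfl | hi <;> rcases hi' with hi' | hi'
        · exact hne hi'
        · have := hopp _ hi'
          change RootSys.opp D.P (RootSys.opp D.P i) ∉ R'' at this
          rw [hoo] at this
          exact this ha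
        · exact hopp i hi (show RootSys.opp D.P i ∈ R'' by rw [hi']; exact ha)
        · exact hasym i hi hi'
  obtain ⟨x', hx'⟩ := key.1 X (𝟙 X) (x ≫ q)
  refine ⟨x' ≫ p, ?_⟩
  rw [Category.id_comp, Category.assoc, reassoc_of% hq] at hx'
  rw [hx', Category.assoc, reassoc_of% hp]

end Groth.Agent.S5562
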