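import Groth.Statements.S5563
import Groth.Agent.RootBase.Normal
import Groth.Agent.RootSys.PosRoots
import Groth.Agent.RootSys.BaseGen
-- import your own Groth.Agent.* helpers here

set_option autoImplicit false
open CategoryTheory MonoidalCategory CartesianMonoidalCategory MonObj GrpObj AlgebraicGeometry
universe u
open RedSub

set_option backward.isDefEq.respectTransparency false

namespace Groth.Agent.S5563

set_option maxHeartbeats 2000000 in
/-- Let S be connected, G a split reductive S-group (splitting D), b a system of simple roots, a a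
simple root, H = H_{R_+ ∖ {a}} the subgroup of type (R) containing T with that root set and U =
U_{â} its unipotent radical. Then U_{-a} normalises U. -/
theorem result {S : Scheme.{u}} [ConnectedSpace S] {G H U : Over S} [GrpObj G]
    [GrpObj H] [GrpObj U] (D : Red.SplitRed G) (b : D.P.Base) (a : D.idx) (ha : a ∈ b.support) (h : H ⟶ G)
    (hH : RedSub.IsTypeR h) (t : D.T ⟶ H) (ht : t ≫ h = D.i)
    (hR : ∀ c : D.idx, (∃ v : Red.Ga S ⟶ H, v ≫ h = D.u c) ↔ (c ∈ RedSub.posRoots D.P b ∧ c ≠ a))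
    (u : U ⟶ H) (hU : Par.IsUnipotentRadical u) (X : Over S) (y : X ⟶ Red.Ga S) (x : X ⟶ U) :
    ∃ x' : X ⟶ U, (y ≫ D.u (D.P.reflectionPerm a a)) * (x ≫ u ≫ h) * (y ≫ D.u (D.P.reflectionPerm a a))⁻¹ =
      x' ≫ u ≫ h := by
  classical
  letI := D.grpT
  letI := D.acgM
  letI := D.fintypeIdx
  letI := D.finiteM
  letI := D.freeM
  haveI := RootBase.isReduced_of_splitRed D
  have F := RootBase.frame_of_splitRed D
  let R' : Set D.idx := {c | c ∈ RedSub.posRoots D.P b ∧ c ≠ a}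
  have hpos := RootSys.mem_posRoots_iff (P := D.P) b
  have hroot : ∀ i, D.P.root (RootSys.opp D.P i) = -D.P.root i := fun i => RootSys.root_opp i
  have hopp : ∀ i, b.IsPos (RootSys.opp D.P i) ↔ ¬ b.IsPos i := fun i => RootSys.isPos_opp_iff b i
  have hap : b.IsPos a := RootPairing.Base.isPos_of_mem_support ha
  have hcl : ∀ x y z : D.idx, x ∈ R' → y ∈ R' → D.P.root x + D.P.root y = D.P.root z → z ∈ R' := by
    rintro x y z ⟨hx, -⟩ ⟨hy, -⟩ hz
    rw [hpos] at hx hy
    refine ⟨(hpos z).2 (hx.add hy hz.symm), fun e => ?_⟩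
    subst e
    have h1 := b.height_add (i := x) (j := y) hz.symm
    rw [RootPairing.Base.height_one_of_mem_support ha] at h1
    have h2 : 0 < b.height x := hx
    have h3 : 0 < b.height y := hy
    omega
  have hmix : ∀ x z : D.idx, x ∈ R' → D.P.root x + D.P.root (D.P.reflectionPerm a a) = D.P.root z → z ∈ R' := by
    rintro x z ⟨hx, hxa⟩ hz
    rw [hpos] at hx
    have hz' : D.P.root z = D.P.root x - D.P.root a := by
      rw [← hz, show D.P.root (D.P.reflectionPerm a a) = -D.P.root a from hroot a, sub_eq_add_neg]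
    refine ⟨(hpos z).2 (hx.sub ha hz'), fun e => ?_⟩
    subst e
    -- twice a root is no root
    have h2 : D.P.root x = (2 : ℤ) • D.P.root z := by rw [eq_sub_iff_add_eq] at hz'; rw [← hz', two_smul]
    rcases F.dep (a := z) (b := x) 2 1 one_ne_zero (show (1 : ℤ) • D.P.root x = (2 : ℤ) • D.P.root z by rw [one_smul, h2])
      with h | h
    · exact hxa (D.P.root.injective h)
    · have : x = RootSys.opp D.P z := D.P.root.injective (by rw [h, hroot])
      exact (hopp z).1 (this ▸ hx) hap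
  have hcl' : RootD.IsClosedSub D.P R' := fun i j k hi hj hk => hcl i j k hi hj hk.symm
  obtain ⟨mu, hmp, -, -⟩ := RootBase.exists_pos_hom D.P b
  obtain ⟨U₁, _, u₁, hu₁, hu₁c, -, hU₁, -, hprod₁⟩ := RootBase.exists_unipRad D h hH t ht R' hR b fun c hc => hc.1
  obtain ⟨U₀, _, v₀, -, -, -, -, -, hpt, hprod₀⟩ := F.exists_UPsi hcl' mu fun c hc => (hmp c).2 hc.1
  obtain ⟨n, e, -, he⟩ := RootBase.exists_extend R' (Fin.elim0 : Fin 0 → D.idx) (fun x => x.elim0) fun x => x.elim0
  obtain ⟨ψ₁, hψ₁⟩ := hprod₁ _ he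
  obtain ⟨ψ₀, hψ₀⟩ := hprod₀ _ he
  obtain ⟨h1, h2, h3, h4, h5, h6, h7⟩ := id hU
  obtain ⟨g1, g2, g3, g4, g5, g6, g7⟩ := id hU₁
  obtain ⟨p, hp⟩ := @h7 U₁ _ u₁ g1 g2 g3 g4 g5 g6
  obtain ⟨q, hq⟩ := @g7 U _ u h1 h2 h3 h4 h5 h6
  have hv : ∀ (X : Over S) (g : X ⟶ G), (∃ x : X ⟶ U₁, x ≫ u₁ ≫ h = g) ↔ g ∈ RootBase.Gam D.u R' X := by
    intro X g
    rw [← hpt X g]
    constructor
    · rintro ⟨x, rfl⟩
      exact ⟨x ≫ ψ₁.inv ≫ ψ₀.hom, by rw [Category.assoc, Category.assoc, hψ₀, ← hψ₁, Iso.inv_hom_id_assoc]⟩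
    · rintro ⟨x, rfl⟩
      exact ⟨x ≫ ψ₀.inv ≫ ψ₁.hom, by rw [Category.assoc, Category.assoc, hψ₁, ← hψ₀, Iso.inv_hom_id_assoc]⟩
  have hd : ∀ i ∈ insert (D.P.reflectionPerm a a) R', RootSys.opp D.P i ∉ insert (D.P.reflectionPerm a a) R' := by
    intro i hi hi'
    have hna : ¬ b.IsPos (RootSys.opp D.P a) := fun h => (hopp a).1 h hap
    rcases hi with rfl | ⟨hi, hia⟩ <;> rcases hi' with hi' | ⟨hi', hia'⟩
    · change RootSys.opp D.P (RootSys.opp D.P a) = RootSys.opp D.P a at hi'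
      have e2 := congrArg D.P.root hi'
      rw [hroot, hroot, neg_neg, ← hroot] at e2
      exact hna (by rw [← D.P.root.injective e2]; exact hap)
    · exact hia' (D.P.root.injective (by
        show D.P.root (RootSys.opp D.P (RootSys.opp D.P a)) = _
        rw [hroot, hroot, neg_neg]))
    · exact hia (D.P.root.injective (by
        have e2 : D.P.root (RootSys.opp D.P i) = D.P.root (RootSys.opp D.P a) := by rw [hi']
        rwa [hroot, hroot, neg_inj] at e2))
    · exact (hopp i).1 ((hpos _).1 hi') ((hpos i).1 hi)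
  have key := F.root_mem_Nrm (J := R') hcl hd hmix (u₁ ≫ h) hv y
  obtain ⟨x', hx'⟩ := key.1 X (𝟙 X) (x ≫ q)
  refine ⟨x' ≫ p, ?_⟩
  rw [Category.id_comp, Category.assoc, reassoc_of% hq] at hx'
  rw [hx', Category.assoc, reassoc_of% hp]

end Groth.Agent.S5563
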