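import Groth.Statements.S5564
import Groth.Agent.Corad.SplitDerived
import Groth.Agent.Corad.Semisimple
import Groth.Agent.Corad.SubTorus
-- import your own Groth.Agent.* helpers here

set_option backward.isDefEq.respectTransparency false
set_option linter.style.haveILetI false
set_option synthInstance.maxHeartbeats 400000
set_option maxHeartbeats 1000000

set_option autoImplicit false
open CategoryTheory MonoidalCategory CartesianMonoidalCategory MonObj GrpObj AlgebraicGeometry
universe u
open RedSub

namespace Groth.Agent.S5564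

/-- Let G be a split reductive S-group (splitting D, torus T ≅ D_S(M)), D' = dér(G) ⟶ G its derived
group and N = {m ∈ M | (α*, m) = 0 for every coroot α*}. Then (dér(G), T', M/N, R) is a splitting:
D' admits a splitting whose character group is identified with M/N carrying root to root (through a
bijection of index sets), whose torus maps to T over the inclusion D' ⟶ G compatibly with D_S(M/N) ⟶
D_S(M), and whose root homomorphisms composed with D' ⟶ G are the u_a. -/
theorem result {S : Scheme.{u}} {G D' : Over S} [GrpObj G] [GrpObj D'] (D : Red.SplitRed G)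
    (d : D' ⟶ G) [IsMonHom d]
    (hker : ∃ (C : Over S) (_ : GrpObj C) (f₀ : G ⟶ C), IsMonHom f₀ ∧ (∀ (X : Over S) (a b : X ⟶ C), a * b = b * a) ∧
      AlgGrp.IsKernel d f₀)
    (hkill : RedSub.KilledByCommutative d)
    (N : AddSubgroup D.M) (hN : ∀ m : D.M, m ∈ N ↔ ∀ a : D.idx, D.P.coroot a m = 0) :
    ∃ (Dd : Red.SplitRed D') (τ : Dd.T ⟶ D.T) (eidx : Dd.idx ≃ D.idx) (em : Dd.M ≃+ D.M ⧸ N),
      τ ≫ D.i = Dd.i ≫ d ∧
      τ ≫ D.split.hom.hom.hom =
        Dd.split.hom.hom.hom ≫ Red.DSmap S (em.symm.toAddMonoidHom.comp (QuotientAddGroup.mk' N)) ∧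
      (∀ a' : Dd.idx, em (Dd.P.root a') = QuotientAddGroup.mk' N (D.P.root (eidx a'))) ∧
      (∀ a' : Dd.idx, Dd.u a' ≫ d = D.u (eidx a')) := by
  classical
  letI := D.grpT; letI := D.acgM; letI := D.fintypeIdx; letI := D.finiteM; letI := D.freeM
  obtain ⟨C, _, f₀, hc⟩ := Groth.Agent.Corad.exists_corad_of_ker D.reductive d hker hkill
  haveI := hc.hf; haveI := hc.closed
  obtain ⟨hdm, hdp⟩ := Groth.Agent.Corad.kernel_pts hc.ker
  haveI := hdm
  obtain ⟨b, hsq0⟩ := Groth.Agent.Corad.exists_inter_split D hc N hN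
  let q := QuotientAddGroup.mk' N
  let sh := D.split.hom.hom.hom
  let si := D.split.inv.hom.hom
  let c := si ≫ D.i
  have h1 : sh ≫ si = 𝟙 D.T := congrArg (fun z => z.hom.hom) D.split.hom_inv_id
  have h2 : si ≫ sh = 𝟙 _ := congrArg (fun z => z.hom.hom) D.split.inv_hom_id
  haveI : IsIso si := ⟨sh, h2, h1⟩
  haveI := D.maximalTorus.1
  haveI := D.maximalTorus.2.1
  haveI : IsMonHom si := D.split.inv.hom.isMonHom_hom
  haveI : IsMonHom (Red.DSmap S q) := Groth.Agent.MTQuot.isMonHom_DSmap _
  have hw : b ≫ d = Red.DSmap S q ≫ c := hsq0.w.symm.trans (Category.assoc _ _ _)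
  haveI : IsMonHom b := Groth.Agent.MTSplit.isMonHom_of_comp_mono b d _ hw
  obtain ⟨hfree, hfin, P', hP', hroot, hcor⟩ :=
    Groth.Agent.Corad.exists_quot_datum D.P D.pairing_eq N hN
  haveI := hfree; haveI := hfin
  have F : Groth.Agent.RootBase.Frame c (fun a => D.P.root a) D.u := Groth.Agent.RootBase.frame_of_splitRed D
  have hlift : ∀ a, ∃ v : Red.Ga S ⟶ D', v ≫ d = D.u a := fun a =>
    (hdp (D.u a)).2 (Groth.Agent.Corad.rootHom_comp_eq_one F f₀ hc.comm a)
  choose v hv using hlift
  have hvr : ∀ a, Red.IsRootHom b (Red.chi S (P'.root a)) (v a) := fun a => by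
    haveI := (F.hu a).1
    haveI := (F.hu a).2.1
    haveI : IsMonHom (v a) := Groth.Agent.MTSplit.isMonHom_of_comp_mono (v a) d _ (hv a)
    refine ⟨inferInstance, ?_, fun X t x => ?_⟩
    · haveI : IsClosedImmersion ((v a).left ≫ d.left) := by rw [← Over.comp_left, hv]; infer_instance
      exact IsClosedImmersion.of_comp (v a).left d.left
    · obtain ⟨y, hy, hy'⟩ := (F.hu a).2.2 X (t ≫ Red.DSmap S q) x
      refine ⟨y, ?_, ?_⟩
      · rw [← cancel_mono d]
        simp only [MonObj.mul_comp, GrpObj.inv_comp, Category.assoc, hv, hw]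
        simpa only [Category.assoc] using hy
      · rw [hy', Groth.Agent.RootIntrinsic.gmFn_chi, Groth.Agent.RootIntrinsic.gmFn_chi,
          Groth.Agent.HomDiag.ch_DSmap, toAdd_ofAdd, hroot]
  have hsq : IsPullback (Red.DSmap S q) b c d :=
    hsq0.of_iso' (Iso.refl _) (asIso si) (Iso.refl _) (Iso.refl _) (by simp [q, si]) (by simp) (by simp [c, si])
      (by simp)
  have hss := Groth.Agent.Corad.isSemisimple_derived D.reductive hc
  have hD : Red.IsReductive D' := ⟨hss.1, hss.2.1, fun s => (hss.2.2 s).1⟩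
  have hT' : Red.IsTorus (Red.DS S (D.M ⧸ N)) := by
    obtain ⟨ε⟩ := Groth.Agent.MTQuot.nonempty_DS_congr (S := S)
      (Module.finBasis ℤ (D.M ⧸ N)).equivFun.toAddEquiv.symm
    exact Groth.Agent.Corad.isTorus_of_split ⟨ε⟩
  have hmax : Red.IsMaximalTorus b :=
    Groth.Agent.Corad.isMaximalTorus_inter D.reductive (Groth.Agent.Corad.wc_of_isCorad D.reductive hc) D.i
      D.maximalTorus (Red.DSmap S q ≫ si) b hsq0 hT'
  refine ⟨{ T := Red.DS S (D.M ⧸ N)
            i := b
            M := D.M ⧸ N
            idx := D.idx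
            P := P'
            pairing_eq := hP'
            u := v
            reductive := hD
            maximalTorus := hmax
            split := Iso.refl _
            rootHom := fun a => ?_
            refl := fun a => ?_
            dim_fibre := fun s => ?_ }, Red.DSmap S q ≫ si, Equiv.refl _, AddEquiv.refl _, ?_, ?_, fun a => ?_,
    fun a => hv a⟩
  · show Red.IsRootHom b (𝟙 _ ≫ Red.chi S (P'.root a)) (v a)
    rw [Category.id_comp]
    exact hvr a
  · obtain ⟨n, hn, hconj⟩ := Groth.Agent.Corad.exists_refl_killed D f₀ hc.comm a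
    obtain ⟨n', hn'⟩ := (hdp n).2 hn
    refine ⟨n', fun X t => ?_⟩
    show (toUnit X ≫ n') * (t ≫ b) * (toUnit X ≫ n')⁻¹ =
      t ≫ 𝟙 _ ≫ Red.DSmap S (P'.reflection a).toLinearMap.toAddMonoidHom ≫ 𝟙 _ ≫ b
    rw [Category.id_comp, Category.id_comp, ← cancel_mono d]
    simp only [MonObj.mul_comp, GrpObj.inv_comp, Category.assoc, hn', hw]
    have h := hconj X (t ≫ Red.DSmap S q)
    simp only [Groth.Agent.RootBase.cj, Category.assoc] at h
    rw [h]
    congr 1
    have he : q.comp (D.P.reflection a).toLinearMap.toAddMonoidHom =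
        (P'.reflection a).toLinearMap.toAddMonoidHom.comp q := by
      refine AddMonoidHom.ext fun m => ?_
      show q (D.P.reflection a m) = P'.reflection a (q m)
      rw [D.P.reflection_apply, P'.reflection_apply, map_sub, map_zsmul, hroot]
      congr 2
      simp only [RootPairing.coroot', D.pairing_eq, hP']
      exact (hcor a m).symm
    simp only [← Category.assoc, Groth.Agent.MTQuot.DSmap_comp]
    rw [he]
    simp only [c, si, Category.assoc]
  · refine Groth.Agent.Corad.dim_fibre_inter F hD d q (QuotientAddGroup.mk'_surjective N)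
      (fun a h => P'.ne_zero a (by rw [hroot]; exact h))
      (fun a a' h => P'.root.injective (by rw [hroot, hroot]; exact h)) b hsq v hv
      (fun o => by rw [← hroot]; exact hvr o) s
  · exact hsq0.w
  · show (Red.DSmap S q ≫ si) ≫ sh = 𝟙 _ ≫ Red.DSmap S q
    rw [Category.assoc, h2, Category.comp_id, Category.id_comp]
  · exact hroot a

end Groth.Agent.S5564
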