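import Groth.Statements.S5566
import Groth.Agent.RootBase.BruhatCover
-- import your own Groth.Agent.* helpers here

set_option autoImplicit false
open CategoryTheory MonoidalCategory CartesianMonoidalCategory MonObj GrpObj AlgebraicGeometry
universe u
open RedSub

set_option backward.isDefEq.respectTransparency false

namespace Groth.Agent.S5566

set_option backward.isDefEq.respectTransparency false in
/-- Let G be a split reductive S-group (splitting D, system of simple roots b, big cell Ω ⟶ G), a a
simple root, u_a(x) a section of U_a with x of unit coordinate, and v = u_{-a}(y) any section of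
U_{-a}. Then Ω · v ⊆ Ω ∪ u_a(x) · Ω. -/
theorem result {S : Scheme.{u}} {G : Over S} [GrpObj G] (D : Red.SplitRed G)
    (b : D.P.Base) {n m : ℕ} (eneg : Fin n → D.idx) (epos : Fin m → D.idx)
    (hneg : RedSub.Enumerates (RedSub.negRoots D.P b) eneg) (hpos : RedSub.Enumerates (RedSub.posRoots D.P b) epos)
    (a : D.idx) (ha : a ∈ b.support) (x : 𝟙_ (Over S) ⟶ Red.Ga S) (hx : IsUnit (Red.gaFn x))
    (y : 𝟙_ (Over S) ⟶ Red.Ga S) :
    Set.range (RedSub.cellMap D eneg epos * (toUnit _ ≫ y ≫ D.u (D.P.reflectionPerm a a))).left.base ⊆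
      Set.range (RedSub.cellMap D eneg epos).left.base ∪
        Set.range ((toUnit _ ≫ x ≫ D.u a) * RedSub.cellMap D eneg epos).left.base := by
  rintro p ⟨z₀, rfl⟩
  generalize hpdef : (RedSub.cellMap D eneg epos * (toUnit _ ≫ y ≫ D.u (D.P.reflectionPerm a a))).left.base z₀ = p
  classical
  letI := D.grpT
  letI := D.acgM
  letI := D.fintypeIdx
  letI := D.finiteM
  letI := D.freeM
  haveI : Nonempty S := ⟨G.hom p⟩
  haveI := RootBase.isReduced_of_splitRed D
  have F : RootBase.Frame (D.split.inv.hom.hom ≫ D.i) D.P.root D.u := RootBase.frame_of_splitRed D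
  choose nr hnr using D.refl
  have hw := RootBase.realises_of_reflections D b (n := nr) (fun a _ => hnr a)
  obtain ⟨X', f, hf, ⟨z⟩, hX', -⟩ := RedR1.exists_geom_point _ z₀
  have hq := F.cellPts_mul_opp D.pairing_eq hw hX' ⟨z⟩ ha (x := toUnit X' ≫ x) (RootBase.isUnit_gaFn_comp hx)
    (RootBase.cellMap_mem_cellPts D b hneg hpos f) (toUnit X' ≫ y)
  have e : f ≫ (RedSub.cellMap D eneg epos * (toUnit _ ≫ y ≫ D.u (D.P.reflectionPerm a a))) =
      (f ≫ RedSub.cellMap D eneg epos) * ((toUnit X' ≫ y) ≫ D.u (D.P.reflectionPerm a a)) := by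
    rw [MonObj.comp_mul, ← Category.assoc f (toUnit _), toUnit_unique (f ≫ toUnit _) (toUnit X'), Category.assoc]
  rw [← e] at hq
  have hp : (f ≫ (RedSub.cellMap D eneg epos * (toUnit _ ≫ y ≫ D.u (D.P.reflectionPerm a a)))).left.base z = p := by
    rw [← hpdef, ← hf z, Over.comp_left]; rfl
  rcases hq with h | h
  · exact Or.inl (hp ▸ RootBase.mem_range_cell D b hneg hpos z h)
  · refine Or.inr ?_
    rw [← hp]
    exact RootBase.mem_range_translate D b hneg hpos z (x ≫ D.u a) (by rwa [← Category.assoc])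

end Groth.Agent.S5566
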