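import Groth.Statements.S5567
import Groth.Agent.RootBase.UnipStabS
import Groth.Agent.S5522
import Groth.Agent.RootBase.BigCell
import Groth.Agent.RootBase.TypeRSolvMain
-- import your own Groth.Agent.* helpers here

set_option autoImplicit false
open CategoryTheory MonoidalCategory CartesianMonoidalCategory MonObj GrpObj AlgebraicGeometry
universe u
open RedSub

set_option backward.isDefEq.respectTransparency false

namespace Groth.Agent.S5567

/-- First case: over a connected base. Let S be connected, G a split reductive S-group (splitting D) and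
U ⟶ G a sub-group-scheme, smooth over S, whose geometric fibres are connected and contain no
non-trivial subtorus, normalised by T. Let R' be the set of roots whose root homomorphism factors
through U. Then R' is contained in a system of positive roots and U = U_{R'}: for every enumeration
of R' the ordered product of the root homomorphisms is an isomorphism of G_a^{R'} onto U. -/
theorem result {S : Scheme.{u}} [ConnectedSpace S] {G U : Over S}
    [GrpObj G] [GrpObj U] (D : Red.SplitRed G) (j : U ⟶ G) (hU : RedSub.IsSubgrp j) [Smooth U.hom]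
    (hfib : ∀ s : S, ConnectedSpace ↥(Red.geomFibre s U).left ∧
      Red.HasNoSubtorus (AlgebraicClosure (S.residueField s)) (Red.geomFibre s U))
    (hnorm : ∀ (X : Over S) (x : X ⟶ D.T) (y : X ⟶ U), ∃ y' : X ⟶ U, (x ≫ D.i) * (y ≫ j) * (x ≫ D.i)⁻¹ = y' ≫ j) :
    (∃ b : D.P.Base, {a : D.idx | ∃ v : Red.Ga S ⟶ U, v ≫ j = D.u a} ⊆ RedSub.posRoots D.P b) ∧
      ∀ {m : ℕ} (e : Fin m → D.idx), RedSub.Enumerates {a : D.idx | ∃ v : Red.Ga S ⟶ U, v ≫ j = D.u a} e →
        ∃ ψ : RedSub.pow (Red.Ga S) m ≅ U, ψ.hom ≫ j = RedSub.prodMap (Red.Ga S) m (fun k => D.u (e k)) := by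
  classical
  letI := D.grpT
  letI := D.acgM
  letI := D.fintypeIdx
  letI := D.finiteM
  letI := D.freeM
  obtain ⟨i1, i2⟩ := id hU
  haveI := i1; haveI := i2
  obtain ⟨c, hc, F⟩ : ∃ c : Red.DS S D.M ⟶ G, D.split.inv.hom.hom ≫ D.i = c ∧ RootBase.Frame c D.P.root D.u :=
    ⟨_, rfl, RootBase.frame_of_splitRed D⟩
  have hst : RootBase.IsStabUnip c j := ⟨hfib, fun X x y => by
    obtain ⟨y', hy'⟩ := hnorm X (x ≫ D.split.inv.hom.hom) y
    refine ⟨y', ?_⟩
    simpa only [← hc, Category.assoc] using hy'⟩
  obtain ⟨-, -, mu, -, hpos, hprod⟩ := F.exists_unip_global hst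
  refine ⟨?_, fun e he => hprod e he⟩
  obtain ⟨s⟩ : Nonempty S := inferInstance
  obtain ⟨b, hb⟩ := S5522.result D {a | 0 < mu (D.P.root a)}
    (fun a b c ha hb hab => by
      show 0 < mu (D.P.root c)
      rw [← hab, map_add]
      exact add_pos ha hb)
    (RootBase.asymm_of_pos D mu fun a ha => ha)
  exact ⟨b, fun a ha => hb (hpos a ha)⟩

end Groth.Agent.S5567
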