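import Groth.Statements.S5570
import Groth.Agent.S5550
import Groth.Agent.RedCartan.Global
import Groth.Agent.Chev.TorusCommMax

set_option linter.style.haveILetI false
set_option backward.isDefEq.respectTransparency false
set_option synthInstance.maxHeartbeats 400000
set_option maxHeartbeats 1000000

set_option autoImplicit false
open CategoryTheory MonoidalCategory CartesianMonoidalCategory MonObj GrpObj AlgebraicGeometry
universe u
open RedSub

namespace Groth.Agent.S5570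

/-- Centralisers are unique. -/
theorem exists_iso_centralizer {S : Scheme.{u}} {G H Z Z' : Over S} [GrpObj G] [GrpObj Z] [GrpObj Z'] {i : H ⟶ G}
    {z : Z ⟶ G} {z' : Z' ⟶ G} (hz : Red.IsCentralizerOf i z) (hz' : Red.IsCentralizerOf i z') :
    ∃ e : Z ≅ Z', e.hom ≫ z' = z := by
  haveI := hz.2.1; haveI := hz'.2.1
  obtain ⟨a, ha⟩ := (hz'.2.2 Z z).2 ((hz.2.2 Z z).1 ⟨𝟙 _, Category.id_comp _⟩)
  obtain ⟨b, hb⟩ := (hz.2.2 Z' z').2 ((hz'.2.2 Z' z').1 ⟨𝟙 _, Category.id_comp _⟩)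
  exact ⟨⟨a, b, by rw [← cancel_mono z, Category.assoc, hb, ha, Category.id_comp],
    by rw [← cancel_mono z', Category.assoc, ha, hb, Category.id_comp]⟩, ha⟩

end Groth.Agent.S5570

namespace Groth.Agent.S5570

/-- Let G be a reductive S-group, q : Q ⟶ G a subtorus, z : Z ⟶ G its centraliser, ZZ ⟶ Z the centre of
Z and R = rad(Z) ⟶ ZZ its maximal torus. Then Q ⊆ rad(Z), and Z is the centraliser in G of rad(Z).
(So Centr_G(Q) is critical.) -/
theorem result {S : Scheme.{u}} {G Q Z ZZ R : Over S} [GrpObj G] [GrpObj Q] [GrpObj Z]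
    [GrpObj ZZ] [GrpObj R] (hG : Red.IsReductive G) (q : Q ⟶ G) [IsMonHom q] [Mono q] (hQ : Red.IsTorus Q) (z : Z ⟶ G)
    (hZ : Red.IsCentralizerOf q z) (jz : ZZ ⟶ Z) (hZZ : Red.IsCentre jz) (r : R ⟶ ZZ) (hR : Red.IsMaximalTorus r) :
    (∃ q' : Q ⟶ R, q' ≫ r ≫ jz ≫ z = q) ∧ Red.IsCentralizerOf (r ≫ jz ≫ z) z := by
  haveI := hG.1; haveI := hG.2.1
  obtain ⟨Z₀, _, z₀, hz₀, -, hred₀⟩ := Groth.Agent.S5550.result hG q hQ
  obtain ⟨e, he⟩ := exists_iso_centralizer hZ hz₀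
  haveI := hZ.1; haveI := hZ.2.1; haveI := hred₀.1; haveI := hred₀.2.1
  haveI : IsIso e.hom.left := inferInstanceAs (IsIso ((Over.forget _).map e.hom))
  haveI : IsAffineHom Z.hom := by rw [← Over.w e.hom]; infer_instance
  haveI : Smooth Z.hom := by rw [← Over.w e.hom]; infer_instance
  have hZred : Red.IsReductive Z := ⟨inferInstance, inferInstance, fun s => by
    haveI := (hG.2.2 s).1; haveI := (hG.2.2 s).2.1; haveI := (hG.2.2 s).2.2.1
    exact RedCent.isReductiveOver_centralizer (hG.2.2 s) ((Over.pullback (Red.geomPt s)).map q)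
      (Chev.Borel.isTorus_bc_scheme Q _ hQ) _ (Chev.CentBC.isCentralizerOf_bc (Red.geomPt s) q z hZ)⟩
  obtain ⟨Z₁, _, z₁, hz₁, hz₁c, -⟩ := RedCartan.exists_centre_of_isReductive hZred
  obtain ⟨e₁, he₁⟩ := exists_iso_centralizer hZZ hz₁
  haveI := hz₁c; haveI := hZZ.1; haveI := hZZ.2.1; haveI := hR.1; haveI := hR.2.1
  haveI : IsIso e₁.hom.left := inferInstanceAs (IsIso ((Over.forget _).map e₁.hom))
  haveI : IsClosedImmersion jz.left := by rw [← he₁, Over.comp_left]; infer_instance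
  haveI : LocallyOfFiniteType ZZ.hom := by rw [← Over.w jz]; infer_instance
  haveI : QuasiCompact ZZ.hom := by rw [← Over.w jz]; infer_instance
  have hcomm : ∀ (X : Over S) (g : X ⟶ ZZ) (k : X ⟶ Z), (g ≫ jz) * k = k * (g ≫ jz) := fun X g k => by
    simpa only [Category.id_comp, Category.comp_id] using (hZZ.2.2 X (g ≫ jz)).1 ⟨g, rfl⟩ X (𝟙 X) k
  have hcommQ : ∀ (X : Over S) (g : X ⟶ Z) (h : X ⟶ Q), (g ≫ z) * (h ≫ q) = (h ≫ q) * (g ≫ z) := fun X g h => by
    simpa only [Category.id_comp] using (hZ.2.2 X (g ≫ z)).1 ⟨g, rfl⟩ X (𝟙 X) h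
  obtain ⟨qZ, hqZ⟩ := (hZ.2.2 Q q).2 fun X x h => by
    rw [← MonObj.mul_comp, ← MonObj.mul_comp, RedR1.mul_comm_torus hQ x h]
  haveI : IsMonHom qZ := MTSplit.isMonHom_of_comp_mono qZ z q hqZ
  obtain ⟨q₁, hq₁⟩ := (hZZ.2.2 Q qZ).2 fun X x k => by
    rw [Category.comp_id, ← cancel_mono z, MonObj.mul_comp, MonObj.mul_comp, Category.assoc, hqZ]
    exact (hcommQ X k x).symm
  haveI : IsMonHom q₁ := MTSplit.isMonHom_of_comp_mono q₁ jz qZ hq₁
  obtain ⟨q', hq'⟩ := MTTorus.exists_factor_maximalTorus r hR hQ q₁ fun X t x => by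
    rw [← cancel_mono jz, MonObj.mul_comp, MonObj.mul_comp]
    exact hcomm X (t ≫ r) ((x ≫ q₁) ≫ jz)
  have hqq : q' ≫ r ≫ jz ≫ z = q := by rw [reassoc_of% hq', reassoc_of% hq₁, hqZ]
  refine ⟨⟨q', hqq⟩, hZ.1, hZ.2.1, fun X g => ⟨?_, fun hg => (hZ.2.2 X g).2 fun X' x h => ?_⟩⟩
  · rintro ⟨w, rfl⟩ X' x h
    have := congrArg (· ≫ z) (hcomm X' (h ≫ r) (x ≫ w))
    simp only [MonObj.mul_comp, Category.assoc] at this
    exact this.symm
  · have := hg X' x (h ≫ q')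
    simpa only [Category.assoc, hqq] using this

end Groth.Agent.S5570
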