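import Groth.Statements.S5572
import Groth.Agent.Corad.Kernel
import Groth.Agent.RootBase.IsoSplit
import Groth.Agent.MTBridge.Charts

set_option linter.style.haveILetI false
set_option backward.isDefEq.respectTransparency false
set_option synthInstance.maxHeartbeats 400000
set_option maxHeartbeats 1000000

set_option autoImplicit false
open CategoryTheory MonoidalCategory CartesianMonoidalCategory MonObj GrpObj AlgebraicGeometry
universe u
open RedSub

namespace Groth.Agent.S5572

/-- Let G be a split reductive S-group (splitting D, T ≅ D_S(M)) and N = {m | (α*, m) = 0 for all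
coroots}, so that T/T' = D_S(N). Then there is a homomorphism f : G ⟶ D_S(N) inducing on T the
canonical projection; any kernel of f is smooth over S with connected fibres and is killed by every
homomorphism from G to a commutative S-group scheme. -/
theorem result {S : Scheme.{u}} {G : Over S} [GrpObj G] (D : Red.SplitRed G)
    (N : AddSubgroup D.M) (hN : ∀ m : D.M, m ∈ N ↔ ∀ a : D.idx, D.P.coroot a m = 0) :
    ∃ f : G ⟶ Red.DS S ↥N, IsMonHom f ∧ D.i ≫ f = D.split.hom.hom.hom ≫ Red.DSmap S N.subtype ∧
      ∀ (K : Over S) [GrpObj K] (k : K ⟶ G) [IsMonHom k], AlgGrp.IsKernel k f →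
        Smooth K.hom ∧ RedSub.HasConnectedFibres K ∧ RedSub.KilledByCommutative k := by
  classical
  letI := D.grpT
  letI := D.acgM
  letI := D.fintypeIdx
  letI := D.finiteM
  letI := D.freeM
  haveI : IsMonHom (Red.DSmap S N.subtype) := MTQuot.isMonHom_DSmap _
  haveI := D.maximalTorus.1
  have hinv : D.split.inv.hom.hom ≫ D.split.hom.hom.hom = 𝟙 _ := congrArg (fun z => z.hom.hom) D.split.inv_hom_id
  have hinv' : D.split.hom.hom.hom ≫ D.split.inv.hom.hom = 𝟙 _ := congrArg (fun z => z.hom.hom) D.split.hom_inv_id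
  rcases isEmpty_or_nonempty S with hS | hS
  · obtain ⟨f, -⟩ := RootBase.exists_hom_of_isEmpty G (Red.DS S ↥N)
    refine ⟨f, MTBridge.isMonHom_of_points f fun X x y => RootBase.hom_eq_of_isEmpty _ _,
      RootBase.hom_eq_of_isEmpty _ _, fun K _ k _ _ => ⟨?_, fun s => hS.elim s, fun A _ φ _ _ =>
        RootBase.hom_eq_of_isEmpty _ _⟩⟩
    haveI := RootBase.isEmpty_left K
    infer_instance
  haveI := RootBase.isReduced_of_splitRed D
  let c := D.split.inv.hom.hom ≫ D.i
  have F : RootBase.Frame c (fun a => D.P.root a) D.u := RootBase.frame_of_splitRed D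
  haveI := F.hc.1
  have hP := D.pairing_eq
  have hcor := RootBase.coroot_apply_root hP
  obtain ⟨B⟩ := RootBase.nonempty_base_split D
  obtain ⟨u₁, w, H, -, hp⟩ := RootBase.exists_dualised hcor F (RootBase.hasRefl_of_splitRed D) B
  haveI : IsAffineHom (Red.DS S ↥N).hom := MTBridge.isAffineHom_DS S _
  have hcor0 : ∀ a, Red.DSmap S (D.P.coroot a).toAddMonoidHom ≫ Red.DSmap S N.subtype = 1 := fun a => by
    rw [MTQuot.DSmap_comp, ← MTSplit.DSmap_zero]
    congr 1
    exact AddMonoidHom.ext fun m => (hN m).1 m.2 a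
  obtain ⟨f, hfm, hf, -⟩ := Corad.exists_splitHom D.reductive H hp (Red.DSmap S N.subtype) hcor0
  haveI := hfm
  refine ⟨f, hfm, ?_, fun K _ k _ hk => ?_⟩
  · rw [← hf]
    simp [c, reassoc_of% hinv']
  have hsat : ∀ (z : ℤ) (m : D.M), z ≠ 0 → z • m ∈ N → m ∈ N := fun z m hz h => (hN m).2 fun a => by
    have := (hN _).1 h a
    rw [map_zsmul, smul_eq_mul] at this
    exact (mul_eq_zero.1 this).resolve_left hz
  obtain ⟨h1, h2, h3⟩ := Corad.kernel_facts H.frame N hsat f hf k hk
  refine ⟨h1, h2, fun A _ φ _ hA => h3 A φ hA ?_⟩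
  haveI : IsMonHom (Red.DSmap S (QuotientAddGroup.mk' N)) := MTQuot.isMonHom_DSmap _
  -- the simple coroots generate the subtorus
  let θ : D.M →+ (B.support → ℤ) :=
    { toFun := fun m b => D.P.coroot b m, map_zero' := by ext b; simp, map_add' := fun m m' => by ext b; simp }
  have hθN : N ≤ θ.ker := fun m hm => AddMonoidHom.mem_ker.2 (funext fun b => (hN m).1 hm b)
  let θ' := QuotientAddGroup.lift N θ hθN
  have hinj : Function.Injective θ' := by
    rw [injective_iff_map_eq_zero]
    intro x
    induction x using QuotientAddGroup.induction_on with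
    | _ m =>
      intro h
      rw [QuotientAddGroup.eq_zero_iff, hN]
      intro a
      have hm : D.P.coroot a ∈ LinearMap.ker (LinearMap.applyₗ (R := ℤ) (M₂ := ℤ) m) := by
        refine Submodule.span_le.2 ?_ (B.coroot_mem_span_int a)
        rintro _ ⟨b, hb, rfl⟩
        exact congrFun (show θ m = 0 from h) ⟨b, hb⟩
      exact hm
  haveI : AddGroup.FG (D.M ⧸ N) :=
    haveI : AddGroup.FG D.M := Module.Finite.iff_addGroup_fg.1 inferInstance
    AddGroup.fg_of_surjective (QuotientAddGroup.mk'_surjective N)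
  haveI : AddGroup.FG (B.support → ℤ) := Module.Finite.iff_addGroup_fg.1 inferInstance
  haveI : Epi (Red.DSmap S θ') := Corad.epi_of_covers (MTQuot.covers_DSmap θ' hinj)
  rw [← cancel_epi (Red.DSmap S θ'), MonObj.comp_one, ← Category.assoc, MTQuot.DSmap_comp]
  haveI : IsMonHom (c ≫ φ) := inferInstance
  refine Corad.DSmap_comp_eq_one_of_components (c ≫ φ) _ fun b => ?_
  exact Corad.coroot_comp_eq_one H.frame φ hA (hp b b.2)

end Groth.Agent.S5572
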