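import Groth.Statements.S5573
import Groth.Agent.RootBase.RCLevi
-- import your own Groth.Agent.* helpers here

set_option autoImplicit false
open CategoryTheory MonoidalCategory CartesianMonoidalCategory MonObj GrpObj AlgebraicGeometry
universe u
open RedSub

set_option backward.isDefEq.respectTransparency false

namespace Groth.Agent.S5573

/-- Let G be a reductive S-group and H ⟶ G a subgroup of type (RC) (type (R), and on each geometric
fibre the roots of H with respect to a maximal torus form a closed subset of the roots of G). Then H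
is closed in G; and for every maximal torus T of G contained in H, H has a Levi subgroup L ⊇ T (L a
reductive S-group with H = L ⋉ rad^u(H)) such that every sub-group-scheme of H which is a reductive
S-group containing T factors through L, and Norm_H(L) = L. -/
theorem result {S : Scheme.{u}} {G H : Over S} [GrpObj G] [GrpObj H] (hG : Red.IsReductive G)
    (h : H ⟶ G) (hH : RedSub.IsTypeR h)
    (hRC : ∀ (s : S) (D' : Red.SplitRed (Red.geomFibre s G)) (t' : D'.T ⟶ Red.geomFibre s H),
      t' ≫ (Over.pullback (Red.geomPt s)).map h = D'.i →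
      ∀ a b c : D'.idx, (∃ v, v ≫ (Over.pullback (Red.geomPt s)).map h = D'.u a) →
        (∃ v, v ≫ (Over.pullback (Red.geomPt s)).map h = D'.u b) → D'.P.root a + D'.P.root b = D'.P.root c →
        ∃ v, v ≫ (Over.pullback (Red.geomPt s)).map h = D'.u c) :
    IsClosedImmersion h.left ∧
      ∀ (T : Over S) [GrpObj T] (t : T ⟶ H) [IsMonHom t], Red.IsMaximalTorus (t ≫ h) →
        ∃ (L : Over S) (_ : GrpObj L) (l : L ⟶ H) (tL : T ⟶ L), Par.IsLevi l ∧ tL ≫ l = t ∧
          (∀ (L' : Over S) [GrpObj L'] (l' : L' ⟶ H) (tL' : T ⟶ L'), RedSub.IsSubgrp l' → Red.IsReductive L' →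
            tL' ≫ l' = t → ∃ g : L' ⟶ L, g ≫ l = l') ∧
          Red.IsNormalizerOf l l := by
  refine ⟨RootBase.isClosedImmersion_of_typeRC hG h hH hRC, fun T _ t _ hT => ?_⟩
  exact RootBase.exists_levi_rc hG h hH hRC t hT

end Groth.Agent.S5573
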