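import Groth.Statements.S5574
import Groth.Agent.RootBase.CriticalR
import Groth.Agent.S5522
import Groth.Agent.S5529
import Groth.Agent.S5510
-- import your own Groth.Agent.* helpers here

set_option autoImplicit false
open CategoryTheory MonoidalCategory CartesianMonoidalCategory MonObj GrpObj AlgebraicGeometry
universe u
open RedSub

set_option backward.isDefEq.respectTransparency false

set_option backward.isDefEq.respectTransparency false
set_option maxHeartbeats 4000000
set_option synthInstance.maxHeartbeats 400000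
set_option linter.style.haveILetI false

namespace Groth.Agent.S5574

/-- (i) ⟺ (ii): Let S be connected, G a split reductive S-group (splitting D), H a subgroup of type (R)
containing T with root set R'. Then H is reductive and critical (equal to the centraliser in G of
its radical rad(H), the maximal torus of its centre) if and only if there are a system of simple
roots Δ and Δ' ⊆ Δ such that R' is the set of roots which are integer combinations of Δ'. -/
theorem result {S : Scheme.{u}} [ConnectedSpace S] {G H : Over S} [GrpObj G] [GrpObj H]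
    (D : Red.SplitRed G) (h : H ⟶ G) (hH : RedSub.IsTypeR h) (t : D.T ⟶ H) (ht : t ≫ h = D.i) (R' : Set D.idx)
    (hR' : ∀ a : D.idx, (∃ v : Red.Ga S ⟶ H, v ≫ h = D.u a) ↔ a ∈ R') :
    (Red.IsReductive H ∧ ∀ (ZH RH : Over S) [GrpObj ZH] [GrpObj RH] (jH : ZH ⟶ H) (rH : RH ⟶ ZH),
        Red.IsCentre jH → Red.IsMaximalTorus rH → Red.IsCentralizerOf (rH ≫ jH ≫ h) h) ↔
      ∃ (b : D.P.Base) (Δ' : Set D.idx), Δ' ⊆ (b.support : Set D.idx) ∧
        R' = {a : D.idx | D.P.root a ∈ Submodule.span ℤ (D.P.root '' Δ')} := by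
  classical
  letI := D.grpT
  letI := D.acgM
  letI := D.fintypeIdx
  letI := D.finiteM
  letI := D.freeM
  haveI := RootBase.isReduced_of_splitRed D
  obtain ⟨s⟩ : Nonempty S := inferInstance
  obtain ⟨⟨i1, i2⟩, -, -, -, -⟩ := id hH
  haveI := i1; haveI := i2
  haveI : Mono h := Over.mono_of_mono_left h
  obtain ⟨r, π, hπs, hπ0⟩ := RootBase.exists_sat_proj (Submodule.span ℤ (D.P.root '' R'))
  constructor
  · rintro ⟨hred, hcrit⟩
    obtain ⟨ZH, _, jH, hZ, -, -⟩ := S5510.result H hred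
    obtain ⟨qZ, hqm, hqmono, hq, hfl⟩ := RootBase.central_data D h hH t ht R' hR' π hπs hπ0 jH hZ
    haveI := hqm; haveI := hqmono
    have hcz := hcrit ZH (Red.DS S (Fin r → ℤ)) jH qZ hZ
      (RootBase.isMaximalTorus_of_data (MTCentre.isTorus_DS_scheme S r) qZ hfl)
    rw [hq] at hcz
    obtain ⟨Z, _, z, tZ, hz, hzR, htZ, hroots⟩ := RootBase.centralizer_roots D π hπs
    have hR : ∀ a, a ∈ R' ↔ π (D.P.root a) = 0 := fun a => by
      rw [← hR' a, ← hroots a]
      exact (hcz.2.2 _ (D.u a)).trans (hz.2.2 _ (D.u a)).symm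
    obtain ⟨ν, hν⟩ := DynPar.exists_hom_ne_zero (Finset.univ.image fun a => π (D.P.root a))
    obtain ⟨ω, hω⟩ : ∃ ω : D.M →+ ℤ, ∀ a, ω (D.P.root a) = 0 ↔ a ∈ R' :=
      ⟨ν.comp π, fun a => Iff.trans (b := π (D.P.root a) = 0) ⟨fun h0 => by_contra fun hne =>
        hν _ (Finset.mem_image_of_mem _ (Finset.mem_univ a)) hne h0,
        fun h0 => by rw [AddMonoidHom.comp_apply, h0, map_zero]⟩ (hR a).symm⟩
    have hopp : ∀ x, ω (D.P.root (D.P.reflectionPerm x x)) = -ω (D.P.root x) := fun x => by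
      rw [D.P.root_reflectionPerm, D.P.reflection_apply_self, map_neg]
    obtain ⟨b, hb⟩ := S5522.result D {a | 0 < ω (D.P.root a)}
      (fun a b c ha hb hab => by
        show 0 < ω (D.P.root c)
        rw [← hab, map_add]
        exact add_pos ha hb)
      (fun a ha h' => by
        have h1 : 0 < ω (D.P.root a) := ha
        have h2 : 0 < ω (D.P.root (D.P.reflectionPerm a a)) := h'
        rw [hopp] at h2
        omega)
    have h0 : ∀ a ∈ RedSub.posRoots D.P b, 0 ≤ ω (D.P.root a) := by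
      intro a ha
      by_contra hneg
      have h2 : D.P.reflectionPerm a a ∈ RedSub.posRoots D.P b := hb (by
        show 0 < ω (D.P.root (D.P.reflectionPerm a a))
        rw [hopp]
        omega)
      exact (RootSys.isPos_opp_iff b a).1 ((RootSys.mem_posRoots_iff b _).1 h2) ((RootSys.mem_posRoots_iff b _).1 ha)
    refine ⟨b, {a | a ∈ b.support ∧ ω (D.P.root a) = 0}, fun a ha => ha.1, Set.ext fun a => ?_⟩
    rw [Set.mem_setOf_eq, ← (RootBase.level_hom_levi D.P b (I := {a | a ∈ b.support ∧ ω (D.P.root a) = 0}) (fun a ha => ha.1) ω h0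
      (fun a ha => ⟨fun h1 => ⟨ha, h1⟩, fun h1 => h1.2⟩) a).1, hω]
  · rintro ⟨b, Δ', hΔ, rfl⟩
    have hsymm : ∀ a ∈ RootBase.leviRoots D.P Δ', D.P.reflectionPerm a a ∈ RootBase.leviRoots D.P Δ' :=
      fun a ha => RootBase.levi_stable ha ha
    have hred : Red.IsReductive H := (S5529.result D h hH t ht _ hR').2 hsymm
    refine ⟨hred, fun ZH RH _ _ jH rH hZ hR => ?_⟩
    obtain ⟨qZ, hqm, hqmono, hq, hfl⟩ := RootBase.central_data D h hH t ht _ hR' π hπs hπ0 jH hZ
    haveI := hqm; haveI := hqmono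
    have hroot : ∀ a, π (D.P.root a) = 0 → a ∈ RootBase.leviRoots D.P Δ' := fun a ha => by
      obtain ⟨n, hn, hna⟩ := (hπ0 _).1 ha
      refine RootBase.mem_levi_of_zsmul b hΔ hn ((Submodule.span_le.2 ?_) hna)
      rintro _ ⟨e, he, rfl⟩
      exact he
    haveI := hR.1; haveI := hR.2.1; haveI := hZ.1; haveI := hZ.2.1
    haveI : Mono (rH ≫ jH ≫ h) := inferInstance
    have hcomm : ∀ (X : Over S) (p : X ⟶ RH) (y : X ⟶ H),
        (y ≫ h) * (p ≫ rH ≫ jH ≫ h) = (p ≫ rH ≫ jH ≫ h) * (y ≫ h) := fun X p y => by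
      have h1 := (hZ.2.2 X ((p ≫ rH) ≫ jH)).1 ⟨_, rfl⟩ X (𝟙 X) y
      simp only [Category.id_comp, Category.comp_id, Category.assoc] at h1
      rw [← Category.assoc rH, ← Category.assoc p, ← MonObj.mul_comp, ← MonObj.mul_comp, h1]
    refine ⟨inferInstance, inferInstance, fun X g => ⟨?_, fun hg => ?_⟩⟩
    · rintro ⟨y, rfl⟩ X' x p
      rw [← Category.assoc x]
      exact hcomm X' p (x ≫ y)
    obtain ⟨Z, _, z, hz, hzR, -⟩ := S5550.result D.reductive (rH ≫ jH ≫ h) hR.2.2.1
    obtain ⟨tZ, htZ⟩ := (hz.2.2 _ D.i).2 fun X' x p => by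
      rw [← ht, ← Category.assoc x]
      exact hcomm X' p (x ≫ t)
    obtain ⟨f, hf⟩ := (S5523.result D z hzR tZ htZ {a | ∃ v : Red.Ga S ⟶ Z, v ≫ z = D.u a} (fun a => Iff.rfl)
      h hH t ht _ hR').2 (by
        rintro a ⟨v, hv⟩
        refine hroot a ?_
        obtain ⟨x, w, hxw, hx⟩ := RootBase.inFib_of_fac_split D z ⟨v, hv⟩ s
        refine RootBase.weight_eq_zero_of_comm ((RootBase.frame_of_splitRed D).hu a) π x hx fun d => ?_
        obtain ⟨p, hp⟩ := RootBase.exists_pt_of_maximal (MTCentre.isTorus_DS_scheme S r) qZ hfl rH hR s d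
        rw [← hq, ← reassoc_of% hp]
        have h1 := (hz.2.2 _ (x ≫ D.u a)).1 ⟨x ≫ v, by rw [Category.assoc, hv]⟩ _ (𝟙 _) p
        rwa [Category.id_comp] at h1)
    obtain ⟨g', hg'⟩ := (hz.2.2 X g).2 hg
    exact ⟨g' ≫ f, by rw [Category.assoc, hf, hg']⟩

end Groth.Agent.S5574
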