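import Groth.Statements.S5577
import Groth.Agent.RootBase.TorusQuot
-- import your own Groth.Agent.* helpers here

set_option autoImplicit false
open CategoryTheory MonoidalCategory CartesianMonoidalCategory MonObj GrpObj AlgebraicGeometry
universe u
open RedSub

set_option backward.isDefEq.respectTransparency false

namespace Groth.Agent.S5577

set_option maxHeartbeats 2000000 in
set_option backward.isDefEq.respectTransparency false in
/-- Let G be a split reductive S-group (splitting D, T ≅ D_S(M), system of simple roots b, big cell map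
c : Ω ⟶ G), N = {m | (α*, m) = 0 for all coroots} and f : Ω ⟶ D_S(N) = T/T' the T-component followed
by D_S(M) ⟶ D_S(N). Then f is generically multiplicative: there is an open V ⊆ Ω x_S Ω containing
the unit point such that for all points x, y of Ω with (x, y) in V there is a point z of Ω with c(z)
= c(x) c(y) and f(z) = f(x) f(y). -/
theorem result {S : Scheme.{u}} {G : Over S} [GrpObj G]
    (D : Red.SplitRed G) (b : D.P.Base) {n m : ℕ} (eneg : Fin n → D.idx) (epos : Fin m → D.idx)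
    (hneg : RedSub.Enumerates (RedSub.negRoots D.P b) eneg) (hpos : RedSub.Enumerates (RedSub.posRoots D.P b) epos)
    (N : AddSubgroup D.M) (hN : ∀ x : D.M, x ∈ N ↔ ∀ c : D.idx, D.P.coroot c x = 0) :
    ∃ V : Set ↥((RedSub.pow (Red.Ga S) n ⊗ (D.T ⊗ RedSub.pow (Red.Ga S) m)) ⊗ (RedSub.pow (Red.Ga S) n ⊗ (D.T ⊗ RedSub.pow (Red.Ga S) m))).left, IsOpen V ∧
      (∀ u₀ : 𝟙_ (Over S) ⟶ RedSub.pow (Red.Ga S) n ⊗ (D.T ⊗ RedSub.pow (Red.Ga S) m), u₀ ≫ RedSub.cellMap D eneg epos = 1 →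
        Set.range (lift u₀ u₀).left.base ⊆ V) ∧
      ∀ (X : Over S) (x y : X ⟶ RedSub.pow (Red.Ga S) n ⊗ (D.T ⊗ RedSub.pow (Red.Ga S) m)), Set.range (lift x y).left.base ⊆ V →
        ∃ z : X ⟶ RedSub.pow (Red.Ga S) n ⊗ (D.T ⊗ RedSub.pow (Red.Ga S) m),
          z ≫ RedSub.cellMap D eneg epos = (x ≫ RedSub.cellMap D eneg epos) * (y ≫ RedSub.cellMap D eneg epos) ∧
          z ≫ snd _ _ ≫ fst _ _ ≫ D.split.hom.hom.hom ≫ Red.DSmap S N.subtype =
            (x ≫ snd _ _ ≫ fst _ _ ≫ D.split.hom.hom.hom ≫ Red.DSmap S N.subtype) *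
              (y ≫ snd _ _ ≫ fst _ _ ≫ D.split.hom.hom.hom ≫ Red.DSmap S N.subtype) := by
  letI := D.grpT
  letI := D.acgM
  letI := D.fintypeIdx
  letI := D.finiteM
  letI := D.freeM
  obtain ⟨f, hf⟩ := RootBase.exists_torusProj D eneg epos N hN
  haveI := hf.hom
  haveI := (S3951.result D b eneg epos hneg hpos).1
  let p := (fst _ _ ≫ RedSub.cellMap D eneg epos) * (snd _ _ ≫ RedSub.cellMap D eneg epos)
  have hp : ∀ {X : Over S} (x y : X ⟶ RedSub.pow (Red.Ga S) n ⊗ (D.T ⊗ RedSub.pow (Red.Ga S) m)),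
      lift x y ≫ p = (x ≫ RedSub.cellMap D eneg epos) * (y ≫ RedSub.cellMap D eneg epos) := fun x y => by
    show _ ≫ (_ * _) = _
    rw [MonObj.comp_mul, lift_fst_assoc, lift_snd_assoc]
  refine ⟨p.left.base ⁻¹' Set.range (RedSub.cellMap D eneg epos).left.base,
    (RedSub.cellMap D eneg epos).left.isOpenEmbedding.isOpen_range.preimage p.left.continuous, fun u₀ hu₀ => ?_,
    fun X x y hV => ?_⟩
  · rintro _ ⟨s, rfl⟩
    have e : lift u₀ u₀ ≫ p = η[G] := by rw [hp, hu₀, _root_.one_mul, MonObj.one_eq_one]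
    have h := congrArg (fun k => k.left.base s) e
    exact RootBase.unit_subset_cell D eneg epos ⟨s, h.symm⟩
  · obtain ⟨z, hz⟩ := RootBase.exists_cell_fac D ((x ≫ RedSub.cellMap D eneg epos) * (y ≫ RedSub.cellMap D eneg epos)) (by
      rw [← hp]
      rintro _ ⟨s, rfl⟩
      exact hV ⟨s, rfl⟩)
    refine ⟨z, hz, ?_⟩
    rw [← hf.cell, hz, MonObj.mul_comp, hf.cell, hf.cell]

end Groth.Agent.S5577
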