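import Groth.Statements.S5580
import Groth.Agent.QCTopos.Site
import Groth.Agent.QCTopos.Colim
import Groth.Agent.QCTopos.Algebraic

set_option autoImplicit false
open CategoryTheory CategoryTheory.Limits Opposite
universe u
open ToposFin

namespace Groth.Agent.S5580

/-- Quasi-compact and coherent cases: for the topos of sheaves of sets on a small site: let (X_i) be a
finite family of objects with coproduct X (given as a colimit cofan) and f : X -> Y a morphism with
components f_i : X_i -> Y. Then f is quasi-compact (resp. coherent) if and only if every f_i is. -/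
theorem result {C : Type u} [SmallCategory C] {J : GrothendieckTopology C}
    {Y : ToposFin.Sh J} {n : ℕ} (X : Fin n → ToposFin.Sh J) (c : Cofan X) (hc : IsColimit c)
    (f : c.pt ⟶ Y) :
    (ToposFin.IsQCHom f ↔ ∀ i, ToposFin.IsQCHom (c.inj i ≫ f)) ∧
    (ToposFin.IsCohHom f ↔ ∀ i, ToposFin.IsCohHom (c.inj i ≫ f)) := by
  have hJS : Groth.Agent.QCTopos.JS c.inj := Groth.Agent.QCTopos.js_of_cancel fun Z a b h => Limits.Cofan.IsColimit.hom_ext hc a b h
  let X' : ULift.{u} (Fin n) → ToposFin.Sh J := fun k => X k.down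
  let c' : Limits.Cofan X' := Limits.Cofan.mk c.pt fun k => c.inj k.down
  have hc' : Limits.IsColimit c' := Limits.mkCofanColimit _
    (fun t => Limits.Cofan.IsColimit.desc hc fun k => t.inj ⟨k⟩)
    (fun t k => Limits.Cofan.IsColimit.fac hc _ k.down)
    (fun t m hm => Limits.Cofan.IsColimit.hom_ext hc _ _ fun k =>
      (hm ⟨k⟩).trans (Limits.Cofan.IsColimit.fac hc (fun k => t.inj ⟨k⟩) k).symm)
  have hι : ∀ i, ToposFin.IsQCHom (c.inj i) ∧ Mono (c.inj i) := fun i => Groth.Agent.QCTopos.qchom_cofan_inj X' hc' ⟨i⟩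
  have hJS' : Groth.Agent.QCTopos.JS (F := X') c'.inj := hJS.of_factor (fun k => ⟨k⟩) (fun k => 𝟙 _) (fun k => Category.id_comp _)
  refine ⟨⟨fun h i => Groth.Agent.QCTopos.qchom_comp (hι i).1 h, Groth.Agent.QCTopos.qchom_of_cover_source hJS⟩, ⟨fun h i => ?_, fun h => ?_⟩⟩
  · haveI := (hι i).2
    exact ⟨Groth.Agent.QCTopos.qchom_comp (hι i).1 h.1, Groth.Agent.QCTopos.qshom_comp (Groth.Agent.QCTopos.qshom_of_mono _) h.2⟩
  · exact ⟨Groth.Agent.QCTopos.qchom_of_cover_source hJS fun i => (h i).1,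
      Groth.Agent.QCTopos.qshom_of_cover_source hJS' (fun k => (hι k.down).1) fun k => (h k.down).2⟩

end Groth.Agent.S5580
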