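import Groth.Statements.S5583
import Groth.Agent.QCTopos.Site
import Groth.Agent.QCTopos.Colim
import Groth.Agent.QCTopos.Algebraic

set_option autoImplicit false
open CategoryTheory CategoryTheory.Limits Opposite
universe u
open ToposFin

namespace Groth.Agent.S5583

/-- Let (C, J) be a small site with fibre products all of whose objects are quasi-compact. In the topos
of sheaves of sets, if G -> F <- H are morphisms between coherent objects and F lies over the sheaf
associated to some object of C, then G x_F H is coherent (so the coherent objects lying over such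
sheaves form a generating family stable under fibre products). -/
theorem result {C : Type u} [SmallCategory C] [HasPullbacks C]
    (J : GrothendieckTopology C) (hC : ∀ X : C, ToposFin.IsQCSite J X)
    {G H F : ToposFin.Sh J} (a : G ⟶ F) (b : H ⟶ F) (hG : ToposFin.IsCoherent G) (hH : ToposFin.IsCoherent H)
    (hF : ToposFin.IsCoherent F) (X : C) (w : F ⟶ ToposFin.eps J X) :
    ToposFin.IsCoherent (pullback a b) := by
  refine ⟨hF.2 _ _ a b hG.1 hH.1, ?_⟩
  haveI : Mono (Limits.pullback.map a b (a ≫ w) (b ≫ w) (𝟙 G) (𝟙 H) w (Category.id_comp _).symm (Category.id_comp _).symm) :=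
    ⟨fun x y h => Limits.pullback.hom_ext
      (by have h1 := congrArg (· ≫ Limits.pullback.fst (a ≫ w) (b ≫ w)) h; simp only [Category.assoc, Limits.pullback.map] at h1; erw [Limits.pullback.lift_fst, Category.comp_id] at h1; exact h1)
      (by have h1 := congrArg (· ≫ Limits.pullback.snd (a ≫ w) (b ≫ w)) h; simp only [Category.assoc, Limits.pullback.map] at h1; erw [Limits.pullback.lift_snd, Category.comp_id] at h1; exact h1)⟩
  exact Groth.Agent.QCTopos.qs_of_mono (Limits.pullback.map a b (a ≫ w) (b ≫ w) (𝟙 G) (𝟙 H) w (Category.id_comp _).symm (Category.id_comp _).symm)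
    (Groth.Agent.QCTopos.qs_pullback _ (Groth.Agent.QCTopos.qshom_to_eps hC _ hG.2) hH.2)

end Groth.Agent.S5583
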