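import Groth.Statements.S5586
import Groth.Agent.QCTopos.Site
import Groth.Agent.QCTopos.Colim
import Groth.Agent.QCTopos.Algebraic

set_option autoImplicit false
open CategoryTheory CategoryTheory.Limits Opposite
universe u
open ToposFin

namespace Groth.Agent.S5586

/-- Quasi-separated and coherent cases: for an algebraic topos of sheaves of sets on a small site: let f
: X -> Y be a morphism and (Y_i -> Y) a jointly epimorphic family. If the Y_i are quasi-separated
(resp. coherent), then f is quasi-separated (resp. coherent) if and only if every X x_Y Y_i is a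
quasi-separated (resp. coherent) object. -/
theorem result {C : Type u} [SmallCategory C]
    {J : GrothendieckTopology C} (hE : ToposFin.IsAlgebraic J) {X Y : ToposFin.Sh J} (f : X ⟶ Y)
    {ι : Type u} (Yi : ι → ToposFin.Sh J) (g : ∀ i, Yi i ⟶ Y)
    (hg : ∀ (Z : ToposFin.Sh J) (a b : Y ⟶ Z), (∀ i, g i ≫ a = g i ≫ b) → a = b) :
    ((∀ i, ToposFin.IsQS (Yi i)) → (ToposFin.IsQSHom f ↔ ∀ i, ToposFin.IsQS (pullback f (g i)))) ∧
    ((∀ i, ToposFin.IsCoherent (Yi i)) →
      (ToposFin.IsCohHom f ↔ ∀ i, ToposFin.IsCoherent (pullback f (g i)))) := by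
  have hE' := Groth.Agent.QCTopos.genBy_qc_of_isAlgebraic hE
  have hg' := Groth.Agent.QCTopos.js_of_cancel hg
  refine ⟨fun hY => ⟨fun h i => Groth.Agent.QCTopos.qs_pullback _ h (hY i), fun h => Groth.Agent.QCTopos.qshom_of_local hg' hE' fun i =>
    Groth.Agent.QCTopos.qshom_of_qs_of_algebraic hE _ (h i)⟩, fun hY => ⟨fun h i => ⟨h.1 _ _ (hY i).1, Groth.Agent.QCTopos.qs_pullback _ h.2 (hY i).2⟩,
    fun h => ⟨Groth.Agent.QCTopos.qchom_of_local hg' (fun W _ i b => hE' _) fun i => Groth.Agent.QCTopos.qchom_of_qc_to_qs _ (h i).1 (hY i).2,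
      Groth.Agent.QCTopos.qshom_of_local hg' hE' fun i => Groth.Agent.QCTopos.qshom_of_qs_of_algebraic hE _ (h i).2⟩⟩⟩

end Groth.Agent.S5586
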