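import Groth.Statements.S5587
import Groth.Agent.QCTopos.Site
import Groth.Agent.QCTopos.Colim
import Groth.Agent.QCTopos.Algebraic

set_option autoImplicit false
open CategoryTheory CategoryTheory.Limits Opposite
universe u
open ToposFin

namespace Groth.Agent.S5587

/-- For a locally coherent topos of sheaves of sets on a small site (given by a generating set of
quasi-compact objects stable under fibre products): a morphism f : X -> Y is quasi-separated if and
only if for every quasi-separated object Y' over Y the fibre product X x_Y Y' is quasi-separated. -/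
theorem result {C : Type u} [SmallCategory C]
    {J : GrothendieckTopology C} (S : Set (ToposFin.Sh J)) (hqc : ∀ K ∈ S, ToposFin.IsQC K)
    (hgen : ToposFin.IsGenerating S) (hpb : ToposFin.ClosedUnderPullbacks S) {X Y : ToposFin.Sh J} (f : X ⟶ Y) :
    ToposFin.IsQSHom f ↔
      ∀ (Y' : ToposFin.Sh J) (g : Y' ⟶ Y), ToposFin.IsQS Y' → ToposFin.IsQS (pullback f g) := by
  have hS := Groth.Agent.QCTopos.genBy_of_isGenerating hgen
  have hE' := Groth.Agent.QCTopos.genBy_of_hasQCGenerators (Groth.Agent.QCTopos.hasQCGenerators_of_genBy hS hqc)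
  refine ⟨fun h Y' g hY' => Groth.Agent.QCTopos.qs_pullback g h hY', fun h => ?_⟩
  obtain ⟨ι, F, π, hF, hπ⟩ := hS Y
  refine Groth.Agent.QCTopos.qshom_of_local hπ hE' fun i => ?_
  obtain ⟨κ, G, ρ, hG, hρ⟩ := hS (Limits.pullback f (π i))
  refine Groth.Agent.QCTopos.qshom_of_qs hE' hρ (fun k => hqc _ (hG k)) (fun k l => ?_) (h _ _ (Groth.Agent.QCTopos.qs_of_mem hqc hgen hpb (hF i)))
  obtain ⟨P, p, q, hP, hpq⟩ := hpb (ρ k ≫ Limits.pullback.snd f (π i)) (ρ l ≫ Limits.pullback.snd f (π i)) (hG k) (hG l) (hF i)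
  exact Groth.Agent.QCTopos.qs_of_iso hpq.isoPullback (Groth.Agent.QCTopos.qs_of_mem hqc hgen hpb hP)

end Groth.Agent.S5587
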