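import Groth.Statements.S5592
import Groth.Agent.EtShLib.BaseChange
import Groth.Agent.EtShLib.FieldExt
import Groth.Agent.S3055

set_option autoImplicit false
open CategoryTheory CategoryTheory.Limits AlgebraicGeometry Opposite
universe u
open EtDesc

namespace Groth.Agent.S5592

/-- Let k' be a separably closed extension field of a separably closed field k and u : Spec k' -> Spec k
the canonical morphism. Then the inverse image functor u^* from etale sheaves of sets on Spec k to
etale sheaves of sets on Spec k' is an equivalence of categories. -/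
theorem result (k k' : Type u) [Field k] [IsSepClosed k]
    [Field k'] [IsSepClosed k'] [Algebra k k'] :
    (EtDesc.pullSh (Spec.map (CommRingCat.ofHom (algebraMap k k')))).IsEquivalence := by
  let q := Spec.map (CommRingCat.ofHom (algebraMap k k'))
  haveI : Flat q := by
    rw [HasRingHomProperty.Spec_iff (P := @Flat)]
    exact RingHom.flat_algebraMap_iff.mpr inferInstance
  haveI : Surjective q := ⟨fun x => ⟨default, Subsingleton.elim (α := Spec (CommRingCat.of k)) _ _⟩⟩
  haveI : ∀ G, IsIso ((EtDesc.adjSh q).unit.app G) := fun G => Groth.Agent.EtShLib.isIso_unit q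
    (fun S' t => Groth.Agent.EtShLib.isQuotientMap_snd_of_flat q S' t)
    (fun Ω _ _ s => Groth.Agent.EtShLib.connectedSpace_field_ext s) G
  haveI : IsIso (EtDesc.adjSh q).unit := NatIso.isIso_of_isIso_app _
  let Γ := (sheafSections (Spec (CommRingCat.of k)).smallEtaleTopology (Type (u + 1))).obj
    (op (EtCoh.top (Spec (CommRingCat.of k))))
  let Γ' := (sheafSections (Spec (CommRingCat.of k')).smallEtaleTopology (Type (u + 1))).obj
    (op (EtCoh.top (Spec (CommRingCat.of k'))))
  haveI : Γ.IsEquivalence := Groth.Agent.S3055.result k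
  haveI : Γ'.IsEquivalence := Groth.Agent.S3055.result k'
  let e : EtDesc.pushSh q ⋙ Γ ≅ Γ' := NatIso.ofComponents (fun G => G.obj.mapIso (EtCore.bcTopIso q).symm.op)
    (fun {G G'} a => (a.hom.naturality _).symm)
  let e' : EtDesc.pullSh q ⋙ Γ' ≅ Γ :=
    Functor.isoWhiskerLeft (EtDesc.pullSh q) e.symm ≪≫ (Functor.associator _ _ _).symm ≪≫
      Functor.isoWhiskerRight (asIso (EtDesc.adjSh q).unit).symm Γ ≪≫ Γ.leftUnitor
  haveI : (EtDesc.pullSh q ⋙ Γ').IsEquivalence := Functor.isEquivalence_of_iso e'.symm
  exact Functor.isEquivalence_of_comp_right (EtDesc.pullSh q) Γ'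

end Groth.Agent.S5592
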