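import Groth.Statements.S5613
import Groth.Agent.PerfLocal.K0
import Mathlib.Tactic.Ring

set_option autoImplicit false
universe v u
open CategoryTheory CategoryTheory.Limits CategoryTheory.Pretriangulated
open KZero

namespace Groth.Agent.S5613

/-- Let C be a pretriangulated category, L an object of C and n an integer such that the coproduct ∐_{i
≥ 0} L⟦2ni⟧ exists in C. Then cl(L) = 0 in K₀(C). -/
theorem result {C : Type u} [Category.{v} C] [Preadditive C] [HasZeroObject C]
    [HasShift C ℤ] [∀ n : ℤ, (shiftFunctor C n).Additive] [Pretriangulated C]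
    (L : C) (n : ℤ) [HasCoproduct (fun i : ℕ => (shiftFunctor C (2 * n * (i : ℤ))).obj L)] :
    KZero.clTri L = 0 := by
  classical
  have key : ∀ X : C, KZero.clTri X = KZero.clTr (⊤ : ObjectProperty C) X := fun X => by
    rw [KZero.clTr, dif_pos (show (⊤ : ObjectProperty C) X from trivial)]; rfl
  let f : ℕ → C := fun i => (shiftFunctor C (2 * n * (i : ℤ))).obj L
  let M : C := ∐ f
  let S := shiftFunctor C (2 * n)
  let e0 : L ≅ f 0 :=
    ((shiftFunctorZero C ℤ).app L).symm ≪≫
      eqToIso (by simp [f])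
  let e : ∀ i : ℕ, S.obj (f i) ≅ f (i + 1) := fun i =>
    ((shiftFunctorAdd' C (2 * n * (i : ℤ)) (2 * n) (2 * n * ((i + 1 : ℕ) : ℤ)) (by push_cast; ring)).symm.app L)
  have hc : IsColimit (Cofan.mk (S.obj M) (fun i => S.map (Sigma.ι f i))) :=
    isColimitCofanMkObjOfIsColimit S f _ (coproductIsCoproduct f)
  let hom : M ⟶ L ⊞ S.obj M := Sigma.desc (fun i => match i with
    | 0 => e0.inv ≫ biprod.inl
    | i + 1 => (e i).inv ≫ S.map (Sigma.ι f i) ≫ biprod.inr)
  let inv : L ⊞ S.obj M ⟶ M := biprod.desc (e0.hom ≫ Sigma.ι f 0)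
    (Cofan.IsColimit.desc hc (fun i => (e i).hom ≫ Sigma.ι f (i + 1)))
  have hι : ∀ i, S.map (Sigma.ι f i) ≫ Cofan.IsColimit.desc hc (fun i => (e i).hom ≫ Sigma.ι f (i + 1))
      = (e i).hom ≫ Sigma.ι f (i + 1) := fun i => Cofan.IsColimit.fac hc _ i
  let φ : M ≅ L ⊞ S.obj M :=
    { hom := hom
      inv := inv
      hom_inv_id := by
        apply Sigma.hom_ext
        rintro (_ | i)
        · simp [hom, inv, f]; exact (Category.comp_id _).symm
        · simp [hom, inv, f, hι]; exact (Category.comp_id _).symm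
      inv_hom_id := by
        apply biprod.hom_ext'
        · simp [hom, inv, f]
        · apply Cofan.IsColimit.hom_ext hc
          intro i
          show S.map (Sigma.ι f i) ≫ _ = S.map (Sigma.ι f i) ≫ _
          simp [hom, inv, f, reassoc_of% (hι i)]; rfl }
  have h1 : KZero.clTr (⊤ : ObjectProperty C) (L ⊞ S.obj M) = KZero.clTr ⊤ L + KZero.clTr ⊤ (S.obj M) :=
    Groth.Agent.PerfLocal.clTr_add _ (binaryBiproductTriangle_distinguished L (S.obj M)) trivial trivial trivial
  have h2 : KZero.clTr (⊤ : ObjectProperty C) (L ⊞ S.obj M) = KZero.clTr ⊤ M :=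
    Groth.Agent.PerfLocal.clTr_eq_of_iso φ trivial trivial trivial
  have hs : ∀ (X : C) (a : ℤ), KZero.clTr (⊤ : ObjectProperty C) (X⟦2 * a⟧) = KZero.clTr ⊤ X := by
    intro X
    have h0 : KZero.clTr (⊤ : ObjectProperty C) (X⟦(0 : ℤ)⟧) = KZero.clTr ⊤ X :=
      Groth.Agent.PerfLocal.clTr_eq_of_iso ((shiftFunctorZero C ℤ).app X).symm trivial trivial trivial
    have hstep : ∀ m : ℤ, KZero.clTr (⊤ : ObjectProperty C) (X⟦m + 1⟧) = -KZero.clTr ⊤ (X⟦m⟧) := fun m => by
      rw [← Groth.Agent.PerfLocal.clTr_shift (P := (⊤ : ObjectProperty C)) trivial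
        (X := X⟦m⟧) trivial trivial]
      exact Groth.Agent.PerfLocal.clTr_eq_of_iso ((shiftFunctorAdd C m 1).app X).symm trivial trivial trivial
    intro a
    induction a using Int.induction_on with
    | zero => simpa using h0
    | succ k ih =>
      rw [show (2 : ℤ) * ((k : ℤ) + 1) = (2 * (k : ℤ) + 1) + 1 by ring, hstep, hstep, neg_neg, ih]
    | pred k ih =>
      rw [show (2 : ℤ) * -(k : ℤ) = (2 * (-(k : ℤ) - 1) + 1) + 1 by ring, hstep, hstep, neg_neg] at ih
      exact ih
  rw [h1, hs M n] at h2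
  rw [key]
  exact add_eq_right.1 h2

end Groth.Agent.S5613
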