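import Groth.Statements.S5614


set_option autoImplicit false
universe v u
open CategoryTheory CategoryTheory.Limits CategoryTheory.Pretriangulated
open KZero

namespace Groth.Agent.S5614

/-- Let C be a pretriangulated category and S a dense set of objects, meaning that every set of objects
which contains S and which contains the third vertex of a distinguished triangle as soon as it
contains the other two is all of C. Then K₀(C) is generated by the classes of the objects of S. -/
theorem result {C : Type u} [Category.{v} C] [Preadditive C] [HasZeroObject C]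
    [HasShift C ℤ] [∀ n : ℤ, (shiftFunctor C n).Additive] [Pretriangulated C]
    (S : Set C)
    (hdense : ∀ T : Set C, S ⊆ T →
      (∀ tr : Triangle C, tr ∈ distinguishedTriangles →
        (tr.obj₁ ∈ T → tr.obj₂ ∈ T → tr.obj₃ ∈ T) ∧ (tr.obj₁ ∈ T → tr.obj₃ ∈ T → tr.obj₂ ∈ T) ∧
          (tr.obj₂ ∈ T → tr.obj₃ ∈ T → tr.obj₁ ∈ T)) → T = Set.univ) :
    AddSubgroup.closure (KZero.clTri '' S) = (⊤ : AddSubgroup (KZero.K0tri C)) := by
  let H := AddSubgroup.closure (KZero.clTri '' S)
  have hT : {X : C | KZero.clTri X ∈ H} = Set.univ := by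
    refine hdense _ (fun X hX => AddSubgroup.subset_closure ⟨X, hX, rfl⟩) fun tr htr => ?_
    have hrel : KZero.clTri tr.obj₂ = KZero.clTri tr.obj₁ + KZero.clTri tr.obj₃ := by
      rw [← sub_eq_zero, ← sub_sub]
      exact (QuotientAddGroup.eq_zero_iff _).2 (AddSubgroup.subset_closure ⟨tr, trivial, trivial, trivial, htr, rfl⟩)
    refine ⟨fun h1 h2 => ?_, fun h1 h3 => ?_, fun h2 h3 => ?_⟩
    · show KZero.clTri tr.obj₃ ∈ H
      rw [show KZero.clTri tr.obj₃ = KZero.clTri tr.obj₂ - KZero.clTri tr.obj₁ by rw [hrel]; abel]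
      exact sub_mem h2 h1
    · show KZero.clTri tr.obj₂ ∈ H
      rw [hrel]
      exact add_mem h1 h3
    · show KZero.clTri tr.obj₁ ∈ H
      rw [show KZero.clTri tr.obj₁ = KZero.clTri tr.obj₂ - KZero.clTri tr.obj₃ by rw [hrel]; abel]
      exact sub_mem h2 h3
  refine eq_top_iff.2 fun z hz => ?_; clear hz
  obtain ⟨y, rfl⟩ := QuotientAddGroup.mk_surjective z
  induction y using FreeAbelianGroup.induction_on with
  | zero => exact zero_mem _
  | of X => exact (Set.eq_univ_iff_forall.1 hT X.1 : KZero.clTri X.1 ∈ H)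
  | neg X hX => exact neg_mem hX
  | add x y hx hy => exact add_mem hx hy

end Groth.Agent.S5614
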