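import Groth.Statements.S5615


set_option autoImplicit false
universe v u
open CategoryTheory CategoryTheory.Limits
open KZero

namespace Groth.Agent.S5615

/-- Let A be an abelian category and S a dense set of objects, meaning that every set of objects which
contains S and which contains the third term of a short exact sequence as soon as it contains the
other two is all of A. Then K₀(A) is generated by the classes of the objects of S. -/
theorem result {A : Type u} [Category.{v} A] [Abelian A] (S : Set A)
    (hdense : ∀ T : Set A, S ⊆ T →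
      (∀ X : ShortComplex A, X.ShortExact →
        (X.X₁ ∈ T → X.X₂ ∈ T → X.X₃ ∈ T) ∧ (X.X₁ ∈ T → X.X₃ ∈ T → X.X₂ ∈ T) ∧
          (X.X₂ ∈ T → X.X₃ ∈ T → X.X₁ ∈ T)) → T = Set.univ) :
    AddSubgroup.closure (KZero.cl '' S) = (⊤ : AddSubgroup (KZero.K0 A)) := by
  let H := AddSubgroup.closure (KZero.cl '' S)
  have hT : {X : A | KZero.cl X ∈ H} = Set.univ := by
    refine hdense _ (fun X hX => AddSubgroup.subset_closure ⟨X, hX, rfl⟩) fun T hT => ?_
    have hrel : KZero.cl T.X₂ = KZero.cl T.X₁ + KZero.cl T.X₃ := by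
      rw [← sub_eq_zero, ← sub_sub]
      exact (QuotientAddGroup.eq_zero_iff _).2 (AddSubgroup.subset_closure ⟨T, hT, rfl⟩)
    refine ⟨fun h1 h2 => ?_, fun h1 h3 => ?_, fun h2 h3 => ?_⟩
    · show KZero.cl T.X₃ ∈ H
      rw [show KZero.cl T.X₃ = KZero.cl T.X₂ - KZero.cl T.X₁ by rw [hrel]; abel]
      exact sub_mem h2 h1
    · show KZero.cl T.X₂ ∈ H
      rw [hrel]
      exact add_mem h1 h3
    · show KZero.cl T.X₁ ∈ H
      rw [show KZero.cl T.X₁ = KZero.cl T.X₂ - KZero.cl T.X₃ by rw [hrel]; abel]
      exact sub_mem h2 h3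
  refine eq_top_iff.2 fun z hz => ?_; clear hz
  obtain ⟨y, rfl⟩ := QuotientAddGroup.mk_surjective z
  induction y using FreeAbelianGroup.induction_on with
  | zero => exact zero_mem _
  | of X => exact (Set.eq_univ_iff_forall.1 hT X : KZero.cl X ∈ H)
  | neg X hX => exact neg_mem hX
  | add x y hx hy => exact add_mem hx hy

end Groth.Agent.S5615
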