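import Groth.Statements.S5625
import Mathlib
import Groth.Agent.QC.Localisation
import Groth.Agent.QC.Pullback

set_option autoImplicit false
set_option backward.isDefEq.respectTransparency false
universe u
open CategoryTheory AlgebraicGeometry
open QCohCat

namespace Groth.Agent.S5625

/-- Let f : X ⟶ Y be a morphism of quasi-compact quasi-separated schemes and Q_X, Q_Y coherators (right
adjoints of the inclusions QCoh ⥤ Mod) on X and Y. Then Q_Y ∘ f_* and f_* ∘ Q_X agree: the two
composite functors Mod(O_X) ⥤ Mod(O_Y) are naturally isomorphic (existence of a natural isomorphism;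
the source's isomorphism is the canonical one between two right adjoints of the same functor). -/
theorem result {X Y : Scheme.{u}} [CompactSpace X] [QuasiSeparatedSpace X]
    [CompactSpace Y] [QuasiSeparatedSpace Y] (f : X ⟶ Y)
    (QX : X.Modules ⥤ QCohCat.QCoh X) (adjX : (QCohCat.isQCoh X).ι ⊣ QX)
    (QY : Y.Modules ⥤ QCohCat.QCoh Y) (adjY : (QCohCat.isQCoh Y).ι ⊣ QY) :
    Nonempty ((QX ⋙ (QCohCat.isQCoh X).ι ⋙ Scheme.Modules.pushforward f) ≅
      (Scheme.Modules.pushforward f ⋙ QY ⋙ (QCohCat.isQCoh Y).ι)) := by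
  haveI : QuasiCompact f := inferInstance
  haveI : QuasiSeparated f := inferInstance
  let pf : QCohCat.QCoh X ⥤ QCohCat.QCoh Y := ObjectProperty.lift _
    ((QCohCat.isQCoh X).ι ⋙ Scheme.Modules.pushforward f)
    (fun M => @Groth.Agent.QC.isQCoh_pushforward _ _ _ M.property f _ _)
  let pb : QCohCat.QCoh Y ⥤ QCohCat.QCoh X := ObjectProperty.lift _
    ((QCohCat.isQCoh Y).ι ⋙ Scheme.Modules.pullback f) (fun M => Groth.Agent.QC.isQCoh_pullback f M.property)
  let adjf : pb ⊣ pf := Adjunction.restrictFullyFaithful (Scheme.Modules.pullbackPushforwardAdjunction f)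
    (QCohCat.isQCoh Y).fullyFaithfulι (QCohCat.isQCoh X).fullyFaithfulι (Iso.refl _) (Iso.refl _)
  let e₀ : pb ⋙ (QCohCat.isQCoh X).ι ≅ (QCohCat.isQCoh Y).ι ⋙ Scheme.Modules.pullback f := Iso.refl _
  let e : QX ⋙ pf ≅ Scheme.Modules.pushforward f ⋙ QY :=
    ((adjf.comp adjX).ofNatIsoLeft e₀).rightAdjointUniq (adjY.comp (Scheme.Modules.pullbackPushforwardAdjunction f))
  exact ⟨Functor.isoWhiskerLeft QX (Iso.refl (pf ⋙ (QCohCat.isQCoh Y).ι)) ≪≫
    (Functor.associator QX pf _).symm ≪≫ Functor.isoWhiskerRight e _ ≪≫ Functor.associator _ _ _⟩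

end Groth.Agent.S5625
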