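import Groth.Statements.S5632
import Groth.Agent.Nakai.SectionDim
import Groth.Agent.Intersect.ProjSpace

set_option autoImplicit false
universe u
open CategoryTheory CategoryTheory.Limits AlgebraicGeometry
open Pic13

namespace Groth.Agent.S5632

/-- Let k be an algebraically closed field, X ⊆ P^n_k an integral closed subscheme of dimension r = s +
1 ≥ 1, with O_X(1) and O_X(-1) the restrictions of O(1) and O(-1). Let L be an invertible O_X-module
with inverse L' (L ⊗ L' ≅ O_X) whose degree (c₁(L)·c₁(O_X(1))^{r-1}) is ≤ 0 and with H^0(X, L) ≠ 0.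
Then L ≅ O_X (so that its degree is 0 and h^0(L) = 1). Intersection numbers are those of FGA.intNum,
which takes the inverse modules L', O_X(-1) as arguments. -/
theorem result (k : Type u) [Field k] [IsAlgClosed k] (n : ℕ) (X : Scheme.{u}) [X.Over (Spec (CommRingCat.of k))]
    (i : X ⟶ CohB1.ProjSpace n k) [IsClosedImmersion i] (hi : i ≫ CohB1.ProjSpace.toSpec n k = X ↘ Spec (CommRingCat.of k))
    [IsIntegral X] (s : ℕ) (hdim : topologicalKrullDim X = (s + 1 : ℕ))
    (L L' : X.Modules) (hL : PicF.IsInvertible L) (hLL' : Nonempty (CohB1.tensorMod L L' ≅ Coh.structureModule X))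
    (hdeg : FGA.intNum k X (s + 1)
      (Matrix.vecCons L' (fun _ : Fin s => (Scheme.Modules.pullback i).obj (Twist.twistProjSpace n k (-1))))
      (Coh.structureModule X) ≤ 0)
    (hsec : Nontrivial (Coh.HH X L 0)) :
    Nonempty (L ≅ Coh.structureModule X) := by
  letI : (CohB1.ProjSpace n k).Over (Spec (CommRingCat.of k)) := ⟨CohB1.ProjSpace.toSpec n k⟩
  haveI : IsProper (X ↘ Spec (CommRingCat.of k)) := by
    haveI := ProjMor.isProper_toSpec n k
    rw [← hi]; infer_instance
  haveI := Groth.Agent.CurveRR.isNoetherian_of_proper k X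
  have hO := Groth.Agent.RefStalk.isCoh_structureModule (X := X)
  let H := (Scheme.Modules.pullback i).obj (Twist.twistProjSpace n k 1)
  have hH : CohB1.IsAmple H := TMul.isAmple_pullback_of_isAffineHom i (Groth.Agent.Intersect.isAmple_twistProj_one n k)
  have hHH : Nonempty (CohB1.tensorMod H ((Scheme.Modules.pullback i).obj (Twist.twistProjSpace n k (-1))) ≅
      Coh.structureModule X) := by
    obtain ⟨e⟩ := Groth.Agent.Intersect.nonempty_twist_inverse (n := n) (k := k) 1
    obtain ⟨c⟩ := TMul.nonempty_pullTensorIso i (Twist.twistProjSpace n k (((1 : ℕ) : ℤ))) (Twist.twistProjSpace n k (-(((1 : ℕ) : ℤ))))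
    exact ⟨c ≪≫ (Scheme.Modules.pullback i).mapIso e ≪≫ PicLoc.pullbackStructureIso i⟩
  have hpos : 0 < Module.finrank k (Coh.HH X L 0) := by
    haveI : Module.Finite k (Coh.HH X L 0) := Groth.Agent.CohFinite.finite_proper k X _ (Groth.Agent.Nakai.isCoh_inv k hL) 0
    haveI := hsec
    exact Module.finrank_pos
  obtain ⟨t, ht⟩ := Groth.Agent.Nakai.exists_section_of_h0 k (G := L) hpos
  by_cases hi : IsIso t
  · exact ⟨(asIso t).symm⟩
  exfalso
  have h := Groth.Agent.Nakai.deg_pos_of_section k hH hL t ht hi hdim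
  have hOd : topologicalKrullDim (CohB1.support (Coh.structureModule X)) ≤ ((s + 1 : ℕ) : WithBot ℕ∞) :=
    (Groth.Agent.Intersect.dim_support_structure.trans hdim).le
  have h1 := Groth.Agent.Intersect.intNum_eq_alt k (s + 1) hdim.le
    (Fin.cons L' (fun _ : Fin s => (Scheme.Modules.pullback i).obj (Twist.twistProjSpace n k (-1)))) (Coh.structureModule X)
  rw [Groth.Agent.Intersect.alt_inverse k (s + 1) (Fin.cons L (fun _ : Fin s => H))
    (Fin.cons L' (fun _ : Fin s => (Scheme.Modules.pullback i).obj (Twist.twistProjSpace n k (-1))))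
    (Fin.cases hL fun _ => hH.1) (Fin.cases (Groth.Agent.Intersect.isInvertible_inverse hL hLL')
      fun _ => Groth.Agent.Intersect.isInvertible_inverse hH.1 hHH)
    (Fin.cases hLL' fun _ => hHH) _ hO hOd,
    Groth.Agent.Intersect.alt_cons, ← Groth.Agent.Nakai.D_replicate, ← Groth.Agent.Nakai.D_replicate] at h1
  rw [Groth.Agent.Nakai.D, ← h1] at h
  have h2 : (0 : ℤ) < FGA.intNum k X (s + 1)
      (Fin.cons L' (fun _ : Fin s => (Scheme.Modules.pullback i).obj (Twist.twistProjSpace n k (-1))))
      (Coh.structureModule X) := by exact_mod_cast h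
  exact absurd hdeg (not_le.2 h2)

end Groth.Agent.S5632
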