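import Groth.Statements.S5634
import Mathlib
import Groth.Agent.DegBound.Radical

set_option autoImplicit false
universe u
open CAlg

namespace Groth.Agent.S5634

/-- A set of polynomials of degree at most `m` can be replaced by a family indexed by the monomials. -/
theorem exists_family {k : Type u} [Field k] {N m : ℕ} (S : Set (MvPolynomial (Fin N) k))
    (hS : ∀ p ∈ S, p.totalDegree ≤ m) :
    ∃ p : Fin (Fintype.card (DegBound.Mon N m)) → MvPolynomial (Fin N) k,
      (∀ i, (p i).totalDegree ≤ m) ∧ Ideal.span (Set.range p) = Ideal.span S := by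
  classical
  let T : Submodule k (MvPolynomial (Fin N) k) :=
    Submodule.span k (Set.range fun s : DegBound.Mon N m => MvPolynomial.monomial s.toFinsupp (1 : k))
  haveI : Module.Finite k T := Module.Finite.span_of_finite k (Set.finite_range _)
  have hle : Submodule.span k S ≤ T := Submodule.span_le.2 fun p hp => by
    rw [SetLike.mem_coe, DegBound.eq_sum_mon p (hS p hp)]
    refine Submodule.sum_mem _ fun s _ => ?_
    rw [show MvPolynomial.monomial s.toFinsupp (p.coeff s.toFinsupp) =
      p.coeff s.toFinsupp • MvPolynomial.monomial s.toFinsupp (1 : k) by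
        rw [MvPolynomial.smul_monomial, smul_eq_mul, mul_one]]
    exact T.smul_mem _ (Submodule.subset_span ⟨s, rfl⟩)
  haveI : Module.Finite k (Submodule.span k S) := Submodule.finiteDimensional_of_le hle
  obtain ⟨b, hbS, hbspan, hli⟩ := exists_linearIndependent k S
  have hbspan' : Submodule.span k b = Submodule.span k S := hbspan
  haveI : Finite b := by
    have hli' : LinearIndependent k (fun x : b => (⟨(x : MvPolynomial (Fin N) k), Submodule.subset_span (hbS x.2)⟩ : Submodule.span k S)) :=
      LinearIndependent.of_comp (Submodule.span k S).subtype hli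
    exact hli'.finite
  haveI := Fintype.ofFinite b
  have hcard : Fintype.card b ≤ Fintype.card (DegBound.Mon N m) := by
    have h1 : Fintype.card b = Module.finrank k (Submodule.span k b) := by
      rw [← finrank_span_eq_card hli, Subtype.range_coe]
    rw [h1, hbspan']
    exact (Submodule.finrank_mono hle).trans (finrank_range_le_card _)
  let e := Fintype.equivFin b
  let p : Fin (Fintype.card (DegBound.Mon N m)) → MvPolynomial (Fin N) k :=
    fun i => if h : (i : ℕ) < Fintype.card b then ((e.symm ⟨i, h⟩ : b) : MvPolynomial (Fin N) k) else 0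
  have hpS : ∀ i, p i ∈ Ideal.span S ∧ (p i).totalDegree ≤ m := fun i => by
    simp only [p]
    split_ifs with h
    · exact ⟨Ideal.subset_span (hbS (e.symm ⟨i, h⟩).2), hS _ (hbS (e.symm ⟨i, h⟩).2)⟩
    · simp
  refine ⟨p, fun i => (hpS i).2, le_antisymm (Ideal.span_le.2 (Set.range_subset_iff.2 fun i => (hpS i).1)) ?_⟩
  refine Ideal.span_le.2 fun x hx => ?_
  have h1 : x ∈ Submodule.span k b := hbspan'.ge (Submodule.subset_span hx)
  refine Submodule.span_le_restrictScalars k (MvPolynomial (Fin N) k) _ (Submodule.span_mono ?_ h1)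
  intro y hy
  refine ⟨⟨e ⟨y, hy⟩, lt_of_lt_of_le (e ⟨y, hy⟩).2 hcard⟩, ?_⟩
  simp only [p]
  rw [dif_pos (e ⟨y, hy⟩).2]
  simp

/-- For every N there is a function R_N such that, for every field k₀, every m and every ideal I of
k₀[T_1, …, T_N] generated by polynomials of total degree ≤ m, the radical of I is generated by
polynomials of total degree ≤ R_N(m). (The published statement gives R_N as a polynomial in m; this
row asserts only a bound depending on N and m, uniform in the field and the ideal.) -/
theorem result (N : ℕ) :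
    ∃ R : ℕ → ℕ, ∀ (k₀ : Type u) [Field k₀] (m : ℕ) (S : Set (MvPolynomial (Fin N) k₀)),
      (∀ p ∈ S, p.totalDegree ≤ m) →
        ∃ S' : Set (MvPolynomial (Fin N) k₀), (∀ q ∈ S', q.totalDegree ≤ R m) ∧ Ideal.span S' = (Ideal.span S).radical := by
  classical
  choose R hR using fun m : ℕ => DegBound.exists_rad_bound.{u} N m (Fintype.card (DegBound.Mon N m))
  refine ⟨R, fun k _ m S hS => ?_⟩
  obtain ⟨p, hp, hspan⟩ := exists_family S hS
  refine ⟨{q | q ∈ (Ideal.span S).radical ∧ q.totalDegree ≤ R m}, fun q hq => hq.2,
    le_antisymm (Ideal.span_le.2 fun q hq => hq.1) ?_⟩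
  rw [← hspan]
  exact hR m k p hp

end Groth.Agent.S5634
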