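import Groth.Statements.S5639
import Groth.Agent.SerrePn.LinForms

set_option backward.isDefEq.respectTransparency false
set_option backward.isDefEq.respectTransparency.types false

set_option autoImplicit false
universe u
open CategoryTheory CategoryTheory.Limits AlgebraicGeometry
open Pic13

namespace Groth.Agent.S5639

/-- Let k be an algebraically closed field, P = P^N_k and F a coherent O_P-module none of whose
associated points is a closed point of P. Then H^0(P, F(-n)) = 0 for every integer n ≥ h^0(F), where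
F(d) = F ⊗ O(d) and h^0(F) is the dimension of H^0(P, F) over k. -/
theorem result (k : Type u) [Field k] [IsAlgClosed k] (N : ℕ) (F : (CohB1.ProjSpace N k).Modules) (hF : Coh.IsCoh F)
    (hass : ∀ x : ↥(CohB1.ProjSpace N k), Curv2.IsAssPoint F x → ¬ IsClosed ({x} : Set ↥(CohB1.ProjSpace N k)))
    (n : ℕ) (hn : Module.finrank k (Coh.HH (CohB1.ProjSpace N k) F 0) ≤ n) :
    Subsingleton (Coh.HH (CohB1.ProjSpace N k) (CohB1.tensorMod F (Twist.twistProjSpace N k (-(n : ℤ)))) 0) := by
  haveI := Groth.Agent.CohFinite.isNoetherian_projSpace N k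
  have key : ∀ j : ℕ, Module.finrank k (Coh.HH (CohB1.ProjSpace N k) (Groth.Agent.Horrocks.tw F (-(j : ℤ))) 0) ≤
      Module.finrank k (Coh.HH (CohB1.ProjSpace N k) F 0) - j := by
    intro j
    induction j with
    | zero =>
      obtain ⟨e⟩ := Groth.Agent.Horrocks.tw_zero F
      rw [Nat.cast_zero, neg_zero, Nat.sub_zero, (Groth.Agent.CohFinite.hhEquiv k e 0).finrank_eq]
    | succ j ih =>
      obtain ⟨e⟩ := Groth.Agent.Horrocks.tw_tw F (-(j : ℤ)) (-1) (-((j + 1 : ℕ) : ℤ)) (by push_cast; ring)
      rw [← (Groth.Agent.CohFinite.hhEquiv k e 0).finrank_eq]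
      rcases Nat.eq_zero_or_pos (Module.finrank k (Coh.HH (CohB1.ProjSpace N k) (Groth.Agent.Horrocks.tw F (-(j : ℤ))) 0))
        with h | h
      · exact le_trans (Groth.Agent.SerrePn.finrank_twist_le _ (Groth.Agent.Horrocks.isCoh_tw hF (-(j : ℤ))))
          (le_of_eq_of_le h (Nat.zero_le _))
      · refine le_trans ?_ (Nat.sub_le_sub_right ih 1)
        have hd := Groth.Agent.SerrePn.finrank_drop _ (Groth.Agent.Horrocks.isCoh_tw hF (-(j : ℤ)))
          (fun x hx => hass x ((Groth.Agent.SerrePn.isAssPoint_tw F (-(j : ℤ)) x).1 hx)) h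
        exact Nat.le_sub_one_of_lt hd
  have h := key n
  rw [Nat.sub_eq_zero_of_le hn, Nat.le_zero] at h
  haveI := Groth.Agent.CohFinite.finite_projSpace N k _ (Groth.Agent.Horrocks.isCoh_tw hF (-(n : ℤ))) 0
  exact Module.finrank_zero_iff.1 h

end Groth.Agent.S5639
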