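import Groth.Statements.S5641
import Groth.Agent.SmoothStrat.GeomIntSpread

set_option autoImplicit false
universe u
open CategoryTheory CategoryTheory.Limits AlgebraicGeometry
open FlatMor

namespace Groth.Agent.S5641

/-- Let S be an integral Noetherian scheme and f : X ⟶ S a morphism of finite type. Then there are a
nonempty open subscheme V of S, an integral scheme S' and a finite flat surjective morphism h : S' ⟶
V such that every irreducible component of X' = X ×_S S', given its reduced closed-subscheme
structure, is flat over S' with geometrically integral fibres. (Fibres over all points of S' are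
nonempty here, which the published statement does not require; it is obtained by shrinking V once
more.) -/
theorem result {X S : Scheme.{u}} [IsNoetherian S] [IsIntegral S]
    (f : X ⟶ S) [LocallyOfFiniteType f] [QuasiCompact f] :
    ∃ (V : S.Opens) (S' : Scheme.{u}) (h : S' ⟶ (V : Scheme.{u})), (V : Set S).Nonempty ∧ IsIntegral S' ∧
      IsFinite h ∧ Flat h ∧ Surjective h ∧
      ∀ (Z : Scheme.{u}) (i : Z ⟶ pullback f (h ≫ V.ι)) [IsClosedImmersion i] [IsReduced Z],
        Set.range i.base ∈ irreducibleComponents ↥(pullback f (h ≫ V.ι)) →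
          Flat (i ≫ pullback.snd f (h ≫ V.ι)) ∧ GeometricallyIntegral (i ≫ pullback.snd f (h ≫ V.ι)) := by
  obtain ⟨y⟩ := (inferInstance : Nonempty S)
  obtain ⟨W, hW, hy, -⟩ := exists_isAffineOpen_mem_and_subset (x := y) (U := ⊤) trivial
  let A := Γ(S, W)
  let w : Spec A ⟶ S := hW.fromSpec
  haveI : Nonempty W.toScheme := ⟨⟨y, hy⟩⟩
  haveI : IsIntegral W.toScheme := isIntegral_of_isOpenImmersion W.ι
  haveI : IsDomain A := inferInstance
  haveI : IsNoetherianRing A := IsLocallyNoetherian.component_noetherian ⟨W, hW⟩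
  let fW := pullback.snd f w
  obtain ⟨V, S', h, hne, hS', hfin, hfl, hsurj, hall⟩ :=
    Groth.Agent.SmoothStrat.exists_geomIntegral_model A fW
  let θ := w.isoImage V
  let h' := h ≫ θ.hom
  have hh' : h' ≫ (w ''ᵁ V).ι = (h ≫ V.ι) ≫ w := by
    simp only [h', θ, Category.assoc, Scheme.Hom.isoImage_hom_ι]
  have hpaste : IsPullback (pullback.fst fW (h ≫ V.ι) ≫ pullback.fst f w) (pullback.snd fW (h ≫ V.ι)) f (h' ≫ (w ''ᵁ V).ι) := by
    rw [hh']
    exact (IsPullback.of_hasPullback fW (h ≫ V.ι)).paste_horiz (IsPullback.of_hasPullback f w)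
  let e := hpaste.isoPullback
  haveI := hfin
  haveI := hfl
  haveI := hsurj
  refine ⟨w ''ᵁ V, S', h', hne.image _, hS', inferInstance, inferInstance, inferInstance, fun Z i _ _ hZ => ?_⟩
  have hZ' : Set.range (i ≫ e.inv).base ∈ irreducibleComponents ↥(pullback fW (h ≫ V.ι)) := by
    have he : Function.Bijective e.inv.base := (TopCat.homeoOfIso (Scheme.forgetToTop.mapIso e.symm)).bijective
    have hr : Set.range (i ≫ e.inv).base = e.inv.base '' Set.range i.base := by
      rw [← Set.range_comp]; rfl
    have hpre : e.inv.base '' Set.range i.base = e.hom.base ⁻¹' Set.range i.base := by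
      exact (Equiv.image_eq_preimage_symm (TopCat.homeoOfIso (Scheme.forgetToTop.mapIso e.symm)).toEquiv _)
    rw [hr, hpre]
    exact preimage_mem_irreducibleComponents hZ e.hom.isOpenEmbedding
      ((Set.range_eq_univ.2 e.hom.surjective).symm ▸ by simpa using hZ.1.nonempty)
  have hs : i ≫ pullback.snd f (h' ≫ (w ''ᵁ V).ι) = (i ≫ e.inv) ≫ pullback.snd fW (h ≫ V.ι) := by
    exact ((Category.assoc _ _ _).trans (congrArg (i ≫ ·) hpaste.isoPullback_inv_snd)).symm
  rw [hs]
  exact hall Z (i ≫ e.inv) hZ'

end Groth.Agent.S5641
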