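import Groth.Statements.S5644
import Groth.Agent.Intersect.HilbCoeff
import Groth.Agent.DerPerf.Local

set_option autoImplicit false
universe u
open CategoryTheory CategoryTheory.Limits AlgebraicGeometry
open Pic13

namespace Groth.Agent.S5644

/-- Let k be an algebraically closed field, X ⊆ P^n_k an integral closed subscheme of dimension r = s +
1, O_X(1) and O_X(-1) the restrictions of O(1) and O(-1), and L an invertible O_X-module with
inverse L'. Write the Hilbert polynomials in the binomial basis, χ(L(m)) = Σ_{j ≤ r} a_j C(m+j, j)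
and χ(O_X(m)) = Σ_{j ≤ r} e_j C(m+j, j) for m ≥ 0 (Euler characteristics in degrees ≤ r). Then (i)
a_r = e_r = (c₁(O_X(1))^r), the degree of X, and (ii) a_{r-1} - e_{r-1} = (c₁(L)·c₁(O_X(1))^{r-1}),
the degree of L. Intersection numbers are those of FGA.intNum, which takes the inverse modules L',
O_X(-1) as arguments. -/
theorem result (k : Type u) [Field k] [IsAlgClosed k] (n : ℕ) (X : Scheme.{u}) [X.Over (Spec (CommRingCat.of k))]
    (i : X ⟶ CohB1.ProjSpace n k) [IsClosedImmersion i] (hi : i ≫ CohB1.ProjSpace.toSpec n k = X ↘ Spec (CommRingCat.of k))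
    [IsIntegral X] (s : ℕ) (hdim : topologicalKrullDim X = (s + 1 : ℕ))
    (L L' : X.Modules) (hL : PicF.IsInvertible L) (hLL' : Nonempty (CohB1.tensorMod L L' ≅ Coh.structureModule X))
    (a e : Fin (s + 2) → ℤ)
    (ha : ∀ m : ℕ, FGA.eulerCharLE k X (Pic13.twistOn k i L m) (s + 1) = ∑ j : Fin (s + 2), a j * ((m + j).choose j : ℤ))
    (he : ∀ m : ℕ, FGA.eulerCharLE k X (Pic13.twistOn k i (Coh.structureModule X) m) (s + 1) =
      ∑ j : Fin (s + 2), e j * ((m + j).choose j : ℤ)) :
    a (Fin.last (s + 1)) = e (Fin.last (s + 1)) ∧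
      a (Fin.last (s + 1)) = FGA.intNum k X (s + 1)
        (fun _ : Fin (s + 1) => (Scheme.Modules.pullback i).obj (Twist.twistProjSpace n k (-1))) (Coh.structureModule X) ∧
      a (Fin.castSucc (Fin.last s)) - e (Fin.castSucc (Fin.last s)) = FGA.intNum k X (s + 1)
        (Matrix.vecCons L' (fun _ : Fin s => (Scheme.Modules.pullback i).obj (Twist.twistProjSpace n k (-1))))
        (Coh.structureModule X) := by
  haveI := ProjMor.isProper_toSpec n k
  haveI : IsProper (X ↘ Spec (CommRingCat.of k)) := by rw [← hi]; infer_instance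
  obtain ⟨t⟩ := TMul.nonempty_pullTensorIso i (Twist.twistProjSpace n k ((1 : ℕ) : ℤ)) (Twist.twistProjSpace n k (-((1 : ℕ) : ℤ)))
  obtain ⟨f⟩ := Groth.Agent.Intersect.nonempty_twist_inverse k n 1
  refine Groth.Agent.Intersect.hilbert_top s hdim.le hL hLL' (H := fun m : ℕ => (Scheme.Modules.pullback i).obj (Twist.twistProjSpace n k m))
    (PicLoc.isInvertible_pullback i (Groth.Agent.CohFinite.isInvertible_twist n k 1))
    (PicLoc.isInvertible_pullback i (Groth.Agent.CohFinite.isInvertible_twist n k (-1)))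
    (t ≪≫ (Scheme.Modules.pullback i).mapIso f ≪≫ Groth.Agent.DerPerf.pullUnitIso i) (fun m => ?_) a e ha he
  obtain ⟨p⟩ := Groth.Agent.Intersect.nonempty_twist_pow k n m
  obtain ⟨q⟩ := TMul.nonempty_pullPowIso i (Twist.twistProjSpace n k 1) m
  first | exact ⟨(Scheme.Modules.pullback i).mapIso p ≪≫ q⟩ | exact ⟨(Scheme.Modules.pullback i).mapIso p ≪≫ q.symm⟩

end Groth.Agent.S5644
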