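import Groth.Statements.S5645
import Groth.Agent.PicBdd.Union
import Groth.Agent.PicBdd.Strata
import Groth.Agent.PicLft.Basic
import Mathlib.AlgebraicGeometry.AlgClosed.Basic

set_option autoImplicit false
set_option backward.isDefEq.respectTransparency false
set_option backward.isDefEq.respectTransparency.types false
set_option linter.style.haveILetI false
set_option maxHeartbeats 1600000
universe u
open CategoryTheory CategoryTheory.Limits AlgebraicGeometry
open Pic13

namespace Groth.Agent.S5645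

variable {k : Type u} [Field k] {X : Scheme.{u}} [X.Over (Spec (CommRingCat.of k))]
  {P : Over (Spec (CommRingCat.of k))}
  {φ : ∀ T : Over (Spec (CommRingCat.of k)), PicF.Cl (PicF.XT (X ↘ (Spec (CommRingCat.of k))) T) → (T ⟶ P)}
  (hP : PicRel.IsRelPic (X ↘ (Spec (CommRingCat.of k))) P φ)

/-- The class of `L` on the trivial base change. -/
noncomputable abbrev toOne (c : PicF.Cl X) : PicF.Cl (PicF.XT (X ↘ (Spec (CommRingCat.of k))) (Over.mk (𝟙 (Spec (CommRingCat.of k))))) :=
  PicF.pullCl (pullback.fst (X ↘ (Spec (CommRingCat.of k))) (𝟙 (Spec (CommRingCat.of k)))) c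

theorem XTmap_eq {T : Scheme.{u}} (q : T ⟶ Spec (CommRingCat.of k)) (t : Spec (CommRingCat.of k) ⟶ T)
    (ht : t ≫ q = 𝟙 _) :
    pullback.fst (X ↘ (Spec (CommRingCat.of k))) (𝟙 (Spec (CommRingCat.of k))) ≫ Pic13.sliceAt k X q t ht =
      PicF.XTmap (X ↘ (Spec (CommRingCat.of k))) (Over.homMk t ht : Over.mk (𝟙 (Spec (CommRingCat.of k))) ⟶ Over.mk q) := by
  apply pullback.hom_ext
  · simp [PicF.XTmap, Pic13.sliceAt]
  · simp [PicF.XTmap, Pic13.sliceAt]

theorem toOne_fibre {T : Scheme.{u}} (q : T ⟶ Spec (CommRingCat.of k)) (t : Spec (CommRingCat.of k) ⟶ T)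
    (ht : t ≫ q = 𝟙 _) (M : (Pic13.prodK k X q).Modules) :
    toOne (k := k) (PicF.cl (Pic13.fibreMod k X q t ht M)) =
      PicF.pullCl (PicF.XTmap (X ↘ (Spec (CommRingCat.of k))) (Over.homMk t ht : Over.mk (𝟙 (Spec (CommRingCat.of k))) ⟶ Over.mk q))
        (PicF.cl M) := by
  rw [← XTmap_eq q t ht]
  exact (PicLoc.pullCl_comp (Z := Pic13.prodK k X q)
    (pullback.fst (X ↘ (Spec (CommRingCat.of k))) (𝟙 (Spec (CommRingCat.of k)))) (Pic13.sliceAt k X q t ht) (PicF.cl M)).symm

include hP in
/-- Over an algebraically closed field invertible classes are determined by their points. -/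
theorem eq_of_pt [IsAlgClosed k] {c c' : PicF.Cl X} (hc : PicF.IsInvertibleCl c) (hc' : PicF.IsInvertibleCl c')
    (h : φ _ (toOne (k := k) c) = φ _ (toOne (k := k) c')) : c = c' := by
  have hinv : ∀ {d : PicF.Cl X}, PicF.IsInvertibleCl d → PicF.IsInvertibleCl (toOne (k := k) d) := by
    rintro d ⟨L, rfl, hL⟩
    exact ⟨_, rfl, PicLoc.isInvertible_pullback _ hL⟩
  obtain ⟨ι, U, hU, hUc⟩ := hP.locallyInjective _ _ _ (hinv hc) (hinv hc') h
  obtain ⟨i, y, -⟩ := hU (IsLocalRing.closedPoint k)
  haveI : Etale (U i).hom := (U i).prop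
  let π : (U i).left ⟶ Spec (CommRingCat.of k) := (U i).hom
  haveI : Etale π := (U i).prop
  haveI : JacobsonSpace (U i).left := LocallyOfFiniteType.jacobsonSpace π
  haveI : Nonempty (U i).left := ⟨y⟩
  obtain ⟨p, -, hp⟩ := nonempty_inter_closedPoints (Z := (Set.univ : Set (U i).left)) Set.univ_nonempty
    isOpen_univ.isLocallyClosed
  let s := pointOfClosedPoint π p hp
  have hs : s ≫ (U i).hom = 𝟙 _ := pointOfClosedPoint_comp _ p hp
  let f := X ↘ (Spec (CommRingCat.of k))
  let σ : X ⟶ PicF.XT f (PicRel.ovr (Over.mk (𝟙 (Spec (CommRingCat.of k)))) (U i)) :=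
    pullback.lift (𝟙 X) (f ≫ s) (by
      show 𝟙 X ≫ f = (f ≫ s) ≫ (U i).hom ≫ 𝟙 _
      rw [Category.id_comp, Category.comp_id, Category.assoc, hs, Category.comp_id])
  have hσ : σ ≫ PicF.XTmap f (PicRel.ovrHom (Over.mk (𝟙 (Spec (CommRingCat.of k)))) (U i)) ≫ pullback.fst f (𝟙 _) = 𝟙 X := by
    simp [σ, PicF.XTmap, f]
  have key : ∀ d : PicF.Cl X, PicF.pullCl σ (PicF.pullCl (PicF.XTmap f (PicRel.ovrHom (Over.mk (𝟙 (Spec (CommRingCat.of k)))) (U i)))
      (toOne (k := k) d)) = d := fun d => by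
    rw [← PicLoc.pullCl_comp, ← PicLoc.pullCl_comp, Category.assoc, hσ, PicLoc.pullCl_id]
  rw [← key c, ← key c']
  exact congrArg _ (hUc i)

/-- Over an algebraically closed field k: let X be a proper k-scheme and let the k-scheme P, with the
maps φ_T from isomorphism classes of modules on X ×_k T to k-morphisms T ⟶ P, represent the
étale-sheafified relative Picard functor of X over k. For an invertible O_X-module L let p(L) ∈ P be
the k-point φ_{Spec k}([L]). Then a family of invertible O_X-modules is bounded (all members occur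
among the fibres at k-points of one coherent module on some X ×_k T, T of finite type) if and only
if the points p(L) of its members lie in a common quasi-compact open subset of P. (The published
statement is over a Noetherian base, for subsets of the Picard scheme and families of classes on the
fibres; this row is the case of an algebraically closed base field.) -/
theorem result (k : Type u) [Field k] [IsAlgClosed k] (X : Scheme.{u}) [X.Over (Spec (CommRingCat.of k))]
    [IsProper (X ↘ (Spec (CommRingCat.of k)))] (P : Over (Spec (CommRingCat.of k)))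
    (φ : ∀ T : Over (Spec (CommRingCat.of k)), PicF.Cl (PicF.XT (X ↘ (Spec (CommRingCat.of k))) T) → (T ⟶ P))
    (hP : PicRel.IsRelPic (X ↘ (Spec (CommRingCat.of k))) P φ)
    (Q : X.Modules → Prop) (hQ : ∀ L, Q L → PicF.IsInvertible L) :
    Pic13.IsBounded k X Q ↔ ∃ U : P.left.Opens, IsCompact (U : Set ↥P.left) ∧
      ∀ L, Q L → Set.range (φ (Over.mk (𝟙 (Spec (CommRingCat.of k))))
        (PicF.pullCl (pullback.fst (X ↘ (Spec (CommRingCat.of k))) (𝟙 (Spec (CommRingCat.of k)))) (PicF.cl L))).left.base ⊆ (U : Set ↥P.left) := by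
  let f := X ↘ (Spec (CommRingCat.of k))
  haveI : LocallyOfFinitePresentation P.hom := PicLft.locallyOfFinitePresentation hP
  constructor
  · intro hb
    obtain ⟨ι, _, St, hinv, hS⟩ := PicBdd.exists_invertible_strata Q hQ hb
    haveI := Fintype.ofFinite ι
    let ψ : ∀ i, (St i).W ⟶ P.left := fun i => (φ (Over.mk (St i).q) (PicF.cl (St i).G)).left
    have hK : IsCompact (⋃ i, Set.range (ψ i)) := isCompact_iUnion fun i => by
      haveI := (St i).qc
      haveI : CompactSpace (St i).W := QuasiCompact.compactSpace_of_compactSpace (St i).q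
      exact isCompact_range (ψ i).continuous
    choose W hW hxW _ using fun x : P.left =>
      exists_isAffineOpen_mem_and_subset (X := P.left) (x := x) (U := ⊤) trivial
    obtain ⟨s, hs⟩ := hK.elim_finite_subcover (fun x => (W x : Set P.left)) (fun x => (W x).2)
      (fun x _ => Set.mem_iUnion.2 ⟨x, hxW x⟩)
    refine ⟨⟨⋃ x ∈ s, (W x : Set P.left), isOpen_biUnion fun x _ => (W x).2⟩,
      s.isCompact_biUnion fun x _ => (hW x).isCompact, fun L hL => ?_⟩
    obtain ⟨i, t, ht, ⟨e⟩⟩ := hS L hL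
    rintro _ ⟨z, rfl⟩
    refine hs (Set.mem_iUnion.2 ⟨i, ⟨t z, ?_⟩⟩)
    show ψ i (t z) = (φ _ (toOne (k := k) (PicF.cl L))).left z
    rw [show PicF.cl L = PicF.cl (Pic13.fibreMod k X (St i).q t ht (St i).G) from (Quot.sound ⟨e.symm⟩),
      toOne_fibre, hP.natural (Over.mk (St i).q) _ _ (PicF.cl (St i).G) ⟨_, rfl, hinv i⟩]
    rfl
  · rintro ⟨U, hU, hLU⟩
    let TU : Over (Spec (CommRingCat.of k)) := Over.mk (U.ι ≫ P.hom)
    let g : TU ⟶ P := Over.homMk U.ι rfl
    obtain ⟨ι, V, hV, hc⟩ := hP.locallySurjective TU g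
    choose c hci hcφ using hc
    choose L₀ hL₀c hL₀ using hci
    haveI het : ∀ i, Etale (V i).hom := fun i => (V i).prop
    have hpt : ∀ u : TU.left, ∃ (i : ι) (W : (V i).left.Opens), IsAffineOpen W ∧ u ∈ (V i).hom '' (W : Set (V i).left) := by
      intro u
      obtain ⟨i, y, hy⟩ := hV u
      obtain ⟨W, hW, hyW, -⟩ := exists_isAffineOpen_mem_and_subset (X := (V i).left) (x := y) (U := ⊤) trivial
      exact ⟨i, W, hW, y, hyW, hy⟩
    choose idx W hW hmem using hpt
    haveI : CompactSpace TU.left := by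
      exact isCompact_iff_compactSpace.1 hU
    let π : ∀ u : TU.left, (V (idx u)).left ⟶ TU.left := fun u => (V (idx u)).hom
    haveI hπ : ∀ u, Etale (π u) := fun u => het _
    let O : TU.left → Set TU.left := fun u => π u '' (W u : Set _)
    have hO : ∀ u, IsOpen (O u) := fun u => (π u).isOpenMap _ (W u).2
    obtain ⟨s, hs⟩ := isCompact_univ.elim_finite_subcover O hO fun u _ => Set.mem_iUnion.2 ⟨u, hmem u⟩
    haveI : LocallyOfFiniteType P.hom := inferInstance
    have hbd : ∀ u : TU.left, Pic13.IsBounded k X (fun L => PicF.IsInvertible L ∧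
        ∀ z, (φ _ (toOne (k := k) (PicF.cl L))).left z ∈ U.ι '' O u) := by
      intro u
      haveI : IsAffine (W u).toScheme := hW u
      let q : (W u).toScheme ⟶ Spec (CommRingCat.of k) := (W u).ι ≫ (V (idx u)).hom ≫ U.ι ≫ P.hom
      let J : Pic13.prodK k X q ⟶ PicF.XT f (PicRel.ovr TU (V (idx u))) :=
        PicF.XTmap f (Over.homMk (W u).ι rfl : Over.mk q ⟶ PicRel.ovr TU (V (idx u)))
      let M := (Scheme.Modules.pullback J).obj (L₀ (idx u))
      have hM : PicF.IsInvertible M := PicLoc.isInvertible_pullback J (hL₀ _)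
      have hlft : LocallyOfFiniteType q := inferInstance
      have hqc : QuasiCompact q := inferInstance
      haveI : IsLocallyNoetherian (Pic13.prodK k X q) :=
        LocallyOfFiniteType.isLocallyNoetherian (pullback.snd f q ≫ q)
      refine ⟨_, q, hlft, hqc, M, CurveRR.isCoh_of_inv hM, ?_⟩
      rintro L ⟨hL, hLz⟩
      obtain ⟨_, ⟨w, hw, rfl⟩, hwz⟩ := hLz (IsLocalRing.closedPoint k)
      let a := φ _ (toOne (k := k) (PicF.cl L))
      have ha : a.left ≫ P.hom = 𝟙 _ := Over.w a
      let m : (W u).toScheme ⟶ P.left := (W u).ι ≫ (V (idx u)).hom ≫ U.ι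
      haveI : JacobsonSpace (W u).toScheme := LocallyOfFiniteType.jacobsonSpace q
      have hcl : IsClosed ({a.left (IsLocalRing.closedPoint k)} : Set P.left) :=
        ((pointEquivClosedPoint P.hom) ⟨a.left, ha⟩).2
      have hne : (m ⁻¹' {a.left (IsLocalRing.closedPoint k)}).Nonempty := by
        refine ⟨⟨w, hw⟩, ?_⟩
        simp only [Set.mem_preimage, Set.mem_singleton_iff, m, Scheme.Hom.comp_apply]
        exact hwz
      obtain ⟨p, hpm, hp⟩ := nonempty_inter_closedPoints hne (hcl.preimage m.continuous).isLocallyClosed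
      let t := pointOfClosedPoint q p hp
      have ht : t ≫ q = 𝟙 _ := pointOfClosedPoint_comp _ p hp
      have htm : t ≫ m = a.left := by
        refine ext_of_apply_closedPoint_eq P.hom ?_ ha ?_
        · show (t ≫ (W u).ι ≫ (V (idx u)).hom ≫ U.ι) ≫ P.hom = 𝟙 _
          simpa only [Category.assoc, q] using ht
        · rw [Scheme.Hom.comp_apply, show t (IsLocalRing.closedPoint k) = p from pointOfClosedPoint_apply _ p hp _]
          exact hpm
      refine ⟨t, ht, ?_⟩
      have hMinv : PicF.IsInvertibleCl (PicF.cl (Pic13.fibreMod k X q t ht M)) :=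
        ⟨_, rfl, PicLoc.isInvertible_pullback _ hM⟩
      have he : φ _ (toOne (k := k) (PicF.cl (Pic13.fibreMod k X q t ht M))) = φ _ (toOne (k := k) (PicF.cl L)) := by
        rw [toOne_fibre, hP.natural (Over.mk q) _ _ (PicF.cl M) ⟨_, rfl, hM⟩,
          show PicF.cl M = PicF.pullCl J (PicF.cl (L₀ (idx u))) from rfl,
          hP.natural (PicRel.ovr TU (V (idx u))) _ _ _ ⟨_, rfl, hL₀ _⟩, hL₀c, hcφ]
        exact Over.OverMorphism.ext htm
      exact PicLft.Lim.nonempty_iso_of_cl_eq (eq_of_pt hP hMinv ⟨_, rfl, hL⟩ he)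
    refine PicBdd.isBounded_mono k (PicBdd.isBounded_finset k s _ fun u _ => hbd u) fun L hL => ?_
    let a := φ _ (toOne (k := k) (PicF.cl L))
    have hz : a.left (IsLocalRing.closedPoint k) ∈ U := hLU L hL ⟨_, rfl⟩
    obtain ⟨u, hu, hmem'⟩ : ∃ u ∈ s, (⟨_, hz⟩ : TU.left) ∈ O u := by
      simpa using hs (Set.mem_univ (⟨_, hz⟩ : TU.left))
    refine ⟨u, hu, hQ L hL, fun z => ⟨_, hmem', ?_⟩⟩
    rw [Subsingleton.elim (α := PrimeSpectrum k) z (IsLocalRing.closedPoint k)]
    rfl

end Groth.Agent.S5645
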