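import Groth.Statements.S5647
import Groth.Agent.PicFin.Assemble
-- import your own Groth.Agent.* helpers here

set_option autoImplicit false
set_option backward.isDefEq.respectTransparency false
universe u
open CategoryTheory CategoryTheory.Limits AlgebraicGeometry
open Pic13

namespace Groth.Agent.S5647

/-- First assertion: over the base S = Spec k with k algebraically closed: let X ⊆ P^n_k be an integral
closed subscheme of dimension r, O_X(1) the restriction of O(1), and consider a family of invertible
O_X-modules L with Hilbert polynomials written χ(L(m)) = Σ_{j ≤ r} a_j(L) C(m+j, j) (m ≥ 0, Euler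
characteristics in degrees ≤ r). Then the family is bounded if and only if the coefficients a_j(L)
stay bounded as L runs through it. (The published statement is for X projective over a Noetherian
base with a very ample O_X(1) and geometrically integral fibres of dimension r, and for families of
classes on the fibres; this row is the case of an algebraically closed base field.) -/
theorem result (k : Type u) [Field k] [IsAlgClosed k] (n : ℕ) (X : Scheme.{u}) [X.Over (Spec (CommRingCat.of k))]
    (i : X ⟶ CohB1.ProjSpace n k) [IsClosedImmersion i] (hi : i ≫ CohB1.ProjSpace.toSpec n k = X ↘ Spec (CommRingCat.of k))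
    [IsIntegral X] (r : ℕ) (hdim : topologicalKrullDim X = (r : ℕ))
    (Q : X.Modules → Prop) (hQ : ∀ L, Q L → PicF.IsInvertible L) :
    Pic13.IsBounded k X Q ↔ ∃ B : ℕ, ∀ L, Q L → ∃ a : Fin (r + 1) → ℤ,
      (∀ m : ℕ, FGA.eulerCharLE k X (Pic13.twistOn k i L m) r = ∑ j : Fin (r + 1), a j * ((m + j).choose j : ℤ)) ∧
      ∀ j, |a j| ≤ B := by
  classical
  haveI : IsProper (CohB1.ProjSpace.toSpec n k) := ProjMor.isProper_toSpec n k
  haveI : IsProper (X ↘ Spec (CommRingCat.of k)) := hi ▸ inferInstance
  let p := PicFin.Pol.ofEmb i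
  have hconv : ∀ L (m : ℕ), FGA.eulerCharLE k X (Pic13.twistOn k i L m) r = Curv2.euler k X (Nakai.tH p.M L m) :=
    fun L m => by rw [Intersect.eulerCharLE_eq k r hdim.le, Nakai.euler_congr k (PicFin.cl_twistOn_tH i L m)]
  simp only [hconv]
  constructor
  · intro hb
    obtain ⟨-, s, hs⟩ := PicBdd.regular_hilb_of_bounded k i hi Q (fun F hF => CurveRR.isCoh_of_inv (hQ F hF)) hb
    let T : Polynomial ℚ → Prop := fun φ => ∃ L, Q L ∧ ∀ m : ℕ, (Curv2.euler k X (Nakai.tH p.M L m) : ℚ) = φ.eval (m : ℚ)
    let coef : Polynomial ℚ → Fin (r + 1) → ℤ := fun φ =>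
      if h : T φ then (PicFin.exists_coeff (k := k) p hdim.le (hQ _ h.choose_spec.1)).choose else 0
    refine ⟨s.sup fun φ => ∑ j, (coef φ j).natAbs, fun L hL => ?_⟩
    obtain ⟨φ, hφs, hφ⟩ := hs L hL
    have hval : ∀ m : ℕ, (Curv2.euler k X (Nakai.tH p.M L m) : ℚ) = φ.eval (m : ℚ) := fun m => by
      rw [← Int.cast_natCast m, ← hφ, PicBdd.eulerCharLE_twistOn k i hi (CurveRR.isCoh_of_inv (hQ L hL)),
        Nakai.euler_congr k (PicFin.cl_twistOn_tH i L m)]
    have hT : T φ := ⟨L, hL, hval⟩
    refine ⟨coef φ, fun m => ?_, fun j => ?_⟩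
    · have h1 := (PicFin.exists_coeff (k := k) p hdim.le (hQ _ hT.choose_spec.1)).choose_spec m
      have h2 : Curv2.euler k X (Nakai.tH p.M hT.choose m) = Curv2.euler k X (Nakai.tH p.M L m) := by
        exact_mod_cast (hT.choose_spec.2 m).trans (hval m).symm
      simp only [coef, dif_pos hT]
      rw [← h2, h1]
    · have h1 : (coef φ j).natAbs ≤ ∑ j, (coef φ j).natAbs :=
        Finset.single_le_sum (f := fun j => (coef φ j).natAbs) (fun _ _ => Nat.zero_le _) (Finset.mem_univ j)
      rw [Int.abs_eq_natAbs]
      exact_mod_cast h1.trans (Finset.le_sup (f := fun φ => ∑ j, (coef φ j).natAbs) hφs)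
  · rintro ⟨B, hB⟩
    exact PicFin.isBounded_of_valBd i hi hdim hQ (PicFin.valBd_of_coeff p hB)

end Groth.Agent.S5647
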