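import Groth.Statements.S5652
import Groth.Agent.PicFin.SurfaceBound

set_option autoImplicit false
set_option backward.isDefEq.respectTransparency false
universe u
open CategoryTheory CategoryTheory.Limits AlgebraicGeometry
open Pic13

namespace Groth.Agent.S5652

open Groth.Agent.PicFin Groth.Agent.Intersect Groth.Agent.Nakai
attribute [local instance] Groth.Agent.Nakai.clMonoid

/-- Let k be an algebraically closed field, X ⊆ P^n_k an integral closed subscheme of dimension 2,
O_X(1) and O_X(-1) the restrictions of O(1) and O(-1), and L an invertible O_X-module with inverse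
L' whose degree (c₁(L)·c₁(O_X(1))) is ≤ 0. Write χ(L(m)) = a_2 C(m+2,2) + a_1 C(m+1,1) + a_0 for m ≥
0. Then (i) h^1(X, L(m)) ≤ a_1 (a_1 + 1) a_2 - a_0 for every integer m, and (ii) a_0 ≤ a_1 (a_1 +
1). Intersection numbers are those of FGA.intNum, which takes the inverse modules as arguments; h^1
is the dimension over k. -/
theorem result (k : Type u) [Field k] [IsAlgClosed k] (n : ℕ) (X : Scheme.{u}) [X.Over (Spec (CommRingCat.of k))]
    (i : X ⟶ CohB1.ProjSpace n k) [IsClosedImmersion i] (hi : i ≫ CohB1.ProjSpace.toSpec n k = X ↘ Spec (CommRingCat.of k))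
    [IsIntegral X] (hdim : topologicalKrullDim X = (2 : ℕ))
    (L L' : X.Modules) (hL : PicF.IsInvertible L) (hLL' : Nonempty (CohB1.tensorMod L L' ≅ Coh.structureModule X))
    (hdeg : FGA.intNum k X 2 (Matrix.vecCons L' (fun _ : Fin 1 => ((Scheme.Modules.pullback i).obj (Twist.twistProjSpace n k (-1))))) (Coh.structureModule X) ≤ 0)
    (a : Fin 3 → ℤ)
    (ha : ∀ m : ℕ, FGA.eulerCharLE k X (Pic13.twistOn k i L m) 2 = ∑ j : Fin 3, a j * ((m + j).choose j : ℤ)) :
    (∀ m : ℤ, (Module.finrank k (Coh.HH X (Pic13.twistOn k i L m) 1) : ℤ) ≤ a 1 * (a 1 + 1) * a 2 - a 0) ∧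
      a 0 ≤ a 1 * (a 1 + 1) := by
  haveI : IsProper (CohB1.ProjSpace.toSpec n k) := ProjMor.isProper_toSpec n k
  haveI : IsProper (X ↘ Spec (CommRingCat.of k)) := hi ▸ inferInstance
  let p := Pol.ofEmb i
  let T := fun m : ℤ => Pic13.twistOn k i L m
  have hT : Twists p T := twists_twistOn i hL
  have hneg : deg k p 1 (T 0) ≤ 0 := by
    rw [deg_congr p (cl_twistOn_zero i L), ← intNum_deg i hdim.le hL hLL']
    exact_mod_cast hdeg
  let f := fun m : ℤ => Curv2.euler k X (T m)
  have hf : ∀ m, f (m + 2) - 2 * f (m + 1) + f m = f 2 - 2 * f 1 + f 0 := fun m => by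
    have h1 := hT.second_diff (k := k) hdim.le m
    have h2 := hT.second_diff (k := k) hdim.le 0
    rw [zero_add, zero_add] at h2
    have h3 : ((f (m + 2) - 2 * f (m + 1) + f m : ℤ) : ℚ) = ((f 2 - 2 * f 1 + f 0 : ℤ) : ℚ) := by
      push_cast
      exact h1.trans h2.symm
    exact_mod_cast h3
  have hf' : ∀ m : ℕ, f (m : ℤ) = ∑ j : Fin 3, a j * ((m + j).choose j : ℤ) := fun m => by
    rw [← ha m, eulerCharLE_eq k 2 hdim.le]
  have h0 := hf' 0
  have h1 := hf' 1
  have h2 := hf' 2
  simp [Fin.sum_univ_three, Nat.choose_two_right] at h0 h1 h2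
  have e1 := hf (-1)
  have e2 := hf (-2)
  norm_num at e1 e2
  have ha2 : 1 ≤ a 2 := by
    have h3 := hT.second_diff (k := k) hdim.le 0
    rw [zero_add, zero_add] at h3
    have h4 := deg_pos (k := k) p hdim
    rw [← h3] at h4
    have h5 : 0 < f 2 - 2 * f 1 + f 0 := by exact_mod_cast h4
    omega
  obtain ⟨hb1, hb2⟩ := hT.surface_bound (k := k) hdim hneg (a₀ := a 0) (a₁ := a 1)
    (show f (-1) = a 0 by omega) (show f (-1) - f (-2) = a 1 by omega)
  have hpos : 0 ≤ a 1 * (a 1 + 1) := by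
    rcases le_or_gt 0 (a 1) with h | h <;> nlinarith
  refine ⟨fun m => (hb1 m).trans ?_, hb2⟩
  nlinarith

end Groth.Agent.S5652
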