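import Groth.Statements.S5653
import Groth.Agent.PicFin.SurfaceBound

set_option autoImplicit false
set_option backward.isDefEq.respectTransparency false
universe u
open CategoryTheory CategoryTheory.Limits AlgebraicGeometry
open Pic13

namespace Groth.Agent.S5653

open Groth.Agent.PicFin Groth.Agent.Intersect Groth.Agent.Nakai
attribute [local instance] Groth.Agent.Nakai.clMonoid

/-- Let k be an algebraically closed field, X ⊆ P^n_k an integral closed subscheme of dimension 2,
O_X(1), O_X(-1) the restrictions of O(1), O(-1), with χ(O_X(m)) = e_2 C(m+2,2) + e_1 C(m+1,1) + e_0,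
and L an invertible O_X-module with inverse L', of degree δ = (c₁(L)·c₁(O_X(1))) ≤ 0 and with
χ(L(m)) = a_2 C(m+2,2) + a_1 C(m+1,1) + a_0 (m ≥ 0). Put β = δ (e_2 - 1) + e_1. Then a_0 ≥ (c₁(L)²)
+ 2 e_0 + (2 e_1 - a_1) C(δ, 1) + (2 e_2 - a_2) C(δ+1, 2) - β (β + 1), where C(δ, 1) = δ and C(δ+1,
2) = δ(δ+1)/2. (The published statement has +β(β+1) as its last term, which fails for O(1,-3) on P^1
× P^1 ⊆ P^3; this row has -β(β+1), the sign the published proof yields.) Intersection numbers are
those of FGA.intNum, which takes the inverse modules as arguments. -/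
theorem result (k : Type u) [Field k] [IsAlgClosed k] (n : ℕ) (X : Scheme.{u}) [X.Over (Spec (CommRingCat.of k))]
    (i : X ⟶ CohB1.ProjSpace n k) [IsClosedImmersion i] (hi : i ≫ CohB1.ProjSpace.toSpec n k = X ↘ Spec (CommRingCat.of k))
    [IsIntegral X] (hdim : topologicalKrullDim X = (2 : ℕ))
    (L L' : X.Modules) (hL : PicF.IsInvertible L) (hLL' : Nonempty (CohB1.tensorMod L L' ≅ Coh.structureModule X))
    (hdeg : FGA.intNum k X 2 (Matrix.vecCons L' (fun _ : Fin 1 => ((Scheme.Modules.pullback i).obj (Twist.twistProjSpace n k (-1))))) (Coh.structureModule X) ≤ 0)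
    (a : Fin 3 → ℤ)
    (ha : ∀ m : ℕ, FGA.eulerCharLE k X (Pic13.twistOn k i L m) 2 = ∑ j : Fin 3, a j * ((m + j).choose j : ℤ))
    (e : Fin 3 → ℤ)
    (he : ∀ m : ℕ, FGA.eulerCharLE k X (Pic13.twistOn k i (Coh.structureModule X) m) 2 = ∑ j : Fin 3, e j * ((m + j).choose j : ℤ)) :
    FGA.intNum k X 2 (Matrix.vecCons L' (fun _ : Fin 1 => L')) (Coh.structureModule X) + 2 * e 0 +
        (2 * e 1 - a 1) * FGA.intNum k X 2 (Matrix.vecCons L' (fun _ : Fin 1 => ((Scheme.Modules.pullback i).obj (Twist.twistProjSpace n k (-1))))) (Coh.structureModule X) +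
        (2 * e 2 - a 2) * (FGA.intNum k X 2 (Matrix.vecCons L' (fun _ : Fin 1 => ((Scheme.Modules.pullback i).obj (Twist.twistProjSpace n k (-1))))) (Coh.structureModule X) *
          (FGA.intNum k X 2 (Matrix.vecCons L' (fun _ : Fin 1 => ((Scheme.Modules.pullback i).obj (Twist.twistProjSpace n k (-1))))) (Coh.structureModule X) + 1) / 2) -
        (FGA.intNum k X 2 (Matrix.vecCons L' (fun _ : Fin 1 => ((Scheme.Modules.pullback i).obj (Twist.twistProjSpace n k (-1))))) (Coh.structureModule X) * (e 2 - 1) + e 1) *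
          (FGA.intNum k X 2 (Matrix.vecCons L' (fun _ : Fin 1 => ((Scheme.Modules.pullback i).obj (Twist.twistProjSpace n k (-1))))) (Coh.structureModule X) * (e 2 - 1) + e 1 + 1)
      ≤ a 0 := by
  haveI : IsProper (CohB1.ProjSpace.toSpec n k) := ProjMor.isProper_toSpec n k
  haveI : IsProper (X ↘ Spec (CommRingCat.of k)) := hi ▸ inferInstance
  let p := Pol.ofEmb i
  have hL' := Intersect.isInvertible_inverse hL hLL'
  have hO := TMul.isInvertible_structureModule (X := X)
  let TL := fun m : ℤ => Pic13.twistOn k i L m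
  let TN := fun m : ℤ => Pic13.twistOn k i L' m
  let TO := fun m : ℤ => Pic13.twistOn k i (Coh.structureModule X) m
  have hTL : Twists p TL := twists_twistOn i hL
  have hTN : Twists p TN := twists_twistOn i hL'
  have hTO : Twists p TO := twists_twistOn i hO
  let fL := fun m : ℤ => Curv2.euler k X (TL m)
  let fN := fun m : ℤ => Curv2.euler k X (TN m)
  let fO := fun m : ℤ => Curv2.euler k X (TO m)
  -- the degree of the hyperplane class
  obtain ⟨E, hE⟩ : ∃ E : ℤ, deg k p 1 p.M = E := by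
    refine ⟨fO 2 - 2 * fO 1 + fO 0, ?_⟩
    have h := hTO.second_diff (k := k) hdim.le 0
    rw [zero_add, zero_add] at h
    rw [← h]
    push_cast
    rfl
  have hsd : ∀ {T : ℤ → X.Modules}, Twists p T → ∀ m, Curv2.euler k X (T (m + 2)) -
      2 * Curv2.euler k X (T (m + 1)) + Curv2.euler k X (T m) = E := fun {T} hT m => by
    have h := hT.second_diff (k := k) hdim.le m
    rw [hE] at h
    exact_mod_cast h
  have hfL : ∀ m, fL (m + 2) - 2 * fL (m + 1) + fL m = E := hsd hTL
  have hfN : ∀ m, fN (m + 2) - 2 * fN (m + 1) + fN m = E := hsd hTN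
  have hfO : ∀ m, fO (m + 2) - 2 * fO (m + 1) + fO m = E := hsd hTO
  generalize hδ : FGA.intNum k X 2 (Matrix.vecCons L' (fun _ : Fin 1 =>
    ((Scheme.Modules.pullback i).obj (Twist.twistProjSpace n k (-1))))) (Coh.structureModule X) = δ at hdeg ⊢
  generalize hq : FGA.intNum k X 2 (Matrix.vecCons L' (fun _ : Fin 1 => L')) (Coh.structureModule X) = q
  have hdL : deg k p 1 L = δ := by rw [← intNum_deg i hdim.le hL hLL', hδ]
  have hdN : deg k p 1 L' = -δ := by rw [deg_inv p hdim.le hL hL' (cl_inv hLL'), hdL]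
  have hcl : ∀ (A : X.Modules) (m : ℤ), PicF.cl (Pic13.twistOn k i A m) = PicF.cl (TO m) * PicF.cl A := fun A m => by
    simp only [TO, Pic13.twistOn, cl_tensor, cl_one, one_mul, mul_comm]
  -- differences of twists
  have hdiff : ∀ {A : X.Modules} {d : ℤ}, PicF.IsInvertible A → deg k p 1 A = d → ∀ m,
      Curv2.euler k X (Pic13.twistOn k i A (m + 1)) - Curv2.euler k X (Pic13.twistOn k i A m) =
        fO (m + 1) - fO m + d := fun {A d} hA hd m => by
    have h := D2_euler (k := k) hdim.le hA p.amp.1 (hTO.inv m) (G₁₂ := Pic13.twistOn k i A (m + 1)) (hcl A m)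
      (hTO.step m) (by rw [(twists_twistOn i hA).step, hcl])
    rw [← deg_one_eq, hd] at h
    have h' : (d : ℚ) = fO m - fO (m + 1) - Curv2.euler k X (Pic13.twistOn k i A m) +
        Curv2.euler k X (Pic13.twistOn k i A (m + 1)) := h
    have h'' : d = fO m - fO (m + 1) - Curv2.euler k X (Pic13.twistOn k i A m) +
        Curv2.euler k X (Pic13.twistOn k i A (m + 1)) := by exact_mod_cast h'
    linarith
  have hsum : fL (-1) + fN (-1) = 2 * fO (-1) + q := by
    have h := D2_euler (k := k) hdim.le hL hL' (hTO.inv (-1)) (G₁₂ := TO (-1)) (hcl L (-1)) (hcl L' (-1))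
      (by rw [mul_assoc, cl_inv hLL', mul_one])
    rw [← neg_neg (D k [L, L'] (Coh.structureModule X)), ← intNum_self hdim.le hL hLL', hq] at h
    have h' : -(q : ℚ) = fO (-1) - fN (-1) - fL (-1) + fO (-1) := h
    have h'' : -q = fO (-1) - fN (-1) - fL (-1) + fO (-1) := by exact_mod_cast h'
    linarith
  -- the coefficients
  have haL : ∀ m : ℕ, fL (m : ℤ) = ∑ j : Fin 3, a j * ((m + j).choose j : ℤ) := fun m => by
    rw [← ha m, eulerCharLE_eq k 2 hdim.le]
  have heO : ∀ m : ℕ, fO (m : ℤ) = ∑ j : Fin 3, e j * ((m + j).choose j : ℤ) := fun m => by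
    rw [← he m, eulerCharLE_eq k 2 hdim.le]
  have a0 := haL 0; have a1 := haL 1; have a2 := haL 2
  have e0 := heO 0; have e1 := heO 1; have e2 := heO 2
  simp [Fin.sum_univ_three, Nat.choose_two_right] at a0 a1 a2 e0 e1 e2
  have sL0 := hfL 0; have sL1 := hfL (-1); have sL2 := hfL (-2)
  have sO0 := hfO 0; have sO1 := hfO (-1); have sO2 := hfO (-2)
  have dL := hdiff hL hdL (-2)
  have dN := hdiff hL' (d := -δ) (by rw [hdN, Int.cast_neg]) (-2)
  norm_num at sL0 sL1 sL2 sO0 sO1 sO2 dL dN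
  change fL (-1) - fL (-2) = fO (-1) - fO (-2) + δ at dL
  change fN (-1) - fN (-2) = fO (-1) - fO (-2) + -δ at dN
  have hEa : a 2 = E := by omega
  have hEe : e 2 = E := by omega
  have hA0 : fL (-1) = a 0 := by omega
  have hA1 : fL (-1) - fL (-2) = a 1 := by omega
  have hB0 : fO (-1) = e 0 := by omega
  have hB1 : fO (-1) - fO (-2) = e 1 := by omega
  have hEpos : 1 ≤ E := by
    have h4 := deg_pos (k := k) p hdim
    rw [hE] at h4
    exact_mod_cast h4
  -- the inverse, shifted
  let T : ℤ → X.Modules := fun m => TN (m + δ)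
  have hT : Twists p T := ⟨fun m => hTN.inv _, fun m => by
    simp only [T]
    rw [show m + 1 + δ = m + δ + 1 by ring, hTN.step]⟩
  have hneg : deg k p 1 (T 0) ≤ 0 := by
    rw [hTN.deg_eq hdim.le, deg_congr p (cl_twistOn_zero i L'), hdN, hE]
    have h1 : ((0 + δ) * E : ℤ) ≤ δ := by nlinarith
    have h2 : (((0 + δ) * E : ℤ) : ℚ) ≤ (δ : ℚ) := by exact_mod_cast h1
    push_cast at h2 ⊢
    linarith
  have hv := value_of_second_diff hfN (δ - 1)
  have hd2 := diff_of_second_diff hfN (δ - 2)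
  rw [show δ - 1 + 1 = δ by ring, show δ - 1 + 2 = δ + 1 by ring] at hv
  rw [show δ - 2 + 1 = δ - 1 by ring, show δ - 2 + 2 = δ by ring] at hd2
  obtain ⟨-, hb⟩ := hT.surface_bound (k := k) hdim hneg (a₀ := fN (δ - 1)) (a₁ := δ * (e 2 - 1) + e 1)
    (by simp only [T]; rw [neg_add_eq_sub])
    (by
      simp only [T]
      rw [neg_add_eq_sub, neg_add_eq_sub]
      change fN (δ - 1) - fN (δ - 2) = _
      rw [hEe]
      linarith)
  have hc : 2 * (δ * (δ + 1) / 2) = δ * (δ + 1) := Int.mul_ediv_cancel' (Int.even_mul_succ_self δ).two_dvd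
  generalize δ * (δ + 1) / 2 = c at hc ⊢
  rw [hEe] at hb ⊢
  rw [hEa]
  nlinarith [hc, hv, hb, hsum, dN, dL]

end Groth.Agent.S5653
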