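import Groth.Statements.S5656
import Mathlib.Algebra.Polynomial.Roots
import Mathlib.Algebra.Group.ForwardDiff
import Mathlib.RingTheory.Binomial
import Mathlib.RingTheory.Polynomial.Pochhammer
import Mathlib.Tactic

set_option autoImplicit false
universe u
open W4sga6xxiii

namespace Groth.Agent.S5656

theorem exists_poly {G : Type u} [AddCommGroup G] (f : G → ℚ) (hf : W4sga6xxiii.IsPolyMap f) (x : G) :
    ∃ P : Polynomial ℚ, ∀ n : ℤ, P.eval (n : ℚ) = f (n • x) := by
  obtain ⟨m, y, -, hy⟩ := hf 1 (fun _ => x)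
  refine ⟨∑ k, Polynomial.C (y k / ((k 0 : ℕ).factorial : ℚ)) * descPochhammer ℚ (k 0 : ℕ),
    fun n => ?_⟩
  have h := hy (fun _ => n)
  simp only [Fin.sum_univ_one, Fin.prod_univ_one] at h
  rw [h, Polynomial.eval_finsetSum]
  refine Finset.sum_congr rfl fun k _ => ?_
  rw [Polynomial.eval_mul, Polynomial.eval_C, zsmul_eq_mul]
  have hc : ((Ring.choose n (k 0 : ℕ) : ℤ) : ℚ) = Ring.choose (n : ℚ) (k 0 : ℕ) := by
    simpa using Ring.map_choose (Int.castRingHom ℚ) n (k 0 : ℕ)
  have h2 := Ring.descPochhammer_eq_factorial_smul_choose (n : ℚ) (k 0 : ℕ)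
  rw [← Polynomial.eval₂_smulOneHom_eq_smeval, nsmul_eq_mul] at h2
  have h3 : (descPochhammer ℚ (k 0 : ℕ)).eval (n : ℚ) =
      ((k 0 : ℕ).factorial : ℚ) * Ring.choose (n : ℚ) (k 0 : ℕ) := by
    rw [← h2, ← descPochhammer_map (Int.castRingHom ℚ), Polynomial.eval_map]
    congr 1
    exact RingHom.ext_int _ _
  rw [h3, hc]
  have : ((k 0 : ℕ).factorial : ℚ) ≠ 0 := Nat.cast_ne_zero.mpr (Nat.factorial_ne_zero _)
  field_simp

theorem exists_int_lead (P : Polynomial ℚ) (h : ∀ n : ℤ, ∃ z : ℤ, P.eval (n : ℚ) = z) :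
    ∃ z : ℤ, P.leadingCoeff * (P.natDegree.factorial : ℚ) = z := by
  have h1 : (fwdDiff (1 : ℚ))^[P.natDegree] (fun r => P.eval r) 0 =
      P.leadingCoeff * (P.natDegree.factorial : ℚ) := by
    simp [Polynomial.fwdDiff_iter_degree_eq_factorial]
  rw [fwdDiff_iter_eq_sum_shift] at h1
  choose z hz using h
  refine ⟨∑ k ∈ Finset.range (P.natDegree + 1),
    ((-1) ^ (P.natDegree - k) * (P.natDegree.choose k : ℤ)) * z k, ?_⟩
  rw [← h1, Int.cast_sum]
  refine Finset.sum_congr rfl fun k _ => ?_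
  rw [zsmul_eq_mul, zero_add, nsmul_eq_mul, mul_one]
  push_cast
  rw [← hz]
  push_cast
  ring

theorem natCast_inj_infinite {P Q : Polynomial ℚ} (h : ∀ n : ℤ, P.eval (n : ℚ) = Q.eval (n : ℚ)) :
    P = Q :=
  Polynomial.eq_of_infinite_eval_eq P Q
    ((Set.infinite_range_of_injective Int.cast_injective).mono (by rintro _ ⟨n, rfl⟩; exact h n))

/-- Let G be an abelian group and G' ⊆ G a subgroup which is divisible by some prime number p (every
element of G' is p times an element of G') and such that G/G' is a torsion group. Then every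
polynomial map f : G → ℚ (admitting binomial expansions f(Σ n_i x_i) = Σ_k Π_i C(n_i, k_i) y_k along
every finite sequence x) which takes only integer values is constant. -/
theorem result {G : Type u} [AddCommGroup G] (G' : AddSubgroup G)
    (p : ℕ) (hp : p.Prime) (hdiv : ∀ x ∈ G', ∃ y ∈ G', p • y = x) (htor : ∀ x : G, ∃ n : ℤ, n ≠ 0 ∧ n • x ∈ G')
    (f : G → ℚ) (hf : W4sga6xxiii.IsPolyMap f) (hint : ∀ x, ∃ z : ℤ, f x = z) (x : G) : f x = f 0 := by
  have key : ∀ a ∈ G', f a = f 0 := by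
    intro a ha
    choose g hg hg' using fun z : G' => hdiv z.1 z.2
    let s : ℕ → G' := fun j => (fun z : G' => (⟨g z, hg z⟩ : G'))^[j] ⟨a, ha⟩
    have hs : ∀ j : ℕ, ((p : ℤ) ^ j) • (s j : G) = a := by
      intro j
      induction j with
      | zero => simp [s]
      | succ j ih =>
        rw [pow_succ, mul_smul, natCast_zsmul]
        have : p • (s (j + 1) : G) = (s j : G) := by
          simp only [s, Function.iterate_succ_apply']
          exact hg' _
        rw [this, ih]
    choose P hP using fun j => exists_poly f hf (s j : G)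
    obtain ⟨Q, hQ⟩ := exists_poly f hf a
    have hcomp : ∀ j, (P j).comp (Polynomial.C ((p : ℚ) ^ j) * Polynomial.X) = Q := fun j =>
      natCast_inj_infinite fun m => by
        rw [Polynomial.eval_comp, hQ, Polynomial.eval_mul, Polynomial.eval_C, Polynomial.eval_X,
          show (p : ℚ) ^ j * (m : ℚ) = (((p : ℤ) ^ j * m : ℤ) : ℚ) by push_cast; rfl, hP,
          mul_comm, mul_smul, hs]
    have hp0 : ∀ j : ℕ, (p : ℚ) ^ j ≠ 0 := fun j => pow_ne_zero _ (Nat.cast_ne_zero.mpr hp.ne_zero)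
    have hd : ∀ j, (P j).natDegree = Q.natDegree := fun j => by
      rw [← hcomp j, Polynomial.natDegree_comp, Polynomial.natDegree_C_mul_X _ (hp0 j), mul_one]
    have hl : ∀ j, Q.leadingCoeff = (P j).leadingCoeff * ((p : ℚ) ^ j) ^ Q.natDegree := fun j => by
      conv_lhs => rw [← hcomp j]
      rw [Polynomial.leadingCoeff_comp (by rw [Polynomial.natDegree_C_mul_X _ (hp0 j)]; exact one_ne_zero),
        Polynomial.leadingCoeff_C_mul_X, hd j]
    have hdeg : Q.natDegree = 0 := by
      by_contra hd0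
      have hQ0 : Q.leadingCoeff ≠ 0 := Polynomial.leadingCoeff_ne_zero.mpr fun h => hd0 (by simp [h])
      have hint' : ∀ j, ∃ z : ℤ, (P j).leadingCoeff * ((P j).natDegree.factorial : ℚ) = z :=
        fun j => exists_int_lead (P j) fun n => by rw [hP]; exact hint _
      choose z hz using hint'
      obtain ⟨z₀, hz₀⟩ : ∃ z₀ : ℤ, Q.leadingCoeff * (Q.natDegree.factorial : ℚ) = z₀ :=
        exists_int_lead Q fun n => by rw [hQ]; exact hint _
      have hz0 : z₀ ≠ 0 := by
        intro h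
        rw [h, Int.cast_zero, mul_eq_zero] at hz₀
        exact hz₀.elim hQ0 (Nat.cast_ne_zero.mpr (Nat.factorial_ne_zero _))
      have hdvd : ((p : ℤ) ^ z₀.natAbs) ^ Q.natDegree ∣ z₀ := by
        refine ⟨z z₀.natAbs, ?_⟩
        have h2 := hz z₀.natAbs
        rw [hd] at h2
        have h3 : (z₀ : ℚ) = ((p : ℚ) ^ z₀.natAbs) ^ Q.natDegree * z z₀.natAbs := by
          rw [← hz₀, ← h2, hl z₀.natAbs]; ring
        exact_mod_cast h3
      have hle := Int.natAbs_le_of_dvd_ne_zero hdvd hz0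
      rw [← pow_mul, Int.natAbs_pow, Int.natAbs_natCast] at hle
      have h4 : z₀.natAbs * Q.natDegree < p ^ (z₀.natAbs * Q.natDegree) := Nat.lt_pow_self hp.one_lt
      have h5 : z₀.natAbs ≤ z₀.natAbs * Q.natDegree := Nat.le_mul_of_pos_right _ (Nat.pos_of_ne_zero hd0)
      omega
    have e1 := hQ 1
    have e0 := hQ 0
    rw [Polynomial.eq_C_of_natDegree_eq_zero hdeg, Polynomial.eval_C] at e1 e0
    rw [one_smul] at e1
    rw [zero_smul] at e0
    rw [← e1, e0]
  obtain ⟨n, hn, hnx⟩ := htor x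
  obtain ⟨Q, hQ⟩ := exists_poly f hf x
  have hc : Q.comp (Polynomial.C (n : ℚ) * Polynomial.X) = Polynomial.C (f 0) :=
    natCast_inj_infinite fun m => by
      rw [Polynomial.eval_comp, Polynomial.eval_mul, Polynomial.eval_C, Polynomial.eval_X,
        Polynomial.eval_C, ← Int.cast_mul, hQ, mul_comm, mul_smul]
      exact key _ (G'.zsmul_mem hnx m)
  have hdeg : Q.natDegree = 0 := by
    have h := congrArg Polynomial.natDegree hc
    rwa [Polynomial.natDegree_comp, Polynomial.natDegree_C_mul_X _ (Int.cast_ne_zero.mpr hn), mul_one,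
      Polynomial.natDegree_C] at h
  have h1 := hQ 1
  have h0 := hQ 0
  rw [Polynomial.eq_C_of_natDegree_eq_zero hdeg, Polynomial.eval_C] at h1 h0
  rw [one_smul] at h1
  rw [zero_smul] at h0
  rw [← h1, h0]

end Groth.Agent.S5656
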