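import Groth.Statements.S5657
import Mathlib

set_option linter.style.haveILetI false

set_option autoImplicit false
universe u
open TensorProduct
open W4sga6xxiii

namespace Groth.Agent.S5657

/-- Let A be a commutative ring, I an ideal of A with I^{m+1} = 0, and P ⊆ Aˣ the subgroup of units of
the form 1 + y with y ∈ I. Then the map P → A ⊗_ℤ ℚ, x ↦ x ⊗ 1, is a polynomial map of degree ≤ m on
the abelian group P (written additively): along every finite sequence x_1, …, x_r in P one has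
x_1^{n_1}⋯x_r^{n_r} ⊗ 1 = Σ_k Π_i C(n_i, k_i) y_k with y_k = 0 whenever k_1 + ⋯ + k_r > m. -/
theorem result (A : Type u) [CommRing A] (I : Ideal A) (m : ℕ) (hI : I ^ (m + 1) = ⊥)
    (P : Subgroup Aˣ) (hP : ∀ u : Aˣ, u ∈ P ↔ (u : A) - 1 ∈ I) :
    W4sga6xxiii.IsPolyMapLE (fun u : Additive P => (((Additive.toMul u : P) : Aˣ) : A) ⊗ₜ[ℤ] (1 : ℚ)) m := by
  classical
  intro r x
  let y : Fin r → A := fun i => (((Additive.toMul (x i) : P) : Aˣ) : A) - 1
  have hy : ∀ i, y i ∈ I := fun i => (hP _).mp (Additive.toMul (x i)).2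
  have hpow : ∀ (i) (d : ℕ), m < d → y i ^ d = 0 := fun i d hd => by
    have h := Ideal.pow_mem_pow (hy i) d
    have h2 := Ideal.pow_le_pow_right (I := I) (show m + 1 ≤ d from hd) h
    rwa [hI] at h2
  let S : Fin r → ℤ → A := fun i t => ∑ d : Fin (m + 1), Ring.choose t (d : ℕ) • y i ^ (d : ℕ)
  have hS0 : ∀ i, S i 0 = 1 := fun i => by
    simp only [S, Fin.sum_univ_succ, Fin.val_zero, Fin.val_succ, Ring.choose_zero_right,
      Ring.choose_zero_succ, zero_smul, Finset.sum_const_zero, add_zero, pow_zero, one_smul]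
  have hS1 : ∀ i t, S i (t + 1) = S i t * (1 + y i) := by
    intro i t
    have key : S i (t + 1) = S i t + ∑ d : Fin m, Ring.choose t (d : ℕ) • y i ^ ((d : ℕ) + 1) := by
      simp only [S, Fin.sum_univ_succ, Fin.val_zero, Fin.val_succ, Ring.choose_zero_right,
        Ring.choose_succ_succ, add_smul, Finset.sum_add_distrib]
      abel
    rw [key, mul_add, mul_one]
    congr 1
    show _ = (∑ d : Fin (m + 1), Ring.choose t (d : ℕ) • y i ^ (d : ℕ)) * y i
    rw [Fin.sum_univ_castSucc, add_mul, smul_mul_assoc, Fin.val_last, ← pow_succ,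
      hpow i (m + 1) (Nat.lt_succ_self m), smul_zero, add_zero, Finset.sum_mul]
    refine Finset.sum_congr rfl fun d _ => ?_
    rw [smul_mul_assoc, ← pow_succ, Fin.val_castSucc]
  have hS : ∀ i (t : ℤ), ((((Additive.toMul (x i) : P) : Aˣ) ^ t : Aˣ) : A) = S i t := by
    intro i t
    have hu : (((Additive.toMul (x i) : P) : Aˣ) : A) = 1 + y i := by simp [y]
    induction t using Int.induction_on with
    | zero => rw [zpow_zero, Units.val_one, hS0]
    | succ t ih => rw [zpow_add_one, Units.val_mul, ih, hS1, hu]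
    | pred t ih =>
      refine ((Additive.toMul (x i) : P) : Aˣ).mul_left_inj.mp ?_
      have h := hS1 i (-(t : ℤ) - 1)
      rw [sub_add_cancel, ← hu, ← ih] at h
      rw [← h, ← Units.val_mul, ← zpow_add_one, sub_add_cancel]
  refine ⟨fun k => (∏ i, y i ^ (k i : ℕ)) ⊗ₜ[ℤ] (1 : ℚ), fun k hk => ?_, fun nn => ?_⟩
  · have h1 : ∏ i, y i ^ (k i : ℕ) ∈ I ^ (∑ i, (k i : ℕ)) := by
      rw [← Finset.prod_pow_eq_pow_sum]
      exact Ideal.prod_mem_prod fun i _ => Ideal.pow_mem_pow (hy i) _
    have h2 := Ideal.pow_le_pow_right (I := I) (show m + 1 ≤ _ from hk) h1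
    rw [hI, Ideal.mem_bot] at h2
    show (∏ i, y i ^ (k i : ℕ)) ⊗ₜ[ℤ] (1 : ℚ) = 0
    rw [h2, TensorProduct.zero_tmul]
  · have hval : (((Additive.toMul (∑ i, nn i • x i) : P) : Aˣ) : A) = ∏ i, S i (nn i) := by
      simp only [toMul_sum, toMul_zsmul, SubmonoidClass.coe_finsetProd, Subgroup.coe_zpow,
        Units.coe_prod, hS]
    simp only [hval, S]
    rw [Finset.prod_univ_sum, TensorProduct.sum_tmul, Fintype.piFinset_univ]
    refine Finset.sum_congr rfl fun k _ => ?_
    rw [TensorProduct.smul_tmul']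
    congr 1
    simp only [zsmul_eq_mul, Finset.prod_mul_distrib, Int.cast_prod]

end Groth.Agent.S5657
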