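import Groth.Statements.S5658
import Mathlib.RingTheory.Etale.StandardEtale
import Mathlib.LinearAlgebra.Matrix.Transvection
import Mathlib.LinearAlgebra.Matrix.Swap
import Mathlib.GroupTheory.Abelianization.Defs
import Mathlib.FieldTheory.IsAlgClosed.AlgebraicClosure
import Mathlib.RingTheory.Spectrum.Prime.Basic
import Mathlib.RingTheory.LocalRing.ResidueField.Ideal
import Mathlib.Tactic.LinearCombination

set_option autoImplicit false
universe u
open CAlg

namespace Groth.Agent.S5658

open Matrix
open scoped commutatorElement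

section
variable {B : Type u} [CommRing B] {n : ℕ}

/-- A transvection as an element of `GL`. -/
def tv {i j : Fin n} (h : i ≠ j) (a : B) : GL (Fin n) B :=
  ⟨transvection i j a, transvection i j (-a), by rw [transvection_mul_transvection_same i j h, add_neg_cancel, transvection_zero],
    by rw [transvection_mul_transvection_same i j h, neg_add_cancel, transvection_zero]⟩

/-- A diagonal element of `GL`. -/
def dg : (Fin n → Bˣ) →* GL (Fin n) B :=
  { toFun := fun d => ⟨diagonal fun i => (d i : B), diagonal fun i => (((d i)⁻¹ : Bˣ) : B),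
      by rw [diagonal_mul_diagonal]; simp, by rw [diagonal_mul_diagonal]; simp⟩
    map_one' := Units.ext (by simp)
    map_mul' := fun d e => Units.ext (by simp [diagonal_mul_diagonal]) }

theorem dg_coe (d : Fin n → Bˣ) : (dg d : Matrix (Fin n) (Fin n) B) = diagonal fun i => (d i : B) := rfl

theorem tv_mem {u : Bˣ} (hu : IsUnit ((u : B) - 1)) {i j : Fin n} (h : i ≠ j) (a : B) :
    tv h a ∈ commutator (GL (Fin n) B) := by
  obtain ⟨v, hv⟩ := hu
  let D := dg (Pi.mulSingle i u)
  let b : B := a * (v⁻¹ : Bˣ)
  have hD : D * tv h b = tv h ((u : B) * b) * D := Units.ext (Matrix.ext fun x y => by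
    show (diagonal (fun k => ((Pi.mulSingle i u : Fin n → Bˣ) k : B)) * transvection i j b) x y =
      (transvection i j ((u : B) * b) * diagonal fun k => ((Pi.mulSingle i u : Fin n → Bˣ) k : B)) x y
    rw [diagonal_mul, mul_diagonal, Matrix.transvection, Matrix.transvection]
    by_cases hxy : x = y
    · subst hxy
      simp [show ¬(i = x ∧ j = x) from fun e => h (e.1.trans e.2.symm)]
    · by_cases hij : i = x ∧ j = y
      · obtain ⟨rfl, rfl⟩ := hij
        simp [hxy, Ne.symm h]
      · simp [hxy, hij])
  have h2 : tv h a * tv h b = tv h ((u : B) * b) := Units.ext (by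
    show transvection i j a * transvection i j b = transvection i j ((u : B) * b)
    rw [transvection_mul_transvection_same i j h]
    congr 1
    have : b * ((u : B) - 1) = a := by rw [← hv, mul_assoc, Units.inv_mul, mul_one]
    linear_combination -this)
  rw [show tv h a = ⁅D, tv h b⁆ by rw [commutatorElement_def, hD, mul_inv_cancel_right, ← h2, mul_inv_cancel_right]]
  exact Subgroup.commutator_mem_commutator trivial trivial

theorem dg_mem (d : Fin n → Bˣ) (hd : ∏ i, d i = 1) : dg d ∈ commutator (GL (Fin n) B) := by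
  rcases Nat.eq_zero_or_pos n with rfl | hn
  · rw [Subsingleton.elim d 1, map_one]; exact one_mem _
  let i₀ : Fin n := ⟨0, hn⟩
  let f : GL (Fin n) B →* Abelianization (GL (Fin n) B) := Abelianization.of
  have hconj : ∀ (i : Fin n) (x : Bˣ), f (dg (Pi.mulSingle i x)) = f (dg (Pi.mulSingle i₀ x)) := fun i x => by
    let P : GL (Fin n) B := ⟨Matrix.swap B i i₀, Matrix.swap B i i₀, Matrix.swap_mul_self i i₀, Matrix.swap_mul_self i i₀⟩
    have h1 : P * dg (Pi.mulSingle i x) = dg (Pi.mulSingle i₀ x) * P := Units.ext (Matrix.ext fun a b => by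
      show ((Equiv.swap i i₀).permMatrix B * diagonal fun k => ((Pi.mulSingle i x : Fin n → Bˣ) k : B)) a b =
        ((diagonal fun k => ((Pi.mulSingle i₀ x : Fin n → Bˣ) k : B)) * (Equiv.swap i i₀).permMatrix B) a b
      rw [mul_diagonal, diagonal_mul]
      by_cases hab : Equiv.swap i i₀ a = b
      · subst hab
        rw [show (Pi.mulSingle i x : Fin n → Bˣ) (Equiv.swap i i₀ a) = (Pi.mulSingle i₀ x : Fin n → Bˣ) a by
          simp [Pi.mulSingle_apply, Equiv.swap_apply_eq_iff], mul_comm]
      · simp [Equiv.Perm.permMatrix, PEquiv.toMatrix_apply, hab])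
    have h2 := congrArg f h1
    rw [map_mul, map_mul, mul_comm (f (dg _)) (f P)] at h2
    exact mul_left_cancel h2
  rw [← Abelianization.ker_of, MonoidHom.mem_ker]
  show f (dg d) = 1
  rw [← Finset.univ_prod_mulSingle d]
  show (f.comp dg) _ = 1
  rw [map_prod]
  simp only [MonoidHom.comp_apply]
  rw [Finset.prod_congr rfl fun i _ => hconj i (d i)]
  rw [show (∏ i, f (dg (Pi.mulSingle i₀ (d i)))) = f (dg (Pi.mulSingle i₀ (∏ i, d i))) from
    (map_prod (f.comp (dg.comp (MonoidHom.mulSingle (fun _ : Fin n => Bˣ) i₀))) d Finset.univ).symm,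
    hd, Pi.mulSingle_one, map_one, map_one]

/-- Clearing the rows of a finite set in one column. -/
theorem clear_rows {u : Bˣ} (hu : IsUnit ((u : B) - 1)) (M : Matrix (Fin n) (Fin n) B) (k : Fin n)
    (hk : IsUnit (M k k)) (hdiag : ∀ i j : Fin n, (j : ℕ) < k → i ≠ j → M i j = 0)
    (s : Finset (Fin n)) (hs : k ∉ s) :
    ∃ E ∈ commutator (GL (Fin n) B), (∀ j, ((E : Matrix (Fin n) (Fin n) B) * M) k j = M k j) ∧
      (∀ i j : Fin n, (j : ℕ) < k → ((E : Matrix (Fin n) (Fin n) B) * M) i j = M i j) ∧
      ∀ i ∈ s, ((E : Matrix (Fin n) (Fin n) B) * M) i k = 0 := by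
  classical
  induction s using Finset.induction_on with
  | empty => exact ⟨1, one_mem _, fun j => by simp, fun i j _ => by simp, by simp⟩
  | insert a s ha ih =>
    rw [Finset.mem_insert, not_or] at hs
    obtain ⟨E, hE, h1, h2, h3⟩ := ih hs.2
    obtain ⟨c, hc⟩ := hk.exists_left_inv
    have hak : a ≠ k := Ne.symm hs.1
    let N := (E : Matrix (Fin n) (Fin n) B) * M
    refine ⟨tv hak (-(N a k * c)) * E, mul_mem (tv_mem hu hak _) hE, ?_⟩
    have hmat : ((tv hak (-(N a k * c)) * E : GL (Fin n) B) : Matrix (Fin n) (Fin n) B) * M = transvection a k (-(N a k * c)) * N := by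
      rw [Units.val_mul, Matrix.mul_assoc]; rfl
    rw [hmat]
    refine ⟨fun j => ?_, fun i j hj => ?_, fun i hi => ?_⟩
    · rw [transvection_mul_apply_of_ne a k _ _ hs.1]; exact h1 j
    · rcases eq_or_ne i a with rfl | hia
      · rw [transvection_mul_apply_same, show N k j = 0 from (h2 k j hj).trans (hdiag k j hj (by omega)), mul_zero, add_zero]
        exact h2 i j hj
      · rw [transvection_mul_apply_of_ne a k _ _ hia]; exact h2 i j hj
    · rcases eq_or_ne i a with rfl | hia
      · rw [transvection_mul_apply_same, show N k k = M k k from h1 k, neg_mul, mul_assoc, hc, mul_one, add_neg_cancel]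
      · rw [transvection_mul_apply_of_ne a k _ _ hia]
        exact h3 i ((Finset.mem_insert.1 hi).resolve_left hia)

end

theorem map_mem_commutator {G G' : Type*} [Group G] [Group G'] (f : G →* G') {x : G} (hx : x ∈ commutator G) :
    f x ∈ commutator G' := by
  have h : (commutator G).map f ≤ commutator G' := by
    rw [_root_.commutator_def, Subgroup.map_commutator]
    exact Subgroup.commutator_mono le_top le_top
  exact h ⟨x, hx, rfl⟩

/-- Elimination up to column `k`, after an étale extension with a given point. -/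
theorem step {A K : Type u} [CommRing A] [Field K] [Algebra A K] {n : ℕ} (s : GL (Fin n) A)
    (A' : Type u) [CommRing A'] [Algebra A A'] [Algebra.Etale A A'] (ψ₀ : A' →ₐ[A] K) (u₀ : A'ˣ)
    (hu₀ : IsUnit ((u₀ : A') - 1)) (k : ℕ) (hk : k ≤ n) :
    ∃ (B : Type u) (_ : CommRing B) (_ : Algebra A B), Algebra.Etale A B ∧ ∃ (_ : B →ₐ[A] K) (u : Bˣ),
      IsUnit ((u : B) - 1) ∧ ∃ E ∈ commutator (GL (Fin n) B), ∀ i j : Fin n, (j : ℕ) < k → i ≠ j →
        ((E * GeneralLinearGroup.map (algebraMap A B) s : GL (Fin n) B) : Matrix (Fin n) (Fin n) B) i j = 0 := by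
  classical
  induction k with
  | zero => exact ⟨A', _, _, inferInstance, ψ₀, u₀, hu₀, 1, one_mem _, fun i j hj => absurd hj (by omega)⟩
  | succ k ih =>
    obtain ⟨B, _, _, hB, ψ, u, hu, E, hE, hcol⟩ := ih (by omega)
    let g : GL (Fin n) B := E * GeneralLinearGroup.map (algebraMap A B) s
    let k' : Fin n := ⟨k, by omega⟩
    obtain ⟨i, hik, hi⟩ : ∃ i : Fin n, k ≤ i ∧ ψ ((g : Matrix (Fin n) (Fin n) B) i k') ≠ 0 := by
      let g' : GL (Fin n) K := GeneralLinearGroup.map ψ.toRingHom g
      have hM : ∀ i j : Fin n, (g' : Matrix (Fin n) (Fin n) K) i j = ψ ((g : Matrix (Fin n) (Fin n) B) i j) := fun i j => rfl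
      have h1 : ∀ i j, (((g'⁻¹ : GL (Fin n) K) : Matrix (Fin n) (Fin n) K) * (g' : Matrix (Fin n) (Fin n) K)) i j = (1 : Matrix (Fin n) (Fin n) K) i j :=
        fun i j => by rw [Units.inv_mul]
      have hk' := h1 k' k'
      rw [Matrix.mul_apply, one_apply_eq] at hk'
      obtain ⟨i, -, hi⟩ := Finset.exists_ne_zero_of_sum_ne_zero (s := Finset.univ) (by rw [hk']; exact one_ne_zero)
      refine ⟨i, not_lt.1 fun hlt => ?_, fun h => hi (by rw [hM, h, mul_zero])⟩
      have hne : k' ≠ i := fun e => by subst e; exact lt_irrefl _ hlt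
      have hcomb : ∀ l, ((((g'⁻¹ : GL (Fin n) K) : Matrix (Fin n) (Fin n) K)) * (g' : Matrix (Fin n) (Fin n) K)) l i =
          ((g'⁻¹ : GL (Fin n) K) : Matrix (Fin n) (Fin n) K) l i * ψ ((g : Matrix (Fin n) (Fin n) B) i i) := fun l => by
        rw [Matrix.mul_apply, Finset.sum_eq_single i (fun j _ hj => by rw [hM, show (g : Matrix (Fin n) (Fin n) B) j i = 0 from hcol j i hlt hj,
          map_zero, mul_zero]) (by simp), hM]
      have h2 := (hcomb k').symm.trans (h1 k' i)
      have h3 := (hcomb i).symm.trans (h1 i i)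
      rw [one_apply_ne hne, mul_eq_zero] at h2
      rw [one_apply_eq] at h3
      refine hi ?_
      rw [h2.resolve_right fun h => by rw [h, mul_zero] at h3; exact zero_ne_one h3, zero_mul]
    let x := (g : Matrix (Fin n) (Fin n) B) i k'
    let B' := Localization.Away x
    let φ : B →ₐ[A] B' := IsScalarTower.toAlgHom A B B'
    haveI : Algebra.Etale A B' := inferInstance
    have hux : IsUnit (ψ x) := isUnit_iff_ne_zero.2 hi
    let ψ' : B' →ₐ[A] K := IsLocalization.liftAlgHom (M := Submonoid.powers x) (f := ψ) fun ⟨_, m, hm⟩ => by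
      subst hm; exact (map_pow ψ x m).symm ▸ hux.pow m
    let u' : B'ˣ := Units.map φ.toRingHom.toMonoidHom u
    have hu' : IsUnit ((u' : B') - 1) := by simpa [u'] using hu.map φ
    let mp := GeneralLinearGroup.map (n := Fin n) φ.toRingHom
    have hxu : IsUnit ((mp g : Matrix (Fin n) (Fin n) B') i k') := IsLocalization.map_units B' (⟨x, Submonoid.mem_powers x⟩ : Submonoid.powers x)
    have hcol' : ∀ i j : Fin n, (j : ℕ) < k → i ≠ j → (mp g : Matrix (Fin n) (Fin n) B') i j = 0 := fun i j hj hne => by
      show φ ((g : Matrix (Fin n) (Fin n) B) i j) = 0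
      rw [show (g : Matrix (Fin n) (Fin n) B) i j = 0 from hcol i j hj hne, map_zero]
    obtain ⟨F, hF, hkk, hFcol⟩ : ∃ F ∈ commutator (GL (Fin n) B'), IsUnit (((F * mp g : GL (Fin n) B') : Matrix (Fin n) (Fin n) B') k' k') ∧
        ∀ i j : Fin n, (j : ℕ) < k → i ≠ j → ((F * mp g : GL (Fin n) B') : Matrix (Fin n) (Fin n) B') i j = 0 := by
      rcases eq_or_ne i k' with rfl | hne
      · exact ⟨1, one_mem _, by rw [one_mul]; exact hxu, fun a b hb hab => by rw [one_mul]; exact hcol' a b hb hab⟩
      let a : B' := (1 - (mp g : Matrix (Fin n) (Fin n) B') k' k') * ((hxu.unit⁻¹ : B'ˣ) : B')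
      refine ⟨tv hne.symm a, tv_mem hu' _ _, ?_, fun l j hj hlj => ?_⟩
      · show IsUnit ((transvection k' i a * (mp g : Matrix (Fin n) (Fin n) B')) k' k')
        rw [transvection_mul_apply_same, mul_assoc, IsUnit.val_inv_mul, mul_one, add_sub_cancel]
        exact isUnit_one
      · show (transvection k' i a * (mp g : Matrix (Fin n) (Fin n) B')) l j = 0
        rcases eq_or_ne l k' with rfl | hl
        · rw [transvection_mul_apply_same, hcol' _ j hj hlj, hcol' i j hj (fun e => by subst e; omega), mul_zero, add_zero]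
        · rw [transvection_mul_apply_of_ne _ _ _ _ hl]; exact hcol' l j hj hlj
    obtain ⟨G, hG, -, hG2, hG3⟩ := clear_rows hu' _ k' hkk hFcol (Finset.univ.erase k') (Finset.notMem_erase _ _)
    refine ⟨B', _, _, inferInstance, ψ', u', hu', G * F * mp E, mul_mem (mul_mem hG hF) (map_mem_commutator mp hE),
      fun a b hb hab => ?_⟩
    have he : G * F * mp E * GeneralLinearGroup.map (algebraMap A B') s = G * (F * mp g) := by
      rw [show GeneralLinearGroup.map (algebraMap A B') s = mp (GeneralLinearGroup.map (algebraMap A B) s) from rfl]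
      simp only [g, map_mul, mul_assoc]
    rw [he, Units.val_mul]
    rcases Nat.lt_succ_iff_lt_or_eq.1 hb with hb' | hb'
    · rw [hG2 a b hb']; exact hFcol a b hb' hab
    · obtain rfl : b = k' := Fin.ext hb'
      exact hG3 a (Finset.mem_erase.2 ⟨hab, Finset.mem_univ a⟩)

/-- On the big étale site of a scheme the sheaf of commutator subgroups of Gl(n) is Sl(n) = Ker(det).
Concretely: let A be a commutative ring, n ≥ 0, s ∈ SL_n(A) and p a prime ideal of A. Then there are
an étale A-algebra A' with a prime ideal lying over p such that the image of s in GL_n(A') lies in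
the commutator subgroup of GL_n(A'). (The inclusion of commutators in SL_n being clear, this is the
content of the statement.) -/
theorem result (A : Type u) [CommRing A] (n : ℕ)
    (s : Matrix.SpecialLinearGroup (Fin n) A) (p : PrimeSpectrum A) :
    ∃ (A' : Type u) (_ : CommRing A') (_ : Algebra A A'), Algebra.Etale A A' ∧
      (∃ q : PrimeSpectrum A', q.asIdeal.comap (algebraMap A A') = p.asIdeal) ∧
      (Matrix.GeneralLinearGroup.map (algebraMap A A')) (Matrix.SpecialLinearGroup.toGL s) ∈
        commutator (Matrix.GeneralLinearGroup (Fin n) A') := by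
  classical
  let K := AlgebraicClosure p.asIdeal.ResidueField
  obtain ⟨A', _, _, _, ψ₀, u₀, hu₀⟩ : ∃ (A' : Type u) (_ : CommRing A') (_ : Algebra A A') (_ : Algebra.Etale A A')
      (_ : A' →ₐ[A] K) (u : A'ˣ), IsUnit ((u : A') - 1) := by
    have hker : ∀ a : A, algebraMap A K a = 0 ↔ a ∈ p.asIdeal := fun a => by
      rw [IsScalarTower.algebraMap_apply A p.asIdeal.ResidueField K, map_eq_zero,
        Ideal.algebraMap_residueField_eq_zero]
    by_cases h3 : (3 : A) ∈ p.asIdeal
    · have h2 : (2 : A) ∉ p.asIdeal := fun h2 => p.2.ne_top (p.asIdeal.eq_top_iff_one.2 (by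
        have := sub_mem h3 h2; rwa [show (3 : A) - 2 = 1 by norm_num] at this))
      have h2K : IsUnit (algebraMap A K 2) := isUnit_iff_ne_zero.2 fun h => h2 ((hker _).1 h)
      have h2' : IsUnit (-(2 : Localization.Away (2 : A))) := by
        have := (IsLocalization.map_units (Localization.Away (2 : A)) (⟨2, Submonoid.mem_powers 2⟩ : Submonoid.powers (2 : A))).neg
        simpa only [map_ofNat] using this
      refine ⟨Localization.Away (2 : A), _, _, inferInstance,
        IsLocalization.liftAlgHom (M := Submonoid.powers (2 : A)) (f := Algebra.ofId A K) (fun ⟨_, m, hm⟩ => by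
          subst hm; show IsUnit (algebraMap A K (2 ^ m)); rw [map_pow]; exact h2K.pow m), -1, ?_⟩
      show IsUnit (-(1 : Localization.Away (2 : A)) - 1)
      rw [show -(1 : Localization.Away (2 : A)) - 1 = -2 by ring]
      exact h2'
    · have h3K : algebraMap A K 3 ≠ 0 := fun h => h3 ((hker _).1 h)
      open Polynomial in
      let P : StandardEtalePair A :=
        { f := X ^ 2 + X + 1
          monic_f := by monicity!
          g := C 3
          cond := ⟨-(C 2 * X + 1), 4, 1, by
            rw [map_add, map_add, derivative_pow, derivative_X, derivative_one]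
            simp only [map_ofNat, pow_one, Nat.cast_ofNat, Nat.reduceSub, mul_one, add_zero]
            ring⟩ }
      obtain ⟨hf, hg⟩ : P.HasMap P.X := P.hasMap_X
      simp only [P, map_add, map_pow, map_one, Polynomial.aeval_X, Polynomial.aeval_C] at hf hg
      obtain ⟨w, hw⟩ := IsAlgClosed.exists_root (Polynomial.X ^ 2 + Polynomial.X + 1 : Polynomial K) (by
        rw [show (Polynomial.X ^ 2 + Polynomial.X + 1 : Polynomial K).degree = 2 by compute_degree!]; decide)
      refine ⟨P.Ring, _, _, inferInstance, P.lift w ⟨by simpa [P, Polynomial.IsRoot] using hw, ?_⟩, Units.mkOfMulEqOne P.X (-P.X - 1) (by linear_combination -hf), ?_⟩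
      · simp only [P, Polynomial.aeval_C]; exact isUnit_iff_ne_zero.2 h3K
      · refine isUnit_of_mul_isUnit_left (y := P.X + 2) ?_
        rw [show ((Units.mkOfMulEqOne P.X (-P.X - 1) (by linear_combination -hf) : P.Ringˣ) : P.Ring) - 1 = P.X - 1 from rfl,
          show (P.X - 1) * (P.X + 2) = -algebraMap A P.Ring 3 by rw [map_ofNat]; linear_combination hf]
        exact hg.neg
  obtain ⟨B, _, _, hB, ψ, u, hu, E, hE, hcol⟩ := step (Matrix.SpecialLinearGroup.toGL s) A' ψ₀ u₀ hu₀ n le_rfl
  refine ⟨B, _, _, hB, ⟨⟨RingHom.ker ψ.toRingHom, RingHom.ker_isPrime _⟩, ?_⟩, ?_⟩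
  · ext a
    show ψ (algebraMap A B a) = 0 ↔ _
    rw [ψ.commutes, IsScalarTower.algebraMap_apply A p.asIdeal.ResidueField K,
      map_eq_zero, Ideal.algebraMap_residueField_eq_zero]
  · let g := E * GeneralLinearGroup.map (algebraMap A B) (Matrix.SpecialLinearGroup.toGL s)
    have hdet : (g : Matrix (Fin n) (Fin n) B).det = 1 := by
      have h1 : GeneralLinearGroup.det E = 1 := MonoidHom.mem_ker.1 ((Abelianization.commutator_subset_ker GeneralLinearGroup.det) hE)
      have h2 : (E : Matrix (Fin n) (Fin n) B).det = 1 := congrArg Units.val h1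
      rw [Units.val_mul, det_mul, h2, one_mul]
      show ((algebraMap A B).mapMatrix (s : Matrix (Fin n) (Fin n) A)).det = 1
      rw [← RingHom.map_det, s.2, map_one]
    have hdiag : (g : Matrix (Fin n) (Fin n) B) = diagonal fun i => (g : Matrix (Fin n) (Fin n) B) i i := Matrix.ext fun i j => by
      rcases eq_or_ne i j with rfl | h
      · simp
      · rw [diagonal_apply_ne _ h]; exact hcol i j j.2 h
    rw [hdiag, det_diagonal] at hdet
    have hun : ∀ i, IsUnit ((g : Matrix (Fin n) (Fin n) B) i i) := fun i =>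
      isUnit_of_dvd_one (hdet ▸ Finset.dvd_prod_of_mem _ (Finset.mem_univ i))
    have hg : g = dg fun i => (hun i).unit := Units.ext (hdiag.trans (by rw [dg_coe]; rfl))
    have hgm : g ∈ commutator (GL (Fin n) B) := hg ▸ dg_mem _ (Units.ext (by simpa [Units.coe_prod] using hdet))
    have := mul_mem (inv_mem hE) hgm
    rwa [show E⁻¹ * g = GeneralLinearGroup.map (algebraMap A B) (Matrix.SpecialLinearGroup.toGL s) from
      inv_mul_cancel_left _ _] at this

end Groth.Agent.S5658
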