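import Groth.Statements.S5659
import Mathlib.LinearAlgebra.Matrix.Transvection
import Mathlib.LinearAlgebra.Matrix.Swap
import Mathlib.Algebra.Polynomial.Laurent
import Mathlib.RingTheory.Spectrum.Prime.Topology
import Mathlib.RingTheory.Localization.AtPrime.Basic
import Mathlib.RingTheory.LocalRing.Basic
import Mathlib.RingTheory.LocalProperties.Basic
import Mathlib.Tactic.LinearCombination

set_option autoImplicit false
universe u
open CAlg

namespace Groth.Agent.S5659

open Matrix LaurentPolynomial

/-- The variable of the Laurent polynomial ring as a unit. -/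
noncomputable def tU (R : Type u) [CommRing R] : (LaurentPolynomial R)ˣ :=
  ⟨T 1, T (-1), by rw [← T_add, add_neg_cancel, T_zero], by rw [← T_add, neg_add_cancel, T_zero]⟩

theorem tU_zpow (R : Type u) [CommRing R] (k : ℤ) : ((tU R ^ k : (LaurentPolynomial R)ˣ) : LaurentPolynomial R) = T k := by
  induction k using Int.induction_on with
  | zero => simp
  | succ i ih => rw [_root_.zpow_add_one, Units.val_mul, ih, T_add]; rfl
  | pred i ih => rw [_root_.zpow_sub_one, Units.val_mul, ih, sub_eq_add_neg, T_add]; rfl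

theorem algebraMap_eq_C (R : Type u) [CommRing R] : algebraMap R (LaurentPolynomial R) = LaurentPolynomial.C :=
  RingHom.ext fun r => (LaurentPolynomial.C_eq_algebraMap r).symm

section
variable {B : Type u} [CommRing B] {n : ℕ}

/-- A transvection as an element of `GL`. -/
def tv {i j : Fin n} (h : i ≠ j) (a : B) : GL (Fin n) B :=
  ⟨transvection i j a, transvection i j (-a), by rw [transvection_mul_transvection_same i j h, add_neg_cancel, transvection_zero],
    by rw [transvection_mul_transvection_same i j h, neg_add_cancel, transvection_zero]⟩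

/-- A diagonal element of `GL`. -/
def dg : (Fin n → Bˣ) →* GL (Fin n) B :=
  { toFun := fun d => ⟨diagonal fun i => (d i : B), diagonal fun i => (((d i)⁻¹ : Bˣ) : B),
      by rw [diagonal_mul_diagonal]; simp, by rw [diagonal_mul_diagonal]; simp⟩
    map_one' := Units.ext (by simp)
    map_mul' := fun d e => Units.ext (by simp [diagonal_mul_diagonal]) }

theorem dg_coe (d : Fin n → Bˣ) : (dg d : Matrix (Fin n) (Fin n) B) = diagonal fun i => (d i : B) := rfl

theorem conj_tv (u : Bˣ) {i j : Fin n} (h : i ≠ j) (b : B) :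
    dg (Pi.mulSingle i u) * tv h b = tv h ((u : B) * b) * dg (Pi.mulSingle i u) := Units.ext (Matrix.ext fun x y => by
    show (diagonal (fun k => ((Pi.mulSingle i u : Fin n → Bˣ) k : B)) * transvection i j b) x y =
      (transvection i j ((u : B) * b) * diagonal fun k => ((Pi.mulSingle i u : Fin n → Bˣ) k : B)) x y
    rw [diagonal_mul, mul_diagonal, Matrix.transvection, Matrix.transvection]
    by_cases hxy : x = y
    · subst hxy
      simp [show ¬(i = x ∧ j = x) from fun e => h (e.1.trans e.2.symm)]
    · by_cases hij : i = x ∧ j = y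
      · obtain ⟨rfl, rfl⟩ := hij
        simp [hxy, Ne.symm h]
      · simp [hxy, hij])

/-- A permutation matrix of a transposition as an element of `GL`. -/
def sw (i j : Fin n) : GL (Fin n) B :=
  ⟨Matrix.swap B i j, Matrix.swap B i j, Matrix.swap_mul_self i j, Matrix.swap_mul_self i j⟩

theorem conj_sw (i i₀ : Fin n) (x : Bˣ) : sw i i₀ * dg (Pi.mulSingle i x) = dg (Pi.mulSingle i₀ x) * sw i i₀ :=
  Units.ext (Matrix.ext fun a b => by
      show ((Equiv.swap i i₀).permMatrix B * diagonal fun k => ((Pi.mulSingle i x : Fin n → Bˣ) k : B)) a b =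
        ((diagonal fun k => ((Pi.mulSingle i₀ x : Fin n → Bˣ) k : B)) * (Equiv.swap i i₀).permMatrix B) a b
      rw [mul_diagonal, diagonal_mul]
      by_cases hab : Equiv.swap i i₀ a = b
      · subst hab
        rw [show (Pi.mulSingle i x : Fin n → Bˣ) (Equiv.swap i i₀ a) = (Pi.mulSingle i₀ x : Fin n → Bˣ) a by
          simp [Pi.mulSingle_apply, Equiv.swap_apply_eq_iff], mul_comm]
      · simp [Equiv.Perm.permMatrix, PEquiv.toMatrix_apply, hab])

/-- The subgroup generated by transvections. -/
def tvs (B : Type u) [CommRing B] (n : ℕ) : Subgroup (GL (Fin n) B) :=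
  Subgroup.closure {g | ∃ (i j : Fin n) (h : i ≠ j) (a : B), g = tv h a}

theorem tv_mem {i j : Fin n} (h : i ≠ j) (a : B) : tv h a ∈ tvs B n := Subgroup.subset_closure ⟨i, j, h, a, rfl⟩

/-- Clearing the rows of a finite set in one column. -/
theorem clear_rows (M : Matrix (Fin n) (Fin n) B) (k : Fin n)
    (hk : IsUnit (M k k)) (hdiag : ∀ i j : Fin n, (j : ℕ) < k → i ≠ j → M i j = 0)
    (s : Finset (Fin n)) (hs : k ∉ s) :
    ∃ E ∈ tvs B n, (∀ j, ((E : Matrix (Fin n) (Fin n) B) * M) k j = M k j) ∧
      (∀ i j : Fin n, (j : ℕ) < k → ((E : Matrix (Fin n) (Fin n) B) * M) i j = M i j) ∧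
      ∀ i ∈ s, ((E : Matrix (Fin n) (Fin n) B) * M) i k = 0 := by
  classical
  induction s using Finset.induction_on with
  | empty => exact ⟨1, one_mem _, fun j => by simp, fun i j _ => by simp, by simp⟩
  | insert a s ha ih =>
    rw [Finset.mem_insert, not_or] at hs
    obtain ⟨E, hE, h1, h2, h3⟩ := ih hs.2
    obtain ⟨c, hc⟩ := hk.exists_left_inv
    have hak : a ≠ k := Ne.symm hs.1
    let N := (E : Matrix (Fin n) (Fin n) B) * M
    refine ⟨tv hak (-(N a k * c)) * E, mul_mem (tv_mem hak _) hE, ?_⟩
    have hmat : ((tv hak (-(N a k * c)) * E : GL (Fin n) B) : Matrix (Fin n) (Fin n) B) * M = transvection a k (-(N a k * c)) * N := by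
      rw [Units.val_mul, Matrix.mul_assoc]; rfl
    rw [hmat]
    refine ⟨fun j => ?_, fun i j hj => ?_, fun i hi => ?_⟩
    · rw [transvection_mul_apply_of_ne a k _ _ hs.1]; exact h1 j
    · rcases eq_or_ne i a with rfl | hia
      · rw [transvection_mul_apply_same, show N k j = 0 from (h2 k j hj).trans (hdiag k j hj (by omega)), mul_zero, add_zero]
        exact h2 i j hj
      · rw [transvection_mul_apply_of_ne a k _ _ hia]; exact h2 i j hj
    · rcases eq_or_ne i a with rfl | hia
      · rw [transvection_mul_apply_same, show N k k = M k k from h1 k, neg_mul, mul_assoc, hc, mul_one, add_neg_cancel]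
      · rw [transvection_mul_apply_of_ne a k _ _ hia]
        exact h3 i ((Finset.mem_insert.1 hi).resolve_left hia)

/-- Over a local ring every invertible matrix is a product of transvections and a diagonal one. -/
theorem exists_diag [IsLocalRing B] (s : GL (Fin n) B) (k : ℕ) (hk : k ≤ n) :
    ∃ E ∈ tvs B n, ∀ i j : Fin n, (j : ℕ) < k → i ≠ j → ((E * s : GL (Fin n) B) : Matrix (Fin n) (Fin n) B) i j = 0 := by
  classical
  induction k with
  | zero => exact ⟨1, one_mem _, fun i j hj => absurd hj (by omega)⟩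
  | succ k ih =>
    obtain ⟨E, hE, hcol⟩ := ih (by omega)
    let g : GL (Fin n) B := E * s
    let k' : Fin n := ⟨k, by omega⟩
    obtain ⟨i, hik, hi⟩ : ∃ i : Fin n, k ≤ i ∧ IsUnit ((g : Matrix (Fin n) (Fin n) B) i k') := by
      have h1 : ∀ i j, (((g⁻¹ : GL (Fin n) B) : Matrix (Fin n) (Fin n) B) * (g : Matrix (Fin n) (Fin n) B)) i j = (1 : Matrix (Fin n) (Fin n) B) i j :=
        fun i j => by rw [Units.inv_mul]
      obtain ⟨i, -, hi⟩ : ∃ i ∈ Finset.univ, IsUnit (((g⁻¹ : GL (Fin n) B) : Matrix (Fin n) (Fin n) B) k' i * (g : Matrix (Fin n) (Fin n) B) i k') := by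
        by_contra h
        push Not at h
        exact IsLocalRing.maximalIdeal.isMaximal B |>.ne_top ((Ideal.eq_top_iff_one _).2 (by
          rw [← one_apply_eq (α := B) k', ← h1 k' k', Matrix.mul_apply]
          exact sum_mem fun i hi => h i hi))
      refine ⟨i, not_lt.1 fun hlt => ?_, isUnit_of_mul_isUnit_right hi⟩
      have hne : k' ≠ i := fun e => by subst e; exact lt_irrefl _ hlt
      have hcomb : ∀ l, ((((g⁻¹ : GL (Fin n) B) : Matrix (Fin n) (Fin n) B)) * (g : Matrix (Fin n) (Fin n) B)) l i =
          ((g⁻¹ : GL (Fin n) B) : Matrix (Fin n) (Fin n) B) l i * (g : Matrix (Fin n) (Fin n) B) i i := fun l => by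
        rw [Matrix.mul_apply, Finset.sum_eq_single i (fun j _ hj => by rw [show (g : Matrix (Fin n) (Fin n) B) j i = 0 from hcol j i hlt hj,
          mul_zero]) (by simp)]
      have h2 := (hcomb k').symm.trans (h1 k' i)
      have h3 := (hcomb i).symm.trans (h1 i i)
      rw [one_apply_ne hne] at h2
      rw [one_apply_eq] at h3
      have h4 : ((g⁻¹ : GL (Fin n) B) : Matrix (Fin n) (Fin n) B) k' i = 0 := by
        linear_combination ((g⁻¹ : GL (Fin n) B) : Matrix (Fin n) (Fin n) B) i i * h2 -
          ((g⁻¹ : GL (Fin n) B) : Matrix (Fin n) (Fin n) B) k' i * h3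
      rw [h4, zero_mul] at hi
      exact not_isUnit_zero hi
    obtain ⟨F, hF, hkk, hFcol⟩ : ∃ F ∈ tvs B n, IsUnit (((F * g : GL (Fin n) B) : Matrix (Fin n) (Fin n) B) k' k') ∧
        ∀ i j : Fin n, (j : ℕ) < k → i ≠ j → ((F * g : GL (Fin n) B) : Matrix (Fin n) (Fin n) B) i j = 0 := by
      rcases eq_or_ne i k' with rfl | hne
      · exact ⟨1, one_mem _, by rw [one_mul]; exact hi, fun a b hb hab => by rw [one_mul]; exact hcol a b hb hab⟩
      let a : B := (1 - (g : Matrix (Fin n) (Fin n) B) k' k') * ((hi.unit⁻¹ : Bˣ) : B)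
      refine ⟨tv hne.symm a, tv_mem _ _, ?_, fun l j hj hlj => ?_⟩
      · show IsUnit ((transvection k' i a * (g : Matrix (Fin n) (Fin n) B)) k' k')
        rw [transvection_mul_apply_same, mul_assoc, IsUnit.val_inv_mul, mul_one, add_sub_cancel]
        exact isUnit_one
      · show (transvection k' i a * (g : Matrix (Fin n) (Fin n) B)) l j = 0
        rcases eq_or_ne l k' with rfl | hl
        · rw [transvection_mul_apply_same, show (g : Matrix (Fin n) (Fin n) B) k' j = 0 from hcol _ j hj hlj,
            show (g : Matrix (Fin n) (Fin n) B) i j = 0 from hcol i j hj (fun e => by subst e; omega), mul_zero, add_zero]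
        · rw [transvection_mul_apply_of_ne _ _ _ _ hl]; exact hcol l j hj hlj
    obtain ⟨G, hG, -, hG2, hG3⟩ := clear_rows _ k' hkk hFcol (Finset.univ.erase k') (Finset.notMem_erase _ _)
    refine ⟨G * F * E, mul_mem (mul_mem hG hF) hE, fun a b hb hab => ?_⟩
    rw [show G * F * E * s = G * (F * g) by simp only [g, mul_assoc], Units.val_mul]
    rcases Nat.lt_succ_iff_lt_or_eq.1 hb with hb' | hb'
    · rw [hG2 a b hb']; exact hFcol a b hb' hab
    · obtain rfl : b = k' := Fin.ext hb'
      exact hG3 a (Finset.mem_erase.2 ⟨hab, Finset.mem_univ a⟩)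

end

section
variable {R : Type u} [CommRing R]

/-- Natural families of characters of the additive group invariant under scaling are trivial. -/
theorem additive_trivial (φ : ∀ (B : Type u) [CommRing B] [Algebra R B], B → B)
    (hφ : ∀ (B C : Type u) [CommRing B] [Algebra R B] [CommRing C] [Algebra R C] (f : B →ₐ[R] C) (b : B), φ C (f b) = f (φ B b))
    (h0 : φ R 0 = 1) (hu : ∀ (B : Type u) [CommRing B] [Algebra R B] (u : Bˣ) (b : B), φ B (u * b) = φ B b)
    (B : Type u) [CommRing B] [Algebra R B] (b : B) : φ B b = 1 := by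
  classical
  let P : Polynomial R := φ (Polynomial R) Polynomial.X
  have hP : ∀ (C : Type u) [CommRing C] [Algebra R C] (c : C), φ C c = Polynomial.aeval c P := fun C _ _ c => by
    rw [show c = Polynomial.aeval c (Polynomial.X : Polynomial R) by simp, hφ]; simp [P]
  have hc : ∀ k, k ≠ 0 → P.coeff k = 0 := fun k hk => by
    let w : (Polynomial (LaurentPolynomial R))ˣ := (tU R).map (Polynomial.C : LaurentPolynomial R →+* (Polynomial (LaurentPolynomial R))).toMonoidHom
    have h := hu (Polynomial (LaurentPolynomial R)) w Polynomial.X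
    rw [hP, hP] at h
    have h' := congrArg (fun q : (Polynomial (LaurentPolynomial R)) => q.coeff k) h
    have hw : ((w : (Polynomial (LaurentPolynomial R))ˣ) : Polynomial (LaurentPolynomial R)) = Polynomial.C (T 1) := rfl
    simp only [hw, Polynomial.aeval_def, Polynomial.eval₂_eq_sum_range, mul_pow, ← Polynomial.C_pow,
      Polynomial.finset_sum_coeff, T_pow, IsScalarTower.algebraMap_apply R (LaurentPolynomial R) (Polynomial (LaurentPolynomial R)),
      Polynomial.algebraMap_eq, algebraMap_eq_C, ← mul_assoc, ← map_mul, Polynomial.coeff_C_mul,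
      Polynomial.coeff_X_pow, mul_ite, mul_one, mul_zero, Finset.sum_ite_eq, Finset.mem_range] at h'
    by_cases hk' : k < P.natDegree + 1
    · rw [if_pos hk', if_pos hk', ← LaurentPolynomial.single_eq_C_mul_T, ← LaurentPolynomial.single_eq_C] at h'
      have := congrArg (fun q : LaurentPolynomial R => q.coeff (0 : ℤ)) h'
      simpa [-LaurentPolynomial.single_eq_C_mul_T, Finsupp.single_apply, hk] using this.symm
    · exact Polynomial.coeff_eq_zero_of_natDegree_lt (by omega)
  have hP1 : P = 1 := by
    have h1 := hP R 0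
    rw [h0, Polynomial.coe_aeval_eq_eval, ← Polynomial.coeff_zero_eq_eval_zero] at h1
    ext k
    rcases eq_or_ne k 0 with rfl | hk
    · simp [h1]
    · rw [hc k hk, Polynomial.coeff_one, if_neg hk]
  rw [hP, hP1, map_one]

theorem coeff2_sum {ι : Type*} (s : Finset ι) (g e : ι → ℤ) (c : ι → R) (l k : ℤ) :
    ((∑ x ∈ s, AddMonoidAlgebra.single (g x) (AddMonoidAlgebra.single (e x) (c x)) :
      LaurentPolynomial (LaurentPolynomial R)).coeff l).coeff k = ∑ x ∈ s, if g x = l ∧ e x = k then c x else 0 := by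
  classical
  induction s using Finset.induction_on with
  | empty => simp
  | insert a s ha ih =>
    rw [Finset.sum_insert ha, Finset.sum_insert ha, AddMonoidAlgebra.coeff_add, Finsupp.add_apply,
      AddMonoidAlgebra.coeff_add, Finsupp.add_apply, ih, AddMonoidAlgebra.coeff_single, Finsupp.single_apply]
    by_cases h : g a = l
    · rw [if_pos h, AddMonoidAlgebra.coeff_single, Finsupp.single_apply]; simp [h]
    · rw [if_neg h, if_neg (fun hh => h hh.1)]; simp

/-- Natural characters of the multiplicative group over a connected base are powers. -/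
theorem exists_power [ConnectedSpace (PrimeSpectrum R)] (χ : ∀ (B : Type u) [CommRing B] [Algebra R B], Bˣ →* Bˣ)
    (hχ : ∀ (B C : Type u) [CommRing B] [Algebra R B] [CommRing C] [Algebra R C] (f : B →ₐ[R] C) (b : Bˣ),
      χ C (Units.map (f.toRingHom : B →* C) b) = Units.map (f.toRingHom : B →* C) (χ B b)) :
    ∃ m : ℤ, ∀ (B : Type u) [CommRing B] [Algebra R B] (b : Bˣ), χ B b = b ^ m := by
  classical
  let L := LaurentPolynomial R
  let t : Lˣ := tU R
  let Q : L := (χ L t : Lˣ)
  let ev : ∀ (C : Type u) [CommRing C] [Algebra R C], Cˣ → L →ₐ[R] C := fun C _ _ c =>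
    { LaurentPolynomial.eval₂ (algebraMap R C) c with
      commutes' := fun r => by
        show LaurentPolynomial.eval₂ (algebraMap R C) c (algebraMap R L r) = _
        rw [algebraMap_eq_C, eval₂_C] }
  have hev : ∀ (C : Type u) [CommRing C] [Algebra R C] (c : Cˣ) (k : ℤ) (r : R),
      ev C c (AddMonoidAlgebra.single k r) = algebraMap R C r * ((c ^ k : Cˣ) : C) := fun C _ _ c k r => by
    show LaurentPolynomial.eval₂ (algebraMap R C) c (AddMonoidAlgebra.single k r) = _
    rw [single_eq_C_mul_T, eval₂_C_mul_T]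
  have hQ : ∀ (C : Type u) [CommRing C] [Algebra R C] (c : Cˣ), ((χ C c : Cˣ) : C) = ev C c Q := fun C _ _ c => by
    have h1 : Units.map ((ev C c).toRingHom : L →* C) t = c := Units.ext (by
      show LaurentPolynomial.eval₂ (algebraMap R C) c (T 1) = c
      rw [eval₂_T, zpow_one])
    conv_lhs => rw [← h1, hχ]
    rfl
  let supp := Q.coeff.support
  have hsum : ∀ (C : Type u) [CommRing C] [Algebra R C] (c : Cˣ),
      ev C c Q = ∑ k ∈ supp, algebraMap R C (Q.coeff k) * ((c ^ k : Cˣ) : C) := fun C _ _ c => by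
    conv_lhs => rw [← AddMonoidAlgebra.sum_coeff_single Q]
    rw [Finsupp.sum, map_sum]
    exact Finset.sum_congr rfl fun k _ => hev C c k _
  -- multiplicativity in two variables
  let L₂ := LaurentPolynomial L
  let a : L₂ˣ := t.map (LaurentPolynomial.C : L →+* L₂).toMonoidHom
  let b : L₂ˣ := tU L
  have hone : ∑ k ∈ supp, Q.coeff k = 1 := by
    have h := hQ R 1
    rw [map_one, hsum] at h
    simpa using h.symm
  have hmul := congrArg (fun x : L₂ˣ => (x : L₂)) (map_mul (χ L₂) a b)
  simp only [Units.val_mul, hQ, hsum] at hmul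
  have hterm : ∀ (k : ℤ) (r : R) (l : ℤ), algebraMap R L₂ r * (((a ^ k * b ^ l : L₂ˣ)) : L₂) =
      AddMonoidAlgebra.single l (AddMonoidAlgebra.single k r) := fun k r l => by
    have ha : ((a ^ k : L₂ˣ) : L₂) = LaurentPolynomial.C (T k) := by
      rw [← tU_zpow R k, ← map_zpow]; rfl
    have hb : ((b ^ l : L₂ˣ) : L₂) = T l := tU_zpow L l
    rw [Units.val_mul, ha, hb, IsScalarTower.algebraMap_apply R L L₂, algebraMap_eq_C,
      algebraMap_eq_C, ← mul_assoc, ← map_mul, ← single_eq_C_mul_T, ← single_eq_C_mul_T]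
  rw [Finset.sum_mul_sum, Finset.sum_congr rfl fun k _ => show algebraMap R L₂ (Q.coeff k) * (((a * b) ^ k : L₂ˣ) : L₂) =
      AddMonoidAlgebra.single k (AddMonoidAlgebra.single k (Q.coeff k)) by rw [show (a * b) ^ k = a ^ k * b ^ k from _root_.mul_zpow a b k, hterm],
    Finset.sum_congr rfl fun k _ => Finset.sum_congr rfl fun l _ => show
      algebraMap R L₂ (Q.coeff k) * ((a ^ k : L₂ˣ) : L₂) * (algebraMap R L₂ (Q.coeff l) * ((b ^ l : L₂ˣ) : L₂)) =
      AddMonoidAlgebra.single l (AddMonoidAlgebra.single k (Q.coeff k * Q.coeff l)) by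
        rw [← hterm, map_mul, Units.val_mul]; ring] at hmul
  have horth : ∀ k ∈ supp, ∀ l ∈ supp, (if k = l then Q.coeff k else 0) = Q.coeff k * Q.coeff l := fun k hk l hl => by
    have h : ((_ : L₂).coeff l).coeff k = ((_ : L₂).coeff l).coeff k := congrArg (fun x : L₂ => (x.coeff l).coeff k) hmul
    rw [← Finset.sum_product'] at h
    rw [coeff2_sum supp (fun k => k) (fun k => k) (fun k => Q.coeff k),
      coeff2_sum (supp ×ˢ supp) (fun x => x.2) (fun x => x.1) (fun x => Q.coeff x.1 * Q.coeff x.2)] at h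
    rw [Finset.sum_eq_single_of_mem (k, l) (Finset.mem_product.2 ⟨hk, hl⟩) (fun x _ hx => if_neg fun hh => hx (Prod.ext hh.2 hh.1)),
      if_pos ⟨rfl, rfl⟩, Finset.sum_eq_single_of_mem k hk (fun x _ hx => if_neg fun hh => hx hh.2)] at h
    by_cases hkl : k = l
    · subst hkl; rw [if_pos ⟨rfl, rfl⟩] at h; rw [if_pos rfl]; exact h
    · rw [if_neg (fun hh => hkl hh.1)] at h; rw [if_neg hkl]; exact h
  obtain ⟨m, hm, hm1⟩ : ∃ m ∈ supp, Q.coeff m = 1 := by
    by_contra hno
    push Not at hno
    have h0 : ∀ k ∈ supp, Q.coeff k = 0 := fun k hk => by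
      have hid : IsIdempotentElem (Q.coeff k) := by
        have h := horth k hk k hk
        rw [if_pos rfl] at h
        exact h.symm
      rcases isClopen_iff.1 (PrimeSpectrum.isClopen_iff.2 ⟨_, hid, rfl⟩ :
          IsClopen (PrimeSpectrum.basicOpen (Q.coeff k) : Set (PrimeSpectrum R))) with h | h
      · have hn : IsNilpotent (Q.coeff k) := (PrimeSpectrum.basicOpen_eq_bot_iff _).1 (SetLike.coe_injective h)
        obtain ⟨N, hN⟩ := hn
        rcases N.eq_zero_or_pos with rfl | hN0
        · rw [pow_zero] at hN; rw [← mul_one (Q.coeff k), hN, mul_zero]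
        · rwa [hid.pow_eq hN0.ne'] at hN
      · have hu : IsUnit (Q.coeff k) := by
          by_contra hu
          obtain ⟨M, hM, hkM⟩ := exists_max_ideal_of_mem_nonunits hu
          have h' := Set.eq_univ_iff_forall.1 h ⟨M, hM.isPrime⟩
          exact h' hkM
        exact absurd ((IsIdempotentElem.iff_eq_one_of_isUnit hu).1 hid) (hno k hk)
    haveI : Nontrivial R := PrimeSpectrum.nontrivial (inferInstance : Nonempty (PrimeSpectrum R)).some
    rw [Finset.sum_eq_zero h0] at hone
    exact one_ne_zero (α := R) hone.symm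
  refine ⟨m, fun B _ _ c => Units.ext ?_⟩
  rw [hQ, hsum, Finset.sum_eq_single_of_mem m hm fun k hk hkm => ?_, hm1, map_one, one_mul]
  have h := horth k hk m hm
  rw [if_neg hkm, hm1, mul_one] at h
  rw [← h, map_zero, zero_mul]

end

/-- Every homomorphism of group sheaves Gl(n_1) × ⋯ × Gl(n_r) → G_m is (s_1, …, s_r) ↦ det(s_1)^{m_1} ⋯
det(s_r)^{m_r} with locally constant integers m_i uniquely determined by it. Concretely, over a
commutative ring R whose prime spectrum is connected and for ranks n_i ≥ 1: every family of group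
homomorphisms α_B : GL_{n_1}(B) × ⋯ × GL_{n_r}(B) → Bˣ, one for each commutative R-algebra B and
natural in B, is given by α_B(s) = Π_i det(s_i)^{m_i} for a unique m ∈ ℤ^r. (The published statement
allows ranks n_i ≥ 0; uniqueness of m_i needs n_i ≥ 1, since Gl(0) is trivial.) -/
theorem result (R : Type u) [CommRing R] [ConnectedSpace (PrimeSpectrum R)]
    (r : ℕ) (n : Fin r → ℕ) (hn : ∀ i, 0 < n i)
    (α : ∀ (B : Type u) [CommRing B] [Algebra R B], (∀ i, Matrix.GeneralLinearGroup (Fin (n i)) B) →* Bˣ)
    (hα : ∀ (B C : Type u) [CommRing B] [Algebra R B] [CommRing C] [Algebra R C] (φ : B →ₐ[R] C)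
      (s : ∀ i, Matrix.GeneralLinearGroup (Fin (n i)) B),
      α C (fun i => Matrix.GeneralLinearGroup.map φ.toRingHom (s i)) = Units.map (φ.toRingHom : B →* C) (α B s)) :
    ∃! m : Fin r → ℤ, ∀ (B : Type u) [CommRing B] [Algebra R B] (s : ∀ i, Matrix.GeneralLinearGroup (Fin (n i)) B),
      α B s = ∏ i, Matrix.GeneralLinearGroup.det (s i) ^ (m i) := by
  classical
  haveI : Nontrivial R := PrimeSpectrum.nontrivial (inferInstance : Nonempty (PrimeSpectrum R)).some
  let ι : ∀ (B : Type u) [CommRing B] [Algebra R B] (i : Fin r), GL (Fin (n i)) B →* Bˣ := fun B _ _ i =>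
    (α B).comp (MonoidHom.mulSingle (fun i => GL (Fin (n i)) B) i)
  have hι : ∀ (B C : Type u) [CommRing B] [Algebra R B] [CommRing C] [Algebra R C] (f : B →ₐ[R] C) (i : Fin r)
      (g : GL (Fin (n i)) B), ι C i (Matrix.GeneralLinearGroup.map f.toRingHom g) = Units.map (f.toRingHom : B →* C) (ι B i g) := by
    intro B C _ _ _ _ f i g
    show α C (Pi.mulSingle i _) = Units.map (f.toRingHom : B →* C) (α B (Pi.mulSingle i g))
    rw [← hα]
    congr 1
    exact funext fun j => (Pi.apply_mulSingle (fun j => Matrix.GeneralLinearGroup.map (n := Fin (n j)) f.toRingHom) (fun j => map_one _) i g j).symm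
  have hmap_tv : ∀ (B C : Type u) [CommRing B] [Algebra R B] [CommRing C] [Algebra R C] (f : B →ₐ[R] C) {k : ℕ} {p q : Fin k} (h : p ≠ q) (b : B),
      Matrix.GeneralLinearGroup.map f.toRingHom (tv h b) = tv h (f b) := by
    intro B C _ _ _ _ f k p q h b
    refine Units.ext (Matrix.ext fun x y => ?_)
    show f ((transvection p q b) x y) = transvection p q (f b) x y
    simp [Matrix.transvection, Matrix.one_apply, Matrix.single_apply, apply_ite f]
  -- transvections die
  have htv : ∀ (B : Type u) [CommRing B] [Algebra R B] (i : Fin r) {p q : Fin (n i)} (h : p ≠ q) (b : B), ι B i (tv h b) = 1 := by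
    intro B _ _ i p q h b
    refine Units.ext ((additive_trivial (fun B (_ : CommRing B) (_ : Algebra R B) b => ((ι B i (tv h b) : Bˣ) : B)) ?_ ?_ ?_ B b).trans Units.val_one.symm)
    · intro B C _ _ _ _ f b
      show ((ι C i (tv h (f b)) : Cˣ) : C) = f _
      rw [← hmap_tv B C f h b, hι]; rfl
    · show ((ι R i (tv h (0 : R)) : Rˣ) : R) = 1
      rw [show tv h (0 : R) = 1 from Units.ext (transvection_zero p q), map_one, Units.val_one]
    · intro B _ _ u b
      have h1 := congrArg (ι B i) (conj_tv u h b)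
      rw [map_mul, map_mul, mul_comm] at h1
      exact congrArg Units.val (mul_right_cancel h1).symm
  -- the torus
  let j₀ : ∀ i, Fin (n i) := fun i => ⟨0, hn i⟩
  let χ : ∀ i (B : Type u) [CommRing B] [Algebra R B], Bˣ →* Bˣ := fun i B _ _ =>
    (ι B i).comp ((dg (B := B)).comp (MonoidHom.mulSingle (fun _ : Fin (n i) => Bˣ) (j₀ i)))
  have hχ : ∀ i, ∃ m : ℤ, ∀ (B : Type u) [CommRing B] [Algebra R B] (b : Bˣ), χ i B b = b ^ m := fun i => by
    refine exists_power (χ i) ?_
    intro B C _ _ _ _ f b
    show ι C i (dg (Pi.mulSingle (j₀ i) _)) = Units.map (f.toRingHom : B →* C) (ι B i (dg (Pi.mulSingle (j₀ i) b)))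
    rw [← hι]
    congr 1
    refine Units.ext (Matrix.ext fun x y => ?_)
    show diagonal (fun l => ((Pi.mulSingle (j₀ i) (Units.map (f.toRingHom : B →* C) b) : Fin (n i) → Cˣ) l : C)) x y =
      f (diagonal (fun l => ((Pi.mulSingle (j₀ i) b : Fin (n i) → Bˣ) l : B)) x y)
    simp [diagonal_apply, apply_ite f, Pi.mulSingle_apply, apply_ite Units.val]
  choose m hm using hχ
  have hdg : ∀ (B : Type u) [CommRing B] [Algebra R B] (i : Fin r) (d : Fin (n i) → Bˣ), ι B i (dg d) = (∏ j, d j) ^ m i := by
    intro B _ _ i d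
    rw [← Finset.univ_prod_mulSingle d]
    show ((ι B i).comp (dg (B := B))) _ = _
    rw [map_prod, Finset.univ_prod_mulSingle d, ← Finset.prod_zpow]
    refine Finset.prod_congr rfl fun j _ => ?_
    rw [← hm i B (d j)]
    have h1 := congrArg (ι B i) (conj_sw j (j₀ i) (d j))
    rw [map_mul, map_mul, mul_comm] at h1
    exact mul_right_cancel h1
  have hsingle : ∀ (B : Type u) [CommRing B] [Algebra R B] (i : Fin r) (g : GL (Fin (n i)) B),
      ι B i g = Matrix.GeneralLinearGroup.det g ^ m i := by
    intro B _ _ i g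
    refine Units.ext (sub_eq_zero.1 (eq_zero_of_localization _ fun M hM => ?_))
    rw [map_sub, sub_eq_zero]
    let BM := Localization.AtPrime M
    let f : B →ₐ[R] BM := IsScalarTower.toAlgHom R B BM
    have hloc : ι BM i (Matrix.GeneralLinearGroup.map f.toRingHom g) =
        Matrix.GeneralLinearGroup.det (Matrix.GeneralLinearGroup.map f.toRingHom g) ^ m i := by
      let g' := Matrix.GeneralLinearGroup.map f.toRingHom g
      obtain ⟨E, hE, hcol⟩ := exists_diag g' (n i) le_rfl
      have hker : ι BM i E = 1 ∧ Matrix.GeneralLinearGroup.det E = 1 := by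
        have hle : tvs BM (n i) ≤ (ι BM i).ker ⊓ (Matrix.GeneralLinearGroup.det).ker := (Subgroup.closure_le _).2 (by
          rintro _ ⟨p, q, h, a, rfl⟩
          exact ⟨htv BM i h a, Units.ext (det_transvection_of_ne p q h a)⟩)
        exact hle hE
      have hdiag : ((E * g' : GL (Fin (n i)) BM) : Matrix (Fin (n i)) (Fin (n i)) BM) =
          diagonal fun j => ((E * g' : GL (Fin (n i)) BM) : Matrix (Fin (n i)) (Fin (n i)) BM) j j := Matrix.ext fun a b => by
        rcases eq_or_ne a b with rfl | h
        · simp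
        · rw [diagonal_apply_ne _ h]; exact hcol a b b.2 h
      have hdet : IsUnit (∏ j, ((E * g' : GL (Fin (n i)) BM) : Matrix (Fin (n i)) (Fin (n i)) BM) j j) := by
        rw [← det_diagonal, ← hdiag]; exact (Matrix.GeneralLinearGroup.det (E * g')).isUnit
      have hun := IsUnit.prod_univ_iff.1 hdet
      have hd : E * g' = dg fun j => (hun j).unit := Units.ext (hdiag.trans (by rw [dg_coe]; rfl))
      have h1 := congrArg (ι BM i) hd
      have h2 := congrArg Matrix.GeneralLinearGroup.det hd
      rw [map_mul, hker.1, one_mul, hdg] at h1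
      rw [map_mul, hker.2, one_mul] at h2
      rw [h1, h2]
      congr 1
      exact Units.ext (by simp [Units.coe_prod, dg_coe])
    rw [show Matrix.GeneralLinearGroup.det (Matrix.GeneralLinearGroup.map f.toRingHom g) ^ m i =
        Units.map (f.toRingHom : B →* BM) (Matrix.GeneralLinearGroup.det g ^ m i) by
      rw [map_zpow]; congr 1; exact Units.ext (RingHom.map_det f.toRingHom (g : Matrix (Fin (n i)) (Fin (n i)) B)).symm, hι] at hloc
    exact congrArg Units.val hloc
  refine ⟨m, fun B _ _ s => ?_, fun m' hm' => funext fun i => ?_⟩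
  · let F : (∀ i, GL (Fin (n i)) B) →* Bˣ :=
      { toFun := fun s => ∏ i, Matrix.GeneralLinearGroup.det (s i) ^ m i
        map_one' := by simp
        map_mul' := fun s t => by simp [map_mul, mul_zpow, Finset.prod_mul_distrib] }
    refine DFunLike.congr_fun (show α B = F from MonoidHom.pi_ext fun i g => ?_) s
    show ι B i g = ∏ j, Matrix.GeneralLinearGroup.det ((Pi.mulSingle i g : ∀ i, GL (Fin (n i)) B) j) ^ m j
    rw [hsingle, Finset.prod_eq_single i (fun j _ hj => by rw [Pi.mulSingle_eq_of_ne hj, map_one, _root_.one_zpow]) (by simp),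
      Pi.mulSingle_eq_same]
  · let t : (LaurentPolynomial R)ˣ := tU R
    have hpow : ∀ k : ℤ, ((t ^ k : (LaurentPolynomial R)ˣ) : LaurentPolynomial R) = T k := tU_zpow R
    have h1 : ι _ i (dg (Pi.mulSingle (j₀ i) t)) = (t ^ m' i : (LaurentPolynomial R)ˣ) := by
      show α _ (Pi.mulSingle i _) = _
      rw [hm', Finset.prod_eq_single i (fun j _ hj => by rw [Pi.mulSingle_eq_of_ne hj, map_one, _root_.one_zpow]) (by simp),
        Pi.mulSingle_eq_same]
      congr 1
      refine Units.ext ?_
      show (diagonal fun l => ((Pi.mulSingle (j₀ i) t : Fin (n i) → _) l : LaurentPolynomial R)).det = _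
      rw [det_diagonal, Finset.prod_eq_single (j₀ i) (fun j _ hj => by rw [Pi.mulSingle_eq_of_ne hj, Units.val_one]) (by simp),
        Pi.mulSingle_eq_same]
    have h2 := congrArg Units.val (h1.symm.trans (hm i _ t))
    rw [hpow, hpow] at h2
    exact AddMonoidAlgebra.single_left_injective (one_ne_zero (α := R)) h2

end Groth.Agent.S5659
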