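import Groth.Statements.S5662
import Groth.Agent.TMul.Frame
import Groth.Agent.QC.PullSect
import Groth.Agent.ProjMor.PullSec

set_option autoImplicit false
set_option backward.isDefEq.respectTransparency false
set_option maxHeartbeats 1000000
universe u
open Opposite CategoryTheory CategoryTheory.Limits AlgebraicGeometry
open FlatMor

namespace Groth.Agent.S5662

/-- Let f : X ⟶ Y be a morphism of schemes, p₁, p₂ : X ×_Y X ⟶ X the projections and g = p₁ ≫ f. Assume
that the sequence O_Y → f_*O_X ⇉ g_*O_{X ×_Y X} is exact, i.e. on every open U ⊆ Y the sections of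
O_Y are exactly the sections of O_X over f⁻¹U whose two pullbacks to g⁻¹U agree (hypotheses hinj,
hex; hU is the bookkeeping identity of the two preimage opens). Then f is a morphism of descent for
finite locally free modules: for finite locally free O_Y-modules L and M, every morphism φ : f^*L ⟶
f^*M whose pullbacks along p₁ and p₂ agree (compared through the canonical isomorphisms p_i^* f^* ≅
(p_i ≫ f)^* and p₁ ≫ f = p₂ ≫ f) is f^*ψ for a unique ψ : L ⟶ M. (The published statement is made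
under further standing hypotheses (a surjective morphism between schemes proper and of finite
presentation over an integral Noetherian base, with flatness conditions), of which its proof uses
only the exactness above; this row assumes only that exactness.) -/
theorem result {X Y : Scheme.{u}} (f : X ⟶ Y)
    (hU : ∀ U : Y.Opens, (pullback.fst f f) ⁻¹ᵁ (f ⁻¹ᵁ U) = (pullback.snd f f) ⁻¹ᵁ (f ⁻¹ᵁ U))
    (hinj : ∀ U : Y.Opens, Function.Injective (f.app U))
    (hex : ∀ (U : Y.Opens) (a : Γ(X, f ⁻¹ᵁ U)),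
      (pullback.fst f f).app (f ⁻¹ᵁ U) a =
        ((pullback f f).presheaf.map (eqToHom (hU U)).op) ((pullback.snd f f).app (f ⁻¹ᵁ U) a) →
      a ∈ Set.range (f.app U))
    (L M : Y.Modules) (hL : FlatMod.IsFinLocFree L) (hM : FlatMod.IsFinLocFree M)
    (φ : (Scheme.Modules.pullback f).obj L ⟶ (Scheme.Modules.pullback f).obj M)
    (hφ : ((Scheme.Modules.pullbackComp (pullback.fst f f) f).app L).inv ≫
        (Scheme.Modules.pullback (pullback.fst f f)).map φ ≫ ((Scheme.Modules.pullbackComp (pullback.fst f f) f).app M).hom =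
      ((Scheme.Modules.pullbackCongr (pullback.condition (f := f) (g := f))).app L).hom ≫
        ((Scheme.Modules.pullbackComp (pullback.snd f f) f).app L).inv ≫
        (Scheme.Modules.pullback (pullback.snd f f)).map φ ≫ ((Scheme.Modules.pullbackComp (pullback.snd f f) f).app M).hom ≫
        ((Scheme.Modules.pullbackCongr (pullback.condition (f := f) (g := f))).app M).inv) :
    ∃! ψ : L ⟶ M, (Scheme.Modules.pullback f).map ψ = φ := by
  classical
  let adj := Scheme.Modules.pullbackPushforwardAdjunction f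
  let η : M ⟶ (Scheme.Modules.pushforward f).obj ((Scheme.Modules.pullback f).obj M) := adj.unit.app M
  let p₁ := pullback.fst f f
  let p₂ := pullback.snd f f
  -- coordinates of inverse images with respect to a frame
  have ffr : ∀ {U : Y.Opens} {n : ℕ} {e : Fin n → Γ(M, U)}, TMul.IsFrame e →
      ∀ (V : Y.Opens) (hV : V ≤ U),
        Function.Injective (η.app V) ∧
        ∀ s : Γ((Scheme.Modules.pullback f).obj M, f ⁻¹ᵁ V), ∃ a : Fin n → Γ(X, f ⁻¹ᵁ V),
          s = ∑ i, a i • OmegaSh.pullSect f M V (Groth.Agent.QC.res M hV (e i)) := by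
    intro U n e he V hV
    have hrs : ∀ i, Groth.Agent.QC.res _ (f.preimage_mono hV) (OmegaSh.pullSect f M U (e i)) =
        OmegaSh.pullSect f M V (Groth.Agent.QC.res M hV (e i)) := fun i =>
      Groth.Agent.QC.app_res η hV (e i)
    refine ⟨fun m m' hm => ?_, fun s => ?_⟩
    · obtain ⟨c, rfl⟩ := he.comb_surjective hV m
      obtain ⟨c', rfl⟩ := he.comb_surjective hV m'
      have h1 : ∀ c : Fin n → Γ(Y, V), η.app V (∑ i, c i • Groth.Agent.QC.res M hV (e i)) =
          ∑ i, f.app V (c i) • Groth.Agent.QC.res ((Scheme.Modules.pullback f).obj M) (f.preimage_mono hV)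
            (OmegaSh.pullSect f M U (e i)) := fun c => by
        refine (map_sum ((η.app V).hom) _ _).trans (Finset.sum_congr rfl fun i _ => ?_)
        rw [hrs]
        exact ((η.val.app (op V)).hom.map_smul (c i) _)
      rw [h1, h1] at hm
      have h2 := (he.pullback f).comb_injective (f.preimage_mono hV) hm
      exact Finset.sum_congr rfl fun i _ => by rw [hinj V (congrFun h2 i)]
    · obtain ⟨a, ha⟩ := (he.pullback f).comb_surjective (f.preimage_mono hV) s
      exact ⟨a, ha.symm.trans (Finset.sum_congr rfl fun i _ => congrArg (a i • ·) (hrs i))⟩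
  -- descent of a single section
  have desc : ∀ {U : Y.Opens} {n : ℕ} {e : Fin n → Γ(M, U)}, TMul.IsFrame e →
      ∀ (V : Y.Opens) (hV : V ≤ U) (l : Γ(L, V)),
        ∃ m : Γ(M, V), η.app V m = φ.app (f ⁻¹ᵁ V) (OmegaSh.pullSect f L V l) := by
    intro U n e he V hV l
    obtain ⟨a, ha⟩ := (ffr he V hV).2 (φ.app (f ⁻¹ᵁ V) (OmegaSh.pullSect f L V l))
    have hcomb : ∀ (p : pullback f f ⟶ X),
        ((Scheme.Modules.pullbackComp p f).hom.app M).app (p ⁻¹ᵁ (f ⁻¹ᵁ V))
          (((Scheme.Modules.pullback p).map φ).app (p ⁻¹ᵁ (f ⁻¹ᵁ V))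
            (((Scheme.Modules.pullbackComp p f).inv.app L).app (p ⁻¹ᵁ (f ⁻¹ᵁ V))
              (OmegaSh.pullSect (p ≫ f) L V l))) =
        ∑ i, (HSMul.hSMul (α := ((pullback f f).presheaf.obj (op ((p ≫ f) ⁻¹ᵁ V)) : Type u))
          (p.app (f ⁻¹ᵁ V) (a i))
          (OmegaSh.pullSect (p ≫ f) M V (Groth.Agent.QC.res M hV (e i)))) := by
      intro p
      rw [← Groth.Agent.QC.pullbackComp_hom_pullSect p f L V l]
      rw [show ((Scheme.Modules.pullbackComp p f).inv.app L).app (p ⁻¹ᵁ (f ⁻¹ᵁ V))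
        (((Scheme.Modules.pullbackComp p f).hom.app L).app (p ⁻¹ᵁ (f ⁻¹ᵁ V))
          (OmegaSh.pullSect p _ (f ⁻¹ᵁ V) (OmegaSh.pullSect f L V l))) = _ from
        congr(($((Scheme.Modules.pullbackComp p f).hom_inv_id_app L)).app (p ⁻¹ᵁ (f ⁻¹ᵁ V))
          (OmegaSh.pullSect p _ (f ⁻¹ᵁ V) (OmegaSh.pullSect f L V l)))]
      refine (congrArg _ (Groth.Agent.QC.app_pullSect p φ (f ⁻¹ᵁ V) (OmegaSh.pullSect f L V l))).trans ?_
      rw [ha]
      let η' := (Scheme.Modules.pullbackPushforwardAdjunction p).unit.app ((Scheme.Modules.pullback f).obj M)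
      refine (congrArg _ (map_sum ((η'.app (f ⁻¹ᵁ V)).hom) _ _)).trans ?_
      refine (map_sum (((Scheme.Modules.pullbackComp p f).hom.app M).app (p ⁻¹ᵁ (f ⁻¹ᵁ V))).hom _ _).trans
        (Finset.sum_congr rfl fun i _ => ?_)
      refine (congrArg _ ((η'.val.app (op (f ⁻¹ᵁ V))).hom.map_smul (a i) _)).trans ?_
      refine ((((Scheme.Modules.pullbackComp p f).hom.app M).val.app (op (p ⁻¹ᵁ (f ⁻¹ᵁ V)))).hom.map_smul
        (p.app (f ⁻¹ᵁ V) (a i)) _).trans ?_
      exact congrArg (_ • ·) (Groth.Agent.QC.pullbackComp_hom_pullSect p f M V _)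
    have h := congr(($hφ).app (p₁ ⁻¹ᵁ (f ⁻¹ᵁ V)) (OmegaSh.pullSect (p₁ ≫ f) L V l))
    simp only [Iso.app_hom, Iso.app_inv, Scheme.Modules.Hom.comp_app, ConcreteCategory.comp_apply] at h
    -- transport across `p₁ ≫ f = p₂ ≫ f`
    have key : ∀ (q : pullback f f ⟶ Y) (hq : p₁ ≫ f = q) (N : Y.Modules) (n' : Γ(N, V)),
        ((Scheme.Modules.pullbackCongr hq).hom.app N).app ((p₁ ≫ f) ⁻¹ᵁ V)
          (OmegaSh.pullSect (p₁ ≫ f) N V n') =
        ((Scheme.Modules.pullback q).obj N).presheaf.map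
          (eqToHom (hq ▸ rfl : (p₁ ≫ f) ⁻¹ᵁ V = q ⁻¹ᵁ V)).op (OmegaSh.pullSect q N V n') := fun q hq N n' =>
      Groth.Agent.QC.pullbackCongr_hom_pullSect hq N V n'
    have hkey : ∀ (q : pullback f f ⟶ Y) (hq : p₁ ≫ f = q)
        (ψ : (Scheme.Modules.pullback q).obj L ⟶ (Scheme.Modules.pullback q).obj M)
        (b : Fin n → ((pullback f f).presheaf.obj (op (q ⁻¹ᵁ V)) : Type u)),
        ψ.app (q ⁻¹ᵁ V) (OmegaSh.pullSect q L V l) =
          ∑ i, b i • OmegaSh.pullSect q M V (Groth.Agent.QC.res M hV (e i)) →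
        ((Scheme.Modules.pullbackCongr hq).inv.app M).app ((p₁ ≫ f) ⁻¹ᵁ V)
          (ψ.app ((p₁ ≫ f) ⁻¹ᵁ V)
            (((Scheme.Modules.pullbackCongr hq).hom.app L).app ((p₁ ≫ f) ⁻¹ᵁ V)
              (OmegaSh.pullSect (p₁ ≫ f) L V l))) =
        ∑ i, ((pullback f f).presheaf.map (eqToHom (hq ▸ rfl : (p₁ ≫ f) ⁻¹ᵁ V = q ⁻¹ᵁ V)).op (b i)) •
          OmegaSh.pullSect (p₁ ≫ f) M V (Groth.Agent.QC.res M hV (e i)) := by
      intro q hq ψ b hb
      subst hq
      simpa [Scheme.Modules.pullbackCongr] using hb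
    have h₂ := hkey (p₂ ≫ f) pullback.condition
      (((Scheme.Modules.pullbackComp p₂ f).inv.app L) ≫ (Scheme.Modules.pullback p₂).map φ ≫
        ((Scheme.Modules.pullbackComp p₂ f).hom.app M))
      (fun i => (p₂.app (f ⁻¹ᵁ V) (a i) : ((pullback f f).presheaf.obj (op ((p₂ ≫ f) ⁻¹ᵁ V)) : Type u))) (hcomb p₂)
    simp only [Scheme.Modules.Hom.comp_app, ConcreteCategory.comp_apply] at h₂
    have h₃ := (hcomb p₁).symm.trans (h.trans h₂)
    have hfg : TMul.IsFrame _ := he.pullback (p₁ ≫ f)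
    have hrs' : ∀ i, Groth.Agent.QC.res _ ((p₁ ≫ f).preimage_mono hV) (OmegaSh.pullSect (p₁ ≫ f) M U (e i)) =
        OmegaSh.pullSect (p₁ ≫ f) M V (Groth.Agent.QC.res M hV (e i)) := fun i =>
      Groth.Agent.QC.app_res ((Scheme.Modules.pullbackPushforwardAdjunction (p₁ ≫ f)).unit.app M) hV (e i)
    have h₄ := hfg.comb_injective ((p₁ ≫ f).preimage_mono hV) (a₁ := _) (a₂ := _)
      ((Finset.sum_congr rfl fun i _ => congrArg (_ • ·) (hrs' i)).trans
        (h₃.trans (Finset.sum_congr rfl fun i _ => congrArg (_ • ·) (hrs' i).symm)))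
    choose c hc using fun i => hex V (a i) (congrFun h₄ i)
    refine ⟨∑ i, c i • Groth.Agent.QC.res M hV (e i), ?_⟩
    rw [ha]
    refine (map_sum ((η.app V).hom) _ _).trans (Finset.sum_congr rfl fun i _ => ?_)
    refine ((η.val.app (op V)).hom.map_smul (c i) _).trans ?_
    exact congrArg (· • OmegaSh.pullSect f M V (Groth.Agent.QC.res M hV (e i))) (hc i)
  haveI hmono : Mono η := by
    haveI : ∀ U, Mono (((Scheme.Modules.toPresheaf Y).map η).app U) := fun U => by
      refine ConcreteCategory.mono_of_injective _ fun (m m' : Γ(M, U.unop)) hm => ?_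
      refine Groth.Agent.QC.section_eq_of_locally fun y hy => ?_
      obtain ⟨U₀, n, e, hyU, he⟩ := TMul.exists_isFrame hM y
      refine ⟨U.unop ⊓ U₀, inf_le_left, ⟨hy, hyU⟩, (ffr he _ inf_le_right).1 ?_⟩
      rw [← Groth.Agent.QC.app_res η inf_le_left m, ← Groth.Agent.QC.app_res η inf_le_left m']
      exact congrArg _ hm
    haveI : Mono ((Scheme.Modules.toPresheaf Y).map η) := NatTrans.mono_of_mono_app _
    exact (Scheme.Modules.toPresheaf Y).mono_of_mono_map inferInstance
  let α : L ⟶ (Scheme.Modules.pushforward f).obj ((Scheme.Modules.pullback f).obj M) := adj.homEquiv _ _ φ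
  have hα : α ≫ cokernel.π η = 0 := by
    refine Scheme.Modules.hom_ext _ _ fun W => ?_
    ext l
    refine Groth.Agent.QC.section_eq_of_locally fun y hy => ?_
    obtain ⟨U₀, n, e, hyU, he⟩ := TMul.exists_isFrame hM y
    refine ⟨W ⊓ U₀, inf_le_left, ⟨hy, hyU⟩, ?_⟩
    obtain ⟨m, hm⟩ := desc he (W ⊓ U₀) inf_le_right (Groth.Agent.QC.res L inf_le_left l)
    rw [Groth.Agent.QC.app_res, Groth.Agent.QC.app_res]
    simp only [Scheme.Modules.Hom.comp_app, Scheme.Modules.Hom.zero_app, ConcreteCategory.comp_apply]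
    rw [show α.app (W ⊓ U₀) (Groth.Agent.QC.res L inf_le_left l) =
      φ.app (f ⁻¹ᵁ (W ⊓ U₀)) (OmegaSh.pullSect f L (W ⊓ U₀) (Groth.Agent.QC.res L inf_le_left l)) by
        simp only [α, Adjunction.homEquiv_unit]; rfl, ← hm]
    exact congr(($(cokernel.condition η)).app (W ⊓ U₀) m)
  refine ⟨Abelian.monoLift η α hα, ?_, fun ψ hψ => ?_⟩
  · apply (adj.homEquiv L ((Scheme.Modules.pullback f).obj M)).injective
    rw [Adjunction.homEquiv_unit]
    exact (adj.unit.naturality (Abelian.monoLift η α hα)).symm.trans (Abelian.monoLift_comp η α hα)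
  · rw [← cancel_mono η, Abelian.monoLift_comp]
    simp only [α, ← hψ, Adjunction.homEquiv_unit]
    exact (adj.unit.naturality ψ)

end Groth.Agent.S5662
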