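import Groth.Statements.S5663
import Mathlib.RingTheory.HopkinsLevitzki
import Mathlib.RingTheory.Ideal.MinimalPrime.Localization
import Mathlib.RingTheory.Support
import Mathlib.RingTheory.Ideal.Quotient.Noetherian
import Mathlib.RingTheory.Localization.Submodule
import Mathlib.RingTheory.LocalRing.Module

set_option autoImplicit false
universe u
open TensorProduct
open CAlg

namespace Groth.Agent.S5663

open TensorProduct

/-- Near a minimal prime of the annihilator, a descending chain in a finite module is eventually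
constant. -/
theorem exists_stable {A N : Type u} [CommRing A] [IsNoetherianRing A] [AddCommGroup N] [Module A N]
    [Module.Finite A N] (p : Ideal A) [p.IsPrime] (hp : p ∈ (Module.annihilator A N).minimalPrimes)
    (D : ℕ → Submodule A N) (hD : Antitone D) :
    ∃ m, ∀ x ∈ D m, ∃ s, s ∉ p ∧ s • x ∈ D (m + 1) := by
  classical
  set J := Module.annihilator A N
  set Ap := Localization.AtPrime p
  set J' := J.map (algebraMap A Ap)
  have hrad : J'.radical = IsLocalRing.maximalIdeal Ap :=
    (IsLocalization.AtPrime.radical_map_of_mem_minimalPrimes Ap p J hp).trans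
      (IsLocalization.AtPrime.map_eq_maximalIdeal p Ap)
  have : Ring.KrullDimLE 0 (Ap ⧸ J') := Ring.KrullDimLE.mk₀ fun P hP => by
    have hle : J' ≤ P.comap (Ideal.Quotient.mk J') := fun x hx => by
      rw [Ideal.mem_comap, Ideal.Quotient.eq_zero_iff_mem.2 hx]
      exact P.zero_mem
    have : (P.comap (Ideal.Quotient.mk J')).IsPrime := hP.comap _
    have hmax : P.comap (Ideal.Quotient.mk J') = IsLocalRing.maximalIdeal Ap :=
      le_antisymm (IsLocalRing.le_maximalIdeal (Ideal.IsPrime.ne_top inferInstance))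
        (hrad.ge.trans ((Ideal.IsPrime.radical_le_iff inferInstance).2 hle))
    rcases Ideal.map_eq_top_or_isMaximal_of_surjective (Ideal.Quotient.mk J') Ideal.Quotient.mk_surjective
      (IsLocalRing.maximalIdeal.isMaximal Ap) with h | h
    · rw [← hmax, Ideal.map_comap_of_surjective _ Ideal.Quotient.mk_surjective] at h
      exact absurd h hP.ne_top
    · rwa [← hmax, Ideal.map_comap_of_surjective _ Ideal.Quotient.mk_surjective] at h
  have : IsNoetherianRing Ap := IsLocalization.isNoetherianRing p.primeCompl Ap inferInstance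
  have : IsArtinianRing (Ap ⧸ J') :=
    isArtinianRing_iff_isNoetherianRing_krullDimLE_zero.2 ⟨inferInstance, inferInstance⟩
  set Np := LocalizedModule p.primeCompl N
  have : IsArtinian Ap (Ap ⧸ J') :=
    isArtinian_of_surjective_algebraMap (R := Ap ⧸ J') (S := Ap) Ideal.Quotient.mk_surjective
  have hkill : ∀ a ∈ J', ∀ x : Np, a • x = 0 := fun a ha x => by
    have hle : J' ≤ Module.annihilator Ap Np := by
      rw [Ideal.map_le_iff_le_comap]
      intro b hb
      rw [Ideal.mem_comap, Module.mem_annihilator]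
      intro y
      induction y using LocalizedModule.induction_on with
      | h n t => rw [algebraMap_smul, LocalizedModule.smul'_mk, Module.mem_annihilator.1 hb n,
          LocalizedModule.zero_mk]
    exact Module.mem_annihilator.1 (hle ha) x
  obtain ⟨r, g, hg⟩ := Module.Finite.exists_fin' Ap Np
  let gq : (Fin r → Ap ⧸ J') →ₗ[Ap] Np :=
    ∑ i : Fin r, (Submodule.liftQ J' (LinearMap.toSpanSingleton Ap Np (g (Pi.single i 1)))
      fun a ha => hkill a ha _) ∘ₗ LinearMap.proj i
  have hgq : Function.Surjective gq := fun x => by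
    obtain ⟨v, rfl⟩ := hg x
    refine ⟨fun i => Ideal.Quotient.mk J' (v i), ?_⟩
    conv_rhs => rw [pi_eq_sum_univ' v, map_sum]
    simp only [gq, LinearMap.sum_apply, LinearMap.comp_apply, LinearMap.proj_apply]
    exact Finset.sum_congr rfl fun i _ => by
      rw [map_smul]
      rfl
  have : IsArtinian Ap Np := isArtinian_of_surjective _ gq hgq
  let f : ℕ →o (Submodule Ap Np)ᵒᵈ :=
    ⟨fun j => OrderDual.toDual ((D j).localized' Ap p.primeCompl (LocalizedModule.mkLinearMap p.primeCompl N)),
      fun i j hij => by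
        rintro x ⟨y, hy, t, ht⟩
        exact ⟨y, hD hij hy, t, ht⟩⟩
  obtain ⟨m, hm⟩ := IsArtinian.monotone_stabilizes f
  refine ⟨m, fun x hx => ?_⟩
  have hmem : LocalizedModule.mk x (1 : p.primeCompl) ∈
      (D (m + 1)).localized' Ap p.primeCompl (LocalizedModule.mkLinearMap p.primeCompl N) := by
    have h := hm (m + 1) (Nat.le_succ m)
    show _ ∈ OrderDual.ofDual (f (m + 1))
    rw [← congrArg OrderDual.ofDual h]
    exact ⟨x, hx, 1, (IsLocalizedModule.mk_eq_mk' _ _).symm⟩
  obtain ⟨y, hy, t, ht⟩ := hmem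
  rw [← IsLocalizedModule.mk_eq_mk', LocalizedModule.mk_eq] at ht
  obtain ⟨u, hu⟩ := ht
  refine ⟨((u * t : p.primeCompl) : A), (u * t).2, ?_⟩
  rw [one_smul] at hu
  rw [Submonoid.coe_mul, mul_smul]
  simp only [Submonoid.smul_def] at hu
  rw [← hu]
  exact Submodule.smul_mem _ _ hy

/-- A finite algebra whose elements are, up to multiples outside `p`, equalised by the two maps to
the tensor square is generated by `1` at `p`. -/
theorem notMem_support {A D : Type u} [CommRing A] [CommRing D] [Algebra A D] [Module.Finite A D]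
    (p : Ideal A) [p.IsPrime]
    (h : ∀ b : D, ∃ s, s ∉ p ∧ (s • b) ⊗ₜ[A] (1 : D) = (1 : D) ⊗ₜ[A] (s • b)) :
    (⟨p, inferInstance⟩ : PrimeSpectrum A) ∉
      Module.support A (D ⧸ Submodule.span A ({1} : Set D)) := by
  set κ := p.ResidueField
  rw [Module.mem_support_iff_nontrivial_residueField_tensorProduct, not_nontrivial_iff_subsingleton]
  set E := Submodule.span A ({1} : Set D)
  have hone : ∀ b : D, ∃ c : κ, (1 : κ) ⊗ₜ[A] b = c • ((1 : κ) ⊗ₜ[A] (1 : D)) := fun b => by
    rcases eq_or_ne ((1 : κ) ⊗ₜ[A] (1 : D)) 0 with h1 | h1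
    · refine ⟨0, ?_⟩
      rw [zero_smul, ← mul_one ((1 : κ) ⊗ₜ[A] b), show (1 : κ ⊗[A] D) = 1 ⊗ₜ 1 from rfl, h1, mul_zero]
    obtain ⟨φ, hφ⟩ := LinearMap.exists_extend (LinearEquiv.toSpanNonzeroSingleton κ _ _ h1).symm.toLinearMap
    have hφ1 : φ ((1 : κ) ⊗ₜ[A] (1 : D)) = 1 := by
      have h := LinearMap.congr_fun hφ ⟨_, Submodule.mem_span_singleton_self _⟩
      rw [LinearMap.comp_apply, Submodule.subtype_apply] at h
      rw [h, LinearEquiv.coe_coe, LinearEquiv.symm_apply_eq]
      ext
      simp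
    obtain ⟨s, hs, hsb⟩ := h b
    refine ⟨φ ((1 : κ) ⊗ₜ[A] b), ?_⟩
    let ι : D →ₗ[A] κ ⊗[A] D := TensorProduct.mk A κ D 1
    let L : D ⊗[A] D →ₗ[A] κ ⊗[A] D := TensorProduct.lift
      (((LinearMap.lsmul κ (κ ⊗[A] D)).restrictScalars₁₂ A A).compl₁₂ ((φ.restrictScalars A) ∘ₗ ι) ι)
    have hL : ∀ a c : D, L (a ⊗ₜ[A] c) = φ ((1 : κ) ⊗ₜ[A] a) • ((1 : κ) ⊗ₜ[A] c) := fun a c => rfl
    have h2 := congrArg L hsb
    rw [hL, hL, hφ1, one_smul, TensorProduct.tmul_smul, ← algebraMap_smul κ s, map_smul,
      smul_eq_mul, mul_smul] at h2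
    have hsne : algebraMap A κ s ≠ 0 := fun h0 => hs (by rwa [Ideal.algebraMap_residueField_eq_zero] at h0)
    exact (smul_right_injective _ hsne h2).symm
  refine subsingleton_iff.2 fun x y => ?_
  suffices h0 : ∀ z : κ ⊗[A] (D ⧸ E), z = 0 by rw [h0 x, h0 y]
  intro z
  induction z with
  | zero => rfl
  | tmul c d =>
    obtain ⟨d, rfl⟩ := Submodule.mkQ_surjective E d
    obtain ⟨c', hc'⟩ := hone d
    have h0 : (1 : κ) ⊗ₜ[A] E.mkQ d = 0 := by
      have h := congrArg (E.mkQ.baseChange κ) hc'
      rw [map_smul, LinearMap.baseChange_tmul, LinearMap.baseChange_tmul, Submodule.mkQ_apply E 1,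
        (Submodule.Quotient.mk_eq_zero E).2 (Submodule.mem_span_singleton_self 1), TensorProduct.tmul_zero,
        smul_zero] at h
      exact h
    rw [← mul_one c, ← smul_eq_mul, ← TensorProduct.smul_tmul', h0, smul_zero]
  | add a b ha hb => rw [ha, hb, add_zero]

/-- Let A be a Noetherian ring and B a finite A-algebra with A → B injective (a finite schematically
dominant morphism Spec B → Spec A). Define subalgebras B_0 = B and B_{i+1} = the equalizer of the
two maps B_i ⇉ B_i ⊗_A B_i, b ↦ b ⊗ 1, 1 ⊗ b. Then B_m = A (the image of A) for some m; equivalently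
Spec B → Spec A factors as a finite chain of finite morphisms Spec B_i → Spec B_{i+1} each of which
is an effective epimorphism (B_{i+1} is the equalizer of B_i ⇉ B_i ⊗_{B_{i+1}} B_i). The sequence is
given here as any family C of subalgebras satisfying the recursion. (The published statement is for
a finite morphism X → Y of schemes with Y Noetherian and O_Y → f_*O_X injective; this row is the
affine case.) -/
theorem result (A B : Type u) [CommRing A] [CommRing B] [Algebra A B]
    [IsNoetherianRing A] [Module.Finite A B] (hinj : Function.Injective (algebraMap A B))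
    (C : ℕ → Subalgebra A B) (h0 : C 0 = ⊤)
    (hstep : ∀ (i : ℕ) (b : B), b ∈ C (i + 1) ↔ ∃ hb : b ∈ C i,
      ((⟨b, hb⟩ : C i) ⊗ₜ[A] (1 : C i) : C i ⊗[A] C i) = (1 : C i) ⊗ₜ[A] (⟨b, hb⟩ : C i)) :
    ∃ m : ℕ, C m = ⊥ := by
  classical
  clear hinj
  have hanti : Antitone C := antitone_nat_of_succ_le fun i b hb => ((hstep i b).1 hb).1
  set E := Submodule.span A ({1} : Set B)
  set N : ℕ → Submodule A (B ⧸ E) := fun j => (C j).toSubmodule.map E.mkQ with hNdef
  have hNanti : Antitone N := fun i j hij => Submodule.map_mono (hanti hij)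
  let fI : ℕ →o Ideal A := ⟨fun j => Module.annihilator A (N j), fun i j hij a ha => by
    rw [Module.mem_annihilator] at ha ⊢
    exact fun x => Subtype.ext (congrArg Subtype.val (ha ⟨x, hNanti hij x.2⟩) :)⟩
  obtain ⟨i, hi⟩ := monotone_stabilizes_iff_noetherian.2 (inferInstance : IsNoetherian A A) fI
  refine ⟨i, ?_⟩
  have hann : Module.annihilator A (N i) = ⊤ := by
    by_contra hne
    obtain ⟨p, hp⟩ := Ideal.nonempty_minimalPrimes hne
    have := hp.1.1
    obtain ⟨m, hm⟩ := exists_stable p hp (fun j => (N (i + j)).comap (N i).subtype)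
      fun j k hjk => Submodule.comap_mono (hNanti (Nat.add_le_add_left hjk i))
    have hD : ∀ b : C (i + m), ∃ s, s ∉ p ∧ (s • b) ⊗ₜ[A] (1 : C (i + m)) = 1 ⊗ₜ[A] (s • b) := fun b => by
      have hbN : E.mkQ b ∈ N (i + m) := Submodule.mem_map_of_mem b.2
      obtain ⟨s, hs, hsx⟩ := hm ⟨E.mkQ b, hNanti (Nat.le_add_right i m) hbN⟩ hbN
      obtain ⟨c, hc, hcb⟩ := hsx
      have hsb : s • (b : B) ∈ C (i + (m + 1)) := by
        have hd : s • (b : B) - c ∈ E := by
          rw [← Submodule.Quotient.eq]
          exact hcb.symm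
        have hE : E ≤ (C (i + (m + 1))).toSubmodule := by
          rw [Submodule.span_le, Set.singleton_subset_iff]
          exact one_mem (C (i + (m + 1)))
        simpa using add_mem (hE hd) (show c ∈ (C (i + (m + 1))).toSubmodule from hc)
      obtain ⟨_, h⟩ := (hstep (i + m) _).1 hsb
      exact ⟨s, hs, h⟩
    have : Module.Finite A (C (i + m)) :=
      Module.Finite.of_injective (C (i + m)).val.toLinearMap Subtype.val_injective
    have hsupp := notMem_support p hD
    rw [Module.support_eq_zeroLocus, PrimeSpectrum.mem_zeroLocus, SetLike.coe_subset_coe,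
      SetLike.not_le_iff_exists] at hsupp
    obtain ⟨a, ha, hap⟩ := hsupp
    have ha' : a ∈ Module.annihilator A (N (i + m)) := by
      rw [Module.mem_annihilator] at ha ⊢
      rintro ⟨_, b, hb, rfl⟩
      refine Subtype.ext ?_
      have h := ha (Submodule.Quotient.mk ⟨b, hb⟩)
      rw [← Submodule.Quotient.mk_smul, Submodule.Quotient.mk_eq_zero, Submodule.mem_span_singleton] at h
      obtain ⟨r, hr⟩ := h
      show a • E.mkQ b = 0
      rw [← map_smul, Submodule.mkQ_apply, Submodule.Quotient.mk_eq_zero, Submodule.mem_span_singleton]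
      exact ⟨r, congrArg Subtype.val hr⟩
    refine hap (hp.1.2 ?_)
    exact (hi (i + m) (Nat.le_add_right i m)).ge ha'
  rw [eq_bot_iff]
  intro b hb
  have h := Module.mem_annihilator.1 (hann ▸ Submodule.mem_top : (1 : A) ∈ Module.annihilator A (N i))
    ⟨E.mkQ b, Submodule.mem_map_of_mem hb⟩
  rw [one_smul] at h
  have hbE : b ∈ E := (Submodule.Quotient.mk_eq_zero E).1 (congrArg Subtype.val h :)
  obtain ⟨r, rfl⟩ := Submodule.mem_span_singleton.1 hbE
  rw [Algebra.mem_bot]
  exact ⟨r, Algebra.algebraMap_eq_smul_one r⟩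

end Groth.Agent.S5663
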