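import Groth.Statements.S5667
import Groth.Agent.ExtFund.SmoothDual
import Groth.Agent.S11316
import Groth.Agent.DualGeneric.GlobalField

set_option autoImplicit false
universe u
open CategoryTheory CategoryTheory.Limits AlgebraicGeometry
open ProjDual

set_option backward.isDefEq.respectTransparency false
set_option backward.isDefEq.respectTransparency.types false

namespace Groth.Agent.S5667

/-- Let `k` be an algebraically closed field and `X` a connected nonsingular projective variety of
dimension `n` over `k` — here: a connected `k`-scheme, smooth of relative dimension `n` over `k`,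
with a closed immersion into some projective space `P^r_k` over `k` — and let `L` be an `n`-th
exterior power of the sheaf of differentials of `X` over `k` (the sheaf of `n`-forms). Then `H^n(X,
L)` is a `k`-vector space of dimension `1`. (The source says more: the fundamental class of a point
is a basis; only the dimension is stated here.) -/
theorem result (k : Type u) [Field k] [IsAlgClosed k] (n r : ℕ) (X : Scheme.{u}) [X.Over (Spec (CommRingCat.of k))] [SmoothOfRelativeDimension n (X ↘ Spec (CommRingCat.of k))] [ConnectedSpace X] (ι : X ⟶ CohB1.ProjSpace r k) [IsClosedImmersion ι] (hι : ι ≫ CohB1.ProjSpace.toSpec r k = X ↘ Spec (CommRingCat.of k)) (L : X.Modules) (hL : ExtPow.IsExtPow n (Omega.sheaf (X ↘ Spec (CommRingCat.of k))) L) : Module.finrank k (Coh.HH X L n) = 1 := by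
  haveI := Groth.Agent.ExtFund.isProper_of_closed ι hι
  haveI := Groth.Agent.CurveRR.isNoetherian_of_proper k X
  haveI : Smooth (X ↘ Spec (CommRingCat.of k)) := SmoothOfRelativeDimension.smooth n _
  haveI : IsReduced X := Groth.Agent.SmoothRed.isReduced_of_smooth_scheme (X ↘ Spec (CommRingCat.of k))
  obtain ⟨t, ht⟩ := Groth.Agent.ExtFund.exists_trace_smooth ι hι L hL
  have hO : FlatMod.IsFinLocFree (Coh.structureModule X) :=
    Groth.Agent.ResDesc.isFinLocFree_of_isInvertible (TMul.isInvertible_structureModule (X := X))
  obtain ⟨e⟩ := Groth.Agent.SerrePn.duality_vb ι hι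
    (fun x hx => Groth.Agent.ExtFund.cm_dim_of_smooth (X ↘ Spec (CommRingCat.of k)) n x hx)
    L (Groth.Agent.ExtFund.isCoh_top ι hι hL) t ht (Coh.structureModule X) hO 0 (Nat.zero_le n)
  obtain ⟨g⟩ := Groth.Agent.ExtFund.nonempty_sheafHom_cancel (TMul.isInvertible_structureModule (X := X)) hO
    (SecTwist.unitorR L).symm
  exact (Groth.Agent.CurveRR.h_eq_of_iso g n).symm.trans (e.finrank_eq.symm.trans
    (Subspace.dual_finrank_eq.trans (Groth.Agent.DualGeneric.h0_structure_connected k)))

end Groth.Agent.S5667
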