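import Groth.Statements.S5670
import Groth.Agent.Purity.SectionsBC
import Groth.Agent.FinFibImage.Main
-- import your own Groth.Agent.* helpers here

set_option autoImplicit false
universe u
open Pi1

namespace Groth.Agent.S5670

open AlgebraicGeometry CategoryTheory TopologicalSpace in
/-- bijectivity on sections over preimages of affine opens globalises -/
theorem bijective_appTop {P E S : Scheme.{u}} (ι : P ⟶ E) (g : E ⟶ S)
    (h : ∀ V : S.Opens, IsAffineOpen V → Function.Bijective (ι.app (g ⁻¹ᵁ V))) :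
    Function.Bijective ι.appTop := by
  let A := {V : S.Opens // IsAffineOpen V}
  have res : ∀ {O O' : E.Opens} (hle : O' ≤ O) (a : Γ(E, O)),
      ι.app O' (E.presheaf.map (homOfLE hle).op a) =
        P.presheaf.map (homOfLE (ι.preimage_mono hle)).op (ι.app O a) := fun hle a =>
    ConcreteCategory.congr_hom (ι.naturality (homOfLE hle).op) a
  have cov : ∀ W : S.Opens, g ⁻¹ᵁ W ≤ ⨆ V : {V : A // V.1 ≤ W}, g ⁻¹ᵁ V.1.1 := by
    intro W z hz
    obtain ⟨_, ⟨V, hV, rfl⟩, hzV, hle⟩ := S.isBasis_affineOpens.exists_subset_of_mem_open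
      (show g z ∈ W from hz) W.2
    exact Opens.mem_iSup.2 ⟨⟨⟨V, hV⟩, hle⟩, hzV⟩
  have hinj : ∀ W : S.Opens, Function.Injective (ι.app (g ⁻¹ᵁ W)) := by
    intro W a b hab
    refine TopCat.Sheaf.eq_of_locally_eq' E.sheaf (fun V : {V : A // V.1 ≤ W} => g ⁻¹ᵁ V.1.1) (g ⁻¹ᵁ W)
      (fun V => homOfLE (g.preimage_mono V.2)) (cov W) a b fun V => (h _ V.1.2).1 ?_
    show ι.app _ (E.presheaf.map _ a) = ι.app _ (E.presheaf.map _ b)
    rw [res, res, hab]
  refine ⟨hinj ⊤, fun t => ?_⟩
  choose c hc using fun V : A => (h V.1 V.2).2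
    (P.presheaf.map (homOfLE (le_top : ι ⁻¹ᵁ g ⁻¹ᵁ V.1 ≤ ⊤)).op t)
  obtain ⟨s, hs, -⟩ := TopCat.Sheaf.existsUnique_gluing' E.sheaf (fun V : A => g ⁻¹ᵁ V.1) ⊤
    (fun V => homOfLE le_top) (fun z _ => by
      obtain ⟨V, hV, hzV, -⟩ := exists_isAffineOpen_mem_and_subset (show g z ∈ (⊤ : S.Opens) from trivial)
      exact Opens.mem_iSup.2 ⟨⟨V, hV⟩, hzV⟩) c (fun V W => by
      refine hinj (V.1 ⊓ W.1) ?_
      show ι.app _ (E.presheaf.map (homOfLE (inf_le_left : g ⁻¹ᵁ V.1 ⊓ g ⁻¹ᵁ W.1 ≤ _)).op (c V)) =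
        ι.app _ (E.presheaf.map (homOfLE (inf_le_right : g ⁻¹ᵁ V.1 ⊓ g ⁻¹ᵁ W.1 ≤ _)).op (c W))
      rw [res, res, hc, hc, Groth.Agent.Purity.res_res', Groth.Agent.Purity.res_res'])
  refine ⟨s, TopCat.Sheaf.eq_of_locally_eq' P.sheaf (fun V : A => ι ⁻¹ᵁ g ⁻¹ᵁ V.1) ⊤
    (fun V => homOfLE le_top) (fun z _ => by
      obtain ⟨V, hV, hzV, -⟩ := exists_isAffineOpen_mem_and_subset (show g (ι z) ∈ (⊤ : S.Opens) from trivial)
      exact Opens.mem_iSup.2 ⟨⟨V, hV⟩, hzV⟩) _ _ fun V => ?_⟩
  show P.presheaf.map (homOfLE (ι.preimage_mono (le_top : g ⁻¹ᵁ V.1 ≤ ⊤))).op (ι.app ⊤ s) = _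
  rw [← res le_top, show E.presheaf.map _ s = c V from hs V, hc]
  rfl

open CategoryTheory CategoryTheory.Limits AlgebraicGeometry in
/-- Let `f : X → Y` be a proper morphism of Noetherian schemes such that `O_Y → f_* O_X` is an
isomorphism (bijective on sections over every open of `Y`). Then for every connected finite étale
`Y'` over `Y`, the base change `X ×_Y Y'` is connected; equivalently, `f` induces a surjection on
étale fundamental groups. -/
theorem result {X Y Y' : Scheme.{u}} (f : X ⟶ Y) [IsProper f] [IsNoetherian X] [IsNoetherian Y] (hf : ∀ U : Y.Opens, Function.Bijective (f.app U)) (g : Y' ⟶ Y) [IsFinite g] [Etale g] [ConnectedSpace Y'] : ConnectedSpace ↥(pullback f g) := by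
  let fst := pullback.fst g f
  have hb : Function.Bijective fst.appTop :=
    bijective_appTop fst g fun V hV => Groth.Agent.Purity.bijective_fst_app_of_app f g hV (hf V)
  suffices h : ConnectedSpace ↥(pullback g f) by
    exact (pullbackSymmetry g f).hom.homeomorph.surjective.connectedSpace
      (pullbackSymmetry g f).hom.homeomorph.continuous
  refine connectedSpace_iff_clopen.2 ⟨?_, fun W hW => ?_⟩
  · by_contra hne
    rw [not_nonempty_iff] at hne
    haveI : Subsingleton Γ(pullback g f, ⊤) := by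
      rw [show (⊤ : (pullback g f).Opens) = ⊥ from le_bot_iff.1 fun x _ => (hne.false x).elim]
      infer_instance
    haveI : Nonempty Y' := ConnectedSpace.toNonempty
    have h01 : (0 : Γ(Y', ⊤)) = 1 := hb.1 (Subsingleton.elim _ _)
    have hu : IsUnit (0 : Γ(Y', ⊤)) := by rw [h01]; exact isUnit_one
    have := Scheme.basicOpen_of_isUnit Y' hu
    rw [Scheme.basicOpen_zero] at this
    exact (this.symm.le (show (Classical.arbitrary Y') ∈ (⊤ : Y'.Opens) from trivial) : False)
  obtain ⟨e, he, hWe⟩ := Groth.Agent.FinFibImage.exists_idem_of_isClopen W hW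
  obtain ⟨e', rfl⟩ := hb.2 e
  have he' : IsIdempotentElem e' := hb.1 (by rw [map_mul]; exact he)
  have key : ∀ x : Y', x ∈ Y'.basicOpen e' ↔ x ∉ Y'.basicOpen (1 - e') := by
    intro x
    rw [Y'.mem_basicOpen_top, Y'.mem_basicOpen_top, map_sub, map_one]
    constructor
    · intro h1 h2
      have h3 : Y'.presheaf.germ ⊤ x trivial e' * (1 - Y'.presheaf.germ ⊤ x trivial e') = 0 := by
        rw [mul_sub, mul_one, ← map_mul, he'.eq, sub_self]
      exact not_isUnit_zero (h3 ▸ h1.mul h2)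
    · intro h1
      exact (IsLocalRing.isUnit_or_isUnit_of_add_one (add_sub_cancel _ _)).resolve_right h1
  have hcl : IsClopen (Y'.basicOpen e' : Set Y') := by
    refine ⟨?_, (Y'.basicOpen e').2⟩
    rw [show (Y'.basicOpen e' : Set Y') = (Y'.basicOpen (1 - e') : Set Y')ᶜ from Set.ext key]
    exact (Y'.basicOpen (1 - e')).2.isClosed_compl
  have hpre : W = fst ⁻¹' (Y'.basicOpen e' : Set Y') := by
    rw [← hWe]
    exact congrArg (fun O : (pullback g f).Opens => (O : Set ↥(pullback g f))) (Scheme.preimage_basicOpen fst e').symm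
  rcases (connectedSpace_iff_clopen.1 ‹ConnectedSpace Y'›).2 _ hcl with h | h
  · exact Or.inl (by rw [hpre, h, Set.preimage_empty])
  · exact Or.inr (by rw [hpre, h, Set.preimage_univ])

end Groth.Agent.S5670
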