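import Groth.Statements.S5671
import Groth.Agent.DualCx.Regular
import Groth.Agent.DualCx.Duality

set_option autoImplicit false
universe u
open CategoryTheory
open Dual

namespace Groth.Agent.S5671

/-- First assertion, in the local-algebra form to which its proof reduces it: let `A` be a regular local
ring of dimension `n`, `p ≥ 0`, and `M` a finite `A`-module whose support has dimension at most `n -
p`. Then `Ext^i_A(M, A) = 0` for every `i < p`. (The geometric statement: on a nonsingular
`n`-dimensional variety the sheaves `Ext^i(F, L)` vanish for `i < p` when `F` is coherent with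
support of dimension `≤ n - p` and `L` is locally free.) -/
theorem result (A : Type u) [CommRing A] [IsRegularLocalRing A] (M : Type u) [AddCommGroup M] [Module A M] [Module.Finite A M] (p : ℕ) (hdim : Module.supportDim A M + p ≤ ringKrullDim A) (i : ℕ) (hi : i < p) : Subsingleton (Abelian.Ext (ModuleCat.of A M) (ModuleCat.of A A) i) := by
  haveI := Goren.isGorenstein_of_regular A
  obtain ⟨r, hr⟩ := SerreReg.exists_dim_nat A
  obtain ⟨hω, hn⟩ := DualCx.gorenstein_normalized (A := A) hr
  by_cases hM : Nontrivial M
  · obtain ⟨d, hd, -⟩ := DualCx.exists_top hω hn (M := M)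
    rw [hd, hr] at hdim
    have hdp : d + p ≤ r := by exact_mod_cast hdim
    have h : Subsingleton (DualCx.T ((Dual.inD A A)⟦(r : ℤ)⟧) M ((i : ℤ) - r)) := by
      by_contra hns
      have := DualCx.mem_bounds hω hn d hd.le (not_subsingleton_iff_nontrivial.1 hns)
      lia
    exact (DualCx.extEquivT (A := A) M r ((i : ℤ) - r) i (by lia)).toEquiv.subsingleton_congr.1 h
  · haveI := not_nontrivial_iff_subsingleton.1 hM
    exact (DualCx.extEquivT (A := A) M r ((i : ℤ) - r) i (by lia)).toEquiv.subsingleton_congr.1 DualCx.subsingleton_of_subsingleton

end Groth.Agent.S5671
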