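import Groth.Statements.S5672
import Groth.Agent.HTLib.ExtHom
import Groth.Agent.H4Easy.Batch9
import Groth.Agent.Goren.Basic
import Groth.Agent.LocH.DepthExt
import Groth.Agent.LocH.Depth

set_option autoImplicit false
universe u
open CategoryTheory
open Dual

namespace Groth.Agent.S5672

/-- Let `A` be a regular local ring of dimension `n`, `J` an ideal with `dim(A/J) ≤ n - p`, and `M` a
finite `A`-module with `JM = 0`. For `ξ ∈ Ext^p_A(M, A)` and an `A`-linear `u : A/J → M` write `u^*ξ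
∈ Ext^p_A(A/J, A)` for the pullback. Then `ξ ↦ (u ↦ u^*ξ)` is injective, and every `A`-linear map
`Hom_A(A/J, M) → Ext^p_A(A/J, A)` is of the form `u ↦ u^*ξ` for some `ξ`. Since `Hom_A(A/J, M) = M`
here, this says that the canonical map `Ext^p_A(M, A) → Hom_A(M, Ext^p_A(A/J, A))` is bijective. -/
theorem result (A : Type u) [CommRing A] [IsRegularLocalRing A] (p : ℕ) (J : Ideal A) (hJ : ringKrullDim (A ⧸ J) + p ≤ ringKrullDim A) (M : Type u) [AddCommGroup M] [Module A M] [Module.Finite A M] (hJM : J • (⊤ : Submodule A M) = ⊥) : Function.Injective (fun ξ : Abelian.Ext (ModuleCat.of A M) (ModuleCat.of A A) p => fun u : (A ⧸ J) →ₗ[A] M => (Abelian.Ext.mk₀ (ModuleCat.ofHom u)).comp ξ (zero_add p)) ∧ ∀ g : ((A ⧸ J) →ₗ[A] M) →ₗ[A] Abelian.Ext (ModuleCat.of A (A ⧸ J)) (ModuleCat.of A A) p, ∃ ξ : Abelian.Ext (ModuleCat.of A M) (ModuleCat.of A A) p, ∀ u : (A ⧸ J) →ₗ[A] M, g u = (Abelian.Ext.mk₀ (ModuleCat.ofHom u)).comp ξ (zero_add p) := by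
  have hM : ∀ a ∈ J, ∀ m : M, a • m = 0 := fun a ha m =>
    (Submodule.mem_bot A).1 (hJM ▸ Submodule.smul_mem_smul ha (Submodule.mem_top (x := m)))
  have hdepth : (p : ℕ∞) ≤ LocCoh.idealDepth J A := by
    by_cases hJ1 : J = ⊤
    · rw [LocCoh.idealDepth, if_pos (by rw [hJ1, Submodule.top_smul])]
      exact le_top
    haveI := Goren.isGorenstein_of_regular A
    haveI := Goren.isCohenMacaulay A
    have hcm : LocCoh.IsCohenMacaulayModule A A := LocCoh.IsCohenMacaulayLocalRing.supportDim_eq_depth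
    have h1 := H4Easy.cm_supportDim_eq A J hJ1 A hcm
    rw [Module.supportDim_self_eq_ringKrullDim,
      Module.supportDim_eq_of_equiv (Submodule.quotEquivOfEq _ J (by rw [smul_eq_mul, Ideal.mul_top])),
      Module.supportDim_quotient_eq_ringKrullDim, ringKrullDim_quotient] at h1
    rw [ringKrullDim_quotient, h1] at hJ
    haveI : Nonempty (PrimeSpectrum.zeroLocus (J : Set A)) := by
      obtain ⟨m, hm, hle⟩ := J.exists_le_maximal hJ1
      exact ⟨⟨⟨m, hm.isPrime⟩, hle⟩⟩
    generalize hD : Order.krullDim (PrimeSpectrum.zeroLocus (J : Set A)) = D at hJ h1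
    have hDlt : D < ⊤ := by
      rw [← hD, ← ringKrullDim_quotient]
      exact lt_of_le_of_lt (ringKrullDim_quotient_le J) ringKrullDim_lt_top
    induction D with
    | bot => exact absurd hD (ne_of_gt (lt_of_lt_of_le (WithBot.bot_lt_coe 0) Order.krullDim_nonneg))
    | coe d =>
      induction d using ENat.recTopCoe with
      | top => exact absurd hDlt (lt_irrefl _)
      | coe n =>
        generalize LocCoh.idealDepth J A = e at hJ ⊢
        induction e using ENat.recTopCoe with
        | top => exact le_top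
        | coe k =>
          have h2 : n + p ≤ n + k := by exact_mod_cast hJ
          exact_mod_cast (show p ≤ k by omega)
  have hvan : ∀ (N : Type u) [AddCommGroup N] [Module A N] [Module.Finite A N], (∀ a ∈ J, ∀ m : N, a • m = 0) →
      ∀ i, i < p → Subsingleton (Abelian.Ext (ModuleCat.of A N) (ModuleCat.of A A) i) := fun N _ _ _ hN i hi =>
    LocH.ext_subsingleton_of_H (I := J) _ (fun m => ⟨1, fun a ha => hN a (pow_one J ▸ ha) m⟩) i _
      fun j hj => (LocH.le_idealDepth_iff J A p).1 hdepth j (lt_of_le_of_lt hj hi)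
  refine ⟨fun ξ η h => sub_eq_zero.1 (HTLib.ev_injective J _ p hvan hM fun u => ?_), fun g => ?_⟩
  · show (Abelian.Ext.mk₀ (ModuleCat.ofHom u)).comp (ξ - η) (zero_add p) = 0
    rw [sub_eq_add_neg, Abelian.Ext.comp_add, Abelian.Ext.comp_neg, ← sub_eq_add_neg]
    exact sub_eq_zero.2 (congrFun h u)
  · obtain ⟨ξ, hξ⟩ := HTLib.ev_surjective J _ p hvan hM g
    exact ⟨ξ, hξ⟩

end Groth.Agent.S5672
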