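import Groth.Statements.S5674
import Groth.Agent.ExtShX.CodimField
import Groth.Agent.ExtShX.DepthCrit
import Groth.Agent.ExtShX.AffineTilde
import Groth.Agent.SmLocalST.SmoothField
import Groth.Agent.QC.Support

set_option autoImplicit false
set_option linter.style.haveILetI false
set_option backward.isDefEq.respectTransparency false
universe u
open CategoryTheory CategoryTheory.Limits AlgebraicGeometry
open ProjDual Groth.Agent

namespace Groth.Agent.S5674

/-- Let `k` be an algebraically closed field, `X` a nonsingular algebraic set of dimension `n` over `k`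
— here: a quasi-compact `k`-scheme smooth of relative dimension `n` over `k` — `F` a coherent
`O_X`-module whose support has dimension at most `n - p`, and `L` a finite locally free
`O_X`-module. Then the (global) groups `Ext^i_{O_X}(F, L)` vanish for `i < p`. (All components of
`X` have dimension `n`; for a nonsingular algebraic set with a component of smaller dimension the
conclusion fails. The Ext instance on the category of `O_X`-modules is taken as a hypothesis; it
holds since that category is Grothendieck abelian.) -/
theorem result (k : Type u) [Field k] [IsAlgClosed k] (n : ℕ) (X : Scheme.{u}) [X.Over (Spec (CommRingCat.of k))] [SmoothOfRelativeDimension n (X ↘ Spec (CommRingCat.of k))] [CompactSpace X] [HasExt.{u} X.Modules] (F : X.Modules) (hF : Coh.IsCoh F) (L : X.Modules) (hL : FlatMod.IsFinLocFree L) (p : ℕ) (hsupp : topologicalKrullDim ↥(CohB1.support F) + p ≤ n) (i : ℕ) (hi : i < p) : Subsingleton (Abelian.Ext F L i) := by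
  haveI : Smooth (X ↘ Spec (CommRingCat.of k)) := SmoothOfRelativeDimension.smooth n _
  haveI : IsLocallyNoetherian X := LocallyOfFiniteType.isLocallyNoetherian (X ↘ Spec (CommRingCat.of k))
  haveI : ∀ M : X.Modules, ModSite.HasSheafHom (O := X.sheaf) M := fun M => ModSiteTensor.hasSheafHom M
  haveI : HasInjectiveResolutions (ModSite.Mod X.sheaf) := inferInstanceAs (HasInjectiveResolutions X.Modules)
  have h0 : ∀ q, q < p → IsZero ((ExtShX.R F q).obj L) := fun q hq => by
    obtain ⟨e⟩ := ExtShX.nonempty_extShIso F q L
    refine IsZero.of_iso ?_ e.symm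
    refine ExtShX.isZero_extSh_of_depth L F ⟨LocFree.isQCoh_of_isFinLocFree hL, LocFree.isFT_of_isFinLocFree hL⟩ hF p
      (fun y hy => ?_) q hq
    haveI := SmLocalST.isRegularLocalRing_stalk_of_smooth_field (X ↘ Spec (CommRingCat.of k)) y
    obtain ⟨a, d, ha, hd, hn⟩ := ExtShX.exists_dims_smooth (X ↘ Spec (CommRingCat.of k)) n y
    have h1 := (Topology.IsEmbedding.inclusion (closure_minimal (Set.singleton_subset_iff.2 hy)
      (Groth.Agent.QC.isClosed_support hF.2))).isInducing.topologicalKrullDim_le
    rw [ha] at h1
    have h2 : ((a + p : ℕ) : WithBot ℕ∞) ≤ n := by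
      push_cast
      exact le_trans (add_le_add_left h1 _) hsupp
    exact ExtShX.le_depth_regular hL y hd p (by rw [Nat.cast_le] at h2; omega)
  obtain ⟨e⟩ := ExtShX.ext_equiv_h0 k F i L fun q hq j =>
    ExtShX.subsingleton_hh_zero k (h0 q (lt_of_le_of_lt hq hi)) _
  haveI := ExtShX.subsingleton_hh_zero k (h0 i hi) 0
  exact e.toEquiv.subsingleton

end Groth.Agent.S5674
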