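import Groth.Statements.S5679
import Groth.Agent.TauSet.OpenSub

set_option autoImplicit false
set_option backward.isDefEq.respectTransparency false
set_option backward.isDefEq.respectTransparency.types false
set_option maxHeartbeats 1000000

universe u
open CategoryTheory CategoryTheory.Limits MonoidalCategory CartesianMonoidalCategory MonObj GrpObj AlgebraicGeometry
open FGA

namespace Groth.Agent.S5679

/-- Let S be a nonempty locally Noetherian scheme and G a group scheme locally of finite type over S.
Then there are a nonempty open subset U of S, a group scheme H of finite type over U with connected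
fibres, and a homomorphism from H to the base change of G to U which is an open immersion and whose
image in G is the set of points lying over U in the union of the connected components of the
identity of the fibres of G. -/
theorem result (S : Scheme.{u}) [IsLocallyNoetherian S] [Nonempty ↥S]
    (G : Over S) [GrpObj G] [LocallyOfFiniteType G.hom] :
    ∃ U : S.Opens, (U : Set ↥S).Nonempty ∧
      ∃ (H : Over (U : Scheme.{u})) (_ : GrpObj H) (i : H ⟶ Red.bc U.ι G), IsMonHom i ∧ IsOpenImmersion i.left ∧
        QuasiCompact H.hom ∧ LocallyOfFiniteType H.hom ∧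
        (∀ u : ↥(U : Scheme.{u}), _root_.IsConnected (H.hom.base ⁻¹' {u})) ∧
        Set.range (i.left ≫ pullback.fst G.hom U.ι).base = SGA3x.neutralSet G ∩ G.hom.base ⁻¹' (U : Set ↥S) := by
  obtain ⟨U, W, hne, hU, hWc, hW⟩ := Groth.Agent.TauSet.exists_open_neutral G
  let G' := Red.bc U.ι G
  let p := pullback.fst G.hom U.ι
  have hG' : LocallyOfFiniteType G'.hom := inferInstanceAs (LocallyOfFiniteType (pullback.snd G.hom U.ι))
  let O : G'.left.Opens := p ⁻¹ᵁ W
  have hN : ∀ w : ↥G'.left, w ∈ SGA3x.neutralSet G' ↔ p w ∈ SGA3x.neutralSet G := fun w => by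
    rw [Groth.Agent.GrpDim.neutralSet_iff, Groth.Agent.GrpDim.neutralSet_iff]
    exact Groth.Agent.GrpDim.comp0_bc_iff U.ι G w
  have hpU : ∀ w : ↥G'.left, G.hom (p w) ∈ U := fun w => by
    have h : p w ∈ Set.range p := ⟨w, rfl⟩
    rw [IsOpenImmersion.range_pullbackFst, Scheme.Opens.opensRange_ι] at h
    exact h
  have hO : (O : Set ↥G'.left) = SGA3x.neutralSet G' := by
    ext w
    show p w ∈ (W : Set ↥G.left) ↔ _
    rw [hW, hN]
    exact ⟨fun h => h.1, fun h => ⟨h, hpU w⟩⟩
  obtain ⟨gr, hi⟩ := Groth.Agent.TauSet.exists_grpObj_neutral G' O hO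
  refine ⟨U, hne, Over.mk (O.ι ≫ G'.hom), gr, Groth.Agent.SmNeutral.openSub G' O, hi,
    inferInstanceAs (IsOpenImmersion O.ι), ?_, inferInstanceAs (LocallyOfFiniteType (O.ι ≫ G'.hom)), fun u => ?_, ?_⟩
  · haveI : IsAffine (U : Scheme.{u}) := hU
    haveI : QuasiCompact U.ι := inferInstance
    haveI : CompactSpace ↥(O : Scheme.{u}) := isCompact_iff_compactSpace.1 (p.isCompact_preimage hWc)
    exact inferInstanceAs (QuasiCompact (O.ι ≫ G'.hom))
  · have himg : O.ι '' ((O.ι ≫ G'.hom).base ⁻¹' {u}) = Groth.Agent.GrpDim.comp0 G' u := by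
      rw [← Groth.Agent.GrpDim.neutralSet_inter, ← hO]
      ext w
      constructor
      · rintro ⟨z, hz, rfl⟩
        exact ⟨z.2, hz⟩
      · rintro ⟨hw, hwu⟩
        exact ⟨⟨w, hw⟩, hwu, rfl⟩
    have hc : _root_.IsConnected (O.ι '' ((O.ι ≫ G'.hom).base ⁻¹' {u})) := by
      rw [himg]
      exact ⟨⟨_, mem_connectedComponentIn (Groth.Agent.GrpDim.hom_section G' u)⟩, isPreconnected_connectedComponentIn⟩
    exact ⟨(Set.image_nonempty.1 hc.1), (O.ι.isOpenEmbedding.isInducing.isPreconnected_image).1 hc.2⟩
  · have h1 : Set.range (O.ι ≫ p).base = p.base '' (O : Set ↥G'.left) := by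
      rw [Scheme.Hom.comp_base, TopCat.coe_comp, Set.range_comp, Scheme.Opens.range_ι]
      rfl
    show Set.range (O.ι ≫ p).base = _
    rw [h1]
    ext x
    constructor
    · rintro ⟨w, hw, rfl⟩
      exact ⟨(hN w).1 (hO.le hw), hpU w⟩
    · rintro ⟨hx, hxU⟩
      obtain ⟨w, rfl⟩ : x ∈ Set.range p := by
        rw [IsOpenImmersion.range_pullbackFst, Scheme.Opens.opensRange_ι]
        exact hxU
      exact ⟨w, hO.ge ((hN w).2 hx), rfl⟩

end Groth.Agent.S5679
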