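import Groth.Statements.S5680
import Groth.Agent.ExpSeq.DeformRoot

set_option autoImplicit false
universe u
open CategoryTheory CategoryTheory.Limits AlgebraicGeometry
open FGA

set_option backward.isDefEq.respectTransparency false
set_option backward.isDefEq.respectTransparency.types false
set_option maxHeartbeats 1000000
set_option linter.style.haveILetI false

namespace Groth.Agent.S5680

/-- Let A be an artinian local ring with maximal ideal m and ν ≥ 1 an integer with m^(ν+1) = 0; let X be
a scheme proper and flat over Spec A, n a natural number whose image in the residue field of A is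
nonzero, L an invertible module on X and L' an invertible module on the closed subscheme X ×_A
Spec(A/m^ν) whose n-th tensor power is isomorphic to the pullback of L. Then there is an invertible
module M on X whose n-th tensor power is isomorphic to L (existence of an isomorphism). -/
theorem result (A : Type u) [CommRing A] [IsArtinianRing A] [IsLocalRing A]
    (ν : ℕ) (hν : 1 ≤ ν) (hm : IsLocalRing.maximalIdeal A ^ (ν + 1) = ⊥)
    (X : Scheme.{u}) (f : X ⟶ Spec (CommRingCat.of A)) [IsProper f] [Flat f]
    (n : ℕ) (hn : (n : IsLocalRing.ResidueField A) ≠ 0)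
    (L : X.Modules) (hL : PicF.IsInvertible L)
    (L' : (pullback f (Spec.map (CommRingCat.ofHom (Ideal.Quotient.mk (IsLocalRing.maximalIdeal A ^ ν))))).Modules)
    (hL' : PicF.IsInvertible L')
    (hroot : Nonempty (CohB1.tensorPow L' n ≅
      (Scheme.Modules.pullback (pullback.fst f (Spec.map (CommRingCat.ofHom (Ideal.Quotient.mk (IsLocalRing.maximalIdeal A ^ ν)))))).obj L)) :
    ∃ M : X.Modules, PicF.IsInvertible M ∧ Nonempty (CohB1.tensorPow M n ≅ L) := by
  let m := IsLocalRing.maximalIdeal A
  letI := W7Cube.law X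
  letI := W7Cube.law (pullback f (Spec.map (CommRingCat.ofHom (Ideal.Quotient.mk (m ^ ν)))))
  letI : X.Over (Spec (CommRingCat.of A)) := ⟨f⟩
  let j : pullback f (Spec.map (CommRingCat.ofHom (Ideal.Quotient.mk (m ^ ν)))) ⟶ X := pullback.fst _ _
  haveI : IsClosedImmersion j := ExpSeq.Deform.isClosedImmersion_iq f (m ^ ν)
  have hu : IsUnit (n : A) := by
    rw [← IsLocalRing.residue_ne_zero_iff_isUnit, map_natCast]
    exact hn
  have hcard : ∀ U : X.Opens, IsUnit (n : Γ(X, U)) := fun U => by
    have h := hu.map (W7Cech.secRing A U)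
    rwa [map_natCast] at h
  have hsq : ∀ (U : X.Opens), IsAffineOpen U → ∀ z : Γ(X, U), j.app U z = 0 → z * z = 0 := fun U hU z hz => by
    have hmem : z ∈ RingHom.ker (j.app U).hom := hz
    rw [W7Alg.ker_app_baseChange _ Ideal.Quotient.mk_surjective (IsPullback.of_hasPullback _ _) ⟨U, hU⟩,
      Ideal.mk_ker] at hmem
    have h2 := Ideal.mul_mem_mul hmem hmem
    have h3 : m ^ ν * m ^ ν ≤ ⊥ := by
      rw [← pow_add, ← hm]
      exact Ideal.pow_le_pow_right (by omega)
    rw [← Ideal.map_mul] at h2
    have h4 := Ideal.map_mono h3 h2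
    rwa [Ideal.map_bot, Ideal.mem_bot] at h4
  have hT : ∀ {Y : Scheme.{u}} [PicGrp.Law Y] {M : Y.Modules} (hM : PicF.IsInvertible M) (k : ℕ),
      PicGrp.cls (CohB1.tensorPow M k) (TMul.isInvertible_tensorPow hM k) = PicGrp.cls M hM ^ k :=
    fun hM k => Subtype.ext (PicGrp.cls_pow_val hM k).symm
  obtain ⟨e, he⟩ := ExpSeq.Deform.exists_root_lift j (W7Cube.pullMul j)
    (ExpSeq.Deform.isHomeomorph_iq f (Ideal.pow_le_self (by omega))) n hcard hsq (PicGrp.cls L hL) (PicGrp.cls L' hL') (by
      rw [← hT hL', PicGrp.pullHom_cls]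
      exact (PicGrp.cls_eq_cls_iff _ _).2 hroot)
  obtain ⟨M, hM, rfl⟩ := PicGrp.exists_eq_cls e
  refine ⟨M, hM, (PicGrp.cls_eq_cls_iff (TMul.isInvertible_tensorPow hM n) hL).1 ?_⟩
  rw [hT hM, he]

end Groth.Agent.S5680
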