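import Groth.Statements.S5682
import Groth.Agent.AutFinOrd.Setting
import Groth.Agent.GrpField.SchImgSmooth
import Groth.Agent.Chev.AntiAff
import Groth.Agent.Chev.AVKernel
import Groth.Agent.GrpComp.Identity
-- import your own Groth.Agent.* helpers here

set_option autoImplicit false
universe u
open CategoryTheory CategoryTheory.Limits MonoidalCategory CartesianMonoidalCategory MonObj GrpObj AlgebraicGeometry
open FGA

namespace Groth.Agent.S5682

open CategoryTheory.MonoidalCategory Groth.Agent in
theorem surjective_pow_of_noGa {k : Type u} [Field k] {G Y : Over (Spec (CommRingCat.of k))} [GrpObj G] [GrpObj Y]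
    [IsCommMonObj Y] [LocallyOfFiniteType Y.hom] [QuasiCompact Y.hom] [GeometricallyIrreducible Y.hom]
    (i : Y ⟶ G) [IsMonHom i] [IsClosedImmersion i.left] (s : Spec (CommRingCat.of k))
    (hGa : SGA7.FibreUnipotentRankZero s G) {m : ℕ} (hm : 0 < m) : Surjective (𝟙 Y ^ m).left := by
  let w := Red.geomPt s
  let F := Over.pullback w
  haveI : LocallyOfFiniteType (F.obj Y).hom := inferInstanceAs (LocallyOfFiniteType (pullback.snd Y.hom w))
  haveI : QuasiCompact (F.obj Y).hom := inferInstanceAs (QuasiCompact (pullback.snd Y.hom w))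
  haveI : GeometricallyIrreducible (F.obj Y).hom := inferInstanceAs (GeometricallyIrreducible (pullback.snd Y.hom w))
  haveI : IrreducibleSpace (F.obj Y).left := GeometricallyIrreducible.irreducibleSpace_of_subsingleton (F.obj Y).hom
  haveI : IsCommMonObj (F.obj Y) := inferInstance
  obtain ⟨R, hR, r, hr, hrc, hrs, hRs⟩ := Chev.exists_red_group (F.obj Y)
  haveI := hr; haveI := hrc; haveI := hrs; haveI := hRs
  haveI : Mono r := GrpField.SchImg.mono_of_isClosedImmersion r
  haveI : IsCommMonObj R := Chev.isCommMonObj_of_mono r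
  haveI : QuasiCompact R.hom := by rw [← Over.w r]; infer_instance
  haveI : ConnectedSpace R.left :=
    let h : R.left ≃ₜ (F.obj Y).left := r.left.isClosedEmbedding.isEmbedding.toHomeomorphOfSurjective r.left.surjective
    h.symm.surjective.connectedSpace h.symm.continuous
  haveI : IsClosedImmersion (F.map i).left := MorphismProperty.baseChange_map (P := @IsClosedImmersion) w i ‹_›
  have hSA := AutFinOrd.isSA_of_noGa (G := R) fun j hj hjc => by
    haveI := hj; haveI := hjc
    exact hGa (j ≫ r ≫ F.map i) inferInstance
      (inferInstanceAs (IsClosedImmersion (j.left ≫ r.left ≫ (F.map i).left)))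
  haveI : Surjective (𝟙 R ^ m).left := Chev.IsSA.surjective_pow hSA hm
  haveI : Surjective (F.map (𝟙 Y ^ m)).left := by
    have e : r ≫ F.map (𝟙 Y ^ m) = (𝟙 R ^ m) ≫ r := by
      rw [AutFinOrd.bc_pow, MonObj.comp_pow, MonObj.pow_comp, Category.comp_id, Category.id_comp]
    haveI : Surjective (r.left ≫ (F.map (𝟙 Y ^ m)).left) := by
      rw [← Over.comp_left, e, Over.comp_left]; infer_instance
    exact Surjective.of_comp r.left _
  haveI : Surjective w := ⟨fun _ => ⟨IsLocalRing.closedPoint _, Subsingleton.elim (α := PrimeSpectrum k) _ _⟩⟩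
  haveI : Surjective (pullback.fst Y.hom w) := MorphismProperty.pullback_fst _ _ ‹_›
  haveI : Surjective (pullback.fst Y.hom w ≫ (𝟙 Y ^ m).left) := by
    haveI : Surjective ((F.map (𝟙 Y ^ m)).left ≫ pullback.fst Y.hom w) := inferInstanceAs (Surjective (_ ≫ _))
    rwa [show (F.map (𝟙 Y ^ m)).left ≫ pullback.fst Y.hom w = pullback.fst Y.hom w ≫ (𝟙 Y ^ m).left from
      pullback.lift_fst _ _ _] at this
  exact Surjective.of_comp (pullback.fst Y.hom w) _

/-- Let k be a field and G a commutative group scheme of finite type over k such that the base change of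
G to an algebraic closure of k contains no closed subgroup scheme isomorphic to the additive group.
Then there is a closed subgroup scheme H of G which is smooth over k and whose underlying set is the
connected component of the identity point of G; in other words the reduced identity component of G
is a smooth subgroup scheme. -/
theorem result (k : Type u) [Field k]
    (G : Over (Spec (CommRingCat.of k))) [GrpObj G] [IsCommMonObj G] [LocallyOfFiniteType G.hom] [QuasiCompact G.hom]
    (hGa : ∀ pt : ↥(Spec (CommRingCat.of k)), SGA7.FibreUnipotentRankZero pt G)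
    (pt : ↥(Spec (CommRingCat.of k))) :
    ∃ (H : Over (Spec (CommRingCat.of k))) (_ : GrpObj H) (i : H ⟶ G), IsMonHom i ∧ IsClosedImmersion i.left ∧
      Smooth H.hom ∧ Set.range i.left.base = connectedComponent (η[G].left.base pt) := by
  obtain ⟨Y, hY, i, hi, hic, -, hr, hgi, hcpt, -⟩ := Groth.Agent.GrpComp.exists_identity_subgroup G
  haveI := hi; haveI := hic; haveI := hgi
  haveI : Mono i := Groth.Agent.GrpField.SchImg.mono_of_isClosedImmersion i
  haveI : IsCommMonObj Y := Groth.Agent.Chev.isCommMonObj_of_mono i
  haveI : LocallyOfFiniteType Y.hom := by rw [← Over.w i]; infer_instance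
  haveI : QuasiCompact Y.hom := by rw [← Over.w i]; infer_instance
  obtain ⟨Q, hQ, v, w, e, he, hvm, hwm, hQs, hvs, -, -, hvw⟩ := Groth.Agent.Chev.Chow.exists_smooth_quot_pow Y
  haveI := hvm; haveI := hwm; haveI := hQs; haveI := hvs
  haveI := surjective_pow_of_noGa i pt (hGa pt) (Nat.pos_of_ne_zero he)
  haveI : QuasiCompact Q.hom := by
    haveI : QuasiCompact (v.left ≫ Q.hom) := by rw [Over.w v]; infer_instance
    haveI : CompactSpace Y.left := QuasiCompact.compactSpace_of_compactSpace Y.hom
    haveI : CompactSpace Q.left := ⟨by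
      rw [← Set.range_eq_univ.2 v.left.surjective]; exact isCompact_range v.left.continuous⟩
    exact (quasiCompact_iff_compactSpace _).2 inferInstance
  haveI : Surjective w.left := by
    haveI : Surjective (v.left ≫ w.left) := by rw [← Over.comp_left, hvw]; infer_instance
    exact Surjective.of_comp v.left w.left
  haveI : IsSeparated G.hom := Groth.Agent.GrpField.isSeparated_hom G
  haveI : QuasiCompact (w ≫ i).left := by
    haveI : QuasiCompact ((w ≫ i).left ≫ G.hom) := by rw [Over.w (w ≫ i)]; infer_instance
    exact QuasiCompact.of_comp (w ≫ i).left G.hom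
  obtain ⟨H, hH, j, p, hj, -, hpj, hjc, hd, hq, hps⟩ := Groth.Agent.GrpField.SchImg.exists_image (w ≫ i)
  haveI := hps; haveI := hd; haveI := hq
  haveI := Groth.Agent.GrpField.SchImg.geometricallyReduced_of_smooth Q.hom
  haveI := Groth.Agent.GrpField.SchImg.geometricallyReduced_of_schDom p
  haveI : LocallyOfFiniteType H.hom := by rw [← Over.w j]; infer_instance
  letI : GrpObj (Over.mk H.hom) := hH
  have hHs : Smooth H.hom := smooth_of_grpObj H.hom
  refine ⟨H, hH, j, hj, hjc, hHs, ?_⟩
  rw [show pt = IsLocalRing.closedPoint k from Subsingleton.elim (α := PrimeSpectrum k) _ _]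
  change Set.range j.left = connectedComponent (Groth.Agent.GrpComp.ept G)
  rw [← hr]
  ext z
  constructor
  · rintro ⟨y, rfl⟩
    obtain ⟨x, rfl⟩ := p.left.surjective y
    exact ⟨w.left x, ((Scheme.Hom.comp_apply _ _ _).symm.trans (congrArg (fun m : Q.left ⟶ G.left => m x)
      (congrArg CommaMorphism.left hpj).symm)).trans (Scheme.Hom.comp_apply _ _ _)⟩
  · rintro ⟨y, rfl⟩
    obtain ⟨x, rfl⟩ := w.left.surjective y
    exact ⟨p.left x, ((Scheme.Hom.comp_apply _ _ _).symm.trans (congrArg (fun m : Q.left ⟶ G.left => m x)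
      (congrArg CommaMorphism.left hpj))).trans (Scheme.Hom.comp_apply _ _ _)⟩

end Groth.Agent.S5682
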