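import Groth.Statements.S5686
import Groth.Agent.PicInf.PowMap
import Mathlib.AlgebraicGeometry.Morphisms.Etale

set_option autoImplicit false
set_option backward.isDefEq.respectTransparency false
set_option backward.isDefEq.respectTransparency.types false
set_option linter.style.haveILetI false
set_option maxHeartbeats 1000000
universe u
open CategoryTheory CategoryTheory.Limits AlgebraicGeometry
open FGA
open IsLocalRing (closedPoint)

namespace Groth.Agent.S5686

theorem isUnit_natCast {X : Scheme.{u}} (n : ℕ) {A : Type u} [CommRing A] [IsLocalRing A]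
    (γ : Spec (CommRingCat.of A) ⟶ X) (h : γ (closedPoint A) ∈ X.basicOpen (n : Γ(X, ⊤))) : IsUnit (n : A) := by
  rw [Scheme.mem_basicOpen_top] at h
  have h2 := h.map (Scheme.stalkClosedPointTo γ).hom
  rwa [map_natCast, map_natCast] at h2

/-- Let S be a locally Noetherian scheme, f : X ⟶ S proper and flat, and suppose the relative Picard
functor of X over S (sheafified for the etale topology) is represented by an S-scheme P, locally of
finite type over S, through the family of maps φ. Let n be a natural number and m : P ⟶ P an
S-morphism such that for every S-scheme T and every invertible module L on X ×_S T, φ applied to the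
class of the n-th tensor power of L equals φ applied to the class of L followed by m (so m is the
n-th power map of the Picard scheme). Then m is etale at all points of P whose residue
characteristic is prime to n: the restriction of m to the open subset of P where n is invertible is
etale. (Local finite type of P over S is recorded as a hypothesis.) -/
theorem result {X S : Scheme.{u}} [IsLocallyNoetherian S] (f : X ⟶ S) [IsProper f] [Flat f]
    (P : Over S) [LocallyOfFiniteType P.hom] (φ : ∀ T : Over S, PicF.Cl (PicF.XT f T) → (T ⟶ P))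
    (hP : PicRel.IsRelPic f P φ) (n : ℕ) (m : P ⟶ P)
    (hm : ∀ (T : Over S) (L : (PicF.XT f T).Modules), PicF.IsInvertible L →
      φ T (PicF.cl (CohB1.tensorPow L n)) = φ T (PicF.cl L) ≫ m) :
    Etale ((P.left.basicOpen (n : Γ(P.left, ⊤))).ι ≫ m.left) := by
  have hpow := PicInf.pow_phi hP hm
  haveI : IsLocallyNoetherian P.left := LocallyOfFiniteType.isLocallyNoetherian P.hom
  haveI : LocallyOfFiniteType (m.left ≫ P.hom) := by rw [Over.w m]; infer_instance
  haveI : LocallyOfFiniteType m.left := locallyOfFiniteType_of_comp m.left P.hom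
  haveI : Smooth ((P.left.basicOpen (n : Γ(P.left, ⊤))).ι ≫ m.left) := by
    refine InfLift.smooth_of_small_lift _ fun B' B _ _ _ _ _ _ π hπ ht α β _ comm => ?_
    obtain ⟨t, hker, hann⟩ := ht
    have htt : t * t = 0 := hann t (IsLocalRing.le_maximalIdeal (RingHom.ker_ne_top π)
      (hker.symm ▸ Ideal.mem_span_singleton_self t))
    haveI : Subsingleton (Spec (CommRingCat.of B')) := PicInf.subsingleton_spec (A := B')
    let α' := α ≫ (P.left.basicOpen (n : Γ(P.left, ⊤))).ι
    haveI : IsLocalHom π := IsLocalHom.of_surjective π hπ
    have hnB : IsUnit (n : B) := isUnit_natCast n α' (α (closedPoint B)).2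
    have hn : IsUnit (n : B') := isUnit_of_map_unit π _ (by rwa [map_natCast])
    obtain ⟨γ, h1, h2⟩ := PicInf.exists_lift_pow hP hpow π hπ t hker htt hn α' β
      (by rw [Category.assoc]; exact comm)
    have hr : Set.range γ ⊆ Set.range (P.left.basicOpen (n : Γ(P.left, ⊤))).ι := by
      rintro _ ⟨z, rfl⟩
      rw [Scheme.Opens.range_ι, Subsingleton.elim z (Spec.map (CommRingCat.ofHom π) (closedPoint B)),
        ← Scheme.Hom.comp_apply, h1]
      exact (α (closedPoint B)).2
    refine ⟨IsOpenImmersion.lift _ γ hr, (cancel_mono (P.left.basicOpen (n : Γ(P.left, ⊤))).ι).1 ?_, ?_⟩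
    · rw [Category.assoc, IsOpenImmersion.lift_fac, h1]
    · rw [IsOpenImmersion.lift_fac_assoc, h2]
  haveI : FormallyUnramified ((P.left.basicOpen (n : Γ(P.left, ⊤))).ι ≫ m.left) := by
    rw [UnramFibre.formallyUnramified_iff_forall_stalkMap]
    intro x
    refine PicInf.stalkMap_unramified_of_tangent _ x
      (algebraMap _ (AlgebraicClosure ((P.left.basicOpen (n : Γ(P.left, ⊤))).toScheme.residueField x)))
      fun γ₁ γ₂ _ h0 hg => ?_
    have hn : IsUnit (n : AlgebraicClosure ((P.left.basicOpen (n : Γ(P.left, ⊤))).toScheme.residueField x)) :=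
      isUnit_natCast n ((ExpSeq.dnPoint _ ≫ γ₁) ≫ (P.left.basicOpen (n : Γ(P.left, ⊤))).ι)
        ((ExpSeq.dnPoint _ ≫ γ₁) (closedPoint _)).2
    refine (cancel_mono (P.left.basicOpen (n : Γ(P.left, ⊤))).ι).1 (PicInf.eq_of_pow_dual hP hpow hn _ _ ?_ ?_)
    · rw [← Category.assoc, h0, Category.assoc]
    · rw [Category.assoc, hg, Category.assoc]
  exact Etale.of_formallyUnramified_of_flat _

end Groth.Agent.S5686
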