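import Groth.Statements.S5687
import Groth.Agent.PicInf.Relative
import Groth.Agent.W7Cech.GrauertMain
import Groth.Agent.SchDense.Unit

set_option autoImplicit false
set_option backward.isDefEq.respectTransparency false
set_option backward.isDefEq.respectTransparency.types false
set_option maxHeartbeats 1000000
universe u
open CategoryTheory CategoryTheory.Limits AlgebraicGeometry
open FGA

namespace Groth.Agent.S5687

/-- Let S be a locally Noetherian scheme, f : X ⟶ S proper and flat, and P an S-scheme locally of finite
type over S representing the relative Picard functor of X over S sheafified for the etale topology.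
Let s be a point of S such that the second cohomology group of the structure sheaf of the fibre X_s
vanishes. Then there is an open neighbourhood U of s such that the inverse image of U in P is smooth
over S. (Local finite type of P over S is recorded as a hypothesis.) -/
theorem result {X S : Scheme.{u}} [IsLocallyNoetherian S] (f : X ⟶ S)
    [IsProper f] [Flat f] (P : Over S) [LocallyOfFiniteType P.hom] (hP : PicRel.RepresentedBy f P) (s : S)
    (h2 : Subsingleton (Coh.HH (pullback f (S.fromSpecResidueField s)) (Coh.structureModule _) 2)) :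
    ∃ U : S.Opens, s ∈ U ∧ Smooth ((P.hom ⁻¹ᵁ U).ι ≫ P.hom) := by
  obtain ⟨φ, hφ⟩ := hP
  haveI : IsLocallyNoetherian X := LocallyOfFiniteType.isLocallyNoetherian f
  have h0 : Subsingleton (Coh.HH (f.fiber s) (Coh.structureModule _) 2) := h2
  obtain ⟨U, hsU, hUz⟩ := W7Cech.exists_nhd_vanish f RefStalk.isCoh_structureModule
    (SchDense.isFlatOver_unit f) 2 s (PicInf.fiberHUnit f s 2).toEquiv.subsingleton
  refine ⟨U, hsU, InfLift.smooth_of_small_lift _ fun B' B _ _ _ _ _ _ π hπ ht α β _ comm => ?_⟩
  obtain ⟨t, hker, hann⟩ := ht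
  haveI := PicInf.subsingleton_spec (A := B')
  haveI : Subsingleton (Spec (CommRingCat.of B')) := PicInf.subsingleton_spec (A := B')
  have hβU : β (IsLocalRing.closedPoint B') ∈ U := by
    rw [Subsingleton.elim (IsLocalRing.closedPoint B')
      (Spec.map (CommRingCat.ofHom π) (IsLocalRing.closedPoint B)), ← Scheme.Hom.comp_apply, comm]
    exact (α (IsLocalRing.closedPoint B)).2
  haveI := hUz _ hβU
  obtain ⟨γ, h1, h3⟩ := PicInf.exists_lift_small hφ π hπ t hker hann (α ≫ (P.hom ⁻¹ᵁ U).ι) β
    (by rw [Category.assoc]; exact comm) (PicInf.fiberHUnit f _ 2).symm.toEquiv.subsingleton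
  have hr : Set.range γ ⊆ Set.range (P.hom ⁻¹ᵁ U).ι := by
    rintro _ ⟨z, rfl⟩
    rw [Scheme.Opens.range_ι]
    show P.hom (γ z) ∈ U
    rw [← Scheme.Hom.comp_apply, h3, Subsingleton.elim z (IsLocalRing.closedPoint B')]
    exact hβU
  refine ⟨IsOpenImmersion.lift _ γ hr, (cancel_mono (P.hom ⁻¹ᵁ U).ι).1 ?_, ?_⟩
  · rw [Category.assoc, IsOpenImmersion.lift_fac, h1]
  · rw [IsOpenImmersion.lift_fac_assoc, h3]

end Groth.Agent.S5687
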