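import Groth.Statements.S5688
import Groth.Agent.PicProper.Proper
import Groth.Agent.Chev.RedSubAV
import Groth.Agent.AVEuler.Smooth
-- import your own Groth.Agent.* helpers here

set_option autoImplicit false
universe u
open CategoryTheory CategoryTheory.Limits AlgebraicGeometry
open FGA

namespace Groth.Agent.S5688

/-- Let k be a field and X a scheme proper over k and geometrically normal (normal after every finite
field extension of k in the same universe); suppose the relative Picard functor of X over k,
sheafified for the etale topology, is represented by a k-scheme P locally of finite type through the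
family of maps φ. Then there is a closed subscheme A of P which is smooth and proper over k and
whose underlying set is the connected component of the identity point of P (the image of the class
of the structure sheaf); being reduced with underlying set a subgroup, A is the abelian subvariety
of P with underlying set the identity component. (The published statement assumes X normal; for a
regular projective curve over an imperfect field whose base change to an algebraic closure is a
cuspidal rational curve the identity component of the Picard scheme is unipotent and not proper, and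
the published proof uses properness of the identity component, which needs the base change of X to
every finite extension of k to be normal; so X is taken geometrically normal here.) -/
theorem result (k : Type u) [Field k] (X : Scheme.{u})
    (f : X ⟶ Spec (CommRingCat.of k)) [IsProper f]
    (hnorm : ∀ (k' : Type u) [Field k'] [Algebra k k'], Module.Finite k k' →
      Pi1.IsNormalScheme (pullback f (Spec.map (CommRingCat.ofHom (algebraMap k k')))))
    (P : Over (Spec (CommRingCat.of k))) [LocallyOfFiniteType P.hom]
    (φ : ∀ T : Over (Spec (CommRingCat.of k)), PicF.Cl (PicF.XT f T) → (T ⟶ P)) (hP : PicRel.IsRelPic f P φ)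
    (pt : ↥(Spec (CommRingCat.of k))) :
    ∃ (A : Scheme.{u}) (i : A ⟶ P.left), IsClosedImmersion i ∧ Smooth (i ≫ P.hom) ∧ IsProper (i ≫ P.hom) ∧
      Set.range i.base = connectedComponent ((φ (Over.mk (𝟙 _)) (PicF.cl (Coh.structureModule _))).left.base pt) := by
  obtain ⟨G, hη, -, hcomm⟩ := Groth.Agent.PicLft.exists_grpObj_comm hP
  letI := G
  haveI := hcomm
  obtain ⟨-, U, hU, -, -⟩ := Groth.Agent.PicLft.unit_component (P := P)
  haveI := Groth.Agent.PicProper.isProper_component f hnorm P φ hP hη U hU
  obtain ⟨Y, hY, i, hi, hic, -, hr, hgi, hcpt, -⟩ := Groth.Agent.GrpComp.exists_identity_subgroup P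
  haveI := hi; haveI := hic; haveI := hgi
  haveI : Mono i := Groth.Agent.GrpField.SchImg.mono_of_isClosedImmersion i
  haveI : IsCommMonObj Y := Groth.Agent.Chev.isCommMonObj_of_mono i
  let l : Y.left ⟶ U := IsOpenImmersion.lift U.ι i.left (by rw [Scheme.Opens.range_ι, hr, hU])
  have hl : l ≫ U.ι = i.left := IsOpenImmersion.lift_fac _ _ _
  haveI : IsClosedImmersion (l ≫ U.ι) := by rw [hl]; exact hic
  haveI : IsClosedImmersion l := IsClosedImmersion.of_comp l U.ι
  haveI : IsProper Y.hom := by rw [← Over.w i, ← hl, Category.assoc]; infer_instance
  haveI : ConnectedSpace Y.left := by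
    haveI : Subsingleton (Spec (CommRingCat.of k)) := inferInstanceAs (Subsingleton (PrimeSpectrum k))
    haveI : IrreducibleSpace Y.left := GeometricallyIrreducible.irreducibleSpace Y.hom
      (fun s _ => @isOpen_discrete _ _ (by infer_instance) _)
    infer_instance
  obtain ⟨M, hM, iM, hMp, hMi, hiMm, hiMc, hiMs⟩ := Groth.Agent.Chev.Chow.exists_av_full Y
  haveI := hMp; haveI := hMi; haveI := hiMc; haveI := hiMs
  refine ⟨M.left, iM.left ≫ i.left, inferInstance, ?_, ?_, ?_⟩
  · rw [Category.assoc, Over.w i, Over.w iM]
    exact Groth.Agent.AVEuler.smooth_av M
  · rw [Category.assoc, Over.w i, Over.w iM]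
    exact hMp
  · rw [← Groth.Agent.PicProper.ept_eq f hP hη pt, ← hr]
    ext z
    exact ⟨fun ⟨x, hx⟩ => ⟨iM.left x, by rw [← hx]; exact (Scheme.Hom.comp_apply _ _ _).symm⟩, fun ⟨y, hy⟩ => by
      obtain ⟨x, rfl⟩ := iM.left.surjective y
      exact ⟨x, (Scheme.Hom.comp_apply _ _ _).trans hy⟩⟩

end Groth.Agent.S5688
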