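import Groth.Statements.S5690
import Groth.Agent.Grpd.Glue
import Groth.Agent.Grpd.Inverse

set_option autoImplicit false
universe u
open CategoryTheory CategoryTheory.Limits AlgebraicGeometry
open FGA

namespace Groth.Agent.S5690

open Groth.Agent.GrpdLib

/-- Let (U, R, s, t, c) be a groupoid scheme over a scheme S whose source morphism s : R ⟶ U is finite
locally free (finite, flat and locally of finite presentation), and suppose every equivalence class
t(s⁻¹(x)), x a point of U, is contained in some affine open of U. Then there are a scheme Y and a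
morphism q : U ⟶ Y with s ≫ q = t ≫ q which is a coequalizer of s and t in the category of schemes,
affine, integral and surjective, whose fibres are the equivalence classes; and if (t, s) : R ⟶ U ×_S
U is a monomorphism then q is moreover finite, flat and locally of finite presentation and (t, s) :
R ⟶ U ×_Y U is an isomorphism. Only the sufficiency of the affine-class condition is stated (the
published statement is an equivalence: the quotient with these properties exists if and only if
every class lies in an affine open). -/
theorem result {S : Scheme.{u}} (G : Grpd.GroupoidScheme S)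
    [IsFinite G.s] [Flat G.s] [LocallyOfFinitePresentation G.s]
    (haff : ∀ x : ↥G.U, ∃ V : G.U.Opens, IsAffineOpen V ∧ G.t.base '' (G.s.base ⁻¹' {x}) ⊆ (V : Set ↥G.U)) :
    ∃ (Y : Scheme.{u}) (q : G.U ⟶ Y) (w : G.s ≫ q = G.t ≫ q),
      Nonempty (IsColimit (Cofork.ofπ q w)) ∧ IsAffineHom q ∧ IsIntegralHom q ∧ Surjective q ∧
      (∀ x x' : ↥G.U, q.base x = q.base x' ↔ ∃ r : ↥G.R, G.s.base r = x ∧ G.t.base r = x') ∧
      (Mono G.j → IsFinite q ∧ Flat q ∧ LocallyOfFinitePresentation q ∧
        IsIso (pullback.lift G.t G.s w.symm : G.R ⟶ pullback q q)) := by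
  have : IsFinite G.t := t_property G @IsFinite ‹_›
  have : Flat G.t := t_property G @Flat ‹_›
  have : LocallyOfFinitePresentation G.t := t_property G @LocallyOfFinitePresentation ‹_›
  have hG : OrbitsAffine G := haff
  obtain ⟨hl⟩ := quotMap_isColimit hG
  have hw : G.s ≫ quotMap hG = G.t ≫ quotMap hG := (quotMap_w hG).symm
  have : IsIntegralHom (quotMap hG) := quotMap_isIntegralHom hG
  refine ⟨Quot G, quotMap hG, hw, ⟨Cofork.IsColimit.mk _
      (fun c => hl.desc (Cofork.ofπ c.π c.condition.symm))
      (fun c => hl.fac (Cofork.ofπ c.π c.condition.symm) WalkingParallelPair.one)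
      (fun c m hm => Cofork.IsColimit.hom_ext hl (by
        have h1 := hl.fac (Cofork.ofπ c.π c.condition.symm) WalkingParallelPair.one
        simp only [Cofork.π_ofπ, Cofork.app_one_eq_π] at h1 hm ⊢
        rw [hm, h1]))⟩, inferInstance, ‹_›, ⟨quotMap_surjective hG⟩, fun x x' => ⟨fun h => ?_, ?_⟩, ?_⟩
  · obtain ⟨r, hr, hr'⟩ := quotMap_fib hG x' x h.symm
    exact ⟨r, hr', hr⟩
  · rintro ⟨r, rfl, rfl⟩
    exact congrArg (fun f : G.R ⟶ Quot G => f.base r) hw
  · intro hm
    have : Mono G.j := hm
    refine ⟨quotMap_property hG @IsFinite fun W => (quotient_spec W.gr).1.1,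
      quotMap_property hG @Flat fun W => (quotient_spec W.gr).1.2.1,
      quotMap_property hG @LocallyOfFinitePresentation fun W => (quotient_spec W.gr).1.2.2, ?_⟩
    have hp := quotMap_isPullback hG
    have e : pullback.lift G.t G.s hw.symm = hp.isoPullback.hom := by
      apply pullback.hom_ext <;> simp [IsPullback.isoPullback_hom_fst, IsPullback.isoPullback_hom_snd, pullback.lift_fst, pullback.lift_snd]
    rw [e]
    infer_instance

end Groth.Agent.S5690
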