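import Groth.Statements.S5691
import Mathlib.CategoryTheory.Limits.Elements
import Mathlib.CategoryTheory.Limits.Types.Filtered
import Mathlib.CategoryTheory.Filtered.Basic
import Mathlib.CategoryTheory.Limits.FunctorCategory.Basic
import Mathlib.CategoryTheory.Subobject.ArtinianObject
import Mathlib.CategoryTheory.Yoneda
import Mathlib.CategoryTheory.Limits.Preserves.Finite

set_option autoImplicit false
universe u
open CategoryTheory CategoryTheory.Limits
open FGA

namespace Groth.Agent.S5691

variable {C : Type u} [SmallCategory C]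

/-- An element is minimal when it comes from no proper subobject. -/
def minimalElt (F : C ⥤ Type u) : ObjectProperty F.Elements := fun e ↦
  ∀ (Y : C) (m : Y ⟶ e.1) (_ : Mono m) (y : F.obj Y), F.map m y = e.2 → IsIso m

lemma exists_hom_minimal {F : C ⥤ Type u} (hart : ∀ X : C, IsArtinianObject X) (e : F.Elements) :
    ∃ e' : F.Elements, minimalElt F e' ∧ Nonempty (e' ⟶ e) := by
  have := hart e.1
  obtain ⟨s, ⟨y, hy⟩, hmin⟩ := (wellFounded_lt (α := Subobject e.1)).has_min
    {s | ∃ y : F.obj (s : C), F.map s.arrow y = e.2}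
    ⟨⊤, F.map (inv (⊤ : Subobject e.1).arrow) e.2, by
      rw [← Functor.map_comp_apply, IsIso.inv_hom_id, Functor.map_id_apply]⟩
  refine ⟨⟨(s : C), y⟩, fun Y m hm z hz ↦ ?_, ⟨⟨s.arrow, hy⟩⟩⟩
  let t : Subobject e.1 := Subobject.mk (m ≫ s.arrow)
  have hle : t ≤ s := Subobject.mk_le_of_comm m rfl
  have ht : t ∈ {s : Subobject e.1 | ∃ y : F.obj (s : C), F.map s.arrow y = e.2} := by
    refine ⟨F.map (Subobject.underlyingIso (m ≫ s.arrow)).inv z, ?_⟩
    rw [← Functor.map_comp_apply, Subobject.underlyingIso_arrow, Functor.map_comp_apply, hz]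
    exact hy
  have heq : t = s := hle.eq_of_not_lt (hmin t ht)
  let k : (s : C) ⟶ Y := Subobject.ofLEMk s (m ≫ s.arrow) heq.ge
  have hk : k ≫ m = 𝟙 _ := by
    rw [← cancel_mono s.arrow, Category.assoc, Subobject.ofLEMk_comp, Category.id_comp]
  have : IsSplitEpi m := IsSplitEpi.mk' ⟨k, hk⟩
  exact isIso_of_mono_of_isSplitEpi m

/-- Let C be a small category with finite limits all of whose objects are artinian (the subobjects of
each object satisfy the descending chain condition), and let F be a set-valued functor on C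
preserving finite limits. Then F is strictly pro-representable: there are a small cofiltered
category J and a diagram D : J ⥤ C all of whose transition morphisms are epimorphisms such that F is
isomorphic to the colimit of the corepresentable functors Hom(D j, -). -/
theorem result {C : Type u} [SmallCategory C]
    [HasFiniteLimits C] (hart : ∀ X : C, IsArtinianObject X) (F : C ⥤ Type u) [PreservesFiniteLimits F] :
    ∃ (J : Type u) (_ : SmallCategory J) (_ : IsCofiltered J) (D : J ⥤ C),
      (∀ ⦃j j' : J⦄ (a : j ⟶ j'), Epi (D.map a)) ∧ Nonempty (F ≅ colimit (D.op ⋙ coyoneda)) := by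
  have : HasFiniteLimits F.Elements := ⟨fun J _ _ ↦ inferInstance⟩
  have : IsCofiltered F.Elements := IsCofiltered.of_hasFiniteLimits _
  have hsep : ∀ {e : F.Elements}, minimalElt F e → ∀ {Z : C} (f g : e.1 ⟶ Z),
      F.map f e.2 = F.map g e.2 → f = g := by
    intro e he Z f g h
    let e₂ : F.Elements := ⟨Z, F.map f e.2⟩
    let f' : e ⟶ e₂ := CategoryOfElements.homMk e e₂ f rfl
    let g' : e ⟶ e₂ := CategoryOfElements.homMk e e₂ g h.symm
    obtain ⟨a, b, hab⟩ := IsCofilteredOrEmpty.cone_maps f' g'
    have hab' : b.1 ≫ f = b.1 ≫ g := congrArg Subtype.val hab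
    have hiso : IsIso (equalizer.ι f g) := he _ _ inferInstance
      (F.map (equalizer.lift b.1 hab') a.2) (by
        rw [← Functor.map_comp_apply, equalizer.lift_ι]; exact b.2)
    rw [← cancel_epi (equalizer.ι f g), equalizer.condition]
  let J := (minimalElt F).FullSubcategory
  let D : J ⥤ C := (minimalElt F).ι ⋙ CategoryOfElements.π F
  have : IsCofiltered J :=
    { nonempty := by
        obtain ⟨e⟩ := IsCofiltered.nonempty (C := F.Elements)
        obtain ⟨e', he', -⟩ := exists_hom_minimal hart e
        exact ⟨⟨e', he'⟩⟩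
      cone_objs := fun a b ↦ by
        obtain ⟨w, f, g, -⟩ := IsCofilteredOrEmpty.cone_objs a.1 b.1
        obtain ⟨w', hw', ⟨h⟩⟩ := exists_hom_minimal hart w
        exact ⟨⟨w', hw'⟩, ObjectProperty.homMk (h ≫ f), ObjectProperty.homMk (h ≫ g), trivial⟩
      cone_maps := fun a b f g ↦ ⟨a, 𝟙 a, by
        have : f = g := ObjectProperty.hom_ext _ (CategoryOfElements.ext F _ _
          (hsep a.2 _ _ (f.hom.2.trans g.hom.2.symm)))
        rw [this]⟩ }
  refine ⟨J, inferInstance, this, D, fun j j' a ↦ ⟨fun {Z} g h hgh ↦ hsep j'.2 g h ?_⟩, ?_⟩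
  · rw [← a.hom.2]
    exact ((Functor.map_comp_apply F a.hom.1 g j.1.2).symm.trans
      (congrArg (fun t ↦ F.map t j.1.2) hgh)).trans (Functor.map_comp_apply F a.hom.1 h j.1.2)
  · let c : Cocone (D.op ⋙ coyoneda) :=
      { pt := F
        ι :=
          { app := fun j ↦ coyonedaEquiv.symm j.unop.1.2
            naturality := fun j j' a ↦ by
              ext Z g
              dsimp [coyonedaEquiv, D]
              refine (Functor.map_comp_apply F _ g j'.unop.1.2).trans ?_
              exact congrArg (F.map g) a.unop.hom.2 } }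
    have hc : IsColimit c := evaluationJointlyReflectsColimits _ fun Z ↦
      Types.FilteredColimit.isColimitOf' _ _ (fun x ↦ by
        obtain ⟨e', he', ⟨h⟩⟩ := exists_hom_minimal hart (⟨Z, x⟩ : F.Elements)
        exact ⟨Opposite.op (⟨e', he'⟩ : J), h.1, h.2.symm⟩) (fun j p q hpq ↦
          ⟨j, 𝟙 j, by rw [hsep j.unop.2 p q hpq]⟩)
    exact ⟨(colimit.isoColimitCocone ⟨c, hc⟩).symm⟩

end Groth.Agent.S5691
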