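import Groth.Statements.S5692
import Groth.Agent.S8875
import Groth.Agent.S8872
import Groth.Agent.S8874
import Groth.Agent.Fitting.Core
import Groth.Agent.ModDesc.Iso

set_option autoImplicit false
universe u
open CategoryTheory CategoryTheory.Limits AlgebraicGeometry
open FGA

namespace Groth.Agent.S5692

open CategoryTheory CategoryTheory.Limits AlgebraicGeometry TopologicalSpace Groth.Agent

theorem exists_immersion {X : Scheme.{u}} (F : X.Modules) (hq : Coh.IsQCoh F) (hF : CohB1.IsFT F) (r : ℕ) :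
    ∃ (Z : Scheme.{u}) (i : Z ⟶ X), IsImmersion i ∧
      (∀ (T : Scheme.{u}) (f : T ⟶ X),
        (∃ g : T ⟶ Z, g ≫ i = f) ↔ FlatMod.IsFinLocFreeOfRank r ((Scheme.Modules.pullback f).obj F)) ∧
      ((∀ s : ↥X, ∃ U : X.Opens, s ∈ U ∧ ∃ p : FlatMod.freeMod (↑U) r ⟶ F.restrict U.ι, Epi p) →
        IsClosedImmersion i) := by
  let U : X.Opens := (Fitt.sheafIdeal F r).support.compl
  let J : X.IdealSheafData := ⨆ k : Fin r, Fitt.sheafIdeal F k
  let J' := J.comap U.ι
  have hfac : ∀ (T : Scheme.{u}) (f : T ⟶ X), (∃ g : T ⟶ J'.subscheme, g ≫ J'.subschemeι ≫ U.ι = f) ↔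
      ((∀ k, k < r → (Fitt.sheafIdeal F k).comap f = ⊥) ∧ (Fitt.sheafIdeal F r).comap f = ⊤) := by
    intro T f
    have hrange : (Fitt.sheafIdeal F r).comap f = ⊤ ↔ Set.range f ⊆ (U : Set X) := by
      rw [← Scheme.IdealSheafData.support_eq_bot_iff, Scheme.IdealSheafData.support_comap]
      constructor
      · intro h
        rintro _ ⟨t, rfl⟩ ht
        have : t ∈ ((⊥ : Closeds T) : Set T) := h ▸ ht
        exact this
      · intro h
        exact Closeds.ext (Set.eq_empty_of_forall_notMem fun t ht => h ⟨t, rfl⟩ ht)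
    have hbot : ∀ (g : T ⟶ U.toScheme), g ≫ U.ι = f →
        (J'.comap g = ⊥ ↔ ∀ k, k < r → (Fitt.sheafIdeal F k).comap f = ⊥) := fun g hg => by
      rw [← Scheme.IdealSheafData.comap_comp, hg, ← le_bot_iff, ← Scheme.IdealSheafData.le_map_iff_comap_le,
        iSup_le_iff]
      constructor
      · intro h k hk
        rw [← le_bot_iff, ← Scheme.IdealSheafData.le_map_iff_comap_le]
        exact h ⟨k, hk⟩
      · intro h k
        rw [Scheme.IdealSheafData.le_map_iff_comap_le, h k k.2]
    constructor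
    · rintro ⟨g, hg⟩
      have hg' : (g ≫ J'.subschemeι) ≫ U.ι = f := by rw [Category.assoc]; exact hg
      refine ⟨(hbot _ hg').1 ?_, hrange.2 (by rw [← hg', ← Scheme.Opens.range_ι U]; rintro _ ⟨t, rfl⟩; exact ⟨(g ≫ J'.subschemeι) t, rfl⟩)⟩
      rw [← le_bot_iff, ← Scheme.IdealSheafData.le_map_iff_comap_le, Scheme.IdealSheafData.map_bot]
      exact (Scheme.IdealSheafData.ker_subschemeι J').ge.trans (Scheme.Hom.le_ker_comp g _)
    · rintro ⟨h1, h2⟩
      let g := IsOpenImmersion.lift U.ι f (by rw [Scheme.Opens.range_ι]; exact hrange.1 h2)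
      have hg : g ≫ U.ι = f := IsOpenImmersion.lift_fac _ _ _
      have hle : J'.subschemeι.ker ≤ g.ker := by
        rw [Scheme.IdealSheafData.ker_subschemeι, ← Scheme.IdealSheafData.map_bot, Scheme.IdealSheafData.le_map_iff_comap_le,
          (hbot g hg).2 h1]
      exact ⟨IsClosedImmersion.lift J'.subschemeι g hle, by rw [← Category.assoc, IsClosedImmersion.lift_fac, hg]⟩
  refine ⟨J'.subscheme, J'.subschemeι ≫ U.ι, inferInstance, fun T f => (hfac T f).trans ?_, fun hgen => ?_⟩
  · haveI := QC.isQCoh_pullback f hq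
    rw [S8875.result T _ (QC.isQCoh_pullback f hq) (ModDesc.isFT_pullback f hq hF) r]
    simp only [← S8872.result f F hq hF]
    refine and_congr_right fun _ => ⟨fun h k hk => top_le_iff.1 ?_, fun h => h r le_rfl⟩
    rw [← h]
    refine (Scheme.IdealSheafData.map_gc f).monotone_l (Scheme.IdealSheafData.ofIdeals_mono fun V => ?_)
    haveI := QC.finite_sections (M := F) V.2 hF
    exact Fitting.ideal_mono_k hk
  · have hU : U = ⊤ := top_le_iff.1 fun x _ => (S8874.result X F hq hF x r).1 (hgen x)
    haveI : Surjective U.ι := ⟨fun x => ⟨⟨x, hU.ge trivial⟩, rfl⟩⟩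
    haveI : IsIso U.ι := (isIso_iff_isOpenImmersion_and_epi_base U.ι).2 ⟨inferInstance, (TopCat.epi_iff_surjective _).2 U.ι.surjective⟩
    infer_instance



/-- Let S be a locally Noetherian scheme, M a coherent module on S and r a natural number. Then there is
an immersion e : Z ⟶ S with the following universal property: for every scheme T and every morphism
g : T ⟶ S, the pullback of M along g is locally free of rank r if and only if g factors through e.
If moreover M is generated by r sections on a neighbourhood of every point of S (equivalently all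
fibres of M have rank at most r), then e is a closed immersion. -/
theorem result (S : Scheme.{u}) [IsLocallyNoetherian S]
    (M : S.Modules) (hM : Coh.IsCoh M) (r : ℕ) :
    ∃ (Z : Scheme.{u}) (e : Z ⟶ S), IsImmersion e ∧
      (∀ (T : Scheme.{u}) (g : T ⟶ S),
        FlatMod.IsFinLocFreeOfRank r ((Scheme.Modules.pullback g).obj M) ↔ ∃ g' : T ⟶ Z, g' ≫ e = g) ∧
      ((∀ s : ↥S, ∃ U : S.Opens, s ∈ U ∧ ∃ p : FlatMod.freeMod (↑U) r ⟶ M.restrict U.ι, Epi p) →
        IsClosedImmersion e) := by
  obtain ⟨Z, e, he, h1, h2⟩ := exists_immersion M hM.1 hM.2 r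
  exact ⟨Z, e, he, fun T g => (h1 T g).symm, h2⟩

end Groth.Agent.S5692
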