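import Groth.Statements.S5693
import Groth.Agent.TauSet.Basic

set_option autoImplicit false
set_option backward.isDefEq.respectTransparency false
set_option backward.isDefEq.respectTransparency.types false
set_option maxHeartbeats 1000000

universe u
open CategoryTheory CategoryTheory.Limits MonoidalCategory CartesianMonoidalCategory MonObj GrpObj AlgebraicGeometry
open FGA

namespace Groth.Agent.S5693

/-- Let S be a locally Noetherian scheme, G a commutative group scheme locally of finite type over S and
n ≥ 1 an integer. The set of points x of G for which n is the least positive integer such that the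
n-th power morphism sends x into the union of the connected components of the identity of the fibres
is locally constructible in G (the order function on the torsion-component set is locally
constructible). -/
theorem result (S : Scheme.{u}) [IsLocallyNoetherian S] (G : Over S) [GrpObj G]
    [IsCommMonObj G] [LocallyOfFiniteType G.hom] (n : ℕ) (hn : 0 < n) :
    Topology.IsLocallyConstructible {x : ↥G.left | ((𝟙 G : G ⟶ G) ^ n).left.base x ∈ SGA3x.neutralSet G ∧
      ∀ d : ℕ, 0 < d → d < n → ((𝟙 G : G ⟶ G) ^ d).left.base x ∉ SGA3x.neutralSet G} := by
  have h : {x : ↥G.left | ((𝟙 G : G ⟶ G) ^ n).left.base x ∈ SGA3x.neutralSet G ∧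
      ∀ d : ℕ, 0 < d → d < n → ((𝟙 G : G ⟶ G) ^ d).left.base x ∉ SGA3x.neutralSet G} =
      Groth.Agent.TauSet.tau G n \ ⋃ d : Finset.Ioo 0 n, Groth.Agent.TauSet.tau G d := by
    ext x
    simp [Groth.Agent.TauSet.tau]
  rw [h, Set.sdiff_eq]
  refine (Groth.Agent.TauSet.isLocallyConstructible_tau G n).inter
    (Groth.Agent.ConsTop.isLocallyConstructible_compl ?_)
  exact Topology.IsLocallyConstructible.iUnion fun d => Groth.Agent.TauSet.isLocallyConstructible_tau G _

end Groth.Agent.S5693
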