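import Groth.Statements.S5694
import Groth.Agent.TauSet.Basic

set_option autoImplicit false
set_option backward.isDefEq.respectTransparency false
set_option backward.isDefEq.respectTransparency.types false
set_option maxHeartbeats 1000000

universe u
open CategoryTheory CategoryTheory.Limits MonoidalCategory CartesianMonoidalCategory MonObj GrpObj AlgebraicGeometry
open FGA

namespace Groth.Agent.S5694

/-- Let S be a locally Noetherian scheme and G a commutative group scheme locally of finite type over S
such that the union of the connected components of the identity in the fibres of G is closed. Let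
p(s) denote the characteristic exponent of the residue field of S at s. Then the set of points x of
G such that some p(s)^h-th power morphism (h ≥ 0, s the image of x in S) sends x into that union, is
closed in G. -/
theorem result (S : Scheme.{u}) [IsLocallyNoetherian S] (G : Over S) [GrpObj G]
    [IsCommMonObj G] [LocallyOfFiniteType G.hom] (h0 : IsClosed (SGA3x.neutralSet G))
    (p : ↥S → ℕ) (hp : ∀ s : ↥S, ringExpChar (S.residueField s) = p s) :
    IsClosed {x : ↥G.left | ∃ h m : ℕ, m = p (G.hom.base x) ^ h ∧
      ((𝟙 G : G ⟶ G) ^ m).left.base x ∈ SGA3x.neutralSet G} := by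
  refine Groth.Agent.TauSet.isClosed_of_bound G _ fun U M hM hb => ?_
  let C : ℕ → Set ↥S := fun d => ⋂ q ∈ d.primeFactors, {s : ↥S | (q : S.residueField s) = 0}
  refine ⟨⋃ d ∈ M.divisors, Groth.Agent.TauSet.tau G d ∩ G.hom.base ⁻¹' C d,
    Set.Finite.isClosed_biUnion M.divisors.finite_toSet fun d _ =>
      (Groth.Agent.TauSet.isClosed_tau G h0 d).inter ((isClosed_biInter fun q _ =>
        Groth.Agent.TauSet.isClosed_natCast_eq_zero q).preimage G.hom.continuous), fun x hx => ⟨?_, ?_⟩⟩
  · rintro ⟨h, m, rfl, hxm⟩
    set s := G.hom.base x with hs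
    have hxm' : x ∈ Groth.Agent.TauSet.tau G (p s ^ h) := hxm
    have hpos : 0 < p s := by rw [← hp]; exact lt_of_lt_of_le one_pos (le_max_right _ _)
    have hM' := hb x hx _ (pow_pos hpos h) hxm'
    refine Set.mem_biUnion (x := Nat.gcd (p s ^ h) M) (Nat.mem_divisors.2 ⟨Nat.gcd_dvd_right _ _, hM.ne'⟩)
      ⟨Groth.Agent.TauSet.tau_gcd G hxm' hM', Set.mem_iInter₂.2 fun q hq => ?_⟩
    have hqp := Nat.prime_of_mem_primeFactors hq
    have hdvd : q ∣ p s := hqp.dvd_of_dvd_pow ((Nat.dvd_of_mem_primeFactors hq).trans (Nat.gcd_dvd_left _ _))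
    show (q : S.residueField s) = 0
    have hps : max (ringChar (S.residueField s)) 1 = p s := hp s
    rcases le_or_gt (ringChar (S.residueField s)) 1 with hle | hgt
    · rw [max_eq_right hle] at hps
      exact absurd (Nat.dvd_one.1 (hps ▸ hdvd)) hqp.ne_one
    · rw [max_eq_left hgt.le] at hps
      have hpp : (p s).Prime := hps ▸ ((CharP.char_is_prime_or_zero (S.residueField s) _).resolve_right (by omega))
      rw [(Nat.prime_dvd_prime_iff_eq hqp hpp).1 hdvd, ← hps]
      exact ringChar.Nat.cast_ringChar
  · intro h
    simp only [Set.mem_iUnion, exists_prop] at h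
    obtain ⟨d, hd, hxd, hC⟩ := h
    set s := G.hom.base x with hs
    have hdpos : d ≠ 0 := fun h => hM.ne' (zero_dvd_iff.1 (h ▸ (Nat.mem_divisors.1 hd).1))
    refine ⟨d, _, rfl, Groth.Agent.TauSet.tau_mono G (n := d) ?_ hxd⟩
    rw [← hs]
    by_cases hne : d.primeFactors = ∅
    · rcases Nat.primeFactors_eq_empty.1 hne with h0' | h1'
      · exact absurd h0' hdpos
      · simp [h1']
    · obtain ⟨q, hq⟩ := Finset.nonempty_iff_ne_empty.2 hne
      have key : ∀ r ∈ d.primeFactors, r = p s := fun r hr => by
        have hrp := Nat.prime_of_mem_primeFactors hr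
        have h0' : (r : S.residueField s) = 0 := Set.mem_iInter₂.1 hC r hr
        haveI : Fact r.Prime := ⟨hrp⟩
        haveI : CharP (S.residueField s) r := (CharP.charP_iff_prime_eq_zero hrp).2 h0'
        haveI : ExpChar (S.residueField s) r := ExpChar.prime hrp
        rw [← hp]
        exact (ringExpChar.eq _ r).symm
      have hps : (p s).Prime := key q hq ▸ Nat.prime_of_mem_primeFactors hq
      conv_lhs => rw [← Nat.prod_factorization_pow_eq_self hdpos]
      refine Finset.prod_dvd_of_coprime ?_ ?_
      · intro a ha b hb' hab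
        rw [Nat.support_factorization, Finset.mem_coe] at ha hb'
        exact absurd ((key a ha).trans (key b hb').symm) hab
      · intro a ha
        rw [Nat.support_factorization] at ha
        rw [key a ha]
        exact pow_dvd_pow _ ((Nat.factorization_lt _ hdpos).le)

end Groth.Agent.S5694
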