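import Groth.Statements.S5695
import Groth.Agent.TauSet.Basic

set_option autoImplicit false
set_option backward.isDefEq.respectTransparency false
set_option backward.isDefEq.respectTransparency.types false
set_option maxHeartbeats 1000000

universe u
open CategoryTheory CategoryTheory.Limits MonoidalCategory CartesianMonoidalCategory MonObj GrpObj AlgebraicGeometry
open FGA

namespace Groth.Agent.S5695

/-- Let S be a locally Noetherian scheme all of whose residue fields have the same characteristic p (so
the characteristic exponent is max(p, 1)), and G a commutative group scheme locally of finite type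
over S such that the union of the connected components of the identity in the fibres of G is closed.
Then the set of points x of G such that for some integer n ≥ 1 prime to max(p, 1) the n-th power
morphism sends x into that union, is closed in G. -/
theorem result (S : Scheme.{u}) [IsLocallyNoetherian S]
    (p : ℕ) (hS : ∀ s : ↥S, ringChar (S.residueField s) = p)
    (G : Over S) [GrpObj G] [IsCommMonObj G] [LocallyOfFiniteType G.hom] (h0 : IsClosed (SGA3x.neutralSet G)) :
    IsClosed {x : ↥G.left | ∃ n : ℕ, 0 < n ∧ Nat.Coprime n (max p 1) ∧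
      ((𝟙 G : G ⟶ G) ^ n).left.base x ∈ SGA3x.neutralSet G} := by
  refine Groth.Agent.TauSet.isClosed_of_bound G _ fun U M hM hb => ?_
  refine ⟨⋃ d ∈ M.divisors.filter (fun d => Nat.Coprime d (max p 1)), Groth.Agent.TauSet.tau G d,
    Set.Finite.isClosed_biUnion (Finset.finite_toSet _) fun d _ => Groth.Agent.TauSet.isClosed_tau G h0 d,
    fun x hx => ⟨?_, ?_⟩⟩
  · rintro ⟨n, hn, hcop, h⟩
    have hM' := hb x hx n hn h
    exact Set.mem_biUnion (x := Nat.gcd n M) (Finset.mem_filter.2 ⟨Nat.mem_divisors.2 ⟨Nat.gcd_dvd_right _ _, hM.ne'⟩,
      Nat.Coprime.coprime_dvd_left (Nat.gcd_dvd_left _ _) hcop⟩) (Groth.Agent.TauSet.tau_gcd G h hM')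
  · intro h
    simp only [Set.mem_iUnion, exists_prop] at h
    obtain ⟨d, hd, h⟩ := h
    rw [Finset.mem_filter, Nat.mem_divisors] at hd
    exact ⟨d, Nat.pos_of_dvd_of_pos hd.1.1 hM, hd.2, h⟩

end Groth.Agent.S5695
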