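import Groth.Statements.S5697
import Groth.Agent.TauSet.Basic

set_option autoImplicit false
set_option backward.isDefEq.respectTransparency false
set_option backward.isDefEq.respectTransparency.types false
set_option maxHeartbeats 1000000

universe u
open CategoryTheory CategoryTheory.Limits MonoidalCategory CartesianMonoidalCategory MonObj GrpObj AlgebraicGeometry
open FGA

namespace Groth.Agent.S5697

/-- Let S be a locally Noetherian scheme and G a commutative group scheme locally of finite type over S.
Assume that the union of the connected components of the identity of the fibres of G is closed in G,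
and that G ⟶ S is universally open at the points of that union: for every base change S' ⟶ S, the
structure map of G' = G ×_S S' is open at every point of the identity-component set of G' (the image
of every open neighbourhood is a neighbourhood). Then the prime-to-p torsion component set (points x
some n-th power of which, n ≥ 1 prime to the residue characteristic exponent, lies in the
identity-component set) is universally open over S at the points of the identity-component set, in
the same sense: for every base change S' ⟶ S, every point x' of the identity-component set of G' and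
every open neighbourhood U of x', the image in S' of the intersection of U with the prime-to-p
torsion component set of G' is a neighbourhood of the image of x'. (The published statement
concludes this at every point of the prime-to-p torsion component set; it fails for the closed
subgroup scheme of the constant group ℤ/2 over a discrete valuation ring of residue characteristic
different from 2 that keeps the non-identity element only over the closed point: there the
identity-component set is a copy of the base, all hypotheses hold, and the isolated non-identity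
point over the closed point is 2-torsion with image the closed point alone. The published proof
treats neighbourhoods of points of the identity-component set, so the conclusion is stated at those
points here.) -/
theorem result (S : Scheme.{u}) [IsLocallyNoetherian S]
    (G : Over S) [GrpObj G] [IsCommMonObj G] [LocallyOfFiniteType G.hom] (h0 : IsClosed (SGA3x.neutralSet G))
    (hopen : ∀ (S' : Scheme.{u}) (g : S' ⟶ S) (x' : ↥(Red.bc g G).left), x' ∈ SGA3x.neutralSet (Red.bc g G) →
      ∀ U : Set ↥(Red.bc g G).left, IsOpen U → x' ∈ U →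
        (Red.bc g G).hom.base '' U ∈ nhds ((Red.bc g G).hom.base x'))
    (S' : Scheme.{u}) (g : S' ⟶ S) (x' : ↥(Red.bc g G).left)
    (hx' : x' ∈ SGA3x.neutralSet (Red.bc g G))
    (U : Set ↥(Red.bc g G).left) (hU : IsOpen U) (hxU : x' ∈ U) :
    (Red.bc g G).hom.base '' (U ∩ {x : ↥(Red.bc g G).left | ∃ n : ℕ, 0 < n ∧ Nat.Coprime n (ringExpChar (S'.residueField ((Red.bc g G).hom.base x))) ∧
        ((𝟙 (Red.bc g G) : (Red.bc g G) ⟶ (Red.bc g G)) ^ n).left.base x ∈ SGA3x.neutralSet (Red.bc g G)}) ∈
      nhds ((Red.bc g G).hom.base x') := by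
  let G' := Red.bc g G
  have := Groth.Agent.TauSet.lfp G
  have : LocallyOfFinitePresentation G'.hom := inferInstanceAs (LocallyOfFinitePresentation (pullback.snd G.hom g))
  have hN : ∀ {Y : Scheme.{u}} (h : Y ⟶ S) (w : ↥(Red.bc h G).left),
      w ∈ SGA3x.neutralSet (Red.bc h G) ↔ pullback.fst G.hom h w ∈ SGA3x.neutralSet G := fun h w => by
    rw [Groth.Agent.GrpDim.neutralSet_iff, Groth.Agent.GrpDim.neutralSet_iff]
    exact Groth.Agent.GrpDim.comp0_bc_iff h G w
  let s' := G'.hom.base x'
  have huo : ∀ x ∈ Groth.Agent.GrpDim.comp0 G (g s'), x ∈ (⊤ : G.left.Opens) → EGA43.IsUnivOpenAt G.hom x := by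
    intro x hx _ Y h z hz W hW
    obtain ⟨W', hW'W, hW'o, hzW'⟩ := mem_nhds_iff.1 hW
    have hxs : G.hom x = g s' :=
      connectedComponentIn_subset (G.hom.base ⁻¹' {g s'}) (η[G].left (g s')) hx
    have hzN : z ∈ SGA3x.neutralSet (Red.bc h G) := by
      rw [hN, Groth.Agent.GrpDim.neutralSet_iff]
      rw [show pullback.fst G.hom h z = x from hz, hxs]
      exact hx
    exact Filter.mem_of_superset (hopen Y h z hzN W' hW'o hzW') (Set.image_mono hW'W)
  obtain ⟨Q, hQ, hdim⟩ := Groth.Agent.GrpDim.dim_eventually_eq G (g s') ⊤ trivial huo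
  have hlift : ∀ a, a ⤳ s' → ∃ ζ, ζ ⤳ x' ∧ G'.hom.base ζ = a ∧ ζ ∈ SGA3x.neutralSet G' := by
    intro a ha
    have hda : topologicalKrullDim ↥(G'.hom ⁻¹' {a}) = topologicalKrullDim ↥(G'.hom ⁻¹' {s'}) := by
      rw [Groth.Agent.GrpDim.bc_dim, Groth.Agent.GrpDim.bc_dim]
      obtain ⟨Q', hQ'Q, hQ'o, hsQ'⟩ := mem_nhds_iff.1 hQ
      exact hdim _ (hQ'Q ((ha.map g.continuous).mem_open hQ'o hsQ'))
    obtain ⟨ζ, h1, h2, h3⟩ := Groth.Agent.GrpDim.exists_lift_mem G'
      ((Groth.Agent.GrpDim.neutralSet_iff G' x').1 hx') ha hda
    exact ⟨ζ, h1, h2, (Groth.Agent.GrpDim.neutralSet_iff G' ζ).2 (by rw [show G'.hom ζ = a from h2]; exact h3)⟩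
  obtain ⟨V, hV, hsV, -⟩ := exists_isAffineOpen_mem_and_subset (show s' ∈ (⊤ : S'.Opens) from trivial)
  obtain ⟨W, hW, hxW, hWle⟩ := exists_isAffineOpen_mem_and_subset
    (show x' ∈ G'.hom ⁻¹ᵁ V ⊓ ⟨U, hU⟩ from ⟨hsV, hxU⟩)
  have hWV : W ≤ G'.hom ⁻¹ᵁ V := fun w hw => (hWle hw).1
  let f' := G'.hom.resLE V W hWV
  have : IsAffine (W : Scheme.{u}) := hW
  have : IsAffine (V : Scheme.{u}) := hV
  have : IsAffineHom f' := isAffineHom_of_isAffine f'
  let E : Set ↥(W : Scheme.{u}) := (W.ι ≫ pullback.fst G.hom g).base ⁻¹' SGA3x.neutralSet G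
  have hE : Topology.IsLocallyConstructible E :=
    Groth.Agent.ConsEngine.isLocallyConstructible_preimage _ (Groth.Agent.TauSet.isLocallyConstructible_neutralSet G)
  have happ : ∀ w, V.ι (f' w) = G'.hom (W.ι w) := fun w => by
    rw [← Scheme.Hom.comp_apply, Scheme.Hom.resLE_comp_ι]; rfl
  have hn : f' '' E ∈ nhds (⟨s', hsV⟩ : ↥(V : Scheme.{u})) := by
    refine Groth.Agent.Unibranch.mem_nhds_of_isLocallyConstructible (f'.isLocallyConstructible_image hE) fun a ha => ?_
    obtain ⟨ζ, hζ, hζa, hζN⟩ := hlift (V.ι a) (ha.map V.ι.continuous)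
    refine ⟨⟨ζ, hζ.mem_open W.2 hxW⟩, (hN g ζ).1 hζN, V.ι.isOpenEmbedding.injective ?_⟩
    rw [happ]
    exact hζa
  refine Filter.mem_of_superset (V.ι.isOpenEmbedding.isOpenMap.image_mem_nhds hn) ?_
  rintro _ ⟨_, ⟨w, hw, rfl⟩, rfl⟩
  refine ⟨W.ι w, ⟨(hWle w.2).2, 1, one_pos, Nat.coprime_one_left _, ?_⟩, (happ w).symm⟩
  rw [pow_one]
  exact (hN g (W.ι w)).2 hw

end Groth.Agent.S5697
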