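import Groth.Statements.S5699
import Groth.Agent.PicBdd.QuotBdd

set_option autoImplicit false
set_option backward.isDefEq.respectTransparency false
set_option backward.isDefEq.respectTransparency.types false
set_option maxHeartbeats 1000000
universe u
open CategoryTheory CategoryTheory.Limits AlgebraicGeometry
open FGA

namespace Groth.Agent.S5699

/-- Let k be an algebraically closed field, P projective n-space over k, E a coherent module on P and Φ
a finite set of functions from ℤ to ℤ. Then the coherent quotient modules F of E whose Hilbert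
function r ↦ χ(P, F(r)) (alternating sum of the dimensions of the cohomology groups in degrees at
most n) lies in Φ form a bounded family: there are a k-scheme T of finite type and a coherent module
on P ×_k T such that every such F is isomorphic to its fibre at some k-point of T. Stated over an
algebraically closed field; the published statement is the relative version over a Noetherian base
for classes of sheaves on the fibres, which this special case does not cover. -/
theorem result (k : Type u) [Field k] [IsAlgClosed k] (n : ℕ)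
    (E : (CohB1.ProjSpace n k).Modules) (hE : Coh.IsCoh E) (Φ : Set (ℤ → ℤ)) (hΦ : Φ.Finite) :
    Pic13.IsBounded k (CohB1.ProjSpace n k) (fun F =>
      Coh.IsCoh F ∧ (∃ p : E ⟶ F, Epi p) ∧
        (fun r : ℤ => FGA.eulerCharLE k (CohB1.ProjSpace n k)
          (CohB1.tensorMod F (Twist.twistProjSpace n k r)) n) ∈ Φ) := by
  classical
  haveI : IsProper (CohB1.ProjSpace n k ↘ Spec (CommRingCat.of k)) := ProjMor.isProper_toSpec n k
  let s : Finset (ℤ → ℤ) := hΦ.toFinset
  refine PicBdd.isBounded_mono k (PicBdd.isBounded_finset k s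
    (fun f F => Coh.IsCoh F ∧ (∃ p : E ⟶ F, Epi p) ∧
      (fun r : ℤ => FGA.eulerCharLE k (CohB1.ProjSpace n k)
        (CohB1.tensorMod F (Twist.twistProjSpace n k r)) n) = f) fun f _ => ?_)
    fun F hF => ⟨_, hΦ.mem_toFinset.2 hF.2.2, hF.1, hF.2.1, rfl⟩
  by_cases hf : ∃ φ : Polynomial ℚ, ∀ d : ℤ, (f d : ℚ) = φ.eval (d : ℚ)
  · obtain ⟨φ, hφ⟩ := hf
    exact PicBdd.isBounded_mono k (PicBdd.isBounded_quot_poly k hE φ) fun F hF =>
      ⟨hF.1, hF.2.1, fun d => by rw [← hφ d, ← congrFun hF.2.2 d]⟩
  · refine PicBdd.isBounded_mono k (PicBdd.isBounded_false k) fun F hF => hf ?_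
    obtain ⟨hc, -, he⟩ := hF
    obtain ⟨φ, hφ⟩ := PicBdd.exists_hilbert_poly k (𝟙 (CohB1.ProjSpace n k)) hc
    refine ⟨φ, fun d => ?_⟩
    rw [← hφ d, ← congrFun he d]
    let e : Pic13.twistOn k (𝟙 (CohB1.ProjSpace n k)) F d ≅
        CohB1.tensorMod F (Twist.twistProjSpace n k d) :=
      PicGrp.tensorModIso (Iso.refl _) ((Scheme.Modules.pullbackId _).app _)
    rw [CurveRR.euler_eq_of_iso (k := k) e]
    exact congrArg (fun z : ℤ => (z : ℚ)) (CurveRR.euler_eq_sum (k := k) _ (n + 1) fun q hq =>
      PnReg.hh_above _ (MumBound.isCoh_tw hc d).1 q (by omega)).symm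

end Groth.Agent.S5699
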