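import Groth.Statements.S5700
import Groth.Agent.LBDesc.Effective
import Groth.Agent.LBDesc.FlatApp
import Groth.Agent.PicFam.Separated
import Groth.Agent.W7Cube.Pic
import Groth.Agent.DQCoh.QCDescent
-- import your own Groth.Agent.* helpers here

set_option autoImplicit false
universe u
open CategoryTheory CategoryTheory.Limits AlgebraicGeometry
open FGA

set_option backward.isDefEq.respectTransparency false
set_option backward.isDefEq.respectTransparency.types false
set_option linter.style.haveILetI false

namespace Groth.Agent.S5700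

open Groth.Agent.W7Cube (pull pull_pull)
open Groth.Agent.W7Cube in
attribute [local instance] law

set_option maxHeartbeats 1000000 in
theorem core {X S S' : Scheme.{u}} (f : X ⟶ S) [QuasiCompact f] [IsSeparated f]
    (hf : ∀ U : S.Opens, Function.Bijective (f.app U)) (σ : S ⟶ X) (hσ : σ ≫ f = 𝟙 S)
    (g : S' ⟶ S) [Flat g] [Surjective g] [QuasiCompact g] {Z : Scheme.{u}} {p₁ p₂ : Z ⟶ pullback f g}
    (hZ : IsPullback p₁ p₂ (pullback.fst f g) (pullback.fst f g))
    {L' : (pullback f g).Modules} (hL' : PicF.IsInvertible L')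
    (hs : ∀ (e : (g ≫ σ) ≫ f = 𝟙 S' ≫ g),
      Nonempty ((Scheme.Modules.pullback (pullback.lift (g ≫ σ) (𝟙 S') e)).obj L' ≅ Coh.structureModule S'))
    (θ : (Scheme.Modules.pullback p₁).obj L' ≅ (Scheme.Modules.pullback p₂).obj L') :
    ∃ L : X.Modules, PicF.IsInvertible L ∧ Nonempty ((Scheme.Modules.pullback (pullback.fst f g)).obj L ≅ L') := by
  have hg : IsPullback (pullback.fst f g) (pullback.snd f g) f g := IsPullback.of_hasPullback f g
  choose O t hOy ht using fun y => TMul.exists_isGen hL' y
  have hO : ∀ y, ∃ i, y ∈ O i := fun y => ⟨y, hOy y⟩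
  obtain ⟨th, hth⟩ := Groth.Agent.LBDesc.exists_isTh θ O t ht
  obtain ⟨i⟩ := hs (by rw [Category.assoc, hσ, Category.comp_id, Category.id_comp])
  have hsec : Groth.Agent.LBDesc.secU hg hσ = pullback.lift (g ≫ σ) (𝟙 S')
      (by rw [Category.assoc, hσ, Category.comp_id, Category.id_comp]) :=
    pullback.hom_ext (by rw [Groth.Agent.LBDesc.secU_g, pullback.lift_fst])
      (by rw [Groth.Agent.LBDesc.secU_π, pullback.lift_snd])
  obtain ⟨v, hv⟩ := W7Hull.exists_gen_of_iso ((Scheme.Modules.pullbackCongr hsec).app L' ≪≫ i)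
  obtain ⟨r, hr⟩ := Groth.Agent.LBDesc.exists_rigData ht hg hσ v hv
  obtain ⟨θ', th', hth', hn⟩ := Groth.Agent.LBDesc.exists_normalised hZ θ hth ht hO hg hσ hr
  haveI : QuasiCompact (pullback.fst f g) := inferInstance
  exact Groth.Agent.LBDesc.exists_descended hZ θ' (fun V hV => Groth.Agent.DQCoh.pieces_of_qc (pullback.fst f g) V hV)
    (fun V => by
      haveI : Flat (pullback.fst f g ∣_ V) := IsZariskiLocalAtTarget.restrict (P := @Flat) (inferInstance : Flat (pullback.fst f g)) V
      haveI : QuasiCompact (pullback.fst f g ∣_ V) := IsZariskiLocalAtTarget.restrict (P := @QuasiCompact) (inferInstance : QuasiCompact (pullback.fst f g)) V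
      haveI : Surjective (pullback.fst f g ∣_ V) := IsZariskiLocalAtTarget.restrict (P := @Surjective) (inferInstance : Surjective (pullback.fst f g)) V
      infer_instance) hL' hO ht hth'
    (Groth.Agent.LBDesc.coc_of_normal hZ θ' hth' ht hO hg hσ hr hn
      fun {W} k _ => (Groth.Agent.LBDesc.app_bijective_of_flat f hf k).2)

/-- Let f : X ⟶ S be quasi-compact and separated, with the induced maps from sections of the structure
sheaf of S to sections of the structure sheaf of X bijective over every open of S, and admitting a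
section σ; let g : S' ⟶ S be flat, surjective and quasi-compact, X' = X ×_S S', S'' = S' ×_S S' and
X'' = X ×_S S'' with its two projections to X'. If L' is an invertible module on X' whose pullbacks
along the two projections X'' ⟶ X' become isomorphic after tensoring the second with the pullback of
some invertible module on S'', then there are an invertible module L on X and an invertible module
N' on S' with L' isomorphic to the tensor product of the pullback of L and the pullback of N'.
(Exactness of Pic(X)/Pic(S) → Pic(X')/Pic(S') ⇉ Pic(X'')/Pic(S'').) (The published statement asks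
for sections of f only locally on S and is phrased with relative Picard classes, the global sections
of the Zariski sheaf on S associated with U ↦ Pic(X_U); this row assumes a global section, in which
case those classes are classes of invertible modules on X modulo those pulled back from S, and the
local-section form follows from it by restricting to the opens of S over which a section exists.) -/
theorem result {X S S' : Scheme.{u}} (f : X ⟶ S)
    [QuasiCompact f] [IsSeparated f] (hf : ∀ U : S.Opens, Function.Bijective (f.app U))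
    (σ : S ⟶ X) (hσ : σ ≫ f = 𝟙 S)
    (g : S' ⟶ S) [Flat g] [Surjective g] [QuasiCompact g]
    (L' : (pullback f g).Modules) (hL' : PicF.IsInvertible L')
    (hcomp : ∃ N'' : (pullback g g).Modules, PicF.IsInvertible N'' ∧
      Nonempty ((Scheme.Modules.pullback (pullback.map f (pullback.fst g g ≫ g) f g (𝟙 X) (pullback.fst g g) (𝟙 S)
          ((Category.comp_id f).trans (Category.id_comp f).symm) (Category.comp_id _))).obj L' ≅
        CohB1.tensorMod ((Scheme.Modules.pullback (pullback.map f (pullback.fst g g ≫ g) f g (𝟙 X) (pullback.snd g g) (𝟙 S)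
          ((Category.comp_id f).trans (Category.id_comp f).symm) ((Category.comp_id _).trans pullback.condition))).obj L')
          ((Scheme.Modules.pullback (pullback.snd f (pullback.fst g g ≫ g))).obj N''))) :
    ∃ (L : X.Modules) (N' : S'.Modules), PicF.IsInvertible L ∧ PicF.IsInvertible N' ∧
      Nonempty (L' ≅ CohB1.tensorMod ((Scheme.Modules.pullback (pullback.fst f g)).obj L)
        ((Scheme.Modules.pullback (pullback.snd f g)).obj N')) := by
  obtain ⟨N'', hN'', ⟨i⟩⟩ := hcomp
  let k₂ := pullback.fst g g ≫ g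
  let p₁ : pullback f k₂ ⟶ pullback f g := pullback.map f k₂ f g (𝟙 X) (pullback.fst g g) (𝟙 S)
    ((Category.comp_id f).trans (Category.id_comp f).symm) (Category.comp_id _)
  let p₂ : pullback f k₂ ⟶ pullback f g := pullback.map f k₂ f g (𝟙 X) (pullback.snd g g) (𝟙 S)
    ((Category.comp_id f).trans (Category.id_comp f).symm) ((Category.comp_id _).trans pullback.condition)
  let π := pullback.snd f g
  let π'' := pullback.snd f k₂
  have q₁ : IsPullback p₁ π'' π (pullback.fst g g) := by
    refine IsPullback.of_right (h₁₂ := pullback.fst f g) (h₂₂ := g) (v₁₃ := f) ?_ (pullback.lift_snd _ _ _) (IsPullback.of_hasPullback _ _)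
    rw [show p₁ ≫ pullback.fst f g = pullback.fst f k₂ from (pullback.lift_fst _ _ _).trans (Category.comp_id _)]
    exact IsPullback.of_hasPullback _ _
  have q₂ : IsPullback p₂ π'' π (pullback.snd g g) := by
    refine IsPullback.of_right (h₁₂ := pullback.fst f g) (h₂₂ := g) (v₁₃ := f) ?_ (pullback.lift_snd _ _ _) (IsPullback.of_hasPullback _ _)
    rw [show p₂ ≫ pullback.fst f g = pullback.fst f k₂ from (pullback.lift_fst _ _ _).trans (Category.comp_id _),
      ← show k₂ = pullback.snd g g ≫ g from pullback.condition]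
    exact IsPullback.of_hasPullback _ _
  have hZ : IsPullback p₁ p₂ (pullback.fst f g) (pullback.fst f g) := by
    refine (IsPullback.of_bot ?_ ?_ (IsPullback.of_hasPullback f g)).flip
    · have := q₂.paste_vert ((IsPullback.of_hasPullback g g).flip)
      convert this using 1
      all_goals first | exact q₁.w | exact pullback.condition
    · exact ((pullback.lift_fst _ _ _).trans (Category.comp_id _)).trans
        ((pullback.lift_fst _ _ _).trans (Category.comp_id _)).symm
  have hid : ∀ {Q : Scheme.{u}} (x : PicLoc.PicSet Q), pull (𝟙 Q) x = x := fun {Q} x => by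
    obtain ⟨N, hN, rfl⟩ := PicGrp.exists_eq_cls x
    exact Subtype.ext (Quot.sound ⟨(Scheme.Modules.pullbackId _).app N⟩)
  let a := PicGrp.cls L' hL'
  let sU : S' ⟶ pullback f g := pullback.lift (g ≫ σ) (𝟙 S') (by rw [Category.assoc, hσ, Category.comp_id, Category.id_comp])
  let sZ : pullback g g ⟶ pullback f k₂ := pullback.lift (k₂ ≫ σ) (𝟙 _) (by rw [Category.assoc, hσ, Category.comp_id, Category.id_comp])
  have hπs : sU ≫ π = 𝟙 S' := pullback.lift_snd _ _ _
  have hs₁ : sZ ≫ p₁ = pullback.fst g g ≫ sU :=
    pullback.hom_ext (by simp [sZ, p₁, sU, k₂]) (by simp [sZ, p₁, sU]; exact Category.id_comp _)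
  have hs₂ : sZ ≫ p₂ = pullback.snd g g ≫ sU :=
    pullback.hom_ext (by simp [sZ, p₂, sU, k₂, pullback.condition_assoc]) (by simp [sZ, p₂, sU]; exact Category.id_comp _)
  have e : pull p₁ a = pull p₂ a * pull π'' (PicGrp.cls N'' hN'') := Subtype.ext (Quot.sound ⟨i⟩)
  have es := congrArg (pull sZ) e
  rw [map_mul, pull_pull, pull_pull, pull_pull, hs₁, hs₂, show sZ ≫ π'' = 𝟙 _ from pullback.lift_snd _ _ _, hid,
    ← pull_pull _ sU, ← pull_pull _ sU] at es
  obtain ⟨m, hm⟩ : ∃ m, m = pull sU a := ⟨_, rfl⟩
  obtain ⟨L₀, hL₀, hL₀'⟩ := PicGrp.exists_eq_cls (a * (pull π m)⁻¹)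
  obtain ⟨θ⟩ : Nonempty ((Scheme.Modules.pullback p₁).obj L₀ ≅ (Scheme.Modules.pullback p₂).obj L₀) := by
    refine Groth.Agent.PicFam.nonempty_iso_of_cl_eq (congrArg Subtype.val (?_ : pull p₁ (PicGrp.cls L₀ hL₀) = pull p₂ (PicGrp.cls L₀ hL₀)))
    rw [← hL₀', map_mul, map_mul, map_inv, map_inv, pull_pull, pull_pull, q₁.w, q₂.w, ← pull_pull, ← pull_pull, e, hm,
      es, map_mul, mul_inv]
    rw [mul_assoc, mul_left_comm (pull π'' (PicGrp.cls N'' hN'')), mul_inv_cancel, mul_one]
  obtain ⟨L, hL, ⟨j⟩⟩ := core f hf σ hσ g hZ hL₀ (fun _ => Groth.Agent.PicFam.nonempty_iso_of_cl_eq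
    (congrArg Subtype.val (show pull sU (PicGrp.cls L₀ hL₀) = 1 by
      rw [← hL₀', map_mul, map_inv, pull_pull, hπs, hid, hm, mul_inv_cancel]))) θ
  obtain ⟨N', hN', hN'e⟩ := PicGrp.exists_eq_cls m
  refine ⟨L, N', hL, hN', Groth.Agent.PicFam.nonempty_iso_of_cl_eq (congrArg Subtype.val
    (?_ : a = pull (pullback.fst f g) (PicGrp.cls L hL) * pull π (PicGrp.cls N' hN')))⟩
  rw [← hN'e, show pull (pullback.fst f g) (PicGrp.cls L hL) = a * (pull π m)⁻¹ from
    (Subtype.ext (Quot.sound ⟨j⟩)).trans hL₀'.symm, inv_mul_cancel_right]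

end Groth.Agent.S5700
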