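import Groth.Statements.S5703
import Groth.Agent.Azumaya.Basic
import Groth.Agent.Hensel.Idempotent
import Groth.Agent.LocalCrit.Basic
import Mathlib

set_option autoImplicit false
universe u v
open TensorProduct
open Dix

namespace Groth.Agent.S5703


open IsLocalRing Groth.Agent.LocalCrit
open scoped TensorProduct

variable {R : Type u} [CommRing R]

lemma mul_mem_smul_top {C : Type u} [Ring C] [Algebra R C] (I : Ideal R) {x : C}
    (hx : x ∈ I • (⊤ : Submodule R C)) (y : C) :
    y * x ∈ I • (⊤ : Submodule R C) ∧ x * y ∈ I • (⊤ : Submodule R C) := by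
  refine Submodule.smul_induction_on hx (fun r hr z _ => ?_) (fun a b ha hb => ?_)
  · rw [mul_smul_comm, smul_mul_assoc]
    exact ⟨Submodule.smul_mem_smul hr trivial, Submodule.smul_mem_smul hr trivial⟩
  · rw [mul_add, add_mul]
    exact ⟨add_mem ha.1 hb.1, add_mem ha.2 hb.2⟩

lemma exists_idem_comm {S : Type u} [CommRing S] (J : Ideal S) (c : S)
    (hx : IsNilpotent (Ideal.Quotient.mk J (c * c - c))) :
    ∃ b z : S, b * b - b ∈ J ∧ b - c - (c * c - c) * z ∈ J := by
  let x := c * c - c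
  let f : (S ⧸ J) →+* (S ⧸ J) ⧸ Ideal.span {Ideal.Quotient.mk J x} := Ideal.Quotient.mk _
  obtain ⟨e', he', hfe⟩ := exists_isIdempotentElem_eq_of_ker_isNilpotent f (fun y hy => by
      obtain ⟨z, rfl⟩ := Ideal.mem_span_singleton.1 (Ideal.Quotient.eq_zero_iff_mem.1 hy)
      exact (Commute.all _ _).isNilpotent_mul_right hx)
    (f (Ideal.Quotient.mk J c)) ⟨_, rfl⟩ (by
      rw [IsIdempotentElem, ← map_mul, ← sub_eq_zero, ← map_sub, Ideal.Quotient.eq_zero_iff_mem, ← map_mul,
        ← map_sub]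
      exact Ideal.mem_span_singleton_self _)
  obtain ⟨b, rfl⟩ := Ideal.Quotient.mk_surjective e'
  obtain ⟨z, hz⟩ := Ideal.mem_span_singleton.1 (Ideal.Quotient.eq.1 hfe)
  obtain ⟨z, rfl⟩ := Ideal.Quotient.mk_surjective z
  rw [← map_sub, ← map_mul, Ideal.Quotient.eq] at hz
  exact ⟨b, z, by rw [← Ideal.Quotient.eq, map_mul]; exact he', hz⟩

/-- idempotents lift in module-finite algebras over henselian local rings -/
lemma exists_idem_lift [HenselianLocalRing R] {C : Type u} [Ring C] [Algebra R C] [Module.Finite R C]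
    (c : C) (hc : c * c - c ∈ maximalIdeal R • (⊤ : Submodule R C)) :
    ∃ e : C, e * e = e ∧ e - c ∈ maximalIdeal R • (⊤ : Submodule R C) := by
  classical
  have hS : IsIntegral R c := IsIntegral.of_finite R c
  let S := Algebra.adjoin R ({c} : Set C)
  letI : CommRing S :=
    { (inferInstance : Ring S) with
      mul_comm := fun a b => Subtype.ext (by
        have ha : (a : C) ∈ Algebra.adjoin R ({c} : Set C) := a.2
        have hb : (b : C) ∈ Algebra.adjoin R ({c} : Set C) := b.2
        rw [Algebra.adjoin_singleton_eq_range_aeval] at ha hb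
        obtain ⟨p, hp⟩ := ha
        obtain ⟨q, hq⟩ := hb
        change (a : C) * b = b * a
        rw [← hp, ← hq]
        change Polynomial.aeval c p * Polynomial.aeval c q = Polynomial.aeval c q * Polynomial.aeval c p
        rw [← map_mul, mul_comm, map_mul]) }
  have : Algebra.IsIntegral R S := ⟨fun s =>
    (isIntegral_algHom_iff S.val Subtype.val_injective).1 (IsIntegral.of_finite R (s : C))⟩
  let c' : S := ⟨c, Algebra.self_mem_adjoin_singleton R c⟩
  let x : S := c' * c' - c'
  let J : Ideal S := (maximalIdeal R).map (algebraMap R S)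
  have hval : ∀ {s : S}, s ∈ J → (s : C) ∈ maximalIdeal R • (⊤ : Submodule R C) := by
    intro s hs
    have h : s ∈ maximalIdeal R • (⊤ : Submodule R S) := by rw [Ideal.smul_top_eq_map]; exact hs
    have h2 := Submodule.mem_map_of_mem (f := S.val.toLinearMap) h
    rw [Submodule.map_smul''] at h2
    exact Submodule.smul_mono le_rfl le_top h2
  have hx : IsNilpotent (Ideal.Quotient.mk J x) := by
    obtain ⟨p, hpm, -, hp, hp0⟩ := LinearMap.exists_monic_and_natDegree_eq_and_coeff_mem_pow_and_aeval_eq_zero (R := R)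
      (LinearMap.mulLeft R ((x : S) : C)) (maximalIdeal R) (by
        rintro _ ⟨y, rfl⟩
        exact (mul_mem_smul_top _ (show ((x : S) : C) ∈ _ from hc) y).2)
    have h0 : Polynomial.aeval x p = 0 := by
      apply Subtype.ext
      have h2 : Polynomial.aeval (Algebra.lmul R C ((x : S) : C)) p = 0 := hp0
      rw [Polynomial.aeval_algHom_apply] at h2
      have h3 := LinearMap.congr_fun h2 1
      simp only [Algebra.coe_lmul_eq_mul, LinearMap.mul_apply', mul_one, LinearMap.zero_apply] at h3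
      change S.val (Polynomial.aeval x p) = 0
      rw [← Polynomial.aeval_algHom_apply]
      exact h3
    refine ⟨p.natDegree, ?_⟩
    have h1 := congrArg (Ideal.Quotient.mk J) h0
    rw [Polynomial.aeval_eq_sum_range, map_sum, map_zero, Finset.sum_range_succ, hpm.coeff_natDegree,
      one_smul, Finset.sum_eq_zero, zero_add, map_pow] at h1
    · exact h1
    · intro i hi
      rw [Ideal.Quotient.eq_zero_iff_mem, Algebra.smul_def]
      refine J.mul_mem_right _ (Ideal.mem_map_of_mem _ ?_)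
      exact Ideal.pow_le_self (Nat.sub_ne_zero_of_lt (Finset.mem_range.1 hi)) (hp i)
  obtain ⟨b, z, hb, hz⟩ := exists_idem_comm J c' hx
  obtain ⟨e, he, heb⟩ := Hensel.exists_idempotent_lift (I := maximalIdeal R) b hb
  refine ⟨(e : C), congrArg Subtype.val he.eq, ?_⟩
  have h1 := hval heb
  have h2 := hval hz
  have h3 : ((x * z : S) : C) ∈ maximalIdeal R • (⊤ : Submodule R C) :=
    (mul_mem_smul_top _ (show ((x : S) : C) ∈ _ from hc) _).2
  have h := add_mem (add_mem h1 h2) h3
  have e1 : ((e - b : S) : C) + ((b - c' - x * z : S) : C) + ((x * z : S) : C) = (e : C) - c := by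
    simp [c']; abel
  rwa [e1] at h

/-- a surjection between finite modules with projective target which is injective mod the maximal
ideal is bijective -/
lemma bijective_of_mod [IsLocalRing R] {M N : Type u} [AddCommGroup M] [Module R M] [Module.Finite R M]
    [AddCommGroup N] [Module R N] [Module.Projective R N] (g : M →ₗ[R] N) (hg : Function.Surjective g)
    (hker : ∀ m, g m = 0 → m ∈ maximalIdeal R • (⊤ : Submodule R M)) : Function.Bijective g := by
  obtain ⟨σ, hσ⟩ := Module.projective_lifting_property g LinearMap.id hg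
  refine ⟨?_, hg⟩
  let q : M →ₗ[R] M := LinearMap.id - σ ∘ₗ g
  have hgq : ∀ m, g (q m) = 0 := fun m => by
    simp only [q, LinearMap.sub_apply, LinearMap.id_apply, LinearMap.comp_apply, map_sub]
    rw [← LinearMap.comp_apply g σ, hσ, LinearMap.id_apply, sub_self]
  have hqq : ∀ m, q (q m) = q m := fun m => by
    show q m - σ (g (q m)) = q m
    rw [hgq, map_zero, sub_zero]
  have hle : LinearMap.range q ≤ maximalIdeal R • LinearMap.range q := by
    rintro _ ⟨m, rfl⟩
    rw [← hqq m, LinearMap.range_eq_map, ← Submodule.map_smul'']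
    exact Submodule.mem_map_of_mem (hker _ (hgq m))
  have hfg : (LinearMap.range q).FG := by
    rw [LinearMap.range_eq_map]; exact Module.Finite.fg_top.map q
  have h0 := Submodule.eq_bot_of_le_smul_of_le_jacobson_bot _ _ hfg hle (maximalIdeal_le_jacobson ⊥)
  refine (injective_iff_map_eq_zero g).2 fun m hm => ?_
  have : q m = m := by show m - σ (g m) = m; rw [hm, map_zero, sub_zero]
  rw [← this]
  exact (Submodule.mem_bot R).1 (h0 ▸ LinearMap.mem_range_self q m)

set_option maxHeartbeats 1000000 in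
theorem main (R : Type u) [CommRing R] [HenselianLocalRing R] (A : Type u) [Ring A] [Algebra R A]
    [IsAzumaya R A] (B : Type u) [Ring B] [Algebra R B] [IsAzumaya R B]
    (e₀ : (ResidueField R ⊗[R] A) ≃ₐ[ResidueField R] (ResidueField R ⊗[R] B)) :
    ∃ e : A ≃ₐ[R] B, ∀ a : A, e₀ ((1 : ResidueField R) ⊗ₜ[R] a) = (1 : ResidueField R) ⊗ₜ[R] (e a) := by
  classical
  let k := ResidueField R
  let B₀ := k ⊗[R] B
  have : IsAzumaya k B₀ := Azumaya.isAzumaya_baseChange k B
  have : Module.Free R A := Module.free_of_flat_of_isLocalRing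
  have : Module.Free R B := Module.free_of_flat_of_isLocalRing
  let qA : A →ₐ[R] k ⊗[R] A := Algebra.TensorProduct.includeRight
  let qB : B →ₐ[R] B₀ := Algebra.TensorProduct.includeRight
  have hqA : Function.Surjective qA := fun z => by
    obtain ⟨x, rfl⟩ := exists_one_tmul (N := A) (maximalIdeal R) z
    exact ⟨x, rfl⟩
  have hqB : Function.Surjective qB := fun z => by
    obtain ⟨x, rfl⟩ := exists_one_tmul (N := B) (maximalIdeal R) z
    exact ⟨x, rfl⟩
  let L : A →ₐ[R] Module.End k B₀ :=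
    ((Algebra.lmul k B₀).restrictScalars R).comp ((e₀.toAlgHom.restrictScalars R).comp qA)
  let Rt : Bᵐᵒᵖ →ₐ[R] Module.End k B₀ := AlgHom.ofLinearMap
    ({ toFun := fun b => LinearMap.mulRight k (qB b.unop)
       map_add' := fun a b => by ext z; simp [mul_add]
       map_smul' := fun r b => by ext z; simp } : Bᵐᵒᵖ →ₗ[R] Module.End k B₀)
    (by ext z; simp) (fun a b => by ext z; simp [mul_assoc])
  let act : (A ⊗[R] Bᵐᵒᵖ) →ₐ[R] Module.End k B₀ :=
    Algebra.TensorProduct.lift L Rt (fun a b => by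
      refine LinearMap.ext fun z => ?_
      change e₀ (qA a) * (z * qB b.unop) = e₀ (qA a) * z * qB b.unop
      rw [mul_assoc])
  have hact : ∀ a b z, act (a ⊗ₜ b) z = e₀ (qA a) * z * qB b.unop := fun a b z => by
    simp only [act, Algebra.TensorProduct.lift_tmul]
    change e₀ (qA a) * (z * qB b.unop) = _
    rw [mul_assoc]
  have hsurj : Function.Surjective act := by
    intro g
    obtain ⟨t, rfl⟩ := (IsAzumaya.bij (R := k) (A := B₀)).2 g
    induction t using TensorProduct.induction_on with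
    | zero => exact ⟨0, by simp⟩
    | tmul u v =>
      obtain ⟨a, ha⟩ := (e₀.surjective.comp hqA) u
      obtain ⟨b, hb⟩ := hqB v.unop
      refine ⟨a ⊗ₜ MulOpposite.op b, LinearMap.ext fun z => ?_⟩
      rw [hact, AlgHom.mulLeftRight_apply, ← ha, MulOpposite.unop_op, hb]
      rfl
    | add x y hx hy =>
      obtain ⟨x', hx'⟩ := hx; obtain ⟨y', hy'⟩ := hy
      exact ⟨x' + y', by rw [map_add, map_add, hx', hy']⟩
  have hker : ∀ x, act x = 0 → x ∈ maximalIdeal R • (⊤ : Submodule R (A ⊗[R] Bᵐᵒᵖ)) := by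
    intro x hx
    let Λ : k ⊗[R] (A ⊗[R] Bᵐᵒᵖ) →ₗ[k] Module.End k B₀ := act.toLinearMap.liftBaseChange k
    have hΛ : Function.Surjective Λ := fun g => by
      obtain ⟨y, rfl⟩ := hsurj g
      exact ⟨1 ⊗ₜ y, by simp [Λ]⟩
    have hdim : Module.finrank k (k ⊗[R] (A ⊗[R] Bᵐᵒᵖ)) = Module.finrank k (Module.End k B₀) := by
      have hAB : Module.finrank R A = Module.finrank R B := by
        rw [← Module.finrank_baseChange (R := k) (M' := A), ← Module.finrank_baseChange (R := k) (M' := B)]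
        exact e₀.toLinearEquiv.finrank_eq
      rw [Module.finrank_baseChange, Module.finrank_tensorProduct, Module.finrank_linearMap,
        Module.finrank_baseChange, ← (MulOpposite.opLinearEquiv R : B ≃ₗ[R] Bᵐᵒᵖ).finrank_eq, hAB]
    have hinj := (LinearMap.injective_iff_surjective_of_finrank_eq_finrank hdim).2 hΛ
    have h1 : Λ ((1 : k) ⊗ₜ x) = 0 := by simp [Λ, hx]
    exact (one_tmul_eq_zero_iff (maximalIdeal R) x).1 (hinj (h1.trans (map_zero Λ).symm))
  obtain ⟨f, hf⟩ := Azumaya.exists_functional_azumaya (R := k) B₀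
  let p₀ : Module.End k B₀ := f.smulRight 1
  have hp₀ : p₀ * p₀ = p₀ := by
    refine LinearMap.ext fun z => ?_
    simp [p₀, hf]
  obtain ⟨c, hc⟩ := hsurj p₀
  obtain ⟨E, hE, hEc⟩ := exists_idem_lift c (hker _ (by rw [map_sub, map_mul, hc, hp₀, sub_self]))
  have hactm : ∀ x ∈ maximalIdeal R • (⊤ : Submodule R (A ⊗[R] Bᵐᵒᵖ)), act x = 0 := by
    intro x hx
    refine Submodule.smul_induction_on hx (fun r hr z _ => ?_) (fun a b ha hb => by rw [map_add, ha, hb, add_zero])
    rw [map_smul, ← algebraMap_smul k r (act z), show algebraMap R k r = 0 from Ideal.Quotient.eq_zero_iff_mem.2 hr,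
      zero_smul]
  have hEp : act E = p₀ := by
    have := hactm _ hEc
    rwa [map_sub, hc, sub_eq_zero] at this
  let P : Submodule R (A ⊗[R] Bᵐᵒᵖ) := LinearMap.range (LinearMap.mulRight R E)
  let proj : (A ⊗[R] Bᵐᵒᵖ) →ₗ[R] P := (LinearMap.mulRight R E).rangeRestrict
  have hPE : ∀ y ∈ P, y * E = y := by
    rintro _ ⟨z, rfl⟩
    simp [mul_assoc, hE]
  have : Module.Projective R P := Module.Projective.of_split P.subtype proj (by
    refine LinearMap.ext fun y => Subtype.ext ?_
    exact hPE y y.2)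
  have hπP : ∀ y ∈ P, act y 1 = 0 → y ∈ maximalIdeal R • (⊤ : Submodule R (A ⊗[R] Bᵐᵒᵖ)) := by
    intro y hy h1
    refine hker y (LinearMap.ext fun z => ?_)
    rw [← hPE y hy, map_mul, hEp]
    simp [p₀, h1]
  let β : B →ₗ[R] P := proj ∘ₗ (Algebra.TensorProduct.includeRight : Bᵐᵒᵖ →ₐ[R] A ⊗[R] Bᵐᵒᵖ).toLinearMap ∘ₗ
    (MulOpposite.opLinearEquiv R : B ≃ₗ[R] Bᵐᵒᵖ).toLinearMap
  have hβ : ∀ b, ((β b : P) : A ⊗[R] Bᵐᵒᵖ) = ((1 : A) ⊗ₜ MulOpposite.op b) * E := fun b => rfl
  have hπβ : ∀ b, act (β b : A ⊗[R] Bᵐᵒᵖ) 1 = qB b := fun b => by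
    rw [hβ, map_mul, hEp]
    simp [p₀, hf, hact]
  have hsmulP : ∀ y ∈ maximalIdeal R • (⊤ : Submodule R (A ⊗[R] Bᵐᵒᵖ)),
      proj y ∈ maximalIdeal R • (⊤ : Submodule R P) := by
    intro y hy
    have := Submodule.mem_map_of_mem (f := proj) hy
    rw [Submodule.map_smul''] at this
    exact Submodule.smul_mono le_rfl le_top this
  have hprojP : ∀ y : P, proj (y : A ⊗[R] Bᵐᵒᵖ) = y := fun y => Subtype.ext (hPE y y.2)
  have hβsurj : Function.Surjective β := by
    rw [← LinearMap.range_eq_top, eq_top_iff]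
    have : Module.Finite R P := Module.Finite.of_surjective proj (LinearMap.surjective_rangeRestrict _)
    refine Submodule.le_of_le_smul_of_le_jacobson_bot (R := R) (M := ↥P) (I := maximalIdeal R) (Module.Finite.fg_top (R := R) (M := ↥P)) (maximalIdeal_le_jacobson ⊥) fun y _ => ?_
    obtain ⟨b, hb⟩ := hqB (act (y : A ⊗[R] Bᵐᵒᵖ) 1)
    refine Submodule.mem_sup.2 ⟨β b, LinearMap.mem_range_self _ b, y - β b, ?_, by abel⟩
    have h := hπP _ (sub_mem y.2 (β b).2) (by rw [map_sub, LinearMap.sub_apply, hπβ, hb, sub_self])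
    have h2 := hsmulP _ h
    rwa [map_sub, hprojP, hprojP] at h2
  have hβbij : Function.Bijective β := bijective_of_mod (N := ↥P) β hβsurj fun b hb => by
    refine (one_tmul_eq_zero_iff (maximalIdeal R) b).1 ?_
    change qB b = 0
    rw [← hπβ, hb]
    simp
  let be := LinearEquiv.ofBijective β hβbij
  let φ : A →ₗ[R] B := be.symm.toLinearMap ∘ₗ proj ∘ₗ
    (Algebra.TensorProduct.includeLeft : A →ₐ[R] A ⊗[R] Bᵐᵒᵖ).toLinearMap
  have hφ : ∀ a, ((1 : A) ⊗ₜ MulOpposite.op (φ a)) * E = (a ⊗ₜ (1 : Bᵐᵒᵖ)) * E := fun a => by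
    rw [← hβ]
    change ((be (be.symm (proj (a ⊗ₜ 1))) : P) : A ⊗[R] Bᵐᵒᵖ) = _
    rw [LinearEquiv.apply_symm_apply]
    rfl
  have hinjE : ∀ {b b' : B}, ((1 : A) ⊗ₜ MulOpposite.op b) * E = ((1 : A) ⊗ₜ MulOpposite.op b') * E → b = b' :=
    fun {b b'} h => hβbij.1 (Subtype.ext h)
  have hone : φ 1 = 1 := hinjE (by rw [hφ, MulOpposite.op_one])
  have hmul : ∀ a a', φ (a * a') = φ a * φ a' := fun a a' => hinjE (by
    symm
    calc ((1 : A) ⊗ₜ[R] MulOpposite.op (φ a * φ a')) * E
        = ((1 : A) ⊗ₜ MulOpposite.op (φ a')) * (((1 : A) ⊗ₜ MulOpposite.op (φ a)) * E) := by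
          rw [← mul_assoc, Algebra.TensorProduct.tmul_mul_tmul, one_mul, MulOpposite.op_mul]
      _ = ((1 : A) ⊗ₜ MulOpposite.op (φ a')) * ((a ⊗ₜ (1 : Bᵐᵒᵖ)) * E) := by rw [hφ]
      _ = (a ⊗ₜ (1 : Bᵐᵒᵖ)) * (((1 : A) ⊗ₜ MulOpposite.op (φ a')) * E) := by
          rw [← mul_assoc, ← mul_assoc, Algebra.TensorProduct.tmul_mul_tmul, Algebra.TensorProduct.tmul_mul_tmul,
            one_mul, mul_one, one_mul, mul_one]
      _ = (a ⊗ₜ (1 : Bᵐᵒᵖ)) * ((a' ⊗ₜ (1 : Bᵐᵒᵖ)) * E) := by rw [hφ]
      _ = ((1 : A) ⊗ₜ MulOpposite.op (φ (a * a'))) * E := by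
          rw [hφ, ← mul_assoc, Algebra.TensorProduct.tmul_mul_tmul, one_mul])
  have hmod : ∀ a, qB (φ a) = e₀ (qA a) := fun a => by
    rw [← hπβ, hβ, hφ, map_mul, hEp]
    simp [p₀, hf, hact]
  have hφsurj : Function.Surjective φ := by
    rw [← LinearMap.range_eq_top, eq_top_iff]
    refine Submodule.le_of_le_smul_of_le_jacobson_bot (I := maximalIdeal R) Module.Finite.fg_top (maximalIdeal_le_jacobson ⊥) fun y _ => ?_
    obtain ⟨a, ha⟩ := (e₀.surjective.comp hqA) (qB y)
    refine Submodule.mem_sup.2 ⟨φ a, LinearMap.mem_range_self _ a, y - φ a, ?_, add_sub_cancel _ _⟩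
    refine (one_tmul_eq_zero_iff (maximalIdeal R) _).1 ?_
    change qB (y - φ a) = 0
    rw [map_sub, hmod, sub_eq_zero]
    exact ha.symm
  have hφbij : Function.Bijective φ := bijective_of_mod φ hφsurj fun a ha => by
    refine (one_tmul_eq_zero_iff (maximalIdeal R) a).1 ?_
    change qA a = 0
    apply e₀.injective
    rw [← hmod, ha]
    simp
  exact ⟨AlgEquiv.ofBijective (AlgHom.ofLinearMap φ hone hmul) hφbij, fun a => (hmod a).symm⟩

/-- Let R be a henselian local ring with residue field k and let A, B be Azumaya algebras over R. Then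
every isomorphism of k-algebras e₀ : k ⊗_R A ≃ k ⊗_R B is induced by an isomorphism of R-algebras e
: A ≃ B, in the sense that e₀ (1 ⊗ a) = 1 ⊗ e(a) for all a. In particular Azumaya algebras over R
with isomorphic special fibres are isomorphic. -/
theorem result (R : Type u) [CommRing R] [HenselianLocalRing R] (A : Type u) [Ring A] [Algebra R A] [IsAzumaya R A] (B : Type u) [Ring B] [Algebra R B] [IsAzumaya R B] (e₀ : (IsLocalRing.ResidueField R ⊗[R] A) ≃ₐ[IsLocalRing.ResidueField R] (IsLocalRing.ResidueField R ⊗[R] B)) : ∃ e : A ≃ₐ[R] B, ∀ a : A, e₀ ((1 : IsLocalRing.ResidueField R) ⊗ₜ[R] a) = (1 : IsLocalRing.ResidueField R) ⊗ₜ[R] (e a) := by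
  exact main R A B e₀

end Groth.Agent.S5703
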