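import Groth.Statements.S5710
import Groth.Agent.AzEtale.Field
import Groth.Agent.S5713
import Groth.Agent.Hensel.FiniteEtale
import Groth.Agent.Azumaya.Fibre
import Mathlib

set_option autoImplicit false
universe u v
open TensorProduct
open Dix Polynomial Groth.Agent

namespace Groth.Agent.S5710

/-- Over a local base where the open neighbourhood is the whole scheme. Let R be a local ring with
residue field k and A an Azumaya algebra over R whose rank as a (free) R-module is r². Then A has a
maximal étale subalgebra: there are a commutative R-algebra E, finite étale and free of rank r over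
R, and an R-algebra homomorphism u : E → A which is injective on the special fibre, k ⊗_R E → k ⊗_R
A. -/
theorem result (R : Type u) [CommRing R] [IsLocalRing R] (A : Type u) [Ring A] [Algebra R A] [IsAzumaya R A] (r : ℕ) (hA : Module.finrank R A = r ^ 2) : ∃ (E : Type u) (_ : CommRing E) (_ : Algebra R E), Algebra.Etale R E ∧ Module.Finite R E ∧ Module.Free R E ∧ Module.finrank R E = r ∧ ∃ u : E →ₐ[R] A, Function.Injective (u.toLinearMap.lTensor (IsLocalRing.ResidueField R)) := by
  classical
  haveI : Module.Free R A := Module.free_of_flat_of_isLocalRing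
  obtain ⟨hcen, hsim⟩ := (Azumaya.isAzumaya_iff_closed_fibre (R := R) A).1 inferInstance
  haveI := hcen; haveI := hsim
  let k := IsLocalRing.ResidueField R
  have hdimk : Module.finrank k (k ⊗[R] A) = r ^ 2 := by rw [Module.finrank_baseChange, hA]
  obtain ⟨x, hxs, hxd⟩ := AzEtale.exists_regular (k := k) (k ⊗[R] A) r hdimk
  obtain ⟨ξ, rfl⟩ := TensorProduct.mk_surjective R A k IsLocalRing.residue_surjective x
  change (minpoly k ((1 : k) ⊗ₜ[R] ξ)).Separable at hxs
  change (minpoly k ((1 : k) ⊗ₜ[R] ξ)).natDegree = r at hxd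
  have hint : IsIntegral k ((1 : k) ⊗ₜ[R] ξ) := IsIntegral.of_finite k _
  obtain ⟨hli, hmem⟩ := S5713.result R A r hA ξ
    (AzEtale.isSeparable_adjoin _ (minpoly.monic hint) hxs (minpoly.aeval _ _))
    (by rw [AzEtale.finrank_adjoin, hxd])
  obtain ⟨c, hc⟩ := (Submodule.mem_span_range_iff_exists_fun R).1 hmem
  let P : R[X] := X ^ r - ∑ i : Fin r, C (c i) * X ^ (i : ℕ)
  have hPm : P.Monic := monic_X_pow_sub (degree_sum_fin_lt c)
  have hPd : P.natDegree = r := by
    apply natDegree_eq_of_degree_eq_some
    rw [degree_sub_eq_left_of_degree_lt (by rw [degree_X_pow]; exact degree_sum_fin_lt c), degree_X_pow]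
  have hPξ : aeval ξ P = 0 := by
    simp only [P, map_sub, map_pow, aeval_X, map_sum, map_mul, aeval_C, ← Algebra.smul_def, hc, sub_self]
  have hPk : P.map (algebraMap R k) = minpoly k ((1 : k) ⊗ₜ[R] ξ) := by
    refine eq_of_monic_of_dvd_of_natDegree_le (minpoly.monic hint) (hPm.map _) (minpoly.dvd k _ ?_) ?_
    · rw [aeval_map_algebraMap, ← Algebra.TensorProduct.includeRight_apply, aeval_algHom_apply, hPξ, map_zero]
    · rw [hPm.natDegree_map, hPd, hxd]

  have hcop : IsCoprime P (derivative P) := by
    refine Hensel.isCoprime_of_map (I := IsLocalRing.maximalIdeal R) (IsLocalRing.maximalIdeal_le_jacobson ⊥) hPm ?_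
    rw [← derivative_map]
    change (Polynomial.map (algebraMap R k) P).Separable
    rw [hPk]; exact hxs
  have : Algebra.Etale R (AdjoinRoot P) := Hensel.etale_adjoinRoot hPm hcop
  have : Module.Finite R (AdjoinRoot P) := hPm.finite_adjoinRoot
  have : Module.Free R (AdjoinRoot P) := hPm.free_adjoinRoot
  let pb := AdjoinRoot.powerBasis' hPm
  refine ⟨AdjoinRoot P, inferInstance, inferInstance, inferInstance, inferInstance, inferInstance,
    by rw [pb.finrank]; exact hPd, ?_⟩
  let u : AdjoinRoot P →ₐ[R] A := Ideal.Quotient.liftₐ (Ideal.span {P}) (aeval ξ) (fun q hq => by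
    obtain ⟨w, rfl⟩ := Ideal.mem_span_singleton'.1 hq
    rw [map_mul, hPξ, mul_zero])
  refine ⟨u, ?_⟩
  have hu : ∀ i, u (pb.basis i) = ξ ^ (i : ℕ) := fun i => by
    rw [pb.basis_eq_pow, map_pow]
    congr 1
    exact aeval_X ξ
  let B := Algebra.TensorProduct.basis k pb.basis
  have hlik := linearIndependent_pow (K := k) ((1 : k) ⊗ₜ[R] ξ)
  rw [← LinearMap.baseChange_eq_ltensor, ← LinearMap.ker_eq_bot, eq_bot_iff]
  intro z hz
  rw [LinearMap.mem_ker, ← B.sum_repr z, map_sum] at hz
  simp only [map_smul, B, Algebra.TensorProduct.basis_apply, LinearMap.baseChange_tmul, AlgHom.toLinearMap_apply, hu] at hz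
  have hdim : pb.dim = (minpoly k ((1 : k) ⊗ₜ[R] ξ)).natDegree := hPd.trans hxd.symm
  have h0 := (Fintype.linearIndependent_iff.1 (hlik.comp (Fin.cast hdim) (Fin.cast_injective hdim))) (fun i => B.repr z i) (by
    rw [← hz]
    refine Finset.sum_congr rfl fun i _ => ?_
    simp [B, Algebra.TensorProduct.tmul_pow])
  rw [Submodule.mem_bot, ← B.sum_repr z]
  exact Finset.sum_eq_zero fun i _ => by rw [h0 i, zero_smul]

end Groth.Agent.S5710
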