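import Groth.Agent.BigSiteLib.GmAcyclic
import Groth.Agent.BigSiteLib.AcycCompareH
import Groth.Agent.S0073
import Groth.Prelude.Def_EtBase
import Groth.Prelude.Def_EtFppf
import Groth.Prelude.Def_EtDlF
import Groth.Prelude.Def_EtGm
import Mathlib.RingTheory.Henselian
import Mathlib.FieldTheory.IsSepClosed
set_option autoImplicit false
set_option backward.isDefEq.respectTransparency false
universe u
open CategoryTheory AlgebraicGeometry
namespace Dix
end Dix
open Dix

namespace Groth.Agent.S5718

/-- The case of the multiplicative group. Let R be a strictly henselian local ring (henselian, with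
separably closed residue field) and X = Spec R. Then H^i(X_fppf, G_m) = 0 for every i ≥ 1, the
cohomology being that of G_m on the big fppf site of X. -/
theorem result (R : Type u) [CommRing R] (hR : EtCoh.IsStrictlyHenselianLocalRing R) [EtFppf.ACont (Spec (CommRingCat.of R))] (i : ℕ) (hi : 1 ≤ i) : Subsingleton (EtFppf.HF (Spec (CommRingCat.of R)) (EtDl.GmF (Spec (CommRingCat.of R))) i) := by
  obtain ⟨_, _⟩ := hR
  obtain ⟨e⟩ := BigSiteLib.nonempty_H_of_acyc (S := Spec (CommRingCat.of R)) _ (BigSiteLib.acyc_GmF _) i
  haveI := Groth.Agent.S0073.result R ((EtFppf.aPush _).obj (EtDl.GmF (Spec (CommRingCat.of R)))) i hi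
  exact e.toEquiv.symm.subsingleton

end Groth.Agent.S5718
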