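import Groth.Statements.S5720
import Groth.Agent.AzEtale.Spread
import Mathlib

set_option autoImplicit false
universe u v
open TensorProduct
open Dix Polynomial Groth.Agent

namespace Groth.Agent.S5720

/-- (ii) ⇒ (iii), over an affine base X = Spec R. Let A be an Azumaya algebra over the commutative ring
R and p a prime ideal of R. Then there exist f ∈ R with f ∉ p, a finite étale and faithfully flat
R_f-algebra R' (a finite étale surjective cover of the neighbourhood D(f) of p) and an integer r ≥ 1
such that R' ⊗_R A is isomorphic as an R'-algebra to the matrix algebra M_r(R'). (Existence of the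
isomorphism only.) -/
theorem result (R : Type u) [CommRing R] (A : Type u) [Ring A] [Algebra R A] [IsAzumaya R A] (p : Ideal R) [p.IsPrime] : ∃ f : R, f ∉ p ∧ ∃ (R' : Type u) (_ : CommRing R') (_ : Algebra R R') (_ : Algebra (Localization.Away f) R') (_ : IsScalarTower R (Localization.Away f) R'), Module.Finite (Localization.Away f) R' ∧ Algebra.Etale (Localization.Away f) R' ∧ Module.FaithfullyFlat (Localization.Away f) R' ∧ ∃ r : ℕ, 1 ≤ r ∧ Nonempty ((R' ⊗[R] A) ≃ₐ[R'] Matrix (Fin r) (Fin r) R') := by
  classical
  let Rp := Localization.AtPrime p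
  have : IsAzumaya Rp (Rp ⊗[R] A) := Azumaya.isAzumaya_baseChange (R := R) Rp A
  have : Module.Free Rp (Rp ⊗[R] A) := Module.free_of_flat_of_isLocalRing
  obtain ⟨r, P, a', hr, hrA, hPm, hPd, hPa, hcop, hxd, d, hd, qa, qb, hq⟩ := AzEtale.exists_root (A := A) p Rp
  obtain ⟨ξ, h, hh, H⟩ := AzEtale.exists_free p Rp r hr hrA P a' hPm hPd hPa hcop hxd
  let M := p.primeCompl
  let g0 := AzEtale.comb (AzEtale.evalRoot hPa) ξ
  let f := d * h
  refine ⟨f, M.mul_mem hd hh, ?_⟩
  let R' := Localization.Away f
  let N := Submonoid.powers f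
  have hg' : Function.Bijective (g0.lTensor R') := by
    have hmap' : IsLocalizedModule.map N (TensorProduct.mk R R' (Fin r → (AdjoinRoot P)) 1) (TensorProduct.mk R R' A 1) g0 = g0.lTensor R' := by
      refine IsLocalizedModule.linearMap_ext N (TensorProduct.mk R R' (Fin r → (AdjoinRoot P)) 1) (TensorProduct.mk R R' A 1) ?_
      refine LinearMap.ext fun z => ?_
      exact IsLocalizedModule.map_apply N (TensorProduct.mk R R' (Fin r → (AdjoinRoot P)) 1) (TensorProduct.mk R R' A 1) g0 z
    rw [← hmap']
    exact (IsLocalizedModule.map_bijective_iff_localizedModuleMap_bijective _ _).2 (H f (dvd_mul_left h d))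
  have : Nontrivial R' := by
    refine (subsingleton_or_nontrivial R').resolve_left fun hs' => ?_
    obtain ⟨⟨_, n, rfl⟩, hn⟩ := (IsLocalization.eq_iff_exists N R').1 (Subsingleton.elim (algebraMap R R' 1) (algebraMap R R' 0))
    rw [mul_one, mul_zero] at hn
    have : f ^ n ∈ p := by rw [show f ^ n = 0 from hn]; exact p.zero_mem
    exact M.pow_mem (M.mul_mem hd hh) n this
  let P' := P.map (algebraMap R R')
  have hcop' : IsCoprime P' (derivative P') := by
    have hu : IsUnit (algebraMap R R' d) := isUnit_of_dvd_unit (map_dvd _ (dvd_mul_right d h))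
      (IsLocalization.map_units R' (⟨f, Submonoid.mem_powers f⟩ : N))
    obtain ⟨w, hw⟩ := hu.exists_left_inv
    refine ⟨C w * qa.map (algebraMap R R'), C w * qb.map (algebraMap R R'), ?_⟩
    have := congrArg (Polynomial.map (algebraMap R R')) hq
    rw [Polynomial.map_add, Polynomial.map_mul, Polynomial.map_mul, map_C, ← derivative_map] at this
    rw [mul_assoc, mul_assoc, ← mul_add, this, ← map_mul, hw, map_one]
  obtain ⟨h1, h2, h3, he⟩ := AzEtale.split_over R' r hr P a' hPm hPd hPa hcop' ξ hg'
  exact ⟨R' ⊗[R] AdjoinRoot P, inferInstance, inferInstance, inferInstance, inferInstance, h2, h1, h3, r, hr, he⟩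

end Groth.Agent.S5720
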