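import Groth.Statements.S5722
import Groth.Agent.SymAlg.VAmpleLocal
import Groth.Agent.TMul.Pullback

set_option linter.style.haveILetI false
set_option backward.isDefEq.respectTransparency false

set_option autoImplicit false
universe u
open CategoryTheory CategoryTheory.Limits AlgebraicGeometry TopologicalSpace Opposite
open scoped HomogeneousIdeal
open EGA2

namespace Groth.Agent.S5722

/-- Let f : X → Y be a quasi-compact morphism, E a quasi-coherent O_Y-module, 𝒮 its graded symmetric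
algebra, p : P → Y the projective bundle P(E) = Proj(𝒮) with its charts over affine opens, and
O_P(1) its fundamental sheaf, given with its chart identifications. If g : X → P is a Y-morphism (g
≫ p = f) whose underlying map is a homeomorphism of X onto a subspace of P, then the inverse image
g^*O_P(1) is ample relative to f. -/
theorem result {X Y : Scheme.{u}} (f : X ⟶ Y) [QuasiCompact f]
    (E : Y.Modules) (hE : Coh.IsQCoh E) (𝒮 : RelProj.QCGrAlg Y) (j : E ⟶ 𝒮.toModule)
    (hj : RelProj.IsGrSymAlg E 𝒮 j) (P : Scheme.{u}) (p : P ⟶ Y)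
    (chart : ∀ (U : Y.Opens) (hU : IsAffineOpen U), ((p ⁻¹ᵁ U : P.Opens) : Scheme.{u}) ≅ Proj (𝒮.deg U hU))
    (hP : RelProj.IsRelProj 𝒮 p chart) (O1 : P.Modules)
    (lam : ∀ (U : Y.Opens) (hU : IsAffineOpen U),
      O1 ⟶ (Scheme.Modules.pushforward (RelProj.emb p chart U hU)).obj (GrTwist.twist (𝒮.deg U hU) 1))
    (hO1 : RelProj.IsRelTwist 𝒮 p chart 1 O1 lam)
    (g : X ⟶ P) (hg : g ≫ p = f) (hemb : Topology.IsEmbedding g.base) :
    RelAmple.IsRelAmple f ((Scheme.Modules.pullback g).obj O1) := by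
  subst hg
  have hO1' := (RelTilde.isRelTwist_iff 𝒮 1 O1 lam).mp hO1
  haveI : E.IsQuasicoherent := hE
  have hgen : 𝒮.IsGenDegOne := fun U hU => by
    refine top_le_iff.mp ?_
    rw [← SymAlgGen.gen_eq_top hj.1 hU]
    refine Subring.closure_mono ?_
    rintro _ (⟨r, rfl⟩ | ⟨m, rfl⟩)
    · exact Or.inl (𝒮.str_mem U hU r)
    · exact Or.inr (hj.2 U hU m)
  have hL : PicF.IsInvertible ((Scheme.Modules.pullback g).obj O1) :=
    PicLoc.isInvertible_pullback g (RelTilde.isInvertible_of_isGenDegOne hO1' hgen)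
  have hLq := TMul.isQCoh_of_isInvertible hL
  obtain ⟨φ, hφ⟩ := SymAlg.exists_isFund hj hP hO1'
  obtain ⟨𝒮L, jl, hjl⟩ := SymAlg.exists_isGrSymAlg hLq
  obtain ⟨u, hu⟩ := SymAlg.exists_bundleQHom (φ := φ) (SymAlg.pullθ g (Iso.refl _)) hE hj hjl
  obtain ⟨PL, pL, chartL, hPL⟩ := RelProjLib.exists_isRelProj 𝒮L
  obtain ⟨r, hr, -⟩ := RelProjLib.existsUnique_qmap u hP hPL
  have hθ := fun V s hs => SymAlg.isGen_pullθ g (Iso.refl _) hL hO1'.isQCoh (V := V) s hs
  have htop := SymAlg.domQ_eq_top hE hj hP hO1' hφ hL hLq (SymAlg.pullθ g (Iso.refl _)) hθ hjl hu hPL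
  refine SymAlg.isRelAmple_of_inducing hL hLq hjl u hPL hP hr htop ?_
  haveI := SymAlg.isIso_pL hL hLq hjl hPL
  have heq : r.base.hom.toFun = g.base ∘ pL.base ∘ (RelProj.domQ u pL chartL).ι.base :=
    funext (SymAlg.rBase_eq hE hj hP hO1' hφ hL hLq (SymAlg.pullθ g (Iso.refl _)) hθ hjl hu hPL hr)
  have hind : Topology.IsInducing (g.base ∘ pL.base ∘ (RelProj.domQ u pL chartL).ι.base) :=
    hemb.isInducing.comp ((pL.homeomorph.isInducing).comp
      (RelProj.domQ u pL chartL).ι.isOpenEmbedding.isInducing)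
  exact (show Topology.IsInducing r.base.hom.toFun by rw [heq]; exact hind)


end Groth.Agent.S5722
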