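import Groth.Statements.S5725
import Groth.Agent.SymAlg.VAmpleLocal
import Groth.Agent.InvGen.Basic

set_option autoImplicit false
universe u
open CategoryTheory CategoryTheory.Limits AlgebraicGeometry TopologicalSpace Opposite
open scoped HomogeneousIdeal
open EGA2

namespace Groth.Agent.S5725

/-- Let q : X → Y be a quasi-compact morphism and L an invertible O_X-module. If L is very ample
relative to q (isomorphic to i^*O_{P(E)}(1) for a Y-immersion i : X → P(E) into the projective
bundle of a quasi-coherent O_Y-module E), then the canonical morphism q^*(q_*L) → L, the counit of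
the adjunction between inverse and direct image, is an epimorphism. (The published statement also
records that q_*L is quasi-coherent, which holds because q is then quasi-compact and separated, and
lists a further property, that the morphism into the projective bundle of q_*L attached to this
epimorphism is an immersion; with that property the converse holds. Those parts are not stated
here.) -/
theorem result {X Y : Scheme.{u}} (q : X ⟶ Y) [QuasiCompact q] (L : X.Modules)
    (hL : PicF.IsInvertible L) (h : RelProj.IsRelVeryAmple q L) :
    Epi ((Scheme.Modules.pullbackPushforwardAdjunction q).counit.app L) := by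
  let F := (Scheme.Modules.pushforward q).obj L
  let adj := Scheme.Modules.pullbackPushforwardAdjunction q
  let ν : (Scheme.Modules.pullback q).obj F ⟶ L := adj.counit.app L
  have hν : ∀ (W : Y.Opens) (m : Γ(F, W)), ν.app (q ⁻¹ᵁ W) (OmegaSh.pullSect q F W m) = m := fun W m => by
    have h1 : adj.unit.app F ≫ (Scheme.Modules.pushforward q).map ν = 𝟙 F := adj.right_triangle_components L
    exact congr(($h1).app W m)
  refine InvGen.epi_of_locally _ fun W t x hx => ?_
  obtain ⟨U, hU, hxU, -⟩ := exists_isAffineOpen_mem_and_subset
    (show q.base x ∈ (⊤ : Y.Opens) from trivial)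
  obtain ⟨c, hxc⟩ := Groth.Agent.SymAlg.exists_genPair hL hU (Groth.Agent.SymAlg.isRelVeryAmple_restrict h U) x hxU
  have hle : W ⊓ c.U' ≤ q ⁻¹ᵁ c.U := inf_le_right.trans c.le
  have hg : TMul.IsGen (Groth.Agent.QC.res L hle c.m) := by
    have := c.gen.res (inf_le_right : W ⊓ c.U' ≤ c.U')
    rwa [Groth.Agent.QC.res_res] at this
  obtain ⟨a, ha⟩ := (hg (W ⊓ c.U') le_rfl).2 (Groth.Agent.QC.res L inf_le_left t)
  simp only [Groth.Agent.QC.res_self] at ha
  refine ⟨W ⊓ c.U', inf_le_left, ⟨hx, hxc⟩,
    a • Groth.Agent.QC.res _ hle (OmegaSh.pullSect q F c.U (show Γ(F, c.U) from c.m)), ?_⟩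
  refine (Scheme.Modules.Hom.app_smul ν a _).trans ?_
  exact (congrArg (a • ·) ((Groth.Agent.QC.app_res ν hle _).symm.trans
    (congrArg (Groth.Agent.QC.res L hle) (hν c.U c.m)))).trans ha

end Groth.Agent.S5725
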