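import Groth.Statements.S5728
import Groth.Agent.SymAlg.FTSub
import Groth.Agent.SymAlg.CanonGen
import Groth.Agent.S5729
import Groth.Agent.SymAlg.RLImmLocal

set_option autoImplicit false
universe u
open CategoryTheory CategoryTheory.Limits AlgebraicGeometry TopologicalSpace Opposite
open scoped HomogeneousIdeal
open EGA2

namespace Groth.Agent.S5728

/-- Let f : X → Y be a proper morphism and L an invertible O_X-module which is very ample relative to f
and whose direct image f_*L (a quasi-coherent O_Y-module) is of finite type. Then f is projective: X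
is isomorphic over Y to the relative homogeneous spectrum of a quasi-coherent graded O_Y-algebra
generated by its degree-one part, with that part of finite type. -/
theorem result {X Y : Scheme.{u}} (f : X ⟶ Y) [IsProper f]
    (L : X.Modules) (hL : PicF.IsInvertible L) (hva : RelProj.IsRelVeryAmple f L)
    (hft : CohB1.IsFT ((Scheme.Modules.pushforward f).obj L)) : RelProj.IsProjective f := by
  have hLq : Coh.IsQCoh L := TMul.isQCoh_of_isInvertible hL
  haveI : IsSeparated f := IsProper.toIsSeparated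
  haveI : L.IsQuasicoherent := hLq
  have hF : Coh.IsQCoh ((Scheme.Modules.pushforward f).obj L) := Groth.Agent.QC.isQCoh_pushforward f
  obtain ⟨𝒮L, jL, hjL⟩ := Groth.Agent.SymAlg.exists_isGrSymAlg hLq
  obtain ⟨PL, pL, chartL, hPL⟩ := Groth.Agent.RelProjLib.exists_isRelProj 𝒮L
  obtain ⟨𝒯, jF, hjF⟩ := Groth.Agent.SymAlg.exists_isGrSymAlg hF
  obtain ⟨u, hu⟩ := Groth.Agent.SymAlg.exists_canon hF hjF hjL
  have hy : ∀ y : Y, ∃ V : Y.Opens, IsAffineOpen V ∧ y ∈ V := fun y => by
    obtain ⟨V, hV, hyV, -⟩ := exists_isAffineOpen_mem_and_subset (show y ∈ (⊤ : Y.Opens) from trivial)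
    exact ⟨V, hV, hyV⟩
  choose V hV hyV using hy
  choose n a hn ha hxNV hO hsurj using fun x : X =>
    Groth.Agent.SymAlg.exists_local_data hL hLq hjF hjL hu (hV (f.base x))
      (Groth.Agent.SymAlg.isRelVeryAmple_restrict hva (V (f.base x))) x (hyV (f.base x))
  obtain ⟨P, p, chart, hP⟩ := Groth.Agent.RelProjLib.exists_isRelProj 𝒯
  obtain ⟨r, hr, -⟩ := Groth.Agent.RelProjLib.existsUnique_qmap u hP hPL
  obtain ⟨htop, hri⟩ := Groth.Agent.SymAlg.Rel.isImmersion_of_localData hL hLq hjL u hPL hr hP
    (fun x : X => ⟨V (f.base x), hV _⟩) n a (fun x => ⟨hn x, ha x⟩) (fun x => ⟨x, hxNV x⟩)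
    (fun x => ⟨hO x, hsurj x⟩)
  haveI := hri
  haveI := Groth.Agent.SymAlg.isIso_pL hL hLq hjL hPL
  haveI : IsIso (RelProj.domQ u pL chartL).ι := by
    rw [htop]; exact (Scheme.topIso PL).isIso_hom
  let i : X ⟶ P := inv pL ≫ inv (RelProj.domQ u pL chartL).ι ≫ r
  have hip : i ≫ p = f := by
    simp only [i]
    rw [Category.assoc, Category.assoc, Groth.Agent.RelProjLib.qmap_over u hP hPL hr, IsIso.inv_hom_id_assoc,
      IsIso.inv_hom_id_assoc]
  haveI : IsSeparated p := Groth.Agent.RelProjLib.isSeparated_p hP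
  haveI : IsProper (i ≫ p) := by rw [hip]; infer_instance
  haveI : IsProper i := IsProper.of_comp i p
  haveI : IsImmersion i := inferInstance
  haveI : IsClosedImmersion i := IsClosedImmersion.of_isPreimmersion i i.isClosedMap.isClosed_range
  exact (S5729.result f).mpr ⟨_, 𝒯, jF, P, p, chart, i, hF, hft, hjF, hP, inferInstance, hip⟩

end Groth.Agent.S5728
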