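import Groth.Statements.S5735
import Groth.Agent.SteinGen.PurelyInsepFn

set_option autoImplicit false
universe u
open Coherent
set_option backward.isDefEq.respectTransparency false
set_option linter.style.haveILetI false

namespace Groth.Agent.S5735

open AlgebraicGeometry CategoryTheory CategoryTheory.Limits in
/-- Let X and Y be locally Noetherian integral schemes and f : X → Y a proper dominant morphism which is
universally open in the following sense: for every irreducible locally Noetherian scheme Y' and
every dominant morphism g : Y' → Y, each irreducible component of X ×_Y Y' has dense image in Y'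
under the second projection. Suppose that the algebraic closure of the function field R(Y) in R(X)
is purely inseparable over R(Y): every element of R(X) satisfying a nonzero polynomial over R(Y) has
some p^e-th power coming from R(Y), p being the characteristic exponent. Then for every point y of Y
the fibre X_y is geometrically connected over the residue field k(y) (its base change to any field
extension is connected and nonempty). -/
theorem result {X Y : Scheme.{u}}
    [IsIntegral X] [IsIntegral Y] [IsLocallyNoetherian X] [IsLocallyNoetherian Y] (f : X ⟶ Y) [IsProper f]
    (hdom : f.base (genericPoint X) ⤳ genericPoint Y)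
    (hopen : ∀ (Y' : Scheme.{u}) (g : Y' ⟶ Y), IrreducibleSpace ↥Y' → IsLocallyNoetherian Y' →
      IsDominant g → ∀ Z ∈ irreducibleComponents ↥(pullback f g), Dense ((pullback.snd f g).base '' Z))
    (hrad : ∀ x : X.functionField,
      (∃ q : Polynomial Y.functionField, q ≠ 0 ∧
        Polynomial.eval₂ (CohIII.stalkToFunctionField f (genericPoint Y) hdom) x q = 0) →
      ∃ e : ℕ, x ^ (ringExpChar X.functionField ^ e) ∈
        Set.range (CohIII.stalkToFunctionField f (genericPoint Y) hdom))
    (y : Y) : GeometricallyConnected (f.fiberToSpecResidueField y) := by
  haveI : IsDominant f := ⟨by
    rw [denseRange_iff_closure_range]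
    refine Set.eq_univ_of_univ_subset ?_
    rw [← (genericPoint_spec Y).def, ← (hdom.antisymm ((genericPoint_spec Y).specializes trivial)).eq]
    exact closure_mono (Set.singleton_subset_iff.2 ⟨_, rfl⟩)⟩
  haveI : Surjective f := ⟨fun z ↦ by
    have h := f.isClosedMap.isClosed_range.closure_eq
    rw [f.denseRange.closure_range] at h
    exact h.le trivial⟩
  let a := f.toNormalization
  let b := f.fromNormalization
  have hab : a ≫ b = f := f.toNormalization_fromNormalization
  haveI : IsProper (a ≫ b) := by rw [hab]; infer_instance
  haveI : IsProper a := IsProper.of_comp a b
  haveI : GeometricallyConnected a := Groth.Agent.SteinGen.geometricallyConnected_toNormalization f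
  haveI : Surjective a := inferInstance
  haveI : Surjective (a ≫ b) := by rw [hab]; infer_instance
  haveI : Surjective b := Surjective.of_comp a b
  haveI : UniversallyInjective b := Groth.Agent.SteinGen.universallyInjective_of_components f a b hab
    (hopen X f inferInstance inferInstance inferInstance)
    (fun M _ g₁ g₂ h1 h2 h ↦ Groth.Agent.SteinGen.eq_of_generic f a b hab hdom hrad M g₁ g₂ h1 h2 h)
  haveI : GeometricallyConnected f := by
    rw [← hab]
    exact Groth.Agent.SteinGen.geometricallyConnected_comp_univHomeo a b
  exact (GeometricallyConnected.iff_geometricallyConnected_fiber f).mp inferInstance y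

end Groth.Agent.S5735
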