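import Groth.Statements.S5739
import Groth.Agent.ThickSys.NearIso

set_option linter.style.haveILetI false

set_option autoImplicit false
universe u
open FCompl CategoryTheory AlgebraicGeometry
open Groth.Agent

namespace Groth.Agent.S5739

open AlgebraicGeometry CategoryTheory in
/-- Isomorphism case (completions presented by the closed subschemes of the powers of an ideal sheaf on
the base and of its inverse image ideals; the compatibility hypothesis hc always holds and is
carried as data for the completed morphism). Let Z be a locally Noetherian scheme, g : X → Z and h :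
Y → Z proper morphisms, f : X → Y a morphism with f ≫ h = g, and 𝓙 an ideal sheaf on Z. Then every
level of the completed morphism X̂ → Ŷ between the completions along the inverse image ideals of 𝓙
is an isomorphism if and only if there is an open subset U of Z containing the support of 𝓙 such
that the restriction g⁻¹(U) → h⁻¹(U) of f is an isomorphism. -/
theorem result {X Y Z : Scheme.{u}} [IsLocallyNoetherian Z]
    (g : X ⟶ Z) (h : Y ⟶ Z) [IsProper g] [IsProper h] (f : X ⟶ Y) (w : f ≫ h = g)
    (𝓙 : Z.IdealSheafData) (hc : FSch.PowCompat f (𝓙.comap g) (𝓙.comap h)) :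
    (∀ n : ℕ, IsIso ((FSch.completionMap f (𝓙.comap g) (𝓙.comap h) hc : FSch.Hom _ _).app n)) ↔
      ∃ U : Z.Opens, (𝓙.support : Set Z) ⊆ U ∧ IsIso (f ∣_ h ⁻¹ᵁ U) := by
  subst w
  haveI := LocallyOfFiniteType.isLocallyNoetherian h
  constructor
  · intro H
    haveI : ∀ n, IsIso (Scheme.IdealSheafData.subschemeMap ((𝓙.comap (f ≫ h)) ^ (n + 1)) ((𝓙.comap h) ^ (n + 1)) f
        (Scheme.IdealSheafData.le_map_iff_comap_le.mpr (hc n))) := H
    refine ThickSys.exists_open_of_forall_nhd (Q := MorphismProperty.isomorphisms Scheme) h 𝓙 fun y hy => ?_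
    obtain ⟨V₀, hy₀, h₀⟩ := ThickSys.exists_nhd_isClosedImmersion (f ≫ h) h 𝓙 rfl hc hy
    exact ThickSys.exists_nhd_isIso (𝓙.comap h) V₀ _ _ _
      (fun n => ThickSys.isPullback_completionMap_app (f ≫ h) h 𝓙 rfl hc n) hy hy₀
  · rintro ⟨U, hU, hf⟩ n
    exact ThickSys.of_isPullback_of_range (Q := MorphismProperty.isomorphisms Scheme)
      (ThickSys.isPullback_completionMap_app (f ≫ h) h 𝓙 rfl hc n) _
      (ThickSys.range_level_subset h 𝓙 U hU n) hf

end Groth.Agent.S5739
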