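import Groth.Statements.S5742
-- import your own Groth.Agent.* helpers here
import Groth.Agent.Thick.Agree
import Groth.Agent.ThickSys.Sheaf

set_option autoImplicit false
universe u
open Coherent

set_option backward.isDefEq.respectTransparency false
set_option backward.isDefEq.respectTransparency.types false

namespace Groth.Agent.S5742

open AlgebraicGeometry CategoryTheory CategoryTheory.Limits in
/-- Let A be a Noetherian ring separated and complete for the I-adic topology, X proper over Spec A and
Y locally of finite type over Spec A; write X_n = X ×_A Spec(A/I^(n+1)). Two A-morphisms φ, ψ : X →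
Y whose restrictions to X_n coincide for every n are equal. (The published statement takes Y
separated and of finite type over A, which the surjectivity half needs; injectivity uses neither
separatedness nor quasi-compactness of Y. Together with the existence of an A-morphism inducing any
compatible system of morphisms X_n → Y_n, this is the bijectivity of f ↦ f̂ from A-morphisms X → Y
to morphisms of the completions.) -/
theorem result (A : Type u) [CommRing A] [IsNoetherianRing A]
    (I : Ideal A) [IsAdicComplete I A] {X Y : Scheme.{u}} (f : X ⟶ Spec (CommRingCat.of A))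
    (h : Y ⟶ Spec (CommRingCat.of A)) [IsProper f] [LocallyOfFiniteType h] (φ ψ : X ⟶ Y)
    (hφ : φ ≫ h = f) (hψ : ψ ≫ h = f)
    (e : ∀ n : ℕ, CohB1.thickι f I n ≫ φ = CohB1.thickι f I n ≫ ψ) : φ = ψ := by
  haveI : IsLocallyNoetherian X := LocallyOfFiniteType.isLocallyNoetherian f
  let J := (FSch.idealSpec A I).comap f
  haveI hq : ∀ n, IsClosedImmersion (CohB1.specQuot I n) := fun n =>
    IsClosedImmersion.spec_of_surjective _ Ideal.Quotient.mk_surjective
  haveI : ∀ n, IsClosedImmersion (CohB1.thickι f I n) := fun n => by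
    dsimp only [CohB1.thickι]; infer_instance
  have hJ : ∀ n, J ^ (n + 1) = (CohB1.thickι f I n).ker := fun n => by
    rw [← Groth.Agent.ThickSys.comap_pow, ← Groth.Agent.ThickSys.idealSpec_pow]
    exact (Scheme.IdealSheafData.ker_fst_of_isClosedImmersion (CohB1.specQuot I n) f).symm
  have hJn : ∀ n : ℕ, (J ^ (n + 1)).subschemeι ≫ φ = (J ^ (n + 1)).subschemeι ≫ ψ := fun n => by
    rw [hJ]
    have h1 := e n
    rw [← (CohB1.thickι f I n).toImage_imageι, Category.assoc, Category.assoc] at h1
    exact (cancel_epi (CohB1.thickι f I n).toImage).1 h1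
  obtain ⟨U, hU, he⟩ := Groth.Agent.Thick.exists_nhd_eq h φ ψ (hφ.trans hψ.symm) J hJn
  suffices hU' : U = ⊤ by
    subst hU'
    haveI : IsIso (⊤ : X.Opens).ι := inferInstanceAs (IsIso X.topIso.hom)
    exact (cancel_epi (⊤ : X.Opens).ι).1 he
  refine eq_top_iff.2 fun x _ => ?_
  by_contra hx
  obtain ⟨K, hK⟩ : ∃ K : Ideal A, f '' (U : Set X)ᶜ = PrimeSpectrum.zeroLocus (K : Set A) :=
    (PrimeSpectrum.isClosed_iff_zeroLocus_ideal _).1 (f.isClosedMap _ U.2.isClosed_compl)
  have hfx : (f x : PrimeSpectrum A) ∈ PrimeSpectrum.zeroLocus (K : Set A) := by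
    rw [← hK]; exact ⟨x, hx, rfl⟩
  obtain ⟨m, hm, hKm⟩ := Ideal.exists_le_maximal _ (f x : PrimeSpectrum A).isPrime.ne_top
  have hmK : (⟨m, hm.isPrime⟩ : PrimeSpectrum A) ∈ PrimeSpectrum.zeroLocus (K : Set A) := fun a ha => hKm (hfx ha)
  rw [← hK] at hmK
  obtain ⟨z, hz, hzm⟩ := hmK
  refine hz (hU ?_)
  have hIm : I ≤ m := (IsAdicComplete.le_jacobson_bot I).trans fun a ha => Ideal.mem_sInf.mp ha ⟨bot_le, hm⟩
  have hz0 : (f z : PrimeSpectrum A) ∈ Set.range (CohB1.specQuot I 0) := by
    change _ ∈ Set.range (PrimeSpectrum.comap (Ideal.Quotient.mk (I ^ (0 + 1))))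
    rw [range_comap_of_surjective _ _ Ideal.Quotient.mk_surjective, Ideal.mk_ker, zero_add, pow_one, hzm]
    exact hIm
  have hz1 : z ∈ Set.range (CohB1.thickι f I 0) := by
    rw [show Set.range (CohB1.thickι f I 0) = f ⁻¹' Set.range (CohB1.specQuot I 0) from Scheme.Pullback.range_fst _ _]
    exact hz0
  have hJ0 := hJ 0
  rw [zero_add, pow_one] at hJ0
  rw [SetLike.mem_coe, hJ0]
  change z ∈ ((CohB1.thickι f I 0).ker.support : Set X)
  rw [Scheme.Hom.support_ker]
  exact subset_closure hz1

end Groth.Agent.S5742
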