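import Groth.Statements.S5744
import Groth.Agent.CohQC.Push
import Groth.Agent.QC.Closure
import Groth.Agent.W7Cech.Approx

set_option autoImplicit false
universe u
open Coherent

set_option backward.isDefEq.respectTransparency false
set_option backward.isDefEq.respectTransparency.types false
open Groth.Agent CategoryTheory CategoryTheory.Limits
namespace Groth.Agent.S5744

open AlgebraicGeometry CategoryTheory in
/-- For the Čech complex of sheaves indexed by all ordered tuples with products as terms; over a finite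
index type these terms are finite direct sums. Let X be a separated scheme, (U_i)_{i ∈ ι} a finite
family of affine opens covering X, and F a quasi-coherent O_X-module. Then for every p the degree-p
term of the Čech complex of sheaves 𝔠(𝒰, F), the product over ordered (p+1)-tuples of the direct
images (j_{i_0…i_p})_*(F|_{U_{i_0…i_p}}), is a quasi-coherent O_X-module. -/
theorem result {X : Scheme.{u}} [X.IsSeparated] {ι : Type u}
    [Finite ι] (𝒰 : ι → X.Opens) (h𝒰 : ∀ i, IsAffineOpen (𝒰 i)) (hcov : ⨆ i, 𝒰 i = ⊤)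
    (F : X.Modules) [Coh.IsQCoh F] (p : ℕ) :
    Coh.IsQCoh (((CechOX.cechSh 𝒰).obj F).X p) := by
  let T := fun a : Fin (p + 1) → ι => (Scheme.Modules.pushforward (∏ᶜ (𝒰 ∘ a)).ι).obj (F.restrict (∏ᶜ (𝒰 ∘ a)).ι)
  have hd : ∀ V W : X.Opens, IsAffineOpen V → IsAffineOpen W → IsAffineOpen (V ⊓ W) := fun V W hV hW => hV.inf hW
  have hU : ∀ a : Fin (p + 1) → ι, IsAffineOpen (∏ᶜ (𝒰 ∘ a)) := fun a => by
    change IsAffineOpen (SiteCoh.tupleProd 𝒰 a)
    rw [SiteCoh.tupleProd_eq_iInf]
    exact W7Cech.isAffineOpen_iInf_fin p _ fun k => h𝒰 _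
  have hT : ∀ a, Coh.IsQCoh (T a) := fun a => by
    haveI := CohQC.isAffineHom_ι hd (hU a)
    haveI : (F.restrict (∏ᶜ (𝒰 ∘ a)).ι).IsQuasicoherent := QC.isQCoh_restrict _ ‹Coh.IsQCoh F›
    exact QC.isQCoh_pushforward (∏ᶜ (𝒰 ∘ a)).ι
  haveI : Fintype (Fin (p + 1) → ι) := Fintype.ofFinite _
  haveI : HasFiniteBiproducts X.Modules := HasFiniteBiproducts.of_hasFiniteProducts
  refine QC.isQCoh_of_iso ?_ (QC.isQCoh_colimit (Discrete.functor T) fun a => hT a.as)
  exact (biproduct.isoCoproduct T).symm ≪≫ biproduct.isoProduct T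

end Groth.Agent.S5744
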