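import Groth.Statements.S5748
import Groth.Agent.SymAlg.ProjProper
import Groth.Agent.AmpleStage.Basic
import Groth.Agent.S0055
import Groth.Agent.S4474
import Groth.Agent.S0927
import Groth.Agent.W7Hull.RelVanish
import Groth.Agent.CohQC.Push
import Groth.Agent.W7AffBC.Basic
import Groth.Agent.ResDesc.Main
import Groth.Agent.FieldAmple.Basic
import Groth.Agent.TMul.Assoc
import Groth.Agent.TMul.Pullback
import Groth.Agent.FlatBCD.Square

set_option autoImplicit false
universe u
open CategoryTheory CategoryTheory.Limits AlgebraicGeometry Opposite TopologicalSpace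
open Coherent

set_option backward.isDefEq.respectTransparency false
set_option backward.isDefEq.respectTransparency.types false

namespace Groth.Agent.S5748

/-- Let Y be a Noetherian scheme, f : X → Y a projective morphism, L an invertible O_X-module ample
relative to f, g : Y' → Y an affine morphism locally of finite type (the spectrum of a
quasi-coherent O_Y-algebra 𝒮 of finite type) and X' = X ×_Y Y' with projections g' : X' → X and f' :
X' → Y'. The quasi-coherent modules of finite type over the pulled-back O_X-algebra f^*𝒮 = g'_*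
O_{X'} are the direct images g'_* G of the coherent O_{X'}-modules G, and they are presented here in
that form. For such a module ℳ = g'_* G there is N such that for every n ≥ N the higher direct
images R^p f_*(ℳ ⊗ L^{⊗n}) (of the underlying abelian sheaf) vanish for all p > 0 and the canonical
morphism f^* f_*(ℳ ⊗ L^{⊗n}) → ℳ ⊗ L^{⊗n} is an epimorphism. -/
theorem result {X Y X' Y' : Scheme.{u}}
    [AlgebraicGeometry.IsNoetherian Y] (f : X ⟶ Y) (hf : RelProj.IsProjective f)
    (L : X.Modules) (hL : PicF.IsInvertible L) (hamp : RelAmple.IsRelAmple f L)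
    (g : Y' ⟶ Y) [IsAffineHom g] [LocallyOfFiniteType g] (g' : X' ⟶ X) (f' : X' ⟶ Y')
    (hsq : IsPullback g' f' f g) (G : X'.Modules) (hG : Coh.IsCoh G) :
    ∃ N : ℕ, ∀ n : ℕ, N ≤ n →
      (∀ p : ℕ, 0 < p →
        IsZero ((Coh.RpushAb f p).obj (Coh.toAb (CohB1.tensorMod ((Coh.push g').obj G) (CohB1.tensorPow L n))))) ∧
      Epi ((Scheme.Modules.pullbackPushforwardAdjunction f).counit.app
        (CohB1.tensorMod ((Coh.push g').obj G) (CohB1.tensorPow L n))) := by
  haveI : HasInjectiveResolutions X'.Modules := inferInstance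
  haveI hfp : IsProper f := (Groth.Agent.SymAlg.isProper_and_ftData_of_isProjective hf).1
  haveI : IsProper f' := MorphismProperty.of_isPullback (P := @IsProper) hsq hfp
  haveI : IsAffineHom g' := MorphismProperty.of_isPullback (P := @IsAffineHom) hsq.flip ‹IsAffineHom g›
  haveI : CompactSpace Y' := QuasiCompact.compactSpace_of_compactSpace g
  haveI : IsLocallyNoetherian Y' := LocallyOfFiniteType.isLocallyNoetherian g
  haveI : AlgebraicGeometry.IsNoetherian Y' := { }
  let L' := (Scheme.Modules.pullback g').obj L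
  have hL' : PicF.IsInvertible L' := PicLoc.isInvertible_pullback g' hL
  have hamp' : RelAmple.IsRelAmple f' L' := Groth.Agent.AmpleStage.isRelAmple_of_isPullback hsq hamp
  obtain ⟨N₁, hN₁⟩ := Groth.Agent.S0055.result f' L' hL' (fun W hW => hamp'.2 ⟨W, hW⟩) G hG
  obtain ⟨N₂, hN₂⟩ := Groth.Agent.S4474.result f' L' hL' hamp' G hG
  refine ⟨max N₁ N₂, fun n hn => ?_⟩
  let E := CohB1.tensorPow L n
  have hE : PicF.IsInvertible E := TMul.isInvertible_tensorPow hL n
  let N := CohB1.tensorMod G (CohB1.tensorPow L' n)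
  have hNq : Coh.IsQCoh N := TMul.isQCoh_tensor (TMul.isInvertible_tensorPow hL' n) (hF := hG.1)
  haveI : N.IsQuasicoherent := hNq
  -- projection formula
  obtain ⟨ePull⟩ := TMul.nonempty_pullPowIso g' L n
  obtain ⟨eP⟩ := Groth.Agent.S0927.result g' G E (Groth.Agent.FieldAmple.isFinLocFree_of_isInvertible hE) 0
  haveI : PreservesFiniteLimits (Scheme.Modules.pushforward g') :=
    haveI : PreservesLimitsOfSize.{0, 0} (Scheme.Modules.pushforward g') :=
      (Scheme.Modules.pullbackPushforwardAdjunction g').rightAdjoint_preservesLimits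
    inferInstance
  let z := (Scheme.Modules.pushforward g').rightDerivedZeroIsoSelf
  let eM : CohB1.tensorMod ((Coh.push g').obj G) E ≅ (Coh.push g').obj N :=
    TMul.commIso _ _ ≪≫ PicGrp.tensorModIso (Iso.refl E) (z.app G).symm ≪≫ eP ≪≫ z.app _ ≪≫
      (Coh.push g').mapIso (TMul.commIso _ _ ≪≫ PicGrp.tensorModIso (Iso.refl G) ePull.symm)
  refine ⟨fun p hp => ?_, ?_⟩
  · refine IsZero.of_iso ?_ (((Coh.RpushAb f p).mapIso ((SheafOfModules.toSheaf X.ringCatSheaf).mapIso eM)))
    have hM : Coh.IsQCoh ((Coh.push g').obj N) := Groth.Agent.QC.isQCoh_pushforward g'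
    refine Groth.Agent.W7Hull.isZero_rpushAb_of_cover f _ hM p fun y => ?_
    obtain ⟨V, hV, hyV, -⟩ := exists_isAffineOpen_mem_and_subset (x := y) (U := (⊤ : Y.Opens)) trivial
    refine ⟨V, hV, hyV, ?_⟩
    obtain ⟨a⟩ := Groth.Agent.CohQC.hu_push_affine g' N (f ⁻¹ᵁ V) p
    obtain ⟨b⟩ := Groth.Agent.W7Hull.hu_equiv_sections f' N hNq (hV.preimage g) p
    have hpre : g' ⁻¹ᵁ (f ⁻¹ᵁ V) = f' ⁻¹ᵁ (g ⁻¹ᵁ V) := by
      rw [← Scheme.Hom.comp_preimage, ← Scheme.Hom.comp_preimage, hsq.w]
    haveI : Subsingleton (CohSite.HU (Coh.toAb N) p (f' ⁻¹ᵁ (g ⁻¹ᵁ V))) := by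
      refine @Equiv.subsingleton _ _ b.toEquiv ?_
      have h0 := hN₁ n ((le_max_left _ _).trans hn) p hp
      exact AddCommGrpCat.subsingleton_of_isZero
        (Functor.map_isZero ((sheafToPresheaf _ _) ⋙ (evaluation _ _).obj (op (g ⁻¹ᵁ V))) h0)
    haveI : Subsingleton (CohSite.HU (Coh.toAb N) p (g' ⁻¹ᵁ (f ⁻¹ᵁ V))) := hpre ▸ ‹_›
    exact a.symm.toEquiv.subsingleton
  · haveI hε : Epi ((Scheme.Modules.pullbackPushforwardAdjunction f').counit.app N) :=
      hN₂ n ((le_max_right _ _).trans hn)
    let adjf := Scheme.Modules.pullbackPushforwardAdjunction f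
    let adj' := Scheme.Modules.pullbackPushforwardAdjunction f'
    let P := (Scheme.Modules.pushforward f').obj N
    have hPq : Coh.IsQCoh P := Groth.Agent.QC.isQCoh_pushforward f'
    let β := (adjf.homEquiv _ _).symm (Groth.Agent.W7AffBC.theta hsq.flip P)
    haveI : IsIso β := Groth.Agent.W7AffBC.isIso_baseChange hsq.flip P hPq
    haveI : Epi ((Scheme.Modules.pushforward g').map (adj'.counit.app N)) :=
      Groth.Agent.ResDesc.epi_push g' (Groth.Agent.QC.isQCoh_pullback f' hPq) hNq _
    let c := (Groth.Agent.FlatBCD.bcC hsq.w).symm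
    have key : (Scheme.Modules.pullback f).map (c.hom.app N) ≫ adjf.counit.app ((Coh.push g').obj N) =
        β ≫ (Scheme.Modules.pushforward g').map (adj'.counit.app N) := by
      refine (adjf.homEquiv_counit _ _ _).symm.trans (Eq.trans (congrArg (adjf.homEquiv _ _).symm ?_)
        (adjf.homEquiv_naturality_right_symm (Groth.Agent.W7AffBC.theta hsq.flip P) _))
      let C : Scheme.Modules.pushforward f' ⋙ Scheme.Modules.pushforward g ≅
          Scheme.Modules.pushforward g' ⋙ Scheme.Modules.pushforward f :=
        Scheme.Modules.pushforwardComp f' g ≪≫ Scheme.Modules.pushforwardCongr hsq.flip.w ≪≫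
          (Scheme.Modules.pushforwardComp g' f).symm
      have hθ : Groth.Agent.W7AffBC.theta hsq.flip P =
          (Scheme.Modules.pushforward g).map (adj'.unit.app P) ≫ C.hom.app _ := by
        simp [Groth.Agent.W7AffBC.theta, C, adj']
      have hc : c.hom.app N = C.hom.app N := rfl
      have hn := C.hom.naturality (adj'.counit.app N)
      simp only [Functor.comp_map] at hn
      have ht : adj'.unit.app P ≫ (Scheme.Modules.pushforward f').map (adj'.counit.app N) = 𝟙 _ :=
        adj'.right_triangle_components N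
      rw [hc, hθ, Category.assoc]
      refine Eq.trans ?_ (congrArg ((Scheme.Modules.pushforward g).map (adj'.unit.app P) ≫ ·) hn)
      exact (((Category.assoc _ _ _).symm.trans (congrArg (· ≫ C.hom.app N)
        ((((Scheme.Modules.pushforward g).map_comp _ _).symm.trans (congrArg (Scheme.Modules.pushforward g).map ht)).trans
          ((Scheme.Modules.pushforward g).map_id _)))).trans (Category.id_comp _)).symm
    haveI : Epi ((Scheme.Modules.pullback f).map (c.hom.app N) ≫ adjf.counit.app ((Coh.push g').obj N)) := by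
      rw [key]; exact epi_comp _ _
    haveI : Epi (adjf.counit.app ((Coh.push g').obj N)) := epi_of_epi ((Scheme.Modules.pullback f).map (c.hom.app N)) _
    have hnat := adjf.counit.naturality eM.inv
    simp only [Functor.comp_map, Functor.id_map] at hnat
    haveI : Epi ((Scheme.Modules.pullback f).map ((Scheme.Modules.pushforward f).map eM.inv) ≫
        adjf.counit.app (CohB1.tensorMod ((Coh.push g').obj G) E)) := by
      rw [hnat]; exact epi_comp _ _
    exact epi_of_epi ((Scheme.Modules.pullback f).map ((Scheme.Modules.pushforward f).map eM.inv)) _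

end Groth.Agent.S5748
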