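import Groth.Statements.S5750
import Groth.Agent.SerreCl.Basic
import Mathlib.Analysis.Polynomial.Basic
import Mathlib.RingTheory.Length

set_option autoImplicit false
universe u
open Coherent

set_option backward.isDefEq.respectTransparency false
set_option backward.isDefEq.respectTransparency.types false

set_option backward.isDefEq.respectTransparency false

open Groth.Agent

namespace Groth.Agent.S5750

open AlgebraicGeometry CategoryTheory in
/-- Let A be an Artinian local ring, i : X → P^r_A a closed immersion compatible with the structure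
morphisms to Spec A, F a coherent O_X-module and F(n) = F ⊗ i^* O(n). If a polynomial P over ℚ
satisfies P(n) = χ_A(F(n)) = Σ_{j ≤ r} (-1)^j length_A H^j(X, F(n)) for every integer n (the Hilbert
polynomial of F), then the leading coefficient of P is non-negative. -/
theorem result (A : Type u) [CommRing A]
    [IsArtinianRing A] [IsLocalRing A] (r : ℕ) (X : Scheme.{u}) [X.Over (Spec (CommRingCat.of A))]
    (i : X ⟶ CohB1.ProjSpace r A) [IsClosedImmersion i]
    (hi : i ≫ CohB1.ProjSpace.toSpec r A = X ↘ Spec (CommRingCat.of A)) (F : X.Modules) (hF : Coh.IsCoh F)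
    (P : Polynomial ℚ)
    (hP : ∀ n : ℤ, ((Finset.range (r + 1)).sum fun j => (-1 : ℚ) ^ j *
        ((Module.length A (Coh.HH X (CohB1.tensorMod F
          ((Scheme.Modules.pullback i).obj (Twist.twistProjSpace r A n))) j)).toNat : ℚ)) = P.eval (n : ℚ)) :
    0 ≤ P.leadingCoeff := by
  obtain ⟨N, hN⟩ := SerreCl.exists_vanish A r i hi F hF
  have hev : ∀ n : ℤ, N ≤ n → 0 ≤ P.eval (n : ℚ) := fun n hn => by
    rw [← hP n, Finset.sum_eq_single 0 (fun j _ hj => ?_) (by simp)]
    · simp
    · obtain ⟨q, rfl⟩ := Nat.exists_eq_succ_of_ne_zero hj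
      haveI := hN n hn q
      rw [Nat.succ_eq_add_one, Module.length_eq_zero]
      simp
  by_contra hlt
  push Not at hlt
  rcases Nat.eq_zero_or_pos P.natDegree with h0 | h0
  · have h := hev N le_rfl
    rw [Polynomial.eq_C_of_natDegree_eq_zero h0, Polynomial.eval_C] at h
    rw [Polynomial.leadingCoeff, h0] at hlt
    linarith
  · have ht := P.tendsto_atBot_of_leadingCoeff_nonpos (Polynomial.natDegree_pos_iff_degree_pos.1 h0) hlt.le
    obtain ⟨b, hb⟩ := Filter.eventually_atTop.1 (ht.eventually (Filter.eventually_lt_atBot (0 : ℚ)))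
    have h := hev (max N ⌈b⌉) (le_max_left _ _)
    have h2 := hb ((max N ⌈b⌉ : ℤ) : ℚ) ((Int.le_ceil b).trans (by exact_mod_cast le_max_right N ⌈b⌉))
    linarith

end Groth.Agent.S5750
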