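import Groth.Statements.S5751
import Groth.Agent.GrTail.GenOne

set_option autoImplicit false
universe u
open CategoryTheory CategoryTheory.Limits AlgebraicGeometry Opposite TopologicalSpace
open scoped HomogeneousIdeal
noncomputable section
open Coherent

namespace Groth.Agent.S5751

/-- Over an affine base, for a graded ring generated in degree one, let S be a Noetherian commutative
ring positively graded by additive subgroups with irrelevant ideal generated by S_1, X = Proj S, and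
M a graded S-module (non-negatively graded here, the direct sum of its pieces) satisfying (TF): for
some k the submodule generated by the homogeneous elements of degree ≥ k is finitely generated.
Consider the graded module of sections n ↦ N_n = Γ(X, M(n)~), on which a homogeneous a ∈ S_e acts by
N_n → N_{n+e}, s ↦ (a/1)·s. Then there is k such that for every e ≥ 0 the group N_{k+e} is generated
by the images a · N_k, a ∈ S_e. (For a ring generated in degree one, condition (TF) for the graded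
module ⊕_n N_n is this eventual generation together with the finiteness of each N_n over S_0.) -/
theorem result {A σ : Type u} [CommRing A]
    [IsNoetherianRing A] [SetLike σ A] [AddSubgroupClass σ A] (𝒜 : ℕ → σ) [GradedRing 𝒜]
    (hgen : (HomogeneousIdeal.irrelevant 𝒜).toIdeal = Ideal.span (𝒜 1 : Set A))
    {M τ : Type u} [AddCommGroup M] [Module A M] [SetLike τ M] [AddSubgroupClass τ M] (ℳ : ℕ → τ)
    [SetLike.GradedSMul 𝒜 ℳ] [DirectSum.Decomposition ℳ]
    (hTF : ∃ k : ℕ, (Submodule.span A (⋃ i ∈ Set.Ici k, (ℳ i : Set M))).FG) :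
    ∃ k : ℕ, ∀ e : ℕ,
      (⨆ a : 𝒜 e, (GrMod.smulSect 𝒜 ℳ a (k : ℤ)
        (op (⊤ : Opens (ProjectiveSpectrum.top 𝒜)))).range) = ⊤ := by
  classical
  obtain ⟨N, hN⟩ := Groth.Agent.GrTail.exists_bound 𝒜 ℳ hTF
  obtain ⟨k₁, hk₁⟩ := Groth.Agent.GrTail.exists_gen_one 𝒜 ℳ hgen hTF
  obtain ⟨k, hkN, hk'⟩ : ∃ k, N ≤ k ∧ k₁ ≤ k := ⟨max N k₁, le_max_left _ _, le_max_right _ _⟩
  refine ⟨k, fun e => eq_top_iff.2 fun t _ => ?_⟩
  obtain ⟨m, hm, h⟩ := (hN (k + e) (by omega)).2
    (fun x => ((t.1 ⟨x, trivial⟩ : GrMod.tildeAt 𝒜 ℳ ((k : ℤ) + e) x) : GrMod.LocMod 𝒜 (M := M) x)) (by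
    intro x
    obtain ⟨V, mV, iV, i, j, m, s, nin, c, w⟩ := t.2 ⟨x, trivial⟩
    refine ⟨V, mV, j, m, s, ?_, s.2, fun y hy => ⟨nin ⟨y, hy⟩, w ⟨y, hy⟩⟩⟩
    rcases c with c | c
    · have e : i = j + (k + e) := by omega
      exact e ▸ m.2
    · simp [c])
  suffices key : ∀ m ∈ AddSubgroup.closure {q : M | ∃ a ∈ 𝒜 e, ∃ z ∈ ℳ k, q = a • z},
      ∃ s ∈ (⨆ a : 𝒜 e, (GrMod.smulSect 𝒜 ℳ a (k : ℤ)
          (op (⊤ : Opens (ProjectiveSpectrum.top 𝒜)))).range),
        ∀ x : (⊤ : Opens (ProjectiveSpectrum.top 𝒜)),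
          ((s.1 x : GrMod.tildeAt 𝒜 ℳ ((k : ℤ) + e) x.1) : GrMod.LocMod 𝒜 (M := M) x.1) =
            LocalizedModule.mk m 1 by
    obtain ⟨s, hs, hsv⟩ := key m (hk₁ k hk' e hm)
    have hst : s = t := Subtype.ext (funext fun x => Subtype.ext ((hsv x).trans (h x.1).symm))
    subst hst
    exact hs
  intro m hm
  induction hm using AddSubgroup.closure_induction with
  | mem q hq =>
    obtain ⟨a, ha, z, hz, rfl⟩ := hq
    refine ⟨GrMod.smulSect 𝒜 ℳ ⟨a, ha⟩ (k : ℤ) _ (GrMod.globalOf 𝒜 ℳ ⟨z, hz⟩),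
      AddSubgroup.mem_iSup_of_mem ⟨a, ha⟩ ⟨_, rfl⟩, fun x => ?_⟩
    erw [GrMod.smulSect_apply_coe, GrMod.globalOf_apply_coe, LocalizedModule.mk_smul_mk, one_mul]
  | zero =>
    refine ⟨0, zero_mem _, fun x => ?_⟩
    rw [LocalizedModule.zero_mk]
    rfl
  | add p q _ _ hp hq =>
    obtain ⟨s, hs, hsv⟩ := hp
    obtain ⟨s', hs', hsv'⟩ := hq
    refine ⟨s + s', add_mem hs hs', fun x => ?_⟩
    have h := (LocalizedModule.mkLinearMap x.1.asHomogeneousIdeal.toIdeal.primeCompl M).map_add p q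
    refine Eq.trans ?_ h.symm
    exact congrArg₂ (· + ·) (hsv x) (hsv' x)
  | neg p _ hp =>
    obtain ⟨s, hs, hsv⟩ := hp
    refine ⟨-s, neg_mem hs, fun x => ?_⟩
    have h := (LocalizedModule.mkLinearMap x.1.asHomogeneousIdeal.toIdeal.primeCompl M).map_neg p
    refine Eq.trans ?_ h.symm
    exact congrArg (- ·) (hsv x)

end Groth.Agent.S5751
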