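import Groth.Statements.S5752
-- import your own Groth.Agent.* helpers here
import Groth.Agent.QGorD.Basic
import Groth.Agent.LocH.DepthMisc

set_option autoImplicit false
universe u
open EGA41

namespace Groth.Agent.S5752

/-- Let A be a Noetherian local ring with maximal ideal m and M a finitely generated A-module. Then M
has depth 0 if and only if m is an associated prime of M, i.e. if and only if M contains a copy of
the residue field. (For M = 0 the depth is ⊤ and there are no associated primes.) -/
theorem result (A : Type u) [CommRing A] [IsLocalRing A]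
    [IsNoetherianRing A] (M : Type u) [AddCommGroup M] [Module A M] [Module.Finite A M] :
    LocCoh.depth A M = 0 ↔ IsLocalRing.maximalIdeal A ∈ associatedPrimes A M := by
  constructor
  · intro h
    by_contra hn
    have hx : ∃ x ∈ IsLocalRing.maximalIdeal A, IsSMulRegular M x := by
      by_contra hne
      push Not at hne
      have hsub : (IsLocalRing.maximalIdeal A : Set A) ⊆
          ⋃ q ∈ ((associatedPrimes.finite A M).toFinset : Set (Ideal A)), (q : Set A) := by
        rw [Set.Finite.coe_toFinset, biUnion_associatedPrimes_eq_compl_regular]
        exact fun x hx => hne x hx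
      obtain ⟨q, hq, hle⟩ := (Ideal.subset_union_prime (f := fun q : Ideal A => q) ⊤ ⊤
        (fun q hq _ _ => IsAssociatedPrime.isPrime ((Set.Finite.mem_toFinset _).mp hq))).mp hsub
      rw [Set.Finite.mem_toFinset] at hq
      exact hn (((IsLocalRing.maximalIdeal.isMaximal A).eq_of_le
        (IsAssociatedPrime.isPrime hq).ne_top hle).symm ▸ hq)
    obtain ⟨x, hx, hreg⟩ := hx
    have h1 := Groth.Agent.QGorD.one_le_of_regular hx hreg
    rw [← LocCoh.depth, h] at h1
    simp at h1
  · intro h
    by_contra hne
    obtain ⟨x, hx, hreg⟩ := Groth.Agent.QGorD.exists_regular_of_one_le (IsLocalRing.maximalIdeal A) M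
      (ENat.one_le_iff_ne_zero.mpr hne)
    have h2 : x ∈ ⋃ p ∈ associatedPrimes A M, (p : Set A) := Set.mem_biUnion h hx
    rw [biUnion_associatedPrimes_eq_compl_regular] at h2
    exact h2 hreg

end Groth.Agent.S5752
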