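import Groth.Statements.S5755
import Mathlib

set_option autoImplicit false
universe u
open EGA41

namespace Groth.Agent.S5755

/-- A reduced Noetherian local ring A has depth 0 if and only if A is a field. -/
theorem result (A : Type u) [CommRing A] [IsLocalRing A]
    [IsNoetherianRing A] [IsReduced A] : LocCoh.depth A A = 0 ↔ IsField A := by
  have hne : IsLocalRing.maximalIdeal A • (⊤ : Submodule A A) ≠ ⊤ := by
    rw [Ideal.smul_eq_mul, Ideal.mul_top]
    exact (IsLocalRing.maximalIdeal.isMaximal A).ne_top
  unfold LocCoh.depth LocCoh.idealDepth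
  rw [if_neg hne]
  constructor
  · intro h
    rw [IsLocalRing.isField_iff_maximalIdeal_eq]
    by_contra hm
    have hfin := minimalPrimes.finite_of_isNoetherianRing A
    have hnot : ¬ (IsLocalRing.maximalIdeal A : Set A) ⊆ ⋃ P ∈ (↑hfin.toFinset : Set (Ideal A)), ↑P := by
      intro hsub
      obtain ⟨P, hP, hle⟩ := (Ideal.subset_union_prime (s := hfin.toFinset) ⊥ ⊥
        (fun P hP _ _ => (hfin.mem_toFinset.mp hP).1.1)).mp hsub
      have hP' := hfin.mem_toFinset.mp hP
      have hPm : P = IsLocalRing.maximalIdeal A :=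
        le_antisymm (IsLocalRing.le_maximalIdeal hP'.1.1.ne_top) hle
      refine hm (le_bot_iff.mp fun x hx => ?_)
      have hn : x ∈ nilradical A := by
        rw [nilradical_eq_sInf]
        refine Submodule.mem_sInf.mpr fun Q hQ => ?_
        exact hP'.2 ⟨hQ, bot_le⟩ (IsLocalRing.le_maximalIdeal hQ.ne_top |>.trans hle) (hPm ▸ hx)
      rwa [nilradical_eq_bot_iff.mpr ‹IsReduced A›] at hn
    obtain ⟨r, hr, hrn⟩ := Set.not_subset.mp hnot
    have hreg : IsSMulRegular A r := by
      rw [isSMulRegular_iff_right_eq_zero_of_smul]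
      intro x hx
      have hn : x ∈ nilradical A := by
        rw [nilradical_eq_sInf]
        refine Submodule.mem_sInf.mpr fun Q hQ => ?_
        haveI : Ideal.IsPrime Q := hQ
        obtain ⟨P, hP, hPQ⟩ := Ideal.exists_minimalPrimes_le (show (⊥ : Ideal A) ≤ Q from bot_le)
        haveI := hP.isPrime
        refine hPQ ((Ideal.IsPrime.mem_or_mem inferInstance (show r * x ∈ P by
          rw [show r * x = 0 from hx]; exact P.zero_mem)).resolve_left fun hrP => hrn ?_)
        exact Set.mem_biUnion (by simpa using hP) hrP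
      rwa [nilradical_eq_bot_iff.mpr ‹IsReduced A›] at hn
    have h1 : (([r] : List A).length : ℕ∞) ≤ 0 := h.le.trans' (le_iSup₂_of_le [r]
      ⟨RingTheory.Sequence.IsWeaklyRegular.cons hreg (RingTheory.Sequence.IsWeaklyRegular.nil _ _),
        by simpa using hr⟩ le_rfl)
    simp at h1
  · intro h
    refine le_antisymm (iSup₂_le fun rs hrs => ?_) zero_le
    have hm : IsLocalRing.maximalIdeal A = ⊥ := IsLocalRing.isField_iff_maximalIdeal_eq.mp h
    cases rs with
    | nil => simp
    | cons r rs =>
      exfalso
      have hr : r = 0 := by simpa [hm] using hrs.2 r List.mem_cons_self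
      have h1 := ((RingTheory.Sequence.isWeaklyRegular_cons_iff A r rs).mp hrs.1).1
      rw [hr] at h1
      exact not_subsingleton A (IsSMulRegular.zero_iff_subsingleton.mp h1)

end Groth.Agent.S5755
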