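import Groth.Statements.S5756
-- import your own Groth.Agent.* helpers here
import Groth.Agent.QGorD.Basic
import Groth.Agent.LocH.DepthMisc

set_option autoImplicit false
universe u
open EGA41

namespace Groth.Agent.S5756

/-- Suppose A and B are Noetherian local rings and ρ : A → B is a local homomorphism. Given a B-module M
that, viewed as an A-module through ρ, is finitely generated, the depth of M over A coincides with
the depth of M over B. -/
theorem result (A B : Type u) [CommRing A] [CommRing B] [IsLocalRing A]
    [IsLocalRing B] [IsNoetherianRing A] [IsNoetherianRing B] [Algebra A B] [IsLocalHom (algebraMap A B)]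
    (M : Type u) [AddCommGroup M] [Module B M] [Module A M] [IsScalarTower A B M] [Module.Finite A M] :
    LocCoh.depth A M = LocCoh.depth B M := by
  haveI : Module.Finite B M := Module.Finite.of_restrictScalars_finite A B M
  rw [LocCoh.depth, LocCoh.depth,
    Groth.Agent.LocH.idealDepth_map_eq (R' := B) (IsLocalRing.maximalIdeal A) M]
  refine ENat.eq_of_forall_natCast_le_iff fun n => ?_
  rw [Groth.Agent.LocH.le_idealDepth_iff_forall_prime, Groth.Agent.LocH.le_idealDepth_iff_forall_prime]
  refine ⟨fun h p hp => h p ((Ideal.map_le_iff_le_comap.mpr ?_).trans hp), fun h p hp => ?_⟩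
  · exact fun a ha => map_nonunit (algebraMap A B) a ha
  by_cases hs : p ∈ Module.support B M
  swap
  · rw [Groth.Agent.QGorD.depth_eq_top_of_not_mem_support p hs]; exact le_top
  refine h p (le_of_eq ?_)
  refine (IsLocalRing.eq_maximalIdeal ?_).symm
  have hann : Module.annihilator B M ≤ p.asIdeal := Module.mem_support_iff_of_finite.mp hs
  haveI : Module.Finite A (B ⧸ p.asIdeal) := by
    let φ : B →ₐ[A] Module.End A M := Algebra.lsmul A A M
    haveI : IsNoetherian A (Module.End A M) := by
      obtain ⟨k, g, hg⟩ := Module.Finite.exists_fin' A M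
      exact isNoetherian_of_injective (LinearMap.lcomp A M g)
        (fun a b hab => LinearMap.ext fun m => by
          obtain ⟨v, rfl⟩ := hg m
          exact congrArg (fun l : (Fin k → A) →ₗ[A] M => l v) hab)
    haveI : Module.Finite A (B ⧸ LinearMap.ker φ.toLinearMap) :=
      Module.Finite.equiv φ.toLinearMap.quotKerEquivRange.symm
    refine Module.Finite.of_surjective ((LinearMap.ker φ.toLinearMap).liftQ
      ((Ideal.Quotient.mkₐ A p.asIdeal).toLinearMap) ?_) ?_
    · intro b hb
      refine Ideal.Quotient.eq_zero_iff_mem.mpr (hann ?_)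
      exact Module.mem_annihilator.mpr fun m => congrArg (fun l : Module.End A M => l m) hb
    · intro y
      obtain ⟨b, rfl⟩ := Ideal.Quotient.mk_surjective y
      exact ⟨Submodule.Quotient.mk b, rfl⟩
  haveI : Algebra.IsIntegral A (B ⧸ p.asIdeal) := inferInstance
  have hc : p.asIdeal.comap (algebraMap A B) = IsLocalRing.maximalIdeal A :=
    ((IsLocalRing.maximalIdeal.isMaximal A).eq_of_le (Ideal.comap_ne_top _ p.isPrime.ne_top)
      (Ideal.map_le_iff_le_comap.mp hp)).symm
  have hbot : (⊥ : Ideal (B ⧸ p.asIdeal)).IsMaximal := by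
    refine Ideal.isMaximal_of_isIntegral_of_isMaximal_comap (R := A) ⊥ ?_
    rw [show (⊥ : Ideal (B ⧸ p.asIdeal)).comap (algebraMap A (B ⧸ p.asIdeal)) =
      IsLocalRing.maximalIdeal A by
        rw [IsScalarTower.algebraMap_eq A B (B ⧸ p.asIdeal), ← Ideal.comap_comap,
          ← RingHom.ker_eq_comap_bot, Ideal.Quotient.algebraMap_eq, Ideal.mk_ker, hc]]
    infer_instance
  exact Ideal.Quotient.maximal_of_isField _ (by
    by_contra hf
    obtain ⟨I, h1, h2⟩ := Ring.not_isField_iff_exists_ideal_bot_lt_and_lt_top.mp hf
    exact h2.ne (hbot.1.2 I h1))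

end Groth.Agent.S5756
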