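import Groth.Statements.S5759
import Groth.Agent.CMSop.Depth
import Mathlib

set_option autoImplicit false
open Groth.Agent
universe u
open EGA41

namespace Groth.Agent.S5759

/-- Let A be a Noetherian local ring and M a nonzero finitely generated A-module. Suppose that for every
sequence x_1, ..., x_r of elements of the maximal ideal which is part of a system of parameters for
M (i.e. dim(M/(x_1 M + ... + x_r M)) = dim(M) - r), every associated prime p of N = M/(x_1 M + ... +
x_r M) satisfies dim(A/p) = dim(N). Then M is a Cohen-Macaulay module. (The published convention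
also counts the zero module as Cohen-Macaulay; this row assumes M nonzero.) -/
theorem result (A : Type u) [CommRing A]
    [IsLocalRing A] [IsNoetherianRing A] (M : Type u) [AddCommGroup M] [Module A M] [Module.Finite A M]
    [Nontrivial M]
    (h : ∀ xs : List A, (∀ x ∈ xs, x ∈ IsLocalRing.maximalIdeal A) →
      Module.supportDim A (M ⧸ (Ideal.ofList xs • (⊤ : Submodule A M))) + xs.length = Module.supportDim A M →
        ∀ p ∈ associatedPrimes A (M ⧸ (Ideal.ofList xs • (⊤ : Submodule A M))),
          ringKrullDim (A ⧸ p) = Module.supportDim A (M ⧸ (Ideal.ofList xs • (⊤ : Submodule A M)))) :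
    LocCoh.IsCohenMacaulayModule A M := by
  classical
  have hlt : Module.supportDim A M < ⊤ := (Module.supportDim_le_ringKrullDim A M).trans_lt ringKrullDim_lt_top
  obtain ⟨d, hd⟩ : ∃ d : ℕ, Module.supportDim A M = d := by
    generalize hD : Module.supportDim A M = D at hlt
    induction D with
    | bot => exact absurd hD (Module.supportDim_ne_bot_of_nontrivial A M)
    | coe D =>
      induction D with
      | top => simp at hlt
      | coe k => exact ⟨k, rfl⟩
  have key : ∀ k ≤ d, ∃ xs : List A, xs.length = k ∧ (∀ x ∈ xs, x ∈ IsLocalRing.maximalIdeal A) ∧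
      RingTheory.Sequence.IsWeaklyRegular M xs := by
    intro k
    induction k with
    | zero => exact fun _ => ⟨[], rfl, by simp, .nil A M⟩
    | succ k ih =>
      intro hk
      obtain ⟨xs, hlen, hmem, hreg⟩ := ih (by lia)
      let Q := M ⧸ (Ideal.ofList xs • (⊤ : Submodule A M))
      have hxs := RingTheory.Sequence.IsRegular.of_isWeaklyRegular_of_mem_maximalIdeal (L := M) hmem hreg
      have hQ : Module.supportDim A Q + xs.length = Module.supportDim A M :=
        Module.supportDim_add_length_eq_supportDim_of_isRegular xs hxs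
      have hne : Module.supportDim A Q ≠ 0 := by
        intro h0
        rw [h0, zero_add, hd, hlen] at hQ
        have := (Nat.cast_inj (R := WithBot ℕ∞)).1 hQ
        lia
      have hm : ∀ p ∈ associatedPrimes A Q, p.IsPrime ∧ p ≠ IsLocalRing.maximalIdeal A := fun p hp => by
        refine ⟨hp.1, fun hpm => hne ?_⟩
        rw [← h xs hmem hQ p hp, hpm]
        exact ringKrullDim_eq_zero_of_isField ((Ideal.Quotient.maximal_ideal_iff_isField_quotient _).1 inferInstance)
      obtain ⟨x, hxm, hx⟩ := CMSop.exists_notMem_of_finite (associatedPrimes.finite A Q) hm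
      refine ⟨xs ++ [x], by simp [hlen], fun y hy => ?_, ?_⟩
      · rcases List.mem_append.1 hy with hy | hy
        · exact hmem y hy
        · rwa [List.mem_singleton.1 hy]
      · rw [RingTheory.Sequence.isWeaklyRegular_append_iff, RingTheory.Sequence.isWeaklyRegular_singleton_iff]
        exact ⟨hreg, CMSop.isSMulRegular_of_forall hx⟩
  obtain ⟨xs, hlen, hmem, hreg⟩ := key d le_rfl
  have hne : IsLocalRing.maximalIdeal A • (⊤ : Submodule A M) ≠ ⊤ :=
    (Submodule.top_ne_ideal_smul_of_le_jacobson_annihilator (IsLocalRing.maximalIdeal_le_jacobson _)).symm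
  have hdepth : LocCoh.depth A M = d := by
    rw [LocCoh.depth, LocCoh.idealDepth, if_neg hne]
    refine le_antisymm (iSup₂_le fun rs hrs => ?_) (le_iSup₂_of_le xs ⟨hreg, hmem⟩ (by rw [hlen]))
    rw [Nat.cast_le]
    have hrs' := RingTheory.Sequence.IsRegular.of_isWeaklyRegular_of_mem_maximalIdeal (L := M) hrs.2 hrs.1
    have h1 := Module.supportDim_add_length_eq_supportDim_of_isRegular rs hrs'
    haveI : Nontrivial (M ⧸ (Ideal.ofList rs • (⊤ : Submodule A M))) :=
      Submodule.Quotient.nontrivial_iff.2 hrs'.top_ne_smul.symm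
    obtain ⟨a, ha⟩ := WithBot.ne_bot_iff_exists.1
      (Module.supportDim_ne_bot_of_nontrivial A (M ⧸ (Ideal.ofList rs • (⊤ : Submodule A M))))
    rw [← ha, hd] at h1
    have h2 : (a : ℕ∞) + (rs.length : ℕ∞) = (d : ℕ∞) := by exact_mod_cast h1
    exact_mod_cast le_of_add_le_right h2.le
  rw [LocCoh.IsCohenMacaulayModule, hdepth, hd]
  rfl

end Groth.Agent.S5759
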