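import Groth.Statements.S5760
-- import your own Groth.Agent.* helpers here
import Groth.Agent.EGA41CM.Localize

set_option autoImplicit false
universe u
open EGA41

namespace Groth.Agent.S5760

/-- Let A be a Noetherian local ring, M a nonzero finitely generated Cohen-Macaulay A-module, p a prime
ideal in the support of M and r the integer dim(M) - dim(M/pM). Then there exists an M-regular
sequence x_1, ..., x_r of elements of p; for every such sequence, dim(M/(x_1 M + ... + x_r M)) =
dim(M/pM) = dim(A/p), and p is a minimal element of the set of associated primes of M/(x_1 M + ... +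
x_r M). -/
theorem result (A : Type u) [CommRing A]
    [IsLocalRing A] [IsNoetherianRing A] (M : Type u) [AddCommGroup M] [Module A M] [Module.Finite A M]
    (hM : LocCoh.IsCohenMacaulayModule A M) (p : PrimeSpectrum A) (hp : p ∈ Module.support A M) (r : ℕ)
    (hr : Module.supportDim A (M ⧸ (p.asIdeal • (⊤ : Submodule A M))) + r = Module.supportDim A M) :
    (∃ xs : List A, xs.length = r ∧ (∀ x ∈ xs, x ∈ p.asIdeal) ∧ RingTheory.Sequence.IsWeaklyRegular M xs) ∧
      ∀ xs : List A, xs.length = r → (∀ x ∈ xs, x ∈ p.asIdeal) → RingTheory.Sequence.IsWeaklyRegular M xs →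
        Module.supportDim A (M ⧸ (Ideal.ofList xs • (⊤ : Submodule A M))) =
            Module.supportDim A (M ⧸ (p.asIdeal • (⊤ : Submodule A M))) ∧
          Module.supportDim A (M ⧸ (p.asIdeal • (⊤ : Submodule A M))) = ringKrullDim (A ⧸ p.asIdeal) ∧
          p.asIdeal ∈ associatedPrimes A (M ⧸ (Ideal.ofList xs • (⊤ : Submodule A M))) ∧
          ∀ q ∈ associatedPrimes A (M ⧸ (Ideal.ofList xs • (⊤ : Submodule A M))), q ≤ p.asIdeal → q = p.asIdeal := by
  rw [Groth.Agent.EGA41CM.supportDim_quotient_prime p hp] at hr ⊢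
  haveI := Groth.Agent.EGA41CM.nontrivial_of_cm hM
  refine ⟨Groth.Agent.EGA41CM.exists_regular_in_prime p r M hM hp hr, fun xs hlen hxs hreg => ?_⟩
  have hxm : ∀ x ∈ xs, x ∈ IsLocalRing.maximalIdeal A :=
    fun x hx => IsLocalRing.le_maximalIdeal p.isPrime.ne_top (hxs x hx)
  have hN := Groth.Agent.EGA41CM.cm_quotient hM hxm hreg
  haveI := Groth.Agent.EGA41CM.nontrivial_of_cm hN
  have h1 := Groth.Agent.EGA41CM.supportDim_quotient_of_regular hxm hreg
  obtain ⟨n, hn⟩ := Groth.Agent.QGorD.exists_nat_supportDim (R := A)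
    (M ⧸ (Ideal.ofList xs • (⊤ : Submodule A M)))
  haveI : Nontrivial (A ⧸ p.asIdeal) := Ideal.Quotient.nontrivial_iff.mpr p.isPrime.ne_top
  obtain ⟨e, he⟩ := Groth.Agent.QGorD.exists_nat_supportDim (R := A) (A ⧸ p.asIdeal)
  rw [Module.supportDim_quotient_eq_ringKrullDim] at he
  have hdim : Module.supportDim A (M ⧸ (Ideal.ofList xs • (⊤ : Submodule A M))) =
      ringKrullDim (A ⧸ p.asIdeal) := by
    rw [hn, he]
    rw [← hr, hn, he, hlen] at h1
    norm_cast at h1 ⊢
    omega
  have hps : p ∈ Module.support A (M ⧸ (Ideal.ofList xs • (⊤ : Submodule A M))) := by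
    rw [Module.support_quotient]
    refine ⟨hp, ?_⟩
    rw [PrimeSpectrum.mem_zeroLocus, SetLike.coe_subset_coe, Ideal.ofList, Ideal.span_le]
    exact hxs
  have hle : ∀ q ∈ associatedPrimes A (M ⧸ (Ideal.ofList xs • (⊤ : Submodule A M))),
      q ≤ p.asIdeal → q = p.asIdeal := fun q hq hqp => by
    haveI := IsAssociatedPrime.isPrime hq
    exact Groth.Agent.EGA41CM.eq_of_dim_quotient_eq hqp
      ((Groth.Agent.EGA41CM.dim_quotient_eq hN hq).trans hdim)
  refine ⟨hdim, rfl, ?_, hle⟩
  obtain ⟨q, hq, hqp⟩ := Ideal.exists_minimalPrimes_le (Module.mem_support_iff_of_finite.mp hps)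
  have := Module.associatedPrimes.minimalPrimes_annihilator_subset_associatedPrimes A _ hq
  exact hle q this hqp ▸ this

end Groth.Agent.S5760
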