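import Groth.Statements.S5764
-- import your own Groth.Agent.* helpers here
import Mathlib

set_option autoImplicit false
universe u
open EGA41

namespace Groth.Agent.S5764

/-- Let B be an integral domain, A a local subring of B which is integrally closed (in its field of
fractions), and suppose B is integral over A. Then dim(B_n) = dim(A) for every maximal ideal n of B. -/
theorem result (A B : Type u) [CommRing A]
    [CommRing B] [IsDomain B] [Algebra A B] (hinj : Function.Injective (algebraMap A B)) [IsDomain A]
    [IsLocalRing A] [IsIntegrallyClosed A] [Algebra.IsIntegral A B] (n : Ideal B) [n.IsMaximal] :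
    ringKrullDim (Localization.AtPrime n) = ringKrullDim A := by
  classical
  haveI : FaithfulSMul A B := (faithfulSMul_iff_algebraMap_injective A B).mpr hinj
  haveI : (n.comap (algebraMap A B)).IsMaximal := Ideal.isMaximal_comap_of_isIntegral_of_isMaximal n
  have hm : n.comap (algebraMap A B) = IsLocalRing.maximalIdeal A := IsLocalRing.eq_maximalIdeal this
  let P : PrimeSpectrum B := ⟨n, inferInstance⟩
  let c : PrimeSpectrum B → PrimeSpectrum A := PrimeSpectrum.comap (algebraMap A B)
  have hc : StrictMono c := fun x y hxy => Ideal.IsIntegral.comap_lt_comap (R := A) hxy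
  rw [IsLocalization.AtPrime.ringKrullDim_eq_height n (Localization.AtPrime n),
    ← IsLocalRing.maximalIdeal_height_eq_ringKrullDim, ← hm]
  congr 1
  show P.asIdeal.height = (c P).asIdeal.height
  rw [PrimeSpectrum.height_eq_orderHeight, PrimeSpectrum.height_eq_orderHeight]
  refine le_antisymm (Order.height_le_height_apply_of_strictMono c hc P) (Order.height_le fun l hl => ?_)
  haveI : P.asIdeal.LiesOver l.last.asIdeal := ⟨by rw [hl]; rfl⟩
  obtain ⟨L, hlen, hlast, -⟩ := Ideal.exists_ltSeries_of_hasGoingDown (S := B) l P.asIdeal
  rw [← hlen]
  exact Order.length_le_height (le_of_eq hlast)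

end Groth.Agent.S5764
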