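import Groth.Statements.S5765
import Mathlib

set_option autoImplicit false
universe u
open EGA41

namespace Groth.Agent.S5765

/-- Let A be a ring, M a finitely generated A-module and p a prime ideal of A. Then dim_{A_p}(M_p) +
dim_A(M/pM) ≤ dim_A(M). -/
theorem result (A : Type u) [CommRing A] (M : Type u)
    [AddCommGroup M] [Module A M] [Module.Finite A M] (p : Ideal A) [p.IsPrime] :
    Module.supportDim (Localization.AtPrime p) (LocalizedModule p.primeCompl M) +
        Module.supportDim A (M ⧸ (p • (⊤ : Submodule A M))) ≤ Module.supportDim A M := by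
  by_cases hp : (⟨p, inferInstance⟩ : PrimeSpectrum A) ∈ Module.support A M
  swap
  · haveI : Subsingleton (LocalizedModule p.primeCompl M) := Module.notMem_support_iff.mp hp
    rw [Module.supportDim_eq_bot_of_subsingleton, WithBot.bot_add]
    exact bot_le
  let P : ↥(Module.support A M) := ⟨⟨p, inferInstance⟩, hp⟩
  have hne : Nonempty ↥(Module.support A M) := ⟨P⟩
  have key : ∀ q ∈ Module.support (Localization.AtPrime p) (LocalizedModule p.primeCompl M),
      PrimeSpectrum.comap (algebraMap A (Localization.AtPrime p)) q ∈ Module.support A M := by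
    intro q hq
    obtain ⟨y, hy⟩ := Module.mem_support_iff_exists_annihilator.mp hq
    obtain ⟨⟨m, s⟩, rfl⟩ : ∃ z : M × p.primeCompl, LocalizedModule.mk z.1 z.2 = y := by
      induction y using LocalizedModule.induction_on with
      | h m s => exact ⟨(m, s), rfl⟩
    refine Module.mem_support_iff_exists_annihilator.mpr ⟨m, fun a ha => ?_⟩
    rw [Submodule.mem_annihilator_span_singleton] at ha
    apply hy
    rw [Submodule.mem_annihilator_span_singleton, algebraMap_smul, LocalizedModule.smul'_mk, ha,
      LocalizedModule.zero_mk]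
  have hle : ∀ q : PrimeSpectrum (Localization.AtPrime p),
      PrimeSpectrum.comap (algebraMap A (Localization.AtPrime p)) q ≤ ⟨p, inferInstance⟩ := by
    intro q
    show q.asIdeal.comap _ ≤ p
    conv_rhs => rw [← IsLocalization.AtPrime.comap_maximalIdeal (Localization.AtPrime p) p]
    exact Ideal.comap_mono (IsLocalRing.le_maximalIdeal q.isPrime.ne_top)
  have h1 : Module.supportDim (Localization.AtPrime p) (LocalizedModule p.primeCompl M) ≤
      Order.krullDim ↥(Set.Iic P) := by
    refine Order.krullDim_le_of_strictMono (fun q => ⟨⟨_, key q.1 q.2⟩, hle q.1⟩) ?_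
    intro a b hab
    have hm : PrimeSpectrum.comap (algebraMap A (Localization.AtPrime p)) a.1 ≤
        PrimeSpectrum.comap (algebraMap A (Localization.AtPrime p)) b.1 := Ideal.comap_mono hab.le
    refine lt_of_le_of_ne hm fun e => hab.ne (Subtype.ext ?_)
    exact PrimeSpectrum.localization_comap_injective _ p.primeCompl
      (congrArg Subtype.val (congrArg Subtype.val e))
  have h2 : Module.supportDim A (M ⧸ (p • (⊤ : Submodule A M))) ≤
      Order.krullDim ↥(Set.Ici P) := by
    have hq : ∀ q ∈ Module.support A (M ⧸ (p • (⊤ : Submodule A M))),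
        q ∈ Module.support A M ∧ q ∈ PrimeSpectrum.zeroLocus (p : Set A) := by
      intro q hq
      rwa [Module.support_quotient] at hq
    exact Order.krullDim_le_of_strictMono
      (fun q => ⟨⟨q.1, (hq q.1 q.2).1⟩, (hq q.1 q.2).2⟩) (fun a b hab => hab)
  refine le_trans (add_le_add h1 h2) ?_
  rw [← Order.height_eq_krullDim_Iic, ← Order.coheight_eq_krullDim_Ici]
  show _ ≤ Order.krullDim ↥(Module.support A M)
  rw [Order.krullDim_eq_iSup_height_add_coheight_of_nonempty]
  exact_mod_cast le_iSup (fun a : ↥(Module.support A M) => Order.height a + Order.coheight a) P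

end Groth.Agent.S5765
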