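import Groth.Statements.S5766
import Mathlib
import Groth.Agent.SegreDim.Noether

set_option autoImplicit false
universe u
open EGA41

namespace Groth.Agent.S5766

/-- Let A be a Noetherian ring, ρ : A → B a ring homomorphism and M a B-module which is finitely
generated as an A-module via ρ. Then the dimension of M as an A-module equals its dimension as a
B-module. -/
theorem result (A B : Type u) [CommRing A] [CommRing B] [IsNoetherianRing A]
    [Algebra A B] (M : Type u) [AddCommGroup M] [Module B M] [Module A M] [IsScalarTower A B M]
    [Module.Finite A M] : Module.supportDim A M = Module.supportDim B M := by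
  haveI : Module.Finite B M := Module.Finite.of_restrictScalars_finite A B M
  rw [Module.supportDim_eq_ringKrullDim_quotient_annihilator,
    Module.supportDim_eq_ringKrullDim_quotient_annihilator]
  have hle : Module.annihilator A M ≤ (Module.annihilator B M).comap (algebraMap A B) := by
    intro a ha
    rw [Ideal.mem_comap, Module.mem_annihilator]
    intro m
    rw [algebraMap_smul]
    exact Module.mem_annihilator.mp ha m
  letI : Algebra (A ⧸ Module.annihilator A M) (B ⧸ Module.annihilator B M) :=
    (Ideal.quotientMap _ (algebraMap A B) hle).toAlgebra
  haveI : IsScalarTower A (A ⧸ Module.annihilator A M) (B ⧸ Module.annihilator B M) :=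
    IsScalarTower.of_algebraMap_eq (fun x => rfl)
  haveI : Module.Finite A (B ⧸ Module.annihilator B M) := by
    let f : (B ⧸ Module.annihilator B M) →ₗ[A] Module.End A M :=
      { toFun := Quotient.lift (fun b => DistribSMul.toLinearMap A M b) (fun a b hab => by
          ext m
          have h := Module.mem_annihilator.mp
            ((Submodule.quotientRel_def _).mp hab) m
          rw [sub_smul, sub_eq_zero] at h
          exact h)
        map_add' := by
          rintro ⟨a⟩ ⟨b⟩
          ext m
          exact add_smul a b m
        map_smul' := by
          rintro c ⟨a⟩
          ext m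
          exact smul_assoc c a m }
    refine Module.Finite.of_injective f ?_
    rintro ⟨a⟩ ⟨b⟩ hab
    refine Quotient.sound ((Submodule.quotientRel_def _).mpr ?_)
    rw [Module.mem_annihilator]
    intro m
    rw [sub_smul, sub_eq_zero]
    exact LinearMap.congr_fun hab m
  haveI : Module.Finite (A ⧸ Module.annihilator A M) (B ⧸ Module.annihilator B M) :=
    Module.Finite.of_restrictScalars_finite A _ _
  refine Groth.Agent.SegreDim.ringKrullDim_eq_of_injective_integral ?_
  show Function.Injective (Ideal.quotientMap _ (algebraMap A B) hle)
  refine Ideal.quotientMap_injective' (fun a ha => ?_)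
  rw [Ideal.mem_comap, Module.mem_annihilator] at ha
  rw [Module.mem_annihilator]
  intro m
  rw [← algebraMap_smul B a m]
  exact ha m

end Groth.Agent.S5766
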