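import Groth.Statements.S5767
import Mathlib

set_option autoImplicit false
universe u
open EGA41

open Pointwise
namespace Groth.Agent.S5767

/-- Let A be a semi-local Noetherian ring, M a finitely generated A-module and x an element of the
Jacobson radical of A. One always has dim(M/xM) ≥ dim(M) - 1; equality dim(M/xM) = dim(M) - 1 holds
if and only if x belongs to none of the prime ideals p of Supp(M) with dim(A/p) = dim(M). Stated as:
dim(M/xM) + 1 = dim(M) iff x avoids those primes. -/
theorem result (A : Type u) [CommRing A] [IsNoetherianRing A]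
    [Finite (MaximalSpectrum A)] (M : Type u) [AddCommGroup M] [Module A M] [Module.Finite A M] (x : A)
    (hx : x ∈ Ring.jacobson A) :
    Module.supportDim A (QuotSMulTop x M) + 1 = Module.supportDim A M ↔
      ∀ p : PrimeSpectrum A, p ∈ Module.support A M →
        ringKrullDim (A ⧸ p.asIdeal) = Module.supportDim A M → x ∉ p.asIdeal := by
  classical
  haveI := Fintype.ofFinite (MaximalSpectrum A)
  obtain ⟨g, hg⟩ : ∃ g : MaximalSpectrum A → ℕ, ∀ m, m.asIdeal.height ≤ (g m : ℕ∞) :=
    ⟨fun m => m.asIdeal.height.toNat, fun m => (ENat.natCast_toNat (Ideal.height_ne_top m.isMaximal.ne_top)).ge⟩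
  have hA : ringKrullDim A ≤ ((Finset.univ.sup g : ℕ) : ℕ∞) := by
    refine (ringKrullDim_le_iff_isMaximal_height_le _).2 fun m hm => ?_
    exact WithBot.coe_le_coe.2 ((hg ⟨m, hm⟩).trans (Nat.cast_le.2 (Finset.le_sup (f := g) (Finset.mem_univ _))))
  have hsup : ∀ p : PrimeSpectrum A, Module.support A (A ⧸ p.asIdeal) = PrimeSpectrum.zeroLocus p.asIdeal := fun p => by
    rw [Module.support_eq_zeroLocus, Ideal.annihilator_quotient]
  have hmono : ∀ (P Q : Type u) [AddCommGroup P] [Module A P] [AddCommGroup Q] [Module A Q],
      Module.support A P ⊆ Module.support A Q → Module.supportDim A P ≤ Module.supportDim A Q := fun P Q _ _ _ _ hs =>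
    Order.krullDim_le_of_strictMono (fun a => ⟨a.1, hs a.2⟩) fun {_ _} lt => lt
  constructor
  · intro h p hp hdim hxp
    have h1 : Module.supportDim A (A ⧸ p.asIdeal) ≤ Module.supportDim A (QuotSMulTop x M) := hmono _ _ fun q hq => by
      rw [hsup] at hq
      rw [Module.support_quotSMulTop]
      exact ⟨Module.mem_support_mono hq hp, Set.singleton_subset_iff.2 (hq hxp)⟩
    rw [Module.supportDim_quotient_eq_ringKrullDim, hdim, ← h] at h1
    have hfin : Module.supportDim A (QuotSMulTop x M) < ⊤ :=
      lt_of_le_of_lt ((Module.supportDim_le_ringKrullDim A _).trans hA) (WithBot.coe_lt_coe.2 (ENat.natCast_lt_top _))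
    generalize Module.supportDim A (QuotSMulTop x M) = D at h1 hfin h
    induction D with
    | bot =>
      have hMne : Module.supportDim A M ≠ ⊥ := by
        haveI : Nontrivial M := Module.nonempty_support_iff.1 ⟨p, hp⟩
        exact Module.supportDim_ne_bot_of_nontrivial A M
      exact hMne (by rw [← h, WithBot.bot_add])
    | coe D =>
      induction D with
      | top => simp at hfin
      | coe k =>
        have h2 : ((k + 1 : ℕ) : WithBot ℕ∞) ≤ (k : ℕ) := by push_cast; exact h1
        have := Nat.cast_le.1 h2
        lia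
  · intro h
    refine le_antisymm ?_ (Module.supportDim_le_supportDim_quotSMulTop_succ_of_mem_jacobson
      (Ideal.jacobson_mono bot_le (by rw [Ideal.jacobson_bot]; exact hx : x ∈ (⊥ : Ideal A).jacobson)))
    rcases subsingleton_or_nontrivial (QuotSMulTop x M) with hQ | hQ
    · rw [Module.supportDim_eq_bot_of_subsingleton, WithBot.bot_add]
      exact bot_le
    haveI : Nontrivial M := (Submodule.mkQ_surjective (x • (⊤ : Submodule A M))).nontrivial
    haveI : Nonempty (Module.support A (QuotSMulTop x M)) := Module.nonempty_support_of_nontrivial.to_subtype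
    haveI : Nonempty (Module.support A M) := Module.nonempty_support_of_nontrivial.to_subtype
    obtain ⟨D, hD⟩ := WithBot.ne_bot_iff_exists.1 (Module.supportDim_ne_bot_of_nontrivial A M)
    rw [← hD]
    simp only [Module.supportDim, Order.krullDim_eq_iSup_length]
    refine WithBot.coe_le_coe.2 ?_
    simp only [ENat.iSup_add, iSup_le_iff]
    intro q
    have hq := q.head.2
    simp only [Module.support_quotSMulTop, Set.mem_inter_iff, PrimeSpectrum.mem_zeroLocus, Set.singleton_subset_iff] at hq
    obtain ⟨r, hrm, hr⟩ := Ideal.exists_minimalPrimes_le (Module.mem_support_iff_of_finite.1 hq.1)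
    have hrs : (⟨r, hrm.isPrime⟩ : PrimeSpectrum A) ∈ Module.support A M := Module.mem_support_iff_of_finite.2 hrm.1.2
    have hsub : Module.support A (QuotSMulTop x M) ⊆ Module.support A M := by
      rw [Module.support_quotSMulTop]; exact Set.inter_subset_left
    let q' : LTSeries (Module.support A M) :=
      q.map (Set.MapsTo.restrict id _ _ hsub) fun _ _ hh => hh
    by_cases hxr : x ∈ r
    · let R0 : PrimeSpectrum A := ⟨r, hrm.isPrime⟩
      have hle : ∀ i, (q i).1 ∈ Module.support A (A ⧸ r) := fun i => by
        rw [hsup R0]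
        exact le_trans hr (q.monotone (Fin.zero_le i))
      let q'' : LTSeries (Module.support A (A ⧸ r)) :=
        { length := q.length, toFun := fun i => ⟨(q i).1, hle i⟩, step := fun i => q.step i }
      have h1 : ((q.length : ℕ∞) : WithBot ℕ∞) ≤ ringKrullDim (A ⧸ r) := by
        rw [← Module.supportDim_quotient_eq_ringKrullDim]
        exact le_iSup_of_le q'' le_rfl
      have h2 : ringKrullDim (A ⧸ r) ≤ (D : WithBot ℕ∞) := by
        rw [hD, ← Module.supportDim_quotient_eq_ringKrullDim]
        exact hmono _ _ fun z hz => Module.mem_support_mono ((hsup R0).le hz) hrs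
      have h3 : ringKrullDim (A ⧸ r) < (D : WithBot ℕ∞) :=
        lt_of_le_of_ne h2 fun he => h R0 hrs (he.trans hD) hxr
      have h4 : (q.length : ℕ∞) < D := WithBot.coe_lt_coe.1 (h1.trans_lt h3)
      exact Order.add_one_le_of_lt h4
    · have hlt : (⟨⟨r, hrm.isPrime⟩, hrs⟩ : Module.support A M) < q'.head :=
        lt_of_le_of_ne hr fun he => hxr (by
          have := congrArg (fun z : Module.support A M => z.1.asIdeal) he
          rw [show r = q'.head.1.asIdeal from this]
          exact hq.2)
      have h5 : ((q.length + 1 : ℕ) : ℕ∞) ≤ D := by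
        refine WithBot.coe_le_coe.1 (le_of_le_of_eq ?_ hD.symm)
        exact le_iSup_of_le (q'.cons _ hlt) (by simp [q'])
      exact_mod_cast h5

end Groth.Agent.S5767
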