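import Groth.Statements.S5768
import Groth.Agent.ParamSemiLoc.Basic

set_option autoImplicit false
universe u
open EGA41

namespace Groth.Agent.S5768

/-- Let A be a semi-local Noetherian ring with Jacobson radical r, M a nonzero finitely generated
A-module and x_1, ..., x_k elements of r. One always has dim(M/(x_1 M + ... + x_k M)) ≥ dim(M) - k,
and equality holds if and only if there exist further elements of r which together with the x_i form
a system of parameters for M (dim(M) elements of r modulo which M has finite length). -/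
theorem result (A : Type u) [CommRing A]
    [IsNoetherianRing A] [Finite (MaximalSpectrum A)] (M : Type u) [AddCommGroup M] [Module A M]
    [Module.Finite A M] [Nontrivial M] (xs : List A) (hxs : ∀ x ∈ xs, x ∈ Ring.jacobson A) :
    Module.supportDim A (M ⧸ (Ideal.ofList xs • (⊤ : Submodule A M))) + xs.length = Module.supportDim A M ↔
      ∃ ys : List A, (∀ y ∈ ys, y ∈ Ring.jacobson A) ∧
        ((xs ++ ys).length : WithBot ℕ∞) = Module.supportDim A M ∧
        IsFiniteLength A (M ⧸ (Ideal.ofList (xs ++ ys) • (⊤ : Submodule A M))) := by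
  set K := Module.annihilator A M
  simp only [ParamSemiLoc.supportDim_quotient_smul_top, ParamSemiLoc.isFiniteLength_quotient_smul_top_iff,
    Module.supportDim_eq_ringKrullDim_quotient_annihilator A M]
  obtain ⟨N, hN⟩ := ParamSemiLoc.exists_ringKrullDim_le (A := A)
  have hbd : ∀ J : Ideal A, ringKrullDim (A ⧸ J) ≤ (N : WithBot ℕ∞) := fun J =>
    (ringKrullDim_quotient_le J).trans hN
  have hne : ringKrullDim (A ⧸ K) ≠ ⊥ := by
    rw [← Module.supportDim_eq_ringKrullDim_quotient_annihilator A M]
    exact Module.supportDim_ne_bot_of_nontrivial A M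
  constructor
  · intro h
    have hne' : ringKrullDim (A ⧸ (K ⊔ Ideal.ofList xs)) ≠ ⊥ := fun hb => hne (by rw [← h, hb, WithBot.bot_add])
    obtain ⟨e, he⟩ := WithBot.ne_bot_iff_exists.1 hne'
    have hle := hbd (K ⊔ Ideal.ofList xs)
    rw [← he] at hle
    obtain ⟨e', rfl⟩ := ENat.ne_top_iff_exists.1 (ne_top_of_le_ne_top (ENat.natCast_ne_top N) (WithBot.coe_le_coe.1 hle))
    obtain ⟨ys, h1, h2, h3⟩ := ParamSemiLoc.exists_parameters e' (K ⊔ Ideal.ofList xs) (le_of_eq he.symm)
    refine ⟨ys, h2, ?_, ?_⟩
    · rw [← h, ← he, List.length_append, h1, Nat.cast_add, add_comm]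
      rfl
    · rwa [Ideal.ofList_append, ← sup_assoc]
  · rintro ⟨ys, hys, hlen, hfin⟩
    rw [Ideal.ofList_append, ← sup_assoc] at hfin
    have h1 : ringKrullDim (A ⧸ (K ⊔ Ideal.ofList xs)) ≤ (ys.length : WithBot ℕ∞) := by
      refine (ParamSemiLoc.ringKrullDim_quotient_le_add ys _ hys).trans ?_
      exact (add_le_add hfin le_rfl).trans (le_of_eq (zero_add _))
    refine le_antisymm ?_ (ParamSemiLoc.ringKrullDim_quotient_le_add xs K hxs)
    refine (add_le_add h1 le_rfl).trans (le_of_eq ?_)
    rw [← hlen, List.length_append, Nat.cast_add, add_comm]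

end Groth.Agent.S5768
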