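import Groth.Statements.S5769
import Mathlib

set_option autoImplicit false
universe u
open EGA41

namespace Groth.Agent.S5769

/-- Let φ : A → B be a local homomorphism of Noetherian local rings, m the maximal ideal of A and k its
residue field. Then dim(B) ≤ dim(A) + dim(B ⊗_A k), where B ⊗_A k = B/mB. -/
theorem result (A B : Type u) [CommRing A] [CommRing B]
    [IsLocalRing A] [IsLocalRing B] [IsNoetherianRing A] [IsNoetherianRing B] [Algebra A B]
    [IsLocalHom (algebraMap A B)] :
    ringKrullDim B ≤ ringKrullDim A +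
      ringKrullDim (B ⧸ (IsLocalRing.maximalIdeal A).map (algebraMap A B)) := by
  let I := (IsLocalRing.maximalIdeal A).map (algebraMap A B)
  have hc : (IsLocalRing.maximalIdeal B).comap (algebraMap A B) = IsLocalRing.maximalIdeal A :=
    ((IsLocalRing.local_hom_TFAE (algebraMap A B)).out 0 4).mp ‹_›
  haveI : (IsLocalRing.maximalIdeal B).LiesOver (IsLocalRing.maximalIdeal A) := ⟨hc.symm⟩
  rw [← IsLocalRing.maximalIdeal_height_eq_ringKrullDim, ← IsLocalRing.maximalIdeal_height_eq_ringKrullDim]
  have h := Ideal.height_le_height_add_of_liesOver (IsLocalRing.maximalIdeal A) (IsLocalRing.maximalIdeal B)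
  refine le_trans (WithBot.coe_le_coe.mpr h) ?_
  push_cast
  gcongr
  apply Ideal.height_le_ringKrullDim_of_ne_top
  intro htop
  have h2 := congrArg (Ideal.comap (Ideal.Quotient.mk I)) htop
  rw [Ideal.comap_map_of_surjective _ Ideal.Quotient.mk_surjective, ← RingHom.ker_eq_comap_bot,
    Ideal.mk_ker, Ideal.comap_top, sup_of_le_left (Ideal.map_le_iff_le_comap.mpr hc.ge)] at h2
  exact (IsLocalRing.maximalIdeal.isMaximal B).ne_top h2

end Groth.Agent.S5769
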