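import Groth.Statements.S5770
import Mathlib
import Groth.Agent.FlatDepth.SupportDim
-- import your own Groth.Agent.* helpers here

set_option autoImplicit false
universe u
open EGA41

namespace Groth.Agent.S5770

open TensorProduct in
/-- Let φ : A → B be a local homomorphism of Noetherian local rings, m the maximal ideal of A, k = A/m,
M a finitely generated A-module and N a finitely generated B-module. Then dim_B(M ⊗_A N) ≤ dim_A(M)
+ dim(N ⊗_A k), the last dimension being that of N/mN (over B ⊗_A k or, equivalently by finiteness,
over B). -/
theorem result (A B : Type u) [CommRing A] [CommRing B] [IsLocalRing A]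
    [IsLocalRing B] [IsNoetherianRing A] [IsNoetherianRing B] [Algebra A B] [IsLocalHom (algebraMap A B)]
    (M : Type u) [AddCommGroup M] [Module A M] [Module.Finite A M] (N : Type u) [AddCommGroup N] [Module B N]
    [Module A N] [IsScalarTower A B N] [Module.Finite B N] :
    Module.supportDim B (N ⊗[A] M) ≤ Module.supportDim A M +
      Module.supportDim B (N ⧸ ((IsLocalRing.maximalIdeal A).map (algebraMap A B) • (⊤ : Submodule B N))) := by
  rcases subsingleton_or_nontrivial M with hM | hM
  · haveI : Subsingleton (TensorProduct A N M) := inferInstance
    rw [(Module.supportDim_eq_bot_iff_subsingleton B (TensorProduct A N M)).2 inferInstance]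
    exact bot_le
  rcases subsingleton_or_nontrivial N with hN | hN
  · rw [(Module.supportDim_eq_bot_iff_subsingleton B (TensorProduct A N M)).2 inferInstance]
    exact bot_le
  exact FlatDepth.supportDim_tensor_le M N

end Groth.Agent.S5770
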