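import Groth.Statements.S5771
-- import your own Groth.Agent.* helpers here
import Groth.Agent.QGorD.Basic
import Groth.Agent.LocH.DepthMisc

set_option autoImplicit false
universe u
open EGA41

namespace Groth.Agent.S5771

/-- Let φ : A → B be a local homomorphism of Noetherian local rings, m the maximal ideal of A, and
suppose mB is an ideal of definition of B (equivalently dim(B/mB) = 0). Then dim(B) ≤ dim(A); if
moreover A is an integral domain and dim(A) = dim(B), then φ is injective. -/
theorem result (A B : Type u) [CommRing A] [CommRing B]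
    [IsLocalRing A] [IsLocalRing B] [IsNoetherianRing A] [IsNoetherianRing B] [Algebra A B]
    [IsLocalHom (algebraMap A B)]
    (hdef : ringKrullDim (B ⧸ (IsLocalRing.maximalIdeal A).map (algebraMap A B)) = 0) :
    ringKrullDim B ≤ ringKrullDim A ∧
      (IsDomain A → ringKrullDim A = ringKrullDim B → Function.Injective (algebraMap A B)) := by
  let J := (IsLocalRing.maximalIdeal A).map (algebraMap A B)
  have key : ∀ (R : Type u) [CommRing R] [IsLocalRing R] [IsNoetherianRing R] [Algebra R B],
      (IsLocalRing.maximalIdeal R).map (algebraMap R B) = J → ringKrullDim B ≤ ringKrullDim R := by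
    intro R _ _ _ _ hR
    have hJ : J ≤ IsLocalRing.maximalIdeal B := Ideal.map_le_iff_le_comap.mpr fun a ha => map_nonunit _ a ha
    haveI : (IsLocalRing.maximalIdeal B).LiesOver (IsLocalRing.maximalIdeal R) := ⟨
      (IsLocalRing.maximalIdeal.isMaximal R).eq_of_le (Ideal.comap_ne_top _ (IsLocalRing.maximalIdeal.isMaximal B).ne_top)
        (Ideal.map_le_iff_le_comap.mp (hR.le.trans hJ))⟩
    have h1 := Ideal.height_le_height_add_of_liesOver (IsLocalRing.maximalIdeal R) (IsLocalRing.maximalIdeal B)
    rw [hR] at h1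
    have h2 : ((((IsLocalRing.maximalIdeal B).map (Ideal.Quotient.mk J)).height : ℕ∞) : WithBot ℕ∞) ≤ 0 := by
      rw [← hdef]
      refine Ideal.height_le_ringKrullDim_of_ne_top fun htop => ?_
      have h3 := congrArg (Ideal.comap (Ideal.Quotient.mk J)) htop
      rw [Ideal.comap_map_of_surjective' _ Ideal.Quotient.mk_surjective, Ideal.mk_ker, sup_eq_left.mpr hJ,
        Ideal.comap_top] at h3
      exact (IsLocalRing.maximalIdeal.isMaximal B).ne_top h3
    rw [← IsLocalRing.maximalIdeal_height_eq_ringKrullDim, ← IsLocalRing.maximalIdeal_height_eq_ringKrullDim,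
      WithBot.coe_le_coe]
    have h4 : ((IsLocalRing.maximalIdeal B).map (Ideal.Quotient.mk J)).height = 0 :=
      le_antisymm (WithBot.coe_le_coe.mp h2) zero_le
    rwa [h4, add_zero] at h1
  refine ⟨key A rfl, fun hdom heq => (injective_iff_map_eq_zero _).mpr fun c hc => ?_⟩
  by_contra hc0
  have hle : Ideal.span {c} ≤ RingHom.ker (algebraMap A B) := (Ideal.span_singleton_le_iff_mem _).mpr hc
  have hne : Ideal.span {c} ≠ ⊤ := fun h => by
    have := hle (h ▸ Submodule.mem_top : (1 : A) ∈ Ideal.span {c})
    rw [RingHom.mem_ker, map_one] at this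
    exact one_ne_zero this
  haveI : Nontrivial (A ⧸ Ideal.span {c}) := Ideal.Quotient.nontrivial_iff.mpr hne
  haveI : IsLocalRing (A ⧸ Ideal.span {c}) :=
    IsLocalRing.of_surjective' (Ideal.Quotient.mk _) Ideal.Quotient.mk_surjective
  letI : Algebra (A ⧸ Ideal.span {c}) B := (Ideal.Quotient.lift _ (algebraMap A B) hle).toAlgebra
  have h5 := key (A ⧸ Ideal.span {c}) (by
    rw [← IsLocalRing.eq_maximalIdeal (Ideal.IsMaximal.map_of_surjective_of_ker_le
      (f := Ideal.Quotient.mk (Ideal.span {c})) (m := IsLocalRing.maximalIdeal A) Ideal.Quotient.mk_surjective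
      (by rw [Ideal.mk_ker]; exact IsLocalRing.le_maximalIdeal hne)), Ideal.map_map]
    rfl)
  have h6 := ringKrullDim_quotient_succ_le_of_nonZeroDivisor (mem_nonZeroDivisors_iff_ne_zero.mpr hc0)
  rw [← heq] at h5
  have h7 := (add_le_add h5 le_rfl).trans h6
  obtain ⟨d, hd⟩ : ∃ d : ℕ, ringKrullDim A = d := by
    obtain ⟨d, hd⟩ := Groth.Agent.QGorD.exists_nat_supportDim (R := A) A
    exact ⟨d, (Module.supportDim_self_eq_ringKrullDim A).symm.trans hd⟩
  rw [hd] at h7
  norm_cast at h7
  omega

end Groth.Agent.S5771
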