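import Groth.Statements.S5773
import Mathlib
import Groth.Agent.InjFibre.RegSeq

set_option autoImplicit false
universe u
open EGA41 Pointwise
set_option linter.style.haveILetI false

namespace Groth.Agent.S5773

open Pointwise TensorProduct

set_option linter.style.haveILetI false

/-- flatness ascends from a quotient by a regular element -/
theorem flat_of_flat_quot {A B N : Type u} [CommRing A] [CommRing B] [IsLocalRing A] [IsLocalRing B]
    [IsNoetherianRing A] [IsNoetherianRing B] [Algebra A B] [IsLocalHom (algebraMap A B)] [AddCommGroup N]
    [Module B N] [Module A N] [IsScalarTower A B N] [Module.Finite B N] (f : B) (hf : f ∈ IsLocalRing.maximalIdeal B)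
    (hreg : IsSMulRegular N f) {Q : Type u} [AddCommGroup Q] [Module A Q] (π : N →ₗ[A] Q) (hπ : Function.Surjective π)
    (hex : Function.Exact (fun x : N => f • x) π) (h : Module.Flat A Q) : Module.Flat A N := by
  refine LocalCrit.flat_of_mulMap_injective B ?_
  let m := IsLocalRing.maximalIdeal A
  haveI : Module.Finite B (N ⊗[A] m) := LocalCrit.finite_tensor_ideal m (IsNoetherian.noetherian m)
  let θ : N ⊗[A] m →ₗ[B] N :=
    (AlgebraTensorModule.rid A B N).toLinearMap ∘ₗ AlgebraTensorModule.lTensor B N (Submodule.subtype m)
  have hθ : ∀ z, θ z = LocalCrit.mulMap m N (TensorProduct.comm A N m z) := by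
    intro z
    induction z with
    | zero => simp
    | tmul a x => simp [θ]
    | add a b ha hb => simp only [map_add, ha, hb]
  suffices hK : Function.Injective θ by
    intro a b hab
    apply (TensorProduct.comm A N m).symm.injective
    apply hK
    simpa [hθ] using hab
  let g : N →ₗ[A] N := (LinearMap.lsmul B N f).restrictScalars A
  have step : ∀ z, θ z = 0 → ∃ w, θ w = 0 ∧ f • w = z := by
    intro z hz
    haveI := h
    have h0 : π.rTensor m z = 0 := by
      have hinj := Module.Flat.lTensor_preserves_injective_linearMap (M := Q) (Submodule.subtype m)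
        (Submodule.injective_subtype _)
      refine hinj ((TensorProduct.rid A _).injective ?_)
      rw [map_zero, map_zero]
      have : ∀ z, TensorProduct.rid A _ ((Submodule.subtype m).lTensor _ (π.rTensor m z)) = π (θ z) := by
        intro z
        induction z with
        | zero => simp
        | tmul a x => simp [θ]
        | add a b ha hb => simp only [map_add, ha, hb]
      rw [this, hz, map_zero]
    obtain ⟨w, hw⟩ := ((rTensor_exact m (f := g) hex hπ) z).1 h0
    have hw' : f • w = z := by
      rw [← hw]
      clear hw
      induction w with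
      | zero => simp
      | tmul a x => simp [g, TensorProduct.smul_tmul']
      | add a b ha hb => simp only [map_add, smul_add, ha, hb]
    refine ⟨w, hreg ?_, hw'⟩
    change f • θ w = f • (0 : N)
    rw [smul_zero, ← map_smul, hw', hz]
  have hpow : ∀ (n : ℕ) z, θ z = 0 → z ∈ IsLocalRing.maximalIdeal B ^ n • (⊤ : Submodule B (N ⊗[A] m)) := by
    intro n
    induction n with
    | zero => intro z _; simp
    | succ n ih =>
      intro z hz
      obtain ⟨w, hw, rfl⟩ := step z hz
      rw [pow_succ', Submodule.mul_smul]
      exact Submodule.smul_mem_smul hf (ih w hw)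
  refine (injective_iff_map_eq_zero θ).2 fun z hz => ?_
  exact (Submodule.mem_bot B).1 ((Ideal.iInf_pow_smul_eq_bot_of_isLocalRing (IsLocalRing.maximalIdeal B)
    (IsLocalRing.maximalIdeal.isMaximal B).ne_top (M := N ⊗[A] m)) ▸ Submodule.mem_iInf _ |>.2 fun n => hpow n z hz)

/-- Let A → B be a local homomorphism of Noetherian local rings, M a finitely generated B-module and
f_1, ..., f_n elements of the maximal ideal of B forming an M-regular sequence. If the quotient
M/(f_1 M + ... + f_n M) is flat over A, then all the quotients M/(f_1 M + ... + f_i M) for 0 ≤ i ≤ n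
(in particular M) are flat over A. -/
theorem result (A B : Type u) [CommRing A] [CommRing B]
    [IsLocalRing A] [IsLocalRing B] [IsNoetherianRing A] [IsNoetherianRing B] [Algebra A B]
    [IsLocalHom (algebraMap A B)] (M : Type u) [AddCommGroup M] [Module B M] [Module A M]
    [IsScalarTower A B M] [Module.Finite B M] (fs : List B) (hfs : ∀ f ∈ fs, f ∈ IsLocalRing.maximalIdeal B)
    (hreg : RingTheory.Sequence.IsWeaklyRegular M fs)
    (hflat : Module.Flat A (M ⧸ (Ideal.ofList fs • (⊤ : Submodule B M)))) (i : ℕ) (hi : i ≤ fs.length) :
    Module.Flat A (M ⧸ (Ideal.ofList (fs.take i) • (⊤ : Submodule B M))) := by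
  classical
  induction hn : fs.length - i generalizing i with
  | zero =>
    rw [List.take_of_length_le (by omega)]
    exact hflat
  | succ k ih =>
    haveI := ih (i + 1) (by omega) (by omega)
    let P : Submodule B M := Ideal.ofList (fs.take i) • ⊤
    have hi' : i < fs.length := by omega
    let f := fs[i]
    let P' : Submodule B M := Ideal.ofList (fs.take (i + 1)) • ⊤
    have hP : P' = P ⊔ f • (⊤ : Submodule B M) := by
      simp only [P, P', f, List.take_succ_eq_append_getElem hi', Ideal.ofList_append, Ideal.ofList_singleton,
        Submodule.sup_smul, Submodule.ideal_span_singleton_smul]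
    have hle : P ≤ P' := hP ▸ le_sup_left
    refine flat_of_flat_quot f (hfs _ (List.getElem_mem hi')) (hreg.regular_mod_prev i hi')
      ((Submodule.factor hle).restrictScalars A) (Submodule.factor_surjective hle) (fun x => ?_) ‹_›
    obtain ⟨r, rfl⟩ := Submodule.mkQ_surjective P x
    constructor
    · intro h
      have hr : r ∈ P' := (Submodule.Quotient.mk_eq_zero P').1 h
      rw [hP, Submodule.mem_sup] at hr
      obtain ⟨a, ha, b, hb, rfl⟩ := hr
      obtain ⟨c, -, rfl⟩ := (Submodule.mem_smul_pointwise_iff_exists _ _ _).1 hb
      exact ⟨P.mkQ c, by simp [(Submodule.Quotient.mk_eq_zero P).2 ha]⟩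
    · rintro ⟨y, hy⟩
      obtain ⟨c, rfl⟩ := Submodule.mkQ_surjective P y
      rw [← hy]
      change Submodule.factor hle (f • P.mkQ c) = 0
      rw [← map_smul]
      exact (Submodule.Quotient.mk_eq_zero P').2 (hP ▸ Submodule.mem_sup_right (Submodule.smul_mem_pointwise_smul c f _ trivial))

end Groth.Agent.S5773
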