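import Groth.Statements.S5775
import Mathlib
import Groth.Agent.InjFibre.RegSeq
import Groth.Agent.LocalCrit.Fibre

set_option autoImplicit false
universe u
open EGA41 Pointwise
set_option linter.style.haveILetI false

namespace Groth.Agent.S5775

/-- a submodule with flat quotient is pure on fibres -/
theorem fibre_mem {A K V W : Type u} [CommRing A] [AddCommGroup K] [Module A K] [AddCommGroup V] [Module A V]
    [AddCommGroup W] [Module A W] [Module.Flat A W] (ι : K →ₗ[A] V) (hι : Function.Injective ι) (π : V →ₗ[A] W)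
    (hπ : Function.Surjective π) (hex : Function.Exact ι π) (m : Ideal A) (x : K)
    (hx : ι x ∈ m • (⊤ : Submodule A V)) : x ∈ m • (⊤ : Submodule A K) :=
  (LocalCrit.quot_lTensor_injective_iff m ι).1
    (LinearMap.lTensor_injective_of_exact_of_flat π hπ ι hι hex _) x hx

theorem pure_mem {A B K V W : Type u} [CommRing A] [CommRing B] [Algebra A B] [AddCommGroup K] [Module A K] [Module B K]
    [IsScalarTower A B K] [AddCommGroup V] [Module A V] [Module B V] [IsScalarTower A B V]
    [AddCommGroup W] [Module A W] [Module B W] [IsScalarTower A B W] [Module.Flat A W] (ι : K →ₗ[B] V)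
    (hι : Function.Injective ι) (π : V →ₗ[B] W) (hπ : Function.Surjective π) (hex : Function.Exact ι π) (m : Ideal A)
    (x : K) (hx : ι x ∈ m.map (algebraMap A B) • (⊤ : Submodule B V)) :
    x ∈ m.map (algebraMap A B) • (⊤ : Submodule B K) :=
  (InjFibre.mem_smul_top_iff m x).2 (fibre_mem (ι.restrictScalars A) hι (π.restrictScalars A) hπ hex m x
    ((InjFibre.mem_smul_top_iff m _).1 hx))

/-- Let A → B be a local homomorphism of Noetherian local rings, m the maximal ideal of A, M a finitely
generated B-module flat over A and R a B-submodule of M such that M/R is flat over A. Let f_1, ...,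
f_n be elements of the maximal ideal of B such that (i) f_i M ⊆ R for all i, (ii) the images of the
f_i form an (M/mM)-regular sequence, and (iii) the submodule f_1 (M/mM) + ... + f_n (M/mM) is the
image of R in M/mM. Then (f_i) is an M-regular sequence and R = f_1 M + ... + f_n M. -/
theorem result (A B : Type u) [CommRing A] [CommRing B] [IsLocalRing A]
    [IsLocalRing B] [IsNoetherianRing A] [IsNoetherianRing B] [Algebra A B] [IsLocalHom (algebraMap A B)]
    (M : Type u) [AddCommGroup M] [Module B M] [Module A M] [IsScalarTower A B M] [Module.Finite B M]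
    [Module.Flat A M] (R : Submodule B M) (hR : Module.Flat A (M ⧸ R)) (fs : List B)
    (hfs : ∀ f ∈ fs, f ∈ IsLocalRing.maximalIdeal B) (h1 : Ideal.ofList fs • (⊤ : Submodule B M) ≤ R)
    (h2 : RingTheory.Sequence.IsWeaklyRegular
      (M ⧸ ((IsLocalRing.maximalIdeal A).map (algebraMap A B) • (⊤ : Submodule B M))) fs)
    (h3 : Ideal.ofList fs • (⊤ : Submodule B
        (M ⧸ ((IsLocalRing.maximalIdeal A).map (algebraMap A B) • (⊤ : Submodule B M)))) =
      R.map ((IsLocalRing.maximalIdeal A).map (algebraMap A B) • (⊤ : Submodule B M)).mkQ) :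
    RingTheory.Sequence.IsWeaklyRegular M fs ∧ R = Ideal.ofList fs • (⊤ : Submodule B M) := by
  classical
  obtain ⟨hw, hfl⟩ := InjFibre.regSeq_noeth M fs h2
  refine ⟨hw, le_antisymm ?_ h1⟩
  set I : Submodule B M := Ideal.ofList fs • ⊤ with hI
  let J := (IsLocalRing.maximalIdeal A).map (algebraMap A B)
  let K : Submodule B (M ⧸ I) := R.map I.mkQ
  haveI := hR
  let ι : K →ₗ[B] M ⧸ I := K.subtype
  let π : (M ⧸ I) →ₗ[B] M ⧸ R := Submodule.factor h1
  have hex : Function.Exact ι π := fun x => by
    obtain ⟨r, rfl⟩ := Submodule.mkQ_surjective I x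
    constructor
    · intro h
      exact ⟨⟨_, r, (Submodule.Quotient.mk_eq_zero R).1 h, rfl⟩, rfl⟩
    · rintro ⟨⟨_, r', hr', rfl⟩, hy⟩
      rw [← hy]
      exact (Submodule.Quotient.mk_eq_zero R).2 hr'
  have htop : (⊤ : Submodule B K) ≤ J • ⊤ := by
    rintro ⟨_, r, hr, rfl⟩ -
    refine pure_mem ι K.injective_subtype π (Submodule.factor_surjective _) hex _ _ ?_
    change I.mkQ r ∈ J • (⊤ : Submodule B (M ⧸ I))
    have h4 : (J • (⊤ : Submodule B M)).mkQ r ∈
        Ideal.ofList fs • (⊤ : Submodule B (M ⧸ J • (⊤ : Submodule B M))) := h3.symm ▸ ⟨r, hr, rfl⟩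
    rw [show (⊤ : Submodule B (M ⧸ J • (⊤ : Submodule B M))) = (⊤ : Submodule B M).map (J • (⊤ : Submodule B M)).mkQ by
        rw [Submodule.map_top, Submodule.range_mkQ], ← Submodule.map_smul'', ← Submodule.mem_comap,
      Submodule.comap_map_mkQ] at h4
    obtain ⟨a, ha, b, hb, rfl⟩ := Submodule.mem_sup.1 h4
    rw [map_add, show I.mkQ b = 0 from (Submodule.Quotient.mk_eq_zero I).2 hb, add_zero]
    have := Submodule.mem_map_of_mem (f := I.mkQ) ha
    rw [Submodule.map_smul''] at this
    exact Submodule.smul_mono le_rfl le_top this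
  haveI : Module.Finite B K := Module.Finite.iff_fg.2 (IsNoetherian.noetherian K)
  have hbot : (⊤ : Submodule B K) = ⊥ := Submodule.eq_bot_of_le_smul_of_le_jacobson_bot J _ Module.Finite.fg_top htop
    (by rw [IsLocalRing.jacobson_eq_maximalIdeal (⊥ : Ideal B) bot_ne_top]; exact LocalCrit.map_maximalIdeal_le)
  intro r hr
  have : (⟨I.mkQ r, r, hr, rfl⟩ : K) ∈ (⊥ : Submodule B K) := hbot ▸ trivial
  exact (Submodule.Quotient.mk_eq_zero I).1 (congrArg Subtype.val ((Submodule.mem_bot B).1 this))

end Groth.Agent.S5775
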