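import Groth.Statements.S5776
import Mathlib

set_option autoImplicit false
universe u
open EGA41

namespace Groth.Agent.S5776

open RingTheory.Sequence Pointwise

set_option linter.style.haveILetI false

/-- Weak regularity passes to extensions. -/
theorem wr_ext {A : Type u} [CommRing A] : ∀ (rs : List A) (M' M M'' : Type u) [AddCommGroup M'] [Module A M']
    [AddCommGroup M] [Module A M] [AddCommGroup M''] [Module A M''] (i : M' →ₗ[A] M) (p : M →ₗ[A] M''),
    Function.Injective i → Function.Exact i p → Function.Surjective p →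
      IsWeaklyRegular M' rs → IsWeaklyRegular M'' rs → IsWeaklyRegular M rs
  | [], _, M, _, _, _, _, _, _, _, _, _, _, _, _, _, _ => IsWeaklyRegular.nil A M
  | r :: rs, M', M, M'', _, _, _, _, _, _, i, p, hi, hex, hp, h', h'' => by
    obtain ⟨a', b'⟩ := (isWeaklyRegular_cons_iff _ _ _).1 h'
    obtain ⟨a'', b''⟩ := (isWeaklyRegular_cons_iff _ _ _).1 h''
    refine (isWeaklyRegular_cons_iff _ _ _).2
      ⟨isSMulRegular_of_range_eq_ker hi hex.linearMap_ker_eq.symm a' a'', ?_⟩
    have h0 : Function.Exact (0 : PUnit →ₗ[A] M') i := by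
      intro x
      rw [map_eq_zero_iff i hi]
      exact ⟨fun hx => ⟨0, hx.symm⟩, fun ⟨_, hx⟩ => hx.symm⟩
    have hex2 := QuotSMulTop.map_first_exact_on_four_term_exact_of_isSMulRegular_last (R := A) (M := PUnit) h0 hex a''
    have hinj : Function.Injective (QuotSMulTop.map r i) := by
      rw [injective_iff_map_eq_zero]
      intro x hx
      obtain ⟨y, rfl⟩ := (hex2 x).1 hx
      simp
    exact wr_ext rs _ _ _ (QuotSMulTop.map r i) (QuotSMulTop.map r p) hinj (QuotSMulTop.map_exact r hex hp)
      (QuotSMulTop.map_surjective r hp) b' b''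

theorem cons_pow {A : Type u} [CommRing A] {M : Type u} [AddCommGroup M] [Module A M] {x : A} {rs : List A}
    (hx : IsSMulRegular M x) (h : IsWeaklyRegular (QuotSMulTop x M) rs) (v : ℕ) :
    IsWeaklyRegular M (x ^ v :: rs) := by
  refine (isWeaklyRegular_cons_iff _ _ _).2 ⟨hx.pow v, ?_⟩
  induction v with
  | zero =>
    haveI : Subsingleton (QuotSMulTop (x ^ 0) M) := by
      rw [Submodule.Quotient.subsingleton_iff, pow_zero, one_smul]
    refine (isWeaklyRegular_iff _ _).2 fun i hi a b _ => Subsingleton.elim _ _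
  | succ v ih =>
    have hle : x ^ (v + 1) • (⊤ : Submodule A M) ≤ (x ^ v • ⊤ : Submodule A M) := by
      intro y hy
      obtain ⟨z, -, rfl⟩ := (Submodule.mem_smul_pointwise_iff_exists _ _ _).1 hy
      exact (Submodule.mem_smul_pointwise_iff_exists _ _ _).2 ⟨x • z, trivial, by rw [pow_succ, mul_smul]⟩
    let p : QuotSMulTop (x ^ (v + 1)) M →ₗ[A] QuotSMulTop (x ^ v) M := Submodule.factor hle
    let i : QuotSMulTop x M →ₗ[A] QuotSMulTop (x ^ (v + 1)) M :=
      Submodule.mapQ _ _ (x ^ v • LinearMap.id) (by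
        intro y hy
        obtain ⟨z, -, rfl⟩ := (Submodule.mem_smul_pointwise_iff_exists _ _ _).1 hy
        exact (Submodule.mem_smul_pointwise_iff_exists _ _ _).2 ⟨z, trivial, by rw [pow_succ, mul_smul, LinearMap.smul_apply, LinearMap.id_apply]⟩)
    refine wr_ext rs _ _ _ i p ?_ ?_ ?_ h ih
    · rw [injective_iff_map_eq_zero]
      intro y hy
      obtain ⟨y, rfl⟩ := Submodule.Quotient.mk_surjective _ y
      change Submodule.Quotient.mk (x ^ v • y) = 0 at hy
      rw [Submodule.Quotient.mk_eq_zero] at hy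
      obtain ⟨z, -, hz⟩ := (Submodule.mem_smul_pointwise_iff_exists _ _ _).1 hy
      rw [pow_succ, mul_smul] at hz
      exact (Submodule.Quotient.mk_eq_zero _).2
        ((Submodule.mem_smul_pointwise_iff_exists _ _ _).2 ⟨z, trivial, hx.pow v hz⟩)
    · intro y
      obtain ⟨y, rfl⟩ := Submodule.Quotient.mk_surjective _ y
      change Submodule.Quotient.mk y = 0 ↔ _
      rw [Submodule.Quotient.mk_eq_zero]
      constructor
      · intro hy
        obtain ⟨z, -, rfl⟩ := (Submodule.mem_smul_pointwise_iff_exists _ _ _).1 hy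
        exact ⟨Submodule.Quotient.mk z, rfl⟩
      · rintro ⟨z, hz⟩
        obtain ⟨z, rfl⟩ := Submodule.Quotient.mk_surjective _ z
        change Submodule.Quotient.mk (x ^ v • z) = _ at hz
        have h1 := hle ((Submodule.Quotient.eq _).1 hz)
        have h2 : x ^ v • z ∈ (x ^ v • ⊤ : Submodule A M) := Submodule.smul_mem_pointwise_smul _ _ _ trivial
        simpa using Submodule.sub_mem _ h2 h1
    · exact Submodule.factor_surjective hle

/-- Let A be a ring, M an A-module and (f_i)_{1 ≤ i ≤ n} an M-regular sequence of elements of A. Then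
for any exponents v_i ≥ 1 the sequence (f_i ^ v_i) is again M-regular. -/
theorem result (A : Type u) [CommRing A] (M : Type u) [AddCommGroup M]
    [Module A M] (n : ℕ) (f : Fin n → A) (v : Fin n → ℕ) (hv : ∀ i, 1 ≤ v i)
    (hf : RingTheory.Sequence.IsWeaklyRegular M (List.ofFn f)) :
    RingTheory.Sequence.IsWeaklyRegular M (List.ofFn fun i => f i ^ v i) := by
  induction n generalizing M with
  | zero => simp [List.ofFn_zero]
  | succ n ih =>
    rw [List.ofFn_succ] at hf ⊢
    obtain ⟨h1, h2⟩ := (RingTheory.Sequence.isWeaklyRegular_cons_iff _ _ _).1 hf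
    exact cons_pow h1 (ih (QuotSMulTop (f 0) M) (fun i => f i.succ) (fun i => v i.succ) (fun i => hv _) h2) (v 0)

end Groth.Agent.S5776
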