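import Groth.Statements.S5779
-- import your own Groth.Agent.* helpers here
import Groth.Agent.S0558

set_option autoImplicit false
universe u
open EGA41

namespace Groth.Agent.S5779

/-- Let A be a Noetherian local ring with maximal ideal m and residue field k, (x_i)_{1 ≤ i ≤ r}
elements of m and J = x_1 A + ... + x_r A. Then A is regular with the classes of the x_i in m/m²
linearly independent over k (equivalently: the x_i are part of a regular system of parameters) if
and only if the x_i are part of a system of parameters of A (dim(A/J) = dim(A) - r) and A/J is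
regular. When these conditions hold, J is a prime ideal. -/
theorem result (A : Type u) [CommRing A] [IsLocalRing A]
    [IsNoetherianRing A] (r : ℕ) (x : Fin r → IsLocalRing.maximalIdeal A) :
    ((IsRegularLocalRing A ∧
        LinearIndependent (IsLocalRing.ResidueField A)
          (fun i => (IsLocalRing.maximalIdeal A).toCotangent (x i))) ↔
      (ringKrullDim (A ⧸ Ideal.span (Set.range fun i => (x i : A))) + r = ringKrullDim A ∧
        IsRegularLocalRing (A ⧸ Ideal.span (Set.range fun i => (x i : A))))) ∧
    (IsRegularLocalRing (A ⧸ Ideal.span (Set.range fun i => (x i : A))) →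
      ringKrullDim (A ⧸ Ideal.span (Set.range fun i => (x i : A))) + r = ringKrullDim A →
        (Ideal.span (Set.range fun i => (x i : A))).IsPrime) := by
  classical
  let m := IsLocalRing.maximalIdeal A
  let k := IsLocalRing.ResidueField A
  let J := Ideal.span (Set.range fun i => (x i : A))
  have hJm : J ≤ m := Ideal.span_le.mpr (by rintro _ ⟨i, rfl⟩; exact (x i).2)
  haveI : Nontrivial (A ⧸ J) := Ideal.Quotient.nontrivial_iff.mpr (fun h => (Ideal.IsPrime.ne_top' (I := m)) (top_le_iff.mp (h ▸ hJm)))
  haveI : IsLocalRing (A ⧸ J) := IsLocalRing.of_surjective' (Ideal.Quotient.mk J) Ideal.Quotient.mk_surjective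
  let q := Ideal.Quotient.mk J
  have hqs : Function.Surjective q := Ideal.Quotient.mk_surjective
  have hcomap : (IsLocalRing.maximalIdeal (A ⧸ J)).comap q = m := by
    haveI : ((IsLocalRing.maximalIdeal (A ⧸ J)).comap q).IsMaximal := Ideal.comap_isMaximal_of_surjective q hqs
    exact IsLocalRing.eq_maximalIdeal this
  have hmap : m.map q = IsLocalRing.maximalIdeal (A ⧸ J) := by rw [← hcomap, Ideal.map_comap_of_surjective q hqs]
  let v : Fin r → IsLocalRing.CotangentSpace A := fun i => m.toCotangent (x i)
  let S : Submodule k (IsLocalRing.CotangentSpace A) := Submodule.span k (Set.range v)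
  let e := (IsLocalRing.maximalIdeal (A ⧸ J)).spanFinrank
  let d := Module.finrank k (IsLocalRing.CotangentSpace A)
  let s := Module.finrank k S
  have hsr : s ≤ r := le_trans (finrank_range_le_card v) (le_of_eq (Fintype.card_fin r))
  -- upper bound
  have h1 : d ≤ s + e := by
    have hfg : (IsLocalRing.maximalIdeal (A ⧸ J)).FG := IsNoetherian.noetherian _
    obtain ⟨g, hg⟩ := Submodule.FG.exists_span_set_encard_eq_spanFinrank hfg
    have hgfin : g.Finite := Set.finite_of_encard_eq_coe hg.1
    have hsub : ∀ y ∈ g, ∃ z : m, q z = y := fun y hy => by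
      obtain ⟨z, rfl⟩ := hqs y
      have : q z ∈ IsLocalRing.maximalIdeal (A ⧸ J) := hg.2 ▸ Submodule.subset_span hy
      exact ⟨⟨z, hcomap ▸ this⟩, rfl⟩
    choose z hz using hsub
    haveI := hgfin.fintype
    let w : g → IsLocalRing.CotangentSpace A := fun y => m.toCotangent (z y y.2)
    have htop : S ⊔ Submodule.span k (Set.range w) = ⊤ := by
      let T : Set m := Set.range x ∪ Set.range fun y : g => z y y.2
      have hT : Submodule.span A T = ⊤ := by
        apply Submodule.map_injective_of_injective (f := m.subtype) Subtype.val_injective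
        rw [Submodule.map_span, Submodule.map_top, Submodule.range_subtype]
        refine le_antisymm (Ideal.span_le.mpr (by rintro _ ⟨a, -, rfl⟩; exact a.2)) fun a ha => ?_
        let K := Ideal.span (m.subtype '' T)
        have hJK : J ≤ K := Ideal.span_mono (by rintro _ ⟨i, rfl⟩; exact ⟨x i, Or.inl ⟨i, rfl⟩, rfl⟩)
        have hle : IsLocalRing.maximalIdeal (A ⧸ J) ≤ K.map q := by
          rw [← hg.2]
          exact Ideal.span_le.mpr fun y hy =>
            hz y hy ▸ Ideal.mem_map_of_mem q (Ideal.subset_span ⟨z y hy, Or.inr ⟨⟨y, hy⟩, rfl⟩, rfl⟩)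
        have hqa : q a ∈ K.map q := hle (hmap ▸ Ideal.mem_map_of_mem q ha)
        have : a ∈ (K.map q).comap q := hqa
        rwa [Ideal.comap_map_of_surjective' q hqs, Ideal.mk_ker, sup_eq_left.mpr hJK] at this
      rw [← Submodule.span_union]
      have := IsLocalRing.CotangentSpace.span_image_eq_top_iff.mpr hT
      rwa [Set.image_union, ← Set.range_comp, ← Set.range_comp] at this
    calc d = Module.finrank k (⊤ : Submodule k (IsLocalRing.CotangentSpace A)) := (finrank_top k _).symm
      _ = Module.finrank k ↥(S ⊔ Submodule.span k (Set.range w)) := by rw [htop]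
      _ ≤ s + Module.finrank k (Submodule.span k (Set.range w)) := Submodule.finrank_add_le_finrank_add_finrank _ _
      _ ≤ s + Fintype.card g := Nat.add_le_add_left (finrank_range_le_card w) _
      _ = s + e := by
        rw [← Nat.card_eq_fintype_card, Nat.card_coe_set_eq, Set.ncard_def, hg.1]
        rfl
  -- lower bound
  have h2 : e + s ≤ d := by
    obtain ⟨W, hW⟩ := S.exists_isCompl
    let b := Module.finBasis k W
    choose z hz using fun i => m.toCotangent_surjective (b i : IsLocalRing.CotangentSpace A)
    let T : Set m := Set.range x ∪ Set.range z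
    have hT : Submodule.span A T = ⊤ := by
      rw [← IsLocalRing.CotangentSpace.span_image_eq_top_iff, Set.image_union, ← Set.range_comp, ← Set.range_comp,
        Submodule.span_union, ← top_le_iff, ← hW.sup_eq_top]
      refine sup_le_sup le_rfl ?_
      rw [show (m.toCotangent ∘ z) = W.subtype ∘ b from funext hz, Set.range_comp, ← Submodule.map_span, b.span_eq,
        Submodule.map_top, Submodule.range_subtype]
    have hsp : IsLocalRing.maximalIdeal (A ⧸ J) = Ideal.span (Set.range fun i => q (z i)) := by
      refine le_antisymm ?_ (Ideal.span_le.mpr (by rintro _ ⟨i, rfl⟩; exact hmap ▸ Ideal.mem_map_of_mem q (z i).2))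
      rw [← hmap, Ideal.map_le_iff_le_comap]
      intro a ha
      have : (⟨a, ha⟩ : m) ∈ Submodule.span A T := hT ▸ Submodule.mem_top
      refine Submodule.span_induction (p := fun (y : m) _ => q y ∈ Ideal.span (Set.range fun i => q (z i))) ?_ ?_ ?_ ?_ this
      · rintro _ (⟨i, rfl⟩ | ⟨i, rfl⟩)
        · rw [show q (x i) = 0 from Ideal.Quotient.eq_zero_iff_mem.mpr (Ideal.subset_span ⟨i, rfl⟩)]
          exact zero_mem _
        · exact Ideal.subset_span ⟨i, rfl⟩
      · simp
      · exact fun a b _ _ ha hb => by simpa using add_mem ha hb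
      · exact fun c a _ ha => by simpa using Ideal.mul_mem_left _ (q c) ha
    have he : e ≤ Module.finrank k W := by
      show (IsLocalRing.maximalIdeal (A ⧸ J)).spanFinrank ≤ _
      rw [hsp]
      refine (Submodule.spanFinrank_span_le_ncard_of_finite (Set.finite_range _)).trans ?_
      rw [← Set.image_univ]
      exact (Set.ncard_image_le Set.finite_univ).trans (by simp)
    have := Submodule.finrank_add_eq_of_isCompl hW
    omega
  have hdim : ringKrullDim A ≤ ringKrullDim (A ⧸ J) + r := by
    refine (ringKrullDim_le_ringKrullDim_quotient_add_card (Finset.univ.image fun i => (x i : A)) ?_).trans ?_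
    · intro a ha
      simp only [Finset.coe_image, Finset.coe_univ, Set.image_univ, Set.mem_range] at ha
      obtain ⟨i, rfl⟩ := ha
      exact (IsLocalRing.ringJacobson_eq_maximalIdeal A).symm ▸ (x i).2
    · rw [Finset.coe_image, Finset.coe_univ, Set.image_univ]
      gcongr
      exact_mod_cast Finset.card_image_le.trans (by simp)
  have hA := ringKrullDim_le_spanFinrank_maximalIdeal A
  rw [IsLocalRing.spanFinrank_maximalIdeal_eq_finrank_cotangentSpace] at hA
  have hQ := ringKrullDim_le_spanFinrank_maximalIdeal (A ⧸ J)
  refine ⟨⟨fun ⟨hreg, hli⟩ => ?_, fun ⟨hdimeq, hreg⟩ => ?_⟩, fun hreg _ => ?_⟩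
  · have hs : s = r := (finrank_span_eq_card hli).trans (Fintype.card_fin r)
    have hd : ringKrullDim A = (d : WithBot ℕ∞) := ((IsRegularLocalRing.iff_finrank_cotangentSpace A).mp hreg).symm
    have he : d = e + r := by omega
    rw [hd, he, Nat.cast_add] at hdim
    have hle : ringKrullDim (A ⧸ J) + r ≤ (e : WithBot ℕ∞) + r := by gcongr
    have heq : ringKrullDim (A ⧸ J) + r = ringKrullDim A := by
      rw [hd, he, Nat.cast_add]; exact le_antisymm hle hdim
    refine ⟨heq, IsRegularLocalRing.of_spanFinrank_maximalIdeal_le _ ?_⟩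
    revert hdim
    generalize ringKrullDim (A ⧸ J) = X
    show (e : WithBot ℕ∞) + r ≤ X + r → (e : WithBot ℕ∞) ≤ X
    intro h
    induction X using WithBot.recBotCoe with
    | bot => simp [WithBot.bot_add] at h
    | coe a =>
      have h' : (e : ℕ∞) + r ≤ a + r := by exact_mod_cast h
      exact_mod_cast (ENat.add_le_add_iff_right (ENat.natCast_ne_top r)).mp h'
  · have he : ringKrullDim (A ⧸ J) = (e : WithBot ℕ∞) := (IsRegularLocalRing.spanFinrank_maximalIdeal).symm
    rw [he, ← Nat.cast_add] at hdimeq
    have h3 : e + r ≤ d := by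
      have := hdimeq.trans_le hA
      exact_mod_cast this
    refine ⟨(IsRegularLocalRing.iff_finrank_cotangentSpace A).mpr ?_, ?_⟩
    · rw [← hdimeq]; exact_mod_cast (show d = e + r by omega)
    · exact linearIndependent_iff_card_eq_finrank_span.mpr (by rw [Fintype.card_fin]; exact (show r = s by omega))
  · haveI := Groth.Agent.S0558.result (A ⧸ J)
    exact (Ideal.Quotient.isDomain_iff_prime J).mp inferInstance

end Groth.Agent.S5779
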