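import Groth.Statements.S5780
import Mathlib

set_option autoImplicit false
universe u
open EGA41

namespace Groth.Agent.S5780

/-- Let A be a Noetherian local ring with maximal ideal m. If every element of m which is not in m² is a
zero divisor in A, then there is a nonzero c in A with c m = 0, i.e. m is an associated prime of A. -/
theorem result (A : Type u) [CommRing A]
    [IsLocalRing A] [IsNoetherianRing A]
    (h : ∀ a ∈ IsLocalRing.maximalIdeal A, a ∉ IsLocalRing.maximalIdeal A ^ 2 → ¬ IsSMulRegular A a) :
    IsLocalRing.maximalIdeal A ∈ associatedPrimes A A := by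
  classical
  set m := IsLocalRing.maximalIdeal A with hm
  have hfin : (associatedPrimes A A).Finite := associatedPrimes.finite A A
  have hsub : (m : Set A) ⊆ ⋃ i ∈ (insert (m ^ 2) hfin.toFinset : Finset (Ideal A)), (i : Set A) := by
    intro a ha
    rw [Set.mem_iUnion₂]
    by_cases h2 : a ∈ m ^ 2
    · exact ⟨m ^ 2, Finset.mem_insert_self _ _, h2⟩
    · have h3 := h a ha h2
      have h4 : a ∈ ⋃ p ∈ associatedPrimes A A, (p : Set A) := by
        rw [biUnion_associatedPrimes_eq_zero_divisors]
        rw [isSMulRegular_iff_right_eq_zero_of_smul] at h3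
        push Not at h3
        obtain ⟨y, hy1, hy2⟩ := h3
        exact ⟨y, hy2, hy1⟩
      obtain ⟨p, hp, hap⟩ := Set.mem_iUnion₂.mp h4
      exact ⟨p, Finset.mem_insert_of_mem (hfin.mem_toFinset.mpr hp), hap⟩
  obtain ⟨i, hi, hle⟩ := (Ideal.subset_union_prime (m ^ 2) (m ^ 2) (fun i hi h1 _ => by
    rcases Finset.mem_insert.mp hi with h' | h'
    · exact absurd h' h1
    · exact IsAssociatedPrime.isPrime (hfin.mem_toFinset.mp h'))).mp hsub
  rcases Finset.mem_insert.mp hi with rfl | hi'
  · have hbot : m = ⊥ := by
      refine Submodule.eq_bot_of_le_smul_of_le_jacobson_bot m m (IsNoetherian.noetherian m) ?_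
        (IsLocalRing.maximalIdeal_le_jacobson _)
      rw [smul_eq_mul, ← sq]; exact hle
    obtain ⟨p, hp⟩ := associatedPrimes.nonempty A A
    have : p = m := by
      refine le_antisymm (IsLocalRing.le_maximalIdeal hp.isPrime.ne_top) ?_
      rw [hbot]; exact bot_le
    exact this ▸ hp
  · have hp := hfin.mem_toFinset.mp hi'
    rwa [show i = m from le_antisymm (IsLocalRing.le_maximalIdeal hp.isPrime.ne_top) hle] at hp

end Groth.Agent.S5780
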