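import Groth.Statements.S5781
-- import your own Groth.Agent.* helpers here
import Mathlib

set_option autoImplicit false
universe u
open EGA41

namespace Groth.Agent.S5781

/-- Suppose A is a Noetherian local ring whose maximal ideal is m, and take a ∈ m with a ∉ m². Then the
quotient m/am contains a direct summand isomorphic to m/Aa: concretely, one can find A-linear maps f
: m/Aa → m/am and g : m/am → m/Aa such that g ∘ f is the identity. -/
theorem result (A : Type u) [CommRing A] [IsLocalRing A]
    [IsNoetherianRing A] (a : A) (ha : a ∈ IsLocalRing.maximalIdeal A) (ha2 : a ∉ IsLocalRing.maximalIdeal A ^ 2) :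
    ∃ (f : (↥(IsLocalRing.maximalIdeal A) ⧸ Submodule.span A {(⟨a, ha⟩ : ↥(IsLocalRing.maximalIdeal A))}) →ₗ[A]
          QuotSMulTop a ↥(IsLocalRing.maximalIdeal A))
      (g : QuotSMulTop a ↥(IsLocalRing.maximalIdeal A) →ₗ[A]
          (↥(IsLocalRing.maximalIdeal A) ⧸ Submodule.span A {(⟨a, ha⟩ : ↥(IsLocalRing.maximalIdeal A))})),
      g.comp f = LinearMap.id := by
  open Pointwise in
  classical
  set m := IsLocalRing.maximalIdeal A
  let v : m.Cotangent := m.toCotangent ⟨a, ha⟩
  have hv : v ≠ 0 := fun h => ha2 ((Ideal.toCotangent_eq_zero m ⟨a, ha⟩).mp h)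
  obtain ⟨W, hW⟩ := Submodule.exists_isCompl (Submodule.span (IsLocalRing.ResidueField A) {(v : IsLocalRing.CotangentSpace A)})
  let N : Submodule A m := (W.restrictScalars A).comap m.toCotangent
  let L := Submodule.span A {(⟨a, ha⟩ : m)}
  let p : N →ₗ[A] QuotSMulTop a m := (Submodule.mkQ _).comp N.subtype
  let q : N →ₗ[A] m ⧸ L := (Submodule.mkQ _).comp N.subtype
  have hq : Function.Surjective q := fun z => by
    obtain ⟨y, rfl⟩ := Submodule.mkQ_surjective L z
    have hmem : m.toCotangent y ∈ Submodule.span (IsLocalRing.ResidueField A) {(v : IsLocalRing.CotangentSpace A)} ⊔ W := by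
      rw [hW.sup_eq_top]; trivial
    obtain ⟨s, hs, w, hw, hsw⟩ := Submodule.mem_sup.mp hmem
    obtain ⟨c, rfl⟩ := Submodule.mem_span_singleton.mp hs
    obtain ⟨r, rfl⟩ := IsLocalRing.residue_surjective c
    refine ⟨⟨y - r • ⟨a, ha⟩, ?_⟩, ?_⟩
    · show m.toCotangent (y - r • ⟨a, ha⟩) ∈ W
      rw [map_sub, map_smul]
      have : m.toCotangent y - r • v = w := by
        rw [← hsw, ← algebraMap_smul (IsLocalRing.ResidueField A) r v]
        exact add_sub_cancel_left _ _
      exact (this ▸ hw : m.toCotangent y - r • v ∈ W)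
    · refine (Submodule.Quotient.eq L).mpr ?_
      simp [L, Submodule.mem_span_singleton]
  have hker : LinearMap.ker q ≤ LinearMap.ker p := fun y hy => by
    have hy' : (y : m) ∈ L := (Submodule.Quotient.mk_eq_zero L).mp hy
    obtain ⟨r, hr⟩ := Submodule.mem_span_singleton.mp hy'
    have hrv : algebraMap A (IsLocalRing.ResidueField A) r • (v : IsLocalRing.CotangentSpace A) ∈ W := by
      rw [algebraMap_smul]
      have := y.2
      rw [Submodule.mem_comap, ← hr, map_smul] at this
      exact this
    have h0 := Submodule.disjoint_def.mp hW.disjoint _ (Submodule.smul_mem _ _ (Submodule.mem_span_singleton_self _)) hrv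
    have hrm : r ∈ m := (IsLocalRing.residue_eq_zero_iff r).mp ((smul_eq_zero.mp h0).resolve_right hv)
    refine (Submodule.Quotient.mk_eq_zero _).mpr ?_
    show (y : m) ∈ a • (⊤ : Submodule A m)
    rw [← hr]
    exact ⟨⟨r, hrm⟩, trivial, Subtype.ext (by simp [mul_comm])⟩
  let g : QuotSMulTop a m →ₗ[A] m ⧸ L := Submodule.liftQ _ (Submodule.mkQ L) (by
    rintro _ ⟨y, -, rfl⟩
    refine (Submodule.Quotient.mk_eq_zero L).mpr (Submodule.mem_span_singleton.mpr ⟨y, Subtype.ext ?_⟩)
    simp [mul_comm])
  refine ⟨(LinearMap.ker q).liftQ p hker ∘ₗ (q.quotKerEquivOfSurjective hq).symm.toLinearMap, g, LinearMap.ext fun z => ?_⟩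
  obtain ⟨y, rfl⟩ := hq z
  have : (q.quotKerEquivOfSurjective hq).symm (q y) = Submodule.Quotient.mk y := by
    rw [LinearEquiv.symm_apply_eq]; rfl
  simp only [LinearMap.comp_apply, LinearEquiv.coe_coe, this, Submodule.liftQ_apply, LinearMap.id_apply]
  rfl

end Groth.Agent.S5781
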