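import Groth.Statements.S5782
import Groth.Agent.SerreReg.Basic
import Mathlib

set_option autoImplicit false
open Groth.Agent
universe u
open CategoryTheory
open EGA41

namespace Groth.Agent.S5782

/-- Let A be a Noetherian local ring with maximal ideal m, E a finitely generated A-module of finite
projective dimension, and a ∈ m an element which is A-regular and E-regular. Then E/aE, as a module
over A/aA, has finite projective dimension at most the projective dimension of E over A. -/
theorem result (A : Type u) [CommRing A] [IsLocalRing A]
    [IsNoetherianRing A] (E : Type u) [AddCommGroup E] [Module A E] [Module.Finite A E]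
    (hfin : projectiveDimension (ModuleCat.of A E) ≠ ⊤) (a : A) (ha : a ∈ IsLocalRing.maximalIdeal A)
    (hA : IsSMulRegular A a) (hE : IsSMulRegular E a) :
    projectiveDimension (ModuleCat.of (A ⧸ Ideal.span {a}) (E ⧸ (Ideal.span {a} • (⊤ : Submodule A E)))) ≤
      projectiveDimension (ModuleCat.of A E) := by
  classical
  refine le_of_forall_ge fun N hN => ?_
  induction N with
  | bot =>
    rw [le_bot_iff, projectiveDimension_eq_bot_iff, ModuleCat.isZero_iff_subsingleton] at hN ⊢
    exact (Submodule.mkQ_surjective _).subsingleton
  | coe N =>
    induction N with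
    | top => exact le_top
    | coe k =>
      replace hN := (projectiveDimension_le_iff _ k).1 hN
      refine (projectiveDimension_le_iff _ k).2 ?_
      refine SerreReg.pdLE_modX (x := a) (S := A ⧸ Ideal.span {a}) Ideal.Quotient.mk_surjective (fun r => ?_) hA k E _
        (Submodule.mkQ (Ideal.span {a} • (⊤ : Submodule A E))) (Submodule.mkQ_surjective _) (fun m => ?_) hE hN
      · rw [Ideal.Quotient.algebraMap_eq, Ideal.Quotient.eq_zero_iff_mem, Ideal.mem_span_singleton]
        rfl
      · rw [Submodule.mkQ_apply, Submodule.Quotient.mk_eq_zero, Submodule.ideal_span_singleton_smul,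
          Submodule.mem_smul_pointwise_iff_exists]
        exact ⟨fun ⟨y, _, hy⟩ => ⟨y, hy.symm⟩, fun ⟨y, hy⟩ => ⟨y, trivial, hy.symm⟩⟩

end Groth.Agent.S5782
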