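import Groth.Statements.S5783
import Groth.Agent.CMChart.Ring
import Groth.Agent.SerreReg.CM

set_option autoImplicit false
universe u
open EGA41

namespace Groth.Agent.S5783

/-- Let A be a regular local ring, B a local ring and ρ : A → B a local homomorphism making B a finitely
generated A-module. Then B is a free A-module if and only if B is a Cohen-Macaulay ring and ρ is
injective (the latter being equivalent to dim(B) = dim(A)). -/
theorem result (A B : Type u) [CommRing A] [CommRing B]
    [IsRegularLocalRing A] [IsLocalRing B] [Algebra A B] [IsLocalHom (algebraMap A B)] [Module.Finite A B] :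
    Module.Free A B ↔ LocCoh.IsCohenMacaulayLocalRing B ∧ Function.Injective (algebraMap A B) := by
  haveI : Algebra.IsIntegral A B := Algebra.IsIntegral.of_finite A B
  have hfib : ∀ J : Ideal B, J.IsPrime → J.comap (algebraMap A B) = IsLocalRing.maximalIdeal A →
      J = IsLocalRing.maximalIdeal B := fun J hJ hJc =>
    IsLocalRing.eq_maximalIdeal (Ideal.isMaximal_of_isIntegral_of_isMaximal_comap J
      (hJc ▸ IsLocalRing.maximalIdeal.isMaximal A))
  haveI : IsNoetherianRing B := IsNoetherianRing.of_finite A B
  constructor
  · intro h
    haveI := h
    haveI : Module.FaithfullyFlat A B := Module.FaithfullyFlat.of_flat_of_isLocalHom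
    exact ⟨Groth.Agent.CMChart.isCohenMacaulayLocalRing_of_flat (R := A) hfib,
      FaithfulSMul.algebraMap_injective A B⟩
  · rintro ⟨_, hinj⟩
    haveI := Groth.Agent.CMChart.flat_of_cohenMacaulay (R := A) (S := B) hfib
      (Groth.Agent.SerreReg.ringKrullDim_le_of_isIntegral hinj)
    exact Module.free_of_flat_of_isLocalRing

end Groth.Agent.S5783
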