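import Groth.Statements.S5788
import Mathlib

set_option autoImplicit false
universe u
open CategoryTheory
open EGA41

namespace Groth.Agent.S5788

/-- Let A be a ring, M an A-module and n ≥ 0. Then M has injective dimension at most n if and only if
Ext^(n+1)_A(N, M) = 0 for every monogenous A-module N, i.e. for every N of the form A/I with I an
ideal of A. -/
theorem result (A : Type u) [CommRing A] (M : Type u)
    [AddCommGroup M] [Module A M] (n : ℕ) :
    HasInjectiveDimensionLT (ModuleCat.of A M) (n + 1) ↔
      ∀ I : Ideal A, Subsingleton (Abelian.Ext (ModuleCat.of A (A ⧸ I)) (ModuleCat.of A M) (n + 1)) := by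
  classical
  refine ⟨fun h I => HasInjectiveDimensionLT.subsingleton _ (n + 1) (n + 1) le_rfl _, ?_⟩
  suffices key : ∀ (n : ℕ) (M : ModuleCat.{u} A),
      (∀ I : Ideal A, Subsingleton (Abelian.Ext (ModuleCat.of A (A ⧸ I)) M (n + 1))) → HasInjectiveDimensionLT M (n + 1) from
    key n (ModuleCat.of A M)
  intro n
  induction n with
  | zero =>
    intro M h
    rw [← injective_iff_hasInjectiveDimensionLT_one]
    suffices Module.Injective A M from Module.injective_object_of_injective_module A M
    refine Module.Baer.injective fun I g => ?_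
    let S : ShortComplex (ModuleCat.{u} A) := ShortComplex.mk
      (ModuleCat.ofHom (X := I) (Y := A) I.subtype) (ModuleCat.ofHom (X := A) (Y := A ⧸ I) (Submodule.mkQ I))
      (ModuleCat.hom_ext (LinearMap.ext fun x => (Submodule.Quotient.mk_eq_zero I).2 x.2))
    have hS : S.ShortExact :=
      { exact := (ShortComplex.ShortExact.moduleCat_exact_iff_function_exact S).2 (LinearMap.exact_subtype_mkQ I)
        mono_f := (ModuleCat.mono_iff_injective _).2 I.injective_subtype
        epi_g := (ModuleCat.epi_iff_surjective _).2 I.mkQ_surjective }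
    haveI : Subsingleton (Abelian.Ext S.X₃ M (0 + 1)) := h I
    obtain ⟨φ, hφ⟩ := Abelian.Ext.contravariant_sequence_exact₁ hS M
      (Abelian.Ext.mk₀ (ModuleCat.ofHom g : S.X₁ ⟶ M)) (add_zero 1) (Subsingleton.elim _ _)
    obtain ⟨φ', rfl⟩ := (Abelian.Ext.mk₀_bijective S.X₂ M).2 φ
    rw [Abelian.Ext.mk₀_comp_mk₀, (Abelian.Ext.mk₀_bijective _ _).1.eq_iff] at hφ
    exact ⟨φ'.hom, fun x hx => congrArg (fun k => k.hom ⟨x, hx⟩) hφ⟩
  | succ m ih =>
    intro M h
    let P := (EnoughInjectives.presentation M).some
    let S := ShortComplex.mk P.f (Limits.cokernel.π P.f) (Limits.cokernel.condition P.f)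
    have hS : S.ShortExact := { exact := ShortComplex.exact_cokernel P.f }
    refine (hS.hasInjectiveDimensionLT_X₃_iff m P.injective).1 (ih _ fun I => ?_)
    haveI := h I
    refine subsingleton_of_forall_eq 0 fun e => ?_
    obtain ⟨x, hx⟩ := Abelian.Ext.covariant_sequence_exact₃ _ hS e (rfl : m + 1 + 1 = m + 1 + 1) (Subsingleton.elim _ _)
    haveI : Injective S.X₂ := P.injective
    rw [← hx, x.eq_zero_of_injective, Abelian.Ext.zero_comp]

end Groth.Agent.S5788
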