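import Groth.Statements.S5786
import Groth.Agent.SerreReg.Basic
import Groth.Agent.S5804
import Mathlib

set_option autoImplicit false
open Groth.Agent TensorProduct
universe u
open CategoryTheory
open EGA41

namespace Groth.Agent.S5786

/-- Let φ : A → B be a local homomorphism of Noetherian local rings making B a flat A-module. Then the
global (cohomological) dimension of A is at most that of B: if every B-module has projective
dimension at most n, then so does every A-module. -/
theorem result (A B : Type u) [CommRing A] [CommRing B] [IsLocalRing A]
    [IsLocalRing B] [IsNoetherianRing A] [IsNoetherianRing B] [Algebra A B] [IsLocalHom (algebraMap A B)]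
    [Module.Flat A B] (n : ℕ)
    (hB : ∀ (N : Type u) [AddCommGroup N] [Module B N], HasProjectiveDimensionLT (ModuleCat.of B N) (n + 1))
    (M : Type u) [AddCommGroup M] [Module A M] : HasProjectiveDimensionLT (ModuleCat.of A M) (n + 1) := by
  classical
  haveI : Module.FaithfullyFlat A B := Module.FaithfullyFlat.of_flat_of_isLocalHom
  suffices key : ∀ (k : ℕ) (N : Type u) [AddCommGroup N] [Module A N] [Module.Finite A N],
      HasProjectiveDimensionLT (ModuleCat.of B (B ⊗[A] N)) (k + 1) → HasProjectiveDimensionLT (ModuleCat.of A N) (k + 1) from
    Groth.Agent.S5804.result A n (fun I => key n _ (hB _)) M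
  intro k
  induction k with
  | zero =>
    intro N _ _ _ h
    rw [← projective_iff_hasProjectiveDimensionLT_one, ← IsProjective.iff_projective] at h ⊢
    haveI := h
    haveI : Module.Flat B (B ⊗[A] N) := inferInstance
    haveI : Module.Flat A N := Module.Flat.of_flat_tensorProduct A N B
    haveI : Module.FinitePresentation A N := Module.finitePresentation_of_finite A N
    exact Module.Flat.projective_of_finitePresentation
  | succ m ih =>
    intro N _ _ _ h
    obtain ⟨r, π, hπ⟩ := Module.Finite.exists_fin' A N
    haveI : Module.Finite A (LinearMap.ker π) := Module.Finite.iff_fg.mpr (IsNoetherian.noetherian _)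
    let T : ShortComplex (ModuleCat.{u} B) :=
      ShortComplex.mk (ModuleCat.ofHom (X := B ⊗[A] LinearMap.ker π) (Y := B ⊗[A] (Fin r → A))
        ((LinearMap.ker π).subtype.baseChange B))
        (ModuleCat.ofHom (X := B ⊗[A] (Fin r → A)) (Y := B ⊗[A] N) (π.baseChange B))
        (ModuleCat.hom_ext (LinearMap.ext fun x =>
          ((Module.Flat.lTensor_exact B (LinearMap.exact_subtype_ker_map π)).apply_apply_eq_zero x)))
    have hT : T.ShortExact :=
      { exact := (ShortComplex.ShortExact.moduleCat_exact_iff_function_exact T).2
          (Module.Flat.lTensor_exact B (LinearMap.exact_subtype_ker_map π))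
        mono_f := (ModuleCat.mono_iff_injective _).2
          (Module.Flat.lTensor_preserves_injective_linearMap _ (LinearMap.ker π).injective_subtype)
        epi_g := (ModuleCat.epi_iff_surjective _).2 (LinearMap.lTensor_surjective B hπ) }
    have hP : Module.Projective B (B ⊗[A] (Fin r → A)) := Module.Projective.tensorProduct
    have hK := (hT.hasProjectiveDimensionLT_X₃_iff m ((IsProjective.iff_projective (B ⊗[A] (Fin r → A))).1 hP)).1 h
    exact (SerreReg.pdLE_succ_iff π hπ m).2 (ih _ hK)

end Groth.Agent.S5786
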