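import Groth.Statements.S5789
import Mathlib

set_option autoImplicit false
universe u
open CategoryTheory
open EGA41

namespace Groth.Agent.S5789

/-- Let A be a Noetherian ring, M a finitely generated A-module and n ≥ 0. Then M has projective
dimension at most n if and only if Ext^(n+1)_A(M, N) = 0 for every monogenous A-module N, i.e. every
N = A/I with I an ideal. -/
theorem result (A : Type u) [CommRing A] [IsNoetherianRing A]
    (M : Type u) [AddCommGroup M] [Module A M] [Module.Finite A M] (n : ℕ) :
    HasProjectiveDimensionLT (ModuleCat.of A M) (n + 1) ↔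
      ∀ I : Ideal A, Subsingleton (Abelian.Ext (ModuleCat.of A M) (ModuleCat.of A (A ⧸ I)) (n + 1)) := by
  classical
  refine ⟨fun h I => HasProjectiveDimensionLT.subsingleton _ (n + 1) (n + 1) le_rfl _, fun h => ?_⟩
  refine ModuleCat.hasProjectiveDimensionLT_of_forall_finite _ (n + 1) fun L hL => ?_
  suffices key : ∀ (N : Type u) [AddCommGroup N] [Module A N] (k : ℕ) (g : Fin k → N),
      Submodule.span A (Set.range g) = ⊤ → Subsingleton (Abelian.Ext (ModuleCat.of A M) (ModuleCat.of A N) (n + 1)) by
    obtain ⟨k, g, hg⟩ := Module.Finite.exists_fin (R := A) (M := L)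
    exact key L k g hg
  intro N _ _ k
  induction k generalizing N with
  | zero =>
    intro g hg
    have : Subsingleton N := by
      rw [Set.range_eq_empty, Submodule.span_empty] at hg
      exact (Submodule.subsingleton_iff A).1 (subsingleton_of_bot_eq_top hg)
    have h0 : Limits.IsZero (ModuleCat.of A N) := ModuleCat.isZero_of_subsingleton _
    refine subsingleton_of_forall_eq 0 fun e => ?_
    rw [← e.comp_mk₀_id, h0.eq_of_src (𝟙 _) 0, Abelian.Ext.mk₀_zero, Abelian.Ext.comp_zero]
  | succ k ih =>
    intro g hg
    let N' : Submodule A N := Submodule.span A (Set.range fun i : Fin k => g i.castSucc)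
    let π : A →ₗ[A] N ⧸ N' := N'.mkQ.comp (LinearMap.toSpanSingleton A N (g (Fin.last k)))
    have hπ : Function.Surjective π := by
      rw [← LinearMap.range_eq_top, eq_top_iff]
      rintro y -
      obtain ⟨x, rfl⟩ := Submodule.Quotient.mk_surjective N' y
      have hx : x ∈ Submodule.span A (Set.range g) := hg.symm ▸ trivial
      induction hx using Submodule.span_induction with
      | mem y hy =>
        obtain ⟨i, rfl⟩ := hy
        rcases Fin.eq_castSucc_or_eq_last i with ⟨j, rfl⟩ | rfl
        · exact ⟨0, by rw [map_zero, eq_comm, Submodule.Quotient.mk_eq_zero]; exact Submodule.subset_span ⟨j, rfl⟩⟩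
        · exact ⟨1, by simp [π]⟩
      | zero => exact zero_mem _
      | add a b _ _ ha hb => exact add_mem ha hb
      | smul r a _ ha => exact Submodule.smul_mem _ r ha
    have h1 : Subsingleton (Abelian.Ext (ModuleCat.of A M) (ModuleCat.of A N') (n + 1)) := by
      refine ih N' (fun i => ⟨g i.castSucc, Submodule.subset_span ⟨i, rfl⟩⟩) ?_
      apply Submodule.map_injective_of_injective N'.injective_subtype
      rw [Submodule.map_span, Submodule.map_top, Submodule.range_subtype, ← Set.range_comp]
      rfl
    haveI := h1
    let S : ShortComplex (ModuleCat.{u} A) := ShortComplex.mk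
      (ModuleCat.ofHom (X := N') (Y := N) N'.subtype) (ModuleCat.ofHom (X := N) (Y := N ⧸ N') N'.mkQ)
      (ModuleCat.hom_ext (LinearMap.ext fun x => (Submodule.Quotient.mk_eq_zero N').2 x.2))
    have hS : S.ShortExact :=
      { exact := (ShortComplex.ShortExact.moduleCat_exact_iff_function_exact S).2 (LinearMap.exact_subtype_mkQ N')
        mono_f := (ModuleCat.mono_iff_injective _).2 N'.injective_subtype
        epi_g := (ModuleCat.epi_iff_surjective _).2 N'.mkQ_surjective }
    let iso : ModuleCat.of A (A ⧸ LinearMap.ker π) ≅ S.X₃ := (LinearMap.quotKerEquivOfSurjective π hπ).toModuleIso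
    haveI := h (LinearMap.ker π)
    refine subsingleton_of_forall_eq 0 fun x => ?_
    have h3 : x.comp (Abelian.Ext.mk₀ S.g) (add_zero (n + 1)) = 0 := by
      generalize x.comp (Abelian.Ext.mk₀ S.g) (add_zero (n + 1)) = y
      have hy := Subsingleton.elim (y.comp (Abelian.Ext.mk₀ iso.inv) (add_zero (n + 1))) 0
      have := congrArg (fun z => z.comp (Abelian.Ext.mk₀ iso.hom) (add_zero (n + 1))) hy
      simpa using this
    obtain ⟨w, hw⟩ := Abelian.Ext.covariant_sequence_exact₂ _ hS x h3
    rw [← hw, Subsingleton.elim w 0, Abelian.Ext.zero_comp]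

end Groth.Agent.S5789
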