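import Groth.Statements.S5790
import Groth.Agent.LocH.Localize
import Mathlib

set_option autoImplicit false
open Groth.Agent
universe u
open CategoryTheory
open EGA41

namespace Groth.Agent.S5790

/-- Suppose A is a Noetherian ring and consider any A-module M. Taking the supremum, over all prime
ideals p, of the injective dimension of M_p as an A_p-module yields the injective dimension of M;
put differently, for each n, the injective dimension of M is at most n exactly when, for every prime
p, the injective dimension of M_p over A_p is at most n. -/
theorem result (A : Type u) [CommRing A] [IsNoetherianRing A]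
    (M : Type u) [AddCommGroup M] [Module A M] (n : ℕ) :
    HasInjectiveDimensionLT (ModuleCat.of A M) (n + 1) ↔
      ∀ p : PrimeSpectrum A, HasInjectiveDimensionLT
        (ModuleCat.of (Localization.AtPrime p.asIdeal) (LocalizedModule p.asIdeal.primeCompl M)) (n + 1) := by
  refine (ModuleCat.hasInjectiveDimensionLE_iff_forall_primeSpectrum n (ModuleCat.of A M)).trans
    (forall_congr' fun p => ?_)
  refine ⟨fun h => ?_, fun h => ?_⟩
  · haveI : HasInjectiveDimensionLT ((LocH.locFunctor p.asIdeal.primeCompl).obj (ModuleCat.of A M)) (n + 1) := h
    exact hasInjectiveDimensionLT_of_iso (LocH.localizedIso p.asIdeal.primeCompl M) (n + 1)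
  · haveI := h
    exact hasInjectiveDimensionLT_of_iso (LocH.localizedIso p.asIdeal.primeCompl M).symm (n + 1)

end Groth.Agent.S5790
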