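import Groth.Statements.S5791
import Groth.Agent.SerreReg.Basic
import Groth.Agent.LocH.SpreadPd
import Mathlib

set_option autoImplicit false
open Groth.Agent TensorProduct
universe u
open CategoryTheory
open EGA41

namespace Groth.Agent.S5791

/-- Let A be a Noetherian ring and M a finitely generated A-module. The projective dimension of M is the
supremum over the prime ideals p of the projective dimensions of M_p over A_p; equivalently, for
every n, M has projective dimension at most n if and only if every M_p has projective dimension at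
most n over A_p. -/
theorem result (A : Type u) [CommRing A] [IsNoetherianRing A]
    (M : Type u) [AddCommGroup M] [Module A M] [Module.Finite A M] (n : ℕ) :
    HasProjectiveDimensionLT (ModuleCat.of A M) (n + 1) ↔
      ∀ p : PrimeSpectrum A, HasProjectiveDimensionLT
        (ModuleCat.of (Localization.AtPrime p.asIdeal) (LocalizedModule p.asIdeal.primeCompl M)) (n + 1) := by
  classical
  suffices key : ∀ (k : ℕ) (N : Type u) [AddCommGroup N] [Module A N] [Module.Finite A N],
      HasProjectiveDimensionLT (ModuleCat.of A N) (k + 1) ↔
        ∀ p : PrimeSpectrum A, LocH.pdLT p.asIdeal.primeCompl N (k + 1) from key n M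
  intro k
  induction k with
  | zero =>
    intro N _ _ _
    obtain ⟨r, π, hπ⟩ := Module.Finite.exists_fin' A N
    rw [← projective_iff_hasProjectiveDimensionLT_one, ← IsProjective.iff_projective]
    refine ⟨fun h p => ?_, fun h => ?_⟩
    · obtain ⟨g, hg⟩ := Module.projective_lifting_property π LinearMap.id hπ
      exact (LocH.pdLT_one_iff _ N π hπ).2 ⟨g, 1, one_mem _, fun m => by
        rw [one_smul]; exact LinearMap.congr_fun hg m⟩
    · let J : Ideal A :=
        { carrier := {a | ∃ g : N →ₗ[A] (Fin r → A), ∀ m, π (g m) = a • m}
          add_mem' := fun {a b} ⟨g, hg⟩ ⟨g', hg'⟩ => ⟨g + g', fun m => by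
            rw [LinearMap.add_apply, map_add, hg, hg', add_smul]⟩
          zero_mem' := ⟨0, fun m => by rw [LinearMap.zero_apply, map_zero, zero_smul]⟩
          smul_mem' := fun c a ⟨g, hg⟩ => ⟨c • g, fun m => by
            rw [LinearMap.smul_apply, map_smul, hg, smul_smul, smul_eq_mul]⟩ }
      have hJ : J = ⊤ := by
        by_contra hne
        obtain ⟨P, hP, hle⟩ := Ideal.exists_le_maximal J hne
        obtain ⟨g, a, ha, hg⟩ := (LocH.pdLT_one_iff _ N π hπ).1 (h ⟨P, hP.isPrime⟩)
        exact ha (hle ⟨g, hg⟩)
      obtain ⟨g, hg⟩ : (1 : A) ∈ J := hJ.symm ▸ Submodule.mem_top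
      exact Module.Projective.of_split g π (LinearMap.ext fun m => by
        rw [LinearMap.comp_apply, hg, one_smul, LinearMap.id_apply])
  | succ m ih =>
    intro N _ _ _
    obtain ⟨r, π, hπ⟩ := Module.Finite.exists_fin' A N
    haveI : Module.Finite A (LinearMap.ker π) := Module.Finite.iff_fg.mpr (IsNoetherian.noetherian _)
    exact (SerreReg.pdLE_succ_iff π hπ m).trans ((ih _).trans
      (forall_congr' fun p => (LocH.pdLT_succ_iff _ N π hπ m).symm))

end Groth.Agent.S5791
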