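import Groth.Statements.S5794
import Groth.Agent.TopDim.Basic

set_option autoImplicit false
universe u
open TopDim

namespace Groth.Agent.S5794

/-- Let X be a nonempty Noetherian Kolmogoroff space. Then dim(X) = 0 if and only if X is finite and
discrete. -/
theorem result (X : Type u) [TopologicalSpace X]
    [TopologicalSpace.NoetherianSpace X] [T0Space X] [Nonempty X] :
    topologicalKrullDim X = 0 ↔ Finite X ∧ DiscreteTopology X := by
  constructor
  · intro h
    haveI : DiscreteTopology X := discreteTopology_iff_isOpen_singleton.mpr fun x =>
      Groth.Agent.TopDim.isOpen_singleton_of_dim_le_zero h.le x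
    exact ⟨finite_of_compact_of_discrete, inferInstance⟩
  · rintro ⟨-, h⟩
    exact le_antisymm (topologicalKrullDim_zero_of_discreteTopology X) (Order.krullDim_nonneg_iff.mpr
      ⟨⟨closure {Classical.arbitrary X}, isIrreducible_singleton.closure, isClosed_closure⟩⟩)

end Groth.Agent.S5794
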