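import Groth.Statements.S5797
import Groth.Agent.TopDim.Basic

set_option autoImplicit false
universe u
open TopDim

namespace Groth.Agent.S5797

/-- If a topological space X is a finite union of closed subsets X_i, then dim(X) = sup_i dim(X_i)
(combinatorial dimensions). -/
theorem result (X : Type u) [TopologicalSpace X] (ι : Type u)
    [Finite ι] (Y : ι → Set X) (hY : ∀ i, IsClosed (Y i)) (hcov : ⋃ i, Y i = Set.univ) :
    topologicalKrullDim X = ⨆ i, topologicalKrullDim (Y i) := by
  classical
  haveI := Fintype.ofFinite ι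
  refine le_antisymm (iSup_le fun l => ?_) (iSup_le fun i => Topology.IsInducing.subtypeVal.topologicalKrullDim_le)
  obtain ⟨z, hz, hzi⟩ := isIrreducible_iff_sUnion_isClosed.mp (l ⟨l.length, by omega⟩).isIrreducible
    (Finset.univ.image Y) (fun z hz => by
      obtain ⟨i, -, rfl⟩ := Finset.mem_image.mp hz
      exact hY i) (fun a _ => by
      obtain ⟨i, hi⟩ := Set.mem_iUnion.mp (hcov.ge (Set.mem_univ a))
      exact ⟨_, Finset.mem_image.mpr ⟨i, Finset.mem_univ i, rfl⟩, hi⟩)
  obtain ⟨i, -, rfl⟩ := Finset.mem_image.mp hz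
  exact le_iSup_of_le i (Groth.Agent.TopDim.length_le_dim_closed l (hY i) hzi)

end Groth.Agent.S5797
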