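import Groth.Statements.S5799
import Groth.Agent.TopDim.Basic

set_option autoImplicit false
universe u
open TopDim

namespace Groth.Agent.S5799

/-- If (X_i) is a locally finite covering of a topological space X by closed subsets, then dim(X) =
sup_i dim(X_i). -/
theorem result (X : Type u) [TopologicalSpace X]
    (ι : Type u) (Y : ι → Set X) (hY : ∀ i, IsClosed (Y i)) (hlf : LocallyFinite Y) (hcov : ⋃ i, Y i = Set.univ) :
    topologicalKrullDim X = ⨆ i, topologicalKrullDim (Y i) := by
  classical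
  refine le_antisymm (iSup_le fun l => ?_) (iSup_le fun i => Topology.IsInducing.subtypeVal.topologicalKrullDim_le)
  set Z := l ⟨l.length, by omega⟩
  obtain ⟨z, hz⟩ := Z.isIrreducible.nonempty
  obtain ⟨W, hW, hfin⟩ := hlf z
  obtain ⟨W', hW'W, hW'o, hzW'⟩ := mem_nhds_iff.mp hW
  haveI := hfin.fintype
  obtain ⟨t, ht, hti⟩ := isIrreducible_iff_sUnion_isClosed.mp Z.isIrreducible
    (insert (W'ᶜ : Set X) (hfin.toFinset.image Y)) (fun t ht => by
      rcases Finset.mem_insert.mp ht with rfl | ht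
      · exact hW'o.isClosed_compl
      · obtain ⟨i, -, rfl⟩ := Finset.mem_image.mp ht
        exact hY i) (fun a _ => by
      by_cases ha : a ∈ W'
      · obtain ⟨i, hi⟩ := Set.mem_iUnion.mp (hcov.ge (Set.mem_univ a))
        exact ⟨Y i, Finset.mem_insert_of_mem (Finset.mem_image.mpr ⟨i, hfin.mem_toFinset.mpr ⟨a, hi, hW'W ha⟩, rfl⟩), hi⟩
      · exact ⟨W'ᶜ, Finset.mem_insert_self _ _, ha⟩)
  rcases Finset.mem_insert.mp ht with rfl | ht
  · exact absurd hzW' (hti hz)
  obtain ⟨i, -, rfl⟩ := Finset.mem_image.mp ht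
  exact le_iSup_of_le i (Groth.Agent.TopDim.length_le_dim_closed l (hY i) hti)

end Groth.Agent.S5799
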