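import Groth.Statements.S5805
import Groth.Agent.SerreReg.Regular
import Groth.Agent.SerreReg.MiracleFinite

set_option autoImplicit false
universe u
open CategoryTheory
open EGA41

namespace Groth.Agent.S5805

/-- Let A be a Noetherian local ring with residue field k and n ≥ 0. Then the global dimension of A is
at most n as soon as the projective dimension of the A-module k is at most n: every A-module then
has projective dimension at most n. (The published statement phrases the criterion through the
vanishing of Tor^A_{n+1}(k, k), to which dim.proj_A(k) ≤ n is equivalent for finitely generated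
modules over a Noetherian local ring; this row states the projective-dimension form that the
published proof establishes.) -/
theorem result (A : Type u) [CommRing A] [IsLocalRing A]
    [IsNoetherianRing A] (n : ℕ)
    (hk : HasProjectiveDimensionLT (ModuleCat.of A (IsLocalRing.ResidueField A)) (n + 1)) (M : Type u)
    [AddCommGroup M] [Module A M] : HasProjectiveDimensionLT (ModuleCat.of A M) (n + 1) := by
  haveI := Groth.Agent.SerreReg.isRegularLocalRing_of_pdLE A n hk
  obtain ⟨d, hd⟩ : ∃ d : ℕ, ringKrullDim A = d :=
    ⟨_, IsRegularLocalRing.spanFinrank_maximalIdeal.symm⟩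
  obtain ⟨rs, hlen, hreg, hspan⟩ := Groth.Agent.SerreReg.exists_regular_rsop d A hd
  have hR : RingTheory.Sequence.IsRegular A rs := ⟨hreg, by
    rw [hspan, smul_eq_mul, Ideal.mul_top]
    exact (IsLocalRing.maximalIdeal.isMaximal A).ne_top.symm⟩
  have h := ModuleCat.projectiveDimension_quotient_eq_length.{u, u} rs hR
  have e : Shrink.{u} (A ⧸ Ideal.ofList rs) ≃ₗ[A] IsLocalRing.ResidueField A :=
    (Shrink.linearEquiv A _).trans (Submodule.quotEquivOfEq _ _ hspan)
  rw [projectiveDimension_eq_of_iso e.toModuleIso, hlen] at h
  have hle : d ≤ n := by
    have h1 : projectiveDimension (ModuleCat.of A (IsLocalRing.ResidueField A)) ≤ (n : ℕ) :=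
      (projectiveDimension_le_iff _ _).2 hk
    rw [h] at h1
    exact_mod_cast h1
  exact Groth.Agent.SerreReg.pdLE_mono hle (Groth.Agent.SerreReg.pdLE_of_isRegularLocalRing A d hd M)

end Groth.Agent.S5805
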