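import Groth.Statements.S5806
import Mathlib

set_option autoImplicit false
universe u
open EGA41 Pointwise
set_option linter.style.haveILetI false

namespace Groth.Agent.S5806

open TensorProduct in
/-- Let A be a ring, B a commutative A-algebra, (f_i)_{1 ≤ i ≤ n} elements of B and M a B-module.
Suppose (f_i) is M-regular and each of the A-modules M/(f_1 M + ... + f_i M), 0 ≤ i ≤ n, is flat.
Then for every ring homomorphism A → A', writing M' = M ⊗_A A' and f'_i = f_i ⊗ 1, the sequence
(f'_i) is M'-regular and the A'-modules M'/(f'_1 M' + ... + f'_{i-1} M') are flat: concretely,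
identifying M'/(f'_1 M' + ... + f'_{i-1} M') with A' ⊗_A (M/(f_1 M + ... + f_{i-1} M)),
multiplication by f_i on the latter is injective and the latter is A'-flat, for 1 ≤ i ≤ n. (The
published hypothesis lists only the flatness of M/(f_1 M + ... + f_{i-1} M) for 1 ≤ i ≤ n, omitting
M/(f_1 M + ... + f_n M); with that omission the case n = 1, A = B = k[t], M = k[t], f_1 = t, A' =
k[t]/(t) fails, since t acts as zero on k ⊗_A M = k, and the published proof uses the flatness of
M/(f_1 M + ... + f_i M) for every i ≤ n; so flatness of all these quotients is assumed here.) -/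
theorem result (A B : Type u) [CommRing A]
    [CommRing B] [Algebra A B] (M : Type u) [AddCommGroup M] [Module B M] [Module A M] [IsScalarTower A B M]
    (fs : List B) (hreg : RingTheory.Sequence.IsWeaklyRegular M fs)
    (hflat : ∀ i : ℕ, i ≤ fs.length → Module.Flat A (M ⧸ (Ideal.ofList (fs.take i) • (⊤ : Submodule B M))))
    (A' : Type u) [CommRing A'] [Algebra A A'] (i : Fin fs.length) :
    Function.Injective (LinearMap.lTensor A'
        (((LinearMap.lsmul B (M ⧸ (Ideal.ofList (fs.take i) • (⊤ : Submodule B M)))) (fs.get i)).restrictScalars A)) ∧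
      Module.Flat A' (A' ⊗[A] (M ⧸ (Ideal.ofList (fs.take i) • (⊤ : Submodule B M)))) := by
  haveI := hflat i i.2.le
  haveI := hflat (i + 1) i.2
  refine ⟨?_, inferInstance⟩
  let P := Ideal.ofList (fs.take i) • (⊤ : Submodule B M)
  let R := Ideal.ofList (fs.take (i + 1)) • (⊤ : Submodule B M)
  have hR : R = P ⊔ fs.get i • (⊤ : Submodule B M) := by
    simp only [P, R, List.take_succ_eq_append_getElem i.2, Ideal.ofList_append, Ideal.ofList_singleton,
      Submodule.sup_smul, Submodule.ideal_span_singleton_smul]
    rfl
  let g : (M ⧸ P) →ₗ[B] M ⧸ R := Submodule.factor (by rw [hR]; exact le_sup_left)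
  have hg : Function.Surjective g := Submodule.factor_surjective _
  have hex : Function.Exact ((LinearMap.lsmul B (M ⧸ P)) (fs.get i)) g := by
    intro x
    obtain ⟨m, rfl⟩ := Submodule.mkQ_surjective P x
    constructor
    · intro hm
      have hm' : m ∈ R := (Submodule.Quotient.mk_eq_zero R).1 hm
      rw [hR, Submodule.mem_sup] at hm'
      obtain ⟨a, ha, b, hb, rfl⟩ := hm'
      obtain ⟨c, -, rfl⟩ := hb
      exact ⟨P.mkQ c, by simp [(Submodule.Quotient.mk_eq_zero P).2 ha]⟩
    · rintro ⟨y, hy⟩
      obtain ⟨c, rfl⟩ := Submodule.mkQ_surjective P y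
      rw [← hy, LinearMap.lsmul_apply, ← map_smul]
      refine (Submodule.Quotient.mk_eq_zero R).2 ?_
      rw [hR]
      exact Submodule.mem_sup_right (Submodule.smul_mem_pointwise_smul c _ _ trivial)
  exact LinearMap.lTensor_injective_of_exact_of_flat (R := A) (g.restrictScalars A) hg
    (((LinearMap.lsmul B (M ⧸ P)) (fs.get i)).restrictScalars A) (hreg.regular_mod_prev i i.2) hex A'

end Groth.Agent.S5806
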