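import Groth.Statements.S5807
import Groth.Agent.GeomProp.RegLocal
import Mathlib

set_option autoImplicit false
open Groth.Agent
universe u
open EGA41

namespace Groth.Agent.S5807

/-- Let A be a Noetherian ring which is a quotient of a regular ring B, and C an A-algebra of finite
type. Then every ring of fractions of C is a quotient of a regular ring. -/
theorem result (B A C : Type u) [CommRing B]
    [IsRegularRing B] [CommRing A] (π : B →+* A) (hπ : Function.Surjective π) [CommRing C] [Algebra A C]
    [Algebra.FiniteType A C] (S : Submonoid C) :
    ∃ (R : Type u) (_ : CommRing R) (_ : IsRegularRing R) (f : R →+* Localization S),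
      Function.Surjective f := by
  classical
  obtain ⟨n, φ, hφ⟩ := Algebra.FiniteType.iff_quotient_mvPolynomial''.1 (inferInstance : Algebra.FiniteType A C)
  let g : MvPolynomial (Fin n) B →+* C := φ.toRingHom.comp (MvPolynomial.map π)
  have hg : Function.Surjective g := hφ.comp (MvPolynomial.map_surjective π hπ)
  let T : Submonoid (MvPolynomial (Fin n) B) := S.comap g
  refine ⟨Localization T, inferInstance, GeomProp.isRegularRing_of_isLocalization (R := MvPolynomial (Fin n) B) (L := Localization T) T inferInstance,
    IsLocalization.map (Localization S) g (le_refl T), fun z => ?_⟩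
  obtain ⟨c, ⟨s, hs⟩, rfl⟩ := IsLocalization.exists_mk'_eq S z
  obtain ⟨p, rfl⟩ := hg c
  obtain ⟨t, rfl⟩ := hg s
  exact ⟨IsLocalization.mk' (Localization T) p ⟨t, hs⟩, IsLocalization.map_mk' _ _ _⟩

end Groth.Agent.S5807
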