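import Groth.Statements.S5808
import Groth.Agent.ParamSemiLoc.Basic

set_option autoImplicit false
universe u
open EGA41

namespace Groth.Agent.S5808

open ParamSemiLoc

variable {A : Type u} [CommRing A] [IsNoetherianRing A]

theorem height_le_of_minimal {i : ℕ} (x : Fin i → A) {P : Ideal A}
    (hP : P ∈ (Ideal.span (Set.range x)).minimalPrimes) : P.height ≤ i := by
  classical
  refine (Ideal.height_le_card_of_mem_minimalPrimes_span (Set.finite_range x) hP).trans ?_
  rw [← Set.image_univ]
  exact_mod_cast (Set.ncard_image_le (f := x) (s := Set.univ)).trans (le_of_eq (by simp))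

theorem exists_cuts [Finite (MaximalSpectrum A)] (a : Ideal A) (ha : a ≠ ⊤) (h : ℕ) (hh : a.height = h)
    (d : ℕ) (hd : ringKrullDim A ≤ (d : WithBot ℕ∞)) :
    ∀ i ≤ h, ∃ x : Fin i → A, (∀ j, x j ∈ a) ∧ (∀ j, x j ∈ Ring.jacobson A) ∧
      (∀ P ∈ (Ideal.span (Set.range x)).minimalPrimes, P.IsMaximal ∨ (i : ℕ∞) ≤ P.height) ∧
      i ≤ d ∧ ringKrullDim (A ⧸ Ideal.span (Set.range x)) ≤ ((d - i : ℕ) : WithBot ℕ∞) := by
  intro i
  induction i with
  | zero =>
    intro _
    exact ⟨Fin.elim0, fun j => j.elim0, fun j => j.elim0, fun _ _ => Or.inr (by simp), d.zero_le,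
      (ringKrullDim_quotient_le _).trans hd⟩
  | succ i ih =>
    intro hi
    obtain ⟨x, hxa, hxj, hmin, hid, hdim⟩ := ih (Nat.le_of_succ_le hi)
    have hna : ∀ P ∈ (Ideal.span (Set.range x)).minimalPrimes, ¬ a ≤ P := fun P hP hle => by
      have h1 := (Ideal.height_mono hle).trans (height_le_of_minimal x hP)
      rw [hh] at h1
      have : h ≤ i := by exact_mod_cast h1
      omega
    obtain ⟨y, hya, hyj, hy⟩ := exists_mem_notMem (Ideal.span (Set.range x)) a fun P hP _ => hna P hP
    have hpos : i < d := by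
      by_contra hle
      rw [show d - i = 0 by omega] at hdim
      obtain ⟨m, hm, ham⟩ := a.exists_le_maximal ha
      have hxm : Ideal.span (Set.range x) ≤ m := Ideal.span_le.2 (by rintro _ ⟨j, rfl⟩; exact ham (hxa j))
      obtain ⟨P, hP, hPm⟩ := Ideal.exists_minimalPrimes_le hxm
      have hlt : P < m := lt_of_le_of_ne hPm fun h => hna P hP (h ▸ ham)
      have hl := (ringKrullDim_quotient_le_iff _ 0).1 hdim
        ((RelSeries.singleton _ (⟨m, hm.isPrime⟩ : PrimeSpectrum A)).cons ⟨P, hP.1.1⟩
          (show (⟨P, hP.1.1⟩ : PrimeSpectrum A) < ⟨m, hm.isPrime⟩ from hlt))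
        (by rw [RelSeries.head_cons]; exact hP.1.2)
      simp at hl
    refine ⟨Fin.snoc x y, ?_, ?_, ?_, hpos, ?_⟩
    · exact Fin.lastCases (by simpa using hya) (fun j => by simpa using hxa j)
    · exact Fin.lastCases (by simpa using hyj) (fun j => by simpa using hxj j)
    · intro Q hQ
      rw [Fin.range_snoc, Ideal.span_insert] at hQ
      have := hQ.1.1
      obtain ⟨P, hP, hPQ⟩ := Ideal.exists_minimalPrimes_le
        (show Ideal.span (Set.range x) ≤ Q from le_sup_right.trans hQ.1.2)
      rcases eq_or_ne Q P with rfl | hne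
      · by_cases hm : Q.IsMaximal
        · exact Or.inl hm
        · exact absurd (hQ.1.2 (Ideal.mem_sup_left (Ideal.mem_span_singleton_self y))) (hy Q hP hm)
      · have hlt : P < Q := lt_of_le_of_ne hPQ hne.symm
        rcases hmin P hP with hm | hht
        · exact absurd (hm.eq_of_le hQ.1.1.ne_top hPQ) hne.symm
        · refine Or.inr ?_
          haveI := hP.1.1
          haveI := hQ.1.1
          have h2 := Ideal.height_strict_mono_of_isPrime hlt
          exact_mod_cast Order.add_one_le_of_lt (lt_of_le_of_lt hht h2)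
    · rw [Fin.range_snoc, Ideal.span_insert, sup_comm]
      refine ringKrullDim_quotient_sup_span_le hy ?_
      rwa [show d - (i + 1) + 1 = d - i by omega]

/-- Let A be a semi-local Noetherian ring with spectrum X and Jacobson radical r, and a an ideal of A
distinct from A with codim(V(a), X) = h > 0 (h is the height of a). Then there exist h elements x_1,
..., x_h of a which are part of a system of parameters of A (so lie in r and can be completed by
elements of r to dim(A) elements generating an ideal modulo which A has finite length) and such that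
codim(V(a), V(x_1 A + ... + x_h A)) = 0, i.e. the image of a in A/(x_1 A + ... + x_h A) has height
0. -/
theorem result (A : Type u) [CommRing A] [IsNoetherianRing A]
    [Finite (MaximalSpectrum A)] (a : Ideal A) (ha : a ≠ ⊤) (h : ℕ) (hh : a.height = h) (hpos : 0 < h) :
    ∃ x : Fin h → A, (∀ i, x i ∈ a) ∧ (∀ i, x i ∈ Ring.jacobson A) ∧
      (∃ ys : List A, (∀ y ∈ ys, y ∈ Ring.jacobson A) ∧
        (((h + ys.length : ℕ) : ℕ∞) : WithBot ℕ∞) = ringKrullDim A ∧
        IsFiniteLength A (A ⧸ (Ideal.span (Set.range x) ⊔ Ideal.ofList ys))) ∧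
      (a.map (Ideal.Quotient.mk (Ideal.span (Set.range x)))).height = 0 := by
  obtain ⟨N, hN⟩ := exists_ringKrullDim_le (A := A)
  have : Nontrivial A := by
    by_contra hc
    rw [not_nontrivial_iff_subsingleton] at hc
    exact ha (Subsingleton.elim _ _)
  obtain ⟨D, hD⟩ := WithBot.ne_bot_iff_exists.1
    (show ringKrullDim A ≠ ⊥ from fun h => by
      have := ringKrullDim_nonneg_of_nontrivial (R := A)
      rw [h] at this
      simp at this)
  obtain ⟨d, rfl⟩ := ENat.ne_top_iff_exists.1 (ne_top_of_le_ne_top (ENat.natCast_ne_top N)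
    (WithBot.coe_le_coe.1 (hD ▸ hN)))
  obtain ⟨x, hxa, hxj, hmin, hhd, hdim⟩ := exists_cuts a ha h hh d (le_of_eq hD.symm) h le_rfl
  obtain ⟨ys, hlen, hys, hfin⟩ := exists_parameters (d - h) _ hdim
  refine ⟨x, hxa, hxj, ⟨ys, hys, ?_, (isFiniteLength_quotient_iff _).2 hfin⟩, ?_⟩
  · rw [hlen, Nat.add_sub_cancel' hhd, ← hD]
  · obtain ⟨P, hPa, hPh⟩ : ∃ P ∈ a.minimalPrimes, P.height ≤ h := by
      by_contra hne
      push Not at hne
      have : ((h + 1 : ℕ) : ℕ∞) ≤ a.height := by
        rw [Ideal.height_eq_inf_minimalPrimes]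
        exact le_iInf₂ fun P hP => by exact_mod_cast Order.add_one_le_of_lt (hne P hP)
      rw [hh] at this
      have : h + 1 ≤ h := by exact_mod_cast this
      omega
    haveI := hPa.1.1
    have hxP : Ideal.span (Set.range x) ≤ P :=
      (Ideal.span_le.2 (by rintro _ ⟨j, rfl⟩; exact hxa j)).trans hPa.1.2
    obtain ⟨Q, hQ, hQP⟩ := Ideal.exists_minimalPrimes_le hxP
    have hPQ : P = Q := by
      by_contra hne
      rcases hmin Q hQ with hm | hht
      · exact hne (hm.eq_of_le ‹P.IsPrime›.ne_top hQP).symm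
      · haveI := hQ.1.1
        exact (lt_of_lt_of_le (Ideal.height_strict_mono_of_isPrime (lt_of_le_of_ne hQP (Ne.symm hne))) (hPh.trans hht)).false
    subst hPQ
    have hker : RingHom.ker (Ideal.Quotient.mk (Ideal.span (Set.range x))) ≤ P := by
      rw [Ideal.mk_ker]; exact hxP
    haveI : (P.map (Ideal.Quotient.mk (Ideal.span (Set.range x)))).IsPrime :=
      Ideal.map_isPrime_of_surjective Ideal.Quotient.mk_surjective hker
    refine le_antisymm ?_ bot_le
    refine (Ideal.height_mono (Ideal.map_mono hPa.1.2)).trans (le_of_eq (Ideal.height_eq_zero_iff.2 ?_))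
    have himg := Ideal.minimalPrimes_eq_comap (I := Ideal.span (Set.range x))
    rw [himg] at hQ
    obtain ⟨Q', hQ', rfl⟩ := hQ
    rwa [Ideal.map_comap_of_surjective _ Ideal.Quotient.mk_surjective]

end Groth.Agent.S5808
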