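import Groth.Statements.S5809
import Groth.Agent.TorBalance.LES
import Mathlib.RingTheory.LocalRing.Module
import Mathlib.Algebra.Category.ModuleCat.ProjectiveDimension

set_option autoImplicit false
set_option linter.style.haveILetI false
set_option backward.isDefEq.respectTransparency false
universe u
open CategoryTheory
open EGA41

namespace Groth.Agent.S5809

theorem necessity (A : Type u) [CommRing A] (X : ModuleCat.{u} A) :
    ∀ (n : ℕ) (M : ModuleCat.{u} A), HasProjectiveDimensionLT M (n + 1) → ∀ i, n < i →
      Limits.IsZero (((Tor (ModuleCat.{u} A) i).obj X).obj M) := by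
  intro n
  induction n with
  | zero =>
    intro M h i hi
    obtain ⟨i, rfl⟩ := Nat.exists_eq_succ_of_ne_zero hi.ne'
    haveI := h
    haveI : Projective M := projective_iff_hasProjectiveDimensionLT_one.2 h
    exact isZero_Tor_succ_of_projective (ModuleCat.{u} A) X M i
  | succ n ih =>
    intro M h i hi
    obtain ⟨i, rfl⟩ := Nat.exists_eq_succ_of_ne_zero (Nat.pos_iff_ne_zero.1 (Nat.zero_lt_of_lt hi))
    let g : (M →₀ A) →ₗ[A] M := Finsupp.linearCombination A id
    have hg : Function.Surjective g := fun m => ⟨Finsupp.single m 1, by simp [g]⟩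
    have hS := LinearMap.shortExact_shortComplexKer hg
    haveI hP : Projective (ModuleCat.of A (M →₀ A)) := (IsProjective.iff_projective _).mp inferInstance
    have hK := (hS.hasProjectiveDimensionLT_X₃_iff n hP).1 h
    obtain ⟨δ, w₁, w₂, h1, -⟩ := (TorBalance.exists_les X hS i).2
    haveI : Mono δ := h1.mono_g ((isZero_Tor_succ_of_projective (ModuleCat.{u} A) X _ i).eq_of_src _ _)
    exact Limits.IsZero.of_mono δ (ih _ hK i (by omega))

open IsLocalRing in
theorem sufficiency (A : Type u) [CommRing A] [IsLocalRing A] [IsNoetherianRing A] :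
    ∀ (n : ℕ) (M : Type u) [AddCommGroup M] [Module A M] [Module.Finite A M],
      Limits.IsZero (((Tor (ModuleCat.{u} A) (n + 1)).obj
          (ModuleCat.of A (ResidueField A))).obj (ModuleCat.of A M)) →
        HasProjectiveDimensionLT (ModuleCat.of A M) (n + 1) := by
  intro n
  induction n with
  | zero =>
    intro M _ _ _ h
    obtain ⟨k, g, hg⟩ := Module.Finite.exists_fin' A M
    have hS := LinearMap.shortExact_shortComplexKer hg
    let X := ModuleCat.of A (ResidueField A)
    obtain ⟨δ, w₁, w₂, -, h2⟩ := (TorBalance.exists_les X hS 0).2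
    haveI : Mono (((Tor (ModuleCat.{u} A) 0).obj X).map g.shortComplexKer.f) :=
      h2.mono_g (h.eq_of_src _ _)
    haveI : Limits.PreservesFiniteColimits ((MonoidalCategory.tensoringLeft (ModuleCat.{u} A)).obj X) :=
      inferInstanceAs (Limits.PreservesFiniteColimits (MonoidalCategory.tensorLeft X))
    let e : (Tor (ModuleCat.{u} A) 0).obj X ≅ (MonoidalCategory.tensoringLeft (ModuleCat.{u} A)).obj X :=
      ((MonoidalCategory.tensoringLeft (ModuleCat.{u} A)).obj X).leftDerivedZeroIsoSelf
    have hm : Mono (((MonoidalCategory.tensoringLeft (ModuleCat.{u} A)).obj X).map g.shortComplexKer.f) := by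
      rw [← NatIso.naturality_1 e g.shortComplexKer.f]
      rw [ModuleCat.mono_iff_injective]
      exact ((e.app _).toLinearEquiv.injective.comp ((ModuleCat.mono_iff_injective _).1 (by assumption))).comp
        (e.symm.app _).toLinearEquiv.injective
    haveI : Module.Free A M := Module.free_of_lTensor_residueField_injective _ g hg
      (LinearMap.exact_subtype_ker_map g) ((ModuleCat.mono_iff_injective _).1 hm)
    haveI : Projective (ModuleCat.of A M) := (IsProjective.iff_projective _).mp inferInstance
    infer_instance
  | succ n ih =>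
    intro M _ _ _ h
    obtain ⟨k, g, hg⟩ := Module.Finite.exists_fin' A M
    have hS := LinearMap.shortExact_shortComplexKer hg
    haveI hP : Projective (ModuleCat.of A (Fin k → A)) := (IsProjective.iff_projective _).mp inferInstance
    obtain ⟨δ, w₁, w₂, -, h2⟩ := (TorBalance.exists_les (ModuleCat.of A (ResidueField A)) hS (n + 1)).2
    haveI : Epi δ := h2.epi_f ((isZero_Tor_succ_of_projective (ModuleCat.{u} A) _ _ n).eq_of_tgt _ _)
    exact (hS.hasProjectiveDimensionLT_X₃_iff n hP).2 (ih _ (Limits.IsZero.of_epi δ h))

/-- Let A be a Noetherian local ring with residue field k, M a finitely generated A-module and n ≥ 0.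
For M to have projective dimension at most n it is necessary that Tor^A_i(M, k) = 0 for all i > n,
and it suffices that Tor^A_(n+1)(M, k) = 0. (Tor is written here as the left derived functors of k ⊗
- evaluated at M, i.e. computed from a projective resolution of M.) -/
theorem result (A : Type u) [CommRing A] [IsLocalRing A]
    [IsNoetherianRing A] (M : Type u) [AddCommGroup M] [Module A M] [Module.Finite A M] (n : ℕ) :
    (HasProjectiveDimensionLT (ModuleCat.of A M) (n + 1) →
        ∀ i : ℕ, n < i → Limits.IsZero (((Tor (ModuleCat.{u} A) i).obj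
          (ModuleCat.of A (IsLocalRing.ResidueField A))).obj (ModuleCat.of A M))) ∧
      (Limits.IsZero (((Tor (ModuleCat.{u} A) (n + 1)).obj
          (ModuleCat.of A (IsLocalRing.ResidueField A))).obj (ModuleCat.of A M)) →
        HasProjectiveDimensionLT (ModuleCat.of A M) (n + 1)) := by
  exact ⟨fun h => necessity A _ n _ h, sufficiency A n M⟩

end Groth.Agent.S5809
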