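import Groth.Statements.S5813
import Mathlib
import Groth.Prelude.Def_Exal2

set_option autoImplicit false
universe u
open EGA41

namespace Groth.Agent.S5813

/-- Injectivity, commutative form. Let J be an ideal of the commutative ring B, C = B ⧸ J, M a C-module.
Two B-extensions of C by M whose induced linear maps J/J² → M (obtained from the restriction to J of
the structure map B → E) coincide are equivalent. -/
theorem result {B : Type u} [CommRing B] (J : Ideal B)
    {M : Type u} [AddCommGroup M] [Module (B ⧸ J) M] [Module B M] [IsScalarTower B (B ⧸ J) M]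
    (X Y : Exal.Ext B (B ⧸ J) M) (h : X.conormalMap J = Y.conormalMap J) :
    Nonempty (X.Equiv Y) := by
  classical
  have dec : ∀ (W : Exal.Ext B (B ⧸ J) M) (x : W.E), ∃ p : B × M,
      x = algebraMap B W.E p.1 + W.incl p.2 := by
    intro W x
    obtain ⟨b, hb⟩ := Ideal.Quotient.mk_surjective (W.proj x)
    have h0 : W.proj (x - algebraMap B W.E b) = 0 := by
      rw [map_sub, AlgHom.commutes, Ideal.Quotient.algebraMap_eq, hb, sub_self]
    obtain ⟨z, hz⟩ := (W.isExtension.exact _).mp h0
    exact ⟨(b, z), by rw [hz]; ring⟩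
  have key : ∀ (W W' : Exal.Ext B (B ⧸ J) M), W.conormalMap J = W'.conormalMap J →
      ∀ (b : B) (z : M), algebraMap B W.E b + W.incl z = 0 → algebraMap B W'.E b + W'.incl z = 0 := by
    intro W W' hWW b z h0
    have hb : b ∈ J := by
      have := congrArg W.proj h0
      rw [map_add, AlgHom.commutes, map_zero, (W.isExtension.exact _).mpr ⟨z, rfl⟩, add_zero,
        Ideal.Quotient.algebraMap_eq, Ideal.Quotient.eq_zero_iff_mem] at this
      exact this
    have hk : W.idealToKer J ⟨b, hb⟩ = W'.idealToKer J ⟨b, hb⟩ :=
      LinearMap.congr_fun hWW (Submodule.Quotient.mk ⟨b, hb⟩)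
    have h1 : W.incl (W.idealToKer J ⟨b, hb⟩) = algebraMap B W.E b := Exal.Ext.incl_kerLift W _ (W.proj_algebraMap_eq_zero J ⟨b, hb⟩)
    have h2 : W'.incl (W'.idealToKer J ⟨b, hb⟩) = algebraMap B W'.E b := Exal.Ext.incl_kerLift W' _ (W'.proj_algebraMap_eq_zero J ⟨b, hb⟩)
    rw [← h1, ← map_add] at h0
    rw [← h2, ← map_add, ← hk]
    rw [W.isExtension.incl_injective (h0.trans (map_zero W.incl).symm), map_zero]
  have key' : ∀ (W W' : Exal.Ext B (B ⧸ J) M), W.conormalMap J = W'.conormalMap J →
      ∀ (b b' : B) (z z' : M), algebraMap B W.E b + W.incl z = algebraMap B W.E b' + W.incl z' →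
        algebraMap B W'.E b + W'.incl z = algebraMap B W'.E b' + W'.incl z' := by
    intro W W' hWW b b' z z' he
    have h0 := key W W' hWW (b - b') (z - z') (by rw [map_sub, map_sub]; linear_combination he)
    rw [map_sub, map_sub] at h0
    linear_combination h0
  choose pX hpX using dec X
  choose pY hpY using dec Y
  let φ : X.E → Y.E := fun x => algebraMap B Y.E (pX x).1 + Y.incl (pX x).2
  let ψ : Y.E → X.E := fun y => algebraMap B X.E (pY y).1 + X.incl (pY y).2
  have hφ : ∀ b z, φ (algebraMap B X.E b + X.incl z) = algebraMap B Y.E b + Y.incl z :=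
    fun b z => key' X Y h _ _ _ _ (hpX _).symm
  have hψ : ∀ b z, ψ (algebraMap B Y.E b + Y.incl z) = algebraMap B X.E b + X.incl z :=
    fun b z => key' Y X h.symm _ _ _ _ (hpY _).symm
  have hsm : ∀ (W : Exal.Ext B (B ⧸ J) M) (b : B) (z : M),
      algebraMap B W.E b * W.incl z = W.incl (b • z) := by
    intro W b z
    rw [W.isExtension.mul_incl, AlgHom.commutes, algebraMap_smul]
  have hz0 : ∀ (W : Exal.Ext B (B ⧸ J) M) (z z' : M), W.incl z * W.incl z' = 0 := by
    intro W z z'
    rw [W.isExtension.mul_incl, (W.isExtension.exact _).mpr ⟨z, rfl⟩, zero_smul, map_zero]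
  have hmul : ∀ (W : Exal.Ext B (B ⧸ J) M) (b b' : B) (z z' : M),
      (algebraMap B W.E b + W.incl z) * (algebraMap B W.E b' + W.incl z') =
        algebraMap B W.E (b * b') + W.incl (b • z' + b' • z) := by
    intro W b b' z z'
    rw [map_add, ← hsm W b z', ← hsm W b' z, map_mul]
    linear_combination hz0 W z z'
  refine ⟨{
    toAlgEquiv :=
      { toFun := φ
        invFun := ψ
        left_inv := fun x => by
          show ψ (algebraMap B Y.E (pX x).1 + Y.incl (pX x).2) = x
          rw [hψ]; exact (hpX x).symm
        right_inv := fun y => by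
          show φ (algebraMap B X.E (pY y).1 + X.incl (pY y).2) = y
          rw [hφ]; exact (hpY y).symm
        map_mul' := fun x x' => by
          rw [hpX x, hpX x', hmul, hφ, hφ, hφ, hmul]
        map_add' := fun x x' => by
          have e : x + x' = algebraMap B X.E ((pX x).1 + (pX x').1) + X.incl ((pX x).2 + (pX x').2) := by
            rw [map_add, map_add]; linear_combination hpX x + hpX x'
          rw [e, hφ, map_add, map_add]
          show _ = (algebraMap B Y.E (pX x).1 + Y.incl (pX x).2) + (algebraMap B Y.E (pX x').1 + Y.incl (pX x').2)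
          ring
        commutes' := fun b => by
          have := hφ b 0
          rw [map_zero, map_zero, add_zero, add_zero] at this
          exact this }
    proj_apply := fun x => by
      show Y.proj (algebraMap B Y.E (pX x).1 + Y.incl (pX x).2) = X.proj x
      conv_rhs => rw [hpX x]
      rw [map_add, map_add, AlgHom.commutes, AlgHom.commutes, (Y.isExtension.exact _).mpr ⟨_, rfl⟩,
        (X.isExtension.exact _).mpr ⟨_, rfl⟩]
    apply_incl := fun z => by
      have := hφ 0 z
      rw [map_zero, map_zero, zero_add, zero_add] at this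
      exact this }⟩

end Groth.Agent.S5813
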