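import Groth.Statements.S5814
import Groth.Agent.ExalLib.Basic

set_option autoImplicit false
set_option linter.style.haveILetI false
set_option backward.isDefEq.respectTransparency false
open Groth.Agent
attribute [local instance] Exal.opModule Exal.isCentralScalar_opModule
universe u
open EGA41

namespace Groth.Agent.S5814

/-- Surjectivity, commutative form. Let J be an ideal of the commutative ring B, C = B ⧸ J, M a
C-module. Every linear map w : J/J² → M arises from a B-extension of C by M: there is an extension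
whose induced map J/J² → M is w. Together with the injectivity statement this is the canonical
bijection between Hom_C(J/J², M) and the classes of B-extensions of C by M. -/
theorem result {B : Type u} [CommRing B] (J : Ideal B)
    {M : Type u} [AddCommGroup M] [Module (B ⧸ J) M] [Module B M] [IsScalarTower B (B ⧸ J) M]
    (w : J.Cotangent →ₗ[B] M) :
    ∃ X : Exal.Ext B (B ⧸ J) M, X.conormalMap J = w := by
  classical
  have hJ : ∀ j ∈ J, ∀ m : M, j • m = 0 := fun j hj m => by
    rw [← IsScalarTower.algebraMap_smul (B ⧸ J) j m, Ideal.Quotient.algebraMap_eq,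
      Ideal.Quotient.eq_zero_iff_mem.2 hj, zero_smul]
  let wJ : J →ₗ[B] M := w.comp J.toCotangent
  let S : Ideal (TrivSqZeroExt B M) :=
    { carrier := {x | ∃ j : J, x.fst = j ∧ x.snd = -wJ j}
      add_mem' := fun {x y} ⟨j, hj1, hj2⟩ ⟨k, hk1, hk2⟩ => ⟨j + k, by rw [TrivSqZeroExt.fst_add, hj1, hk1]; rfl,
        by rw [TrivSqZeroExt.snd_add, hj2, hk2, map_add, neg_add]⟩
      zero_mem' := ⟨0, by simp, by simp⟩
      smul_mem' := fun r x ⟨j, hj1, hj2⟩ => ⟨r.fst • j, by simp [hj1],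
        by rw [smul_eq_mul, TrivSqZeroExt.snd_mul, op_smul_eq_smul, hj1, hJ _ j.2, add_zero, hj2, map_smul, smul_neg]⟩ }
  have hmem : ∀ x, x ∈ S ↔ ∃ j : J, x.fst = j ∧ x.snd = -wJ j := fun x => Iff.rfl
  let π : (TrivSqZeroExt B M ⧸ S) →ₐ[B] B ⧸ J :=
    Ideal.Quotient.liftₐ S ((Ideal.Quotient.mkₐ B J).comp (TrivSqZeroExt.fstHom B B M)) (fun x ⟨j, hj, _⟩ => by
      show Ideal.Quotient.mk J x.fst = 0
      rw [hj]
      exact Ideal.Quotient.eq_zero_iff_mem.2 j.2)
  let i : M →+ TrivSqZeroExt B M ⧸ S :=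
    (Ideal.Quotient.mk S).toAddMonoidHom.comp (TrivSqZeroExt.inrHom B M).toAddMonoidHom
  have hext : Exal.IsExtension π i := by
    refine ⟨fun c => ?_, fun z z' h => ?_, fun x => ⟨fun hx => ?_, ?_⟩, fun x z => ?_⟩
    · obtain ⟨b, rfl⟩ := Ideal.Quotient.mk_surjective c
      exact ⟨Ideal.Quotient.mk S (TrivSqZeroExt.inl b), rfl⟩
    · obtain ⟨j, hj, hj'⟩ := (hmem _).1 (Ideal.Quotient.eq.1 h)
      simp at hj hj'
      rw [show j = 0 from Subtype.ext hj.symm, map_zero, neg_zero] at hj'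
      exact sub_eq_zero.1 hj'
    · obtain ⟨x, rfl⟩ := Ideal.Quotient.mk_surjective x
      have hx' : x.fst ∈ J := Ideal.Quotient.eq_zero_iff_mem.1 hx
      refine ⟨x.snd + wJ ⟨x.fst, hx'⟩, (Ideal.Quotient.eq.2 ?_).symm⟩
      exact (hmem _).2 ⟨⟨x.fst, hx'⟩, by simp, by simp⟩
    · rintro ⟨z, rfl⟩
      show Ideal.Quotient.mk J (TrivSqZeroExt.inr z : TrivSqZeroExt B M).fst = 0
      simp
    · obtain ⟨x, rfl⟩ := Ideal.Quotient.mk_surjective x
      show Ideal.Quotient.mk S (x * TrivSqZeroExt.inr z) = Ideal.Quotient.mk S (TrivSqZeroExt.inr (Ideal.Quotient.mk J x.fst • z))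
      congr 1
      apply TrivSqZeroExt.ext
      · simp
      · rw [← Ideal.Quotient.algebraMap_eq, IsScalarTower.algebraMap_smul]
        simp [TrivSqZeroExt.snd_mul]
  let X : Exal.Ext B (B ⧸ J) M := ⟨TrivSqZeroExt B M ⧸ S, π, i, hext⟩
  refine ⟨X, ?_⟩
  ext z
  obtain ⟨z, rfl⟩ := J.toCotangent_surjective z
  apply X.isExtension.incl_injective
  show X.incl (X.kerLift _ (X.proj_algebraMap_eq_zero J z)) = _
  rw [Exal.Ext.incl_kerLift]
  show Ideal.Quotient.mk S (TrivSqZeroExt.inl (z : B)) = Ideal.Quotient.mk S (TrivSqZeroExt.inr (wJ z))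
  exact Ideal.Quotient.eq.2 ((hmem _).2 ⟨z, by simp, by simp⟩)

end Groth.Agent.S5814
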