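import Groth.Statements.S5817
import Groth.Agent.ExalLib.Basic

set_option autoImplicit false
set_option linter.style.haveILetI false
set_option backward.isDefEq.respectTransparency false
open Groth.Agent
attribute [local instance] Exal.opModule Exal.isCentralScalar_opModule
universe u v
open EGA41

namespace Groth.Agent.S5817

/-- Commutative rings, exactness at Der_A(B, L). For ring maps A → B → C and a C-module L, the
B-extension of C by L attached to an A-derivation D : B → L (middle ring C ⊕ L, made a B-algebra
through x ↦ (x, D x)) is trivial if and only if D is the composite of B → C with an A-derivation C →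
L. -/
theorem result {A : Type u} {B C L : Type v} [CommRing A] [CommRing B] [CommRing C]
    [Algebra A B] [Algebra B C] [Algebra A C] [IsScalarTower A B C]
    [AddCommGroup L] [Module C L] [Module B L] [IsScalarTower B C L] [Module A L] [IsScalarTower A B L]
    [IsScalarTower A C L]
    (D : Derivation A B L) :
    (Exal.Ext.ofDerivation (C := C) D).IsTrivial ↔
      ∃ D' : Derivation A C L, D'.compAlgebraMap B = D := by
  classical
  let X := Exal.Ext.ofDerivation (C := C) D
  constructor
  · rintro ⟨s, hs⟩
    let t : C → TrivSqZeroExt C L := fun c => s c
    have htf : ∀ c, (t c).fst = c := hs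
    have hmul : ∀ c c', (t (c * c')).snd = c • (t c').snd + c' • (t c).snd := fun c c' => by
      have h : t (c * c') = t c * t c' := map_mul s c c'
      rw [h, TrivSqZeroExt.snd_mul, op_smul_eq_smul, htf, htf]
    have hb : ∀ b, (t (algebraMap B C b)).snd = D b := fun b => by
      have h : t (algebraMap B C b) = TrivSqZeroExt.inl (algebraMap B C b) + TrivSqZeroExt.inr (D b) := s.commutes b
      rw [h, TrivSqZeroExt.snd_add, TrivSqZeroExt.snd_inl, TrivSqZeroExt.snd_inr, zero_add]
    let D' : Derivation A C L := Derivation.mk'
      { toFun := fun c => (t c).snd
        map_add' := fun c c' => by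
          have h : t (c + c') = t c + t c' := map_add s c c'
          rw [h, TrivSqZeroExt.snd_add]
        map_smul' := fun a c => by
          rw [Algebra.smul_def, hmul, IsScalarTower.algebraMap_apply A B C, hb, Derivation.map_algebraMap,
            smul_zero, add_zero, RingHom.id_apply, ← IsScalarTower.algebraMap_apply, algebraMap_smul] } hmul
    exact ⟨D', Derivation.ext hb⟩
  · rintro ⟨D', rfl⟩
    let t : C → TrivSqZeroExt C L := fun c => TrivSqZeroExt.inl c + TrivSqZeroExt.inr (D' c)
    refine ⟨{ toFun := t
              map_one' := ?_
              map_mul' := ?_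
              map_zero' := ?_
              map_add' := ?_
              commutes' := fun b => rfl }, fun c => ?_⟩
    · show t 1 = 1
      simp [t]
    · intro c c'
      show t (c * c') = t c * t c'
      apply TrivSqZeroExt.ext
      · simp [t]
      · simp only [t, TrivSqZeroExt.snd_add, TrivSqZeroExt.snd_inl, TrivSqZeroExt.snd_inr, TrivSqZeroExt.snd_mul,
          TrivSqZeroExt.fst_add, TrivSqZeroExt.fst_inl, TrivSqZeroExt.fst_inr, op_smul_eq_smul, Derivation.leibniz,
          zero_add, add_zero]
    · show t 0 = 0
      simp [t]
    · intro c c'
      show t (c + c') = t c + t c'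
      simp only [t, map_add, TrivSqZeroExt.inl_add, TrivSqZeroExt.inr_add]
      abel
    · show (t c).fst = c
      simp [t]

end Groth.Agent.S5817
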