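import Groth.Statements.S5819
import Groth.Agent.ExalLib.Basic

set_option autoImplicit false
set_option linter.style.haveILetI false
set_option backward.isDefEq.respectTransparency false
open Groth.Agent
attribute [local instance] Exal.opModule Exal.isCentralScalar_opModule
universe u v
open EGA41

namespace Groth.Agent.S5819

/-- Commutative rings, exactness at Exalcom_A(C, L) on underlying pointed sets. For ring maps A → B → C
and a C-module L, an A-extension Y of C by L pulls back to a trivial A-extension of B if and only if
Y is equivalent to some B-extension of C by L viewed as an A-extension. -/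
theorem result {A : Type u} {B C L : Type v} [CommRing A]
    [CommRing B] [CommRing C] [Algebra A B] [Algebra B C] [Algebra A C] [IsScalarTower A B C]
    [AddCommGroup L] [Module C L] [Module B L] [IsScalarTower B C L]
    (Y : Exal.Ext A C L) :
    (Y.pullback B).IsTrivial ↔
      ∃ X : Exal.Ext B C L, Nonempty ((X.restrictBase A).Equiv Y) := by
  constructor
  · rintro ⟨s, hs⟩
    let s' : B →ₐ[A] Y.fiberProd B := s
    let g : B →+* Y.E := ((AlgHom.fst A Y.E B).comp ((Y.fiberProd B).val.comp s')).toRingHom
    have hg : ∀ b, Y.proj (g b) = algebraMap B C b := fun b => by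
      have h := (s' b).2
      have h2 : (s' b).1.2 = b := hs b
      simp only [Exal.Ext.fiberProd, AlgHom.mem_equalizer, AlgHom.coe_comp, Function.comp_apply,
        AlgHom.fst_apply, AlgHom.snd_apply, IsScalarTower.coe_toAlgHom'] at h
      exact h.trans (congrArg _ h2)
    have hgA : ∀ a, g (algebraMap A B a) = algebraMap A Y.E a := fun a =>
      ((AlgHom.fst A Y.E B).comp ((Y.fiberProd B).val.comp s')).commutes a
    let X : Exal.Ext B C L :=
      @Exal.Ext.mk B C L _ _ _ _ _ Y.E Y.commRing g.toAlgebra
        (@AlgHom.mk B Y.E C _ _ _ g.toAlgebra _ Y.proj.toRingHom hg) Y.incl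
        (@Exal.IsExtension.mk B C Y.E L _ _ _ _ g.toAlgebra _ _ _ _ Y.isExtension.proj_surjective
          Y.isExtension.incl_injective Y.isExtension.exact Y.isExtension.mul_incl)
    let id' : (X.restrictBase A).E →ₐ[A] Y.E :=
      { toFun := fun x => x
        map_one' := rfl
        map_mul' := fun _ _ => rfl
        map_zero' := rfl
        map_add' := fun _ _ => rfl
        commutes' := hgA }
    exact ⟨X, ⟨ExalLib.mkEquiv id' (fun _ => rfl) fun _ => rfl⟩⟩
  · rintro ⟨X, ⟨e⟩⟩
    let g : B →+* Y.E := (e.toAlgEquiv.toAlgHom.toRingHom : X.RestrictCarrier A →+* Y.E).comp (algebraMap B X.E)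
    have hg : ∀ b, Y.proj (g b) = algebraMap B C b := fun b => (e.proj_apply _).trans (X.proj.commutes b)
    have hgA : ∀ a, g (algebraMap A B a) = algebraMap A Y.E a := fun a => e.toAlgEquiv.commutes a
    let t : B →ₐ[A] Y.E × B := AlgHom.prod { g with commutes' := hgA } (AlgHom.id A B)
    have ht : ∀ b, t b ∈ Y.fiberProd B := fun b => by
      simp only [Exal.Ext.fiberProd, AlgHom.mem_equalizer]
      exact hg b
    exact ⟨t.codRestrict (Y.fiberProd B) ht, fun b => rfl⟩

end Groth.Agent.S5819
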