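import Groth.Statements.S5821
import Groth.Agent.ExalLib.Infinitesimal

set_option autoImplicit false
set_option linter.style.haveILetI false
set_option backward.isDefEq.respectTransparency false
open Groth.Agent
attribute [local instance] Exal.opModule Exal.isCentralScalar_opModule
universe u v
open EGA41

namespace Groth.Agent.S5821

/-- For a ring map A → B, an ideal K of B, C = B ⧸ K and the B-extension E = B ⧸ K² of C by K/K², if E
is A-trivial then its characteristic homomorphism Υ_{C/B/A} → K/K² is bijective (stated for every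
C-linear χ satisfying the defining square, of which there is exactly one). -/
theorem result {A : Type u} {B : Type v} [CommRing A] [CommRing B] [Algebra A B]
    (K : Ideal B) (hK : (Exal.Ext.infinitesimal K).IsTrivialOver A)
    (χ : ↥(EGA41.imperfection A B (B ⧸ K)) →ₗ[B ⧸ K] K.Cotangent)
    (hχ : (Exal.Ext.infinitesimal K).IsCharHom A χ) :
    Function.Bijective χ := by
  obtain ⟨s, hs, hsA⟩ := ExalLib.exists_sec hK
  have key := (ExalLib.isCharHom_iff (Exal.Ext.infinitesimal K) s hs hsA χ).1 hχ
  refine ⟨fun z z' h => ?_, fun k => ?_⟩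
  · refine Subtype.ext (sub_eq_zero.1 (ExalLib.linOf_eq_zero K s hs hsA (Submodule.sub_mem _ z.2 z'.2) ?_))
    rw [map_sub, ← key z, ← key z', h, sub_self]
  · obtain ⟨⟨x, hx⟩, rfl⟩ := K.toCotangent_surjective k
    exact ⟨⟨_, ExalLib.tmul_D_mem K x hx⟩, (key _).trans (ExalLib.linOf_tmul_D_infinitesimal K s hs hsA x hx)⟩

end Groth.Agent.S5821
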