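import Groth.Statements.S5824
import Groth.Agent.ExalLib.Char
import Mathlib.RingTheory.Smooth.Basic
import Mathlib.RingTheory.Smooth.Kaehler

set_option autoImplicit false
set_option linter.style.haveILetI false
set_option backward.isDefEq.respectTransparency false
open Groth.Agent
attribute [local instance] Exal.opModule Exal.isCentralScalar_opModule
universe u v
open EGA41

namespace Groth.Agent.S5824

/-- For ring maps A → B → C with C formally smooth over A (discrete topologies) and Ω_{C/B} a projective
C-module, and a C-module L, the characteristic homomorphism is a bijection from the classes of all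
B-extensions of C by L (each of which is A-trivial) onto Hom_C(Υ_{C/B/A}, L): injectivity on classes
and surjectivity. -/
theorem result {A : Type u} {B C L : Type v} [CommRing A] [CommRing B] [CommRing C]
    [Algebra A B] [Algebra B C] [Algebra A C] [IsScalarTower A B C] [AddCommGroup L] [Module C L]
    [Algebra.FormallySmooth A C] [Module.Projective C Ω[C⁄B]] :
    (∀ (X Y : Exal.Ext B C L) (χ : ↥(EGA41.imperfection A B C) →ₗ[C] L),
        X.IsCharHom A χ → Y.IsCharHom A χ → Nonempty (X.Equiv Y)) ∧
      ∀ χ : ↥(EGA41.imperfection A B C) →ₗ[C] L, ∃ X : Exal.Ext B C L, X.IsCharHom A χ := by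
  classical
  letI : Module B L := Module.compHom L (algebraMap B C)
  haveI : IsScalarTower B C L := IsScalarTower.of_algebraMap_smul fun _ _ => rfl
  letI : Module A L := Module.compHom L (algebraMap A C)
  haveI : IsScalarTower A B L := IsScalarTower.of_algebraMap_smul fun a z => by
    show algebraMap B C (algebraMap A B a) • z = algebraMap A C a • z
    rw [← IsScalarTower.algebraMap_apply]
  let m := KaehlerDifferential.map A B C C
  let μ := KaehlerDifferential.mapBaseChange A B C
  obtain ⟨t, ht⟩ := Module.projective_lifting_property m LinearMap.id (KaehlerDifferential.map_surjective A B C)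
  have htm : ∀ ω, m (t ω) = ω := fun ω => LinearMap.congr_fun ht ω
  refine ⟨fun X Y χ hX hY => ?_, fun χ => ?_⟩
  · have triv : ∀ Z : Exal.Ext B C L, Z.IsTrivialOver A := fun Z => by
      letI : Algebra A Z.E := ((algebraMap B Z.E).comp (algebraMap A B)).toAlgebra
      let p : Z.E →ₐ[A] C := { Z.proj.toRingHom with commutes' := fun a => (Z.proj.commutes _).trans (IsScalarTower.algebraMap_apply A B C a).symm }
      have hsq : IsNilpotent (RingHom.ker (p : Z.E →+* C)) := ⟨2, by
        rw [pow_two, Ideal.zero_eq_bot, ← le_bot_iff, Ideal.mul_le]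
        intro r hr r' hr'
        obtain ⟨z, rfl⟩ := (Z.isExtension.exact r).mp hr
        obtain ⟨z', rfl⟩ := (Z.isExtension.exact r').mp hr'
        exact ExalLib.incl_mul_incl Z z z'⟩
      let s := Algebra.FormallySmooth.liftOfSurjective (AlgHom.id A C) p Z.isExtension.proj_surjective hsq
      exact ExalLib.isTrivialOver_of_sec s.toRingHom
        (fun c => Algebra.FormallySmooth.liftOfSurjective_apply (AlgHom.id A C) p Z.isExtension.proj_surjective hsq c)
        fun a => s.commutes a
    exact ExalLib.equiv_of_charHom (Or.inr ⟨t, htm⟩) X Y (triv X) (triv Y) χ hX hY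
  · have hm : ∀ ω, ω - t (m ω) ∈ LinearMap.range μ := fun ω =>
      (KaehlerDifferential.exact_mapBaseChange_map A B C _).1 (by
        show m (ω - t (m ω)) = 0
        rw [map_sub, htm, sub_self])
    let P : Ω[C⁄A] →ₗ[C] LinearMap.range μ := (LinearMap.id - t.comp m).codRestrict _ hm
    have hP : P.comp (LinearMap.range μ).subtype = LinearMap.id := LinearMap.ext fun y => by
      apply Subtype.ext
      show (y : Ω[C⁄A]) - t (m y) = y
      obtain ⟨x, hx⟩ := y.2
      rw [← hx, show m (μ x) = 0 from (KaehlerDifferential.exact_mapBaseChange_map A B C _).2 ⟨x, rfl⟩, map_zero, sub_zero]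
    haveI : Module.Projective C (LinearMap.range μ) := Module.Projective.of_split _ P hP
    obtain ⟨σ, hσ⟩ := Module.projective_lifting_property μ.rangeRestrict LinearMap.id μ.surjective_rangeRestrict
    have hr : ∀ x, x - σ (μ.rangeRestrict x) ∈ EGA41.imperfection A B C := fun x => by
      show μ (x - σ (μ.rangeRestrict x)) = 0
      rw [map_sub, show μ (σ (μ.rangeRestrict x)) = μ x from congrArg Subtype.val (LinearMap.congr_fun hσ (μ.rangeRestrict x)), sub_self]
    obtain ⟨X, -, hX⟩ := ExalLib.exists_of_charHom (A := A) (Or.inr
      ⟨(LinearMap.id - σ.comp μ.rangeRestrict).codRestrict _ hr, fun z => by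
        apply Subtype.ext
        show z.1 - σ (μ.rangeRestrict z.1) = z.1
        rw [show μ.rangeRestrict z.1 = 0 from Subtype.ext z.2, map_zero, sub_zero]⟩) χ
    exact ⟨X, hX⟩

end Groth.Agent.S5824
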