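import Groth.Statements.S5825
import Mathlib

set_option autoImplicit false
universe u v w
open EGA41

namespace Groth.Agent.S5825

/-- Let A be a topological ring, M, N topological A-modules with the topologies deduced from that of A,
and u : M → N a continuous linear map with dense image (a formal epimorphism). Then u is a formal
bimorphism (dense image and inducing) if and only if, for every open ideal J of A, the induced map
M/JM → N/JN is bijective (injectivity and surjectivity are written out elementwise). -/
theorem result {A : Type u} {M : Type v} {N : Type w} [CommRing A]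
    [TopologicalSpace A] [AddCommGroup M] [Module A M] [TopologicalSpace M] [AddCommGroup N] [Module A N]
    [TopologicalSpace N] (hM : TopMod.IsDeduced A M) (hN : TopMod.IsDeduced A N) (u : M →L[A] N)
    (hu : DenseRange u) :
    IsDenseInducing u ↔
      ∀ J : Ideal A, IsOpen (J : Set A) →
        (∀ x : M, u x ∈ (J • ⊤ : Submodule A N) → x ∈ (J • ⊤ : Submodule A M)) ∧
          ∀ y : N, ∃ x : M, y - u x ∈ (J • ⊤ : Submodule A N) := by
  classical
  haveI := hM.1
  haveI := hN.1
  have happrox : ∀ J : Ideal A, IsOpen (J : Set A) → ∀ y : N, ∃ x : M, y - u x ∈ (J • ⊤ : Submodule A N) := fun J hJ y => by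
    have h0 := hN.2.mem_of_mem hJ
    have hc : Continuous fun z : N => y - z := by continuity
    have h1 : (fun z : N => y - z) ⁻¹' ((J • ⊤ : Submodule A N) : Set N) ∈ nhds y :=
      hc.continuousAt.preimage_mem_nhds (by rw [sub_self]; exact h0)
    obtain ⟨x, hx⟩ := hu.mem_nhds h1
    exact ⟨x, hx⟩
  constructor
  · intro h J hJ
    refine ⟨fun x hx => ?_, happrox J hJ⟩
    have h0 := hM.2.mem_of_mem hJ
    rw [h.toIsInducing.nhds_eq_comap, map_zero] at h0
    obtain ⟨V, hV, hVJ⟩ := h0
    obtain ⟨J', hJ', hJ'V⟩ := hN.2.mem_iff.1 hV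
    have key : ∀ y ∈ (J • ⊤ : Submodule A N), ∃ z ∈ (J • ⊤ : Submodule A M), y - u z ∈ (J' • ⊤ : Submodule A N) := by
      intro y hy
      refine Submodule.smul_induction_on hy (fun r hr m _ => ?_) (fun a b ha hb => ?_)
      · obtain ⟨z, hz⟩ := happrox J' hJ' m
        exact ⟨r • z, Submodule.smul_mem_smul hr trivial, by rw [map_smul, ← smul_sub]; exact Submodule.smul_mem _ r hz⟩
      · obtain ⟨za, hza, ha⟩ := ha
        obtain ⟨zb, hzb, hb⟩ := hb
        exact ⟨za + zb, add_mem hza hzb, by rw [map_add, add_sub_add_comm]; exact add_mem ha hb⟩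
    obtain ⟨z, hz, hz'⟩ := key _ hx
    have := hVJ (show x - z ∈ u ⁻¹' V from hJ'V (by rw [SetLike.mem_coe, map_sub]; exact hz'))
    simpa using add_mem (show x - z ∈ (J • ⊤ : Submodule A M) from this) hz
  · intro h
    have hind : Topology.IsInducing u := by
      refine IsTopologicalAddGroup.isInducing_iff_nhds_zero (f := u.toLinearMap.toAddMonoidHom) |>.2 ?_
      refine le_antisymm ?_ fun S hS => ?_
      · have h1 := u.continuous.tendsto 0
        rw [map_zero] at h1
        exact h1.le_comap
      · obtain ⟨J, hJ, hJS⟩ := hM.2.mem_iff.1 hS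
        exact Filter.mem_of_superset (Filter.preimage_mem_comap (hN.2.mem_of_mem hJ)) fun x hx => hJS ((h J hJ).1 x hx)
    exact ⟨hind, hu⟩

end Groth.Agent.S5825
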