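import Groth.Statements.S5826
import Mathlib

set_option autoImplicit false
universe u v w
open EGA41

namespace Groth.Agent.S5826

/-- Let A be a topological ring, M, N topological A-modules with the topologies deduced from that of A,
u : M → N a continuous linear map. Then u is formally left invertible if and only if, for every open
ideal J of A, the induced map M/JM → N/JN is left invertible, i.e. some linear map N → M/JM composes
with u to the projection M → M/JM. -/
theorem result {A : Type u} {M : Type v} {N : Type w}
    [CommRing A] [TopologicalSpace A] [AddCommGroup M] [Module A M] [TopologicalSpace M] [AddCommGroup N]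
    [Module A N] [TopologicalSpace N] (hM : TopMod.IsDeduced A M) (hN : TopMod.IsDeduced A N)
    (u : M →L[A] N) :
    TopMod.IsFormallyLeftInvertible u ↔
      ∀ J : Ideal A, IsOpen (J : Set A) →
        ∃ w : N →ₗ[A] M ⧸ (J • ⊤ : Submodule A M), ∀ x : M, w (u x) = Submodule.Quotient.mk x := by
  classical
  haveI := hM.1
  haveI := hN.1
  constructor
  · intro h J hJ
    letI : TopologicalSpace (M ⧸ (J • ⊤ : Submodule A M)) := ⊥
    haveI : DiscreteTopology (M ⧸ (J • ⊤ : Submodule A M)) := ⟨rfl⟩
    have hc : Continuous (J • ⊤ : Submodule A M).mkQ := by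
      refine continuous_of_continuousAt_zero (J • ⊤ : Submodule A M).mkQ.toAddMonoidHom ?_
      show Filter.Tendsto _ (nhds 0) _
      rw [map_zero, nhds_discrete (M ⧸ (J • ⊤ : Submodule A M)), Filter.tendsto_pure]
      filter_upwards [hM.2.mem_of_mem hJ] with x hx
      exact (Submodule.Quotient.mk_eq_zero _).2 hx
    obtain ⟨w, hw⟩ := h (M ⧸ (J • ⊤ : Submodule A M)) ⟨(J • ⊤ : Submodule A M).mkQ, hc⟩
    exact ⟨w.toLinearMap, hw⟩
  · intro h E _ _ _ _ v
    have hv : {x | v x = 0} ∈ nhds (0 : M) :=
      ((isOpen_discrete ({0} : Set E)).preimage v.continuous).mem_nhds (map_zero v)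
    obtain ⟨J, hJ, hJv⟩ := hM.2.mem_iff.1 hv
    obtain ⟨w, hw⟩ := h J hJ
    let g : N →ₗ[A] E := ((J • ⊤ : Submodule A M).liftQ v.toLinearMap (fun x hx => hJv hx)).comp w
    have hg : ∀ y ∈ (J • ⊤ : Submodule A N), g y = 0 := fun y hy => by
      suffices hw0 : w y = 0 by
        show ((J • ⊤ : Submodule A M).liftQ v.toLinearMap (fun x hx => hJv hx)) (w y) = 0
        rw [hw0, map_zero]
      refine Submodule.smul_induction_on hy (fun r hr n _ => ?_) (fun a b ha hb => ?_)
      · obtain ⟨m, hm⟩ := Submodule.Quotient.mk_surjective _ (w n)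
        rw [map_smul, ← hm, ← Submodule.Quotient.mk_smul, Submodule.Quotient.mk_eq_zero]
        exact Submodule.smul_mem_smul hr trivial
      · rw [map_add, ha, hb, add_zero]
    have hgc : Continuous g := by
      refine continuous_of_continuousAt_zero g.toAddMonoidHom ?_
      show Filter.Tendsto _ (nhds 0) _
      rw [map_zero, nhds_discrete E, Filter.tendsto_pure]
      filter_upwards [hN.2.mem_of_mem hJ] with x hx
      exact hg x hx
    refine ⟨⟨g, hgc⟩, fun x => ?_⟩
    show ((J • ⊤ : Submodule A M).liftQ v.toLinearMap (fun x hx => hJv hx)) (w (u x)) = v x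
    rw [hw]
    rfl

end Groth.Agent.S5826
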