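import Groth.Statements.S5827
import Groth.Agent.S5826

set_option autoImplicit false
universe u v w
open EGA41

namespace Groth.Agent.S5827

/-- Let A be a preadmissible topological ring with an ideal of definition 𝔏, M, N topological A-modules
with the topologies deduced from that of A such that N/JN is a projective (A/J)-module for every
open ideal J, and u : M → N a continuous linear map. Then u is formally left invertible if and only
if the induced map M/𝔏M → N/𝔏N is left invertible. -/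
theorem result {A : Type u} {M : Type v}
    {N : Type w} [CommRing A] [TopologicalSpace A] [AddCommGroup M] [Module A M] [TopologicalSpace M]
    [AddCommGroup N] [Module A N] [TopologicalSpace N] (hA : LinTop.IsPreadmissible A) (𝔏 : Ideal A)
    (h𝔏 : LinTop.IsIdealOfDefinition A 𝔏) (hM : TopMod.IsDeduced A M) (hN : TopMod.IsDeduced A N)
    (hproj : ∀ J : Ideal A, IsOpen (J : Set A) → Module.Projective (A ⧸ J) (N ⧸ (J • (⊤ : Submodule A N))))
    (u : M →L[A] N) :
    TopMod.IsFormallyLeftInvertible u ↔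
      ∃ w : N →ₗ[A] M ⧸ (𝔏 • ⊤ : Submodule A M), ∀ x : M, w (u x) = Submodule.Quotient.mk x := by
  classical
  haveI := hM.1
  haveI := hN.1
  rw [Groth.Agent.S5826.result hM hN u]
  refine ⟨fun h => h 𝔏 h𝔏.1, fun ⟨w, hw⟩ J hJ => ?_⟩
  obtain ⟨n, -, hn⟩ := h𝔏.2 J (hJ.mem_nhds J.zero_mem)
  let R := A ⧸ J
  let MJ := M ⧸ (J • ⊤ : Submodule A M)
  let NJ := N ⧸ (J • ⊤ : Submodule A N)
  haveI : Module.Projective R NJ := hproj J hJ
  let S : Submodule A MJ := 𝔏 • ⊤
  have hJS : ∀ (j : J) (x : MJ), (j : A) • x = 0 := fun j x => by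
    obtain ⟨x, rfl⟩ := Submodule.Quotient.mk_surjective _ x
    exact (Submodule.Quotient.mk_eq_zero _).2 (Submodule.smul_mem_smul j.2 trivial)
  -- reduction modulo `𝔏`
  let P : M →ₗ[A] MJ ⧸ S := S.mkQ.comp (J • ⊤ : Submodule A M).mkQ
  have hP : (𝔏 • ⊤ : Submodule A M) ≤ LinearMap.ker P := Submodule.smul_le.2 fun r hr x _ => by
    show S.mkQ ((J • ⊤ : Submodule A M).mkQ (r • x)) = 0
    rw [map_smul, Submodule.mkQ_apply, Submodule.Quotient.mk_eq_zero]
    exact Submodule.smul_mem_smul hr trivial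
  let w0 : N →ₗ[A] MJ ⧸ S := ((𝔏 • ⊤ : Submodule A M).liftQ P hP).comp w
  have hw0 : (J • ⊤ : Submodule A N) ≤ LinearMap.ker w0 := Submodule.smul_le.2 fun r hr x _ => by
    show w0 (r • x) = 0
    rw [map_smul]
    obtain ⟨y, hy⟩ := Submodule.Quotient.mk_surjective _ (w0 x)
    rw [← hy, ← Submodule.Quotient.mk_smul, hJS ⟨r, hr⟩, Submodule.Quotient.mk_zero]
  let w1 : NJ →ₗ[A] MJ ⧸ S := (J • ⊤ : Submodule A N).liftQ w0 hw0
  letI : Module R (MJ ⧸ S) := Module.IsTorsionBySet.module (fun x j => by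
    obtain ⟨x, rfl⟩ := Submodule.Quotient.mk_surjective _ x
    rw [← Submodule.Quotient.mk_smul, hJS j, Submodule.Quotient.mk_zero])
  haveI : IsScalarTower A R (MJ ⧸ S) := IsScalarTower.of_algebraMap_smul fun _ _ => rfl
  have hsur : Function.Surjective (algebraMap A R) := Ideal.Quotient.mk_surjective
  let w2 : NJ →ₗ[R] MJ ⧸ S := w1.extendScalarsOfSurjective hsur
  let q : MJ →ₗ[R] MJ ⧸ S := S.mkQ.extendScalarsOfSurjective hsur
  obtain ⟨v, hv⟩ := Module.projective_lifting_property q w2 S.mkQ_surjective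
  have hv' : ∀ y : NJ, S.mkQ (v y) = w1 y := fun y => LinearMap.congr_fun hv y
  let uJ : MJ →ₗ[A] NJ := (J • ⊤ : Submodule A M).mapQ (J • ⊤) u.toLinearMap
    (Submodule.smul_le.2 fun r hr x _ => by
      show u (r • x) ∈ (J • ⊤ : Submodule A N)
      rw [map_smul]
      exact Submodule.smul_mem_smul hr trivial)
  let vA : NJ →ₗ[A] MJ := v.restrictScalars A
  let t : Module.End A MJ := vA.comp uJ - LinearMap.id
  have ht : ∀ x, t x ∈ S := fun x => by
    rw [← Submodule.Quotient.mk_eq_zero, ← Submodule.mkQ_apply]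
    show S.mkQ (v (uJ x) - x) = 0
    rw [map_sub, hv', sub_eq_zero]
    obtain ⟨x, rfl⟩ := Submodule.Quotient.mk_surjective _ x
    show w0 (u x) = _
    show ((𝔏 • ⊤ : Submodule A M).liftQ P hP) (w (u x)) = _
    rw [hw]
    rfl
  have hpow : ∀ k x, (t ^ k) x ∈ (𝔏 ^ k • ⊤ : Submodule A MJ) := by
    intro k
    induction k with
    | zero => intro x; rw [pow_zero, Ideal.one_eq_top, Submodule.top_smul]; trivial
    | succ k ih =>
      intro x
      rw [show t ^ (k + 1) = t * t ^ k from pow_succ' t k, Module.End.mul_apply]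
      have h1 : (𝔏 ^ k • ⊤ : Submodule A MJ).map t ≤ 𝔏 ^ k • S := by
        rw [Submodule.map_smul'']
        exact Submodule.smul_mono le_rfl (fun y ⟨z, _, hz⟩ => hz ▸ ht z)
      have h2 := h1 ⟨_, ih x, rfl⟩
      rwa [show (𝔏 ^ k • S : Submodule A MJ) = 𝔏 ^ (k + 1) • ⊤ by rw [← Submodule.smul_assoc, smul_eq_mul, ← pow_succ]] at h2
  have hnil : IsNilpotent t := ⟨n, LinearMap.ext fun x => by
    have h := hpow n x
    have h0 : (𝔏 ^ n • ⊤ : Submodule A MJ) ≤ ⊥ := Submodule.smul_le.2 fun r hr y _ => (Submodule.mem_bot A).2 (hJS ⟨r, hn hr⟩ y)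
    exact h0 h⟩
  obtain ⟨e, he⟩ := hnil.isUnit_one_add
  refine ⟨((↑e⁻¹ : Module.End A MJ).comp vA).comp (J • ⊤ : Submodule A N).mkQ, fun x => ?_⟩
  have h1 : vA (uJ (Submodule.Quotient.mk x)) = (e : Module.End A MJ) (Submodule.Quotient.mk x) := by
    rw [he]
    show _ = Submodule.Quotient.mk x + (v (uJ (Submodule.Quotient.mk x)) - Submodule.Quotient.mk x)
    rw [add_sub_cancel]
    rfl
  show (↑e⁻¹ : Module.End A MJ) (vA (uJ (Submodule.Quotient.mk x))) = _
  rw [h1, ← Module.End.mul_apply, Units.inv_mul, Module.End.one_apply]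

end Groth.Agent.S5827
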