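import Groth.Statements.S5828
import Groth.Agent.ExalLib.Basic

set_option autoImplicit false
set_option linter.style.haveILetI false
set_option backward.isDefEq.respectTransparency false
open Groth.Agent
attribute [local instance] Exal.opModule Exal.isCentralScalar_opModule
universe u v
open EGA41

namespace Groth.Agent.S5828

/-- Commutative case. For an A-extension X of C by a C-module L, with middle ring E, projection p and
inclusion i, the A-derivations D : C → L and the self-equivalences of X correspond under D ↦ (x ↦ x
+ i (D (p x))): every derivation defines a self-equivalence with this formula, and every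
self-equivalence is of this form for exactly one derivation. (Bijection of sets; the published
statement also records compatibility with the group laws.) -/
theorem result {A : Type u} {C L : Type v} [CommRing A] [CommRing C] [Algebra A C]
    [AddCommGroup L] [Module C L] [Module A L] [IsScalarTower A C L] (X : Exal.Ext A C L) :
    (∀ D : Derivation A C L, ∃ e : X.Equiv X, ∀ x : X.E, e.toAlgEquiv x = x + X.incl (D (X.proj x))) ∧
      ∀ e : X.Equiv X, ∃! D : Derivation A C L, ∀ x : X.E, e.toAlgEquiv x = x + X.incl (D (X.proj x)) := by
  classical
  have hsur := X.isExtension.proj_surjective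
  refine ⟨fun D => ?_, fun e => ?_⟩
  · let f : X.E →ₐ[A] X.E :=
      { toFun := fun x => x + X.incl (D (X.proj x))
        map_one' := by rw [map_one, Derivation.map_one_eq_zero, map_zero, add_zero]
        map_mul' := fun x y => by
          have h1 := X.isExtension.mul_incl x (D (X.proj y))
          have h2 := X.isExtension.mul_incl y (D (X.proj x))
          rw [map_mul, Derivation.leibniz, map_add]
          linear_combination -h1 - h2 - ExalLib.incl_mul_incl X (D (X.proj x)) (D (X.proj y))
        map_zero' := by rw [map_zero, map_zero, map_zero, add_zero]
        map_add' := fun x y => by rw [map_add, map_add, map_add]; abel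
        commutes' := fun a => by rw [X.proj.commutes, Derivation.map_algebraMap, map_zero, add_zero] }
    refine ⟨ExalLib.mkEquiv f (fun x => ?_) (fun z => ?_), fun x => rfl⟩
    · show X.proj (x + X.incl (D (X.proj x))) = X.proj x
      rw [map_add, ExalLib.proj_incl, add_zero]
    · show X.incl z + X.incl (D (X.proj (X.incl z))) = X.incl z
      rw [ExalLib.proj_incl, map_zero, map_zero, add_zero]
  · have hp : ∀ x, X.proj (e.toAlgEquiv x - x) = 0 := fun x => by rw [map_sub, e.proj_apply, sub_self]
    let d : X.E → L := fun x => X.kerLift _ (hp x)
    have hd : ∀ x, X.incl (d x) = e.toAlgEquiv x - x := fun x => X.incl_kerLift _ _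
    have key : ∀ x y, X.proj x = X.proj y → d x = d y := fun x y h => by
      obtain ⟨z, rfl⟩ := ExalLib.exists_incl X h
      apply X.isExtension.incl_injective
      rw [hd, hd, map_add, e.apply_incl]
      ring
    choose σ hσ using hsur
    have hDmul : ∀ c c', d (σ (c * c')) = c • d (σ c') + c' • d (σ c) := fun c c' => by
      rw [key (σ (c * c')) (σ c * σ c') (by rw [map_mul, hσ, hσ, hσ])]
      apply X.isExtension.incl_injective
      have h1 := X.isExtension.mul_incl (e.toAlgEquiv (σ c)) (d (σ c'))
      have h2 := X.isExtension.mul_incl (σ c') (d (σ c))
      rw [e.proj_apply, hσ, hd] at h1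
      rw [hσ, hd] at h2
      rw [map_add, hd, map_mul, ← h1, ← h2]
      ring
    let D : Derivation A C L := Derivation.mk'
      { toFun := fun c => d (σ c)
        map_add' := fun c c' => by
          rw [key (σ (c + c')) (σ c + σ c') (by rw [map_add, hσ, hσ, hσ])]
          apply X.isExtension.incl_injective
          rw [map_add, hd, hd, hd, map_add]
          ring
        map_smul' := fun a c => by
          have h0 : d (σ (algebraMap A C a)) = 0 := by
            rw [key (σ (algebraMap A C a)) (algebraMap A X.E a) (by rw [hσ, AlgHom.commutes])]
            apply X.isExtension.incl_injective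
            rw [hd, AlgEquiv.commutes, sub_self, map_zero]
          rw [Algebra.smul_def, hDmul, h0, smul_zero, add_zero, RingHom.id_apply, algebraMap_smul] } hDmul
    refine ⟨D, fun x => ?_, fun D' hD' => ?_⟩
    · show e.toAlgEquiv x = x + X.incl (d (σ (X.proj x)))
      rw [key (σ (X.proj x)) x (hσ _), hd]
      ring
    · ext c
      apply X.isExtension.incl_injective
      show X.incl (D' c) = X.incl (d (σ c))
      rw [hd, hD' (σ c), hσ]
      ring

end Groth.Agent.S5828
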