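import Groth.Statements.S5831
import Mathlib

set_option autoImplicit false
universe u
open EGA41

namespace Groth.Agent.S5831

/-- Discrete case. Let B be an A-algebra which is a projective A-module (A and B in one universe). If
for every B-module L in that universe every A-bilinear symmetric Hochschild 2-cocycle B × B → L is a
coboundary, then B is formally smooth over A. (The published statement assumes B formally projective
as a topological A-module; for discrete rings this is projectivity.) -/
theorem result {A B : Type u} [CommRing A]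
    [CommRing B] [Algebra A B] [Module.Projective A B]
    (h : ∀ (L : Type u) [AddCommGroup L] [Module B L] [Module A L] [IsScalarTower A B L]
      (f : B →ₗ[A] B →ₗ[A] L), (∀ x y : B, f x y = f y x) →
        (∀ x y z : B, f (x * y) z + z • f x y = x • f y z + f x (y * z)) →
          ∃ g : B →ₗ[A] L, ∀ x y : B, f x y = x • g y - g (x * y) + y • g x) :
    Algebra.FormallySmooth A B := by
  refine Algebra.FormallySmooth.of_comp_surjective fun C _ _ I hI φ => ?_
  obtain ⟨s, hs⟩ := Module.projective_lifting_property (Ideal.Quotient.mkₐ A I).toLinearMap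
    φ.toLinearMap Ideal.Quotient.mk_surjective
  have hmk : ∀ b, Ideal.Quotient.mk I (s b) = φ b := fun b => LinearMap.congr_fun hs b
  have hkill : ∀ i j : C, i ∈ I → j ∈ I → i * j = 0 := by
    intro i j hi hj
    have : i * j ∈ I ^ 2 := by rw [pow_two]; exact Ideal.mul_mem_mul hi hj
    rwa [hI, Ideal.mem_bot] at this
  have heq : ∀ (c c' : C), Ideal.Quotient.mk I c = Ideal.Quotient.mk I c' → ∀ l : I, c * l = c' * l :=
    fun c c' h l => sub_eq_zero.mp (by rw [← sub_mul]; exact hkill _ _ (Ideal.Quotient.eq.mp h) l.2)
  letI : Module B I :=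
    { smul := fun b l => ⟨s b * l, I.mul_mem_left _ l.2⟩
      one_smul := fun l => Subtype.ext ((heq (s 1) 1 (by rw [hmk, map_one, map_one]) l).trans (one_mul _))
      mul_smul := fun x y l => Subtype.ext ((heq (s (x * y)) (s x * s y)
        (by rw [hmk, map_mul, map_mul, hmk, hmk]) l).trans (mul_assoc _ _ _))
      smul_zero := fun b => Subtype.ext (mul_zero _)
      smul_add := fun b l l' => Subtype.ext (mul_add _ _ _)
      add_smul := fun x y l => Subtype.ext (show s (x + y) * (l : C) = s x * l + s y * l by
        rw [map_add, add_mul])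
      zero_smul := fun l => Subtype.ext (show s 0 * (l : C) = 0 by rw [map_zero, zero_mul]) }
  have hsmul : ∀ (b : B) (l : I), ((b • l : I) : C) = s b * l := fun b l => rfl
  haveI : IsScalarTower A B I := ⟨fun a b l => Subtype.ext (by
    change s (a • b) * (l : C) = a • (s b * (l : C))
    rw [map_smul, smul_mul_assoc])⟩
  have hfI : ∀ x y, s x * s y - s (x * y) ∈ I := fun x y => by
    rw [← Ideal.Quotient.eq, map_mul, hmk, hmk, hmk, map_mul]
  let f : B →ₗ[A] B →ₗ[A] I := LinearMap.mk₂ A (fun x y => ⟨s x * s y - s (x * y), hfI x y⟩)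
    (fun x x' y => Subtype.ext (by simp [add_mul]; ring))
    (fun a x y => Subtype.ext (by simp [smul_sub, smul_mul_assoc]))
    (fun x y y' => Subtype.ext (by simp [mul_add]; ring))
    (fun a x y => Subtype.ext (by simp [smul_sub, mul_smul_comm]))
  have hf : ∀ x y, ((f x y : I) : C) = s x * s y - s (x * y) := fun x y => rfl
  obtain ⟨g, hg⟩ := h I f (fun x y => Subtype.ext (by rw [hf, hf, mul_comm (s x), mul_comm x]))
    (fun x y z => Subtype.ext (by
      simp only [Submodule.coe_add, hf, hsmul, mul_assoc]
      ring))
  let t : B →ₗ[A] C := s - (I.subtype.restrictScalars A) ∘ₗ g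
  have ht : ∀ b, t b = s b - (g b : C) := fun b => rfl
  have htmk : ∀ b, Ideal.Quotient.mk I (t b) = φ b := fun b => by
    rw [ht, map_sub, hmk, Ideal.Quotient.eq_zero_iff_mem.mpr (g b).2, sub_zero]
  have htmul : ∀ x y, t (x * y) = t x * t y := by
    intro x y
    have h1 := congrArg Subtype.val (hg x y)
    simp only [Submodule.coe_add, Submodule.coe_sub, AddSubgroupClass.coe_sub, hf, hsmul] at h1
    rw [ht, ht, ht]
    linear_combination -h1 - hkill _ _ (g x).2 (g y).2
  have ht1 : t 1 = 1 := by
    have h1 : t 1 - 1 ∈ I := by rw [← Ideal.Quotient.eq, htmk, map_one, map_one]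
    have h2 := hkill _ _ h1 h1
    have h3 := htmul 1 1
    rw [mul_one] at h3
    linear_combination -h2 - h3
  refine ⟨AlgHom.ofLinearMap t ht1 htmul, ?_⟩
  exact AlgHom.ext htmk

end Groth.Agent.S5831
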