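import Groth.Statements.S5832
import Groth.Agent.ExalLib.Basic

set_option autoImplicit false
set_option linter.style.haveILetI false
set_option backward.isDefEq.respectTransparency false
open Groth.Agent
attribute [local instance] Exal.opModule Exal.isCentralScalar_opModule
universe u u' v
open EGA41

namespace Groth.Agent.S5832

/-- Surjectivity at the end of the sequence. For ring maps Λ → A → B → C and a C-module L, every
Λ-trivial A-extension of B by L is equivalent to the inverse image along B → C of a Λ-trivial
A-extension of C by L. (Exactness at the other places is that of the six-term derivation-extension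
sequence restricted to Λ-trivial classes.) -/
theorem result {Λ : Type u} {A : Type u'} {B C L : Type v}
    [CommRing Λ] [CommRing A] [CommRing B] [CommRing C] [Algebra Λ A] [Algebra Λ B] [Algebra Λ C]
    [Algebra A B] [Algebra B C] [Algebra A C] [IsScalarTower Λ A B] [IsScalarTower Λ A C] [IsScalarTower A B C]
    [AddCommGroup L] [Module C L] [Module B L] [IsScalarTower B C L]
    (Y : Exal.Ext A B L) (hY : Y.IsTrivialOver Λ) :
    ∃ X : Exal.Ext A C L, X.IsTrivialOver Λ ∧ Nonempty ((X.pullback B).Equiv Y) := by
  classical
  letI : Module A L := Module.compHom L (algebraMap A C)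
  haveI : IsScalarTower A C L := IsScalarTower.of_algebraMap_smul fun a z => rfl
  haveI : IsScalarTower A B L := IsScalarTower.of_algebraMap_smul fun a z => by
    show algebraMap A B a • z = algebraMap A C a • z
    rw [← IsScalarTower.algebraMap_smul C (algebraMap A B a) z, ← IsScalarTower.algebraMap_apply]
  letI : Module Λ L := Module.compHom L (algebraMap Λ C)
  haveI : IsScalarTower Λ C L := IsScalarTower.of_algebraMap_smul fun a z => rfl
  haveI : IsScalarTower Λ A L := IsScalarTower.of_algebraMap_smul fun a z => by
    show algebraMap A C (algebraMap Λ A a) • z = algebraMap Λ C a • z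
    rw [← IsScalarTower.algebraMap_apply]
  obtain ⟨σ, hσ, hσA⟩ := ExalLib.exists_sec hY
  let D : Derivation Λ A L := ExalLib.derOf Y σ hσ hσA
  have hD : ∀ a, Y.incl (D a) = algebraMap A Y.E a - σ (algebraMap A B a) := ExalLib.incl_derOf Y σ hσ hσA
  let φ : A →+* TrivSqZeroExt C L :=
    { toFun := fun a => TrivSqZeroExt.inl (algebraMap A C a) + TrivSqZeroExt.inr (D a)
      map_one' := by simp
      map_mul' := fun a b => by
        apply TrivSqZeroExt.ext
        · simp
        · simp [TrivSqZeroExt.snd_mul, IsScalarTower.algebraMap_smul, add_comm]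
      map_zero' := by simp
      map_add' := fun a b => by
        apply TrivSqZeroExt.ext <;> simp }
  letI algE : Algebra A (Exal.Ext.TrivCarrier A C L) := φ.toAlgebra
  let π : Exal.Ext.TrivCarrier A C L →ₐ[A] C :=
    { toFun := fun x => TrivSqZeroExt.fst x
      map_one' := TrivSqZeroExt.fst_one
      map_mul' := TrivSqZeroExt.fst_mul
      map_zero' := TrivSqZeroExt.fst_zero
      map_add' := TrivSqZeroExt.fst_add
      commutes' := fun a => by
        show (TrivSqZeroExt.inl (algebraMap A C a) + TrivSqZeroExt.inr (D a) : TrivSqZeroExt C L).fst = _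
        simp }
  let T := Exal.Ext.trivial A C L
  let X : Exal.Ext A C L := ⟨Exal.Ext.TrivCarrier A C L, π, T.incl,
    ⟨T.isExtension.proj_surjective, T.isExtension.incl_injective, T.isExtension.exact, T.isExtension.mul_incl⟩⟩
  have hXtriv : X.IsTrivialOver Λ := by
    refine ExalLib.isTrivialOver_of_sec (X := X) (TrivSqZeroExt.inlHom C L : C →+* TrivSqZeroExt C L)
      (fun c => rfl) fun a => ?_
    show (TrivSqZeroExt.inl (algebraMap Λ C a) : TrivSqZeroExt C L) = φ (algebraMap Λ A a)
    simp [φ, ← IsScalarTower.algebraMap_apply]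
  refine ⟨X, hXtriv, ⟨?_⟩⟩
  have hex : ∀ y : Y.E, ∃ z, y = σ (Y.proj y) + Y.incl z := fun y => ExalLib.exists_incl Y (hσ _).symm
  choose zf hzf using hex
  have zf_eq : ∀ y z, y = σ (Y.proj y) + Y.incl z → zf y = z := fun y z h =>
    Y.isExtension.incl_injective (add_left_cancel ((hzf y).symm.trans h))
  let f : Y.E → TrivSqZeroExt C L := fun y => TrivSqZeroExt.inl (algebraMap B C (Y.proj y)) + TrivSqZeroExt.inr (zf y)
  have hone : zf 1 = 0 := zf_eq _ _ (by rw [map_one, map_one, map_zero, add_zero])
  have hzero : zf 0 = 0 := zf_eq _ _ (by rw [map_zero, map_zero, map_zero, add_zero])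
  have hadd : ∀ y y', zf (y + y') = zf y + zf y' := fun y y' => zf_eq _ _ (by
    rw [map_add, map_add, map_add]
    nth_rw 1 [hzf y, hzf y']
    ring)
  have hmul : ∀ y y', zf (y * y') = Y.proj y • zf y' + Y.proj y' • zf y := fun y y' => zf_eq _ _ (by
    have h1 := Y.isExtension.mul_incl (σ (Y.proj y)) (zf y')
    have h2 := Y.isExtension.mul_incl (σ (Y.proj y')) (zf y)
    rw [hσ] at h1 h2
    rw [map_mul, map_mul, map_add, ← h1, ← h2]
    nth_rw 1 [hzf y, hzf y']
    linear_combination ExalLib.incl_mul_incl Y (zf y) (zf y'))
  let g : Y.E →ₐ[A] X.E :=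
    { toFun := f
      map_one' := by
        show f 1 = 1
        simp [f, hone]
      map_mul' := fun y y' => by
        show f (y * y') = f y * f y'
        apply TrivSqZeroExt.ext
        · simp [f]
        · simp [f, hmul, TrivSqZeroExt.snd_mul, IsScalarTower.algebraMap_smul]
      map_zero' := by
        show f 0 = 0
        simp [f, hzero]
      map_add' := fun y y' => by
        show f (y + y') = f y + f y'
        apply TrivSqZeroExt.ext <;> simp [f, hadd]
      commutes' := fun a => by
        show f (algebraMap A Y.E a) = φ a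
        have : zf (algebraMap A Y.E a) = D a := zf_eq _ _ (by rw [hD, Y.proj.commutes]; ring)
        simp [f, φ, this, ← IsScalarTower.algebraMap_apply] }
  let t : Y.E →ₐ[A] X.E × B := g.prod Y.proj
  have ht : ∀ y, t y ∈ X.fiberProd B := fun y => by
    simp only [Exal.Ext.fiberProd, AlgHom.mem_equalizer]
    show (f y).fst = algebraMap B C (Y.proj y)
    simp [f]
  refine (ExalLib.mkEquiv (t.codRestrict (X.fiberProd B) ht) (fun y => rfl) fun z => ?_).symm
  refine Subtype.ext (Prod.ext ?_ (ExalLib.proj_incl Y z))
  show f (Y.incl z) = TrivSqZeroExt.inr z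
  have : zf (Y.incl z) = z := zf_eq _ _ (by rw [ExalLib.proj_incl, map_zero, zero_add])
  simp [f, this, ExalLib.proj_incl]

end Groth.Agent.S5832
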