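import Groth.Statements.S5833
import Groth.Agent.ExalLib.Infinitesimal

set_option autoImplicit false
set_option linter.style.haveILetI false
set_option backward.isDefEq.respectTransparency false
open Groth.Agent
attribute [local instance] Exal.opModule Exal.isCentralScalar_opModule
universe u v
open scoped TensorProduct
open EGA41

namespace Groth.Agent.S5833

/-- Let Λ → A → B be ring maps, K an ideal of B, C = B ⧸ K, and suppose E = B ⧸ K², as an extension of C
by K/K², is Λ-trivial. Let χ : Υ_{C/A/Λ} → K/K² be the characteristic homomorphism of E as an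
A-extension, relative to Λ → A. Then: (a) the kernel of χ consists of the elements of Υ_{C/A/Λ} ⊆ C
⊗_A Ω_{A/Λ} whose image in C ⊗_B Ω_{B/Λ} is zero (that image map is written as the base change to C
of B ⊗_A Ω_{A/Λ} → Ω_{B/Λ}, through the canonical identification C ⊗_B (B ⊗_A Ω_{A/Λ}) = C ⊗_A
Ω_{A/Λ}); (b) the image of χ is the kernel of the conormal map K/K² → C ⊗_B Ω_{B/A}, x ↦ 1 ⊗ dx.
This is the exact sequence 0 → Υ^C_{B/A/Λ} → Υ_{C/A/Λ} → K/K² → C ⊗_B Ω_{B/A} → Ω_{C/A} → 0 up to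
its last two (conormal-sequence) terms. -/
theorem result {Λ : Type u} {A B : Type v} [CommRing Λ]
    [CommRing A] [CommRing B] [Algebra Λ A] [Algebra Λ B] [Algebra A B] [IsScalarTower Λ A B] (K : Ideal B)
    (htriv : ((Exal.Ext.infinitesimal K).restrictBase A).IsTrivialOver Λ)
    (χ : ↥(EGA41.imperfection Λ A (B ⧸ K)) →ₗ[B ⧸ K] K.Cotangent)
    (hχ : ((Exal.Ext.infinitesimal K).restrictBase A).IsCharHom Λ χ) :
    (∀ z : ↥(EGA41.imperfection Λ A (B ⧸ K)),
        χ z = 0 ↔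
          ((KaehlerDifferential.mapBaseChange Λ A B).baseChange (B ⧸ K))
              ((TensorProduct.AlgebraTensorModule.cancelBaseChange A B (B ⧸ K) (B ⧸ K) Ω[A⁄Λ]).symm
                (z : (B ⧸ K) ⊗[A] Ω[A⁄Λ])) = 0) ∧
      ∀ (x : B) (hx : x ∈ K),
        K.toCotangent ⟨x, hx⟩ ∈ LinearMap.range χ ↔
          (1 : B ⧸ K) ⊗ₜ[B] KaehlerDifferential.D A B x = (0 : (B ⧸ K) ⊗[B] Ω[B⁄A]) := by
  classical
  haveI : IsScalarTower A B K.Cotangent := inferInstance
  haveI : IsScalarTower A (B ⧸ K) K.Cotangent := IsScalarTower.of_algebraMap_smul fun a z => by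
    rw [IsScalarTower.algebraMap_apply A B (B ⧸ K), IsScalarTower.algebraMap_smul, IsScalarTower.algebraMap_smul]
  obtain ⟨s, hs, hsA⟩ := ExalLib.exists_sec htriv
  have hsB : ∀ l, s (algebraMap Λ (B ⧸ K) l) = algebraMap B (Exal.Ext.infinitesimal K).E (algebraMap Λ B l) := fun l =>
    (hsA l).trans (congrArg (algebraMap B (Exal.Ext.infinitesimal K).E) (IsScalarTower.algebraMap_apply Λ A B l).symm)
  let D := ExalLib.derOf ((Exal.Ext.infinitesimal K).restrictBase A) s hs hsA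
  let DB := ExalLib.derOf (Exal.Ext.infinitesimal K) s hs hsB
  have hD : ∀ a, D a = DB (algebraMap A B a) := fun a => by
    apply (Exal.Ext.infinitesimal K).isExtension.incl_injective
    rw [ExalLib.incl_derOf (Exal.Ext.infinitesimal K) s hs hsB]
    refine (ExalLib.incl_derOf ((Exal.Ext.infinitesimal K).restrictBase A) s hs hsA a).trans ?_
    rw [← IsScalarTower.algebraMap_apply A B (B ⧸ K)]
    rfl
  have hlin : ∀ z, ExalLib.linOf (B ⧸ K) D z = ExalLib.linOf (B ⧸ K) DB (ExalLib.iota (B := B) z) := fun z => by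
    refine ExalLib.ext_tmul_D (ExalLib.linOf (B ⧸ K) D).toAddMonoidHom
      ((ExalLib.linOf (B ⧸ K) DB).toAddMonoidHom.comp (ExalLib.iota (B := B)).toAddMonoidHom) (fun c a => ?_) z
    show ExalLib.linOf (B ⧸ K) D (c ⊗ₜ KaehlerDifferential.D Λ A a) =
      ExalLib.linOf (B ⧸ K) DB (ExalLib.iota (B := B) (c ⊗ₜ KaehlerDifferential.D Λ A a))
    rw [ExalLib.iota_tmul_D, ExalLib.linOf_tmul_D, ExalLib.linOf_tmul_D, hD]
  have key := (ExalLib.isCharHom_iff _ s hs hsA χ).1 hχ
  have hmem : ∀ z : ↥(EGA41.imperfection Λ A (B ⧸ K)),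
      ExalLib.iota (B := B) (z : (B ⧸ K) ⊗[A] Ω[A⁄Λ]) ∈ EGA41.imperfection Λ B (B ⧸ K) := fun z => by
    show KaehlerDifferential.mapBaseChange Λ B (B ⧸ K) _ = 0
    rw [ExalLib.mapBaseChange_iota]
    exact z.2
  refine ⟨fun z => ⟨fun h => ?_, fun h => ?_⟩, fun x hx => ?_⟩
  · rw [← ExalLib.iota_apply]
    exact ExalLib.linOf_eq_zero K s hs hsB (hmem z) ((hlin _).symm.trans ((key z).symm.trans h))
  · rw [key z, hlin, ExalLib.iota_apply, h, map_zero]
  · have h1 : (1 : B ⧸ K) ⊗ₜ[B] KaehlerDifferential.D A B x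
        = (KaehlerDifferential.map Λ A B B).lTensor (B ⧸ K) ((1 : B ⧸ K) ⊗ₜ[B] KaehlerDifferential.D Λ B x) := by
      rw [LinearMap.lTensor_tmul, KaehlerDifferential.map_D]
      rfl
    rw [h1, ← ExalLib.iota_exact]
    constructor
    · rintro ⟨z, hz⟩
      refine ⟨z, ?_⟩
      rw [← sub_eq_zero]
      refine ExalLib.linOf_eq_zero K s hs hsB (Submodule.sub_mem _ (hmem z) (ExalLib.tmul_D_mem K x hx)) ?_
      rw [map_sub, ← hlin, ← key z, hz, ExalLib.linOf_tmul_D_infinitesimal K s hs hsB x hx, sub_self]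
    · rintro ⟨z, hz⟩
      have hzm : z ∈ EGA41.imperfection Λ A (B ⧸ K) := by
        show KaehlerDifferential.mapBaseChange Λ A (B ⧸ K) z = 0
        rw [← ExalLib.mapBaseChange_iota (B := B), hz]
        exact ExalLib.tmul_D_mem (A := Λ) K x hx
      refine ⟨⟨z, hzm⟩, ?_⟩
      rw [key, hlin, hz, ExalLib.linOf_tmul_D_infinitesimal K s hs hsB x hx]

end Groth.Agent.S5833
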