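import Groth.Statements.S5835
import Groth.Agent.AdmissibleSub.Defect
import Groth.Agent.AdmissibleSub.Sep

set_option autoImplicit false
universe v w
open scoped TensorProduct
open EGA41

namespace Groth.Agent.S5835

/-- For fields k₀ ⊆ k ⊆ K ⊆ L, the map of imperfection modules Υ_{L/K/k₀} → Υ_{L/K/k} induced by
Ω_{K/k₀} → Ω_{K/k} is injective (k is k₀-admissible for the extension L of K) in each of the
following cases: L is separable over k; L is separable over K; k lies in k₀(K^p), p the
characteristic exponent. Separable means geometrically reduced (not necessarily algebraic). -/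
theorem result {k : Type v} {k₀ K L : Type w}
    [Field k₀] [Field k] [Field K] [Field L] [Algebra k₀ k] [Algebra k₀ K] [Algebra k₀ L] [Algebra k K]
    [Algebra k L] [Algebra K L] [IsScalarTower k₀ k K] [IsScalarTower k₀ k L] [IsScalarTower k₀ K L]
    [IsScalarTower k K L] (p : ℕ) [ExpChar K p]
    (h : Algebra.IsGeometricallyReduced k L ∨ Algebra.IsGeometricallyReduced K L ∨
      ∀ x : k, algebraMap k K x ∈ EGA41.pPowerSubalgebra p k₀ K) :
    ∀ z : L ⊗[K] Ω[K⁄k₀], z ∈ EGA41.imperfection k₀ K L →
      (KaehlerDifferential.map k₀ k K K).baseChange L z = 0 → z = 0 := by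
  classical
  intro z hz hψ
  have hz : KaehlerDifferential.mapBaseChange k₀ K L z = 0 := hz
  have hspan := Groth.Agent.AdmissibleSub.ker_bc_le hψ
  have caseK : Algebra.IsGeometricallyReduced K L → z = 0 := fun hKL =>
    (injective_iff_map_eq_zero _).mp (Groth.Agent.AdmissibleSub.mapBaseChange_injective k₀ K L) z hz
  rcases h with h | h | h
  · let c : L ⊗[k] Ω[k⁄k₀] →ₗ[L] L ⊗[K] Ω[K⁄k₀] := LinearMap.liftBaseChange L
      (((TensorProduct.mk K L Ω[K⁄k₀] 1).restrictScalars k).comp (KaehlerDifferential.map k₀ k₀ k K))
    have hc : ∀ x : k, c ((1 : L) ⊗ₜ KaehlerDifferential.D k₀ k x) =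
        (1 : L) ⊗ₜ[K] KaehlerDifferential.D k₀ K (algebraMap k K x) := fun x => by
      simp [c, KaehlerDifferential.map_D]
    have hle : Submodule.span L (Set.range fun x : k =>
        (1 : L) ⊗ₜ[K] KaehlerDifferential.D k₀ K (algebraMap k K x)) ≤ LinearMap.range c := by
      rw [Submodule.span_le]
      rintro _ ⟨x, rfl⟩
      exact ⟨_, hc x⟩
    obtain ⟨y, rfl⟩ := hle hspan
    have hcomp : ∀ y, KaehlerDifferential.mapBaseChange k₀ K L (c y) =
        KaehlerDifferential.mapBaseChange k₀ k L y := by
      intro y
      induction y with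
      | zero => simp
      | add x y hx hy => simp only [map_add, hx, hy]
      | tmul l m =>
        have hm : m ∈ Submodule.span k (Set.range (KaehlerDifferential.D k₀ k)) := by
          rw [KaehlerDifferential.span_range_derivation]; trivial
        induction hm using Submodule.span_induction generalizing l with
        | mem x hx =>
          obtain ⟨x, rfl⟩ := hx
          rw [show l ⊗ₜ[k] KaehlerDifferential.D k₀ k x = l • ((1 : L) ⊗ₜ[k] KaehlerDifferential.D k₀ k x) by
            rw [TensorProduct.smul_tmul', smul_eq_mul, mul_one]]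
          rw [map_smul, map_smul, map_smul, hc, KaehlerDifferential.mapBaseChange_tmul,
            KaehlerDifferential.mapBaseChange_tmul, KaehlerDifferential.map_D, KaehlerDifferential.map_D,
            one_smul, one_smul, ← IsScalarTower.algebraMap_apply]
        | zero => simp
        | add x y _ _ hx hy => simp only [TensorProduct.tmul_add, map_add, hx, hy]
        | smul a x _ hx => rw [← TensorProduct.smul_tmul]; exact hx _
    rw [hcomp] at hz
    haveI := h
    rw [(injective_iff_map_eq_zero _).mp (Groth.Agent.AdmissibleSub.mapBaseChange_injective k₀ k L) y hz,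
      map_zero]
  · exact caseK h
  · cases ‹ExpChar K p› with
    | zero =>
      haveI : PerfectField K := PerfectField.ofCharZero
      haveI := Groth.Agent.FSField.formallySmooth_of_perfectField K L
      refine (injective_iff_map_eq_zero (KaehlerDifferential.mapBaseChange k₀ K L)).mp ?_ z hz
      rw [injective_iff_map_eq_zero]
      intro x hx
      obtain ⟨y, rfl⟩ := (Algebra.H1Cotangent.exact_δ_mapBaseChange k₀ K L x).mp hx
      rw [Subsingleton.elim y 0, map_zero]
    | prime hp =>
      have h0 : ∀ y ∈ EGA41.pPowerSubalgebra p k₀ K, KaehlerDifferential.D k₀ K y = 0 := by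
        intro y hy
        induction hy using Algebra.adjoin_induction with
        | mem y hy =>
          obtain ⟨b, rfl⟩ := hy
          rw [Derivation.leibniz_pow, ← Nat.cast_smul_eq_nsmul K, CharP.cast_eq_zero, zero_smul]
        | algebraMap r => exact Derivation.map_algebraMap _ r
        | add x y _ _ hx hy => rw [map_add, hx, hy, add_zero]
        | mul x y _ _ hx hy => rw [Derivation.leibniz, hx, hy, smul_zero, smul_zero, add_zero]
      refine (Submodule.mem_bot L).mp (Submodule.span_le.mpr ?_ hspan)
      rintro _ ⟨x, rfl⟩
      simp [h0 _ (h x)]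

end Groth.Agent.S5835
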