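import Groth.Statements.S5836
import Groth.Agent.AdmissibleSub.Defect

set_option autoImplicit false
universe u u' u'' w
open scoped TensorProduct
open EGA41

namespace Groth.Agent.S5836

/-- For fields k ⊆ k' ⊆ k'' ⊆ K ⊆ L put Δ(L/K, a/b) = ker(Υ_{L/K/b} → Υ_{L/K/a}) ⊆ L ⊗_K Ω_{K/b}. Then 0
→ Δ(L/K, k'/k) → Δ(L/K, k''/k) → Δ(L/K, k''/k') → 0 is exact: stated as the surjectivity of the map
induced by L ⊗_K Ω_{K/k} → L ⊗_K Ω_{K/k'} (exactness on the left and in the middle hold by
construction), together with the resulting identity of ranks d(L/K, k''/k) = d(L/K, k''/k') + d(L/K,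
k'/k). -/
theorem result {k : Type u} {k' : Type u'} {k'' : Type u''} {K L : Type w}
    [Field k] [Field k'] [Field k''] [Field K] [Field L]
    [Algebra k k'] [Algebra k k''] [Algebra k' k''] [IsScalarTower k k' k'']
    [Algebra k K] [Algebra k' K] [Algebra k'' K] [IsScalarTower k k' K] [IsScalarTower k' k'' K]
    [IsScalarTower k k'' K] [Algebra K L] [Algebra k L] [Algebra k' L] [Algebra k'' L]
    [IsScalarTower k K L] [IsScalarTower k' K L] [IsScalarTower k'' K L] :
    (∀ w : L ⊗[K] Ω[K⁄k'], w ∈ EGA41.imperfection k' K L →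
        (KaehlerDifferential.map k' k'' K K).baseChange L w = 0 →
          ∃ z : L ⊗[K] Ω[K⁄k], z ∈ EGA41.imperfection k K L ∧
            (KaehlerDifferential.map k k'' K K).baseChange L z = 0 ∧
              (KaehlerDifferential.map k k' K K).baseChange L z = w) ∧
      Module.rank L ↥(EGA41.imperfection k K L ⊓
            LinearMap.ker ((KaehlerDifferential.map k k'' K K).baseChange L)) =
        Module.rank L ↥(EGA41.imperfection k' K L ⊓
              LinearMap.ker ((KaehlerDifferential.map k' k'' K K).baseChange L)) +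
          Module.rank L ↥(EGA41.imperfection k K L ⊓
              LinearMap.ker ((KaehlerDifferential.map k k' K K).baseChange L)) := by
  classical
  haveI : IsScalarTower k k' L := IsScalarTower.of_algebraMap_eq fun x => by
    rw [IsScalarTower.algebraMap_apply k K L, IsScalarTower.algebraMap_apply k' K L, ← IsScalarTower.algebraMap_apply k k' K]
  let φ := KaehlerDifferential.mapBaseChange k K L
  let φ' := KaehlerDifferential.mapBaseChange k' K L
  let f := (KaehlerDifferential.map k k' K K).baseChange L
  let g := (KaehlerDifferential.map k' k'' K K).baseChange L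
  let h := (KaehlerDifferential.map k k'' K K).baseChange L
  have hgf : ∀ z, h z = g (f z) := fun z => Groth.Agent.AdmissibleSub.map_comp z
  have hcomm : ∀ z, φ' (f z) = KaehlerDifferential.map k k' L L (φ z) := fun z =>
    Groth.Agent.AdmissibleSub.mapBaseChange_map_comm z
  have surj : ∀ w, w ∈ EGA41.imperfection k' K L → g w = 0 →
      ∃ z, z ∈ EGA41.imperfection k K L ∧ h z = 0 ∧ f z = w := by
    intro w hw hgw
    obtain ⟨z, hz⟩ := LinearMap.lTensor_surjective L (KaehlerDifferential.map_surjective k k' K) w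
    have hz : f z = w := hz
    have hker : φ z ∈ LinearMap.range (KaehlerDifferential.mapBaseChange k k' L) := by
      rw [KaehlerDifferential.range_mapBaseChange, LinearMap.mem_ker, ← hcomm, hz]; exact hw
    have hle : Submodule.span L (Set.range fun y : k' => KaehlerDifferential.D k L (algebraMap k' L y)) ≤
        (LinearMap.ker f).map φ := by
      rw [Submodule.span_le]
      rintro _ ⟨y, rfl⟩
      refine ⟨(1 : L) ⊗ₜ[K] KaehlerDifferential.D k K (algebraMap k' K y),
        Groth.Agent.AdmissibleSub.span_le_ker_bc (Submodule.subset_span ⟨y, rfl⟩), ?_⟩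
      show φ _ = _
      rw [KaehlerDifferential.mapBaseChange_tmul, one_smul, KaehlerDifferential.map_D,
        ← IsScalarTower.algebraMap_apply]
    obtain ⟨c, hc, hcz⟩ := hle (Groth.Agent.AdmissibleSub.range_le hker)
    have hc : f c = 0 := hc
    refine ⟨z - c, ?_, ?_, ?_⟩
    · show φ (z - c) = 0
      rw [map_sub, hcz, sub_self]
    · rw [map_sub, hgf, hgf, hz, hgw, hc, map_zero, sub_self]
    · rw [map_sub, hz, hc, sub_zero]
  refine ⟨surj, ?_⟩
  let D1 := EGA41.imperfection k K L ⊓ LinearMap.ker h
  let D2 := EGA41.imperfection k' K L ⊓ LinearMap.ker g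
  let D3 := EGA41.imperfection k K L ⊓ LinearMap.ker f
  have hmem : ∀ z : D1, f z ∈ D2 := fun z => ⟨by
    show φ' (f z) = 0
    rw [hcomm, show φ z = 0 from z.2.1, map_zero], by
    show g (f z) = 0
    rw [← hgf]; exact z.2.2⟩
  let F : D1 →ₗ[L] D2 := (f.comp D1.subtype).codRestrict D2 hmem
  have hF : LinearMap.range F = ⊤ := eq_top_iff.mpr fun w _ => by
    obtain ⟨z, hz1, hz2, hz3⟩ := surj w w.2.1 w.2.2
    exact ⟨⟨z, hz1, hz2⟩, Subtype.ext hz3⟩
  have hle : D3 ≤ D1 := fun z hz => ⟨hz.1, by
    show h z = 0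
    rw [hgf, show f z = 0 from hz.2, map_zero]⟩
  have hker : LinearMap.ker F = D3.comap D1.subtype := by
    ext z
    constructor
    · intro hz
      exact ⟨z.2.1, congrArg Subtype.val (LinearMap.mem_ker.mp hz)⟩
    · intro hz
      exact LinearMap.mem_ker.mpr (Subtype.ext hz.2)
  have h1 := LinearMap.rank_range_add_rank_ker (R := L) (M := D1) (M₁ := D2) F
  rw [hF, rank_top, hker, LinearEquiv.rank_eq (Submodule.comapSubtypeEquivOfLe hle)] at h1
  exact h1.symm

end Groth.Agent.S5836
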