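import Groth.Statements.S5837
import Groth.Agent.AdmissibleSub.Defect

set_option autoImplicit false
set_option backward.isDefEq.respectTransparency false
universe u u' w
open scoped TensorProduct
open EGA41

namespace Groth.Agent.S5837

/-- Rank form. For fields k₀ ⊆ k ⊆ K ⊆ L ⊆ M, with Δ(F/E, k/k₀) = ker(Υ_{F/E/k₀} → Υ_{F/E/k}) and d its
rank, one has d(M/K, k/k₀) = d(M/L, k/k₀) + d(L/K, k/k₀) (cardinal ranks; the published statement
gives the short exact sequence 0 → Δ(L/K, k/k₀) ⊗_L M → Δ(M/K, k/k₀) → Δ(M/L, k/k₀) → 0, of which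
this row states the rank identity). -/
theorem result {k₀ : Type u} {k : Type u'} {K L M : Type w}
    [Field k₀] [Field k] [Field K] [Field L] [Field M] [Algebra k₀ k]
    [Algebra k₀ K] [Algebra k K] [IsScalarTower k₀ k K] [Algebra k₀ L] [Algebra k L] [IsScalarTower k₀ k L]
    [Algebra K L] [Algebra K M] [Algebra L M] [IsScalarTower K L M]
    [Algebra k₀ M] [Algebra k M] [IsScalarTower k₀ K L] [IsScalarTower k K L]
    [IsScalarTower k₀ K M] [IsScalarTower k K M] [IsScalarTower k₀ L M] [IsScalarTower k L M] :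
    Module.rank M ↥(EGA41.imperfection k₀ K M ⊓
          LinearMap.ker ((KaehlerDifferential.map k₀ k K K).baseChange M)) =
      Module.rank M ↥(EGA41.imperfection k₀ L M ⊓
            LinearMap.ker ((KaehlerDifferential.map k₀ k L L).baseChange M)) +
        Module.rank L ↥(EGA41.imperfection k₀ K L ⊓
            LinearMap.ker ((KaehlerDifferential.map k₀ k K K).baseChange L)) := by
  classical
  let φK := KaehlerDifferential.mapBaseChange k₀ K M
  let φL := KaehlerDifferential.mapBaseChange k₀ L M
  let φ := KaehlerDifferential.mapBaseChange k₀ K L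
  let ψM := (KaehlerDifferential.map k₀ k K K).baseChange M
  let ψM' := (KaehlerDifferential.map k₀ k L L).baseChange M
  let ψ := (KaehlerDifferential.map k₀ k K K).baseChange L
  let e := TensorProduct.AlgebraTensorModule.cancelBaseChange K L M M Ω[K⁄k₀]
  let e' := TensorProduct.AlgebraTensorModule.cancelBaseChange K L M M Ω[K⁄k]
  let a : M ⊗[K] Ω[K⁄k₀] →ₗ[M] M ⊗[L] Ω[L⁄k₀] := (φ.baseChange M).comp e.symm.toLinearMap
  have ha : ∀ (m : M) (x : K), a (m ⊗ₜ KaehlerDifferential.D k₀ K x) =
      m ⊗ₜ KaehlerDifferential.D k₀ L (algebraMap K L x) := fun m x => by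
    simp [a, e, φ, KaehlerDifferential.mapBaseChange_tmul, KaehlerDifferential.map_D]
  have hext : ∀ {N : Type w} [AddCommGroup N] [Module M N] (F G : M ⊗[K] Ω[K⁄k₀] →ₗ[M] N),
      (∀ x, F ((1 : M) ⊗ₜ KaehlerDifferential.D k₀ K x) = G ((1 : M) ⊗ₜ KaehlerDifferential.D k₀ K x)) →
      F = G := by
    intro N _ _ F G hFG
    refine LinearMap.ext fun z => ?_
    induction z with
    | zero => simp only [map_zero]
    | add x y hx hy => simp only [map_add, hx, hy]
    | tmul m w =>
      have hw : w ∈ Submodule.span K (Set.range (KaehlerDifferential.D k₀ K)) := by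
        rw [KaehlerDifferential.span_range_derivation]; trivial
      induction hw using Submodule.span_induction generalizing m with
      | mem x hx =>
        obtain ⟨x, rfl⟩ := hx
        rw [show m ⊗ₜ[K] KaehlerDifferential.D k₀ K x = m • ((1 : M) ⊗ₜ[K] KaehlerDifferential.D k₀ K x) by
          rw [TensorProduct.smul_tmul', smul_eq_mul, mul_one], map_smul, map_smul, hFG]
      | zero => simp
      | add x y _ _ hx hy => simp only [TensorProduct.tmul_add, map_add, hx, hy]
      | smul c x _ hx => rw [← TensorProduct.smul_tmul]; exact hx _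
  have hφ : φL.comp a = φK := hext _ _ fun x => by
    rw [LinearMap.comp_apply, ha, KaehlerDifferential.mapBaseChange_tmul,
      KaehlerDifferential.mapBaseChange_tmul, KaehlerDifferential.map_D, KaehlerDifferential.map_D,
      ← IsScalarTower.algebraMap_apply]
  let a' : M ⊗[K] Ω[K⁄k] →ₗ[M] M ⊗[L] Ω[L⁄k] :=
    ((KaehlerDifferential.mapBaseChange k K L).baseChange M).comp e'.symm.toLinearMap
  have hψ : ψM'.comp a = a'.comp ψM := hext _ _ fun x => by
    rw [LinearMap.comp_apply, ha]
    simp [ψM, ψM', a', e', KaehlerDifferential.mapBaseChange_tmul, KaehlerDifferential.map_D]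
  let D1 := EGA41.imperfection k₀ K M ⊓ LinearMap.ker ψM
  let D2 := EGA41.imperfection k₀ L M ⊓ LinearMap.ker ψM'
  let D3 := EGA41.imperfection k₀ K L ⊓ LinearMap.ker ψ
  have hmem : ∀ z : D1, a z ∈ D2 := fun z => ⟨by
    show φL (a z) = 0
    rw [← LinearMap.comp_apply, hφ]; exact z.2.1, by
    show ψM' (a z) = 0
    rw [← LinearMap.comp_apply, hψ, LinearMap.comp_apply, show ψM z = 0 from z.2.2, map_zero]⟩
  let F : D1 →ₗ[M] D2 := (a.comp D1.subtype).codRestrict D2 hmem
  have hF : LinearMap.range F = ⊤ := eq_top_iff.mpr fun w _ => by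
    have hle : Submodule.span M (Set.range fun x : k =>
        (1 : M) ⊗ₜ[L] KaehlerDifferential.D k₀ L (algebraMap k L x)) ≤ (LinearMap.ker ψM).map a := by
      rw [Submodule.span_le]
      rintro _ ⟨x, rfl⟩
      exact ⟨_, Groth.Agent.AdmissibleSub.span_le_ker_bc (Submodule.subset_span ⟨x, rfl⟩),
        (ha 1 _).trans (by rw [← IsScalarTower.algebraMap_apply])⟩
    obtain ⟨z, hz, hzw⟩ := hle (Groth.Agent.AdmissibleSub.ker_bc_le w.2.2)
    refine ⟨⟨z, ?_, hz⟩, Subtype.ext hzw⟩
    show φK z = 0
    rw [← hφ, LinearMap.comp_apply, hzw]; exact w.2.1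
  have he : ∀ y, ψM (e y) = e' ((ψ).baseChange M y) := by
    intro y
    induction y with
    | zero => simp
    | add x y hx hy => simp only [map_add, hx, hy]
    | tmul m w =>
      induction w with
      | zero => simp
      | add x y hx hy => simp only [TensorProduct.tmul_add, map_add, hx, hy]
      | tmul l t => simp [ψM, ψ, e, e']
  obtain ⟨hr, hrank⟩ := Groth.Agent.AdmissibleSub.range_bc_inf_ker (M := M) φ ψ
  have hker : (LinearMap.ker F).map D1.subtype =
      (LinearMap.ker (φ.baseChange M) ⊓ LinearMap.ker (ψ.baseChange M)).map e.toLinearMap := by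
    ext z
    constructor
    · rintro ⟨z, hz, rfl⟩
      have hz0 : a z = 0 := congrArg Subtype.val (LinearMap.mem_ker.mp hz)
      refine ⟨e.symm (z : M ⊗[K] Ω[K⁄k₀]), ⟨hz0, e'.injective ?_⟩, e.apply_symm_apply _⟩
      rw [← he, LinearEquiv.apply_symm_apply, map_zero]; exact z.2.2
    · rintro ⟨y, ⟨hy1, hy2⟩, rfl⟩
      have h1 : a (e y) = 0 := by
        show φ.baseChange M (e.symm (e y)) = 0
        rw [e.symm_apply_apply]; exact hy1
      have h2 : ψM (e y) = 0 := by
        rw [he, show ψ.baseChange M y = 0 from hy2, map_zero]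
      refine ⟨⟨e y, ?_, h2⟩, LinearMap.mem_ker.mpr (Subtype.ext h1), rfl⟩
      show φK (e y) = 0
      rw [← hφ, LinearMap.comp_apply, h1, map_zero]
  have h1 := LinearMap.rank_range_add_rank_ker (R := M) (M := D1) (M₁ := D2) F
  rw [hF, rank_top] at h1
  have h2 : Module.rank M (LinearMap.ker F) = Module.rank L D3 := by
    rw [← LinearEquiv.rank_eq (Submodule.equivMapOfInjective _ D1.injective_subtype _).symm, hker,
      ← LinearEquiv.rank_eq (e.submoduleMap _), ← hr, hrank]
    rfl
  rw [← h2]
  exact h1.symm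

end Groth.Agent.S5837
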