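import Groth.Statements.S5839
import Groth.Agent.FLInv.Basic
import Groth.Agent.S5827

set_option autoImplicit false
universe u v w
open EGA41

namespace Groth.Agent.S5839

/-- Let A be preadmissible with ideal of definition 𝔏, the topologies of M and N deduced from that of A,
N/JN projective over A/J for every open ideal J; assuming moreover a countable decreasing
fundamental system of open ideals and M Hausdorff and complete, u : M → N has a linear left inverse
if and only if the induced map M/𝔏M → N/𝔏N has one (both being equivalent to formal left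
invertibility). -/
theorem result {A : Type u} {M : Type v} {N : Type w}
    [CommRing A] [TopologicalSpace A] [AddCommGroup M] [Module A M] [UniformSpace M] [IsUniformAddGroup M]
    [CompleteSpace M] [T2Space M] [AddCommGroup N] [Module A N] [TopologicalSpace N]
    (𝔍 : ℕ → Ideal A) (h𝔍open : ∀ n, IsOpen (𝔍 n : Set A)) (h𝔍anti : Antitone 𝔍)
    (h𝔍basis : (nhds (0 : A)).HasBasis (fun _ : ℕ => True) (fun n => (𝔍 n : Set A)))
    (hM : TopMod.IsDeduced A M) (hN : TopMod.IsDeduced A N) (u : M →L[A] N)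
    (hA : LinTop.IsPreadmissible A) (𝔏 : Ideal A) (h𝔏 : LinTop.IsIdealOfDefinition A 𝔏)
    (hproj : ∀ J : Ideal A, IsOpen (J : Set A) → Module.Projective (A ⧸ J) (N ⧸ (J • (⊤ : Submodule A N)))) :
    (∃ w : N →ₗ[A] M, ∀ x : M, w (u x) = x) ↔
      ∃ w₀ : N →ₗ[A] M ⧸ (𝔏 • ⊤ : Submodule A M), ∀ x : M, w₀ (u x) = Submodule.Quotient.mk x := by
  refine ⟨fun ⟨w, hw⟩ => ⟨(𝔏 • ⊤ : Submodule A M).mkQ.comp w, fun x => congrArg _ (hw x)⟩, fun h => ?_⟩
  have hex := (Groth.Agent.S5826.result hM hN u).mp ((Groth.Agent.S5827.result hA 𝔏 h𝔏 hM hN hproj u).mpr h)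
  refine Groth.Agent.FLInv.exists_leftInverse 𝔍 h𝔍open h𝔍anti h𝔍basis hM u.toLinearMap hex fun n => ?_
  obtain ⟨w, hw⟩ := hex _ (h𝔍open n)
  haveI := hproj _ (h𝔍open n)
  exact Groth.Agent.FLInv.projective_coker u.toLinearMap (𝔍 n) w hw

end Groth.Agent.S5839
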