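import Groth.Statements.S5840
import Groth.Agent.ZCl.Local
import Groth.Agent.ModSiteGro.Basic
import Groth.Agent.QC.Basic

set_option autoImplicit false
universe u
open ZClos

namespace Groth.Agent.S5840

open CategoryTheory CategoryTheory.Limits AlgebraicGeometry in
/-- For a locally Noetherian scheme X and a subset Z of X stable under specialization, the Z-closure
functor F ↦ H⁰_{X/Z}(F) on O_X-modules (the filtered colimit, over the closed subsets T of X inside
Z, of the direct images of the restrictions of F to X ∖ T) is left exact: it preserves finite
limits. -/
theorem result (X : Scheme.{u}) [IsLocallyNoetherian X] (Z : Set X)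
    (hZ : StableUnderSpecialization Z) : PreservesFiniteLimits (ZClos.H0 Z) := by
  haveI hAB : AB5OfSize.{u, u} X.Modules := ModSiteGro.ab5_sheafOfModules (R := X.ringCatSheaf)
  haveI : HasExactColimitsOfShape (ZClos.Cl Z) X.Modules := AB5OfSize.ofShape _
  haveI : Limits.PreservesFiniteLimits (ZClos.diagram (X := X) Z) :=
    preservesFiniteLimits_of_evaluation _ fun T =>
      (inferInstance : Limits.PreservesFiniteLimits (ZClos.resPush T.U))
  haveI : Limits.PreservesFiniteLimits (Limits.colim (J := ZClos.Cl Z) (C := X.Modules)) := inferInstance
  exact Limits.comp_preservesFiniteLimits (ZClos.diagram Z) Limits.colim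

end Groth.Agent.S5840
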