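import Groth.Statements.S5854
import Groth.Agent.ZCl.FlatBC

set_option autoImplicit false
universe u
open ZClos

namespace Groth.Agent.S5854

open CategoryTheory CategoryTheory.Limits AlgebraicGeometry in
/-- Let f : X' → X be a flat morphism of locally Noetherian schemes, Z a subset of X stable under
specialization, Z' = f⁻¹(Z) and F a quasi-coherent O_X-module. If H⁰_{X/Z}(F) is coherent then
H⁰_{X'/Z'}(f^* F) is coherent; the converse holds when f is moreover surjective (faithfully flat)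
and quasi-compact. -/
theorem result {X X' : Scheme.{u}} [IsLocallyNoetherian X] [IsLocallyNoetherian X'] (f : X' ⟶ X) [Flat f]
    (Z : Set X) (hZ : StableUnderSpecialization Z) (F : X.Modules) (hF : Coh.IsQCoh F) :
    (Coh.IsCoh ((ZClos.H0 Z).obj F) →
      Coh.IsCoh ((ZClos.H0 (f.base ⁻¹' Z)).obj ((Scheme.Modules.pullback f).obj F))) ∧
    (Surjective f → QuasiCompact f →
      Coh.IsCoh ((ZClos.H0 (f.base ⁻¹' Z)).obj ((Scheme.Modules.pullback f).obj F)) →
        Coh.IsCoh ((ZClos.H0 Z).obj F)) := by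
  obtain ⟨e⟩ := Groth.Agent.ZCl.nonempty_pullback_H0_iso f hZ hF
  refine ⟨fun h => ?_, fun hs hqc h => ?_⟩
  · have h' := Groth.Agent.QC.isCoh_pullback f h
    exact Groth.Agent.QC.isCoh_of_epi h' (Groth.Agent.QC.isQCoh_of_iso e h'.1) e.hom
  · have h' : Coh.IsCoh ((Scheme.Modules.pullback f).obj ((ZClos.H0 Z).obj F)) :=
      Groth.Agent.QC.isCoh_of_epi h (Groth.Agent.QC.isQCoh_of_iso e.symm h.1) e.inv
    haveI := hs
    haveI := hqc
    exact Groth.Agent.QC.isCoh_iff_finite_sections.mpr ⟨Groth.Agent.ZCl.isQCoh_H0 hF, fun V =>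
      Groth.Agent.ZCl.finite_sections_of_pullback f (Groth.Agent.ZCl.isQCoh_H0 hF)
        (Groth.Agent.QC.isCoh_iff_finite_sections.mp h').2 V.2⟩

end Groth.Agent.S5854
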