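import Groth.Statements.S5862
import Mathlib

set_option autoImplicit false
universe u
open RadPt

set_option backward.isDefEq.respectTransparency false
namespace Groth.Agent.S5862

open CategoryTheory AlgebraicGeometry in
/-- Let f : X → Y and g : Y → Z be morphisms of schemes and y a point of Y. If f is radicial at y (fibre
with at most one point, purely inseparable residue field extension) and g is radicial at g(y), then
g ∘ f is radicial at g(y). Conversely, if f is surjective and g ∘ f is radicial at g(y), then f is
radicial at y and g is radicial at g(y). -/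
theorem result {X Y Z : Scheme.{u}} (f : X ⟶ Y) (g : Y ⟶ Z) (y : Y) :
    (RadPt.IsRadicialAt f y → RadPt.IsRadicialAt g (g y) → RadPt.IsRadicialAt (f ≫ g) (g y)) ∧
      (Surjective f → RadPt.IsRadicialAt (f ≫ g) (g y) →
        RadPt.IsRadicialAt f y ∧ RadPt.IsRadicialAt g (g y)) := by
  have key : ∀ x : X, ((f ≫ g).residueFieldMap x).hom =
      (f.residueFieldMap x).hom.comp (g.residueFieldMap (f x)).hom := fun x => by
    rw [Scheme.residueFieldMap_comp]; rfl
  refine ⟨fun hf hg => ?_, fun hs h => ?_⟩
  · refine ⟨fun x x' hx hx' => ?_, fun x hx => ?_⟩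
    · have h1 : f x = y := hg.1 _ _ (by rw [← Scheme.Hom.comp_apply]; exact hx) rfl
      have h2 : f x' = y := hg.1 _ _ (by rw [← Scheme.Hom.comp_apply]; exact hx') rfl
      exact hf.1 x x' h1 h2
    · have h1 : f x = y := hg.1 _ _ (by rw [← Scheme.Hom.comp_apply]; exact hx) rfl
      rw [key]
      exact (hg.2 (f x) (by rw [h1])).comp (hf.2 x h1)
  · have hfib : ∀ x, f x = y → (f ≫ g) x = g y := fun x hx => by rw [Scheme.Hom.comp_apply, hx]
    refine ⟨⟨fun x x' hx hx' => h.1 x x' (hfib x hx) (hfib x' hx'), fun x hx => ?_⟩,
      ⟨fun w w' hw hw' => ?_, fun w hw => ?_⟩⟩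
    · have := h.2 x (hfib x hx)
      rw [key] at this
      algebraize [(g.residueFieldMap (f x)).hom, (f.residueFieldMap x).hom,
        (f.residueFieldMap x).hom.comp (g.residueFieldMap (f x)).hom]
      haveI : IsPurelyInseparable (Z.residueField (g (f x))) (X.residueField x) := this
      exact IsPurelyInseparable.tower_top (Z.residueField (g (f x))) (Y.residueField (f x)) (X.residueField x)
    · obtain ⟨x, rfl⟩ := f.surjective w
      obtain ⟨x', rfl⟩ := f.surjective w'
      exact congrArg f.base (h.1 x x' (by rw [Scheme.Hom.comp_apply]; exact hw) (by rw [Scheme.Hom.comp_apply]; exact hw'))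
    · obtain ⟨x, rfl⟩ := f.surjective w
      have := h.2 x (by rw [Scheme.Hom.comp_apply]; exact hw)
      rw [key] at this
      algebraize [(g.residueFieldMap (f x)).hom, (f.residueFieldMap x).hom,
        (f.residueFieldMap x).hom.comp (g.residueFieldMap (f x)).hom]
      haveI : IsPurelyInseparable (Z.residueField (g (f x))) (X.residueField x) := this
      exact IsPurelyInseparable.tower_bot (Z.residueField (g (f x))) (Y.residueField (f x)) (X.residueField x)

end Groth.Agent.S5862
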