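import Groth.Statements.S5863
import Mathlib.AlgebraicGeometry.Morphisms.FlatDescent


set_option autoImplicit false
universe u
open RadPt

namespace Groth.Agent.S5863

section
open CategoryTheory AlgebraicGeometry

theorem pi_congr {A B : Scheme.{u}} {g₁ g₂ : A ⟶ B} (hg : g₁ = g₂) (z : A) :
    (g₁.residueFieldMap z).hom.IsPurelyInseparable ↔ (g₂.residueFieldMap z).hom.IsPurelyInseparable := by
  subst hg; rfl

theorem pi_of_surjective {F E : Type u} [Field F] [Field E] {a : F →+* E} (ha : Function.Surjective a) :
    a.IsPurelyInseparable := by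
  letI := a.toAlgebra
  change IsPurelyInseparable F E
  rw [isPurelyInseparable_iff]
  intro x
  obtain ⟨r, rfl⟩ := ha x
  exact ⟨isIntegral_algebraMap, fun _ => ⟨r, rfl⟩⟩

theorem pi_comp_left_iff {F E K : Type u} [Field F] [Field E] [Field K] {a : F →+* E} {b : E →+* K}
    (ha : Function.Surjective a) : (b.comp a).IsPurelyInseparable ↔ b.IsPurelyInseparable := by
  refine ⟨fun h => ?_, fun h => (pi_of_surjective ha).comp h⟩
  algebraize [a, b, b.comp a]
  exact IsPurelyInseparable.tower_top F E K

theorem pi_comp_right_iff {F E K : Type u} [Field F] [Field E] [Field K] {a : F →+* E} {b : E →+* K}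
    (hb : Function.Surjective b) : (b.comp a).IsPurelyInseparable ↔ a.IsPurelyInseparable := by
  refine ⟨fun h => ?_, fun h => h.comp (pi_of_surjective hb)⟩
  algebraize [a, b, b.comp a]
  exact IsPurelyInseparable.tower_bot F E K

theorem residue_surjective {A B : Scheme.{u}} (g : A ⟶ B) [IsPreimmersion g] (z : A) :
    Function.Surjective (g.residueFieldMap z).hom := by
  intro r
  obtain ⟨s, rfl⟩ := IsLocalRing.residue_surjective r
  obtain ⟨t, rfl⟩ := g.stalkMap_surjective z s
  exact ⟨IsLocalRing.residue _ t, rfl⟩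

theorem iff_ui {X Y : Scheme.{u}} (f : X ⟶ Y) (y : Y) :
    RadPt.IsRadicialAt f y ↔ UniversallyInjective (f.fiberToSpecResidueField y) := by
  refine Iff.trans ?_ ((tfae_universallyInjective (f.fiberToSpecResidueField y)).out 2 0)
  have hres : ∀ z : f.fiber y, ((f.fiberToSpecResidueField y).residueFieldMap z).hom.IsPurelyInseparable ↔
      (f.residueFieldMap (f.fiberι y z)).hom.IsPurelyInseparable := by
    intro z
    have h1 := pi_congr (f.fiber_fac y).symm z
    rw [Scheme.residueFieldMap_comp, Scheme.residueFieldMap_comp] at h1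
    exact (pi_comp_left_iff (residue_surjective (Y.fromSpecResidueField y) _)).symm.trans
      (h1.trans (pi_comp_right_iff (residue_surjective (f.fiberι y) z)))
  have hfz : ∀ z : f.fiber y, f (f.fiberι y z) = y := fun z => by
    have h : f.fiberι y z ∈ Set.range (f.fiberι y) := ⟨z, rfl⟩
    rw [f.range_fiberι y] at h
    exact h
  constructor
  · rintro ⟨h1, h2⟩
    exact ⟨fun z z' _ => (f.fiberι y).isEmbedding.injective (h1 _ _ (hfz z) (hfz z')),
      fun z => (hres z).2 (h2 _ (hfz z))⟩
  · rintro ⟨h1, h2⟩
    have hl : ∀ x : X, f x = y → ∃ z, f.fiberι y z = x := fun x hx => by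
      have h : x ∈ Set.range (f.fiberι y) := by rw [f.range_fiberι y]; exact hx
      exact h
    refine ⟨fun x x' hx hx' => ?_, fun x hx => ?_⟩
    · obtain ⟨z, rfl⟩ := hl x hx
      obtain ⟨z', rfl⟩ := hl x' hx'
      rw [h1 (Subsingleton.elim (α := PrimeSpectrum _) _ _ : f.fiberToSpecResidueField y z = f.fiberToSpecResidueField y z')]
    · obtain ⟨z, rfl⟩ := hl x hx
      exact (hres z).1 (h2 z)

end

open CategoryTheory AlgebraicGeometry in
/-- Let f : X → Y and h : Y' → Y be morphisms of schemes, f' : X ×_Y Y' → Y' the base change of f (any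
cartesian square), y' a point of Y' and y = h(y'). Then f is radicial at y if and only if f' is
radicial at y'. -/
theorem result {X Y X' Y' : Scheme.{u}} {f : X ⟶ Y} {h : Y' ⟶ Y} {f' : X' ⟶ Y'} {h' : X' ⟶ X}
    (sq : IsPullback h' f' f h) (y' : Y') :
    RadPt.IsRadicialAt f (h y') ↔ RadPt.IsRadicialAt f' y' := by
  rw [Groth.Agent.S5863.iff_ui, Groth.Agent.S5863.iff_ui]
  have sq' : IsPullback h' f' f h := sq
  have e := isPullback_fiberToSpecResidueField_of_isPullback sq' y'
  constructor
  · intro hu
    exact MorphismProperty.of_isPullback (P := @UniversallyInjective) e hu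
  · intro hu
    haveI : Surjective (Spec.map (h.residueFieldMap y')) :=
      ⟨fun z => ⟨default, Subsingleton.elim (α := PrimeSpectrum _) _ _⟩⟩
    haveI : Flat (Spec.map (h.residueFieldMap y')) := by
      rw [Flat.SpecMap_iff]
      letI := (h.residueFieldMap y').hom.toAlgebra
      exact (inferInstance : Module.Flat (Y.residueField (h y')) (Y'.residueField y'))
    exact MorphismProperty.of_isPullback_of_descendsAlong (P := @UniversallyInjective)
      (Q := @Surjective ⊓ @Flat ⊓ @QuasiCompact) e.flip ⟨⟨inferInstance, inferInstance⟩, inferInstance⟩ hu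

end Groth.Agent.S5863
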