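import Groth.Statements.S5864
import Groth.Agent.GeomProp.NilReduced
import Mathlib.AlgebraicGeometry.Fiber
import Mathlib.AlgebraicGeometry.Morphisms.UniversallyOpen

set_option autoImplicit false
universe u
open RadPt

open CategoryTheory Limits AlgebraicGeometry Groth.Agent
set_option backward.isDefEq.respectTransparency false
namespace Groth.Agent.S5864

open CategoryTheory AlgebraicGeometry in
/-- Let f : X → Y be a morphism of schemes whose induced morphism of reduced schemes is birational (f
maps the maximal points of X bijectively onto those of Y, with one-point fibres and trivial residue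
field extensions over the maximal points of Y), g : Y' → Y a flat morphism and f' : X ×_Y Y' → Y'
the base change (any cartesian square). Then the morphism of reduced schemes induced by f' is
birational in the same sense. -/
theorem result {X Y X' Y' : Scheme.{u}} {f : X ⟶ Y} {g : Y' ⟶ Y} [Flat g] {f' : X' ⟶ Y'} {g' : X' ⟶ X}
    (sq : IsPullback g' f' f g) (hf : RadPt.IsBirational f) : RadPt.IsBirational f' := by
  obtain ⟨hbij, hres⟩ := hf
  haveI : Flat g' := MorphismProperty.of_isPullback sq.flip ‹Flat g›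
  have gen : ∀ {A B : Scheme.{u}} (q : A ⟶ B) [Flat q] (x : A), x ∈ genericPoints A → q x ∈ genericPoints B := by
    intro A B q _ x hx
    rw [GeomProp.mem_genericPoints_iff] at hx ⊢
    intro z hz
    obtain ⟨w, hw, rfl⟩ := Flat.generalizingMap q hz
    rw [hx w hw]
  have key : ∀ y ∈ genericPoints Y, ∀ y' : Y', g y' = y → ∃ x' : X', f' x' = y' ∧
      (∀ x'' : X', f' x'' = y' → x'' = x') ∧ Function.Bijective (f'.residueFieldMap x').hom ∧
      (∀ y'' : Y', y'' ⤳ y' → g y'' = y → ∃ x'' : X', f' x'' = y'' ∧ x'' ⤳ x') := by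
    intro y hy y' hy'
    obtain ⟨x, hx, hfx⟩ := hbij.surjOn hy
    obtain ⟨huniq, hb0⟩ := hres y hy
    have hb := hb0 x hfx
    subst hfx
    haveI : IsIso (f.residueFieldMap x) := (ConcreteCategory.isIso_iff_bijective _).2 hb
    let σ : Spec (Y.residueField (f x)) ⟶ X := Spec.map (inv (f.residueFieldMap x)) ≫ X.fromSpecResidueField x
    have hσ : σ ≫ f = Y.fromSpecResidueField (f x) := by
      rw [Category.assoc, ← f.SpecMap_residueFieldMap_fromSpecResidueField x, ← Spec.map_comp_assoc,
        IsIso.hom_inv_id, Spec.map_id, Category.id_comp]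
    let σ' : g.fiber (f x) ⟶ X' := sq.lift (g.fiberToSpecResidueField (f x) ≫ σ) (g.fiberι (f x))
      (by rw [Category.assoc, hσ]; exact pullback.condition.symm)
    have hσ' : σ' ≫ f' = g.fiberι (f x) := sq.lift_snd _ _ _
    have hσg : ∀ t, g' (σ' t) = x := fun t => by
      rw [← Scheme.Hom.comp_apply, sq.lift_fst, Scheme.Hom.comp_apply, Scheme.Hom.comp_apply,
        Scheme.fromSpecResidueField_apply]
    have hall : ∀ x'' : X', g (f' x'') = f x → ∃ t, σ' t = x'' := by
      intro x'' hg''
      have hgx : g' x'' = x := huniq _ _ (by rw [← Scheme.Hom.comp_apply, sq.w, Scheme.Hom.comp_apply, hg'']) rfl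
      let s := Spec.map (X'.residueFieldCongr rfl).hom ≫ X'.fromSpecResidueField x''
      have hfac : ∃ k : Spec (X'.residueField x'') ⟶ g.fiber (f x), k ≫ σ' = X'.fromSpecResidueField x'' := by
        have e1 : X'.fromSpecResidueField x'' ≫ g' =
            Spec.map (g'.residueFieldMap x'') ≫ Spec.map (X.residueFieldCongr hgx.symm).hom ≫ X.fromSpecResidueField x := by
          rw [Scheme.residueFieldCongr_fromSpecResidueField, g'.SpecMap_residueFieldMap_fromSpecResidueField]
        let τ : Spec (X'.residueField x'') ⟶ Spec (X.residueField x) :=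
          Spec.map (g'.residueFieldMap x'') ≫ Spec.map (X.residueFieldCongr hgx.symm).hom
        have e1' : X'.fromSpecResidueField x'' ≫ g' = τ ≫ X.fromSpecResidueField x := by
          rw [e1, Category.assoc]
        refine ⟨pullback.lift (X'.fromSpecResidueField x'' ≫ f') (τ ≫ Spec.map (f.residueFieldMap x)) ?_, ?_⟩
        · rw [Category.assoc, ← sq.w, reassoc_of% e1', ← f.SpecMap_residueFieldMap_fromSpecResidueField x, Category.assoc]
          simp only [τ, Category.assoc]
        · apply sq.hom_ext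
          · rw [Category.assoc, sq.lift_fst, ← Category.assoc]
            show (pullback.lift _ _ _ ≫ pullback.snd _ _) ≫ σ = _
            rw [pullback.lift_snd, Category.assoc, ← Spec.map_comp_assoc, IsIso.inv_hom_id, Spec.map_id,
              Category.id_comp, e1']
          · rw [Category.assoc, sq.lift_snd]
            exact pullback.lift_fst _ _ _
      obtain ⟨k, hk⟩ := hfac
      refine ⟨k (IsLocalRing.closedPoint _), ?_⟩
      rw [← Scheme.Hom.comp_apply, hk, Scheme.fromSpecResidueField_apply]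
    have hinj : ∀ t t' : g.fiber (f x), g.fiberι (f x) t = g.fiberι (f x) t' → t = t' := fun t t' h =>
      (g.fiberι (f x)).isEmbedding.injective h
    obtain ⟨t, ht⟩ := (g.range_fiberι (f x)).ge (show y' ∈ g ⁻¹' {f x} from hy')
    refine ⟨σ' t, by rw [← Scheme.Hom.comp_apply, hσ', ht], fun x'' hx'' => ?_, ?_, fun y'' hy'' hg'' => ?_⟩
    · obtain ⟨t', rfl⟩ := hall x'' (by rw [hx'', hy'])
      rw [hinj t' t (by rw [ht, ← hσ', Scheme.Hom.comp_apply, hx''])]
    · have e : f'.residueFieldMap (σ' t) ≫ σ'.residueFieldMap t = (σ' ≫ f').residueFieldMap t :=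
        (Scheme.residueFieldMap_comp σ' f' t).symm
      have hbij' : Function.Bijective ((σ' ≫ f').residueFieldMap t).hom := by
        rw [hσ']
        refine ⟨RingHom.injective _, ?_⟩
        intro z
        obtain ⟨w, rfl⟩ := (g.fiber (f x)).residue_surjective t z
        obtain ⟨v, rfl⟩ := (g.fiberι (f x)).stalkMap_surjective t w
        exact ⟨Y'.residue _ v, congr($(Scheme.residue_residueFieldMap (g.fiberι (f x)) t) v)⟩
      rw [← e] at hbij'
      refine ⟨RingHom.injective _, fun z => ?_⟩
      obtain ⟨w, hw⟩ := hbij'.2 ((σ'.residueFieldMap t).hom z)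
      exact ⟨w, (σ'.residueFieldMap t).hom.injective hw⟩
    · obtain ⟨t'', ht''⟩ := (g.range_fiberι (f x)).ge (show y'' ∈ g ⁻¹' {f x} from hg'')
      refine ⟨σ' t'', by rw [← Scheme.Hom.comp_apply, hσ', ht''], ?_⟩
      refine Specializes.map ?_ σ'.continuous
      rw [← (g.fiberι (f x)).isEmbedding.isInducing.specializes_iff, ht, ht'']
      exact hy''
  have hfg : ∀ x' ∈ genericPoints X', f' x' ∈ genericPoints Y' := by
    intro x' hx'
    have hy : g (f' x') ∈ genericPoints Y := by
      rw [← Scheme.Hom.comp_apply, ← sq.w, Scheme.Hom.comp_apply]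
      exact hbij.mapsTo (gen g' x' hx')
    obtain ⟨x₀, hx₀, hu, -, hsp⟩ := key _ hy (f' x') rfl
    obtain rfl := hu x' rfl
    rw [GeomProp.mem_genericPoints_iff]
    intro y'' hy''
    obtain ⟨x'', hx'', hs⟩ := hsp y'' hy'' ((GeomProp.mem_genericPoints_iff Y _).1 hy _ (hy''.map g.continuous))
    rw [(GeomProp.mem_genericPoints_iff X' _).1 hx' x'' hs] at hx''
    exact hx''.symm
  refine ⟨⟨hfg, fun x₁ h₁ x₂ h₂ e => ?_, fun y' hy' => ?_⟩, fun y' hy' => ?_⟩
  · have hy' := hfg x₁ h₁
    obtain ⟨x₀, -, hu, -, -⟩ := key _ (gen g _ hy') (f' x₁) rfl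
    rw [hu x₁ rfl, hu x₂ e.symm]
  · obtain ⟨x₀, hx₀, hu, -, -⟩ := key _ (gen g _ hy') y' rfl
    refine ⟨x₀, ?_, hx₀⟩
    rw [GeomProp.mem_genericPoints_iff]
    intro z hz
    have : f' z = y' := (GeomProp.mem_genericPoints_iff Y' y').1 hy' _ (hx₀ ▸ hz.map f'.continuous)
    exact hu z this
  · obtain ⟨x₀, hx₀, hu, hb, -⟩ := key _ (gen g _ hy') y' rfl
    refine ⟨fun x₁ x₂ h₁ h₂ => by rw [hu x₁ h₁, hu x₂ h₂], fun x₁ h₁ => ?_⟩
    rw [hu x₁ h₁]
    exact hb

end Groth.Agent.S5864
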