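import Groth.Statements.S5866
-- import your own Groth.Agent.* helpers here
import Groth.Agent.UnibranchEtale.BirationalScheme

set_option autoImplicit false
universe u
open RadPt

namespace Groth.Agent.S5866

open CategoryTheory AlgebraicGeometry in
/-- Let f : X → Y be a morphism of schemes which is integral and whose induced morphism of reduced
schemes is birational. Then Y is geometrically unibranch (at every point) if and only if X is
geometrically unibranch and f is radicial (universally injective). -/
theorem result {X Y : Scheme.{u}} (f : X ⟶ Y) [IsIntegralHom f] (hf : RadPt.IsBirational f) :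
    (∀ y : Y, CAlg2.IsGeomUnibranch (Y.presheaf.stalk y)) ↔
      ((∀ x : X, CAlg2.IsGeomUnibranch (X.presheaf.stalk x)) ∧ UniversallyInjective f) := by
  have key := fun y => Groth.Agent.UnibranchEtale.isGeomUnibranch_iff_isRadicialAt f hf y
  rw [(AlgebraicGeometry.tfae_universallyInjective f).out 0 2 rfl rfl]
  constructor
  · intro h
    exact ⟨fun x => ((key (f x)).1 (h _)).2 x rfl, fun x x' e => ((key (f x)).1 (h _)).1.1 x x' rfl e.symm,
      fun x => ((key (f x)).1 (h _)).1.2 x rfl⟩
  · rintro ⟨hX, hinj, hres⟩ y
    exact (key y).2 ⟨⟨fun x x' hx hx' => hinj (hx.trans hx'.symm), fun x _ => hres x⟩, fun x _ => hX x⟩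

end Groth.Agent.S5866
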