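import Groth.Statements.S5869
import Groth.Agent.ZCl.HullSec

set_option backward.isDefEq.respectTransparency false
set_option backward.isDefEq.respectTransparency.types false
set_option linter.style.haveILetI false

set_option autoImplicit false
universe u
open ZClos

namespace Groth.Agent.S5869

open CategoryTheory CategoryTheory.Limits AlgebraicGeometry in
/-- a) ⇔ b): for a Noetherian ring A with X = Spec A, the following are equivalent: a) for every prime
ideal q of A, writing B = A/q, the ring B^(1) (intersection of the localizations of B at its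
height-one primes) is a finite B-algebra; b) for every finite A-module M and every subset Z of X
stable under specialization such that, for every associated prime p of M not in Z and every prime p'
∈ Z containing p, the image of p' in A/p has height at least 2, the Z-closure H⁰_{X/Z} of the module
M~ is coherent. -/
theorem result (A : Type u) [CommRing A] [IsNoetherianRing A] :
    (∀ (q : Ideal A) [q.IsPrime], EGA4.HeightOneHullFinite (A ⧸ q)) ↔
      ∀ (M : Type u) [AddCommGroup M] [Module A M] [Module.Finite A M]
        (Z : Set (PrimeSpectrum A)), StableUnderSpecialization Z →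
        (∀ x : PrimeSpectrum A, x.asIdeal ∈ associatedPrimes A M → x ∉ Z →
          ∀ y ∈ Z, x.asIdeal ≤ y.asIdeal → (2 : ℕ∞) ≤ (y.asIdeal.map (Ideal.Quotient.mk x.asIdeal)).height) →
        Coh.IsCoh ((ZClos.H0 (X := Spec (CommRingCat.of A)) Z).obj (EGA4.tildeOf A M)) := by
  constructor
  · intro h M _ _ _ Z hZ hM
    haveI := Groth.Agent.ZCl.isNoetherian_famSub hZ h M fun x hx hxZ y hy hle => hM x hx hxZ y hy hle
    exact Groth.Agent.ZCl.isCoh_H0_tilde (A := A) (M := M) (Z := Z) hZ
  · intro h q _
    refine Groth.Agent.ZCl.heightOneHullFinite_of_isCoh q ?_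
    refine h (A ⧸ q) (Groth.Agent.ZCl.twoAbove q) (Groth.Agent.ZCl.stable_twoAbove q) ?_
    intro x hx _ y hy _
    obtain ⟨hxp, m, hm⟩ := isAssociatedPrime_iff.1 hx
    obtain ⟨c, rfl⟩ := Ideal.Quotient.mk_surjective m
    have hxq : x.asIdeal = q := by
      have hc : c ∉ q := fun hc => hxp.ne_top (by
        rw [hm]
        ext a
        simp [Ideal.Quotient.eq_zero_iff_mem.2 hc, Submodule.mem_colon_singleton])
      ext a
      rw [hm, Submodule.mem_colon_singleton, Submodule.mem_bot, Algebra.smul_def, Ideal.Quotient.algebraMap_eq,
        ← map_mul, Ideal.Quotient.eq_zero_iff_mem]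
      exact ⟨fun hac => (Ideal.IsPrime.mem_or_mem inferInstance hac).resolve_right hc,
        fun ha => Ideal.mul_mem_right _ _ ha⟩
    rw [hxq]
    exact hy.2

end Groth.Agent.S5869
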