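import Groth.Statements.S5870
import Groth.Agent.ZCl.Local

set_option autoImplicit false
universe u
open ZClos

namespace Groth.Agent.S5870

open CategoryTheory CategoryTheory.Limits AlgebraicGeometry in
/-- For a locally Noetherian scheme X, a subset Z of X stable under specialization and an arbitrary
O_X-module F, the Z-closure H⁰_{X/Z}(F) is zero if and only if the support of F is contained in Z,
that is, the stalk of F at every point outside Z is zero. -/
theorem result (X : Scheme.{u}) [IsLocallyNoetherian X] (Z : Set X)
    (hZ : StableUnderSpecialization Z) (F : X.Modules) :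
    IsZero ((ZClos.H0 Z).obj F) ↔ ∀ x : X, x ∉ Z → Subsingleton (F.presheaf.stalk x) := by
  constructor
  · intro h x hx
    haveI := ZCl.subsingleton_stalk h x
    exact (ZCl.isZClosedAt_of_not_mem (F := F) hx).1.subsingleton
  · intro h
    obtain ⟨O, hO⟩ := Limits.HasZeroObject.zero (C := X.Modules)
    have hcl : ZClos.IsZClosed Z O := ZCl.closed_iff.2 fun T V =>
      ⟨fun a b _ => (ZCl.subsingleton_sections hO V).elim a b,
        fun c => ⟨0, (ZCl.subsingleton_sections hO _).elim _ c⟩⟩
    obtain ⟨v, hv, -⟩ := ZCl.exists_fac hcl (hO.from_ F)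
    haveI := ZCl.isIso_fac hZ hcl (hO.from_ F) (fun x hx => by
      haveI := h x hx
      haveI := ZCl.subsingleton_stalk hO x
      exact ⟨fun a b _ => Subsingleton.elim (α := F.presheaf.stalk x) a b,
        fun c => ⟨(0 : F.presheaf.stalk x), Subsingleton.elim (α := O.presheaf.stalk x) _ c⟩⟩) v hv
    exact hO.of_iso (asIso v)

end Groth.Agent.S5870
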