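import Groth.Statements.S5876
import Groth.Agent.RelSpecUP.Basic
import Groth.Agent.LimExist.Basic


set_option linter.style.haveILetI false
set_option backward.isDefEq.respectTransparency false
universe v
open CategoryTheory CategoryTheory.Limits AlgebraicGeometry Opposite
namespace Groth.Agent.S5876
open RelSpec

variable {S : Scheme.{v}}

lemma specMap_id (A : QCAlg S) : QCAlg.specMap (𝟙 A) = 𝟙 A.spec :=
  RelSpecUP.hom_ext_charts A fun U hU => by
    rw [QCAlg.ι_specMap, QCAlg.id_hom, NatTrans.id_app, Spec.map_id, Category.id_comp, Category.comp_id]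

lemma specMap_comp {A B C : QCAlg S} (φ : A ⟶ B) (ψ : B ⟶ C) :
    QCAlg.specMap (φ ≫ ψ) = QCAlg.specMap ψ ≫ QCAlg.specMap φ :=
  RelSpecUP.hom_ext_charts C fun U hU => by
    rw [QCAlg.ι_specMap, ← Category.assoc, QCAlg.ι_specMap, Category.assoc, QCAlg.ι_specMap,
      QCAlg.comp_hom, NatTrans.comp_app, Spec.map_comp, Category.assoc]

/-- The diagram of relative spectra. -/
noncomputable def specDiag {J : Type v} [SmallCategory J] (A : J ⥤ QCAlg S) : Jᵒᵖ ⥤ Scheme.{v} where
  obj j := (A.obj j.unop).spec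
  map f := QCAlg.specMap (A.map f.unop)
  map_id j := by rw [unop_id, A.map_id, specMap_id]
  map_comp f g := by rw [unop_comp, A.map_comp, specMap_comp]

instance {A B : QCAlg S} (φ : A ⟶ B) : IsAffineHom (QCAlg.specMap φ) := by
  haveI : IsAffineHom (QCAlg.specMap φ ≫ A.π) := by rw [QCAlg.specMap_π]; infer_instance
  exact IsAffineHom.of_comp _ A.π

end Groth.Agent.S5876


set_option autoImplicit false
universe u
open CategoryTheory CategoryTheory.Limits AlgebraicGeometry
open Lim8

namespace Groth.Agent.S5876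

/-- Let S be a scheme and (A_j) a filtered direct system of quasi-coherent O_S-algebras, indexed by a
small filtered category, with a colimit cocone with vertex A. Write S_j = Spec(A_j) and S' = Spec(A)
for the relative spectra, and u_j : S' ⟶ S_j for the morphisms induced by the coprojections A_j ⟶ A.
Then (S', (u_j)) is a limit of the inverse system (S_j) in the category of all schemes (not only of
S-schemes): for every scheme T and every family of morphisms v_j : T ⟶ S_j compatible with the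
transition morphisms, there is exactly one morphism w : T ⟶ S' whose composite with each u_j is v_j. -/
theorem result {S : Scheme.{u}} {J : Type u} [SmallCategory J] [IsFiltered J]
    (A : J ⥤ RelSpec.QCAlg S) (c : Cocone A) (hc : IsColimit c)
    (T : Scheme.{u}) (v : ∀ j : J, T ⟶ (A.obj j).spec)
    (hv : ∀ (j j' : J) (φ : j ⟶ j'), v j' ≫ RelSpec.QCAlg.specMap (A.map φ) = v j) :
    ∃! w : T ⟶ c.pt.spec, ∀ j : J, w ≫ RelSpec.QCAlg.specMap (c.ι.app j) = v j := by
  let D := specDiag A
  haveI : ∀ ⦃i j : Jᵒᵖ⦄ (f : i ⟶ j), IsAffineHom (D.map f) := fun i j f =>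
    inferInstanceAs (IsAffineHom (RelSpec.QCAlg.specMap (A.map f.unop)))
  haveI : HasLimit D := Groth.Agent.LimExist.hasLimit D
  obtain ⟨j₀⟩ := IsFiltered.nonempty (C := J)
  let L := limit D
  let p : ∀ j : J, L ⟶ (A.obj j).spec := fun j => limit.π D (Opposite.op j)
  have hp : ∀ (j j' : J) (φ : j ⟶ j'), p j' ≫ RelSpec.QCAlg.specMap (A.map φ) = p j :=
    fun j j' φ => limit.w D φ.op
  let πL : L ⟶ S := p j₀ ≫ (A.obj j₀).π
  have hπ : ∀ j, p j ≫ (A.obj j).π = πL := by
    intro j
    obtain ⟨k, a, b, -⟩ := IsFilteredOrEmpty.cocone_objs (C := J) j j₀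
    change p j ≫ _ = p j₀ ≫ _
    rw [← hp j k a, ← hp j₀ k b, Category.assoc, Category.assoc, RelSpec.QCAlg.specMap_π,
      RelSpec.QCAlg.specMap_π]
  haveI : IsAffineHom πL := by
    haveI : IsAffineHom (p j₀) := isAffineHom_π_app D (limit.cone D) (limit.isLimit D) _
    infer_instance
  let φ : ∀ j, A.obj j ⟶ RelSpec.QCAlg.directImage πL := fun j =>
    ⟨(Groth.Agent.RelSpecUP.toAlg (A.obj j) πL ⟨p j, hπ j⟩).1,
      (Groth.Agent.RelSpecUP.toAlg (A.obj j) πL ⟨p j, hπ j⟩).2⟩
  have hφ : ∀ ⦃j j' : J⦄ (a : j ⟶ j'), A.map a ≫ φ j' = φ j := by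
    intro j j' a
    apply RelSpec.QCAlg.hom_ext
    change (A.map a).hom ≫ (Groth.Agent.RelSpecUP.toAlg (A.obj j') πL ⟨p j', hπ j'⟩).1 = _
    rw [← Groth.Agent.RelSpecUP.toAlg_specMap]
    exact congrArg (fun x => (Groth.Agent.RelSpecUP.toAlg (A.obj j) πL x).1) (Subtype.ext (hp j j' a))
  let cc : Cocone A :=
    { pt := RelSpec.QCAlg.directImage πL
      ι := { app := φ, naturality := fun j j' a => by rw [hφ a]; exact (Category.comp_id _).symm } }
  let Φ := hc.desc cc
  let ι' : ∀ j, A.obj j ⟶ c.pt := fun j => c.ι.app j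
  obtain ⟨⟨r, hr⟩, hrΦ⟩ := (Groth.Agent.RelSpecUP.toAlg_bijective c.pt πL).2 ⟨Φ.hom, Φ.comm⟩
  have hrp : ∀ j, r ≫ RelSpec.QCAlg.specMap (ι' j) = p j := by
    intro j
    have h1 := (Groth.Agent.RelSpecUP.toAlg_bijective (A.obj j) πL).1
      (a₁ := ⟨r ≫ RelSpec.QCAlg.specMap (ι' j), by
        rw [Category.assoc, RelSpec.QCAlg.specMap_π, hr]⟩) (a₂ := ⟨p j, hπ j⟩) ?_
    · exact congrArg Subtype.val h1
    · apply Subtype.ext
      rw [Groth.Agent.RelSpecUP.toAlg_specMap (ι' j) πL ⟨r, hr⟩, congrArg Subtype.val hrΦ]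
      exact congrArg RelSpec.QCAlg.Hom.hom (hc.fac cc j)
  -- the map from the spectrum of the colimit to the limit of the spectra
  let sc : Cone D :=
    { pt := c.pt.spec
      π :=
        { app := fun j => RelSpec.QCAlg.specMap (ι' j.unop)
          naturality := fun j j' a => by
            refine (Category.id_comp _).trans ?_
            change RelSpec.QCAlg.specMap (ι' j'.unop) =
              RelSpec.QCAlg.specMap (ι' j.unop) ≫ RelSpec.QCAlg.specMap (A.map a.unop)
            rw [← specMap_comp, show A.map a.unop ≫ ι' j.unop = ι' j'.unop from c.w a.unop] } }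
  let s : c.pt.spec ⟶ L := limit.lift D sc
  have hsp : ∀ j, s ≫ p j = RelSpec.QCAlg.specMap (ι' j) :=
    fun j => limit.lift_π sc (Opposite.op j)
  have hsπ : s ≫ πL = c.pt.π := by
    change s ≫ p j₀ ≫ _ = _
    rw [← Category.assoc, hsp, RelSpec.QCAlg.specMap_π]
  let ψ : RelSpec.QCAlg.directImage πL ⟶ c.pt :=
    ⟨AffAlg.algHom πL c.pt.π s hsπ ≫ c.pt.gammaMap, by
      change πL.c ≫ _ = _
      rw [← Category.assoc, AffAlg.algHom_comm, c.pt.π_c_gammaMap]⟩
  have hΦψ : Φ ≫ ψ = 𝟙 c.pt := by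
    apply hc.hom_ext
    intro j
    rw [Category.comp_id, ← Category.assoc, hc.fac cc j]
    apply RelSpec.QCAlg.hom_ext
    change (inv (A.obj j).gammaMap ≫ AffAlg.algHom (A.obj j).π πL (p j) (hπ j)) ≫
      AffAlg.algHom πL c.pt.π s hsπ ≫ c.pt.gammaMap = (ι' j).hom
    rw [Category.assoc, ← Category.assoc (AffAlg.algHom _ _ _ _),
      ← Groth.Agent.RelSpecUP.algHom_comp]
    simp only [hsp j]
    rw [Groth.Agent.RelSpecUP.gammaMap_naturality, IsIso.inv_hom_id_assoc]
  have hsr : s ≫ r = 𝟙 c.pt.spec := by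
    have h1 := (Groth.Agent.RelSpecUP.toAlg_bijective c.pt c.pt.π).1
      (a₁ := ⟨s ≫ r, by rw [Category.assoc, hr, hsπ]⟩) (a₂ := ⟨𝟙 _, Category.id_comp _⟩) ?_
    · exact congrArg Subtype.val h1
    · apply Subtype.ext
      rw [Groth.Agent.RelSpecUP.toAlg_id]
      dsimp only [Groth.Agent.RelSpecUP.toAlg]
      rw [Groth.Agent.RelSpecUP.algHom_comp c.pt.π πL c.pt.π r hr s hsπ, ← Category.assoc]
      have h2 : inv c.pt.gammaMap ≫ AffAlg.algHom c.pt.π πL r hr = Φ.hom :=
        congrArg Subtype.val hrΦ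
      rw [h2]
      have h3 : Φ.hom ≫ AffAlg.algHom πL c.pt.π s hsπ ≫ c.pt.gammaMap = 𝟙 _ :=
        congrArg RelSpec.QCAlg.Hom.hom hΦψ
      rw [← cancel_mono c.pt.gammaMap]
      simp only [Category.assoc]
      rw [h3, IsIso.inv_hom_id]
  let vc : Cone D :=
    { pt := T
      π :=
        { app := fun j => v j.unop
          naturality := fun j j' a => (Category.id_comp _).trans (hv j'.unop j.unop a.unop).symm } }
  refine ⟨limit.lift D vc ≫ r, fun j => ?_, fun w hw => ?_⟩
  · rw [Category.assoc, hrp]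
    exact limit.lift_π vc (Opposite.op j)
  · have h1 : w ≫ s = limit.lift D vc := by
      refine limit.hom_ext fun j => ?_
      refine ((Category.assoc _ _ _).trans ?_).trans (limit.lift_π vc j).symm
      exact (congrArg (w ≫ ·) (hsp j.unop)).trans (hw j.unop)
    rw [← h1, Category.assoc, hsr, Category.comp_id]


end Groth.Agent.S5876
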