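import Groth.Statements.S5888
import Groth.Agent.DimField.Cons

set_option autoImplicit false
universe u
open CategoryTheory AlgebraicGeometry
open ConsProp

namespace Groth.Agent.S5888

/-- For a given set Φ of values (natural numbers, with −∞ = ⊥ the dimension of the empty scheme), the
property of an algebraic k-scheme X that the dimension of X belongs to Φ is a constructible property
of algebraic schemes. The dimension is the Krull dimension of the underlying topological space,
valued in WithBot ℕ∞. -/
theorem result (Φ : Set (WithBot ℕ∞)) :
    ConsProp.IsCons (fun Y T g => topologicalKrullDim ↥Y ∈ Φ) := by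
  refine ⟨fun Y Y' T T' g g' e h _ _ _ _ _ _ H => ?_, fun X S u _ _ _ _ => ?_⟩
  · show topologicalKrullDim ↥Y ∈ Φ ↔ topologicalKrullDim ↥Y' ∈ Φ
    rw [DimField.dim_eq_of_isPullback g g' e h H]
  · have hE := DimField.interior_nonempty_of_genericPoint_mem (DimField.isConstructible_dim_fiber_eq u (genericPoint S))
      (show genericPoint S ∈ {y : S | topologicalKrullDim ↥(u.fiber y) = topologicalKrullDim ↥(u.fiber (genericPoint S))} from rfl)
    by_cases hv : topologicalKrullDim ↥(u.fiber (genericPoint S)) ∈ Φ
    · refine Or.inl (hE.mono (interior_mono fun s hs => ?_))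
      show topologicalKrullDim ↥(u.fiber s) ∈ Φ
      rw [show topologicalKrullDim ↥(u.fiber s) = _ from hs]
      exact hv
    · refine Or.inr (hE.mono (interior_mono fun s hs hs' => hv ?_))
      have hs'' : topologicalKrullDim ↥(u.fiber s) ∈ Φ := hs'
      rw [show topologicalKrullDim ↥(u.fiber s) = _ from hs] at hs''
      exact hs''

end Groth.Agent.S5888
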