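import Groth.Statements.S5891
import Groth.Agent.ConsEngine.Stages
import Groth.Agent.ConsEngine.Main

set_option autoImplicit false
universe u
open CategoryTheory AlgebraicGeometry
open ConsProp

namespace Groth.Agent.S5891

/-- Let S = lim S_i be a cofiltered limit of schemes with affine transition maps, i₀ an index with
S_{i₀} quasi-compact, g₀ : Y₀ ⟶ S_{i₀} and f₀ : X₀ ⟶ Y₀ morphisms with g₀ and f₀ ≫ g₀ of finite
presentation (locally of finite presentation, quasi-compact and quasi-separated), and f : X ⟶ Y over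
g : Y ⟶ S the base change of f₀ along S ⟶ S_{i₀} (pullback squares). Let P(f, X, Y, k) be an
ind-constructible property of morphisms of algebraic schemes. Then P holds for the morphism of
fibres f_s : X_s ⟶ Y_s over κ(s) for every point s of S if and only if there is an index j over i₀
such that, for the base change f_j : X_j ⟶ Y_j of f₀ along S_j ⟶ S_{i₀}, P holds for (f_j)_t for
every point t of S_j. -/
theorem result
    {P : ∀ ⦃X Y T : Scheme.{u}⦄, (X ⟶ Y) → (Y ⟶ T) → Prop} (hP : ConsProp.IsIndConsMor P)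
    {I : Type u} [SmallCategory I] [IsCofiltered I]
    (D : I ⥤ Scheme.{u}) (c : Limits.Cone D) (hc : Limits.IsLimit c)
    [∀ (i j : I) (a : i ⟶ j), IsAffineHom (D.map a)] (i₀ : I) [CompactSpace ↥(D.obj i₀)]
    {X₀ Y₀ : Scheme.{u}} (f₀ : X₀ ⟶ Y₀) (g₀ : Y₀ ⟶ D.obj i₀)
    [LocallyOfFinitePresentation g₀] [QuasiCompact g₀] [QuasiSeparated g₀]
    [LocallyOfFinitePresentation (f₀ ≫ g₀)] [QuasiCompact (f₀ ≫ g₀)] [QuasiSeparated (f₀ ≫ g₀)]
    {X Y : Scheme.{u}} (f : X ⟶ Y) (g : Y ⟶ c.pt) (qY : Y ⟶ Y₀) (qX : X ⟶ X₀)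
    (hY : IsPullback qY g g₀ (c.π.app i₀)) (hX : IsPullback qX f f₀ qY) :
    (∀ s : ↥c.pt, s ∈ ConsProp.locusMor P f g) ↔
      ∃ (j : I) (φ : j ⟶ i₀) (Xj Yj : Scheme.{u}) (fj : Xj ⟶ Yj) (gj : Yj ⟶ D.obj j)
        (pY : Yj ⟶ Y₀) (pX : Xj ⟶ X₀), IsPullback pY gj g₀ (D.map φ) ∧ IsPullback pX fj f₀ pY ∧
          ∀ t : ↥(D.obj j), t ∈ ConsProp.locusMor P fj gj := by
  haveI : ∀ {i j} (f : i ⟶ j), IsAffineHom (D.map f) := fun {i j} f => inferInstance
  have hL : ProCons.IsIndConstructible (ConsProp.locusMor P f₀ g₀) := ConsEngine.indCons_locusMor hP f₀ g₀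
  constructor
  · intro h
    have hK : (c.π.app i₀) ⁻¹' (ConsProp.locusMor P f₀ g₀)ᶜ = ∅ :=
      Set.eq_empty_iff_forall_notMem.mpr fun s hs =>
        hs ((ConsEngine.mem_locusMor_iff hP.1 hY hX s).mp (h s))
    obtain ⟨j, φ, hj⟩ := ConsEngine.exists_preimage_eq_empty D c hc i₀
      (ConsTop.isProConstructible_iff_indCons_compl.mpr (by rw [compl_compl]; exact hL)) hK
    refine ⟨j, φ, _, _, LimDesc.stageMap D g₀ f₀ (Over.mk φ), LimDesc.toStage D g₀ (Over.mk φ),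
      LimDesc.toBase D g₀ (Over.mk φ), LimDesc.toBase D (f₀ ≫ g₀) (Over.mk φ),
      LimDesc.isPullback_stage D g₀ (Over.mk φ), LimDesc.isPullback_stageMap D g₀ f₀ (Over.mk φ), fun t => ?_⟩
    refine (ConsEngine.mem_locusMor_iff hP.1 (LimDesc.isPullback_stage D g₀ (Over.mk φ))
      (LimDesc.isPullback_stageMap D g₀ f₀ (Over.mk φ)) t).mpr (by_contra fun hn => ?_)
    exact Set.eq_empty_iff_forall_notMem.mp hj t hn
  · rintro ⟨j, φ, Xj, Yj, fj, gj, pY, pX, hYj, hXj, h⟩ s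
    rw [ConsEngine.mem_locusMor_iff hP.1 hY hX s]
    have := (ConsEngine.mem_locusMor_iff hP.1 hYj hXj (c.π.app j s)).mp (h _)
    rwa [← Scheme.Hom.comp_apply, c.w φ] at this

end Groth.Agent.S5891
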