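import Groth.Statements.S5892
import Groth.Agent.ConsMod.Locus
import Groth.Agent.ConsEngine.Stages
import Groth.Agent.LimDesc.Tower

set_option autoImplicit false
universe u
open CategoryTheory AlgebraicGeometry
open ConsProp

namespace Groth.Agent.S5892

/-- Let S = lim S_i be a cofiltered limit of schemes with affine transition maps, i₀ an index with
S_{i₀} quasi-compact, u₀ : X₀ ⟶ S_{i₀} a morphism of finite presentation (locally of finite
presentation, quasi-compact and quasi-separated), F₀ a quasi-coherent O_{X₀}-module of finite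
presentation, u : X ⟶ S the base change of u₀ along S ⟶ S_{i₀} (a pullback square with q : X ⟶ X₀)
and F the pullback of F₀ along q. Let P(X, F, k) be an ind-constructible property of algebraic
schemes with a coherent module. Then P holds for (X_s, F_s) over κ(s) for every point s of S if and
only if there is an index j over i₀ such that, for the base change u_j : X_j ⟶ S_j of u₀ with p :
X_j ⟶ X₀ and F_j the pullback of F₀ along p, P holds for the fibre data of (u_j, F_j) over every
point of S_j. (The published statement is for relations on morphisms and is extended there, with the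
same proof, to relations on algebraic schemes with a module; this row is that form.) -/
theorem result
    {P : ∀ ⦃Y T : Scheme.{u}⦄, (Y ⟶ T) → Y.Modules → Prop} (hP : ConsProp.IsIndConsMod P)
    {I : Type u} [SmallCategory I] [IsCofiltered I]
    (D : I ⥤ Scheme.{u}) (c : Limits.Cone D) (hc : Limits.IsLimit c)
    [∀ (i j : I) (a : i ⟶ j), IsAffineHom (D.map a)] (i₀ : I) [CompactSpace ↥(D.obj i₀)]
    {X₀ : Scheme.{u}} (u₀ : X₀ ⟶ D.obj i₀)
    [LocallyOfFinitePresentation u₀] [QuasiCompact u₀] [QuasiSeparated u₀]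
    (F₀ : X₀.Modules) [Coh.IsQCoh F₀] (hF₀ : CohB1.IsFP F₀)
    {X : Scheme.{u}} (u : X ⟶ c.pt) (q : X ⟶ X₀) (hX : IsPullback q u u₀ (c.π.app i₀)) :
    (∀ s : ↥c.pt, s ∈ ConsProp.locusMod P u ((Scheme.Modules.pullback q).obj F₀)) ↔
      ∃ (j : I) (φ : j ⟶ i₀) (Xj : Scheme.{u}) (uj : Xj ⟶ D.obj j) (p : Xj ⟶ X₀),
        IsPullback p uj u₀ (D.map φ) ∧
          ∀ t : ↥(D.obj j), t ∈ ConsProp.locusMod P uj ((Scheme.Modules.pullback p).obj F₀) := by
  haveI : ∀ {i j} (f : i ⟶ j), IsAffineHom (D.map f) := fun {i j} f => inferInstance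
  have hFT : CohB1.IsFT F₀ := ModDesc.isFT_of_isFP hF₀
  have hL : ProCons.IsIndConstructible (ConsProp.locusMod P u₀ F₀) := ConsMod.indCons_locusMod hP u₀ F₀ hF₀
  have key := fun s => ConsMod.mem_locusMod_iff hP.1 hX F₀ inferInstance hFT _ (Iso.refl _) s
  constructor
  · intro h
    have hK : (c.π.app i₀) ⁻¹' (ConsProp.locusMod P u₀ F₀)ᶜ = ∅ :=
      Set.eq_empty_iff_forall_notMem.mpr fun s hs => hs ((key s).mp (h s))
    obtain ⟨j, φ, hj⟩ := ConsEngine.exists_preimage_eq_empty D c hc i₀
      (ConsTop.isProConstructible_iff_indCons_compl.mpr (by rw [compl_compl]; exact hL)) hK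
    refine ⟨j, φ, _, LimDesc.toStage D u₀ (Over.mk φ), LimDesc.toBase D u₀ (Over.mk φ),
      LimDesc.isPullback_stage D u₀ (Over.mk φ), fun t => ?_⟩
    refine (ConsMod.mem_locusMod_iff hP.1 (LimDesc.isPullback_stage D u₀ (Over.mk φ)) F₀ inferInstance hFT _
      (Iso.refl _) t).mpr (by_contra fun hn => ?_)
    exact Set.eq_empty_iff_forall_notMem.mp hj t hn
  · rintro ⟨j, φ, Xj, uj, p, hj, h⟩ s
    rw [key s]
    have := (ConsMod.mem_locusMod_iff hP.1 hj F₀ inferInstance hFT _ (Iso.refl _) (c.π.app j s)).mp (h _)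
    rwa [← Scheme.Hom.comp_apply, c.w φ] at this

end Groth.Agent.S5892
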