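import Groth.Statements.S5903
import Groth.Agent.ConsEngine.PairExists
import Groth.Agent.ConsEngine.Immersion
import Groth.Agent.ConsEngine.QuasiAffine

set_option autoImplicit false
universe u
open CategoryTheory AlgebraicGeometry
open ConsPropPair

namespace Groth.Agent.S5903

/-- Case of the property of being quasi-finite: let P(X, Y, k) be the relation between a field k and two
algebraic k-schemes X, Y: there are an extension field k′ of k (a one-point integral scheme T′ over
T = Spec k) and a k′-morphism g : X_(k′) ⟶ Y_(k′) between the base changes (cartesian squares over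
T′ ⟶ T) which is quasi-finite (locally of finite type, quasi-compact, with discrete fibres). Then P
is an ind-constructible property of pairs of algebraic schemes. -/
theorem result :
    ConsPropPair.IsIndConsPair
      (fun X Y T gX gY => ∃ (T' X' Y' : Scheme.{u}) (h : T' ⟶ T) (gX' : X' ⟶ T') (gY' : Y' ⟶ T')
        (eX : X' ⟶ X) (eY : Y' ⟶ Y), IsIntegral T' ∧ Subsingleton ↥T' ∧
          IsPullback eX gX' gX h ∧ IsPullback eY gY' gY h ∧
            ∃ g : X' ⟶ Y', g ≫ gY' = gX' ∧ (AlgebraicGeometry.LocallyOfFiniteType g ∧ AlgebraicGeometry.QuasiCompact g ∧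
              AlgebraicGeometry.LocallyQuasiFinite g)) := by
  let R : MorphismProperty Scheme.{u} := fun _ _ g =>
    AlgebraicGeometry.LocallyOfFiniteType g ∧ AlgebraicGeometry.QuasiCompact g ∧ AlgebraicGeometry.LocallyQuasiFinite g
  haveI : R.IsStableUnderBaseChange := ⟨fun {X Y Y' S} {f g f' g'} sq hg =>
    ⟨MorphismProperty.of_isPullback (P := @LocallyOfFiniteType) sq hg.1,
      MorphismProperty.of_isPullback (P := @QuasiCompact) sq hg.2.1,
      MorphismProperty.of_isPullback (P := @LocallyQuasiFinite) sq hg.2.2⟩⟩
  refine ConsEngine.isIndConsPair_existsRel R (ConsEngine.isIndConsMor_of_isConsMor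
    (ConsEngine.IsConsMor.congr' ConsEngine.isConsMor_lqf fun f g _ _ _ _ _ _ => ?_))
  obtain ⟨h1, h2⟩ := ConsEngine.qc_lft_of_comp f g
  exact ⟨fun h => ⟨h1, h2, h⟩, fun h => h.2.2⟩

end Groth.Agent.S5903
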