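import Groth.Statements.S5910
import Groth.Agent.SepFam.Nilp
import Groth.Agent.FlatModB.Basic

set_option autoImplicit false
set_option linter.style.haveILetI false
set_option backward.isDefEq.respectTransparency false
universe u
open CategoryTheory AlgebraicGeometry
open TensorProduct
open EGA43
open Groth.Agent

namespace Groth.Agent.S5910

open CategoryTheory.Limits in
/-- Separating assertion: over an affine base and in the case Z_λ = X: let A be a commutative ring, p :
X ⟶ Spec A an A-scheme, F a quasi-coherent O_X-module, (G_i) quasi-coherent O_X-modules flat over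
Spec A and u_i : F ⟶ G_i homomorphisms. Let J be a nilpotent ideal of A all of whose successive
quotients J^k/J^{k+1} are free (A/J)-modules, and X₀ = X ×_{Spec A} Spec(A/J). If the family of
pullbacks of the u_i to X₀ is separating (a section of the pulled-back F over an open subset killed
by every member is zero), then (u_i) is separating. (The published statement has an arbitrary base
S, a nilpotent quasi-coherent ideal of O_S whose successive quotients are locally free over O_S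
modulo the ideal, homomorphisms into direct images (f_λ)_*G_λ, and the same assertion for
universally separating families; the assertion is local on S and on X, and this row is the case of
an affine base with free successive quotients and Z_λ = X.) -/
theorem result {X : Scheme.{u}} (A : CommRingCat.{u}) (p : X ⟶ Spec A)
    (J : Ideal ↑A) (hJ : IsNilpotent J) (hfree : ∀ k : ℕ, Module.Free (↑A ⧸ J) ((↑A ⧸ J) ⊗[↑A] ↥(J ^ k)))
    (F : X.Modules) [Coh.IsQCoh F] {ι : Type u} (G : ι → X.Modules) [∀ i, Coh.IsQCoh (G i)]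
    (hG : ∀ i, FlatMod.IsFlatOver p (G i)) (u : ∀ i, F ⟶ G i)
    (h0 : ∀ (V : (pullback p (Spec.map (CommRingCat.ofHom (Ideal.Quotient.mk J)))).Opens) (t : ↑(((Scheme.Modules.pullback (pullback.fst p (Spec.map (CommRingCat.ofHom (Ideal.Quotient.mk J))))).obj F).presheaf.obj (Opposite.op V))), (∀ i, (Scheme.Modules.Hom.mapPresheaf ((Scheme.Modules.pullback (pullback.fst p (Spec.map (CommRingCat.ofHom (Ideal.Quotient.mk J))))).map (u i))).app (Opposite.op V) t = 0) → t = 0) :
    ∀ (V : (X).Opens) (t : ↑((F).presheaf.obj (Opposite.op V))), (∀ i, (Scheme.Modules.Hom.mapPresheaf (u i)).app (Opposite.op V) t = 0) → t = 0 := by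
  let jbar : Spec (CommRingCat.of (↑A ⧸ J)) ⟶ Spec A := Spec.map (CommRingCat.ofHom (Ideal.Quotient.mk J))
  let b := CategoryTheory.Limits.pullback.fst p jbar
  change SepFam.SepMod (fun i => (Scheme.Modules.pullback b).map (u i)) at h0
  change SepFam.SepMod u
  refine SepFam.sepMod_of_cover u inferInstance (fun i => inferInstance) fun x => ?_
  obtain ⟨U, hU, hxU, -⟩ := exists_isAffineOpen_mem_and_subset (X := X) (x := x) (U := ⊤) trivial
  refine ⟨U, hU, hxU, ?_⟩
  let S := Spec A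
  let A0 := Γ(S, ⊤)
  let C := Γ(Spec (CommRingCat.of (↑A ⧸ J)), ⊤)
  let B := Γ(X, U)
  obtain ⟨hW, hiff⟩ := SepFam.piece_iff u (IsPullback.of_hasPullback p jbar) inferInstance (fun i => inferInstance)
    (isAffineOpen_top S) hU (le_top : U ≤ p ⁻¹ᵁ ⊤) (isAffineOpen_top _) (le_top : ⊤ ≤ jbar ⁻¹ᵁ ⊤)
  letI algB0 : Algebra A0 B := (p.appLE ⊤ U le_top).hom.toAlgebra
  letI algC0 : Algebra A0 C := (jbar.appLE ⊤ ⊤ le_top).hom.toAlgebra
  have hsep := hiff.1 (SepFam.sep_of_sepMod _ (QC.isQCoh_pullback b inferInstance) (fun i => QC.isQCoh_pullback b inferInstance) h0 hW)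
  let ψ : ↑A →+* A0 := (Scheme.ΓSpecIso A).inv.hom
  let ψ' : (↑A ⧸ J) →+* C := (Scheme.ΓSpecIso (CommRingCat.of (↑A ⧸ J))).inv.hom
  let χ : A0 →+* ↑A := (Scheme.ΓSpecIso A).hom.hom
  let χ' : C →+* (↑A ⧸ J) := (Scheme.ΓSpecIso (CommRingCat.of (↑A ⧸ J))).hom.hom
  have hψχ : ∀ a, ψ (χ a) = a := fun a => Iso.hom_inv_id_apply (Scheme.ΓSpecIso A) a
  have hψχ' : ∀ c, ψ' (χ' c) = c := fun c => Iso.hom_inv_id_apply (Scheme.ΓSpecIso (CommRingCat.of (↑A ⧸ J))) c
  have hχψ' : ∀ c, χ' (ψ' c) = c := fun c => Iso.inv_hom_id_apply (Scheme.ΓSpecIso (CommRingCat.of (↑A ⧸ J))) c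
  have hnat : ∀ a, algebraMap A0 C (ψ a) = ψ' (Ideal.Quotient.mk J a) := fun a => by
    change (jbar.appLE ⊤ ⊤ le_top).hom (ψ a) = _
    rw [show jbar.appLE ⊤ ⊤ le_top = jbar.appTop from Scheme.Hom.appLE_eq_app _]
    exact congr($((Scheme.ΓSpecIso_inv_naturality (CommRingCat.ofHom (Ideal.Quotient.mk J))).symm).hom a)
  letI algB : Algebra ↑A B := ((algebraMap A0 B).comp ψ).toAlgebra
  letI modM : Module ↑A Γ(F, U) := Module.compHom _ (algebraMap ↑A B)
  haveI : IsScalarTower ↑A B Γ(F, U) := IsScalarTower.of_algebraMap_smul fun _ _ => rfl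
  letI modN : ∀ i, Module ↑A Γ(G i, U) := fun i => Module.compHom _ (algebraMap ↑A B)
  haveI : ∀ i, IsScalarTower ↑A B Γ(G i, U) := fun i => IsScalarTower.of_algebraMap_smul fun _ _ => rfl
  haveI : ∀ i, Module.Flat ↑A Γ(G i, U) := fun i => by
    letI := FlatModB.secModule p (G i) U ⊤ le_top
    haveI : Module.Flat A0 Γ(G i, U) :=
      (FlatModB.flat_sections_iff p (G i) inferInstance hU (isAffineOpen_top _) le_top).2 fun y _ => hG i y
    letI : Algebra ↑A A0 := ψ.toAlgebra
    haveI : Module.Flat ↑A A0 := RingHom.Flat.of_bijective (ConcreteCategory.bijective_of_isIso (Scheme.ΓSpecIso A).inv)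
    haveI : IsScalarTower ↑A A0 Γ(G i, U) := IsScalarTower.of_algebraMap_smul fun _ _ => rfl
    exact Module.Flat.trans ↑A A0 Γ(G i, U)
  let g : C →ₐ[A0] B ⊗[↑A] (↑A ⧸ J) :=
    { (Algebra.TensorProduct.includeRight : (↑A ⧸ J) →ₐ[↑A] B ⊗[↑A] (↑A ⧸ J)).toRingHom.comp χ' with
      commutes' := fun a => by
        obtain ⟨a, rfl⟩ : ∃ a', ψ a' = a := ⟨_, hψχ a⟩
        change (1 : B) ⊗ₜ[↑A] χ' (algebraMap A0 C (ψ a)) = algebraMap A0 B (ψ a) ⊗ₜ[↑A] (1 : ↑A ⧸ J)
        rw [hnat, hχψ']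
        exact (Algebra.TensorProduct.tmul_one_eq_one_tmul (A := B) (B := ↑A ⧸ J) a).symm }
  let g' : (↑A ⧸ J) →ₐ[↑A] B ⊗[A0] C :=
    { (Algebra.TensorProduct.includeRight : C →ₐ[A0] B ⊗[A0] C).toRingHom.comp ψ' with
      commutes' := fun a => by
        change (1 : B) ⊗ₜ[A0] ψ' (Ideal.Quotient.mk J a) = algebraMap A0 B (ψ a) ⊗ₜ[A0] (1 : C)
        rw [← hnat]
        exact (Algebra.TensorProduct.tmul_one_eq_one_tmul (A := B) (B := C) (ψ a)).symm }
  let P : B ⊗[A0] C →ₐ[B] B ⊗[↑A] (↑A ⧸ J) :=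
    Algebra.TensorProduct.lift (Algebra.ofId B _) g fun _ _ => Commute.all _ _
  let Q : B ⊗[↑A] (↑A ⧸ J) →ₐ[B] B ⊗[A0] C :=
    Algebra.TensorProduct.lift (Algebra.ofId B _) g' fun _ _ => Commute.all _ _
  have hPQ : P.comp Q = AlgHom.id B _ := by
    ext a
    simp [P, Q, g, g', hχψ']
  have hQP : Q.comp P = AlgHom.id B _ := by
    ext c
    simp [P, Q, g, g', hψχ']
  intro r
  exact SepFam.sepAt_of_nilpotent_ideal _ hJ hfree
    (SepFam.sepAt_tX_of_sepBC' _ r (SepFam.sepBC_of_algEquiv _ (AlgEquiv.ofAlgHom P Q hPQ hQP) hsep))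

end Groth.Agent.S5910
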