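import Groth.Statements.S5911
import Groth.Agent.EGAFlat.Separated

set_option autoImplicit false
universe u
open TensorProduct
open EGA43

namespace Groth.Agent.S5911

set_option linter.style.haveILetI false

/-- Let A be a Noetherian ring, J an ideal of A and M an A-module which is ideally separated for the
J-adic topology (for every ideal a of A the module a ⊗_A M is J-adically separated). Let (p_i) be a
finite family of prime ideals of A containing J, let J_n be the intersection of the symbolic powers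
p_i^{(n)} (preimages in A of the n-th powers of the maximal ideals of the local rings A_{p_i}), and
assume every power J^n contains some J_m. Then M is flat if and only if (A/J) ⊗_A M is flat over A/J
and M_{p_i} is flat over A_{p_i} for every i. -/
theorem result {A : Type u} [CommRing A] [IsNoetherianRing A]
    (J : Ideal A) (M : Type u) [AddCommGroup M] [Module A M]
    (hsep : ∀ a : Ideal A, IsHausdorff J (↥a ⊗[A] M))
    {r : ℕ} (p : Fin r → Ideal A) [∀ i, (p i).IsPrime] (hp : ∀ i, J ≤ p i)
    (htop : ∀ n : ℕ, ∃ m : ℕ,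
      ⨅ i, Ideal.comap (algebraMap A (Localization.AtPrime (p i))) (IsLocalRing.maximalIdeal (Localization.AtPrime (p i)) ^ m) ≤ J ^ n) :
    Module.Flat A M ↔
      Module.Flat (A ⧸ J) ((A ⧸ J) ⊗[A] M) ∧
        ∀ i, Module.Flat (Localization.AtPrime (p i)) (LocalizedModule (p i).primeCompl M) := by
  refine ⟨fun hM => ⟨inferInstance, fun i => ?_⟩, fun ⟨hJ, hp'⟩ => ?_⟩
  · exact Module.Flat.of_isLocalizedModule _ (p i).primeCompl (LocalizedModule.mkLinearMap _ M)
  haveI := hJ
  let C : ℕ → Ideal A := fun k => ⨅ i, Ideal.comap (algebraMap A (Localization.AtPrime (p i)))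
    (IsLocalRing.maximalIdeal (Localization.AtPrime (p i)) ^ k)
  have hC : ∀ k (d : A), d ∈ C k ↔ ∀ i, algebraMap A (Localization.AtPrime (p i)) d ∈
      IsLocalRing.maximalIdeal (Localization.AtPrime (p i)) ^ k := fun k d => by
    simp only [C, Ideal.mem_iInf, Ideal.mem_comap]
  have hmono : ∀ k l, k ≤ l → C l ≤ C k := fun k l hkl =>
    iInf_mono fun i => Ideal.comap_mono (Ideal.pow_le_pow_right hkl)
  have hmul : ∀ k l, C k * C l ≤ C (k + l) := fun k l => Ideal.mul_le.2 fun a ha b hb => (hC _ _).2 fun i => by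
    rw [map_mul, pow_add]
    exact Ideal.mul_mem_mul ((hC k a).1 ha i) ((hC l b).1 hb i)
  have hJ1 : J ≤ C 1 := fun a ha => (hC 1 a).2 fun i => by
    rw [pow_one]
    exact (IsLocalization.AtPrime.to_map_mem_maximal_iff _ (p i) a).2 (hp i ha)
  have hpow : ∀ m, 1 ≤ m → C 1 ^ m ≤ C m := fun m hm => by
    induction m, hm using Nat.le_induction with
    | base => rw [pow_one]
    | succ m _ ih => rw [pow_succ]; exact (Ideal.mul_mono_left ih).trans (hmul m 1)
  have htop' : ∀ n, ∃ m, 1 ≤ m ∧ C m ≤ J ^ n := fun n => by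
    obtain ⟨m, hm⟩ := htop n
    exact ⟨max m 1, le_max_right _ _, (hmono _ _ (le_max_left _ _)).trans hm⟩
  obtain ⟨c, hc1, hc⟩ := htop' 1
  rw [pow_one] at hc
  haveI := EGAFlat.flat_quot_of_le M hJ1
  haveI : ∀ i : ULift.{u} (Fin r), (p i.down).IsPrime := fun i => inferInstance
  haveI : ∀ i : ULift.{u} (Fin r), Module.Flat (Localization.AtPrime (p i.down))
      (LocalizedModule (p i.down).primeCompl M) := fun i => hp' i.down
  refine EGAFlat.flat_of_detect M C (fun k _ => hmono _ _ (Nat.le_succ k))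
    (fun k _ => (hmul 1 k).trans (by rw [Nat.add_comm])) (fun i : ULift.{u} (Fin r) => p i.down)
    (fun k _ d _ s hs hd => (hC _ _).2 fun i => ?_) (fun n => ?_)
    (fun a => EGAFlat.isHausdorff_of_pow_le ((hpow c hc1).trans hc) (hsep a))
  · have h1 := (hC _ _).1 (hd ⟨i⟩) i
    rw [map_mul] at h1
    exact (Ideal.unit_mul_mem_iff_mem _
      (IsLocalization.map_units (Localization.AtPrime (p i)) (⟨s ⟨i⟩, hs ⟨i⟩⟩ : (p i).primeCompl))).1 h1
  · obtain ⟨m, hm1, hm⟩ := htop' n
    exact ⟨m, hm1, hm.trans (Ideal.pow_right_mono hJ1 n)⟩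

end Groth.Agent.S5911
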