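import Groth.Statements.S5912
import Groth.Agent.EGAFlat.Separated

set_option autoImplicit false
universe u
open TensorProduct
open EGA43

namespace Groth.Agent.S5912

set_option linter.style.haveILetI false

/-- Let A be a Noetherian ring, J an ideal of A and M an A-module which is ideally separated for the
J-adic topology (for every ideal a of A the module a ⊗_A M is J-adically separated), and suppose
every quotient J^k/J^{k+1} is a flat (A/J)-module (the associated graded ring of A along J is flat
over A/J). Then M is flat if and only if (A/J) ⊗_A M is flat over A/J and M_p is flat over A_p for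
every associated prime p of the A-module A/J. -/
theorem result {A : Type u} [CommRing A] [IsNoetherianRing A]
    (J : Ideal A) (M : Type u) [AddCommGroup M] [Module A M]
    (hsep : ∀ a : Ideal A, IsHausdorff J (↥a ⊗[A] M))
    (hgr : ∀ k : ℕ, Module.Flat (A ⧸ J) ((A ⧸ J) ⊗[A] ↥(J ^ k))) :
    Module.Flat A M ↔
      Module.Flat (A ⧸ J) ((A ⧸ J) ⊗[A] M) ∧
        ∀ q : associatedPrimes A (A ⧸ J),
          haveI : q.1.IsPrime := IsAssociatedPrime.isPrime q.2
          Module.Flat (Localization.AtPrime q.1) (LocalizedModule q.1.primeCompl M) := by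
  refine ⟨fun hM => ⟨inferInstance, fun i => ?_⟩, fun ⟨hJ, hp'⟩ => ?_⟩
  · haveI : i.1.IsPrime := IsAssociatedPrime.isPrime i.2
    exact Module.Flat.of_isLocalizedModule _ i.1.primeCompl (LocalizedModule.mkLinearMap _ M)
  classical
  haveI := hJ
  have hfin : (associatedPrimes A (A ⧸ J)).Finite := associatedPrimes.finite A (A ⧸ J)
  haveI : Finite (associatedPrimes A (A ⧸ J)) := hfin.to_subtype
  haveI : ∀ q : associatedPrimes A (A ⧸ J), q.1.IsPrime := fun q => IsAssociatedPrime.isPrime q.2
  haveI : ∀ q : associatedPrimes A (A ⧸ J), Module.Flat (Localization.AtPrime q.1)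
      (LocalizedModule q.1.primeCompl M) := hp'
  haveI := EGAFlat.flat_quot_of_le M (le_of_eq (pow_one J).symm)
  refine EGAFlat.flat_of_detect M (fun k => J ^ k) (fun k _ => Ideal.pow_le_pow_right (Nat.le_succ k))
    (fun k _ => by rw [pow_one, ← pow_succ']) (fun q : associatedPrimes A (A ⧸ J) => q.1)
    (fun k _ d hd s hs hsd => ?_) (fun n => ⟨max n 1, le_max_right _ _, ?_⟩) (fun a => ?_)
  · obtain ⟨t, htS, ht⟩ : ∃ t ∈ Ideal.span (Set.range s), ∀ q ∈ associatedPrimes A (A ⧸ J), t ∉ q := by
      by_contra hne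
      push Not at hne
      have hsub : ((Ideal.span (Set.range s) : Ideal A) : Set A) ⊆ ⋃ q ∈ (hfin.toFinset : Set (Ideal A)), (q : Set A) := by
        intro t ht
        obtain ⟨q, hq, htq⟩ := hne t ht
        exact Set.mem_iUnion₂.2 ⟨q, hfin.mem_toFinset.2 hq, htq⟩
      obtain ⟨q, hq, hle⟩ := (Ideal.subset_union_prime ⊥ ⊥ (fun q hq _ _ =>
        IsAssociatedPrime.isPrime (hfin.mem_toFinset.1 hq))).1 hsub
      exact hs ⟨q, hfin.mem_toFinset.1 hq⟩ (hle (Ideal.subset_span ⟨_, rfl⟩))
    have htd : t * d ∈ J ^ (k + 1) := by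
      clear ht
      induction htS using Submodule.span_induction with
      | mem x hx => obtain ⟨i, rfl⟩ := hx; exact hsd i
      | zero => rw [zero_mul]; exact zero_mem _
      | add x y _ _ hx hy => rw [add_mul]; exact add_mem hx hy
      | smul c x _ hx => rw [smul_eq_mul, mul_assoc]; exact Ideal.mul_mem_left _ c hx
    let R := A ⧸ J
    let Q := R ⊗[A] ↥(J ^ k)
    have hreg : Function.Injective (LinearMap.lsmul R R (Ideal.Quotient.mk J t)) := by
      refine (injective_iff_map_eq_zero _).2 fun x hx => ?_
      by_contra hx0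
      have : t ∈ ⋃ q ∈ associatedPrimes A (A ⧸ J), (q : Set A) := by
        rw [biUnion_associatedPrimes_eq_zero_divisors A (A ⧸ J)]
        refine ⟨x, hx0, ?_⟩
        rw [Algebra.smul_def]
        exact hx
      obtain ⟨q, hq, htq⟩ := Set.mem_iUnion₂.1 this
      exact ht q hq htq
    haveI : Module.Flat R Q := hgr k
    let z : Q := (1 : R) ⊗ₜ[A] (⟨d, hd⟩ : ↥(J ^ k))
    have htz : t • z = 0 := by
      rw [← TensorProduct.tmul_smul]
      have e : TensorProduct.quotTensorEquivQuotSMul ↥(J ^ k) J ((1 : R) ⊗ₜ[A] (t • (⟨d, hd⟩ : ↥(J ^ k)))) = 0 := by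
        rw [← map_one (Ideal.Quotient.mk J), TensorProduct.quotTensorEquivQuotSMul_mk_tmul, one_smul,
          Submodule.Quotient.mk_eq_zero, Submodule.mem_smul_top_iff]
        show t * d ∈ J • (J ^ k : Submodule A A)
        rw [smul_eq_mul, ← pow_succ']
        exact htd
      exact (TensorProduct.quotTensorEquivQuotSMul ↥(J ^ k) J).map_eq_zero_iff.1 e
    have hz : z = 0 := by
      have h1 : Function.Injective ((LinearMap.lsmul R R (Ideal.Quotient.mk J t)).rTensor Q) :=
        Module.Flat.rTensor_preserves_injective_linearMap _ hreg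
      apply (TensorProduct.lid R Q).symm.injective
      apply h1
      rw [map_zero, map_zero, TensorProduct.lid_symm_apply, LinearMap.rTensor_tmul, LinearMap.lsmul_apply,
        TensorProduct.smul_tmul, ← Ideal.Quotient.algebraMap_eq, algebraMap_smul, htz, TensorProduct.tmul_zero]
    have e : TensorProduct.quotTensorEquivQuotSMul ↥(J ^ k) J z = 0 := by rw [hz, map_zero]
    simp only [z] at e
    rw [← map_one (Ideal.Quotient.mk J), TensorProduct.quotTensorEquivQuotSMul_mk_tmul, one_smul,
      Submodule.Quotient.mk_eq_zero, Submodule.mem_smul_top_iff] at e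
    change d ∈ J • (J ^ k : Submodule A A) at e
    rw [smul_eq_mul, ← pow_succ'] at e
    exact e
  · show J ^ max n 1 ≤ (J ^ 1) ^ n
    rw [pow_one]
    exact Ideal.pow_le_pow_right (le_max_left _ _)
  · show IsHausdorff (J ^ 1) _
    rw [pow_one]
    exact hsep a

end Groth.Agent.S5912
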