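import Groth.Statements.S5913
import Groth.Agent.JacLib.Basic

set_option autoImplicit false
universe u
open CategoryTheory AlgebraicGeometry
open EGA43

namespace Groth.Agent.S5913

/-- In the locally Noetherian form: a locally Noetherian scheme X is Jacobson if and only if it has no
subscheme isomorphic to the spectrum of a semi-local integral domain of dimension 1, i.e. there is
no immersion Spec R ⟶ X with R an integral domain having finitely many maximal ideals and Krull
dimension 1. -/
theorem result (X : Scheme.{u}) [IsLocallyNoetherian X] :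
    JacobsonSpace X ↔
      ∀ (R : CommRingCat.{u}) [IsDomain R] (i : Spec R ⟶ X) [IsImmersion i],
        ¬ (Finite (MaximalSpectrum R) ∧ ringKrullDim R = 1) := by
  constructor
  · intro hX R _ i _ ⟨hfin, hdim⟩
    have hJ : JacobsonSpace (PrimeSpectrum R) := by
      let U : Set X := coborder (Set.range i)
      have hU : IsOpen U := i.isLocallyClosed_range.isOpen_coborder
      haveI : JacobsonSpace ↥U := JacobsonSpace.of_isOpenEmbedding hU.isOpenEmbedding_subtypeVal
      let j : PrimeSpectrum R → ↥U := fun p => ⟨i p, subset_coborder ⟨p, rfl⟩⟩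
      refine JacobsonSpace.of_isClosedEmbedding (f := j) ⟨?_, ?_⟩
      · exact i.isEmbedding.codRestrict U _
      · have : Set.range j = Subtype.val ⁻¹' Set.range i := by
          ext ⟨y, hy⟩
          simp [j, Subtype.ext_iff]
          exact Iff.rfl
        rw [this]
        exact isClosed_preimage_val_coborder
    have hfield : IsField R := by
      let b : PrimeSpectrum R := ⟨⊥, Ideal.isPrime_bot⟩
      have hcp : (closedPoints (PrimeSpectrum R)).Finite := by
        refine (Set.finite_range fun M : MaximalSpectrum R => M.toPrimeSpectrum).subset fun p hp => ?_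
        exact ⟨⟨p.asIdeal, (PrimeSpectrum.isClosed_singleton_iff_isMaximal p).mp hp⟩, rfl⟩
      have hclosed : IsClosed (closedPoints (PrimeSpectrum R)) := by
        rw [← Set.biUnion_of_singleton (closedPoints (PrimeSpectrum R))]
        exact hcp.isClosed_biUnion fun p hp => hp
      have hb : b ∈ closedPoints (PrimeSpectrum R) := by
        rw [← hclosed.closure_eq, closure_closedPoints]; trivial
      have hmax := (PrimeSpectrum.isClosed_singleton_iff_isMaximal b).mp hb
      by_contra hnf
      obtain ⟨M, hM0, hM⟩ := Ring.not_isField_iff_exists_prime.mp hnf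
      exact hM0 (hmax.eq_of_le hM.ne_top bot_le).symm
    letI := hfield.toField
    exact zero_ne_one ((ringKrullDim_eq_zero_of_field R).symm.trans hdim)
  · intro h
    rw [jacobsonSpace_iff_locallyClosed]
    intro Z hne hZ
    obtain ⟨x, hxZ, hx⟩ := JacLib.exists_isLocallyClosed_singleton hZ hne
    refine ⟨x, hxZ, ?_⟩
    rw [mem_closedPoints_iff, ← closure_eq_iff_isClosed]
    refine Set.Subset.antisymm (fun z hz => ?_) subset_closure
    by_contra hzx
    obtain ⟨W, hW, hzW, -⟩ := exists_isAffineOpen_mem_and_subset (U := ⊤) (TopologicalSpace.Opens.mem_top z)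
    have hxW : x ∈ W := (specializes_iff_mem_closure.mpr hz).mem_open W.2 hzW
    haveI := IsLocallyNoetherian.component_noetherian (X := X) ⟨W, hW⟩
    obtain ⟨p, rfl⟩ : x ∈ Set.range hW.fromSpec := hW.range_fromSpec.ge hxW
    obtain ⟨q, rfl⟩ : z ∈ Set.range hW.fromSpec := hW.range_fromSpec.ge hzW
    have hind := hW.fromSpec.isOpenEmbedding.isInducing
    have hpq := hind.specializes_iff.mp (specializes_iff_mem_closure.mpr hz)
    have hp : IsLocallyClosed ({p} : Set (PrimeSpectrum Γ(X, W))) := by
      have := hx.preimage hW.fromSpec.continuous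
      rwa [← Set.image_singleton, Set.preimage_image_eq _ hW.fromSpec.isOpenEmbedding.injective] at this
    have hlt : p.asIdeal < q.asIdeal := lt_of_le_of_ne ((PrimeSpectrum.le_iff_specializes p q).mpr hpq)
      fun he => hzx (by rw [PrimeSpectrum.ext he]; rfl)
    obtain ⟨f, hf, hfh⟩ := JacLib.exists_mem_of_isLocallyClosed p hp
    obtain ⟨hf', hh'⟩ := JacLib.quotient_hf p.asIdeal hf hfh
    let R : CommRingCat.{u} := CommRingCat.of (Γ(X, W) ⧸ p.asIdeal)
    let φ : Γ(X, W) ⟶ R := CommRingCat.ofHom (Ideal.Quotient.mk p.asIdeal)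
    haveI : IsClosedImmersion (Spec.map φ) :=
      IsClosedImmersion.spec_of_surjective φ Ideal.Quotient.mk_surjective
    refine h R (Spec.map φ ≫ hW.fromSpec) ⟨JacLib.finite_maximalSpectrum hf' hh', ?_⟩
    refine le_antisymm ?_ ?_
    · exact (Ring.krullDimLE_iff).mp (Ring.KrullDimLE.mk₁' fun I hI0 hI =>
        haveI := hI; JacLib.isMaximal_of_ne_bot hf' hh' I hI0)
    · by_contra h1
      have h0 : ringKrullDim (Γ(X, W) ⧸ p.asIdeal) ≤ 0 := by
        have h0 : (0 : WithBot ℕ∞) ≤ ringKrullDim (Γ(X, W) ⧸ p.asIdeal) :=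
          ringKrullDim_nonneg_of_nontrivial
        change ¬ ((1 : WithBot ℕ∞) ≤ ringKrullDim (Γ(X, W) ⧸ p.asIdeal)) at h1
        revert h0 h1
        generalize ringKrullDim (Γ(X, W) ⧸ p.asIdeal) = d
        induction d using WithBot.recBotCoe with
        | bot => intro _ _; exact bot_le
        | coe n =>
          intro _ h1
          have : ¬ (1 : ℕ∞) ≤ n := fun h => h1 (by exact_mod_cast h)
          have : n = 0 := ENat.lt_one_iff_eq_zero.mp (not_le.mp this)
          rw [this]; rfl
      refine hlt.ne ?_
      haveI : Ring.KrullDimLE 0 (Γ(X, W) ⧸ p.asIdeal) := Ring.krullDimLE_iff.mpr (by exact_mod_cast h0)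
      have hpmax : p.asIdeal.IsMaximal := Ideal.Quotient.maximal_of_isField _ <|
        Ring.KrullDimLE.isField_of_isDomain
      exact hpmax.eq_of_le q.2.ne_top hlt.le

end Groth.Agent.S5913
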