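import Groth.Statements.S5915
import Groth.Agent.FlatDom.Open
import Groth.Agent.FlatModBC.Basic
import Groth.Agent.QC.Coherent
import Groth.Agent.ConsEngine.Core

set_option autoImplicit false
universe u
open CategoryTheory AlgebraicGeometry
open EGA43
set_option backward.isDefEq.respectTransparency false

namespace Groth.Agent.S5915

open CategoryTheory.Limits

/-- The base change to the localisation of a finite algebra over the local ring is universally closed. -/
theorem universallyClosed_pullback_loc {A R : CommRingCat.{u}} {O : CommRingCat.{u}} [Algebra A O]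
    (φ : O ⟶ R) (hfin : φ.hom.Finite) (p : Ideal A) [p.IsPrime] [IsLocalization.AtPrime O p] :
    UniversallyClosed (pullback.snd (Spec.map (CommRingCat.ofHom (algebraMap A O) ≫ φ))
      (Spec.map (CommRingCat.ofHom (algebraMap A (Localization.AtPrime p))))) := by
  let loc := Spec.map (CommRingCat.ofHom (algebraMap A (Localization.AtPrime p)))
  haveI : IsPreimmersion loc := IsPreimmersion.of_isLocalization p.primeCompl
  let e : CommRingCat.of (Localization.AtPrime p) ≅ O :=
    (IsLocalization.algEquiv p.primeCompl (Localization.AtPrime p) O).toRingEquiv.toCommRingCatIso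
  let q : Spec R ⟶ Spec (CommRingCat.of (Localization.AtPrime p)) := Spec.map (e.hom ≫ φ)
  haveI : IsFinite (Spec.map φ) := (IsFinite.SpecMap_iff _).2 hfin
  haveI : UniversallyClosed q := by
    show UniversallyClosed (Spec.map (e.hom ≫ φ))
    rw [Spec.map_comp]
    infer_instance
  have hπ : Spec.map (CommRingCat.ofHom (algebraMap A O) ≫ φ) = q ≫ loc := by
    rw [← Spec.map_comp, ← Category.assoc]
    congr 2
    ext a
    exact ((IsLocalization.algEquiv p.primeCompl (Localization.AtPrime p) O).commutes a).symm
  rw [hπ]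
  haveI : IsIso (pullback.fst (q ≫ loc) loc) := inferInstance
  have : pullback.snd (q ≫ loc) loc = pullback.fst (q ≫ loc) loc ≫ q := by
    rw [← cancel_mono loc, ← pullback.condition, Category.assoc]
  rw [this]
  infer_instance

/-- A point of a finite scheme over a local scheme lying over the closed point is closed. -/
theorem isClosed_of_over {Y : Scheme.{u}} {y : Y} {R : CommRingCat.{u}} (φ : Y.presheaf.stalk y ⟶ R)
    (hfin : φ.hom.Finite) (z : Spec R) (hz : (Spec.map φ ≫ Y.fromSpecStalk y) z = y) : IsClosed ({z} : Set (Spec R)) := by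
  have h1 : (Spec.map φ) z = IsLocalRing.closedPoint (Y.presheaf.stalk y) := by
    apply (Y.fromSpecStalk y).isEmbedding.injective
    rw [← Scheme.Hom.comp_apply, hz, Scheme.fromSpecStalk_closedPoint]
  letI := φ.hom.toAlgebra
  haveI : Algebra.IsIntegral (Y.presheaf.stalk y) R :=
    ⟨RingHom.Finite.to_isIntegral hfin⟩
  refine (PrimeSpectrum.isClosed_singleton_iff_isMaximal z).2 ?_
  refine Ideal.isMaximal_of_isIntegral_of_isMaximal_comap (R := Y.presheaf.stalk y) z.asIdeal ?_
  have h2 : z.asIdeal.comap (algebraMap (Y.presheaf.stalk y) R) = IsLocalRing.maximalIdeal (Y.presheaf.stalk y) :=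
    congrArg PrimeSpectrum.asIdeal h1
  rw [h2]
  exact IsLocalRing.maximalIdeal.isMaximal _

open CategoryTheory.Limits in
/-- Let Y be locally Noetherian, f : X ⟶ Y locally of finite type, F a coherent O_X-module, x a point of
X and y = f x. Let φ : O_{Y,y} ⟶ A' be an injective ring homomorphism which is finite (A' finitely
generated as an O_{Y,y}-module), Y' = Spec A' ⟶ Y the induced Y-scheme, X' = X ×_Y Y' and F' the
pullback of F to X'. Then F is f-flat at x if and only if F' is flat over Y' at every point of X'
lying over x and over a closed point of Y'. (The published statement treats more generally a Zariski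
ring A' whose radical pulls back to the maximal ideal and whose map on completions is injective;
this row is the case of a finite algebra with injective structure map, in which those conditions
hold.) -/
theorem result {X Y : Scheme.{u}} [IsLocallyNoetherian Y]
    (f : X ⟶ Y) [LocallyOfFiniteType f] (F : X.Modules) (hF : Coh.IsCoh F) (x : X)
    (A' : CommRingCat.{u}) (φ : Y.presheaf.stalk (f.base x) ⟶ A') (hfin : φ.hom.Finite)
    (hinj : Function.Injective φ.hom) :
    FlatMod.IsFlatOverAt f F x ↔
      ∀ x' : ↥(pullback f (Spec.map φ ≫ Y.fromSpecStalk (f.base x))), pullback.fst f (Spec.map φ ≫ Y.fromSpecStalk (f.base x)) x' = x →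
        IsClosed ({pullback.snd f (Spec.map φ ≫ Y.fromSpecStalk (f.base x)) x'} : Set ↥(Spec A')) →
          FlatMod.IsFlatOverAt (pullback.snd f (Spec.map φ ≫ Y.fromSpecStalk (f.base x))) ((Scheme.Modules.pullback (pullback.fst f (Spec.map φ ≫ Y.fromSpecStalk (f.base x)))).obj F) x' := by
  constructor
  · intro h x' hx' _
    exact Groth.Agent.FlatModBC.isFlatOverAt_baseChange (IsPullback.of_hasPullback f _) F x' (by rw [hx']; exact h)
  intro h
  haveI := Groth.Agent.ConsEngine.lfp_of_lft f
  haveI : IsLocallyNoetherian X := LocallyOfFiniteType.isLocallyNoetherian f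
  have hfp : CohB1.IsFP F := Groth.Agent.QC.isFP_of_isQCoh_of_isFT (hM := hF.1) hF.2
  obtain ⟨V, hV, hyV, -⟩ := exists_isAffineOpen_mem_and_subset (X := Y) (x := f.base x) (U := ⊤) trivial
  let gm : Γ(Y, V) ⟶ Y.presheaf.stalk (f.base x) := Y.presheaf.germ V (f.base x) hyV
  let π : Spec A' ⟶ Spec Γ(Y, V) := Spec.map (gm ≫ φ)
  have hgY : π ≫ hV.fromSpec = Spec.map φ ≫ Y.fromSpecStalk (f.base x) := by
    rw [← hV.fromSpecStalk_eq_fromSpecStalk hyV, IsAffineOpen.fromSpecStalk, ← Category.assoc, ← Spec.map_comp]
  let p := (hV.primeIdealOf ⟨f.base x, hyV⟩).asIdeal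
  letI : Algebra Γ(Y, V) (Y.presheaf.stalk (f.base x)) := gm.hom.toAlgebra
  haveI : IsLocalization.AtPrime (Y.presheaf.stalk (f.base x)) p := hV.isLocalization_stalk ⟨_, hyV⟩
  haveI : UniversallyClosed (pullback.snd π (Spec.map (CommRingCat.ofHom
      (algebraMap Γ(Y, V) (Localization.AtPrime p))))) := universallyClosed_pullback_loc φ hfin p
  refine Groth.Agent.FlatDom.isFlatOverAt_of_family f F hF.1 hfp x hV hyV π _ hgY ?_ ?_
  · intro a ha
    have h1 : gm a = 0 := by
      apply hinj
      refine (Scheme.ΓSpecIso A').symm.commRingCatIsoToRingEquiv.injective ?_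
      rw [map_zero, map_zero]
      exact (congr($(Scheme.ΓSpecIso_inv_naturality (gm ≫ φ)).hom a)).trans ha
    obtain ⟨s, hs⟩ := (IsLocalization.map_eq_zero_iff p.primeCompl (Y.presheaf.stalk (f.base x)) a).1 h1
    exact ⟨s.1, s.2, hs⟩
  · intro x' hx'
    exact h x' hx' (isClosed_of_over φ hfin _ (by
      have hc : (pullback.snd f (Spec.map φ ≫ Y.fromSpecStalk (f.base x)) ≫ Spec.map φ ≫ Y.fromSpecStalk (f.base x)) x' = f.base x := by
        rw [← pullback.condition, Scheme.Hom.comp_apply, hx']
      exact hc))

end Groth.Agent.S5915
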