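import Groth.Statements.S5916
import Groth.Agent.SepFam.Mod
import Groth.Agent.SepFam.Residue

set_option autoImplicit false
set_option linter.style.haveILetI false
set_option backward.isDefEq.respectTransparency false
universe u
open CategoryTheory AlgebraicGeometry
open EGA43
open Groth.Agent

namespace Groth.Agent.S5916

open CategoryTheory.Limits in
/-- Case Z_λ = X: let A be a commutative ring, p : X ⟶ Spec A an A-scheme, F a quasi-coherent
O_X-module, (G_i) quasi-coherent O_X-modules flat over Spec A and u_i : F ⟶ G_i a separating family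
of homomorphisms (a section of F over an open subset killed by every u_i is zero). Let φ : A ⟶ A' be
a ring homomorphism. If for every factorisation A ⟶ B ⟶ A' of φ with A ⟶ B of finite type and B ⟶ A'
injective (every finitely generated sub-A-algebra B of A') the family pulled back to X ×_{Spec A}
Spec B is separating, then the family pulled back to X ×_{Spec A} Spec A' is separating. (The
published statement allows homomorphisms into direct images (f_λ)_*G_λ of modules G_λ flat over the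
base; this row is the case Z_λ = X.) -/
theorem result {X : Scheme.{u}} (A A' : CommRingCat.{u}) (φ : A ⟶ A')
    (p : X ⟶ Spec A) (F : X.Modules) [Coh.IsQCoh F] {ι : Type u} (G : ι → X.Modules) [∀ i, Coh.IsQCoh (G i)]
    (hG : ∀ i, FlatMod.IsFlatOver p (G i)) (u : ∀ i, F ⟶ G i)
    (h : ∀ (V : (X).Opens) (t : ↑((F).presheaf.obj (Opposite.op V))), (∀ i, (Scheme.Modules.Hom.mapPresheaf (u i)).app (Opposite.op V) t = 0) → t = 0)
    (hfg : ∀ (B : CommRingCat.{u}) (a : A ⟶ B) (b : B ⟶ A'), a ≫ b = φ → Function.Injective b.hom → a.hom.FiniteType →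
      ∀ (V : (pullback p (Spec.map a)).Opens) (t : ↑(((Scheme.Modules.pullback (pullback.fst p (Spec.map a))).obj F).presheaf.obj (Opposite.op V))), (∀ i, (Scheme.Modules.Hom.mapPresheaf ((Scheme.Modules.pullback (pullback.fst p (Spec.map a))).map (u i))).app (Opposite.op V) t = 0) → t = 0) :
    ∀ (V : (pullback p (Spec.map φ)).Opens) (t : ↑(((Scheme.Modules.pullback (pullback.fst p (Spec.map φ))).obj F).presheaf.obj (Opposite.op V))), (∀ i, (Scheme.Modules.Hom.mapPresheaf ((Scheme.Modules.pullback (pullback.fst p (Spec.map φ))).map (u i))).app (Opposite.op V) t = 0) → t = 0 := by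
  have hF : Coh.IsQCoh F := inferInstance
  have hG' : ∀ i, Coh.IsQCoh (G i) := fun i => inferInstance
  refine SepFam.sepMod_pullback u (IsPullback.of_hasPullback p (Spec.map φ)) hF hG' fun x => ?_
  obtain ⟨U, hU, hxU, -⟩ := exists_isAffineOpen_mem_and_subset (X := X) (x := pullback.fst p (Spec.map φ) x) (U := ⊤) trivial
  refine ⟨⊤, isAffineOpen_top _, U, hU, le_top, ⊤, isAffineOpen_top _, le_top, ⟨hxU, trivial⟩, ?_⟩
  let K : CommRingCat.{u} := Γ(Spec A, ⊤)
  letI : Algebra Γ(Spec A, ⊤) Γ(X, U) := (p.appLE ⊤ U le_top).hom.toAlgebra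
  letI : Algebra Γ(Spec A, ⊤) Γ(Spec A', ⊤) := ((Spec.map φ).appLE ⊤ ⊤ le_top).hom.toAlgebra
  letI : ∀ i, Module Γ(Spec A, ⊤) Γ(G i, U) := fun i => FlatModB.secModule p (G i) U ⊤ le_top
  haveI : ∀ i, IsScalarTower Γ(Spec A, ⊤) Γ(X, U) Γ(G i, U) := fun i => IsScalarTower.of_algebraMap_smul fun _ _ => rfl
  haveI : ∀ i, Module.Flat Γ(Spec A, ⊤) Γ(G i, U) := fun i =>
    (FlatModB.flat_sections_iff p (G i) (hG' i) hU (isAffineOpen_top _) le_top).2 fun x _ => hG i x
  refine SepFam.sepBC_tensor_of_fg (A := Γ(Spec A, ⊤)) _ Γ(Spec A', ⊤) fun S hS => ?_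
  let R : CommRingCat.{u} := CommRingCat.of S
  let a : A ⟶ R := (Scheme.ΓSpecIso A).inv ≫ CommRingCat.ofHom (algebraMap Γ(Spec A, ⊤) S)
  let b : R ⟶ A' := CommRingCat.ofHom S.val.toRingHom ≫ (Scheme.ΓSpecIso A').hom
  have happ : (Spec.map φ).appLE ⊤ ⊤ le_top = (Spec.map φ).appTop := by
    change (Spec.map φ).appLE ⊤ ((Spec.map φ) ⁻¹ᵁ ⊤) le_rfl = _
    rw [Scheme.Hom.appLE_eq_app]
  have hab : a ≫ b = φ := by
    rw [← cancel_epi (Scheme.ΓSpecIso A).hom, ← Scheme.ΓSpecIso_naturality φ, ← happ]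
    simp only [a, b, Category.assoc, Iso.hom_inv_id_assoc]
    rfl
  have hb : Function.Injective b.hom :=
    (Scheme.ΓSpecIso A').commRingCatIsoToRingEquiv.injective.comp Subtype.val_injective
  have ha : a.hom.FiniteType := by
    haveI : Algebra.FiniteType Γ(Spec A, ⊤) S := ⟨(Subalgebra.fg_top S).2 hS⟩
    exact (RingHom.finiteType_algebraMap.2 inferInstance).comp
      (RingHom.FiniteType.of_surjective _ (Scheme.ΓSpecIso A).symm.commRingCatIsoToRingEquiv.surjective)
  have h1 := hfg R a b hab hb ha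
  obtain ⟨hW, hiff⟩ := SepFam.piece_iff u (IsPullback.of_hasPullback p (Spec.map a)) hF hG'
    (isAffineOpen_top (Spec A)) hU le_top (isAffineOpen_top (Spec R)) le_top
  letI : Algebra Γ(Spec A, ⊤) Γ(Spec R, ⊤) := ((Spec.map a).appLE ⊤ ⊤ le_top).hom.toAlgebra
  have h2 := hiff.1 (SepFam.sep_of_sepMod _ (Groth.Agent.QC.isQCoh_pullback _ hF) (fun i => Groth.Agent.QC.isQCoh_pullback _ (hG' i)) h1 hW)
  let e : Γ(Spec R, ⊤) ≃ₐ[Γ(Spec A, ⊤)] S :=
    { (Scheme.ΓSpecIso R).commRingCatIsoToRingEquiv with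
      commutes' := fun r => by
        have h3 : (Spec.map a).appLE ⊤ ⊤ le_top ≫ (Scheme.ΓSpecIso R).hom = CommRingCat.ofHom (algebraMap Γ(Spec A, ⊤) S) := by
          change (Spec.map a).appLE ⊤ ((Spec.map a) ⁻¹ᵁ ⊤) le_rfl ≫ _ = _
          rw [Scheme.Hom.appLE_eq_app]
          exact (Scheme.ΓSpecIso_naturality a).trans (Iso.hom_inv_id_assoc _ _)
        exact congr($(h3).hom r) }
  exact SepFam.sepBC_of_algEquiv _ (Algebra.TensorProduct.congr (AlgEquiv.refl : Γ(X, U) ≃ₐ[Γ(X, U)] Γ(X, U)) e) h2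

end Groth.Agent.S5916
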