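import Groth.Statements.S5918
import Groth.Agent.FlatFam.Scheme
import Groth.Agent.FlatFam.Transfer

set_option autoImplicit false
universe u
open CategoryTheory AlgebraicGeometry
open EGA43

namespace Groth.Agent.S5918

open CategoryTheory.Limits in
/-- Let A be an Artinian local ring, f : X ⟶ Spec A locally of finite type, F a coherent O_X-module and
x a point of X. Let (g_i : Y_i ⟶ Spec A) be a family of A-schemes such that an element of A whose
image in every Γ(Y_i, O_{Y_i}) is zero is itself zero. If, for every i, the pullback of F to X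
×_{Spec A} Y_i is flat over Y_i at every point lying over x, then F is f-flat at x. -/
theorem result {A : Type u} [CommRing A]
    [IsArtinianRing A] [IsLocalRing A] {X : Scheme.{u}} (f : X ⟶ Spec (CommRingCat.of A))
    [LocallyOfFiniteType f] (F : X.Modules) (hF : Coh.IsCoh F) (x : X)
    {ι : Type u} (Y : ι → Scheme.{u}) (g : ∀ i, Y i ⟶ Spec (CommRingCat.of A))
    (hg : ∀ a : A, (∀ i, (g i).appTop ((Scheme.ΓSpecIso (CommRingCat.of A)).inv a) = 0) → a = 0)
    (hflat : ∀ (i : ι) (x' : ↥(pullback f (g i))), pullback.fst f (g i) x' = x →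
      FlatMod.IsFlatOverAt (pullback.snd f (g i)) ((Scheme.Modules.pullback (pullback.fst f (g i))).obj F) x') :
    FlatMod.IsFlatOverAt f F x := by
  classical
  let a₀ : (CommRingCat.of A) ⟶ Γ(Spec (CommRingCat.of A), ⊤) := (Scheme.ΓSpecIso (CommRingCat.of A)).inv
  let u : ∀ p : Σ i, ↥(Y i), A →+* (Y p.1).presheaf.stalk p.2 := fun p =>
    (a₀ ≫ (g p.1).appTop ≫ (Y p.1).presheaf.germ ⊤ p.2 trivial).hom
  have hw : ∀ p : Σ i, ↥(Y i), (Y p.1).fromSpecStalk p.2 ≫ g p.1 = Spec.map (CommRingCat.ofHom (u p)) := by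
    intro p
    refine ext_of_isAffine ?_
    rw [Scheme.Hom.comp_appTop, Scheme.fromSpecStalk_appTop,
      show CommRingCat.ofHom (u p) = a₀ ≫ (g p.1).appTop ≫ (Y p.1).presheaf.germ ⊤ p.2 trivial from rfl]
    rw [← cancel_epi a₀]
    conv_rhs => rw [show a₀ = (Scheme.ΓSpecIso (CommRingCat.of A)).inv from rfl, ← Scheme.ΓSpecIso_inv_naturality]
    simp
    rfl
  refine FlatFam.flat_of_families f F hF x (fun p : Σ i, ↥(Y i) => (Y p.1).presheaf.stalk p.2) u
    (fun a ha => hg a fun i => ?_) (Or.inl ?_)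
  · refine TopCat.Presheaf.section_ext (Y i).sheaf ⊤ _ _ fun y hy => ?_
    exact (ha ⟨i, y⟩).trans (map_zero _).symm
  · rintro ⟨i, y⟩ z hz -
    refine FlatFam.isFlatOverAt_factor f (g i) ((Y i).fromSpecStalk y) _ (hw ⟨i, y⟩) F z (hflat i _ ?_)
    rw [← Scheme.Hom.comp_apply, FlatFam.baseMap_fst]
    exact hz

end Groth.Agent.S5918
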