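import Groth.Statements.S5923
import Groth.Agent.FibDepth.GlobalGoodOpen

set_option autoImplicit false
open CategoryTheory AlgebraicGeometry
universe u
set_option backward.isDefEq.respectTransparency false
open EGA43

namespace Groth.Agent.S5923

/-- Let f : X ⟶ Y be a morphism locally of finite presentation. The set of points x of X such that f is
flat at x and the fibre of f through x is geometrically normal at x over the residue field of f x —
for every finite field extension K of that residue field and every point x' over x of the base
change of the fibre to K, the local ring at x' is an integrally closed domain — is open in X. In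
particular, when f is moreover flat, the set of x at which the fibre through x is geometrically
normal is open. -/
theorem result {X Y : Scheme.{u}} (f : X ⟶ Y) [LocallyOfFinitePresentation f] :
    IsOpen {x : X | (f.stalkMap x).hom.Flat ∧
      ∀ (K : Type u) [Field K] [Algebra (IsLocalRing.ResidueField (Y.presheaf.stalk (f.base x))) K],
        Module.Finite (IsLocalRing.ResidueField (Y.presheaf.stalk (f.base x))) K →
        ∀ x' : ↥(FBase.bc (f.fiberToSpecResidueField (f.base x)) K),
          (FBase.bcπ (f.fiberToSpecResidueField (f.base x)) K).base x' = f.asFiber x →
          IsDomain ((FBase.bc (f.fiberToSpecResidueField (f.base x)) K).presheaf.stalk x') ∧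
            IsIntegrallyClosed ((FBase.bc (f.fiberToSpecResidueField (f.base x)) K).presheaf.stalk x')} := by
  obtain ⟨O, hO, h⟩ := FibDepth.exists_open_flat_good_equiSk f 1 2 (by norm_num)
  convert hO using 1
  ext x
  haveI := FibDepth.lfp_fiberToSpec f (f x)
  have h1 := h (f x) (f.asFiber x)
  rw [← FibDepth.geomNormal_iff_equidim f (f x) (f.asFiber x),
    ← FibDepth.geomNormal_iff_finite (f.fiberToSpecResidueField (f x)) (f.asFiber x), f.fiberι_asFiber] at h1
  exact h1.symm

end Groth.Agent.S5923
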