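import Groth.Statements.S5924
import Groth.Agent.EquidimPt.Char

set_option autoImplicit false
open CategoryTheory AlgebraicGeometry
universe u
open EGA43

namespace Groth.Agent.S5924
open Groth.Agent.Unibranch Groth.Agent.EquidimPt TopologicalSpace

/-- Let Y be an irreducible locally Noetherian scheme, f : X ⟶ Y a morphism locally of finite type which
is equidimensional at the point x, and suppose that x is not a maximal point of its fibre f⁻¹(f x),
i.e. some point of the fibre other than x specializes to x. Then there exist an affine open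
neighbourhood U of x and a section g of O_X over U such that g vanishes at x (x is not in the basic
open set of g) while every maximal point of f⁻¹(f x) lying in U is in the basic open set of g. -/
theorem result {X Y : Scheme.{u}} [IrreducibleSpace Y]
    [IsLocallyNoetherian Y] (f : X ⟶ Y) [LocallyOfFiniteType f] (x : X) (hf : EGA43.IsEquidimAt f x)
    (hx : ∃ x' : X, f.base x' = f.base x ∧ x' ≠ x ∧ x ∈ closure ({x'} : Set X)) :
    ∃ U : X.Opens, IsAffineOpen U ∧ x ∈ U ∧ ∃ g : Γ(X, U), x ∉ X.basicOpen g ∧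
      ∀ z : X, f.base z = f.base x → (∀ z' : X, f.base z' = f.base x → z ∈ closure ({z'} : Set X) → z' = z) →
        z ∈ U → z ∈ X.basicOpen g := by
  obtain ⟨V, W, hV, hW, hxW, hWV, -⟩ := exists_chart_le f (U := ⊤) (x := x) trivial
  obtain ⟨M, hM, hMp, hMc⟩ := exists_finite_maximal f hV hW hWV (f x)
  refine ⟨W, hW, hxW, ?_⟩
  obtain ⟨g, hg, hgM⟩ : ∃ g, g ∈ (hW.primeIdealOf ⟨x, hxW⟩).asIdeal ∧
      ∀ m (hm : m ∈ M), g ∉ (hW.primeIdealOf ⟨m, (hMp m hm).1⟩).asIdeal := by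
    by_contra! hcon
    let pr : M → Ideal Γ(X, W) := fun m => (hW.primeIdealOf ⟨m, (hMp _ m.2).1⟩).asIdeal
    haveI := hM.fintype
    have hsub : ((hW.primeIdealOf ⟨x, hxW⟩).asIdeal : Set Γ(X, W)) ⊆
        ⋃ m ∈ ((Finset.univ : Finset M) : Set M), (pr m : Set Γ(X, W)) := fun g hg => by
      obtain ⟨m, hm, hgm⟩ := hcon g hg
      exact Set.mem_biUnion (show (⟨m, hm⟩ : M) ∈ ((Finset.univ : Finset M) : Set M) by simp) hgm
    obtain ⟨m0, hm0, -⟩ := hcon 0 (zero_mem _)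
    obtain ⟨⟨m, hm⟩, -, hle⟩ := (Ideal.subset_union_prime (⟨m0, hm0⟩ : M) (⟨m0, hm0⟩ : M)
      fun m _ _ _ => (hW.primeIdealOf ⟨m, (hMp _ m.2).1⟩).2).mp hsub
    obtain ⟨x', hfx', hne, hx'⟩ := hx
    have hsp : x ⤳ m := (primeIdealOf_le_iff hW hxW (hMp m hm).1).mp hle
    obtain rfl := (hMp m hm).2.2 x rfl hsp
    exact hne ((hMp _ hm).2.2 x' hfx' (specializes_iff_mem_closure.mpr hx'))
  have hbo : ∀ z (hz : z ∈ W), z ∈ X.basicOpen g ↔ g ∉ (hW.primeIdealOf ⟨z, hz⟩).asIdeal := fun z hz => by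
    have h1 : hW.primeIdealOf ⟨z, hz⟩ ∈ hW.fromSpec ⁻¹ᵁ X.basicOpen g ↔
        g ∉ (hW.primeIdealOf ⟨z, hz⟩).asIdeal := by
      rw [hW.fromSpec_preimage_basicOpen]; exact Iff.rfl
    refine Iff.trans ?_ h1
    show _ ↔ hW.fromSpec (hW.primeIdealOf ⟨z, hz⟩) ∈ X.basicOpen g
    rw [hW.fromSpec_primeIdealOf]
  refine ⟨g, fun h => ?_, fun z hz hzmax hzW => ?_⟩
  · exact (hbo x hxW).mp h hg
  · obtain ⟨m, hm, hmz⟩ := hMc z hzW hz
    obtain rfl := hzmax m (hMp m hm).2.1 hmz.mem_closure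
    exact (hbo _ hzW).mpr (hgM _ hm)

end Groth.Agent.S5924
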