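import Groth.Statements.S5928
import Groth.Agent.UOFlat.SectionModel
import Groth.Agent.UOFlat.ReducedBaseLfp
import Groth.Agent.GeomFib.OpenCriterion
import Groth.Agent.Unibranch.FibreDims

set_option autoImplicit false
open CategoryTheory AlgebraicGeometry
universe u
open EGA43

namespace Groth.Agent.S5928

/-- Let f : X ⟶ Y be a morphism with a section g : Y ⟶ X, and suppose that either Y is locally
Noetherian and f is locally of finite type, or f is of finite presentation. Let X_y^0 be the
connected component of f⁻¹(y) containing g y and X^0 ⊆ X the union of the X_y^0, and suppose every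
X_y^0 is geometrically irreducible over κ(y). Then the set W of points x of X^0 such that y ↦ dim
X_y^0 is constant on a neighbourhood of f x and the fibre f⁻¹(f x) is geometrically reduced at x
over κ(f x) is open in X. (The published statement asks that the whole component X_{f x}^0 be
geometrically reduced rather than geometrically reduced at x; with that reading the set need not be
open: over the affine line Spec k[t] take X = Spec k[t, s, e]/(e², e(ts − 1)) with the section s = e
= 0, whose fibres are lines carrying an embedded point at s = 1/t for t ≠ 0 and a reduced line at t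
= 0, so that the set would be the closed fibre over t = 0; the published proof, through the openness
of the locus where the fibre is geometrically reduced at the point, gives the pointwise form stated
here.) -/
theorem result {X Y : Scheme.{u}} (f : X ⟶ Y) (g : Y ⟶ X)
    (hg : g ≫ f = 𝟙 Y)
    (hfin : (IsLocallyNoetherian Y ∧ LocallyOfFiniteType f) ∨
      (LocallyOfFinitePresentation f ∧ QuasiCompact f ∧ QuasiSeparated f))
    (hirr : ∀ y : Y, (∀ (K : Type u) [Field K] [Algebra (IsLocalRing.ResidueField (Y.presheaf.stalk y)) K],
        IsIrreducible ((FBase.bcπ (f.fiberToSpecResidueField y) K ≫ f.fiberι y).base ⁻¹' connectedComponentIn (f.base ⁻¹' {y}) (g.base y)))) :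
    IsOpen {x : X | x ∈ MoreMor.sectionComponents f g ∧ (∃ V ∈ nhds (f.base x), ∀ z ∈ V, topologicalKrullDim ↥(connectedComponentIn (f.base ⁻¹' {z}) (g.base z)) = topologicalKrullDim ↥(connectedComponentIn (f.base ⁻¹' {(f.base x)}) (g.base (f.base x)))) ∧
      FBase.IsGeomReducedAt (f.fiberToSpecResidueField (f.base x)) (f.asFiber x)} := by
  haveI : LocallyOfFiniteType f := by
    rcases hfin with ⟨_, h⟩ | ⟨_, _, _⟩
    · exact h
    · infer_instance
  haveI hlfp : LocallyOfFinitePresentation f := by
    rcases hfin with ⟨_, _⟩ | ⟨h, _, _⟩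
    · exact ConsEngine.lfp_of_lft f
    · exact h
  refine isOpen_iff_mem_nhds.mpr ?_
  rintro x ⟨hx, ⟨V, hV, hVdim⟩, hred⟩
  have hgen : ∀ η, η ⤳ x → η ∈ MoreMor.sectionComponents f g := fun η hη => by
    have hηV : f.base η ∈ V := interior_subset ((hη.map f.continuous).mem_open isOpen_interior
      (mem_interior_iff_mem_nhds.mpr hV))
    rcases hfin with ⟨_, _⟩ | ⟨_, _, _⟩
    · exact UOFlat.mem_sectionComponents_of_generization_dim f g hg (hirr _) rfl hx hred hη (hirr _)
        (hVdim _ hηV).symm
    · exact UOFlat.mem_sectionComponents_of_generization_fp f g hg hη hx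
        ((GeomRedAt.isGeomReducedAt_iff _ _).mp hred) (hirr _) (hirr _) (hVdim _ hηV).symm
  have hX0 : MoreMor.sectionComponents f g ∈ nhds x := by
    rcases hfin with ⟨_, _⟩ | ⟨_, _, _⟩
    · have := LocallyOfFiniteType.isLocallyNoetherian f
      refine GeomFib.mem_nhds_of_forall_generization fun η hη => ?_
      obtain ⟨O, hηO, hO⟩ := GeomFib.exists_open_mem_sectionComponents f g hg (hgen η hη)
      exact ⟨O, hηO, fun z hz hηz => hO z hz (hηz.map f.continuous)⟩
    · exact Unibranch.mem_nhds_of_isLocallyConstructible
        (GeomFib.isLocallyConstructible_sectionComponents f g hg) hgen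
  obtain ⟨U, hxU, hU⟩ := UOFlat.exists_nhd_gr_lfp f x
    (fun z hz hzy _ => UOFlat.isUnivOpenAt_of_component_dim f g hg hirr
      (fun t ht => hVdim t (interior_subset (ht.mem_open isOpen_interior (mem_interior_iff_mem_nhds.mpr hV))))
      (UOFlat.mem_connectedComponentIn_of_specializes f hx hz hzy))
    ((GeomRedAt.isGeomReducedAt_iff _ _).mp hred)
  refine Filter.mem_of_superset (Filter.inter_mem hX0 (Filter.inter_mem
    ((isOpen_interior.preimage f.continuous).mem_nhds (show x ∈ f.base ⁻¹' interior V from mem_interior_iff_mem_nhds.mpr hV))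
    (U.2.mem_nhds hxU))) ?_
  rintro z ⟨hz0, hzV, hzU⟩
  refine ⟨hz0, ⟨interior V, isOpen_interior.mem_nhds hzV, fun w hw => ?_⟩,
    (GeomRedAt.isGeomReducedAt_iff _ _).mpr (hU z hzU)⟩
  exact (hVdim w (interior_subset hw)).trans (hVdim _ (interior_subset hzV)).symm

end Groth.Agent.S5928
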