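import Groth.Statements.S5934
import Groth.Agent.ConsEngine.Smooth

set_option autoImplicit false
open CategoryTheory AlgebraicGeometry
universe u
open EGA43

namespace Groth.Agent.S5934

/-- Let f : X ⟶ Y be a proper, flat morphism of finite presentation. The set of points y of Y whose
fibre X_y is geometrically regular, i.e. smooth over the residue field κ(y), is open in Y. -/
theorem result {X Y : Scheme.{u}} (f : X ⟶ Y) [IsProper f] [Flat f]
    [LocallyOfFinitePresentation f] :
    IsOpen {y : Y | Smooth (f.fiberToSpecResidueField y)} := by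
  have e : {y : Y | Smooth (f.fiberToSpecResidueField y)} = (f '' (f.smoothLocus : Set X)ᶜ)ᶜ := Set.ext fun y => by
    show Smooth (f.fiberToSpecResidueField y) ↔ _
    rw [ConsEngine.fiber_smooth_iff]
    exact ⟨fun h ⟨x, hx, hxy⟩ => hx (h x hxy), fun h x hxy => by_contra fun hn => h ⟨x, hn, hxy⟩⟩
  rw [e]
  exact (f.isClosedMap _ f.smoothLocus.2.isClosed_compl).isOpen_compl

end Groth.Agent.S5934
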