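import Groth.Statements.S5939
import Mathlib

set_option autoImplicit false
universe u
open CategoryTheory AlgebraicGeometry
open Unram17

namespace Groth.Agent.S5939

/-- Let f : X ⟶ Y be faithfully flat, locally of finite presentation and quasi-compact, and let g : Y ⟶
Z be a morphism such that f ≫ g is of finite presentation (locally of finite presentation,
quasi-compact and quasi-separated). Then g is quasi-compact and quasi-separated; together with the
descent of local finite presentation along f this says that g is of finite presentation. This is the
case f quasi-compact. -/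
theorem result {X Y Z : Scheme.{u}} (f : X ⟶ Y) (g : Y ⟶ Z)
    [Surjective f] [Flat f] [LocallyOfFinitePresentation f] [QuasiCompact f]
    [LocallyOfFinitePresentation (f ≫ g)] [QuasiCompact (f ≫ g)] [QuasiSeparated (f ≫ g)] :
    QuasiCompact g ∧ QuasiSeparated g := by
  have key : ∀ {A B C : Scheme.{u}} (a : A ⟶ B) (b : B ⟶ C), Surjective a → QuasiCompact (a ≫ b) →
      QuasiCompact b := fun a b _ _ ↦ ⟨fun K hKo hK ↦ by
    rw [show b ⁻¹' K = a '' ((a ≫ b) ⁻¹' K) from (Set.image_preimage_eq (b ⁻¹' K) a.surjective).symm]
    exact (QuasiCompact.isCompact_preimage (f := a ≫ b) K hKo hK).image a.continuous⟩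
  refine ⟨key f g ‹_› ‹_›, ⟨?_⟩⟩
  let m := Limits.pullback.map (f ≫ g) (f ≫ g) g g f f (𝟙 Z) (Category.comp_id _) (Category.comp_id _)
  have hm : QuasiCompact m :=
    MorphismProperty.pullbackMap (P := (@QuasiCompact : MorphismProperty Scheme.{u}))
      ‹QuasiCompact f› ‹QuasiCompact f› rfl rfl
  have h : QuasiCompact (f ≫ Limits.pullback.diagonal g) := by
    rw [show f ≫ Limits.pullback.diagonal g = Limits.pullback.diagonal (f ≫ g) ≫ m from
      Limits.pullback.hom_ext
        (by simp only [m, Category.assoc, Limits.pullback.lift_fst, Limits.pullback.diagonal_fst,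
          Limits.pullback.diagonal_fst_assoc, Category.comp_id]
            )
        (by simp only [m, Category.assoc, Limits.pullback.lift_snd, Limits.pullback.diagonal_snd,
          Limits.pullback.diagonal_snd_assoc, Category.comp_id]
            )]
    infer_instance
  exact key f _ ‹_› h

end Groth.Agent.S5939
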