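import Groth.Statements.S5947
import Groth.Agent.OmegaLib.DerAffine

set_option autoImplicit false
universe u
open CategoryTheory CategoryTheory.Limits AlgebraicGeometry TopologicalSpace Opposite
open Nrm16

set_option backward.isDefEq.respectTransparency false
set_option backward.isDefEq.respectTransparency.types false

namespace Groth.Agent.S5947

open Groth.Agent.OmegaLib in
/-- Let A be a commutative ring, B an A-algebra and L a B-module; put S = Spec A, X = Spec B and let F
be the O_X-module associated with L. For an S-derivation D of O_X into F write Γ(D) : B → L for its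
effect on global sections (global sections of O_X and of F being identified with B and L by the
canonical isomorphisms). Then D ↦ Γ(D) is a bijection from the set of S-derivations of O_X into F
onto the set of A-derivations of B into L: every Γ(D) is an A-derivation, and every A-derivation of
B into L is Γ(D) for exactly one D. (The published statement asserts an isomorphism of B-modules; no
module structure is placed on sheaf derivations here, so this row states the bijection.) -/
theorem result (A B : Type u) [CommRing A] [CommRing B] [Algebra A B]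
    (L : Type u) [AddCommGroup L] [Module B L] [Module A L] [IsScalarTower A B L] :
    (∀ D : OmegaSh.Der (Spec.map (CommRingCat.ofHom (algebraMap A B))) (tilde (ModuleCat.of (CommRingCat.of B) L)),
      ∃ δ : Derivation A B L, ∀ t : B, D.app ⊤ ((Scheme.ΓSpecIso (CommRingCat.of B)).inv t) =
        (tilde.isoTop (ModuleCat.of (CommRingCat.of B) L)).hom (δ t)) ∧
    ∀ δ : Derivation A B L,
      ∃! D : OmegaSh.Der (Spec.map (CommRingCat.ofHom (algebraMap A B))) (tilde (ModuleCat.of (CommRingCat.of B) L)),
        ∀ t : B, D.app ⊤ ((Scheme.ΓSpecIso (CommRingCat.of B)).inv t) =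
          (tilde.isoTop (ModuleCat.of (CommRingCat.of B) L)).hom (δ t) := by
  let g := Spec.map (CommRingCat.ofHom (algebraMap A B))
  let F := tilde (ModuleCat.of (CommRingCat.of B) L)
  let iB := (Scheme.ΓSpecIso (CommRingCat.of B)).inv.hom
  let jB := (Scheme.ΓSpecIso (CommRingCat.of B)).hom.hom
  let e : L ≃+ Γ(F, (⊤ : (Spec (CommRingCat.of B)).Opens)) :=
    (tilde.isoTop (ModuleCat.of (CommRingCat.of B) L)).toLinearEquiv.toAddEquiv
  have he : ∀ (r : B) (x : L), e (r • x) = iB r • e x := by
    intro r x
    have h := map_smul (tilde.isoTop (ModuleCat.of (CommRingCat.of B) L)).toLinearEquiv r x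
    refine h.trans ((Scheme.Modules.smul_Spec_def (R := CommRingCat.of B) (M := F) (U := ⊤) r (e x)).trans ?_)
    congr 1
  have hes : ∀ (r : B) (y : Γ(F, ⊤)), e.symm (iB r • y) = r • e.symm y := fun r y => by
    apply e.injective
    rw [e.apply_symm_apply, he, e.apply_symm_apply]
  have hA : ∀ a : A, iB (algebraMap A B a) = g.appTop ((Scheme.ΓSpecIso (CommRingCat.of A)).inv a) :=
    fun a => congr($(Scheme.ΓSpecIso_inv_naturality (CommRingCat.ofHom (algebraMap A B))) a)
  have hji : ∀ s, iB (jB s) = s := fun s => Iso.hom_inv_id_apply (Scheme.ΓSpecIso (CommRingCat.of B)) s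
  have hij : ∀ b, jB (iB b) = b := fun b => Iso.inv_hom_id_apply (Scheme.ΓSpecIso (CommRingCat.of B)) b
  constructor
  · intro D
    have hmul : ∀ a b : B, e.symm (D.app ⊤ (iB (a * b))) =
        a • e.symm (D.app ⊤ (iB b)) + b • e.symm (D.app ⊤ (iB a)) := fun a b => by
      rw [map_mul, app_mul, map_add, hes, hes]
    have hc : ∀ a : A, e.symm (D.app ⊤ (iB (algebraMap A B a))) = 0 := fun a => by
      rw [hA]
      exact (congrArg e.symm (app_comp D ⊤ ((Scheme.ΓSpecIso (CommRingCat.of A)).inv a))).trans (map_zero _)
    refine ⟨Derivation.mk'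
      { toFun := fun b => e.symm (D.app ⊤ (iB b))
        map_add' := fun a b => by rw [map_add, map_add, map_add]
        map_smul' := fun r b => by
          rw [Algebra.smul_def, hmul, hc, smul_zero, add_zero, algebraMap_smul]
          rfl } hmul, fun t => (e.apply_symm_apply _).symm⟩
  · intro δ
    obtain ⟨α, hα⟩ := exists_der_of_top g F
      (AddMonoidHom.mk' (fun s => e (δ (jB s))) fun a b => by rw [map_add, map_add, map_add])
      (fun a b => by
        change e (δ (jB (a * b))) = a • e (δ (jB b)) + b • e (δ (jB a))
        rw [map_mul, Derivation.leibniz, map_add, he, he, hji, hji])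
      (fun c => by
        obtain ⟨a, rfl⟩ : ∃ a, (Scheme.ΓSpecIso (CommRingCat.of A)).inv a = c :=
          ⟨(Scheme.ΓSpecIso (CommRingCat.of A)).hom c, Iso.hom_inv_id_apply _ c⟩
        change e (δ (jB (g.appTop _))) = 0
        rw [← hA, hij, Derivation.map_algebraMap, map_zero])
    refine ⟨(OmegaSh.dOmega g).postcomp α.val, fun t => ?_, fun D hD => ?_⟩
    · refine (postcomp_app _ _ _ _).trans ((hα (iB t)).trans ?_)
      change e (δ (jB (iB t))) = _
      rw [hij]
      rfl
    · refine der_ext fun U a => app_eq_of_affine D _ (isAffineOpen_top _) (fun s => ?_) U le_top a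
      refine Eq.trans ?_ ((postcomp_app _ _ _ _).trans (hα s)).symm
      change D.app ⊤ s = e (δ (jB s))
      conv_lhs => rw [← hji s]
      exact hD (jB s)

end Groth.Agent.S5947
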