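import Groth.Statements.S5950
import Groth.Agent.NormChar.Basic

set_option autoImplicit false
universe u
open CategoryTheory AlgebraicGeometry
open Unram17

set_option backward.isDefEq.respectTransparency false

namespace Groth.Agent.S5950

/-- Let X be an integral scheme which has a nonempty (hence dense) open subset at whose points the local
rings are integrally closed, let X' ⟶ X be its normalization, and let f : Y ⟶ X be a morphism of
schemes. Then there is an isomorphism Y ≅ X' over X if and only if: every local ring of Y is an
integrally closed domain, f is an integral morphism, and there is a dense open subset U of X whose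
preimage is dense in Y and such that the restriction f⁻¹(U) ⟶ U of f is an isomorphism. (The
published statement allows X reduced with locally finitely many irreducible components and a dense
normal open subset; this row states the case of an integral X. The quasi-compactness and
quasi-separatedness binders on the generic point always hold and only serve to form the
normalization.) -/
theorem result (X : Scheme.{u}) [IsIntegral X]
    [QuasiCompact (X.fromSpecStalk (genericPoint X))] [QuasiSeparated (X.fromSpecStalk (genericPoint X))]
    (hV : ∃ V : X.Opens, (V : Set ↥X).Nonempty ∧ ∀ x ∈ V, IsIntegrallyClosed (X.presheaf.stalk x))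
    {Y : Scheme.{u}} (f : Y ⟶ X) :
    (∃ e : Y ≅ Curv2.normalization X, e.hom ≫ Curv2.normalizationι X = f) ↔
      Pi1.IsNormalScheme Y ∧ IsIntegralHom f ∧
        ∃ U : X.Opens, Dense (U : Set ↥X) ∧ Dense ((f ⁻¹ᵁ U : Y.Opens) : Set ↥Y) ∧ IsIso (f ∣_ U) := by
  obtain ⟨V, hVne, hVn⟩ := hV
  refine ⟨fun ⟨e, he⟩ => ?_, fun ⟨hY, hi, U, hU, hfU, hiso⟩ => ?_⟩
  · obtain ⟨hY, hi, hirr, hfib, -⟩ := NormChar.of_iso X f e he
    refine ⟨hY, hi, V, V.isOpen.dense hVne, ?_, ?_⟩
    · refine (f ⁻¹ᵁ V).isOpen.dense ⟨genericPoint Y, ?_⟩
      show f (genericPoint Y) ∈ V
      obtain ⟨x₀, hx₀⟩ := hVne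
      rw [show f (genericPoint Y) = genericPoint X from hfib.ge rfl]
      exact (genericPoint_specializes x₀).mem_open V.isOpen hx₀
    · subst he
      haveI := NormChar.exists_open_iso X V hVne hVn
      rw [morphismRestrict_comp]
      infer_instance
  · obtain ⟨hirr, hfib, hs⟩ := NormChar.birational_of_open X f U hU hfU
    exact NormChar.exists_iso X f hY hfib

end Groth.Agent.S5950
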