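import Groth.Statements.S5955
import Groth.Agent.DiffOp.Universal

set_option autoImplicit false
universe u
open CategoryTheory CategoryTheory.Limits AlgebraicGeometry TopologicalSpace Opposite
open Nrm16

namespace Groth.Agent.S5955

/-- Let f : X ⟶ S be a morphism of schemes, F, G, H three O_X-modules, D : F ⟶ G a differential operator
of order at most n relative to S and D' : G ⟶ H one of order at most n'. Then D followed by D' is a
differential operator of order at most n + n'. -/
theorem result {X S : Scheme.{u}} (f : X ⟶ S) (F G H : X.Modules) (n n' : ℕ)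
    (D : F.presheaf ⟶ G.presheaf) (D' : G.presheaf ⟶ H.presheaf)
    (hD : PrinPart.IsDiffOpLE f F G n D) (hD' : PrinPart.IsDiffOpLE f G H n' D') :
    PrinPart.IsDiffOpLE f F H (n + n') (D ≫ D') := by
  have h1 := Groth.Agent.DiffOp.of_isDiffOpLE f n hD
  have h2 := Groth.Agent.DiffOp.of_isDiffOpLE f n' hD'
  refine Groth.Agent.DiffOp.isDiffOpLE_of_ord f (n + n') (fun V s U hU t => ?_) fun U => ?_
  · exact (congrArg (D'.app (op U)) (h1.1 V s U hU t)).trans (h2.1 V s U hU _)
  · show Groth.Agent.DiffOp.Ord _ ((Groth.Agent.DiffOp.dh D' U).comp (Groth.Agent.DiffOp.dh D U))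
    exact Groth.Agent.DiffOp.Ord.comp (by omega) (h1.2 U) (h2.2 U)

end Groth.Agent.S5955
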