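import Groth.Statements.S5956
import Groth.Agent.QC.PullSect

set_option autoImplicit false
set_option linter.style.haveILetI false
set_option backward.isDefEq.respectTransparency false
open Groth.Agent
universe u
open CategoryTheory CategoryTheory.Limits AlgebraicGeometry TopologicalSpace Opposite
open Nrm16

namespace Groth.Agent.S5956

theorem exists_trans {A B X : Scheme.{u}} (j : A ⟶ B) (p1 p2 : B ⟶ X) (q1 q2 : A ⟶ X) (e1 : j ≫ p1 = q1)
    (e2 : j ≫ p2 = q2) (F : X.Modules) (hp : ∀ U : X.Opens, p1 ⁻¹ᵁ U = p2 ⁻¹ᵁ U)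
    (hq : ∀ U : X.Opens, q1 ⁻¹ᵁ U = q2 ⁻¹ᵁ U) :
    ∃ τ : (Scheme.Modules.pushforward p1).obj ((Scheme.Modules.pullback p2).obj F) ⟶
        (Scheme.Modules.pushforward q1).obj ((Scheme.Modules.pullback q2).obj F),
      ∀ (U : X.Opens) (t : Γ(F, U)),
        τ.app U (((Scheme.Modules.pullback p2).obj F).presheaf.map (homOfLE (hp U).le).op
            (OmegaSh.pullSect p2 F U t)) =
          ((Scheme.Modules.pullback q2).obj F).presheaf.map (homOfLE (hq U).le).op
            (OmegaSh.pullSect q2 F U t) := by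
  subst e1 e2
  let Fm := (Scheme.Modules.pullback p2).obj F
  refine ⟨(Scheme.Modules.pushforward p1).map
      ((Scheme.Modules.pullbackPushforwardAdjunction j).unit.app Fm ≫
        (Scheme.Modules.pushforward j).map ((Scheme.Modules.pullbackComp j p2).hom.app F)) ≫
    (Scheme.Modules.pushforwardComp j p1).hom.app _, fun U t => ?_⟩
  have h1 := QC.pullbackComp_hom_pullSect j p2 F U t
  have nat : OmegaSh.pullSect j Fm (p1 ⁻¹ᵁ U) (Fm.presheaf.map (homOfLE (hp U).le).op (OmegaSh.pullSect p2 F U t)) =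
      ((Scheme.Modules.pullback j).obj Fm).presheaf.map
        (homOfLE ((TopologicalSpace.Opens.map j.base).monotone (hp U).le)).op
        (OmegaSh.pullSect j Fm (p2 ⁻¹ᵁ U) (OmegaSh.pullSect p2 F U t)) := by
    exact ((Scheme.Modules.pullbackPushforwardAdjunction j).unit.app Fm).mapPresheaf.naturality_apply
      (homOfLE (hp U).le).op _
  show ((Scheme.Modules.pullbackComp j p2).hom.app F).app (j ⁻¹ᵁ (p1 ⁻¹ᵁ U))
      (OmegaSh.pullSect j Fm (p1 ⁻¹ᵁ U) (Fm.presheaf.map (homOfLE (hp U).le).op (OmegaSh.pullSect p2 F U t))) = _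
  rw [nat]
  refine (((Scheme.Modules.pullbackComp j p2).hom.app F).mapPresheaf.naturality_apply
    (homOfLE ((TopologicalSpace.Opens.map j.base).monotone (hp U).le)).op _).trans ?_
  exact congrArg _ h1

/-- Let f : X ⟶ S be a morphism of schemes, F and G two O_X-modules and D : F ⟶ G a differential
operator of order at most n relative to S. Then D is a differential operator of order at most m for
every m ≥ n. -/
theorem result {X S : Scheme.{u}} (f : X ⟶ S) (F G : X.Modules) {n m : ℕ} (h : n ≤ m)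
    (D : F.presheaf ⟶ G.presheaf) (hD : PrinPart.IsDiffOpLE f F G n D) :
    PrinPart.IsDiffOpLE f F G m D := by
  obtain ⟨u', hu⟩ := hD
  have hj : PrinPart.infNbhdMap (PrinPart.diagCl f) h ≫ PrinPart.nbhdι f m = PrinPart.nbhdι f n := by
    simp [PrinPart.nbhdι]
  obtain ⟨τ, hτ⟩ := exists_trans (PrinPart.infNbhdMap (PrinPart.diagCl f) h)
    (PrinPart.pr1 f m) (PrinPart.pr2 f m) (PrinPart.pr1 f n) (PrinPart.pr2 f n)
    (by simp only [PrinPart.pr1, ← Category.assoc, hj]) (by simp only [PrinPart.pr2, ← Category.assoc, hj])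
    F (PrinPart.preimage_pr1 f m) (PrinPart.preimage_pr1 f n)
  refine ⟨τ ≫ u', fun U t => ?_⟩
  rw [hu U t]
  exact (congrArg (u'.app U) (hτ U t)).symm

end Groth.Agent.S5956
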