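import Groth.Statements.S5957
import Groth.Agent.QC.Basic

set_option autoImplicit false
universe u
open CategoryTheory CategoryTheory.Limits AlgebraicGeometry TopologicalSpace Opposite
open Nrm16

set_option backward.isDefEq.respectTransparency false
set_option backward.isDefEq.respectTransparency.types false

namespace Groth.Agent.S5957

theorem isIso_toNbhd_zero {X S : Scheme.{u}} (f : X ⟶ S) : IsIso (PrinPart.toNbhd f 0) := by
  have h : (PrinPart.diagCl f).ker ^ (0 + 1) = (PrinPart.diagCl f).ker := by rw [zero_add, pow_one]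
  haveI : IsIso (Scheme.IdealSheafData.inclusion (PrinPart.ker_pow_succ_le (PrinPart.diagCl f) 0)) :=
    ⟨Scheme.IdealSheafData.inclusion h.ge, by
      rw [Scheme.IdealSheafData.inclusion_comp, Scheme.IdealSheafData.inclusion_id], by
      rw [Scheme.IdealSheafData.inclusion_comp, Scheme.IdealSheafData.inclusion_id]⟩
  change IsIso (PrinPart.toInfNbhd (PrinPart.diagCl f) 0)
  unfold PrinPart.toInfNbhd
  infer_instance

theorem pr1_eq_pr2 {X S : Scheme.{u}} (f : X ⟶ S) : PrinPart.pr1 f 0 = PrinPart.pr2 f 0 := by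
  have := isIso_toNbhd_zero f
  rw [← cancel_epi (PrinPart.toNbhd f 0), PrinPart.toNbhd_pr1, PrinPart.toNbhd_pr2]

theorem isIso_pr2 {X S : Scheme.{u}} (f : X ⟶ S) : IsIso (PrinPart.pr2 f 0) := by
  have := isIso_toNbhd_zero f
  have h : IsIso (PrinPart.toNbhd f 0 ≫ PrinPart.pr2 f 0) := by
    rw [PrinPart.toNbhd_pr2]; infer_instance
  exact IsIso.of_isIso_comp_left (PrinPart.toNbhd f 0) _

theorem dP_smul {X S : Scheme.{u}} (f : X ⟶ S) (F : X.Modules) (U : X.Opens) (a : Γ(X, U)) (t : Γ(F, U)) :
    PrinPart.dP f 0 F U (a • t) = a • PrinPart.dP f 0 F U t := by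
  rw [PrinPart.dP_apply, PrinPart.dP_apply, OmegaSh.pullSect_smul]
  change QC.res ((Scheme.Modules.pullback (PrinPart.pr2 f 0)).obj F) (PrinPart.preimage_pr1 f 0 U).le _ =
    (PrinPart.pr1 f 0).app U a •
      QC.res ((Scheme.Modules.pullback (PrinPart.pr2 f 0)).obj F) (PrinPart.preimage_pr1 f 0 U).le _
  rw [QC.res_smul]
  congr 1
  have key : ∀ (p q : PrinPart.nbhd f 0 ⟶ X) (_ : p = q) (e : p ⁻¹ᵁ U ≤ q ⁻¹ᵁ U),
      QC.resO _ e (q.app U a) = p.app U a := by
    rintro p q rfl e
    simp [QC.resO]
  exact key _ _ (pr1_eq_pr2 f) _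

/-- Let f : X ⟶ S be a morphism of schemes, F and G two O_X-modules and D : F ⟶ G a homomorphism of
sheaves of abelian groups. Then D is a differential operator of order at most 0 relative to S if and
only if D is O_X-linear: D(a·t) = a·D(t) for every open U, every function a on U and every section t
of F over U. -/
theorem result {X S : Scheme.{u}} (f : X ⟶ S) (F G : X.Modules)
    (D : F.presheaf ⟶ G.presheaf) :
    PrinPart.IsDiffOpLE f F G 0 D ↔
      ∀ (U : X.Opens) (a : Γ(X, U)) (t : Γ(F, U)), D.app (op U) (a • t) = a • D.app (op U) t := by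
  constructor
  · rintro ⟨v, hv⟩ U a t
    rw [hv, hv, dP_smul, Scheme.Modules.Hom.app_smul]
  · intro h
    have := isIso_pr2 f
    let φ : F ⟶ G := ⟨PresheafOfModules.homMk D fun O r t ↦ h O.unop r t⟩
    let adj := Scheme.Modules.pullbackPushforwardAdjunction (PrinPart.pr2 f 0)
    let g := PrinPart.pr2 f 0
    haveI : (Scheme.Modules.pullback g).IsEquivalence :=
      (CategoryTheory.Equivalence.mk (Scheme.Modules.pullback g) (Scheme.Modules.pullback (inv g))
        ((Scheme.Modules.pullbackId X).symm ≪≫ Scheme.Modules.pullbackCongr (IsIso.inv_hom_id g).symm ≪≫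
          (Scheme.Modules.pullbackComp (inv g) g).symm)
        (Scheme.Modules.pullbackComp g (inv g) ≪≫ Scheme.Modules.pullbackCongr (IsIso.hom_inv_id g) ≪≫
          Scheme.Modules.pullbackId _)).isEquivalence_functor
    haveI : IsIso (adj.unit.app F) :=
      haveI := (Scheme.Modules.pullbackPushforwardAdjunction g).unit_isIso_of_L_fully_faithful
      inferInstanceAs (IsIso ((Scheme.Modules.pullbackPushforwardAdjunction g).unit.app F))
    let M := (Scheme.Modules.pullback (PrinPart.pr2 f 0)).obj F
    let e : PrinPart.PMod f 0 F ⟶ (Scheme.Modules.pushforward (PrinPart.pr2 f 0)).obj M :=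
      (Scheme.Modules.pushforwardCongr (pr1_eq_pr2 f)).hom.app M
    refine ⟨e ≫ inv (adj.unit.app F) ≫ φ, fun U t ↦ ?_⟩
    have he : e.app U (PrinPart.dP f 0 F U t) = (adj.unit.app F).app U t := by
      change e.app U (QC.res M (PrinPart.preimage_pr1 f 0 U).le _) = _
      simp only [e, Scheme.Modules.pushforwardCongr_hom_app_app]
      exact (QC.res_res M _ _ _).trans (QC.res_self M _ _)
    change D.app (op U) t = φ.app U ((inv (adj.unit.app F)).app U (e.app U (PrinPart.dP f 0 F U t)))
    rw [he]
    have := congr((($(IsIso.hom_inv_id (adj.unit.app F))).app U) t)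
    exact (congrArg (φ.app U) this).symm

end Groth.Agent.S5957
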