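import Groth.Statements.S5961
import Groth.Agent.PrinSheaf.Nilp
import Groth.Agent.OmegaLib.DerAffine

set_option autoImplicit false
universe u
open CategoryTheory CategoryTheory.Limits AlgebraicGeometry TopologicalSpace Opposite
open Nrm16

set_option backward.isDefEq.respectTransparency false
set_option backward.isDefEq.respectTransparency.types false

namespace Groth.Agent.S5961

open Groth.Agent.QC Groth.Agent.PrinSheaf

theorem hom_app_eq_smul {X : Scheme.{u}} {G : X.Modules} (v : Coh.structureModule X ⟶ G) (U : X.Opens)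
    (a : Γ(X, U)) : v.app U (OmegaSh.strSect X U a) = a • v.app U (OmegaSh.strSect X U 1) := by
  rw [← Scheme.Modules.Hom.app_smul]
  exact congrArg _ (_root_.mul_one a).symm

/-- Let f : X ⟶ S be a morphism of schemes, G an O_X-module and D : O_X ⟶ G a differential operator of
order at most 1 relative to S. Then D can be written in exactly one way as v + d with v : O_X ⟶ G an
O_X-linear map and d an S-derivation of O_X into G. -/
theorem result {X S : Scheme.{u}} (f : X ⟶ S) (G : X.Modules)
    (D : (Coh.structureModule X).presheaf ⟶ G.presheaf)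
    (hD : PrinPart.IsDiffOpLE f (Coh.structureModule X) G 1 D) :
    ∃! p : (Coh.structureModule X ⟶ G) × OmegaSh.Der f G,
      ∀ (U : X.Opens) (a : Γ(X, U)),
        D.app (op U) (OmegaSh.strSect X U a) = p.1.app U (OmegaSh.strSect X U a) + p.2.app U a := by
  obtain ⟨w, hw⟩ := hD
  let M := (Scheme.Modules.pullback (PrinPart.pr2 f 1)).obj (Coh.structureModule X)
  let q (U : X.Opens) : Γ(X, U) →+* Γ(PrinPart.nbhd f 1, PrinPart.pr1 f 1 ⁻¹ᵁ U) :=
    ((PrinPart.pr2 f 1).appLE U _ (PrinPart.preimage_pr1 f 1 U).le).hom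
  let p (U : X.Opens) : Γ(X, U) →+* Γ(PrinPart.nbhd f 1, PrinPart.pr1 f 1 ⁻¹ᵁ U) :=
    ((PrinPart.pr1 f 1).app U).hom
  let D' (U : X.Opens) (a : Γ(X, U)) : Γ(G, U) := D.app (op U) (OmegaSh.strSect X U a)
  let one (U : X.Opens) : Γ(M, PrinPart.pr1 f 1 ⁻¹ᵁ U) := PrinPart.dn f 1 U 1
  let Φ (U : X.Opens) : Γ(M, PrinPart.pr1 f 1 ⁻¹ᵁ U) →+ Γ(G, U) := (w.app U).hom
  have hΦ : ∀ (U : X.Opens) (a : Γ(X, U)) m, Φ U (p U a • m) = a • Φ U m :=
    fun U a m => Scheme.Modules.Hom.app_smul w a m
  have hdn : ∀ (U : X.Opens) (a : Γ(X, U)), Φ U (q U a • one U) = D' U a := by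
    intro U a
    refine Eq.trans ?_ (hw U (OmegaSh.strSect X U a)).symm
    refine congrArg (Φ U) ?_
    have : OmegaSh.strSect X U a = a • OmegaSh.strSect X U 1 := (_root_.mul_one a).symm
    change q U a • res M (PrinPart.preimage_pr1 f 1 U).le (OmegaSh.pullSect _ _ U (OmegaSh.strSect X U 1)) =
      res M (PrinPart.preimage_pr1 f 1 U).le (OmegaSh.pullSect _ _ U (OmegaSh.strSect X U a))
    rw [this, OmegaSh.pullSect_smul, res_smul]
    rfl
  have hD1 : ∀ U, Φ U (one U) = D' U 1 := fun U => by
    rw [← hdn U 1, map_one, one_smul]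
  have hres : ∀ (U V : X.Opens) (h : V ≤ U) (a : Γ(X, U)), res G h (D' U a) = D' V (resO X h a) :=
    fun U V h a => (congr($(D.naturality (homOfLE h).op) (OmegaSh.strSect X U a))).symm
  -- the linear part
  let v : Coh.structureModule X ⟶ G :=
    ⟨PresheafOfModules.homMk
      { app := fun O => AddCommGrpCat.ofHom (X := Γ(X, O.unop)) (Y := Γ(G, O.unop)) (AddMonoidHom.mk'
          (fun s : Γ(X, O.unop) => s • D' O.unop 1)
          fun s t => add_smul (show Γ(X, O.unop) from s) (show Γ(X, O.unop) from t) (D' O.unop 1))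
        naturality := fun O O' i => by
          ext s
          change resO X i.unop.le s • D' O'.unop 1 = res G i.unop.le ((show Γ(X, O.unop) from s) • D' O.unop 1)
          rw [res_smul, hres, map_one] }
      fun O r t => by
        change ((show Γ(X, O.unop) from r) * (show Γ(X, O.unop) from t)) • D' O.unop 1 =
          (show Γ(X, O.unop) from r) • ((show Γ(X, O.unop) from t) • D' O.unop 1)
        exact mul_smul _ _ _⟩
  have hv : ∀ (U : X.Opens) (a : Γ(X, U)), v.app U (OmegaSh.strSect X U a) = a • D' U 1 := fun _ _ => rfl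
  have hmul : ∀ (U : X.Opens) (a b : Γ(X, U)),
      D' U (a * b) = a • D' U b + b • D' U a - (a * b) • D' U 1 := by
    intro U a b
    have h0 := prod_delta_eq_zero f 1 U ![a, b]
    rw [Fin.prod_univ_two] at h0
    change (q U a - p U a) * (q U b - p U b) = 0 at h0
    have h1 : q U (a * b) = p U a * q U b + p U b * q U a - p U (a * b) := by
      rw [map_mul, map_mul]; linear_combination h0
    rw [← hdn, h1, sub_smul, add_smul, mul_smul, mul_smul, map_sub, map_add, hΦ, hΦ, hΦ, hdn, hdn, hD1]
  have hfS : ∀ (V : S.Opens) (c : Γ(S, V)),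
      D' (f ⁻¹ᵁ V) (f.app V c) = f.app V c • D' (f ⁻¹ᵁ V) 1 := by
    intro V c
    have key : ∀ (g g' : PrinPart.nbhd f 1 ⟶ S) (_ : g = g') (W : (PrinPart.nbhd f 1).Opens) e e',
        g.appLE V W e c = g'.appLE V W e' c := by
      rintro g g' rfl W e e'; rfl
    have hqp : q (f ⁻¹ᵁ V) (f.app V c) = p (f ⁻¹ᵁ V) (f.app V c) := by
      change (PrinPart.pr2 f 1).appLE _ _ _ (f.app V c) = (PrinPart.pr1 f 1).app _ (f.app V c)
      rw [Scheme.Hom.app_eq_appLE, Scheme.Hom.app_eq_appLE, ← CommRingCat.comp_apply,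
        ← CommRingCat.comp_apply, Scheme.Hom.appLE_comp_appLE, Scheme.Hom.appLE_comp_appLE]
      exact key _ _ (PrinPart.pr1_comp f 1).symm _ _ _
    rw [← hdn, hqp, hΦ, hD1]
  let d : OmegaSh.Der f G :=
    { d := fun {O} => AddMonoidHom.mk' (fun a : Γ(X, O.unop) => D' O.unop a - a • D' O.unop 1) fun a b => by
        simp only [D', map_add, add_smul]
        abel
      d_mul := fun {O} a b => by
        change D' O.unop (a * b) - (show Γ(X, O.unop) from a * b) • D' O.unop 1 =
          (show Γ(X, O.unop) from a) • (D' O.unop b - (show Γ(X, O.unop) from b) • D' O.unop 1) +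
          (show Γ(X, O.unop) from b) • (D' O.unop a - (show Γ(X, O.unop) from a) • D' O.unop 1)
        rw [hmul, smul_sub, smul_sub, smul_smul, smul_smul, _root_.mul_comm (show Γ(X, O.unop) from b) a]
        abel
      d_map := fun {O O'} i a => by
        change D' O'.unop (resO X i.unop.le a) - resO X i.unop.le a • D' O'.unop 1 =
          res G i.unop.le (D' O.unop a - (show Γ(X, O.unop) from a) • D' O.unop 1)
        rw [map_sub, res_smul, hres, hres, map_one]
      d_app := fun {V} c => sub_eq_zero.mpr (hfS V.unop c) }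
  have hd : ∀ (U : X.Opens) (a : Γ(X, U)), d.app U a = D' U a - a • D' U 1 := fun _ _ => rfl
  refine ⟨(v, d), fun U a => ?_, fun y hy => ?_⟩
  · rw [hv, hd]; exact (add_sub_cancel _ _).symm
  · have h1 : ∀ U, y.1.app U (OmegaSh.strSect X U 1) = D' U 1 := fun U => by
      have h2 : y.2.app U 1 = 0 := by
        have := OmegaLib.app_mul y.2 U 1 1
        rw [_root_.one_mul, one_smul] at this
        exact (add_eq_left.mp this.symm)
      have := hy U 1
      rw [h2, add_zero] at this
      exact this.symm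
    have e1 : y.1 = v := Scheme.Modules.hom_ext _ _ fun U => by
      ext s
      exact (hom_app_eq_smul y.1 U s).trans (by rw [h1]; rfl)
    refine Prod.ext e1 (OmegaLib.der_ext fun U a => ?_)
    have := hy U a
    rw [e1, hv] at this
    rw [hd]
    exact eq_sub_of_add_eq' this.symm

end Groth.Agent.S5961
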