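import Groth.Statements.S5962
import Groth.Agent.DiffOp.Universal

set_option autoImplicit false
universe u
open CategoryTheory CategoryTheory.Limits AlgebraicGeometry TopologicalSpace Opposite
open Nrm16

namespace Groth.Agent.S5962

/-- Let f : X ⟶ S be a morphism of schemes and n, n' natural numbers. There is exactly one O_X-linear
map δ : P^(n+n')_{X/S} ⟶ P^n'_{X/S}(P^n_{X/S}) for the left O_X-module structures, the target being
the sheaf of principal parts of order n' of the left O_X-module P^n_{X/S}, such that δ(d^(n+n') t) =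
d^n'(d^n t) for every local function t on X. -/
theorem result {X S : Scheme.{u}} (f : X ⟶ S) (n n' : ℕ) :
    ∃! δ : PrinPart.P f (n + n') ⟶ PrinPart.PMod f n' (PrinPart.P f n),
      ∀ (U : X.Opens) (t : Γ(X, U)),
        δ.app U (PrinPart.dn f (n + n') U t) = PrinPart.dP f n' (PrinPart.P f n) U (PrinPart.dn f n U t) := by
  have h1 := Groth.Agent.DiffOp.of_isDiffOpLE (F := Coh.structureModule X) (G := PrinPart.P f n)
    (D := PrinPart.dPHom f n (Coh.structureModule X)) f n ⟨𝟙 _, fun _ _ => rfl⟩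
  have h2 := Groth.Agent.DiffOp.of_isDiffOpLE (F := PrinPart.P f n) (G := PrinPart.PMod f n' (PrinPart.P f n))
    (D := PrinPart.dPHom f n' (PrinPart.P f n)) f n' ⟨𝟙 _, fun _ _ => rfl⟩
  obtain ⟨w, hw⟩ := Groth.Agent.DiffOp.isDiffOpLE_of_ord f
    (D := PrinPart.dPHom f n (Coh.structureModule X) ≫ PrinPart.dPHom f n' (PrinPart.P f n)) (n + n')
    (fun V s U hU t => (congrArg ((PrinPart.dPHom f n' (PrinPart.P f n)).app (op U)) (h1.1 V s U hU t)).trans (h2.1 V s U hU _))
    fun U => Groth.Agent.DiffOp.Ord.comp (M := Γ(Coh.structureModule X, U)) (by omega) (h1.2 U) (h2.2 U)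
  refine ⟨w, fun U t => (hw U (OmegaSh.strSect X U t)).symm, fun δ hδ => ?_⟩
  refine Groth.Agent.PrinSheaf.hom_ext_dP f (n + n') δ w fun U t => ?_
  exact (hδ U t).trans (hw U t)

end Groth.Agent.S5962
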