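import Groth.Statements.S5966
import Groth.Agent.S5959
import Groth.Agent.ModSiteFlat.PushColim

set_option autoImplicit false
universe u
open CategoryTheory CategoryTheory.Limits AlgebraicGeometry TopologicalSpace Opposite
open Nrm16

set_option backward.isDefEq.respectTransparency false
set_option backward.isDefEq.respectTransparency.types false

namespace Groth.Agent.S5966

theorem isCocontinuous_map {X Y : Scheme.{u}} (g : X ⟶ Y) (hg : IsHomeomorph g) :
    (Opens.map g.base).IsCocontinuous (Opens.grothendieckTopology Y) (Opens.grothendieckTopology X) where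
  cover_lift {U S} hS := fun y hy ↦ by
    obtain ⟨x, rfl⟩ := hg.surjective y
    obtain ⟨W, i, hi, hxW⟩ := hS x hy
    have hle : (⟨g '' W, hg.isOpenMap _ W.2⟩ : Y.Opens) ≤ U := by
      rintro _ ⟨z, hz, rfl⟩
      exact i.le hz
    refine ⟨⟨g '' W, hg.isOpenMap _ W.2⟩, homOfLE hle, ?_, ⟨x, hxW, rfl⟩⟩
    have hle' : (Opens.map g.base).obj ⟨g '' W, hg.isOpenMap _ W.2⟩ ≤ W := fun z hz ↦ by
      obtain ⟨w, hw, e⟩ := hz
      rwa [← hg.injective e]
    have := S.downward_closed hi (homOfLE hle')
    change S.arrows ((Opens.map g.base).map (homOfLE hle))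
    rwa [Subsingleton.elim ((Opens.map g.base).map (homOfLE hle)) (homOfLE hle' ≫ i)]

/-- Let f : X ⟶ S be a morphism of schemes and n a natural number. The functor F ↦ P^n_{X/S}(F),
pullback along the second projection of the n-th infinitesimal neighbourhood of the diagonal
followed by pushforward along the first, from O_X-modules to O_X-modules, commutes with all small
colimits (in particular it is right exact). -/
theorem result {X S : Scheme.{u}} (f : X ⟶ S) (n : ℕ) :
    PreservesColimitsOfSize.{u, u}
      ((Scheme.Modules.pullback (PrinPart.pr2 f n)) ⋙ (Scheme.Modules.pushforward (PrinPart.pr1 f n))) := by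
  have := isCocontinuous_map _ (S5959.isHomeomorph_pr1 f n)
  have : PreservesColimitsOfSize.{u, u} (Scheme.Modules.pushforward (PrinPart.pr1 f n)) :=
    ModSiteFlat.preservesColimits_pushforward _
  have : PreservesColimitsOfSize.{u, u} (Scheme.Modules.pullback (PrinPart.pr2 f n)) :=
    (Scheme.Modules.pullbackPushforwardAdjunction (PrinPart.pr2 f n)).leftAdjoint_preservesColimits
  infer_instance

end Groth.Agent.S5966
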