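import Groth.Statements.S5967
import Groth.Agent.S5959
import Groth.Agent.S5969
import Groth.Agent.RelPCS.FlatBase
import Groth.Agent.DerPerf.Local
import Groth.Agent.KFlat.ClosedImm

set_option autoImplicit false
universe u
open CategoryTheory CategoryTheory.Limits AlgebraicGeometry TopologicalSpace Opposite
open Nrm16

set_option backward.isDefEq.respectTransparency false
set_option backward.isDefEq.respectTransparency.types false

namespace Groth.Agent.S5967

open Groth.Agent.KFlat

theorem pushStalk_bijective_of_isInducing {X Y : Scheme.{u}} (g : X ⟶ Y) (hg : Topology.IsInducing g.base)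
    (z : X) (A : X.Modules) : Function.Bijective (pushStalk g z A) := by
  have h := TopCat.Presheaf.stalkPushforward.stalkPushforward_iso_of_isInducing
    (C := AddCommGrpCat.{u}) hg (DCoh.toP.obj A).presheaf z
  have hb := ConcreteCategory.bijective_of_isIso (C := AddCommGrpCat.{u})
    (TopCat.Presheaf.stalkPushforward AddCommGrpCat.{u} g.base (DCoh.toP.obj A).presheaf z)
  suffices he : ∀ m, pushStalk g z A m =
      (TopCat.Presheaf.stalkPushforward AddCommGrpCat.{u} g.base (DCoh.toP.obj A).presheaf z).hom m from
    ⟨fun a b hab => hb.1 ((he a).symm.trans (hab.trans (he b))),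
      fun w => (hb.2 w).imp fun a ha => (he a).trans ha⟩
  intro m
  obtain ⟨U, hU, s, rfl⟩ := exists_pgerm (DCoh.toP.obj ((Scheme.Modules.pushforward g).obj A)) (g.base z) m
  rw [pushStalk_germ]
  exact (ConcreteCategory.congr_hom
    (TopCat.Presheaf.stalkPushforward_germ AddCommGrpCat.{u} g.base (DCoh.toP.obj A).presheaf U z hU) s).symm

theorem flat_of_isFlat_pushforward {N X : Scheme.{u}} (g : N ⟶ X) (hg : Topology.IsInducing g.base)
    (M : N.Modules) (e : M ≅ Coh.structureModule N)
    (h : FlatMod.IsFlat ((Scheme.Modules.pushforward g).obj M)) : Flat g := by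
  refine (Flat.iff_flat_stalkMap g).mpr fun z => ?_
  algebraize [(g.stalkMap z).hom]
  let φ := (g.stalkMap z).hom
  let l : (DerSch.stalkFunctor N z).obj M ≅ (DerSch.stalkFunctor N z).obj (Coh.structureModule N) :=
    (DerSch.stalkFunctor N z).mapIso e
  let one := LinearEquiv.ofBijective (oneMap (X := N) z) (oneMap_bijective z)
  let F : ((Scheme.Modules.pushforward g).obj M).presheaf.stalk (g.base z) →ₗ[X.presheaf.stalk (g.base z)]
      N.presheaf.stalk z :=
    { toFun := fun m => one.symm (l.toLinearEquiv (pushStalk g z M m))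
      map_add' := fun a b => (congrArg (fun m => one.symm (l.toLinearEquiv m)) (map_add (pushStalk g z M) a b)).trans
        ((congrArg one.symm (map_add l.toLinearEquiv _ _)).trans (map_add one.symm _ _))
      map_smul' := fun r m => (congrArg (fun m => one.symm (l.toLinearEquiv m)) (pushStalk_smul g z M r m)).trans
        ((congrArg one.symm (map_smul l.toLinearEquiv (φ r) _)).trans (map_smul one.symm (φ r) _)) }
  have hF : Function.Bijective F :=
    (one.symm.bijective.comp l.toLinearEquiv.bijective).comp (pushStalk_bijective_of_isInducing g hg z M)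
  haveI : Module.Flat (X.presheaf.stalk (g.base z))
      (((Scheme.Modules.pushforward g).obj M).presheaf.stalk (g.base z)) := h (g.base z)
  exact Module.Flat.of_linearEquiv (LinearEquiv.ofBijective F hF).symm

/-- Let f : X ⟶ S be a morphism of schemes and n a natural number, and assume that P^n_{X/S} is a flat
O_X-module for its left structure. Then the functor F ↦ P^n_{X/S}(F) on O_X-modules preserves finite
limits (so it is exact). -/
theorem result {X S : Scheme.{u}} (f : X ⟶ S) (n : ℕ)
    (hP : FlatMod.IsFlat (PrinPart.P f n)) :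
    PreservesFiniteLimits
      ((Scheme.Modules.pullback (PrinPart.pr2 f n)) ⋙ (Scheme.Modules.pushforward (PrinPart.pr1 f n))) := by
  have h1 : Flat (PrinPart.pr1 f n) :=
    flat_of_isFlat_pushforward _ (S5959.isHomeomorph_pr1 f n).isInducing _
      (DerPerf.pullUnitIso (PrinPart.pr2 f n)) hP
  obtain ⟨σ, -, hσ2, hσ1, -, -⟩ := S5969.result f n
  have : IsIso σ := ⟨σ, hσ2, hσ2⟩
  have h2 : Flat (PrinPart.pr2 f n) := by rw [← hσ1]; infer_instance
  have := RelPCS.preservesFiniteLimits_pullback (PrinPart.pr2 f n)
  have : PreservesLimitsOfSize.{0, 0} (Scheme.Modules.pushforward (PrinPart.pr1 f n)) :=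
    (Scheme.Modules.pullbackPushforwardAdjunction (PrinPart.pr1 f n)).rightAdjoint_preservesLimits
  infer_instance

end Groth.Agent.S5967
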