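import Groth.Statements.S5970
import Groth.Agent.VBundleOmega.Algebra
import Groth.Agent.OmegaLib.Universal
import Groth.Agent.SymAlg.Exists
import Groth.Agent.ModDesc.BaseChange
import Groth.Agent.ModDesc.Func
import Groth.Agent.RelSpecUP.Basic

set_option autoImplicit false
universe u
open CategoryTheory CategoryTheory.Limits AlgebraicGeometry TopologicalSpace Opposite
open Nrm16
open Groth.Agent

set_option linter.style.haveILetI false
set_option backward.isDefEq.respectTransparency false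

namespace Groth.Agent.S5970

open TensorProduct in
open Scheme.AffineZariskiSite in
set_option maxHeartbeats 1600000 in
/-- The map is bijective on sections over the preimage of an affine open. -/
theorem bijective_app {S : Scheme.{u}} {E : S.Modules} (hE : Coh.IsQCoh E)
    {A : RelSpec.QCAlg S} {j : E ⟶ A.toModule} (hA : RelSpec.IsSymAlg E A j)
    {Ω' : A.spec.Modules} {d : OmegaSh.Der A.π Ω'} (hd : OmegaSh.IsUniversal d)
    (φ : (Scheme.Modules.pullback A.π).obj E ⟶ Ω')
    (hφ : ∀ (U : S.Opens) (t : Γ(E, U)) (t' : Γ(A.spec, A.π ⁻¹ᵁ U)),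
      A.gammaMap.app (op U) t' = j.app U t →
        φ.app (A.π ⁻¹ᵁ U) (OmegaSh.pullSect A.π E U t) = d.app (A.π ⁻¹ᵁ U) t')
    {U : S.Opens} (hU : IsAffineOpen U) : Function.Bijective (φ.app (A.π ⁻¹ᵁ U)) := by
  haveI : Coh.IsQCoh E := hE
  haveI := Groth.Agent.S8255.result A
  haveI : IsIso (A.gammaMap.app (op U)) := NatIso.isIso_app_of_isIso A.gammaMap (op U)
  set V := A.π ⁻¹ᵁ U with hVdef
  have hV : IsAffineOpen V := hU.preimage A.π
  letI alg : Algebra Γ(S, U) Γ(A.spec, V) := (A.π.appLE U V le_rfl).hom.toAlgebra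
  obtain ⟨γ, hγ, hj⟩ := SymAlg.exists_affineIso hE hA
  let u : S.AffineZariskiSite := ⟨U, hU⟩
  let Θ : Γ(A.spec, V) ≅ SymAlg.symObj E U :=
    asIso (A.gammaMap.app (op U)) ≪≫ γ.app (op u)
  have hΘ : ∀ r : Γ(S, U), Θ.hom.hom (algebraMap Γ(S, U) Γ(A.spec, V) r) =
      algebraMap Γ(S, U) (SymmetricAlgebra Γ(S, U) Γ(E, U)) r := fun r => by
    refine Eq.trans ?_ (SymAlg.γ_str γ hγ u r)
    show (γ.hom.app (op u)).hom ((A.gammaMap.app (op U)).hom ((A.π.appLE U V le_rfl).hom r)) = _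
    congr 1
    have h := congr($(NatTrans.congr_app A.π_c_gammaMap (op U)) r)
    refine Eq.trans ?_ h
    rw [Scheme.Hom.appLE]
    have e0 : ∀ (i : op V ⟶ op V) (z : Γ(A.spec, V)), (A.spec.presheaf.map i).hom z = z := fun i z => by
      rw [Subsingleton.elim i (𝟙 _), CategoryTheory.Functor.map_id]; rfl
    exact congrArg (A.gammaMap.app (op U)).hom (e0 _ _)
  let e : SymmetricAlgebra Γ(S, U) Γ(E, U) ≃ₐ[Γ(S, U)] Γ(A.spec, V) :=
    (AlgEquiv.ofRingEquiv (f := Θ.commRingCatIsoToRingEquiv) hΘ).symm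
  obtain ⟨Φ, hΦ⟩ := ModDesc.exists_bijective_liftBaseChange A.π E hU hV le_rfl
  obtain ⟨T, hTsmul, hTd⟩ := OmegaLib.exists_sectEquiv (e := (le_rfl : V ≤ A.π ⁻¹ᵁ U)) hd hV hU
  let F : Γ(A.spec, V) ⊗[Γ(S, U)] Γ(E, U) →ₗ[Γ(A.spec, V)] Ω[Γ(A.spec, V)⁄Γ(S, U)] :=
    { toFun := fun x => T (φ.app V (Φ x))
      map_add' := fun x y => by simp only [map_add]
      map_smul' := fun c x => by
        simp only [map_smul, Scheme.Modules.Hom.app_smul, hTsmul, RingHom.id_apply] }
  have hF : Function.Bijective F := VBundleOmega.bijective_of_tmul e F fun m => by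
    show T (φ.app V (Φ (1 ⊗ₜ m))) = _
    rw [hΦ, ← hTd]
    congr 1
    have key : A.gammaMap.app (op U) (e (SymmetricAlgebra.ι Γ(S, U) Γ(E, U) m)) = j.app U m := by
      rw [hj u m]
      show (A.gammaMap.app (op U)).hom (Θ.inv.hom _) = _
      show (A.gammaMap.app (op U)).hom ((inv (A.gammaMap.app (op U))).hom _) = _
      exact congr($(IsIso.inv_hom_id (A.gammaMap.app (op U))) _)
    rw [← hφ U m _ key, ModDesc.pullSectLE_apply]
    congr 1
    exact QC.res_self _ _ _
  refine ⟨fun a b h => ?_, fun y => ?_⟩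
  · obtain ⟨a, rfl⟩ := Φ.surjective a
    obtain ⟨b, rfl⟩ := Φ.surjective b
    exact congrArg Φ (hF.1 (congrArg T h))
  · obtain ⟨x, hx⟩ := hF.2 (T y)
    exact ⟨Φ x, T.injective hx⟩


/-- Let S be a scheme, E a quasi-coherent O_S-module and A its symmetric algebra, given as a
quasi-coherent O_S-algebra with a module map j : E ⟶ A having the universal property; let X = V(E)
be the relative spectrum of A with structure morphism p : X ⟶ S, and let (Ω', d) be a sheaf of
differentials of X over S (d a universal S-derivation of O_X into Ω'). Let φ : p^*E ⟶ Ω' be an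
O_X-linear map such that, whenever a local section t of E over U and a function t' on p⁻¹U
correspond (t' maps to j(t) under the canonical identification of p_*O_X with A), φ sends the
pullback of t to d t'. Then φ is an isomorphism. -/
theorem result {S : Scheme.{u}} (E : S.Modules) (hE : Coh.IsQCoh E)
    (A : RelSpec.QCAlg S) (j : E ⟶ A.toModule) (hA : RelSpec.IsSymAlg E A j)
    (Ω' : A.spec.Modules) (d : OmegaSh.Der A.π Ω') (hd : OmegaSh.IsUniversal d)
    (φ : (Scheme.Modules.pullback A.π).obj E ⟶ Ω')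
    (hφ : ∀ (U : S.Opens) (t : Γ(E, U)) (t' : Γ(A.spec, A.π ⁻¹ᵁ U)),
      A.gammaMap.app (op U) t' = j.app U t →
        φ.app (A.π ⁻¹ᵁ U) (OmegaSh.pullSect A.π E U t) = d.app (A.π ⁻¹ᵁ U) t') :
    IsIso φ := by
  refine ModDesc.isIso_of_affine_cover (QC.isQCoh_pullback _ hE)
    (OmegaLib.isQCoh_of_isUniversal hd) φ (fun U : S.affineOpens => A.π ⁻¹ᵁ U.1)
    (fun U => U.2.preimage A.π) (fun x => ?_) fun U => bijective_app hE hA hd φ hφ U.2
  obtain ⟨U, hU, hxU, -⟩ := exists_isAffineOpen_mem_and_subset (U := (⊤ : S.Opens)) (x := A.π x) trivial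
  exact ⟨⟨U, hU⟩, hxU⟩


end Groth.Agent.S5970
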