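import Groth.Statements.S5972
import Groth.Agent.DerPerf.Local
import Groth.Agent.QC.Basic
import Mathlib.AlgebraicGeometry.Morphisms.ClosedImmersion
import Mathlib.AlgebraicGeometry.Morphisms.Separated
import Mathlib.RingTheory.Kaehler.Basic

set_option autoImplicit false
universe u
open CategoryTheory CategoryTheory.Limits AlgebraicGeometry TopologicalSpace Opposite
open scoped TensorProduct
open Nrm16

set_option backward.isDefEq.respectTransparency false
set_option backward.isDefEq.respectTransparency.types false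
set_option linter.style.haveILetI false

namespace Groth.Agent.S5972

/-- The ring of an infinitesimal neighbourhood of an affine closed subscheme of an affine scheme. -/
theorem surjective_and_ker {R B : CommRingCat.{u}} (m : R ⟶ B) {W : Scheme.{u}} (h : W ⟶ Spec R) [IsIso h]
    (i : Spec B ⟶ W) [IsClosedImmersion i] (hm : i ≫ h = Spec.map m) (n : ℕ) :
    Function.Surjective ((Scheme.ΓSpecIso R).inv ≫ (PrinPart.infNbhdι i n ≫ h).appTop).hom ∧
      RingHom.ker ((Scheme.ΓSpecIso R).inv ≫ (PrinPart.infNbhdι i n ≫ h).appTop).hom =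
        RingHom.ker m.hom ^ (n + 1) := by
  haveI : IsAffine W := .of_isIso h
  let T : W.affineOpens := ⟨⊤, isAffineOpen_top W⟩
  let θ : R ⟶ Γ(W, ⊤) := (Scheme.ΓSpecIso R).inv ≫ h.appTop
  haveI : IsIso θ := by
    haveI : IsIso h.appTop := inferInstanceAs (IsIso (Scheme.Γ.map h.op))
    infer_instance
  let e : R ≃+* Γ(W, ⊤) := (asIso θ).commRingCatIsoToRingEquiv
  have hfac : (Scheme.ΓSpecIso R).inv ≫ (PrinPart.infNbhdι i n ≫ h).appTop =
      θ ≫ (PrinPart.infNbhdι i n).appTop := by
    rw [Scheme.Hom.comp_appTop, Category.assoc]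
  constructor
  · rw [hfac, CommRingCat.hom_comp, RingHom.coe_comp]
    exact Function.Surjective.comp (g := (PrinPart.infNbhdι i n).appTop.hom) (f := θ.hom)
      ((i.ker ^ (n + 1)).subschemeι_app_surjective T) e.surjective
  · rw [hfac, CommRingCat.hom_comp, ← RingHom.comap_ker]
    have h1 : RingHom.ker (PrinPart.infNbhdι i n).appTop.hom = (i.ker.ideal T) ^ (n + 1) := by
      refine ((i.ker ^ (n + 1)).ker_subschemeι_app T).trans ?_
      rw [Scheme.IdealSheafData.ideal_pow]
      rfl
    have h2 : m = (Scheme.ΓSpecIso R).inv ≫ (h.appTop ≫ i.appTop) ≫ (Scheme.ΓSpecIso B).hom := by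
      rw [← Scheme.Hom.comp_appTop, hm, Scheme.ΓSpecIso_naturality, Iso.inv_hom_id_assoc]
    have h3 : RingHom.ker m.hom = (i.ker.ideal T).comap θ.hom := by
      rw [Scheme.Hom.ker_apply]
      ext x
      simp only [RingHom.mem_ker, Ideal.mem_comap, h2, CommRingCat.hom_comp, RingHom.comp_apply]
      exact map_eq_zero_iff _ (Scheme.ΓSpecIso B).commRingCatIsoToRingEquiv.injective
    rw [h1, h3]
    change Ideal.comap e (_ ^ (n + 1)) = (Ideal.comap e _) ^ (n + 1)
    rw [← Ideal.map_symm e, ← Ideal.map_symm e, Ideal.map_pow]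

theorem pullUnitIso_pullSect {X Y : Scheme.{u}} (g : X ⟶ Y) (U : Y.Opens) (s : Γ(Y, U)) :
    (DerPerf.pullUnitIso g).hom.app (g ⁻¹ᵁ U)
      (OmegaSh.pullSect g (Coh.structureModule Y) U (OmegaSh.strSect Y U s)) = g.app U s := by
  let adj := Scheme.Modules.pullbackPushforwardAdjunction g
  have h : adj.homEquiv (Coh.structureModule Y) (Coh.structureModule X) (DerPerf.pullUnitIso g).hom =
      SheafOfModules.unitToPushforwardObjUnit g.toRingCatSheafHom := Equiv.apply_symm_apply _ _
  rw [adj.homEquiv_unit] at h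
  exact congrArg (fun t : Coh.structureModule Y ⟶ (Scheme.Modules.pushforward g).obj
    (Coh.structureModule X) ↦ t.app U s) h

/-- The global sections of a pushed forward pulled back structure module. -/
theorem exists_addEquiv {N X : Scheme.{u}} (p q : N ⟶ X) (hpq : p ⁻¹ᵁ ⊤ ≤ q ⁻¹ᵁ ⊤) :
    ∃ E : Γ((Scheme.Modules.pushforward p).obj ((Scheme.Modules.pullback q).obj (Coh.structureModule X)), ⊤) ≃+
        Γ(N, ⊤),
      ∀ b b' : Γ(X, ⊤), E (b • (show Γ((Scheme.Modules.pushforward p).obj
          ((Scheme.Modules.pullback q).obj (Coh.structureModule X)), ⊤) from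
            QC.res ((Scheme.Modules.pullback q).obj (Coh.structureModule X)) hpq
              (OmegaSh.pullSect q (Coh.structureModule X) ⊤ (OmegaSh.strSect X ⊤ b')))) =
        p.appTop b * q.appTop b' := by
  let M := (Scheme.Modules.pullback q).obj (Coh.structureModule X)
  let a := (DerPerf.pullUnitIso q).hom
  haveI : IsIso (a.app (p ⁻¹ᵁ ⊤)) := inferInstance
  let E : Γ(M, p ⁻¹ᵁ ⊤) ≃+ Γ(N, p ⁻¹ᵁ ⊤) :=
    AddEquiv.ofBijective (a.app (p ⁻¹ᵁ ⊤)).hom (ConcreteCategory.bijective_of_isIso (a.app (p ⁻¹ᵁ ⊤)))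
  refine ⟨E, fun b b' ↦ ?_⟩
  change a.app (p ⁻¹ᵁ ⊤) (p.app ⊤ b • QC.res M hpq _) =
    (show Γ(N, p ⁻¹ᵁ ⊤) from p.app ⊤ b) * (show Γ(N, p ⁻¹ᵁ ⊤) from q.app ⊤ b')
  rw [Scheme.Modules.Hom.app_smul]
  congr 1
  have h : a.app (p ⁻¹ᵁ ⊤) (QC.res M hpq (OmegaSh.pullSect q (Coh.structureModule X) ⊤ (OmegaSh.strSect X ⊤ b'))) =
      QC.res (Coh.structureModule N) hpq (q.app ⊤ b') := by
    refine (QC.app_res a hpq _).symm.trans ?_
    rw [pullUnitIso_pullSect]
  exact h.trans (QC.res_self (Coh.structureModule N) _ _)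

theorem appTop_comp_SpecMap {N : Scheme.{u}} {R B : CommRingCat.{u}} (j : N ⟶ Spec R) (φ : B ⟶ R) (b : B) :
    (j ≫ Spec.map φ).appTop ((Scheme.ΓSpecIso B).inv b) =
      ((Scheme.ΓSpecIso R).inv ≫ j.appTop).hom (φ b) := by
  rw [Scheme.Hom.comp_appTop]
  exact congrArg j.appTop (congr($(Scheme.ΓSpecIso_inv_naturality φ) b)).symm

theorem range_diagonal_closed (A B : Type u) [CommRing A] [CommRing B] [Algebra A B] :
    (pullback.diagonal (Spec.map (CommRingCat.ofHom (algebraMap A B)))).coborderRange = ⊤ := by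
  apply Opens.ext
  change coborder (Set.range (pullback.diagonal (Spec.map (CommRingCat.ofHom (algebraMap A B))))) = Set.univ
  rw [coborder, (pullback.diagonal (Spec.map (CommRingCat.ofHom (algebraMap A B)))).isClosedEmbedding.isClosed_range.closure_eq,
    Set.sdiff_self, Set.compl_empty]

set_option maxHeartbeats 1600000 in
/-- Let A → B be a ring homomorphism, X = Spec B, S = Spec A with f : X ⟶ S the induced morphism, and n
a natural number; identify B with the ring of global functions on X through the canonical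
isomorphism. If ψ : B ⊗_A B → Γ(X, P^n_{X/S}) is the additive map with ψ(b ⊗ b') = b · d^n(b') for
all b, b' in B, then ψ is surjective with kernel the (n+1)-st power of the kernel I of the
multiplication map B ⊗_A B → B. -/
theorem result (A B : Type u) [CommRing A] [CommRing B] [Algebra A B] (n : ℕ)
    (ψ : TensorProduct A B B →+
      Γ(PrinPart.P (Spec.map (CommRingCat.ofHom (algebraMap A B))) n, (⊤ : (Spec (CommRingCat.of B)).Opens)))
    (hψ : ∀ b b' : B, ψ (b ⊗ₜ[A] b') =
      (Scheme.ΓSpecIso (CommRingCat.of B)).inv b •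
        PrinPart.dn (Spec.map (CommRingCat.ofHom (algebraMap A B))) n ⊤
          ((Scheme.ΓSpecIso (CommRingCat.of B)).inv b')) :
    Function.Surjective ψ ∧ ψ.ker = (KaehlerDifferential.ideal A B ^ (n + 1)).toAddSubgroup := by
  let f := Spec.map (CommRingCat.ofHom (algebraMap A B))
  haveI : IsSeparated f := inferInstance
  let W := (pullback.diagonal f).coborderRange
  haveI : IsIso W.ι := by
    change IsIso (pullback.diagonal f).coborderRange.ι
    rw [range_diagonal_closed A B]
    exact inferInstanceAs (IsIso (Scheme.topIso _).hom)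
  let a := pullbackSpecIso A B B
  let h : W.toScheme ⟶ Spec (CommRingCat.of (B ⊗[A] B)) := W.ι ≫ a.hom
  let m : CommRingCat.of (B ⊗[A] B) ⟶ CommRingCat.of B :=
    CommRingCat.ofHom (Algebra.TensorProduct.lmul' A : B ⊗[A] B →ₐ[A] B).toRingHom
  have hm : PrinPart.diagCl f ≫ h = Spec.map m := by
    rw [show PrinPart.diagCl f ≫ h = pullback.diagonal f ≫ a.hom from by
      simp only [h]; rw [← Category.assoc, Scheme.Hom.liftCoborder_ι], ← Iso.eq_comp_inv]
    apply pullback.hom_ext
    · rw [pullback.diagonal_fst, Category.assoc, pullbackSpecIso_inv_fst, ← Spec.map_comp]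
      rw [← Spec.map_id]
      congr 1
      ext b; simp [m]
    · rw [pullback.diagonal_snd, Category.assoc, pullbackSpecIso_inv_snd, ← Spec.map_comp]
      rw [← Spec.map_id]
      congr 1
      ext b; simp [m]
  obtain ⟨hs, hk⟩ := surjective_and_ker m h (PrinPart.diagCl f) hm n
  set j := PrinPart.infNbhdι (PrinPart.diagCl f) n ≫ h with hj
  let ρ : B ⊗[A] B →+* Γ(PrinPart.nbhd f n, ⊤) :=
    ((Scheme.ΓSpecIso (CommRingCat.of (B ⊗[A] B))).inv ≫ j.appTop).hom
  obtain ⟨E, hE⟩ := exists_addEquiv (PrinPart.pr1 f n) (PrinPart.pr2 f n) (PrinPart.preimage_pr1 f n ⊤).le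
  have hj' : j = PrinPart.nbhdι f n ≫ a.hom := by
    rw [hj, PrinPart.nbhdι, Category.assoc]
  have k1 : ∀ b : B, ρ (b ⊗ₜ[A] 1) =
      (PrinPart.pr1 f n).appTop ((Scheme.ΓSpecIso (CommRingCat.of B)).inv b) := fun b ↦ by
    have e : PrinPart.pr1 f n = j ≫ Spec.map (CommRingCat.ofHom Algebra.TensorProduct.includeLeftRingHom) := by
      rw [hj', PrinPart.pr1, Category.assoc, pullbackSpecIso_hom_fst]
    rw [e]
    exact (appTop_comp_SpecMap (B := CommRingCat.of B) (R := CommRingCat.of (B ⊗[A] B)) j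
      (CommRingCat.ofHom Algebra.TensorProduct.includeLeftRingHom) b).symm
  have k2 : ∀ b : B, ρ (1 ⊗ₜ[A] b) =
      (PrinPart.pr2 f n).appTop ((Scheme.ΓSpecIso (CommRingCat.of B)).inv b) := fun b ↦ by
    have e : PrinPart.pr2 f n = j ≫ Spec.map (CommRingCat.ofHom
        (Algebra.TensorProduct.includeRight : B →ₐ[A] B ⊗[A] B).toRingHom) := by
      rw [hj', PrinPart.pr2, Category.assoc]
      exact congrArg (PrinPart.nbhdι f n ≫ ·) (pullbackSpecIso_hom_snd A B B).symm
    rw [e]
    exact (appTop_comp_SpecMap (B := CommRingCat.of B) (R := CommRingCat.of (B ⊗[A] B)) j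
      (CommRingCat.ofHom (Algebra.TensorProduct.includeRight : B →ₐ[A] B ⊗[A] B).toRingHom) b).symm
  have key : ∀ x, E (ψ x) = ρ x := fun x ↦ by
    induction x using TensorProduct.induction_on with
    | zero => simp
    | tmul b b' =>
      refine (congrArg E (hψ b b')).trans ((hE _ _).trans ?_)
      rw [← k1, ← k2, ← map_mul, Algebra.TensorProduct.tmul_mul_tmul, _root_.mul_one, _root_.one_mul]
    | add x y hx hy => rw [map_add, map_add, map_add, hx, hy]
  constructor
  · intro y
    obtain ⟨x, hx⟩ := hs (E y)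
    exact ⟨x, E.injective ((key x).trans hx)⟩
  · ext x
    rw [AddMonoidHom.mem_ker, Submodule.mem_toAddSubgroup, ← E.injective.eq_iff, key, map_zero]
    exact SetLike.ext_iff.mp hk x

end Groth.Agent.S5972
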