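import Groth.Statements.S5973
import Groth.Agent.QC.IdealMod
import Groth.Agent.QC.Pullback
import Groth.Agent.HTopV.PhSquare

set_option autoImplicit false
universe u
open CategoryTheory CategoryTheory.Limits AlgebraicGeometry TopologicalSpace Opposite
open Nrm16

set_option backward.isDefEq.respectTransparency false
set_option backward.isDefEq.respectTransparency.types false

namespace Groth.Agent.S5973

theorem isCoh_idealMod_of_fg {X : Scheme.{u}} (I : X.IdealSheafData)
    (h : ∀ W : X.affineOpens, (I.ideal W).FG) : Coh.IsCoh (ClSub.idealMod I) := by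
  have hq := QC.isQCoh_idealMod I
  refine ⟨hq, (QC.isFT_iff_finite_sections (hM := hq)).mpr fun W ↦ ?_⟩
  let φ : Γ(ClSub.idealMod I, W.1) →ₗ[Γ(X, W.1)] Γ(X, W.1) :=
    { toFun := fun s ↦ (ClSub.idealModι I).app W.1 s
      map_add' := fun a b ↦ map_add _ a b
      map_smul' := fun r a ↦ Scheme.Modules.Hom.app_smul _ r a }
  have hinj : Function.Injective φ := QC.app_injective_of_mono (ClSub.idealModι I) W.1
  have hr : LinearMap.range φ = (I.ideal W : Submodule Γ(X, W.1) Γ(X, W.1)) := by
    ext t
    exact QC.mem_range_idealModι_affine I W t
  have : Module.Finite Γ(X, W.1) (LinearMap.range φ) := by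
    rw [hr]; exact Module.Finite.of_fg (h W)
  exact Module.Finite.equiv (LinearEquiv.ofInjective φ hinj).symm

/-- Let f : Y ⟶ X be a closed immersion which is locally of finite presentation. Then for every n the
n-th graded piece Gr_n(f) = I^n/I^(n+1) of the ideal of f, as an O_Y-module, is quasi-coherent of
finite type. (The published statement allows any immersion locally of finite presentation; this row
states the case of a closed immersion.) -/
theorem result {Y X : Scheme.{u}} (f : Y ⟶ X) [IsClosedImmersion f]
    [LocallyOfFinitePresentation f] (n : ℕ) :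
    Coh.IsCoh (PrinPart.grMod f n) := by
  refine QC.isCoh_pullback f (isCoh_idealMod_of_fg _ fun W ↦ ?_)
  rw [Scheme.IdealSheafData.ideal_pow]
  exact (HTopV.fg_ker_ideal f W).pow

end Groth.Agent.S5973
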