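import Groth.Statements.S5977
import Groth.Agent.PrinSheaf.Gen

set_option autoImplicit false
universe u
open CategoryTheory CategoryTheory.Limits AlgebraicGeometry TopologicalSpace Opposite
open Nrm16

set_option backward.isDefEq.respectTransparency false
set_option backward.isDefEq.respectTransparency.types false

namespace Groth.Agent.S5977

set_option maxHeartbeats 800000 in
/-- Let f : Y ⟶ Z be a morphism and j : X ⟶ Y a closed immersion, and let φ : j^* P^n_{Y/Z} ⟶ P^n_{X/Z}
be the canonical O_X-linear map of sheaves of principal parts of order n, the one sending the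
pullback of d^n b to d^n (j♯ b). Then φ is an epimorphism. (The published statement also identifies
the kernel of φ as the ideal generated by the pullback of d^n of the ideal of j; this row states the
surjectivity.) -/
theorem result {X Y Z : Scheme.{u}} (f : Y ⟶ Z) (j : X ⟶ Y) [IsClosedImmersion j] (n : ℕ)
    (φ : (Scheme.Modules.pullback j).obj (PrinPart.P f n) ⟶ PrinPart.P (j ≫ f) n)
    (hφ : PrinPart.IsPMap f (j ≫ f) j n φ) :
    Epi φ := by
  refine ⟨fun {G} a b hab ↦ PrinSheaf.hom_ext_dP (j ≫ f) n a b fun U t ↦ ?_⟩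
  refine QC.section_eq_of_locally fun x hx ↦ ?_
  obtain ⟨O, hO, e⟩ := j.isClosedEmbedding.isInducing.isOpen_iff.mp U.2
  obtain ⟨U', hU', hxU', hle⟩ := exists_isAffineOpen_mem_and_subset (X := Y) (x := j x) (U := ⟨O, hO⟩)
    (show x ∈ j ⁻¹' O by rw [e]; exact hx)
  have hsub : j ⁻¹ᵁ U' ≤ U := fun y hy ↦ by
    have : y ∈ j ⁻¹' O := hle hy
    rwa [e] at this
  refine ⟨j ⁻¹ᵁ U', hsub, hxU', ?_⟩
  rw [QC.app_res, QC.app_res]
  have hres : QC.res (PrinPart.P (j ≫ f) n) hsub (PrinPart.dP (j ≫ f) n _ U t) =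
      PrinPart.dP (j ≫ f) n (Coh.structureModule X) (j ⁻¹ᵁ U') (QC.res (Coh.structureModule X) hsub t) :=
    (PrinPart.dP_map (j ≫ f) n (Coh.structureModule X) hsub t).symm
  rw [hres]
  generalize QC.res (Coh.structureModule X) hsub t = t'
  obtain ⟨s, rfl⟩ : ∃ s : Γ(X, j ⁻¹ᵁ U'), OmegaSh.strSect X _ s = t' := ⟨t', rfl⟩
  obtain ⟨c, rfl⟩ := j.app_surjective U' hU' s
  have h := congr(($hab).app (j ⁻¹ᵁ U') (OmegaSh.pullSect j (PrinPart.P f n) U'
    (PrinPart.dn f n U' c)))
  change a.app _ (φ.app _ _) = b.app _ (φ.app _ _) at h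
  rw [hφ U' c] at h
  exact h

end Groth.Agent.S5977
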