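import Groth.Statements.S5978
import Groth.Agent.DiffOp.Universal
import Groth.Agent.OmegaLib.FiniteType

set_option autoImplicit false
universe u
open CategoryTheory CategoryTheory.Limits AlgebraicGeometry TopologicalSpace Opposite
open Nrm16

namespace Groth.Agent.S5978

/-- Let f : X ⟶ S be a quasi-separated morphism, Ω_{X/S} its sheaf of differentials (the conormal sheaf
of the diagonal) with its derivation d, e : O_X ⟶ P^1_{X/S} the O_X-linear map s ↦ s·1 and ι :
Ω_{X/S} ⟶ P^1_{X/S} the O_X-linear map with ι(d s) = d^1 s − s·1 for every local function s. Then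
the map O_X ⊕ Ω_{X/S} ⟶ P^1_{X/S} induced by e and ι is an isomorphism of O_X-modules for the left
structure of P^1_{X/S}; in other words Ω_{X/S} is identified with the augmentation ideal of
P^1_{X/S} and d s = d^1 s − s. (The published text takes this as the definition of Ω_{X/S} for every
f; here Ω_{X/S} is the conormal sheaf of the diagonal, formed for quasi-separated f, and the
identification is stated.) -/
theorem result {X S : Scheme.{u}} (f : X ⟶ S) [QuasiSeparated f]
    (e : Coh.structureModule X ⟶ PrinPart.P f 1)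
    (he : ∀ (U : X.Opens) (s : Γ(X, U)), e.app U (OmegaSh.strSect X U s) = s • PrinPart.dn f 1 U 1)
    (ι : Omega.sheaf f ⟶ PrinPart.P f 1)
    (hι : ∀ (U : X.Opens) (s : Γ(X, U)),
      ι.app U ((OmegaSh.dOmega f).app U s) = PrinPart.dn f 1 U s - s • PrinPart.dn f 1 U 1) :
    IsIso (coprod.desc e ι) := by
  classical
  let M := Coh.structureModule X
  let d := OmegaSh.dOmega f
  let i₁ : M ⟶ M ⨿ Omega.sheaf f := coprod.inl
  let i₂ : Omega.sheaf f ⟶ M ⨿ Omega.sheaf f := coprod.inr
  have d1 : ∀ U, d.app U 1 = 0 := fun U => by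
    have := OmegaLib.app_mul d U 1 1
    rw [_root_.one_mul, one_smul] at this
    simpa using this.symm
  let D : M.presheaf ⟶ (M ⨿ Omega.sheaf f).presheaf :=
    { app := fun U => AddCommGrpCat.ofHom ((i₁.app U.unop).hom +
        ((i₂.app U.unop).hom.comp ((d.app U.unop).comp (OmegaSh.fnSect X U.unop))))
      naturality := fun U V i => by
        ext t
        show i₁.app V.unop (QC.res M i.unop.le t) + i₂.app V.unop (d.app V.unop (QC.resO X i.unop.le t)) =
          QC.res (M ⨿ Omega.sheaf f) i.unop.le (i₁.app U.unop t + i₂.app U.unop (d.app U.unop t))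
        rw [← OmegaLib.res_app, map_add, QC.app_res, QC.app_res] }
  have hD : ∀ (U : X.Opens) (a : Γ(X, U)),
      D.app (op U) (OmegaSh.strSect X U a) = i₁.app U (OmegaSh.strSect X U a) + i₂.app U (d.app U a) :=
    fun U a => rfl
  have had : ∀ (U : X.Opens) (c a : Γ(X, U)),
      D.app (op U) (c • OmegaSh.strSect X U a) - c • D.app (op U) (OmegaSh.strSect X U a) =
        a • i₂.app U (d.app U c) := fun U c a => by
    rw [← OmegaSh.strSect_mul, hD, hD, OmegaSh.strSect_mul, OmegaLib.app_mul, map_add, Scheme.Modules.Hom.app_smul,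
      Scheme.Modules.Hom.app_smul, Scheme.Modules.Hom.app_smul, smul_add]
    abel
  have hlin : DiffOp.Lin f D := fun V s U hU t => by
    have h := had U (X.presheaf.map (homOfLE hU).op (f.app V s)) (OmegaSh.fnSect X U t)
    rw [show d.app U (X.presheaf.map (homOfLE hU).op (f.app V s)) = 0 from
      (OmegaLib.res_app d hU (f.app V s)).symm.trans (by rw [OmegaLib.app_comp, map_zero]), map_zero, smul_zero,
      sub_eq_zero] at h
    exact h
  obtain ⟨r, hr⟩ := DiffOp.isDiffOpLE_of_ord f 1 hlin fun U ι _ a s hs t => by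
    obtain ⟨i, j, hij, rfl⟩ := Finset.card_eq_two.1 hs
    rw [DiffOp.alt_insert a (by simpa using hij), show ({j} : Finset ι) = insert j ∅ from rfl,
      DiffOp.alt_insert a (Finset.notMem_empty j), DiffOp.alt_empty, DiffOp.ad_apply, DiffOp.ad_apply,
      DiffOp.ad_apply]
    show (D.app (op U) (a i • a j • OmegaSh.strSect X U (OmegaSh.fnSect X U t)) -
        a i • D.app (op U) (a j • OmegaSh.strSect X U (OmegaSh.fnSect X U t))) -
      a j • (D.app (op U) (a i • OmegaSh.strSect X U (OmegaSh.fnSect X U t)) -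
        a i • D.app (op U) (OmegaSh.strSect X U (OmegaSh.fnSect X U t))) = 0
    rw [← OmegaSh.strSect_mul (W := U) (a j), had, had, smul_smul, sub_self]
  have hr' : ∀ (U : X.Opens) (a : Γ(X, U)), r.app U (PrinPart.dn f 1 U a) =
      i₁.app U (OmegaSh.strSect X U a) + i₂.app U (d.app U a) := fun U a => (hr U (OmegaSh.strSect X U a)).symm
  have h1 : e ≫ r = i₁ := by
    ext U t
    obtain ⟨a, rfl⟩ : ∃ a, OmegaSh.strSect X U a = t := ⟨t, rfl⟩
    show r.app U (e.app U (OmegaSh.strSect X U a)) = _
    rw [he, Scheme.Modules.Hom.app_smul, hr', d1, map_zero, add_zero, ← Scheme.Modules.Hom.app_smul,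
      ← OmegaSh.strSect_mul, _root_.mul_one]
  have h2 : ι ≫ r = i₂ := by
    refine (OmegaLib.isUniversal_dOmega f (M ⨿ Omega.sheaf f) (d.postcomp i₂.val)).unique
      (OmegaLib.der_ext fun U a => ?_) rfl
    rw [OmegaLib.postcomp_app, OmegaLib.postcomp_app]
    show r.app U (ι.app U (d.app U a)) = _
    rw [hι, map_sub, Scheme.Modules.Hom.app_smul, hr', hr', d1, map_zero, add_zero,
      ← Scheme.Modules.Hom.app_smul, ← OmegaSh.strSect_mul, _root_.mul_one]
    abel
  refine ⟨⟨r, ?_, ?_⟩⟩
  · refine coprod.hom_ext ?_ ?_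
    · rw [coprod.inl_desc_assoc, h1, Category.comp_id]
    · rw [coprod.inr_desc_assoc, h2, Category.comp_id]
  · refine PrinSheaf.hom_ext_dP f 1 _ _ fun U t => ?_
    obtain ⟨a, rfl⟩ : ∃ a, OmegaSh.strSect X U a = t := ⟨t, rfl⟩
    show (coprod.desc e ι).app U (r.app U (PrinPart.dn f 1 U a)) = PrinPart.dn f 1 U a
    rw [hr', map_add]
    show (i₁ ≫ coprod.desc e ι).app U _ + (i₂ ≫ coprod.desc e ι).app U _ = _
    rw [coprod.inl_desc, coprod.inr_desc, he, hι]
    abel

end Groth.Agent.S5978
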