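import Groth.Statements.S5979
import Groth.Agent.QC.PullSect

set_option autoImplicit false
set_option linter.style.haveILetI false
set_option backward.isDefEq.respectTransparency false
open Groth.Agent
universe u
open CategoryTheory CategoryTheory.Limits AlgebraicGeometry TopologicalSpace Opposite
open Nrm16

namespace Groth.Agent.S5979

/-- Let f : X ⟶ S be a morphism of schemes and F an O_X-module. For every open U of X the canonical
operator d^0 : Γ(U, F) ⟶ Γ(U, P^0_{X/S}(F)) is bijective; so P^0_{X/S}(F) is identified with F, and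
P^0_{X/S} with O_X, through d^0. -/
theorem result {X S : Scheme.{u}} (f : X ⟶ S) (F : X.Modules) (U : X.Opens) :
    Function.Bijective (PrinPart.dP f 0 F U) := by
  haveI h1 : IsIso (PrinPart.toNbhd f 0) := by
    show IsIso ((PrinPart.diagCl f).toImage ≫ Scheme.IdealSheafData.inclusion (PrinPart.ker_pow_succ_le (PrinPart.diagCl f) 0))
    haveI : ∀ (I J : Scheme.IdealSheafData (pullback.diagonal f).coborderRange.toScheme) (h : I ≤ J) (e : I = J),
        IsIso (Scheme.IdealSheafData.inclusion h) := by
      intro I J h e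
      subst e
      rw [Scheme.IdealSheafData.inclusion_id]
      infer_instance
    haveI := this _ _ (PrinPart.ker_pow_succ_le (PrinPart.diagCl f) 0) (by rw [zero_add, pow_one])
    infer_instance
  haveI : IsIso (PrinPart.pr2 f 0) :=
    IsIso.of_isIso_fac_left (PrinPart.toNbhd_pr2 f 0)
  have h2 : Function.Bijective (OmegaSh.pullSect (PrinPart.pr2 f 0) F U).hom := by
    have h3 : (PrinPart.pr2 f 0) ''ᵁ ((PrinPart.pr2 f 0) ⁻¹ᵁ U) = U := by
      rw [Scheme.Hom.image_preimage_eq_opensRange_inf, Scheme.Hom.opensRange_of_isIso, top_inf_eq]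
    have hfun : ((OmegaSh.pullSect (PrinPart.pr2 f 0) F U).hom : _ → _) =
        (((Scheme.Modules.restrictFunctorIsoPullback (PrinPart.pr2 f 0)).hom.app F).app
            (PrinPart.pr2 f 0 ⁻¹ᵁ U)).hom ∘
          (F.presheaf.map (homOfLE ((PrinPart.pr2 f 0).image_preimage_le U)).op).hom := by
      funext t
      exact (QC.restrictIso_hom_pullSect (PrinPart.pr2 f 0) F U t).symm
    rw [hfun]
    haveI : IsIso (homOfLE ((PrinPart.pr2 f 0).image_preimage_le U)) :=
      ⟨homOfLE h3.ge, Subsingleton.elim _ _, Subsingleton.elim _ _⟩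
    exact (ConcreteCategory.bijective_of_isIso
        (((Scheme.Modules.restrictFunctorIsoPullback (PrinPart.pr2 f 0)).hom.app F).app
          (PrinPart.pr2 f 0 ⁻¹ᵁ U))).comp
      (ConcreteCategory.bijective_of_isIso
        (F.presheaf.map (homOfLE ((PrinPart.pr2 f 0).image_preimage_le U)).op))
  haveI : IsIso (homOfLE (PrinPart.preimage_pr1 f 0 U).le) :=
    ⟨homOfLE (PrinPart.preimage_pr1 f 0 U).ge, Subsingleton.elim _ _, Subsingleton.elim _ _⟩
  exact (ConcreteCategory.bijective_of_isIso
      (((Scheme.Modules.pullback (PrinPart.pr2 f 0)).obj F).presheaf.map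
        (homOfLE (PrinPart.preimage_pr1 f 0 U).le).op)).comp h2

end Groth.Agent.S5979
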