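import Groth.Statements.S5980
import Groth.Agent.Conormal.Maps
import Groth.Agent.OmegaLib.FiniteType

set_option autoImplicit false
set_option linter.style.haveILetI false
set_option backward.isDefEq.respectTransparency false
open Groth.Agent
universe u
open CategoryTheory CategoryTheory.Limits AlgebraicGeometry TopologicalSpace Opposite
open Nrm16

namespace Groth.Agent.S5980

/-- Consider a point y of Y and an immersion j : Y ⟶ X that is quasi-compact and locally of finite
presentation. The stalk at y of the conormal sheaf N_{Y/X} = I/I² is zero exactly when y has an open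
neighbourhood U in Y on which the restriction of j is an open immersion. (The published statement
covers every immersion locally of finite presentation. Here j is additionally assumed quasi-compact,
since in that case the conormal sheaf used here is the one attached to j.) -/
theorem result {Y X : Scheme.{u}} (j : Y ⟶ X) [IsImmersion j]
    [QuasiCompact j] [LocallyOfFinitePresentation j] (y : Y) :
    (∃ U : Y.Opens, y ∈ U ∧ IsOpenImmersion (U.ι ≫ j)) ↔
      Subsingleton ((Omega.conormal j).presheaf.stalk y) := by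
  classical
  constructor
  · rintro ⟨U, hyU, hU⟩
    refine subsingleton_of_forall_eq 0 fun σ => ?_
    obtain ⟨W, hyW, s, rfl⟩ := TopCat.Presheaf.exists_germ_eq (Omega.conormal j).presheaf (x := y) σ
    obtain ⟨V, hV, hyV, hVR, hVW⟩ := Conormal.exists_chart_le j y (W ⊓ U) ⟨hyW, hyU⟩ (U.ι ≫ j).opensRange
      ⟨⟨y, hyU⟩, rfl⟩
    have hinj : Function.Injective (j.app V).hom := by
      have h1 : IsIso ((U.ι ≫ j).app V) := (U.ι ≫ j).isIso_app V hVR
      have h2 : Function.Injective ((U.ι ≫ j).app V) := (ConcreteCategory.bijective_of_isIso _).1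
      rw [Scheme.Hom.comp_app] at h2
      exact fun a b h => h2 (congrArg (U.ι.app (j ⁻¹ᵁ V)) h)
    obtain ⟨t, ht⟩ := Conormal.conormalSect_surjective j hV
      (QC.res (Omega.conormal j) (fun z hz => (hVW hz).1) s)
    have h0 : OmegaSh.idealSect j.ker V t = 0 :=
      hinj ((Conormal.app_idealSect j V t).trans (map_zero _).symm)
    have ht0 : OmegaSh.conormalSect j V t = 0 :=
      (Conormal.conormalSect_eq_zero_iff j hV t).mpr (h0 ▸ Submodule.zero_mem _)
    have hres : QC.res (Omega.conormal j) (show j ⁻¹ᵁ V ≤ W from fun z hz => (hVW hz).1) s = 0 := ht.symm.trans ht0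
    rw [← TopCat.Presheaf.germ_res_apply (Omega.conormal j).presheaf
      (homOfLE (show j ⁻¹ᵁ V ≤ W from fun z hz => (hVW hz).1)) y hyV s]
    exact (congrArg _ hres).trans (map_zero _)
  · intro hsub
    obtain ⟨V, hV, hyV, -⟩ := Conormal.exists_chart j y ⊤ trivial
    have hfp : (j.app V).hom.FinitePresentation := by
      rw [Scheme.Hom.app_eq_appLE]
      exact HasRingHomProperty.appLE @LocallyOfFinitePresentation j inferInstance ⟨V, hV.affine⟩
        ⟨j ⁻¹ᵁ V, hV.preimage⟩ le_rfl
    obtain ⟨G, hG⟩ : (RingHom.ker (j.app V).hom).FG := by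
      letI : Algebra Γ(X, V) Γ(Y, j ⁻¹ᵁ V) := (j.app V).hom.toAlgebra
      haveI : Algebra.FinitePresentation Γ(X, V) Γ(Y, j ⁻¹ᵁ V) := hfp
      exact Algebra.FinitePresentation.ker_fG_of_surjective (Algebra.ofId Γ(X, V) Γ(Y, j ⁻¹ᵁ V)) hV.surjective
    have hGk : ∀ g ∈ G, j.app V g = 0 := fun g hg => hG.le (Ideal.subset_span hg)
    choose s hs using fun g : G => Conormal.exists_idealSect j V g.1 (hGk g.1 g.2)
    have hloc : ∀ g : G, ∃ O : Y.Opens, y ∈ O ∧ ∃ h : O ≤ j ⁻¹ᵁ V,
        QC.res (Omega.conormal j) h (OmegaSh.conormalSect j V (s g)) = 0 := by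
      intro g
      have h := hsub.elim (TopCat.Presheaf.germ (Omega.conormal j).presheaf (j ⁻¹ᵁ V) y hyV
        (OmegaSh.conormalSect j V (s g))) (TopCat.Presheaf.germ (Omega.conormal j).presheaf (j ⁻¹ᵁ V) y hyV 0)
      obtain ⟨O, hO, i₁, i₂, he⟩ := TopCat.Presheaf.germ_eq (Omega.conormal j).presheaf y hyV hyV _ _ h
      exact ⟨O, hO, i₁.le, he.trans (map_zero _)⟩
    choose O hyO hO hO0 using hloc
    obtain ⟨W, hW, hyW, hWV, hWO⟩ := Conormal.exists_chart_le j y (Finset.univ.inf O)
      (Finset.inf_induction (p := fun P : Y.Opens => y ∈ P) trivial (fun a ha b hb => ⟨ha, hb⟩)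
        fun g _ => hyO g) V hyV
    let K := RingHom.ker (j.app W).hom
    have hK : K = Ideal.span ((QC.resO X hWV) '' G) := by
      show RingHom.ker (j.app W).hom = _
      rw [hV.ker_eq_map hW.affine hWV, ← hG, Ideal.map_span]
    have hsq : K ≤ K ^ 2 := by
      rw [hK, Ideal.span_le, ← hK]
      rintro _ ⟨g, hg, rfl⟩
      have h1 : OmegaSh.conormalSect j W (QC.res (ClSub.idealMod j.ker) hWV (s ⟨g, hg⟩)) = 0 := by
        rw [← Conormal.res_conormalSect]
        have hle : j ⁻¹ᵁ W ≤ O ⟨g, hg⟩ := hWO.trans (Finset.inf_le (Finset.mem_univ _))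
        rw [← QC.res_res (Omega.conormal j) hle (hO ⟨g, hg⟩), hO0, map_zero]
      have h2 := (Conormal.conormalSect_eq_zero_iff j hW _).mp h1
      rw [Conormal.idealSect_res, hs] at h2
      exact h2
    have hidem : IsIdempotentElem K := le_antisymm Ideal.mul_le_left ((sq K) ▸ hsq)
    obtain ⟨e, he, hKe⟩ := (K.isIdempotentElem_iff_of_fg
      ⟨(G.image (QC.resO X hWV)), by rw [Finset.coe_image]; exact hK.symm⟩).mp hidem
    let W₁ := X.basicOpen (1 - e)
    have hW₁ : W₁ ≤ W := X.basicOpen_le _
    have hjy : j y ∈ W₁ := by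
      have h : y ∈ Y.basicOpen (j.app W (1 - e)) := by
        have he0 : j.app W e = 0 := (hKe.ge (Submodule.mem_span_singleton_self e) :)
        rw [map_sub, map_one, he0, sub_zero, Scheme.basicOpen_of_isUnit _ isUnit_one]
        exact hyW
      rw [← Scheme.preimage_basicOpen] at h
      exact h
    have hC := hW.of_le (hW.affine.basicOpen _) hW₁
    have hinj : Function.Injective (j.app W₁).hom := by
      rw [injective_iff_map_eq_zero]
      intro a ha
      have hm : a ∈ RingHom.ker (j.app W₁).hom := ha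
      rw [hW.ker_eq_map (hW.affine.basicOpen _) hW₁, show RingHom.ker (j.app W).hom = Ideal.span {e} from hKe,
        Ideal.map_span, Set.image_singleton] at hm
      have hu : IsUnit (QC.resO X hW₁ (1 - e)) := RingedSpace.isUnit_res_basicOpen _ _
      have h0 : QC.resO X hW₁ e = 0 := by
        rw [← hu.mul_right_eq_zero, ← map_mul, sub_mul, one_mul, he.eq, sub_self, map_zero]
      rw [h0, Ideal.mem_span_singleton, zero_dvd_iff] at hm
      exact hm
    haveI : IsIso (j.app W₁) :=
      (ConcreteCategory.isIso_iff_bijective _).mpr ⟨hinj, hC.surjective⟩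
    haveI : IsAffine (W₁ : Scheme.{u}) := hC.affine
    haveI : IsIso (j ∣_ W₁) := by
      show MorphismProperty.isomorphisms Scheme (j ∣_ W₁)
      rw [HasAffineProperty.iff_of_isAffine (P := MorphismProperty.isomorphisms Scheme)]
      refine ⟨hC.preimage, ?_⟩
      rw [Scheme.Hom.appTop, morphismRestrict_app]
      haveI : IsIso (j.app (W₁.ι ''ᵁ ⊤)) := by rw [W₁.ι_image_top]; infer_instance
      infer_instance
    refine ⟨j ⁻¹ᵁ W₁, hjy, ?_⟩
    rw [← morphismRestrict_ι]
    infer_instance

end Groth.Agent.S5980
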