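import Groth.Statements.S5985
-- import your own Groth.Agent.* helpers here
import Groth.Agent.TwConst.EtaleNbhd

set_option autoImplicit false
universe u
open CategoryTheory AlgebraicGeometry
open Unram

namespace Groth.Agent.S5985

/-- Let f : X ⟶ Y be separated and locally of finite type, and y a point of Y whose fibre f⁻¹(y) is
finite (hence discrete). Then there are an étale morphism g : Y' ⟶ Y, a point y' of Y' with g(y') =
y inducing an isomorphism of residue fields κ(y) ≅ κ(y'), and two complementary open subschemes V, W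
of X' = X ×_Y Y' such that V ⟶ Y' is finite and W contains no point of X' lying over y'. -/
theorem result {X Y : Scheme.{u}} (f : X ⟶ Y)
    [LocallyOfFiniteType f] [IsSeparated f] (y : Y) (hfin : (f ⁻¹' {y}).Finite) :
    ∃ (Y' : Scheme.{u}) (g : Y' ⟶ Y) (y' : Y'), Etale g ∧ g y' = y ∧
      IsIso (g.residueFieldMap y') ∧
      ∃ (V W : (Limits.pullback f g).Opens), IsCompl V W ∧
        IsFinite (V.ι ≫ Limits.pullback.snd f g) ∧
        ∀ x : ↥(Limits.pullback f g), Limits.pullback.snd f g x = y' → x ∈ V := by
  obtain ⟨Y', g, y', h1, h2, h3, V, h4, h5, h6⟩ := TwConst.exists_nbhd_finite_fibre f y hfin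
  exact ⟨Y', g, y', h1, h2, h3, V, ⟨(V : Set _)ᶜ, h4.isOpen_compl⟩,
    by simp [isCompl_iff, disjoint_iff, codisjoint_iff, SetLike.ext'_iff], h5, h6⟩

end Groth.Agent.S5985
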