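import Groth.Statements.S5987
import Groth.Agent.ParamSemiLoc.Basic
import Groth.Agent.CMSop.Sop

set_option autoImplicit false
universe u
open EGA418

namespace Groth.Agent.S5987

open IsLocalRing ParamSemiLoc

variable {A : Type u} [CommRing A] [IsNoetherianRing A] [IsLocalRing A]

/-- One step: an element congruent to a unit times `τ` modulo `I A_p`, avoiding all minimal primes of `I`. -/
theorem exists_step (p : Ideal A) [p.IsPrime] (I : Ideal A) (hI : I ≤ p) (τ : Localization.AtPrime p)
    (hτ : τ ∈ maximalIdeal (Localization.AtPrime p))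
    (hreg : IsSMulRegular (Localization.AtPrime p ⧸ I.map (algebraMap A (Localization.AtPrime p))) τ) :
    ∃ x c : A, x ∈ p ∧ c ∉ p ∧ (∀ Q ∈ I.minimalPrimes, x ∉ Q) ∧
      algebraMap A (Localization.AtPrime p) x - algebraMap A (Localization.AtPrime p) c * τ ∈
        I.map (algebraMap A (Localization.AtPrime p)) := by
  classical
  set f := algebraMap A (Localization.AtPrime p)
  obtain ⟨⟨b, c⟩, hbc⟩ := IsLocalization.surj p.primeCompl τ
  simp only at hbc
  have hb : b ∈ p := by
    rw [← IsLocalization.AtPrime.to_map_mem_maximal_iff (Localization.AtPrime p) p b, ← hbc]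
    exact Ideal.mul_mem_right _ _ hτ
  set N := (I.map f).comap f
  have hN : N ≤ p := fun w hw => by
    rw [← IsLocalization.AtPrime.to_map_mem_maximal_iff (Localization.AtPrime p) p w]
    have hmap : I.map f ≤ maximalIdeal (Localization.AtPrime p) := Ideal.map_le_iff_le_comap.2 fun z hz =>
      (IsLocalization.AtPrime.to_map_mem_maximal_iff (Localization.AtPrime p) p z).2 (hI hz)
    exact hmap hw
  have hnp : ∀ Q ∈ I.minimalPrimes, b ∈ Q → ¬ Q ≤ p := fun Q hQ hbQ hle => by
    have hdis : Disjoint (p.primeCompl : Set A) Q := Set.disjoint_left.2 fun w hw hwQ => hw (hle hwQ)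
    have hmin : Q.map f ∈ (I.map f).minimalPrimes := by
      rw [IsLocalization.minimalPrimes_map p.primeCompl]
      show (Q.map f).comap f ∈ I.minimalPrimes
      rwa [show (Q.map f).comap f = Q from
        IsLocalization.under_map_of_isPrime_disjoint p.primeCompl (Localization.AtPrime p) hQ.1.1 hdis]
    refine IsSMulRegular.notMem_of_mem_minimalPrimes hreg (by rwa [Ideal.annihilator_quotient]) ?_
    haveI : (Q.map f).IsPrime := hmin.1.1
    refine (Ideal.IsPrime.mem_or_mem ‹(Q.map f).IsPrime› (show τ * f c ∈ Q.map f by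
      rw [hbc]; exact Ideal.mem_map_of_mem _ hbQ)).resolve_right fun h => ?_
    exact ‹(Q.map f).IsPrime›.ne_top (Ideal.eq_top_of_isUnit_mem _ h (IsLocalization.map_units _ c))
  have hNQ : ∀ Q ∈ I.minimalPrimes, ¬ Q ≤ p → ¬ N ≤ Q := fun Q hQ hle hNle => by
    obtain ⟨q, hq, hqp⟩ := Set.not_subset.1 hle
    have hQN : Q ∈ N.minimalPrimes := ⟨⟨hQ.1.1, hNle⟩, fun J hJ hJQ =>
      hQ.2 ⟨hJ.1, (Ideal.le_comap_map).trans hJ.2⟩ hJQ⟩
    obtain ⟨y, hy, hqy⟩ := Ideal.exists_mul_mem_of_mem_minimalPrimes hQN hq
    refine hy ?_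
    have hu : IsUnit (f q) := IsLocalization.map_units _ (⟨q, hqp⟩ : p.primeCompl)
    have : f q * f y ∈ I.map f := by rw [← map_mul]; exact hqy
    exact (Ideal.unit_mul_mem_iff_mem _ hu).1 this
  set S := I.finite_minimalPrimes_of_isNoetherianRing.toFinset
  set B := S.filter fun Q => b ∈ Q
  set G := S.filter fun Q => b ∉ Q
  obtain ⟨w, hwN, hwG, hwB⟩ : ∃ w ∈ N, w ∈ G.inf id ∧ ∀ Q ∈ B, w ∉ Q := by
    by_contra hne
    push Not at hne
    have hsub : ((N ⊓ G.inf id : Ideal A) : Set A) ⊆ ⋃ Q ∈ (B : Set (Ideal A)), ↑Q := by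
      intro w hw
      obtain ⟨Q, h1, h2⟩ := hne w hw.1 hw.2
      exact Set.mem_biUnion h1 h2
    obtain ⟨Q, hQ, hle⟩ := (Ideal.subset_union_prime ⊥ ⊥ fun Q hQ _ _ =>
      (I.finite_minimalPrimes_of_isNoetherianRing.mem_toFinset.1 (Finset.mem_filter.1 hQ).1).1.1).1 hsub
    obtain ⟨hQS, hbQ⟩ := Finset.mem_filter.1 hQ
    have hQm := I.finite_minimalPrimes_of_isNoetherianRing.mem_toFinset.1 hQS
    rcases hQm.1.1.inf_le.1 hle with h | h
    · exact hNQ Q hQm (hnp Q hQm hbQ) h
    · obtain ⟨Q', hQ', hle'⟩ := hQm.1.1.inf_le'.1 h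
      obtain ⟨hQS', hbQ'⟩ := Finset.mem_filter.1 hQ'
      have hQm' := I.finite_minimalPrimes_of_isNoetherianRing.mem_toFinset.1 hQS'
      exact hbQ' (hQm.2 hQm'.1 hle' hbQ)
  refine ⟨b + w, c, Ideal.add_mem _ hb (hN hwN), c.2, fun Q hQ h => ?_, ?_⟩
  · have hQS : Q ∈ S := I.finite_minimalPrimes_of_isNoetherianRing.mem_toFinset.2 hQ
    by_cases hbQ : b ∈ Q
    · exact hwB Q (Finset.mem_filter.2 ⟨hQS, hbQ⟩) ((Ideal.add_mem_iff_right _ hbQ).1 h)
    · have hwQ : w ∈ Q := (Finset.inf_le (f := id) (Finset.mem_filter.2 ⟨hQS, hbQ⟩) : G.inf id ≤ id Q) hwG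
      exact hbQ ((Ideal.add_mem_iff_left _ hwQ).1 h)
  · rw [map_add, ← hbc, mul_comm τ, add_sub_cancel_left]
    exact hwN

/-- Let A be a Noetherian local ring and p a prime ideal of A such that the local ring A_p is
Cohen–Macaulay, of dimension s; let t_1, …, t_s be a system of parameters of A_p (elements of its
maximal ideal such that A_p/(t_1, …, t_s) has dimension 0). Then there are elements x_1, …, x_s of p
which form part of a system of parameters of A, in the sense that dim A/(x_1, …, x_s) + s = dim A,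
and elements a_1, …, a_s of A outside p, such that for every i the image of x_i in A_p is congruent
to a_i t_i modulo the ideal (t_1, …, t_{i-1}) A_p. (The published statement asks for the image of
x_i to be congruent to t_i itself; this row allows the factor a_i outside p, which is what the
published proof gives, since it first multiplies each t_i by a unit of A_p to bring it into the
image of A. The published form fails already for s = 1: for A the localization of k[X, Y] at (X, Y),
p = (X) and t_1 = X/Y, the congruence modulo the zero ideal asks for an element of A with image X/Y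
in A_p, and there is none.) -/
theorem result (A : Type u) [CommRing A]
    [IsNoetherianRing A] [IsLocalRing A] (p : Ideal A) [p.IsPrime]
    [LocCoh.IsCohenMacaulayLocalRing (Localization.AtPrime p)] (s : ℕ)
    (hs : ringKrullDim (Localization.AtPrime p) = s) (t : Fin s → Localization.AtPrime p)
    (ht : ∀ i, t i ∈ IsLocalRing.maximalIdeal (Localization.AtPrime p))
    (hsop : ringKrullDim (Localization.AtPrime p ⧸ Ideal.span (Set.range t)) = 0) :
    ∃ x a : Fin s → A, (∀ i, x i ∈ p) ∧ (∀ i, a i ∉ p) ∧
      ringKrullDim (A ⧸ Ideal.span (Set.range x)) + (s : WithBot ℕ∞) = ringKrullDim A ∧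
      ∀ i : Fin s, algebraMap A (Localization.AtPrime p) (x i) -
          algebraMap A (Localization.AtPrime p) (a i) * t i ∈
        Ideal.span (t '' {j : Fin s | j < i}) := by
  classical
  set f := algebraMap A (Localization.AtPrime p)
  obtain ⟨D, hD⟩ := WithBot.ne_bot_iff_exists.1 (ringKrullDim_ne_bot (R := A))
  obtain ⟨d, rfl⟩ := ENat.ne_top_iff_exists.1 (show D ≠ ⊤ from fun h => ringKrullDim_ne_top (R := A) (by rw [← hD, h]; rfl))
  have hsop' : CMSop.IsSop t := by
    haveI : Nontrivial (Localization.AtPrime p ⧸ Ideal.span (Set.range t)) := by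
      by_contra hc
      rw [not_nontrivial_iff_subsingleton] at hc
      rw [ringKrullDim_eq_bot_of_subsingleton] at hsop
      exact WithBot.bot_ne_zero hsop
    refine le_antisymm ((Ideal.IsPrime.radical_le_iff inferInstance).2
      (Ideal.span_le.2 (by rintro _ ⟨i, rfl⟩; exact ht i))) ?_
    rw [Ideal.radical_eq_sInf]
    refine le_sInf fun J ⟨hJ, hJp⟩ => ?_
    have hl := (ringKrullDim_quotient_le_iff _ 0).1 (le_of_eq hsop)
    by_contra hne
    have hlt : J < maximalIdeal _ := lt_of_le_of_ne (le_maximalIdeal hJp.ne_top) fun h => hne h.ge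
    have := hl ((RelSeries.singleton _ (closedPoint (Localization.AtPrime p))).cons ⟨J, hJp⟩
      (show (⟨J, hJp⟩ : PrimeSpectrum _) < closedPoint _ from hlt)) (by rw [RelSeries.head_cons]; exact hJ)
    simp at this
  have hdep := LocCoh.IsCohenMacaulayLocalRing.supportDim_eq_depth (R := Localization.AtPrime p)
  rw [Module.supportDim_self_eq_ringKrullDim, hs] at hdep
  have hR := CMSop.hasRegSeq_of_depth (n := s) (le_of_eq (WithBot.coe_inj.1 hdep))
  have key : ∀ i ≤ s, ∃ x a : Fin i → A, (∀ j, x j ∈ p) ∧ (∀ j, a j ∉ p) ∧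
      (Ideal.span (Set.range x)).map f = Ideal.span (t '' {j : Fin s | j.1 < i}) ∧
      (∀ (j : Fin i) (k : Fin s), k.1 = j.1 → f (x j) - f (a j) * t k ∈ Ideal.span (t '' {l : Fin s | l < k})) ∧
      i ≤ d ∧ ringKrullDim (A ⧸ Ideal.span (Set.range x)) ≤ ((d - i : ℕ) : WithBot ℕ∞) := by
    intro i
    induction i with
    | zero =>
      intro _
      exact ⟨Fin.elim0, Fin.elim0, fun j => j.elim0, fun j => j.elim0, by simp, fun j => j.elim0, d.zero_le,
        (ringKrullDim_quotient_le _).trans (le_of_eq hD.symm)⟩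
    | succ i ih =>
      intro hi
      obtain ⟨x, a, hxp, hap, hmap, hcong, hid, hdim⟩ := ih (Nat.le_of_succ_le hi)
      set k : Fin s := ⟨i, hi⟩
      have hIp : Ideal.span (Set.range x) ≤ p := Ideal.span_le.2 (by rintro _ ⟨j, rfl⟩; exact hxp j)
      have hreg : IsSMulRegular (Localization.AtPrime p ⧸ (Ideal.span (Set.range x)).map f) (t k) := by
        rw [hmap]
        have h := CMSop.isSMulRegular_quotient_of_hasRegSeq hsop' (Finset.univ.filter fun j : Fin s => j.1 < i) k
          (by simp [k]) (CMSop.hasRegSeq_quotient hsop' hR _)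
        rwa [Finset.coe_filter, show {j : Fin s | j ∈ Finset.univ ∧ j.1 < i} = {j : Fin s | j.1 < i} by simp] at h
      obtain ⟨y, c, hy, hc, havoid, hyc⟩ := exists_step p _ hIp (t k) (ht k) hreg
      have hpos : i < d := by
        by_contra hle
        rw [show d - i = 0 by omega] at hdim
        have hIm : Ideal.span (Set.range x) ≤ maximalIdeal A := hIp.trans (le_maximalIdeal (Ideal.IsPrime.ne_top ‹_›))
        obtain ⟨Q, hQ, hQm⟩ := Ideal.exists_minimalPrimes_le hIm
        have hlt : Q < maximalIdeal A := lt_of_le_of_ne hQm fun h =>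
          havoid Q hQ (by rw [h]; exact le_maximalIdeal (Ideal.IsPrime.ne_top ‹_›) hy)
        have hl := (ringKrullDim_quotient_le_iff _ 0).1 hdim
          ((RelSeries.singleton _ (closedPoint A)).cons ⟨Q, hQ.1.1⟩
            (show (⟨Q, hQ.1.1⟩ : PrimeSpectrum A) < closedPoint A from hlt))
          (by rw [RelSeries.head_cons]; exact hQ.1.2)
        simp at hl
      have hset : t '' {j : Fin s | j.1 < i + 1} = insert (t k) (t '' {j : Fin s | j.1 < i}) := by
        rw [← Set.image_insert_eq]
        congr 1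
        ext j
        simp only [k, Set.mem_ofPred_eq, Set.mem_insert_iff, Fin.ext_iff]
        omega
      refine ⟨Fin.snoc x y, Fin.snoc a c, Fin.lastCases (by simpa using hy) (fun j => by simpa using hxp j),
        Fin.lastCases (by simpa using hc) (fun j => by simpa using hap j), ?_, ?_, hpos, ?_⟩
      · have hu : IsUnit (f c) := IsLocalization.map_units _ (⟨c, hc⟩ : p.primeCompl)
        rw [hmap] at hyc
        rw [hset, Fin.range_snoc, Ideal.span_insert, Ideal.map_sup, hmap, Ideal.map_span, Set.image_singleton,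
          Ideal.span_insert]
        refine le_antisymm (sup_le ?_ le_sup_right) (sup_le ?_ le_sup_right)
        · rw [Ideal.span_singleton_le_iff_mem, ← sub_add_cancel (f y) (f c * t k)]
          exact Ideal.add_mem _ (Ideal.mem_sup_right hyc)
            (Ideal.mul_mem_left _ _ (Ideal.mem_sup_left (Ideal.mem_span_singleton_self _)))
        · rw [Ideal.span_singleton_le_iff_mem, ← Ideal.unit_mul_mem_iff_mem _ hu,
            show f c * t k = f y - (f y - f c * t k) by ring]
          exact Ideal.sub_mem _ (Ideal.mem_sup_left (Ideal.mem_span_singleton_self _)) (Ideal.mem_sup_right hyc)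
      · intro j k' hk'
        induction j using Fin.lastCases with
        | last =>
          obtain rfl : k' = k := Fin.ext (by simpa [k] using hk')
          rw [hmap] at hyc
          simpa [k, Fin.lt_def] using hyc
        | cast j =>
          simp only [Fin.snoc_castSucc]
          exact hcong j k' (by simpa using hk')
      · rw [Fin.range_snoc, Ideal.span_insert, sup_comm]
        refine ringKrullDim_quotient_sup_span_le (fun Q hQ _ => havoid Q hQ) ?_
        rwa [show d - (i + 1) + 1 = d - i by omega]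
  obtain ⟨x, a, hxp, hap, -, hcong, hsd, hdim⟩ := key s le_rfl
  refine ⟨x, a, hxp, hap, le_antisymm ?_ ?_, fun i => hcong i i rfl⟩
  · refine (add_le_add hdim le_rfl).trans (le_of_eq ?_)
    rw [← hD, ← Nat.cast_add, Nat.sub_add_cancel hsd]
    rfl
  · have hbot : (⊥ : Ideal A) ⊔ Ideal.ofList (List.ofFn x) = Ideal.span (Set.range x) := by
      rw [bot_sup_eq, Ideal.ofList]
      congr 1
      ext z
      simp [List.mem_ofFn]
    have h := ringKrullDim_quotient_le_add (List.ofFn x) ⊥ fun z hz => by
      obtain ⟨j, rfl⟩ := List.mem_ofFn.1 hz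
      rw [IsLocalRing.ringJacobson_eq_maximalIdeal]
      exact le_maximalIdeal (Ideal.IsPrime.ne_top ‹_›) (hxp j)
    rw [hbot, List.length_ofFn, ringKrullDim_eq_of_ringEquiv (RingEquiv.quotientBot A)] at h
    exact h

end Groth.Agent.S5987
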