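import Groth.Statements.S5993
-- import your own Groth.Agent.* helpers here
import Groth.Agent.EGA418Base.Semilocal

set_option autoImplicit false
universe u
open scoped TensorProduct
open EGA418

namespace Groth.Agent.S5993

/-- Let k be a field, A a complete Noetherian local k-algebra with maximal ideal m whose residue field
is a finite extension of k, k' an extension field of k, I the ideal of A ⊗_k k' generated by m, and
A' the completed tensor product of A and k' over k, namely the I-adic completion of A ⊗_k k'. Then
A' is a Noetherian ring with finitely many maximal ideals, complete and separated for the ideal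
generated by m, and for every maximal ideal M of A' the local ring A'_M is complete, faithfully flat
over A, of the same dimension as A, and has residue field finite over k'. -/
theorem result (k A k' : Type u) [Field k]
    [CommRing A] [IsNoetherianRing A] [IsLocalRing A] [Algebra k A]
    [IsAdicComplete (IsLocalRing.maximalIdeal A) A] [Module.Finite k (IsLocalRing.ResidueField A)]
    [Field k'] [Algebra k k'] (I : Ideal (A ⊗[k] k'))
    (hI : I = (IsLocalRing.maximalIdeal A).map (algebraMap A (A ⊗[k] k'))) :
    IsNoetherianRing (AdicCompletion I (A ⊗[k] k')) ∧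
      Finite (MaximalSpectrum (AdicCompletion I (A ⊗[k] k'))) ∧
      IsAdicComplete ((IsLocalRing.maximalIdeal A).map (algebraMap A (AdicCompletion I (A ⊗[k] k'))))
        (AdicCompletion I (A ⊗[k] k')) ∧
      ∀ M : MaximalSpectrum (AdicCompletion I (A ⊗[k] k')),
        IsAdicComplete (IsLocalRing.maximalIdeal (Localization.AtPrime M.asIdeal))
            (Localization.AtPrime M.asIdeal) ∧
          Module.FaithfullyFlat A (Localization.AtPrime M.asIdeal) ∧
          ringKrullDim (Localization.AtPrime M.asIdeal) = ringKrullDim A ∧
          (((Ideal.Quotient.mk M.asIdeal).comp (algebraMap (A ⊗[k] k') (AdicCompletion I (A ⊗[k] k')))).comp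
              Algebra.TensorProduct.includeRight.toRingHom).Finite := by
  open IsLocalRing EGA418Base in
  classical
  subst hI
  obtain ⟨d, hd⟩ := SerreReg.exists_dim_nat A
  obtain ⟨i1, i2, i3⟩ := exists_presentation k A d hd
  letI := i1
  haveI := i2
  haveI := i3
  obtain ⟨e, he⟩ := exists_completion_equiv k k' d A
  let P' := MvPowerSeries (Fin d) k'
  let X := Model k k' d A
  letI : Algebra P' X := Algebra.TensorProduct.rightAlgebra
  haveI : Module.Finite P' X := module_finite_model k k' d A
  haveI hcpl : IsAdicComplete ((maximalIdeal A).map (algebraMap A X)) X := isAdicComplete_model k k' d A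
  haveI : Module.Flat A X := flat_model k k' d A
  haveI := Cohen.isRegularLocalRing_mvPowerSeries k' d
  haveI : IsAdicComplete (maximalIdeal P') P' := ArtObs.isAdicComplete_ps k' d
  haveI : HenselianLocalRing P' := (Hensel.henselianLocalRing_iff P').mpr inferInstance
  let A' := AdicCompletion (tIdeal k k' A) (A ⊗[k] k')
  have heA : ∀ a, e (algebraMap A A' a) = algebraMap A X a := fun a => by
    rw [← (toModel k k' d A).commutes a, ← he]
    rfl
  refine ⟨(haveI := isNoetherianRing_model k k' d A; isNoetherianRing_of_ringEquiv X e.symm), ?_, ?_, fun M => ?_⟩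
  · haveI := (surjective_algebraMap_atPrime P' X).1
    refine Finite.of_injective (β := MaximalSpectrum X) (fun M => ⟨M.asIdeal.comap e.symm.toRingHom,
      haveI := M.isMaximal; Ideal.comap_isMaximal_of_surjective _ e.symm.surjective⟩) fun M M' h => ?_
    exact MaximalSpectrum.ext (Ideal.comap_injective_of_surjective _ e.symm.surjective (congrArg MaximalSpectrum.asIdeal h))
  · refine (IsAdicComplete.congr_ringEquiv (R := A') (S := X) ((maximalIdeal A).map (algebraMap A A')) e).mp ?_
    have h : ((maximalIdeal A).map (algebraMap A A')).map e = (maximalIdeal A).map (algebraMap A X) := by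
      show ((maximalIdeal A).map (algebraMap A A')).map e.toRingHom = _
      rw [Ideal.map_map]
      exact congrArg (Ideal.map · _) (RingHom.ext heA)
    rw [h]
    exact hcpl
  · haveI := M.isMaximal
    let M1 : Ideal X := M.asIdeal.comap e.symm.toRingHom
    haveI : M1.IsMaximal := Ideal.comap_isMaximal_of_surjective _ e.symm.surjective
    obtain ⟨hc, hff, hdim⟩ := atPrime_of_flat k' d A X hd M1
    have hbij : Function.Bijective (Localization.localRingHom M1 M.asIdeal e.symm.toRingHom rfl) :=
      bijective_localRingHom e.symm.toRingHom e.symm.surjective M.asIdeal 1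
        (by rw [map_one]; exact fun h => M.isMaximal.ne_top ((Ideal.eq_top_iff_one _).mpr h))
        fun a ha => by rw [one_mul]; exact e.symm.injective (ha.trans (map_zero _).symm)
    letI : CommRing (Localization.AtPrime M1) := OreLocalization.instCommRing
    let φ : Localization.AtPrime M1 ≃+* Localization.AtPrime M.asIdeal := RingEquiv.ofBijective _ hbij
    let φA : Localization.AtPrime M1 ≃ₐ[A] Localization.AtPrime M.asIdeal := AlgEquiv.ofRingEquiv (f := φ) fun a => by
      show Localization.localRingHom M1 M.asIdeal e.symm.toRingHom rfl (algebraMap A _ a) = _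
      rw [IsScalarTower.algebraMap_apply A X (Localization.AtPrime M1), Localization.localRingHom_to_map,
        IsScalarTower.algebraMap_apply A A' (Localization.AtPrime M.asIdeal)]
      exact congrArg _ (e.injective ((e.apply_symm_apply _).trans (heA a).symm))
    refine ⟨?_, Module.FaithfullyFlat.of_linearEquiv _ _ φA.toLinearEquiv.symm,
      (ringKrullDim_eq_of_ringEquiv φ).symm.trans hdim, ?_⟩
    · rw [← map_ringEquiv_maximalIdeal φ]
      exact (IsAdicComplete.congr_ringEquiv _ φ).mpr hc
    · let C := X ⧸ M1
      haveI : IsField C := (Ideal.Quotient.maximal_ideal_iff_isField_quotient M1).mp inferInstance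
      letI : Field C := Ideal.Quotient.field M1
      letI : Algebra k' C :=
        ((Ideal.Quotient.mk M1).comp ((algebraMap P' X).comp (algebraMap k' P'))).toAlgebra
      haveI : IsScalarTower k' P' C := IsScalarTower.of_algebraMap_eq fun _ => rfl
      haveI : Module.Finite P' C := Module.Finite.of_surjective ((Ideal.Quotient.mkₐ P' M1).toLinearMap)
        Ideal.Quotient.mk_surjective
      haveI := EGA418Dim.finite_residueField_of_finite k' d C
      haveI : Module.Finite k' C := Module.Finite.equiv
        (LinearEquiv.ofBijective (IsScalarTower.toAlgHom k' C (ResidueField C)).toLinearMap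
          ⟨(algebraMap C (ResidueField C)).injective, residue_surjective⟩).symm
      let ψ : C →+* A' ⧸ M.asIdeal := Ideal.Quotient.lift M1 ((Ideal.Quotient.mk M.asIdeal).comp e.symm.toRingHom)
        fun x hx => Ideal.Quotient.eq_zero_iff_mem.mpr hx
      have hψ : Function.Surjective ψ := fun y => by
        obtain ⟨a, rfl⟩ := Ideal.Quotient.mk_surjective y
        exact ⟨Ideal.Quotient.mk M1 (e a), congrArg (Ideal.Quotient.mk M.asIdeal) (e.symm_apply_apply a)⟩
      have h : ((Ideal.Quotient.mk M.asIdeal).comp (algebraMap (A ⊗[k] k') A')).comp
          Algebra.TensorProduct.includeRight.toRingHom = ψ.comp (algebraMap k' C) := RingHom.ext fun c => by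
        show Ideal.Quotient.mk M.asIdeal (algebraMap (A ⊗[k] k') A' ((1 : A) ⊗ₜ c)) =
          Ideal.Quotient.mk M.asIdeal (e.symm _)
        refine congrArg _ (e.injective ?_)
        rw [he, toModel_tmul, RingEquiv.apply_symm_apply]
        rfl
      exact h ▸ (RingHom.Finite.of_surjective ψ hψ).comp (RingHom.finite_algebraMap.mpr inferInstance)

end Groth.Agent.S5993
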