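import Groth.Statements.S5995
-- import your own Groth.Agent.* helpers here
import Groth.Agent.UnibranchEtale.RationalSection

set_option autoImplicit false
universe u
open CategoryTheory AlgebraicGeometry
open Unram

namespace Groth.Agent.S5995

/-- Let Y be a reduced scheme whose irreducible components form a locally finite family and all of whose
local rings are geometrically unibranch, f : X ⟶ Y a separated, locally of finite type, formally
unramified morphism, and u : U ⟶ X a section of f over a dense open U of Y which cannot be extended: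
whenever v is a section of f over an open V agreeing with u on U ∩ V, V is contained in U (so U is
the domain of definition of the rational section defined by u). Then the image u(U) is an open and
closed subset of X. -/
theorem result {X Y : Scheme.{u}} [IsReduced Y]
    (hcomp : LocallyFinite (fun Z : ↥(irreducibleComponents ↥Y) => (Z : Set ↥Y)))
    (f : X ⟶ Y) [IsSeparated f] [LocallyOfFiniteType f] [FormallyUnramified f]
    (U : Y.Opens) (hU : Dense (U : Set ↥Y)) (u : (U : Scheme.{u}) ⟶ X) (hu : u ≫ f = U.ι)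
    (hY : ∀ y : Y, CAlg2.IsGeomUnibranch (Y.presheaf.stalk y))
    (hmax : ∀ (V : Y.Opens) (v : (V : Scheme.{u}) ⟶ X), v ≫ f = V.ι →
      Y.homOfLE (inf_le_left : U ⊓ V ≤ U) ≫ u = Y.homOfLE (inf_le_right : U ⊓ V ≤ V) ≫ v → V ≤ U) :
    IsOpen (Set.range u) ∧ IsClosed (Set.range u) := by
  haveI := UnibranchEtale.isOpenImmersion_of_section f U u hu
  refine ⟨u.isOpenEmbedding.isOpen_range, isClosed_of_closure_subset fun x hx => ?_⟩
  obtain ⟨V, v, hxV, hv, hag, hvx⟩ := UnibranchEtale.exists_extension f U u hu hcomp hU x (hY _) hx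
  have hVU : V ≤ U := hmax V v hv hag
  refine ⟨⟨f x, hVU hxV⟩, ?_⟩
  have h2 := congrArg (fun k => k (⟨f x, hVU hxV, hxV⟩ : (U ⊓ V : Y.Opens))) hag
  simp only [Scheme.Hom.comp_apply] at h2
  rw [show Y.homOfLE (inf_le_left : U ⊓ V ≤ U) (⟨f x, hVU hxV, hxV⟩ : (U ⊓ V : Y.Opens)) = (⟨f x, hVU hxV⟩ : U) from
      Subtype.ext (Scheme.homOfLE_apply (inf_le_left : U ⊓ V ≤ U) _),
    show Y.homOfLE (inf_le_right : U ⊓ V ≤ V) (⟨f x, hVU hxV, hxV⟩ : (U ⊓ V : Y.Opens)) = (⟨f x, hxV⟩ : V) from
      Subtype.ext (Scheme.homOfLE_apply (inf_le_right : U ⊓ V ≤ V) _), hvx] at h2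
  exact h2

end Groth.Agent.S5995
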