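import Groth.Statements.S5996
-- import your own Groth.Agent.* helpers here
import Groth.Agent.UnibranchEtale.RationalSection

set_option autoImplicit false
universe u
open CategoryTheory AlgebraicGeometry
open Unram

namespace Groth.Agent.S5996

/-- Let Y be a reduced scheme whose irreducible components form a locally finite family, f : X ⟶ Y a
separated, locally of finite type, formally unramified morphism such that f(T) is closed in Y for
every closed irreducible subset T of X, and u : U ⟶ X a section of f over a dense open U of Y. Then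
for every point y of Y whose local ring is geometrically unibranch there are an open V ∋ y and a
section v : V ⟶ X of f agreeing with u on U ∩ V: the rational section defined by u is defined at
every geometrically unibranch point. -/
theorem result {X Y : Scheme.{u}} [IsReduced Y]
    (hcomp : LocallyFinite (fun Z : ↥(irreducibleComponents ↥Y) => (Z : Set ↥Y)))
    (f : X ⟶ Y) [IsSeparated f] [LocallyOfFiniteType f] [FormallyUnramified f]
    (U : Y.Opens) (hU : Dense (U : Set ↥Y)) (u : (U : Scheme.{u}) ⟶ X) (hu : u ≫ f = U.ι)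
    (hcl : ∀ T : Set ↥X, IsClosed T → IsIrreducible T → IsClosed (f '' T))
    (y : Y) (hy : CAlg2.IsGeomUnibranch (Y.presheaf.stalk y)) :
    ∃ (V : Y.Opens) (v : (V : Scheme.{u}) ⟶ X), y ∈ V ∧ v ≫ f = V.ι ∧
      Y.homOfLE (inf_le_left : U ⊓ V ≤ U) ≫ u = Y.homOfLE (inf_le_right : U ⊓ V ≤ V) ≫ v := by
  obtain ⟨η, hη, hmax⟩ := UnibranchEtale.exists_generic (irreducibleComponent_mem_irreducibleComponents y)
  obtain ⟨V₀, hyV₀, hV₀⟩ := Unibranch.exists_opens_forall_specializes hy (hη.specializes mem_irreducibleComponent) hmax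
    (UnibranchEtale.finite_components_of_locallyFinite hcomp y)
  obtain ⟨t₀, ht₀V, ht₀U⟩ := hU.inter_open_nonempty (V₀ : Set Y) V₀.2 ⟨_, hyV₀⟩
  have hηU : η ∈ U := (hV₀ t₀ ht₀V).mem_open U.2 ht₀U
  have hfη : f (u ⟨η, hηU⟩) = η := UnibranchEtale.f_comp_section f U u hu ⟨η, hηU⟩
  have h1 : closure ({η} : Set Y) ⊆ f '' closure {u ⟨η, hηU⟩} :=
    closure_minimal (Set.singleton_subset_iff.2 ⟨_, subset_closure rfl, hfη⟩)
      (hcl _ isClosed_closure isIrreducible_singleton.closure)
  obtain ⟨x, hx, hxy⟩ := h1 (hV₀ y hyV₀).mem_closure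
  subst hxy
  obtain ⟨V, v, hxV, hv, hag, -⟩ := UnibranchEtale.exists_extension f U u hu hcomp hU x hy
    (closure_mono (Set.singleton_subset_iff.2 (Set.mem_range_self _)) hx)
  exact ⟨V, v, hxV, hv, hag⟩

end Groth.Agent.S5996
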