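import Groth.Statements.S5997
import Groth.Agent.ProjMor.Sym
import Groth.Agent.ProjMor.Over
import Groth.Agent.ProjMor.ProjSpaceBase
import Groth.Agent.ProjMor.Generated
import Groth.Agent.ProjMor.Exists
import Groth.Agent.S3554
import Groth.Agent.S4406
import Groth.Agent.S0023
import Groth.Agent.S0844
import Groth.Agent.S11763
import Groth.Agent.S14444
import Groth.Agent.S10888
import Groth.Agent.AmpleHomeo.Basic
import Groth.Agent.BCHoriz.Basic
import Groth.Agent.TwistOverVan.Basic
import Groth.Agent.W7Hull.InvNear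
import Groth.Agent.W7Cech.NNGrauert
import Groth.Agent.ConsEngine.Core
import Groth.Agent.QC.Localisation

set_option autoImplicit false
universe u
open SGA1

set_option backward.isDefEq.respectTransparency false
set_option backward.isDefEq.respectTransparency.types false

noncomputable section

namespace Groth.Agent.S5997

open AlgebraicGeometry CategoryTheory CategoryTheory.Limits

variable (A : Type u) [CommRing A]

theorem exists_kappa (n : ℕ) (k : Type u) [CommRing k] [Algebra A k] :
    ∃ κ : CohB1.ProjSpace n k ⟶ CohB1.ProjSpace n A,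
      IsPullback κ (CohB1.ProjSpace.toSpec n k) (CohB1.ProjSpace.toSpec n A)
          (Spec.map (CommRingCat.ofHom (algebraMap A k))) ∧
      Nonempty ((Scheme.Modules.pullback κ).obj (Twist.twistProjSpace n A 1) ≅ Twist.twistProjSpace n k 1) := by
  let φ : CohB1.polyGrading n A →+*ᵍ CohB1.polyGrading n k :=
    { MvPolynomial.map (algebraMap A k) with
      map_mem := fun {i} x hx => MvPolynomial.IsHomogeneous.map hx _ }
  letI : Algebra (MvPolynomial (Fin (n + 1)) A) (MvPolynomial (Fin (n + 1)) k) :=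
    MvPolynomial.algebraMvPolynomial
  have hφ : HomogeneousIdeal.irrelevant (CohB1.polyGrading n k) ≤
      (HomogeneousIdeal.irrelevant (CohB1.polyGrading n A)).map φ := by
    rw [HomogeneousIdeal.irrelevant_le]
    intro i hi p hp
    rw [p.as_sum]
    refine sum_mem fun d hd => ?_
    have hd0 : d ≠ 0 := by
      rintro rfl
      have := hp (MvPolynomial.mem_support_iff.1 hd)
      simp at this
      omega
    obtain ⟨j, hj⟩ : ∃ j, d j ≠ 0 := by
      by_contra! h
      exact hd0 (Finsupp.ext h)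
    rw [show MvPolynomial.monomial d (MvPolynomial.coeff d p) =
        MvPolynomial.monomial (d - Finsupp.single j 1) (MvPolynomial.coeff d p) *
          φ (MvPolynomial.X j) by
      show _ = _ * MvPolynomial.map (algebraMap A k) (MvPolynomial.X j)
      rw [MvPolynomial.map_X, MvPolynomial.X, MvPolynomial.monomial_mul, mul_one, tsub_add_cancel_of_le]
      exact Finsupp.single_le_iff.2 (Nat.one_le_iff_ne_zero.2 hj)]
    exact Ideal.mul_mem_left _ _ (Ideal.mem_map_of_mem _
      (HomogeneousIdeal.mem_irrelevant_of_mem _ one_pos (MvPolynomial.isHomogeneous_X A j)))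
  exact ⟨Proj.map φ hφ, S3554.result (R := k) (R' := A) (CohB1.polyGrading n A) (CohB1.polyGrading n k) φ
      (fun b => rfl) hφ,
    S4406.result (R := k) (R' := A) (CohB1.polyGrading n A) (CohB1.polyGrading n k) φ (fun b => rfl) hφ 1⟩

theorem exists_residue_iso [IsLocalRing A] :
    ∃ β : Spec ((Spec (CommRingCat.of A)).residueField (IsLocalRing.closedPoint A)) ≅
        Spec (CommRingCat.of (IsLocalRing.ResidueField A)),
      β.hom ≫ Spec.map (CommRingCat.ofHom (IsLocalRing.residue A)) =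
        (Spec (CommRingCat.of A)).fromSpecResidueField (IsLocalRing.closedPoint A) := by
  let s : Spec (CommRingCat.of A) := IsLocalRing.closedPoint A
  let e : IsLocalRing.ResidueField A ≃+* s.asIdeal.ResidueField :=
    RingEquiv.ofBijective _ (Ideal.bijective_algebraMap_quotient_residueField (IsLocalRing.maximalIdeal A))
  refine ⟨Scheme.Spec.mapIso (e.toCommRingCatIso ≪≫ (Scheme.Spec.residueFieldIso _ s).symm).op, ?_⟩
  rw [← Scheme.Spec.map_residueFieldIso_inv_eq_fromSpecResidueField]
  change Spec.map _ ≫ Spec.map _ = Spec.map _ ≫ Spec.map _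
  rw [← Spec.map_comp, ← Spec.map_comp]
  rfl

/-- A global section upstairs is reached when the base change map of the closed fibre is onto. -/
theorem exists_pullSect_eq {X₀ X S₀ S : Scheme.{u}} [IsAffine S] (i : X₀ ⟶ X) (g : X₀ ⟶ S₀) (f : X ⟶ S)
    (j : S₀ ⟶ S) [IsClosedImmersion j] (w : i ≫ f = g ≫ j) {L : X.Modules}
    (hq : Coh.IsQCoh ((Scheme.Modules.pushforward f).obj L)) [IsIso (BCHoriz.bcm i g f j w L)]
    (σ : Γ((Scheme.Modules.pullback i).obj L, ⊤)) :
    ∃ t : Γ(L, ⊤), OmegaSh.pullSect i L ⊤ t = σ := by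
  obtain ⟨z, hz⟩ := (ConcreteCategory.bijective_of_isIso
    ((BCHoriz.bcm i g f j w L).app (j ⁻¹ᵁ (⊤ : S.Opens)))).2 σ
  obtain ⟨n, hn⟩ := AmpleHomeo.pullSect_surjective j hq (isAffineOpen_top S) z
  refine ⟨n, Eq.trans ?_ hz⟩
  rw [← hn]
  refine Eq.trans ?_ (BCHoriz.bcm_pullSect i g f j w L ⊤ n).symm
  simp only [eqToHom_refl, op_id]
  erw [CategoryTheory.Functor.map_id]
  rfl

theorem exists_coord_mem (n : ℕ) (x : CohB1.ProjSpace n A) :
    ∃ a, x ∈ CohB1.genLocus (Twist.twistProjSpace n A 1) (TMul.homOf (ProjUP.coord n A a)) := by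
  obtain ⟨g, hg, hgx⟩ := ProjMor.exists_notMem (ProjMor.genDegOne_projSpace n A) x
  obtain ⟨c, rfl⟩ := ProjMor.exists_of_mem_one (ProjMor.linForms_mem n A) (ProjMor.adjoin_linForms n A) hg
  by_contra! h
  refine hgx ?_
  rw [ProjMor.linForms, Fintype.linearCombination_apply]
  refine Submodule.sum_mem _ fun i _ => ?_
  rw [Algebra.smul_def]
  refine Ideal.mul_mem_left _ _ ?_
  by_contra hX
  refine h i ?_
  change x ∈ CohB1.genLocus (Twist.twist (CohB1.polyGrading n A) 1) (TMul.homOf
    (ProjMor.sec1 (𝒜 := CohB1.polyGrading n A) (MvPolynomial.isHomogeneous_X A i)))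
  rw [ProjMor.genLocus_sec1 (ProjMor.genDegOne_projSpace n A)]
  exact (ProjectiveSpectrum.mem_basicOpen _ _ x).2 hX

end Groth.Agent.S5997

end

namespace Groth.Agent.S5997

open AlgebraicGeometry CategoryTheory CategoryTheory.Limits in
/-- Suppose A is a Noetherian local ring, complete for its maximal ideal, whose residue field we call k,
and consider a proper flat A-scheme X such that the closed fibre X ×_A k is isomorphic over k to
P^r_k. Then X is isomorphic over A to P^r_A. (For ordinary schemes the published statement leaves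
out flatness, yet the proof relies on it; dropping it, P^r_k regarded as an A-scheme via the closed
point gives a counterexample as soon as A fails to be a field. This row therefore assumes f is
flat.) -/
theorem result (A : Type u) [CommRing A] [IsLocalRing A]
    [IsNoetherianRing A] [IsAdicComplete (IsLocalRing.maximalIdeal A) A] (r : ℕ) {X : Scheme.{u}}
    (f : X ⟶ Spec (CommRingCat.of A)) [IsProper f] [Flat f]
    (e₀ : pullback f (Spec.map (CommRingCat.ofHom (IsLocalRing.residue A))) ≅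
      CohB1.ProjSpace r (IsLocalRing.ResidueField A))
    (he₀ : e₀.hom ≫ CohB1.ProjSpace.toSpec r (IsLocalRing.ResidueField A) = pullback.snd f _) :
    ∃ e : X ≅ CohB1.ProjSpace r A, e.hom ≫ CohB1.ProjSpace.toSpec r A = f := by
  let k := IsLocalRing.ResidueField A
  let j := Spec.map (CommRingCat.ofHom (IsLocalRing.residue A))
  haveI : IsClosedImmersion j := IsClosedImmersion.spec_of_surjective _ IsLocalRing.residue_surjective
  let i : pullback f j ⟶ X := pullback.fst f j
  let g : pullback f j ⟶ Spec (CommRingCat.of k) := pullback.snd f j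
  haveI := ProjMor.isProper_toSpec r A
  haveI : LocallyOfFinitePresentation f := ConsEngine.lfp_of_lft f
  haveI : LocallyOfFinitePresentation (CohB1.ProjSpace.toSpec r A) := ConsEngine.lfp_of_lft _
  obtain ⟨κ, hκ, ⟨κτ⟩⟩ := exists_kappa A r k
  have hκw : κ ≫ CohB1.ProjSpace.toSpec r A = CohB1.ProjSpace.toSpec r k ≫ j := hκ.w
  let r₀ : pullback f j ⟶ CohB1.ProjSpace r A := e₀.hom ≫ κ
  have hr₀ : r₀ ≫ CohB1.ProjSpace.toSpec r A = i ≫ f := by
    rw [Category.assoc, hκw, ← Category.assoc, he₀]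
    exact pullback.condition.symm
  let O1 := Twist.twistProjSpace r A 1
  let Ok := Twist.twistProjSpace r k 1
  have hO1 : PicF.IsInvertible O1 :=
    GrT.isInvertible_twist (ProjMor.exists_notMem (ProjMor.genDegOne_projSpace r A)) 1
  have hOk : PicF.IsInvertible Ok :=
    GrT.isInvertible_twist (ProjMor.exists_notMem (ProjMor.genDegOne_projSpace r k)) 1
  let L₀ := (Scheme.Modules.pullback r₀).obj O1
  -- the obstruction vanishes
  have h2 : Subsingleton (Coh.HH (pullback f j) (Coh.structureModule _) 2) :=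
    S11763.subsingleton_of_iso e₀.inv 2 (S0023.result r k 2 two_pos)
  obtain ⟨L, hL, ⟨α⟩⟩ := S11763.result A f h2 L₀ (PicLoc.isInvertible_pullback r₀ hO1)
  let α' : (Scheme.Modules.pullback i).obj L ≅ L₀ := α
  haveI hLq : Coh.IsQCoh L := TMul.isQCoh_of_isInvertible hL
  have hLfp := W7Hull.isFP_of_isInvertible hL
  have hLfl := W7Hull.isFlatOver_of_isInvertible f hL
  -- the closed fibre
  obtain ⟨β, hβ⟩ := exists_residue_iso A
  let s : Spec (CommRingCat.of A) := IsLocalRing.closedPoint A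
  have hF : IsPullback (f.fiberι s) (f.fiberToSpecResidueField s ≫ β.hom) f j :=
    IsPullback.of_iso (IsPullback.of_hasPullback f ((Spec (CommRingCat.of A)).fromSpecResidueField s))
      (Iso.refl _) (Iso.refl _) β (Iso.refl _) (by simp; rfl) (by simp; rfl) (by simp)
      (by simp [j, hβ, s])
  let θ : f.fiber s ≅ pullback f j := hF.isoPullback
  have hθ : θ.hom ≫ i = f.fiberι s := hF.isoPullback_hom_fst
  have h1 : Subsingleton (CohIII.fiberH f L s 1) := by
    have hk : Subsingleton (Coh.HH (CohB1.ProjSpace r k) Ok 1) :=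
      S0844.result k r 1 1 (by omega) (by omega)
    have h := TwistOverVan.subsingleton_hh_pullback_iso (θ.hom ≫ e₀.hom) Ok
      (TMul.isQCoh_of_isInvertible hOk) 1 hk
    refine CohQC.hh_subsingleton_of_iso ?_ 1 h
    exact (Scheme.Modules.pullback (θ.hom ≫ e₀.hom)).mapIso κτ.symm ≪≫
      (Scheme.Modules.pullbackComp (θ.hom ≫ e₀.hom) κ).app O1 ≪≫
      (Scheme.Modules.pullbackCongr (Category.assoc θ.hom e₀.hom κ)).app O1 ≪≫
      ((Scheme.Modules.pullbackComp θ.hom r₀).app O1).symm ≪≫
      (Scheme.Modules.pullback θ.hom).mapIso α'.symm ≪≫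
      (Scheme.Modules.pullbackComp θ.hom i).app L ≪≫
      (Scheme.Modules.pullbackCongr hθ).app L
  have h1v : ∀ v, Subsingleton (CohIII.fiberH f L v 1) := by
    obtain ⟨U, hs, hU⟩ := W7Cech.exists_nhd_vanish_nn f hLq hLfp hLfl 1 s h1
    exact fun v => hU v ((IsLocalRing.specializes_closedPoint (R := A) v).mem_open U.isOpen hs)
  obtain ⟨hfree, hbc⟩ := S14444.result f L hLfp hLfl h1v
  haveI : IsIso (BCHoriz.bcm i g f j pullback.condition L) := hbc i g j (IsPullback.of_hasPullback f j)
  -- lift the coordinates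
  have hlift : ∀ a : Fin (r + 1), ∃ t : Γ(L, ⊤), α'.hom.app ⊤ (OmegaSh.pullSect i L ⊤ t) =
      ProjUP.pullSec r₀ O1 (ProjUP.coord r A a) := fun a => by
    obtain ⟨t, ht⟩ := exists_pullSect_eq i g f j pullback.condition (QC.isQCoh_pushforward f)
      (α'.inv.app ⊤ (ProjUP.pullSec r₀ O1 (ProjUP.coord r A a)))
    refine ⟨t, ?_⟩
    rw [ht]
    exact congr(($α'.inv_hom_id).app ⊤ (ProjUP.pullSec r₀ O1 (ProjUP.coord r A a)))
  choose t ht using hlift
  have hs : ProjUP.GeneratedBy L t := by
    refine ProjMor.generatedBy_of_mem_genLocus _ fun x => ?_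
    let W : X.Opens := ⨆ a, CohB1.genLocus L (TMul.homOf (t a))
    have hW : ∀ y : ↥(pullback f j), i y ∈ W := fun y => by
      obtain ⟨a, ha⟩ := exists_coord_mem A r (r₀ y)
      have e : CohB1.genLocus _ (TMul.homOf (L := (Scheme.Modules.pullback i).obj L)
          (ProjUP.pullSec i L (t a))) = r₀ ⁻¹ᵁ CohB1.genLocus O1 (TMul.homOf (ProjUP.coord r A a)) := by
        rw [← ProjMor.genLocus_pullSec r₀ hO1, ← ht a, ProjMor.homOf_app, TMul.genLocus_comp]
        rfl
      rw [ProjMor.genLocus_pullSec i hL] at e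
      exact TopologicalSpace.Opens.mem_iSup.2 ⟨a, (SetLike.ext_iff.1 e y).2 ha⟩
    by_contra hx
    have hclosed : IsClosed (f '' ((W : Set X)ᶜ)) := f.isClosedMap _ W.isOpen.isClosed_compl
    have hmem : f x ∈ f '' ((W : Set X)ᶜ) :=
      ⟨x, fun hxW => hx (TopologicalSpace.Opens.mem_iSup.1 hxW), rfl⟩
    obtain ⟨z, hz, hzs⟩ := (IsLocalRing.specializes_closedPoint (R := A) (f x)).mem_closed hclosed hmem
    have : z ∈ Set.range i := by
      rw [Scheme.Pullback.range_fst]
      change f z ∈ Set.range j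
      rw [hzs]
      exact ⟨β.hom (IsLocalRing.closedPoint _), by
        rw [← Scheme.Hom.comp_apply, hβ]
        exact Scheme.fromSpecResidueField_apply _ _⟩
    obtain ⟨y, rfl⟩ := this
    exact hz (hW y)
  obtain ⟨φ, hφ, τ, hτ⟩ := ProjMor.exists_projSpace f hL t hs
  have heq : i ≫ φ = r₀ := by
    refine ProjMor.eq_of_iso_projSpace _ _ (by rw [Category.assoc, hφ, hr₀])
      (((Scheme.Modules.pullbackComp i φ).app O1).symm ≪≫ (Scheme.Modules.pullback i).mapIso τ ≪≫ α')
      fun a => ?_
    have e1 : ((Scheme.Modules.pullbackComp i φ).hom.app O1).app ⊤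
        (OmegaSh.pullSect i ((Scheme.Modules.pullback φ).obj O1) ⊤ (OmegaSh.pullSect φ O1 ⊤ (ProjUP.coord r A a))) =
        OmegaSh.pullSect (i ≫ φ) O1 ⊤ (ProjUP.coord r A a) :=
      QC.pullbackComp_hom_pullSect i φ O1 ⊤ (ProjUP.coord r A a)
    have e2 : ((Scheme.Modules.pullbackComp i φ).inv.app O1).app ⊤
        (ProjUP.pullSec (i ≫ φ) O1 (ProjUP.coord r A a)) =
        OmegaSh.pullSect i ((Scheme.Modules.pullback φ).obj O1) ⊤ (OmegaSh.pullSect φ O1 ⊤ (ProjUP.coord r A a)) := by
      change ((Scheme.Modules.pullbackComp i φ).inv.app O1).app ⊤ (OmegaSh.pullSect (i ≫ φ) O1 ⊤ _) = _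
      rw [← e1]
      exact congr(($((Scheme.Modules.pullbackComp i φ).hom_inv_id_app O1)).app ⊤
        (OmegaSh.pullSect i ((Scheme.Modules.pullback φ).obj O1) ⊤ (OmegaSh.pullSect φ O1 ⊤ (ProjUP.coord r A a))))
    change α'.hom.app ⊤ (((Scheme.Modules.pullback i).map τ.hom).app ⊤
      (((Scheme.Modules.pullbackComp i φ).inv.app O1).app ⊤
        (ProjUP.pullSec (i ≫ φ) O1 (ProjUP.coord r A a)))) = ProjUP.pullSec r₀ O1 (ProjUP.coord r A a)
    rw [e2]
    refine (congrArg _ ((QC.app_pullSect i τ.hom ⊤ _).trans (congrArg _ (hτ a)))).trans (ht a)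
  -- the fibre of φ
  have hP : IsPullback ((CohB1.ProjSpace.toSpec r A).fiberι s)
      ((CohB1.ProjSpace.toSpec r A).fiberToSpecResidueField s ≫ β.hom) (CohB1.ProjSpace.toSpec r A) j :=
    IsPullback.of_iso (IsPullback.of_hasPullback _ ((Spec (CommRingCat.of A)).fromSpecResidueField s))
      (Iso.refl _) (Iso.refl _) β (Iso.refl _) (by simp; rfl) (by simp; rfl) (by simp)
      (by simp [j, hβ, s])
  let θ' := hP.isoIsPullback _ _ hκ
  obtain ⟨U, hU, hiso⟩ := S10888.result f (CohB1.ProjSpace.toSpec r A) φ hφ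
  have hsU : s ∈ U := (hU s).2 ⟨θ ≪≫ e₀ ≪≫ θ'.symm, by
    change (θ.hom ≫ e₀.hom ≫ θ'.inv) ≫ _ = _
    rw [Category.assoc, Category.assoc, IsPullback.isoIsPullback_inv_fst, ← hθ, Category.assoc]
    exact congrArg _ heq.symm⟩
  have hUtop : U = ⊤ := top_le_iff.1 fun v _ =>
    (IsLocalRing.specializes_closedPoint (R := A) v).mem_open U.isOpen hsU
  subst hUtop
  haveI : IsIso (φ ∣_ (⊤ : (CohB1.ProjSpace r A).Opens)) := hiso
  haveI : IsIso φ := by
    haveI : IsIso ((φ ⁻¹ᵁ (⊤ : (CohB1.ProjSpace r A).Opens)).ι) := (Scheme.topIso X).isIso_hom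
    haveI : IsIso ((⊤ : (CohB1.ProjSpace r A).Opens).ι) := (Scheme.topIso _).isIso_hom
    haveI : IsIso ((φ ⁻¹ᵁ (⊤ : (CohB1.ProjSpace r A).Opens)).ι ≫ φ) := by
      rw [← morphismRestrict_ι]
      infer_instance
    exact IsIso.of_isIso_comp_left (φ ⁻¹ᵁ (⊤ : (CohB1.ProjSpace r A).Opens)).ι φ
  exact ⟨asIso φ, hφ⟩

end Groth.Agent.S5997
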