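import Groth.Statements.S6001
import Groth.Agent.S9562
import Groth.Agent.S7128
import Groth.Agent.FlatDepth.RegHom
import Mathlib.RingTheory.Smooth.Locus
import Mathlib.RingTheory.Unramified.LocalRing

set_option autoImplicit false
universe u
open SGA1

namespace Groth.Agent.S6001

/-- Let A be a Noetherian local ring which is analytically reduced (its completion has no nonzero
nilpotents), and let B be the local ring at a prime q, lying over the maximal ideal of A, of an
A-algebra C of finite type that is etale over A at q (an etale local homomorphism A ⟶ B). Then B is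
analytically reduced, and in particular reduced. -/
theorem result (A C : Type u) [CommRing A] [IsLocalRing A]
    [IsNoetherianRing A] [CommRing C] [Algebra A C] [Algebra.FiniteType A C] (q : Ideal C) [q.IsPrime]
    (hq : Ideal.comap (algebraMap A C) q = IsLocalRing.maximalIdeal A) (hC : Algebra.IsEtaleAt A q)
    (hA : IsReduced (AdicCompletion (IsLocalRing.maximalIdeal A) A)) :
    IsReduced (AdicCompletion (IsLocalRing.maximalIdeal (Localization.AtPrime q)) (Localization.AtPrime q)) ∧
      IsReduced (Localization.AtPrime q) := by
  haveI : IsNoetherianRing C := Algebra.FiniteType.isNoetherianRing A C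
  haveI : Algebra.FinitePresentation A C := Algebra.FinitePresentation.of_finiteType.1 inferInstance
  let B := Localization.AtPrime q
  haveI : IsNoetherianRing B := IsLocalization.isNoetherianRing q.primeCompl B inferInstance
  haveI : Algebra.EssFiniteType A B :=
    haveI : Algebra.EssFiniteType C B := Algebra.EssFiniteType.of_isLocalization B q.primeCompl
    Algebra.EssFiniteType.comp A C B
  haveI : Algebra.FormallyEtale A B := hC
  haveI : IsLocalHom (algebraMap A B) := ⟨fun a ha => by
    by_contra hna
    rw [IsScalarTower.algebraMap_apply A C B, IsLocalization.AtPrime.isUnit_to_map_iff B q] at ha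
    exact ha (show algebraMap A C a ∈ q by rw [← Ideal.mem_comap, hq]; exact hna)⟩
  obtain ⟨ψ, hψ⟩ := Groth.Agent.FlatDepth.exists_cpl_map (algebraMap A B)
  haveI : Algebra.IsSmoothAt A q := inferInstanceAs (Algebra.FormallySmooth A (Localization.AtPrime q))
  haveI : Module.Flat A B := by
    obtain ⟨g, hg, hsm⟩ := Algebra.IsSmoothAt.exists_notMem_smooth A q
    haveI := hsm
    letI : Algebra (Localization.Away g) B :=
      (IsLocalization.lift (M := Submonoid.powers g) (g := algebraMap C B) fun y => by
        obtain ⟨_, n, rfl⟩ := y
        exact IsLocalization.map_units B (⟨g ^ n, fun h => hg ((inferInstance : q.IsPrime).mem_of_pow_mem n h)⟩ : q.primeCompl)).toAlgebra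
    haveI : IsScalarTower C (Localization.Away g) B :=
      IsScalarTower.of_algebraMap_eq fun c => (IsLocalization.lift_eq _ c).symm
    haveI : IsScalarTower A (Localization.Away g) B := IsScalarTower.of_algebraMap_eq fun a => by
      rw [IsScalarTower.algebraMap_apply A C (Localization.Away g), ← IsScalarTower.algebraMap_apply C (Localization.Away g) B,
        ← IsScalarTower.algebraMap_apply A C B]
    haveI : IsLocalization (q.primeCompl.map (algebraMap C (Localization.Away g))) B :=
      IsLocalization.isLocalization_of_submonoid_le (Localization.Away g) B (Submonoid.powers g) q.primeCompl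
        (Submonoid.powers_le.2 hg)
    haveI : Module.Flat (Localization.Away g) B :=
      IsLocalization.flat B (q.primeCompl.map (algebraMap C (Localization.Away g)))
    exact Module.Flat.trans A (Localization.Away g) B
  have hψe : ψ.Etale := (Groth.Agent.S9562.result A B ψ hψ).1.1
    ⟨inferInstance, Algebra.FormallyUnramified.map_maximalIdeal, inferInstance, inferInstance⟩
  letI := ψ.toAlgebra
  haveI : Algebra.Etale (AdicCompletion (IsLocalRing.maximalIdeal A) A) (AdicCompletion (IsLocalRing.maximalIdeal B) B) := hψe
  haveI := hA
  haveI hB : IsReduced (AdicCompletion (IsLocalRing.maximalIdeal B) B) :=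
    Groth.Agent.S7128.result (AdicCompletion (IsLocalRing.maximalIdeal A) A) (AdicCompletion (IsLocalRing.maximalIdeal B) B)
  refine ⟨hB, isReduced_of_injective (algebraMap B (AdicCompletion (IsLocalRing.maximalIdeal B) B)) ?_⟩
  haveI : IsHausdorff (IsLocalRing.maximalIdeal B) B := inferInstance
  exact AdicCompletion.of_injective (IsLocalRing.maximalIdeal B) B

end Groth.Agent.S6001
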