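import Groth.Statements.S6009
import Groth.Agent.Torsor.ExactSeq

set_option autoImplicit false
set_option backward.isDefEq.respectTransparency false
universe u
open CategoryTheory AlgebraicGeometry MonoidalCategory CartesianMonoidalCategory MonObj GrpObj
open SGA1

namespace Groth.Agent.S6009

open Groth.Agent.Torsor CategoryTheory.Limits

/-- Exactness of the cohomology sequence at H^1(S, G'): let u : G' → G and v : G → G'' be homomorphisms
of affine commutative S-groups forming a sequence 1 → G' → G → G'' → 1 which is exact for the fpqc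
topology, and let Q be a principal homogeneous bundle under G' (fpqc torsor). Then the bundle
deduced from Q by extension of the structure group along u is trivial, in the sense that Q admits a
u-equivariant S-morphism to G acting on itself by left translation, if and only if Q is the boundary
of some section f of G'' over S: there is a morphism i : Q → G making Q the inverse image of f under
v, with G' acting through right translation by inverses. -/
theorem result {S : Scheme.{u}}
    {G G' G'' : Over S} [GrpObj G] [GrpObj G'] [GrpObj G'']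
    [IsCommMonObj G] [IsCommMonObj G'] [IsCommMonObj G'']
    [IsAffineHom G.hom] [IsAffineHom G'.hom] [IsAffineHom G''.hom]
    (u : G' ⟶ G) (v : G ⟶ G'') (hex : NonAbH1.IsExactSeq Scheme.fpqcPrecoverage u v)
    (Q : NonAbH1.TorsorSch G' Scheme.fpqcPrecoverage) :
    NonAbH1.IsPushforwardAlongSch u Q.act (NonAbH1.trivialAction G) ↔
      ∃ (f : 𝟙_ (Over S) ⟶ G'') (i : Q.X ⟶ G), NonAbH1.IsPullbackTorsor u v f i Q.act := by
  have := hex.1
  have := hex.2.1
  constructor
  · rintro ⟨f, hf⟩
    have hfp : ∀ {T : Over S} (g : T ⟶ G') (p : T ⟶ Q.X),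
        smul Q.act g p ≫ f = (g ≫ u) * (p ≫ f) := fun g p => by
      rw [Push.smul_comp_of_eq hf, trivialAction_smul]
    let i : Q.X ⟶ G := f⁻¹
    have hi : ∀ {T : Over S} (g : T ⟶ G') (p : T ⟶ Q.X),
        smul Q.act g p ≫ i = (p ≫ i) * (g ≫ u)⁻¹ := fun g p => by
      simp only [i, comp_inv, hfp, _root_.mul_inv_rev]
    have hconst : ∀ {T : Over S} (x x' : T ⟶ Q.X), x ≫ i ≫ v = x' ≫ i ≫ v := fun {T} x x' => by
      obtain ⟨g, hg, -⟩ := (isPseudoTorsor_iff Q.act).mp Q.isTorsor.1 T x x'
      rw [← hg, ← Category.assoc, ← Category.assoc, hi, MonObj.mul_comp, GrpObj.inv_comp,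
        comp_eq_one_of_exact hex, _root_.inv_one, _root_.mul_one]
    obtain ⟨S', p, hp, s₀, hs₀⟩ := exists_single_cover Q.isTorsor.2
    let C : Over S := Over.mk p
    let s : C ⟶ Q.X := Over.homMk s₀ hs₀
    have hC : Presieve.singleton C.hom ∈ Scheme.fpqcPrecoverage S := hp
    obtain ⟨f'', hf'', -⟩ := existsUnique_desc hC (Z := 𝟙_ (Over S))
      (fst C (𝟙_ (Over S)) ≫ s ≫ i ≫ v) fun T t₁ t₂ z => by
        simp only [lift_fst_assoc]
        simpa using hconst (t₁ ≫ s) (t₂ ≫ s)
    have hval : ∀ {T : Over S} (x : T ⟶ Q.X), x ≫ i ≫ v = toUnit T ≫ f'' := fun {T} x => by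
      apply hom_ext_of_cover hC
      rw [comp_toUnit_assoc, hf'' _ (fst C T), lift_fst_assoc, ← Category.assoc, ← Category.assoc (fst C T)]
      exact hconst _ _
    have hlift : ∀ {T : Over S} (y : T ⟶ G), y ≫ v = toUnit T ≫ f'' → ∃! x : T ⟶ Q.X, x ≫ i = y := by
      intro T y hy
      have huniq : ∀ {U : Over S} (x x' : U ⟶ Q.X), x ≫ i = x' ≫ i → x = x' := fun {U} x x' h => by
        obtain ⟨g, hg, -⟩ := (isPseudoTorsor_iff Q.act).mp Q.isTorsor.1 U x x'
        beta_reduce at hg
        rw [← hg, hi, left_eq_mul, inv_eq_one] at h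
        rw [← hg, eq_one_of_exact hex h, Torsor.one_smul]
      let x₀ : C ⊗ T ⟶ Q.X := fst C T ≫ s
      obtain ⟨g, hg, -⟩ := existsUnique_div_of_exact hex (x₀ ≫ i) (snd C T ≫ y) (by
        rw [Category.assoc, hval, Category.assoc, hy, comp_toUnit_assoc])
      have hc : smul Q.act g⁻¹ x₀ ≫ i = snd C T ≫ y := by
        rw [hi, GrpObj.inv_comp, _root_.inv_inv]; exact hg
      obtain ⟨x, hx, -⟩ := existsUnique_desc hC (smul Q.act g⁻¹ x₀) fun U t₁ t₂ z => huniq _ _ (by
        simp only [Category.assoc, hc, lift_snd_assoc])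
      have e : x ≫ i = y := hom_ext_of_cover hC (by
        rw [← Category.assoc, hx _ (fst C T) (snd C T), lift_fst_snd, Category.id_comp, hc])
      exact ⟨x, e, fun x' hx' => huniq _ _ (hx'.trans e.symm)⟩
    refine ⟨f'', i, inferInstance, inferInstance, ?_, fun T g p => ?_⟩
    · have w : i ≫ v = toUnit Q.X ≫ f'' := by simpa using hval (𝟙 Q.X)
      have hc : ∀ c : PullbackCone v f'', c.fst ≫ v = toUnit c.pt ≫ f'' := fun c =>
        c.condition.trans (by rw [toUnit_unique c.snd (toUnit _)])
      exact ⟨⟨w⟩, ⟨PullbackCone.IsLimit.mk _ (fun c => (hlift c.fst (hc c)).exists.choose)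
        (fun c => (hlift c.fst (hc c)).exists.choose_spec) (fun c => toUnit_unique _ _)
        (fun c m hm _ => (hlift c.fst (hc c)).unique hm (hlift c.fst (hc c)).exists.choose_spec)⟩⟩
    · rw [← Category.assoc]; exact hi g p
  · rintro ⟨f'', i, -, -, -, hi⟩
    refine ⟨i⁻¹, eq_of_smul fun T g p => ?_⟩
    rw [trivialAction_smul, comp_inv, comp_inv, smul, Category.assoc, hi, _root_.mul_inv_rev, _root_.inv_inv]

end Groth.Agent.S6009
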