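import Groth.Statements.S6010
import Groth.Agent.Torsor.ExactSeq
import Groth.Agent.SpecialExt.Basic

set_option autoImplicit false
set_option backward.isDefEq.respectTransparency false
universe u
open CategoryTheory AlgebraicGeometry MonoidalCategory CartesianMonoidalCategory MonObj GrpObj
open SGA1

namespace Groth.Agent.S6010

open Groth.Agent.Torsor CategoryTheory.Limits

/-- Exactness of the cohomology sequence at H^1(S, G): let u : G' → G and v : G → G'' be homomorphisms
of affine commutative S-groups forming a sequence 1 → G' → G → G'' → 1 which is exact for the fpqc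
topology, and let P be a principal homogeneous bundle under G (fpqc torsor). Then the bundle deduced
from P by extension of the structure group along v is trivial, in the sense that P admits a
v-equivariant S-morphism to G'' acting on itself by left translation, if and only if P comes from
G': there is a principal homogeneous bundle Q under G' with a u-equivariant S-morphism Q → P. -/
theorem result {S : Scheme.{u}}
    {G G' G'' : Over S} [GrpObj G] [GrpObj G'] [GrpObj G'']
    [IsCommMonObj G] [IsCommMonObj G'] [IsCommMonObj G'']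
    [IsAffineHom G.hom] [IsAffineHom G'.hom] [IsAffineHom G''.hom]
    (u : G' ⟶ G) (v : G ⟶ G'') (hex : NonAbH1.IsExactSeq Scheme.fpqcPrecoverage u v)
    (P : NonAbH1.TorsorSch G Scheme.fpqcPrecoverage) :
    NonAbH1.IsPushforwardAlongSch v P.act (NonAbH1.trivialAction G'') ↔
      ∃ Q : NonAbH1.TorsorSch G' Scheme.fpqcPrecoverage, NonAbH1.IsPushforwardAlongSch u Q.act P.act := by
  have := hex.1
  have := hex.2.1
  constructor
  · rintro ⟨h, hh⟩
    have hhp : ∀ {T : Over S} (g : T ⟶ G) (p : T ⟶ P.X),
        smul P.act g p ≫ h = (g ≫ v) * (p ≫ h) := fun g p => by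
      rw [Push.smul_comp_of_eq hh, trivialAction_smul]
    let e : 𝟙_ (Over S) ⟶ G'' := 1
    let Q : Over S := pullback h e
    let j : Q ⟶ P.X := pullback.fst h e
    have hj : ∀ {T : Over S} (x : T ⟶ Q), (x ≫ j) ≫ h = 1 := fun x => by
      simp only [j, Category.assoc, pullback.condition, e, comp_one]
    have huniq : ∀ {T : Over S} (x x' : T ⟶ Q), x ≫ j = x' ≫ j → x = x' :=
      fun x x' e => pullback.hom_ext e (toUnit_unique _ _)
    have hlift : ∀ {T : Over S} (p : T ⟶ P.X), p ≫ h = 1 → ∃ x : T ⟶ Q, x ≫ j = p :=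
      fun {T} p hp => ⟨pullback.lift p (toUnit T) (by simp only [hp, e, comp_one]), pullback.lift_fst _ _ _⟩
    obtain ⟨act, hact⟩ := hlift (smul P.act (fst G' Q ≫ u) (snd G' Q ≫ j))
      (by rw [hhp, comp_eq_one_of_exact hex, hj, _root_.one_mul])
    have hpt : ∀ {T : Over S} (g : T ⟶ G') (q : T ⟶ Q),
        (lift g q ≫ act) ≫ j = smul P.act (g ≫ u) (q ≫ j) := fun g q => by
      rw [Category.assoc, hact, comp_smul, lift_fst_assoc, lift_snd_assoc]
    let a : AlgGrp.Action G' Q :=
      { act := act
        one_act := huniq _ _ (by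
          have e1 : η[G'] ▷ Q = lift (1 : 𝟙_ (Over S) ⊗ Q ⟶ G') (snd _ Q) := by
            apply CartesianMonoidalCategory.hom_ext
            · rw [whiskerRight_fst, lift_fst, Hom.one_def, toUnit_unique (fst _ Q) (toUnit _)]
            · simp
          rw [e1, hpt, MonObj.one_comp, Torsor.one_smul, leftUnitor_hom])
        mul_act := huniq _ _ (by
          have e1 : μ[G'] ▷ Q = lift ((fst (G' ⊗ G') Q ≫ fst G' G') * (fst (G' ⊗ G') Q ≫ snd G' G'))
              (snd _ Q) := by
            apply CartesianMonoidalCategory.hom_ext <;> simp [Hom.mul_def, ← comp_lift_assoc]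
          have e2 : (α_ G' G' Q).hom ≫ (G' ◁ act) = lift (fst (G' ⊗ G') Q ≫ fst G' G')
              (lift (fst (G' ⊗ G') Q ≫ snd G' G') (snd _ Q) ≫ act) := by
            apply CartesianMonoidalCategory.hom_ext
            · simp
            · rw [Category.assoc, whiskerLeft_snd, lift_snd, ← Category.assoc]
              congr 1
              apply CartesianMonoidalCategory.hom_ext <;> simp
          rw [e1, hpt, reassoc_of% e2, hpt, hpt, MonObj.mul_comp, Torsor.mul_smul]) }
    have hpt' : ∀ {T : Over S} (g : T ⟶ G') (q : T ⟶ Q),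
        smul a g q ≫ j = smul P.act (g ≫ u) (q ≫ j) := hpt
    have hpseudo : NonAbH1.IsPseudoTorsorSch a := (isPseudoTorsor_iff a).mpr fun T x y => by
      obtain ⟨g, hg, hgu⟩ := (isPseudoTorsor_iff P.act).mp P.isTorsor.1 T (x ≫ j) (y ≫ j)
      beta_reduce at hg hgu
      have hgv : g ≫ v = 1 := by
        have := congr($hg ≫ h)
        rwa [hhp, hj, hj, _root_.mul_one] at this
      obtain ⟨g', hg', hg'u⟩ := existsUnique_div_of_exact hex 1 g (by rw [MonObj.one_comp, hgv])
      beta_reduce at hg' hg'u
      rw [_root_.one_mul] at hg'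
      refine ⟨g', huniq _ _ (by rw [hpt', hg', hg]), fun k hk => hg'u k ?_⟩
      rw [_root_.one_mul]
      exact hgu _ (by rw [← hpt', hk])
    let E : Over S := pullback h v
    let m₀ : E ⟶ P.X := smul P.act (pullback.snd h v)⁻¹ (pullback.fst h v)
    obtain ⟨m, -⟩ := hlift m₀ (by
      simp only [m₀, hhp, GrpObj.inv_comp, pullback.condition, _root_.inv_mul_cancel])
    have hsq := (IsPullback.of_hasPullback h v).map (Over.forget S)
    have hE : NonAbH1.IsLocallyTrivialFor Scheme.fpqcPrecoverage (Over.mk (pullback.fst h v).left) := by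
      obtain ⟨R, hR, hRs⟩ := hex.2.2.2.2
      obtain ⟨I, Y, d, rfl⟩ := R.exists_eq_ofArrows
      choose σ hσ using fun i => hRs (d i) ⟨i⟩
      refine ⟨_, Precoverage.mem_coverings_of_isPullback d hR h.left
        (fun i => pullback.fst h.left (d i)) (fun i => pullback.snd h.left (d i))
        (fun i => IsPullback.of_hasPullback h.left (d i)), ?_⟩
      rintro _ _ ⟨i⟩
      exact ⟨hsq.lift (pullback.fst h.left (d i)) (pullback.snd h.left (d i) ≫ σ i) (by
        exact ((Category.assoc _ _ _).trans
          ((congrArg (pullback.snd h.left (d i) ≫ ·) (hσ i)).trans pullback.condition.symm)).symm),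
        hsq.lift_fst _ _ _⟩
    obtain ⟨R, hR, hRs⟩ := SpecialExt.locallyTrivial_comp (pullback.fst h v).left P.X.hom hE P.isTorsor.2
    refine ⟨⟨Q, a, hpseudo, R, hR, fun S' f hf => ?_⟩, j, eq_of_smul fun T g q => hpt' g q⟩
    obtain ⟨σ, hσ⟩ := hRs f hf
    refine ⟨σ ≫ m.left, ?_⟩
    exact (Category.assoc _ _ _).trans
      ((congrArg (σ ≫ ·) ((Over.w m).trans (Over.w (pullback.fst h v)).symm)).trans hσ)
  · rintro ⟨Q, f, hf⟩
    have h1 : Q.act.act ≫ (1 : Q.X ⟶ G'') = lift (fst G' Q.X ≫ u ≫ v)
        (snd G' Q.X ≫ (1 : Q.X ⟶ G'')) ≫ (NonAbH1.trivialAction G'').act := by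
      rw [comp_one, comp_one, hex.2.2.1, comp_one]
      exact ((trivialAction_smul (1 : G' ⊗ Q.X ⟶ G'') 1).trans (_root_.one_mul 1)).symm
    obtain ⟨r, hr, -⟩ := Push.existsUnique_hom u v Q.isTorsor P.isTorsor.1 f hf _ h1
    exact ⟨r, hr.1⟩

end Groth.Agent.S6010
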