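import Groth.Statements.S6019


set_option autoImplicit false
open CategoryTheory
universe v₁ v₂ u₁ u₂
open FibCat FibCat.Cleavage

namespace Groth.Agent.S6019

/-- A pre-fibred category admits a normalised cleavage: if every base morphism `R ⟶ p(a)` has a
cartesian morphism over it with target `a`, then one cartesian lift can be chosen for every base
morphism at every object over its target in such a way that the chosen lift of each identity `𝟙 S`
at each object `a` over `S` is the identity of `a` (identities are transport morphisms). -/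
theorem result (𝒮 : Type u₁) (𝒳 : Type u₂) [Category.{v₁} 𝒮] [Category.{v₂} 𝒳]
    (p : 𝒳 ⥤ 𝒮) [p.IsPreFibered] : ∃ K : FibCat.Cleavage p, K.IsNormalised := by
  classical
  have H : ∀ (R S : 𝒮) (a : 𝒳) (_ : p.obj a = S) (f : R ⟶ S), ∃ (b : 𝒳) (φ : b ⟶ a),
      p.IsCartesian f φ ∧ ∀ h : R = S, f = eqToHom h → ∃ h' : b = a, φ = eqToHom h' := by
    intro R S a ha f
    by_cases hf : ∃ h : R = S, f = eqToHom h
    · obtain ⟨h, rfl⟩ := hf
      subst h ha
      refine ⟨a, 𝟙 a, ?_, fun _ _ => ⟨rfl, rfl⟩⟩
      simp only [eqToHom_refl]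
      infer_instance
    · obtain ⟨b, φ, hφ⟩ := IsPreFibered.exists_isCartesian p ha f
      exact ⟨b, φ, hφ, fun h h' => absurd ⟨h, h'⟩ hf⟩
  refine ⟨⟨fun {R S a} ha f => (H R S a ha f).choose,
    fun {R S a} ha f => (H R S a ha f).choose_spec.choose,
    fun {R S a} ha f => (H R S a ha f).choose_spec.choose_spec.1⟩, ?_⟩
  intro S a ha
  exact (H S S a ha (𝟙 S)).choose_spec.choose_spec.2 rfl rfl

end Groth.Agent.S6019
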