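import Groth.Statements.S6020
import Mathlib
import Groth.Agent.LCZ.Derived
-- import your own Groth.Agent.* helpers here

set_option autoImplicit false
universe u
open CategoryTheory CategoryTheory.Limits TopologicalSpace
open LocCohZ

namespace Groth.Agent.S6020

/-- Consider a topological space X carrying a sheaf F of abelian groups, an open subset U whose
complement is the closed set Z, and a natural number N. The local cohomology sheaves ℋ^i_Z(F) are
zero for all i ≤ N exactly when, for each open V of X, restricting H^i(V, F) → H^i(V ∩ U, F) gives a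
bijection whenever i < N and an injection when i = N. -/
theorem result {X : TopCat.{u}} (F : CohTop.Ab X) (U : Opens X) (N : ℕ) :
    (∀ i : ℕ, i ≤ N → IsZero ((LocCohZ.HZsh U i).obj F)) ↔
      ∀ V : Opens X, (∀ i : ℕ, i < N → Function.Bijective (CohTop.res F i (inf_le_left : V ⊓ U ≤ V))) ∧
        Function.Injective (CohTop.res F N (inf_le_left : V ⊓ U ≤ V)) := by
  have e : (∀ i : ℕ, i ≤ N → IsZero ((LocCohZ.HZsh U i).obj F)) ↔ ∀ i : ℕ, i < N + 1 → IsZero ((LocCohZ.HZsh U i).obj F) :=
    forall_congr' fun i => by rw [Nat.lt_succ_iff]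
  rw [e, Groth.Agent.LCZ.isZero_below_iff U (N + 1)]
  constructor
  · intro H V
    have hinj : ∀ i, i ≤ N → Function.Injective (CohTop.res F i (inf_le_left : V ⊓ U ≤ V)) := by
      intro i hi
      rcases i with _ | p
      · exact (Groth.Agent.LCZ.subsingleton_zero_iff_res _).1 (H V 0 (by omega))
      · exact ((Groth.Agent.LCZ.subsingleton_succ_iff_res _ p).1 (H V (p + 1) (by omega))).2
    exact ⟨fun i hi => ⟨hinj i (by omega), ((Groth.Agent.LCZ.subsingleton_succ_iff_res _ i).1 (H V (i + 1) (by omega))).1⟩,
      hinj N le_rfl⟩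
  · intro H V i hi
    have hinj : ∀ i, i ≤ N → Function.Injective (CohTop.res F i (inf_le_left : V ⊓ U ≤ V)) := by
      intro i hi
      rcases lt_or_eq_of_le hi with h | rfl
      exacts [((H V).1 i h).1, (H V).2]
    rcases i with _ | p
    · exact (Groth.Agent.LCZ.subsingleton_zero_iff_res _).2 (hinj 0 (by omega))
    · exact (Groth.Agent.LCZ.subsingleton_succ_iff_res _ p).2 ⟨((H V).1 p (by omega)).2, hinj (p + 1) (by omega)⟩

end Groth.Agent.S6020
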