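import Groth.Statements.S6021
import Mathlib
import Groth.Agent.LCZ.Derived
-- import your own Groth.Agent.* helpers here

set_option autoImplicit false
universe u
open CategoryTheory CategoryTheory.Limits TopologicalSpace
open LocCohZ

namespace Groth.Agent.S6021

/-- Consider a topological space X carrying an abelian sheaf F, a closed subset Z whose open complement
is U, and a natural number N > 0. Assume that, for each open V of X and each i < N, restricting
H^i(V, F) → H^i(V ∩ U, F) gives a bijection. Then ℋ^i_Z(F), the local cohomology sheaves, are zero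
for every i ≤ N (no separate injectivity hypothesis in degree N is needed, since it follows
automatically). -/
theorem result {X : TopCat.{u}} (F : CohTop.Ab X) (U : Opens X) (N : ℕ) (hN : 0 < N)
    (h : ∀ (V : Opens X) (i : ℕ), i < N → Function.Bijective (CohTop.res F i (inf_le_left : V ⊓ U ≤ V))) :
    ∀ i : ℕ, i ≤ N → IsZero ((LocCohZ.HZsh U i).obj F) := by
  intro i hi
  rcases lt_or_eq_of_le hi with hlt | rfl
  · refine (Groth.Agent.LCZ.isZero_below_iff U N).2 (fun V j hj => ?_) i hlt
    rcases j with _ | p
    · exact (Groth.Agent.LCZ.subsingleton_zero_iff_res _).2 (h V 0 hj).1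
    · exact (Groth.Agent.LCZ.subsingleton_succ_iff_res _ p).2 ⟨(h V p (by omega)).2, (h V (p + 1) hj).1⟩
  · obtain ⟨p, rfl⟩ : ∃ p, i = p + 1 := ⟨i - 1, by omega⟩
    refine Groth.Agent.LCZ.isZero_HZsh_of_toHU_injective U fun V => ?_
    refine (injective_iff_map_eq_zero _).2 fun x hx => ?_
    obtain ⟨w, hw⟩ := Abelian.Ext.contravariant_sequence_exact₃ (LocCohZ.zqSeq_shortExact (inf_le_left : V ⊓ U ≤ V)) F x hx (Nat.add_comm 1 p)
    obtain ⟨y, rfl⟩ := (h V p (by omega)).2 w
    rw [← hw, Groth.Agent.LCZ.res_apply]
    exact (LocCohZ.zqSeq_shortExact (inf_le_left : V ⊓ U ≤ V)).extClass_comp_assoc y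

end Groth.Agent.S6021
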