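import Groth.Statements.S6024
import Mathlib
import Groth.Agent.LCZ.Derived
-- import your own Groth.Agent.* helpers here

set_option autoImplicit false
universe u
open CategoryTheory CategoryTheory.Limits TopologicalSpace
open LocCohZ

namespace Groth.Agent.S6024

/-- Consider a topological space X carrying a sheaf of abelian groups F, and assume that H^1_Z(X, F)
vanishes for each closed subset Z of X (writing Z = X − U with U open). Under this assumption, F is
flasque. -/
theorem result {X : TopCat.{u}} (F : CohTop.Ab X)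
    (h : ∀ U : Opens X, Subsingleton (LocCohZ.HZc F 1 U)) : TopCat.Sheaf.IsFlasque F := by
  refine (Groth.Agent.LCZ.epi_res_iff F).2 fun V V' hV t => ?_
  obtain ⟨y, hy⟩ := ((Groth.Agent.LCZ.subsingleton_succ_iff_res (le_top : V' ≤ ⊤) 0).1 (h V')).1
    ((Groth.Agent.SiteCoh.hu0 F V').symm t)
  refine ⟨Groth.Agent.LCZ.res F (le_top : V ≤ ⊤) (Groth.Agent.SiteCoh.hu0 F ⊤ y), ?_⟩
  rw [Groth.Agent.LCZ.res_res, ← Groth.Agent.LCZ.res_zero_apply, hy, AddEquiv.apply_symm_apply]

end Groth.Agent.S6024
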