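import Groth.Statements.S6025
import Groth.Agent.LCZ.RestrAdj
import Groth.Agent.DerExt.Triple
import Groth.Agent.DerExt.Comp
import Mathlib
-- import your own Groth.Agent.* helpers here

set_option autoImplicit false
universe u
open CategoryTheory CategoryTheory.Limits TopologicalSpace
open LocCohZ

namespace Groth.Agent.S6025

/-- Let X be a topological space, A a closed subset with open complement U and f : U → X the inclusion.
Then the functor ℋ^1_A is isomorphic to the cokernel of the unit F → f_* f⁻¹ F (so that 0 → ℋ^0_A(F)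
→ F → f_*(F|_U) → ℋ^1_A(F) → 0 is exact), and for every i ≥ 1 the functor ℋ^{i+1}_A is isomorphic to
F ↦ R^i f_*(F|_U). (Existence of isomorphisms of functors only; the maps of the four-term sequence
other than the kernel inclusion are not pinned.) -/
theorem result {X : TopCat.{u}} (U : Opens X) :
    Nonempty (LocCohZ.HZsh U 1 ≅
      cokernel (TopCat.Sheaf.pullbackPushforwardAdjunction AddCommGrpCat.{u} (CohCx.incl U)).unit) ∧
      ∀ i : ℕ, 1 ≤ i →
        Nonempty (LocCohZ.HZsh U (i + 1) ≅ CohTop.pull (CohCx.incl U) ⋙ CohTop.Rpush (CohCx.incl U) i) := by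
  classical
  let adj := TopCat.Sheaf.pullbackPushforwardAdjunction AddCommGrpCat.{u} (CohCx.incl U)
  let F₃ := CohTop.pull (CohCx.incl U) ⋙ CohTop.push (CohCx.incl U)
  have : (CohTop.push (CohCx.incl U)).Additive := { }
  have : F₃.Additive := inferInstanceAs (CohTop.pull (CohCx.incl U) ⋙ CohTop.push (CohCx.incl U)).Additive
  let β : 𝟭 (CohTop.Ab X) ⟶ F₃ := adj.unit
  have hr : (CohTop.push (CohCx.incl U)).IsRightAdjoint := ⟨_, ⟨adj⟩⟩
  have : PreservesFiniteLimits F₃ := by
    have h1 : PreservesFiniteLimits (CohTop.pull (CohCx.incl U)) :=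
      Functor.preservesFiniteLimits_of_preservesHomology _
    have h2 : PreservesFiniteLimits (CohTop.push (CohCx.incl U)) := inferInstance
    exact comp_preservesFiniteLimits _ _
  let α : LocCohZ.sectSuppF U ⟶ 𝟭 (CohTop.Ab X) :=
    { app := fun F => Groth.Agent.LCZ.suppι U F
      naturality := fun F G φ => Groth.Agent.LCZ.sectSuppF_map_suppι U φ }
  have w : ∀ F : CohTop.Ab X, α.app F ≫ β.app F = 0 := fun F => kernel.condition (adj.unit.app F)
  have hse : ∀ (I : CohTop.Ab X) [Injective I], (ShortComplex.mk (α.app I) (β.app I) (w I)).ShortExact := by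
    intro I hI
    have : TopCat.Sheaf.IsFlasque I := Groth.Agent.SiteCoh.injective_isFlasque I
    exact { exact := ShortComplex.exact_of_f_is_kernel _ (kernelIsKernel (adj.unit.app I))
            mono_f := Groth.Agent.LCZ.mono_suppι U I
            epi_g := Groth.Agent.LCZ.epi_unit_of_isFlasque U I }
  refine ⟨Groth.Agent.DerExt.nonempty_derivedOneIso α β w hse, fun i hi => ?_⟩
  obtain ⟨k, rfl⟩ : ∃ k, i = k + 1 := ⟨i - 1, by omega⟩
  exact ⟨(Groth.Agent.DerExt.derivedShiftIso α β w hse k).symm ≪≫
    Groth.Agent.DerExt.rightDerivedCompIso (CohTop.pull (CohCx.incl U)) (CohTop.push (CohCx.incl U)) (k + 1)⟩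

end Groth.Agent.S6025
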