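import Groth.Statements.S6027
import Groth.Agent.LCZ.Classes
import Groth.Agent.DerExt.Coyoneda
import Mathlib
-- import your own Groth.Agent.* helpers here

set_option autoImplicit false
universe u
open CategoryTheory CategoryTheory.Limits TopologicalSpace
open LocCohZ

namespace Groth.Agent.S6027

/-- The case of a closed subset. Let X be a topological space and Z a closed subset with open complement
U. For every q the q-th right derived functor of F ↦ Γ_Z(X, F) is isomorphic to the functor F ↦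
Ext^q(ℤ_{Z,X}, F), where ℤ_{Z,X} = ℤ_X/ℤ_U. (Existence of an isomorphism of functors for each q;
compatibility with connecting maps is not asserted.) -/
theorem result {X : TopCat.{u}} (U : Opens X) (q : ℕ) :
    Nonempty (LocCohZ.RHZ U q ≅ ToposFin.HZFunctor (LocCohZ.openSh U) q) := by
  have : ∀ (F : CohTop.Ab X) (t : (LocCohZ.gammaZF U).obj F),
      Groth.Agent.LCZ.res F (le_top : U ≤ ⊤) ((Groth.Agent.LCZ.suppι U F).hom.app (Opposite.op ⊤) t) = 0 := fun F t => by
    have h := Groth.Agent.LCZ.res_suppι U F (V := ⊤) t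
    have h' := congrArg (Groth.Agent.LCZ.res F (le_inf le_top le_rfl : U ≤ ⊤ ⊓ U)) h
    rw [Groth.Agent.LCZ.res_res, map_zero] at h'
    exact h'
  let P := ToposFin.quotZ (LocCohZ.openSh U)
  let f : ∀ F : CohTop.Ab X, (LocCohZ.gammaZF U).obj F → (P ⟶ F) := fun F t =>
    (LocCohZ.zqIsoQuotZ U).inv ≫ Groth.Agent.LCZ.zqHom _ _ (this F t)
  have hadd : ∀ F a b, f F (a + b) = f F a + f F b := fun F a b => by
    refine (congrArg (fun ψ => (LocCohZ.zqIsoQuotZ U).inv ≫ ψ) (Groth.Agent.LCZ.zqSec_injective _ ?_)).trans (Preadditive.comp_add _ _ _ _ _ _)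
    rw [Groth.Agent.LCZ.zqSec_zqHom]
    refine (map_add ((Groth.Agent.LCZ.suppι U F).hom.app (Opposite.op ⊤)).hom a b).trans ?_
    rw [show ∀ φ ψ : LocCohZ.zq (le_top : U ≤ ⊤) ⟶ F, Groth.Agent.LCZ.zqSec _ (φ + ψ) = Groth.Agent.LCZ.zqSec _ φ + Groth.Agent.LCZ.zqSec _ ψ from
      fun φ ψ => by simp only [Groth.Agent.LCZ.zqSec, Preadditive.comp_add, map_add],
      Groth.Agent.LCZ.zqSec_zqHom, Groth.Agent.LCZ.zqSec_zqHom]
    rfl
  have hbij : ∀ F, Function.Bijective (f F) := fun F => by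
    refine ⟨fun a b e => ?_, fun ψ => ?_⟩
    · have e' := congrArg (Groth.Agent.LCZ.zqSec _) ((cancel_epi _).1 e)
      rw [Groth.Agent.LCZ.zqSec_zqHom, Groth.Agent.LCZ.zqSec_zqHom] at e'
      exact Groth.Agent.LCZ.suppι_injective U F ⊤ e'
    · let s := Groth.Agent.LCZ.zqSec (le_top : U ≤ ⊤) ((LocCohZ.zqIsoQuotZ U).hom ≫ ψ)
      have hs : Groth.Agent.LCZ.res F (inf_le_left : ⊤ ⊓ U ≤ ⊤) s = 0 := by
        rw [← Groth.Agent.LCZ.res_res F (le_top : U ≤ ⊤) inf_le_right, Groth.Agent.LCZ.res_zqSec, map_zero]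
      obtain ⟨t, ht⟩ := Groth.Agent.LCZ.exists_suppι U hs
      refine ⟨t, ?_⟩
      rw [← cancel_epi (LocCohZ.zqIsoQuotZ U).hom, Iso.hom_inv_id_assoc]
      refine Groth.Agent.LCZ.zqSec_injective _ ?_
      rw [Groth.Agent.LCZ.zqSec_zqHom]
      exact ht
  let α : LocCohZ.gammaZF U ≅ preadditiveCoyoneda.obj (Opposite.op P) :=
    NatIso.ofComponents (fun F => AddEquiv.toAddCommGrpIso
      (AddEquiv.ofBijective (AddMonoidHom.mk' (f F) (hadd F)) (hbij F) :
        (LocCohZ.gammaZF U).obj F ≃+ (preadditiveCoyoneda.obj (Opposite.op P)).obj F)) (fun {F G} φ => by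
      ext t
      change f G (((LocCohZ.sectSuppF U).map φ).hom.app (Opposite.op ⊤) t) = f F t ≫ φ
      refine (congrArg (fun ψ => (LocCohZ.zqIsoQuotZ U).inv ≫ ψ) (Groth.Agent.LCZ.zqSec_injective _ ?_)).trans (Category.assoc _ _ _).symm
      rw [Groth.Agent.LCZ.zqSec_zqHom, Groth.Agent.LCZ.zqSec_comp, Groth.Agent.LCZ.zqSec_zqHom]
      exact Groth.Agent.LCZ.suppι_map_apply U φ t)
  exact ⟨(⟨NatTrans.rightDerived α.hom q, NatTrans.rightDerived α.inv q,
      by rw [← NatTrans.rightDerived_comp, α.hom_inv_id, NatTrans.rightDerived_id],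
      by rw [← NatTrans.rightDerived_comp, α.inv_hom_id, NatTrans.rightDerived_id]⟩ :
      (LocCohZ.gammaZF U).rightDerived q ≅ (preadditiveCoyoneda.obj (Opposite.op P)).rightDerived q) ≪≫
    Groth.Agent.DerExt.rightDerivedIso P q⟩

end Groth.Agent.S6027
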