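import Groth.Statements.S6028
import Mathlib
import Groth.Agent.LCZ.Classes
-- import your own Groth.Agent.* helpers here

set_option autoImplicit false
universe u
open CategoryTheory CategoryTheory.Limits TopologicalSpace
open LocCohZ

namespace Groth.Agent.S6028

/-- Let X be a topological space and W ⊆ V ⊆ T opens of X; put Z = T − W, Z' = T − V and Z'' = V − W, so
that Z' is closed in Z with complement Z''. Then 0 → ℤ_{Z'',X} → ℤ_{Z,X} → ℤ_{Z',X} → 0 is a short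
exact sequence of abelian sheaves on X, where ℤ_{Z,X} = ℤ_T/ℤ_W and the maps are the induced ones. -/
theorem result {X : TopCat.{u}} {W V T : Opens X} (hWV : W ≤ V) (hVT : V ≤ T) :
    ∃ w : LocCohZ.zqMap (hWV.trans hVT) hWV le_rfl hVT ≫ LocCohZ.zqMap hVT (hWV.trans hVT) hWV le_rfl = 0,
      (ShortComplex.mk _ _ w).ShortExact := by
  have hw : LocCohZ.zqMap (hWV.trans hVT) hWV le_rfl hVT ≫ LocCohZ.zqMap hVT (hWV.trans hVT) hWV le_rfl = 0 := by
    refine Groth.Agent.LCZ.zqSec_injective hWV ?_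
    rw [Groth.Agent.LCZ.zqSec_zqMap, Groth.Agent.LCZ.zqSec_zero]
    have e : Groth.Agent.LCZ.zqSec (hWV.trans hVT) (LocCohZ.zqMap hVT (hWV.trans hVT) hWV le_rfl) =
        Groth.Agent.LCZ.res _ le_rfl (Groth.Agent.LCZ.zqSec hVT (𝟙 (LocCohZ.zq hVT))) := by
      conv_lhs => rw [← Category.comp_id (LocCohZ.zqMap hVT (hWV.trans hVT) hWV le_rfl)]
      rw [Groth.Agent.LCZ.zqSec_zqMap]
    rw [e, Groth.Agent.LCZ.res_self]
    exact Groth.Agent.LCZ.res_zqSec hVT _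
  refine ⟨hw, ?_⟩
  have : Epi (LocCohZ.zqMap hVT (hWV.trans hVT) hWV le_rfl) :=
    Preadditive.epi_of_cancel_zero _ fun g hg => Groth.Agent.LCZ.zqSec_injective hVT (by
      have := congrArg (Groth.Agent.LCZ.zqSec (hWV.trans hVT)) hg
      rw [Groth.Agent.LCZ.zqSec_zqMap, Groth.Agent.LCZ.res_self, Groth.Agent.LCZ.zqSec_zero] at this
      rw [this, Groth.Agent.LCZ.zqSec_zero])
  have : Mono (LocCohZ.zqMap (hWV.trans hVT) hWV le_rfl hVT) := by
    let φ := Injective.ι (LocCohZ.zq hWV)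
    have hfl : TopCat.Sheaf.IsFlasque (Injective.under (LocCohZ.zq hWV)) := @Groth.Agent.SiteCoh.injective_isFlasque _ _ (Groth.Agent.SiteCoh.embedSeq_injective (LocCohZ.zq hWV))
    obtain ⟨t, ht⟩ := @Groth.Agent.LCZ.res_surjective _ (Injective.under (LocCohZ.zq hWV)) hfl _ _ hVT (Groth.Agent.LCZ.zqSec hWV φ)
    have ht0 : Groth.Agent.LCZ.res _ (hWV.trans hVT) t = 0 := by
      rw [← Groth.Agent.LCZ.res_res _ hVT hWV, ht]
      exact Groth.Agent.LCZ.res_zqSec hWV φ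
    have e : LocCohZ.zqMap (hWV.trans hVT) hWV le_rfl hVT ≫ Groth.Agent.LCZ.zqHom (hWV.trans hVT) t ht0 = φ :=
      Groth.Agent.LCZ.zqSec_injective hWV (by rw [Groth.Agent.LCZ.zqSec_zqMap, Groth.Agent.LCZ.zqSec_zqHom, ht])
    exact mono_of_mono_fac e
  refine { exact := ShortComplex.exact_of_g_is_cokernel _ (CokernelCofork.IsColimit.ofπ' _ _ fun {G} k hk => ?_) }
  have h0 : Groth.Agent.LCZ.res G hVT (Groth.Agent.LCZ.zqSec (hWV.trans hVT) k) = 0 := by
    rw [← Groth.Agent.LCZ.zqSec_zqMap (hWV.trans hVT) hWV le_rfl hVT k]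
    exact (congrArg (Groth.Agent.LCZ.zqSec hWV) hk).trans (Groth.Agent.LCZ.zqSec_zero hWV)
  exact ⟨Groth.Agent.LCZ.zqHom hVT _ h0, Groth.Agent.LCZ.zqSec_injective (hWV.trans hVT) (by
    rw [Groth.Agent.LCZ.zqSec_zqMap, Groth.Agent.LCZ.zqSec_zqHom, Groth.Agent.LCZ.res_self])⟩

end Groth.Agent.S6028
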