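import Groth.Statements.S6038
import Groth.Agent.LCZ.Scheme
import Groth.Agent.LocH.Grothendieck
import Mathlib
-- import your own Groth.Agent.* helpers here

set_option autoImplicit false
universe u
open CategoryTheory CategoryTheory.Limits TopologicalSpace AlgebraicGeometry
open LocCohZ

namespace Groth.Agent.S6038

/-- In the case F = O_X (where Ext^i_Y(O_X, G) is the local cohomology sheaf ℋ^i_Y(G)). Let X be a
locally Noetherian scheme whose local rings are all regular, Y a closed subset with open complement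
U, G a coherent O_X-module with underlying abelian sheaf F, and i a natural number with dim O_{X,x}
< i for every x ∈ Y. Then ℋ^i_Y(F) = 0. -/
theorem result (X : Scheme.{u}) [IsLocallyNoetherian X]
    (hreg : ∀ x : X, IsRegularLocalRing (X.presheaf.stalk x)) (U : X.Opens) (G : X.Modules) (hG : Coh.IsCoh G)
    (i : ℕ) (hi : ∀ x : X, x ∉ (U : Set X) → ringKrullDim (X.presheaf.stalk x) < (i : WithBot ℕ∞)) :
    IsZero ((LocCohZ.HZsh (X := X.carrier) U i).obj (Coh.toAb G)) := by
  refine Groth.Agent.LCZ.isZero_HZsh_of_subsingleton (X := X.carrier) U fun V x hx => ?_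
  obtain ⟨_, ⟨W : X.Opens, hW : IsAffineOpen W, rfl⟩, hxW, hWV⟩ :=
    X.isBasis_affineOpens.exists_subset_of_mem_open (show x ∈ (V : Set X) from hx) V.isOpen
  have : G.IsQuasicoherent := hG.1
  have : IsNoetherianRing Γ(X, W) := IsLocallyNoetherian.component_noetherian ⟨W, hW⟩
  obtain ⟨J, hJ, h⟩ := Groth.Agent.LCZ.exists_ideal_subsingleton_HZ_iff G hW U
  refine ⟨W, hxW, hWV, (h i).2 (Groth.Agent.LocH.subsingleton_of_localizations Γ(G, W) J i fun m _ => ?_)⟩
  by_cases hm : J ≤ m
  · refine Groth.Agent.LocH.subsingleton_of_supportDim_lt _ i _ ((Module.supportDim_le_ringKrullDim _ _).trans_lt ?_)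
    let p : PrimeSpectrum Γ(X, W) := ⟨m, inferInstance⟩
    have hy : hW.fromSpec p ∈ W := by
      rw [← SetLike.mem_coe, ← hW.range_fromSpec]; exact ⟨p, rfl⟩
    let := TopCat.Presheaf.algebra_section_stalk X.presheaf ⟨hW.fromSpec p, hy⟩
    have : IsLocalization.AtPrime (X.presheaf.stalk (hW.fromSpec p)) m := hW.isLocalization_stalk' p hy
    have e : Localization.AtPrime m ≃ₐ[Γ(X, W)] X.presheaf.stalk (hW.fromSpec p) :=
      IsLocalization.algEquiv m.primeCompl _ _
    rw [ringKrullDim_eq_of_ringEquiv e.toRingEquiv]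
    exact hi _ ((hJ p).1 hm)
  · obtain ⟨j, hj, hjm⟩ := SetLike.not_le_iff_exists.1 hm
    have htop : J.map (algebraMap Γ(X, W) (Localization.AtPrime m)) = ⊤ :=
      Ideal.eq_top_of_isUnit_mem _ (Ideal.mem_map_of_mem _ hj)
        (IsLocalization.map_units (Localization.AtPrime m) (⟨j, hjm⟩ : m.primeCompl))
    rw [htop]
    refine subsingleton_of_forall_eq 0 fun y => ?_
    obtain ⟨k, hk⟩ := Groth.Agent.LocH.isPowerTorsion (⊤ : Ideal (Localization.AtPrime m)) i
      (ModuleCat.of _ (LocalizedModule m.primeCompl Γ(G, W))) y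
    exact (one_smul (Localization.AtPrime m) y).symm.trans (hk 1 (by rw [Ideal.top_pow]; exact Submodule.mem_top))

end Groth.Agent.S6038
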