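import Groth.Statements.S6039
import Groth.Agent.S6034
import Groth.Agent.S6020
import Mathlib
-- import your own Groth.Agent.* helpers here

set_option autoImplicit false
universe u
open CategoryTheory CategoryTheory.Limits TopologicalSpace AlgebraicGeometry Opposite
open LocCohZ

namespace Groth.Agent.S6039

/-- Let X be a locally Noetherian scheme, Y a closed subset with open complement U and M a coherent
O_X-module. Then depth M_x ≥ 2 for every x ∈ Y if and only if, for every open V of X, the
restriction map Γ(V, M) → Γ(V ∩ U, M) is bijective. -/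
theorem result (X : Scheme.{u}) [IsLocallyNoetherian X] (U : X.Opens)
    (M : X.Modules) (hM : Coh.IsCoh M) :
    (∀ x : X, x ∉ (U : Set X) → (2 : ℕ∞) ≤ LocCoh.depth (X.presheaf.stalk x) (M.presheaf.stalk x)) ↔
      ∀ V : X.Opens, Function.Bijective (M.val.map (homOfLE (inf_le_left : V ⊓ U ≤ V)).op).hom := by
  have key : ∀ V : X.Opens, Function.Bijective (M.val.map (homOfLE (inf_le_left : V ⊓ U ≤ V)).op).hom ↔
      Function.Bijective (CohTop.res (X := X.carrier) (Coh.toAb M) 0 (inf_le_left : V ⊓ U ≤ V)) := by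
    intro V
    let e := Groth.Agent.SiteCoh.hu0 (J := Opens.grothendieckTopology X.carrier) (Coh.toAb M) V
    let e' := Groth.Agent.SiteCoh.hu0 (J := Opens.grothendieckTopology X.carrier) (Coh.toAb M) (V ⊓ U)
    have h1 : (M.val.map (homOfLE (inf_le_left : V ⊓ U ≤ V)).op).hom ∘ e =
        e' ∘ CohTop.res (X := X.carrier) (Coh.toAb M) 0 (inf_le_left : V ⊓ U ≤ V) :=
      funext fun x => (Groth.Agent.LCZ.res_zero_apply (X := X.carrier) _ x).symm
    exact (Function.Bijective.of_comp_iff _ e.bijective).symm.trans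
      ((iff_of_eq (congrArg Function.Bijective h1)).trans (Function.Bijective.of_comp_iff' e'.bijective _))
  refine (Groth.Agent.S6034.result X U M hM 2).symm.trans ⟨fun h V => (key V).2 ?_, fun h i hi => ?_⟩
  · exact ((Groth.Agent.S6020.result (X := X.carrier) (Coh.toAb M) U 1).1 (fun i hi => h i (by omega)) V).1 0 one_pos
  · have h0 : ∀ V : X.Opens, Function.Bijective (CohTop.res (X := X.carrier) (Coh.toAb M) 0 (inf_le_left : V ⊓ U ≤ V)) :=
      fun V => (key V).1 (h V)
    obtain rfl | rfl : i = 0 ∨ i = 1 := by omega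
    · exact Groth.Agent.LCZ.isZero_HZsh_of_subsingleton (X := X.carrier) U fun V _ hx =>
        ⟨V, hx, le_rfl, (Groth.Agent.LCZ.subsingleton_zero_iff_res (X := X.carrier) _).2 (h0 V).1⟩
    · refine Groth.Agent.LCZ.isZero_HZsh_of_toHU_injective (X := X.carrier) U (p := 0) fun V =>
        (injective_iff_map_eq_zero _).2 fun x hx => ?_
      obtain ⟨w, hw⟩ := CategoryTheory.Abelian.Ext.contravariant_sequence_exact₃
        (LocCohZ.zqSeq_shortExact (inf_le_left : V ⊓ U ≤ V)) (Coh.toAb M) x hx (Nat.add_comm 1 0)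
      obtain ⟨y, rfl⟩ := (h0 V).2 w
      rw [← hw, Groth.Agent.LCZ.res_apply]
      exact (LocCohZ.zqSeq_shortExact (inf_le_left : V ⊓ U ≤ V)).extClass_comp_assoc y

end Groth.Agent.S6039
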