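import Groth.Statements.S6040
import Groth.Agent.DerExt.Comp
import Groth.Agent.SiteCoh.RestrOpen
import Mathlib
-- import your own Groth.Agent.* helpers here

set_option autoImplicit false
universe u
open CategoryTheory CategoryTheory.Limits TopologicalSpace
open LocCohZ

namespace Groth.Agent.S6040

/-- Let X be a topological space, U an open subset and j : U → X the inclusion, so that the sheaf of
sections with supports in the open U is Γ_U(F) = j_*(F|_U). For every q the local cohomology sheaf
functor ℋ^q_U, i.e. the q-th right derived functor of F ↦ j_*(F|_U), is isomorphic to F ↦ R^q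
j_*(F|_U). (Existence of an isomorphism of functors for each q.) -/
theorem result {X : TopCat.{u}} (U : Opens X) (q : ℕ) :
    Nonempty (CohCx.RpushOn (𝟙 X) U q ≅ CohTop.restrFunctor U ⋙ CohTop.Rpush (CohCx.incl U) q) := by
  have : (CohTop.restrFunctor U).PreservesHomology :=
    (((CategoryTheory.Functor.exact_tfae (CohTop.restrFunctor U)).out 0 2).1
      fun _ h => Groth.Agent.SiteCoh.restrFunctor_shortExact U h)
  have : (CohTop.restrFunctor U).PreservesInjectiveObjects :=
    ⟨fun {I} (hI : CategoryTheory.Injective I) => @Groth.Agent.SiteCoh.restrFunctor_injective _ U I hI⟩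
  have : (CohTop.push (CohCx.incl U ≫ 𝟙 X)).Additive := { }
  exact ⟨Groth.Agent.DerExt.rightDerivedCompIso (CohTop.restrFunctor U) (CohTop.push (CohCx.incl U ≫ 𝟙 X)) q⟩

end Groth.Agent.S6040
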