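import Groth.Statements.S6041
import Groth.Agent.SchDescent.SheafDesc

set_option autoImplicit false
open CategoryTheory CategoryTheory.Limits AlgebraicGeometry MonoidalCategory
universe u
open GrpQ

namespace Groth.Agent.S6041

open CartesianMonoidalCategory in
/-- For schemes and the fppf topology, easy direction: let `s, t : R ⇉ U` be a pair of morphisms of
schemes over `S` (in the source an equivalence relation), `T` a scheme over `S` and `i : Z ⟶ U ×_S
T` such that `Z ⟶ T` is flat, surjective and locally of finite presentation and any two points of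
`Z` over the same point of `T` have `R`-related images in `U`. Then the composite `h_Z ⟶ h_U ⟶ U/R`
descends to exactly one section of the fppf quotient sheaf `U/R` over `T`. -/
theorem result {S : Scheme.{u}} {R U : Over S} (s t : R ⟶ U)
    (T Z : Over S) (i : Z ⟶ U ⊗ T)
    [Flat (i ≫ snd U T).left] [Surjective (i ≫ snd U T).left] [LocallyOfFinitePresentation (i ≫ snd U T).left]
    (hZZ : ∀ (T' : Over S) (z₁ z₂ : T' ⟶ Z), z₁ ≫ i ≫ snd U T = z₂ ≫ i ≫ snd U T →
      ∃ r : T' ⟶ R, r ≫ s = z₁ ≫ i ≫ fst U T ∧ r ≫ t = z₂ ≫ i ≫ fst U T) :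
    ∃! σ : QuotSh.rep Scheme.fppfPrecoverage T ⟶ QuotSh.quot Scheme.fppfPrecoverage s t,
      QuotSh.repMap Scheme.fppfPrecoverage (i ≫ fst U T) ≫ QuotSh.quotπ Scheme.fppfPrecoverage s t =
        QuotSh.repMap Scheme.fppfPrecoverage (i ≫ snd U T) ≫ σ := by
  let q : Z ⟶ T := i ≫ snd U T
  let R₀ : Over S := Over.mk (pullback.fst q.left q.left ≫ Z.hom)
  let p₁ : R₀ ⟶ Z := Over.homMk (pullback.fst q.left q.left) rfl
  let p₂ : R₀ ⟶ Z := Over.homMk (pullback.snd q.left q.left) (by
    show pullback.snd q.left q.left ≫ Z.hom = pullback.fst q.left q.left ≫ Z.hom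
    rw [← Over.w q, pullback.condition_assoc])
  obtain ⟨r, hr₁, hr₂⟩ := hZZ R₀ p₁ p₂ (Over.OverMorphism.ext pullback.condition)
  have := QuotShLib.existsUnique_fac Scheme.fppfPrecoverage
    (QuotShLib.generate_singleton_mem_J q.left.singleton_mem_fppfPrecoverage)
    (QuotShLib.isKernelPair_of_left (IsPullback.of_hasPullback q.left q.left) : IsKernelPair q p₁ p₂)
    (QuotSh.repMap Scheme.fppfPrecoverage (i ≫ fst U T) ≫ QuotSh.quotπ Scheme.fppfPrecoverage s t) (by
      rw [← Category.assoc, ← Category.assoc, ← SchDescent.SheafDesc.repMap_comp,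
        ← SchDescent.SheafDesc.repMap_comp, ← hr₁, ← hr₂, SchDescent.SheafDesc.repMap_comp,
        SchDescent.SheafDesc.repMap_comp, Category.assoc, Category.assoc, QuotSh.quot_condition])
  obtain ⟨σ, hσ, hu⟩ := this
  exact ⟨σ, hσ.symm, fun y hy => hu y hy.symm⟩

end Groth.Agent.S6041
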