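import Groth.Statements.S6044
import Groth.Agent.FpqcDescent.MonoDatum
import Groth.Agent.FpqcDescent.IdealGlue

set_option autoImplicit false
open CategoryTheory CategoryTheory.Limits AlgebraicGeometry
universe u
open GrpQ

namespace Groth.Agent.S6044

/-- Closed immersions descend along the fpqc topology. For an fpqc covering family `f i : X i ⟶ S` of a
scheme `S`, every descent datum for schemes relative to the family all of whose members `Z i ⟶ X i`
are closed immersions is effective. -/
theorem result {S : Scheme.{u}} {ι : Type u} {X : ι → Scheme.{u}}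
    (f : ∀ i, X i ⟶ S) (hf : Presieve.ofArrows X f ∈ Scheme.fpqcPrecoverage S)
    (D : Desc.SchDDFam f) (hD : ∀ i, IsClosedImmersion (D.obj i).hom) :
    D.IsEffective := by
  let I : ∀ i, (X i).IdealSheafData := fun i ↦ (D.obj i).hom.ker
  have hle : ∀ {T : Scheme.{u}} {i j : ι} (p : T ⟶ X i) (q : T ⟶ X j), p ≫ f i = q ≫ f j →
      (pullback.fst q (D.obj j).hom).ker ≤ (pullback.fst p (D.obj i).hom).ker := by
    intro T i j p q h
    obtain ⟨w, hw⟩ := Groth.Agent.FpqcDescent.exists_lift_snd D
      (pullback.fst p (D.obj i).hom ≫ p) (pullback.fst p (D.obj i).hom ≫ q)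
      (by rw [Category.assoc, Category.assoc, h]) (pullback.snd p (D.obj i).hom)
      pullback.condition.symm
    rw [← pullback.lift_fst (f := q) (g := (D.obj j).hom) (pullback.fst p (D.obj i).hom) w hw.symm]
    exact Scheme.Hom.le_ker_comp _ _
  have hI : ∀ i j, (I i).comap (pullback.fst (f i) (f j)) = (I j).comap (pullback.snd (f i) (f j)) := by
    intro i j
    rw [← Scheme.IdealSheafData.ker_fst_of_isClosedImmersion (D.obj i).hom,
      ← Scheme.IdealSheafData.ker_fst_of_isClosedImmersion (D.obj j).hom]
    exact le_antisymm (hle _ _ pullback.condition.symm) (hle _ _ pullback.condition)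
  obtain ⟨J, hJ, -⟩ := Groth.Agent.FpqcDescent.existsUnique_descent hf I hI
  have : Mono (Over.mk J.subschemeι).hom := inferInstanceAs (Mono J.subschemeι)
  have hker : ∀ i, (pullback.fst (f i) J.subschemeι).ker = (D.obj i).hom.ker := fun i ↦ hJ i
  have hlift : ∀ i, IsIso (IsClosedImmersion.lift (D.obj i).hom (pullback.fst (f i) J.subschemeι)
      (hker i).ge) := fun i ↦ by
    refine ⟨IsClosedImmersion.lift (pullback.fst (f i) J.subschemeι) (D.obj i).hom (hker i).le,
      (cancel_mono (pullback.fst (f i) J.subschemeι)).mp ?_, (cancel_mono (D.obj i).hom).mp ?_⟩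
    · rw [Category.assoc, IsClosedImmersion.lift_fac, IsClosedImmersion.lift_fac, Category.id_comp]
    · rw [Category.assoc, IsClosedImmersion.lift_fac, IsClosedImmersion.lift_fac, Category.id_comp]
  exact Groth.Agent.FpqcDescent.isEffective_of_mono D (Over.mk J.subschemeι) (fun i ↦ inferInstance)
    (fun i ↦ @asIso _ _ _ _ _ (hlift i)) (fun i ↦ IsClosedImmersion.lift_fac _ _ _)

end Groth.Agent.S6044
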