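import Groth.Statements.S6045
import Groth.Agent.FpqcDescent.MonoDatum
import Groth.Agent.S9839

set_option autoImplicit false
open CategoryTheory CategoryTheory.Limits AlgebraicGeometry
universe u
open GrpQ

namespace Groth.Agent.S6045

/-- Open immersions descend along the fpqc topology. For an fpqc covering family `f i : X i ⟶ S` of a
scheme `S`, every descent datum for schemes relative to the family all of whose members `Z i ⟶ X i`
are open immersions is effective. -/
theorem result {S : Scheme.{u}} {ι : Type u} {X : ι → Scheme.{u}}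
    (f : ∀ i, X i ⟶ S) (hf : Presieve.ofArrows X f ∈ Scheme.fpqcPrecoverage S)
    (D : Desc.SchDDFam f) (hD : ∀ i, IsOpenImmersion (D.obj i).hom) :
    D.IsEffective := by
  have hmem : ∀ i j (t : ↥(pullback (f i) (f j))), pullback.fst (f i) (f j) t ∈ (D.obj i).hom.opensRange →
      pullback.snd (f i) (f j) t ∈ (D.obj j).hom.opensRange := by
    intro i j t ht
    let A := pullback.fst (f i) (f j) ⁻¹ᵁ (D.obj i).hom.opensRange
    have hle : Set.range (A.ι ≫ pullback.fst (f i) (f j)) ⊆ Set.range (D.obj i).hom := by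
      rintro _ ⟨z, rfl⟩
      exact z.2
    obtain ⟨w, hw⟩ := Groth.Agent.FpqcDescent.exists_lift_snd D (A.ι ≫ pullback.fst (f i) (f j))
      (A.ι ≫ pullback.snd (f i) (f j)) (by simp only [Category.assoc, pullback.condition])
      (IsOpenImmersion.lift (D.obj i).hom _ hle) (IsOpenImmersion.lift_fac _ _ _)
    let z : A.toScheme := ⟨t, ht⟩
    exact ⟨w z, (Scheme.Hom.comp_apply w (D.obj j).hom z).symm.trans (congr($hw z))⟩
  have hW : ∀ i j, pullback.fst (f i) (f j) ⁻¹ᵁ (D.obj i).hom.opensRange =
      pullback.snd (f i) (f j) ⁻¹ᵁ (D.obj j).hom.opensRange := by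
    intro i j
    refine le_antisymm (fun t ht ↦ hmem i j t ht) fun t ht ↦ ?_
    have := hmem j i ((pullbackSymmetry (f i) (f j)).hom t)
    rw [← Scheme.Hom.comp_apply, ← Scheme.Hom.comp_apply, pullbackSymmetry_hom_comp_fst,
      pullbackSymmetry_hom_comp_snd] at this
    exact this ht
  obtain ⟨V, hV, -⟩ := Groth.Agent.S9839.result f hf (fun i ↦ (D.obj i).hom.opensRange) hW
  have hr : ∀ i, Set.range (pullback.fst (f i) V.ι) = Set.range (D.obj i).hom := fun i ↦ by
    rw [IsOpenImmersion.range_pullbackFst]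
    have := congrArg (fun W : (X i).Opens ↦ (W : Set (X i))) (hV i)
    simpa using this
  have : Mono (Over.mk V.ι).hom := inferInstanceAs (Mono V.ι)
  exact Groth.Agent.FpqcDescent.isEffective_of_mono D (Over.mk V.ι) (fun i ↦ inferInstance)
    (fun i ↦ IsOpenImmersion.isoOfRangeEq (pullback.fst (f i) V.ι) (D.obj i).hom (hr i))
    (fun i ↦ IsOpenImmersion.isoOfRangeEq_hom_fac _ _ _)

end Groth.Agent.S6045
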