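import Groth.Statements.S6055
import Groth.Agent.GrpQuotSh.Basic

set_option autoImplicit false
open CategoryTheory CategoryTheory.Limits MonoidalCategory
universe w v₁ u₁
open ShfCat

namespace Groth.Agent.S6055

open MonObj CartesianMonoidalCategory SemiCartesianMonoidalCategory in
/-- Let `G` be a sheaf of groups on a site, `H, L ⊆ G` subgroup sheaves and `π : G ⟶ G/H` the quotient
sheaf map. Then the pair `L × (H ∩ L) ⇉ L` (projection, right multiplication) is the kernel pair of
`L ⟶ G ⟶ G/H`, so that the image of `L` in `G/H` is the quotient sheaf `L/(H ∩ L)`. Sheaves of sets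
in `Type w` with sheafification; `H ∩ L` is the fibre product `H ×_G L`. (The published statement
assumes `H` normal and also identifies this image with `(L·H)/H`; normality is not needed for the
part stated here.) -/
theorem result {C : Type u₁} [Category.{v₁} C]
    (J : GrothendieckTopology C) [HasSheafify J (Type w)]
    {H L G : Sheaf J (Type w)} [hH : GrpObj H] [hL : GrpObj L] [hG : GrpObj G]
    (u : H ⟶ G) (l : L ⟶ G) [Mono u] [Mono l]
    (hu : @IsMonHom (Sheaf J (Type w)) _ _ H G hH.toMonObj hG.toMonObj u)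
    (hl : @IsMonHom (Sheaf J (Type w)) _ _ L G hL.toMonObj hG.toMonObj l) :
    IsKernelPair (l ≫ coequalizer.π (fst G H) ((G ◁ u) ≫ hG.mul))
      (fst L (pullback u l)) ((L ◁ pullback.snd u l) ≫ hL.mul) := by
  haveI := hu
  haveI := hl
  open CartesianMonoidalCategory SemiCartesianMonoidalCategory MonObj in
  have ha : ∀ {Y : Sheaf J (Type w)} (f : Y ⟶ L ⊗ pullback u l),
      f ≫ (L ◁ pullback.snd u l) ≫ hL.mul = f ≫ fst L _ * (f ≫ snd L _ ≫ pullback.snd u l) := by
    intro Y f
    rw [Hom.mul_def, ← Category.assoc]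
    congr 1
  have hD : Groth.Agent.GrpQuotSh.Exactness (Sheaf J (Type w)) := Groth.Agent.GrpQuotSh.exactness_sheaf J
  open CartesianMonoidalCategory SemiCartesianMonoidalCategory MonObj in
  have w0 : fst L (pullback u l) ≫ l ≫ coequalizer.π (fst G H) ((G ◁ u) ≫ hG.mul) =
      ((L ◁ pullback.snd u l) ≫ hL.mul) ≫ l ≫ coequalizer.π (fst G H) ((G ◁ u) ≫ hG.mul) := by
    have h1 := ha (𝟙 _)
    rw [Category.id_comp, Category.id_comp, Category.id_comp] at h1
    rw [h1, ← Category.assoc _ l, ← Category.assoc (_ * _) l, MonObj.mul_comp _ _ l, Category.assoc (snd _ _), ← pullback.condition,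
      ← Category.assoc (snd _ _)]
    exact ((Category.assoc _ _ _).symm).trans (Groth.Agent.GrpQuotSh.π_mul u _ _).symm
  refine IsPullback.of_isLimit' ⟨w0⟩ ?_
  open CartesianMonoidalCategory SemiCartesianMonoidalCategory MonObj in
  have hex : ∀ s : PullbackCone (l ≫ coequalizer.π (fst G H) ((G ◁ u) ≫ hG.mul)) (l ≫ coequalizer.π (fst G H) ((G ◁ u) ≫ hG.mul)),
      ∃ q : s.pt ⟶ pullback u l, s.fst * q ≫ pullback.snd u l = s.snd := by
    intro s
    obtain ⟨c, hc⟩ := Groth.Agent.GrpQuotSh.exists_of_π_eq hD u (a := s.fst ≫ l) (b := s.snd ≫ l)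
      ((Category.assoc _ _ _).trans (s.condition.trans (Category.assoc _ _ _).symm))
    refine ⟨pullback.lift c (s.fst⁻¹ * s.snd) ?_, ?_⟩
    · refine (mul_left_cancel (a := s.fst ≫ l) ?_).symm
      rw [← MonObj.mul_comp, mul_inv_cancel_left, hc]
    · rw [pullback.lift_snd, mul_inv_cancel_left]
  open CartesianMonoidalCategory SemiCartesianMonoidalCategory MonObj in
  refine PullbackCone.IsLimit.mk _ (fun s => lift s.fst (hex s).choose) (fun s => lift_fst _ _) (fun s => ?_) (fun s m h₁ h₂ => ?_)
  open CartesianMonoidalCategory SemiCartesianMonoidalCategory MonObj in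
  · rw [ha, lift_fst, lift_snd_assoc]
    exact (hex s).choose_spec
  open CartesianMonoidalCategory SemiCartesianMonoidalCategory MonObj in
  · rw [ha, h₁] at h₂
    have h := mul_left_cancel (h₂.trans (hex s).choose_spec.symm)
    rw [← Category.assoc, cancel_mono] at h
    exact CartesianMonoidalCategory.hom_ext _ _ (h₁.trans (lift_fst _ _).symm) (h.trans (lift_snd _ _).symm)

end Groth.Agent.S6055
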