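import Groth.Statements.S6056
import Groth.Agent.MonoFactor.HomogDim
import Groth.Agent.Grpd.FlatComp
import Groth.Agent.FppfSource.Scheme
import Mathlib

set_option autoImplicit false
open CategoryTheory CategoryTheory.Limits AlgebraicGeometry MonoidalCategory
universe u
open RedSub

namespace Groth.Agent.S6056

open MonObj CartesianMonoidalCategory SemiCartesianMonoidalCategory

/-- descent of morphisms along an fppf cover -/
theorem exists_desc {S : Scheme.{u}} {G X W : Over S} (q : G ⟶ X)
    (hq : Surjective q.left ∧ Flat q.left ∧ LocallyOfFinitePresentation q.left) (t : G ⟶ W)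
    (h : ∀ (T : Over S) (g₁ g₂ : T ⟶ G), g₁ ≫ q = g₂ ≫ q → g₁ ≫ t = g₂ ≫ t) :
    ∃ f : X ⟶ W, q ≫ f = t := by
  haveI := hq.1; haveI := hq.2.1; haveI := hq.2.2
  have hd : ∀ {T : Scheme.{u}} (g₁ g₂ : T ⟶ G.left), g₁ ≫ q.left = g₂ ≫ q.left → g₁ ≫ t.left = g₂ ≫ t.left := by
    intro T g₁ g₂ e
    let T' : Over S := Over.mk (g₁ ≫ G.hom)
    let x : T' ⟶ G := Over.homMk g₁ rfl
    let y : T' ⟶ G := Over.homMk g₂ (by
      change g₂ ≫ G.hom = g₁ ≫ G.hom
      rw [← Over.w q, ← Category.assoc, ← Category.assoc, e])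
    exact congrArg CommaMorphism.left (h T' x y (Over.OverMorphism.ext e))
  refine ⟨Over.homMk (EffectiveEpi.desc q.left t.left hd) ?_,
    Over.OverMorphism.ext (EffectiveEpi.fac q.left t.left hd)⟩
  apply (cancel_epi q.left).mp
  rw [← Category.assoc, EffectiveEpi.fac, Over.w, Over.w]

/-- when two points have the same image in a quotient -/
theorem eq_iff {S : Scheme.{u}} {G H Q : Over S} [GrpObj G] (i : H ⟶ G) (q : G ⟶ Q)
    (hpb : IsPullback (fst G H) ((G ◁ i) ≫ μ[G]) q q) {T : Over S} (g₁ g₂ : T ⟶ G) :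
    g₁ ≫ q = g₂ ≫ q ↔ ∃ h : T ⟶ H, g₁ * (h ≫ i) = g₂ := by
  have key : ∀ h : T ⟶ H, lift g₁ h ≫ (G ◁ i) ≫ μ[G] = g₁ * (h ≫ i) := fun h => by
    rw [lift_whiskerLeft_assoc, Hom.mul_def]
  constructor
  · intro e
    refine ⟨hpb.lift g₁ g₂ e ≫ snd G H, ?_⟩
    rw [← key]
    conv_rhs => rw [← hpb.lift_snd g₁ g₂ e]
    congr 1
    apply CartesianMonoidalCategory.hom_ext <;> simp
  · rintro ⟨h, rfl⟩
    rw [← key]
    have := congrArg (lift g₁ h ≫ ·) hpb.w
    simpa using this

/-- the tensor product of two covers is a cover -/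
theorem tensor_cover {S : Scheme.{u}} {A B A' B' : Over S} (f : A ⟶ B)
    (hf : Surjective f.left ∧ Flat f.left ∧ LocallyOfFinitePresentation f.left) (g : A' ⟶ B')
    (hg : Surjective g.left ∧ Flat g.left ∧ LocallyOfFinitePresentation g.left) :
    Surjective (f ⊗ₘ g).left ∧ Flat (f ⊗ₘ g).left ∧ LocallyOfFinitePresentation (f ⊗ₘ g).left := by
  have e : f ⊗ₘ g = (A ◁ g) ≫ (f ▷ B') := by ext <;> simp
  have h1 := @Groth.Agent.MonoFactor.cover_whiskerLeft _ A _ _ g hg.1 hg.2.1 hg.2.2
  have h : IsPullback (fst A B') (f ▷ B') f (fst B B') := by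
    refine IsPullback.of_isLimit' ⟨(whiskerRight_fst f B').symm⟩
      (Limits.PullbackCone.IsLimit.mk _ (fun c => lift c.fst (c.snd ≫ snd B B'))
        (fun c => lift_fst _ _) (fun c => ?_) (fun c m h1 h2 => ?_))
    · apply CartesianMonoidalCategory.hom_ext
      · rw [Category.assoc, whiskerRight_fst, lift_fst_assoc]
        exact c.condition
      · rw [Category.assoc, whiskerRight_snd, lift_snd]
    · apply CartesianMonoidalCategory.hom_ext
      · rw [lift_fst]; exact h1
      · rw [lift_snd, ← h2, Category.assoc, whiskerRight_snd]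
  have h' := h.map (Over.forget _)
  rw [e, Over.comp_left]
  exact ⟨MorphismProperty.comp_mem _ _ _ h1.1 (MorphismProperty.of_isPullback (P := @Surjective) h' hf.1),
    MorphismProperty.comp_mem _ _ _ h1.2.1 (MorphismProperty.of_isPullback (P := @Flat) h' hf.2.1),
    MorphismProperty.comp_mem _ _ _ h1.2.2 (MorphismProperty.of_isPullback (P := @LocallyOfFinitePresentation) h' hf.2.2)⟩

open MonObj CartesianMonoidalCategory SemiCartesianMonoidalCategory in
/-- For group schemes and fppf quotients: let `K ⊆ G` be a subgroup scheme and `H ⊆ K` a subgroup scheme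
normal in `K`; suppose `G/H` is represented by `q_H : G ⟶ Q_H` and `K/H` by a homomorphism `K ⟶ K'`
of group schemes, and let `act : Q_H ×_S K' ⟶ Q_H` be the right action induced by the multiplication
of `G`. Then: (i) if `G/K` is represented by `q_K : G ⟶ Q_K`, the map `Q_H ⟶ Q_K` under `G` is an
fppf covering whose kernel pair is `Q_H ×_S K' ⇉ Q_H` (projection, action), i.e. `Q_K =
(G/H)/(K/H)`; (ii) conversely, if `p : Q_H ⟶ Y` is an fppf covering with that kernel pair, then `q_H
≫ p` represents `G/K`. -/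
theorem result {S : Scheme.{u}} {H K G QH Kb : Over S}
    [hH : GrpObj H] [hK : GrpObj K] [hG : GrpObj G] [hKb : GrpObj Kb]
    (h : H ⟶ K) (k : K ⟶ G) [Mono h] [Mono k] [IsMonHom h] [IsMonHom k]
    (hn : AlgGrp.IsNormalHom h)
    (qH : G ⟶ QH) (hqH : RedSub.IsQuotient (h ≫ k) qH)
    (qKb : K ⟶ Kb) [IsMonHom qKb] (hqKb : RedSub.IsQuotient h qKb)
    (act : QH ⊗ Kb ⟶ QH) (hact : (qH ⊗ₘ qKb) ≫ act = (G ◁ k) ≫ μ[G] ≫ qH) :
    (∀ (QK : Over S) (qK : G ⟶ QK), RedSub.IsQuotient k qK →
      ∀ qbar : QH ⟶ QK, qH ≫ qbar = qK →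
        Surjective qbar.left ∧ Flat qbar.left ∧ LocallyOfFinitePresentation qbar.left ∧
          IsPullback (fst QH Kb) act qbar qbar) ∧
    (∀ (Y : Over S) (p : QH ⟶ Y),
      Surjective p.left → Flat p.left → LocallyOfFinitePresentation p.left →
      IsPullback (fst QH Kb) act p p → RedSub.IsQuotient k (qH ≫ p)) := by
  obtain ⟨hHs, hHf, hHp, hHpb⟩ := hqH
  obtain ⟨hBs, hBf, hBp, hBpb⟩ := hqKb
  have hker : ∀ {T : Over S} (t : T ⟶ H), (t ≫ h) ≫ qKb = 1 := by
    intro T t
    have := (eq_iff h qKb hBpb (1 : T ⟶ K) (t ≫ h)).2 ⟨t, _root_.one_mul _⟩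
    rw [← this, MonObj.one_comp]
  let r : G ⊗ K ⟶ G := (G ◁ k) ≫ μ[G]
  have hr : ∀ {T : Over S} (g : T ⟶ G) (c : T ⟶ K), lift g c ≫ r = g * (c ≫ k) := fun g c => by
    rw [lift_whiskerLeft_assoc, Hom.mul_def]
  have hract : r ≫ qH = (qH ⊗ₘ qKb) ≫ act := by rw [hact]; exact Category.assoc _ _ _
  have hfst : (qH ⊗ₘ qKb) ≫ fst QH Kb = fst G K ≫ qH := tensorHom_fst _ _
  constructor
  · intro QK qK hqK qbar hbar
    obtain ⟨hKs, hKf, hKp, hKpb⟩ := hqK
    have hbar' : qH.left ≫ qbar.left = qK.left := by rw [← Over.comp_left, hbar]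
    have : Surjective (qH.left ≫ qbar.left) := by rw [hbar']; exact hKs
    have : Flat (qH.left ≫ qbar.left) := by rw [hbar']; exact hKf
    have : LocallyOfFinitePresentation (qH.left ≫ qbar.left) := by rw [hbar']; exact hKp
    refine ⟨Surjective.of_comp qH.left qbar.left, Groth.Agent.GrpdLib.flat_of_flat_comp qH.left qbar.left,
      Groth.Agent.FppfSource.lfp qH.left qbar.left, ?_⟩
    let P : Over S := Limits.pullback qbar qbar
    let π : G ⊗ K ⟶ P := Limits.pullback.lift (fst G K ≫ qH) (r ≫ qH) (by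
      rw [Category.assoc, Category.assoc, hbar]; exact hKpb.w)
    have hπ : Surjective π.left ∧ Flat π.left ∧ LocallyOfFinitePresentation π.left := by
      let P' : Over S := Limits.pullback qK qbar
      let π₁ : G ⊗ K ⟶ P' := Limits.pullback.lift (fst G K) (r ≫ qH) (by
        rw [Category.assoc, hbar]; exact hKpb.w)
      have h₁ : IsPullback r π₁ qH (Limits.pullback.snd qK qbar) := by
        refine (IsPullback.of_right (h₁₁ := π₁) (h₁₂ := Limits.pullback.fst qK qbar) (v₁₁ := r) ?_ ?_
          (IsPullback.of_hasPullback qK qbar)).flip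
        · rw [Limits.pullback.lift_fst, hbar]
          exact hKpb
        · rw [Limits.pullback.lift_snd]
      let π₂ : P' ⟶ P := Limits.pullback.lift (Limits.pullback.fst qK qbar ≫ qH) (Limits.pullback.snd qK qbar)
        (by rw [Category.assoc, hbar]; exact Limits.pullback.condition)
      have h₂ : IsPullback (Limits.pullback.fst qK qbar) π₂ qH (Limits.pullback.fst qbar qbar) := by
        refine IsPullback.of_bot (h₁₁ := Limits.pullback.fst qK qbar) (v₁₁ := π₂)
          (v₂₁ := Limits.pullback.snd qbar qbar) (v₂₂ := qbar) (h₃₁ := qbar) ?_ ?_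
          (IsPullback.of_hasPullback qbar qbar)
        · rw [Limits.pullback.lift_snd, hbar]
          exact IsPullback.of_hasPullback qK qbar
        · rw [Limits.pullback.lift_fst]
      have hcomp : π = π₁ ≫ π₂ := by
        apply Limits.pullback.hom_ext
        · simp only [π, π₁, π₂, Category.assoc, Limits.pullback.lift_fst, Limits.pullback.lift_fst_assoc]
        · simp only [π, π₁, π₂, Category.assoc, Limits.pullback.lift_snd]
      have h₁' := h₁.map (Over.forget _)
      have h₂' := h₂.map (Over.forget _)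
      rw [hcomp, Over.comp_left]
      exact ⟨MorphismProperty.comp_mem _ _ _ (MorphismProperty.of_isPullback (P := @Surjective) h₁' hHs)
          (MorphismProperty.of_isPullback (P := @Surjective) h₂' hHs),
        MorphismProperty.comp_mem _ _ _ (MorphismProperty.of_isPullback (P := @Flat) h₁' hHf)
          (MorphismProperty.of_isPullback (P := @Flat) h₂' hHf),
        MorphismProperty.comp_mem _ _ _ (MorphismProperty.of_isPullback (P := @LocallyOfFinitePresentation) h₁' hHp)
          (MorphismProperty.of_isPullback (P := @LocallyOfFinitePresentation) h₂' hHp)⟩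
    obtain ⟨d, hd⟩ := exists_desc π hπ (qH ⊗ₘ qKb) fun T g₁ g₂ e => by
      have e1 : (g₁ ≫ fst G K) ≫ qH = (g₂ ≫ fst G K) ≫ qH := by
        have := congrArg (· ≫ Limits.pullback.fst qbar qbar) e
        simpa only [π, Category.assoc, Limits.pullback.lift_fst] using this
      have e2 : (g₁ ≫ r) ≫ qH = (g₂ ≫ r) ≫ qH := by
        have := congrArg (· ≫ Limits.pullback.snd qbar qbar) e
        simpa only [π, Category.assoc, Limits.pullback.lift_snd] using this
      have hg : ∀ g : T ⟶ G ⊗ K, g ≫ r = (g ≫ fst G K) * ((g ≫ snd G K) ≫ k) := fun g => by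
        conv_lhs => rw [← Category.comp_id g, ← lift_fst_snd, comp_lift, hr]
      obtain ⟨t, ht⟩ := (eq_iff _ qH hHpb _ _).1 e1
      obtain ⟨t', ht'⟩ := (eq_iff _ qH hHpb _ _).1 e2
      rw [hg, hg, ← ht, _root_.mul_assoc, _root_.mul_assoc, mul_right_inj, ← Category.assoc, ← Category.assoc,
        ← MonObj.mul_comp, ← MonObj.mul_comp, cancel_mono] at ht'
      have h3 := congrArg (· ≫ qKb) ht'
      simp only [MonObj.mul_comp, hker, _root_.one_mul, _root_.mul_one] at h3
      apply CartesianMonoidalCategory.hom_ext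
      · rw [Category.assoc, Category.assoc, tensorHom_fst, ← Category.assoc, e1, Category.assoc]
      · rw [Category.assoc, Category.assoc, tensorHom_snd, ← Category.assoc, h3, Category.assoc]
    have hqq : Surjective (qH ⊗ₘ qKb).left ∧ Flat (qH ⊗ₘ qKb).left ∧ LocallyOfFinitePresentation (qH ⊗ₘ qKb).left :=
      tensor_cover qH ⟨hHs, hHf, hHp⟩ qKb ⟨hBs, hBf, hBp⟩
    have := Groth.Agent.MonoFactor.epi_of_cover _ hqq
    have := Groth.Agent.MonoFactor.epi_of_cover π hπ
    let c : QH ⊗ Kb ⟶ P := Limits.pullback.lift (fst QH Kb) act (by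
      rw [← cancel_epi (qH ⊗ₘ qKb), ← Category.assoc, hfst, ← Category.assoc (qH ⊗ₘ qKb), ← hract,
        Category.assoc, Category.assoc, hbar]
      exact hKpb.w)
    have hc : (qH ⊗ₘ qKb) ≫ c = π := by
      apply Limits.pullback.hom_ext
      · rw [Category.assoc, Limits.pullback.lift_fst, Limits.pullback.lift_fst, hfst]
      · rw [Category.assoc, Limits.pullback.lift_snd, Limits.pullback.lift_snd, hract]
    let e : QH ⊗ Kb ≅ P :=
      { hom := c
        inv := d
        hom_inv_id := by rw [← cancel_epi (qH ⊗ₘ qKb), ← Category.assoc, hc, hd, Category.comp_id]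
        inv_hom_id := by rw [← cancel_epi π, ← Category.assoc, hd, hc, Category.comp_id] }
    exact (IsPullback.of_hasPullback qbar qbar).of_iso e.symm (Iso.refl _) (Iso.refl _) (Iso.refl _)
      (by rw [Iso.refl_hom, Category.comp_id]; exact (Iso.eq_inv_comp e).2 (Limits.pullback.lift_fst _ _ _))
      (by rw [Iso.refl_hom, Category.comp_id]; exact (Iso.eq_inv_comp e).2 (Limits.pullback.lift_snd _ _ _))
      (by simp) (by simp)
  · intro Y p hps hpf hpp hppb
    refine ⟨by rw [Over.comp_left]; infer_instance, by rw [Over.comp_left]; infer_instance,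
      by rw [Over.comp_left]; infer_instance, ?_⟩
    have w : fst G K ≫ qH ≫ p = ((G ◁ k) ≫ μ[G]) ≫ qH ≫ p := by
      rw [← Category.assoc _ qH p, ← hfst, Category.assoc, hppb.w, ← Category.assoc, ← hract, Category.assoc]
    have key : ∀ {T : Over S} (g₁ g₂ : T ⟶ G), g₁ ≫ qH ≫ p = g₂ ≫ qH ≫ p → ∃ c : T ⟶ K, g₁ * (c ≫ k) = g₂ := by
      intro T g₁ g₂ e
      rw [← Category.assoc, ← Category.assoc] at e
      let z : T ⟶ Kb := hppb.lift _ _ e ≫ snd QH Kb
      have hz : lift (g₁ ≫ qH) z ≫ act = g₂ ≫ qH := by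
        conv_rhs => rw [← hppb.lift_snd _ _ e]
        congr 1
        apply CartesianMonoidalCategory.hom_ext <;> simp [z]
      let T' : Over S := Limits.pullback z qKb
      let t : T' ⟶ T := Limits.pullback.fst z qKb
      let c' : T' ⟶ K := Limits.pullback.snd z qKb
      have hsq := (IsPullback.of_hasPullback z qKb).map (Over.forget _)
      have ht : Surjective t.left ∧ Flat t.left ∧ LocallyOfFinitePresentation t.left :=
        ⟨MorphismProperty.of_isPullback (P := @Surjective) hsq.flip hBs,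
          MorphismProperty.of_isPullback (P := @Flat) hsq.flip hBf,
          MorphismProperty.of_isPullback (P := @LocallyOfFinitePresentation) hsq.flip hBp⟩
      have h1 : ((t ≫ g₁) * (c' ≫ k)) ≫ qH = (t ≫ g₂) ≫ qH := by
        rw [← hr, Category.assoc, hract, ← Category.assoc, lift_map, ← Limits.pullback.condition,
          Category.assoc t g₁, ← comp_lift, Category.assoc t g₂, Category.assoc t, hz]
      obtain ⟨s, hs⟩ := (eq_iff _ qH hHpb _ _).1 h1
      rw [_root_.mul_assoc, ← Category.assoc, ← MonObj.mul_comp] at hs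
      obtain ⟨c, hc⟩ := exists_desc t ht (c' * (s ≫ h)) fun T'' u₁ u₂ e' => by
        rw [← cancel_mono k, Category.assoc, Category.assoc,
          show (c' * (s ≫ h)) ≫ k = (t ≫ g₁)⁻¹ * (t ≫ g₂) by rw [← hs, inv_mul_cancel_left],
          MonObj.comp_mul, MonObj.comp_mul, GrpObj.comp_inv, GrpObj.comp_inv, reassoc_of% e', reassoc_of% e']
      have := Groth.Agent.MonoFactor.epi_of_cover t ht
      refine ⟨c, ?_⟩
      rw [← cancel_epi t, MonObj.comp_mul, ← Category.assoc, hc, hs]
    refine IsPullback.of_isLimit' ⟨w⟩ (Limits.PullbackCone.IsLimit.mk _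
      (fun c => lift c.fst (key c.fst c.snd c.condition).choose) (fun c => lift_fst _ _) (fun c => ?_) ?_)
    · rw [hr]
      exact (key c.fst c.snd c.condition).choose_spec
    · intro c m h1 h2
      apply CartesianMonoidalCategory.hom_ext
      · rw [lift_fst]; exact h1
      · rw [lift_snd, ← cancel_mono k]
        have h3 : m ≫ (G ◁ k) ≫ μ[G] = (m ≫ fst G K) * ((m ≫ snd G K) ≫ k) := by
          conv_lhs => rw [← Category.comp_id m, ← lift_fst_snd, comp_lift]
          exact hr _ _
        rw [h2, h1] at h3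
        exact mul_left_cancel (h3.symm.trans (key c.fst c.snd c.condition).choose_spec.symm)

end Groth.Agent.S6056
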