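import Groth.Statements.S6057
import Mathlib

set_option autoImplicit false
open CategoryTheory
universe v₁ u₁
open ShfCat

namespace Groth.Agent.S6057

/-- Let `S` be an object whose representable presheaf is a sheaf for `J` and `φ : F ⟶ h_S` a morphism of
presheaves of sets. The relative presheaf on `C/S` (sections of `F` over `T` lying over the given `T
⟶ S`) is separated (resp. a sheaf) for the induced topology on `C/S` if and only if `F` is separated
(resp. a sheaf). -/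
theorem result {C : Type u₁} [Category.{v₁} C] (J : GrothendieckTopology C)
    {S : C} (hS : Presieve.IsSheaf J (yoneda.obj S)) {F : Cᵒᵖ ⥤ Type v₁} (φ : F ⟶ yoneda.obj S) :
    (Presieve.IsSeparated (J.over S) (ShfCat.relPsh φ) ↔ Presieve.IsSeparated J F) ∧
    (Presieve.IsSheaf (J.over S) (ShfCat.relPsh φ) ↔ Presieve.IsSheaf J F) := by
  have hsep : Presieve.IsSeparated J (yoneda.obj S) := fun {X} R hR ↦ (hS R hR).isSeparatedFor
  have nat : ∀ {Z Y : C} (f : Z ⟶ Y) (x : F.obj (Opposite.op Y)), φ.app (Opposite.op Z) (F.map f.op x) = f ≫ φ.app (Opposite.op Y) x :=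
    fun f x ↦ NatTrans.naturality_apply φ f.op x
  have sepA : Presieve.IsSeparated J F → Presieve.IsSeparated (J.over S) (ShfCat.relPsh φ) := by
    intro h T R hR x t₁ t₂ ht₁ ht₂
    rw [GrothendieckTopology.mem_over_iff] at hR
    refine Subtype.ext ((h _ hR).ext fun Z f hf ↦ ?_)
    rw [Sieve.overEquiv_iff] at hf
    exact congrArg Subtype.val ((ht₁ _ hf).trans (ht₂ _ hf).symm)
  have sepB : Presieve.IsSeparated (J.over S) (ShfCat.relPsh φ) → Presieve.IsSeparated J F := by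
    intro h T R hR x t₁ t₂ ht₁ ht₂
    have hs : φ.app (Opposite.op T) t₂ = φ.app (Opposite.op T) t₁ := (hsep R hR).ext fun Z f hf ↦ by
      show f ≫ φ.app (Opposite.op T) t₂ = f ≫ φ.app (Opposite.op T) t₁
      rw [← nat, ← nat, ht₁ f hf, ht₂ f hf]
    have hR' : (Sieve.overEquiv (Over.mk (φ.app (Opposite.op T) t₁))).symm R ∈ J.over S _ :=
      (J.mem_over_iff _).mpr (by rw [OrderIso.apply_symm_apply]; exact hR)
    have := (h _ hR').ext (t₁ := (⟨t₁, rfl⟩ : ShfCat.RelSections φ (Over.mk (φ.app (Opposite.op T) t₁)))) (t₂ := ⟨t₂, hs⟩)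
      fun Z f hf ↦ Subtype.ext (by
        show F.map f.left.op t₁ = F.map f.left.op t₂
        rw [ht₁ _ ((Sieve.overEquiv_symm_iff R f).mp hf), ht₂ _ ((Sieve.overEquiv_symm_iff R f).mp hf)])
    exact congrArg Subtype.val this
  refine ⟨⟨sepB, sepA⟩, fun h T R hR ↦ ?_, fun h T R hR ↦ ?_⟩
  · refine Presieve.isSeparatedFor_and_exists_isAmalgamation_iff_isSheafFor.mp ⟨sepB h.isSeparated R hR, fun x hx ↦ ?_⟩
    obtain ⟨s, hs, -⟩ := hS R hR (fun Z f hf ↦ φ.app (Opposite.op Z) (x f hf)) (by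
      intro Y₁ Y₂ Z g₁ g₂ f₁ f₂ h₁ h₂ e
      show g₁ ≫ φ.app (Opposite.op Y₁) (x f₁ h₁) = g₂ ≫ φ.app (Opposite.op Y₂) (x f₂ h₂)
      rw [← nat, ← nat, hx g₁ g₂ h₁ h₂ e])
    have hR' : (Sieve.overEquiv (Over.mk (s : T ⟶ S))).symm R ∈ J.over S _ := (J.mem_over_iff _).mpr (by rw [OrderIso.apply_symm_apply]; exact hR)
    obtain ⟨t, ht, -⟩ := h _ hR' (fun Z f hf ↦ ⟨x f.left ((Sieve.overEquiv_symm_iff R f).mp hf), by
        rw [← Over.w f]
        exact (hs f.left ((Sieve.overEquiv_symm_iff R f).mp hf)).symm⟩) (by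
      intro Y₁ Y₂ Z g₁ g₂ f₁ f₂ h₁ h₂ e
      exact Subtype.ext (hx g₁.left g₂.left _ _ congr($(e).left)))
    refine ⟨t.1, fun Z f hf ↦ ?_⟩
    exact congrArg Subtype.val (ht (Over.homMk f : Over.mk (f ≫ (s : T ⟶ S)) ⟶ Over.mk (s : T ⟶ S)) (by rw [Sieve.overEquiv_symm_iff]; exact hf))
  · refine Presieve.isSeparatedFor_and_exists_isAmalgamation_iff_isSheafFor.mp ⟨sepA h.isSeparated R hR, fun x hx ↦ ?_⟩
    have hR₀ : Sieve.overEquiv T R ∈ J T.left := (J.mem_over_iff R).mp hR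
    have hin : ∀ {Z : C} (f : Z ⟶ T.left), Sieve.overEquiv T R f → R (Over.homMk f : Over.mk (f ≫ T.hom) ⟶ T) :=
      fun f hf ↦ (Sieve.overEquiv_iff R f).mp hf
    obtain ⟨t, ht, -⟩ := h _ hR₀ (fun Z f hf ↦ (x _ (hin f hf)).1) (by
      intro Y₁ Y₂ Z g₁ g₂ f₁ f₂ h₁ h₂ e
      exact congrArg Subtype.val (hx
        (Over.homMk g₁ : Over.mk (g₁ ≫ f₁ ≫ T.hom) ⟶ Over.mk (f₁ ≫ T.hom))
        (Over.homMk g₂ (by simp [← reassoc_of% e]) : Over.mk (g₁ ≫ f₁ ≫ T.hom) ⟶ Over.mk (f₂ ≫ T.hom))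
        (hin f₁ h₁) (hin f₂ h₂) (Over.OverMorphism.ext e)))
    have htT : φ.app (Opposite.op T.left) t = T.hom := (hsep _ hR₀).ext fun Z f hf ↦ by
      show f ≫ φ.app (Opposite.op T.left) t = f ≫ T.hom
      rw [← nat, ht f hf]
      exact (x _ (hin f hf)).2
    refine ⟨⟨t, htT⟩, fun Z f hf ↦ Subtype.ext ?_⟩
    have hf' : Sieve.overEquiv T R f.left := by
      rw [Sieve.overEquiv_iff]
      have := R.downward_closed hf (Over.homMk (𝟙 Z.left) (by simp) : Over.mk (f.left ≫ T.hom) ⟶ Z)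
      convert this using 1
      ext; simp
    refine (ht f.left hf').trans ?_
    have := congrArg Subtype.val (hx (𝟙 (Over.mk (f.left ≫ T.hom))) (Over.homMk (𝟙 Z.left) (by simp) : Over.mk (f.left ≫ T.hom) ⟶ Z)
      (hin f.left hf') hf (Over.OverMorphism.ext (by simp)))
    rw [ShfCat.relPsh_map_val, ShfCat.relPsh_map_val] at this
    simpa using this

end Groth.Agent.S6057
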