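import Groth.Statements.S6065
import Groth.Agent.SubLocus.TorsionTransporter
-- import your own Groth.Agent.* helpers here

set_option autoImplicit false
open CategoryTheory MonoidalCategory CartesianMonoidalCategory MonObj GrpObj AlgebraicGeometry
universe u
open SGA3x

namespace Groth.Agent.S6065

open CategoryTheory.Limits in
/-- Let S be a locally Noetherian scheme, H a commutative S-group which is of finite type over S, and E
a nonempty set of integers n > 0 stable under multiplication, such that: a) for every n ∈ E the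
kernel ₙH of the n-th power map of H (the pullback of the unit section along that map) is finite and
flat over S; b) for every s ∈ S the family of fibres (ₙH)_s ⟶ H_s, n ∈ E, is schematically dense in
H_s (a section of the structure sheaf of H_s over an open subset whose pullback to every (ₙH)_s
vanishes is zero). Let Y be a closed subscheme of H. Then the functor on S-schemes whose value at S'
⟶ S is a point when H ×_S S' ⟶ H factors through Y and empty otherwise is representable by a closed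
subscheme T of S; and if S is Noetherian there is n ∈ E such that, for every S' ⟶ S, H ×_S S' ⟶ H
factors through Y if and only if ₙH ×_S S' ⟶ H does. -/
theorem result {S : Scheme.{u}} [IsLocallyNoetherian S]
    (H : Over S) [GrpObj H] [IsCommMonObj H] [LocallyOfFiniteType H.hom] [QuasiCompact H.hom]
    (E : Set ℕ) (hE : E.Nonempty) (hE0 : ∀ n ∈ E, 0 < n) (hEmul : ∀ m ∈ E, ∀ n ∈ E, m * n ∈ E)
    (ha : ∀ n ∈ E, IsFinite ((pullback.snd η[H].left (𝟙 H ^ n : H ⟶ H).left) ≫ H.hom) ∧ Flat ((pullback.snd η[H].left (𝟙 H ^ n : H ⟶ H).left) ≫ H.hom))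
    (hb : ∀ (s : S) (V : (H.hom.fiber s).Opens) (t : Γ(H.hom.fiber s, V)),
      (∀ n ∈ E, (MoreMor.fiberMap (pullback.snd η[H].left (𝟙 H ^ n : H ⟶ H).left) H.hom s).app V t = 0) → t = 0)
    (Y : Scheme.{u}) (y : Y ⟶ H.left) [IsClosedImmersion y] :
    (∃ (T : Scheme.{u}) (t : T ⟶ S), IsClosedImmersion t ∧
      ∀ (S' : Scheme.{u}) (g : S' ⟶ S), (∃ g' : S' ⟶ T, g' ≫ t = g) ↔
        ∃ l : pullback H.hom g ⟶ Y, l ≫ y = pullback.fst H.hom g) ∧
    (AlgebraicGeometry.IsNoetherian S → ∃ n ∈ E, ∀ (S' : Scheme.{u}) (g : S' ⟶ S),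
      (∃ l : pullback H.hom g ⟶ Y, l ≫ y = pullback.fst H.hom g) ↔
        ∃ l : pullback ((pullback.snd η[H].left (𝟙 H ^ n : H ⟶ H).left) ≫ H.hom) g ⟶ Y,
          l ≫ y = pullback.fst ((pullback.snd η[H].left (𝟙 H ^ n : H ⟶ H).left) ≫ H.hom) g ≫ (pullback.snd η[H].left (𝟙 H ^ n : H ⟶ H).left)) := by
  have hcongr : ∀ {Z : Scheme.{u}} (a : Z ⟶ S) (c : Z ⟶ H.left) (S' : Scheme.{u}) (g g' : S' ⟶ S), g' = g →
      ((∃ m, m ≫ y = pullback.fst a g' ≫ c) ↔ ∃ m, m ≫ y = pullback.fst a g ≫ c) := by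
    rintro Z a c S' g g' rfl
    exact Iff.rfl
  have hcomap : ∀ {W : Scheme.{u}} (v : W ⟶ pullback H.hom (𝟙 S)),
      (y.ker.comap (pullback.fst H.hom (𝟙 S))).comap v = ⊥ ↔ ∃ m, m ≫ y = v ≫ pullback.fst H.hom (𝟙 S) := by
    intro W v
    rw [← Scheme.IdealSheafData.comap_comp, Groth.Agent.ClosedRep.comap_eq_bot_iff]
    exact ⟨fun h => ⟨IsClosedImmersion.lift y _ h, IsClosedImmersion.lift_fac _ _ _⟩,
      fun ⟨m, hm⟩ => hm ▸ Scheme.Hom.le_ker_comp _ _⟩
  haveI : ∀ i : ULift.{u} ↥E, IsFinite (Groth.Agent.SubLocus.torsMap H E i ≫ H.hom) := fun i => (ha _ i.down.2).1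
  haveI : ∀ i : ULift.{u} ↥E, Flat (Groth.Agent.SubLocus.torsMap H E i ≫ H.hom) := fun i => (ha _ i.down.2).2
  have hb' : ∀ s : S, ∀ (V : (H.hom.fiber s).Opens) (t : Γ(H.hom.fiber s, V)),
      (∀ i, (MoreMor.fiberMap (Groth.Agent.SubLocus.torsMap H E i) H.hom s).app V t = 0) → t = 0 :=
    fun s V t ht => hb s V t fun n hn => ht ⟨⟨n, hn⟩⟩
  obtain ⟨hne, hdir⟩ := Groth.Agent.SubLocus.torsMap_hyps H E hE hEmul
  have hzero : ∀ (S' : Scheme.{u}) (g : S' ⟶ S),
      Groth.Agent.ClosedRep.ZeroOn H.hom (𝟙 S) (y.ker.comap (pullback.fst H.hom (𝟙 S))) g ↔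
        ∃ l : pullback H.hom g ⟶ Y, l ≫ y = pullback.fst H.hom g := by
    intro S' g
    refine (hcomap _).trans ?_
    rw [pullback.lift_fst]
    simpa only [Category.comp_id] using hcongr H.hom (𝟙 H.left) S' g (g ≫ 𝟙 S) (Category.comp_id g)
  constructor
  · obtain ⟨J, hJ, -⟩ := Groth.Agent.SubLocus.exists_reps_dense H.hom (𝟙 S) _ hb' (y.ker.comap (pullback.fst H.hom (𝟙 S)))
    exact ⟨(⨆ i, J i).subscheme, (⨆ i, J i).subschemeι, inferInstance,
      fun S' g => (hJ.factors_iff g).trans (hzero S' g)⟩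
  · intro hN
    obtain ⟨i, hi⟩ := Groth.Agent.SubLocus.exists_index_dense H.hom (𝟙 S) _ hb' hdir (y.ker.comap (pullback.fst H.hom (𝟙 S)))
    refine ⟨i.down.1, i.down.2, fun S' g => ((hzero S' g).symm.trans (hi g)).trans ?_⟩
    refine (hcomap _).trans ?_
    simpa only [Groth.Agent.SubLocus.famMap, pullback.lift_fst] using
      hcongr _ (Groth.Agent.SubLocus.torsMap H E i) S' g (g ≫ 𝟙 S) (Category.comp_id g)

end Groth.Agent.S6065
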