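import Groth.Statements.S6070
import Groth.Agent.MTBridge.SubLift
import Groth.Agent.MTBridge.Torsion
import Groth.Agent.S5294
-- import your own Groth.Agent.* helpers here

set_option autoImplicit false
set_option linter.style.haveILetI false
set_option backward.isDefEq.respectTransparency false
set_option synthInstance.maxHeartbeats 400000
set_option maxHeartbeats 1000000
open CategoryTheory MonoidalCategory CartesianMonoidalCategory MonObj GrpObj AlgebraicGeometry
universe u
open SGA3x

namespace Groth.Agent.S6070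

/-- In lifting form: what formal smoothness of the morphism H ↦ ₙH of the functor of multiplicative
subgroups means. Let S = Spec R be affine, J a nilpotent ideal of R, S₀ = Spec (R/J), n a natural
number and G an S-group which is smooth over S. Let j₀ : H₀ ⟶ G₀ = G ×_S S₀ be a sub-group-scheme (a
homomorphism which is an immersion) of multiplicative type (fpqc-locally isomorphic, as a group, to
diagonalisable groups D(M), M allowed to vary and taken in Type 0), and l : L ⟶ G a sub-group-scheme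
of multiplicative type whose base change to S₀ is the n-torsion of H₀ inside G₀: a point of G₀
factors through L ×_S S₀ if and only if it is j₀(h) for a point h of H₀ with h^n = 1. Then there is
a sub-group-scheme j : H ⟶ G of multiplicative type whose base change to S₀ coincides with H₀ as a
subgroup of G₀ (an isomorphism compatible with the maps to G₀) and whose n-torsion is L: a point of
G factors through L if and only if it is j(h) for a point h of H with h^n = 1. -/
theorem result {R : Type u} [CommRing R] (J : Ideal R) (hJ : IsNilpotent J) (n : ℕ)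
    (G : Over (Spec (CommRingCat.of R))) [GrpObj G] (hG : Smooth G.hom)
    (H₀ : Over (Spec (CommRingCat.of (R ⧸ J)))) [GrpObj H₀]
    (hH₀ : TwC.Locally (Spec (CommRingCat.of (R ⧸ J))) TwC.Topology.fpqc (fun S' f => ∃ (M : Type) (_ : AddCommGroup M), Nonempty (Grp.mk (Red.bc f H₀) ≅ Grp.mk (Red.DS S' M))))
    (j₀ : H₀ ⟶ Red.bc (Spec.map (CommRingCat.ofHom (Ideal.Quotient.mk J))) G) [IsMonHom j₀] [IsImmersion j₀.left]
    (L : Over (Spec (CommRingCat.of R))) [GrpObj L] (hL : TwC.Locally (Spec (CommRingCat.of R)) TwC.Topology.fpqc (fun S' f => ∃ (M : Type) (_ : AddCommGroup M), Nonempty (Grp.mk (Red.bc f L) ≅ Grp.mk (Red.DS S' M))))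
    (l : L ⟶ G) [IsMonHom l] [IsImmersion l.left]
    (hL0 : ∀ (X : Over (Spec (CommRingCat.of (R ⧸ J)))) (g : X ⟶ Red.bc (Spec.map (CommRingCat.ofHom (Ideal.Quotient.mk J))) G),
      (∃ y : X ⟶ Red.bc (Spec.map (CommRingCat.ofHom (Ideal.Quotient.mk J))) L, y ≫ (Over.pullback (Spec.map (CommRingCat.ofHom (Ideal.Quotient.mk J)))).map l = g) ↔
        ∃ h : X ⟶ H₀, h ^ n = 1 ∧ h ≫ j₀ = g) :
    ∃ (H : Over (Spec (CommRingCat.of R))) (_ : GrpObj H) (j : H ⟶ G), IsMonHom j ∧ IsImmersion j.left ∧
      TwC.Locally (Spec (CommRingCat.of R)) TwC.Topology.fpqc (fun S' f => ∃ (M : Type) (_ : AddCommGroup M), Nonempty (Grp.mk (Red.bc f H) ≅ Grp.mk (Red.DS S' M))) ∧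
      (∃ φ : Red.bc (Spec.map (CommRingCat.ofHom (Ideal.Quotient.mk J))) H ≅ H₀, φ.hom ≫ j₀ = (Over.pullback (Spec.map (CommRingCat.ofHom (Ideal.Quotient.mk J)))).map j) ∧
      ∀ (X : Over (Spec (CommRingCat.of R))) (g : X ⟶ G),
        (∃ y : X ⟶ L, y ≫ l = g) ↔ ∃ h : X ⟶ H, h ^ n = 1 ∧ h ≫ j = g := by
  let q := Spec.map (CommRingCat.ofHom (Ideal.Quotient.mk J))
  obtain ⟨A, _, _, hA, hAft, f, hf, hfi, φ, hφ, hφb⟩ :=
    Groth.Agent.MTBridge.exists_subgroup_lift J hJ G hG H₀ hH₀ j₀
  haveI := hAft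
  haveI := hf
  haveI := hfi
  haveI := hφ
  obtain ⟨B, _, _, hB, hBft, e, he, hec, hev⟩ := Groth.Agent.MTBridge.exists_torsion hA n
  haveI := hBft
  haveI := he
  haveI := hec
  haveI : IsMonHom φ.inv :=
    { one_hom := by rw [← cancel_mono φ.hom, Category.assoc, Iso.inv_hom_id, Category.comp_id, IsMonHom.one_hom]
      mul_hom := by
        rw [← cancel_mono φ.hom, Category.assoc, Iso.inv_hom_id, Category.comp_id, Category.assoc, IsMonHom.mul_hom,
          ← Category.assoc, MonoidalCategory.tensorHom_comp_tensorHom, Iso.inv_hom_id]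
        simp }
  have hpow : ∀ {K : Over (Spec (CommRingCat.of R))} [GrpObj K] {Y : Over (Spec (CommRingCat.of (R ⧸ J)))}
      (z : Y ⟶ Red.bc q K) (m : ℕ),
      Groth.Agent.MTBridge.fromBC q (z ^ m) = (Groth.Agent.MTBridge.fromBC q z) ^ m := by
    intro K _ Y z m
    induction m with
    | zero => rw [pow_zero, pow_zero, Groth.Agent.MTBridge.fromBC_one]
    | succ m ih => rw [pow_succ, pow_succ, Groth.Agent.MTBridge.fromBC_mul, ih]
  let L₁ := (Groth.Agent.MTBridge.specGrp R B).X
  let l₁ : L₁ ⟶ G := e ≫ f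
  haveI : IsMonHom l₁ := inferInstanceAs (IsMonHom (e ≫ f))
  haveI : IsImmersion l₁.left := inferInstanceAs (IsImmersion (e.left ≫ f.left))
  obtain ⟨g, hg, χ, hχ⟩ := Groth.Agent.S5294.result J hJ G L₁ L hG
    (Groth.Agent.MTBridge.locally_specGrp hB) hL l₁ l 1 (fun X p => by
      simp only [MonObj.comp_one, _root_.one_mul, _root_.mul_one, inv_one]
      let ε := Groth.Agent.MTBridge.mapIso' p
      constructor
      · intro y
        let x := ε.hom ≫ y ≫ e
        have hx : Groth.Agent.MTBridge.toBC q x ^ n = 1 := by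
          have h0 : (y ≫ e) ^ n = 1 := (hev _ _).1 ⟨y, rfl⟩
          have h1 : Groth.Agent.MTBridge.fromBC q (Groth.Agent.MTBridge.toBC q x ^ n) =
              Groth.Agent.MTBridge.fromBC q (1 : Over.mk p.left ⟶ Red.bc q (Groth.Agent.MTBridge.specGrp R A).X) := by
            rw [hpow, Groth.Agent.MTBridge.fromBC_toBC, Groth.Agent.MTBridge.fromBC_one, ← MonObj.comp_pow, h0,
              MonObj.comp_one]
          have h2 := congrArg (Groth.Agent.MTBridge.toBC q) h1
          rwa [Groth.Agent.MTBridge.toBC_fromBC, Groth.Agent.MTBridge.toBC_fromBC] at h2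
        obtain ⟨z, hz⟩ := (hL0 _ (Groth.Agent.MTBridge.toBC q (x ≫ f))).2
          ⟨Groth.Agent.MTBridge.toBC q x ≫ φ.hom, by rw [← MonObj.pow_comp, hx, MonObj.one_comp], by
            rw [Category.assoc, hφb]
            exact (Groth.Agent.MTBridge.toBC_comp q f x).symm⟩
        refine ⟨ε.inv ≫ Groth.Agent.MTBridge.fromBC q z, ?_⟩
        have h3 := congrArg (Groth.Agent.MTBridge.fromBC q) hz
        rw [Groth.Agent.MTBridge.fromBC_comp_map, Groth.Agent.MTBridge.fromBC_toBC] at h3
        rw [Category.assoc, h3]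
        simp only [x, l₁, Category.assoc, Iso.inv_hom_id_assoc]
      · intro y
        obtain ⟨h₀, hh₀, hj⟩ := (hL0 _ (Groth.Agent.MTBridge.toBC q (ε.hom ≫ y) ≫ (Over.pullback q).map l)).1
          ⟨_, rfl⟩
        let x := ε.inv ≫ Groth.Agent.MTBridge.fromBC q (h₀ ≫ φ.inv)
        obtain ⟨z, hz⟩ := (hev _ x).2 (by
          rw [← MonObj.comp_pow, ← hpow, ← MonObj.pow_comp, hh₀, MonObj.one_comp,
            Groth.Agent.MTBridge.fromBC_one, MonObj.comp_one])
        refine ⟨z, ?_⟩
        have h3 := congrArg (Groth.Agent.MTBridge.fromBC q) hj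
        rw [Groth.Agent.MTBridge.fromBC_comp_map, Groth.Agent.MTBridge.fromBC_toBC] at h3
        show _ = z ≫ e ≫ f
        rw [← Category.assoc z e f, hz]
        simp only [x, Category.assoc]
        rw [← Groth.Agent.MTBridge.fromBC_comp_map, Category.assoc, ← hφb, Iso.inv_hom_id_assoc, h3,
          Category.assoc, Iso.inv_hom_id_assoc])
  let j : (Groth.Agent.MTBridge.specGrp R A).X ⟶ G :=
    (toUnit _ ≫ g) * f * (toUnit _ ≫ g)⁻¹
  haveI : IsMonHom j := Groth.Agent.MTBridge.isMonHom_conj f g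
  haveI : IsImmersion j.left := by
    let c : G ⟶ G := (toUnit G ≫ g) * 𝟙 G * (toUnit G ≫ g)⁻¹
    let c' : G ⟶ G := (toUnit G ≫ g)⁻¹ * 𝟙 G * (toUnit G ≫ g)
    have ht : ∀ {X : Over (Spec (CommRingCat.of R))} (m : X ⟶ G), m ≫ toUnit G ≫ g = toUnit X ≫ g := fun m => by
      rw [← Category.assoc, comp_toUnit]
    haveI : IsIso c := by
      refine ⟨c', ?_, ?_⟩
      · simp only [c', MonObj.comp_mul, GrpObj.comp_inv, ht, Category.comp_id]
        simp [c, _root_.mul_assoc]
      · simp only [c, MonObj.comp_mul, GrpObj.comp_inv, ht, Category.comp_id]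
        simp [c', _root_.mul_assoc]
    have hj : j = f ≫ c := by
      simp only [j, c, MonObj.comp_mul, GrpObj.comp_inv, ht, Category.comp_id]
    haveI : IsIso c.left := inferInstanceAs (IsIso ((Over.forget _).map c))
    rw [hj, Over.comp_left]
    infer_instance
  refine ⟨_, inferInstance, j, inferInstance, inferInstance, Groth.Agent.MTBridge.locally_specGrp hA, ⟨φ, ?_⟩,
    fun X x => ⟨?_, ?_⟩⟩
  · rw [hφb]
    let h := Groth.Agent.MTBridge.fromBC q (𝟙 (Red.bc q (Groth.Agent.MTBridge.specGrp R A).X))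
    have h1 : h ≫ f = h ≫ j := by
      simp only [j, MonObj.comp_mul, GrpObj.comp_inv]
      rw [← Category.assoc, comp_toUnit]
      have h2 : toUnit _ ≫ g = (1 : (Over.map q).obj (Red.bc q (Groth.Agent.MTBridge.specGrp R A).X) ⟶ G) := by
        rw [toUnit_unique (toUnit _) (Groth.Agent.MTBridge.mapToMk q _ ≫ toUnit _), Category.assoc, hg,
          MonObj.comp_one]
      rw [h2, _root_.one_mul, inv_one, _root_.mul_one]
    have h3 := congrArg (Groth.Agent.MTBridge.toBC q) h1
    rwa [Groth.Agent.MTBridge.toBC_comp, Groth.Agent.MTBridge.toBC_comp, Groth.Agent.MTBridge.toBC_fromBC,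
      Category.id_comp, Category.id_comp] at h3
  · rintro ⟨y, rfl⟩
    refine ⟨y ≫ χ.inv ≫ e, (hev _ _).1 ⟨y ≫ χ.inv, Category.assoc _ _ _⟩, ?_⟩
    simp only [j, MonObj.comp_mul, GrpObj.comp_inv, ← Category.assoc _ (toUnit _) g, comp_toUnit]
    have h4 := congrArg (fun m => (y ≫ χ.inv) ≫ m) hχ
    simp only [MonObj.comp_mul, GrpObj.comp_inv, ← Category.assoc _ (toUnit _) g, comp_toUnit, Category.assoc,
      Iso.inv_hom_id_assoc, l₁] at h4
    simpa only [Category.assoc] using h4
  · rintro ⟨h, hh, rfl⟩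
    obtain ⟨z, rfl⟩ := (hev _ h).2 hh
    refine ⟨z ≫ χ.hom, ?_⟩
    rw [Category.assoc, ← hχ]
    simp only [j, l₁, MonObj.comp_mul, GrpObj.comp_inv, ← Category.assoc _ (toUnit _) g, comp_toUnit, Category.assoc]
    rw [← Category.assoc z (toUnit L₁) g, comp_toUnit]

end Groth.Agent.S6070
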