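import Groth.Statements.S6075
import Groth.Agent.SubGen.Words
import Mathlib

set_option autoImplicit false
universe u
open CategoryTheory CategoryTheory.Limits MonoidalCategory CartesianMonoidalCategory MonObj GrpObj AlgebraicGeometry
open SGA3

namespace Groth.Agent.S6075

/-- Let k be an algebraically closed field, G a group scheme locally of finite type over k, X a
geometrically reduced k-scheme locally of finite type, and f : X → G a k-morphism. Consider the
k-points g of G whose underlying point lies under a word in f: there are a k-scheme T, a point p of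
T, n ≥ 0, T-valued points x_1, …, x_n of X and signs such that the T-valued point f(x_1)^{±1} ⋯
f(x_n)^{±1} of G maps p to the point of g. These k-points form exactly the subgroup of G(k)
generated by the k-points of G whose underlying point lies in the image of f. (Words of length zero
are allowed here, so that the unit is on both sides when X is empty; for nonempty X this changes
nothing, while the published statement, with words of positive length only, fails for empty X.) -/
theorem result (k : Type u) [Field k] [IsAlgClosed k]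
    (G X : Over (Spec (CommRingCat.of k))) [GrpObj G] [LocallyOfFiniteType G.hom]
    [LocallyOfFiniteType X.hom] [GeometricallyReduced X.hom] (f : X ⟶ G) :
    {g : 𝟙_ (Over (Spec (CommRingCat.of k))) ⟶ G | ∃ (n : ℕ) (T : Over (Spec (CommRingCat.of k))) (p : T.left) (p₀ : (𝟙_ (Over (Spec (CommRingCat.of k)))).left)
        (x : Fin n → (T ⟶ X)) (ε : Fin n → Bool), ((List.ofFn fun j : Fin n => if ε j then x j ≫ f else (x j ≫ f)⁻¹).prod : T ⟶ G).left.base p = g.left.base p₀} =
      ((Subgroup.closure {g : 𝟙_ (Over (Spec (CommRingCat.of k))) ⟶ G | ∃ p₀ : (𝟙_ (Over (Spec (CommRingCat.of k)))).left, g.left.base p₀ ∈ Set.range f.left.base} :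
        Subgroup (𝟙_ (Over (Spec (CommRingCat.of k))) ⟶ G)) : Set (𝟙_ (Over (Spec (CommRingCat.of k))) ⟶ G)) := by
  haveI := SubGen.lft_src X
  haveI : Subsingleton (𝟙_ (Over (Spec (CommRingCat.of k)))).left :=
    inferInstanceAs (Subsingleton (PrimeSpectrum k))
  let p₀ : (𝟙_ (Over (Spec (CommRingCat.of k)))).left := IsLocalRing.closedPoint k
  let gen := {g : 𝟙_ (Over (Spec (CommRingCat.of k))) ⟶ G | ∃ p₀ : (𝟙_ (Over (Spec (CommRingCat.of k)))).left, g.left.base p₀ ∈ Set.range f.left.base}
  ext g
  constructor
  · rintro ⟨n, T, p, q, x, ε, h⟩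
    obtain ⟨a, ha⟩ := SubGen.exists_src f x ε
    obtain ⟨z, hz⟩ := SubGen.exists_rat_lift (SubGen.word f (List.ofFn ε)) g q
      ⟨a.left p, by rw [← Scheme.Hom.comp_apply, ← Over.comp_left, ha]; exact h⟩
    obtain ⟨y, hy⟩ := SubGen.exists_sprod f (List.ofFn ε) z
    rw [hz] at hy
    rw [SetLike.mem_coe, ← hy]
    refine Subgroup.list_prod_mem _ fun w hw => ?_
    obtain ⟨j, rfl⟩ := List.mem_ofFn.1 hw
    have hmem : y j ≫ f ∈ Subgroup.closure gen := Subgroup.subset_closure
      ⟨p₀, (y j).left p₀, by rw [← Scheme.Hom.comp_apply, ← Over.comp_left]⟩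
    dsimp only
    split_ifs
    · exact hmem
    · exact Subgroup.inv_mem _ hmem
  · intro hg
    suffices hgl : ∃ (l : List Bool) (z : 𝟙_ (Over (Spec (CommRingCat.of k))) ⟶ SubGen.src X l), z ≫ SubGen.word f l = g by
      obtain ⟨l, z, hz⟩ := hgl
      obtain ⟨x, hx⟩ := SubGen.exists_sprod f l z
      refine ⟨l.length, _, p₀, p₀, x, l.get, ?_⟩
      rw [← hz, ← hx]
    induction hg using Subgroup.closure_induction with
    | mem g hg =>
      obtain ⟨q, hq⟩ := hg
      obtain ⟨x, hx⟩ := SubGen.exists_rat_lift f g q hq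
      obtain ⟨c, hc⟩ := SubGen.exists_singleton f true x
      exact ⟨_, c, hc.trans hx⟩
    | one => exact ⟨[], toUnit _, SubGen.comp_word_nil f _⟩
    | mul g h _ _ hg hh =>
      obtain ⟨l, a, rfl⟩ := hg
      obtain ⟨l', b, rfl⟩ := hh
      obtain ⟨c, hc⟩ := SubGen.exists_mul f l l' a b
      exact ⟨_, c, hc⟩
    | inv g _ hg =>
      obtain ⟨l, a, rfl⟩ := hg
      obtain ⟨l', c, hc⟩ := SubGen.exists_inv f l a
      exact ⟨l', c, hc⟩

end Groth.Agent.S6075
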