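import Groth.Statements.S6076
import Groth.Agent.ConsTop.Basic
import Groth.Agent.LimDesc.FPCancel
import Mathlib

set_option autoImplicit false
universe u
open CategoryTheory CategoryTheory.Limits MonoidalCategory CartesianMonoidalCategory MonObj GrpObj AlgebraicGeometry
open SGA3

namespace Groth.Agent.S6076

open Topology
set_option backward.isDefEq.respectTransparency false

variable {S : Scheme.{u}} {X H : Over S} [GrpObj H]

/-- the source of a word -/
noncomputable def src (X : Over S) : List Bool → Over S
  | [] => 𝟙_ _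
  | _ :: l => X ⊗ src X l

/-- a word -/
noncomputable def word (f : X ⟶ H) : ∀ l : List Bool, src X l ⟶ H
  | [] => η[H]
  | true :: l => (fst X (src X l) ≫ f) * (snd X (src X l) ≫ word f l)
  | false :: l => (fst X (src X l) ≫ f)⁻¹ * (snd X (src X l) ≫ word f l)

theorem exists_src (f : X ⟶ H) {T : Over S} : ∀ {n : ℕ} (x : Fin n → (T ⟶ X)) (ε : Fin n → Bool),
    ∃ a : T ⟶ src X (List.ofFn ε), a ≫ word f (List.ofFn ε) =
      (List.ofFn fun j : Fin n => if ε j then x j ≫ f else (x j ≫ f)⁻¹).prod
  | 0, x, ε => ⟨toUnit T, by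
      show toUnit T ≫ η[H] = _
      rw [List.ofFn_zero, List.prod_nil, Hom.one_def]⟩
  | n + 1, x, ε => by
    obtain ⟨a, ha⟩ := exists_src f (fun j : Fin n => x j.succ) (fun j => ε j.succ)
    rw [List.ofFn_succ]
    refine ⟨lift (x 0) a, ?_⟩
    rw [List.ofFn_succ (f := fun j : Fin (n + 1) => if ε j then x j ≫ f else (x j ≫ f)⁻¹), List.prod_cons, ← ha]
    cases hb : ε 0
    · show lift (x 0) a ≫ ((fst X _ ≫ f)⁻¹ * (snd X _ ≫ word f _)) = _
      simp [MonObj.comp_mul, GrpObj.comp_inv]
    · show lift (x 0) a ≫ ((fst X _ ≫ f) * (snd X _ ≫ word f _)) = _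
      simp [MonObj.comp_mul]

theorem exists_sprod (f : X ⟶ H) {T : Over S} : ∀ (l : List Bool) (a : T ⟶ src X l),
    ∃ x : Fin l.length → (T ⟶ X),
      (List.ofFn fun j : Fin l.length => if l.get j then x j ≫ f else (x j ≫ f)⁻¹).prod = a ≫ word f l
  | [], a => ⟨Fin.elim0, by
      show _ = a ≫ η[H]
      rw [toUnit_unique a (toUnit T), ← Hom.one_def]; simp⟩
  | b :: l, a => by
    obtain ⟨x, hx⟩ := exists_sprod f l (a ≫ snd X (src X l))
    refine ⟨Fin.cons (a ≫ fst X (src X l)) x, ?_⟩
    show (List.ofFn _).prod = _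
    rw [List.ofFn_succ, List.prod_cons]
    simp only [Fin.cons_succ, Fin.cons_zero]
    show _ * (List.ofFn fun j => if l.get j then x j ≫ f else (x j ≫ f)⁻¹).prod = _
    rw [hx]
    cases b
    · show _ = a ≫ ((fst X _ ≫ f)⁻¹ * (snd X _ ≫ word f _))
      simp [MonObj.comp_mul, GrpObj.comp_inv]
    · show _ = a ≫ ((fst X _ ≫ f) * (snd X _ ≫ word f _))
      simp [MonObj.comp_mul]

theorem lfp_src (X : Over S) [LocallyOfFinitePresentation X.hom] :
    ∀ l, LocallyOfFinitePresentation (src X l).hom
  | [] => inferInstanceAs (LocallyOfFinitePresentation (𝟙 S))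
  | _ :: l => by
    haveI := lfp_src X l
    haveI : LocallyOfFinitePresentation (pullback.fst X.hom (src X l).hom) := MorphismProperty.pullback_fst _ _ ‹_›
    exact inferInstanceAs (LocallyOfFinitePresentation (pullback.fst X.hom (src X l).hom ≫ X.hom))


/-- (iii) ⟹ (iv): let S be a scheme, X an S-scheme which is flat and locally of finite presentation over
S, H an S-group scheme locally of finite presentation over S with reduced fibres and quasi-compact
underlying space, and f : X → H an S-morphism. Say that a point h of H lies under a word of length n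
in f when there are an S-scheme T, a point p of T, T-valued points x_1, …, x_n of X and signs such
that the T-valued point f(x_1)^{±1} ⋯ f(x_n)^{±1} of H maps p to h. If every point of H lies under
some word in f, then there is a natural number n such that every point of H lies under a word of
length at most n. (The published statement concludes with words of one fixed length n and an
fppf-covering word morphism; for the constant group of order two over a field and f the non-trivial
point, the points under words of length n alternate between the two points of H, so only the bound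
on the length is stated here, and the covering assertion is not stated.) -/
theorem result (S : Scheme.{u}) (X H : Over S) [GrpObj H]
    [Flat X.hom] [LocallyOfFinitePresentation X.hom] [LocallyOfFinitePresentation H.hom]
    (hred : ∀ s : S, IsReduced (H.hom.fiber s)) [CompactSpace H.left] (f : X ⟶ H)
    (hsurj : ∀ h : H.left, ∃ (n : ℕ) (T : Over S) (p : T.left) (x : Fin n → (T ⟶ X)) (ε : Fin n → Bool),
      ((List.ofFn fun j : Fin n => if ε j then x j ≫ f else (x j ≫ f)⁻¹).prod : T ⟶ H).left.base p = h) :
    ∃ n : ℕ, ∀ h : H.left, ∃ (m : ℕ) (_ : m ≤ n) (T : Over S) (p : T.left) (x : Fin m → (T ⟶ X)) (ε : Fin m → Bool),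
      ((List.ofFn fun j : Fin m => if ε j then x j ≫ f else (x j ≫ f)⁻¹).prod : T ⟶ H).left.base p = h := by
  classical
  have hpt : ∀ h : H.left, ∃ (l : List Bool) (y : (src X l).left), (word f l).left y = h := fun h => by
    obtain ⟨n, T, p, x, ε, hp⟩ := hsurj h
    obtain ⟨a, ha⟩ := exists_src f x ε
    exact ⟨_, a.left p, by rw [← Scheme.Hom.comp_apply, ← Over.comp_left, ha]; exact hp⟩
  have hloc : ∀ h : H.left, ∃ (W : H.left.Opens), h ∈ W ∧ ∃ N : ℕ, ∀ z ∈ W, ∃ l : List Bool, l.length ≤ N ∧ z ∈ Set.range (word f l).left := by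
    intro h
    obtain ⟨W, hW, hhW, -⟩ := exists_isAffineOpen_mem_and_subset (X := H.left) (x := h) (U := ⊤) trivial
    haveI : IsAffine W.toScheme := hW
    haveI : CompactSpace W.toScheme := inferInstance
    refine ⟨W, hhW, ?_⟩
    have key : ∀ z : W.toScheme, ∃ (l : List Bool) (E : Set W.toScheme), z ∈ E ∧ IsOpen[constructibleTopology W.toScheme] E ∧
        ∀ e ∈ E, W.ι e ∈ Set.range (word f l).left := by
      intro z
      obtain ⟨l, y, hy⟩ := hpt (W.ι z)
      haveI := lfp_src X l
      haveI : LocallyOfFinitePresentation (word f l).left := by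
        haveI : LocallyOfFinitePresentation ((word f l).left ≫ H.hom) := by rw [Over.w]; infer_instance
        exact LimDesc.lfp_of_comp (word f l).left H.hom
      let w := (word f l).left ∣_ W
      have hyW : y ∈ (word f l).left ⁻¹ᵁ W := by
        show (word f l).left y ∈ W
        rw [hy]; exact z.2
      obtain ⟨U, hU, hyU, -⟩ := exists_isAffineOpen_mem_and_subset (X := ((word f l).left ⁻¹ᵁ W).toScheme)
        (x := ⟨y, hyW⟩) (U := ⊤) trivial
      haveI : IsAffine U.toScheme := hU
      haveI : LocallyOfFinitePresentation w := IsZariskiLocalAtTarget.restrict ‹_› W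
      let u := U.ι ≫ w
      refine ⟨l, Set.range u, ?_, ?_, ?_⟩
      · refine ⟨⟨⟨y, hyW⟩, hyU⟩, W.ι.isOpenEmbedding.injective ?_⟩
        show W.ι (w (U.ι _)) = W.ι z
        rw [← Scheme.Hom.comp_apply, morphismRestrict_ι, Scheme.Hom.comp_apply]
        exact hy
      · rw [← Set.image_univ]
        exact (ConsTop.isClopen_of_isLocallyConstructible (u.isLocallyConstructible_image .univ)).1
      · rintro _ ⟨v, rfl⟩
        exact ⟨((word f l).left ⁻¹ᵁ W).ι (U.ι v), by
          rw [← Scheme.Hom.comp_apply, ← morphismRestrict_ι, Scheme.Hom.comp_apply]; rfl⟩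
    choose l E hzE hE hEl using key
    obtain ⟨t, ht⟩ := @IsCompact.elim_finite_subcover W.toScheme (constructibleTopology W.toScheme) _ _
      (ConsTop.isCompact_cons isOpen_univ isCompact_univ) E hE (fun z _ => Set.mem_iUnion.2 ⟨z, hzE z⟩)
    refine ⟨t.sup fun z => (l z).length, fun z hz => ?_⟩
    obtain ⟨z', hz', hzE'⟩ := Set.mem_iUnion₂.1 (ht (Set.mem_univ (⟨z, hz⟩ : W.toScheme)))
    exact ⟨l z', Finset.le_sup (f := fun z => (l z).length) hz', hEl z' _ hzE'⟩
  choose W hW N hN using hloc
  obtain ⟨t, ht⟩ := isCompact_univ.elim_finite_subcover (fun h : H.left => (W h : Set H.left))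
    (fun h => (W h).2) (fun h _ => Set.mem_iUnion.2 ⟨h, hW h⟩)
  refine ⟨t.sup N, fun h => ?_⟩
  obtain ⟨h', hh', hhW⟩ := Set.mem_iUnion₂.1 (ht (Set.mem_univ h))
  obtain ⟨l, hl, y, hy⟩ := hN h' h hhW
  obtain ⟨x, hx⟩ := exists_sprod f l (𝟙 (src X l))
  refine ⟨l.length, hl.trans (Finset.le_sup hh'), src X l, y, x, l.get, ?_⟩
  rw [hx, Category.id_comp]
  exact hy

end Groth.Agent.S6076
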