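import Groth.Statements.S6077
import Groth.Agent.SubGen.AlgClosed
import Mathlib

set_option autoImplicit false
universe u
open CategoryTheory CategoryTheory.Limits MonoidalCategory CartesianMonoidalCategory MonObj GrpObj AlgebraicGeometry
open SGA3

namespace Groth.Agent.S6077

open Groth.Agent.SubGen

theorem mem_words {k : Type u} [Field k] {G X T : Over (Spec (CommRingCat.of k))} [GrpObj G] (f : X ⟶ G) (l : List Bool)
    (c : T ⟶ src X l) (p : T.left) {m : ℕ} (hm : l.length = m) :
    ∃ (x : Fin m → (T ⟶ X)) (ε : Fin m → Bool),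
      ((List.ofFn fun j : Fin m => if ε j then x j ≫ f else (x j ≫ f)⁻¹).prod : T ⟶ G).left.base p = (c ≫ word f l).left p := by
  subst hm
  obtain ⟨x, hx⟩ := exists_sprod f l c
  exact ⟨x, l.get, by rw [← hx]⟩


/-- Let k be an algebraically closed field, G a group scheme locally of finite type over k, X a
geometrically reduced k-scheme locally of finite type, f : X → G a k-morphism, and h : H → G a
closed subgroup scheme whose underlying set is contained in the image of f. Let i : Γ → G be the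
smallest closed subgroup scheme of G through which f factors. Say that a point of G lies under a
word of length n in f when there are a k-scheme T, a point p of T, T-valued points x_1, …, x_n of X
and signs such that f(x_1)^{±1} ⋯ f(x_n)^{±1} maps p to it; let Γ'₀ be the set of k-points of G
whose point lies under some word (of any length n ≥ 0). Suppose that Γ'₀ is covered by finitely many
left translates a · H(k) of the image of H(k) in G(k), with the a in Γ'₀ (H(k) has finite index in
Γ'₀). Then there is m such that the underlying set of Γ is the set of points of G lying under a word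
of length m, and there are finitely many k-points a_1, …, a_r of G such that the underlying set of Γ
is the union of the left translates a_j · H of the underlying set of H. -/
theorem result (k : Type u) [Field k] [IsAlgClosed k]
    (G X H : Over (Spec (CommRingCat.of k))) [GrpObj G] [GrpObj H] [LocallyOfFiniteType G.hom]
    [LocallyOfFiniteType X.hom] [GeometricallyReduced X.hom] (f : X ⟶ G)
    (h : H ⟶ G) [IsMonHom h] [IsClosedImmersion h.left] (hH : Set.range h.left.base ⊆ Set.range f.left.base)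
    (Γ : Over (Spec (CommRingCat.of k))) [GrpObj Γ] (i : Γ ⟶ G) [IsMonHom i] [IsClosedImmersion i.left]
    (hf : ∃ f' : X ⟶ Γ, f' ≫ i = f)
    (hmin : ∀ (Γ' : Over (Spec (CommRingCat.of k))) (_ : GrpObj Γ') (i' : Γ' ⟶ G), IsMonHom i' → IsClosedImmersion i'.left →
        (∃ f'' : X ⟶ Γ', f'' ≫ i' = f) → ∃ j : Γ ⟶ Γ', j ≫ i' = i)
    (hfin : ∃ F : Finset (𝟙_ (Over (Spec (CommRingCat.of k))) ⟶ G),
      (∀ a ∈ F, ∃ (n : ℕ) (T : Over (Spec (CommRingCat.of k))) (p : T.left) (p₀ : (𝟙_ (Over (Spec (CommRingCat.of k)))).left) (x : Fin n → (T ⟶ X)) (ε : Fin n → Bool),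
        ((List.ofFn fun j : Fin n => if ε j then x j ≫ f else (x j ≫ f)⁻¹).prod : T ⟶ G).left.base p = a.left.base p₀) ∧
      ∀ g : 𝟙_ (Over (Spec (CommRingCat.of k))) ⟶ G, (∃ (n : ℕ) (T : Over (Spec (CommRingCat.of k))) (p : T.left) (p₀ : (𝟙_ (Over (Spec (CommRingCat.of k)))).left) (x : Fin n → (T ⟶ X)) (ε : Fin n → Bool),
        ((List.ofFn fun j : Fin n => if ε j then x j ≫ f else (x j ≫ f)⁻¹).prod : T ⟶ G).left.base p = g.left.base p₀) →
        ∃ a ∈ F, ∃ y : 𝟙_ (Over (Spec (CommRingCat.of k))) ⟶ H, g = a * (y ≫ h)) :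
    (∃ m : ℕ, Set.range i.left.base =
      {g : G.left | ∃ (T : Over (Spec (CommRingCat.of k))) (p : T.left) (x : Fin m → (T ⟶ X)) (ε : Fin m → Bool),
        ((List.ofFn fun j : Fin m => if ε j then x j ≫ f else (x j ≫ f)⁻¹).prod : T ⟶ G).left.base p = g}) ∧
    ∃ F : Finset (𝟙_ (Over (Spec (CommRingCat.of k))) ⟶ G), Set.range i.left.base =
      ⋃ a ∈ F, (fun z => ((λ_ G).inv ≫ (a ▷ G) ≫ μ[G]).left.base z) '' Set.range h.left.base := by
  classical
  obtain ⟨f', hf'⟩ := hf
  haveI : LocallyOfFiniteType Γ.hom := by rw [← Over.w i]; infer_instance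
  haveI : LocallyOfFiniteType H.hom := by rw [← Over.w h]; infer_instance
  haveI : JacobsonSpace H.left := LocallyOfFiniteType.jacobsonSpace H.hom
  have hd := jointlyDense_of_min f i f' hf' hmin
  obtain ⟨F, hFw, hFc⟩ := hfin
  have hword : ∀ a ∈ F, ∃ (l : List Bool) (c : 𝟙_ (Over (Spec (CommRingCat.of k))) ⟶ src X l), c ≫ word f l = a := by
    intro a ha
    obtain ⟨n, T, p, p₀, x, ε, hp⟩ := hFw a ha
    obtain ⟨b, hb⟩ := exists_src f x ε
    haveI := lft_src X (List.ofFn ε)
    obtain ⟨z, hz⟩ := exists_rat_lift (word f (List.ofFn ε)) a p₀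
      ⟨b.left p, by rw [← Scheme.Hom.comp_apply, ← Over.comp_left, hb]; exact hp⟩
    exact ⟨_, z, hz⟩
  let τ : (𝟙_ (Over (Spec (CommRingCat.of k))) ⟶ G) → (G ⟶ G) := fun a => (toUnit G ≫ a) * 𝟙 G
  have hτ : ∀ a, (λ_ G).inv ≫ (a ▷ G) ≫ μ[G] = τ a := fun a => by
    simp only [τ, Hom.mul_def, ← Category.assoc]
    congr 1
    apply CartesianMonoidalCategory.hom_ext <;> simp
  have hτc : ∀ {T : Over (Spec (CommRingCat.of k))} (z : T ⟶ G) a, z ≫ τ a = (toUnit T ≫ a) * z := fun z a => by
    simp [τ, MonObj.comp_mul]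
  have hτr : ∀ (z a : 𝟙_ (Over (Spec (CommRingCat.of k))) ⟶ G), z ≫ τ a = a * z := fun z a => by
    rw [hτc, toUnit_unique (toUnit _) (𝟙 _), Category.id_comp]
  let R : Set G.left := ⋃ a ∈ F, (τ a).left '' Set.range h.left
  have hR : IsClosed R := by
    refine F.finite_toSet.isClosed_biUnion fun a _ => ?_
    have hiso : IsIso (τ a) := ⟨τ a⁻¹, by
      show τ a ≫ τ a⁻¹ = 𝟙 G
      rw [hτc]
      simp [τ, GrpObj.comp_inv], by
      show τ a⁻¹ ≫ τ a = 𝟙 G
      rw [hτc]
      simp [τ, GrpObj.comp_inv]⟩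
    haveI : IsIso (τ a).left := inferInstanceAs (IsIso ((Over.forget _).map (τ a)))
    exact (τ a).left.homeomorph.isClosedMap _ h.left.isClosedEmbedding.isClosed_range
  have hrange : Set.range i.left.base = R := by
    refine Set.Subset.antisymm ?_ (Set.iUnion₂_subset fun a ha => ?_)
    · have huniv := eq_univ_of_dense f' hd (C := i.left ⁻¹' R) (hR.preimage i.left.continuous) fun l c => by
        rw [Set.mem_preimage, map_rpt, Category.assoc, word_comp, hf']
        obtain ⟨x, hx⟩ := exists_sprod f l c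
        obtain ⟨a, ha, y, hy⟩ := hFc (c ≫ word f l)
          ⟨l.length, _, IsLocalRing.closedPoint k, IsLocalRing.closedPoint k, x, l.get, by rw [← hx]⟩
        refine Set.mem_biUnion ha ⟨rpt (y ≫ h), ⟨rpt y, map_rpt _ _⟩, ?_⟩
        rw [map_rpt, hτr, ← hy]
      rintro _ ⟨z, rfl⟩
      exact huniv.ge (Set.mem_univ z)
    · rintro _ ⟨_, ⟨y, rfl⟩, rfl⟩
      obtain ⟨l, c, hc⟩ := hword a ha
      have : (h ≫ τ a).left ⁻¹' Set.range i.left = Set.univ := by
        rw [← Set.univ_subset_iff, ← closure_closedPoints]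
        refine closure_minimal (fun w hw => ?_)
          (i.left.isClosedEmbedding.isClosed_range.preimage (h ≫ τ a).left.continuous)
        obtain ⟨z, rfl⟩ := exists_rpt hw
        obtain ⟨x, hx⟩ := exists_rat_lift f (z ≫ h) (IsLocalRing.closedPoint k) (hH ⟨rpt z, map_rpt h z⟩)
        rw [Set.mem_preimage, map_rpt, ← Category.assoc, hτr, ← hc, ← hx, ← hf', ← word_comp, ← Category.assoc,
          ← Category.assoc, ← MonObj.mul_comp]
        exact ⟨_, map_rpt _ _⟩
      have h2 := this.ge (Set.mem_univ y)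
      rw [Set.mem_preimage, Over.comp_left, Scheme.Hom.comp_apply] at h2
      exact h2
  refine ⟨?_, ⟨F, ?_⟩⟩
  swap
  · rw [hrange]
    simp only [R, hτ]
  obtain ⟨x₀, hx₀⟩ : ∃ x₀ : 𝟙_ (Over (Spec (CommRingCat.of k))) ⟶ X, x₀ ≫ f = 1 :=
    exists_rat_lift f 1 (IsLocalRing.closedPoint k) (hH ⟨rpt η[H], by
      rw [map_rpt, IsMonHom.one_hom h, Hom.one_def, toUnit_unique (toUnit _) (𝟙 _), Category.id_comp]; rfl⟩)
  have hpad : ∀ {T : Over (Spec (CommRingCat.of k))} (l : List Bool) (c : T ⟶ src X l) (d : ℕ),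
      ∃ (l' : List Bool) (c' : T ⟶ src X l'), l'.length = l.length + d ∧ c' ≫ word f l' = c ≫ word f l := by
    intro T l c d
    induction d with
    | zero => exact ⟨l, c, rfl, rfl⟩
    | succ d ih =>
      obtain ⟨l', c', hlen, hc'⟩ := ih
      obtain ⟨e, he⟩ := exists_singleton f true (toUnit T ≫ x₀)
      obtain ⟨c'', hc''⟩ := exists_mul f l' [true] c' e
      refine ⟨_, c'', by simp [hlen]; omega, ?_⟩
      rw [hc'', he, hc', show letter f true = f from rfl, Category.assoc, hx₀, MonObj.comp_one, _root_.mul_one]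
  choose lw cw hcw using hword
  let m := (F.attach.sup fun a => (lw a.1 a.2).length) + 1
  refine ⟨m, Set.Subset.antisymm ?_ ?_⟩
  · intro g hg
    rw [hrange] at hg
    obtain ⟨a, ha, _, ⟨y, rfl⟩, rfl⟩ := Set.mem_iUnion₂.1 hg
    obtain ⟨x, hx⟩ := hH ⟨y, rfl⟩
    obtain ⟨e, he⟩ := exists_singleton f true (𝟙 X)
    obtain ⟨c₁, hc₁⟩ := exists_mul f (lw a ha) [true] (toUnit X ≫ cw a ha) e
    obtain ⟨l', c', hlen, hc'⟩ := hpad _ c₁ (m - ((lw a ha).length + 1))
    have hle : (lw a ha).length + 1 ≤ m :=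
      Nat.succ_le_succ (Finset.le_sup (f := fun a : F => (lw a.1 a.2).length) (Finset.mem_attach F ⟨a, ha⟩))
    obtain ⟨xs, ε, hxs⟩ := mem_words f l' c' x (m := m) (by rw [hlen, List.length_append, List.length_singleton]; omega)
    refine ⟨X, x, xs, ε, ?_⟩
    rw [hxs, hc', hc₁, he, show letter f true = f from rfl, Category.id_comp, Category.assoc, hcw, ← hτc,
      Over.comp_left, Scheme.Hom.comp_apply, ← hx]
  · rintro g ⟨T, p, x, ε, rfl⟩
    obtain ⟨c, hc⟩ := exists_src f x ε
    obtain ⟨b, hb⟩ := exists_factor_word f i ⟨f', hf'⟩ (List.ofFn ε)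
    refine ⟨(c ≫ b).left p, ?_⟩
    show _ = (SubGen.sprod f x ε).left p
    simp only [← hc, ← hb, Over.comp_left, Scheme.Hom.comp_apply]

end Groth.Agent.S6077
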