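import Groth.Statements.S6078
import Groth.Agent.SubGen.CommGeom
import Groth.Agent.GeomRedSpread.Constructible
import Mathlib

set_option autoImplicit false
universe u
open CategoryTheory CategoryTheory.Limits MonoidalCategory CartesianMonoidalCategory MonObj GrpObj AlgebraicGeometry
open SGA3

namespace Groth.Agent.S6078

open Groth.Agent.SubGen
open Topology
open scoped commutatorElement
set_option backward.isDefEq.respectTransparency false
attribute [local instance] Functor.grpObjObj

/-- points of a base change at a point of the base -/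
noncomputable def pe' {S T T' : Scheme.{u}} (φ : T ⟶ S) (ψ : T' ⟶ T) (G : Over S) [GrpObj G] :
    (Over.mk (ψ ≫ φ) ⟶ G) ≃* (Over.mk ψ ⟶ (Over.pullback φ).obj G) :=
  Locus.baseEquiv φ G (Over.mk ψ)

theorem pe'_comp {S T T' : Scheme.{u}} (φ : T ⟶ S) (ψ : T' ⟶ T) (G H : Over S) [GrpObj G] [GrpObj H]
    (x : Over.mk (ψ ≫ φ) ⟶ H) (h : H ⟶ G) :
    pe' φ ψ G (x ≫ h) = pe' φ ψ H x ≫ (Over.pullback φ).map h :=
  (Over.mapPullbackAdj φ).homEquiv_naturality_right (X := Over.mk ψ) x h

/-- geometric points as points of the fibre -/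
noncomputable def pe {S : Scheme.{u}} (s : S) (G : Over S) [GrpObj G] :
    (Locus.gpt s ⟶ G) ≃* (ptL (S.residueField s) (AlgebraicClosure (S.residueField s)) ⟶ Red.bc (S.fromSpecResidueField s) G) :=
  pe' (S.fromSpecResidueField s) _ G

theorem pe_comp {S : Scheme.{u}} (s : S) (G H : Over S) [GrpObj G] [GrpObj H] (x : Locus.gpt s ⟶ H) (h : H ⟶ G) :
    pe s G (x ≫ h) = pe s H x ≫ (Over.pullback (S.fromSpecResidueField s)).map h :=
  pe'_comp (S.fromSpecResidueField s) _ G H x h


/-- Case (G, H) = H: let S be an integral scheme with generic point η, G an S-group scheme and h : H → G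
a normal subgroup scheme of G, with G and H of finite presentation over S and with smooth generic
fibres G_η, H_η. Suppose that (G_η, H_η) = H_η: the subgroup H_η is contained in every closed
subgroup scheme of G_η through which the morphism G_η ×_{κ(η)} H_η → G_η, (g, x) ↦ g h(x) g⁻¹
h(x)⁻¹, factors (H_η itself is such a subgroup since H is normal). Then there is a nonempty open
subset U of S such that for every s ∈ U the same holds on the fibre at s: H_s is contained in every
closed subgroup scheme of G_s through which G_s ×_{κ(s)} H_s → G_s, (g, x) ↦ g h(x) g⁻¹ h(x)⁻¹,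
factors. -/
theorem result (S : Scheme.{u}) [IsIntegral S] (G H : Over S) [GrpObj G] [GrpObj H]
    [LocallyOfFinitePresentation G.hom] [QuasiCompact G.hom] [QuasiSeparated G.hom]
    [LocallyOfFinitePresentation H.hom] [QuasiCompact H.hom] [QuasiSeparated H.hom]
    (h : H ⟶ G) [IsMonHom h] [IsImmersion h.left] (hN : AlgGrp.IsNormalHom h)
    (hsmG : Smooth (Red.bc (S.fromSpecResidueField (genericPoint S)) G).hom) (hsmH : Smooth (Red.bc (S.fromSpecResidueField (genericPoint S)) H).hom)
    (hgen : (∀ (K : Over (Spec (S.residueField (genericPoint S)))) (_ : GrpObj K) (j : K ⟶ (Red.bc (S.fromSpecResidueField (genericPoint S)) G)), IsMonHom j → IsClosedImmersion j.left →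
        (∃ c : (Red.bc (S.fromSpecResidueField (genericPoint S)) G) ⊗ (Red.bc (S.fromSpecResidueField (genericPoint S)) H) ⟶ K, c ≫ j = (((fst (Red.bc (S.fromSpecResidueField (genericPoint S)) G) (Red.bc (S.fromSpecResidueField (genericPoint S)) H)) * ((snd (Red.bc (S.fromSpecResidueField (genericPoint S)) G) (Red.bc (S.fromSpecResidueField (genericPoint S)) H)) ≫ ((Over.pullback (S.fromSpecResidueField (genericPoint S))).map h)) * (fst (Red.bc (S.fromSpecResidueField (genericPoint S)) G) (Red.bc (S.fromSpecResidueField (genericPoint S)) H))⁻¹ * ((snd (Red.bc (S.fromSpecResidueField (genericPoint S)) G) (Red.bc (S.fromSpecResidueField (genericPoint S)) H)) ≫ ((Over.pullback (S.fromSpecResidueField (genericPoint S))).map h))⁻¹ : (Red.bc (S.fromSpecResidueField (genericPoint S)) G) ⊗ (Red.bc (S.fromSpecResidueField (genericPoint S)) H) ⟶ (Red.bc (S.fromSpecResidueField (genericPoint S)) G)))) → ∃ m : (Red.bc (S.fromSpecResidueField (genericPoint S)) H) ⟶ K, m ≫ j = ((Over.pullback (S.fromSpecResidueField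 (genericPoint S))).map h))) :
    ∃ U : S.Opens, (U : Set S).Nonempty ∧ ∀ s : U,
      (∀ (K : Over (Spec (S.residueField (s : S)))) (_ : GrpObj K) (j : K ⟶ (Red.bc (S.fromSpecResidueField (s : S)) G)), IsMonHom j → IsClosedImmersion j.left →
        (∃ c : (Red.bc (S.fromSpecResidueField (s : S)) G) ⊗ (Red.bc (S.fromSpecResidueField (s : S)) H) ⟶ K, c ≫ j = (((fst (Red.bc (S.fromSpecResidueField (s : S)) G) (Red.bc (S.fromSpecResidueField (s : S)) H)) * ((snd (Red.bc (S.fromSpecResidueField (s : S)) G) (Red.bc (S.fromSpecResidueField (s : S)) H)) ≫ ((Over.pullback (S.fromSpecResidueField (s : S))).map h)) * (fst (Red.bc (S.fromSpecResidueField (s : S)) G) (Red.bc (S.fromSpecResidueField (s : S)) H))⁻¹ * ((snd (Red.bc (S.fromSpecResidueField (s : S)) G) (Red.bc (S.fromSpecResidueField (s : S)) H)) ≫ ((Over.pullback (S.fromSpecResidueField (s : S))).map h))⁻¹ : (Red.bc (S.fromSpecResidueField (s : S)) G) ⊗ (Red.bc (S.fromSpecResidueField (s : S)) H) ⟶ (Red.bc (S.fromSpecResidueField (s :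 S)) G)))) → ∃ m : (Red.bc (S.fromSpecResidueField (s : S)) H) ⟶ K, m ≫ j = ((Over.pullback (S.fromSpecResidueField (s : S))).map h)) := by
  classical
  let η₀ := genericPoint S
  let φ := S.fromSpecResidueField η₀
  let Ω := AlgebraicClosure (S.residueField η₀)
  haveI : LocallyOfFiniteType (Red.bc φ G).hom := MorphismProperty.pullback_snd _ _ (inferInstance : LocallyOfFiniteType G.hom)
  haveI : LocallyOfFiniteType (Red.bc φ H).hom := MorphismProperty.pullback_snd _ _ (inferInstance : LocallyOfFiniteType H.hom)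
  haveI : QuasiCompact (Red.bc φ G).hom := MorphismProperty.pullback_snd _ _ ‹QuasiCompact G.hom›
  haveI : QuasiCompact (Red.bc φ H).hom := MorphismProperty.pullback_snd _ _ ‹QuasiCompact H.hom›
  haveI := hsmG
  haveI := hsmH
  haveI : GeometricallyReduced (Red.bc φ G).hom := Rigid.geometricallyReduced_of_smooth _
  haveI : GeometricallyReduced (Red.bc φ H).hom := Rigid.geometricallyReduced_of_smooth _
  let h₀ := (Over.pullback φ).map h
  have hnorm : AlgGrp.IsNormalHom h₀ := isNormalHom_pullback φ G h hN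
  obtain ⟨K, hK, i, w, him, hici, hw, hd, ⟨f', hf'⟩, -⟩ := exists_generated
    ⁅fst (Red.bc φ G) (Red.bc φ H) ≫ 𝟙 (Red.bc φ G), snd (Red.bc φ G) (Red.bc φ H) ≫ h₀⁆
  haveI := hici
  haveI : Mono i := GrpField.SchImg.mono_of_isClosedImmersion i
  have hd' : JointlyDense (word f') := by
    have e : word f' = w := funext fun l => by rw [← cancel_mono i, word_comp, hf', hw]
    rw [e]; exact hd
  obtain ⟨N, hNb⟩ := exists_bound_geom (k := (S.residueField η₀ : Type u)) (L := Ω) (𝟙 (Red.bc φ G)) h₀
    (fun T g n => ⟨g * n * g⁻¹, by simp only [Category.comp_id]⟩) hnorm i f' hf' hd'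
  obtain ⟨m, hm⟩ := hgen K hK i him hici ⟨f', by
    rw [hf', commutatorElement_def, Category.comp_id]⟩
  let F : G ⊗ H ⟶ G := ⁅fst G H, snd G H ≫ h⁆
  let CS : ∀ s : S, Set (Locus.gpt s ⟶ G) := fun s => Set.range fun t : Locus.gpt s ⟶ G ⊗ H => t ≫ F
  have hη : ∀ y : Locus.gpt η₀ ⟶ H, y ≫ h ∈ bset (CS η₀) N := by
    intro y
    have h1 := hNb (pe η₀ H y ≫ m)
    rw [Category.assoc, hm, ← pe_comp] at h1
    have hsub : {g | ∃ x : ptL (S.residueField η₀) Ω ⟶ Red.bc φ G, ∃ y : ptL (S.residueField η₀) Ω ⟶ Red.bc φ H,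
        ⁅x ≫ 𝟙 (Red.bc φ G), y ≫ h₀⁆ = g} = pe η₀ G '' CS η₀ := by
      ext g
      constructor
      · rintro ⟨x, y, rfl⟩
        obtain ⟨x, rfl⟩ := (pe η₀ G).surjective x
        obtain ⟨y, rfl⟩ := (pe η₀ H).surjective y
        refine ⟨⁅x, y ≫ h⁆, ⟨lift x y, ?_⟩, ?_⟩
        · show lift x y ≫ ⁅fst G H, snd G H ≫ h⁆ = _
          rw [Locus.comp_comm, lift_fst, lift_snd_assoc]
        · rw [map_commutatorElement, pe_comp, Category.comp_id]
      · rintro ⟨_, ⟨t, rfl⟩, rfl⟩
        refine ⟨pe η₀ G (t ≫ fst G H), pe η₀ H (t ≫ snd G H), ?_⟩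
        rw [Category.comp_id, ← pe_comp, ← map_commutatorElement, Category.assoc]
        exact congrArg _ (Locus.comp_comm G t (fst G H) (snd G H ≫ h)).symm
    rw [hsub, ← map_bset] at h1
    obtain ⟨g, hg, hge⟩ := h1
    rwa [(pe η₀ G).injective hge] at hg
  haveI : LocallyOfFinitePresentation (G ⊗ H).hom := by
    haveI : LocallyOfFinitePresentation (pullback.fst G.hom H.hom) := MorphismProperty.pullback_fst _ _ ‹_›
    exact inferInstanceAs (LocallyOfFinitePresentation (pullback.fst G.hom H.hom ≫ G.hom))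
  haveI : QuasiCompact (G ⊗ H).hom := by
    haveI : QuasiCompact (pullback.fst G.hom H.hom) := MorphismProperty.pullback_fst _ _ ‹_›
    exact inferInstanceAs (QuasiCompact (pullback.fst G.hom H.hom ≫ G.hom))
  have hl : ∀ l, LocallyOfFinitePresentation (Rel.word F l).left ∧ QuasiCompact (Rel.word F l).left := fun l => by
    haveI : MorphismProperty.ContainsIdentities @LocallyOfFinitePresentation.{u} :=
      ⟨fun X => inferInstanceAs (LocallyOfFinitePresentation (𝟙 X))⟩
    haveI := Rel.prop_src (X := G ⊗ H) @LocallyOfFinitePresentation inferInstance l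
    haveI := Rel.prop_src (X := G ⊗ H) @QuasiCompact inferInstance l
    exact ⟨Locus.lfp_left G _, Locus.qc_left G _⟩
  haveI := Locus.lfp_left G h
  haveI := Locus.qc_left G h
  let Cov : Set G.left := ⋃ l ∈ {l : List Bool | l.length ≤ N}, Set.range (Rel.word F l).left
  have hcl : IsLocallyConstructible Cov :=
    IsLocallyConstructible.biUnion (List.finite_length_le Bool N) fun l _ => by
      haveI := (hl l).1
      haveI := (hl l).2
      rw [← Set.image_univ]
      exact (Rel.word F l).left.isLocallyConstructible_image .univ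
  have hA : IsLocallyConstructible (Set.range h.left ∩ Covᶜ) := by
    refine IsLocallyConstructible.inter ?_ (ConsTop.isLocallyConstructible_compl hcl)
    rw [← Set.image_univ]
    exact h.left.isLocallyConstructible_image .univ
  let E : Set S := (G.hom '' (Set.range h.left ∩ Covᶜ))ᶜ ∩ {s | GeometricallyReduced (H.hom.fiberToSpecResidueField s)}
  have hE : IsLocallyConstructible E := (ConsTop.isLocallyConstructible_compl (G.hom.isLocallyConstructible_image hA)).inter
    (GeomRedSpread.isLocallyConstructible H.hom)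
  have hηE : η₀ ∈ E := by
    refine ⟨?_, (show GeometricallyReduced (Red.bc φ H).hom from inferInstance)⟩
    rintro ⟨y, hy, hyη⟩
    obtain ⟨x, hx⟩ := Locus.exists_pt_mem hA hy
    revert x
    rw [hyη]
    rintro x ⟨hxh, hxC⟩
    obtain ⟨t, rfl⟩ := Locus.exists_lift h x hxh
    obtain ⟨l, hlN, a, ha⟩ := (Rel.mem_bset_iff F N _).1 (hη t)
    refine hxC (Set.mem_biUnion hlN ⟨a.left (Locus.pt₀ _), ?_⟩)
    rw [← Scheme.Hom.comp_apply, ← Over.comp_left, ha]
  obtain ⟨W, -, hW, ⟨u, hu, -⟩, hWE⟩ := GrpField.exists_isOpen_inter_closure_subset hE isOpen_univ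
    ⟨η₀, trivial, hηE⟩
  refine ⟨⟨W, hW⟩, ⟨u, hu⟩, fun s K' hK' j hjm hjc hc => ?_⟩
  obtain ⟨hsA, hsR⟩ : (s : S) ∈ E := hWE
    ⟨closure_mono (Set.singleton_subset_iff.2 hηE) ((genericPoint_specializes (s : S)).mem_closure), s.2⟩
  haveI := hjm
  haveI := hjc
  let ψ := S.fromSpecResidueField (s : S)
  let hs := (Over.pullback ψ).map h
  haveI : GeometricallyReduced (Red.bc ψ H).hom := hsR
  haveI : LocallyOfFiniteType (Red.bc ψ H).hom := MorphismProperty.pullback_snd _ _ (inferInstance : LocallyOfFiniteType H.hom)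
  haveI : IsReduced (Red.bc ψ H).left :=
    GeometricallyReduced.geometrically_isReduced (f := (Red.bc ψ H).hom) (K := S.residueField (s : S)) (𝟙 _) (𝟙 _) (Red.bc ψ H).hom
      (IsPullback.of_horiz_isIso ⟨by rw [Category.id_comp, Category.comp_id]⟩)
  haveI : JacobsonSpace (Red.bc ψ H).left := LocallyOfFiniteType.jacobsonSpace (Red.bc ψ H).hom
  obtain ⟨c, hc⟩ := hc
  let P := ptL (S.residueField (s : S)) (AlgebraicClosure (S.residueField (s : S)))
  let J : Subgroup (P ⟶ Red.bc ψ G) := (MonoidHom.mk' (fun q : P ⟶ K' => q ≫ j) fun x y => MonObj.mul_comp x y j).range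
  have hpre : hs.left ⁻¹' Set.range j.left = Set.univ := by
    rw [← Set.univ_subset_iff, ← closure_closedPoints]
    refine closure_minimal (fun v hv => ?_) (j.left.isClosedEmbedding.isClosed_range.preimage hs.left.continuous)
    obtain ⟨p, hp⟩ := GrpAct.exists_point (k := (S.residueField (s : S) : Type u)) (K := AlgebraicClosure (S.residueField (s : S))) v hv
    obtain ⟨y, rfl⟩ := (pe (s : S) H).surjective p
    have hy : y ≫ h ∈ bset (CS (s : S)) N := by
      have hin : (y ≫ h).left (Locus.pt₀ (s : S)) ∈ Cov := by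
        by_contra hno
        exact hsA ⟨_, ⟨⟨y.left (Locus.pt₀ _), by rw [Over.comp_left, Scheme.Hom.comp_apply]⟩, hno⟩, Locus.hom_pt₀ _ _⟩
      obtain ⟨l, hlN, hr⟩ := Set.mem_iUnion₂.1 hin
      haveI := (hl l).1
      obtain ⟨a, ha⟩ := Locus.exists_lift (Rel.word F l) (y ≫ h) hr
      exact (Rel.mem_bset_iff F N _).2 ⟨l, hlN, a, ha⟩
    have hmem : pe (s : S) G (y ≫ h) ∈ J := by
      have h1 : pe (s : S) G (y ≫ h) ∈ bset (pe (s : S) G '' CS (s : S)) N := by
        rw [← map_bset]; exact ⟨_, hy, rfl⟩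
      refine (Subgroup.closure_le _).2 ?_ (bset_subset_closure _ _ h1)
      rintro _ ⟨_, ⟨t, rfl⟩, rfl⟩
      refine ⟨lift (pe (s : S) G (t ≫ fst G H)) (pe (s : S) H (t ≫ snd G H)) ≫ c, ?_⟩
      show (_ ≫ c) ≫ j = _
      rw [Category.assoc, hc]
      show _ = pe (s : S) G (t ≫ ⁅fst G H, snd G H ≫ h⁆)
      rw [Locus.comp_comm, map_commutatorElement, ← Category.assoc t (snd G H) h,
        pe_comp (s : S) G H (t ≫ snd G H) h, commutatorElement_def]
      simp [MonObj.comp_mul, GrpObj.comp_inv, P, ψ]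
    obtain ⟨q, hq⟩ := hmem
    refine ⟨q.left (IsLocalRing.closedPoint _), ?_⟩
    have h2 : q ≫ j = pe (s : S) H y ≫ hs := hq.trans (pe_comp (s : S) G H y h)
    rw [← hp (IsLocalRing.closedPoint _), ← Scheme.Hom.comp_apply, ← Scheme.Hom.comp_apply, ← Over.comp_left,
      ← Over.comp_left, h2]
  obtain ⟨g, hg⟩ := RedSepLib.exists_lift_of_isReduced hs.left j.left (by
    rintro _ ⟨v, rfl⟩
    exact hpre.ge (Set.mem_univ v))
  exact ⟨Over.homMk g (by rw [← Over.w j, reassoc_of% hg, Over.w]), Over.OverMorphism.ext hg⟩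

end Groth.Agent.S6078
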