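import Groth.Statements.S6079
import Groth.Agent.SubGen.Spread
import Groth.Agent.AVEuler.Smooth

set_option autoImplicit false
universe u
open CategoryTheory CategoryTheory.Limits MonoidalCategory CartesianMonoidalCategory MonObj GrpObj AlgebraicGeometry
open SGA3

namespace Groth.Agent.S6079

open Groth.Agent.SubGen Groth.Agent.SubGen.Spread
open scoped commutatorElement
set_option backward.isDefEq.respectTransparency false
attribute [local instance] Functor.grpObjObj

theorem word_mem {k : Type u} [Field k] {G X T : Over (Spec (CommRingCat.of k))} [GrpObj G] (f : X ⟶ G) :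
    ∀ (l : List Bool) (t : T ⟶ src X l), t ≫ word f l ∈ bset (val f T) l.length
  | [], t => by rw [comp_word_nil]; rfl
  | e :: l, t => by
    rw [comp_word_cons, List.length_cons, Nat.add_comm, comp_letter]
    refine mul_mem_bset ?_ (word_mem f l _)
    have h : (t ≫ fst X (src X l)) ≫ f ∈ bset (val f T) 1 := mem_bset_one ⟨_, rfl⟩
    cases e
    · exact inv_mem_bset h
    · exact h

theorem geomConn_of_preirreducible {k Ω : Type u} [Field k] [Field Ω] [Algebra k Ω]
    {K : Over (Spec (CommRingCat.of k))} [GrpObj K] [LocallyOfFiniteType K.hom]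
    (h : IsPreirreducible (Set.univ : Set (K ⊗ ptL k Ω).left)) : GeometricallyConnected K.hom := by
  have h1 := h.image (fst K (ptL k Ω)).left (fst K (ptL k Ω)).left.continuous.continuousOn
  have hs : Function.Surjective (fst K (ptL k Ω)).left := GrpField.surjective_fst (G := K) (T := ptL k Ω)
  rw [Set.image_univ, hs.range_eq] at h1
  haveI : PreirreducibleSpace K.left := ⟨h1⟩
  haveI : Nonempty K.left := ⟨(η[K]).left (IsLocalRing.closedPoint k)⟩
  haveI : IrreducibleSpace K.left := ⟨inferInstance⟩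
  haveI := GrpField.geometricallyIrreducible_of_connected K
  rw [GeometricallyConnected.eq_geometrically]
  intro L _ y Z fst' snd' hZ
  haveI : IrreducibleSpace Z := GeometricallyIrreducible.geometrically_irreducibleSpace (f := K.hom) y fst' snd' hZ
  exact inferInstanceAs (ConnectedSpace Z)

theorem exists_comm_gen {k Ω : Type u} [Field k] [Field Ω] [Algebra k Ω] [IsAlgClosed Ω]
    {G A B : Over (Spec (CommRingCat.of k))} [GrpObj G] [GrpObj A] [GrpObj B] [LocallyOfFiniteType G.hom]
    [LocallyOfFiniteType A.hom] [LocallyOfFiniteType B.hom] [QuasiCompact A.hom] [QuasiCompact B.hom]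
    [GeometricallyReduced A.hom] [GeometricallyReduced B.hom]
    (a : A ⟶ G) [IsMonHom a] (b : B ⟶ G) [IsMonHom b]
    (hcase : ConnectedSpace A.left ∨ (AlgGrp.IsNormalHom a ∧ AlgGrp.IsNormalHom b)) :
    ∃ (K : Over (Spec (CommRingCat.of k))) (_ : GrpObj K) (i : K ⟶ G),
      IsMonHom i ∧ IsClosedImmersion i.left ∧ GeometricallyReduced K.hom ∧
      (ConnectedSpace A.left → GeometricallyConnected K.hom) ∧
      (∃ f' : A ⊗ B ⟶ K, f' ≫ i = ⁅fst A B ≫ a, snd A B ≫ b⁆) ∧
      ∃ N : ℕ, ∀ y : ptL k Ω ⟶ K,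
        y ≫ i ∈ bset {g | ∃ x : ptL k Ω ⟶ A, ∃ y : ptL k Ω ⟶ B, ⁅x ≫ a, y ≫ b⁆ = g} N := by
  haveI : GeometricallyReduced (A ⊗ B).hom := GeomRedPull.geometricallyReduced_pullback A.hom B.hom
  haveI : LocallyOfFiniteType (A ⊗ B).hom :=
    MorphismProperty.comp_mem _ _ _ (MorphismProperty.pullback_fst _ _ ‹LocallyOfFiniteType B.hom›) ‹_›
  haveI : QuasiCompact (A ⊗ B).hom :=
    MorphismProperty.comp_mem _ _ _ (MorphismProperty.pullback_fst _ _ ‹QuasiCompact B.hom›) ‹_›
  obtain ⟨K, hK, i, w, him, hici, hw, hd, ⟨f', hf'⟩, -⟩ := exists_generated ⁅fst A B ≫ a, snd A B ≫ b⁆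
  haveI := hici
  haveI : Mono i := GrpField.SchImg.mono_of_isClosedImmersion i
  haveI := geometricallyReduced_src (A ⊗ B)
  haveI : LocallyOfFiniteType K.hom := by rw [← Over.w i]; infer_instance
  have hd' : JointlyDense (word f') := by
    have e : word f' = w := funext fun l => by rw [← cancel_mono i, word_comp, hf', hw]
    rw [e]; exact hd
  have hconn : ConnectedSpace A.left →
      (∃ m : List Bool, ∀ y : ptL k Ω ⟶ K, ∃ c : ptL k Ω ⟶ src (A ⊗ B) m, c ≫ word f' m = y) ∧
        IsPreirreducible (Set.univ : Set (K ⊗ ptL k Ω).left) := by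
    intro h
    haveI := GrpField.geometricallyIrreducible_of_connected A
    haveI : IrreducibleSpace (A ⊗ ptL k Ω).left := GeometricallyIrreducible.geometrically_irreducibleSpace
      (f := A.hom) (K := Ω) (Spec.map (CommRingCat.ofHom (algebraMap k Ω))) _ _
      (IsPullback.of_hasPullback A.hom (Spec.map (CommRingCat.ofHom (algebraMap k Ω))))
    refine exists_word_eq f' hd' fun V hV hne => ?_
    haveI := jacobson_ptL (k := k) (L := Ω) (Y := A ⊗ B)
    obtain ⟨v, hv, hvc⟩ := nonempty_inter_closedPoints hne hV.1.isLocallyClosed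
    obtain ⟨c, rfl⟩ := exists_lpt hvc
    let χ : A ⊗ ptL k Ω ⟶ (A ⊗ B) ⊗ ptL k Ω :=
      lift (lift (fst A (ptL k Ω)) (snd A (ptL k Ω) ≫ c ≫ snd A B)) (snd A (ptL k Ω))
    have hχ : ∀ x : ptL k Ω ⟶ A, χ.left (lpt x) = lpt (lift x (c ≫ snd A B)) := fun x => by
      rw [lpt, lpt, ← Scheme.Hom.comp_apply, ← Over.comp_left]
      refine congrArg (fun h : ptL k Ω ⟶ (A ⊗ B) ⊗ ptL k Ω => h.left (IsLocalRing.closedPoint Ω)) ?_
      apply CartesianMonoidalCategory.hom_ext
      · apply CartesianMonoidalCategory.hom_ext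
        · simp [χ]
        · simp [χ]
      · simp [χ]
    have huniv : χ.left ⁻¹' V = Set.univ := by
      refine IsClopen.eq_univ ⟨hV.1.preimage χ.left.continuous, hV.2.preimage χ.left.continuous⟩
        ⟨lpt (c ≫ fst A B), ?_⟩
      rw [Set.mem_preimage, hχ, lift_comp_fst_snd]
      exact hv
    refine ⟨lift (1 : ptL k Ω ⟶ A) (c ≫ snd A B), ?_, ?_⟩
    · rw [← hχ]
      exact huniv.ge (Set.mem_univ (lpt (1 : ptL k Ω ⟶ A)))
    · rw [← cancel_mono i, Category.assoc, hf', Locus.comp_comm, lift_fst_assoc, lift_snd_assoc, MonObj.one_comp,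
        MonObj.one_comp, commutatorElement_one_left]
  refine ⟨K, hK, i, him, hici, geometricallyReduced_of_dense hd, fun h => geomConn_of_preirreducible (hconn h).2,
    ⟨f', hf'⟩, ?_⟩
  rcases hcase with h | ⟨hAn, hBn⟩
  · obtain ⟨m, hm⟩ := (hconn h).1
    refine ⟨m.length, fun y => ?_⟩
    obtain ⟨c, rfl⟩ := hm y
    rw [Category.assoc, word_comp, hf']
    have e : val ⁅fst A B ≫ a, snd A B ≫ b⁆ (ptL k Ω) =
        {g | ∃ x : ptL k Ω ⟶ A, ∃ y : ptL k Ω ⟶ B, ⁅x ≫ a, y ≫ b⁆ = g} := by
      ext g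
      constructor
      · rintro ⟨t, rfl⟩
        exact ⟨t ≫ fst A B, t ≫ snd A B, by simp only [Locus.comp_comm, Category.assoc]⟩
      · rintro ⟨x, y, rfl⟩
        exact ⟨lift x y, by simp only [Locus.comp_comm, lift_fst_assoc, lift_snd_assoc]⟩
    rw [← e]
    exact word_mem _ m c
  · exact exists_bound_geom a b hAn hBn i f' hf' hd'

theorem map_comm {S T : Scheme.{u}} (φ : T ⟶ S) {G Y : Over S} [GrpObj G] (x y : Y ⟶ G) :
    (Over.pullback φ).map ⁅x, y⁆ = ⁅(Over.pullback φ).map x, (Over.pullback φ).map y⁆ :=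
  map_commutatorElement (MonoidHom.mk' (fun g : Y ⟶ G => (Over.pullback φ).map g)
    (fun f g => Functor.map_mul _ f g)) x y


theorem μ_map_comm {S T : Scheme.{u}} (φ : T ⟶ S) {G A B : Over S} [GrpObj G] (a : A ⟶ G) (b : B ⟶ G) :
    Functor.LaxMonoidal.μ (Over.pullback φ) A B ≫ (Over.pullback φ).map ⁅fst A B ≫ a, snd A B ≫ b⁆ =
      ⁅fst ((Over.pullback φ).obj A) ((Over.pullback φ).obj B) ≫ (Over.pullback φ).map a,
        snd ((Over.pullback φ).obj A) ((Over.pullback φ).obj B) ≫ (Over.pullback φ).map b⁆ := by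
  rw [map_comm, Locus.comp_comm, Functor.map_comp, Functor.map_comp, Functor.Monoidal.μ_fst_assoc,
    Functor.Monoidal.μ_snd_assoc]

/-- Existence of D' and its fibres: let S be an integral scheme with generic point η, G an S-group
scheme of finite presentation over S, and a : A → G, b : B → G two subgroup schemes of G
(homomorphisms which are immersions) of finite presentation over S whose generic fibres A_η, B_η are
smooth. Suppose that either (a) A_η is connected, or (b) A and B are normal in G. Then there are a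
nonempty open subset U of S and a closed subgroup scheme d : D → G|_U, of finite presentation over U
with smooth fibres, having connected fibres in case (a) and normal in G|_U in case (b), such that
for every s ∈ U the fibre D_s → G_s is the commutator subgroup scheme (A_s, B_s): the smallest
closed subgroup scheme of G_s through which A_s ×_{κ(s)} B_s → G_s, (x, y) ↦ a(x) b(y) a(x)⁻¹
b(y)⁻¹, factors. (The published statement also asserts that D represents the fppf sheaf associated
to the presheaf of commutator subgroups of A|_U and B|_U in G|_U; that assertion is not stated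
here.) -/
theorem result (S : Scheme.{u}) [IsIntegral S] (G A B : Over S) [GrpObj G] [GrpObj A] [GrpObj B]
    [LocallyOfFinitePresentation G.hom] [QuasiCompact G.hom] [QuasiSeparated G.hom]
    [LocallyOfFinitePresentation A.hom] [QuasiCompact A.hom] [QuasiSeparated A.hom]
    [LocallyOfFinitePresentation B.hom] [QuasiCompact B.hom] [QuasiSeparated B.hom]
    (a : A ⟶ G) [IsMonHom a] [IsImmersion a.left] (b : B ⟶ G) [IsMonHom b] [IsImmersion b.left]
    (hsmA : Smooth (Red.bc (S.fromSpecResidueField (genericPoint S)) A).hom) (hsmB : Smooth (Red.bc (S.fromSpecResidueField (genericPoint S)) B).hom)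
    (hcase : ConnectedSpace (Red.bc (S.fromSpecResidueField (genericPoint S)) A).left ∨ (AlgGrp.IsNormalHom a ∧ AlgGrp.IsNormalHom b)) :
    ∃ U : S.Opens, (U : Set S).Nonempty ∧
      ∃ (D : Over (U : Scheme.{u})) (_ : GrpObj D) (d : D ⟶ (Red.bc U.ι G)), IsMonHom d ∧ IsClosedImmersion d.left ∧
        LocallyOfFinitePresentation D.hom ∧ QuasiCompact D.hom ∧ QuasiSeparated D.hom ∧
        (∀ s : (U : Scheme.{u}), Smooth (D.hom.fiberToSpecResidueField s)) ∧
        (ConnectedSpace (Red.bc (S.fromSpecResidueField (genericPoint S)) A).left → ∀ s : (U : Scheme.{u}), ConnectedSpace (D.hom.fiber s)) ∧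
        (AlgGrp.IsNormalHom a ∧ AlgGrp.IsNormalHom b → AlgGrp.IsNormalHom d) ∧
        ∀ s : (U : Scheme.{u}),
          (∃ c : (Red.bc ((U : Scheme.{u}).fromSpecResidueField s) (Red.bc U.ι A)) ⊗ (Red.bc ((U : Scheme.{u}).fromSpecResidueField s) (Red.bc U.ι B)) ⟶ (Red.bc ((U : Scheme.{u}).fromSpecResidueField s) D), c ≫ ((Over.pullback ((U : Scheme.{u}).fromSpecResidueField s)).map d) = (((fst (Red.bc ((U : Scheme.{u}).fromSpecResidueField s) (Red.bc U.ι A)) (Red.bc ((U : Scheme.{u}).fromSpecResidueField s) (Red.bc U.ι B))) ≫ ((Over.pullback ((U : Scheme.{u}).fromSpecResidueField s)).map ((Over.pullback U.ι).map a))) * ((snd (Red.bc ((U : Scheme.{u}).fromSpecResidueField s) (Red.bc U.ι A)) (Red.bc ((U : Scheme.{u}).fromSpecResidueField s) (Red.bc U.ι B))) ≫ ((Over.pullback ((U : Scheme.{u}).fromSpecResidueField s)).map ((Over.pullback U.ι).map b))) * ((fst (Red.bc ((U : Scheme.{u}).fromSpecResidueField s) (Red.bc U.ι A)) (Red.bc ((U : Scheme.{u}).fromSpecResidueField s) (Red.bc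 U.ι B))) ≫ ((Over.pullback ((U : Scheme.{u}).fromSpecResidueField s)).map ((Over.pullback U.ι).map a)))⁻¹ * ((snd (Red.bc ((U : Scheme.{u}).fromSpecResidueField s) (Red.bc U.ι A)) (Red.bc ((U : Scheme.{u}).fromSpecResidueField s) (Red.bc U.ι B))) ≫ ((Over.pullback ((U : Scheme.{u}).fromSpecResidueField s)).map ((Over.pullback U.ι).map b)))⁻¹)) ∧
          ∀ (Γ' : Over (Spec ((U : Scheme.{u}).residueField s))) (_ : GrpObj Γ') (i' : Γ' ⟶ (Red.bc ((U : Scheme.{u}).fromSpecResidueField s) (Red.bc U.ι G))), IsMonHom i' → IsClosedImmersion i'.left →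
            (∃ c' : (Red.bc ((U : Scheme.{u}).fromSpecResidueField s) (Red.bc U.ι A)) ⊗ (Red.bc ((U : Scheme.{u}).fromSpecResidueField s) (Red.bc U.ι B)) ⟶ Γ', c' ≫ i' = (((fst (Red.bc ((U : Scheme.{u}).fromSpecResidueField s) (Red.bc U.ι A)) (Red.bc ((U : Scheme.{u}).fromSpecResidueField s) (Red.bc U.ι B))) ≫ ((Over.pullback ((U : Scheme.{u}).fromSpecResidueField s)).map ((Over.pullback U.ι).map a))) * ((snd (Red.bc ((U : Scheme.{u}).fromSpecResidueField s) (Red.bc U.ι A)) (Red.bc ((U : Scheme.{u}).fromSpecResidueField s) (Red.bc U.ι B))) ≫ ((Over.pullback ((U : Scheme.{u}).fromSpecResidueField s)).map ((Over.pullback U.ι).map b))) * ((fst (Red.bc ((U : Scheme.{u}).fromSpecResidueField s) (Red.bc U.ι A)) (Red.bc ((U : Scheme.{u}).fromSpecResidueField s) (Red.bc U.ι B))) ≫ ((Over.pullback ((U : Scheme.{u}).fromSpecResidueField s)).map ((Over.pullback U.ι).map a)))⁻¹ * ((snd (Red.bc ((U : Scheme.{u}).fromSpecResidueField s) (Red.bc U.ι A)) (Red.bc ((U : Scheme.{u}).fromSpecResidueField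 s) (Red.bc U.ι B))) ≫ ((Over.pullback ((U : Scheme.{u}).fromSpecResidueField s)).map ((Over.pullback U.ι).map b)))⁻¹)) → ∃ j : (Red.bc ((U : Scheme.{u}).fromSpecResidueField s) D) ⟶ Γ', j ≫ i' = ((Over.pullback ((U : Scheme.{u}).fromSpecResidueField s)).map d) := by
  classical
  let η₀ := genericPoint S
  let φ := S.fromSpecResidueField η₀
  let Ω := AlgebraicClosure (S.residueField η₀)
  let ψ : Spec (CommRingCat.of Ω) ⟶ Spec (S.residueField η₀) :=
    Spec.map (CommRingCat.ofHom (algebraMap (S.residueField η₀) Ω))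
  haveI : LocallyOfFiniteType (Red.bc φ G).hom := MorphismProperty.pullback_snd _ _ (inferInstance : LocallyOfFiniteType G.hom)
  haveI : LocallyOfFiniteType (Red.bc φ A).hom := MorphismProperty.pullback_snd _ _ (inferInstance : LocallyOfFiniteType A.hom)
  haveI : LocallyOfFiniteType (Red.bc φ B).hom := MorphismProperty.pullback_snd _ _ (inferInstance : LocallyOfFiniteType B.hom)
  haveI : QuasiCompact (Red.bc φ A).hom := MorphismProperty.pullback_snd _ _ ‹QuasiCompact A.hom›
  haveI : QuasiCompact (Red.bc φ B).hom := MorphismProperty.pullback_snd _ _ ‹QuasiCompact B.hom›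
  haveI := hsmA
  haveI := hsmB
  haveI : GeometricallyReduced (Red.bc φ A).hom := Rigid.geometricallyReduced_of_smooth _
  haveI : GeometricallyReduced (Red.bc φ B).hom := Rigid.geometricallyReduced_of_smooth _
  let aη := (Over.pullback φ).map a
  let bη := (Over.pullback φ).map b
  obtain ⟨K, hK, i, him, hici, hKgr, hKgc, ⟨f₀, hf₀⟩, N, hN⟩ :=
    exists_comm_gen (k := (S.residueField η₀ : Type u)) (Ω := Ω) aη bη
      (hcase.imp_right fun h => ⟨isNormalHom_pullback φ G a h.1, isNormalHom_pullback φ G b h.2⟩)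
  haveI := hici
  haveI : LocallyOfFinitePresentation (A ⊗ B).hom :=
    MorphismProperty.comp_mem _ _ _ (MorphismProperty.pullback_fst _ _ ‹LocallyOfFinitePresentation B.hom›) ‹_›
  haveI : QuasiCompact (A ⊗ B).hom :=
    MorphismProperty.comp_mem _ _ _ (MorphismProperty.pullback_fst _ _ ‹QuasiCompact B.hom›) ‹_›
  let F : A ⊗ B ⟶ G := ⁅fst A B ≫ a, snd A B ≫ b⁆
  have hF : ∀ {T : Over S} (t : T ⟶ A ⊗ B), t ≫ F = ⁅(t ≫ fst A B) ≫ a, (t ≫ snd A B) ≫ b⁆ := fun t => by
    rw [Category.assoc, Category.assoc]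
    exact Locus.comp_comm G t _ _
  have hval : val F (Locus.gpt η₀) = (pe φ ψ G) ⁻¹'
      {g | ∃ x : ptL (S.residueField η₀) Ω ⟶ Red.bc φ A, ∃ y : ptL (S.residueField η₀) Ω ⟶ Red.bc φ B,
        ⁅x ≫ aη, y ≫ bη⁆ = g} := by
    ext g
    constructor
    · rintro ⟨t, rfl⟩
      refine ⟨pe φ ψ A (t ≫ fst A B), pe φ ψ B (t ≫ snd A B), ?_⟩
      show _ = pe φ ψ G (t ≫ F)
      rw [hF, ← pe_comp, ← pe_comp, map_commutatorElement]
    · rintro ⟨x, y, h⟩
      obtain ⟨x, rfl⟩ := (pe φ ψ A).surjective x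
      obtain ⟨y, rfl⟩ := (pe φ ψ B).surjective y
      rw [← pe_comp, ← pe_comp, ← map_commutatorElement] at h
      refine ⟨lift x y, (pe φ ψ G).injective ?_⟩
      refine Eq.trans ?_ h
      show pe φ ψ G (lift x y ≫ F) = _
      rw [hF, lift_fst, lift_snd]
  have hXgr : GeometricallyReduced ((A ⊗ B).hom.fiberToSpecResidueField η₀) := by
    haveI : GeometricallyReduced (Red.bc φ A ⊗ Red.bc φ B).hom :=
      GeomRedPull.geometricallyReduced_pullback (Red.bc φ A).hom (Red.bc φ B).hom
    show GeometricallyReduced (((Over.pullback φ).obj (A ⊗ B)).hom)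
    rw [← Over.w (Functor.Monoidal.μIso (Over.pullback φ) A B).inv]
    exact (MorphismProperty.cancel_left_of_respectsIso (@GeometricallyReduced : MorphismProperty Scheme.{u}) _ _).2 ‹_›
  obtain ⟨U, hU, D, hD, d, hdm, hdc, hfp, hqc, hqs, hfl, hgr, hred, ⟨f', hf'⟩, ⟨M, hM⟩, hcon, hnorm⟩ :=
    exists_spread F (lift 1 1) (by rw [hF, lift_fst, lift_snd, MonObj.one_comp, MonObj.one_comp, commutatorElement_one_left])
      hXgr i N
      (fun t => ⟨lift (pe φ ψ A (t ≫ fst A B)) (pe φ ψ B (t ≫ snd A B)) ≫ f₀, by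
        rw [Category.assoc, hf₀, Locus.comp_comm, lift_fst_assoc, lift_snd_assoc, hF, ← pe_comp, ← pe_comp,
          map_commutatorElement]⟩)
      (fun y => by
        have h1 := hN y
        rw [← Set.image_preimage_eq {g | ∃ x : ptL (S.residueField η₀) Ω ⟶ Red.bc φ A,
          ∃ y : ptL (S.residueField η₀) Ω ⟶ Red.bc φ B, ⁅x ≫ aη, y ≫ bη⁆ = g} (pe φ ψ G).surjective,
          ← hval, ← map_bset] at h1
        obtain ⟨g, hg, hge⟩ := h1
        exact ⟨g, hg, hge⟩)
  refine ⟨U, ⟨η₀, hU⟩, D, hD, d, hdm, hdc, hfp, hqc, hqs, ?_, ?_, ?_, fun s => ⟨?_, ?_⟩⟩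
  · intro s
    haveI : GeometricallyReduced (Red.bc ((U : Scheme.{u}).fromSpecResidueField s) D).hom :=
      MorphismProperty.pullback_snd _ _ hgr
    haveI : LocallyOfFiniteType (Red.bc ((U : Scheme.{u}).fromSpecResidueField s) D).hom :=
      MorphismProperty.pullback_snd _ _ (inferInstance : LocallyOfFiniteType D.hom)
    exact AVEuler.smooth_of_geometricallyReduced (K := ((U : Scheme.{u}).residueField s : Type u))
      (Red.bc ((U : Scheme.{u}).fromSpecResidueField s) D)
  · exact fun h => hcon (hKgc h)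
  · rintro ⟨hA, hB⟩
    refine hnorm fun T g x => ?_
    obtain ⟨xa, hxa⟩ := hA T g (x ≫ fst A B)
    obtain ⟨xb, hxb⟩ := hB T g (x ≫ snd A B)
    exact ⟨lift xa xb, by
      show lift xa xb ≫ F = g * (x ≫ F) * g⁻¹
      rw [hF, hF, lift_fst, lift_snd, conj_commutator, hxa, hxb]⟩
  · refine ⟨Functor.LaxMonoidal.μ (Over.pullback ((U : Scheme.{u}).fromSpecResidueField s)) (Red.bc U.ι A) (Red.bc U.ι B) ≫
      (Over.pullback ((U : Scheme.{u}).fromSpecResidueField s)).map
        (Functor.LaxMonoidal.μ (Over.pullback U.ι) A B ≫ f'), ?_⟩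
    rw [Category.assoc, ← Functor.map_comp, Category.assoc, hf', μ_map_comm, μ_map_comm, commutatorElement_def]
  · intro Γ' hΓ i' hi' hi'c ⟨c', hc'⟩
    haveI := hi'
    haveI := hi'c
    haveI : LocallyOfFiniteType (Red.bc U.ι G).hom := MorphismProperty.pullback_snd _ _ (inferInstance : LocallyOfFiniteType G.hom)
    refine exists_factor_fibre d ((Over.pullback U.ι).map F) M s (fun z => hM _ _ z) i'
      (lift ((Over.pullback ((U : Scheme.{u}).fromSpecResidueField s)).map ((Over.pullback U.ι).map (fst A B)))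
        ((Over.pullback ((U : Scheme.{u}).fromSpecResidueField s)).map ((Over.pullback U.ι).map (snd A B))) ≫ c') ?_
    rw [Category.assoc, hc', ← commutatorElement_def, Locus.comp_comm, lift_fst_assoc, lift_snd_assoc, map_comm, map_comm]
    simp only [Functor.map_comp]

end Groth.Agent.S6079
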