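import Groth.Statements.S6081
import Groth.Agent.Comod.FreeCover

set_option autoImplicit false
universe u
open TensorProduct
open SGA3

namespace Groth.Agent.S6081

/-- Let R be a Noetherian ring and A a commutative Hopf algebra over R which is flat and of finite type
as an R-algebra, so that G = Spec A is an affine flat R-group scheme of finite type. Suppose that
the pair (G, Spec R) has the equivariant resolution property: for every A-comodule F which is
finitely generated as an R-module there are an A-comodule E which is finitely generated and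
projective as an R-module and a surjective R-linear map E → F compatible with the coactions. Then
there are a natural number d and a d × d matrix (a_ij) of elements of A with Δ(a_ij) = Σ_l a_il ⊗
a_lj and ε(a_ij) = δ_ij (a matrix corepresentation, i.e. a homomorphism G → GL_{d,R}) whose
determinant is a unit, such that A is generated as an R-algebra by the entries a_ij together with
the inverse of det(a_ij): G is a closed subgroup scheme of GL_{d,R}. (The published statement is
over a Noetherian scheme S, with G-equivariant coherent modules; this row is its assertion (ii), the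
case S affine, in Hopf-algebra form.) -/
theorem result (R : Type u) [CommRing R] [IsNoetherianRing R]
    (A : Type u) [CommRing A] [HopfAlgebra R A] [Module.Flat R A] [Algebra.FiniteType R A]
    (hRE : ∀ (F : Type u) [AddCommGroup F] [Module R F] [HopfRep.Comod R A F] [Module.Finite R F],
      ∃ (E : Type u) (_ : AddCommGroup E) (_ : Module R E) (_ : HopfRep.Comod R A E) (π : E →ₗ[R] F),
        Module.Finite R E ∧ Module.Projective R E ∧ Function.Surjective π ∧
        HopfRep.Comod.coact (k := R) (A := A) ∘ₗ π = π.rTensor A ∘ₗ HopfRep.Comod.coact (k := R) (A := A) (V := E)) :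
    ∃ (d : ℕ) (a : Matrix (Fin d) (Fin d) A),
      (∀ i j, CoalgebraStruct.comul (R := R) (a i j) = ∑ l, a i l ⊗ₜ[R] a l j) ∧
      (∀ i j, CoalgebraStruct.counit (R := R) (a i j) = if i = j then 1 else 0) ∧
      ∃ u : A, u * a.det = 1 ∧ Algebra.adjoin R (Set.range (fun p : Fin d × Fin d => a p.1 p.2) ∪ {u}) = ⊤ := by
  obtain ⟨s, hs⟩ := Algebra.FiniteType.out (R := R) (A := A)
  obtain ⟨W, hsW, hWfg, hW⟩ := Groth.Agent.Comod.exists_fg_stable (R := R) (C := A) (V := A)
    CoalgebraStruct.comul Coalgebra.coassoc Coalgebra.lTensor_counit_comp_comul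
    (Submodule.span R (s : Set A)) ⟨s, rfl⟩
  haveI : Module.Finite R W := Module.Finite.iff_fg.2 hWfg
  letI cW : HopfRep.Comod R A W := ComodSub.Comod.restr (HopfRep.Comod.regular R A) W hW
  obtain ⟨E, _, _, cE, π, hfin, hproj, hπ, hcomm⟩ := hRE W
  obtain ⟨d, g, hg⟩ := Module.Finite.exists_fin' R E
  obtain ⟨σ, hσ⟩ := Module.projective_lifting_property g LinearMap.id hg
  have hσ' : ∀ e, g (σ e) = e := fun e => LinearMap.congr_fun hσ e
  letI cF : HopfRep.Comod R A (Fin d → R) := Groth.Agent.Comod.extendComod cE g σ hσ'
  let b : Module.Basis (Fin d) R (Fin d → R) := Pi.basisFun R (Fin d)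
  let a : Matrix (Fin d) (Fin d) A := Groth.Agent.Comod.coMatrix (k := R) (A := A) b
  have ha : Groth.Agent.Comod.IsCorep (k := R) a := Groth.Agent.Comod.isCorep_coMatrix b
  refine ⟨d, a, fun i j => ?_, fun i j => ?_, (a.map (HopfAlgebra.antipodeAlgHom R A)).det, ?_, ?_⟩
  · have h := congrFun (congrFun ha.map_comul i) j
    simpa [Matrix.mul_apply] using h
  · have h := congrFun (congrFun ha.map_counit i) j
    simpa [Matrix.one_apply] using h
  · rw [← Matrix.det_mul, ha.antipode_mul, Matrix.det_one]
  · refine eq_top_iff.2 (hs ▸ Algebra.adjoin_le fun x hx => ?_)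
    let w : W := ⟨x, hsW (Submodule.subset_span hx)⟩
    obtain ⟨e, he⟩ := hπ w
    let L : W ⊗[R] A →ₗ[R] A := (TensorProduct.lid R A).toLinearMap ∘ₗ
      ((CoalgebraStruct.counit (R := R) (A := A)) ∘ₗ W.subtype).rTensor A
    have h1 : L (cW.coact w) = x := by
      show TensorProduct.lid R A (((CoalgebraStruct.counit (R := R) (A := A)) ∘ₗ W.subtype).rTensor A (cW.coact w)) = x
      rw [LinearMap.rTensor_comp_apply, ComodSub.restr_coact_coe]
      show TensorProduct.lid R A ((CoalgebraStruct.counit (R := R) (A := A)).rTensor A (CoalgebraStruct.comul x)) = x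
      rw [Coalgebra.rTensor_counit_comul]
      simp
    have h2 : cW.coact w = (π ∘ₗ g).rTensor A (cF.coact (σ e)) := by
      show cW.coact w = (π ∘ₗ g).rTensor A (Groth.Agent.Comod.extendCoact cE g σ (σ e))
      rw [LinearMap.rTensor_comp_apply, Groth.Agent.Comod.rTensor_extendCoact cE g σ hσ', hσ', ← he]
      exact LinearMap.congr_fun hcomm e
    rw [← h1, h2, SetLike.mem_coe, ← Subalgebra.mem_toSubmodule, ← b.sum_repr (σ e), map_sum, map_sum, map_sum]
    refine Submodule.sum_mem _ fun j _ => ?_
    rw [map_smul, map_smul, map_smul]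
    refine Submodule.smul_mem _ _ ?_
    rw [Groth.Agent.Comod.coact_basis, map_sum, map_sum]
    refine Submodule.sum_mem _ fun i _ => ?_
    simp only [L, LinearMap.rTensor_tmul, LinearMap.comp_apply, LinearEquiv.coe_coe, TensorProduct.lid_tmul]
    exact Submodule.smul_mem _ _ (Algebra.subset_adjoin (Or.inl ⟨(i, j), rfl⟩))

end Groth.Agent.S6081
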