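import Groth.Statements.S6082
import Groth.Agent.Comod.Cofree
import Groth.Agent.RegDual.KernelFree

set_option autoImplicit false
universe u
open TensorProduct
open SGA3

namespace Groth.Agent.S6082

/-- Let R be a Noetherian regular ring of Krull dimension at most 2, C a (coassociative, counital)
R-coalgebra which is projective as an R-module, and F a right C-comodule which is finitely generated
as an R-module. Then F is a quotient of a C-comodule which is finitely generated and projective as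
an R-module: there are such a comodule V and a surjective R-linear map V → F compatible with the
coactions. -/
theorem result (R : Type u) [CommRing R] [IsRegularRing R]
    (hdim : ringKrullDim R ≤ 2) (C : Type u) [AddCommGroup C] [Module R C] [Coalgebra R C] [Module.Projective R C]
    (F : Type u) [AddCommGroup F] [Module R F] [HopfRep.Comod R C F] [Module.Finite R F] :
    ∃ (V : Type u) (_ : AddCommGroup V) (_ : Module R V) (_ : HopfRep.Comod R C V) (φ : V →ₗ[R] F),
      Module.Finite R V ∧ Module.Projective R V ∧ Function.Surjective φ ∧ HopfRep.Comod.coact (k := R) (A := C) ∘ₗ φ = φ.rTensor C ∘ₗ HopfRep.Comod.coact (k := R) (A := C) (V := V) := by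
  classical
  obtain ⟨n₁, g₁, W₁, hW₁fg, hW₁, hW₁D, hW₁s⟩ :=
    Groth.Agent.Comod.Cofree.exists_cover (R := R) (C := C) (inferInstance : HopfRep.Comod R C F)
  have hW₁' : ∀ w ∈ W₁, (Groth.Agent.Comod.Cofree.cofree (R := R) (C := C) (Fin n₁ → R)).coact w ∈
      LinearMap.range (W₁.subtype.rTensor C) := fun w hw =>
    Groth.Agent.Comod.Cofree.mem_range_of_slices W₁ (hW₁ w hw)
  let c₁ : HopfRep.Comod R C W₁ := ComodSub.Comod.restr (Groth.Agent.Comod.Cofree.cofree (Fin n₁ → R)) W₁ hW₁'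
  have hsep₁ : Groth.Agent.Comod.Cofree.Sep R W₁ :=
    (Groth.Agent.Comod.Cofree.sep_projective (R := R) (M := (Fin n₁ → R) ⊗[R] C)).of_injective
      W₁.subtype W₁.subtype_injective
  haveI : Module.Finite R W₁ := Module.Finite.iff_fg.2 hW₁fg
  obtain ⟨n₂, g₂, W₂, hW₂fg, hW₂, hW₂D, hW₂s⟩ := Groth.Agent.Comod.Cofree.exists_cover (R := R) (C := C) c₁
  let X := (Fin n₂ → R) ⊗[R] C
  let cX : HopfRep.Comod R C X := Groth.Agent.Comod.Cofree.cofree (Fin n₂ → R)
  let S : Submodule R X :=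
    { carrier := {x | ∀ f : X →ₗ[R] R, (∀ w ∈ W₂, f w = 0) → f x = 0}
      add_mem' := fun ha hb f hf => by rw [map_add, ha f hf, hb f hf, add_zero]
      zero_mem' := fun f _ => map_zero f
      smul_mem' := fun r x hx f hf => by rw [map_smul, hx f hf, smul_zero] }
  have hle : W₂ ≤ S := fun w hw f hf => hf w hw
  have hSst : ∀ x ∈ S, cX.coact x ∈ LinearMap.range (S.subtype.rTensor C) := fun x hx =>
    Groth.Agent.Comod.Cofree.mem_range_of_slices S fun φ f hf =>
      hx (f ∘ₗ Groth.Agent.Comod.Cofree.sl φ ∘ₗ cX.coact) fun w hw => hf _ (hW₂ w hw φ)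
  letI : AddCommGroup (↥W₁ ⊗[R] C) := @TensorProduct.addCommGroup R _ ↥W₁ C (Submodule.addCommGroup W₁) _ (Submodule.module W₁) _
  have hSD : ∀ x ∈ S, g₂.rTensor C x = c₁.coact (Groth.Agent.Comod.Cofree.proj c₁ g₂ x) := fun x hx => by
    refine sub_eq_zero.1 (Groth.Agent.Comod.Cofree.sep_tensor hsep₁ _ fun ψ => ?_)
    exact hx (ψ ∘ₗ (g₂.rTensor C - c₁.coact ∘ₗ Groth.Agent.Comod.Cofree.proj c₁ g₂)) fun w hw => by
      simp [hW₂D w hw]
  letI cS : HopfRep.Comod R C S := ComodSub.Comod.restr cX S hSst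
  obtain ⟨sX, hsX⟩ := Module.projective_def'.1 (inferInstance : Module.Projective R X)
  obtain ⟨G, hG⟩ := hW₂fg
  let T : Finset X := G.biUnion fun x => (sX x).support
  let Φ : X →ₗ[R] (Fin T.card → R) := LinearMap.pi fun i => Finsupp.lapply (T.equivFin.symm i : X) ∘ₗ sX
  let π' : (Fin T.card → R) →ₗ[R] X := Fintype.linearCombination R fun i => (T.equivFin.symm i : X)
  have hvan : ∀ x ∈ S, ∀ i : X, i ∉ T → sX x i = 0 := fun x hx i hi =>
    hx (Finsupp.lapply i ∘ₗ sX) fun w hw => by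
      rw [← hG] at hw
      induction hw using Submodule.span_induction with
      | mem y hy =>
        by_contra h0
        exact hi (Finset.mem_biUnion.2 ⟨y, hy, Finsupp.mem_support_iff.2 h0⟩)
      | zero => exact map_zero _
      | add a b _ _ ha hb => rw [map_add, ha, hb, add_zero]
      | smul r a _ ha => rw [map_smul, ha, smul_zero]
  have hπΦ : ∀ x ∈ S, π' (Φ x) = x := fun x hx => by
    have h1 : x = Finsupp.linearCombination R id (sX x) := (LinearMap.congr_fun hsX x).symm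
    conv_rhs => rw [h1, Finsupp.linearCombination_apply]
    rw [Finsupp.sum_of_support_subset (sX x) (s := T) (fun i hi => by
        by_contra hiT
        exact Finsupp.mem_support_iff.1 hi (hvan x hx i hiT)) (fun i a => a • id i) (fun i _ => zero_smul R _)]
    rw [← Finset.sum_coe_sort T, Fintype.linearCombination_apply]
    exact Fintype.sum_equiv T.equivFin.symm _ _ fun i => rfl
  let L : Submodule R ((Fin T.card → R) →ₗ[R] R) :=
    LinearMap.ker (LinearMap.lcomp R R (Φ ∘ₗ W₂.subtype))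
  haveI : IsNoetherian R ((Fin T.card → R) →ₗ[R] R) := isNoetherian_of_isNoetherianRing_of_finite R _
  obtain ⟨k, gs, hgs⟩ := Submodule.fg_iff_exists_fin_generating_family.1 (IsNoetherian.noetherian L)
  let v : (Fin T.card → R) →ₗ[R] (Fin k → R) := LinearMap.pi gs
  have hv : ∀ y, y ∈ LinearMap.ker v ↔ ∀ g ∈ L, g y = 0 := fun y => by
    refine ⟨fun hy g hg => ?_, fun hy => LinearMap.mem_ker.2 (funext fun j => hy _ (hgs ▸ Submodule.subset_span ⟨j, rfl⟩))⟩
    rw [← hgs] at hg
    induction hg using Submodule.span_induction with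
    | mem z hz => obtain ⟨j, rfl⟩ := hz; exact congrFun (LinearMap.mem_ker.1 hy) j
    | zero => rfl
    | add a b _ _ ha hb => rw [LinearMap.add_apply, ha, hb, add_zero]
    | smul r a _ ha => rw [LinearMap.smul_apply, ha, smul_zero]
  have hto : ∀ x ∈ S, Φ x ∈ LinearMap.ker v := fun x hx => (hv _).2 fun g hg =>
    hx (g ∘ₗ Φ) fun w hw => LinearMap.congr_fun (LinearMap.mem_ker.1 hg) ⟨w, hw⟩
  have hfrom : ∀ y ∈ LinearMap.ker v, π' y ∈ S := fun y hy f hf => (hv y).1 hy (f ∘ₗ π')
    (LinearMap.mem_ker.2 (LinearMap.ext fun w => by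
      show f (π' (Φ w.1)) = 0
      rw [hπΦ _ (hle w.2)]; exact hf _ w.2))
  have hΦπ : ∀ y ∈ LinearMap.ker v, Φ (π' y) = y := fun y hy => funext fun i =>
    sub_eq_zero.1 ((hv y).1 hy (LinearMap.proj i ∘ₗ Φ ∘ₗ π' - LinearMap.proj i)
      (LinearMap.mem_ker.2 (LinearMap.ext fun w => by
        show Φ (π' (Φ w.1)) i - Φ w.1 i = 0
        rw [hπΦ _ (hle w.2), sub_self])))
  let eS : ↥S ≃ₗ[R] ↥(LinearMap.ker v) := LinearEquiv.ofLinear
    ((Φ ∘ₗ S.subtype).codRestrict _ fun x => hto x.1 x.2) ((π' ∘ₗ (LinearMap.ker v).subtype).codRestrict _ fun y => hfrom y.1 y.2)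
    (LinearMap.ext fun y => Subtype.ext (hΦπ y.1 y.2)) (LinearMap.ext fun x => Subtype.ext (hπΦ x.1 x.2))
  haveI := Groth.Agent.RegDual.projective_ker R hdim v
  let p₂ : S →ₗ[R] W₁ := Groth.Agent.Comod.Cofree.proj c₁ g₂ ∘ₗ S.subtype
  let p₁ : W₁ →ₗ[R] F := Groth.Agent.Comod.Cofree.proj (inferInstance : HopfRep.Comod R C F) g₁ ∘ₗ W₁.subtype
  have he₂ : ∀ x : S, p₂.rTensor C (cS.coact x) = c₁.coact (p₂ x) := fun x => by
    rw [LinearMap.rTensor_comp_apply, ComodSub.restr_coact_coe]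
    exact (Groth.Agent.Comod.Cofree.proj_rTensor_coact c₁ g₂ x.1).trans (hSD x.1 x.2)
  have he₁ : ∀ x : W₁, p₁.rTensor C (c₁.coact x) = HopfRep.Comod.coact (k := R) (A := C) (p₁ x) := fun x => by
    rw [LinearMap.rTensor_comp_apply, ComodSub.restr_coact_coe, Groth.Agent.Comod.Cofree.proj_rTensor_coact]
    exact hW₁D x.1 x.2
  refine ⟨S, inferInstance, inferInstance, cS, p₁ ∘ₗ p₂, Module.Finite.equiv eS.symm,
    Module.Projective.of_equiv eS.symm, fun y => ?_, LinearMap.ext fun x => ?_⟩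
  · obtain ⟨w, hw, hwy⟩ := hW₁s y
    obtain ⟨x, hx, hxw⟩ := hW₂s ⟨w, hw⟩
    exact ⟨⟨x, hle hx⟩, by
      show p₁ (Groth.Agent.Comod.Cofree.proj c₁ g₂ x) = y
      rw [hxw]; exact hwy⟩
  · simp only [LinearMap.comp_apply]
    rw [LinearMap.rTensor_comp_apply, he₂, he₁]

end Groth.Agent.S6082
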