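import Groth.Statements.S6086
import Groth.Agent.LimGrp.Hom

set_option autoImplicit false
universe u
open CategoryTheory CategoryTheory.Limits MonoidalCategory CartesianMonoidalCategory MonObj GrpObj AlgebraicGeometry
open SGA3

namespace Groth.Agent.S6086
open Groth.Agent

/-- Let S be the limit of a cofiltered system (S_i) of quasi-compact quasi-separated schemes with affine
transition morphisms, j an index and G_j, H_j two S_j-group schemes of finite presentation over S_j;
for i over j write G_i, H_i for the base changes to S_i and G, H for the base changes to S. Then the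
canonical map colim_i Hom_{S_i-gr}(G_i, H_i) → Hom_{S-gr}(G, H) is bijective: (surjectivity) every
homomorphism u : G → H of S-group schemes is, up to the canonical identifications (G_i) ×_{S_i} S ≅
G and (H_i) ×_{S_i} S ≅ H, the base change of a homomorphism u_i : G_i → H_i for some index i over
j; (injectivity) two homomorphisms G_i → H_i whose base changes to S coincide already coincide after
base change to S_{i'} for some index i' over i. (The published setting takes all S_i affine over a
fixed quasi-compact quasi-separated S_0; this row allows any cofiltered system of quasi-compact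
quasi-separated schemes with affine transition morphisms.) -/
theorem result {I : Type u} [SmallCategory I] [IsCofiltered I]
    (D : I ⥤ Scheme.{u}) (c : Limits.Cone D) (hc : Limits.IsLimit c)
    [∀ (i i' : I) (f : i ⟶ i'), IsAffineHom (D.map f)] [∀ i, CompactSpace (D.obj i)] [∀ i, QuasiSeparatedSpace (D.obj i)]
    (j : I) (Gj Hj : Over (D.obj j)) [GrpObj Gj] [GrpObj Hj]
    [LocallyOfFinitePresentation Gj.hom] [QuasiCompact Gj.hom] [QuasiSeparated Gj.hom]
    [LocallyOfFinitePresentation Hj.hom] [QuasiCompact Hj.hom] [QuasiSeparated Hj.hom] :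
    (∀ (u : Red.bc (c.π.app j) Gj ⟶ Red.bc (c.π.app j) Hj), IsMonHom u →
      ∃ (i : I) (f : i ⟶ j) (ui : Red.bc (D.map f) Gj ⟶ Red.bc (D.map f) Hj), IsMonHom ui ∧
        (Over.pullback (c.π.app i)).map ui = (((Over.pullbackComp (c.π.app i) (D.map f)).app Gj).symm ≪≫ eqToIso (congrArg (fun g => Red.bc g Gj) (c.w f))).hom ≫ u ≫ (((Over.pullbackComp (c.π.app i) (D.map f)).app Hj).symm ≪≫ eqToIso (congrArg (fun g => Red.bc g Hj) (c.w f))).inv) ∧
    (∀ (i : I) (f : i ⟶ j) (u₁ u₂ : Red.bc (D.map f) Gj ⟶ Red.bc (D.map f) Hj), IsMonHom u₁ → IsMonHom u₂ →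
      (Over.pullback (c.π.app i)).map u₁ = (Over.pullback (c.π.app i)).map u₂ →
      ∃ (i' : I) (g : i' ⟶ i), (Over.pullback (D.map g)).map u₁ = (Over.pullback (D.map g)).map u₂) := by
  refine ⟨fun u hu => LimGrp.exists_hom D c hc Gj Hj u hu, fun i f u₁ u₂ _ _ h => ?_⟩
  haveI : CompactSpace (Red.bc (D.map f) Gj).left := QuasiCompact.compactSpace_of_compactSpace (pullback.snd Gj.hom (D.map f))
  haveI : QuasiSeparatedSpace (Red.bc (D.map f) Gj).left := quasiSeparatedSpace_of_quasiSeparated (pullback.snd Gj.hom (D.map f))
  haveI : CompactSpace (Red.bc (D.map f) Hj).left := QuasiCompact.compactSpace_of_compactSpace (pullback.snd Hj.hom (D.map f))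
  haveI : QuasiSeparatedSpace (Red.bc (D.map f) Hj).left := quasiSeparatedSpace_of_quasiSeparated (pullback.snd Hj.hom (D.map f))
  haveI : LocallyOfFinitePresentation (Red.bc (D.map f) Gj).hom := inferInstanceAs (LocallyOfFinitePresentation (pullback.snd Gj.hom (D.map f)))
  haveI : LocallyOfFinitePresentation (Red.bc (D.map f) Hj).hom := inferInstanceAs (LocallyOfFinitePresentation (pullback.snd Hj.hom (D.map f)))
  have h' := congrArg (fun v => v.left ≫ pullback.fst (Red.bc (D.map f) Hj).hom (c.π.app i)) h
  obtain ⟨i', g, hg⟩ := S9219.result D c hc i (Red.bc (D.map f) Gj).hom (Red.bc (D.map f) Hj).hom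
    (pullback.fst _ (c.π.app i)) (pullback.snd _ (c.π.app i)) (IsPullback.of_hasPullback _ _)
    u₁.left u₂.left (Over.w u₁) (Over.w u₂) ((pullback.lift_fst _ _ _).symm.trans (h'.trans (pullback.lift_fst _ _ _)))
  refine ⟨i', g, ?_⟩
  ext1
  apply pullback.hom_ext
  · exact (pullback.lift_fst _ _ _).trans (hg.trans (pullback.lift_fst _ _ _).symm)
  · exact (pullback.lift_snd _ _ _).trans (pullback.lift_snd _ _ _).symm


end Groth.Agent.S6086
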