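import Groth.Statements.S6087
import Groth.Agent.LimGrp.Quot

set_option autoImplicit false
universe u
open CategoryTheory CategoryTheory.Limits MonoidalCategory CartesianMonoidalCategory MonObj GrpObj AlgebraicGeometry
open SGA3

namespace Groth.Agent.S6087
open Groth.Agent
open scoped CategoryTheory.Obj

/-- Let S be the limit of a cofiltered system (S_i) of quasi-compact quasi-separated schemes with affine
transition morphisms, j an index, G_j an S_j-group scheme of finite presentation over S_j and u_j :
G'_j → G_j a subgroup scheme (a homomorphism which is a monomorphism) with G'_j flat and of finite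
presentation over S_j. For a base change G, G' of G_j, G'_j say that G/G' is representable when
there are Q and a morphism p : G → Q which is flat, surjective and locally of finite presentation
and makes the square formed by (g, h) ↦ g · u(h), the first projection G × G' → G and p (twice)
cartesian. Then G/G' is representable over S for the base changes to S if and only if there is an
index i over j such that G_i/G'_i is representable over S_i for the base changes to S_i. (The
published statement is for representability of the fpqc quotient sheaf; with G' flat of finite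
presentation this is the same as the existence of such a p. The published setting takes all S_i
affine over a fixed quasi-compact quasi-separated S_0.) -/
theorem result {I : Type u} [SmallCategory I] [IsCofiltered I]
    (D : I ⥤ Scheme.{u}) (c : Limits.Cone D) (hc : Limits.IsLimit c)
    [∀ (i i' : I) (f : i ⟶ i'), IsAffineHom (D.map f)] [∀ i, CompactSpace (D.obj i)] [∀ i, QuasiSeparatedSpace (D.obj i)]
    (j : I) (Gj G'j : Over (D.obj j)) [GrpObj Gj] [GrpObj G'j]
    [LocallyOfFinitePresentation Gj.hom] [QuasiCompact Gj.hom] [QuasiSeparated Gj.hom]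
    [Flat G'j.hom] [LocallyOfFinitePresentation G'j.hom] [QuasiCompact G'j.hom] [QuasiSeparated G'j.hom]
    (uj : G'j ⟶ Gj) [IsMonHom uj] [Mono uj] :
    (∃ (Q : Over c.pt) (p : (Red.bc (c.π.app j) Gj) ⟶ Q), Flat p.left ∧ Surjective p.left ∧ LocallyOfFinitePresentation p.left ∧
        IsPullback (((Red.bc (c.π.app j) Gj) ◁ ((Over.pullback (c.π.app j)).map uj)) ≫ μ[(Red.bc (c.π.app j) Gj)]) (fst (Red.bc (c.π.app j) Gj) (Red.bc (c.π.app j) G'j)) p p) ↔
    ∃ (i : I) (f : i ⟶ j), ∃ (Q : Over (D.obj i)) (p : (Red.bc (D.map f) Gj) ⟶ Q), Flat p.left ∧ Surjective p.left ∧ LocallyOfFinitePresentation p.left ∧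
        IsPullback (((Red.bc (D.map f) Gj) ◁ ((Over.pullback (D.map f)).map uj)) ≫ μ[(Red.bc (D.map f) Gj)]) (fst (Red.bc (D.map f) Gj) (Red.bc (D.map f) G'j)) p p := by
  let t : Gj ⊗ G'j ⟶ Gj := (Gj ◁ uj) ≫ μ[Gj]
  haveI : Mono (lift (fst Gj G'j) t) := by
    refine ⟨fun {T} a b hab => ?_⟩
    have h1 := congrArg (· ≫ fst _ _) hab
    have h2 := congrArg (· ≫ snd _ _) hab
    simp only [Category.assoc, lift_fst, lift_snd] at h1 h2
    apply CartesianMonoidalCategory.hom_ext
    · exact h1
    · have hmul : ∀ x : T ⟶ Gj ⊗ G'j, x ≫ t = (x ≫ fst _ _) * ((x ≫ snd _ _) ≫ uj) := fun x => by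
        simp only [t, ← Category.assoc, Hom.mul_def]
        congr 1
        apply CartesianMonoidalCategory.hom_ext <;> simp
      rw [hmul, hmul, h1] at h2
      exact (cancel_mono uj).1 (mul_left_cancel h2)
  haveI : Flat (fst Gj G'j).left := MorphismProperty.pullback_fst (P := @Flat) Gj.hom G'j.hom ‹_›
  have key : ∀ {S' : Scheme.{u}} (w : S' ⟶ D.obj j),
      (∃ (Q : Over S') (p : (Red.bc w Gj) ⟶ Q), Flat p.left ∧ Surjective p.left ∧ LocallyOfFinitePresentation p.left ∧
        IsPullback (((Red.bc w Gj) ◁ ((Over.pullback w).map uj)) ≫ μ[(Red.bc w Gj)]) (fst (Red.bc w Gj) (Red.bc w G'j)) p p) ↔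
      LimGrp.HasQuot ((Over.pullback w).map (fst Gj G'j)) ((Over.pullback w).map t) := by
    intro S' w
    let F := Over.pullback w
    let m := Functor.Monoidal.μIso F Gj G'j
    have e1 : m.hom ≫ F.map (fst Gj G'j) = fst _ _ := Functor.Monoidal.μ_fst F Gj G'j
    have e2 : m.hom ≫ F.map t = ((F.obj Gj) ◁ F.map uj) ≫ μ[Red.bc w Gj] := by
      simp only [t, Functor.map_comp, m, Functor.Monoidal.μIso_hom]
      erw [← Functor.LaxMonoidal.μ_natural_right_assoc, ← Functor.obj.μ_def]
    constructor
    · rintro ⟨Q, p, h1, h2, h3, h4⟩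
      exact LimGrp.hasQuot_congr m (Iso.refl _) ((Category.comp_id _).trans e1.symm) ((Category.comp_id _).trans e2.symm)
        ⟨Q, p, h1, h2, h3, h4.flip⟩
    · intro h
      obtain ⟨Q, p, h1, h2, h3, h4⟩ := LimGrp.hasQuot_congr m.symm (Iso.refl _)
        (s' := fst (F.obj Gj) (F.obj G'j)) (t' := ((F.obj Gj) ◁ F.map uj) ≫ μ[Red.bc w Gj])
        ((Category.comp_id _).trans ((Iso.eq_inv_comp m).2 e1)) ((Category.comp_id _).trans ((Iso.eq_inv_comp m).2 e2)) h
      exact ⟨Q, p, h1, h2, h3, h4.flip⟩
  simp only [key]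
  constructor
  · intro h
    exact LimGrp.exists_hasQuot D c hc (fst Gj G'j) t h
  · rintro ⟨i, f, h⟩
    exact (LimGrp.hasQuot_comp_iff (c.w f) (fst Gj G'j) t).1 (LimGrp.HasQuot.map h (c.π.app i))

end Groth.Agent.S6087
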