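import Groth.Statements.S6088
import Groth.Agent.LimGrp.Normal

set_option autoImplicit false
universe u
open CategoryTheory CategoryTheory.Limits MonoidalCategory CartesianMonoidalCategory MonObj GrpObj AlgebraicGeometry
open SGA3

namespace Groth.Agent.S6088
open Groth.Agent

/-- Let S be the limit of a cofiltered system (S_i) of quasi-compact quasi-separated schemes with affine
transition morphisms, j an index and u_j : H_j → G_j a homomorphism of S_j-group schemes of finite
presentation over S_j; write u and u_i for its base changes to S and to S_i. Then u is a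
monomorphism with H normal in G (for every S-scheme T, conjugates of T-points of H by T-points of G
are T-points of H) if and only if there is an index i over j such that u_i is a monomorphism with
H_i normal in G_i; and u is a monomorphism with H central in G (every T-point of H commutes with
every T-point of G) if and only if there is an index i over j with the same property for u_i. (The
published statement starts from a homomorphism u of S-groups of finite presentation and first
descends it to some u_j; this row starts from u_j. The published setting takes all S_i affine over a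
fixed quasi-compact quasi-separated S_0.) -/
theorem result {I : Type u} [SmallCategory I] [IsCofiltered I]
    (D : I ⥤ Scheme.{u}) (c : Limits.Cone D) (hc : Limits.IsLimit c)
    [∀ (i i' : I) (f : i ⟶ i'), IsAffineHom (D.map f)] [∀ i, CompactSpace (D.obj i)] [∀ i, QuasiSeparatedSpace (D.obj i)]
    (j : I) (Gj Hj : Over (D.obj j)) [GrpObj Gj] [GrpObj Hj]
    [LocallyOfFinitePresentation Gj.hom] [QuasiCompact Gj.hom] [QuasiSeparated Gj.hom]
    [LocallyOfFinitePresentation Hj.hom] [QuasiCompact Hj.hom] [QuasiSeparated Hj.hom]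
    (uj : Hj ⟶ Gj) [IsMonHom uj] :
    ((Mono ((Over.pullback (c.π.app j)).map uj) ∧ AlgGrp.IsNormalHom ((Over.pullback (c.π.app j)).map uj)) ↔
      ∃ (i : I) (f : i ⟶ j), Mono ((Over.pullback (D.map f)).map uj) ∧ AlgGrp.IsNormalHom ((Over.pullback (D.map f)).map uj)) ∧
    ((Mono ((Over.pullback (c.π.app j)).map uj) ∧ (∀ (T : Over c.pt) (g : T ⟶ (Red.bc (c.π.app j) Gj)) (n : T ⟶ (Red.bc (c.π.app j) Hj)), g * (n ≫ ((Over.pullback (c.π.app j)).map uj)) = (n ≫ ((Over.pullback (c.π.app j)).map uj)) * g)) ↔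
      ∃ (i : I) (f : i ⟶ j), Mono ((Over.pullback (D.map f)).map uj) ∧ (∀ (T : Over (D.obj i)) (g : T ⟶ (Red.bc (D.map f) Gj)) (n : T ⟶ (Red.bc (D.map f) Hj)), g * (n ≫ ((Over.pullback (D.map f)).map uj)) = (n ≫ ((Over.pullback (D.map f)).map uj)) * g)) := by
  let π := c.π.app j
  have hcomb : ∀ {i₁ i₂ : I} (f₁ : i₁ ⟶ j) (f₂ : i₂ ⟶ j), ∃ (i : I) (a : i ⟶ i₁) (b : i ⟶ i₂), a ≫ f₁ = b ≫ f₂ := by
    intro i₁ i₂ f₁ f₂
    obtain ⟨i, a, b, e⟩ := IsCofiltered.cospan f₁ f₂
    exact ⟨i, a, b, e⟩
  constructor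
  · rw [← LimGrp.monoAt_iff, ← LimGrp.normalAt_iff]
    simp only [← LimGrp.monoAt_iff, ← LimGrp.normalAt_iff]
    constructor
    · rintro ⟨hm, hn⟩
      obtain ⟨i₁, f₁, h1⟩ := LimGrp.exists_monoAt D c hc uj hm
      obtain ⟨i₂, f₂, h2⟩ := LimGrp.exists_normalAt D c hc uj hm hn
      obtain ⟨i, a, b, e⟩ := hcomb f₁ f₂
      exact ⟨i, a ≫ f₁, h1.comp (D.map_comp a f₁).symm, h2.comp (g := D.map f₂) ((D.map_comp b f₂).symm.trans (by rw [e]))⟩
    · rintro ⟨i, f, hm, hn⟩
      exact ⟨hm.comp (c.w f), hn.comp (c.w f)⟩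
  · simp only [← LimGrp.monoAt_iff, ← LimGrp.centralAt_iff]
    constructor
    · rintro ⟨hm, hn⟩
      obtain ⟨i₁, f₁, h1⟩ := LimGrp.exists_monoAt D c hc uj hm
      obtain ⟨i₂, f₂, h2⟩ := LimGrp.exists_centralAt D c hc uj hn
      obtain ⟨i, a, b, e⟩ := hcomb f₁ f₂
      exact ⟨i, a ≫ f₁, h1.comp (D.map_comp a f₁).symm, h2.comp (g := D.map f₂) ((D.map_comp b f₂).symm.trans (by rw [e]))⟩
    · rintro ⟨i, f, hm, hn⟩
      exact ⟨hm.comp (c.w f), hn.comp (c.w f)⟩

end Groth.Agent.S6088
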