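import Groth.Statements.S6090
import Groth.Agent.SubGen.Spread
import Groth.Agent.AVEuler.Smooth

set_option autoImplicit false
universe u
open CategoryTheory CategoryTheory.Limits MonoidalCategory CartesianMonoidalCategory MonObj GrpObj AlgebraicGeometry
open SGA3

namespace Groth.Agent.S6090

open Groth.Agent.SubGen Groth.Agent.SubGen.Spread
open scoped commutatorElement
set_option backward.isDefEq.respectTransparency false
attribute [local instance] Functor.grpObjObj

/-- Post-composition with a homomorphism, at any source. -/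
noncomputable def push {S : Scheme.{u}} {G H : Over S} [GrpObj G] [GrpObj H] (h : H ⟶ G) [IsMonHom h] (T : Over S) :
    (T ⟶ H) →* (T ⟶ G) :=
  MonoidHom.mk' (fun x => x ≫ h) fun x y => MonObj.mul_comp x y h

theorem push_apply {S : Scheme.{u}} {G H : Over S} [GrpObj G] [GrpObj H] (h : H ⟶ G) [IsMonHom h] {T : Over S}
    (x : T ⟶ H) : push h T x = x ≫ h := rfl

theorem comm_comp {S : Scheme.{u}} {G H : Over S} [GrpObj G] [GrpObj H] (h : H ⟶ G) [IsMonHom h] {T : Over S}
    (x y : T ⟶ H) : ⁅x, y⁆ ≫ h = ⁅x ≫ h, y ≫ h⁆ :=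
  map_commutatorElement (push h T) x y

theorem hom_bset {H K : Type u} [Group H] [Group K] (f : H →* K) (A : Set H) :
    ∀ (N : ℕ) {x : H}, x ∈ bset A N → f x ∈ bset (f '' A) N
  | 0, x, hx => by rw [show x = 1 from hx, map_one]; rfl
  | N + 1, _, ⟨e, he, x, hx, rfl⟩ => by
    refine ⟨f e, ?_, f x, hom_bset f A N hx, (map_mul f e x).symm⟩
    rcases he with (he | he) | he
    · exact Or.inl (Or.inl ⟨e, he, rfl⟩)
    · exact Or.inl (Or.inr (Set.mem_inv.2 ⟨e⁻¹, Set.mem_inv.1 he, map_inv f e⟩))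
    · exact Or.inr (by rw [show e = 1 from he, map_one]; rfl)

theorem val_treeMor {S T : Scheme.{u}} (φ : T ⟶ S) (G : Over S) [GrpObj G] (n : ℕ) (Y : Over T) :
    val ((Over.pullback φ).map (Locus.treeMor G true n).2) Y = tree true (Y ⟶ Red.bc φ G) n := by
  rw [show val ((Over.pullback φ).map (Locus.treeMor G true n).2) Y =
      Locus.baseEquiv φ G Y '' val (Locus.treeMor G true n).2 ((Over.map φ).obj Y) from (range_map_values φ G Y _).symm,
    show val (Locus.treeMor G true n).2 ((Over.map φ).obj Y) = tree true ((Over.map φ).obj Y ⟶ G) n from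
      (Locus.tree_eq G true _ n).symm]
  exact map_tree true (Locus.baseEquiv φ G Y) n

theorem one_mem_tree {H : Type u} [Group H] : ∀ n, (1 : H) ∈ tree true H n
  | 0 => trivial
  | n + 1 => ⟨1, one_mem_tree n, 1, fun _ => one_mem_tree n, commutatorElement_one_left 1⟩

theorem geomRed_treeMor {S T : Scheme.{u}} (φ : T ⟶ S) (G : Over S) [GrpObj G]
    [GeometricallyReduced (Red.bc φ G).hom] [LocallyOfFiniteType (Red.bc φ G).hom] {k : Type u} [Field k]
    (e : T = Spec (CommRingCat.of k)) :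
    ∀ n, GeometricallyReduced (Red.bc φ (Locus.treeMor G true n).1).hom ∧
      LocallyOfFiniteType (Red.bc φ (Locus.treeMor G true n).1).hom
  | 0 => ⟨‹_›, ‹_›⟩
  | n + 1 => by
    subst e
    obtain ⟨h1, h2⟩ := geomRed_treeMor φ G rfl n
    let U := (Locus.treeMor G true n).1
    haveI := h1
    haveI := h2
    haveI : GeometricallyReduced (Red.bc φ U ⊗ Red.bc φ U).hom :=
      GeomRedPull.geometricallyReduced_pullback (Red.bc φ U).hom (Red.bc φ U).hom
    haveI : LocallyOfFiniteType (Red.bc φ U ⊗ Red.bc φ U).hom :=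
      MorphismProperty.comp_mem _ _ _ (MorphismProperty.pullback_fst _ _ h2) h2
    show GeometricallyReduced (((Over.pullback φ).obj (U ⊗ U)).hom) ∧ LocallyOfFiniteType (((Over.pullback φ).obj (U ⊗ U)).hom)
    rw [← Over.w (Functor.Monoidal.μIso (Over.pullback φ) U U).inv]
    exact ⟨(MorphismProperty.cancel_left_of_respectsIso (@GeometricallyReduced : MorphismProperty Scheme.{u}) _ _).2 ‹_›,
      (MorphismProperty.cancel_left_of_respectsIso (@LocallyOfFiniteType : MorphismProperty Scheme.{u}) _ _).2 ‹_›⟩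

section chain

variable {k Ω : Type u} [Field k] [Field Ω] [Algebra k Ω]

/-- A closed subgroup with the points of the `p`-th derived subgroup. -/
structure Lvl (Ω : Type u) [Field Ω] [Algebra k Ω] (G : Over (Spec (CommRingCat.of k))) [GrpObj G] (p : ℕ) where
  K : Over (Spec (CommRingCat.of k))
  [grp : GrpObj K]
  i : K ⟶ G
  hom : IsMonHom i
  closed : IsClosedImmersion i.left
  gr : GeometricallyReduced K.hom
  pts : val i (ptL k Ω) = (ser true (ptL k Ω ⟶ G) p : Set (ptL k Ω ⟶ G))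
  bound : ∃ N, (ser true (ptL k Ω ⟶ G) p : Set (ptL k Ω ⟶ G)) ⊆ bset (tree true (ptL k Ω ⟶ G) p) N

attribute [instance] Lvl.grp Lvl.hom Lvl.closed Lvl.gr

variable [IsAlgClosed Ω] {G : Over (Spec (CommRingCat.of k))} [GrpObj G] [LocallyOfFiniteType G.hom] [QuasiCompact G.hom]
  [GeometricallyReduced G.hom]

theorem exists_next {p : ℕ} (l : Lvl Ω G p) : ∃ l' : Lvl Ω G (p + 1),
    (∃ c : l.K ⊗ l.K ⟶ l'.K, c ≫ l'.i = ⁅fst l.K l.K ≫ l.i, snd l.K l.K ≫ l.i⁆) ∧
    ∀ (Γ' : Over (Spec (CommRingCat.of k))) (_ : GrpObj Γ') (i' : Γ' ⟶ G), IsMonHom i' → IsClosedImmersion i'.left →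
      (∃ c', c' ≫ i' = ⁅fst l.K l.K ≫ l.i, snd l.K l.K ≫ l.i⁆) → ∃ j : l'.K ⟶ Γ', j ≫ i' = l'.i := by
  let K := l.K
  haveI : LocallyOfFiniteType K.hom := by rw [← Over.w l.i]; infer_instance
  haveI : QuasiCompact K.hom := by rw [← Over.w l.i]; infer_instance
  haveI : GeometricallyReduced (K ⊗ K).hom := GeomRedPull.geometricallyReduced_pullback K.hom K.hom
  haveI := geometricallyReduced_src (K ⊗ K)
  obtain ⟨K', hK', i', w, him, hici, hw, hd, ⟨f', hf'⟩, hmin⟩ :=
    exists_generated ⁅fst K K ≫ l.i, snd K K ≫ l.i⁆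
  haveI := hici
  haveI : Mono i' := GrpField.SchImg.mono_of_isClosedImmersion i'
  haveI : Mono l.i := GrpField.SchImg.mono_of_isClosedImmersion l.i
  have hd' : JointlyDense (word f') := by
    have e : word f' = w := funext fun l => by rw [← cancel_mono i', word_comp, hf', hw]
    rw [e]; exact hd
  obtain ⟨m, hm⟩ := hmin K inferInstance l.i l.hom l.closed ⟨⁅fst K K, snd K K⁆, comm_comp l.i _ _⟩
  haveI : IsMonHom m :=
    { one_hom := by rw [← cancel_mono l.i, Category.assoc, hm, IsMonHom.one_hom, IsMonHom.one_hom]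
      mul_hom := by
        rw [← cancel_mono l.i, Category.assoc, hm, Category.assoc, IsMonHom.mul_hom, IsMonHom.mul_hom,
          MonoidalCategory.tensorHom_comp_tensorHom_assoc, hm] }
  obtain ⟨N, hN⟩ := exists_bound_geom (k := k) (L := Ω) (𝟙 K) (𝟙 K)
    (fun T g n => ⟨g * n * g⁻¹, by simp only [Category.comp_id]⟩)
    (fun T g n => ⟨g * n * g⁻¹, by simp only [Category.comp_id]⟩) m f'
    (by rw [← cancel_mono l.i, Category.assoc, hm, hf', comm_comp, Category.assoc, Category.assoc,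
      Category.id_comp]) hd'
  obtain ⟨M, hM⟩ := l.bound
  have hser : ser true (ptL k Ω ⟶ G) (p + 1) = ⁅ser true (ptL k Ω ⟶ G) p, ser true (ptL k Ω ⟶ G) p⁆ := rfl
  let CS : Set (ptL k Ω ⟶ G) :=
    {g | ∃ x ∈ ser true (ptL k Ω ⟶ G) p, ∃ y ∈ ser true (ptL k Ω ⟶ G) p, ⁅x, y⁆ = g}
  have hle : val i' (ptL k Ω) ⊆ bset CS N := by
    rintro _ ⟨y, rfl⟩
    show y ≫ i' ∈ _
    rw [← hm, ← Category.assoc, ← push_apply]
    refine bset_bind (T := CS) (M := 1) ?_ N |>.trans (by rw [Nat.mul_one]) (hom_bset (push l.i _) _ N (hN y))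
    rintro _ ⟨_, ⟨x, y, rfl⟩, rfl⟩
    refine mem_bset_one ⟨x ≫ l.i, l.pts.le ⟨x, rfl⟩, y ≫ l.i, l.pts.le ⟨y, rfl⟩, ?_⟩
    rw [Category.comp_id, Category.comp_id, map_commutatorElement]
    rfl
  have hge : (ser true (ptL k Ω ⟶ G) (p + 1) : Set (ptL k Ω ⟶ G)) ⊆ val i' (ptL k Ω) := by
    have h1 : ser true (ptL k Ω ⟶ G) (p + 1) ≤ (push i' (ptL k Ω)).range := by
      rw [hser, Subgroup.commutator_le]
      intro x hx y hy
      obtain ⟨x, rfl⟩ := l.pts.ge hx
      obtain ⟨y, rfl⟩ := l.pts.ge hy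
      refine ⟨lift x y ≫ f', ?_⟩
      rw [push_apply, Category.assoc, hf', Locus.comp_comm, lift_fst_assoc, lift_snd_assoc]
    exact fun z hz => h1 hz
  refine ⟨{ K := K', i := i', hom := him, closed := hici, gr := geometricallyReduced_of_dense hd, pts := ?_, bound := ?_ },
    ⟨f', hf'⟩, fun Γ' hΓ i'' h1 h2 h3 => hmin Γ' hΓ i'' h1 h2 h3⟩
  · refine Set.Subset.antisymm (hle.trans fun z hz => ?_) hge
    refine (Subgroup.closure_le _).2 ?_ (bset_subset_closure _ _ hz)
    rintro _ ⟨x, hx, y, hy, rfl⟩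
    exact hser ▸ Subgroup.commutator_mem_commutator hx hy
  · refine ⟨N * (M * M), (hge.trans hle).trans (bset_bind ?_ N)⟩
    rintro _ ⟨x, hx, y, hy, rfl⟩
    exact commutator_mem_bset (conjInv_tree true (p + 1))
      (fun x hx y hy => ⟨x, hx, y, fun _ => hy, rfl⟩) (hM hx) (hM hy)

variable (Ω G) in
theorem exists_zero : ∃ l : Lvl Ω G 0, IsIso l.i := by
  have hc : IsClosedImmersion (𝟙 G : G ⟶ G).left := inferInstanceAs (IsClosedImmersion (𝟙 G.left))
  refine ⟨{ K := G, i := 𝟙 G, hom := inferInstance, closed := hc, gr := inferInstance, pts := ?_,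
            bound := ⟨1, fun x _ => mem_bset_one trivial⟩ }, (inferInstance : IsIso (𝟙 G))⟩
  ext z
  exact ⟨fun _ => trivial, fun _ => ⟨z, Category.comp_id z⟩⟩

variable (Ω G) in
noncomputable def chain : ∀ p : ℕ, Lvl Ω G p
  | 0 => (exists_zero Ω G).choose
  | p + 1 => (exists_next (chain p)).choose

end chain


/-- Let S be an integral scheme, G an S-group scheme of finite presentation over S all of whose fibres
are smooth, and n ≥ 1 an integer. Then there are a nonempty open subset U of S and a normal closed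
subgroup scheme d : D → G|_U, of finite presentation over U with smooth fibres, such that for every
s ∈ U the fibre D_s → G_s is the n-th derived subgroup scheme of G_s: there are closed subgroup
schemes K⁰, …, Kⁿ of G_s with K⁰ = G_s, each K^p (p ≥ 1) the smallest closed subgroup scheme of G_s
through which K^{p-1} ×_{κ(s)} K^{p-1} → G_s, (x, y) ↦ x y x⁻¹ y⁻¹, factors, and D_s = Kⁿ as
subgroup schemes of G_s. (The published statement also treats the lower central series (G, K^{p-1});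
that variant is not stated here.) -/
theorem result (S : Scheme.{u}) [IsIntegral S] (G : Over S) [GrpObj G]
    [LocallyOfFinitePresentation G.hom] [QuasiCompact G.hom] [QuasiSeparated G.hom]
    (hsm : ∀ s : S, Smooth (G.hom.fiberToSpecResidueField s)) (n : ℕ) (hn : 1 ≤ n) :
    ∃ U : S.Opens, (U : Set S).Nonempty ∧
      ∃ (D : Over (U : Scheme.{u})) (_ : GrpObj D) (d : D ⟶ Red.bc U.ι G), IsMonHom d ∧ IsClosedImmersion d.left ∧
        AlgGrp.IsNormalHom d ∧ LocallyOfFinitePresentation D.hom ∧ QuasiCompact D.hom ∧ QuasiSeparated D.hom ∧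
        (∀ s : (U : Scheme.{u}), Smooth (D.hom.fiberToSpecResidueField s)) ∧
        ∀ s : (U : Scheme.{u}),
          ∃ (K : Fin (n + 1) → Over (Spec ((U : Scheme.{u}).residueField s))) (_ : ∀ p, GrpObj (K p)) (emb : ∀ p, K p ⟶ (Red.bc ((U : Scheme.{u}).fromSpecResidueField s) (Red.bc U.ι G))),
            (∀ p, IsMonHom (emb p) ∧ IsClosedImmersion (emb p).left) ∧ IsIso (emb 0) ∧
            (∀ p : Fin n,
              (∃ c : (K p.castSucc) ⊗ (K p.castSucc) ⟶ (K p.succ), c ≫ emb p.succ = (((fst (K p.castSucc) (K p.castSucc)) ≫ emb p.castSucc) * ((snd (K p.castSucc) (K p.castSucc)) ≫ emb p.castSucc) * ((fst (K p.castSucc) (K p.castSucc)) ≫ emb p.castSucc)⁻¹ * ((snd (K p.castSucc) (K p.castSucc)) ≫ emb p.castSucc)⁻¹)) ∧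
              ∀ (Γ' : Over (Spec ((U : Scheme.{u}).residueField s))) (_ : GrpObj Γ') (i' : Γ' ⟶ (Red.bc ((U : Scheme.{u}).fromSpecResidueField s) (Red.bc U.ι G))), IsMonHom i' → IsClosedImmersion i'.left →
                (∃ c' : (K p.castSucc) ⊗ (K p.castSucc) ⟶ Γ', c' ≫ i' = (((fst (K p.castSucc) (K p.castSucc)) ≫ emb p.castSucc) * ((snd (K p.castSucc) (K p.castSucc)) ≫ emb p.castSucc) * ((fst (K p.castSucc) (K p.castSucc)) ≫ emb p.castSucc)⁻¹ * ((snd (K p.castSucc) (K p.castSucc)) ≫ emb p.castSucc)⁻¹)) → ∃ j : (K p.succ) ⟶ Γ', j ≫ i' = emb p.succ) ∧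
            ∃ e : (Red.bc ((U : Scheme.{u}).fromSpecResidueField s) D) ≅ K (Fin.last n), e.hom ≫ emb (Fin.last n) = ((Over.pullback ((U : Scheme.{u}).fromSpecResidueField s)).map d) := by
  classical
  let η₀ := genericPoint S
  let φ := S.fromSpecResidueField η₀
  let Ω := AlgebraicClosure (S.residueField η₀)
  let ψ : Spec (CommRingCat.of Ω) ⟶ Spec (S.residueField η₀) :=
    Spec.map (CommRingCat.ofHom (algebraMap (S.residueField η₀) Ω))
  haveI : LocallyOfFiniteType (Red.bc φ G).hom := MorphismProperty.pullback_snd _ _ (inferInstance : LocallyOfFiniteType G.hom)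
  haveI : QuasiCompact (Red.bc φ G).hom := MorphismProperty.pullback_snd _ _ ‹QuasiCompact G.hom›
  haveI : Smooth (Red.bc φ G).hom := hsm η₀
  haveI : GeometricallyReduced (Red.bc φ G).hom := Rigid.geometricallyReduced_of_smooth _
  let U' := (Locus.treeMor G true n).1
  let F : U' ⟶ G := (Locus.treeMor G true n).2
  haveI := Locus.lfp_tree G true n
  haveI := Locus.qc_tree G true n
  let L₀ := chain (k := (S.residueField η₀ : Type u)) Ω (Red.bc φ G) n
  obtain ⟨N, hN⟩ := L₀.bound
  obtain ⟨x₀, hx₀⟩ : ∃ x₀ : 𝟙_ (Over S) ⟶ U', x₀ ≫ F = 1 := by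
    have h := one_mem_tree (H := 𝟙_ (Over S) ⟶ G) n
    rw [Locus.tree_eq] at h
    exact h
  have htree : pe φ ψ G '' val F (Locus.gpt η₀) = tree true (ptL (S.residueField η₀ : Type u) Ω ⟶ Red.bc φ G) n := by
    rw [← val_treeMor φ G n]
    exact range_map_values φ G (Over.mk ψ) F
  obtain ⟨U, hU, D, hD, d, hdm, hdc, hfp, hqc, hqs, hfl, hgr, hred, ⟨f', hf'⟩, ⟨M, hM⟩, -, hnorm⟩ :=
    exists_spread F x₀ hx₀ (geomRed_treeMor (k := (S.residueField η₀ : Type u)) φ G rfl n).1 L₀.i N
      (fun t => L₀.pts.ge (tree_subset_ser true n (htree.le ⟨_, ⟨t, rfl⟩, rfl⟩)))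
      (fun y => by
        have h1 := hN (L₀.pts.le ⟨y, rfl⟩)
        rw [← htree, ← map_bset] at h1
        obtain ⟨g, hg, hge⟩ := h1
        exact ⟨g, hg, hge⟩)
  haveI := hdm
  haveI := hdc
  have hDsm : ∀ s : (U : Scheme.{u}), Smooth (D.hom.fiberToSpecResidueField s) := fun s => by
    haveI : GeometricallyReduced (Red.bc ((U : Scheme.{u}).fromSpecResidueField s) D).hom :=
      MorphismProperty.pullback_snd _ _ hgr
    haveI : LocallyOfFiniteType (Red.bc ((U : Scheme.{u}).fromSpecResidueField s) D).hom :=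
      MorphismProperty.pullback_snd _ _ (inferInstance : LocallyOfFiniteType D.hom)
    exact AVEuler.smooth_of_geometricallyReduced (K := ((U : Scheme.{u}).residueField s : Type u))
      (Red.bc ((U : Scheme.{u}).fromSpecResidueField s) D)
  refine ⟨U, ⟨η₀, hU⟩, D, hD, d, hdm, hdc, ?_, hfp, hqc, hqs, hDsm, fun s => ?_⟩
  · refine hnorm fun T g x => ?_
    show g * (x ≫ F) * g⁻¹ ∈ val F T
    rw [show val F T = tree true (T ⟶ G) n from (Locus.tree_eq G true T n).symm]
    exact conjInv_tree true n g _ (by rw [Locus.tree_eq]; exact ⟨x, rfl⟩)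
  let χ := (U : Scheme.{u}).fromSpecResidueField s
  let Ωs := AlgebraicClosure ((U : Scheme.{u}).residueField s)
  let ψs : Spec (CommRingCat.of Ωs) ⟶ Spec ((U : Scheme.{u}).residueField s) :=
    Spec.map (CommRingCat.ofHom (algebraMap ((U : Scheme.{u}).residueField s) Ωs))
  let GU := Red.bc U.ι G
  let Gs := Red.bc χ GU
  haveI : LocallyOfFiniteType GU.hom := MorphismProperty.pullback_snd _ _ (inferInstance : LocallyOfFiniteType G.hom)
  haveI : LocallyOfFiniteType Gs.hom := MorphismProperty.pullback_snd _ _ ‹LocallyOfFiniteType GU.hom›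
  haveI : QuasiCompact Gs.hom := MorphismProperty.pullback_snd _ _ (MorphismProperty.pullback_snd _ _ ‹QuasiCompact G.hom›)
  haveI : GeometricallyReduced Gs.hom := by
    haveI := hsm (U.ι s)
    haveI : GeometricallyReduced (G.hom.fiberToSpecResidueField (U.ι s)) := Rigid.geometricallyReduced_of_smooth _
    exact (GeomRedSpread.fiber_baseChange_iff (IsPullback.of_hasPullback G.hom U.ι) s).2 ‹_›
  let L := chain (k := ((U : Scheme.{u}).residueField s : Type u)) Ωs Gs
  refine ⟨fun p => (L p).K, fun p => (L p).grp, fun p => (L p).i, fun p => ⟨(L p).hom, (L p).closed⟩,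
    (exists_zero (k := ((U : Scheme.{u}).residueField s : Type u)) Ωs Gs).choose_spec, fun p => ?_, ?_⟩
  · simp only [← commutatorElement_def]
    exact (exists_next (L p)).choose_spec
  let ds := (Over.pullback χ).map d
  haveI : IsClosedImmersion ds.left := isClosedImmersion_map χ d
  haveI : LocallyOfFiniteType (Red.bc χ D).hom := by rw [← Over.w ds]; infer_instance
  haveI : GeometricallyReduced (Red.bc χ D).hom := MorphismProperty.pullback_snd _ _ hgr
  let Ln := L n
  haveI : LocallyOfFiniteType Ln.K.hom := by rw [← Over.w Ln.i]; infer_instance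
  have hred' : ∀ Y : Over (Spec ((U : Scheme.{u}).residueField s)), GeometricallyReduced Y.hom → IsReduced Y.left :=
    fun Y _ => GeometricallyReduced.geometrically_isReduced (f := Y.hom) (K := ((U : Scheme.{u}).residueField s : Type u))
      (𝟙 _) (𝟙 _) Y.hom (IsPullback.of_horiz_isIso ⟨by rw [Category.id_comp, Category.comp_id]⟩)
  haveI := hred' _ Ln.gr
  haveI := hred' (Red.bc χ D) inferInstance
  have hvals : pe χ ψs GU '' val ((Over.pullback U.ι).map F) (Over.mk (Red.geomPt s)) =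
      tree true (ptL ((U : Scheme.{u}).residueField s : Type u) Ωs ⟶ Gs) n := by
    rw [val_treeMor U.ι G n]
    exact map_tree true (pe χ ψs GU) n
  obtain ⟨N', hN'⟩ := Ln.bound
  obtain ⟨j, hj⟩ := exists_lift_reduced ds Ln.i
    (range_subset_of_points (k := ((U : Scheme.{u}).residueField s : Type u)) Ωs ds Ln.i (by
      rintro _ ⟨z', rfl⟩
      obtain ⟨z, rfl⟩ := ((Over.mapPullbackAdj χ).homEquiv (Over.mk ψs) D).surjective z'
      have h1 : pe χ ψs GU (z ≫ d) ∈ bset (tree true (ptL ((U : Scheme.{u}).residueField s : Type u) Ωs ⟶ Gs) n) M := by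
        rw [← hvals, ← map_bset]
        exact ⟨_, hM _ _ z, rfl⟩
      obtain ⟨y, hy⟩ := Ln.pts.ge ((Subgroup.closure_le _).2 (tree_subset_ser true n) (bset_subset_closure _ _ h1))
      exact ⟨y, hy.trans ((Over.mapPullbackAdj χ).homEquiv_naturality_right (X := Over.mk ψs) z d)⟩))
  obtain ⟨j', hj'⟩ := exists_lift_reduced Ln.i ds
    (range_subset_of_points (k := ((U : Scheme.{u}).residueField s : Type u)) Ωs Ln.i ds (by
      rintro _ ⟨y, rfl⟩
      refine bset_subset_hom ds ?_ N' (hN' (Ln.pts.le ⟨y, rfl⟩))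
      rw [← hvals]
      rintro _ ⟨_, ⟨t, rfl⟩, rfl⟩
      refine ⟨(Over.mapPullbackAdj χ).homEquiv (Over.mk ψs) D (t ≫ f'), ?_⟩
      refine ((Over.mapPullbackAdj χ).homEquiv_naturality_right (X := Over.mk ψs) (t ≫ f') d).symm.trans ?_
      rw [Category.assoc, hf']
      rfl))
  haveI : Mono ds := GrpField.SchImg.mono_of_isClosedImmersion ds
  haveI : Mono Ln.i := GrpField.SchImg.mono_of_isClosedImmersion Ln.i
  exact ⟨⟨j, j', by rw [← cancel_mono ds, Category.assoc, hj', hj, Category.id_comp],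
    by rw [← cancel_mono Ln.i, Category.assoc, hj, hj', Category.id_comp]⟩, hj⟩

end Groth.Agent.S6090
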