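import Groth.Statements.S6095
import Groth.Agent.Corad.Prod
-- import your own Groth.Agent.* helpers here

set_option backward.isDefEq.respectTransparency false
set_option linter.style.haveILetI false
set_option synthInstance.maxHeartbeats 400000
set_option maxHeartbeats 1000000

set_option autoImplicit false
open CategoryTheory MonoidalCategory CartesianMonoidalCategory MonObj GrpObj AlgebraicGeometry
universe u
open RedSub

namespace Groth.Agent.S6095

/-- Let G be a reductive S-group, d : D ⟶ G its derived group and f₀ : G ⟶ C its coradical, pinned as: C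
is a commutative S-group scheme, D is the kernel of f₀, f₀ exhibits C as the fppf quotient G/D, and
D is killed by every homomorphism from G to a commutative S-group scheme. Let Z be the centre of G,
R = rad(G) a maximal torus of Z, and q : G ⟶ SS the fppf quotient of G by R (the semisimple quotient
ss(G)). Then the morphism G ⟶ C x_S SS with components f₀ and q is a central isogeny: it is
surjective, flat and finite, and every point of G in its kernel is central. -/
theorem result {S : Scheme.{u}} {G D C Z R SS : Over S} [GrpObj G]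
    [GrpObj D] [GrpObj C] [GrpObj Z] [GrpObj R] [GrpObj SS] (hG : Red.IsReductive G) (d : D ⟶ G) [IsMonHom d]
    (f₀ : G ⟶ C) [IsMonHom f₀] (hC : ∀ (X : Over S) (a b : X ⟶ C), a * b = b * a) (hker : AlgGrp.IsKernel d f₀)
    (hquot : RedSub.IsQuotient d f₀) (hkill : RedSub.KilledByCommutative d)
    (j : Z ⟶ G) (hZ : Red.IsCentre j) (r : R ⟶ Z) (hR : Red.IsMaximalTorus r)
    (q : G ⟶ SS) [IsMonHom q] (hq : RedSub.IsQuotient (r ≫ j) q) :
    Surjective (lift f₀ q).left ∧ Flat (lift f₀ q).left ∧ IsFinite (lift f₀ q).left ∧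
      ∀ (X : Over S) (g : X ⟶ G), g ≫ f₀ = 1 → g ≫ q = 1 →
        ∀ (X' : Over S) (x : X' ⟶ X) (g' : X' ⟶ G), (x ≫ g) * g' = g' * (x ≫ g) := by
  have h := Groth.Agent.Corad.isCorad_of_pinned hG d f₀ hC hker hquot hkill
  haveI := hZ.1
  haveI := hR.1
  haveI := Groth.Agent.Corad.mono_radical hG h j hZ r hR
  obtain ⟨h1, h2, h3⟩ := Groth.Agent.Corad.isogeny_radical hG h j hZ r hR
  rw [← Category.assoc] at h1 h2 h3
  obtain ⟨g1, g2, g3⟩ := Groth.Agent.Corad.isogeny_prod f₀ (r ≫ j) q hq h1 h2 h3
  refine ⟨g1, g2, g3, fun X g _ hg X' x g' => ?_⟩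
  obtain ⟨y, hy⟩ := Groth.Agent.Corad.exists_of_quotient_one (r ≫ j) q hq g hg
  have h4 := (hZ.2.2 X (y ≫ r ≫ j)).1 ⟨y ≫ r, Category.assoc _ _ _⟩ X' x g'
  rw [Category.comp_id] at h4
  rw [← hy]
  exact h4

end Groth.Agent.S6095
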