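import Groth.Statements.S6096
import Groth.Agent.Corad.Isogeny
-- import your own Groth.Agent.* helpers here

set_option backward.isDefEq.respectTransparency false
set_option linter.style.haveILetI false
set_option synthInstance.maxHeartbeats 400000
set_option maxHeartbeats 1000000

set_option autoImplicit false
open CategoryTheory MonoidalCategory CartesianMonoidalCategory MonObj GrpObj AlgebraicGeometry
universe u
open RedSub

namespace Groth.Agent.S6096

/-- Let G be a reductive S-group, d : D ⟶ G its derived group and f₀ : G ⟶ C its coradical, pinned as: C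
is a commutative S-group scheme, D is the kernel of f₀, f₀ exhibits C as the fppf quotient G/D, and
D is killed by every homomorphism from G to a commutative S-group scheme. Let Z be the centre of G
and R = rad(G) a maximal torus of Z. Then the composite rad(G) ⟶ G ⟶ corad(G) is an isogeny:
surjective, flat and finite (its kernel is central since R is commutative). -/
theorem result {S : Scheme.{u}} {G D C Z R : Over S} [GrpObj G] [GrpObj D] [GrpObj C]
    [GrpObj Z] [GrpObj R] (hG : Red.IsReductive G) (d : D ⟶ G) [IsMonHom d] (f₀ : G ⟶ C) [IsMonHom f₀]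
    (hC : ∀ (X : Over S) (a b : X ⟶ C), a * b = b * a) (hker : AlgGrp.IsKernel d f₀) (hquot : RedSub.IsQuotient d f₀)
    (hkill : RedSub.KilledByCommutative d) (j : Z ⟶ G) (hZ : Red.IsCentre j) (r : R ⟶ Z) (hR : Red.IsMaximalTorus r) :
    Surjective (r ≫ j ≫ f₀).left ∧ Flat (r ≫ j ≫ f₀).left ∧ IsFinite (r ≫ j ≫ f₀).left := by
  exact Groth.Agent.Corad.isogeny_radical hG (Groth.Agent.Corad.isCorad_of_pinned hG d f₀ hC hker hquot hkill) j hZ r hR

end Groth.Agent.S6096
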