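import Groth.Statements.S6100
import Groth.Agent.TypeRRad.Basic

set_option linter.style.haveILetI false
set_option backward.isDefEq.respectTransparency false
set_option synthInstance.maxHeartbeats 400000

set_option autoImplicit false
open CategoryTheory MonoidalCategory CartesianMonoidalCategory MonObj GrpObj AlgebraicGeometry
universe u
open RedSub

namespace Groth.Agent.S6100

/-- Let G be a reductive S-group, H ⟶ G a subgroup of type (R) which is a reductive S-group, rad(H) ⟶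
Z(H) ⟶ H its radical, z : Z ⟶ G the centraliser of rad(H) in G, Z(Z) ⟶ Z the centre of Z and rad(Z)
⟶ Z(Z) a maximal torus. Then H ⊆ Centr_G(rad H), and rad(Centr_G(rad H)) = rad(H) as subgroups of G,
so that rad(H) is a C-critical torus (the radical of its own centraliser). -/
theorem result {S : Scheme.{u}} {G H ZH R Z ZZ RZ : Over S} [GrpObj G] [GrpObj H]
    [GrpObj ZH] [GrpObj R] [GrpObj Z] [GrpObj ZZ] [GrpObj RZ] (hG : Red.IsReductive G)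
    (i : H ⟶ G) (hi : RedSub.IsTypeR i) (hH : Red.IsReductive H)
    (jz : ZH ⟶ H) (hZH : Red.IsCentre jz) (r : R ⟶ ZH) (hR : Red.IsMaximalTorus r)
    (z : Z ⟶ G) (hZ : Red.IsCentralizerOf (r ≫ jz ≫ i) z)
    (jzz : ZZ ⟶ Z) (hZZ : Red.IsCentre jzz) (rz : RZ ⟶ ZZ) (hRZ : Red.IsMaximalTorus rz) :
    (∃ k : H ⟶ Z, k ≫ z = i) ∧ ∃ e : R ≅ RZ, e.hom ≫ rz ≫ jzz ≫ z = r ≫ jz ≫ i := by
  haveI := hi.1.1; haveI := hi.1.2; haveI := hH.1; haveI := hH.2.1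
  haveI := hZH.1; haveI := hZH.2.1; haveI := hR.1; haveI := hR.2.1; haveI := hZ.1; haveI := hZ.2.1
  haveI := hZZ.1; haveI := hZZ.2.1; haveI := hRZ.1; haveI := hRZ.2.1
  haveI : Mono i := Over.mono_of_mono_left i
  obtain ⟨c, hcd⟩ : ∃ c : R ⟶ H, c = r ≫ jz := ⟨_, rfl⟩
  have hc : ∀ (X : Over S) (a : X ⟶ R) (x : X ⟶ H), (a ≫ c) * x = x * (a ≫ c) := fun X a x => by
    rw [hcd, ← Category.assoc]
    simpa only [Category.id_comp, Category.comp_id] using (hZH.2.2 X ((a ≫ r) ≫ jz)).1 ⟨_, rfl⟩ X (𝟙 X) x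
  obtain ⟨k, hk⟩ := (hZ.2.2 H i).2 fun X x h => by
    rw [← Category.assoc r, ← hcd, ← Category.assoc h, ← MonObj.mul_comp, ← MonObj.mul_comp, hc]
  obtain ⟨hzR, hzred⟩ := TypeRRad.centralizer_facts hG (r ≫ jz ≫ i) hR.2.2.1 z hZ
  haveI := hzR.1.2
  obtain ⟨m₁, hm₁⟩ := TypeRRad.exists_radical_le hG i hi hH z hzR hzred k hk jz hZH r hR jzz hZZ rz hRZ
  obtain ⟨rz₀, hrz₀⟩ : ∃ b : R ⟶ Z, b ≫ z = r ≫ jz ≫ i :=
    ⟨(r ≫ jz) ≫ k, by rw [Category.assoc, hk, Category.assoc]⟩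
  haveI : IsMonHom rz₀ := MTSplit.isMonHom_of_comp_mono rz₀ z (r ≫ jz ≫ i) hrz₀
  obtain ⟨m₂, hm₂⟩ := TypeRRad.exists_fac_radical hzred jzz hZZ rz hRZ hR.2.2.1 rz₀ fun X x h => by
    rw [← cancel_mono z, MonObj.mul_comp, MonObj.mul_comp, Category.assoc, hrz₀]
    simpa only [Category.id_comp] using ((hZ.2.2 X (h ≫ z)).1 ⟨h, rfl⟩ X (𝟙 X) x).symm
  have h₂ : m₂ ≫ rz ≫ jzz ≫ z = r ≫ jz ≫ i := by rw [reassoc_of% hm₂, hrz₀]
  refine ⟨⟨k, hk⟩, ⟨m₂, m₁, ?_, ?_⟩, h₂⟩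
  · rw [← cancel_mono (r ≫ jz ≫ i), Category.assoc, hm₁, h₂, Category.id_comp]
  · rw [← cancel_mono (rz ≫ jzz ≫ z), Category.assoc, h₂, hm₁, Category.id_comp]

end Groth.Agent.S6100
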