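import Groth.Statements.S6101
import Groth.Agent.RootBase.UPsiEmpty
import Groth.Agent.RootBase.Ideal
-- import your own Groth.Agent.* helpers here

set_option autoImplicit false
open CategoryTheory MonoidalCategory CartesianMonoidalCategory MonObj GrpObj AlgebraicGeometry
universe u
open RedSub

set_option backward.isDefEq.respectTransparency false

namespace Groth.Agent.S6101

/-- On points: let G be a split reductive S-group (splitting D with torus T, lattice M and root
homomorphisms u_a), fix a total order on M compatible with addition, and let a_1 < ⋯ < a_N be the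
roots which are positive for it, enumerated increasingly by e. For i + m = N write U_{>i} for the
products u_{a_{i+1}}(y_1) ⋯ u_{a_N}(y_m) of points of G_a, taken in increasing order. Then: U_{>i}
is closed under products and inverses; it is normalised by the points of T and by the points of
U_{>0}; and conjugating a point of U_{>i} by a point of U_{>0} does not change its first factor y_1
(inner automorphisms of U_{>0} act trivially on U_{>i}/U_{>i+1} = U_{a_{i+1}}). -/
theorem result {S : Scheme.{u}} {G : Over S} [GrpObj G] (D : Red.SplitRed G)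
    [LinearOrder D.M] [IsOrderedAddMonoid D.M] {N : ℕ} (e : Fin N → D.idx) (he : Function.Injective e)
    (hrange : ∀ a : D.idx, a ∈ Set.range e ↔ 0 < D.P.root a) (hmono : StrictMono (fun k => D.P.root (e k)))
    (i m : ℕ) (h : i + m = N) :
    (∀ (X : Over S) (y y' : Fin m → (X ⟶ Red.Ga S)), ∃ z : Fin m → (X ⟶ Red.Ga S),
      (List.ofFn (fun k => z k ≫ D.u (e (Fin.cast h (Fin.natAdd i k))))).prod =
        (List.ofFn (fun k => y k ≫ D.u (e (Fin.cast h (Fin.natAdd i k))))).prod *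
          (List.ofFn (fun k => y' k ≫ D.u (e (Fin.cast h (Fin.natAdd i k))))).prod) ∧
    (∀ (X : Over S) (y : Fin m → (X ⟶ Red.Ga S)), ∃ z : Fin m → (X ⟶ Red.Ga S),
      (List.ofFn (fun k => z k ≫ D.u (e (Fin.cast h (Fin.natAdd i k))))).prod =
        ((List.ofFn (fun k => y k ≫ D.u (e (Fin.cast h (Fin.natAdd i k))))).prod)⁻¹) ∧
    (∀ (X : Over S) (t : X ⟶ D.T) (y : Fin m → (X ⟶ Red.Ga S)), ∃ z : Fin m → (X ⟶ Red.Ga S),
      (List.ofFn (fun k => z k ≫ D.u (e (Fin.cast h (Fin.natAdd i k))))).prod =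
        (t ≫ D.i) * (List.ofFn (fun k => y k ≫ D.u (e (Fin.cast h (Fin.natAdd i k))))).prod * (t ≫ D.i)⁻¹) ∧
    (∀ (X : Over S) (x : Fin N → (X ⟶ Red.Ga S)) (y : Fin m → (X ⟶ Red.Ga S)), ∃ z : Fin m → (X ⟶ Red.Ga S),
      (List.ofFn (fun k => z k ≫ D.u (e (Fin.cast h (Fin.natAdd i k))))).prod =
        (List.ofFn (fun k => x k ≫ D.u (e k))).prod *
          (List.ofFn (fun k => y k ≫ D.u (e (Fin.cast h (Fin.natAdd i k))))).prod *
            ((List.ofFn (fun k => x k ≫ D.u (e k))).prod)⁻¹ ∧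
      ∀ k : Fin m, (k : ℕ) = 0 → z k = y k) := by
  letI := D.grpT
  letI := D.acgM
  letI := D.fintypeIdx
  letI := D.finiteM
  letI := D.freeM
  rcases isEmpty_or_nonempty S with hS | hS
  · exact ⟨fun X y y' => ⟨y, RootBase.hom_eq_of_isEmpty _ _⟩, fun X y => ⟨y, RootBase.hom_eq_of_isEmpty _ _⟩,
      fun X t y => ⟨y, RootBase.hom_eq_of_isEmpty _ _⟩,
      fun X x y => ⟨y, RootBase.hom_eq_of_isEmpty _ _, fun k _ => rfl⟩⟩
  classical
  haveI := RootBase.isReduced_of_splitRed D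
  have F := RootBase.frame_of_splitRed D
  haveI := F.hc.1
  -- the positive roots
  let Ψ : Set D.idx := {a | 0 < D.P.root a}
  have hcΨ : RootD.IsClosedSub D.P Ψ := fun a b k ha hb hk => by
    show 0 < D.P.root k
    rw [hk]; exact add_pos ha hb
  have hd : ∀ a ∈ Ψ, RootSys.opp D.P a ∉ Ψ := fun a ha h => by
    have h1 : 0 < D.P.root (RootSys.opp D.P a) := h
    rw [RootSys.root_opp] at h1
    exact lt_asymm h1 (Left.neg_neg_iff.2 ha)
  obtain ⟨mu, hmu⟩ := RootBase.exists_pos_closed hcΨ hd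
  let e' : Fin m → D.idx := fun k => e (Fin.cast h (Fin.natAdd i k))
  have he' : ∀ k, e' k ∈ Ψ := fun k => (hrange _).1 ⟨_, rfl⟩
  have hinj : Function.Injective e' := fun a b hab => Fin.natAdd_injective _ _ (Fin.cast_injective h (he hab))
  have hlt : ∀ {k : Fin m} {d : D.idx}, 0 < D.P.root d → D.P.root (e' k) < D.P.root d →
      ∃ k' : Fin m, k < k' ∧ e' k' = d := by
    intro k d hpos hkd
    obtain ⟨j, rfl⟩ := (hrange d).2 hpos
    have hj : Fin.cast h (Fin.natAdd i k) < j := hmono.lt_iff_lt.1 hkd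
    have hval : i + (k : ℕ) < (j : ℕ) := hj
    refine ⟨⟨(j : ℕ) - i, by omega⟩, show (k : ℕ) < (j : ℕ) - i by omega, ?_⟩
    show e _ = e j
    congr 1
    refine Fin.ext ?_
    show i + ((j : ℕ) - i) = j
    omega
  have hgt : ∀ {a b d : D.idx} (p q : ℕ), 1 ≤ p → 1 ≤ q → a ∈ Ψ → b ∈ Ψ →
      D.P.root d = (p : ℤ) • D.P.root a + (q : ℤ) • D.P.root b → D.P.root b < D.P.root d := by
    intro a b d p q hp hq ha hb hd'
    obtain ⟨p, rfl⟩ := Nat.exists_eq_add_of_le hp
    obtain ⟨q, rfl⟩ := Nat.exists_eq_add_of_le hq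
    rw [hd', natCast_zsmul, natCast_zsmul, add_nsmul, one_nsmul, add_nsmul, one_nsmul]
    exact lt_add_of_pos_of_le (add_pos_of_pos_of_nonneg ha (nsmul_nonneg (le_of_lt ha) p))
      (le_add_of_nonneg_right (nsmul_nonneg (le_of_lt hb) q))
  let J : Set D.idx := Set.range e'
  have hJ : J ⊆ Ψ := by rintro _ ⟨k, rfl⟩; exact he' k
  have hcJ : RootD.IsClosedSub D.P J := by
    rintro _ b d ⟨k, rfl⟩ hb hd'
    have hb' : 0 < D.P.root b := hJ hb
    have h1 : D.P.root (e' k) < D.P.root d := by rw [hd']; exact lt_add_of_pos_right _ hb'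
    obtain ⟨k', -, hk'⟩ := hlt (lt_trans (he' k) h1) h1
    exact ⟨k', hk'⟩
  have hI : RootBase.IsIdealIn D.P Ψ J J := by
    rintro a ha _ ⟨k, rfl⟩ d p q hp hq hd'
    have h1 := hgt p q hp hq ha (he' k) hd'
    obtain ⟨k', -, hk'⟩ := hlt (lt_trans (he' k) h1) h1
    exact ⟨k', hk'⟩
  have hmuJ : ∀ a ∈ J, 0 < mu (D.P.root a) := fun a ha => hmu a (hJ ha)
  have heJ : RedSub.Enumerates J e' := ⟨hinj, rfl⟩
  have hm : ∀ {X : Over S} (y : Fin m → (X ⟶ Red.Ga S)),
      (List.ofFn fun k => y k ≫ D.u (e' k)).prod ∈ RootBase.Gam D.u J X :=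
    fun y => RootBase.prod_mem_Gam (Ψ := J) (fun k => Set.mem_range_self k) y
  refine ⟨fun X y y' => F.exists_coord hcJ mu hmuJ e' heJ (mul_mem (hm y) (hm y')),
    fun X y => F.exists_coord hcJ mu hmuJ e' heJ (inv_mem (hm y)),
    fun X t y => F.exists_coord hcJ mu hmuJ e' heJ ?_, fun X x y => ?_⟩
  · rw [RootBase.conj_ofFn_prod]
    have hinv : D.split.hom.hom.hom ≫ D.split.inv.hom.hom = 𝟙 _ := congrArg (fun z => z.hom.hom) D.split.hom_inv_id
    refine Subgroup.list_prod_mem _ fun g hg => ?_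
    obtain ⟨k, rfl⟩ := List.mem_ofFn.1 hg
    obtain ⟨z, hz, -⟩ := (F.hu (e' k)).2.2 X (t ≫ D.split.hom.hom.hom) (y k)
    rw [Category.assoc, reassoc_of% hinv] at hz
    beta_reduce
    rw [← hz]
    exact RootBase.mem_Gam (Ψ := J) (Set.mem_range_self k) z
  have hx : (List.ofFn fun k => x k ≫ D.u (e k)).prod ∈ RootBase.Gam D.u Ψ X :=
    RootBase.prod_mem_Gam (Ψ := Ψ) (fun k => (hrange _).1 ⟨k, rfl⟩) x
  cases m with
  | zero =>
    refine ⟨y, ?_, fun k _ => rfl⟩
    simp
  | succ m =>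
    let J' : Set D.idx := Set.range fun k : Fin m => e' k.succ
    have hJ' : J' ⊆ Ψ := by rintro _ ⟨k, rfl⟩; exact he' _
    have hsucc : ∀ {k : Fin (m + 1)} {d : D.idx}, 0 < D.P.root d → D.P.root (e' k) < D.P.root d → d ∈ J' := by
      intro k d hd0 hd1
      obtain ⟨k', hk', rfl⟩ := hlt hd0 hd1
      refine ⟨k'.pred (fun h0 => ?_), ?_⟩
      · rw [h0] at hk'; exact absurd hk' (Fin.not_lt_zero k)
      · show e' (Fin.succ _) = _
        rw [Fin.succ_pred]
    have hcJ' : RootD.IsClosedSub D.P J' := by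
      rintro _ b d ⟨k, rfl⟩ hb hd'
      have hb' : 0 < D.P.root b := hJ' hb
      have h1 : D.P.root (e' k.succ) < D.P.root d := by rw [hd']; exact lt_add_of_pos_right _ hb'
      exact hsucc (lt_trans (he' _) h1) h1
    have hI1 : RootBase.IsIdealIn D.P Ψ J J' := by
      rintro a ha _ ⟨k, rfl⟩ d p q hp hq hd'
      have h1 := hgt p q hp hq ha (he' k) hd'
      exact hsucc (lt_trans (he' k) h1) h1
    have hI2 : RootBase.IsIdealIn D.P Ψ J' J' := fun a ha b hb => by
      obtain ⟨k, rfl⟩ := hb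
      exact hI1 a ha _ ⟨k.succ, rfl⟩
    have hk := F.comm_mem_ideal hd hJ hJ' hI1 hI2 hx (hm y)
    have hy' : (List.ofFn fun k : Fin m => y k.succ ≫ D.u (e' k.succ)).prod ∈ RootBase.Gam D.u J' X :=
      RootBase.prod_mem_Gam (Ψ := J') (fun k => Set.mem_range_self k) fun k => y k.succ
    obtain ⟨z', hz'⟩ := F.exists_coord hcJ' mu (fun a ha => hmu a (hJ' ha)) (fun k => e' k.succ)
      ⟨fun a b hab => Fin.succ_injective _ (hinj hab), rfl⟩ (mul_mem hy' hk)
    obtain ⟨zc, hzc⟩ : ∃ zc : Fin (m + 1) → (X ⟶ Red.Ga S), zc = Fin.cons (α := fun _ => X ⟶ Red.Ga S) (y 0) z' := ⟨_, rfl⟩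
    refine ⟨zc, ?_, fun k hk0 => ?_⟩
    · have hsp : ∀ z : Fin (m + 1) → (X ⟶ Red.Ga S), (List.ofFn fun k => z k ≫ D.u (e' k)).prod =
          (z 0 ≫ D.u (e' 0)) * (List.ofFn fun k : Fin m => z k.succ ≫ D.u (e' k.succ)).prod := fun z => by
        rw [List.ofFn_succ, List.prod_cons]
      refine (hsp zc).trans ?_
      simp only [hzc, Fin.cons_zero, Fin.cons_succ]
      rw [hz']
      show _ = _ * (List.ofFn fun k => y k ≫ D.u (e' k)).prod * _
      rw [hsp y]
      generalize (List.ofFn fun k => x k ≫ D.u (e k)).prod = g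
      generalize (List.ofFn fun k : Fin m => y k.succ ≫ D.u (e' k.succ)).prod = r
      generalize y 0 ≫ D.u (e' 0) = a
      simp only [_root_.mul_inv_rev, _root_.mul_assoc, mul_inv_cancel_left, inv_mul_cancel_left]
    · rw [hzc, show k = 0 from Fin.ext hk0, Fin.cons_zero]

end Groth.Agent.S6101
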