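import Groth.Statements.S6102
import Groth.Agent.RootBase.GroupLaw
import Groth.Agent.S5522
-- import your own Groth.Agent.* helpers here

set_option autoImplicit false
open CategoryTheory MonoidalCategory CartesianMonoidalCategory MonObj GrpObj AlgebraicGeometry
universe u
open RedSub

set_option backward.isDefEq.respectTransparency false

namespace Groth.Agent.S6102

/-- Existence, uniqueness and triangular form of the polynomial group law: let G be a split reductive
S-group (splitting D with root homomorphisms u_a and lattice M), fix a total order on M compatible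
with addition, and let a_1 < ⋯ < a_N be the positive roots, enumerated increasingly by e. Then there
is a unique family (Q_k) of polynomials in 2N variables over Γ(S, O_S) expressing the group law in
the coordinates x ↦ u_{a_1}(x_1) ⋯ u_{a_N}(x_N): for points x, y, z of G_a^N one has u(z) = u(x)
u(y) if and only if the coordinate of each z_k is Q_k(x, y); moreover Q_k = x_k + y_k + Q'_k with
Q'_k a polynomial in the x_j, y_j for j < k only. (The further assertion that the coefficients lie
in the subring generated by the structure constants of the commutator formulas is not stated.) -/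
theorem result {S : Scheme.{u}} {G : Over S} [GrpObj G] (D : Red.SplitRed G)
    [LinearOrder D.M] [IsOrderedAddMonoid D.M] {N : ℕ} (e : Fin N → D.idx) (he : Function.Injective e)
    (hrange : ∀ a : D.idx, a ∈ Set.range e ↔ 0 < D.P.root a) (hmono : StrictMono (fun k => D.P.root (e k))) :
    ∃! Q : Fin N → MvPolynomial (Fin N ⊕ Fin N) Γ(S, ⊤),
      (∀ (X : Over S) (x y z : Fin N → (X ⟶ Red.Ga S)),
        (List.ofFn (fun k => z k ≫ D.u (e k))).prod =
            (List.ofFn (fun k => x k ≫ D.u (e k))).prod * (List.ofFn (fun k => y k ≫ D.u (e k))).prod ↔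
          ∀ k, Red.gaFn (z k) = MvPolynomial.eval₂ X.hom.appTop.hom
            (Sum.elim (fun j => Red.gaFn (x j)) (fun j => Red.gaFn (y j))) (Q k)) ∧
      (∀ k : Fin N, ∀ v ∈ (Q k - MvPolynomial.X (Sum.inl k) - MvPolynomial.X (Sum.inr k)).vars,
        Sum.elim (fun j : Fin N => j < k) (fun j : Fin N => j < k) v) := by
  classical
  letI := D.grpT
  letI := D.acgM
  letI := D.fintypeIdx
  letI := D.finiteM
  letI := D.freeM
  have hv : ∀ (Q : Fin N → MvPolynomial (Fin N ⊕ Fin N) Γ(S, ⊤)) (k : Fin N),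
      Q k - MvPolynomial.X (Sum.inl k) - MvPolynomial.X (Sum.inr k) ∈ RootBase.lowAlg S k →
      ∀ v ∈ (Q k - MvPolynomial.X (Sum.inl k) - MvPolynomial.X (Sum.inr k)).vars,
        Sum.elim (fun j : Fin N => j < k) (fun j : Fin N => j < k) v :=
    fun Q k h v hv => MvPolynomial.mem_supported.1 h hv
  rcases isEmpty_or_nonempty S with hS | hS
  · haveI : Subsingleton Γ(S, ⊤) := by
      have : (⊤ : S.Opens) = ⊥ := by ext x; exact isEmptyElim x
      rw [this]; infer_instance
    refine ⟨fun k => MvPolynomial.X (Sum.inl k) + MvPolynomial.X (Sum.inr k), ⟨fun X x y z => ?_, fun k => ?_⟩,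
      fun Q' _ => funext fun k => Subsingleton.elim _ _⟩
    · haveI : IsEmpty X.left := Function.isEmpty X.hom
      exact iff_of_true (Over.OverMorphism.ext (Limits.IsInitial.hom_ext isInitialOfIsEmpty _ _))
        fun k => @Subsingleton.elim _ (RootBase.subsingleton_gamma X) _ _
    · refine hv (fun k => MvPolynomial.X (Sum.inl k) + MvPolynomial.X (Sum.inr k)) k ?_
      haveI : Subsingleton (MvPolynomial (Fin N ⊕ Fin N) Γ(S, ⊤)) := inferInstance
      convert zero_mem (RootBase.lowAlg S k) using 1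
  haveI := RootBase.isReduced_of_splitRed D
  have F := RootBase.frame_of_splitRed D
  haveI : ∀ a, IsMonHom (D.u a) := fun a => (F.hu a).1
  obtain ⟨b, hb⟩ := S5522.result D {a | 0 < D.P.root a}
    (fun a a' d (ha : 0 < D.P.root a) (ha' : 0 < D.P.root a') e => show 0 < D.P.root d by rw [← e]; exact add_pos ha ha')
    (fun a (ha : 0 < D.P.root a) (ha' : 0 < D.P.root (D.P.reflectionPerm a a)) => by
      rw [RootBase.root_opp] at ha'; exact lt_asymm ha (neg_pos.1 ha'))
  obtain ⟨mu, hp, -, -⟩ := RootBase.exists_pos_hom D.P b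
  have hmu : ∀ j, 0 < mu (D.P.root (e j)) := fun j => (hp _).2 (hb ((hrange _).1 ⟨j, rfl⟩))
  obtain ⟨Q, -, hQ, hlaw⟩ := RootBase.exists_law F mu he hmu fun a c d p q hp' hq hd => by
    have ha : 0 < D.P.root (e a) := (hrange _).1 ⟨a, rfl⟩
    have hc : 0 < D.P.root (e c) := (hrange _).1 ⟨c, rfl⟩
    obtain ⟨p, rfl⟩ : ∃ i, p = i + 1 := ⟨p - 1, by omega⟩
    obtain ⟨q, rfl⟩ : ∃ i, q = i + 1 := ⟨q - 1, by omega⟩
    rw [natCast_zsmul, natCast_zsmul, succ_nsmul, succ_nsmul] at hd
    have h1 : D.P.root (e a) < D.P.root d := by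
      rw [hd]
      exact lt_add_of_le_of_pos (le_add_of_nonneg_left (nsmul_nonneg ha.le p))
        (add_pos_of_nonneg_of_pos (nsmul_nonneg hc.le q) hc)
    have h2 : D.P.root (e c) < D.P.root d := by
      rw [hd]
      exact lt_add_of_pos_of_le (add_pos_of_nonneg_of_pos (nsmul_nonneg ha.le p) ha)
        (le_add_of_nonneg_left (nsmul_nonneg hc.le q))
    obtain ⟨m, rfl⟩ := (hrange d).2 (ha.trans h1)
    exact ⟨m, rfl, hmono.lt_iff_lt.1 h1, hmono.lt_iff_lt.1 h2⟩
  have key : ∀ (X : Over S) (x y z : Fin N → (X ⟶ Red.Ga S)),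
      (List.ofFn (fun k => z k ≫ D.u (e k))).prod =
            (List.ofFn (fun k => x k ≫ D.u (e k))).prod * (List.ofFn (fun k => y k ≫ D.u (e k))).prod ↔
          ∀ k, Red.gaFn (z k) = MvPolynomial.eval₂ X.hom.appTop.hom
            (Sum.elim (fun j => Red.gaFn (x j)) (fun j => Red.gaFn (y j))) (Q k) := fun X x y z => by
    have h1 := hlaw X (fun j => Red.gaFn (x j)) (fun j => Red.gaFn (y j)) (fun j hj => by omega) (fun j hj => by omega)
    simp only [RootBase.pv, ← RootBase.comp_eq_ev] at h1
    rw [h1]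
    refine ⟨fun h => fun k => ?_, fun h => ?_⟩
    · have := congrFun (F.prod_inj mu e he hmu z (fun k => BGaNotS.gaPt (RootBase.pev _ (Q k))) h) k
      rw [this, BGaNotS.gaFn_gaPt]
      rfl
    · congr 2
      funext k
      rw [RootBase.comp_eq_ev, h k]
      rfl
  refine ⟨Q, ⟨key, fun k => hv Q k (hQ k (Nat.zero_le _))⟩, fun Q' ⟨hQ', _⟩ => funext fun k => ?_⟩
  refine sub_eq_zero.1 (RootBase.eq_zero_of_points _ fun X v => ?_)
  let x : Fin N → (X ⟶ Red.Ga S) := fun j => BGaNotS.gaPt (v (Sum.inl j))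
  let y : Fin N → (X ⟶ Red.Ga S) := fun j => BGaNotS.gaPt (v (Sum.inr j))
  have hv' : Sum.elim (fun j => Red.gaFn (x j)) (fun j => Red.gaFn (y j)) = v := by
    funext i; cases i <;> simp [x, y, BGaNotS.gaFn_gaPt]
  have h := (hQ' X x y (fun k => BGaNotS.gaPt (MvPolynomial.eval₂ X.hom.appTop.hom v (Q k)))).1
    ((key X x y _).2 fun k => by rw [BGaNotS.gaFn_gaPt, hv']) k
  rw [BGaNotS.gaFn_gaPt, hv'] at h
  rw [MvPolynomial.eval₂_sub, ← h, sub_self]

end Groth.Agent.S6102
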