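import Groth.Statements.S6106
import Groth.Agent.TypeRRad.Basic

set_option linter.style.haveILetI false
set_option backward.isDefEq.respectTransparency false
set_option synthInstance.maxHeartbeats 400000

set_option autoImplicit false
open CategoryTheory MonoidalCategory CartesianMonoidalCategory MonObj GrpObj AlgebraicGeometry
universe u
open RedSub

namespace Groth.Agent.S6106

/-- Let G be a reductive S-group, q : Q ⟶ G a subtorus, Z = Centr_G(Q), Z(Z) its centre and rad(Z) ⟶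
Z(Z) a maximal torus. If q' : Q' ⟶ G is a subtorus containing Q which is C-critical (Q' is the
radical of its centraliser Z': it factors through the centre Z(Z') as a maximal torus of Z(Z')),
then rad(Centr_G(Q)) ⊆ Q' as subgroups of G. Since rad(Centr_G(Q)) contains Q and is itself
C-critical, this says it is the smallest C-critical torus of G containing Q. -/
theorem result {S : Scheme.{u}} {G Q Z ZZ RZ Q' Z' ZZ' : Over S} [GrpObj G]
    [GrpObj Q] [GrpObj Z] [GrpObj ZZ] [GrpObj RZ] [GrpObj Q'] [GrpObj Z'] [GrpObj ZZ'] (hG : Red.IsReductive G)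
    (q : Q ⟶ G) [IsMonHom q] [Mono q] (hQ : Red.IsTorus Q) (z : Z ⟶ G) (hZ : Red.IsCentralizerOf q z)
    (jzz : ZZ ⟶ Z) (hZZ : Red.IsCentre jzz) (rz : RZ ⟶ ZZ) (hRZ : Red.IsMaximalTorus rz)
    (q' : Q' ⟶ G) [IsMonHom q'] [Mono q'] (hQ' : Red.IsTorus Q') (k : Q ⟶ Q') (hk : k ≫ q' = q)
    (z' : Z' ⟶ G) (hZ' : Red.IsCentralizerOf q' z') (jzz' : ZZ' ⟶ Z') (hZZ' : Red.IsCentre jzz')
    (m' : Q' ⟶ ZZ') (hm' : m' ≫ jzz' ≫ z' = q') (hcrit : Red.IsMaximalTorus m') :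
    ∃ l : RZ ⟶ Q', l ≫ q' = rz ≫ jzz ≫ z := by
  haveI := hZ'.1; haveI := hZ'.2.1; haveI := hZ.2.1
  obtain ⟨hzR, hzred⟩ := TypeRRad.centralizer_facts hG q hQ z hZ
  obtain ⟨hzR', hzred'⟩ := TypeRRad.centralizer_facts hG q' hQ' z' hZ'
  obtain ⟨a, ha⟩ := (hZ.2.2 Z' z').2 fun X x h => by
    rw [← hk, ← Category.assoc h k q']
    simpa only [Category.id_comp] using (hZ'.2.2 X (x ≫ z')).1 ⟨x, rfl⟩ X (𝟙 X) (h ≫ k)
  obtain ⟨m, hm⟩ := TypeRRad.exists_radical_le hG z' hzR' hzred' z hzR hzred a ha jzz' hZZ' m' hcrit jzz hZZ rz hRZ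
  exact ⟨m, hm'.symm ▸ hm⟩

end Groth.Agent.S6106
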