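import Groth.Statements.S6107
import Groth.Agent.TypeRRad.Basic

set_option linter.style.haveILetI false
set_option backward.isDefEq.respectTransparency false
set_option synthInstance.maxHeartbeats 400000

set_option autoImplicit false
open CategoryTheory MonoidalCategory CartesianMonoidalCategory MonObj GrpObj AlgebraicGeometry
universe u
open RedSub

namespace Groth.Agent.S6107

/-- Let G be a reductive S-group, H ⟶ G a subgroup of type (R) which is a reductive S-group, rad(H) ⟶
Z(H) ⟶ H its radical and z : Z ⟶ G the centraliser of rad(H) in G. If H'' ⟶ G is a subgroup of type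
(R), reductive, containing H and critical (H'' is the centraliser in G of its radical rad(H'')),
then Centr_G(rad H) ⊆ H'' as subgroups of G. Since Centr_G(rad H) contains H and is itself critical,
this says it is the smallest critical reductive subgroup of type (R) of G containing H. -/
theorem result {S : Scheme.{u}} {G H ZH R Z H'' ZH'' R'' : Over S}
    [GrpObj G] [GrpObj H] [GrpObj ZH] [GrpObj R] [GrpObj Z] [GrpObj H''] [GrpObj ZH''] [GrpObj R'']
    (hG : Red.IsReductive G) (i : H ⟶ G) (hi : RedSub.IsTypeR i) (hH : Red.IsReductive H)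
    (jz : ZH ⟶ H) (hZH : Red.IsCentre jz) (r : R ⟶ ZH) (hR : Red.IsMaximalTorus r)
    (z : Z ⟶ G) (hZ : Red.IsCentralizerOf (r ≫ jz ≫ i) z)
    (i'' : H'' ⟶ G) (hi'' : RedSub.IsTypeR i'') (hH'' : Red.IsReductive H'') (k : H ⟶ H'') (hk : k ≫ i'' = i)
    (jz'' : ZH'' ⟶ H'') (hZH'' : Red.IsCentre jz'') (r'' : R'' ⟶ ZH'') (hR'' : Red.IsMaximalTorus r'')
    (hcrit : Red.IsCentralizerOf (r'' ≫ jz'' ≫ i'') i'') :
    ∃ l : Z ⟶ H'', l ≫ i'' = z := by
  obtain ⟨m, hm⟩ := TypeRRad.exists_radical_le hG i hi hH i'' hi'' hH'' k hk jz hZH r hR jz'' hZH'' r'' hR''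
  exact (hcrit.2.2 Z z).2 fun X x h => by
    rw [← hm]
    simp only [← Category.assoc h m]
    simpa only [Category.id_comp] using (hZ.2.2 X (x ≫ z)).1 ⟨x, rfl⟩ X (𝟙 X) (h ≫ m)

end Groth.Agent.S6107
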