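import Groth.Statements.S6108
import Groth.Agent.RootBase.UPsiEmpty
import Groth.Agent.RootBase.Ideal
-- import your own Groth.Agent.* helpers here

set_option autoImplicit false
open CategoryTheory MonoidalCategory CartesianMonoidalCategory MonObj GrpObj AlgebraicGeometry
universe u
open RedSub

set_option backward.isDefEq.respectTransparency false

namespace Groth.Agent.S6108
open RootBase in
/-- A family of homomorphisms satisfying the relations of the conjugates is multiplicative. -/
theorem mul_of_conj {S : Scheme.{u}} [Nonempty S] {G H : Over S} [GrpObj G] [GrpObj H] {M : Type} [AddCommGroup M]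
    [Module.Free ℤ M] [Module.Finite ℤ M] {c₀ : Red.DS S M ⟶ G} {idx : Type} [Fintype idx]
    {P : RootPairing idx ℤ M (Module.Dual ℤ M)} {u : idx → (Red.Ga S ⟶ G)} (F : RootBase.Frame c₀ P.root u)
    (mu : M →+ ℤ) :
    ∀ (m : ℕ) (e : Fin m → idx), Function.Injective e → (∀ k, 0 < mu (P.root (e k))) →
      (∀ (k l : Fin m) (d : idx) (p q : ℕ), 1 ≤ p → 1 ≤ q →
        P.root d = (p : ℤ) • P.root (e k) + (q : ℤ) • P.root (e l) → ∃ k', k < k' ∧ l < k' ∧ e k' = d) →
      ∀ (f : Fin m → (Red.Ga S ⟶ H)), (∀ k, IsMonHom (f k)) →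
      (∀ (X : Over S) (i j : Fin m), i < j → ∀ (a c : X ⟶ Red.Ga S) (z : Fin m → (X ⟶ Red.Ga S)),
        (List.ofFn (fun k => z k ≫ u (e k))).prod = (c ≫ u (e j)) * (a ≫ u (e i)) * (c ≫ u (e j))⁻¹ →
          (List.ofFn (fun k => z k ≫ f k)).prod = (c ≫ f j) * (a ≫ f i) * (c ≫ f j)⁻¹) →
      ∀ (X : Over S) (x y z : Fin m → (X ⟶ Red.Ga S)),
        (List.ofFn (fun k => z k ≫ u (e k))).prod =
            (List.ofFn (fun k => x k ≫ u (e k))).prod * (List.ofFn (fun k => y k ≫ u (e k))).prod →
          (List.ofFn (fun k => z k ≫ f k)).prod =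
            (List.ofFn (fun k => x k ≫ f k)).prod * (List.ofFn (fun k => y k ≫ f k)).prod := by
  intro m
  induction m with
  | zero => intros; simp
  | succ m ih =>
    intro e he hmu hord f hf hconj
    let e' : Fin m → idx := fun k => e k.succ
    let J : Set idx := Set.range e'
    let Ψ : Set idx := Set.range e
    have hJ : J ⊆ Ψ := by rintro _ ⟨k, rfl⟩; exact ⟨k.succ, rfl⟩
    have hd : ∀ i ∈ Ψ, RootSys.opp P i ∉ Ψ := by
      rintro _ ⟨k, rfl⟩ ⟨l, hl⟩
      have h1 := hmu l
      rw [hl, RootSys.root_opp, map_neg] at h1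
      have := hmu k
      omega
    have hhi : ∀ {k l : Fin (m + 1)} {d : idx} (p q : ℕ), 1 ≤ p → 1 ≤ q →
        P.root d = (p : ℤ) • P.root (e k) + (q : ℤ) • P.root (e l) → d ∈ J := by
      intro k l d p q hp hq h
      obtain ⟨k', hk, -, rfl⟩ := hord k l d p q hp hq h
      refine ⟨k'.pred (fun h0 => ?_), ?_⟩
      · rw [h0] at hk; exact absurd hk (Fin.not_lt_zero k)
      · show e (Fin.succ _) = _
        rw [Fin.succ_pred]
    have hI1 : RootBase.IsIdealIn P Ψ Ψ J := by
      rintro _ ⟨k, rfl⟩ _ ⟨l, rfl⟩ d p q hp hq h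
      exact hhi p q hp hq h
    have hI2 : RootBase.IsIdealIn P Ψ J J := fun a ha b hb => hI1 a ha b (hJ hb)
    have hclJ : RootD.IsClosedSub P J := by
      rintro _ _ d ⟨k, rfl⟩ ⟨l, rfl⟩ h
      exact hhi (k := k.succ) (l := l.succ) 1 1 le_rfl le_rfl (by simpa [e'] using h)
    have heJ : RedSub.Enumerates J e' := ⟨fun a b hab => Fin.succ_injective _ (he hab), rfl⟩
    have hmuJ : ∀ a ∈ J, 0 < mu (P.root a) := by rintro _ ⟨k, rfl⟩; exact hmu _
    have ih' := ih e' heJ.1 (fun k => hmu _) (fun k l d p q hp hq h => by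
      obtain ⟨k', hk, hl, rfl⟩ := hord k.succ l.succ d p q hp hq h
      have h0 : k' ≠ 0 := fun h0 => by rw [h0] at hk; exact absurd hk (Fin.not_lt_zero _)
      exact ⟨k'.pred h0, by rwa [← Fin.succ_lt_succ_iff, Fin.succ_pred],
        by rwa [← Fin.succ_lt_succ_iff, Fin.succ_pred], by show e (Fin.succ _) = _; rw [Fin.succ_pred]⟩)
      (fun k => f k.succ) (fun k => hf _) fun X i j hij a c z hz => by
        have h := hconj X i.succ j.succ (Fin.succ_lt_succ_iff.2 hij) a c (Fin.cons (α := fun _ => X ⟶ Red.Ga S) 1 z)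
        haveI := (F.hu (e 0)).1
        haveI := hf 0
        rw [List.ofFn_succ, List.prod_cons, List.ofFn_succ (f := fun k => Fin.cons (α := fun _ => X ⟶ Red.Ga S) 1 z k ≫ f k),
          List.prod_cons] at h
        simp only [Fin.cons_zero, Fin.cons_succ, MonObj.one_comp, _root_.one_mul] at h
        exact h hz
    intro X x y z hz
    haveI := hf 0
    haveI := (F.hu (e 0)).1
    -- the values on the tail
    have hc : ∀ {g : X ⟶ G}, g ∈ RootBase.Gam u J X →
        ∃ w : Fin m → (X ⟶ Red.Ga S), (List.ofFn fun k => w k ≫ u (e' k)).prod = g :=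
      fun hg => F.exists_coord hclJ mu hmuJ e' heJ hg
    have hin : ∀ (w : Fin m → (X ⟶ Red.Ga S)), (List.ofFn fun k => w k ≫ u (e' k)).prod ∈ RootBase.Gam u J X :=
      fun w => RootBase.prod_mem_Gam (Ψ := J) (fun k => Set.mem_range_self k) w
    have huniq : ∀ (w w' : Fin (m + 1) → (X ⟶ Red.Ga S)), (List.ofFn fun k => w k ≫ u (e k)).prod =
        (List.ofFn fun k => w' k ≫ u (e k)).prod → w = w' := fun w w' h => F.prod_inj mu e he hmu w w' h
    have huniq' : ∀ (w w' : Fin m → (X ⟶ Red.Ga S)), (List.ofFn fun k => w k ≫ u (e' k)).prod =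
        (List.ofFn fun k => w' k ≫ u (e' k)).prod → w = w' :=
      fun w w' h => F.prod_inj mu e' heJ.1 (fun k => hmu _) w w' h
    -- conjugating the tail by the first factor
    have key : ∀ b : X ⟶ Red.Ga S, ∀ g ∈ RootBase.Gam u J X, ∀ w w' : Fin m → (X ⟶ Red.Ga S),
        (List.ofFn fun k => w k ≫ u (e' k)).prod = g →
        (List.ofFn fun k => w' k ≫ u (e' k)).prod = (b ≫ u (e 0))⁻¹ * g * (b ≫ u (e 0)) →
        (List.ofFn fun k => w' k ≫ f k.succ).prod =
          (b ≫ f 0)⁻¹ * (List.ofFn fun k => w k ≫ f k.succ).prod * (b ≫ f 0) := by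
      intro b
      have hcj : ∀ {g : X ⟶ G}, g ∈ RootBase.Gam u J X → (b ≫ u (e 0))⁻¹ * g * (b ≫ u (e 0)) ∈ RootBase.Gam u J X :=
        fun {g} hg => by
          have h1 := F.conj_mem_ideal hd hJ hI2 (inv_mem (RootBase.mem_Gam (Ψ := Ψ) (Set.mem_range_self 0) b)) hg
          rwa [_root_.inv_inv] at h1
      intro g hg
      induction hg using Subgroup.closure_induction with
      | mem g hg =>
        obtain ⟨_, ⟨j, rfl⟩, c, rfl⟩ := hg
        intro w w' hw hw'
        haveI := hf j.succ
        -- the coordinates of the generator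
        have hwv : (List.ofFn fun k => w k ≫ f k.succ).prod = c ≫ f j.succ := by
          rw [huniq' w (Function.update (fun _ => 1) j c) (hw.trans (by
            rw [RootBase.prod_ofFn_single _ j fun l hl => by
              haveI := (F.hu (e' l)).1
              show Function.update (fun _ => (1 : X ⟶ Red.Ga S)) j c l ≫ u (e' l) = 1
              rw [Function.update_of_ne hl, MonObj.one_comp], Function.update_self])),
            RootBase.prod_ofFn_single _ j fun l hl => by
              haveI := hf l.succ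
              show Function.update (fun _ => (1 : X ⟶ Red.Ga S)) j c l ≫ f l.succ = 1
              rw [Function.update_of_ne hl, MonObj.one_comp], Function.update_self]
        obtain ⟨k₀, hk₀⟩ := hc (F.comm_mem_ideal hd le_rfl hJ hI1 hI2
          (RootBase.mem_Gam (Ψ := Ψ) (Set.mem_range_self j.succ) c) (RootBase.mem_Gam (Ψ := Ψ) (Set.mem_range_self 0) b))
        have h := hconj X 0 j.succ (Fin.succ_pos j) b c (Fin.cons (α := fun _ => X ⟶ Red.Ga S) b k₀)
        rw [List.ofFn_succ, List.prod_cons, List.ofFn_succ (f := fun k => Fin.cons (α := fun _ => X ⟶ Red.Ga S) b k₀ k ≫ f k),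
          List.prod_cons] at h
        simp only [Fin.cons_zero, Fin.cons_succ] at h
        have h1 := h (by rw [show (List.ofFn fun i : Fin m => k₀ i ≫ u (e i.succ)).prod = _ from hk₀]; group)
        -- append the generator
        let sj : Fin m → (X ⟶ Red.Ga S) := Function.update (fun _ => 1) j c
        have hsju : (List.ofFn fun k => sj k ≫ u (e' k)).prod = c ≫ u (e j.succ) := by
          rw [RootBase.prod_ofFn_single _ j fun l hl => by
            haveI := (F.hu (e' l)).1
            show Function.update (fun _ => (1 : X ⟶ Red.Ga S)) j c l ≫ u (e' l) = 1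
            rw [Function.update_of_ne hl, MonObj.one_comp]]
          show Function.update (fun _ => (1 : X ⟶ Red.Ga S)) j c j ≫ u (e' j) = _
          rw [Function.update_self]
        have hsjf : (List.ofFn fun k => sj k ≫ f k.succ).prod = c ≫ f j.succ := by
          rw [RootBase.prod_ofFn_single _ j fun l hl => by
            haveI := hf l.succ
            show Function.update (fun _ => (1 : X ⟶ Red.Ga S)) j c l ≫ f l.succ = 1
            rw [Function.update_of_ne hl, MonObj.one_comp]]
          show Function.update (fun _ => (1 : X ⟶ Red.Ga S)) j c j ≫ f j.succ = _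
          rw [Function.update_self]
        rw [ih' X k₀ sj w' (by rw [hw', hk₀, hsju, show u (e' j) = u (e j.succ) from rfl]; group), hsjf, hwv]
        have h2 : (List.ofFn fun i : Fin m => k₀ i ≫ f i.succ).prod =
            (b ≫ f 0)⁻¹ * ((c ≫ f j.succ) * (b ≫ f 0) * (c ≫ f j.succ)⁻¹) := by rw [← h1, inv_mul_cancel_left]
        rw [h2]; group
      | one =>
        intro w w' hw hw'
        have hone : ∀ v : Fin m → (X ⟶ Red.Ga S), (List.ofFn fun k => v k ≫ u (e' k)).prod = 1 →
            (List.ofFn fun k => v k ≫ f k.succ).prod = 1 := fun v hv => by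
          have h := ih' X v v v (by rw [hv, _root_.one_mul])
          exact left_eq_mul.1 h
        rw [hone w hw, hone w' (by rw [hw']; group)]
        group
      | mul g g' hgm hgm' h1 h2 =>
        intro w w' hw hw'
        obtain ⟨w₁, hw₁⟩ := hc hgm
        obtain ⟨w₂, hw₂⟩ := hc hgm'
        obtain ⟨v₁, hv₁⟩ := hc (hcj hgm)
        obtain ⟨v₂, hv₂⟩ := hc (hcj hgm')
        rw [ih' X v₁ v₂ w' (by rw [hw', hv₁, hv₂]; group), ih' X w₁ w₂ w (by rw [hw, hw₁, hw₂]),
          h1 w₁ v₁ hw₁ hv₁, h2 w₂ v₂ hw₂ hv₂]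
        group
      | inv g hgm h1 =>
        intro w w' hw hw'
        obtain ⟨w₁, hw₁⟩ := hc hgm
        obtain ⟨v₁, hv₁⟩ := hc (hcj hgm)
        have hinv : ∀ v v' : Fin m → (X ⟶ Red.Ga S), (List.ofFn fun k => v' k ≫ u (e' k)).prod =
            ((List.ofFn fun k => v k ≫ u (e' k)).prod)⁻¹ →
            (List.ofFn fun k => v' k ≫ f k.succ).prod = ((List.ofFn fun k => v k ≫ f k.succ).prod)⁻¹ := by
          intro v v' hv
          obtain ⟨o, ho⟩ := hc (one_mem (RootBase.Gam u J X))
          have h2 := ih' X v v' o (by rw [ho, hv, mul_inv_cancel])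
          have h3 := ih' X o o o (by rw [ho, _root_.one_mul])
          rw [left_eq_mul.1 h3] at h2
          exact eq_inv_of_mul_eq_one_right h2.symm
        rw [hinv v₁ w' (by rw [hw', hv₁]; group), hinv w₁ w (by rw [hw, hw₁]), h1 w₁ v₁ hw₁ hv₁]
        group
    -- assemble
    have hsp : ∀ (w : Fin (m + 1) → (X ⟶ Red.Ga S)), (List.ofFn fun k => w k ≫ u (e k)).prod =
        (w 0 ≫ u (e 0)) * (List.ofFn fun k : Fin m => w k.succ ≫ u (e' k)).prod := fun w => by
      rw [List.ofFn_succ, List.prod_cons]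
    have hspf : ∀ (w : Fin (m + 1) → (X ⟶ Red.Ga S)), (List.ofFn fun k => w k ≫ f k).prod =
        (w 0 ≫ f 0) * (List.ofFn fun k : Fin m => w k.succ ≫ f k.succ).prod := fun w => by
      rw [List.ofFn_succ, List.prod_cons]
    have hb := F.conj_mem_ideal hd hJ hI2 (inv_mem (RootBase.mem_Gam (Ψ := Ψ) (Set.mem_range_self 0) (y 0)))
      (hin fun k => x k.succ)
    rw [_root_.inv_inv] at hb
    obtain ⟨xc, hxc⟩ := hc hb
    obtain ⟨t, ht⟩ := hc (mul_mem (hin xc) (hin fun k => y k.succ))
    have hzt : z = Fin.cons (α := fun _ => X ⟶ Red.Ga S) (x 0 * y 0) t := huniq _ _ (by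
      rw [hz, hsp x, hsp y, hsp (Fin.cons (α := fun _ => X ⟶ Red.Ga S) (x 0 * y 0) t)]
      simp only [Fin.cons_zero, Fin.cons_succ]
      rw [ht, hxc, MonObj.mul_comp]
      group)
    rw [hzt, hspf, hspf x, hspf y]
    simp only [Fin.cons_zero, Fin.cons_succ]
    rw [ih' X xc (fun k => y k.succ) t ht, key (y 0) _ (hin fun k => x k.succ) (fun k => x k.succ) xc rfl hxc,
      MonObj.mul_comp]
    group



/-- Let G be a split reductive S-group (splitting D with root homomorphisms u_a, lattice M), fix a total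
order on M compatible with addition, let a_1 < ⋯ < a_N be the positive roots enumerated increasingly
by e, and let f_1, …, f_N : G_a ⟶ H be homomorphisms into an S-group scheme H. Let F be the map
u_{a_1}(x_1) ⋯ u_{a_N}(x_N) ↦ f_1(x_1) ⋯ f_N(x_N) on points of U = U_{a_1} ⋯ U_{a_N}. Then F is
multiplicative if and only if, for all i < j and all points a, c of G_a, F applied to the
coordinates of u_{a_j}(c) u_{a_i}(a) u_{a_j}(c)⁻¹ equals f_j(c) f_i(a) f_j(c)⁻¹. (The published
statement allows H to be any group functor over S; this row takes H to be a group scheme over S.) -/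
theorem result {S : Scheme.{u}} {G H : Over S} [GrpObj G] [GrpObj H]
    (D : Red.SplitRed G) [LinearOrder D.M] [IsOrderedAddMonoid D.M] {N : ℕ} (e : Fin N → D.idx)
    (he : Function.Injective e) (hrange : ∀ a : D.idx, a ∈ Set.range e ↔ 0 < D.P.root a)
    (hmono : StrictMono (fun k => D.P.root (e k))) (f : Fin N → (Red.Ga S ⟶ H)) (hf : ∀ k, IsMonHom (f k)) :
    (∀ (X : Over S) (x y z : Fin N → (X ⟶ Red.Ga S)),
      (List.ofFn (fun k => z k ≫ D.u (e k))).prod =
          (List.ofFn (fun k => x k ≫ D.u (e k))).prod * (List.ofFn (fun k => y k ≫ D.u (e k))).prod →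
        (List.ofFn (fun k => z k ≫ f k)).prod =
          (List.ofFn (fun k => x k ≫ f k)).prod * (List.ofFn (fun k => y k ≫ f k)).prod) ↔
    (∀ (X : Over S) (i j : Fin N), i < j → ∀ (a c : X ⟶ Red.Ga S) (z : Fin N → (X ⟶ Red.Ga S)),
      (List.ofFn (fun k => z k ≫ D.u (e k))).prod = (c ≫ D.u (e j)) * (a ≫ D.u (e i)) * (c ≫ D.u (e j))⁻¹ →
        (List.ofFn (fun k => z k ≫ f k)).prod = (c ≫ f j) * (a ≫ f i) * (c ≫ f j)⁻¹) := by
  letI := D.grpT
  letI := D.acgM
  letI := D.fintypeIdx
  letI := D.finiteM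
  letI := D.freeM
  rcases isEmpty_or_nonempty S with hS | hS
  · exact ⟨fun _ X i j _ a c z _ => RootBase.hom_eq_of_isEmpty _ _,
      fun _ X x y z _ => RootBase.hom_eq_of_isEmpty _ _⟩
  classical
  haveI := RootBase.isReduced_of_splitRed D
  have F := RootBase.frame_of_splitRed D
  let Ψ : Set D.idx := {a | 0 < D.P.root a}
  have hcΨ : RootD.IsClosedSub D.P Ψ := fun a b k ha hb hk => by
    show 0 < D.P.root k
    rw [hk]; exact add_pos ha hb
  have hd : ∀ a ∈ Ψ, RootSys.opp D.P a ∉ Ψ := fun a ha h => by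
    have h1 : 0 < D.P.root (RootSys.opp D.P a) := h
    rw [RootSys.root_opp] at h1
    exact lt_asymm h1 (Left.neg_neg_iff.2 ha)
  obtain ⟨mu, hmu⟩ := RootBase.exists_pos_closed hcΨ hd
  have hpos : ∀ k, 0 < D.P.root (e k) := fun k => (hrange _).1 ⟨k, rfl⟩
  have hmue : ∀ k, 0 < mu (D.P.root (e k)) := fun k => hmu _ (hpos k)
  have hord : ∀ (k l : Fin N) (d : D.idx) (p q : ℕ), 1 ≤ p → 1 ≤ q →
      D.P.root d = (p : ℤ) • D.P.root (e k) + (q : ℤ) • D.P.root (e l) → ∃ k', k < k' ∧ l < k' ∧ e k' = d := by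
    intro k l d p q hp hq h
    obtain ⟨p, rfl⟩ := Nat.exists_eq_add_of_le hp
    obtain ⟨q, rfl⟩ := Nat.exists_eq_add_of_le hq
    rw [natCast_zsmul, natCast_zsmul, add_nsmul, one_nsmul, add_nsmul, one_nsmul] at h
    have h1 : D.P.root (e k) < D.P.root d := by
      rw [h]
      exact lt_add_of_le_of_pos (le_add_of_nonneg_right (nsmul_nonneg (le_of_lt (hpos k)) p))
        (add_pos_of_pos_of_nonneg (hpos l) (nsmul_nonneg (le_of_lt (hpos l)) q))
    have h2 : D.P.root (e l) < D.P.root d := by
      rw [h]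
      exact lt_add_of_pos_of_le (add_pos_of_pos_of_nonneg (hpos k) (nsmul_nonneg (le_of_lt (hpos k)) p))
        (le_add_of_nonneg_right (nsmul_nonneg (le_of_lt (hpos l)) q))
    obtain ⟨k', rfl⟩ := (hrange d).2 (lt_trans (hpos k) h1)
    exact ⟨k', hmono.lt_iff_lt.1 h1, hmono.lt_iff_lt.1 h2, rfl⟩
  constructor
  · intro hmul X i j hij a c z hz
    have he' : RedSub.Enumerates Ψ e := ⟨he, Set.ext hrange⟩
    have hsingle : ∀ (k : Fin N) (v : X ⟶ Red.Ga S),
        (List.ofFn fun l => Function.update (fun _ => (1 : X ⟶ Red.Ga S)) k v l ≫ D.u (e l)).prod = v ≫ D.u (e k) ∧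
        (List.ofFn fun l => Function.update (fun _ => (1 : X ⟶ Red.Ga S)) k v l ≫ f l).prod = v ≫ f k := by
      intro k v
      constructor
      · rw [RootBase.prod_ofFn_single _ k fun l hl => by
          haveI := (F.hu (e l)).1
          show Function.update (fun _ => (1 : X ⟶ Red.Ga S)) k v l ≫ D.u (e l) = 1
          rw [Function.update_of_ne hl, MonObj.one_comp], Function.update_self]
      · rw [RootBase.prod_ofFn_single _ k fun l hl => by
          haveI := hf l
          show Function.update (fun _ => (1 : X ⟶ Red.Ga S)) k v l ≫ f l = 1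
          rw [Function.update_of_ne hl, MonObj.one_comp], Function.update_self]
    obtain ⟨w, hw⟩ := F.exists_coord hcΨ mu hmu e he'
      (mul_mem (RootBase.mem_Gam (u := D.u) (Ψ := Ψ) (hpos j) c) (RootBase.mem_Gam (u := D.u) (Ψ := Ψ) (hpos i) a))
    have h1 := hmul X (Function.update (fun _ => 1) j c) (Function.update (fun _ => 1) i a) w
      (hw.trans (by rw [(hsingle j c).1, (hsingle i a).1]))
    have h2 := hmul X w (Function.update (fun _ => 1) j c⁻¹) z (by
      haveI := (F.hu (e j)).1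
      rw [hz, hw, (hsingle j c⁻¹).1, GrpObj.inv_comp])
    haveI := hf j
    rw [h2, h1, (hsingle j c).2, (hsingle i a).2, (hsingle j c⁻¹).2, GrpObj.inv_comp]
  · exact mul_of_conj F mu N e he hmue hord f hf

end Groth.Agent.S6108
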