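import Groth.Statements.S6110
import Groth.Agent.Corad.Prod
-- import your own Groth.Agent.* helpers here

set_option backward.isDefEq.respectTransparency false
set_option linter.style.haveILetI false
set_option synthInstance.maxHeartbeats 400000
set_option maxHeartbeats 1000000

set_option autoImplicit false
open CategoryTheory MonoidalCategory CartesianMonoidalCategory MonObj GrpObj AlgebraicGeometry
universe u
open RedSub

namespace Groth.Agent.S6110

/-- Let G be a reductive S-group, d : D ⟶ G its derived group and f₀ : G ⟶ C its coradical (C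
commutative, D = Ker f₀, f₀ the fppf quotient G/D, D killed by every homomorphism to a commutative
S-group scheme), R = rad(G) a maximal torus of the centre Z, and q : G ⟶ SS the fppf quotient of G
by R. Then G ⟶ C x_S SS, with components f₀ and q, is an isomorphism if and only if rad(G) ∩ dér(G)
= e. -/
theorem result {S : Scheme.{u}} {G D C Z R SS : Over S}
    [GrpObj G] [GrpObj D] [GrpObj C] [GrpObj Z] [GrpObj R] [GrpObj SS] (hG : Red.IsReductive G) (d : D ⟶ G) [IsMonHom d]
    (f₀ : G ⟶ C) [IsMonHom f₀] (hC : ∀ (X : Over S) (a b : X ⟶ C), a * b = b * a) (hker : AlgGrp.IsKernel d f₀)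
    (hquot : RedSub.IsQuotient d f₀) (hkill : RedSub.KilledByCommutative d)
    (j : Z ⟶ G) (hZ : Red.IsCentre j) (r : R ⟶ Z) (hR : Red.IsMaximalTorus r)
    (q : G ⟶ SS) [IsMonHom q] (hq : RedSub.IsQuotient (r ≫ j) q) :
    IsIso (lift f₀ q) ↔ ∀ (X : Over S) (x : X ⟶ R) (y : X ⟶ D), x ≫ r ≫ j = y ≫ d → x = 1 := by
  have h := Groth.Agent.Corad.isCorad_of_pinned hG d f₀ hC hker hquot hkill
  haveI := hZ.1
  haveI := hR.1
  haveI := Groth.Agent.Corad.mono_radical hG h j hZ r hR
  obtain ⟨hdm, hdp⟩ := Groth.Agent.Corad.kernel_pts hker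
  refine ⟨fun hiso X x y hxy => ?_, fun hI => ?_⟩
  · have h1 : (x ≫ r ≫ j) ≫ lift f₀ q = (1 : X ⟶ G) ≫ lift f₀ q := by
      apply CartesianMonoidalCategory.hom_ext
      · simp only [Category.assoc, lift_fst]
        rw [reassoc_of% hxy, (hdp d).1 ⟨𝟙 D, Category.id_comp d⟩, MonObj.comp_one, MonObj.one_comp]
      · simp only [Category.assoc, lift_snd]
        rw [MonObj.one_comp]
        simpa only [Category.assoc] using Groth.Agent.Corad.quotient_kills (r ≫ j) q hq x
    rw [← cancel_mono (r ≫ j), (cancel_mono (lift f₀ q)).1 h1, MonObj.one_comp]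
  · haveI := Groth.Agent.Corad.mono_comp_of_inter d f₀ hker (r ≫ j) hI
    obtain ⟨h1, h2, -⟩ := Groth.Agent.Corad.isogeny_radical hG h j hZ r hR
    haveI := Groth.Agent.Corad.lfp_radical hG h j hZ r hR
    rw [← Category.assoc] at h1 h2
    haveI := h1
    haveI := h2
    haveI := Groth.Agent.Corad.isIso_of_mono_covering ((r ≫ j) ≫ f₀)
    haveI : Mono (lift f₀ q) := by
      haveI : IsMonHom (lift f₀ q) := Groth.Agent.MTBridge.isMonHom_of_points _ fun X a b => by
        apply CartesianMonoidalCategory.hom_ext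
        · simp [MonObj.mul_comp]
        · simp [MonObj.mul_comp]
      refine Groth.Agent.MTImage.mono_of_ker (lift f₀ q) fun X g hg => ?_
      have hf : g ≫ f₀ = 1 := by
        have := congrArg (fun z => z ≫ fst C SS) hg
        simpa [MonObj.one_comp] using this
      have hgq : g ≫ q = 1 := by
        have := congrArg (fun z => z ≫ snd C SS) hg
        simpa [MonObj.one_comp] using this
      obtain ⟨y, hy⟩ := Groth.Agent.Corad.exists_of_quotient_one (r ≫ j) q hq g hgq
      obtain ⟨z, hz⟩ := (hdp g).2 hf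
      rw [← hy, hI X y z (by rw [hz, hy]), MonObj.one_comp]
    exact Groth.Agent.Corad.isIso_prod f₀ (r ≫ j) q hq

end Groth.Agent.S6110
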