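import Groth.Statements.S6111
import Groth.Agent.Corad.Subgrp
-- import your own Groth.Agent.* helpers here

set_option backward.isDefEq.respectTransparency false
set_option linter.style.haveILetI false
set_option synthInstance.maxHeartbeats 400000
set_option maxHeartbeats 1000000

set_option autoImplicit false
open CategoryTheory MonoidalCategory CartesianMonoidalCategory MonObj GrpObj AlgebraicGeometry
universe u
open RedSub

namespace Groth.Agent.S6111

/-- Let G be a reductive S-group with derived group d : D ⟶ G (kernel of a homomorphism to a commutative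
S-group scheme, killed by every such homomorphism), Z its centre and R = rad(G) a maximal torus of
Z. Let k : H ⟶ G be a sub-group-scheme containing D, smooth over S with connected fibres, and R' = H
∩ R (a fibre product). Then dér(H) = dér(G): D ⟶ H is killed by every homomorphism from H to a
commutative S-group scheme and is the kernel of one of them; and H = (H ∩ rad(G)) · dér(G): the
multiplication R' x_S D ⟶ H is surjective. -/
theorem result {S : Scheme.{u}} {G D H Z R R' : Over S} [GrpObj G]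
    [GrpObj D] [GrpObj H] [GrpObj Z] [GrpObj R] [GrpObj R'] (hG : Red.IsReductive G) (d : D ⟶ G) [IsMonHom d]
    (hker : ∃ (C : Over S) (_ : GrpObj C) (f₀ : G ⟶ C), IsMonHom f₀ ∧ (∀ (X : Over S) (a b : X ⟶ C), a * b = b * a) ∧
      AlgGrp.IsKernel d f₀)
    (hkill : RedSub.KilledByCommutative d)
    (j : Z ⟶ G) (hZ : Red.IsCentre j) (r : R ⟶ Z) (hR : Red.IsMaximalTorus r)
    (k : H ⟶ G) (hH : RedSub.IsSubgrp k) (e : D ⟶ H) [IsMonHom e] (hDH : e ≫ k = d) [Smooth H.hom]
    (hconn : RedSub.HasConnectedFibres H) (a : R' ⟶ R) (b : R' ⟶ H) [IsMonHom a] [IsMonHom b]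
    (hsq : IsPullback a b (r ≫ j) k) :
    RedSub.KilledByCommutative e ∧
      (∃ (C' : Over S) (_ : GrpObj C') (f' : H ⟶ C'), IsMonHom f' ∧ (∀ (X : Over S) (x y : X ⟶ C'), x * y = y * x) ∧
        AlgGrp.IsKernel e f') ∧
      Surjective ((b ⊗ₘ e) ≫ μ[H]).left := by
  obtain ⟨C, _, f₀, hc⟩ := Groth.Agent.Corad.exists_corad_of_ker hG d hker hkill
  haveI := hc.hf; haveI := hH.1; haveI := Groth.Agent.Corad.mono_of_subgrp hH
  obtain ⟨hdm, hdp⟩ := Groth.Agent.Corad.kernel_pts hc.ker
  haveI := hdm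
  refine ⟨fun A _ f _ hA => Groth.Agent.Corad.killed_self_of_isCorad hG hc (e ≫ f) hA,
    ⟨C, inferInstance, k ≫ f₀, inferInstance, hc.comm, ?_⟩,
    Groth.Agent.Corad.surjective_sub d k hH e hDH (r ≫ j) a b hsq (Groth.Agent.Corad.isogeny_mul hG hc j hZ r hR).1⟩
  have hw : e ≫ k ≫ f₀ = toUnit D ≫ η[C] := by
    rw [reassoc_of% hDH]; exact hc.ker.w
  have hex : ∀ t : Limits.PullbackCone (k ≫ f₀) η[C], ∃ z : t.pt ⟶ D, z ≫ d = t.fst ≫ k := fun t => (hdp _).2 (by
    rw [Category.assoc, t.condition, toUnit_unique t.snd (toUnit _)]; rfl)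
  choose z hz using hex
  refine ⟨⟨hw⟩, ⟨Limits.PullbackCone.IsLimit.mk _ z (fun t => ?_) (fun t => toUnit_unique _ _) fun t g hg1 _ => ?_⟩⟩
  · rw [← cancel_mono k, Category.assoc, hDH, hz]
  · rw [← cancel_mono d, hz, ← hDH, ← Category.assoc, hg1]

end Groth.Agent.S6111
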