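import Groth.Statements.S6112
import Groth.Agent.Corad.Subgrp
-- import your own Groth.Agent.* helpers here

set_option backward.isDefEq.respectTransparency false
set_option linter.style.haveILetI false
set_option synthInstance.maxHeartbeats 400000
set_option maxHeartbeats 1000000

set_option autoImplicit false
open CategoryTheory MonoidalCategory CartesianMonoidalCategory MonObj GrpObj AlgebraicGeometry
universe u
open RedSub

namespace Groth.Agent.S6112

/-- Let G be a reductive S-group with derived group d : D ⟶ G, k : H ⟶ G a sub-group-scheme containing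
D, smooth over S with connected fibres, T a maximal torus of G and T' = T ∩ H (a fibre product with
projections to T and H). Then H = (T ∩ H) · dér(G): the multiplication T' x_S D ⟶ H is surjective. -/
theorem result {S : Scheme.{u}} {G D H T T' : Over S} [GrpObj G]
    [GrpObj D] [GrpObj H] [GrpObj T] [GrpObj T'] (hG : Red.IsReductive G) (d : D ⟶ G) [IsMonHom d]
    (hker : ∃ (C : Over S) (_ : GrpObj C) (f₀ : G ⟶ C), IsMonHom f₀ ∧ (∀ (X : Over S) (a b : X ⟶ C), a * b = b * a) ∧
      AlgGrp.IsKernel d f₀)
    (hkill : RedSub.KilledByCommutative d)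
    (k : H ⟶ G) (hH : RedSub.IsSubgrp k) (e : D ⟶ H) [IsMonHom e] (hDH : e ≫ k = d) [Smooth H.hom]
    (hconn : RedSub.HasConnectedFibres H) (i : T ⟶ G) (hT : Red.IsMaximalTorus i)
    (a : T' ⟶ T) (b : T' ⟶ H) [IsMonHom a] [IsMonHom b] (hsq : IsPullback a b i k) :
    Surjective ((b ⊗ₘ e) ≫ μ[H]).left := by
  obtain ⟨C, _, f₀, hc⟩ := Groth.Agent.Corad.exists_corad_of_ker hG d hker hkill
  exact Groth.Agent.Corad.surjective_sub d k hH e hDH i a b hsq
    (Groth.Agent.Corad.surjective_torus_mul hG hc i hT)

end Groth.Agent.S6112
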