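import Groth.Statements.S6113
import Groth.Agent.Corad.Pin
-- import your own Groth.Agent.* helpers here

set_option backward.isDefEq.respectTransparency false
set_option linter.style.haveILetI false
set_option synthInstance.maxHeartbeats 400000
set_option maxHeartbeats 1000000

set_option autoImplicit false
open CategoryTheory MonoidalCategory CartesianMonoidalCategory MonObj GrpObj AlgebraicGeometry
universe u
open RedSub

namespace Groth.Agent.S6113

/-- The bijection between subgroups containing dér(G) and subtori of corad(G), in the inverse direction: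
let G be a reductive S-group, d : D ⟶ G its derived group and f₀ : G ⟶ C its coradical (C
commutative, D = Ker f₀, f₀ the fppf quotient G/D, D killed by every homomorphism to a commutative
S-group scheme). Let t : T'' ⟶ C be a subtorus and H = G x_C T'' its preimage under f₀, with
projections k : H ⟶ G and g : H ⟶ T''. Then H is a closed sub-group-scheme of G, smooth over S with
connected fibres and containing D, and g is surjective, flat and locally of finite presentation, so
that the image sheaf f₀(H) is T''. -/
theorem result {S : Scheme.{u}} {G D C T'' H : Over S} [GrpObj G] [GrpObj D] [GrpObj C]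
    [GrpObj T''] [GrpObj H] (hG : Red.IsReductive G) (d : D ⟶ G) [IsMonHom d]
    (f₀ : G ⟶ C) [IsMonHom f₀] (hC : ∀ (X : Over S) (a b : X ⟶ C), a * b = b * a) (hker : AlgGrp.IsKernel d f₀)
    (hquot : RedSub.IsQuotient d f₀) (hkill : RedSub.KilledByCommutative d)
    (t : T'' ⟶ C) [IsMonHom t] [Mono t] (hT'' : Red.IsTorus T'') (k : H ⟶ G) [IsMonHom k] (g : H ⟶ T'') [IsMonHom g]
    (hsq : IsPullback k g f₀ t) :
    IsClosedImmersion k.left ∧ Smooth H.hom ∧ RedSub.HasConnectedFibres H ∧ (∃ e : D ⟶ H, e ≫ k = d) ∧
      Surjective g.left ∧ Flat g.left ∧ LocallyOfFinitePresentation g.left := by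
  have h := Corad.isCorad_of_pinned hG d f₀ hC hker hquot hkill
  obtain ⟨hm, hp⟩ := Corad.kernel_pts hker
  haveI := hm
  haveI := h.smooth; haveI := h.surj; haveI := h.smoothD; haveI := h.affine
  haveI : Smooth T''.hom := MTImage.smooth_torus hT''
  haveI : IsClosedImmersion t.left := MTBridge.isClosedImmersion_of_mono
    (MTBridge.locally_of_isMultTypeFT' T'' (MTBridge.isMultTypeFT_of_isTorus T'' hT'')) inferInstance t
  have hl : IsPullback k.left g.left f₀.left t.left := hsq.map (Over.forget S)
  have hgs : Smooth g.left := MorphismProperty.of_isPullback hl inferInstance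
  haveI := hgs
  haveI hgu : Surjective g.left := MorphismProperty.of_isPullback hl inferInstance
  haveI : LocallyOfFinitePresentation g.left := inferInstance
  haveI : Flat g.left := inferInstance
  haveI : Mono t.left := inferInstance
  obtain ⟨e, he, he'⟩ : ∃ e : D ⟶ H, e ≫ k = d ∧ e ≫ g = 1 :=
    ⟨hsq.lift d 1 (by rw [MonObj.one_comp]; exact (hp d).1 ⟨𝟙 D, Category.id_comp d⟩),
      hsq.lift_fst _ _ _, hsq.lift_snd _ _ _⟩
  refine ⟨MorphismProperty.of_isPullback hl.flip inferInstance, ?_, ?_, ⟨e, he⟩, hgu, inferInstance, inferInstance⟩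
  · rw [← Over.w g]
    infer_instance
  · haveI : Mono k := Limits.PullbackCone.mono_fst_of_is_pullback_of_mono hsq.isLimit
    haveI : IsMonHom e := MTBridge.isMonHom_of_points e fun X x y => by
      rw [← cancel_mono k, Category.assoc, he, MonObj.mul_comp, MonObj.mul_comp, Category.assoc, Category.assoc, he]
    refine Corad.hasConnectedFibres_of_ext g e (fun {X} x hx => ?_) he' h.conn (MTImage.isConnected_fibre_torus hT'')
    obtain ⟨z, hz⟩ := (hp (x ≫ k)).2 (by rw [Category.assoc, hsq.w, ← Category.assoc, hx, MonObj.one_comp])
    exact ⟨z, (cancel_mono k).1 (by rw [Category.assoc, he, hz])⟩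

end Groth.Agent.S6113
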