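import Groth.Statements.S6114
import Groth.Agent.Corad.Subgrp
import Groth.Agent.S6113
-- import your own Groth.Agent.* helpers here

set_option backward.isDefEq.respectTransparency false
set_option linter.style.haveILetI false
set_option synthInstance.maxHeartbeats 400000
set_option maxHeartbeats 1000000

set_option autoImplicit false
open CategoryTheory MonoidalCategory CartesianMonoidalCategory MonObj GrpObj AlgebraicGeometry
universe u
open RedSub

namespace Groth.Agent.S6114

/-- The bijection H ↦ T ∩ H between subgroups containing dér(G), smooth with connected fibres, and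
subtori of T containing T ∩ dér(G) is onto: let G be a reductive S-group with derived group d : D ⟶
G, T a maximal torus of G and T'' ⟶ T a subtorus such that every point of T whose image lies in D
factors through T''. Then there is a sub-group-scheme H ⟶ G containing D, smooth over S with
connected fibres, with T ∩ H = T'' on points. -/
theorem result {S : Scheme.{u}} {G D T T'' : Over S} [GrpObj G]
    [GrpObj D] [GrpObj T] [GrpObj T''] (hG : Red.IsReductive G) (d : D ⟶ G) [IsMonHom d]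
    (hker : ∃ (C : Over S) (_ : GrpObj C) (f₀ : G ⟶ C), IsMonHom f₀ ∧ (∀ (X : Over S) (a b : X ⟶ C), a * b = b * a) ∧
      AlgGrp.IsKernel d f₀)
    (hkill : RedSub.KilledByCommutative d) (i : T ⟶ G) (hT : Red.IsMaximalTorus i)
    (t : T'' ⟶ T) [IsMonHom t] [Mono t] (hT'' : Red.IsTorus T'')
    (hTD : ∀ (X : Over S) (x : X ⟶ T) (y : X ⟶ D), x ≫ i = y ≫ d → ∃ x' : X ⟶ T'', x' ≫ t = x) :
    ∃ (H : Over S) (_ : GrpObj H) (k : H ⟶ G), RedSub.IsSubgrp k ∧ Smooth H.hom ∧ RedSub.HasConnectedFibres H ∧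
      (∃ e : D ⟶ H, e ≫ k = d) ∧
      ∀ (X : Over S) (x : X ⟶ T), (∃ x' : X ⟶ T'', x' ≫ t = x) ↔ (∃ y : X ⟶ H, y ≫ k = x ≫ i) := by
  obtain ⟨C, _, f₀, hc⟩ := Groth.Agent.Corad.exists_corad_of_ker hG d hker hkill
  haveI := hc.hf; haveI := hT.1; haveI := hc.affine
  haveI : Smooth C.hom := Groth.Agent.MTImage.smooth_torus hc.torus
  obtain ⟨hdm, hdp⟩ := Groth.Agent.Corad.kernel_pts hc.ker
  haveI := hdm
  obtain ⟨Q, _, q, m, hqm, hmm, hmono, hQ, hqs, hqf, hqw⟩ :=
    Groth.Agent.MTImage.exists_image_torus hT'' (t ≫ i ≫ f₀)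
  haveI := hqm; haveI := hmm; haveI := hmono; haveI := hqs; haveI := hqf
  haveI : Smooth Q.hom := Groth.Agent.MTImage.smooth_torus hQ
  haveI : Smooth T''.hom := Groth.Agent.MTImage.smooth_torus hT''
  haveI : LocallyOfFinitePresentation (q.left ≫ Q.hom) := by rw [Over.w]; infer_instance
  haveI : LocallyOfFinitePresentation q.left := Groth.Agent.LimDesc.lfp_of_comp q.left Q.hom
  let H : Over S := Limits.pullback f₀ m
  let k : H ⟶ G := Limits.pullback.fst f₀ m
  have hsq : IsPullback k (Limits.pullback.snd f₀ m) f₀ m := IsPullback.of_hasPullback f₀ m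
  haveI : Mono k := inferInstanceAs (Mono (Limits.pullback.fst f₀ m))
  obtain ⟨gH, hkm⟩ := Groth.Agent.SubGen.Spread.exists_grpObj_of_div k
    ⟨hsq.lift η[G] η[Q] ((IsMonHom.one_hom (f := f₀)).trans (IsMonHom.one_hom (f := m)).symm), hsq.lift_fst _ _ _⟩
    ⟨hsq.lift _ ((fst H H ≫ Limits.pullback.snd f₀ m)⁻¹ * (snd H H ≫ Limits.pullback.snd f₀ m)) (by
      simp only [MonObj.mul_comp, GrpObj.inv_comp, Category.assoc]
      rw [hsq.w]), hsq.lift_fst _ _ _⟩
  haveI := hkm
  haveI : IsMonHom (Limits.pullback.snd f₀ m) := Groth.Agent.MTSplit.isMonHom_of_comp_mono _ m (k ≫ f₀) hsq.w.symm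
  obtain ⟨hk, hs, hconn, he, -⟩ := Groth.Agent.S6113.result hG d f₀ hc.comm hc.ker hc.quot hkill m hQ k
    (Limits.pullback.snd f₀ m) hsq
  haveI := hk
  refine ⟨H, gH, k, ⟨hkm, inferInstance⟩, hs, hconn, he, fun X x => ⟨fun ⟨x', hx'⟩ => ?_, fun ⟨y, hy⟩ => ?_⟩⟩
  · exact ⟨hsq.lift (x ≫ i) (x' ≫ q) (by rw [Category.assoc x' q, hqw, Category.assoc, reassoc_of% hx']),
      hsq.lift_fst _ _ _⟩
  have hu : (y ≫ Limits.pullback.snd f₀ m) ≫ m = x ≫ i ≫ f₀ := by
    rw [Category.assoc, ← hsq.w, reassoc_of% hy]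
  let u := y ≫ Limits.pullback.snd f₀ m
  let P : Over S := Over.mk (Limits.pullback.fst u.left q.left ≫ X.hom)
  let p : P ⟶ X := Over.homMk (Limits.pullback.fst u.left q.left) rfl
  let z : P ⟶ T'' := Over.homMk (Limits.pullback.snd u.left q.left) (by
    show Limits.pullback.snd u.left q.left ≫ T''.hom = Limits.pullback.fst u.left q.left ≫ X.hom
    rw [← Over.w u, ← Over.w q, Limits.pullback.condition_assoc])
  have hpz : p ≫ u = z ≫ q := Over.OverMorphism.ext Limits.pullback.condition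
  have hcov : Groth.Agent.CoverMap.Covers p.left :=
    Groth.Agent.CoverMap.Covers.of_isPullback
      ⟨_, q.left, 𝟙 _, Scheme.fppfPrecoverage_le_fpqcPrecoverage _ (q.left.singleton_mem_fppfPrecoverage),
        Category.id_comp _⟩ (IsPullback.of_hasPullback u.left q.left)
  obtain ⟨v, hv⟩ := (hdp ((p ≫ x * (z ≫ t)⁻¹) ≫ i)).2 (by
    simp only [MonObj.mul_comp, GrpObj.inv_comp, Category.assoc]
    rw [← hu, ← hqw, reassoc_of% hpz, mul_inv_cancel])
  obtain ⟨w, hw⟩ := hTD P _ v hv.symm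
  have hc' : (w * z) ≫ t = p ≫ x := by rw [MonObj.mul_comp, hw, inv_mul_cancel_right]
  obtain ⟨x', hx', -⟩ := Groth.Agent.CoverMap.existsUnique_fac hcov (w * z) fun T₀ a b hab => by
    rw [← cancel_mono t, Category.assoc, Category.assoc, hc', reassoc_of% hab]
  haveI := Groth.Agent.CoverMap.epi_over hcov
  exact ⟨x', (cancel_epi p).1 (by rw [reassoc_of% hx', hc'])⟩

end Groth.Agent.S6114
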