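import Groth.Statements.S6115
import Groth.Agent.Corad.Subgrp
import Groth.Agent.S0114
import Groth.Agent.Bootstrap.Tools
-- import your own Groth.Agent.* helpers here

set_option backward.isDefEq.respectTransparency false
set_option linter.style.haveILetI false
set_option synthInstance.maxHeartbeats 400000
set_option maxHeartbeats 1000000

set_option autoImplicit false
open CategoryTheory MonoidalCategory CartesianMonoidalCategory MonObj GrpObj AlgebraicGeometry
universe u
open RedSub

namespace Groth.Agent.S6115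

/-- The identification G/H ≅ T/(T ∩ H): let G be a reductive S-group with derived group d : D ⟶ G, k : H
⟶ G a sub-group-scheme containing D, smooth over S with connected fibres, T a maximal torus of G, T'
= T ∩ H (a fibre product) and q : G ⟶ Q the fppf quotient of G by H. Then T ⟶ G ⟶ Q exhibits Q as
the fppf quotient of T by T ∩ H. -/
theorem result {S : Scheme.{u}} {G D H T T' Q : Over S}
    [GrpObj G] [GrpObj D] [GrpObj H] [GrpObj T] [GrpObj T'] (hG : Red.IsReductive G) (d : D ⟶ G) [IsMonHom d]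
    (hker : ∃ (C : Over S) (_ : GrpObj C) (f₀ : G ⟶ C), IsMonHom f₀ ∧ (∀ (X : Over S) (a b : X ⟶ C), a * b = b * a) ∧
      AlgGrp.IsKernel d f₀)
    (hkill : RedSub.KilledByCommutative d)
    (k : H ⟶ G) (hH : RedSub.IsSubgrp k) (e : D ⟶ H) [IsMonHom e] (hDH : e ≫ k = d) [Smooth H.hom]
    (hconn : RedSub.HasConnectedFibres H) (i : T ⟶ G) (hT : Red.IsMaximalTorus i)
    (a : T' ⟶ T) (b : T' ⟶ H) [IsMonHom a] [IsMonHom b] (hsq : IsPullback a b i k)
    (q : G ⟶ Q) (hq : RedSub.IsQuotient k q) :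
    RedSub.IsQuotient a (i ≫ q) := by
  obtain ⟨C, _, f₀, hc⟩ := Groth.Agent.Corad.exists_corad_of_ker hG d hker hkill
  haveI := hc.hf; haveI := hT.1; haveI := hc.affine; haveI := hH.1; haveI := Groth.Agent.Corad.mono_of_subgrp hH
  haveI := hc.smooth; haveI := hc.surj
  haveI : Smooth C.hom := Groth.Agent.MTImage.smooth_torus hc.torus
  haveI : Smooth T.hom := Groth.Agent.MTImage.smooth_torus hT.2.2.1
  haveI : IsAffineHom T.hom := Groth.Agent.MTBridge.isAffineHom _ (Groth.Agent.MTBridge.isMultTypeFT_of_isTorus _ hT.2.2.1)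
  obtain ⟨hdm, hdp⟩ := Groth.Agent.Corad.kernel_pts hc.ker
  haveI := hdm
  haveI := hq.1; haveI := hq.2.1; haveI := hq.2.2.1
  haveI : Flat f₀.left := inferInstance
  haveI : LocallyOfFinitePresentation f₀.left := inferInstance
  have hμ : (G ◁ k) ≫ μ[G] = fst G H * (snd G H ≫ k) := by
    rw [Hom.mul_def]
    congr 1
  have hsqq := hq.2.2.2
  rw [hμ] at hsqq
  obtain ⟨qb, hqb, -⟩ := Groth.Agent.CoverMap.existsUnique_fac
    (f := f₀) ⟨_, f₀.left, 𝟙 _, Scheme.fppfPrecoverage_le_fpqcPrecoverage _ (f₀.left.singleton_mem_fppfPrecoverage),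
      Category.id_comp _⟩ q fun X x y hxy => by
    obtain ⟨z, hz⟩ := (hdp (x⁻¹ * y)).2 (by rw [MonObj.mul_comp, GrpObj.inv_comp, hxy, inv_mul_cancel])
    have h2 := congrArg (lift x (z ≫ e) ≫ ·) hsqq.w
    simp only [MonObj.comp_mul, MonObj.mul_comp, ← Category.assoc, lift_fst, lift_snd] at h2
    rw [Category.assoc z e k, hDH, hz, mul_inv_cancel_left] at h2
    exact h2
  haveI : Surjective (f₀.left ≫ qb.left) := by rw [← Over.comp_left, hqb]; infer_instance
  haveI : Flat (f₀.left ≫ qb.left) := by rw [← Over.comp_left, hqb]; infer_instance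
  haveI : LocallyOfFinitePresentation (f₀.left ≫ qb.left) := by rw [← Over.comp_left, hqb]; infer_instance
  haveI : Surjective qb.left := Surjective.of_comp f₀.left _
  haveI : Flat qb.left := Groth.Agent.Bootstrap.flat_of_comp f₀.left _
  haveI : LocallyOfFinitePresentation qb.left := Groth.Agent.S0114.result f₀.left qb.left
  haveI := Groth.Agent.Corad.surjective_torus hG hc i hT
  haveI : Flat (i ≫ f₀).left := Groth.Agent.MTImage.flat_hom (i ≫ f₀)
  haveI : LocallyOfFinitePresentation ((i ≫ f₀).left ≫ C.hom) := by rw [Over.w]; infer_instance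
  haveI : LocallyOfFinitePresentation (i ≫ f₀).left := Groth.Agent.LimDesc.lfp_of_comp _ C.hom
  have hiq : (i ≫ q).left = (i ≫ f₀).left ≫ qb.left := by rw [← Over.comp_left, Category.assoc, hqb]
  refine ⟨by rw [hiq]; infer_instance, by rw [hiq]; infer_instance, by rw [hiq]; infer_instance, ?_⟩
  have hμT : (T ◁ a) ≫ μ[T] = fst T T' * (snd T T' ≫ a) := by
    rw [Hom.mul_def]
    congr 1
  rw [hμT]
  have hw : fst T T' ≫ i ≫ q = (fst T T' * (snd T T' ≫ a)) ≫ i ≫ q := by
    have h2 := congrArg (lift (fst T T' ≫ i) (snd T T' ≫ b) ≫ ·) hsqq.w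
    simp only [MonObj.comp_mul, ← Category.assoc, lift_fst, lift_snd] at h2
    rw [Category.assoc (snd T T') b k, ← hsq.w, ← Category.assoc, ← MonObj.mul_comp, Category.assoc,
      Category.assoc] at h2
    exact h2
  have hex : ∀ t : Limits.PullbackCone (i ≫ q) (i ≫ q), ∃ h : t.pt ⟶ H, (t.fst ≫ i) * (h ≫ k) = t.snd ≫ i := fun t => by
    refine ⟨hsqq.lift (t.fst ≫ i) (t.snd ≫ i) (by rw [Category.assoc, Category.assoc]; exact t.condition) ≫ snd G H, ?_⟩
    have h2 := hsqq.lift_snd (t.fst ≫ i) (t.snd ≫ i) (by rw [Category.assoc, Category.assoc]; exact t.condition)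
    rw [MonObj.comp_mul, hsqq.lift_fst, ← Category.assoc] at h2
    exact h2
  choose y hy using hex
  have hi : ∀ t : Limits.PullbackCone (i ≫ q) (i ≫ q), (t.fst⁻¹ * t.snd) ≫ i = y t ≫ k := fun t => by
    rw [MonObj.mul_comp, GrpObj.inv_comp, ← hy t, inv_mul_cancel_left]
  refine ⟨⟨hw⟩, ⟨Limits.PullbackCone.IsLimit.mk _ (fun t => lift t.fst (hsq.lift _ _ (hi t)))
    (fun t => lift_fst _ _) (fun t => ?_) fun t g hg1 hg2 => ?_⟩⟩
  · rw [MonObj.comp_mul, lift_fst, lift_snd_assoc, hsq.lift_fst, mul_inv_cancel_left]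
  · haveI := hT.2.1
    haveI : Mono a := Limits.PullbackCone.mono_fst_of_is_pullback_of_mono hsq.isLimit
    apply CartesianMonoidalCategory.hom_ext
    · rw [lift_fst, hg1]
    · rw [lift_snd, ← cancel_mono a, hsq.lift_fst, Category.assoc, ← hg2, ← hg1, MonObj.comp_mul,
        inv_mul_cancel_left]

end Groth.Agent.S6115
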