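import Groth.Statements.S6117
import Groth.Agent.Corad.Semisimple
-- import your own Groth.Agent.* helpers here

set_option backward.isDefEq.respectTransparency false
set_option linter.style.haveILetI false
set_option synthInstance.maxHeartbeats 400000
set_option maxHeartbeats 1000000

set_option autoImplicit false
open CategoryTheory MonoidalCategory CartesianMonoidalCategory MonObj GrpObj AlgebraicGeometry
universe u
open RedSub

namespace Groth.Agent.S6117

/-- Let G be a reductive S-group with derived group d : D ⟶ G, centre Z and radical R = rad(G) (a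
maximal torus of Z). Then G is the product of a semisimple S-group and an S-torus (through two
homomorphisms p₁ : G ⟶ G₁, p₂ : G ⟶ G₂ with (p₁, p₂) an isomorphism) if and only if rad(G) ∩ dér(G)
= e. -/
theorem result {S : Scheme.{u}} {G D Z R : Over S}
    [GrpObj G] [GrpObj D] [GrpObj Z] [GrpObj R] (hG : Red.IsReductive G) (d : D ⟶ G) [IsMonHom d]
    (hker : ∃ (C : Over S) (_ : GrpObj C) (f₀ : G ⟶ C), IsMonHom f₀ ∧ (∀ (X : Over S) (a b : X ⟶ C), a * b = b * a) ∧
      AlgGrp.IsKernel d f₀)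
    (hkill : RedSub.KilledByCommutative d) (j : Z ⟶ G) (hZ : Red.IsCentre j) (r : R ⟶ Z) (hR : Red.IsMaximalTorus r) :
    (∃ (G₁ G₂ : Over S) (_ : GrpObj G₁) (_ : GrpObj G₂) (p₁ : G ⟶ G₁) (p₂ : G ⟶ G₂), IsMonHom p₁ ∧ IsMonHom p₂ ∧
        Red.IsSemisimple G₁ ∧ Red.IsTorus G₂ ∧ IsIso (lift p₁ p₂)) ↔
      ∀ (X : Over S) (x : X ⟶ R) (y : X ⟶ D), x ≫ r ≫ j = y ≫ d → x = 1 := by
  obtain ⟨C, _, f₀, h⟩ := Groth.Agent.Corad.exists_corad_of_ker hG d hker hkill
  haveI := h.hf
  haveI := hZ.1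
  haveI := hR.1
  haveI := Groth.Agent.Corad.mono_radical hG h j hZ r hR
  refine ⟨?_, fun hI => ?_⟩
  · rintro ⟨G₁, G₂, _, _, p₁, p₂, hp₁, hp₂, hss, hT, hiso⟩ X x y hxy
    haveI := hp₁
    haveI := hp₂
    haveI := hiso
    have hG₁ : Red.IsReductive G₁ := ⟨hss.1, hss.2.1, fun s => (hss.2.2 s).1⟩
    obtain ⟨Z₁, gZ₁, z₁, hz₁, -, hm₁⟩ := Groth.Agent.RedCartan.exists_centre_of_isReductive hG₁
    letI := gZ₁
    haveI := hz₁.1
    haveI := hz₁.2.1
    haveI := Groth.Agent.Corad.isFinite_centre hss z₁ hz₁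
    haveI := Groth.Agent.MTBridge.locallyOfFinitePresentation_of_isMultTypeFT Z₁ hm₁
    obtain ⟨u, hu⟩ := (hz₁.2.2 R (r ≫ j ≫ p₁)).2 fun X' a g => by
      rw [Category.comp_id]
      let g' : X' ⟶ G := lift g (1 : X' ⟶ G₂) ≫ inv (lift p₁ p₂)
      have hg' : g' ≫ p₁ = g := by
        have : g' ≫ lift p₁ p₂ = lift g 1 := (Category.assoc _ _ _).trans ((congrArg _ (IsIso.inv_hom_id _)).trans (Category.comp_id _))
        have h2 := congrArg (fun m => m ≫ fst G₁ G₂) this
        simpa using h2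
      have h1 := (hZ.2.2 R (r ≫ j)).1 ⟨r, rfl⟩ X' a g'
      rw [Category.comp_id] at h1
      have h2 := congrArg (fun m => m ≫ p₁) h1
      simpa only [MonObj.mul_comp, Category.assoc, hg'] using h2
    haveI : IsMonHom u := Groth.Agent.MTSplit.isMonHom_of_comp_mono u z₁ (r ≫ j ≫ p₁) hu
    have hu1 : u = 1 := Groth.Agent.Corad.eq_one_of_finite hR.2.2.1 u
    have e1 : (x ≫ r ≫ j) ≫ p₁ = 1 := by
      rw [Category.assoc, Category.assoc, ← hu, hu1, MonObj.one_comp, MonObj.comp_one]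
    have e2 : (x ≫ r ≫ j) ≫ p₂ = 1 := by
      rw [hxy, Category.assoc, hkill G₂ p₂ fun X a b => Groth.Agent.RedR1.mul_comm_torus hT a b, MonObj.comp_one]
    have e3 : (x ≫ r ≫ j) ≫ lift p₁ p₂ = (1 : X ⟶ G) ≫ lift p₁ p₂ := by
      apply CartesianMonoidalCategory.hom_ext
      · simp only [Category.assoc, lift_fst]
        rw [MonObj.one_comp]
        simpa only [Category.assoc] using e1
      · simp only [Category.assoc, lift_snd]
        rw [MonObj.one_comp]
        simpa only [Category.assoc] using e2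
    rw [← cancel_mono (r ≫ j), (cancel_mono (lift p₁ p₂)).1 e3, MonObj.one_comp]
  · obtain ⟨h1, h2, -⟩ := Groth.Agent.Corad.isogeny_radical hG h j hZ r hR
    haveI := Groth.Agent.Corad.lfp_radical hG h j hZ r hR
    rw [← Category.assoc] at h1 h2
    haveI := h1
    haveI := h2
    haveI hiso := (Groth.Agent.Corad.isIso_mul_iff d f₀ h.ker (r ≫ j)).2 hI
    haveI : IsMonHom (((r ≫ j) ⊗ₘ d) ≫ μ[G]) := Groth.Agent.MTBridge.isMonHom_of_points _ fun X a b => by
      rw [Groth.Agent.Corad.mul_eq]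
      simp only [MonObj.comp_mul, MonObj.mul_comp]
      have hc := (hZ.2.2 X (b ≫ fst R D ≫ r ≫ j)).1
        ⟨b ≫ fst R D ≫ r, by simp only [Category.assoc]⟩ X (𝟙 X) (a ≫ snd R D ≫ d)
      rw [Category.id_comp, Category.comp_id] at hc
      simp only [← Category.assoc, MonObj.mul_comp] at hc ⊢
      rw [_root_.mul_assoc, _root_.mul_assoc]
      congr 1
      rw [← _root_.mul_assoc, ← _root_.mul_assoc, hc]
    let m : R ⊗ D ⟶ G := ((r ≫ j) ⊗ₘ d) ≫ μ[G]
    haveI : IsIso m := hiso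
    have hinv : ∀ {X : Over S} (a b : X ⟶ G), (a * b) ≫ inv m = (a ≫ inv m) * (b ≫ inv m) := fun {X} a b => by
      rw [← cancel_mono m, Category.assoc, IsIso.inv_hom_id, Category.comp_id, MonObj.mul_comp, Category.assoc,
        Category.assoc, IsIso.inv_hom_id, Category.comp_id, Category.comp_id]
    refine ⟨D, R, inferInstance, inferInstance, inv m ≫ snd R D, inv m ≫ fst R D,
      Groth.Agent.MTBridge.isMonHom_of_points _ fun X a b => ?_, Groth.Agent.MTBridge.isMonHom_of_points _ fun X a b => ?_,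
      Groth.Agent.Corad.isSemisimple_derived hG h, hR.2.2.1, ?_⟩
    · have e : (a * b) ≫ inv m = (a ≫ inv m) * (b ≫ inv m) := (hinv a b)
      rw [← Category.assoc, e, MonObj.mul_comp, Category.assoc, Category.assoc]
    · have e : (a * b) ≫ inv m = (a ≫ inv m) * (b ≫ inv m) := (hinv a b)
      rw [← Category.assoc, e, MonObj.mul_comp, Category.assoc, Category.assoc]
    rw [show lift (inv m ≫ snd R D) (inv m ≫ fst R D) = inv m ≫ (β_ R D).hom from
      CartesianMonoidalCategory.hom_ext _ _ (by simp) (by simp)]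
    infer_instance

end Groth.Agent.S6117
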