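import Groth.Statements.S6120
import Mathlib

set_option autoImplicit false
open CategoryTheory CategoryTheory.Limits Opposite
universe w v₁ v₂ u₁ u₂
open SGA4

namespace Groth.Agent.S6120

/-- Let `I` be a category with a family of objects `i α` (`α : A`) such that every binary product `i α ⨯
i β` exists in `I` and every object of `I` admits a morphism to some `i α`. Let `F : Iᵒᵖ ⥤ C` be a
functor, and assume that `C` has equalizers and that the products `∏ F (i α)` and `∏ F (i α ⨯ i β)`
exist in `C`. Then the limit of `F` exists, the canonical map `lim F ⟶ ∏ F (i α)` is a monomorphism,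
and a map `t : T ⟶ ∏ F (i α)` factors through `lim F` exactly when its composites with the two maps
`∏ F (i α) ⇉ ∏ F (i α ⨯ i β)` induced by the two projections agree: `lim F` is the equalizer of that
pair. (The published statement assumes that `C` has all limits of the size of `A`; only equalizers
and the two products named are assumed here, which is what the equalizer construction uses.) -/
theorem result
    {I : Type u₁} [Category.{v₁} I] {C : Type u₂} [Category.{v₂} C] {A : Type w} (i : A → I)
    [∀ α β, HasBinaryProduct (i α) (i β)]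
    (hcov : ∀ j : I, ∃ α, Nonempty (j ⟶ i α))
    (F : Iᵒᵖ ⥤ C) [HasEqualizers C]
    [HasProduct (fun α => F.obj (op (i α)))]
    [HasProduct (fun p : A × A => F.obj (op (i p.1 ⨯ i p.2)))] :
    HasLimit F ∧ ∀ [HasLimit F],
      Mono (Pi.lift (fun α => limit.π F (op (i α)))) ∧
      ∀ (T : C) (t : T ⟶ ∏ᶜ (fun α => F.obj (op (i α)))),
        (∃ s : T ⟶ limit F, s ≫ Pi.lift (fun α => limit.π F (op (i α))) = t) ↔
        t ≫ Pi.lift (fun p : A × A =>
            Pi.π (fun α => F.obj (op (i α))) p.1 ≫ F.map (prod.fst : i p.1 ⨯ i p.2 ⟶ i p.1).op) =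
        t ≫ Pi.lift (fun p : A × A =>
            Pi.π (fun α => F.obj (op (i α))) p.2 ≫ F.map (prod.snd : i p.1 ⨯ i p.2 ⟶ i p.2).op) := by
  choose σ hσ using hcov
  let φ := fun j => (hσ j).some
  let a := Pi.lift (fun p : A × A =>
            Pi.π (fun α => F.obj (op (i α))) p.1 ≫ F.map (prod.fst : i p.1 ⨯ i p.2 ⟶ i p.1).op)
  let b := Pi.lift (fun p : A × A =>
            Pi.π (fun α => F.obj (op (i α))) p.2 ≫ F.map (prod.snd : i p.1 ⨯ i p.2 ⟶ i p.2).op)
  have indep : ∀ {T : C} (t : T ⟶ ∏ᶜ (fun α => F.obj (op (i α)))), t ≫ a = t ≫ b →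
      ∀ {j : I} {α β : A} (f : j ⟶ i α) (g : j ⟶ i β),
        t ≫ Pi.π _ α ≫ F.map f.op = t ≫ Pi.π _ β ≫ F.map g.op := by
    intro T t ht j α β f g
    have h := congrArg (fun m => m ≫ Pi.π (fun p : A × A => F.obj (op (i p.1 ⨯ i p.2))) (α, β) ≫
      F.map (prod.lift f g).op) ht
    simp only [a, b, Category.assoc, Pi.lift_π_assoc, ← F.map_comp, ← op_comp, prod.lift_fst, prod.lift_snd] at h
    exact h
  let mkC : ∀ {T : C} (t : T ⟶ ∏ᶜ (fun α => F.obj (op (i α)))), t ≫ a = t ≫ b → Cone F := fun {T} t ht =>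
    { pt := T
      π := { app := fun j => t ≫ Pi.π _ (σ j.unop) ≫ F.map (φ j.unop).op
             naturality := fun j k h => by
               dsimp
               rw [Category.id_comp, Category.assoc, Category.assoc, ← F.map_comp]
               exact indep t ht (φ k.unop) (h.unop ≫ φ j.unop) } }
  have hmk : ∀ {T : C} (t : T ⟶ ∏ᶜ (fun α => F.obj (op (i α)))) (ht : t ≫ a = t ≫ b) (α : A),
      (mkC t ht).π.app (op (i α)) = t ≫ Pi.π _ α := by
    intro T t ht α
    change t ≫ Pi.π _ (σ (i α)) ≫ F.map (φ (i α)).op = _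
    rw [indep t ht (φ (i α)) (𝟙 (i α)), op_id, F.map_id, Category.comp_id]
  have hcone : ∀ s : Cone F, Pi.lift (fun α => s.π.app (op (i α))) ≫ a = Pi.lift (fun α => s.π.app (op (i α))) ≫ b := by
    intro s
    ext p
    simp [a, b]
  let L := mkC (equalizer.ι a b) (equalizer.condition a b)
  have hL : IsLimit L :=
    { lift := fun s => equalizer.lift (Pi.lift (fun α => s.π.app (op (i α)))) (hcone s)
      fac := fun s j => by
        change equalizer.lift _ (hcone s) ≫ equalizer.ι a b ≫ _ = _
        rw [equalizer.lift_ι_assoc, Pi.lift_π_assoc, s.w]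
      uniq := fun s m hm => by
        refine equalizer.hom_ext ?_
        rw [equalizer.lift_ι]
        ext α
        rw [Pi.lift_π, Category.assoc, ← hmk (equalizer.ι a b) (equalizer.condition a b) α]
        exact hm _ }
  refine ⟨⟨⟨L, hL⟩⟩, @fun _ => ⟨⟨fun {Z} g h e => limit.hom_ext fun j => ?_⟩, fun T t => ⟨?_, fun ht => ?_⟩⟩⟩
  · rw [← limit.w F (φ j.unop).op]
    have h' := congrArg (fun m => m ≫ Pi.π _ (σ j.unop) ≫ F.map (φ j.unop).op) e
    simpa using h'
  · rintro ⟨s, rfl⟩
    ext p
    simp
  · refine ⟨limit.lift F (mkC t ht), ?_⟩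
    ext α
    rw [Category.assoc, Pi.lift_π, limit.lift_π, hmk t ht]

end Groth.Agent.S6120
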