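import Groth.Statements.S6121
import Mathlib

set_option autoImplicit false
open CategoryTheory
universe v₁ v₂ u₁ u₂
open SGA4

namespace Groth.Agent.S6121

/-- For a fibered functor `p : E ⥤ B` (every morphism of `B` has a cartesian lift with prescribed
codomain, and cartesian morphisms compose), `p` reflects isomorphisms if and only if every fibre
category of `p` (objects over `b`, morphisms lying over the identity of `b`) is a groupoid. -/
theorem result
    {B : Type u₁} [Category.{v₁} B] {E : Type u₂} [Category.{v₂} E] (p : E ⥤ B) [p.IsFibered] :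
    p.ReflectsIsomorphisms ↔ ∀ b : B, IsGroupoid (p.Fiber b) := by
  constructor
  · intro h b
    refine ⟨fun {x y} φ => ?_⟩
    obtain ⟨ψ, hψ⟩ := φ
    haveI := hψ
    haveI : IsIso (p.map ψ) := by
      rw [IsHomLift.fac' p (𝟙 b) ψ]
      infer_instance
    haveI : IsIso ψ := isIso_of_reflects_iso ψ p
    exact ⟨⟨inv ψ, IsHomLift.lift_id_inv_isIso p b ψ⟩,
      Functor.Fiber.hom_ext (IsIso.hom_inv_id ψ), Functor.Fiber.hom_ext (IsIso.inv_hom_id ψ)⟩
  · intro h
    refine ⟨fun {a c} f hf => ?_⟩
    let φ := Functor.IsPreFibered.pullbackMap (p := p) (rfl : p.obj c = p.obj c) (p.map f)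
    haveI : IsIso φ := Functor.IsStronglyCartesian.isIso_of_base_isIso p (p.map f) φ
    let χ := Functor.IsStronglyCartesian.map p (p.map f) φ (Category.id_comp (p.map f)).symm f
    haveI hχ : p.IsHomLift (𝟙 (p.obj a)) χ := Functor.IsStronglyCartesian.map_isHomLift p (p.map f) φ _ f
    haveI := h (p.obj a)
    haveI : IsIso (Functor.Fiber.homMk p (p.obj a) χ) := IsGroupoid.all_isIso _
    haveI : IsIso χ := inferInstanceAs (IsIso (Functor.Fiber.fiberInclusion.map (Functor.Fiber.homMk p (p.obj a) χ)))
    rw [← Functor.IsStronglyCartesian.fac p (p.map f) φ (Category.id_comp (p.map f)).symm f]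
    exact IsIso.comp_isIso' ‹IsIso χ› ‹IsIso φ›

end Groth.Agent.S6121
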