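import Groth.Statements.S6122
import Mathlib

set_option autoImplicit false
open CategoryTheory
universe v₁ v₂ u₁ u₂
open SGA4

namespace Groth.Agent.S6122

/-- For a fibered functor `p : E ⥤ B` (every morphism of `B` has a cartesian lift with prescribed
codomain, and cartesian morphisms compose), `p` is faithful if and only if every fibre category of
`p` (objects over `b`, morphisms lying over the identity of `b`) has at most one morphism between
any two objects. -/
theorem result
    {B : Type u₁} [Category.{v₁} B] {E : Type u₂} [Category.{v₂} E] (p : E ⥤ B) [p.IsFibered] :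
    p.Faithful ↔ ∀ (b : B) (x y : p.Fiber b), Subsingleton (x ⟶ y) := by
  constructor
  · intro h b x y
    refine ⟨fun α β => Functor.Fiber.hom_ext (h.map_injective ?_)⟩
    rw [IsHomLift.fac' p (𝟙 b) (Functor.Fiber.fiberInclusion.map α), IsHomLift.fac' p (𝟙 b) (Functor.Fiber.fiberInclusion.map β)]
  · intro h
    refine ⟨fun {a c} f g hfg => ?_⟩
    let φ := Functor.IsPreFibered.pullbackMap (p := p) (rfl : p.obj c = p.obj c) (p.map f)
    haveI : p.IsHomLift (p.map f) g := by rw [hfg]; infer_instance
    let χ := Functor.IsStronglyCartesian.map p (p.map f) φ (Category.id_comp (p.map f)).symm f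
    let χ' := Functor.IsStronglyCartesian.map p (p.map f) φ (Category.id_comp (p.map f)).symm g
    haveI hχ : p.IsHomLift (𝟙 (p.obj a)) χ := Functor.IsStronglyCartesian.map_isHomLift p (p.map f) φ _ f
    haveI hχ' : p.IsHomLift (𝟙 (p.obj a)) χ' := Functor.IsStronglyCartesian.map_isHomLift p (p.map f) φ _ g
    have he : χ = χ' := congrArg Functor.Fiber.fiberInclusion.map
      (Subsingleton.elim (h := h _ _ _) (Functor.Fiber.homMk p (p.obj a) χ) (Functor.Fiber.homMk p (p.obj a) χ'))
    rw [← Functor.IsStronglyCartesian.fac p (p.map f) φ (Category.id_comp (p.map f)).symm f,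
      ← Functor.IsStronglyCartesian.fac p (p.map f) φ (Category.id_comp (p.map f)).symm g]
    exact congrArg (· ≫ φ) he

end Groth.Agent.S6122
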