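import Groth.Statements.S6126
import Mathlib

set_option autoImplicit false
open CategoryTheory CategoryTheory.Limits
universe v₁ u₁
open SGA4

namespace Groth.Agent.S6126

/-- Let `E` be a category with `v₁`-small hom-sets admitting a separating family of objects `G t`
indexed by a `v₁`-small type, in which every object admits a monomorphism into an injective object.
Assume that each coproduct `G t ⨿ G t` exists and that every morphism out of `G t ⨿ G t` factors as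
an effective epimorphism followed by a monomorphism. Then `E` admits a coseparating family of
injective objects indexed by a `v₁`-small type. (The published statement moreover bounds the size of
this family in terms of the hom-sets `Hom (G t', G t ⨿ G t)`; only existence is stated here. The
published statement speaks of generating and cogenerating families; its proof uses and produces
joint faithfulness of maps out of, resp. into, the family, which is the sense taken here.) -/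
theorem result
    {E : Type u₁} [Category.{v₁} E] {ι : Type v₁} (G : ι → E)
    (hG : (ObjectProperty.ofObj G).IsSeparating)
    [EnoughInjectives E] [∀ t, HasBinaryCoproduct (G t) (G t)]
    (hfac : ∀ (t : ι) (X : E) (f : G t ⨿ G t ⟶ X),
      ∃ (Y : E) (e : G t ⨿ G t ⟶ Y) (m : Y ⟶ X), EffectiveEpi e ∧ Mono m ∧ e ≫ m = f) :
    ∃ (κ : Type v₁) (H : κ → E),
      (∀ k, Injective (H k)) ∧ (ObjectProperty.ofObj H).IsCoseparating := by
  classical
  let Rel : ∀ (t : ι) {Y : E}, (G t ⨿ G t ⟶ Y) → Set (Σ s : ι, (G s ⟶ G t ⨿ G t) × (G s ⟶ G t ⨿ G t)) :=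
    fun t _ e => {p | p.2.1 ≫ e = p.2.2 ≫ e}
  let κ : Type v₁ := { k : Σ t : ι, Set (Σ s : ι, (G s ⟶ G t ⨿ G t) × (G s ⟶ G t ⨿ G t)) //
    ∃ (Y : E) (e : G k.1 ⨿ G k.1 ⟶ Y), EffectiveEpi e ∧ Rel k.1 e = k.2 }
  choose Y e he hR using fun k : κ => k.2
  refine ⟨κ, fun k => Injective.under (Y k), fun k => inferInstance, fun X W f g hfg => ?_⟩
  refine hG f g ?_
  rintro _ ⟨t⟩ a
  obtain ⟨Y₁, e₁, m, he₁, hm, hem⟩ := hfac t W (coprod.desc (a ≫ f) (a ≫ g))
  let k : κ := ⟨⟨t, Rel t e₁⟩, Y₁, e₁, he₁, rfl⟩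
  have hk : ∀ {Z : E} (g₁ g₂ : Z ⟶ G t ⨿ G t), g₁ ≫ e₁ = g₂ ≫ e₁ → g₁ ≫ e k = g₂ ≫ e k := by
    intro Z g₁ g₂ h
    refine hG _ _ ?_
    rintro _ ⟨s⟩ b
    have hmem : (⟨s, b ≫ g₁, b ≫ g₂⟩ : Σ s : ι, (G s ⟶ G t ⨿ G t) × (G s ⟶ G t ⨿ G t)) ∈ Rel t e₁ := by
      change (b ≫ g₁) ≫ e₁ = (b ≫ g₂) ≫ e₁
      rw [Category.assoc, h, Category.assoc]
    have h2 : (b ≫ g₁) ≫ e k = (b ≫ g₂) ≫ e k := (hR k).symm.le hmem
    rwa [Category.assoc, Category.assoc] at h2
  have hk' : ∀ {Z : E} (g₁ g₂ : Z ⟶ G t ⨿ G t), g₁ ≫ e k = g₂ ≫ e k → g₁ ≫ e₁ = g₂ ≫ e₁ := by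
    intro Z g₁ g₂ h
    refine hG _ _ ?_
    rintro _ ⟨s⟩ b
    have hmem : (⟨s, b ≫ g₁, b ≫ g₂⟩ : Σ s : ι, (G s ⟶ G t ⨿ G t) × (G s ⟶ G t ⨿ G t)) ∈ Rel t (e k) := by
      change (b ≫ g₁) ≫ e k = (b ≫ g₂) ≫ e k
      rw [Category.assoc, h, Category.assoc]
    have h2 : (b ≫ g₁) ≫ e₁ = (b ≫ g₂) ≫ e₁ := (hR k).le hmem
    rwa [Category.assoc, Category.assoc] at h2
  haveI := he k
  haveI := hm
  let d : Y₁ ⟶ Y k := EffectiveEpi.desc e₁ (e k) hk
  let d' : Y k ⟶ Y₁ := EffectiveEpi.desc (e k) e₁ hk'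
  have hdd : d ≫ d' = 𝟙 Y₁ := by
    rw [← cancel_epi e₁, EffectiveEpi.fac_assoc, EffectiveEpi.fac, Category.comp_id]
  haveI : Mono (d ≫ Injective.ι (Y k)) := by
    haveI : Mono d := mono_of_mono_fac hdd
    infer_instance
  obtain ⟨q, hq⟩ := Injective.factors (d ≫ Injective.ι (Y k)) m
  have h1 : e₁ ≫ m ≫ q = e k ≫ Injective.ι (Y k) := by rw [hq, EffectiveEpi.fac_assoc]
  have hq' : (a ≫ f) ≫ q = (a ≫ g) ≫ q := by
    rw [Category.assoc, Category.assoc, hfg _ ⟨k⟩ q]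
  rw [← coprod.inl_desc (a ≫ f) (a ≫ g), ← hem] at hq'
  conv_rhs at hq' => rw [← coprod.inr_desc (a ≫ f) (a ≫ g), ← hem]
  rw [Category.assoc, Category.assoc, Category.assoc, Category.assoc, h1, ← Category.assoc, ← Category.assoc,
    cancel_mono] at hq'
  have h2 := hk' _ _ hq'
  rw [← coprod.inl_desc (a ≫ f) (a ≫ g), ← hem]
  conv_rhs => rw [← coprod.inr_desc (a ≫ f) (a ≫ g), ← hem]
  rw [← Category.assoc, h2, Category.assoc]

end Groth.Agent.S6126
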