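import Groth.Statements.S6137
import Mathlib

set_option autoImplicit false
open CategoryTheory CategoryTheory.Limits
universe v u
open SGA4

namespace Groth.Agent.S6137

/-- Let `C` be a category with `v`-small hom-sets admitting all `v`-small limits, and `F : C ⥤ Type v` a
functor. Then `F` is corepresentable if and only if it is pro-representable (viewed as a presheaf on
`Cᵒᵖ` it is an ind-object, i.e. a small filtered colimit of corepresentable functors) and preserves
all `v`-small limits. -/
theorem result
    {C : Type u} [Category.{v} C] [HasLimitsOfSize.{v, v} C] (F : C ⥤ Type v) :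
    F.IsCorepresentable ↔
      IsIndObject (unopUnop C ⋙ F) ∧ PreservesLimitsOfSize.{v, v} F := by
  constructor
  · intro hF
    refine ⟨IsIndObject.map (A := yoneda.obj (Opposite.op F.coreprX))
      (NatIso.ofComponents (fun Y => ((Equiv.toIso (opEquiv _ _)) ≪≫ F.coreprW.app Y.unop.unop)) (fun {Y Z} g => ?_)).hom
      (isIndObject_yoneda _), ?_⟩
    · ext (a : Y.unop ⟶ Opposite.op F.coreprX)
      exact NatTrans.naturality_apply F.coreprW.hom g.unop.unop a.unop
    · exact preservesLimits_of_natIso F.coreprW
  · rintro ⟨hi, hp⟩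
    let P := hi.presentation
    have hB : ∀ A : F.Elements, ∃ i : P.I, Nonempty ((Functor.elementsMk F (P.F.obj i).unop ((P.ι.app i).app (Opposite.op (P.F.obj i)) (𝟙 _))) ⟶ A) := by
      intro A
      obtain ⟨i, g, hg⟩ := Types.jointly_surjective_of_isColimit
        (isColimitOfPreserves ((evaluation (Cᵒᵖ)ᵒᵖ (Type v)).obj (Opposite.op (Opposite.op A.fst))) P.isColimit) A.snd
      refine ⟨i, ⟨CategoryOfElements.homMk _ _ (g : Opposite.op A.fst ⟶ P.F.obj i).unop ?_⟩⟩
      refine Eq.trans ?_ hg
      have := NatTrans.naturality_apply (P.ι.app i : yoneda.obj (P.F.obj i) ⟶ unopUnop C ⋙ F) (g : Opposite.op A.fst ⟶ P.F.obj i).op (show (yoneda.obj (P.F.obj i)).obj (Opposite.op (P.F.obj i)) from 𝟙 (P.F.obj i))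
      exact this.symm.trans (congrArg _ (Category.comp_id (g : Opposite.op A.fst ⟶ P.F.obj i)))
    haveI : HasProducts.{v} F.Elements := fun J => inferInstance
    haveI : HasWideEqualizers.{v} F.Elements := fun J => inferInstance
    obtain ⟨T, hT⟩ := has_weakly_initial_of_weakly_initial_set_and_hasProducts hB
    haveI := hasInitial_of_weakly_initial_and_hasWideEqualizers hT
    exact Functor.Elements.isCorepresentable_of_hasInitial F

end Groth.Agent.S6137
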