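import Groth.Statements.S6139
import Mathlib

set_option autoImplicit false
open CategoryTheory CategoryTheory.Limits
universe v u
open SGA4

namespace Groth.Agent.S6139

/-- For an object `X` of a category `C`, the empty sieve on `X` is covering for the canonical topology
of `C` (the finest topology for which every representable presheaf is a sheaf) if and only if `X` is
a strict initial object: `X` is initial and every morphism with target `X` is an isomorphism. (The
source phrases the first condition as: for some topology coarser than the canonical one the
associated sheaf of `h_X` is initial; that sheaf is initial exactly when the empty sieve covers `X`,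
and coverage by the empty sieve passes to the finer canonical topology.) -/
theorem result
    {C : Type u} [Category.{v} C] (X : C) :
    (⊥ : Sieve X) ∈ Sheaf.canonicalTopology C X ↔
      (Nonempty (IsInitial X) ∧ ∀ (Y : C) (f : Y ⟶ X), IsIso f) := by
  constructor
  · intro h
    have hini : ∀ (Y : C), (Y ⟶ X) → Nonempty (IsInitial Y) := fun Y f => by
      have hY : (⊥ : Sieve Y) ∈ Sheaf.canonicalTopology C Y := by
        convert (Sheaf.canonicalTopology C).pullback_stable f h
        ext
        simp
      choose x hx huniq using fun Z : C => Sheaf.isSheaf_yoneda_obj Z _ hY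
        (fun _ f hf => absurd hf (by simp)) (fun _ _ _ _ _ _ _ hf => absurd hf (by simp))
      exact ⟨IsInitial.ofUniqueHom x fun Z m => huniq Z m fun _ _ hf => absurd hf (by simp)⟩
    refine ⟨hini X (𝟙 X), fun Y f => ?_⟩
    obtain ⟨hY⟩ := hini Y f
    obtain ⟨hX⟩ := hini X (𝟙 X)
    exact ⟨hX.to Y, hY.hom_ext _ _, hX.hom_ext _ _⟩
  · rintro ⟨⟨hX⟩, hiso⟩
    refine Sheaf.mem_finestTopology_of_forall_isSheafFor ?_
    rintro _ ⟨Z, rfl⟩ Y f x hx
    haveI := hiso Y f
    refine ⟨f ≫ hX.to Z, fun W g hg => absurd hg (by simp), fun m _ => ?_⟩
    exact (cancel_epi (inv f)).1 (hX.hom_ext _ _)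

end Groth.Agent.S6139
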