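import Groth.Statements.S6141
import Mathlib.CategoryTheory.Adjunction.Triple
import Mathlib.CategoryTheory.Sites.CoverLifting
import Mathlib.CategoryTheory.Sites.Pullback

set_option autoImplicit false
set_option linter.style.haveILetI false

open CategoryTheory
universe u
open SGA4

namespace Groth.Agent.S6141

/-- Let `u : C ⥤ C'` be a functor between small sites which is continuous and cocontinuous. If `u` is
full and faithful, then the left adjoint `u_!` of the restriction functor `u^*` on sheaves of sets
is full and faithful. -/
theorem result
    {C : Type u} [SmallCategory C] {C' : Type u} [SmallCategory C']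
    (J : GrothendieckTopology C) (K : GrothendieckTopology C') (u : C ⥤ C')
    [u.IsContinuous J K] [u.IsCocontinuous J K] [u.Full] [u.Faithful] :
    (u.sheafPullback (Type u) J K).Full ∧ (u.sheafPullback (Type u) J K).Faithful := by
  let adj := u.sheafAdjunctionCocontinuous (Type u) J K
  haveI h2 : IsIso adj.counit := by
    haveI : ∀ F, IsIso (adj.counit.app F) := fun F => by
      haveI : IsIso ((sheafToPresheaf J (Type u)).map (adj.counit.app F)) := by
        show IsIso ((adj.counit.app F).hom)
        rw [Functor.sheafAdjunctionCocontinuous_counit_app_hom, Functor.ranAdjunction_counit]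
        haveI : ∀ X, IsIso ((u.op.ranCounit.app F.obj).app X) := fun X =>
          (u.op.isPointwiseRightKanExtensionRanCounit F.obj (u.op.obj X)).isIso_hom_app
        exact @NatIso.isIso_of_isIso_app _ _ _ _ _ _ _ this
      exact (fullyFaithfulSheafToPresheaf J (Type u)).isIso_of_isIso_map (adj.counit.app F)
    exact NatIso.isIso_of_isIso_app _
  let t : Adjunction.Triple (u.sheafPullback (Type u) J K) (u.sheafPushforwardContinuous (Type u) J K)
      (u.sheafPushforwardCocontinuous (Type u) J K) := ⟨u.sheafAdjunctionContinuous (Type u) J K, adj⟩
  haveI : IsIso t.adj₁.unit := t.isIso_unit_iff_isIso_counit.mpr h2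
  exact ⟨t.adj₁.fullyFaithfulLOfIsIsoUnit.full, t.adj₁.fullyFaithfulLOfIsIsoUnit.faithful⟩

end Groth.Agent.S6141
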