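import Groth.Statements.S6142
import Mathlib

set_option autoImplicit false
open CategoryTheory
universe u
open SGA4

namespace Groth.Agent.S6142

/-- Let `u : C ⥤ C'` be a continuous and cocontinuous functor between small sites whose topologies are
subcanonical. If the left adjoint `u_!` of the restriction functor `u^*` on sheaves of sets is full
and faithful, then `u` is full and faithful. -/
theorem result
    {C : Type u} [SmallCategory C] {C' : Type u} [SmallCategory C']
    (J : GrothendieckTopology C) (K : GrothendieckTopology C') [J.Subcanonical] [K.Subcanonical]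
    (u : C ⥤ C') [u.IsContinuous J K] [u.IsCocontinuous J K]
    (h : (u.sheafPullback (Type u) J K).Full ∧ (u.sheafPullback (Type u) J K).Faithful) :
    u.Full ∧ u.Faithful := by
  let adj := u.sheafAdjunctionContinuous (Type u) J K
  let p : ∀ X, (u.sheafPullback (Type u) J K).obj (J.yoneda.obj X) ⟶ K.yoneda.obj (u.obj X) := fun X =>
    (adj.homEquiv _ _).symm (J.yonedaEquiv.symm (𝟙 (u.obj X) : u.obj X ⟶ u.obj X))
  have hp : ∀ (X) (G : Sheaf K (Type u)) (a : K.yoneda.obj (u.obj X) ⟶ G),
      J.yonedaEquiv (adj.homEquiv _ _ (p X ≫ a)) = K.yonedaEquiv a := by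
    intro X G a
    simp only [p, Adjunction.homEquiv_naturality_right, Equiv.apply_symm_apply, GrothendieckTopology.yonedaEquiv_comp]
    rfl
  haveI : ∀ X, IsIso (p X) := fun X => isIso_of_coyoneda_map_bijective _ fun G => by
    have e : (fun a : K.yoneda.obj (u.obj X) ⟶ G => p X ≫ a) =
        fun a => (adj.homEquiv _ _).symm (J.yonedaEquiv.symm (K.yonedaEquiv a)) := funext fun a => by
      rw [← hp X G a]; simp
    rw [e]
    exact ((K.yonedaEquiv).trans ((J.yonedaEquiv).symm.trans (adj.homEquiv _ _).symm)).bijective
  have hn : ∀ {X Y} (f : X ⟶ Y), (u.sheafPullback (Type u) J K).map (J.yoneda.map f) ≫ p Y = p X ≫ K.yoneda.map (u.map f) := by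
    intro X Y f
    refine (adj.homEquiv _ _).injective (J.yonedaEquiv.injective ?_)
    rw [hp, GrothendieckTopology.yonedaEquiv_yoneda_map, Adjunction.homEquiv_naturality_left, ← GrothendieckTopology.yonedaEquiv_naturality]
    simp only [p, Equiv.apply_symm_apply]
    exact Category.comp_id _
  let e : u ⋙ K.yoneda ≅ J.yoneda ⋙ u.sheafPullback (Type u) J K :=
    (NatIso.ofComponents (fun X => asIso (p X)) (fun f => hn f)).symm
  haveI := h.1
  haveI := h.2
  haveI : (u ⋙ K.yoneda).Faithful := Functor.Faithful.of_iso e.symm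
  haveI : (u ⋙ K.yoneda).Full := Functor.Full.of_iso e.symm
  haveI : u.Faithful := Functor.Faithful.of_comp u K.yoneda
  exact ⟨Functor.Full.of_comp_faithful u K.yoneda, inferInstance⟩

end Groth.Agent.S6142
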