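import Groth.Statements.S6144
import Mathlib

set_option autoImplicit false
open CategoryTheory CategoryTheory.Limits
universe w v u
open SGA4

namespace Groth.Agent.S6144

/-- Let `E` be a category with `v`-small hom-sets and pullbacks, admitting a detecting family of objects
indexed by a `v`-small type (maps out of the family jointly reflect isomorphisms). Then every
detecting family `Y : I → E`, indexed by an arbitrary type, contains a detecting subfamily indexed
by a `v`-small subset of `I`. -/
theorem result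
    {E : Type u} [Category.{v} E] [HasPullbacks E] {κ : Type v} (G : κ → E)
    (hG : (ObjectProperty.ofObj G).IsDetecting) {I : Type w} (Y : I → E)
    (hY : (ObjectProperty.ofObj Y).IsDetecting) :
    ∃ J : Set I, Small.{v} J ∧ (ObjectProperty.ofObj (fun j : J => Y j)).IsDetecting := by
  classical
  let R : ∀ (k : κ) {A : E}, (A ⟶ G k) → Set (Σ k' : κ, G k' ⟶ G k) :=
    fun k _ m => {t | ∃ l, l ≫ m = t.2}
  let Idx : Type v := { q : Σ k : κ, Set (Σ k' : κ, G k' ⟶ G k) //
    ∃ (A : E) (m : A ⟶ G q.1), Mono m ∧ R q.1 m = q.2 ∧ ∃ (i : I) (h : Y i ⟶ G q.1), ∀ l, l ≫ m ≠ h }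
  choose A m hm hR i hi hne using fun q : Idx => q.2
  haveI : ∀ {A B : E} (f : A ⟶ B), Mono (pullback.diagonal f) := fun f => inferInstance
  have hmono : ∀ ⦃X Z : E⦄ (f : X ⟶ Z), Mono f →
      (∀ (j : Set.range i) (h : Y j.1 ⟶ Z), ∃ l, l ≫ f = h) → IsIso f := by
    intro X Z f hf hlift
    refine hG f ?_
    rintro _ ⟨k⟩ g
    suffices IsIso (pullback.fst g f) by
      refine ⟨inv (pullback.fst g f) ≫ pullback.snd g f, ?_, fun l hl => ?_⟩
      · change (inv (pullback.fst g f) ≫ pullback.snd g f) ≫ f = g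
        rw [Category.assoc, ← pullback.condition, IsIso.inv_hom_id_assoc]
      · rw [← cancel_mono f, hl, Category.assoc, ← pullback.condition, IsIso.inv_hom_id_assoc]
    refine hY _ ?_
    rintro _ ⟨i₀⟩ h₀
    by_contra hn
    have hn' : ∀ l, l ≫ pullback.fst g f ≠ h₀ := fun l hl => hn ⟨l, hl, fun l' hl' => by
      rw [← cancel_mono (pullback.fst g f), hl', hl]⟩
    let q : Idx := ⟨⟨k, R k (pullback.fst g f)⟩, _, pullback.fst g f, inferInstance, rfl, i₀, h₀, hn'⟩
    -- the chosen representative has the same image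
    haveI := hm q
    let s := pullback.fst (m q) (pullback.fst g f)
    haveI : IsIso s := by
      refine hG s ?_
      rintro _ ⟨k'⟩ t
      have hmem : (⟨k', t ≫ m q⟩ : Σ k' : κ, G k' ⟶ G k) ∈ R k (pullback.fst g f) :=
        (hR q).le ⟨t, rfl⟩
      obtain ⟨l, hl⟩ := hmem
      refine ⟨pullback.lift t l hl.symm, pullback.lift_fst _ _ _, fun l' hl' => ?_⟩
      rw [← cancel_mono s]
      exact hl'.trans (pullback.lift_fst _ _ _).symm
    obtain ⟨l, hl⟩ := hlift ⟨i q, q, rfl⟩ (hi q ≫ g)
    have hfst : pullback.lift (hi q) l hl.symm ≫ pullback.fst g f = hi q := pullback.lift_fst _ _ _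
    let s' := pullback.snd (m q) (pullback.fst g f)
    haveI : IsIso s' := by
      refine hG s' ?_
      rintro _ ⟨k'⟩ t
      have hmem : (⟨k', t ≫ pullback.fst g f⟩ : Σ k' : κ, G k' ⟶ G k) ∈ R k (m q) :=
        (hR q).ge ⟨t, rfl⟩
      obtain ⟨l, hl⟩ := hmem
      refine ⟨pullback.lift l t hl, pullback.lift_snd _ _ _, fun l' hl' => ?_⟩
      rw [← cancel_mono s']
      exact hl'.trans (pullback.lift_snd _ _ _).symm
    refine hne q (pullback.lift (hi q) l hl.symm ≫ inv s' ≫ s) ?_
    rw [Category.assoc, Category.assoc, pullback.condition, IsIso.inv_hom_id_assoc, hfst]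
  refine ⟨Set.range i, inferInstance, fun X Z f hf => ?_⟩
  haveI : IsIso (pullback.diagonal f) := by
    refine hmono _ inferInstance fun j h => ?_
    obtain ⟨l, -, huniq⟩ := hf _ ⟨j⟩ (h ≫ pullback.fst f f ≫ f)
    refine ⟨h ≫ pullback.fst f f, pullback.hom_ext (by simp) ?_⟩
    simp only [Category.assoc, pullback.diagonal_snd, Category.comp_id]
    exact (huniq (h ≫ pullback.fst f f) (Category.assoc _ _ _)).trans
      (huniq (h ≫ pullback.snd f f) (by simp [pullback.condition])).symm
  haveI : Mono f := (pullback.isIso_diagonal_iff f).1 inferInstance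
  exact hmono f inferInstance fun j h => (hf _ ⟨j⟩ h).exists

end Groth.Agent.S6144
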