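import Groth.Statements.S6162
import Groth.Agent.GrothSS.Ext
import Groth.Agent.SiteCoh.PushAcyclic

set_option autoImplicit false
universe u
open CategoryTheory
open CohSite

namespace Groth.Agent.S6162

open CategoryTheory.Limits in
/-- Existence form of the Leray spectral sequence; abelian sheaves on small sites: let u : D -> C be a
continuous functor between small sites whose pullback on sheaves of sets is exact (a morphism of
topoi), u_* M = M o u the direct image and R^q u_* its right derived functors. For an abelian sheaf
M on C and an object V of D there is an E_2 spectral sequence of abelian groups, bounded, with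
E_2^{p,q} isomorphic to H^p(V, R^q u_* M) for p, q >= 0 and zero otherwise, together with abutment
data whose filtrations are finite on H^n(u(V), M) (n >= 0; zero for n < 0). The E_2 identifications
and the abutment isomorphisms are asserted to exist only; they are not pinned to the canonical maps
of the construction, so edge maps and low-degree exact sequences are not part of this statement. -/
theorem result {C D : Type u} [SmallCategory C] [SmallCategory D]
    (J : GrothendieckTopology C) (K : GrothendieckTopology D) (u : D ⥤ C) [u.IsContinuous K J]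
    [PreservesFiniteLimits (u.sheafPullback (Type u) K J)] (M : Sheaf J AddCommGrpCat.{u}) (V : D) :
    ∃ (E : E₂CohomologicalSpectralSequence AddCommGrpCat.{u})
      (a : SpSeq.Abutment E (fun n : ℤ =>
        if 0 ≤ n then AddCommGrpCat.of (CohSite.HU M n.toNat (u.obj V)) else AddCommGrpCat.of PUnit.{u + 1})),
      (∀ n, a.IsFinite n) ∧ SpSeq.IsBounded E ∧
      ∀ p q : ℤ, Nonempty ((E.page 2 le_rfl).X (p, q) ≅
        (if 0 ≤ p ∧ 0 ≤ q then AddCommGrpCat.of (CohSite.HU ((CohSite.Rpush J K u q.toNat).obj M) p.toNat V)
         else AddCommGrpCat.of PUnit.{u + 1})) := by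
  let e : ∀ F : Sheaf J AddCommGrpCat.{u}, (CohCx.freeSheaf K V ⟶ (CohSite.push J K u).obj F) ≃+
      (CohCx.freeSheaf J (u.obj V) ⟶ F) := fun F =>
    (Groth.Agent.SiteCoh.secEquiv V _).trans (Groth.Agent.SiteCoh.secEquiv (u.obj V) F).symm
  refine Groth.Agent.GrothSS.exists_ext (CohSite.push J K u) (CohCx.freeSheaf K V)
    (CohCx.freeSheaf J (u.obj V)) e (fun {F G} f φ => ?_) (fun I _ q => inferInstance) M
    (fun n => AddCommGrpCat.of (CohSite.HU M n (u.obj V)))
    (fun p q => AddCommGrpCat.of (CohSite.HU ((CohSite.Rpush J K u q).obj M) p V))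
    (AddCommGrpCat.of PUnit.{u + 1}) (AddCommGrpCat.isZero_of_subsingleton _)
    (fun n => ⟨AddEquiv.refl _⟩) (fun p q => ⟨AddEquiv.refl _⟩)
  apply (Groth.Agent.SiteCoh.secEquiv (u.obj V) G).injective
  refine (AddEquiv.apply_symm_apply _ _).trans ?_
  exact ((Groth.Agent.SiteCoh.secEquiv_comp _ f).trans
    (congrArg (f.hom.app (Opposite.op (u.obj V))) (AddEquiv.apply_symm_apply _ _))).symm

end Groth.Agent.S6162
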