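import Groth.Statements.S6173
import Groth.Agent.Deligne.Points

set_option autoImplicit false
universe u
open CategoryTheory
open SGA4

set_option backward.isDefEq.respectTransparency false

namespace Groth.Agent.S6173

/-- Second assertion (topos of sheaves on a small site (C, J); E/X_i the induced topoi, modelled by the
sites (C/X_i, J/X_i); 'enough points' = a small conservative family of points, equivalently all
fibre functors together are conservative): if (X_i) is a family of objects covering the final object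
and every E/X_i has enough points, then E has enough points. (The first assertion, that E/X inherits
enough points from E, is Mathlib's instance.) -/
theorem result {C : Type u} [SmallCategory C] (J : GrothendieckTopology C) {ι : Type u}
    (X : ι → C) (hX : J.CoversTop X) (h : ∀ i, GrothendieckTopology.HasEnoughPoints.{u} (J.over (X i))) :
    GrothendieckTopology.HasEnoughPoints.{u} J := by
  choose P hPs hP using fun i => (h i).exists_objectProperty
  haveI : ∀ i, ObjectProperty.Small.{u} (P i) := hPs
  let Φ : (Σ i, Shrink.{u} (Subtype (P i))) → GrothendieckTopology.Point.{u} J := fun a =>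
    ((equivShrink (Subtype (P a.1))).symm a.2).1.map (Over.forget (X a.1)) J
  refine ⟨ObjectProperty.ofObj Φ, inferInstance, ?_⟩
  refine ObjectProperty.IsConservativeFamilyOfPoints.mk' fun Y S hS => ?_
  refine J.transitive (hX Y) S fun Z t ht => ?_
  obtain ⟨i, ⟨q⟩⟩ := ht
  obtain ⟨κ, V, g, hg⟩ := Sieve.exists_eq_ofArrows ((Sieve.overEquiv (Over.mk q)).symm (S.pullback t))
  suffices hmem : (Sieve.overEquiv (Over.mk q)).symm (S.pullback t) ∈ (J.over (X i)) (Over.mk q) by
    rw [GrothendieckTopology.mem_over_iff, OrderIso.apply_symm_apply] at hmem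
    exact hmem
  rw [hg, (hP i).jointly_reflect_ofArrows_mem_of_small]
  intro Ψ x
  let Ψ' : Subtype (P i) := ⟨Ψ.obj, Ψ.property⟩
  let a : Σ i, Shrink.{u} (Subtype (P i)) := ⟨i, equivShrink _ Ψ'⟩
  have ha : Φ a = Ψ.obj.map (Over.forget (X i)) J := by
    simp [Φ, a, Ψ']
  let p := CategoryOfElements.π Ψ.obj.fiber ⋙ Over.forget (X i)
  let u₀ : Ψ.obj.fiber.Elements := ⟨Over.mk q, x⟩
  obtain ⟨Y', b, hb, y, hy⟩ := hS ⟨Ψ.obj.map (Over.forget (X i)) J, ha ▸ ObjectProperty.ofObj_apply Φ a⟩
    (GrothendieckTopology.Point.ofIsCofiltered.fiberMk (p := p) (U := u₀) t)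
  obtain ⟨v, c, rfl⟩ := GrothendieckTopology.Point.ofIsCofiltered.fiberMk_jointly_surjective (p := p) y
  have hy' : GrothendieckTopology.Point.ofIsCofiltered.fiberMk (p := p) (c ≫ b) =
      GrothendieckTopology.Point.ofIsCofiltered.fiberMk (p := p) (U := u₀) t :=
    (GrothendieckTopology.Point.ofIsCofiltered.fiber_map_fiberMk p c b).symm.trans hy
  obtain ⟨w, α, β, -⟩ := IsCofilteredOrEmpty.cone_objs v u₀
  rw [← GrothendieckTopology.Point.ofIsCofiltered.fiberMk_map_comp p α,
    ← GrothendieckTopology.Point.ofIsCofiltered.fiberMk_map_comp p β] at hy'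
  obtain ⟨w', γ, hγ⟩ := GrothendieckTopology.Point.ofIsCofiltered.exists_of_fiberMk_eq_fiberMk hy'
  have hmem : ((Sieve.overEquiv (Over.mk q)).symm (S.pullback t)).arrows (γ ≫ β).1 := by
    rw [Sieve.overEquiv_symm_iff]
    show S ((γ ≫ β).1.left ≫ t)
    have e : (γ ≫ β).1.left ≫ t = (p.map γ ≫ p.map α ≫ c) ≫ b := by
      simp only [Category.assoc]
      rw [hγ, ← Category.assoc, ← Functor.map_comp]
      rfl
    rw [e]
    exact S.downward_closed hb _
  rw [hg] at hmem
  obtain ⟨_, d, _, ⟨k⟩, hd⟩ := hmem
  refine ⟨k, Ψ.obj.fiber.map d w'.2, ?_⟩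
  rw [← ConcreteCategory.comp_apply, ← Functor.map_comp, hd]
  exact (γ ≫ β).2

end Groth.Agent.S6173
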