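import Groth.Statements.S6176
import Mathlib

set_option autoImplicit false
universe u
open CategoryTheory
open SGA4

namespace Groth.Agent.S6176

open CategoryTheory.Limits in
/-- The clause on products (topos of sheaves of sets on a small site; j : E/U -> E the open embedding
defined by an open U, i.e. a subobject of the final object, so that j_! is the forgetful functor
from objects over U): j_! commutes with products indexed by a nonempty u-small set. (Commutation
with fibre products and cofiltered limits, the other clauses, holds for the forgetful functor of any
slice.) -/
theorem result {C : Type u} [SmallCategory C] (J : GrothendieckTopology C)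
    (U : Sheaf J (Type u)) (hU : SGA4.IsOpen U) (I : Type u) [Nonempty I] :
    PreservesLimitsOfShape (Discrete I) (Over.forget U) := by
  refine ⟨fun {K} => ⟨fun {c} hc => ?_⟩⟩
  have hs : ∀ (Z : Sheaf J (Type u)) (a b : Z ⟶ U), a = b := fun Z a b =>
    (hU.right_cancellation a b (Subsingleton.elim _ _))
  obtain ⟨i0⟩ := ‹Nonempty I›
  exact ⟨{ lift := fun s => (hc.lift
            { pt := Over.mk (s.π.app ⟨i0⟩ ≫ (K.obj ⟨i0⟩).hom)
              π := { app := fun j => Over.homMk (s.π.app j) (hs _ _ _)
                     naturality := fun j k f => by
                       refine Over.OverMorphism.ext ?_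
                       exact s.π.naturality f } }).left
           fac := fun s j => congrArg CommaMorphism.left (hc.fac _ j)
           uniq := fun s m hm => congrArg CommaMorphism.left
             (hc.hom_ext (f := (Over.homMk m (hs _ _ _) : Over.mk (s.π.app ⟨i0⟩ ≫ (K.obj ⟨i0⟩).hom) ⟶ c.pt))
               fun j => Over.OverMorphism.ext ((hm j).trans (by rw [hc.fac]; rfl))) }⟩

end Groth.Agent.S6176
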