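import Groth.Statements.S6179
import Groth.Agent.EtHens.Basic
-- import your own Groth.Agent.* helpers here

set_option autoImplicit false
set_option backward.isDefEq.respectTransparency false
open CategoryTheory CategoryTheory.Limits AlgebraicGeometry Opposite
universe u
open EtDesc

namespace Groth.Agent.S6179

/-- Let R be a strictly henselian local ring, X = Spec R and x̄ : Spec κ(R) -> X the closed geometric
point. For every etale sheaf of sets F on X the canonical map Γ(X, F) -> F_x̄ into the stalk (the
colimit of F(X') over the x̄-pointed etale X-schemes X', taken at X' = X) is bijective; in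
particular the global-sections functor is isomorphic to the fibre functor at x̄ and commutes with
all colimits. -/
theorem result (R : Type u) [CommRing R]
    [HenselianLocalRing R] [IsSepClosed (IsLocalRing.ResidueField R)]
    (F : EtDesc.Sh (Spec (CommRingCat.of R))) :
    Function.Bijective ((Scheme.pointSmallEtale
      (Spec.map (CommRingCat.ofHom (IsLocalRing.residue R)))).toPresheafFiber (A := Type (u + 1))
        (EtCoh.top (Spec (CommRingCat.of R)))
        (Over.homMk (Spec.map (CommRingCat.ofHom (IsLocalRing.residue R))) (Category.comp_id _)) F.obj) := by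
  constructor
  · intro t₁ t₂ h
    obtain ⟨W, g, w, hw, h'⟩ := ((Scheme.pointSmallEtale (Spec.map (CommRingCat.ofHom (IsLocalRing.residue R)))).toPresheafFiber_eq_iff' (P := F.obj) _ _ t₁ t₂).mp h
    obtain ⟨a, ha⟩ := Groth.Agent.EtHens.exists_factor R W w
    have hid : a ≫ g = 𝟙 _ := by
      refine MorphismProperty.Over.Hom.ext ?_
      have h1 : (a ≫ g).left ≫ 𝟙 _ = 𝟙 _ := MorphismProperty.Over.w (a ≫ g)
      exact (Category.comp_id _).symm.trans h1
    have := congrArg (F.obj.map a.op) h'
    rw [← ConcreteCategory.comp_apply, ← ConcreteCategory.comp_apply, ← Functor.map_comp, ← op_comp, hid] at this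
    simpa using this
  · intro z
    obtain ⟨W, w, t, rfl⟩ := (Scheme.pointSmallEtale (Spec.map (CommRingCat.ofHom (IsLocalRing.residue R)))).toPresheafFiber_jointly_surjective (P := F.obj) z
    obtain ⟨a, ha⟩ := Groth.Agent.EtHens.exists_factor R W w
    refine ⟨F.obj.map a.op t, ?_⟩
    refine (GrothendieckTopology.Point.toPresheafFiber_w_apply (Scheme.pointSmallEtale (Spec.map (CommRingCat.ofHom (IsLocalRing.residue R)))) a (Groth.Agent.EtHens.pt₀ R) F.obj t).trans ?_
    congr 3

end Groth.Agent.S6179
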