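import Groth.Statements.S6183
import Groth.Agent.EtAssocLib.Compare
import Groth.Agent.CmpSite.Shift

set_option autoImplicit false
open CategoryTheory CategoryTheory.Limits AlgebraicGeometry Opposite
universe u
open EtZar

set_option backward.isDefEq.respectTransparency false
set_option backward.isDefEq.respectTransparency.types false

set_option linter.style.haveILetI false

noncomputable section

namespace Groth.Agent.S6183

open Groth.Agent.AdeqLib Groth.Agent.EtAssocLib

local notation "Kf" => Scheme.fppfPrecoverage

theorem epi_resZar_aPush {X : Scheme.{u}} [EtZar.ZarCont X] {C : ShortComplex (EtFppf.AbF X)} (hC : C.ShortExact)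
    (h₁ : TExact (S := X) C.X₁) : Epi ((EtZar.resZar X).map ((EtFppf.aPush X).map C.g)) := by
  have hz := (resZar_shortExact (S := X) hC h₁).epi_g
  have hl : Sheaf.IsLocallySurjective ((BigSite.resZar Kf X).map C.g) :=
    (Sheaf.isLocallySurjective_iff_epi' _ _).2 hz
  have : Sheaf.IsLocallySurjective ((EtZar.resZar X).map ((EtFppf.aPush X).map C.g)) :=
    ⟨fun {U} s => hl.imageSieve_mem (U := U) s⟩
  exact (Sheaf.isLocallySurjective_iff_epi' _ _).1 this

theorem isZero_of_texact {X : Scheme.{u}} [EtZar.ZarCont X] [(EtZar.resZar X).Additive] :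
    ∀ (q : ℕ) (G' : EtFppf.AbF X), TExact (S := X) G' →
      IsZero (((EtZar.resZar X).rightDerived (q + 1)).obj ((EtFppf.aPush X).obj G')) := by
  intro q
  induction q with
  | zero =>
    intro G' h
    have hC := SiteCoh.embedSeq_shortExact G'
    haveI : (EtFppf.aPush X).IsRightAdjoint := (EtFppf.aAdj X).isRightAdjoint
    haveI : Epi ((SiteCoh.embedSeq G').map (EtFppf.aPush X)).g := epi_aPush _ hC h
    haveI := hC.mono_f
    haveI : Mono ((SiteCoh.embedSeq G').map (EtFppf.aPush X)).f :=
      inferInstanceAs (Mono ((EtFppf.aPush X).map _))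
    have hC' : ((SiteCoh.embedSeq G').map (EtFppf.aPush X)).ShortExact :=
      { exact := hC.exact.map_of_mono_of_preservesKernel _ hC.mono_f inferInstance }
    haveI : Injective ((SiteCoh.embedSeq G').map (EtFppf.aPush X)).X₂ :=
      haveI : Injective (SiteCoh.embedSeq G').X₂ := inferInstance
      BigSiteLib.injective_resEt Scheme.fppfPrecoverage X _
    obtain ⟨e⟩ := CmpSite.rightDerived_one (Φ := EtZar.resZar X) hC'
    haveI : Epi ((EtZar.resZar X).map ((SiteCoh.embedSeq G').map (EtFppf.aPush X)).g) := epi_resZar_aPush hC h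
    exact (isZero_cokernel_of_epi _).of_iso e
  | succ q ih =>
    intro G' h
    have hC := SiteCoh.embedSeq_shortExact G'
    haveI : (EtFppf.aPush X).IsRightAdjoint := (EtFppf.aAdj X).isRightAdjoint
    haveI : Epi ((SiteCoh.embedSeq G').map (EtFppf.aPush X)).g := epi_aPush _ hC h
    haveI := hC.mono_f
    haveI : Mono ((SiteCoh.embedSeq G').map (EtFppf.aPush X)).f :=
      inferInstanceAs (Mono ((EtFppf.aPush X).map _))
    have hC' : ((SiteCoh.embedSeq G').map (EtFppf.aPush X)).ShortExact :=
      { exact := hC.exact.map_of_mono_of_preservesKernel _ hC.mono_f inferInstance }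
    haveI : Injective ((SiteCoh.embedSeq G').map (EtFppf.aPush X)).X₂ :=
      haveI : Injective (SiteCoh.embedSeq G').X₂ := inferInstance
      BigSiteLib.injective_resEt Scheme.fppfPrecoverage X _
    obtain ⟨e⟩ := CmpSite.rightDerived_shift (Φ := EtZar.resZar X) hC' q
    exact (ih _ (texact_quotient hC h (texact_injective _))).of_iso e

/-- Let X be a scheme, F a quasi-coherent O_X-module and G the associated abelian etale sheaf (sections
Γ(U, u^* F) on etale u : U -> X). Then for every q > 0 the q-th right derived functor of the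
restriction π_* from abelian etale sheaves to Zariski sheaves vanishes on G, i.e. R^q π_* G = 0.
(The published statement is that the comparison maps H^q(X_Zar, F) -> H^q(X_et, G) are isomorphisms;
its proof reduces this to the vanishing stated here, which implies it.) -/
theorem result (X : Scheme.{u}) [EtZar.ZarCont X]
    (F : X.Modules) [F.IsQuasicoherent] (G : EtCoh.Ab X) (hG : EtAssoc.IsAssoc F G)
    [(EtZar.resZar X).Additive] (q : ℕ) (hq : 0 < q) :
    IsZero (((EtZar.resZar X).rightDerived q).obj G) := by
  obtain ⟨i⟩ := nonempty_iso_of_isAssoc F hG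
  obtain ⟨m, rfl⟩ := Nat.exists_eq_succ_of_ne_zero hq.ne'
  exact (isZero_of_texact m _ (texact_big (modQ F))).of_iso (((EtZar.resZar X).rightDerived (m + 1)).mapIso i)

end Groth.Agent.S6183
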