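import Groth.Statements.S6194
import Groth.Agent.KSixLib.PerfNhd

set_option backward.isDefEq.respectTransparency false
set_option backward.isDefEq.respectTransparency.types false

set_option autoImplicit false
universe u
open CategoryTheory CategoryTheory.Limits AlgebraicGeometry
attribute [local instance] HasDerivedCategory.standard
open KSix

namespace Groth.Agent.S6194

/-- Let X be a scheme such that, at every point x, every module over the local ring of X at x has finite
tor dimension (for instance a regular scheme), and let E ∈ D(O_X), given by a cochain complex F,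
have bounded cohomology. Then E is pseudo-coherent if and only if E is perfect. (The published
statement is for a ringed topos with enough points; this row is the case of schemes.) -/
theorem result {X : Scheme.{u}}
    (hX : ∀ (x : X) (M : Type u) [AddCommGroup M] [Module (X.presheaf.stalk x) M], DRing.HasFiniteTorDim (X.presheaf.stalk x) M)
    (F : CochainComplex X.Modules ℤ) (c d : ℤ) [(DCoh.toD X F).IsGE c] [(DCoh.toD X F).IsLE d] :
    (∀ m : ℤ, DCoh.IsPseudoCoherentD m (DCoh.toD X F)) ↔ DCoh.IsPerfect (DCoh.toD X F) := by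
  refine ⟨fun hp => ?_, fun h m => Groth.Agent.DQCoh.pc_of_perfect h m⟩
  rw [Groth.Agent.DQCoh.perfect_iff_near]
  intro x
  let T := (Groth.Agent.KFlat.stCx x).obj F
  have hz : ∀ i, i < c ∨ d < i → IsZero ((DerivedCategory.homologyFunctor (ModuleCat.{u} (X.presheaf.stalk x)) i).obj (DRing.toD T)) := by
    intro i hi
    have h0 : IsZero ((DerivedCategory.homologyFunctor X.Modules i).obj (DCoh.toD X F)) := by
      rcases hi with hi | hi
      · exact DerivedCategory.isZero_of_isGE _ c i hi
      · exact DerivedCategory.isZero_of_isLE _ d i hi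
    exact (((DerSch.stalkFunctor X x).map_isZero (h0.of_iso
      ((DerivedCategory.homologyFunctorFactors X.Modules i).app F).symm)).of_iso
        ((F.sc i).mapHomologyIso (DerSch.stalkFunctor X x))).of_iso
      ((DerivedCategory.homologyFunctorFactors _ i).app T)
  obtain ⟨a', b', ha'⟩ := (Groth.Agent.DRingKP.finiteTor_iff_bounded (hX x) (DRing.toD T)).2
    ⟨c, d, fun i hi => ModuleCat.subsingleton_of_isZero (hz i hi)⟩
  let a := min a' c
  let b := max (max b' d) a
  have hamp : DRing.HasTorAmplitudeIn (X.presheaf.stalk x) a b (DRing.toD T) :=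
    Groth.Agent.DRingKP.amp_widen (min_le_left _ _) (le_trans (le_max_left _ _) (le_max_left _ _)) ha'
  have hid : ((𝟙 X : X ⟶ X).stalkMap x).hom = RingHom.id (X.presheaf.stalk x) :=
    congrArg CommRingCat.Hom.hom (Scheme.Hom.stalkMap_id X x)
  let i : DerSch.stalkFunctor X x ≅ Groth.Agent.DQCoh.stA (𝟙 X) x :=
    (Functor.rightUnitor _).symm ≪≫ Functor.isoWhiskerLeft _ (ModuleCat.restrictScalarsId' _ hid).symm
  have hat : DerSch.HasTorAmplitudeAt (𝟙 X) a b F x := Groth.Agent.DRingKP.amp_of_iso
    (DerivedCategory.Q.mapIso (HomologicalComplex.Hom.isoOfComponents (fun n => i.app (F.X n))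
      (fun p q _ => (i.hom.naturality (F.d p q)).symm))) hamp
  have hGE : (DCoh.toD X F).IsGE a := (DerivedCategory.isGE_iff _ a).2 fun j hj =>
    DerivedCategory.isZero_of_isGE _ c j (lt_of_lt_of_le hj (min_le_right _ _))
  have hb : Groth.Agent.DQCoh.IsAboveD (b + 1) (DCoh.toD X F) := fun j hj =>
    DerivedCategory.isZero_of_isLE _ d j (by
      have : d ≤ b := le_trans (le_max_right _ _) (le_max_left _ _)
      lia)
  obtain ⟨V, E, hxV, hE, hl, ⟨e⟩⟩ := Groth.Agent.KSixLib.exists_perfAmp_nhd (le_max_right _ _) hGE hb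
    (hp (a - 1)) ((Groth.Agent.KSixLib.torAmpAt_iff (𝟙 X) a b F x).1 hat)
  exact ⟨(V : Scheme.{u}), V.ι, inferInstance, ⟨x, hxV⟩, rfl, E, ⟨⟨a, b, hE⟩, hl⟩, ⟨e⟩⟩

end Groth.Agent.S6194
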