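import Groth.Statements.S6199
import Groth.Agent.Betti.Main

set_option backward.isDefEq.respectTransparency false
set_option backward.isDefEq.respectTransparency.types false

set_option autoImplicit false
universe u
open CategoryTheory CategoryTheory.Limits AlgebraicGeometry
attribute [local instance] HasDerivedCategory.standard
open KSix

namespace Groth.Agent.S6199

open Groth.Agent.Betti Opposite TopologicalSpace HomologicalComplex in
/-- upper semicontinuity from one pseudo-coherence -/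
theorem betti_lt {X : Scheme.{u}} [∀ x : X, DCoh.HasLpull (X.fromSpecResidueField x)] (E : DCoh.D X) (i : ℤ)
    (hE : DCoh.IsPseudoCoherentD (i - 1) E) (n : ℕ) : IsOpen {x : X | PerfD.betti E x i < n} := by
  rw [isOpen_iff_forall_mem_open]
  intro x₀ hx₀
  obtain ⟨F, hF, -, ⟨e⟩⟩ := KFlat.exists_isKFlat_rep E
  obtain ⟨U, hU, P, α, hP, hα⟩ := (DerPerf.isPseudoCoherent_iff_rep e).1 hE x₀
  obtain ⟨W, P', hW, hmod, hfree, -⟩ := exists_model E {i} hF e U P hP α
    (fun j hj => ⟨i - 1, by rw [Set.mem_singleton_iff.1 hj]; omega, hα⟩) x₀ hU {i, i + 1}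
  obtain ⟨N, ⟨S⟩⟩ := hfree i (by simp)
  obtain ⟨N', ⟨S'⟩⟩ := hfree (i + 1) (by simp)
  obtain ⟨Z, g, p, hp, hs, hgp, hb⟩ := hmod x₀ hW
  obtain ⟨O₁, hO₁, h₁⟩ := exists_nhd_le_rk g p hp hs S (P'.d (i - 1) i)
  obtain ⟨O₂, hO₂, h₂⟩ := exists_nhd_le_rk g p hp hs S' (P'.d i (i + 1))
  refine ⟨W.ι ''ᵁ (O₁ ⊓ O₂), ?_, (W.ι ''ᵁ (O₁ ⊓ O₂)).2, ⟨g.base p, ⟨hO₁, hO₂⟩, by rw [hgp]; rfl⟩⟩
  rintro x ⟨y, hy, rfl⟩
  obtain ⟨Z', g', p', hp', -, hgp', hb'⟩ := hmod _ y.2
  have hy' : g'.base p' = y := hgp'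
  have l₁ := h₁ g' p' hp' (hy'.symm ▸ hy.1)
  have l₂ := h₂ g' p' hp' (hy'.symm ▸ hy.2)
  have f₀ := finrank_homology_fibCx g p hp P' i S
  have f₁ := finrank_homology_fibCx g' p' hp' P' i S
  have a := hb i rfl
  have b := hb' i rfl
  simp only [Set.mem_setOf_eq] at hx₀ ⊢
  change PerfD.betti E y.1 i < n
  rw [b]
  omega

/-- Let X be a scheme, p an integer and E ∈ D⁻(O_X) a (p-1)-pseudo-coherent object. Then, the derived
pullbacks to the points Spec κ(x) ⟶ X being assumed to exist, the function x ↦ dim_{κ(x)} H^p(E ⊗^L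
κ(x)) is upper semicontinuous: for every n the set where it is < n is open. (The published statement
also asserts that this function is constructible; that clause is not stated here.) -/
theorem result (X : Scheme.{u})
    [∀ x : X, DCoh.HasLpull (X.fromSpecResidueField x)] (E : DCoh.D X) (d : ℤ) [E.IsLE d] (p : ℤ)
    (hE : DCoh.IsPseudoCoherentD (p - 1) E) (n : ℕ) :
    IsOpen {x : X | PerfD.betti E x p < n} := by
  exact betti_lt E p hE n

end Groth.Agent.S6199
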