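import Groth.Statements.S6203
import Groth.Agent.RelPCS.Transfer

set_option autoImplicit false
universe u
open CategoryTheory CategoryTheory.Limits AlgebraicGeometry
attribute [local instance] HasDerivedCategory.standard
open KSix

namespace Groth.Agent.S6203

/-- Let f : X ⟶ Y be locally of finite type, n an integer, E a cochain complex of O_X-modules, and (U i)
a family of opens of X with union X such that, for every i, the termwise restriction E|_{U i} is
n-pseudo-coherent relative to U i ⟶ X ⟶ Y (chart form). Then E is n-pseudo-coherent relative to f. -/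
theorem result {X Y : Scheme.{u}} (f : X ⟶ Y) [LocallyOfFiniteType f] (n : ℤ)
    (E : CochainComplex X.Modules ℤ) {ι : Type u} (U : ι → X.Opens) (hU : ⨆ i, U i = ⊤)
    (h : ∀ i : ι, DerSch.IsPseudoCoherentRel ((U i).ι ≫ f) n (DCoh.toD (U i : Scheme.{u}) ((DCoh.restrictCx (U i)).obj E))) :
    DerSch.IsPseudoCoherentRel f n (DCoh.toD X E) := by
  refine Groth.Agent.RelPCS.rel_of_cover (fun i => (U i).ι) (fun x => ?_) fun i => ?_
  · obtain ⟨i, hi⟩ := TopologicalSpace.Opens.mem_iSup.1 (hU.symm ▸ TopologicalSpace.Opens.mem_top x : x ∈ ⨆ i, U i)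
    exact ⟨i, by rw [Scheme.Opens.range_ι]; exact hi⟩
  · haveI := (h i).1
    exact Groth.Agent.RelPCS.rel_of_qpc fun W hW V hV hle k φ hφ =>
      Groth.Agent.RelPCS.qpc_iso (Groth.Agent.DQCoh.rdIso (U i).ι E).symm
        (Groth.Agent.RelPCS.qpc_of_rel (h i) hW hV hle hφ)

end Groth.Agent.S6203
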