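import Groth.Statements.S6204
import Groth.Agent.RelPCS.Calc

set_option autoImplicit false
universe u
open CategoryTheory CategoryTheory.Limits AlgebraicGeometry
attribute [local instance] HasDerivedCategory.standard
open KSix

namespace Groth.Agent.S6204

open CategoryTheory.Pretriangulated in
/-- Let f : X ⟶ Y be locally of finite type, n an integer, and E ⟶ F ⟶ G ⟶ E⟦1⟧ a distinguished triangle
of D(O_X); all pseudo-coherence is relative to f, in chart form. If E is (n+1)-pseudo-coherent and F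
is n-pseudo-coherent then G is n-pseudo-coherent; if E and G are n-pseudo-coherent then so is F; if
F is n-pseudo-coherent and G is (n-1)-pseudo-coherent then E is n-pseudo-coherent. -/
theorem result {X Y : Scheme.{u}} (f : X ⟶ Y) [LocallyOfFiniteType f] (n : ℤ)
    (T : Triangle (DCoh.D X)) (hT : T ∈ distinguishedTriangles) :
    (DerSch.IsPseudoCoherentRel f (n + 1) T.obj₁ → DerSch.IsPseudoCoherentRel f n T.obj₂ →
        DerSch.IsPseudoCoherentRel f n T.obj₃) ∧
      (DerSch.IsPseudoCoherentRel f n T.obj₁ → DerSch.IsPseudoCoherentRel f n T.obj₃ →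
        DerSch.IsPseudoCoherentRel f n T.obj₂) ∧
      (DerSch.IsPseudoCoherentRel f n T.obj₂ → DerSch.IsPseudoCoherentRel f (n - 1) T.obj₃ →
        DerSch.IsPseudoCoherentRel f n T.obj₁) := by
  refine ⟨fun h₁ h₂ => ?_, fun h₁ h₃ => ?_, fun h₂ h₃ => ?_⟩ <;>
    refine Groth.Agent.RelPCS.rel_of_qpc fun U hU V hV h k φ hφ => ?_
  · exact Groth.Agent.RelPCS.qpc_obj₃ hT (Groth.Agent.RelPCS.qpc_of_rel h₁ hU hV h hφ)
      (Groth.Agent.RelPCS.qpc_of_rel h₂ hU hV h hφ)
  · exact Groth.Agent.RelPCS.qpc_obj₂ hT (Groth.Agent.RelPCS.qpc_of_rel h₁ hU hV h hφ)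
      (Groth.Agent.RelPCS.qpc_of_rel h₃ hU hV h hφ)
  · have e : n - 1 + 1 = n := by lia
    have h' := Groth.Agent.RelPCS.qpc_obj₁ (m := n - 1) hT
      (e.symm ▸ Groth.Agent.RelPCS.qpc_of_rel h₂ hU hV h hφ) (Groth.Agent.RelPCS.qpc_of_rel h₃ hU hV h hφ)
    exact e ▸ h'

end Groth.Agent.S6204
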