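import Groth.Statements.S6219
import Groth.Agent.KSixLib.Ascend

set_option backward.isDefEq.respectTransparency false

set_option autoImplicit false
universe u
open CategoryTheory CategoryTheory.Limits AlgebraicGeometry
attribute [local instance] HasDerivedCategory.standard
open KSix

namespace Groth.Agent.S6219

/-- Let i : X ⟶ Y be a closed immersion, g : Y ⟶ S smooth of relative dimension at most d (every point
of Y has an open neighbourhood on which g is smooth of some relative dimension n ≤ d), a and b
integers, and F a cochain complex of O_X-modules with perfect amplitude in [a, b] relative to i ≫ g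
(pseudo-coherent relative to it in chart form, with stalkwise tor amplitude in [a, b] over the local
rings of S). Then the termwise direct image i_* F has perfect amplitude in [a - d, b] on Y in the
absolute sense (locally isomorphic in D to a complex of finite locally free modules placed in [a -
d, b]). -/
theorem result {X Y S : Scheme.{u}} (i : X ⟶ Y) [IsClosedImmersion i]
    (g : Y ⟶ S) [Smooth g] (d : ℕ)
    (hd : ∀ y : Y, ∃ (n : ℕ) (V : Y.Opens), n ≤ d ∧ y ∈ V ∧ SmoothOfRelativeDimension n (V.ι ≫ g))
    (a b : ℤ) (F : CochainComplex X.Modules ℤ) (hF : DerSch.HasPerfAmplitudeRel (i ≫ g) a b F) :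
    KSix.HasPerfectAmplitudeIn (a - d) b (DCoh.toD Y (((Scheme.Modules.pushforward i).mapHomologicalComplex (ComplexShape.up ℤ)).obj F)) := by
  let G := ((Scheme.Modules.pushforward i).mapHomologicalComplex (ComplexShape.up ℤ)).obj F
  have hamp : DCoh.HasFlatAmplitudeIn (a - d) b (DCoh.toD Y G) := by
    refine Groth.Agent.KSixLib.flatAmp_push g i (fun y => ?_) F hF.2
    obtain ⟨n, V, hn, hy, hs⟩ := hd y
    haveI := hs
    exact (Groth.Agent.KSixLib.flatTd_stalkMap g V (n := n) hy).mono hn
  by_cases hab : a - (d : ℤ) ≤ b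
  · exact (Groth.Agent.KSixLib.perfAmp_iff hab _).2
      ⟨(Groth.Agent.RelPCS.rel_closedImm_comp_flat_iff i g _ F).1 (hF.1 _), hamp⟩
  · obtain ⟨E, hE, -, ⟨e⟩⟩ := hamp
    intro y
    refine ⟨⊤, trivial, fun G' ⟨eG⟩ => ⟨(DCoh.restrictCx ⊤).obj E,
      fun k hk => (Scheme.Modules.restrictFunctor _).map_isZero (hE k hk),
      fun k => Groth.Agent.DQCoh.isFinLocFree_of_isZero ((Scheme.Modules.restrictFunctor _).map_isZero (hE k (by lia))),
      ⟨(Groth.Agent.DQCoh.rdIso _ G').symm ≪≫ (Groth.Agent.DQCoh.RD _).mapIso (eG ≪≫ e.symm) ≪≫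
        Groth.Agent.DQCoh.rdIso _ E⟩⟩⟩

end Groth.Agent.S6219
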