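import Groth.Statements.S6227
import Groth.Agent.KSixLib.Descend

set_option backward.isDefEq.respectTransparency false

set_option autoImplicit false
universe u
open CategoryTheory CategoryTheory.Limits AlgebraicGeometry
attribute [local instance] HasDerivedCategory.standard
open KSix

namespace Groth.Agent.S6227

/-- Last clause: sufficiency: let f : X ⟶ Y be locally of finite type and h : Y' ⟶ Y flat, surjective
and quasi-compact. If the base change X ×_Y Y' ⟶ Y' of f is n-pseudo-coherent (structure sheaf
placed in degree 0 n-pseudo-coherent relative to it, chart form), then f is n-pseudo-coherent. (The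
published statement takes h faithfully flat, that is flat and surjective; this row also takes h
quasi-compact: for A an infinite product of copies of the field with two elements and I its ideal of
finitely supported sequences, the closed immersion Spec A/I ⟶ Spec A is not locally of finite
presentation, hence not (-1)-pseudo-coherent, while its base change along the flat, surjective,
non-quasi-compact disjoint union of the spectra of all local rings of A is an open and closed
immersion, so descent fails without quasi-compactness.) -/
theorem result {X Y Y' : Scheme.{u}} (f : X ⟶ Y) [LocallyOfFiniteType f] (n : ℤ)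
    (h : Y' ⟶ Y) [Flat h] [Surjective h] [QuasiCompact h] (hf' : DerSch.IsNPseudoCoherent (pullback.snd f h) n) :
    DerSch.IsNPseudoCoherent f n := by
  refine Groth.Agent.KSixLib.rel_of_qc_cover h (fun i => ?_) (Groth.Agent.KSixLib.rel_of_iso _ ?_ hf')
  · haveI : Coh.IsQCoh (Coh.structureModule X) := Groth.Agent.QC.isQCoh_unit X
    refine Groth.Agent.QC.isQCoh_of_iso ((DerivedCategory.homologyFunctorFactors X.Modules i).app _).symm ?_
    by_cases hi : i = 0
    · subst hi
      exact Groth.Agent.QC.isQCoh_of_iso (HomologicalComplex.singleObjHomologySelfIso (ComplexShape.up ℤ) 0 _).symm this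
    · exact Groth.Agent.DQCoh.isQCoh_of_isZero (HomologicalComplex.isZero_single_obj_homology _ 0 _ i hi)
  · exact ((Scheme.Modules.pullback (pullback.fst f h)).mapDerivedCategoryFactors.app _ ≪≫
      DerivedCategory.Q.mapIso
        ((HomologicalComplex.singleMapHomologicalComplex (Scheme.Modules.pullback (pullback.fst f h))
            (ComplexShape.up ℤ) 0).app _ ≪≫
          (HomologicalComplex.single _ (ComplexShape.up ℤ) 0).mapIso (Groth.Agent.DerPerf.pullUnitIso _))).symm

end Groth.Agent.S6227
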