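import Groth.Statements.S6235
import Groth.Agent.RelPCS.Calc

set_option autoImplicit false
universe u
open CategoryTheory CategoryTheory.Limits AlgebraicGeometry
attribute [local instance] HasDerivedCategory.standard
open KSix

namespace Groth.Agent.S6235

/-- Let f : X ⟶ Y be a morphism of schemes and E an object of D(O_X) which is pseudo-coherent relative
to f (chart form, every degree; in particular f is locally of finite type). Then the cohomology
sheaves of E are quasi-coherent. -/
theorem result {X Y : Scheme.{u}} (f : X ⟶ Y) (E : DCoh.D X)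
    (hE : DerSch.IsPseudoCoherentRelAll f E) : DCoh.IsQCohD E := by
  intro i
  have h := hE (i - 1)
  haveI := h.1
  refine Groth.Agent.DQCoh.isQCoh_of_restrict_opens fun x => ?_
  obtain ⟨_, ⟨V, hV, rfl⟩, hxV, -⟩ :=
    Y.isBasis_affineOpens.exists_subset_of_mem_open (Set.mem_univ (f.base x)) isOpen_univ
  obtain ⟨_, ⟨U, hU, rfl⟩, hxU, hUV⟩ :=
    X.isBasis_affineOpens.exists_subset_of_mem_open (a := x) (show x ∈ ((f ⁻¹ᵁ V : X.Opens) : Set X) from hxV) (f ⁻¹ᵁ V).2
  replace hU : IsAffineOpen U := hU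
  replace hV : IsAffineOpen V := hV
  obtain ⟨n, φ, hφ⟩ := Groth.Agent.RelPCS.exists_chart (f := f) hU hV hUV
  exact ⟨U, hxU, Groth.Agent.RelPCS.qcoh_restrict_of_fromSpec hU
    (Groth.Agent.RelPCS.qcoh_of_qpc (Groth.Agent.RelPCS.qpc_of_rel h hU hV hUV hφ) i (by lia))⟩

end Groth.Agent.S6235
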