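import Groth.Statements.S7175
import Groth.Agent.PCMor.Scheme
import Groth.Agent.RelPCS.Calc
import Groth.Agent.RelPCS.Single

set_option autoImplicit false
set_option linter.style.haveILetI false
set_option backward.isDefEq.respectTransparency false
set_option backward.isDefEq.respectTransparency.types false
open Groth.Agent
attribute [local instance] HasDerivedCategory.standard
universe u
attribute [local instance] HasDerivedCategory.standard
open FlatMor

namespace Groth.Agent.S7175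

open AlgebraicGeometry CategoryTheory Limits in
/-- For a perfect closed immersion i : Z → X, the O_X-module i_* O_Z is a perfect object of D(O_X). -/
theorem result {Z X : Scheme.{u}} (i : Z ⟶ X) [IsClosedImmersion i]
    (hi : MoreMor.IsPerfectMor i) :
    DCoh.IsPerfect (DCoh.inD X ((Coh.push i).obj (Coh.structureModule Z))) := by
  rw [DQCoh.perfect_iff_near]
  intro x
  obtain ⟨U, hU, u0, hu0⟩ := RelPCS.exists_fromSpec x
  have hV := hU.preimage i
  have hsurj : Function.Surjective (i.app U).hom := i.app_surjective U hU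
  -- the ring statement
  have hpf : PCMor.Pf (i.app U).hom := by
    have h1 := hi (i ⁻¹ᵁ U) U hV hU le_rfl
    rw [Scheme.Hom.appLE_eq_app] at h1
    exact h1
  letI := (i.app U).hom.toAlgebra
  have hperf : DRing.IsPerfectModule Γ(X, U) Γ(Z, i ⁻¹ᵁ U) := by
    have hpc : DRing.IsPseudoCoherentModule' Γ(X, U) Γ(Z, i ⁻¹ᵁ U) :=
      (PCMor.pcHom_iff' (i.app U).hom).1 ((PCMor.pc_of_bijective (f := RingHom.id Γ(X, U))
        Function.bijective_id).pcHom_of_comp hsurj hpf.1)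
    obtain ⟨d, hd⟩ := (PCMor.pf_iff.1 hpf).2
    exact (DRingKP.isPerfect_iff _).2 ⟨hpc, _, _, (DRingKP.hasTorDimLE_iff _ d).1 hd⟩
  -- the sheaf on the affine piece
  let j : Spec Γ(X, U) ⟶ X := hU.fromSpec
  let j' : Spec Γ(Z, i ⁻¹ᵁ U) ⟶ Z := hV.fromSpec
  let i' : Spec Γ(Z, i ⁻¹ᵁ U) ⟶ Spec Γ(X, U) := RelPCS.sp (i.app U).hom
  haveI : IsClosedImmersion i' := RelPCS.closedImm_sp hsurj
  have w : i' ≫ j = j' ≫ i := by
    have h2 := hU.SpecMap_appLE_fromSpec i hV le_rfl
    rw [Scheme.Hom.appLE_eq_app] at h2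
    exact h2
  have hr : j'.opensRange = i ⁻¹ᵁ j.opensRange := by
    rw [hV.opensRange_fromSpec, hU.opensRange_fromSpec]
  let N : ModuleCat.{u} Γ(X, U) :=
    (ModuleCat.restrictScalars.{u} (i.app U).hom).obj (ModuleCat.of Γ(Z, i ⁻¹ᵁ U) Γ(Z, i ⁻¹ᵁ U))
  have eM : (Scheme.Modules.restrictFunctor j).obj ((Coh.push i).obj (Coh.structureModule Z)) ≅
      (tilde.functor (CommRingCat.of Γ(X, U))).obj N :=
    (RelPCS.bcPushIso i i' j j' w hr).app (Coh.structureModule Z) ≪≫
      (Scheme.Modules.pushforward i').mapIso (Scheme.Modules.restrictUnitIso j' ≪≫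
        (AlgebraicGeometry.tildeSelf (R := CommRingCat.of Γ(Z, i ⁻¹ᵁ U))).symm) ≪≫
      (RelPCS.pushTildeIso (CommRingCat.ofHom (i.app U).hom)).app (ModuleCat.of Γ(Z, i ⁻¹ᵁ U) Γ(Z, i ⁻¹ᵁ U))
  have hN : DRing.IsPerfect Γ(X, U) (Dual.inD Γ(X, U) N) :=
    PCMor.perfectModule_of_equiv (RelPC.selfEquiv Γ(X, U) Γ(Z, i ⁻¹ᵁ U)).symm hperf
  have hD : DCoh.IsPerfect ((DQCoh.RD j).obj (DCoh.inD X ((Coh.push i).obj (Coh.structureModule Z)))) :=
    DQCoh.perfect_of_iso (RelPCS.rdInD j _ ≪≫ (DerivedCategory.singleFunctor _ 0).mapIso eM ≪≫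
      RelPCS.tildeInD N).symm ((DQCoh.perfect_tilde_iff _).2 hN)
  obtain ⟨W, k, hk, u1, hu1, hP⟩ := (DQCoh.perfect_iff_near _).1 hD u0
  haveI := hk
  refine ⟨W, k ≫ j, inferInstance, u1, ?_, DQCoh.perfOn_push k j hP⟩
  rw [Scheme.Hom.comp_apply, hu1]
  exact hu0

end Groth.Agent.S7175
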