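import Groth.Statements.S6237
import Groth.Agent.S7175
import Groth.Agent.S8663
-- import your own Groth.Agent.* helpers here

set_option autoImplicit false
universe u
open CategoryTheory CategoryTheory.Limits AlgebraicGeometry
attribute [local instance] HasDerivedCategory.standard
open KSix

namespace Groth.Agent.S6237

/-- Let i : Z ⟶ X be a closed immersion which is Koszul-regular (around every point the ideal of Z in an
affine open of X is generated by a finite sequence whose Koszul complex is acyclic in positive
degrees). Then i_*O_Z placed in degree 0 is a perfect object of D(O_X); in particular it is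
pseudo-coherent. -/
theorem result {Z X : Scheme.{u}} (i : Z ⟶ X)
    [IsClosedImmersion i] (hi : RegImm.IsRegularImmersion RegImm.Kind.koszul i) :
    DCoh.IsPerfect (DCoh.inD X ((Scheme.Modules.pushforward i).obj (Coh.structureModule Z))) := by
  refine Groth.Agent.S7175.result i (Groth.Agent.S8663.result i fun x => ?_)
  have : IsIso (⊤ : Z.Opens).ι := inferInstanceAs (IsIso Z.topIso.hom)
  refine ⟨⊤, X, (⊤ : Z.Opens).ι ≫ i, 𝟙 X, trivial, inferInstance, ⟨inferInstance, fun z => ?_⟩,
    inferInstance, Category.comp_id _⟩
  obtain ⟨U, hzU, hci, rs, hseq, hker⟩ := hi.2 ((⊤ : Z.Opens).ι z)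
  refine ⟨U, hzU, ?_, rs, hseq, ?_⟩
  · rw [morphismRestrict_comp]
    have := hci
    have hc : IsClosedImmersion (⊤ : Z.Opens).ι := MorphismProperty.of_isIso @IsClosedImmersion _
    exact MorphismProperty.comp_mem @IsClosedImmersion _ _ (IsZariskiLocalAtTarget.restrict hc _) hci
  · rw [← hker, Scheme.Hom.comp_app]
    exact RingHom.ker_comp_of_injective _ (ConcreteCategory.bijective_of_isIso
      ((⊤ : Z.Opens).ι.app (i ⁻¹ᵁ U.1))).1


end Groth.Agent.S6237
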