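import Groth.Statements.S6247
import Groth.Agent.Bousfield.TensLinear
import Groth.Agent.KFlat.Assoc
set_option backward.isDefEq.respectTransparency false
set_option backward.isDefEq.respectTransparency.types false

set_option autoImplicit false
universe u
open CategoryTheory CategoryTheory.Limits AlgebraicGeometry
attribute [local instance] HasDerivedCategory.standard
open KSix

namespace Groth.Agent.S6247

lemma isFlat_tensor' {C : Type u} [SmallCategory C] {J : GrothendieckTopology C} (O : Sheaf J CommRingCat.{u})
    {G F : ModSite.Mod O} (hG : ModSite.IsFlat G) (hF : ModSite.IsFlat F) :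
    ModSite.IsFlat (((ModSite.tensorBi O).obj G).obj F) := by
  obtain ⟨_, _⟩ := hG
  obtain ⟨_, _⟩ := hF
  let e : (ModSite.tensorBi O).flip.obj G ⋙ (ModSite.tensorBi O).flip.obj F ≅
      (ModSite.tensorBi O).flip.obj (((ModSite.tensorBi O).obj G).obj F) :=
    NatIso.ofComponents (fun X => Groth.Agent.KFlat.assocApp O X G F)
      (fun a => Groth.Agent.KFlat.assocApp_natural₁ O a G F)
  exact ⟨preservesFiniteLimits_of_natIso e, preservesFiniteColimits_of_natIso e⟩

/-- One ringed site: let (C, J, O) be a small site with a sheaf of commutative rings O, let E be a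
cochain complex of O-modules isomorphic in D(O) to a complex P of flat O-modules which vanishes
outside [m, n] (E has flat amplitude in [m, n]), and let F be a cochain complex of flat O-modules
which vanishes outside [m', n']. Then, the derived tensor product − ⊗^L_O F being assumed to exist,
E ⊗^L_O F is isomorphic in D(O) to a complex of flat O-modules vanishing outside [m + m', n + n']:
flat amplitudes add, and in particular the derived tensor product of two objects of finite flat
amplitude has finite flat amplitude. (The published statement is for a morphism of ringed topoi f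
from S' to S and the external derived tensor product of an object over S' with an object over S,
flatness meaning exactness of the tensor product functor; this row is the case S' = S with f the
identity, on the topos of sheaves on a small site, with the second factor given by its own flat
model.) -/
theorem result {C : Type u} [SmallCategory C]
    {J : GrothendieckTopology C} (O : Sheaf J CommRingCat.{u}) (E P : CochainComplex (ModSite.Mod O) ℤ)
    (m n : ℤ) (hP : ∀ i : ℤ, ModSite.IsFlat (P.X i)) (hPb : ∀ i : ℤ, i < m ∨ n < i → IsZero (P.X i))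
    (eP : DerivedCategory.Q.obj P ≅ DerivedCategory.Q.obj E) (F : CochainComplex (ModSite.Mod O) ℤ)
    (m' n' : ℤ) (hF : ∀ i : ℤ, ModSite.IsFlat (F.X i)) (hFb : ∀ i : ℤ, i < m' ∨ n' < i → IsZero (F.X i))
    [ModSite.HasLTensorCx F] :
    ∃ G : CochainComplex (ModSite.Mod O) ℤ, (∀ i : ℤ, ModSite.IsFlat (G.X i)) ∧
      (∀ i : ℤ, i < m + m' ∨ n + n' < i → IsZero (G.X i)) ∧
      Nonempty (DerivedCategory.Q.obj G ≅ (ModSite.LTensorCx F).obj (DerivedCategory.Q.obj E)) := by
  haveI hle : P.IsStrictlyLE n := (CochainComplex.isStrictlyLE_iff P n).2 fun i hi => hPb i (Or.inr hi)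
  have hPf := Groth.Agent.KFlat.rflat_of_bounded_above_site O P n hle
    fun i => (Groth.Agent.KFlat.flatObj_iff O _).2 (hP i)
  refine ⟨((ModSite.tensorCx O).obj P).obj F, fun i => ?_, fun i hi => ?_,
    ⟨(@asIso _ _ _ _ ((Groth.Agent.Bousfield.ltCounit F).app P) (Groth.Agent.Bousfield.isIso_ltCounit F hPf)).symm ≪≫
      (ModSite.LTensorCx F).mapIso eP⟩⟩
  · refine (Groth.Agent.KFlat.flatObj_iff O _).1 (Groth.Agent.KFlat.flatObj_of_isColimit
      (fun X => Groth.Agent.KFlat.preservesColimits_discrete O _ X)
      (GradedObject.isColimitCofanMapObj _ _ i) fun j => (Groth.Agent.KFlat.flatObj_iff O _).2 ?_)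
    exact isFlat_tensor' O (hP _) (hF _)
  · refine (IsZero.iff_id_eq_zero _).2 (HomologicalComplex.mapBifunctor.hom_ext fun p q h => ?_)
    refine IsZero.eq_of_src ?_ _ _
    have hpq : p + q = i := h
    rcases (show (p < m ∨ n < p) ∨ (q < m' ∨ n' < q) by lia) with hp | hq
    · exact Functor.map_isZero ((ModSite.tensorBi O).flip.obj (F.X q)) (hPb p hp)
    · exact Functor.map_isZero ((ModSite.tensorBi O).obj (P.X p)) (hFb q hq)

end Groth.Agent.S6247
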