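import Groth.Statements.S6263
import Mathlib.RingTheory.Support
import Mathlib.RingTheory.Flat.Basic
import Mathlib.LinearAlgebra.TensorProduct.Quotient
import Mathlib.RingTheory.Ideal.Maximal
import Mathlib.RingTheory.Ideal.Over

set_option autoImplicit false
universe u
open CAlg
open scoped TensorProduct

namespace Groth.Agent.S6263

/-- For a ring map R → S and a finite S-module N which is flat as an R-module, generalizations lift
along the map from the support of N (a subset of Spec S) to Spec R: if p ≤ p' are primes of R and q'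
is a prime of S in the support of N whose inverse image in R is p', then some prime q ≤ q' of S lies
in the support of N and has inverse image p. -/
theorem result {R S : Type u} [CommRing R] [CommRing S] [Algebra R S] (N : Type u) [AddCommGroup N] [Module S N] [Module R N] [IsScalarTower R S N] [Module.Finite S N] [Module.Flat R N] (p p' : Ideal R) [p.IsPrime] [p'.IsPrime] (hle : p ≤ p') (q' : PrimeSpectrum S) (hq' : q' ∈ Module.support S N) (hover : q'.asIdeal.under R = p') : ∃ q : PrimeSpectrum S, q ≤ q' ∧ q ∈ Module.support S N ∧ q.asIdeal.under R = p := by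
  classical
  let J : Ideal S := p.map (algebraMap R S)
  have hJq : J ≤ q'.asIdeal := Ideal.map_le_iff_le_comap.2 (hle.trans hover.ge)
  let Nb := N ⧸ (J • ⊤ : Submodule S N)
  have hq2 : q' ∈ Module.support S Nb := by
    rw [Module.support_quotient]
    exact ⟨hq', hJq⟩
  have hinjt : ∀ t ∉ p, ∀ x : Nb, algebraMap R S t • x = 0 → x = 0 := by
    intro t ht x hx
    obtain ⟨x, rfl⟩ := Submodule.Quotient.mk_surjective _ x
    rw [← Submodule.Quotient.mk_smul, Submodule.Quotient.mk_eq_zero, algebraMap_smul] at hx
    rw [Submodule.Quotient.mk_eq_zero]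
    have hres : ∀ y : N, y ∈ (J • ⊤ : Submodule S N) ↔ y ∈ (p • ⊤ : Submodule R N) := fun y => by
      rw [← Submodule.restrictScalars_mem R (J • ⊤ : Submodule S N), Ideal.smul_restrictScalars, Submodule.restrictScalars_top]
    rw [hres] at hx ⊢
    have hm : Function.Injective ((LinearMap.lsmul R (R ⧸ p) t).lTensor N) := by
      refine Module.Flat.lTensor_preserves_injective_linearMap _ ((injective_iff_map_eq_zero _).2 fun a ha => ?_)
      obtain ⟨a, rfl⟩ := Ideal.Quotient.mk_surjective a
      rw [LinearMap.lsmul_apply, Algebra.smul_def, Ideal.Quotient.algebraMap_eq, ← map_mul, Ideal.Quotient.eq_zero_iff_mem] at ha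
      exact Ideal.Quotient.eq_zero_iff_mem.2 ((Ideal.IsPrime.mem_or_mem inferInstance ha).resolve_left ht)
    rw [← Submodule.Quotient.mk_eq_zero] at hx ⊢
    have h1 : x ⊗ₜ[R] Ideal.Quotient.mk p 1 = 0 := by
      apply hm
      rw [map_zero, LinearMap.lTensor_tmul, LinearMap.lsmul_apply, TensorProduct.tmul_smul, TensorProduct.smul_tmul']
      apply (TensorProduct.tensorQuotEquivQuotSMul N p).injective
      rw [map_zero, TensorProduct.tensorQuotEquivQuotSMul_tmul_mk, one_smul, hx]
    have h2 := congrArg (TensorProduct.tensorQuotEquivQuotSMul N p) h1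
    rwa [map_zero, TensorProduct.tensorQuotEquivQuotSMul_tmul_mk, one_smul] at h2
  let T : Submonoid S := (p.primeCompl.map (algebraMap R S)) ⊔ q'.asIdeal.primeCompl
  have hdis : Disjoint (Module.annihilator S Nb : Set S) (T : Set S) := by
    refine Set.disjoint_left.2 fun a ha haT => ?_
    obtain ⟨b, hb, c, hc, rfl⟩ := Submonoid.mem_sup.1 haT
    obtain ⟨t, ht, rfl⟩ := hb
    have h1 : c ∈ Module.annihilator S Nb := Module.mem_annihilator.2 fun x => hinjt t ht _ (by
      rw [smul_smul]; exact Module.mem_annihilator.1 ha x)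
    have h2 : Module.annihilator S Nb ≤ q'.asIdeal := Module.mem_support_iff_of_finite.1 hq2
    exact hc (h2 h1)
  obtain ⟨q, hqp, hann, hqT⟩ := Ideal.exists_le_prime_disjoint _ T hdis
  refine ⟨⟨q, hqp⟩, ?_, ?_, le_antisymm (fun a ha => ?_) (fun a ha => ?_)⟩
  · intro a ha
    by_contra haq
    exact Set.disjoint_left.1 hqT ha (Submonoid.mem_sup_right haq)
  · rw [Module.mem_support_iff_of_finite]
    exact (LinearMap.annihilator_le_of_surjective (J • ⊤ : Submodule S N).mkQ (Submodule.mkQ_surjective _)).trans hann
  · by_contra hap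
    exact Set.disjoint_left.1 hqT (Ideal.mem_comap.1 ha) (Submonoid.mem_sup_left ⟨a, hap, rfl⟩)
  · refine hann (Module.mem_annihilator.2 fun x => ?_)
    obtain ⟨x, rfl⟩ := Submodule.Quotient.mk_surjective _ x
    rw [← Submodule.Quotient.mk_smul, Submodule.Quotient.mk_eq_zero]
    exact Submodule.smul_mem_smul (Ideal.mem_map_of_mem _ ha) Submodule.mem_top

end Groth.Agent.S6263
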