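import Groth.Statements.S6264
import Mathlib.RingTheory.Ideal.HasGoingUp
import Mathlib.RingTheory.Localization.AtPrime.Basic
import Mathlib.RingTheory.Ideal.Maximal
import Mathlib.RingTheory.Ideal.Over

set_option autoImplicit false
universe u
open CAlg

namespace Groth.Agent.S6264

/-- Let R → S be a ring map with the going-up property and p a prime of R such that exactly one prime q
of S lies over p. Then the localization S_p of S at the image of R - p is a localization of S at q,
i.e. S_p = S_q. -/
theorem result {R S : Type u} [CommRing R] [CommRing S] [Algebra R S] [Algebra.HasGoingUp R S] (p : Ideal R) [p.IsPrime] (q : Ideal S) [q.IsPrime] [q.LiesOver p] (huniq : ∀ q' : Ideal S, q'.IsPrime → q'.under R = p → q' = q) : IsLocalization.AtPrime (Localization (Algebra.algebraMapSubmonoid S p.primeCompl)) q := by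
  have hM : Algebra.algebraMapSubmonoid S p.primeCompl ≤ q.primeCompl := by
    rintro _ ⟨x, hx, rfl⟩ h
    exact hx (by rw [q.over_def p]; exact h)
  refine (IsLocalization.iff_of_le_of_exists_dvd (Algebra.algebraMapSubmonoid S p.primeCompl) q.primeCompl hM fun s hs => ?_).mp inferInstance
  by_contra hne
  push Not at hne
  obtain ⟨Q, hQ, hle, hdis⟩ := Ideal.exists_le_prime_disjoint (I := Ideal.span {s}) (Algebra.algebraMapSubmonoid S p.primeCompl)
    (Set.disjoint_left.mpr fun x hx hx' => hne x hx' (Ideal.mem_span_singleton.mp hx))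
  have hQp : Q.under R ≤ p := fun x hx => by
    by_contra h
    exact Set.disjoint_left.mp hdis hx ⟨x, h, rfl⟩
  refine hs ((?_ : Q ≤ q) (hle (Ideal.mem_span_singleton_self s)))
  rcases hQp.eq_or_lt with h | h
  · exact (huniq Q hQ h).le
  · obtain ⟨Q', hle', hQ', hlies⟩ := Algebra.HasGoingUp.exists_ideal_ge_liesOver_of_lt (q := p) Q h
    exact (huniq Q' hQ' hlies.over.symm) ▸ hle'

end Groth.Agent.S6264
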