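import Groth.Statements.S6265
import Mathlib.RingTheory.Ideal.GoingDown
import Mathlib.RingTheory.Localization.AtPrime.Basic
import Mathlib.RingTheory.Ideal.Maximal
import Mathlib.RingTheory.Ideal.Over

set_option autoImplicit false
universe u
open CAlg

namespace Groth.Agent.S6265

/-- Let R → S be a ring map with the going-down property such that over every prime of R lies at most
one prime of S, and let p be a prime of R and q a prime of S above it. Then the localization S_p of
S at the image of R - p is a localization of S at q, i.e. S_p = S_q. -/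
theorem result {R S : Type u} [CommRing R] [CommRing S] [Algebra R S] [Algebra.HasGoingDown R S] (hinj : ∀ q₁ q₂ : Ideal S, q₁.IsPrime → q₂.IsPrime → q₁.under R = q₂.under R → q₁ = q₂) (p : Ideal R) [p.IsPrime] (q : Ideal S) [q.IsPrime] [q.LiesOver p] : IsLocalization.AtPrime (Localization (Algebra.algebraMapSubmonoid S p.primeCompl)) q := by
  have hM : Algebra.algebraMapSubmonoid S p.primeCompl ≤ q.primeCompl := by
    rintro _ ⟨x, hx, rfl⟩ h
    exact hx (by rw [q.over_def p]; exact h)
  refine (IsLocalization.iff_of_le_of_exists_dvd (Algebra.algebraMapSubmonoid S p.primeCompl) q.primeCompl hM fun s hs => ?_).mp inferInstance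
  by_contra hne
  push Not at hne
  obtain ⟨Q, hQ, hle, hdis⟩ := Ideal.exists_le_prime_disjoint (I := Ideal.span {s}) (Algebra.algebraMapSubmonoid S p.primeCompl)
    (Set.disjoint_left.mpr fun x hx hx' => hne x hx' (Ideal.mem_span_singleton.mp hx))
  have hQp : Q.under R ≤ p := fun x hx => by
    by_contra h
    exact Set.disjoint_left.mp hdis hx ⟨x, h, rfl⟩
  refine hs ((?_ : Q ≤ q) (hle (Ideal.mem_span_singleton_self s)))
  haveI : (Q.under R).IsPrime := Ideal.IsPrime.comap _
  obtain ⟨P, hPle, hP, hlies⟩ := Ideal.exists_ideal_le_liesOver_of_le (p := Q.under R) (q := p) q hQp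
  exact (hinj P Q hP hQ hlies.over.symm) ▸ hPle

end Groth.Agent.S6265
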