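import Groth.Statements.S6267
import Groth.Agent.FlatSES.Basic
import Mathlib.LinearAlgebra.TensorProduct.Quotient
import Mathlib.RingTheory.Flat.Tensor

set_option autoImplicit false
universe u
open CAlg Groth.Agent
open scoped TensorProduct

namespace Groth.Agent.S6267

/-- Let R be a ring and f : M → M' a map of R-modules with M' flat. Then f is universally injective
exactly when, for each finitely generated ideal I of R, the induced map M ⊗ R/I → M' ⊗ R/I (that is,
M/IM → M'/IM') is injective. -/
theorem result {R : Type u} [CommRing R] {M M' : Type u} [AddCommGroup M] [Module R M] [AddCommGroup M'] [Module R M'] [Module.Flat R M'] (f : M →ₗ[R] M') : CAlgX.UniversallyInjective R f ↔ ∀ I : Ideal R, I.FG → Function.Injective (f.rTensor (R ⧸ I)) := by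
  refine ⟨fun h I _ => h _, fun h => ?_⟩
  have hinj : Function.Injective f := by
    let e := Submodule.quotEquivOfEqBot (⊥ : Ideal R) rfl
    intro a b hab
    have h1 := @h ⊥ Submodule.fg_bot (a ⊗ₜ[R] Ideal.Quotient.mk ⊥ 1) (b ⊗ₜ[R] Ideal.Quotient.mk ⊥ 1) (by simp [hab])
    have h2 := congrArg (fun t => TensorProduct.rid R M (e.toLinearMap.lTensor M t)) h1
    have he : e (Ideal.Quotient.mk ⊥ 1) = (1 : R) := rfl
    simp only [LinearMap.lTensor_tmul, LinearEquiv.coe_coe, TensorProduct.rid_tmul, he, one_smul] at h2
    exact h2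
  have hflat : Module.Flat R (M' ⧸ LinearMap.range f) := by
    let π := (LinearMap.range f).mkQ
    rw [Module.Flat.iff_rTensor_injective]
    intro I hI
    rw [injective_iff_map_eq_zero]
    intro z hz
    obtain ⟨z, rfl⟩ := LinearMap.lTensor_surjective I (Submodule.mkQ_surjective (LinearMap.range f)) z
    have hnat : ∀ {P P' : Type u} [AddCommGroup P] [Module R P] [AddCommGroup P'] [Module R P'] (φ : P →ₗ[R] P') (t : I ⊗[R] P),
        TensorProduct.lid R P' (I.subtype.rTensor P' (φ.lTensor I t)) = φ (TensorProduct.lid R P (I.subtype.rTensor P t)) := by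
      intro P P' _ _ _ _ φ t
      induction t with
      | zero => simp
      | add a b ha hb => simp only [map_add, ha, hb]
      | tmul a b => simp
    have h0 : π (TensorProduct.lid R M' (I.subtype.rTensor M' z)) = 0 := by rw [← hnat, hz, map_zero]
    obtain ⟨m, hm⟩ := (Submodule.Quotient.mk_eq_zero _).1 h0
    have hmI : m ⊗ₜ[R] (Ideal.Quotient.mk I 1) = 0 := by
      apply h I hI
      rw [LinearMap.rTensor_tmul, hm, map_zero]
      clear hm hz h0
      induction z with
      | zero => simp
      | add a b ha hb => simp only [map_add, TensorProduct.add_tmul, ha, hb, add_zero]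
      | tmul a b =>
        have h3 : (a : R) • (Ideal.Quotient.mk I 1) = 0 := by
          rw [Algebra.smul_def, map_one, mul_one]
          exact Ideal.Quotient.eq_zero_iff_mem.2 a.2
        rw [LinearMap.rTensor_tmul, TensorProduct.lid_tmul, Submodule.subtype_apply, TensorProduct.smul_tmul, h3, TensorProduct.tmul_zero]
    obtain ⟨v, hv⟩ : ∃ v : I ⊗[R] M, TensorProduct.lid R M (I.subtype.rTensor M v) = m := by
      have h3 : m ∈ (I • ⊤ : Submodule R M) := by
        rw [← Submodule.Quotient.mk_eq_zero]
        have h4 := congrArg (TensorProduct.tensorQuotEquivQuotSMul M I) hmI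
        rw [map_zero, TensorProduct.tensorQuotEquivQuotSMul_tmul_mk, one_smul] at h4
        exact h4
      refine Submodule.smul_induction_on h3 (fun r hr u _ => ⟨(⟨r, hr⟩ : I) ⊗ₜ[R] u, by simp⟩) ?_
      rintro a b ⟨u, rfl⟩ ⟨w, rfl⟩
      exact ⟨u + w, by rw [map_add, map_add]⟩
    have hzv : z = f.lTensor I v := by
      apply Module.Flat.rTensor_preserves_injective_linearMap (M := M') I.subtype I.subtype_injective
      apply (TensorProduct.lid R M').injective
      rw [hnat, hv, hm]
    rw [hzv, ← LinearMap.comp_apply, ← LinearMap.lTensor_comp, LinearMap.range_mkQ_comp, LinearMap.lTensor_zero, LinearMap.zero_apply]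
  exact FlatSES.univInj_of_flat hinj (LinearMap.exact_map_mkQ_range f) (Submodule.mkQ_surjective _)

end Groth.Agent.S6267
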