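import Groth.Statements.S6268
import Mathlib.LinearAlgebra.TensorProduct.Tower
import Mathlib.LinearAlgebra.TensorProduct.RightExactness

set_option autoImplicit false
universe u
open CAlg

namespace Groth.Agent.S6268

/-- Suppose the structure map R → S of an R-algebra S is universally injective as an R-linear map. Then
tensoring with S detects injectivity and surjectivity of R-linear maps (and hence reflects
isomorphisms): for an R-linear g : M → N, if S ⊗ g is injective then so is g, and if S ⊗ g is
surjective then so is g. -/
theorem result {R S : Type u} [CommRing R] [CommRing S] [Algebra R S] (hS : CAlgX.UniversallyInjective R (Algebra.linearMap R S)) {M N : Type u} [AddCommGroup M] [Module R M] [AddCommGroup N] [Module R N] (g : M →ₗ[R] N) : (Function.Injective (g.lTensor S) → Function.Injective g) ∧ (Function.Surjective (g.lTensor S) → Function.Surjective g) := by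
  have hinj : ∀ (P : Type u) [AddCommGroup P] [Module R P], Function.Injective (TensorProduct.mk R S P 1) := by
    intro P _ _ a b hab
    apply (TensorProduct.lid R P).symm.injective
    apply hS P
    simpa using hab
  refine ⟨fun h a b hab => hinj M (h (by simp [hab])), fun h => ?_⟩
  let π := (LinearMap.range g).mkQ
  have h0 : π.lTensor S ∘ₗ g.lTensor S = 0 := by
    rw [← LinearMap.lTensor_comp, show π ∘ₗ g = 0 from LinearMap.ext fun x =>
      (Submodule.Quotient.mk_eq_zero _).2 ⟨x, rfl⟩, LinearMap.lTensor_zero]
  intro y
  have h1 : π.lTensor S ((1 : S) ⊗ₜ[R] y) = 0 := by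
    obtain ⟨z, hz⟩ := h ((1 : S) ⊗ₜ[R] y)
    rw [← hz, ← LinearMap.comp_apply, h0, LinearMap.zero_apply]
  have h2 : π y = 0 := hinj _ (by simpa using h1)
  exact (Submodule.Quotient.mk_eq_zero _).1 h2

end Groth.Agent.S6268
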