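import Groth.Statements.S6271
import Groth.Agent.MLMod.ProjLift
import Mathlib.RingTheory.Noetherian.Nilpotent

set_option autoImplicit false
universe u
open scoped TensorProduct
open CAlg Groth.Agent

namespace Groth.Agent.S6271

/-- Let R be a ring, I ⊆ R a locally nilpotent ideal (every element of I is nilpotent) and P̄ a finite
projective R/I-module. Then there is a finite projective R-module P such that P/IP (that is, R/I ⊗
P) is isomorphic to P̄ as an R/I-module. -/
theorem result {R : Type u} [CommRing R] (I : Ideal R) (hI : ∀ x ∈ I, IsNilpotent x) (Pb : Type u) [AddCommGroup Pb] [Module (R ⧸ I) Pb] [Module.Projective (R ⧸ I) Pb] [Module.Finite (R ⧸ I) Pb] : ∃ (P : Type u) (_ : AddCommGroup P) (_ : Module R P), Module.Projective R P ∧ Module.Finite R P ∧ Nonempty (((R ⧸ I) ⊗[R] P) ≃ₗ[R ⧸ I] Pb) := by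
  obtain ⟨n, q, hq⟩ := Module.Finite.exists_fin' (R ⧸ I) Pb
  obtain ⟨σ, hσ⟩ := Module.projective_lifting_property q LinearMap.id hq
  have hσ' : ∀ y, q (σ y) = y := fun y => LinearMap.congr_fun hσ y
  let eb : Matrix (Fin n) (Fin n) (R ⧸ I) := LinearMap.toMatrix' (σ ∘ₗ q)
  have heb' : ∀ v, eb.mulVec v = σ (q v) := fun v => by
    rw [← Matrix.toLin'_apply, Matrix.toLin'_toMatrix', LinearMap.comp_apply]
  have heb : IsIdempotentElem eb := by
    refine (Matrix.ext_iff_mulVec).2 fun v => ?_
    rw [← Matrix.mulVec_mulVec, heb', heb', hσ']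
  let Φ := (Ideal.Quotient.mk I).mapMatrix (m := Fin n)
  have hnil : ∀ A ∈ RingHom.ker Φ, IsNilpotent A := by
    intro A hA
    let a : Ideal R := Ideal.span (Set.range fun p : Fin n × Fin n => A p.1 p.2)
    have hle : a ≤ nilradical R := Ideal.span_le.2 <| by
      rintro _ ⟨p, rfl⟩
      exact hI _ (Ideal.Quotient.eq_zero_iff_mem.1 (Matrix.ext_iff.2 (RingHom.mem_ker.1 hA) p.1 p.2))
    obtain ⟨k, hk⟩ := (Ideal.FG.isNilpotent_iff_le_nilradical (Submodule.fg_span (Set.finite_range _))).2 hle
    refine ⟨k, ?_⟩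
    have hmem : ∀ j i l, (A ^ j) i l ∈ a ^ j := by
      intro j
      induction j with
      | zero => intro i l; simp
      | succ j ih =>
        intro i l
        rw [pow_succ, pow_succ, Matrix.mul_apply]
        exact Ideal.sum_mem _ fun t _ => Ideal.mul_mem_mul (ih i t) (Ideal.subset_span ⟨(t, l), rfl⟩)
    ext i l
    have h := hmem k i l
    rw [hk, Ideal.zero_eq_bot, Submodule.mem_bot] at h
    simpa using h
  have hrange : eb ∈ Φ.range := by
    choose r hr using fun i j => Ideal.Quotient.mk_surjective (eb i j)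
    exact ⟨Matrix.of r, Matrix.ext fun i j => hr i j⟩
  obtain ⟨e, he, hee⟩ := exists_isIdempotentElem_eq_of_ker_isNilpotent Φ hnil eb hrange heb
  let ρ : (Fin n → R) → (Fin n → R ⧸ I) := fun v i => Ideal.Quotient.mk I (v i)
  have hρ : ∀ v, ρ (e.mulVec v) = σ (q (ρ v)) := fun v => by
    rw [← heb', ← hee]
    exact funext fun i => RingHom.map_mulVec (Ideal.Quotient.mk I) e v i
  let E : Module.End R (Fin n → R) := Matrix.toLin' e
  have hE : ∀ v, E (E v) = E v := fun v => by
    simp only [E, Matrix.toLin'_apply, Matrix.mulVec_mulVec, he.eq]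
  let P := ↥(LinearMap.range E)
  let s : (Fin n → R) →ₗ[R] P := E.rangeRestrict
  have hs : ∀ p : P, s p.1 = p := fun ⟨p, v, hv⟩ => Subtype.ext (show E p = p by rw [← hv, hE])
  haveI : Module.Projective R P :=
    Module.Projective.of_split (LinearMap.range E).subtype s (LinearMap.ext hs)
  haveI : Module.Finite R P := Module.Finite.of_surjective s fun p => ⟨p.1, hs p⟩
  letI : Module R Pb := Module.compHom Pb (Ideal.Quotient.mk I)
  haveI : IsScalarTower R (R ⧸ I) Pb := IsScalarTower.of_algebraMap_smul fun _ _ => rfl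
  let ρL : (Fin n → R) →ₗ[R] (Fin n → R ⧸ I) :=
    { toFun := ρ, map_add' := fun a b => funext fun i => map_add _ _ _,
      map_smul' := fun a b => funext fun i => map_mul (Ideal.Quotient.mk I) a (b i) }
  let φ : P →ₗ[R] Pb := q.restrictScalars R ∘ₗ ρL ∘ₗ (LinearMap.range E).subtype
  have hφ : (I • ⊤ : Submodule R P) ≤ LinearMap.ker φ := Submodule.smul_le.2 fun a ha p _ => by
    rw [LinearMap.mem_ker, map_smul]
    show Ideal.Quotient.mk I a • φ p = 0
    rw [Ideal.Quotient.eq_zero_iff_mem.2 ha, zero_smul]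
  have hbij : Function.Bijective (Submodule.liftQ _ φ hφ) := by
    constructor
    · rw [← LinearMap.ker_eq_bot, Submodule.eq_bot_iff]
      intro x hx
      obtain ⟨p, rfl⟩ := Submodule.Quotient.mk_surjective _ x
      rw [Submodule.Quotient.mk_eq_zero, ← hs p]
      have hp : E p.1 = p.1 := congrArg Subtype.val (hs p)
      have h0 : ρ p.1 = 0 := by
        rw [← hp]
        show ρ (e.mulVec p.1) = 0
        rw [hρ, show q (ρ p.1) = 0 from hx, map_zero]
      have h1 : p.1 ∈ (I • ⊤ : Submodule R (Fin n → R)) := by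
        rw [pi_eq_sum_univ p.1]
        exact Submodule.sum_mem _ fun i _ =>
          Submodule.smul_mem_smul (Ideal.Quotient.eq_zero_iff_mem.1 (congrFun h0 i)) Submodule.mem_top
      exact MLMod.map_mem_smul_top I s h1
    · intro y
      obtain ⟨x, rfl⟩ := hq y
      choose v hv using fun i => Ideal.Quotient.mk_surjective (x i)
      refine ⟨Submodule.Quotient.mk (s v), ?_⟩
      show q (ρ (e.mulVec v)) = q x
      rw [hρ, show ρ v = x from funext hv, hσ']
  refine ⟨P, inferInstance, inferInstance, inferInstance, inferInstance, ⟨?_⟩⟩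
  exact LinearEquiv.extendScalarsOfSurjective Ideal.Quotient.mk_surjective
    ((TensorProduct.quotTensorEquivQuotSMul P I).trans (LinearEquiv.ofBijective _ hbij))

end Groth.Agent.S6271
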