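import Groth.Statements.S6273
import Mathlib.RingTheory.Spectrum.Prime.Topology
import Mathlib.RingTheory.Ideal.MinimalPrime.Localization

set_option autoImplicit false
universe u
open CAlg

namespace Groth.Agent.S6273

/-- Let R be a ring, S ⊆ R a multiplicative subset and A = S⁻¹R. If the image of Spec(A) → Spec(R) is
closed, then the localization map R → A is surjective; in particular A is isomorphic to R/I for the
ideal I = ker(R → A). -/
theorem result {R : Type u} [CommRing R] (S : Submonoid R) (A : Type u) [CommRing A] [Algebra R A] [IsLocalization S A] (hcl : IsClosed (Set.range (PrimeSpectrum.comap (algebraMap R A)))) : Function.Surjective (algebraMap R A) := by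
  let K := RingHom.ker (algebraMap R A)
  rw [PrimeSpectrum.localization_comap_range A S, PrimeSpectrum.isClosed_iff_zeroLocus_ideal] at hcl
  obtain ⟨J, hJ⟩ := hcl
  have hmem : ∀ p : PrimeSpectrum R, Disjoint (S : Set R) p.asIdeal ↔ J ≤ p.asIdeal := fun p => Set.ext_iff.1 hJ p
  -- elements of `S` are units modulo the kernel
  have hunit : ∀ s ∈ S, K ⊔ Ideal.span {s} = ⊤ := fun s hs => by
    by_contra hne
    obtain ⟨P, hP, hle⟩ := Ideal.exists_le_maximal _ hne
    obtain ⟨q, hq, hqP⟩ := Ideal.exists_minimalPrimes_le (le_sup_left.trans hle : K ≤ P)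
    haveI : q.IsPrime := hq.1.1
    have hdis : Disjoint (S : Set R) q := by
      rw [Set.disjoint_left]
      intro t ht htq
      haveI : (q.map (Ideal.Quotient.mk K)).IsPrime :=
        Ideal.map_isPrime_of_surjective Ideal.Quotient.mk_surjective (by rw [Ideal.mk_ker]; exact hq.1.2)
      have hmin : q.map (Ideal.Quotient.mk K) ∈ minimalPrimes (R ⧸ K) := by
        refine ⟨⟨inferInstance, bot_le⟩, fun Q hQ hQle => ?_⟩
        haveI := hQ.1
        have hc : (q.map (Ideal.Quotient.mk K)).comap (Ideal.Quotient.mk K) = q := by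
          rw [Ideal.comap_map_of_surjective _ Ideal.Quotient.mk_surjective, ← RingHom.ker_eq_comap_bot, Ideal.mk_ker, sup_eq_left.2 hq.1.2]
        refine Ideal.map_le_iff_le_comap.2 (hq.2 ⟨inferInstance, fun x hx => ?_⟩ ((Ideal.comap_mono hQle).trans hc.le))
        rw [Ideal.mem_comap, Ideal.Quotient.eq_zero_iff_mem.2 hx]; exact Q.zero_mem
      refine Set.disjoint_left.1 (Ideal.disjoint_nonZeroDivisors_of_mem_minimalPrimes hmin) (Ideal.mem_map_of_mem _ htq) ?_
      refine mem_nonZeroDivisors_iff_right.2 fun x hx => ?_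
      obtain ⟨x, rfl⟩ := Ideal.Quotient.mk_surjective x
      rw [← map_mul, Ideal.Quotient.eq_zero_iff_mem, RingHom.mem_ker, map_mul] at hx
      exact Ideal.Quotient.eq_zero_iff_mem.2 (RingHom.mem_ker.2 ((IsLocalization.map_units A ⟨t, ht⟩).mul_left_eq_zero.1 hx))
    have hJP : J ≤ P := ((hmem ⟨q, inferInstance⟩).1 hdis).trans hqP
    exact Set.disjoint_left.1 ((hmem ⟨P, hP.isPrime⟩).2 hJP) hs (hle (Ideal.mem_sup_right (Ideal.mem_span_singleton_self s)))
  intro a
  obtain ⟨⟨r, s⟩, hrs⟩ := IsLocalization.surj S a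
  obtain ⟨k, hk, w, hw, hkw⟩ := Submodule.mem_sup.1 ((hunit s s.2).ge (Submodule.mem_top (x := (1 : R))))
  obtain ⟨c, rfl⟩ := Ideal.mem_span_singleton'.1 hw
  refine ⟨r * c, ?_⟩
  have h1 : algebraMap R A c * algebraMap R A s = 1 := by
    rw [← map_mul, ← (algebraMap R A).map_one, ← hkw, map_add, RingHom.mem_ker.1 hk, zero_add]
  rw [map_mul, ← hrs, mul_assoc, mul_comm (algebraMap R A _) (algebraMap R A c), h1, mul_one]

end Groth.Agent.S6273
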