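import Groth.Statements.S6274
import Mathlib.RingTheory.Spectrum.Prime.Noetherian
import Mathlib.Tactic.Ring
import Mathlib.RingTheory.Localization.Basic
import Mathlib.RingTheory.Ideal.Quotient.Operations

set_option autoImplicit false
universe u
open CAlg

namespace Groth.Agent.S6274

/-- Let R be a ring, S ⊆ R a multiplicative subset and A = S⁻¹R, and assume the image of Spec(A) →
Spec(R) is closed. If Spec(R) is a Noetherian topological space (which holds when R is Noetherian)
or S is finitely generated as a monoid, then R is isomorphic to A × R' for some ring R', by an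
isomorphism whose first component is the localization map R → A. -/
theorem result {R : Type u} [CommRing R] (S : Submonoid R) (A : Type u) [CommRing A] [Algebra R A] [IsLocalization S A] (hcl : IsClosed (Set.range (PrimeSpectrum.comap (algebraMap R A)))) (h : TopologicalSpace.NoetherianSpace (PrimeSpectrum R) ∨ S.FG) : ∃ (R' : Type u) (_ : CommRing R') (e : R ≃+* A × R'), ∀ x : R, (e x).1 = algebraMap R A x := by
  classical
  let Z : Set (PrimeSpectrum R) := Set.range (PrimeSpectrum.comap (algebraMap R A))
  have hZ : Z = {p | Disjoint (S : Set R) p.asIdeal} := PrimeSpectrum.localization_comap_range A S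
  have hopen : IsOpen Z := by
    rcases h with hN | hfg
    · rw [← isClosed_compl_iff]
      have hgen : ∀ p q : PrimeSpectrum R, p.asIdeal ≤ q.asIdeal → q ∈ Z → p ∈ Z := by
        intro p q hpq hq
        rw [hZ] at hq ⊢
        exact hq.mono_right hpq
      have hspec : ∀ p q : PrimeSpectrum R, p.asIdeal ≤ q.asIdeal → p ∈ Z → q ∈ Z := fun p q hpq hp =>
        ((PrimeSpectrum.le_iff_specializes p q).mp hpq).mem_closed hcl hp
      let M : Set (PrimeSpectrum R) := {p | p.asIdeal ∈ minimalPrimes R ∧ p ∉ Z}
      have hM : M.Finite := by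
        refine Set.Finite.of_finite_image ?_ (fun p _ q _ hpq => PrimeSpectrum.ext hpq)
        refine Set.Finite.subset (s := minimalPrimes R) ?_ ?_
        · haveI := hN
          haveI : Finite ↥(irreducibleComponents (PrimeSpectrum R)) :=
            TopologicalSpace.NoetherianSpace.finite_irreducibleComponents.to_subtype
          haveI : Finite ↥(minimalPrimes R) :=
            Finite.of_equiv _ ((minimalPrimes.equivIrreducibleComponents R).toEquiv.trans OrderDual.ofDual).symm
          exact Set.toFinite _
        · rintro _ ⟨p, hp, rfl⟩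
          exact hp.1
      have hU : Zᶜ = ⋃ p ∈ M, PrimeSpectrum.zeroLocus (p.asIdeal : Set R) := by
        ext q
        simp only [Set.mem_compl_iff, Set.mem_iUnion, PrimeSpectrum.mem_zeroLocus, SetLike.coe_subset_coe,
          exists_prop]
        constructor
        · intro hq
          obtain ⟨m, hm, hmq⟩ := Ideal.exists_minimalPrimes_le (bot_le (a := q.asIdeal))
          exact ⟨⟨m, hm.1.1⟩, ⟨hm, fun hmZ => hq (hspec ⟨m, hm.1.1⟩ q hmq hmZ)⟩, hmq⟩
        · rintro ⟨p, ⟨-, hp⟩, hpq⟩ hq
          exact hp (hgen p q hpq hq)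
      rw [hU]
      exact hM.isClosed_biUnion fun p _ => PrimeSpectrum.isClosed_zeroLocus _
    · obtain ⟨T, hT⟩ := hfg
      have : Z = PrimeSpectrum.basicOpen (∏ t ∈ T, t) := by
        rw [hZ]
        ext p
        simp only [Set.mem_setOf_eq, SetLike.mem_coe, PrimeSpectrum.mem_basicOpen, p.2.prod_mem_iff, not_exists,
          not_and]
        constructor
        · intro hd t ht htp
          exact Set.disjoint_left.mp hd (hT ▸ Submonoid.subset_closure ht) htp
        · intro hd
          rw [Set.disjoint_left]
          intro x hx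
          rw [← hT] at hx
          induction hx using Submonoid.closure_induction with
          | mem t ht => exact hd t ht
          | one => exact fun h1 => p.2.ne_top ((Ideal.eq_top_iff_one _).mpr h1)
          | mul a b _ _ ha hb => exact fun hab => (p.2.mem_or_mem hab).elim ha hb
      rw [this]
      exact (PrimeSpectrum.basicOpen _).isOpen
  obtain ⟨e, he, heZ⟩ := PrimeSpectrum.isClopen_iff.mp ⟨hcl, hopen⟩
  have heA : algebraMap R A e = 1 := by
    have hu : IsUnit (algebraMap R A e) := by
      by_contra hnu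
      obtain ⟨M, hM, hmem⟩ := exists_max_ideal_of_mem_nonunits hnu
      have : PrimeSpectrum.comap (algebraMap R A) ⟨M, hM.isPrime⟩ ∈ Z := ⟨_, rfl⟩
      have hh : PrimeSpectrum.comap (algebraMap R A) ⟨M, hM.isPrime⟩ ∈
          (PrimeSpectrum.basicOpen e : Set (PrimeSpectrum R)) := heZ ▸ this
      exact hh hmem
    exact hu.mul_left_cancel (by rw [← map_mul, he.eq, mul_one])
  have hunit : ∀ s : S, IsUnit (Ideal.Quotient.mk (Ideal.span {1 - e}) (s : R)) := by
    intro s
    by_contra hnu
    obtain ⟨M, hM, hmem⟩ := exists_max_ideal_of_mem_nonunits hnu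
    let p : PrimeSpectrum R := PrimeSpectrum.comap (Ideal.Quotient.mk (Ideal.span {1 - e})) ⟨M, hM.isPrime⟩
    have h1 : (1 - e) ∈ p.asIdeal := by
      change Ideal.Quotient.mk (Ideal.span {1 - e}) (1 - e) ∈ M
      rw [Ideal.Quotient.eq_zero_iff_mem.mpr (Ideal.mem_span_singleton_self _)]
      exact zero_mem _
    have hp : p ∈ (PrimeSpectrum.basicOpen e : Set (PrimeSpectrum R)) := fun hep =>
      p.2.ne_top ((Ideal.eq_top_iff_one _).mpr (by simpa using add_mem h1 hep))
    have : p ∈ Z := by
      show p ∈ Set.range (PrimeSpectrum.comap (algebraMap R A))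
      rw [heZ]
      exact hp
    rw [hZ] at this
    exact Set.disjoint_left.mp this s.2 hmem
  let g : A →+* R ⧸ Ideal.span {1 - e} := IsLocalization.lift hunit
  have hg : ∀ x, g (algebraMap R A x) = Ideal.Quotient.mk _ x := IsLocalization.lift_eq hunit
  have hker : ∀ x, algebraMap R A x = 0 → x * e = 0 := by
    intro x hx
    have : Ideal.Quotient.mk (Ideal.span {1 - e}) x = 0 := by rw [← hg, hx, map_zero]
    obtain ⟨c, rfl⟩ := Ideal.mem_span_singleton'.mp (Ideal.Quotient.eq_zero_iff_mem.mp this)
    rw [mul_assoc, sub_mul, one_mul, he.eq, sub_self, mul_zero]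
  have hsurj : ∀ a : A, ∃ x, algebraMap R A x = a := by
    intro a
    obtain ⟨⟨r, s⟩, hrs⟩ := IsLocalization.surj S a
    obtain ⟨t, ht⟩ := Ideal.Quotient.mk_surjective (↑((hunit s).unit⁻¹) : R ⧸ Ideal.span {1 - e})
    have hst : algebraMap R A ((s : R) * t) = 1 := by
      have : Ideal.Quotient.mk (Ideal.span {1 - e}) ((s : R) * t) = Ideal.Quotient.mk _ (1 : R) := by
        rw [map_mul, ht, map_one, IsUnit.mul_val_inv]
      obtain ⟨c, hc⟩ := Ideal.mem_span_singleton'.mp (Ideal.Quotient.eq.mp this)
      rw [← sub_eq_zero, ← map_one (algebraMap R A), ← map_sub, ← hc, map_mul, map_sub, map_one, heA,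
        sub_self, mul_zero]
    refine ⟨r * t, ?_⟩
    calc algebraMap R A (r * t) = algebraMap R A r * algebraMap R A t := map_mul _ _ _
      _ = a * algebraMap R A s * algebraMap R A t := by rw [hrs]
      _ = a := by rw [mul_assoc, ← map_mul, hst, mul_one]
  refine ⟨R ⧸ Ideal.span {e}, inferInstance,
    RingEquiv.ofBijective ((algebraMap R A).prod (Ideal.Quotient.mk (Ideal.span {e}))) ⟨?_, ?_⟩,
    fun x => rfl⟩
  · rw [injective_iff_map_eq_zero]
    intro x hx
    obtain ⟨h1, h2⟩ := Prod.mk.inj hx
    obtain ⟨c, rfl⟩ := Ideal.mem_span_singleton'.mp (Ideal.Quotient.eq_zero_iff_mem.mp h2)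
    have := hker _ h1
    rwa [mul_assoc, he.eq] at this
  · rintro ⟨a, b⟩
    obtain ⟨x, rfl⟩ := hsurj a
    obtain ⟨y, rfl⟩ := Ideal.Quotient.mk_surjective b
    refine ⟨x * e + y * (1 - e), Prod.ext ?_ ?_⟩
    · show algebraMap R A (x * e + y * (1 - e)) = _
      simp [heA]
    · show Ideal.Quotient.mk _ (x * e + y * (1 - e)) = _
      rw [Ideal.Quotient.eq, Ideal.mem_span_singleton']
      exact ⟨x - y, by ring⟩

end Groth.Agent.S6274
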