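import Groth.Statements.S6275
import Mathlib.RingTheory.Localization.AtPrime.Basic
import Mathlib.RingTheory.Localization.Away.Basic
import Mathlib.RingTheory.Noetherian.Basic

set_option autoImplicit false
universe u
open CAlg

namespace Groth.Agent.S6275

/-- Let R be a Noetherian ring and p ⊆ R a prime. Then there is f ∈ R, f ∉ p, such that R_f → R_p is
injective; equivalently every x ∈ R mapping to zero in R_p maps to zero in R_f. (The cases of a
domain and of a reduced ring with finitely many minimal primes are not included here.) -/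
theorem result {R : Type u} [CommRing R] [IsNoetherianRing R] (p : Ideal R) [p.IsPrime] : ∃ f : R, f ∉ p ∧ ∀ x : R, algebraMap R (Localization.AtPrime p) x = 0 → algebraMap R (Localization.Away f) x = 0 := by
  classical
  let K := RingHom.ker (algebraMap R (Localization.AtPrime p))
  obtain ⟨S, hS⟩ := (IsNoetherian.noetherian K : K.FG)
  choose! t ht1 ht2 using fun z (hz : z ∈ S) => (show ∃ s : R, s ∉ p ∧ s * z = 0 by
    obtain ⟨s, hs⟩ := (IsLocalization.map_eq_zero_iff p.primeCompl (Localization.AtPrime p) z).1 (show z ∈ K from hS ▸ Submodule.subset_span hz)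
    exact ⟨s, s.2, hs⟩)
  let f := ∏ z ∈ S, t z
  refine ⟨f, fun h => ?_, fun x hx => ?_⟩
  · obtain ⟨z, hz, hzp⟩ := Ideal.IsPrime.prod_mem_iff.1 h
    exact ht1 z hz hzp
  · refine (IsLocalization.map_eq_zero_iff (Submonoid.powers f) _ _).2 ⟨⟨f, Submonoid.mem_powers f⟩, ?_⟩
    show f * x = 0
    have hx' : x ∈ Submodule.span R (S : Set R) := hS.ge (show x ∈ K from hx)
    clear hx
    induction hx' using Submodule.span_induction with
    | mem z hz =>
      obtain ⟨d, hd⟩ := Finset.dvd_prod_of_mem t hz
      rw [show f = d * t z from hd.trans (mul_comm _ _), mul_assoc, ht2 z hz, mul_zero]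
    | zero => rw [mul_zero]
    | add a b _ _ ha hb => rw [mul_add, ha, hb, add_zero]
    | smul a b _ hb => rw [smul_eq_mul, mul_left_comm, hb, mul_zero]

end Groth.Agent.S6275
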