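import Groth.Statements.S6279
import Mathlib
import Groth.Agent.NormalBC.DirLimit
import Groth.Agent.NormalBC.Apps
-- import your own Groth.Agent.* helpers here

set_option autoImplicit false
universe u
open CAlg

namespace Groth.Agent.S6279

/-- A finite product of normal rings is normal (a ring is normal when every localization at a prime is
an integrally closed domain). -/
theorem result {ι : Type u} [Finite ι] (A : ι → Type u) [∀ i, CommRing (A i)] (hA : ∀ i, EGA4.IsNormalRing (A i)) : EGA4.IsNormalRing (∀ i, A i) := by
  intro P hP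
  obtain ⟨⟨j, q⟩, hq⟩ := (PrimeSpectrum.sigmaToPi_bijective (R := A)).2 ⟨P, hP⟩
  classical
  let g : (∀ i, A i) →+* A j := Pi.evalRingHom A j
  letI : Algebra (∀ i, A i) (A j) := g.toAlgebra
  haveI : IsLocalization.Away (Pi.single j (1 : A j)) (A j) :=
    IsLocalization.away_of_isIdempotentElem (by simp [IsIdempotentElem, ← Pi.single_mul]) (by
      ext x
      rw [RingHom.mem_ker, Ideal.mem_span_singleton]
      refine ⟨fun h => ⟨x, ?_⟩, fun ⟨c, hc⟩ => ?_⟩
      · funext i
        rcases eq_or_ne i j with rfl | hi
        · have h' : x i = 0 := h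
          simp [h']
        · simp [hi]
      · show x j = 0
        rw [hc]; simp) (fun y => ⟨Pi.single j y, by show (Pi.single j y : ∀ i, A i) j = y; simp⟩)
  have hP' : P = q.asIdeal.comap g := (congrArg PrimeSpectrum.asIdeal hq).symm
  subst hP'
  haveI := IsLocalization.isLocalization_isLocalization_atPrime_isLocalization (Submonoid.powers (Pi.single j (1 : A j)))
    (Localization.AtPrime q.asIdeal) q.asIdeal
  let e := (IsLocalization.algEquiv (q.asIdeal.comap g).primeCompl
    (Localization.AtPrime (q.asIdeal.comap g)) (Localization.AtPrime q.asIdeal)).toRingEquiv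
  obtain ⟨_, _⟩ := hA j q.asIdeal
  exact ⟨e.toMulEquiv.isDomain (Localization.AtPrime q.asIdeal),
    IsIntegrallyClosed.of_equiv (R := Localization.AtPrime q.asIdeal) e.symm⟩

end Groth.Agent.S6279
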