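import Groth.Statements.S6281
import Mathlib.RingTheory.Flat.FaithfullyFlat.Basic
import Mathlib.LinearAlgebra.TensorProduct.Tower

set_option autoImplicit false
universe u
open CAlg

namespace Groth.Agent.S6281

/-- For an R-algebra S and an S-module M, flatness of S over R follows once M is both flat over R and
faithfully flat over S. -/
theorem result {R S : Type u} [CommRing R] [CommRing S] [Algebra R S] (M : Type u) [AddCommGroup M] [Module S M] [Module R M] [IsScalarTower R S M] [Module.Flat R M] [Module.FaithfullyFlat S M] : Module.Flat R S := by
  refine Module.Flat.iff_lTensor_preserves_injective_linearMap.2 fun N N' _ _ _ _ f hf => ?_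
  have h1 : Function.Injective (f.lTensor M) := Module.Flat.lTensor_preserves_injective_linearMap f hf
  have h2 : Function.Injective ((f.baseChange S).lTensor M) := by
    intro x y hxy
    have e := fun z => DFunLike.congr_fun (TensorProduct.AlgebraTensorModule.lTensor_comp_cancelBaseChange (R := R) (A := S) (B := S) (M := M) f) z
    exact (TensorProduct.AlgebraTensorModule.cancelBaseChange R S S M N).injective (h1
      ((e x).trans ((congrArg (TensorProduct.AlgebraTensorModule.cancelBaseChange R S S M N') hxy).trans (e y).symm)))
  exact (Module.FaithfullyFlat.lTensor_injective_iff_injective S M (f.baseChange S)).1 h2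

end Groth.Agent.S6281
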