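import Groth.Statements.S6286
import Mathlib.RingTheory.LocalRing.ResidueField.Ideal
import Mathlib.RingTheory.Flat.Basic
import Mathlib.LinearAlgebra.Basis.VectorSpace
import Mathlib.RingTheory.Nilpotent.Lemmas
import Mathlib.RingTheory.Localization.FractionRing

set_option autoImplicit false
universe u
open scoped TensorProduct
open CAlg
open scoped TensorProduct

namespace Groth.Agent.S6286

/-- Let k be a field, R and S k-algebras, S' ⊆ S a k-subalgebra and f ∈ R ⊗ₖ S', with image f again in R
⊗ₖ S. Then the images in Spec(R) of Spec((R ⊗ₖ S)_f) and of Spec((R ⊗ₖ S')_f) coincide: a prime p of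
R is the contraction of a prime of R ⊗ₖ S not containing f if and only if it is the contraction of a
prime of R ⊗ₖ S' not containing f. -/
theorem result (k : Type u) [Field k] (R S : Type u) [CommRing R] [Algebra k R] [CommRing S] [Algebra k S] (S' : Subalgebra k S) (f : R ⊗[k] S') (p : PrimeSpectrum R) : (∃ q : PrimeSpectrum (R ⊗[k] S), Algebra.TensorProduct.map (AlgHom.id k R) S'.val f ∉ q.asIdeal ∧ q.asIdeal.comap (algebraMap R (R ⊗[k] S)) = p.asIdeal) ↔ (∃ q' : PrimeSpectrum (R ⊗[k] S'), f ∉ q'.asIdeal ∧ q'.asIdeal.comap (algebraMap R (R ⊗[k] S')) = p.asIdeal) := by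
  classical
  let ι := Algebra.TensorProduct.map (AlgHom.id k R) S'.val
  have hι : ι.toRingHom.comp (algebraMap R (R ⊗[k] S')) = algebraMap R (R ⊗[k] S) := by
    ext r
    simp [ι, Algebra.TensorProduct.algebraMap_apply]
  constructor
  · rintro ⟨q, hq, hqp⟩
    haveI := q.2
    refine ⟨⟨q.asIdeal.comap ι.toRingHom, Ideal.IsPrime.comap _⟩, hq, ?_⟩
    show (q.asIdeal.comap ι.toRingHom).comap _ = _
    rw [Ideal.comap_comap, hι, hqp]
  · rintro ⟨q', hq', hqp⟩
    haveI := q'.2
    let L := FractionRing ((R ⊗[k] S') ⧸ q'.asIdeal)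
    let φ : R ⊗[k] S' →ₐ[k] L :=
      (IsScalarTower.toAlgHom k ((R ⊗[k] S') ⧸ q'.asIdeal) L).comp (Ideal.Quotient.mkₐ k q'.asIdeal)
    have hφ : ∀ z, φ z = 0 ↔ z ∈ q'.asIdeal := fun z => by
      simp only [φ, AlgHom.comp_apply, Ideal.Quotient.mkₐ_eq_mk, IsScalarTower.toAlgHom_apply]
      exact (map_eq_zero_iff (algebraMap ((R ⊗[k] S') ⧸ q'.asIdeal) L) (IsFractionRing.injective _ L)).trans Ideal.Quotient.eq_zero_iff_mem
    let φR : R →ₐ[k] L := φ.comp Algebra.TensorProduct.includeLeft
    let φS : S' →ₐ[k] L := φ.comp Algebra.TensorProduct.includeRight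
    have hkerR : ∀ r, φR r = 0 ↔ r ∈ p.asIdeal := fun r => by
      rw [← hqp, Ideal.mem_comap, ← hφ]
      rfl
    let ρ : p.asIdeal.ResidueField →ₐ[k] L :=
      { Ideal.ResidueField.lift p.asIdeal φR.toRingHom (fun r hr => (hkerR r).mpr hr) (fun r hr => by
          rw [Submonoid.mem_comap, IsUnit.mem_submonoid_iff, isUnit_iff_ne_zero]
          exact fun h => hr ((hkerR r).mp h)) with
        commutes' := fun c => by
          show Ideal.ResidueField.lift p.asIdeal φR.toRingHom _ _ (algebraMap k p.asIdeal.ResidueField c) = _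
          rw [IsScalarTower.algebraMap_apply k R p.asIdeal.ResidueField, Ideal.ResidueField.lift_algebraMap]
          exact φR.commutes c }
    let j : R →ₐ[k] p.asIdeal.ResidueField := IsScalarTower.toAlgHom k R p.asIdeal.ResidueField
    let Φ : p.asIdeal.ResidueField ⊗[k] S' →ₐ[k] L := Algebra.TensorProduct.lift ρ φS fun _ _ => Commute.all _ _
    have hcomp : Φ.comp (Algebra.TensorProduct.map j (AlgHom.id k S')) = φ := by
      refine Algebra.TensorProduct.ext' fun r s => ?_
      have h1 : ρ (j r) = φR r := by simp [ρ, j]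
      simp only [Φ, AlgHom.comp_apply, Algebra.TensorProduct.map_tmul, AlgHom.id_apply,
        Algebra.TensorProduct.lift_tmul, h1]
      show φ (r ⊗ₜ 1) * φ (1 ⊗ₜ s) = φ (r ⊗ₜ s)
      rw [← map_mul, Algebra.TensorProduct.tmul_mul_tmul, mul_one, one_mul]
    let g := Algebra.TensorProduct.map j (AlgHom.id k S') f
    have hg : ¬ IsNilpotent g := fun h => hq' ((hφ f).mp (by
      rw [← hcomp]
      exact (h.map Φ).eq_zero))
    let ικ := Algebra.TensorProduct.map (AlgHom.id k p.asIdeal.ResidueField) S'.val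
    have hinj : Function.Injective ικ :=
      Module.Flat.lTensor_preserves_injective_linearMap (M := p.asIdeal.ResidueField) S'.val.toLinearMap Subtype.val_injective
    have hg' : ¬ IsNilpotent (ικ g) := fun h => hg ((IsNilpotent.map_iff hinj).mp h)
    rw [← mem_nilradical, nilradical_eq_sInf, Submodule.mem_sInf] at hg'
    push Not at hg'
    obtain ⟨Q, hQ, hgQ⟩ := hg'
    haveI : Ideal.IsPrime Q := hQ
    let jS := Algebra.TensorProduct.map j (AlgHom.id k S)
    refine ⟨⟨Ideal.comap jS.toRingHom Q, Ideal.IsPrime.comap _⟩, ?_, ?_⟩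
    · intro hmem
      apply hgQ
      have : ικ g = jS (ι f) := by
        show (ικ.comp (Algebra.TensorProduct.map j (AlgHom.id k S'))) f = (jS.comp ι) f
        congr 1
        exact Algebra.TensorProduct.ext' fun r s => by simp [ικ, jS, ι]
      rw [this]
      exact hmem
    · have h1 : jS.toRingHom.comp (algebraMap R (R ⊗[k] S)) =
          (algebraMap p.asIdeal.ResidueField (p.asIdeal.ResidueField ⊗[k] S)).comp (algebraMap R p.asIdeal.ResidueField) := by
        ext r
        simp [jS, j, Algebra.TensorProduct.algebraMap_apply]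
      have h2 : Ideal.comap (algebraMap p.asIdeal.ResidueField (p.asIdeal.ResidueField ⊗[k] S)) Q = ⊥ :=
        (Ideal.eq_bot_or_top _).resolve_right (Ideal.IsPrime.comap _).ne_top
      show (Ideal.comap jS.toRingHom Q).comap _ = _
      rw [Ideal.comap_comap, h1, ← Ideal.comap_comap, h2]
      ext r
      rw [Ideal.mem_comap, Ideal.mem_bot, Ideal.algebraMap_residueField_eq_zero]

end Groth.Agent.S6286
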