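import Groth.Statements.S6287
import Mathlib.Algebra.Colimit.Ring
import Mathlib.RingTheory.Valuation.ValuationRing

set_option autoImplicit false
universe u
open CAlg

namespace Groth.Agent.S6287

/-- Let (A_i) be a directed system of valuation rings. Then the colimit A = colim A_i is a valuation
ring (in particular a domain). -/
theorem result {ι : Type u} [Preorder ι] [Nonempty ι] [IsDirected ι (· ≤ ·)] (G : ι → Type u) [∀ i, CommRing (G i)] [∀ i, IsDomain (G i)] [∀ i, ValuationRing (G i)] (f : ∀ i j, i ≤ j → G i →+* G j) [DirectedSystem G fun i j h => f i j h] : ∃ _ : IsDomain (Ring.DirectLimit G fun i j h => f i j h), ValuationRing (Ring.DirectLimit G fun i j h => f i j h) := by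
  have : Nontrivial (Ring.DirectLimit G fun i j h => f i j h) := by
    refine ⟨0, 1, fun h => ?_⟩
    let i := Classical.arbitrary ι
    obtain ⟨j, hij, hj⟩ := Ring.DirectLimit.of.zero_exact (i := i) (x := (1 : G i)) ((map_one _).trans h.symm)
    exact one_ne_zero ((map_one (f i j hij)).symm.trans hj)
  have hcommon : ∀ x y : Ring.DirectLimit G fun i j h => f i j h, ∃ (i : ι) (a b : G i),
      Ring.DirectLimit.of G (fun i j h => f i j h) i a = x ∧ Ring.DirectLimit.of G (fun i j h => f i j h) i b = y := by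
    intro x y
    obtain ⟨i, a, rfl⟩ := Ring.DirectLimit.exists_of x
    obtain ⟨j, b, rfl⟩ := Ring.DirectLimit.exists_of y
    obtain ⟨k, hik, hjk⟩ := exists_ge_ge i j
    exact ⟨k, f i k hik a, f j k hjk b, Ring.DirectLimit.of_f hik a, Ring.DirectLimit.of_f hjk b⟩
  have : NoZeroDivisors (Ring.DirectLimit G fun i j h => f i j h) := by
    refine ⟨fun {x y} h => ?_⟩
    obtain ⟨i, a, b, rfl, rfl⟩ := hcommon x y
    rw [← map_mul] at h
    obtain ⟨j, hij, hj⟩ := Ring.DirectLimit.of.zero_exact h
    rw [map_mul] at hj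
    exact (mul_eq_zero.1 hj).imp (fun h0 => by rw [← Ring.DirectLimit.of_f hij, h0, map_zero])
      (fun h0 => by rw [← Ring.DirectLimit.of_f hij, h0, map_zero])
  refine ⟨NoZeroDivisors.to_isDomain _, ?_⟩
  have := NoZeroDivisors.to_isDomain (Ring.DirectLimit G fun i j h => f i j h)
  rw [ValuationRing.iff_dvd_total]
  refine ⟨fun x y => ?_⟩
  obtain ⟨i, a, b, rfl, rfl⟩ := hcommon x y
  exact ((ValuationRing.iff_dvd_total.1 inferInstance).total a b).imp (map_dvd _) (map_dvd _)

end Groth.Agent.S6287
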