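import Groth.Statements.S6289
import Mathlib.RingTheory.Valuation.ValuationSubring
import Mathlib.RingTheory.LocalRing.ResidueField.Basic

set_option autoImplicit false
universe u
open CAlg

namespace Groth.Agent.S6289

/-- Let A' be a valuation ring with residue field K and A ⊆ K a valuation ring with fraction field K.
Then the subring C of A' consisting of the elements whose residue class lies in A is a valuation
ring. -/
theorem result (A' : Type u) [CommRing A'] [IsDomain A'] [ValuationRing A'] (A : ValuationSubring (IsLocalRing.ResidueField A')) : ValuationRing (A.toSubring.comap (IsLocalRing.residue A')) := by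
  refine @ValuationRing.mk _ _ _ ⟨fun a b => ?_⟩
  wlog hdvd : ∃ c : A', (a : A') * c = b generalizing a b
  · rcases PreValuationRing.cond (a : A') b with ⟨c, hc⟩
    rcases hc with hc | hc
    · exact absurd ⟨c, hc⟩ hdvd
    · obtain ⟨d, hd⟩ := this b a ⟨c, hc⟩
      exact ⟨d, hd.symm⟩
  obtain ⟨c, hc⟩ := hdvd
  rcases A.mem_or_inv_mem (IsLocalRing.residue A' c) with hm | hm
  · exact ⟨⟨c, hm⟩, Or.inl (Subtype.ext hc)⟩
  · by_cases hu : IsUnit c
    · obtain ⟨u, rfl⟩ := hu
      have hm' : ((u⁻¹ : A'ˣ) : A') ∈ A.toSubring.comap (IsLocalRing.residue A') := by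
        show IsLocalRing.residue A' _ ∈ A
        rw [map_units_inv]; exact hm
      exact ⟨⟨_, hm'⟩, Or.inr (Subtype.ext (show (b : A') * ((u⁻¹ : A'ˣ) : A') = a by rw [← hc, Units.mul_inv_cancel_right]))⟩
    · refine ⟨⟨c, ?_⟩, Or.inl (Subtype.ext hc)⟩
      show IsLocalRing.residue A' c ∈ A
      rw [(IsLocalRing.residue_eq_zero_iff c).2 hu]
      exact A.zero_mem

end Groth.Agent.S6289
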