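import Groth.Statements.S6290
import Mathlib.RingTheory.Filtration

set_option autoImplicit false
universe u
open CAlg

namespace Groth.Agent.S6290

/-- Let R be a Noetherian ring, I ⊆ R an ideal, M a finite R-module and N = ⋂ₙ IⁿM. Then for every prime
p ⊇ I there is f ∈ R, f ∉ p, with N_f = 0, i.e. every element of N is annihilated by some power of
f. -/
theorem result {R : Type u} [CommRing R] [IsNoetherianRing R] (I : Ideal R) (M : Type u) [AddCommGroup M] [Module R M] [Module.Finite R M] (p : Ideal R) [p.IsPrime] (hIp : I ≤ p) : ∃ f : R, f ∉ p ∧ ∀ x ∈ (⨅ n : ℕ, I ^ n • (⊤ : Submodule R M)), ∃ k : ℕ, f ^ k • x = 0 := by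
  classical
  set N : Submodule R M := ⨅ n : ℕ, I ^ n • (⊤ : Submodule R M)
  obtain ⟨s, hs⟩ := (IsNoetherian.noetherian N)
  have hg : ∀ g ∈ s, ∃ r : I, (r : R) • g = g := fun g hg =>
    (I.mem_iInf_smul_pow_eq_bot_iff g).1 (by
      change g ∈ N
      rw [← hs]; exact Submodule.subset_span hg)
  choose r hr using hg
  let f := ∏ g ∈ s.attach, (1 - (r g.1 g.2 : R))
  refine ⟨f, fun hf => ?_, fun x hx => ⟨1, ?_⟩⟩
  · obtain ⟨g, -, hg⟩ := (Ideal.IsPrime.prod_mem_iff (p := p)).1 hf
    have h2 := p.add_mem hg (hIp (r g.1 g.2).2)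
    rw [sub_add_cancel] at h2
    exact Ideal.IsPrime.ne_top ‹_› ((Ideal.eq_top_iff_one p).2 h2)
  · rw [pow_one]
    have hle : N ≤ LinearMap.ker (f • LinearMap.id : M →ₗ[R] M) := by
      rw [← hs, Submodule.span_le]
      intro g hg
      obtain ⟨d, hd⟩ := Finset.dvd_prod_of_mem (fun g : s => (1 - (r g.1 g.2 : R))) (Finset.mem_attach s ⟨g, hg⟩)
      change f • g = 0
      rw [show f = (1 - (r g hg : R)) * d from hd, mul_comm, mul_smul, sub_smul, one_smul, hr, sub_self, smul_zero]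
    exact hle hx

end Groth.Agent.S6290
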