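import Groth.Statements.S6294
import Mathlib.RingTheory.Localization.AtPrime.Basic
import Mathlib.RingTheory.Spectrum.Prime.Basic
import Mathlib.RingTheory.Ideal.Operations
import Mathlib.Algebra.Group.Pi.Units

set_option autoImplicit false
universe u
open CAlg

namespace Groth.Agent.S6294

/-- Let R be a ring with finitely many minimal primes q₁, …, q_t, and assume that the zerodivisors of R
are precisely the elements of q₁ ∪ … ∪ q_t. Then Q(R), the total ring of fractions of R, equals
R_{q₁} × … × R_{q_t}: the diagonal map R → ∏ R_{q_i} is a localization of R at its non-zerodivisors. -/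
theorem result {R : Type u} [CommRing R] {ι : Type} [Fintype ι] (q : ι → Ideal R) [∀ i, (q i).IsPrime] (hinj : Function.Injective q) (hmin : ∀ P : Ideal R, P ∈ minimalPrimes R ↔ P ∈ Set.range q) (hzd : ∀ x : R, x ∈ nonZeroDivisors R ↔ ∀ i, x ∉ q i) : IsLocalization (nonZeroDivisors R) (∀ i, Localization.AtPrime (q i)) := by
  classical
  have hnot : ∀ i j, j ≠ i → ¬ q j ≤ q i := by
    intro i j hji hle
    exact hji (hinj (le_antisymm hle ((((hmin _).2 ⟨i, rfl⟩)).2 ⟨inferInstance, bot_le⟩ hle)))
  have ht : ∀ i, ∃ t : R, t ∉ q i ∧ ∀ j, j ≠ i → t ∈ q j := by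
    intro i
    have hch : ∀ j, j ≠ i → ∃ x, x ∈ q j ∧ x ∉ q i := fun j hj => Set.not_subset.1 (hnot i j hj)
    choose x hx hx' using hch
    refine ⟨∏ j : {j // j ≠ i}, x j.1 j.2, fun h => ?_, fun j hj => ?_⟩
    · obtain ⟨j, -, hj⟩ := Ideal.IsPrime.prod_mem_iff.1 h
      exact hx' _ j.2 hj
    · exact Ideal.prod_mem _ (Finset.mem_univ (⟨j, hj⟩ : {j // j ≠ i})) (hx j hj)
  choose t ht ht' using ht
  have hnil : ∀ j, ∀ r ∈ q j, IsNilpotent (algebraMap R (Localization.AtPrime (q j)) r) := by
    intro j r hr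
    rw [← mem_nilradical, nilradical_eq_sInf]
    refine Submodule.mem_sInf.2 fun (P : Ideal (Localization.AtPrime (q j))) hP => ?_
    have hP : P.IsPrime := hP
    have h1 : Disjoint ((q j).primeCompl : Set R) (P.comap (algebraMap R _) : Set R) :=
      ((IsLocalization.isPrime_iff_isPrime_disjoint (q j).primeCompl (Localization.AtPrime (q j)) P).1 hP).2
    have h2 : P.comap (algebraMap R (Localization.AtPrime (q j))) ≤ q j := fun z hz => by
      by_contra hzq
      exact Set.disjoint_left.1 h1 hzq hz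
    exact (((hmin _).2 ⟨j, rfl⟩)).2 ⟨Ideal.IsPrime.comap _, bot_le⟩ h2 hr
  have hN : ∀ i j, j ≠ i → ∃ k, (algebraMap R (Localization.AtPrime (q j)) (t i)) ^ k = 0 := fun i j h => hnil j _ (ht' i j h)
  choose k hk using hN
  let N : ι → ℕ := fun i => 1 + ∑ j, if h : j ≠ i then k i j h else 0
  let T : ι → R := fun i => t i ^ N i
  have hT : ∀ i, T i ∉ q i := fun i h => ht i (Ideal.IsPrime.mem_of_pow_mem inferInstance _ h)
  have hT0 : ∀ i j, j ≠ i → algebraMap R (Localization.AtPrime (q j)) (T i) = 0 := by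
    intro i j h
    rw [map_pow]
    refine pow_eq_zero_of_le ?_ (hk i j h)
    exact le_add_left ((le_of_eq (dif_pos h).symm).trans (Finset.single_le_sum (f := fun j => if h : j ≠ i then k i j h else 0) (fun _ _ => Nat.zero_le _) (Finset.mem_univ j)))
  have himg : ∀ (c : ι → R) (j : ι), algebraMap R (Localization.AtPrime (q j)) (∑ i, T i * c i) = algebraMap R _ (T j * c j) := by
    intro c j
    rw [map_sum]
    refine Finset.sum_eq_single j (fun i _ hi => ?_) (fun h => absurd (Finset.mem_univ j) h)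
    rw [map_mul, hT0 i j (Ne.symm hi), zero_mul]
  have hnzd : ∀ c : ι → R, (∀ i, c i ∉ q i) → (∑ i, T i * c i) ∈ nonZeroDivisors R := by
    intro c hc
    refine (hzd _).2 fun j h => ?_
    have h1 : IsUnit (algebraMap R (Localization.AtPrime (q j)) (∑ i, T i * c i)) := by
      rw [himg]
      exact IsLocalization.map_units _ (⟨T j * c j, fun h => (Ideal.IsPrime.mem_or_mem inferInstance h).elim (hT j) (hc j)⟩ : (q j).primeCompl)
    exact (IsLocalization.AtPrime.isUnit_to_map_iff _ (q j) _).1 h1 h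
  refine (isLocalization_iff _ _).2 ⟨?_, ?_, ?_⟩
  · intro x
    refine Pi.isUnit_iff.2 fun i => ?_
    exact IsLocalization.map_units (Localization.AtPrime (q i)) (⟨(x : R), (hzd _).1 x.2 i⟩ : (q i).primeCompl)
  · intro z
    choose w hw using fun i => IsLocalization.exists_mk'_eq (q i).primeCompl (z i)
    choose s' hs using hw
    refine ⟨(∑ i, T i * w i, ⟨∑ i, T i * (s' i : R), hnzd _ fun i => (s' i).2⟩), funext fun j => ?_⟩
    show z j * algebraMap R (Localization.AtPrime (q j)) (∑ i, T i * (s' i : R)) = algebraMap R _ (∑ i, T i * w i)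
    rw [himg, himg, map_mul, map_mul, mul_left_comm, ← hs j, IsLocalization.mk'_spec]
  · intro x y hxy
    have hz : ∀ i, ∃ c : (q i).primeCompl, (c : R) * x = c * y := fun i =>
      (IsLocalization.eq_iff_exists (q i).primeCompl (Localization.AtPrime (q i))).1 (congrFun hxy i)
    choose c hc using hz
    refine ⟨⟨∑ i, T i * (c i : R), hnzd _ fun i => (c i).2⟩, ?_⟩
    show (∑ i, T i * (c i : R)) * x = (∑ i, T i * (c i : R)) * y
    simp only [Finset.sum_mul, mul_assoc, hc]

end Groth.Agent.S6294
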