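import Groth.Statements.S6295
import Mathlib.RingTheory.Ideal.MinimalPrime.Localization
import Mathlib.RingTheory.KrullDimension.Zero
import Mathlib.RingTheory.Algebraic.StronglyTranscendental

set_option autoImplicit false
universe u
open CAlg

namespace Groth.Agent.S6295

/-- Let R be a reduced ring. Then every localization R_p at a minimal prime p is a field and the map R →
∏_{p minimal} R_p is injective (so R is a subring of a product of fields); moreover the set of
zerodivisors of R is the union of the minimal primes. -/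
theorem result (R : Type u) [CommRing R] [IsReduced R] : (∀ p : PrimeSpectrum R, p.asIdeal ∈ minimalPrimes R → IsField (Localization.AtPrime p.asIdeal)) ∧ Function.Injective (algebraMap R (∀ p : {p : PrimeSpectrum R // p.asIdeal ∈ minimalPrimes R}, Localization.AtPrime p.1.asIdeal)) ∧ (∀ x : R, x ∉ nonZeroDivisors R ↔ ∃ p ∈ minimalPrimes R, x ∈ p) := by
  have hrad : (⊥ : Ideal R).radical = ⊥ := nilradical_eq_zero R
  refine ⟨fun p hp => ?_, ?_, fun x => ?_⟩
  · haveI : Ring.KrullDimLE 0 (Localization.AtPrime p.asIdeal) := .of_isLocalization _ hp _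
    exact Ring.KrullDimLE.isField_of_isReduced
  · refine (injective_iff_map_eq_zero _).2 fun x hx => ?_
    have h : x ∈ sInf (⊥ : Ideal R).minimalPrimes := by
      refine Ideal.mem_sInf.2 fun {q} hq => ?_
      haveI := hq.1.1
      obtain ⟨s, hs⟩ := (IsLocalization.map_eq_zero_iff q.primeCompl (Localization.AtPrime q) x).1 (congr_fun hx ⟨⟨q, inferInstance⟩, hq⟩)
      exact (hq.1.1.mem_or_mem (hs ▸ q.zero_mem)).resolve_left s.2
    rwa [Ideal.sInf_minimalPrimes, hrad, Ideal.mem_bot] at h
  · have h := Set.ext_iff.1 (Ideal.iUnion_minimalPrimes (I := (⊥ : Ideal R))) x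
    simp only [hrad, Set.mem_iUnion, SetLike.mem_coe, exists_prop, Set.mem_ofPred_eq, Ideal.mem_bot] at h
    rw [mem_nonZeroDivisors_iff_right]
    push Not
    refine ⟨fun ⟨y, h1, h2⟩ => h.2 ⟨y, h2, by rwa [mul_comm] at h1⟩, fun hp => ?_⟩
    obtain ⟨y, h1, h2⟩ := h.1 hp
    exact ⟨y, by rwa [mul_comm], h1⟩

end Groth.Agent.S6295
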