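import Groth.Statements.S6296
import Mathlib.RingTheory.Nakayama
import Mathlib.RingTheory.LocalRing.ResidueField.Basic
import Mathlib.RingTheory.Finiteness.Basic
import Mathlib.RingTheory.Jacobson.Ideal

set_option autoImplicit false
universe u
open CAlg

namespace Groth.Agent.S6296

/-- Let A → B be a local homomorphism of local rings such that (1) B is a finite A-module, (2) the
maximal ideal m_B is finitely generated, (3) the induced map of residue fields is an isomorphism,
and (4) m_A/m_A² → m_B/m_B² is surjective, i.e. m_B ⊆ m_A B + m_B². Then A → B is surjective. -/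
theorem result {A B : Type u} [CommRing A] [CommRing B] [IsLocalRing A] [IsLocalRing B] [Algebra A B] [IsLocalHom (algebraMap A B)] [Module.Finite A B] (hfg : (IsLocalRing.maximalIdeal B).FG) (hres : Function.Surjective (IsLocalRing.ResidueField.map (algebraMap A B))) (hcot : IsLocalRing.maximalIdeal B ≤ (IsLocalRing.maximalIdeal A).map (algebraMap A B) ⊔ (IsLocalRing.maximalIdeal B) ^ 2) : Function.Surjective (algebraMap A B) := by
  let J := (IsLocalRing.maximalIdeal A).map (algebraMap A B)
  have hJ : IsLocalRing.maximalIdeal B ≤ J := Submodule.le_of_le_smul_of_le_jacobson_bot hfg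
    (IsLocalRing.jacobson_eq_maximalIdeal ⊥ bot_ne_top).ge (by rw [smul_eq_mul, ← pow_two]; exact hcot)
  suffices h : (⊤ : Submodule A B) ≤ LinearMap.range (Algebra.linearMap A B) from fun b => h (Submodule.mem_top (x := b))
  refine Submodule.le_of_le_smul_of_le_jacobson_bot Module.Finite.fg_top (IsLocalRing.jacobson_eq_maximalIdeal ⊥ bot_ne_top).ge fun b _ => ?_
  obtain ⟨r, hr⟩ := hres (IsLocalRing.residue B b)
  obtain ⟨a, rfl⟩ := IsLocalRing.residue_surjective r
  have hb : b - algebraMap A B a ∈ J := hJ ((IsLocalRing.residue_eq_zero_iff _).1 (by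
    rw [map_sub, sub_eq_zero, ← hr]; rfl))
  refine Submodule.mem_sup.2 ⟨algebraMap A B a, ⟨a, rfl⟩, b - algebraMap A B a, ?_, add_sub_cancel _ _⟩
  rw [Ideal.smul_top_eq_map]
  exact hb

end Groth.Agent.S6296
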