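import Groth.Statements.S6297
import Mathlib.LinearAlgebra.Matrix.Adjugate
import Mathlib.LinearAlgebra.Multilinear.Basic
import Mathlib.LinearAlgebra.Matrix.Determinant.Basic

set_option autoImplicit false
universe u
open CAlg

namespace Groth.Agent.S6297

/-- Let R be a ring, m ≤ n, A an n × m matrix over R and J the ideal generated by the m × m minors of A.
(1) For every f ∈ J there is an m × n matrix B with BA = f · 1. (2) If BA = f · 1 for some m × n
matrix B, then f^m ∈ J. -/
theorem result {R : Type u} [CommRing R] {n m : ℕ} (hmn : m ≤ n) (A : Matrix (Fin n) (Fin m) R) : (∀ f ∈ CAlgX.minorIdeal A m, ∃ B : Matrix (Fin m) (Fin n) R, B * A = f • (1 : Matrix (Fin m) (Fin m) R)) ∧ (∀ (f : R) (B : Matrix (Fin m) (Fin n) R), B * A = f • (1 : Matrix (Fin m) (Fin m) R) → f ^ m ∈ CAlgX.minorIdeal A m) := by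
  constructor
  · intro f hf
    induction hf using Submodule.span_induction with
    | mem x hx =>
      obtain ⟨⟨g, h⟩, rfl⟩ := hx
      refine ⟨((1 : Matrix (Fin m) (Fin m) R).submatrix id h).det • ((A.submatrix g id).adjugate * (1 : Matrix (Fin n) (Fin n) R).submatrix g id), ?_⟩
      have hsel : (1 : Matrix (Fin n) (Fin n) R).submatrix g id * A = A.submatrix g id := by
        ext i k
        simp [Matrix.mul_apply, Matrix.one_apply]
      rw [Matrix.smul_mul, Matrix.mul_assoc, hsel, Matrix.adjugate_mul, smul_smul]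
      congr 1
      rw [mul_comm, ← Matrix.det_mul]
      congr 1
      ext i k
      simp [Matrix.mul_apply, Matrix.one_apply]
    | zero => exact ⟨0, by simp⟩
    | add x y _ _ hx hy =>
      obtain ⟨B, hB⟩ := hx
      obtain ⟨B', hB'⟩ := hy
      exact ⟨B + B', by rw [Matrix.add_mul, hB, hB', add_smul]⟩
    | smul r x _ hx =>
      obtain ⟨B, hB⟩ := hx
      exact ⟨r • B, by rw [Matrix.smul_mul, hB, smul_smul, smul_eq_mul]⟩
  · intro f B hB
    have h1 : (B * A).det = f ^ m := by rw [hB, Matrix.det_smul, Matrix.det_one]; simp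
    rw [← h1]
    have h2 : (B * A).det = ∑ σ : Fin m → Fin n, (∏ i, B i (σ i)) * (A.submatrix σ id).det := by
      have h3 : B * A = Matrix.of fun i => ∑ j, B i j • A.row j := by
        ext i k
        simp [Matrix.mul_apply, Finset.sum_apply]
      rw [h3]
      exact ((Matrix.detRowAlternating (n := Fin m) (R := R)).toMultilinearMap.map_sum (fun i j => B i j • A.row j)).trans
        (Finset.sum_congr rfl fun σ _ => (Matrix.detRowAlternating (n := Fin m) (R := R)).toMultilinearMap.map_smul_univ _ _)
    rw [h2]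
    exact Ideal.sum_mem _ fun σ _ => Ideal.mul_mem_left _ _ (Ideal.subset_span ⟨(σ, id), rfl⟩)

end Groth.Agent.S6297
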