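import Groth.Statements.S6298
import Mathlib.RingTheory.Ideal.Operations

set_option autoImplicit false
universe u
open CAlg

namespace Groth.Agent.S6298

/-- Let R be a ring, x ∈ R, I ⊆ R an ideal and p₁, …, p_r prime ideals such that for each i the coset x
+ I is not contained in p_i. Then there is y ∈ I with x + y ∉ p_i for all i. -/
theorem result {R : Type u} [CommRing R] (x : R) (I : Ideal R) {r : ℕ} (p : Fin r → Ideal R) [∀ i, (p i).IsPrime] (h : ∀ i, ∃ y ∈ I, x + y ∉ p i) : ∃ y ∈ I, ∀ i, x + y ∉ p i := by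
  classical
  -- the maximal members of the family suffice
  have key : ∀ T : Finset (Fin r), (∀ a ∈ T, ∀ b ∈ T, p a ≤ p b → a = b) → ∃ y ∈ I, ∀ i ∈ T, x + y ∉ p i := by
    intro T hT
    let T₁ := T.filter fun i => x ∈ p i
    let T₂ := T.filter fun i => x ∉ p i
    have hnot : ¬ ((I ⊓ T₂.inf p : Ideal R) : Set R) ⊆ ⋃ i ∈ (↑T₁ : Set (Fin r)), (p i : Set R) := by
      rcases T₁.eq_empty_or_nonempty with he | ⟨i₀, hi₀⟩
      · rw [he]; simp only [Finset.coe_empty, Set.mem_empty_iff_false, Set.iUnion_of_empty, Set.iUnion_empty]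
        exact fun hs => hs (Ideal.zero_mem _)
      rw [Ideal.subset_union_prime i₀ i₀ fun i _ _ _ => inferInstance]
      rintro ⟨i, hi, hle⟩
      obtain ⟨hiT, hxi⟩ := Finset.mem_filter.1 hi
      rcases (Ideal.IsPrime.inf_le (inferInstance : (p i).IsPrime)).1 hle with hI | hU
      · obtain ⟨y, hy, hxy⟩ := h i
        exact hxy ((p i).add_mem hxi (hI hy))
      · obtain ⟨j, hj, hji⟩ := (Ideal.IsPrime.inf_le' (f := p) (s := T₂) (inferInstance : (p i).IsPrime)).1 hU
        obtain ⟨hjT, hxj⟩ := Finset.mem_filter.1 hj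
        obtain rfl := hT j hjT i hiT hji
        exact hxj hxi
    obtain ⟨y, hy, hy'⟩ := Set.not_subset.1 hnot
    rw [SetLike.mem_coe, Submodule.mem_inf, Submodule.mem_finsetInf] at hy
    refine ⟨y, hy.1, fun i hi hm => ?_⟩
    by_cases hxi : x ∈ p i
    · exact hy' (Set.mem_biUnion (Finset.mem_coe.2 (Finset.mem_filter.2 ⟨hi, hxi⟩)) ((Ideal.add_mem_iff_right _ hxi).1 hm))
    · exact hxi ((Ideal.add_mem_iff_left _ (hy.2 i (Finset.mem_filter.2 ⟨hi, hxi⟩))).1 hm)
  -- choose one index for each maximal prime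
  let S := (Finset.univ : Finset (Fin r)).filter fun i => ∀ j, p i ≤ p j → p j ≤ p i ∧ i ≤ j
  obtain ⟨y, hy, hall⟩ := key S fun a ha b hb hab => by
    obtain ⟨h1, h2⟩ := (Finset.mem_filter.1 ha).2 b hab
    exact le_antisymm h2 ((Finset.mem_filter.1 hb).2 a h1).2
  refine ⟨y, hy, fun i hm => ?_⟩
  obtain ⟨J, hJle, hJmax⟩ := (Set.finite_range p).exists_le_maximal ⟨i, rfl⟩
  obtain ⟨j, hj, hjmin⟩ := (Finset.univ.filter fun j => p j = J).exists_min_image id (by
    obtain ⟨j, hj⟩ := hJmax.1; exact ⟨j, Finset.mem_filter.2 ⟨Finset.mem_univ _, hj⟩⟩)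
  obtain rfl := (Finset.mem_filter.1 hj).2
  refine hall j (Finset.mem_filter.2 ⟨Finset.mem_univ _, fun k hk => ?_⟩) (hJle hm)
  have hk' := hJmax.2 ⟨k, rfl⟩ hk
  exact ⟨hk', hjmin k (Finset.mem_filter.2 ⟨Finset.mem_univ _, le_antisymm hk' hk⟩)⟩

end Groth.Agent.S6298
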