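import Groth.Statements.S6299
import Mathlib.RingTheory.PowerSeries.Inverse
import Mathlib.RingTheory.MvPowerSeries.Equiv
import Mathlib.RingTheory.IntegralClosure.IsIntegral.AlmostIntegral
import Mathlib.RingTheory.IntegralClosure.IntegrallyClosed
import Mathlib.RingTheory.PowerSeries.NoZeroDivisors
import Mathlib.RingTheory.PrincipalIdealDomain
import Mathlib.Tactic.Ring
import Mathlib.RingTheory.Polynomial.RationalRoot
import Mathlib.RingTheory.DiscreteValuationRing.Basic

set_option autoImplicit false
universe u
open CAlg

namespace Groth.Agent.S6299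

/-- Let R be a Noetherian normal domain. Then the power series ring R[[x]] is a Noetherian normal domain
(here: it is an integrally closed domain and a Noetherian ring). -/
theorem result (R : Type u) [CommRing R] [IsDomain R] [IsNoetherianRing R] [IsIntegrallyClosed R] : IsIntegrallyClosed (PowerSeries R) ∧ IsNoetherianRing (PowerSeries R) := by
  classical
  refine ⟨?_, inferInstance⟩
  let K := FractionRing R
  let φ : PowerSeries R →+* PowerSeries K := PowerSeries.map (algebraMap R K)
  have hφ : Function.Injective φ := fun a b h => PowerSeries.ext fun n =>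
    IsFractionRing.injective R K (by simpa [φ, PowerSeries.coeff_map] using congrArg (PowerSeries.coeff n) h)
  let L := FractionRing (PowerSeries R)
  let ψ : L →+* FractionRing (PowerSeries K) := IsFractionRing.lift (A := PowerSeries R)
    (g := (algebraMap (PowerSeries K) (FractionRing (PowerSeries K))).comp φ)
    ((IsFractionRing.injective (PowerSeries K) (FractionRing (PowerSeries K))).comp hφ)
  have hψ : ∀ a, ψ (algebraMap (PowerSeries R) L a) = algebraMap (PowerSeries K) _ (φ a) :=
    fun a => IsFractionRing.lift_algebraMap _ a
  have key : ∀ (k : ℕ) (g : PowerSeries K), (∃ r : PowerSeries R, r ≠ 0 ∧ ∀ n, φ r * g ^ n ∈ φ.range) →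
      PowerSeries.coeff k g ∈ (algebraMap R K).range := by
    intro k
    induction k with
    | zero =>
      rintro g ⟨r, hr, h⟩
      obtain ⟨i, hi, hmin⟩ : ∃ i, PowerSeries.coeff i r ≠ 0 ∧ ∀ j < i, PowerSeries.coeff j r = 0 := by
        have hex : ∃ i, PowerSeries.coeff i r ≠ 0 := by
          by_contra hc; push Not at hc; exact hr (PowerSeries.ext fun n => by simp [hc n])
        exact ⟨Nat.find hex, Nat.find_spec hex, fun j hj => by simpa using Nat.find_min hex hj⟩
      have : IsAlmostIntegral R (PowerSeries.coeff 0 g) := by
        refine ⟨PowerSeries.coeff i r, mem_nonZeroDivisors_of_ne_zero hi, fun n => ?_⟩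
        obtain ⟨a, ha⟩ := h n
        refine ⟨PowerSeries.coeff i a, ?_⟩
        have := congrArg (PowerSeries.coeff i) ha
        rw [PowerSeries.coeff_mul, Finset.sum_eq_single (i, 0)] at this
        · simpa [φ, PowerSeries.coeff_map, Algebra.smul_def] using this
        · rintro ⟨p, q⟩ hpq hne
          simp only [Finset.mem_antidiagonal] at hpq
          have : p < i := by
            rcases Nat.lt_or_ge p i with h | h
            · exact h
            · exact absurd (Prod.ext (by omega) (by omega)) hne
          simp [φ, PowerSeries.coeff_map, hmin p this]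
        · intro hn; simp at hn
      obtain ⟨y, hy⟩ := IsIntegrallyClosed.isIntegral_iff.mp this.isIntegral
      exact ⟨y, hy⟩
    | succ k ih =>
      rintro g hg
      obtain ⟨a, ha⟩ : PowerSeries.coeff 0 g ∈ (algebraMap R K).range := by
        rcases hg with ⟨r, hr, h⟩
        obtain ⟨i, hi, hmin⟩ : ∃ i, PowerSeries.coeff i r ≠ 0 ∧ ∀ j < i, PowerSeries.coeff j r = 0 := by
          have hex : ∃ i, PowerSeries.coeff i r ≠ 0 := by
            by_contra hc; push Not at hc; exact hr (PowerSeries.ext fun n => by simp [hc n])
          exact ⟨Nat.find hex, Nat.find_spec hex, fun j hj => by simpa using Nat.find_min hex hj⟩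
        have : IsAlmostIntegral R (PowerSeries.coeff 0 g) := by
          refine ⟨PowerSeries.coeff i r, mem_nonZeroDivisors_of_ne_zero hi, fun n => ?_⟩
          obtain ⟨a, ha⟩ := h n
          refine ⟨PowerSeries.coeff i a, ?_⟩
          have := congrArg (PowerSeries.coeff i) ha
          rw [PowerSeries.coeff_mul, Finset.sum_eq_single (i, 0)] at this
          · simpa [φ, PowerSeries.coeff_map, Algebra.smul_def] using this
          · rintro ⟨p, q⟩ hpq hne
            simp only [Finset.mem_antidiagonal] at hpq
            have : p < i := by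
              rcases Nat.lt_or_ge p i with h | h
              · exact h
              · exact absurd (Prod.ext (by omega) (by omega)) hne
            simp [φ, PowerSeries.coeff_map, hmin p this]
          · intro hn; simp at hn
        obtain ⟨y, hy⟩ := IsIntegrallyClosed.isIntegral_iff.mp this.isIntegral
        exact ⟨y, hy⟩
      obtain ⟨r, hr, h⟩ := hg
      let g' : PowerSeries K := PowerSeries.mk fun p => PowerSeries.coeff (p + 1) g
      have hg' : g = PowerSeries.X * g' + φ (PowerSeries.C a) := by
        conv_lhs => rw [PowerSeries.eq_X_mul_shift_add_const g]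
        simp [φ, g', ha]
      have hcalc : ∀ n m, φ r * g ^ m * (PowerSeries.X * g') ^ n ∈ φ.range := by
        intro n
        induction n with
        | zero => intro m; simpa using h m
        | succ n ihn =>
          intro m
          have : φ r * g ^ m * (PowerSeries.X * g') ^ (n + 1) = φ r * g ^ (m + 1) * (PowerSeries.X * g') ^ n
              - φ (PowerSeries.C a) * (φ r * g ^ m * (PowerSeries.X * g') ^ n) := by
            have e : g ^ (m + 1) = g ^ m * (PowerSeries.X * g' + φ (PowerSeries.C a)) := by rw [pow_succ, ← hg']
            rw [e]; ring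
          rw [this]
          exact sub_mem (ihn (m + 1)) (mul_mem ⟨_, rfl⟩ (ihn m))
      have := ih g' ⟨r, hr, fun n => by
        obtain ⟨b, hb⟩ := hcalc n 0
        rw [pow_zero, mul_one, mul_pow, mul_left_comm] at hb
        refine ⟨PowerSeries.mk fun p => PowerSeries.coeff (p + n) b, PowerSeries.ext fun p => ?_⟩
        have := congrArg (PowerSeries.coeff (p + n)) hb
        rw [PowerSeries.coeff_X_pow_mul] at this
        simpa [φ, PowerSeries.coeff_map] using this⟩
      simpa [g', PowerSeries.coeff_mk] using this
  refine (isIntegrallyClosed_iff L).mpr fun {x} hx => ?_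
  obtain ⟨r, hr, h⟩ := hx.isAlmostIntegral
  let _ := ψ.toAlgebra
  have hint : IsIntegral (PowerSeries K) (ψ x) := by
    obtain ⟨p, hp, he⟩ := hx
    refine ⟨p.map φ, hp.map φ, ?_⟩
    have hc : (algebraMap (PowerSeries K) (FractionRing (PowerSeries K))).comp φ = ψ.comp (algebraMap (PowerSeries R) L) :=
      RingHom.ext fun a => (hψ a).symm
    rw [Polynomial.eval₂_map, hc, ← Polynomial.hom_eval₂, he, map_zero]
  obtain ⟨g, hg⟩ := IsIntegrallyClosed.isIntegral_iff.mp hint
  have hr0 : r ≠ 0 := nonZeroDivisors.ne_zero hr
  have hmem : ∀ n, φ r * g ^ n ∈ φ.range := fun n => by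
    obtain ⟨a, ha⟩ := h n
    refine ⟨a, IsFractionRing.injective (PowerSeries K) (FractionRing (PowerSeries K)) ?_⟩
    rw [← hψ, ha, Algebra.smul_def, map_mul ψ, map_pow ψ, hψ, map_mul, map_pow, hg]
  choose c hc using fun k => key k g ⟨r, hr0, hmem⟩
  refine ⟨PowerSeries.mk c, ψ.injective ?_⟩
  rw [hψ, ← hg]
  congr 1
  exact PowerSeries.ext fun k => by simp [φ, PowerSeries.coeff_map, hc]

end Groth.Agent.S6299
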