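import Groth.Statements.S6300
import Mathlib
import Groth.Agent.NormalBC.Apps
-- import your own Groth.Agent.* helpers here

set_option autoImplicit false
universe u
open CAlg

namespace Groth.Agent.S6300

/-- Let R be a normal ring (every localization at a prime is an integrally closed domain). Then R[x] is
a normal ring. -/
theorem result (R : Type u) [CommRing R] (hR : EGA4.IsNormalRing R) : EGA4.IsNormalRing (Polynomial R) := by
  intro P hP
  let p : Ideal R := P.comap Polynomial.C
  obtain ⟨_, _⟩ := hR p
  let Rp := Localization.AtPrime p
  letI : Algebra (Polynomial R) (Polynomial Rp) := (Polynomial.mapRingHom (algebraMap R Rp)).toAlgebra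
  haveI : IsLocalization (p.primeCompl.map (Polynomial.C : R →+* Polynomial R)) (Polynomial Rp) :=
    Polynomial.isLocalization p.primeCompl Rp
  haveI : IsIntegrallyClosed (Polynomial Rp) := inferInstance
  have hd : Disjoint ((p.primeCompl.map (Polynomial.C : R →+* Polynomial R) : Submonoid (Polynomial R)) : Set (Polynomial R)) (P : Set (Polynomial R)) := by
    rw [Set.disjoint_left]
    rintro _ ⟨r, hr, rfl⟩ hP'
    exact hr hP'
  let Q := P.map (algebraMap (Polynomial R) (Polynomial Rp))
  haveI hQ : Q.IsPrime := IsLocalization.isPrime_of_isPrime_disjoint _ (Polynomial Rp) P hP hd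
  have hQP : Q.comap (algebraMap (Polynomial R) (Polynomial Rp)) = P :=
    IsLocalization.comap_map_of_isPrime_disjoint _ (Polynomial Rp) hP hd
  have hloc : IsLocalization (Q.comap (algebraMap (Polynomial R) (Polynomial Rp))).primeCompl (Localization.AtPrime Q) :=
    IsLocalization.isLocalization_isLocalization_atPrime_isLocalization
      (p.primeCompl.map (Polynomial.C : R →+* Polynomial R)) (Localization.AtPrime Q) Q
  haveI : IsLocalization P.primeCompl (Localization.AtPrime Q) := by
    have key : ∀ (P2 : Ideal (Polynomial R)) (hp2 : P2.IsPrime), P2 = P →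
        IsLocalization (@Ideal.primeCompl _ _ P2 hp2) (Localization.AtPrime Q) →
        IsLocalization P.primeCompl (Localization.AtPrime Q) := by
      rintro P2 hp2 rfl h
      exact h
    exact key _ _ hQP hloc
  let e := (IsLocalization.algEquiv P.primeCompl (Localization.AtPrime P) (Localization.AtPrime Q)).toRingEquiv
  obtain ⟨_, _⟩ := GeomProp.isNormalRing_of_domain (Polynomial Rp) Q
  exact ⟨e.toMulEquiv.isDomain (Localization.AtPrime Q),
    IsIntegrallyClosed.of_equiv (R := Localization.AtPrime Q) e.symm⟩

end Groth.Agent.S6300
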