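import Groth.Statements.S6301
import Mathlib.RingTheory.Flat.EquationalCriterion
import Mathlib.LinearAlgebra.Finsupp.LinearCombination

set_option autoImplicit false
universe u
open CAlg

namespace Groth.Agent.S6301

/-- An R-module M is flat exactly when, for every finitely presented R-module P and every surjective
R-module map N → M, the induced map Hom_R(P, N) → Hom_R(P, M) is surjective (modules P, N taken in
the same universe). -/
theorem result {R : Type u} [CommRing R] (M : Type u) [AddCommGroup M] [Module R M] : Module.Flat R M ↔ ∀ (P : Type u) [AddCommGroup P] [Module R P], Module.FinitePresentation R P → ∀ (N : Type u) [AddCommGroup N] [Module R N] (g : N →ₗ[R] M), Function.Surjective g → ∀ h : P →ₗ[R] M, ∃ h' : P →ₗ[R] N, g.comp h' = h := by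
  refine ⟨fun _ P _ _ hP N _ _ g hg h => ?_, fun H => ?_⟩
  · haveI := hP
    obtain ⟨k, h₂, h₃, he⟩ := Module.Flat.exists_factorization_of_finitePresentation h
    obtain ⟨l, hl⟩ := Module.projective_lifting_property g h₃ hg
    exact ⟨l.comp h₂, by rw [← LinearMap.comp_assoc, hl, he]⟩
  · refine Module.Flat.of_forall_exists_factorization fun {l f x} hxf => ?_
    classical
    let π : (M →₀ R) →ₗ[R] M := Finsupp.linearCombination R id
    have hπ : Function.Surjective π := fun m => ⟨Finsupp.single m 1, by simp [π]⟩
    let K : Submodule R (Fin l →₀ R) := Submodule.span R {f}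
    haveI : Module.FinitePresentation R ((Fin l →₀ R) ⧸ K) :=
      Module.finitePresentation_of_surjective K.mkQ K.mkQ_surjective (by rw [Submodule.ker_mkQ]; exact Submodule.fg_span_singleton f)
    have hK : K ≤ LinearMap.ker x := (Submodule.span_singleton_le_iff_mem _ _).2 hxf
    obtain ⟨h', hh'⟩ := H _ inferInstance (M →₀ R) π hπ (K.liftQ x hK)
    let a' : (Fin l →₀ R) →ₗ[R] (M →₀ R) := h'.comp K.mkQ
    let S : Finset M := Finset.univ.biUnion fun i => (a' (Finsupp.single i 1)).support
    have hS : ∀ v, a' v ∈ Finsupp.supported R R (S : Set M) := fun v => by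
      induction v using Finsupp.induction_linear with
      | zero => rw [map_zero]; exact zero_mem _
      | add u w hu hw => rw [map_add]; exact add_mem hu hw
      | single i c =>
        rw [show Finsupp.single i c = c • Finsupp.single i 1 by rw [Finsupp.smul_single, smul_eq_mul, mul_one], map_smul]
        exact Submodule.smul_mem _ _ ((Finsupp.mem_supported R _).2
          (Finset.coe_subset.2 fun m hm => Finset.mem_biUnion.2 ⟨i, Finset.mem_univ i, hm⟩))
    let e : Finsupp.supported R R (S : Set M) ≃ₗ[R] (Fin S.card →₀ R) :=
      (Finsupp.supportedEquivFinsupp (M := R) (R := R) (S : Set M)).trans (Finsupp.domLCongr S.equivFin)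
    refine ⟨S.card, e.toLinearMap.comp (a'.codRestrict _ hS), π.comp ((Submodule.subtype _).comp e.symm.toLinearMap), ?_, ?_⟩
    · refine LinearMap.ext fun v => ?_
      simp only [LinearMap.comp_apply, LinearEquiv.coe_coe, LinearEquiv.symm_apply_apply, Submodule.subtype_apply, LinearMap.codRestrict_apply]
      exact (LinearMap.congr_fun hh' (K.mkQ v)).symm
    · show e _ = 0
      rw [e.map_eq_zero_iff]
      refine Subtype.ext ?_
      show h' (K.mkQ f) = 0
      rw [Submodule.mkQ_apply, (Submodule.Quotient.mk_eq_zero K).2 (Submodule.mem_span_singleton_self f), map_zero]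

end Groth.Agent.S6301
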