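import Groth.Statements.S6302
import Groth.Prelude.Def_CAlgX
import Mathlib.Algebra.Module.FinitePresentation
import Mathlib.LinearAlgebra.TensorProduct.RightExactness
import Mathlib.LinearAlgebra.TensorProduct.Pi
import Mathlib.LinearAlgebra.Pi

set_option autoImplicit false
universe u
open CAlg
open TensorProduct

namespace Groth.Agent.S6302

/-- Let 0 → M₁ → M₂ → M₃ → 0 be a short exact sequence of R-modules with M₃ of finite presentation. If
the sequence is universally exact (its first map is universally injective) then it is split: M₂ → M₃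
admits a section. (The converse, split implies universally exact, is elementary and not stated.) -/
theorem result {R : Type u} [CommRing R] {M₁ M₂ M₃ : Type u} [AddCommGroup M₁] [Module R M₁] [AddCommGroup M₂] [Module R M₂] [AddCommGroup M₃] [Module R M₃] [Module.FinitePresentation R M₃] (f : M₁ →ₗ[R] M₂) (g : M₂ →ₗ[R] M₃) (hexact : Function.Exact f g) (hg : Function.Surjective g) (hf : CAlgX.UniversallyInjective R f) : ∃ s : M₃ →ₗ[R] M₂, g.comp s = LinearMap.id := by
  classical
  obtain ⟨m, K, e, hK⟩ := Module.FinitePresentation.exists_fin R M₃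
  obtain ⟨N, a, ha⟩ := Submodule.fg_iff_exists_fin_generating_family.1 hK
  let π : (Fin m → R) →ₗ[R] M₃ := e.symm.toLinearMap.comp K.mkQ
  have hπ : Function.Surjective π := e.symm.surjective.comp K.mkQ_surjective
  have hker : ∀ v, π v = 0 ↔ v ∈ K := fun v => by
    simp only [π, LinearMap.comp_apply, LinearEquiv.coe_coe, LinearEquiv.map_eq_zero_iff, Submodule.mkQ_apply, Submodule.Quotient.mk_eq_zero]
  obtain ⟨φ, hφ⟩ := Module.projective_lifting_property g π hg
  have hy : ∀ j, φ (a j) ∈ LinearMap.range f := fun j => (hexact _).1 (by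
    rw [← LinearMap.comp_apply, hφ, hker, ← ha]
    exact Submodule.subset_span ⟨j, rfl⟩)
  choose y hy using hy
  let At : (Fin m → R) →ₗ[R] (Fin N → R) := LinearMap.pi fun j => ∑ i, a j i • LinearMap.proj i
  let Q := (Fin N → R) ⧸ LinearMap.range At
  let q : Fin N → Q := fun j => (LinearMap.range At).mkQ (Pi.single j 1)
  have h0 : ∀ i, ∑ j, a j i • q j = 0 := fun i => by
    simp only [q, ← map_smul, ← map_sum]
    refine (Submodule.Quotient.mk_eq_zero _).2 ⟨Pi.single i 1, funext fun j => ?_⟩
    simp [At, Pi.single_apply, Finset.sum_apply]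
  have hφa : ∀ j, φ (a j) = ∑ i, a j i • φ (Pi.single i 1) := fun j => by
    conv_lhs => rw [pi_eq_sum_univ' (a j), map_sum]
    exact Finset.sum_congr rfl fun i _ => by rw [map_smul]
  have hz : ∑ j, y j ⊗ₜ[R] q j = 0 := by
    refine hf Q ?_
    rw [map_zero, map_sum]
    simp only [LinearMap.rTensor_tmul, hy, hφa, TensorProduct.sum_tmul]
    rw [Finset.sum_comm]
    refine Finset.sum_eq_zero fun i _ => ?_
    simp only [TensorProduct.smul_tmul]
    rw [← TensorProduct.tmul_sum, h0, TensorProduct.tmul_zero]
  have hex := lTensor_exact M₁ (LinearMap.exact_map_mkQ_range At) (LinearMap.range At).mkQ_surjective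
  obtain ⟨w, hw⟩ := (hex (∑ j, y j ⊗ₜ[R] (Pi.single j 1 : Fin N → R))).1 (by simpa [map_sum, q] using hz)
  let PN := TensorProduct.piScalarRightHom R R M₁ (Fin N)
  let PM := TensorProduct.piScalarRightHom R R M₁ (Fin m)
  let z : Fin m → M₁ := PM w
  have key : ∀ (w : M₁ ⊗[R] (Fin m → R)) (j : Fin N), PN (At.lTensor M₁ w) j = ∑ i, a j i • PM w i := by
    intro w j
    induction w using TensorProduct.induction_on with
    | zero => simp
    | tmul u v =>
      simp only [PN, PM, LinearMap.lTensor_tmul, TensorProduct.piScalarRightHom_tmul, smul_smul, ← Finset.sum_smul]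
      simp [At, mul_comm, Finset.sum_apply]
    | add u v hu hv => simp only [map_add, Pi.add_apply, hu, hv, smul_add, Finset.sum_add_distrib]
  have hzy : ∀ j, y j = ∑ i, a j i • z i := fun j => by
    rw [← key w j, hw, map_sum]
    simp [PN, Finset.sum_apply, Pi.single_apply]
  let ψ : (Fin m → R) →ₗ[R] M₂ := φ - (Pi.basisFun R (Fin m)).constr R fun i => f (z i)
  have hψ : K ≤ LinearMap.ker ψ := by
    rw [← ha, Submodule.span_le]
    rintro _ ⟨j, rfl⟩
    show ψ (a j) = 0
    rw [LinearMap.sub_apply, Module.Basis.constr_apply_fintype, sub_eq_zero, ← hy, hzy, map_sum]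
    simp
  refine ⟨(K.liftQ ψ hψ).comp e.toLinearMap, LinearMap.ext fun x => ?_⟩
  obtain ⟨v, rfl⟩ := hπ x
  show g (K.liftQ ψ hψ (e (e.symm (K.mkQ v)))) = π v
  rw [e.apply_symm_apply, Submodule.mkQ_apply, Submodule.liftQ_apply, LinearMap.sub_apply, map_sub, Module.Basis.constr_apply_fintype,
    map_sum, show g (φ v) = π v from LinearMap.congr_fun hφ v]
  simp [hexact.apply_apply_eq_zero]

end Groth.Agent.S6302
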