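import Groth.Statements.S6303
import Mathlib.RingTheory.Flat.Basic
import Mathlib.LinearAlgebra.TensorProduct.Quotient
import Mathlib.LinearAlgebra.TensorProduct.Prod

set_option autoImplicit false
universe u
open CAlg

namespace Groth.Agent.S6303

/-- Let R be a ring, I, J ⊆ R ideals and M a flat R-module. Then IM ∩ JM = (I ∩ J)M. -/
theorem result {R : Type u} [CommRing R] (I J : Ideal R) (M : Type u) [AddCommGroup M] [Module R M] [Module.Flat R M] : (I • (⊤ : Submodule R M)) ⊓ (J • ⊤) = (I ⊓ J) • (⊤ : Submodule R M) := by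
  refine le_antisymm (fun x hx => ?_) (le_inf (Submodule.smul_mono_left inf_le_left) (Submodule.smul_mono_left inf_le_right))
  let φ : (R ⧸ (I ⊓ J)) →ₗ[R] (R ⧸ I) × (R ⧸ J) :=
    (Submodule.factor (inf_le_left : I ⊓ J ≤ I)).prod (Submodule.factor (inf_le_right : I ⊓ J ≤ J))
  have hφ : Function.Injective φ := by
    refine (injective_iff_map_eq_zero φ).2 fun y hy => ?_
    obtain ⟨y, rfl⟩ := Submodule.Quotient.mk_surjective _ y
    exact (Submodule.Quotient.mk_eq_zero _).2 ⟨(Submodule.Quotient.mk_eq_zero _).1 (congrArg Prod.fst hy), (Submodule.Quotient.mk_eq_zero _).1 (congrArg Prod.snd hy)⟩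
  have hz : ∀ (K : Ideal R), x ∈ K • (⊤ : Submodule R M) → x ⊗ₜ[R] (1 : R ⧸ K) = 0 := fun K hK => by
    apply (TensorProduct.tensorQuotEquivQuotSMul M K).injective
    rw [map_zero, show (1 : R ⧸ K) = Ideal.Quotient.mk K 1 from rfl, TensorProduct.tensorQuotEquivQuotSMul_tmul_mk, one_smul]
    exact (Submodule.Quotient.mk_eq_zero _).2 hK
  have h0 : x ⊗ₜ[R] (1 : R ⧸ (I ⊓ J)) = 0 := by
    apply Module.Flat.lTensor_preserves_injective_linearMap (M := M) φ hφ
    apply (TensorProduct.prodRight R R M (R ⧸ I) (R ⧸ J)).injective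
    rw [map_zero, map_zero, LinearMap.lTensor_tmul]
    exact Prod.ext (hz I hx.1) (hz J hx.2)
  have := congrArg (TensorProduct.tensorQuotEquivQuotSMul M (I ⊓ J)) h0
  rw [map_zero] at this
  rw [show (1 : R ⧸ (I ⊓ J)) = Ideal.Quotient.mk (I ⊓ J) 1 from rfl, TensorProduct.tensorQuotEquivQuotSMul_tmul_mk, one_smul] at this
  exact (Submodule.Quotient.mk_eq_zero _).1 this

end Groth.Agent.S6303
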