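import Groth.Statements.S6309
import Groth.Agent.MLMod.Locus

set_option autoImplicit false
universe u
open scoped TensorProduct
open CAlg Groth.Agent

namespace Groth.Agent.S6309

/-- Let R be a ring and φ : P₁ → P₂ a map of finite projective R-modules. The set U of primes p of R
such that φ ⊗ κ(p) is injective is open, and for every f ∈ R with D(f) ⊆ U the map (P₁)_f → (P₂)_f
is injective and Coker(φ)_f is a finite projective module over R_f. -/
theorem result {R : Type u} [CommRing R] {P₁ P₂ : Type u} [AddCommGroup P₁] [Module R P₁] [AddCommGroup P₂] [Module R P₂] [Module.Finite R P₁] [Module.Projective R P₁] [Module.Finite R P₂] [Module.Projective R P₂] (φ : P₁ →ₗ[R] P₂) : IsOpen {p : PrimeSpectrum R | Function.Injective (φ.lTensor p.asIdeal.ResidueField)} ∧ ∀ f : R, (↑(PrimeSpectrum.basicOpen f) : Set (PrimeSpectrum R)) ⊆ {p : PrimeSpectrum R | Function.Injective (φ.lTensor p.asIdeal.ResidueField)} → Function.Injective (LocalizedModule.map (Submonoid.powers f) φ) ∧ Module.Finite (Localization.Away f) (LocalizedModule (Submonoid.powers f)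 (P₂ ⧸ LinearMap.range φ)) ∧ Module.Projective (Localization.Away f) (LocalizedModule (Submonoid.powers f) (P₂ ⧸ LinearMap.range φ)) := by
  haveI := MLMod.Locus.finite_end (R := R) (M := P₁)
  refine ⟨?_, fun f hf => ?_⟩
  · simp only [MLMod.Locus.lTensor_injective_iff]
    exact MLMod.Locus.isOpen_notMem_support
  · obtain ⟨n, hn⟩ := MLMod.Locus.exists_pow_smul_eq_zero
      (C := Module.End R P₁ ⧸ LinearMap.range (MLMod.Locus.precomp φ)) f
      fun p hp => (MLMod.Locus.lTensor_injective_iff φ p).1 (hf hp)
    obtain ⟨r, hr⟩ := (Submodule.Quotient.mk_eq_zero _).1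
      ((Submodule.Quotient.mk_smul _ _ _).trans (hn (Submodule.Quotient.mk (1 : Module.End R P₁))))
    have hr' : ∀ x, r (φ x) = f ^ n • x := fun x => LinearMap.congr_fun hr x
    refine ⟨?_, MLMod.Locus.finite_projective_of_retract (Submonoid.powers f) (⟨f ^ n, n, rfl⟩ : Submonoid.powers f)
      ((LinearMap.range φ).liftQ ((f ^ n) • (LinearMap.id : P₂ →ₗ[R] P₂) - φ ∘ₗ r) ?_)
      (LinearMap.range φ).mkQ fun b => ?_⟩
    · have hinv : ∀ z, LocalizedModule.map (Submonoid.powers f) r
          (LocalizedModule.map (Submonoid.powers f) φ z) = f ^ n • z := by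
        intro z
        induction z using LocalizedModule.induction_on with
        | _ m t => rw [MLMod.Locus.map_mk, MLMod.Locus.map_mk, hr', LocalizedModule.smul'_mk]
      intro a b hab
      have h := congrArg (LocalizedModule.map (Submonoid.powers f) r) hab
      rw [hinv, hinv] at h
      exact ((Module.End.isUnit_iff _).1 (IsLocalizedModule.map_units
        (LocalizedModule.mkLinearMap (Submonoid.powers f) P₁) (⟨f ^ n, n, rfl⟩ : Submonoid.powers f))).1 h
    · rintro _ ⟨x, rfl⟩
      rw [LinearMap.mem_ker, LinearMap.sub_apply, LinearMap.comp_apply, hr', map_smul, LinearMap.smul_apply,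
        LinearMap.id_apply, sub_self]
    · obtain ⟨y, rfl⟩ := Submodule.Quotient.mk_surjective _ b
      show Submodule.Quotient.mk (f ^ n • y - φ (r y)) = _
      rw [Submodule.Quotient.mk_sub, (Submodule.Quotient.mk_eq_zero (LinearMap.range φ)).2 (LinearMap.mem_range_self φ (r y)), sub_zero]
      rfl

end Groth.Agent.S6309
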