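import Groth.Statements.S6310
import Mathlib.LinearAlgebra.Charpoly.Basic
import Mathlib.RingTheory.Localization.Module
import Mathlib.Algebra.Module.LocalizedModule.Basic
import Mathlib.RingTheory.Localization.Away.Basic

set_option autoImplicit false
universe u
open CAlg

namespace Groth.Agent.S6310

/-- Let R be a ring, S ⊆ R a multiplicative subset, I ⊆ R an ideal and M a finite R-module. If x₁, …,
x_r ∈ M have images generating S⁻¹(M/IM) as an S⁻¹R-module, then there is f ∈ S + I (f = s + i with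
s ∈ S, i ∈ I) such that x₁, …, x_r generate M_f as an R_f-module. -/
theorem result {R : Type u} [CommRing R] (S : Submonoid R) (I : Ideal R) (M : Type u) [AddCommGroup M] [Module R M] [Module.Finite R M] {r : ℕ} (x : Fin r → M) (hx : Submodule.span (Localization S) (Set.range fun j => LocalizedModule.mkLinearMap S (M ⧸ (I • (⊤ : Submodule R M))) (Submodule.Quotient.mk (x j))) = ⊤) : ∃ (s : R) (i : R), s ∈ S ∧ i ∈ I ∧ Submodule.span (Localization.Away (s + i)) (Set.range fun j => LocalizedModule.mkLinearMap (Submonoid.powers (s + i)) M (x j)) = ⊤ := by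
  classical
  let N : Submodule R M := Submodule.span R (Set.range x)
  let Q := M ⧸ N
  have hs : ∃ s ∈ S, ∀ q : Q, s • q ∈ I • (⊤ : Submodule R Q) := by
    have key : ∀ m : M, ∃ s ∈ S, s • m ∈ N ⊔ I • ⊤ := by
      intro m
      have hm : LocalizedModule.mkLinearMap S (M ⧸ (I • (⊤ : Submodule R M))) (Submodule.Quotient.mk m) ∈ Submodule.span (Localization S) (Set.range fun j => LocalizedModule.mkLinearMap S (M ⧸ (I • (⊤ : Submodule R M))) (Submodule.Quotient.mk (x j))) := by
        rw [hx]; trivial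
      obtain ⟨c, hc⟩ := (Submodule.mem_span_range_iff_exists_fun _).mp hm
      obtain ⟨b, hb⟩ := IsLocalization.exist_integer_multiples_of_finite S c
      choose d hd using hb
      have h1 : LocalizedModule.mkLinearMap S (M ⧸ (I • (⊤ : Submodule R M))) (Submodule.Quotient.mk ((b : R) • m - ∑ j, d j • x j)) = 0 := by
        rw [← Submodule.mkQ_apply, map_sub, map_smul, map_sum, Submodule.mkQ_apply, map_sub, map_smul, map_sum, ← hc, Finset.smul_sum, sub_eq_zero]
        refine Finset.sum_congr rfl fun j _ => ?_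
        rw [map_smul, Submodule.mkQ_apply, map_smul, ← smul_assoc, ← hd j, algebraMap_smul]
      obtain ⟨u, hu⟩ := (IsLocalizedModule.eq_zero_iff S (LocalizedModule.mkLinearMap S _)).mp h1
      refine ⟨(u : R) * b, S.mul_mem u.2 b.2, ?_⟩
      rw [Submonoid.smul_def, ← Submodule.Quotient.mk_smul, Submodule.Quotient.mk_eq_zero, smul_sub, smul_smul, Finset.smul_sum] at hu
      rw [← sub_add_cancel (((u : R) * b) • m) (∑ j, (u : R) • d j • x j), add_comm]
      exact Submodule.add_mem_sup (N.sum_mem fun j _ => N.smul_mem _ (N.smul_mem _ (Submodule.subset_span ⟨j, rfl⟩))) hu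
    obtain ⟨G, hG⟩ := Module.Finite.fg_top (R := R) (M := M)
    choose s hsS hsm using key
    refine ⟨∏ g ∈ G, s g, S.prod_mem fun g _ => hsS g, fun q => ?_⟩
    obtain ⟨m, rfl⟩ := N.mkQ_surjective q
    have hm : (∏ g ∈ G, s g) • m ∈ N ⊔ I • ⊤ := by
      suffices h : ⊤ ≤ (N ⊔ I • ⊤).comap ((∏ g ∈ G, s g) • (LinearMap.id : M →ₗ[R] M)) from h trivial
      refine hG.ge.trans (Submodule.span_le.mpr ?_)
      intro g hg
      show (∏ g ∈ G, s g) • g ∈ N ⊔ I • ⊤
      rw [← Finset.prod_erase_mul _ _ (Finset.mem_coe.mp hg), mul_smul]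
      exact Submodule.smul_mem _ _ (hsm g)
    rw [← map_smul]
    obtain ⟨n, hn, i, hi, e⟩ := Submodule.mem_sup.mp hm
    rw [← e, map_add, Submodule.mkQ_apply, (Submodule.Quotient.mk_eq_zero N).mpr hn, zero_add]
    have : N.mkQ i ∈ Submodule.map N.mkQ (I • ⊤) := ⟨i, hi, rfl⟩
    rwa [Submodule.map_smul'', Submodule.map_top, Submodule.range_mkQ] at this
  obtain ⟨s, hsS, hs⟩ := hs
  have hrange : LinearMap.range (algebraMap R (Module.End R Q) s) ≤ I • ⊤ := by
    rintro _ ⟨q, rfl⟩
    exact hs q
  obtain ⟨p, hp, -, hcoeff, hp0⟩ := LinearMap.exists_monic_and_natDegree_eq_and_coeff_mem_pow_and_aeval_eq_zero R (algebraMap R (Module.End R Q) s) I hrange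
  rw [Polynomial.aeval_algebraMap_apply, Polynomial.coe_aeval_eq_eval] at hp0
  have hi : p.eval s - s ^ p.natDegree ∈ I := by
    rw [Polynomial.eval_eq_sum_range, Finset.sum_range_succ, hp.coeff_natDegree, one_mul, add_sub_cancel_right]
    refine I.sum_mem fun k hk => I.mul_mem_right _ ?_
    exact Ideal.pow_le_self (Nat.sub_ne_zero_of_lt (Finset.mem_range.mp hk)) (hcoeff k)
  refine ⟨s ^ p.natDegree, p.eval s - s ^ p.natDegree, S.pow_mem hsS _, hi, ?_⟩
  rw [add_sub_cancel]
  rw [eq_top_iff]
  rintro y -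
  obtain ⟨⟨m, u⟩, rfl⟩ := IsLocalizedModule.mk'_surjective (Submonoid.powers (p.eval s)) (LocalizedModule.mkLinearMap (Submonoid.powers (p.eval s)) M) y
  have hfm : p.eval s • m ∈ N := by
    have := LinearMap.congr_fun hp0 (N.mkQ m)
    rw [Module.algebraMap_end_apply, ← map_smul] at this
    exact (Submodule.Quotient.mk_eq_zero N).mp this
  obtain ⟨c, hc⟩ := (Submodule.mem_span_range_iff_exists_fun _).mp hfm
  let u' : Submonoid.powers (p.eval s) := ⟨p.eval s, Submonoid.mem_powers _⟩ * u
  have e : IsLocalizedModule.mk' (LocalizedModule.mkLinearMap (Submonoid.powers (p.eval s)) M) m u = (IsLocalization.mk' (Localization.Away (p.eval s)) (1 : R) u') • LocalizedModule.mkLinearMap (Submonoid.powers (p.eval s)) M (p.eval s • m) := by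
    rw [← IsLocalizedModule.mk'_one (Submonoid.powers (p.eval s)) (LocalizedModule.mkLinearMap _ M) (p.eval s • m), IsLocalizedModule.mk'_smul_mk', one_smul, mul_one]
    exact (IsLocalizedModule.mk'_cancel_left _ m (⟨p.eval s, Submonoid.mem_powers _⟩ : Submonoid.powers (p.eval s)) u).symm
  rw [Function.uncurry_apply_pair, e, ← hc, map_sum, Finset.smul_sum]
  refine Submodule.sum_mem _ fun j _ => Submodule.smul_mem _ _ ?_
  rw [map_smul, ← algebraMap_smul (Localization.Away (p.eval s)) (c j)]
  exact Submodule.smul_mem _ _ (Submodule.subset_span ⟨j, rfl⟩)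

end Groth.Agent.S6310
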