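import Groth.Statements.S6317
import Groth.Agent.HomolFiltered.Basic
import Mathlib.CategoryTheory.Monoidal.Tor
import Mathlib.Algebra.Category.ModuleCat.Monoidal.Closed
import Mathlib.Algebra.Category.ModuleCat.Monoidal.Symmetric
import Mathlib.Algebra.Category.ModuleCat.Projective

set_option autoImplicit false
universe u
open CategoryTheory
open CAlg Groth.Agent CategoryTheory

namespace Groth.Agent.S6317

/-- Let R be a ring, N an R-module and n ≥ 0. Then M ↦ Tor_nᴿ(M, N) commutes with filtered colimits:
Tor_n(colim Mᵢ, N) = colim Tor_n(Mᵢ, N). -/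
theorem result (R : Type u) [CommRing R] (N : ModuleCat.{u} R) (n : ℕ) : Limits.PreservesFilteredColimits ((CategoryTheory.Tor (ModuleCat.{u} R) n).flip.obj N) := by
  let P : ProjectiveResolution N := projectiveResolution N
  let G : ModuleCat.{u} R ⥤ ChainComplex (ModuleCat.{u} R) ℕ :=
    { obj := fun M => (((MonoidalCategory.tensoringLeft (ModuleCat.{u} R)).obj M).mapHomologicalComplex _).obj P.complex
      map := fun f => (NatTrans.mapHomologicalComplex ((MonoidalCategory.tensoringLeft (ModuleCat.{u} R)).map f) _).app P.complex
      map_id := fun M => by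
        ext i : 1
        show ((MonoidalCategory.tensoringLeft (ModuleCat.{u} R)).map (𝟙 M)).app (P.complex.X i) = 𝟙 _
        rw [CategoryTheory.Functor.map_id]
        rfl
      map_comp := fun f g => by
        ext i : 1
        show ((MonoidalCategory.tensoringLeft (ModuleCat.{u} R)).map (f ≫ g)).app (P.complex.X i) = _
        rw [CategoryTheory.Functor.map_comp]
        rfl }
  refine ⟨fun J _ _ => ?_⟩
  haveI hG : Limits.PreservesColimitsOfShape J G := by
    refine ⟨fun {K} => ⟨fun {t} ht => ⟨HomologicalComplex.isColimitOfEval _ _ fun i => ?_⟩⟩⟩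
    haveI : Limits.PreservesColimitsOfShape J (MonoidalCategory.tensorRight (P.complex.X i)) :=
      Limits.preservesColimitsOfShape_of_natIso (BraidedCategory.tensorLeftIsoTensorRight (P.complex.X i))
    exact Limits.isColimitOfPreserves (MonoidalCategory.tensorRight (P.complex.X i)) ht
  haveI := HomolFiltered.preservesColimitsOfShape_homologyFunctor (A := R) (c := ComplexShape.down ℕ) J n
  let e : (CategoryTheory.Tor (ModuleCat.{u} R) n).flip.obj N ≅ G ⋙ HomologicalComplex.homologyFunctor _ _ n :=
    NatIso.ofComponents (fun M => P.isoLeftDerivedObj ((MonoidalCategory.tensoringLeft (ModuleCat.{u} R)).obj M) n) (fun {M M'} f => by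
      show (NatTrans.leftDerived ((MonoidalCategory.tensoringLeft (ModuleCat.{u} R)).map f) n).app N ≫ _ = _
      rw [P.leftDerived_app_eq, Category.assoc, Category.assoc, Iso.inv_hom_id, Category.comp_id]
      rfl)
  exact Limits.preservesColimitsOfShape_of_natIso e.symm

end Groth.Agent.S6317
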