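import Groth.Statements.S6321
import Mathlib.RingTheory.Flat.EquationalCriterion
import Mathlib.RingTheory.Flat.FaithfullyFlat.Basic
import Mathlib.RingTheory.Ideal.Operations
import Mathlib.Algebra.BigOperators.Fin

set_option autoImplicit false
universe u
open CAlg

namespace Groth.Agent.S6321

/-- Let R be a ring and (Sᵢ, φᵢⱼ) a directed system of faithfully flat R-algebras whose transition maps
are R-algebra maps. Then S = colim Sᵢ is a faithfully flat R-algebra: for any index i the composite
R → Sᵢ → S is faithfully flat. -/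
theorem result {R : Type u} [CommRing R] {ι : Type u} [Preorder ι] [Nonempty ι] [IsDirected ι (· ≤ ·)] (G : ι → Type u) [∀ i, CommRing (G i)] [∀ i, Algebra R (G i)] (f : ∀ i j, i ≤ j → G i →+* G j) [DirectedSystem G fun i j h => f i j h] (hcompat : ∀ i j (h : i ≤ j), (f i j h).comp (algebraMap R (G i)) = algebraMap R (G j)) (hff : ∀ i, (algebraMap R (G i)).FaithfullyFlat) (i : ι) : ((Ring.DirectLimit.of G (fun i j h => f i j h) i).comp (algebraMap R (G i))).FaithfullyFlat := by
  classical
  let D := Ring.DirectLimit G (fun i j h => f i j h)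
  let φ : ∀ j, G j →+* D := fun j => Ring.DirectLimit.of G (fun i j h => f i j h) j
  let L : R →+* D := (φ i).comp (algebraMap R (G i))
  have hL : ∀ j, (φ j).comp (algebraMap R (G j)) = L := by
    intro j
    obtain ⟨k, hik, hjk⟩ := exists_ge_ge i j
    ext r
    show φ j (algebraMap R (G j) r) = φ i (algebraMap R (G i) r)
    rw [← Ring.DirectLimit.of_f (G := G) (f := fun i j h => f i j h) hik, ← Ring.DirectLimit.of_f (G := G) (f := fun i j h => f i j h) hjk]
    show φ k ((f j k hjk) (algebraMap R (G j) r)) = φ k ((f i k hik) (algebraMap R (G i) r))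
    exact congrArg (φ k) ((RingHom.congr_fun (hcompat j k hjk) r).trans (RingHom.congr_fun (hcompat i k hik) r).symm)
  show L.FaithfullyFlat
  letI : Algebra R D := L.toAlgebra
  haveI hffi : ∀ j, Module.FaithfullyFlat R (G j) := fun j => RingHom.faithfullyFlat_algebraMap_iff.mp (hff j)
  have hφalg : ∀ j r, φ j (algebraMap R (G j) r) = algebraMap R D r := fun j r => RingHom.congr_fun (hL j) r
  have hlift : ∀ {n : ℕ} (c : Fin n → R) (x : Fin n → D), ∀ d : R, ∑ k, c k • x k = algebraMap R D d →
      ∃ (j : ι) (y : Fin n → G j), (∀ k, φ j (y k) = x k) ∧ ∑ k, c k • y k = algebraMap R (G j) d := by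
    intro n c x d h
    choose I Y hY using fun k => Ring.DirectLimit.exists_of (G := G) (f := fun i j h => f i j h) (x k)
    obtain ⟨j₁, hj₁⟩ := Finset.exists_le (insert i (Finset.univ.image I))
    have hI : ∀ k, I k ≤ j₁ := fun k => hj₁ _ (Finset.mem_insert_of_mem (Finset.mem_image_of_mem _ (Finset.mem_univ k)))
    let y₁ : Fin n → G j₁ := fun k => f (I k) j₁ (hI k) (Y k)
    have hy₁ : ∀ k, φ j₁ (y₁ k) = x k := fun k => (Ring.DirectLimit.of_f (hI k) (Y k)).trans (hY k)
    have h0 : φ j₁ (∑ k, c k • y₁ k - algebraMap R (G j₁) d) = 0 := by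
      rw [map_sub, map_sum, hφalg, sub_eq_zero, ← h]
      exact Finset.sum_congr rfl fun k _ => by
        rw [Algebra.smul_def, Algebra.smul_def, map_mul, hy₁, hφalg]
    obtain ⟨j, hj, hz⟩ := Ring.DirectLimit.of.zero_exact h0
    refine ⟨j, fun k => f j₁ j hj (y₁ k), fun k => (Ring.DirectLimit.of_f hj (y₁ k)).trans (hy₁ k), ?_⟩
    have hz' : f j₁ j hj (∑ k, c k • y₁ k - algebraMap R (G j₁) d) = 0 := hz
    rw [map_sub, sub_eq_zero, map_sum, ← RingHom.comp_apply, hcompat] at hz'
    rw [← hz']
    exact Finset.sum_congr rfl fun k _ => by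
      rw [Algebra.smul_def, Algebra.smul_def, map_mul, ← RingHom.comp_apply, hcompat]
  haveI : Module.Flat R D := by
    rw [Module.Flat.iff_forall_isTrivialRelation]
    intro n c x hx
    obtain ⟨j, y, hy, hsum⟩ := hlift c x 0 (by rw [hx, map_zero])
    rw [map_zero] at hsum
    obtain ⟨κ, a, z, hz1, hz2⟩ := Module.Flat.isTrivialRelation_of_sum_smul_eq_zero hsum
    refine ⟨κ, a, fun q => φ j (z q), fun k => ?_, hz2⟩
    rw [← hy k, hz1 k, map_sum]
    exact Finset.sum_congr rfl fun q _ => by rw [Algebra.smul_def, Algebra.smul_def, map_mul, hφalg]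
  haveI : Module.FaithfullyFlat R D := by
    refine ⟨fun m hm htop => ?_⟩
    have h1 : (1 : D) ∈ m • (⊤ : Submodule R D) := htop.symm ▸ Submodule.mem_top
    have hrep : ∀ e ∈ m • (⊤ : Submodule R D), ∃ (n : ℕ) (c : Fin n → R) (x : Fin n → D),
        (∀ k, c k ∈ m) ∧ ∑ k, c k • x k = e := by
      intro e he
      refine Submodule.smul_induction_on he (fun r hr x _ => ⟨1, fun _ => r, fun _ => x, fun _ => hr, by simp⟩) ?_
      rintro _ _ ⟨n, c, x, hc, rfl⟩ ⟨n', c', x', hc', rfl⟩
      refine ⟨n + n', Fin.append c c', Fin.append x x', fun k => ?_, by simp [Fin.sum_univ_add]⟩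
      refine Fin.addCases (fun a => ?_) (fun a => ?_) k <;> simp [hc, hc']
    obtain ⟨n, c, x, hc, hsum⟩ := hrep 1 h1
    obtain ⟨j, y, -, hy⟩ := hlift c x 1 (by rw [hsum, map_one])
    refine Module.FaithfullyFlat.submodule_ne_top (R := R) (M := G j) hm (Ideal.smul_top_eq_map (R := R) (S := G j) m ▸ ?_)
    rw [Submodule.restrictScalars_eq_top_iff, Ideal.eq_top_iff_one, ← map_one (algebraMap R (G j)), ← hy]
    exact sum_mem fun k _ => by
      rw [Algebra.smul_def]
      exact Ideal.mul_mem_right _ _ (Ideal.mem_map_of_mem _ (hc k))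
  exact RingHom.faithfullyFlat_algebraMap_iff.mpr ‹_›

end Groth.Agent.S6321
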