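import Groth.Statements.S6324
import Mathlib.RingTheory.ReesAlgebra
import Mathlib.RingTheory.IntegralClosure.IsIntegral.Basic

set_option autoImplicit false
universe u
open CAlg

namespace Groth.Agent.S6324

/-- Let R → S be a ring map, I ⊆ R an ideal and A = Σ Iⁿtⁿ ⊆ R[t] the Rees algebra of I. For s ∈ S,
being integral over I is equivalent to s·t ∈ S[t] being integral over A (via A ⊆ R[t] → S[t]). -/
theorem result {R S : Type u} [CommRing R] [CommRing S] [Algebra R S] (I : Ideal R) (s : S) : W4stkalgebra1.IsIntegralOverIdeal I s ↔ ((Polynomial.mapRingHom (algebraMap R S)).comp (reesAlgebra I).val.toRingHom).IsIntegralElem (Polynomial.C s * Polynomial.X) := by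
  classical
  let ψ := (Polynomial.mapRingHom (algebraMap R S)).comp (reesAlgebra I).val.toRingHom
  constructor
  · rintro ⟨p, hm, hI, hp⟩
    let n := p.natDegree
    have hmem : ∀ j, Polynomial.monomial (n - j) (p.coeff j) ∈ reesAlgebra I := fun j => by
      rw [reesAlgebra.monomial_mem]
      rcases lt_or_ge j n with hj | hj
      · exact hI j hj
      · rw [Nat.sub_eq_zero_of_le hj, pow_zero, Ideal.one_eq_top]; trivial
    let c : ℕ → reesAlgebra I := fun j => ⟨_, hmem j⟩
    refine ⟨Polynomial.X ^ n + ∑ j ∈ Finset.range n, Polynomial.C (c j) * Polynomial.X ^ j,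
      Polynomial.monic_X_pow_add ((Polynomial.degree_sum_le _ _).trans_lt ((Finset.sup_lt_iff (WithBot.bot_lt_coe n)).2 fun j hj =>
        (Polynomial.degree_C_mul_X_pow_le _ _).trans_lt (WithBot.coe_lt_coe.2 (Finset.mem_range.1 hj)))), ?_⟩
    have hz : Polynomial.eval₂ (algebraMap R S) s p = s ^ n + ∑ j ∈ Finset.range n, algebraMap R S (p.coeff j) * s ^ j := by
      rw [Polynomial.eval₂_eq_sum_range, Finset.sum_range_succ, add_comm, show p.coeff n = 1 from hm.leadingCoeff, map_one, one_mul]
    rw [hp] at hz
    simp only [Polynomial.eval₂_add, Polynomial.eval₂_X_pow, Polynomial.eval₂_finsetSum, Polynomial.eval₂_mul, Polynomial.eval₂_C]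
    have he : ∀ j ∈ Finset.range n, ψ (c j) * (Polynomial.C s * Polynomial.X) ^ j =
        Polynomial.monomial n (algebraMap R S (p.coeff j) * s ^ j) := fun j hj => by
      show (Polynomial.monomial (n - j) (p.coeff j)).map (algebraMap R S) * _ = _
      rw [Polynomial.map_monomial, mul_pow, ← Polynomial.C_pow, Polynomial.C_mul_X_pow_eq_monomial, Polynomial.monomial_mul_monomial,
        Nat.sub_add_cancel (Finset.mem_range.1 hj).le]
    rw [Finset.sum_congr rfl he, mul_pow, ← Polynomial.C_pow, Polynomial.C_mul_X_pow_eq_monomial, ← map_sum, ← map_add, ← hz, map_zero]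
  · rintro ⟨q, hm, hq⟩
    let n := q.natDegree
    let a : ℕ → R := fun j => (q.coeff j).1.coeff (n - j)
    let p : Polynomial R := Polynomial.X ^ n + ∑ j ∈ Finset.range n, Polynomial.C (a j) * Polynomial.X ^ j
    have hlt : (∑ j ∈ Finset.range n, Polynomial.C (a j) * Polynomial.X ^ j).degree < (n : WithBot ℕ) :=
      (Polynomial.degree_sum_le _ _).trans_lt ((Finset.sup_lt_iff (WithBot.bot_lt_coe n)).2 fun j hj =>
        (Polynomial.degree_C_mul_X_pow_le _ _).trans_lt (WithBot.coe_lt_coe.2 (Finset.mem_range.1 hj)))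
    have hpm : p.Monic := Polynomial.monic_X_pow_add hlt
    have hzero : Polynomial.eval₂ (algebraMap R S) s p = 0 := by
      simp only [p, Polynomial.eval₂_add, Polynomial.eval₂_X_pow, Polynomial.eval₂_finsetSum, Polynomial.eval₂_mul, Polynomial.eval₂_C]
      have h := congrArg (fun f : Polynomial S => f.coeff n) hq
      simp only [Polynomial.eval₂_eq_sum_range, Finset.sum_range_succ, show q.coeff q.natDegree = 1 from hm.leadingCoeff, map_one, one_mul,
        mul_pow, ← Polynomial.C_pow, Polynomial.coeff_add, Polynomial.finsetSum_coeff, Polynomial.coeff_zero] at h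
      rw [Polynomial.C_mul_X_pow_eq_monomial, Polynomial.coeff_monomial_same] at h
      rw [← h, add_comm]
      congr 1
      refine Finset.sum_congr rfl fun j hj => ?_
      have hjn : j < n := Finset.mem_range.1 hj
      rw [← mul_assoc, Polynomial.coeff_mul_X_pow', if_pos hjn.le, Polynomial.coeff_mul_C]
      show algebraMap R S (a j) * s ^ j = ((q.coeff j).1.map (algebraMap R S)).coeff (n - j) * s ^ j
      rw [Polynomial.coeff_map]
    rcases subsingleton_or_nontrivial R with hR | hR
    · exact ⟨p, hpm, fun j _ => by rw [Subsingleton.elim (p.coeff j) 0]; exact zero_mem _, hzero⟩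
    refine ⟨p, hpm, fun j hj => ?_, hzero⟩
    have hdeg : p.natDegree = n := by
      have hd : p.degree = (n : WithBot ℕ) := by
        rw [Polynomial.degree_add_eq_left_of_degree_lt (by rwa [Polynomial.degree_X_pow]), Polynomial.degree_X_pow]
      exact Polynomial.natDegree_eq_of_degree_eq_some hd
    rw [hdeg] at hj ⊢
    have hc : p.coeff j = a j := by
      simp only [p, Polynomial.coeff_add, Polynomial.coeff_X_pow, if_neg hj.ne, zero_add, Polynomial.finsetSum_coeff, Polynomial.coeff_C_mul,
        Polynomial.coeff_X_pow, mul_ite, mul_one, mul_zero]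
      rw [Finset.sum_ite_eq, if_pos (Finset.mem_range.2 hj)]
    rw [hc]
    exact (q.coeff j).2 (n - j)

end Groth.Agent.S6324
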