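import Groth.Statements.S6325
import Groth.Agent.S6324
import Mathlib.RingTheory.IntegralClosure.Algebra.Basic

set_option autoImplicit false
universe u
open CAlg
open Groth.Agent

namespace Groth.Agent.S6325

/-- Let R → S be a ring map and I ⊆ R an ideal. The elements of S integral over I form an R-submodule of
S; moreover, the product s s' is integral over I for any s ∈ S integral over R and any s' ∈ S
integral over I. -/
theorem result {R S : Type u} [CommRing R] [CommRing S] [Algebra R S] (I : Ideal R) : (∃ N : Submodule R S, ∀ s : S, s ∈ N ↔ W4stkalgebra1.IsIntegralOverIdeal I s) ∧ (∀ s s' : S, IsIntegral R s → W4stkalgebra1.IsIntegralOverIdeal I s' → W4stkalgebra1.IsIntegralOverIdeal I (s * s')) := by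
  let A := reesAlgebra I
  let ψ : A →+* Polynomial S := (Polynomial.mapRingHom (algebraMap R S)).comp A.val.toRingHom
  letI : Algebra A (Polynomial S) := ψ.toAlgebra
  have key : ∀ s : S, W4stkalgebra1.IsIntegralOverIdeal I s ↔ IsIntegral A (Polynomial.C s * Polynomial.X) := fun s => S6324.result I s
  have hR : ∀ r : R, IsIntegral A (Polynomial.C (algebraMap R S r)) := fun r => by
    have e : Polynomial.C (algebraMap R S r) = algebraMap A (Polynomial S) (algebraMap R A r) := by
      show _ = (algebraMap R (Polynomial R) r).map (algebraMap R S)
      rw [Polynomial.algebraMap_eq, Polynomial.map_C]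
    rw [e]; exact isIntegral_algebraMap
  refine ⟨⟨{ carrier := {s | IsIntegral A (Polynomial.C s * Polynomial.X)}
             zero_mem' := by show IsIntegral A _; rw [map_zero, zero_mul]; exact isIntegral_zero
             add_mem' := fun {a b} ha hb => by show IsIntegral A _; rw [map_add, add_mul]; exact IsIntegral.add ha hb
             smul_mem' := fun r a ha => by
               show IsIntegral A _
               rw [Algebra.smul_def, map_mul, mul_assoc]; exact (hR r).mul ha }, fun s => (key s).symm⟩, fun s s' hs hs' => ?_⟩
  rw [key] at hs' ⊢
  rw [map_mul, mul_assoc]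
  refine IsIntegral.mul ?_ hs'
  obtain ⟨p, hm, hp⟩ := hs
  refine ⟨p.map (algebraMap R A), hm.map _, ?_⟩
  have hcomp : (algebraMap A (Polynomial S)).comp (algebraMap R A) = (Polynomial.C : S →+* Polynomial S).comp (algebraMap R S) :=
    RingHom.ext fun r => by
      show (algebraMap R (Polynomial R) r).map (algebraMap R S) = _
      rw [Polynomial.algebraMap_eq, Polynomial.map_C]; rfl
  rw [Polynomial.eval₂_map, hcomp, ← Polynomial.hom_eval₂, hp, map_zero]

end Groth.Agent.S6325
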