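import Groth.Statements.S6328
import Mathlib.Algebra.Colimit.Module
import Mathlib.LinearAlgebra.Finsupp.Supported
import Mathlib.LinearAlgebra.Finsupp.LinearCombination
import Mathlib.RingTheory.Finiteness.Finsupp
import Mathlib.Algebra.Module.FinitePresentation
import Mathlib.Data.Finset.Basic
import Mathlib.LinearAlgebra.Quotient.Basic
import Mathlib.LinearAlgebra.Basis.Basic
import Mathlib.LinearAlgebra.FreeModule.Basic
import Mathlib.RingTheory.Finiteness.Basic

set_option autoImplicit false
universe u
open CAlg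

namespace Groth.Agent.S6328

theorem aux {R : Type u} [CommRing R] {M : Type u} [AddCommGroup M] [Module R M] (V : Type u) [AddCommGroup V] [Module R V]
    (B : Module.Basis M R V) :
    ∃ (ι : Type u) (_ : Preorder ι) (_ : IsDirected ι (· ≤ ·)) (_ : Nonempty ι) (_ : DecidableEq ι) (G : ι → Type u) (_ : ∀ i, AddCommGroup (G i)) (_ : ∀ i, Module R (G i)) (f : ∀ i j, i ≤ j → G i →ₗ[R] G j) (_ : DirectedSystem G fun i j h => f i j h), (∀ i, Module.FinitePresentation R (G i)) ∧ Nonempty (Module.DirectLimit G f ≃ₗ[R] M) := by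
  classical
  let φ : V →ₗ[R] M := B.constr R id
  let ι := {st : Finset M × Finset V //
    ∀ z ∈ st.2, z ∈ Submodule.span R (B '' (st.1 : Set M)) ∧ φ z = 0}
  let N : ι → Submodule R V := fun i => Submodule.span R (B '' (i.1.1 : Set M))
  let K : ∀ i : ι, Submodule R (N i) := fun i =>
    (Submodule.span R (i.1.2 : Set V)).comap (N i).subtype
  have hNle : ∀ i j : ι, i ≤ j → N i ≤ N j := fun i j h => Submodule.span_mono (Set.image_mono h.1)
  let f : ∀ i j : ι, i ≤ j → ((N i) ⧸ K i) →ₗ[R] ((N j) ⧸ K j) := fun i j h =>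
    Submodule.mapQ _ _ (Submodule.inclusion (hNle i j h)) fun z hz => Submodule.span_mono (Finset.coe_subset.mpr h.2) hz
  have hkill : ∀ i : ι, K i ≤ LinearMap.ker (φ ∘ₗ (N i).subtype) := fun i z hz =>
    (Submodule.span_le (p := LinearMap.ker φ)).mpr (fun w hw => LinearMap.mem_ker.mpr (i.2 w hw).2) hz
  let g : ∀ i : ι, ((N i) ⧸ K i) →ₗ[R] M := fun i => (K i).liftQ _ (hkill i)
  haveI hdir : IsDirected ι (· ≤ ·) := ⟨fun i j => ⟨⟨(i.1.1 ∪ j.1.1, i.1.2 ∪ j.1.2), fun z hz => by
      rcases Finset.mem_union.mp hz with hz | hz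
      · exact ⟨Submodule.span_mono (Set.image_mono (by simp)) (i.2 z hz).1, (i.2 z hz).2⟩
      · exact ⟨Submodule.span_mono (Set.image_mono (by simp)) (j.2 z hz).1, (j.2 z hz).2⟩⟩,
    ⟨Finset.subset_union_left, Finset.subset_union_left⟩, ⟨Finset.subset_union_right, Finset.subset_union_right⟩⟩⟩
  haveI hne : Nonempty ι := ⟨⟨(∅, ∅), by simp⟩⟩
  haveI hds : DirectedSystem (fun i => (N i) ⧸ K i) fun i j h => f i j h :=
    { map_self := fun i x => by
        obtain ⟨z, rfl⟩ := Submodule.Quotient.mk_surjective _ x
        rfl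
      map_map := fun {k j i} hij hjk x => by
        obtain ⟨z, rfl⟩ := Submodule.Quotient.mk_surjective _ x
        rfl }
  refine ⟨ι, inferInstance, hdir, hne, inferInstance, fun i => (N i) ⧸ K i, inferInstance, inferInstance, f, hds,
    fun i => ?_, ?_⟩
  · have hli : LinearIndependent R (fun m : (i.1.1 : Set M) => B m) := B.linearIndependent.comp _ Subtype.val_injective
    have hN : N i = Submodule.span R (Set.range fun m : (i.1.1 : Set M) => B m) := by
      show Submodule.span R _ = _
      congr 1
      ext v; simp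
    haveI : Module.Free R (N i) := Module.Free.of_basis ((Module.Basis.span hli).map (LinearEquiv.ofEq _ _ hN.symm))
    haveI : Module.Finite R (N i) := Module.Finite.of_basis ((Module.Basis.span hli).map (LinearEquiv.ofEq _ _ hN.symm))
    haveI : Module.FinitePresentation R (N i) := Module.finitePresentation_of_projective R _
    refine Module.finitePresentation_of_surjective (K i).mkQ (Submodule.mkQ_surjective _) ?_
    rw [Submodule.ker_mkQ]
    refine Submodule.fg_of_fg_map_injective (N i).subtype (Submodule.subtype_injective _) ?_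
    rw [Submodule.map_comap_subtype, inf_eq_right.mpr (Submodule.span_le.mpr fun w hw => (i.2 w hw).1)]
    exact Submodule.fg_span (Finset.finite_toSet _)
  · let L : Module.DirectLimit (fun i => (N i) ⧸ K i) f →ₗ[R] M := Module.DirectLimit.lift R ι _ f g fun i j h x => by
      obtain ⟨z, rfl⟩ := Submodule.Quotient.mk_surjective _ x
      rfl
    refine ⟨LinearEquiv.ofBijective L ⟨?_, fun m => ?_⟩⟩
    · rw [injective_iff_map_eq_zero]
      intro x hx
      obtain ⟨i, y, rfl⟩ := Module.DirectLimit.exists_of x
      obtain ⟨z, rfl⟩ := Submodule.Quotient.mk_surjective _ y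
      have hz : φ (z : V) = 0 := by
        rw [Module.DirectLimit.lift_of] at hx
        exact hx
      let j : ι := ⟨(i.1.1, insert (z : V) i.1.2), fun w hw => by
        rcases Finset.mem_insert.mp hw with rfl | hw
        · exact ⟨z.2, hz⟩
        · exact i.2 w hw⟩
      have hij : i ≤ j := ⟨le_rfl, Finset.subset_insert _ _⟩
      rw [← Module.DirectLimit.of_f (hij := hij),
        show f i j hij (Submodule.Quotient.mk z) = 0 from (Submodule.Quotient.mk_eq_zero _).mpr
          (Submodule.subset_span (Finset.mem_coe.mpr (Finset.mem_insert_self _ _))), map_zero]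
    · let i : ι := ⟨({m}, ∅), by simp⟩
      refine ⟨Module.DirectLimit.of R ι _ f i (Submodule.Quotient.mk ⟨B m,
        Submodule.subset_span (Set.mem_image_of_mem _ (by simp [i]))⟩), ?_⟩
      rw [Module.DirectLimit.lift_of]
      show φ (B m) = m
      simp [φ]


/-- Every module M over a ring R can be written as the direct limit of a directed system (Mᵢ, μᵢⱼ) of
finitely presented R-modules. -/
theorem result (R : Type u) [CommRing R] (M : Type u) [AddCommGroup M] [Module R M] : ∃ (ι : Type u) (_ : Preorder ι) (_ : IsDirected ι (· ≤ ·)) (_ : Nonempty ι) (_ : DecidableEq ι) (G : ι → Type u) (_ : ∀ i, AddCommGroup (G i)) (_ : ∀ i, Module R (G i)) (f : ∀ i j, i ≤ j → G i →ₗ[R] G j) (_ : DirectedSystem G fun i j h => f i j h), (∀ i, Module.FinitePresentation R (G i)) ∧ Nonempty (Module.DirectLimit G f ≃ₗ[R] M) := by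
  exact aux (M →₀ R) Finsupp.basisSingleOne

end Groth.Agent.S6328
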