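import Groth.Statements.S6329
import Mathlib.RingTheory.SimpleModule.Basic
import Mathlib.Algebra.Module.LocalizedModule.Exact
import Mathlib.RingTheory.LocalRing.ResidueField.Ideal
import Mathlib.Order.JordanHolder

set_option autoImplicit false
universe u
open CAlg

namespace Groth.Agent.S6329

/-- Let R be a ring, M an R-module and 0 = M₀ ⊂ M₁ ⊂ … ⊂ Mₙ = M a maximal chain of submodules (a
composition series; each Mᵢ/Mᵢ₋₁ is simple, of the form R/mᵢ with mᵢ = (Mᵢ₋₁ : Mᵢ) maximal). Then
for every maximal ideal m of R the number of indices i with mᵢ = m equals length_{R_m}(M_m). -/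
theorem result {R : Type u} [CommRing R] (M : Type u) [AddCommGroup M] [Module R M] (s : CompositionSeries (Submodule R M)) (h0 : s.head = ⊥) (h1 : s.last = ⊤) (m : Ideal R) [m.IsMaximal] : ((Finset.univ.filter fun i : Fin s.length => (s i.castSucc).colon (s i.succ : Set M) = m).card : ℕ∞) = Module.length (Localization.AtPrime m) (LocalizedModule m.primeCompl M) := by
  classical
  let S := m.primeCompl
  let Rm := Localization.AtPrime m
  let L : Fin (s.length + 1) → ℕ∞ := fun i => Module.length Rm (LocalizedModule S (s i))
  have key : ∀ i : Fin s.length, L i.succ = L i.castSucc + (if (s i.castSucc).colon (s i.succ : Set M) = m then 1 else 0) := by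
    intro i
    let A := s i.castSucc
    let B := s i.succ
    have hcov : A ⋖ B := s.step i
    let A' : Submodule R B := A.comap B.subtype
    let Q := B ⧸ A'
    haveI : IsSimpleModule R Q := (covBy_iff_quot_is_simple hcov.le).1 hcov
    let j : A →ₗ[R] B := Submodule.inclusion hcov.le
    let p : B →ₗ[R] Q := A'.mkQ
    have hjp : Function.Exact j p := fun x => by
      rw [Submodule.mkQ_apply, Submodule.Quotient.mk_eq_zero, Submodule.mem_comap]
      exact ⟨fun h => ⟨⟨x, h⟩, rfl⟩, fun ⟨y, hy⟩ => hy ▸ y.2⟩
    have hann : (s i.castSucc).colon (s i.succ : Set M) = Module.annihilator R Q := by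
      ext r
      rw [Submodule.mem_colon, Module.mem_annihilator]
      constructor
      · intro h q
        obtain ⟨q, rfl⟩ := Submodule.Quotient.mk_surjective _ q
        rw [← Submodule.Quotient.mk_smul, Submodule.Quotient.mk_eq_zero]
        exact h q q.2
      · intro h x hx
        have h1 := h (Submodule.Quotient.mk (⟨x, hx⟩ : B))
        rw [← Submodule.Quotient.mk_smul, Submodule.Quotient.mk_eq_zero] at h1
        exact h1
    have hlen := Module.length_eq_add_of_exact (LocalizedModule.map S j) (LocalizedModule.map S p)
      (LocalizedModule.map_injective S j (Submodule.inclusion_injective hcov.le))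
      (LocalizedModule.map_surjective S p A'.mkQ_surjective) (LocalizedModule.map_exact S j p hjp)
    show Module.length Rm (LocalizedModule S B) = Module.length Rm (LocalizedModule S A) + _
    rw [hlen, hann]
    congr 1
    haveI hmax := IsSimpleModule.annihilator_isMaximal (R := R) (M := Q)
    split_ifs with h
    · refine Module.length_eq_one_iff.2 (isSimpleModule_iff_toSpanSingleton_surjective.2 ⟨?_, ?_⟩)
      · haveI := IsSimpleModule.nontrivial R Q
        obtain ⟨q, hq⟩ := exists_ne (0 : Q)
        refine ⟨LocalizedModule.mk q (1 : S), 0, fun e => ?_⟩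
        obtain ⟨u, hu⟩ := LocalizedModule.mk_eq.1 (e.trans (LocalizedModule.zero_mk (1 : S)).symm)
        simp only [Submonoid.smul_def, Submonoid.coe_one, one_smul, smul_zero] at hu
        obtain ⟨a, ha⟩ := IsSimpleModule.toSpanSingleton_surjective R hq q
        have hu' : ∀ z : Q, (u : R) • z = 0 := fun z => by
          obtain ⟨c, rfl⟩ := IsSimpleModule.toSpanSingleton_surjective R hq z
          rw [LinearMap.toSpanSingleton_apply, smul_comm, hu, smul_zero]
        exact u.2 (h ▸ Module.mem_annihilator.2 hu' : (u : R) ∈ m)
      · intro x hx y
        induction x using LocalizedModule.induction_on with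
        | h q t =>
          induction y using LocalizedModule.induction_on with
          | h q' t' =>
            have hq : q ≠ 0 := fun e => hx (by rw [e, LocalizedModule.zero_mk])
            obtain ⟨a, ha⟩ := IsSimpleModule.toSpanSingleton_surjective R hq ((t : R) • q')
            refine ⟨Localization.mk a t', ?_⟩
            rw [LinearMap.toSpanSingleton_apply, LocalizedModule.mk_smul_mk, LocalizedModule.mk_eq]
            refine ⟨1, ?_⟩
            rw [LinearMap.toSpanSingleton_apply] at ha
            simp only [one_smul, Submonoid.smul_def, Submonoid.coe_mul]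
            rw [ha, smul_smul]
    · obtain ⟨a, haann, ham⟩ : ∃ a ∈ Module.annihilator R Q, a ∉ m := by
        by_contra hc
        push Not at hc
        exact h (hmax.eq_of_le (Ideal.IsMaximal.ne_top ‹_›) hc)
      refine Module.length_eq_zero_iff.2 ⟨fun x y => ?_⟩
      have h0 : ∀ z : LocalizedModule S Q, z = 0 := fun z => by
        induction z using LocalizedModule.induction_on with
        | h q t =>
          rw [← LocalizedModule.zero_mk (1 : S), LocalizedModule.mk_eq]
          exact ⟨⟨a, ham⟩, by simp [Submonoid.smul_def, Module.mem_annihilator.1 haann q]⟩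
      rw [h0 x, h0 y]
  have hsum : ∀ i : Fin (s.length + 1), L i = ∑ j ∈ Finset.univ.filter (fun j : Fin s.length => j.castSucc < i),
      (if (s j.castSucc).colon (s j.succ : Set M) = m then 1 else 0) := by
    intro i
    induction i using Fin.induction with
    | zero =>
      rw [Finset.sum_eq_zero (fun j hj => absurd (Finset.mem_filter.1 hj).2 (by simp))]
      have h0' : s 0 = ⊥ := h0
      haveI : Subsingleton (s 0) := by rw [h0']; infer_instance
      haveI : Subsingleton (LocalizedModule S (s 0)) := ⟨fun x y => by
        induction x using LocalizedModule.induction_on with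
        | h a t => induction y using LocalizedModule.induction_on with
          | h b t' => rw [Subsingleton.elim a 0, Subsingleton.elim b 0, LocalizedModule.zero_mk, LocalizedModule.zero_mk]⟩
      exact Module.length_eq_zero_iff.2 inferInstance
    | succ i ih =>
      rw [key i, ih, add_comm]
      rw [show (Finset.univ.filter fun j : Fin s.length => j.castSucc < i.succ) = insert i (Finset.univ.filter fun j : Fin s.length => j.castSucc < i.castSucc) from ?_,
        Finset.sum_insert (by simp)]
      ext j
      simp [Fin.castSucc_lt_succ_iff, le_iff_eq_or_lt]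
  have hlast := hsum (Fin.last s.length)
  rw [Finset.filter_true_of_mem (fun j _ => Fin.castSucc_lt_last j), Finset.sum_boole] at hlast
  refine hlast.symm.trans ?_
  have hB : s (Fin.last s.length) = ⊤ := h1
  let e : (s (Fin.last s.length) : Submodule R M) ≃ₗ[R] M := (LinearEquiv.ofEq _ _ hB).trans Submodule.topEquiv
  exact ((IsLocalizedModule.mapEquiv S (LocalizedModule.mkLinearMap S (s (Fin.last s.length))) (LocalizedModule.mkLinearMap S M) Rm e)).length_eq

end Groth.Agent.S6329
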