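import Groth.Statements.S6330
import Groth.Agent.MLMod.Locus

set_option autoImplicit false
universe u
open scoped TensorProduct
open CAlg Groth.Agent

namespace Groth.Agent.S6330

/-- Let R be a ring and φ : P₁ → P₂ a map of finite projective R-modules. The set W of primes p of R
such that φ ⊗ κ(p) is surjective is open, and for every f ∈ R with D(f) ⊆ W the map (P₁)_f → (P₂)_f
is surjective and Ker(φ)_f is a finite projective module over R_f. -/
theorem result {R : Type u} [CommRing R] {P₁ P₂ : Type u} [AddCommGroup P₁] [Module R P₁] [AddCommGroup P₂] [Module R P₂] [Module.Finite R P₁] [Module.Projective R P₁] [Module.Finite R P₂] [Module.Projective R P₂] (φ : P₁ →ₗ[R] P₂) : IsOpen {p : PrimeSpectrum R | Function.Surjective (φ.lTensor p.asIdeal.ResidueField)} ∧ ∀ f : R, (↑(PrimeSpectrum.basicOpen f) : Set (PrimeSpectrum R)) ⊆ {p : PrimeSpectrum R | Function.Surjective (φ.lTensor p.asIdeal.ResidueField)} → Function.Surjective (LocalizedModule.map (Submonoid.powers f) φ) ∧ Module.Finite (Localization.Away f) (LocalizedModule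 (Submonoid.powers f) (LinearMap.ker φ)) ∧ Module.Projective (Localization.Away f) (LocalizedModule (Submonoid.powers f) (LinearMap.ker φ)) := by
  refine ⟨?_, fun f hf => ?_⟩
  · simp only [MLMod.Locus.lTensor_surjective_iff]
    exact MLMod.Locus.isOpen_notMem_support
  · obtain ⟨n, hn⟩ := MLMod.Locus.exists_pow_smul_eq_zero (C := P₂ ⧸ LinearMap.range φ) f
      fun p hp => (MLMod.Locus.lTensor_surjective_iff φ p).1 (hf hp)
    have hmem : ∀ x, f ^ n • x ∈ LinearMap.range φ := fun x =>
      (Submodule.Quotient.mk_eq_zero _).1 (hn (Submodule.Quotient.mk x))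
    obtain ⟨σ, hσ⟩ := Module.projective_lifting_property φ.rangeRestrict
      (((f ^ n) • (LinearMap.id : P₂ →ₗ[R] P₂)).codRestrict _ hmem) φ.surjective_rangeRestrict
    have hσ' : ∀ x, φ (σ x) = f ^ n • x := fun x => congrArg Subtype.val (LinearMap.congr_fun hσ x)
    let q : P₁ →ₗ[R] LinearMap.ker φ := ((f ^ n) • (LinearMap.id : P₁ →ₗ[R] P₁) - σ ∘ₗ φ).codRestrict _ fun x => by
      rw [LinearMap.mem_ker, LinearMap.sub_apply, map_sub, LinearMap.comp_apply, hσ', LinearMap.smul_apply,
        LinearMap.id_apply, map_smul, sub_self]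
    refine ⟨MLMod.Locus.localizedMap_surjective_of_smul_mem _ (⟨f ^ n, n, rfl⟩ : Submonoid.powers f) φ hmem,
      MLMod.Locus.finite_projective_of_retract (Submonoid.powers f) (⟨f ^ n, n, rfl⟩ : Submonoid.powers f) (LinearMap.ker φ).subtype q
        fun b => Subtype.ext ?_⟩
    show f ^ n • (b : P₁) - σ (φ b) = f ^ n • (b : P₁)
    rw [show φ (b : P₁) = 0 from b.2, map_zero, sub_zero]

end Groth.Agent.S6330
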