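import Groth.Statements.S6331
import Mathlib.RingTheory.Nilpotent.Basic
import Mathlib.Dynamics.Newton
import Mathlib.RingTheory.Ideal.Quotient.Operations
import Mathlib.RingTheory.Ideal.Quotient.Nilpotent

set_option autoImplicit false
universe u
open CAlg

namespace Groth.Agent.S6331

/-- Let R be a ring, I ⊆ R an ideal all of whose elements are nilpotent, and n ≥ 1 an integer whose
image in R/I is invertible. Then (1) raising to the n-th power is a bijection of the subset 1 + I of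
R onto itself: for every y ∈ I there is exactly one x ∈ I with (1 + x)ⁿ = 1 + y; (2) a unit u of R
has an n-th root in R exactly when the residue class of u has an n-th root in R/I. -/
theorem result {R : Type u} [CommRing R] (I : Ideal R) (hI : ∀ x ∈ I, IsNilpotent x) (n : ℕ) (hn : 1 ≤ n) (hinv : IsUnit ((n : ℕ) : R ⧸ I)) : (∀ y ∈ I, ∃! x : R, x ∈ I ∧ (1 + x) ^ n = 1 + y) ∧ (∀ u : Rˣ, (∃ v : R, v ^ n = (u : R)) ↔ ∃ w : R ⧸ I, w ^ n = Ideal.Quotient.mk I (u : R)) := by
  have hker : ∀ r : R, IsUnit (Ideal.Quotient.mk I r) → IsUnit r := by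
    intro r hr
    obtain ⟨b, hb⟩ := hr.exists_right_inv
    obtain ⟨b, rfl⟩ := Ideal.Quotient.mk_surjective b
    have h1 : r * b - 1 ∈ I := Ideal.Quotient.eq.1 (by simpa using hb)
    have h2 := (hI _ h1).isUnit_add_one
    rw [sub_add_cancel] at h2
    exact isUnit_of_mul_isUnit_left h2
  have hnu : IsUnit (n : R) := hker _ (by simpa using hinv)
  have huniq : ∀ {T : Type u} [CommRing T], IsUnit (n : T) → ∀ a b : T, IsNilpotent a → IsNilpotent b →
      (1 + a) ^ n = (1 + b) ^ n → a = b := by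
    intro T _ hT a b ha hb hab
    have hS : IsNilpotent ((∑ i ∈ Finset.range n, (1 + a) ^ i * (1 + b) ^ (n - 1 - i)) - (n : T)) := by
      rw [show (n : T) = ∑ i ∈ Finset.range n, (1 : T) by simp, ← Finset.sum_sub_distrib]
      refine isNilpotent_sum fun i _ => ?_
      rw [← mem_nilradical] at ha hb ⊢
      rw [← Ideal.Quotient.eq_zero_iff_mem] at ha hb ⊢
      simp [ha, hb]
    have hu : IsUnit (∑ i ∈ Finset.range n, (1 + a) ^ i * (1 + b) ^ (n - 1 - i)) := by
      have := hS.isUnit_add_left_of_commute hT (Commute.all _ _)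
      simpa using this
    have h1 := geom_sum₂_mul (1 + a) (1 + b) n
    rw [hab, sub_self, hu.mul_right_eq_zero, add_sub_add_left_eq_sub, sub_eq_zero] at h1
    exact h1
  have hex : ∀ y ∈ I, ∃! x : R, x ∈ I ∧ (1 + x) ^ n = 1 + y := by
    intro y hy
    let P : Polynomial R := Polynomial.X ^ n - Polynomial.C (1 + y)
    have h0 : IsNilpotent (Polynomial.aeval (1 : R) P) := by simpa [P] using (hI y hy).neg
    have h1 : IsUnit (Polynomial.aeval (1 : R) P.derivative) := by simpa [P, Polynomial.derivative_X_pow] using hnu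
    obtain ⟨r, ⟨hr1, hr2⟩, -⟩ := Polynomial.existsUnique_nilpotent_sub_and_aeval_eq_zero h0 h1
    have hr3 : (1 + (r - 1)) ^ n = 1 + y := by
      simpa [P, sub_eq_zero] using hr2
    have hn1 : IsNilpotent (r - 1) := by simpa using hr1.neg
    refine ⟨r - 1, ⟨?_, hr3⟩, fun x hx => huniq hnu _ _ (hI x hx.1) hn1 (hx.2.trans hr3.symm)⟩
    rw [← Ideal.Quotient.eq_zero_iff_mem]
    refine huniq hinv _ 0 (hn1.map _) IsNilpotent.zero ?_
    have h2 := congrArg (Ideal.Quotient.mk I) hr3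
    simpa [Ideal.Quotient.eq_zero_iff_mem.2 hy] using h2
  refine ⟨hex, fun u => ⟨fun ⟨v, hv⟩ => ⟨Ideal.Quotient.mk I v, by rw [← map_pow, hv]⟩, fun ⟨w, hw⟩ => ?_⟩⟩
  obtain ⟨v, rfl⟩ := Ideal.Quotient.mk_surjective w
  have hv : IsUnit (v ^ n) := hker _ (by rw [map_pow, hw]; exact u.isUnit.map _)
  obtain ⟨b, hb⟩ := hv.exists_right_inv
  have hy : (u : R) * b - 1 ∈ I := by
    rw [← Ideal.Quotient.eq_zero_iff_mem, map_sub, map_mul, ← hw, ← map_pow, ← map_mul, hb, map_one, sub_self]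
  obtain ⟨x, ⟨-, hx⟩, -⟩ := hex _ hy
  refine ⟨v * (1 + x), ?_⟩
  rw [mul_pow, hx, add_sub_cancel, mul_left_comm, hb, mul_one]

end Groth.Agent.S6331
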