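import Groth.Statements.S6332
import Mathlib

set_option autoImplicit false
universe u
open Fields

namespace Groth.Agent.S6332

open IntermediateField in
/-- Let L/K be a finite Galois extension of fields of characteristic p > 0 whose degree equals the prime
p (equivalently, the Galois group is cyclic of order p). Then there is an element z of L with z ^ p
- z in K which generates L over K. -/
theorem result {K L : Type u} [Field K] [Field L] [Algebra K L] (p : ℕ)
    [Fact p.Prime] [CharP K p] [FiniteDimensional K L] [IsGalois K L]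
    (hdeg : Module.finrank K L = p) :
    ∃ z : L, z ^ p - z ∈ Set.range (algebraMap K L) ∧ K⟮z⟯ = ⊤ := by
  classical
  have hp : p.Prime := Fact.out
  have : CharP L p := charP_of_injective_algebraMap (algebraMap K L).injective p
  have hcard : Nat.card (L ≃ₐ[K] L) = p := by rw [IsGalois.card_aut_eq_finrank, hdeg]
  have : IsCyclic (L ≃ₐ[K] L) := isCyclic_of_prime_card hcard
  obtain ⟨σ, hσ⟩ := IsCyclic.exists_generator (α := L ≃ₐ[K] L)
  let d : L →ₗ[K] L := σ.toLinearMap - LinearMap.id
  have hfix : ∀ w, σ w = w → ∀ τ : L ≃ₐ[K] L, τ w = w := fun w hw τ => by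
    have hm : τ ∈ MulAction.stabilizer (L ≃ₐ[K] L) w := Subgroup.zpowers_le.2 (show σ ∈ _ from hw) (hσ τ)
    exact hm
  have hker : LinearMap.ker d ≤ LinearMap.range (Algebra.linearMap K L) := fun w hw => by
    rw [LinearMap.mem_ker] at hw
    exact (IsGalois.mem_range_algebraMap_iff_fixed w).2 (hfix w (sub_eq_zero.1 hw))
  have hrange : LinearMap.range d ≤ LinearMap.ker (Algebra.trace K L) := by
    rintro _ ⟨w, rfl⟩
    rw [LinearMap.mem_ker]
    show Algebra.trace K L (σ w - w) = 0
    rw [map_sub, Algebra.trace_eq_of_algEquiv, sub_self]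
  have h1 : Module.finrank K (LinearMap.ker d) ≤ 1 :=
    (Submodule.finrank_mono hker).trans ((LinearMap.finrank_range_le _).trans (Module.finrank_self K).le)
  have h2 := LinearMap.finrank_range_add_finrank_ker d
  have h3 := LinearMap.finrank_range_add_finrank_ker (Algebra.trace K L)
  rw [LinearMap.range_eq_top.2 (Algebra.trace_surjective K L), finrank_top, Module.finrank_self] at h3
  have heq : LinearMap.range d = LinearMap.ker (Algebra.trace K L) :=
    Submodule.eq_of_le_of_finrank_le hrange (by omega)
  have hone : (1 : L) ∈ LinearMap.range d := by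
    rw [heq, LinearMap.mem_ker]
    have := Algebra.trace_algebraMap (S := L) (1 : K)
    rw [map_one, hdeg, nsmul_eq_mul, mul_one, CharP.cast_eq_zero] at this
    exact this
  obtain ⟨z, hz⟩ := hone
  have hz1 : σ z = z + 1 := by
    have : σ z - z = 1 := hz
    linear_combination this
  refine ⟨z, (IsGalois.mem_range_algebraMap_iff_fixed _).2 (hfix _ ?_), ?_⟩
  · rw [map_sub, map_pow, hz1, add_pow_char, one_pow]; ring
  · have : Fact (Module.finrank K L).Prime := ⟨hdeg ▸ hp⟩
    have hso := IntermediateField.isSimpleOrder_of_finrank_prime K L (hdeg ▸ hp)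
    refine (hso.eq_bot_or_eq_top _).resolve_left fun hbot => ?_
    rw [IntermediateField.adjoin_simple_eq_bot_iff, IntermediateField.mem_bot] at hbot
    obtain ⟨c, rfl⟩ := hbot
    rw [AlgEquiv.commutes] at hz1
    simp at hz1

end Groth.Agent.S6332
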