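import Groth.Statements.S6333
import Mathlib

set_option autoImplicit false
universe u
open Fields

namespace Groth.Agent.S6333

/-- For a finitely generated field extension K/k, the algebraic closure of k inside K is a finite
extension of k. -/
theorem result {k K : Type u} [Field k] [Field K] [Algebra k K]
    (hfg : (⊤ : IntermediateField k K).FG) :
    FiniteDimensional k (algebraicClosure k K) := by
  classical
  obtain ⟨t, ht⟩ := exists_isTranscendenceBasis k K
  let Lc := algebraicClosure k K
  haveI : Algebra.IsAlgebraic k Lc := algebraicClosure.isAlgebraic k K
  have hti : AlgebraicIndependent Lc ((↑) : t → K) := ht.1.extendScalars Lc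
  let F : IntermediateField k K := IntermediateField.adjoin k (Set.range ((↑) : t → K))
  haveI : Algebra.IsAlgebraic F K := ht.isAlgebraic_field
  haveI : FiniteDimensional F K := by
    obtain ⟨g, hg⟩ := hfg
    haveI : Finite (g : Set K) := g.finite_toSet.to_subtype
    have htop : IntermediateField.adjoin F (g : Set K) = ⊤ := by
      apply IntermediateField.restrictScalars_injective k
      rw [IntermediateField.restrictScalars_top, eq_top_iff, ← hg]
      exact IntermediateField.adjoin_le_iff.2 (IntermediateField.subset_adjoin F _)
    have := IntermediateField.finiteDimensional_adjoin (K := F) (L := K) (S := (g : Set K))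
      fun x _ => (Algebra.IsAlgebraic.isAlgebraic (R := F) x).isIntegral
    rw [htop] at this
    exact IntermediateField.topEquiv.toLinearEquiv.finiteDimensional
  let bb := Module.Free.chooseBasis k Lc
  have hP : LinearIndependent (Algebra.adjoin k (Set.range ((↑) : t → K))) fun i => (bb i : K) := by
    rw [linearIndependent_iff']
    intro S g hg i hi
    have hgp : ∀ j, ∃ P : MvPolynomial t k, MvPolynomial.aeval ((↑) : t → K) P = (g j : K) := fun j => by
      have := (g j).2
      simpa only [Algebra.adjoin_range_eq_range_aeval, AlgHom.mem_range] using this
    choose P hP using hgp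
    let Q : MvPolynomial t Lc := ∑ j ∈ S, MvPolynomial.C (bb j) * MvPolynomial.map (algebraMap k Lc) (P j)
    have hQ : Q = 0 := hti (by
      rw [map_zero]
      simp only [Q, map_sum, map_mul, MvPolynomial.aeval_C, MvPolynomial.aeval_map_algebraMap, hP]
      rw [← hg]
      refine Finset.sum_congr rfl fun j _ => ?_
      rw [Algebra.smul_def]
      exact mul_comm _ _)
    have hi0 : P i = 0 := by
      ext m
      have hm := congrArg (MvPolynomial.coeff m) hQ
      simp only [Q, MvPolynomial.coeff_sum, MvPolynomial.coeff_C_mul, MvPolynomial.coeff_map,
        MvPolynomial.coeff_zero] at hm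
      rw [MvPolynomial.coeff_zero]
      refine linearIndependent_iff'.1 bb.linearIndependent S (fun j => (P j).coeff m) ?_ i hi
      rw [← hm]
      exact Finset.sum_congr rfl fun j _ => by rw [Algebra.smul_def, mul_comm]
    apply Subtype.ext
    rw [← hP i, hi0, map_zero]
    rfl
  open scoped IntermediateField.algebraAdjoinAdjoin in
  have hF : LinearIndependent F fun i => (bb i : K) :=
    (LinearIndependent.iff_fractionRing (Algebra.adjoin k (Set.range ((↑) : t → K))) F).1 hP
  haveI : Finite (Module.Free.ChooseBasisIndex k Lc) := hF.finite
  exact Module.Finite.of_basis bb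

end Groth.Agent.S6333
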