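import Groth.Statements.S6334
import Mathlib

set_option autoImplicit false
universe u
open Fields

namespace Groth.Agent.S6334

open IntermediateField in
/-- Let E/F be a finite purely inseparable extension of fields of characteristic p > 0. Then there are
elements a_1, ..., a_n of E generating E over F such that for each i the p-th power of a_i lies in
F(a_1, ..., a_{i-1}) while a_i itself does not (so each step adjoins a p-th root and has degree p);
in particular [E : F] = p ^ n. -/
theorem result {F E : Type u} [Field F] [Field E] [Algebra F E] (p : ℕ)
    [Fact p.Prime] [CharP F p] [FiniteDimensional F E] [IsPurelyInseparable F E] :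
    ∃ (n : ℕ) (a : Fin n → E), adjoin F (Set.range a) = ⊤ ∧
      (∀ i : Fin n, a i ^ p ∈ adjoin F (a '' {j | j < i}) ∧ a i ∉ adjoin F (a '' {j | j < i})) ∧
      Module.finrank F E = p ^ n := by
  classical
  haveI : ExpChar F p := ExpChar.prime Fact.out
  have key : ∀ (m : ℕ) (K : IntermediateField F E), Module.finrank K E ≤ m → ∀ (k : ℕ) (b : Fin k → E),
      IntermediateField.adjoin F (Set.range b) = K →
      (∀ i : Fin k, b i ^ p ∈ IntermediateField.adjoin F (b '' {j | j < i}) ∧
        b i ∉ IntermediateField.adjoin F (b '' {j | j < i})) →
      Module.finrank F K = p ^ k →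
      ∃ (n : ℕ) (a : Fin n → E), IntermediateField.adjoin F (Set.range a) = ⊤ ∧
        (∀ i : Fin n, a i ^ p ∈ IntermediateField.adjoin F (a '' {j | j < i}) ∧
          a i ∉ IntermediateField.adjoin F (a '' {j | j < i})) ∧ Module.finrank F E = p ^ n := by
    intro m
    induction m with
    | zero => intro K hK; exact absurd hK (by have := Module.finrank_pos (R := K) (M := E); omega)
    | succ m ih =>
      intro K hK k b hb hstep hdeg
      by_cases htop : K = ⊤
      · exact ⟨k, b, hb.trans htop, hstep, by rw [← hdeg, htop, IntermediateField.finrank_top']⟩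
      obtain ⟨y, hy⟩ : ∃ y, y ∉ K := by
        by_contra! h
        exact htop (eq_top_iff.2 fun y _ => h y)
      haveI : IsPurelyInseparable K E := IsPurelyInseparable.tower_top F K E
      haveI : CharP K p := charP_of_injective_algebraMap (algebraMap F K).injective p
      haveI : ExpChar K p := ExpChar.prime Fact.out
      obtain ⟨N, hN⟩ := IsPurelyInseparable.pow_mem K p y
      have hex : ∃ N, y ^ p ^ N ∈ K := by
        obtain ⟨z, hz⟩ := hN; exact ⟨N, hz ▸ z.2⟩
      obtain ⟨j, hj⟩ := Nat.exists_eq_succ_of_ne_zero (show Nat.find hex ≠ 0 from fun h0 => hy (by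
        simpa [h0] using Nat.find_spec hex))
      let x := y ^ p ^ j
      have hxK : x ∉ K := Nat.find_min hex (by omega)
      have hxp : x ^ p ∈ K := by
        rw [show x ^ p = y ^ p ^ Nat.find hex by rw [hj, ← pow_mul, ← pow_succ]]
        exact Nat.find_spec hex
      let K' := IntermediateField.adjoin K ({x} : Set E)
      have hne : ∀ z : K, z ^ p ≠ (⟨x ^ p, hxp⟩ : K) := fun z hz => by
        have h1 : (z : E) ^ p = x ^ p := congrArg Subtype.val hz
        haveI : CharP E p := charP_of_injective_algebraMap (algebraMap F E).injective p
        exact hxK (frobenius_inj E p h1 ▸ z.2)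
      have hirr : Irreducible (Polynomial.X ^ p - Polynomial.C (⟨x ^ p, hxp⟩ : K)) :=
        X_pow_sub_C_irreducible_of_prime Fact.out hne
      have hmp : minpoly K x = Polynomial.X ^ p - Polynomial.C (⟨x ^ p, hxp⟩ : K) :=
        (minpoly.eq_of_irreducible_of_monic hirr (by simp)
          (Polynomial.monic_X_pow_sub_C _ (Fact.out : p.Prime).ne_zero)).symm
      have hK' : Module.finrank K K' = p := by
        rw [IntermediateField.adjoin.finrank (Algebra.IsIntegral.isIntegral x), hmp,
          Polynomial.natDegree_X_pow_sub_C]
      have hlt : Module.finrank K' E ≤ m := by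
        have h := Module.finrank_mul_finrank K K' E
        rw [hK'] at h
        have := (Fact.out : p.Prime).two_le
        have := Module.finrank_pos (R := K') (M := E)
        nlinarith
      let b' : Fin (k + 1) → E := Fin.snoc b x
      have himg : ∀ i : Fin k, b' '' {j | j < i.castSucc} = b '' {j | j < i} := fun i => by
        ext z
        constructor
        · rintro ⟨j, hj, rfl⟩
          induction j using Fin.lastCases with
          | last => exact absurd hj (not_lt.2 (Fin.le_last _))
          | cast j => exact ⟨j, hj, (Fin.snoc_castSucc (α := fun _ => E) x b j).symm⟩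
        · rintro ⟨j, hj, rfl⟩
          exact ⟨j.castSucc, hj, Fin.snoc_castSucc (α := fun _ => E) x b j⟩
      have hlast : b' '' {j | j < Fin.last k} = Set.range b := by
        ext z
        constructor
        · rintro ⟨j, hj, rfl⟩
          induction j using Fin.lastCases with
          | last => exact absurd (show Fin.last k < Fin.last k from hj) (lt_irrefl _)
          | cast j => exact ⟨j, (Fin.snoc_castSucc (α := fun _ => E) x b j).symm⟩
        · rintro ⟨j, rfl⟩
          exact ⟨j.castSucc, Fin.castSucc_lt_last j, Fin.snoc_castSucc (α := fun _ => E) x b j⟩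
      refine ih (K'.restrictScalars F) hlt (k + 1) b' ?_ ?_ ?_
      · rw [show Set.range b' = Set.range b ∪ {x} by simp [b', Fin.range_snoc, Set.union_singleton]]
        subst hb
        exact (IntermediateField.adjoin_adjoin_left F (Set.range b) {x}).symm
      · intro i
        induction i using Fin.lastCases with
        | last =>
          rw [hlast, hb, show b' (Fin.last k) = x from Fin.snoc_last _ _]
          exact ⟨hxp, hxK⟩
        | cast i =>
          rw [himg, show b' i.castSucc = b i from Fin.snoc_castSucc _ _ _]
          exact hstep i
      · show Module.finrank F K' = _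
        rw [← Module.finrank_mul_finrank F K K', hdeg, hK', pow_succ]
  refine key _ ⊥ le_rfl 0 Fin.elim0 ?_ (fun i => i.elim0) ?_
  · rw [Set.range_eq_empty, IntermediateField.adjoin_empty]
  · rw [IntermediateField.finrank_bot, pow_zero]

end Groth.Agent.S6334
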