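import Groth.Statements.S6335
import Mathlib

set_option autoImplicit false
universe u
open Fields

namespace Groth.Agent.S6335

/-- Let K be a field of characteristic p > 0, L/K a separable algebraic extension and a an element of L.
If a is a root of a polynomial P over K which is separable (pairwise distinct roots in an algebraic
closure) and all of whose coefficients are p-th powers in K, then a is a p-th power in L. (Part (1),
the case where P is the minimal polynomial of a, is a special case.) -/
theorem result {K L : Type u} [Field K] [Field L] [Algebra K L]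
    (p : ℕ) [Fact p.Prime] [CharP K p] [Algebra.IsSeparable K L] (a : L) (P : Polynomial K)
    (hroot : Polynomial.aeval a P = 0) (hsep : P.Separable) (hcoeff : ∀ i : ℕ, ∃ b : K, b ^ p = P.coeff i) :
    ∃ c : L, c ^ p = a := by
  classical
  choose b hb using hcoeff
  haveI : ExpChar K p := ExpChar.prime (Fact.out : p.Prime)
  haveI : CharP L p := charP_of_injective_algebraMap (algebraMap K L).injective p
  let Ω := AlgebraicClosure L
  haveI : CharP Ω p := charP_of_injective_algebraMap (algebraMap L Ω).injective p
  haveI : ExpChar Ω p := ExpChar.prime (Fact.out : p.Prime)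
  obtain ⟨c, hc⟩ := IsAlgClosed.exists_pow_nat_eq (algebraMap L Ω a) (Fact.out : p.Prime).pos
  set Q : Polynomial K := ∑ i ∈ P.support, Polynomial.monomial i (b i)
  have hQ : Q.map (frobenius K p) = P := by
    conv_rhs => rw [P.as_sum_support]
    simp [Q, Polynomial.map_sum, Polynomial.map_monomial, frobenius_def, hb]
  have hQsep : Q.Separable := by
    rw [← Polynomial.separable_map (frobenius K p), hQ]; exact hsep
  have hcQ : Polynomial.aeval c Q = 0 := by
    have h1 : (Polynomial.aeval c Q) ^ p = 0 := by
      rw [← frobenius_def, Polynomial.aeval_def, Polynomial.hom_eval₂,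
        show (frobenius Ω p).comp (algebraMap K Ω) = (algebraMap K Ω).comp (frobenius K p) from
          RingHom.ext fun x => by simp [frobenius_def],
        ← Polynomial.eval₂_map, hQ, frobenius_def, hc, ← Polynomial.aeval_def,
        Polynomial.aeval_algebraMap_apply, hroot, map_zero]
    exact eq_zero_of_pow_eq_zero h1
  have hcsep : IsSeparable L c := by
    refine (Polynomial.Separable.map (f := algebraMap K L) hQsep).of_dvd (minpoly.dvd L c ?_)
    rw [Polynomial.aeval_map_algebraMap]; exact hcQ
  obtain ⟨d, hd⟩ : c ∈ (⊥ : IntermediateField L Ω) := by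
    haveI : ExpChar L p := ExpChar.prime (Fact.out : p.Prime)
    have hpi : c ∈ perfectClosure L Ω := (mem_perfectClosure_iff_pow_mem p).2 ⟨1, a, by rw [pow_one, hc]⟩
    rw [← separableClosure_inf_perfectClosure L Ω]
    exact ⟨mem_separableClosure_iff.2 hcsep, hpi⟩
  refine ⟨d, (algebraMap L Ω).injective ?_⟩
  rw [map_pow, show algebraMap L Ω d = c from hd, hc]

end Groth.Agent.S6335
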