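import Groth.Statements.S6336
import Mathlib

set_option autoImplicit false
universe u
open Fields

namespace Groth.Agent.S6336

open IntermediateField Polynomial in
/-- With an added hypothesis: let L/K be a finite extension of degree e generated by a single element a
whose e-th power lies in K, and assume that the polynomial X ^ e - 1 splits into linear factors over
K (so every e-th root of unity of any extension of K already lies in K; this holds when K contains a
primitive e-th root of unity, and when e is a power of the characteristic). Then every intermediate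
field of L/K is generated by a ^ d for some divisor d of e. (The published statement has no
hypothesis on roots of unity; for K the rationals and a a primitive 8-th root of unity, e = 4 and a
^ 4 = -1, the intermediate field generated by a + a⁻¹, a square root of 2, is none of K(a), K(a ^
2), K(a ^ 4); the published proof uses that the e-th roots of unity met are fixed by the
automorphisms it constructs, which the splitting hypothesis guarantees.) -/
theorem result {K L : Type u} [Field K] [Field L] [Algebra K L]
    [FiniteDimensional K L] (a : L) (ha : K⟮a⟯ = ⊤)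
    (hpow : a ^ Module.finrank K L ∈ Set.range (algebraMap K L))
    (hroots : (X ^ Module.finrank K L - 1 : K[X]).Splits) (L' : IntermediateField K L) :
    ∃ d : ℕ, d ∣ Module.finrank K L ∧ L' = K⟮a ^ d⟯ := by
  classical
  set e := Module.finrank K L with he
  have he0 : 0 < e := Module.finrank_pos
  have hint : ∀ (M : IntermediateField K L) (x : L), IsIntegral M x := fun M x =>
    IsIntegral.of_finite M x
  have htop : ∀ M : IntermediateField K L, IntermediateField.adjoin M ({a} : Set L) = ⊤ := by
    intro M
    apply IntermediateField.restrictScalars_injective K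
    rw [IntermediateField.restrictScalars_top, eq_top_iff, ← ha, adjoin_simple_le_iff]
    exact IntermediateField.mem_adjoin_simple_self _ a
  have hdeg : ∀ M : IntermediateField K L, Module.finrank M L = (minpoly M a).natDegree := by
    intro M
    rw [← IntermediateField.adjoin.finrank (hint M a), htop M, IntermediateField.finrank_top']
  set d := (minpoly L' a).natDegree with hd
  have hdL : Module.finrank L' L = d := hdeg L'
  have hdiv : d ∣ e := by
    rw [← hdL, he, ← Module.finrank_mul_finrank K L' L]
    exact dvd_mul_left _ _
  refine ⟨d, hdiv, ?_⟩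
  by_cases ha0 : a = 0
  · have htopbot : (⊤ : IntermediateField K L) = ⊥ := by rw [← ha, ha0, IntermediateField.adjoin_zero]
    exact le_antisymm (le_top.trans (htopbot.le.trans bot_le)) (le_top.trans (htopbot.le.trans bot_le))
  have hmem : a ^ d ∈ L' := by
    obtain ⟨c, hc⟩ := hpow
    set g := minpoly L' a with hg
    set F : L'[X] := X ^ e - C (algebraMap K L' c) with hF
    have hgF : g ∣ F := minpoly.dvd L' a (by
      simp [hF, ← IsScalarTower.algebraMap_apply, hc])
    have hroot : ∀ b : L, (F.map (algebraMap L' L)).IsRoot b → ∃ k : K, b = algebraMap K L k * a := by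
      intro b hb
      have hb' : b ^ e = a ^ e := by
        simpa [hF, ← IsScalarTower.algebraMap_apply, hc, sub_eq_zero] using hb
      have h1 : ((X ^ e - 1 : K[X]).map (algebraMap K L)).IsRoot (b / a) := by
        simp [div_pow, hb', div_self (pow_ne_zero e ha0)]
      rw [hroots.eq_prod_roots_of_monic (by simpa using monic_X_pow_sub_C (1 : K) he0.ne'),
        Polynomial.map_multiset_prod, IsRoot, eval_multiset_prod, Multiset.prod_eq_zero_iff] at h1
      simp only [Multiset.map_map, Multiset.mem_map, Function.comp_apply] at h1
      obtain ⟨k, _, hk⟩ := h1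
      refine ⟨k, ?_⟩
      simp only [Polynomial.map_sub, map_X, map_C, eval_sub, eval_X, eval_C, sub_eq_zero] at hk
      rw [← hk, div_mul_cancel₀ b ha0]
    have hFs : (F.map (algebraMap L' L)).Splits := by
      have h2 : ((X ^ e - 1 : K[X]).map (algebraMap K L)).Splits := hroots.map _
      have h3 := h2.comp_of_natDegree_le_one (g := C (a⁻¹) * X) (by
        exact (natDegree_C_mul_X _ (inv_ne_zero ha0)).le)
      have h4 : F.map (algebraMap L' L) =
          C (a ^ e) * (((X ^ e - 1 : K[X]).map (algebraMap K L)).comp (C (a⁻¹) * X)) := by
        simp only [hF, Polynomial.map_sub, Polynomial.map_pow, map_X, map_C, Polynomial.map_one,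
          sub_comp, pow_comp, X_comp, one_comp, mul_sub, mul_pow, mul_one,
          ← IsScalarTower.algebraMap_apply, hc]
        rw [← C_pow (a := a⁻¹), ← mul_assoc, ← C_mul, inv_pow,
          mul_inv_cancel₀ (pow_ne_zero e ha0), C_1, one_mul]
      rw [h4]
      exact (Polynomial.Splits.C _).mul h3
    have hFne : F.map (algebraMap L' L) ≠ 0 :=
      (Polynomial.map_ne_zero (monic_X_pow_sub_C _ he0.ne').ne_zero)
    have hgs : (g.map (algebraMap L' L)).Splits :=
      hFs.of_dvd hFne (Polynomial.map_dvd _ hgF)
    have hgm : (g.map (algebraMap L' L)).Monic := (minpoly.monic (hint L' a)).map _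
    have hcoeff := hgs.coeff_zero_eq_prod_roots_of_monic hgm
    have hcard : (g.map (algebraMap L' L)).roots.card = d := by
      rw [← hgs.natDegree_eq_card_roots, natDegree_map]
    have key : ∀ s : Multiset L, (∀ b ∈ s, ∃ k : K, b = algebraMap K L k * a) →
        ∃ k : K, s.prod = algebraMap K L k * a ^ s.card := by
      intro s hs
      induction s using Multiset.induction with
      | empty => exact ⟨1, by simp⟩
      | cons b s ih =>
        obtain ⟨k, hk⟩ := hs b (Multiset.mem_cons_self b s)
        obtain ⟨k', hk'⟩ := ih fun x hx => hs x (Multiset.mem_cons_of_mem hx)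
        exact ⟨k * k', by rw [Multiset.prod_cons, hk', hk, Multiset.card_cons, map_mul, pow_succ]; ring⟩
    obtain ⟨k, hk⟩ := key _ (fun b hb => hroot b ((Polynomial.mem_roots hFne).mp
      (Multiset.mem_of_le (Polynomial.roots.le_of_dvd hFne (Polynomial.map_dvd _ hgF)) hb)))
    rw [hk, hcard, natDegree_map, coeff_map] at hcoeff
    have hne : g.coeff 0 ≠ 0 := minpoly.coeff_zero_ne_zero (hint L' a) ha0
    have hk0 : algebraMap K L k ≠ 0 := by
      intro h0
      rw [h0, zero_mul, mul_zero] at hcoeff
      exact hne ((algebraMap L' L).injective (by rw [hcoeff, map_zero]))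
    have h5 : a ^ d = ((-1 : L) ^ d * algebraMap L' L (g.coeff 0)) * (algebraMap K L k)⁻¹ := by
      rw [hcoeff, ← mul_assoc, ← mul_pow, neg_one_mul, neg_neg, one_pow, one_mul]
      field_simp
    rw [h5]
    exact mul_mem (mul_mem (pow_mem (neg_mem (one_mem _)) _) (g.coeff 0).2)
      (inv_mem (L'.algebraMap_mem k))
  have hle : K⟮a ^ d⟯ ≤ L' := adjoin_simple_le_iff.mpr hmem
  refine (IntermediateField.eq_of_le_of_finrank_le' hle ?_).symm
  rw [hdL, hdeg]
  have hd0 : 0 < d := minpoly.natDegree_pos (hint L' a)
  refine le_of_le_of_eq (Polynomial.natDegree_le_of_dvd (minpoly.dvd _ _ ?_)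
    (monic_X_pow_sub_C (⟨a ^ d, IntermediateField.mem_adjoin_simple_self K (a ^ d)⟩ : K⟮a ^ d⟯) hd0.ne').ne_zero)
    natDegree_X_pow_sub_C
  simp

end Groth.Agent.S6336
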