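import Groth.Statements.S6337
import Groth.Agent.MLMod.Basic

set_option autoImplicit false
universe u
open CAlg Groth.Agent TensorProduct

namespace Groth.Agent.S6337

/-- A direct sum of modules is Mittag-Leffler if and only if each summand is Mittag-Leffler. -/
theorem result (R : Type u) [CommRing R] {ι : Type u} (M : ι → Type u)
    [∀ i, AddCommGroup (M i)] [∀ i, Module R (M i)] :
    CAlg.IsMittagLeffler R (DirectSum ι M) ↔ ∀ i, CAlg.IsMittagLeffler R (M i) := by
  classical
  refine ⟨fun h i => MLMod.isML_of_retract (DirectSum.lof R ι M i) (DirectSum.component R ι M i)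
    (LinearMap.ext fun m => DirectSum.component.lof_self (R := R) i m) h, fun h => ?_⟩
  intro κ Q _ _
  rw [injective_iff_map_eq_zero]
  intro x hx
  apply (TensorProduct.directSumLeft R R M (∀ k, Q k)).injective
  rw [map_zero]
  refine DirectSum.ext_component R fun i => ?_
  rw [map_zero]
  have key : ∀ z : DirectSum ι M ⊗[R] (∀ k, Q k),
      DirectSum.component R ι (fun i => M i ⊗[R] (∀ k, Q k)) i (TensorProduct.directSumLeft R R M _ z) =
        (DirectSum.component R ι M i).rTensor _ z := by
    intro z
    induction z with
    | zero => simp
    | tmul m q =>
      induction m using DirectSum.induction_on with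
      | zero => simp
      | of j m =>
        rw [← DirectSum.lof_eq_of R, TensorProduct.directSumLeft_tmul_lof, LinearMap.rTensor_tmul,
          DirectSum.component.of, DirectSum.component.of]
        split
        · rename_i e; subst e; rfl
        · simp
      | add a b ha hb => simp only [TensorProduct.add_tmul, map_add, ha, hb]
    | add a b ha hb => simp only [map_add, ha, hb]
  rw [key]
  exact h i κ Q (funext fun k => by rw [MLMod.natural, hx, map_zero]; simp)

end Groth.Agent.S6337
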