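import Groth.Statements.S6341
import Groth.Agent.MLMod.Colim

set_option autoImplicit false
universe u
open CAlg Groth.Agent

namespace Groth.Agent.S6341

/-- The colimit of a directed system of Mittag-Leffler modules with universally injective transition
maps is Mittag-Leffler. -/
theorem result (R : Type u) [CommRing R] {ι : Type u}
    [Preorder ι] [IsDirected ι (· ≤ ·)] [DecidableEq ι] (G : ι → Type u) [∀ i, AddCommGroup (G i)]
    [∀ i, Module R (G i)] (f : ∀ i j, i ≤ j → G i →ₗ[R] G j) [DirectedSystem G fun i j h => f i j h]
    (hf : ∀ i j (h : i ≤ j), CAlgX.UniversallyInjective R (f i j h))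
    (hG : ∀ i, CAlg.IsMittagLeffler R (G i)) :
    CAlg.IsMittagLeffler R (Module.DirectLimit G f) := by
  rcases isEmpty_or_nonempty ι with hι | hι
  · intro κ Q _ _
    rw [injective_iff_map_eq_zero]
    intro x hx0
    clear hx0
    induction x with
    | zero => rfl
    | tmul m q => rw [Subsingleton.elim m 0, TensorProduct.zero_tmul]
    | add a b ha hb => rw [ha, hb, add_zero]
  intro κ Q _ _
  rw [injective_iff_map_eq_zero]
  intro x hx
  obtain ⟨i, y, hy⟩ := MLMod.exists_rTensor_of f x
  have hy0 : y = 0 := hG i κ Q (funext fun k => by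
    rw [map_zero, Pi.zero_apply]
    refine MLMod.universallyInjective_of f hf i (Q k) ?_
    rw [← MLMod.natural, hy, hx, map_zero, Pi.zero_apply])
  rw [← hy, hy0, map_zero]

end Groth.Agent.S6341
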