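import Groth.Statements.S6345
import Groth.Agent.MLMod.Ops

set_option autoImplicit false
universe u
open CAlg Groth.Agent TensorProduct

namespace Groth.Agent.S6345

/-- Let I be a finitely generated ideal of a commutative ring R and M an R/I-module. Then M is
Mittag-Leffler over R if and only if it is Mittag-Leffler over R/I. -/
theorem result (R : Type u) [CommRing R] (I : Ideal R) (hI : I.FG)
    (M : Type u) [AddCommGroup M] [Module (R ⧸ I) M] [Module R M] [IsScalarTower R (R ⧸ I) M] :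
    CAlg.IsMittagLeffler R M ↔ CAlg.IsMittagLeffler (R ⧸ I) M := by
  haveI : Algebra.FinitePresentation R (R ⧸ I) := Algebra.FinitePresentation.quotient hI
  haveI : Module.FinitePresentation R (R ⧸ I) := Module.FinitePresentation.of_finite_of_finitePresentation R (R ⧸ I)
  refine ⟨fun h ι Q _ _ => ?_, fun h => MLMod.isML_restrictScalars_of_finitePresentation h⟩
  letI : ∀ i, Module R (Q i) := fun i => Module.compHom _ (algebraMap R (R ⧸ I))
  haveI : ∀ i, IsScalarTower R (R ⧸ I) (Q i) := fun i => IsScalarTower.of_algebraMap_smul fun _ _ => rfl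
  haveI hc : ∀ (Z : Type u) [AddCommGroup Z] [Module R Z] [Module (R ⧸ I) Z] [IsScalarTower R (R ⧸ I) Z],
      TensorProduct.CompatibleSMul R (R ⧸ I) M Z := fun Z _ _ _ _ => ⟨fun r m z => by
    obtain ⟨r, rfl⟩ := Ideal.Quotient.mk_surjective r
    rw [← Ideal.Quotient.algebraMap_eq, algebraMap_smul, algebraMap_smul, TensorProduct.smul_tmul]⟩
  let θ : ∀ (Z : Type u) [AddCommGroup Z] [Module R Z] [Module (R ⧸ I) Z] [IsScalarTower R (R ⧸ I) Z],
      M ⊗[R] Z →ₗ[R] M ⊗[R ⧸ I] Z := fun Z _ _ _ _ => TensorProduct.mapOfCompatibleSMul (R ⧸ I) R R M Z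
  let θ' : ∀ (Z : Type u) [AddCommGroup Z] [Module R Z] [Module (R ⧸ I) Z] [IsScalarTower R (R ⧸ I) Z],
      M ⊗[R ⧸ I] Z →ₗ[R] M ⊗[R] Z := fun Z _ _ _ _ => TensorProduct.mapOfCompatibleSMul R (R ⧸ I) R M Z
  have e : ∀ (Z : Type u) [AddCommGroup Z] [Module R Z] [Module (R ⧸ I) Z] [IsScalarTower R (R ⧸ I) Z]
      (x : M ⊗[R ⧸ I] Z), θ Z (θ' Z x) = x := fun Z _ _ _ _ x => by
    induction x with
    | zero => simp
    | tmul m z => rfl
    | add a b ha hb => rw [map_add, map_add, ha, hb]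
  rw [injective_iff_map_eq_zero]
  intro x hx
  rw [← e _ x]
  suffices θ' (∀ i, Q i) x = 0 by rw [this, map_zero]
  refine (h ι Q (funext fun i => ?_)).trans rfl
  rw [map_zero, Pi.zero_apply]
  have nat : ∀ x, TensorProduct.piRightHom R R M Q (θ' _ x) i =
      θ' (Q i) (TensorProduct.piRightHom (R ⧸ I) (R ⧸ I) M Q x i) := fun x => by
    induction x with
    | zero => simp
    | tmul m z => rfl
    | add a b ha hb => simp only [map_add, Pi.add_apply, ha, hb]
  rw [nat, hx, Pi.zero_apply, map_zero]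

end Groth.Agent.S6345
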