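import Groth.Statements.S6351
import Mathlib.LinearAlgebra.TensorProduct.RightExactness
import Mathlib.LinearAlgebra.TensorProduct.Quotient
import Mathlib.LinearAlgebra.DirectSum.Finsupp
import Mathlib.RingTheory.Nakayama

set_option autoImplicit false
universe u
open scoped TensorProduct
open CAlg

namespace Groth.Agent.S6351

/-- Let I be a nilpotent ideal of a commutative ring R and M an R-module with Tor_1^R(R/I, M) = 0, i.e.
I ⊗_R M → M injective. If a family of elements of M maps to a basis of the R/I-module M/IM = R/I ⊗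
M, then it is a basis of M over R. -/
theorem result (R : Type u) [CommRing R] (I : Ideal R)
    (hI : IsNilpotent I) (M : Type u) [AddCommGroup M] [Module R M]
    (htor : Function.Injective ((Submodule.subtype I).rTensor M)) {A : Type u} (x : A → M)
    (hli : LinearIndependent (R ⧸ I) (fun a => (1 : R ⧸ I) ⊗ₜ[R] x a))
    (hsp : Submodule.span (R ⧸ I) (Set.range fun a => (1 : R ⧸ I) ⊗ₜ[R] x a) = ⊤) :
    LinearIndependent R x ∧ Submodule.span R (Set.range x) = ⊤ := by
  obtain ⟨n, hn⟩ := hI
  have smul_ind : ∀ (N : Type u) [AddCommGroup N] [Module R N] (K : Submodule R N) (L : Submodule R N),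
      K ≤ L ⊔ I • K → K ≤ L := by
    intro N _ _ K L h
    have step : ∀ k : ℕ, K ≤ L ⊔ I ^ k • K := by
      intro k
      induction k with
      | zero => simp
      | succ k ih =>
        refine ih.trans (sup_le le_sup_left ?_)
        refine (smul_mono_right (I ^ k) h).trans ?_
        rw [Submodule.smul_sup, pow_succ, mul_smul]
        exact sup_le (le_sup_of_le_left Submodule.smul_le_right) le_sup_right
    have h2 := step n
    rwa [hn, Ideal.zero_eq_bot, Submodule.bot_smul, sup_bot_eq] at h2
  let e := TensorProduct.quotTensorEquivQuotSMul M I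
  have he : ∀ m : M, e ((1 : R ⧸ I) ⊗ₜ[R] m) = Submodule.Quotient.mk m := fun m => TensorProduct.quotTensorEquivQuotSMul_mk_one_tmul I m
  have htopM : Submodule.span R (Set.range x) = ⊤ := by
    apply eq_top_iff.2
    refine smul_ind M ⊤ _ ?_
    intro m _
    have hm : (1 : R ⧸ I) ⊗ₜ[R] m ∈
        Submodule.span R (Set.range fun a => (1 : R ⧸ I) ⊗ₜ[R] x a) := by
      rw [← Submodule.restrictScalars_span R (R ⧸ I) Ideal.Quotient.mk_surjective,
        hsp]
      trivial
    have hm' := Submodule.mem_map_of_mem (f := e.toLinearMap) hm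
    rw [Submodule.map_span, ← Set.range_comp] at hm'
    have hrange : (e.toLinearMap ∘ fun a => (1 : R ⧸ I) ⊗ₜ[R] x a) =
        Submodule.mkQ (I • (⊤ : Submodule R M)) ∘ x := funext fun a => he _
    rw [hrange, Set.range_comp, ← Submodule.map_span] at hm'
    have : Submodule.mkQ (I • (⊤ : Submodule R M)) m ∈
        (Submodule.span R (Set.range x)).map (Submodule.mkQ (I • (⊤ : Submodule R M))) := by
      simpa [he] using hm'
    obtain ⟨y, hy, hxy⟩ := this
    have hd : m - y ∈ I • (⊤ : Submodule R M) := (Submodule.Quotient.eq _).1 hxy.symm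
    exact Submodule.mem_sup.2 ⟨y, hy, m - y, hd, by abel⟩
  refine ⟨?_, htopM⟩
  let φ : (A →₀ R) →ₗ[R] M := Finsupp.linearCombination R x
  have hφ : Function.Surjective φ := by
    rw [← LinearMap.range_eq_top, Finsupp.range_linearCombination, htopM]
  let K := LinearMap.ker φ
  have hKI : K ≤ ⊥ ⊔ I • K := by
    rw [bot_sup_eq]
    intro k hk
    have hk' : φ k = 0 := hk
    have hcoef : ∀ a, k a ∈ I := by
      intro a
      rw [← Ideal.Quotient.eq_zero_iff_mem]
      have h0 : ∑ a ∈ k.support, Ideal.Quotient.mk I (k a) • ((1 : R ⧸ I) ⊗ₜ[R] x a) = 0 := by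
        have : (1 : R ⧸ I) ⊗ₜ[R] φ k = 0 := by rw [hk', TensorProduct.tmul_zero]
        rw [Finsupp.linearCombination_apply, Finsupp.sum, TensorProduct.tmul_sum] at this
        refine (Finset.sum_congr rfl fun b _ => ?_).trans this
        rw [← Ideal.Quotient.algebraMap_eq, algebraMap_smul, TensorProduct.tmul_smul]
      by_cases ha : a ∈ k.support
      · exact linearIndependent_iff'.1 hli k.support _ h0 a ha
      · rw [Finsupp.notMem_support_iff.1 ha, map_zero]
    let z : I ⊗[R] (A →₀ R) := ∑ a ∈ k.support, (⟨k a, hcoef a⟩ : I) ⊗ₜ[R] Finsupp.single a (1 : R)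
    have hz : φ.lTensor I z = 0 := by
      apply htor
      rw [map_zero]
      apply (TensorProduct.lid R M).injective
      rw [map_zero, ← hk']
      simp only [z, map_sum, LinearMap.lTensor_tmul, LinearMap.rTensor_tmul, TensorProduct.lid_tmul]
      rw [Finsupp.linearCombination_apply, Finsupp.sum]
      exact Finset.sum_congr rfl fun a _ => by simp [φ]
    have hex : Function.Exact (LinearMap.ker φ).subtype φ := LinearMap.exact_subtype_ker_map φ
    have hex' := @lTensor_exact R (LinearMap.ker φ) (A →₀ R) M _ _ _ _ _ _ _ (Submodule.subtype _) φ I _ _ hex hφ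
    obtain ⟨w, hw⟩ := (hex' z).1 hz
    have hres : ∀ w : I ⊗[R] K,
        (TensorProduct.lid R (A →₀ R) ((Submodule.subtype I).rTensor _
          ((LinearMap.ker φ).subtype.lTensor I w))) ∈ I • K := by
      intro w
      induction w with
      | zero => simp
      | add a b ha hb => rw [map_add, map_add, map_add]; exact add_mem ha hb
      | tmul i y => simpa using! Submodule.smul_mem_smul i.2 y.2
    have := hres w
    rw [hw] at this
    convert this using 1
    simp only [z, map_sum, LinearMap.rTensor_tmul, TensorProduct.lid_tmul]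
    conv_lhs => rw [← Finsupp.sum_single k]
    rw [Finsupp.sum]
    exact Finset.sum_congr rfl fun a _ => by simp
  have hK : K = ⊥ := le_bot_iff.1 (smul_ind _ K ⊥ hKI)
  exact LinearMap.ker_eq_bot.1 hK

end Groth.Agent.S6351
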