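import Groth.Statements.S6353
import Groth.Agent.FlatModB.PureAlg
import Mathlib.Tactic.Abel

set_option autoImplicit false
universe u
open CAlg Groth.Agent

namespace Groth.Agent.S6353

open PrimeSpectrum in
/-- For a commutative ring R, I ↦ V(I) is a bijection between pure ideals (R/I flat over R) and closed
subsets of Spec R stable under generalization. Stated here as: V(I) is stable under generalization
for I pure, and every closed generalization-stable subset is V(I) for some pure I (injectivity on
pure ideals being the standard fact that pure ideals with the same zero locus coincide). -/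
theorem result (R : Type u) [CommRing R] :
    (∀ I : Ideal R, I.Pure → StableUnderGeneralization (zeroLocus (I : Set R))) ∧
      ∀ Z : Set (PrimeSpectrum R), IsClosed Z → StableUnderGeneralization Z →
        ∃ I : Ideal R, I.Pure ∧ zeroLocus (I : Set R) = Z := by
  refine ⟨fun I hI => ?_, fun Z hc hg => ⟨FlatModB.pureIdeal Z, FlatModB.pure_pureIdeal hc hg, FlatModB.zeroLocus_pureIdeal hc hg⟩⟩
  intro x y hxy hx
  rw [PrimeSpectrum.mem_zeroLocus] at hx ⊢
  intro a ha
  have hle : y.asIdeal ≤ x.asIdeal := (PrimeSpectrum.le_iff_specializes y x).mpr hxy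
  have h1 : (Ideal.span {a} ⊓ I) = Ideal.span {a} * I := by
    rw [inf_comm, mul_comm]; exact Ideal.inf_eq_mul_of_pure I (Ideal.span {a})
  have : a ∈ Ideal.span {a} * I := h1 ▸ ⟨Ideal.mem_span_singleton_self a, ha⟩
  obtain ⟨b, hb, hab⟩ := Ideal.mem_span_singleton_mul.mp this
  have h2 : (1 - b) * a = 0 := by rw [sub_mul, one_mul, mul_comm b, hab, sub_self]
  refine (y.2.mem_or_mem (h2 ▸ zero_mem _ : (1 - b) * a ∈ y.asIdeal)).resolve_left fun h => ?_
  exact x.2.ne_top ((Ideal.eq_top_iff_one _).mpr (by simpa using x.asIdeal.add_mem (hle h) (hx hb)))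

end Groth.Agent.S6353
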