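import Groth.Statements.S6354
import Mathlib.RingTheory.Ideal.Pure
import Mathlib.RingTheory.Spectrum.Prime.Topology
import Mathlib.RingTheory.Idempotents
import Mathlib.Algebra.Module.Projective

set_option autoImplicit false
universe u
open CAlg

namespace Groth.Agent.S6354

open PrimeSpectrum in
/-- For an ideal I of a commutative ring R these four conditions are equivalent: (1) I is finitely
generated and pure; (2) I = (e) for some idempotent e; (3) I is pure with V(I) open in Spec R; (4)
R/I is projective as an R-module. -/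
theorem result (R : Type u) [CommRing R] (I : Ideal R) :
    List.TFAE [I.Pure ∧ I.FG, ∃ e : R, IsIdempotentElem e ∧ I = Ideal.span {e},
      I.Pure ∧ IsOpen (zeroLocus (I : Set R)), Module.Projective R (R ⧸ I)] := by
  tfae_have 1 → 2 := by
    rintro ⟨hp, hfg⟩
    have := hp
    obtain ⟨e, he, rfl⟩ := (Ideal.isIdempotentElem_iff_of_fg _ hfg).1 I.isIdempotentElem_of_pure
    exact ⟨e, he, rfl⟩
  tfae_have 2 → 1 := by
    rintro ⟨e, he, rfl⟩
    exact ⟨Ideal.Pure.of_isIdempotentElem (Submodule.fg_span_singleton e)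
      ((Ideal.isIdempotentElem_iff_of_fg _ (Submodule.fg_span_singleton e)).2 ⟨e, he, rfl⟩), Submodule.fg_span_singleton e⟩
  tfae_have 2 → 3 := by
    intro h
    obtain ⟨hp, -⟩ := tfae_2_to_1 h
    obtain ⟨e, he, rfl⟩ := h
    refine ⟨hp, ?_⟩
    rw [zeroLocus_span, zeroLocus_eq_basicOpen_of_isIdempotentElem _ he]
    exact (basicOpen _).isOpen
  tfae_have 3 → 2 := by
    rintro ⟨hp, ho⟩
    obtain ⟨e, he, hz⟩ := isClopen_iff_zeroLocus.1 ⟨isClosed_zeroLocus _, ho⟩
    have : (Ideal.span {e}).Pure := Ideal.Pure.of_isIdempotentElem (Submodule.fg_span_singleton e)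
      ((Ideal.isIdempotentElem_iff_of_fg _ (Submodule.fg_span_singleton e)).2 ⟨e, he, rfl⟩)
    have := hp
    exact ⟨e, he, Ideal.zeroLocus_inj_of_pure.1 (by rw [hz, zeroLocus_span])⟩
  tfae_have 4 → 2 := by
    intro h
    obtain ⟨s, hs⟩ := Module.projective_lifting_property (Submodule.mkQ I) LinearMap.id (Submodule.mkQ_surjective I)
    have hker : ∀ x ∈ I, x * s (Submodule.mkQ I 1) = 0 := by
      intro x hx
      rw [← smul_eq_mul, ← map_smul, ← map_smul, smul_eq_mul, mul_one, Submodule.mkQ_apply, (Submodule.Quotient.mk_eq_zero I).2 hx, map_zero]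
    have he : 1 - s (Submodule.mkQ I 1) ∈ I := by
      rw [← Submodule.Quotient.mk_eq_zero, Submodule.Quotient.mk_sub, sub_eq_zero]
      exact (LinearMap.congr_fun hs (Submodule.mkQ I 1)).symm
    refine ⟨_, ?_, le_antisymm (fun x hx => Ideal.mem_span_singleton'.2 ⟨x, ?_⟩) ((Ideal.span_singleton_le_iff_mem _).2 he)⟩
    · show _ * _ = _
      rw [mul_sub, mul_one, hker _ he, sub_zero]
    · rw [mul_sub, mul_one, hker _ hx, sub_zero]
  tfae_have 2 → 4 := by
    rintro ⟨e, he, rfl⟩
    let l : (R ⧸ Ideal.span {e}) →ₗ[R] R := Submodule.liftQ _ (LinearMap.mulLeft R (1 - e)) (by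
      rw [Ideal.span, Submodule.span_le, Set.singleton_subset_iff]
      exact he.one_sub_mul_self)
    refine Module.Projective.of_split l (Submodule.mkQ (Ideal.span {e})) ?_
    refine Submodule.linearMap_qext _ (LinearMap.ext_ring ?_)
    show Submodule.Quotient.mk ((1 - e) * 1) = Submodule.Quotient.mk 1
    rw [Submodule.Quotient.eq]
    simpa using Ideal.mem_span_singleton_self e
  tfae_finish

end Groth.Agent.S6354
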