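import Groth.Statements.S6356
import Groth.Agent.MLMod.Basic

set_option autoImplicit false
universe u
open scoped TensorProduct
open CAlg Groth.Agent

namespace Groth.Agent.S6356

/-- An R-module M is Mittag-Leffler if and only if for every finitely presented module P and every
linear map f : P → M there exist a finitely presented module Q and a linear map g : P → Q such that
f and g dominate each other, i.e. for every module N the maps f ⊗ id_N and g ⊗ id_N have the same
kernel. -/
theorem result (R : Type u) [CommRing R] (M : Type u)
    [AddCommGroup M] [Module R M] :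
    CAlg.IsMittagLeffler R M ↔
      ∀ (P : Type u) [AddCommGroup P] [Module R P] [Module.FinitePresentation R P] (f : P →ₗ[R] M),
        ∃ (Q : Type u) (_ : AddCommGroup Q) (_ : Module R Q) (_ : Module.FinitePresentation R Q) (g : P →ₗ[R] Q),
          ∀ (N : Type u) [AddCommGroup N] [Module R N],
            LinearMap.ker (f.rTensor N) = LinearMap.ker (g.rTensor N) := by
  refine ⟨fun hM P _ _ _ f => ?_, fun h => MLMod.isML_iff_dominated.2 fun n f => h (Fin n → R) f⟩
  obtain ⟨n, v, hv⟩ := Module.Finite.exists_fin (R := R) (M := P)
  let p := Fintype.linearCombination R v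
  have hp : Function.Surjective p := by
    rw [← LinearMap.range_eq_top, Fintype.range_linearCombination, hv]
  obtain ⟨Q, i1, i2, i3, g, c, hfc, hd⟩ := MLMod.exists_dominated hM (f.comp p)
  have hker : LinearMap.ker p ≤ LinearMap.ker g := by
    intro z hz
    have h1 : (f.comp p).rTensor R (z ⊗ₜ 1) = 0 := by
      rw [LinearMap.rTensor_tmul, LinearMap.comp_apply, LinearMap.mem_ker.1 hz, map_zero, TensorProduct.zero_tmul]
    have h2 := congrArg (TensorProduct.rid R Q) (hd R _ h1)
    rw [LinearMap.rTensor_tmul, TensorProduct.rid_tmul, one_smul, map_zero] at h2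
    exact h2
  let g' : P →ₗ[R] Q := (LinearMap.ker p).liftQ g hker ∘ₗ (p.quotKerEquivOfSurjective hp).symm.toLinearMap
  have hg' : g'.comp p = g := by
    apply LinearMap.ext; intro z
    simp only [g', LinearMap.comp_apply, LinearEquiv.coe_coe]
    rw [show (p.quotKerEquivOfSurjective hp).symm (p z) = Submodule.Quotient.mk z from
      (LinearEquiv.symm_apply_eq _).2 (by rfl)]
    rfl
  refine ⟨Q, i1, i2, i3, g', fun N _ _ => ?_⟩
  have hk := MLMod.ker_eq_of_dominated hfc hd N
  ext x
  obtain ⟨y, rfl⟩ := LinearMap.rTensor_surjective N hp x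
  rw [LinearMap.mem_ker, LinearMap.mem_ker, ← LinearMap.rTensor_comp_apply, ← LinearMap.rTensor_comp_apply,
    hg', ← LinearMap.mem_ker, hk, LinearMap.mem_ker]

end Groth.Agent.S6356
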