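import Groth.Statements.S6357
import Groth.Agent.MLMod.Flat

set_option autoImplicit false
universe u
open CAlg Groth.Agent TensorProduct

namespace Groth.Agent.S6357

/-- Given finitely presented R-modules G_i forming a directed system over a nonempty directed index set,
with transition maps f_ij and colimit M, the module M is Mittag-Leffler exactly when every index i
admits some j ≥ i for which f_ij factors through f_ik whenever k ≥ i. -/
theorem result (R : Type u) [CommRing R] {ι : Type u}
    [Preorder ι] [IsDirected ι (· ≤ ·)] [Nonempty ι] [DecidableEq ι] (G : ι → Type u)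
    [∀ i, AddCommGroup (G i)] [∀ i, Module R (G i)] [∀ i, Module.FinitePresentation R (G i)]
    (f : ∀ i j, i ≤ j → G i →ₗ[R] G j) [DirectedSystem G fun i j h => f i j h] :
    CAlg.IsMittagLeffler R (Module.DirectLimit G f) ↔
      ∀ i, ∃ (j : ι) (hij : i ≤ j), ∀ (k : ι) (hik : i ≤ k),
        ∃ h : G k →ₗ[R] G j, f i j hij = h ∘ₗ f i k hik := by
  classical
  constructor
  · intro hM i
    obtain ⟨⟨j, hij⟩, hdom⟩ := MLMod.exists_dominating hM (Module.DirectLimit.of R ι G f i)
      (J := {j // i ≤ j}) (fun j => f i j.1 j.2) fun Z _ _ x hx => by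
        obtain ⟨j, hij, hj⟩ := MLMod.exists_of_rTensor_eq_zero f x hx
        exact ⟨⟨j, hij⟩, hj⟩
    refine ⟨j, hij, fun k hik => ?_⟩
    haveI : Module.FinitePresentation R (G k ⧸ LinearMap.range (f i k hik)) :=
      Module.finitePresentation_of_surjective (LinearMap.range (f i k hik)).mkQ
        (Submodule.mkQ_surjective _) (by
          rw [Submodule.ker_mkQ, LinearMap.range_eq_map]
          exact (Module.finite_def.mp inferInstance).map _)
    refine MLMod.exists_factor (f i k hik) (f i j hij) fun Z _ _ x hx => hdom Z x ?_
    rw [show Module.DirectLimit.of R ι G f i = (Module.DirectLimit.of R ι G f k).comp (f i k hik) from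
      LinearMap.ext fun z => Module.DirectLimit.of_f.symm, LinearMap.rTensor_comp_apply, hx, map_zero]
  · intro h
    refine MLMod.isML_of_dominated fun n g => ?_
    choose v y hy using fun t : Fin n => Module.DirectLimit.exists_of (g (Pi.single t 1))
    obtain ⟨i, hi⟩ := Finite.exists_le v
    let g' : (Fin n → R) →ₗ[R] G i := Fintype.linearCombination R fun t => f (v t) i (hi t) (y t)
    have hg : g = (Module.DirectLimit.of R ι G f i).comp g' := by
      apply LinearMap.pi_ext'
      intro t
      apply LinearMap.ext_ring
      simp [g', Fintype.linearCombination_apply_single, Module.DirectLimit.of_f, hy]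
    obtain ⟨j, hij, hfac⟩ := h i
    have hoj : Module.DirectLimit.of R ι G f i = (Module.DirectLimit.of R ι G f j).comp (f i j hij) :=
      LinearMap.ext fun z => Module.DirectLimit.of_f.symm
    refine ⟨G j, inferInstance, inferInstance, (f i j hij).comp g', MLMod.isML_of_finitePresentation,
      fun Z _ _ => MLMod.ker_eq_of_dominated (c := Module.DirectLimit.of R ι G f j) ?_ (fun Z _ _ x hx => ?_) Z⟩
    · rw [hg, hoj, LinearMap.comp_assoc]
    · rw [hg, LinearMap.rTensor_comp_apply] at hx
      obtain ⟨k, hik, hk⟩ := MLMod.exists_of_rTensor_eq_zero f _ hx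
      obtain ⟨l, hl⟩ := hfac k hik
      rw [LinearMap.rTensor_comp_apply, hl, LinearMap.rTensor_comp_apply, hk, map_zero]

end Groth.Agent.S6357
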