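import Groth.Statements.S6360
import Mathlib.LinearAlgebra.TensorProduct.RightExactness
import Mathlib.LinearAlgebra.TensorProduct.Finiteness
import Mathlib.Algebra.Module.FinitePresentation
import Mathlib.LinearAlgebra.Finsupp.LinearCombination

set_option autoImplicit false
universe u
open CAlg
open scoped TensorProduct

namespace Groth.Agent.S6360

/-- For maps of R-modules f : M → N and g : M → M', g dominates f (the kernel of f ⊗ id_Q is contained
in that of g ⊗ id_Q for every module Q) if and only if this containment holds for every finitely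
presented module Q. -/
theorem result (R : Type u) [CommRing R] {M N M' : Type u}
    [AddCommGroup M] [Module R M] [AddCommGroup N] [Module R N] [AddCommGroup M'] [Module R M']
    (f : M →ₗ[R] N) (g : M →ₗ[R] M') :
    (∀ (Q : Type u) [AddCommGroup Q] [Module R Q], LinearMap.ker (f.rTensor Q) ≤ LinearMap.ker (g.rTensor Q)) ↔
      ∀ (Q : Type u) [AddCommGroup Q] [Module R Q], Module.FinitePresentation R Q →
        LinearMap.ker (f.rTensor Q) ≤ LinearMap.ker (g.rTensor Q) := by
  classical
  refine ⟨fun h Q _ _ _ => h Q, fun h Q _ _ x hx => ?_⟩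
  let π : (Q →₀ R) →ₗ[R] Q := Finsupp.linearCombination R id
  have hπ : Function.Surjective π := Finsupp.linearCombination_id_surjective R Q
  let rest : ∀ T : Finset Q, (Q →₀ R) →ₗ[R] (T → R) := fun T => LinearMap.pi fun i => Finsupp.lapply (i : Q)
  let ext : ∀ T : Finset Q, (T → R) →ₗ[R] (Q →₀ R) := fun T => Fintype.linearCombination R fun i => Finsupp.single (i : Q) 1
  have hext : ∀ (T : Finset Q) (k : Q →₀ R), k.support ⊆ T → ext T (rest T k) = k := by
    intro T k hk
    simp only [ext, rest, Fintype.linearCombination_apply, LinearMap.pi_apply, Finsupp.lapply_apply,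
      Finsupp.smul_single, smul_eq_mul, mul_one]
    rw [Finset.sum_coe_sort T fun i => Finsupp.single i (k i), ← Finset.sum_subset hk fun i _ hi => by simp [Finsupp.notMem_support_iff.1 hi]]
    exact k.sum_single
  have hext' : ∀ z : M ⊗[R] (Q →₀ R), ∃ T₀ : Finset Q, ∀ T, T₀ ⊆ T → (ext T ∘ₗ rest T).lTensor M z = z := by
    intro z
    induction z with
    | zero => exact ⟨∅, fun T _ => map_zero _⟩
    | tmul m k => exact ⟨k.support, fun T hT => by rw [LinearMap.lTensor_tmul, LinearMap.comp_apply, hext T k hT]⟩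
    | add a b ha hb =>
      obtain ⟨Ta, hTa⟩ := ha
      obtain ⟨Tb, hTb⟩ := hb
      exact ⟨Ta ∪ Tb, fun T hT => by rw [map_add, hTa T (Finset.union_subset_left hT), hTb T (Finset.union_subset_right hT)]⟩
  obtain ⟨w, rfl⟩ := LinearMap.lTensor_surjective M hπ x
  have h0 : π.lTensor N (f.rTensor (Q →₀ R) w) = 0 := by
    rw [← LinearMap.comp_apply, LinearMap.lTensor_comp_rTensor, ← LinearMap.rTensor_comp_lTensor, LinearMap.comp_apply]
    exact hx
  obtain ⟨y, hy⟩ := (@lTensor_exact R (LinearMap.ker π) (Q →₀ R) Q _ _ _ _ _ _ _ (Submodule.subtype _) π N _ _ (LinearMap.exact_subtype_ker_map π) hπ _).1 h0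
  obtain ⟨S, rfl⟩ := TensorProduct.exists_finset y
  obtain ⟨T₀, hT₀⟩ := hext' w
  let T : Finset Q := T₀ ∪ S.sup fun q => (q.2 : Q →₀ R).support
  let K0 : Submodule R (T → R) := Submodule.span R (↑(S.image fun q => rest T (q.2 : Q →₀ R)) : Set (T → R))
  let Q' := (T → R) ⧸ K0
  have hfp : Module.FinitePresentation R Q' := Module.finitePresentation_of_surjective K0.mkQ K0.mkQ_surjective (by
    rw [Submodule.ker_mkQ]; exact Submodule.fg_span (Finset.finite_toSet _))
  let j : Q' →ₗ[R] Q := K0.liftQ (π ∘ₗ ext T) (by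
    rw [Submodule.span_le]
    intro v hv
    obtain ⟨q, hq, rfl⟩ := Finset.mem_image.1 hv
    rw [SetLike.mem_coe, LinearMap.mem_ker, LinearMap.comp_apply, hext T _ ((Finset.le_sup (f := fun q => (q.2 : Q →₀ R).support) hq).trans Finset.subset_union_right)]
    exact q.2.2)
  let θ : (Q →₀ R) →ₗ[R] Q' := K0.mkQ ∘ₗ rest T
  have hf0 : f.rTensor Q' (θ.lTensor M w) = 0 := by
    rw [← LinearMap.comp_apply, LinearMap.rTensor_comp_lTensor, ← LinearMap.lTensor_comp_rTensor, LinearMap.comp_apply, ← hy, map_sum, map_sum]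
    refine Finset.sum_eq_zero fun q hq => ?_
    rw [LinearMap.lTensor_tmul, LinearMap.lTensor_tmul]
    show q.1 ⊗ₜ[R] (Submodule.Quotient.mk (rest T (q.2 : Q →₀ R)) : Q') = 0
    rw [(Submodule.Quotient.mk_eq_zero K0).2 (Submodule.subset_span (Finset.mem_coe.2 (Finset.mem_image.2 ⟨q, hq, rfl⟩))), TensorProduct.tmul_zero]
  have hg0 : g.rTensor Q' (θ.lTensor M w) = 0 := h Q' hfp hf0
  have hw : π.lTensor M w = j.lTensor M (θ.lTensor M w) := by
    conv_lhs => rw [← hT₀ T Finset.subset_union_left]
    rw [← LinearMap.comp_apply, ← LinearMap.lTensor_comp, ← LinearMap.comp_apply (j.lTensor M), ← LinearMap.lTensor_comp]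
    rfl
  show g.rTensor Q (π.lTensor M w) = 0
  rw [hw, ← LinearMap.comp_apply, LinearMap.rTensor_comp_lTensor, ← LinearMap.lTensor_comp_rTensor, LinearMap.comp_apply, hg0, map_zero]

end Groth.Agent.S6360
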