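import Groth.Statements.S6362
import Mathlib

set_option autoImplicit false
universe u
open scoped TensorProduct
open Fields

namespace Groth.Agent.S6362

/-- Let K/F be a finite separable extension and L/F an extension with L algebraically closed. Then the
L-algebra map K ⊗_F L → ∏_σ L, indexed by the F-algebra maps σ : K → L and sending a ⊗ b to (σ(a)
b)_σ, is an isomorphism; stated as bijectivity of that map. -/
theorem result {F K L : Type u} [Field F] [Field K] [Field L]
    [Algebra F K] [Algebra F L] [FiniteDimensional F K] [Algebra.IsSeparable F K] [IsAlgClosed L] :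
    Function.Bijective (fun x : K ⊗[F] L => fun σ : K →ₐ[F] L =>
      Algebra.TensorProduct.lift σ (AlgHom.id F L) (fun a b => Commute.all (σ a) b) x) := by
  classical
  have hcard : Fintype.card (K →ₐ[F] L) = Module.finrank F K := AlgHom.card F K L
  let b := Module.finBasis F K
  let e : Fin (Module.finrank F K) ≃ (K →ₐ[F] L) := Fintype.equivOfCardEq (by simp [hcard])
  set A := Algebra.embeddingsMatrixReindex F L b e with hA
  have hdet : A.det ≠ 0 := fun h => by
    have := Algebra.discr_eq_det_embeddingsMatrixReindex_pow_two F L b e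
    rw [← hA, h, zero_pow two_ne_zero] at this
    exact Algebra.discr_not_zero_of_basis F b ((map_eq_zero _).1 this)
  -- expansion in the basis `b`
  let B := Algebra.TensorProduct.basis L b
  let c : K ⊗[F] L ≃ₐ[F] L ⊗[F] K := Algebra.TensorProduct.comm F K L
  have hmap : ∀ x : K ⊗[F] L, ∀ j, Algebra.TensorProduct.lift (e j) (AlgHom.id F L)
      (fun a b => Commute.all ((e j) a) b) x = Matrix.vecMul (fun i => B.repr (c x) i) A j := by
    intro x j
    induction x with
    | zero => simp [Matrix.vecMul, dotProduct]
    | add x y hx hy => simp [Matrix.vecMul, dotProduct, map_add, add_mul, Finset.sum_add_distrib, hx, hy] at *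
    | tmul a l =>
      refine (Algebra.TensorProduct.lift_tmul _ _ _ a l).trans ?_
      rw [AlgHom.id_apply]
      conv_lhs => rw [← b.sum_repr a]
      simp [Matrix.vecMul, dotProduct, c, B, hA, Algebra.embeddingsMatrixReindex, Algebra.embeddingsMatrix,
        Algebra.smul_def, Finset.mul_sum, Finset.sum_mul, mul_comm, mul_left_comm, mul_assoc, map_sum]
  have hA' : IsUnit A := (Matrix.isUnit_iff_isUnit_det A).2 (isUnit_iff_ne_zero.2 hdet)
  constructor
  · intro x y h
    have h' : Matrix.vecMul (fun i => B.repr (c x) i) A = Matrix.vecMul (fun i => B.repr (c y) i) A :=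
      funext fun j => by rw [← hmap, ← hmap]; exact congrFun h (e j)
    exact c.injective (B.repr.injective (DFunLike.ext _ _ (congrFun (Matrix.vecMul_injective_of_isUnit hA' h'))))
  · intro v
    obtain ⟨w, hw⟩ := Matrix.vecMul_surjective_iff_isUnit.2 hA' (v ∘ e)
    refine ⟨c.symm (B.equivFun.symm w), funext fun σ => ?_⟩
    obtain ⟨j, rfl⟩ := e.surjective σ
    refine (hmap _ j).trans ?_
    rw [AlgEquiv.apply_symm_apply]
    exact (congrArg (fun u => Matrix.vecMul u A j) (B.equivFun.apply_symm_apply w)).trans (congrFun hw j)

end Groth.Agent.S6362
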