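import Groth.Statements.S6363
import Mathlib

set_option autoImplicit false
universe u
open scoped TensorProduct
open Fields

namespace Groth.Agent.S6363

/-- For a finite field extension L/K and a normal closure M of L/K, some K-algebra homomorphism from the
n-fold tensor power L ⊗_K ⋯ ⊗_K L to M is surjective, where n = [L : K]_s is the separable degree
(so n ≤ [L : K]). -/
theorem result {K L M : Type u} [Field K] [Field L] [Field M]
    [Algebra K L] [Algebra K M] [Algebra L M] [IsScalarTower K L M] [FiniteDimensional K L]
    [IsNormalClosure K L M] :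
    ∃ f : (⨂[K] _ : Fin (Field.finSepDegree K L), L) →ₐ[K] M, Function.Surjective f := by
  classical
  have hspl := IsNormalClosure.splits (F := K) (K := L) (L := M)
  have hcard : Field.finSepDegree K L = Nat.card (L →ₐ[K] M) :=
    Field.finSepDegree_eq_of_adjoin_splits K L M (IntermediateField.adjoin_univ K L)
      (fun s _ => ⟨Algebra.IsIntegral.isIntegral s, hspl s⟩)
  haveI : Finite (L →ₐ[K] M) := minpoly.AlgHom.fintype K L M |>.finite
  let σ : Fin (Field.finSepDegree K L) ≃ (L →ₐ[K] M) :=
    (finCongr hcard).trans (Finite.equivFin (L →ₐ[K] M)).symm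
  let m : MultilinearMap K (fun _ : Fin (Field.finSepDegree K L) => L) M :=
    (MultilinearMap.mkPiAlgebra K (Fin (Field.finSepDegree K L)) M).compLinearMap fun i => (σ i).toLinearMap
  have hm : ∀ x, m x = ∏ i, σ i (x i) := fun x => rfl
  let f : (⨂[K] _ : Fin (Field.finSepDegree K L), L) →ₐ[K] M :=
    PiTensorProduct.liftAlgHom m (by simp [hm]) (fun x y => by simp [hm, Finset.prod_mul_distrib])
  refine ⟨f, ?_⟩
  haveI : Normal K M := IsNormalClosure.normal (F := K) (K := L) (L := M)
  let F0 : IntermediateField K M := f.range.toIntermediateField' (Subalgebra.isField_of_algebraic _)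
  have htop : IntermediateField.normalClosure K L M ≤ F0 := by
    rw [normalClosure_def]
    refine iSup_le fun φ => ?_
    rintro _ ⟨x, rfl⟩
    refine ⟨PiTensorProduct.tprod K (Pi.mulSingle (σ.symm φ) x), ?_⟩
    show PiTensorProduct.liftAlgHom m _ _ _ = φ x
    rw [PiTensorProduct.liftAlgHom_apply, PiTensorProduct.lift.tprod, hm, Finset.prod_eq_single (σ.symm φ)]
    · simp
    · intro j _ hj; simp [Pi.mulSingle_eq_of_ne hj]
    · simp
  rw [← AlgHom.range_eq_top, eq_top_iff]
  intro y _
  exact htop (((Algebra.IsAlgebraic.isNormalClosure_iff (F := K) (K := L) (L := M)).1 inferInstance).2.symm ▸ IntermediateField.mem_top)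

end Groth.Agent.S6363
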