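import Groth.Statements.S6364
import Mathlib

set_option autoImplicit false
universe u
open Fields

namespace Groth.Agent.S6364

open IntermediateField in
/-- Let L/K be a finite extension and a ∈ L with minimal polynomial P over K. Then P ^ e, with e = [L :
K(a)], is the characteristic polynomial of multiplication by a (the K-linear map x ↦ a x on L), and
e · deg P = [L : K]. -/
theorem result {K L : Type u} [Field K] [Field L] [Algebra K L] [FiniteDimensional K L]
    (a : L) :
    (Algebra.lmul K L a).charpoly = minpoly K a ^ Module.finrank K⟮a⟯ L ∧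
      Module.finrank K⟮a⟯ L * (minpoly K a).natDegree = Module.finrank K L := by
  classical
  have hint : IsIntegral K a := Algebra.IsIntegral.isIntegral a
  refine ⟨?_, ?_⟩
  · let pb := IntermediateField.adjoin.powerBasis hint
    let c := Module.finBasis K⟮a⟯ L
    have h1 : (Algebra.leftMulMatrix (pb.basis.smulTower c)
        (algebraMap K⟮a⟯ L pb.gen)) = Matrix.blockDiagonal fun _ => Algebra.leftMulMatrix pb.basis pb.gen :=
      Algebra.smulTower_leftMulMatrix_algebraMap pb.basis c pb.gen
    have ha : algebraMap K⟮a⟯ L pb.gen = a := by simp [pb]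
    rw [ha] at h1
    rw [← LinearMap.charpoly_toMatrix (Algebra.lmul K L a) (pb.basis.smulTower c)]
    show (Algebra.leftMulMatrix (pb.basis.smulTower c) a).charpoly = _
    have hmin : minpoly K a = (Algebra.leftMulMatrix pb.basis pb.gen).charpoly := by
      rw [charpoly_leftMulMatrix pb]
      simp [pb, IntermediateField.minpoly_gen]
    rw [h1, hmin]
    have : ∀ A : Matrix (Fin pb.dim) (Fin pb.dim) K,
        (Matrix.blockDiagonal fun _ : Fin (Module.finrank K⟮a⟯ L) => A).charmatrix =
          Matrix.blockDiagonal fun _ => A.charmatrix := fun A => by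
      ext ⟨i, j⟩ ⟨i', j'⟩
      simp only [Matrix.charmatrix_apply, Matrix.blockDiagonal_apply, Matrix.diagonal_apply, Prod.mk.injEq]
      by_cases hj : j = j' <;> simp [hj]
    rw [Matrix.charpoly, this, Matrix.det_blockDiagonal, Finset.prod_const, Finset.card_univ, Fintype.card_fin]
    rfl
  · rw [← IntermediateField.adjoin.finrank hint, mul_comm, Module.finrank_mul_finrank]

end Groth.Agent.S6364
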