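import Groth.Statements.S6369
import Mathlib.RingTheory.DedekindDomain.Ideal.Basic

set_option autoImplicit false
universe u
open CAlg

namespace Groth.Agent.S6369

/-- (1) ⇒ (3): let R be a domain such that every nonzero ideal is a product of nonzero prime ideals,
uniquely up to permutation of the factors. Then R is Noetherian, integrally closed and of dimension
at most one, i.e. a Dedekind domain in the Noetherian sense. (The converse and the description by
discrete valuation rings at maximal ideals are the standard equivalences.) -/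
theorem result (R : Type u) [CommRing R] [IsDomain R]
    (h : ∀ I : Ideal R, I ≠ ⊥ → ∃! s : Multiset (Ideal R), (∀ p ∈ s, p.IsPrime ∧ p ≠ ⊥) ∧ s.prod = I) :
    IsDedekindDomain R := by
  classical
  choose f hf huniq using fun (I : {I : Ideal R // I ≠ ⊥}) => h I.1 I.2
  have fprod : ∀ I, (f I).prod = I.1 := fun I => (hf I).2
  have cancel : ∀ I J K : Ideal R, I ≠ ⊥ → J ≠ ⊥ → K ≠ ⊥ → I * J = I * K → J = K := by
    intro I J K hI hJ hK e
    have hIJ : I * J ≠ ⊥ := mul_ne_zero hI hJ
    have e1 : f ⟨I, hI⟩ + f ⟨J, hJ⟩ = f ⟨I * J, hIJ⟩ := huniq ⟨I * J, hIJ⟩ _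
      ⟨fun p hp => (Multiset.mem_add.1 hp).elim ((hf _).1 p) ((hf _).1 p),
        by rw [Multiset.prod_add, fprod, fprod]⟩
    have e2 : f ⟨I, hI⟩ + f ⟨K, hK⟩ = f ⟨I * J, hIJ⟩ := huniq ⟨I * J, hIJ⟩ _
      ⟨fun p hp => (Multiset.mem_add.1 hp).elim ((hf _).1 p) ((hf _).1 p),
        by rw [Multiset.prod_add, fprod, fprod]; exact e.symm⟩
    have e3 := add_left_cancel (e1.trans e2.symm)
    have h3 := congrArg Multiset.prod e3
    rwa [fprod, fprod] at h3
  -- an invertible nonzero prime is maximal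
  have step : ∀ Q : Ideal R, Q.IsPrime → Q ≠ ⊥ → (∃ K : Ideal R, ∃ a : R, a ≠ 0 ∧ Q * K = Ideal.span {a}) →
      ∀ b ∉ Q, Q + Ideal.span {b} = ⊤ := by
    rintro Q hQp hQ ⟨K, a, ha, hK⟩ b hb
    set B := Ideal.span {b} with hB
    set I := Q + B with hI
    have hI0 : I ≠ ⊥ := ne_bot_of_le_ne_bot hQ le_sup_left
    have hI2 : I * I = Q * Q + B * B := by
      refine cancel I _ _ hI0 (mul_ne_zero hI0 hI0) (ne_bot_of_le_ne_bot (mul_ne_zero hQ hQ) le_sup_left) ?_
      have h4 : I * (Q * B) ≤ I * (Q * Q + B * B) := by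
        have h5 : I * (Q * B) = B * (Q * Q) + Q * (B * B) := by rw [hI]; ring
        rw [h5]
        exact sup_le (Ideal.mul_mono le_sup_right le_sup_left) (Ideal.mul_mono le_sup_left le_sup_right)
      refine le_antisymm ?_ (Ideal.mul_mono le_rfl (sup_le (Ideal.mul_mono le_sup_left le_sup_left) (Ideal.mul_mono le_sup_right le_sup_right)))
      have h6 : I * (I * I) = I * (Q * Q + B * B) + (I * (Q * B) + I * (Q * B)) := by rw [hI]; ring
      rw [h6]
      exact sup_le le_rfl (sup_le h4 h4)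
    -- `Q * Q` is `Q`-primary
    have prim : ∀ y, b * y ∈ Q * Q → y ∈ Q * Q := by
      intro y hy
      have hyQ : y ∈ Q := ((hQp.mem_or_mem (Ideal.mul_le_left hy)).resolve_left hb)
      have hz : ∀ k ∈ K, ∃ z ∈ Q, y * k = a * z := by
        intro k hk
        obtain ⟨z, hz⟩ := Ideal.mem_span_singleton'.1 (hK ▸ Ideal.mul_mem_mul hyQ hk)
        refine ⟨z, ?_, by rw [← hz, mul_comm]⟩
        have h7 : b * y * k ∈ Q * Ideal.span {a} := by
          rw [← hK, ← mul_assoc]; exact Ideal.mul_mem_mul hy hk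
        obtain ⟨q, hq, hq'⟩ := Ideal.mem_mul_span_singleton.1 h7
        have h8 : b * z = q := mul_right_cancel₀ ha (by linear_combination b * hz - hq')
        exact (hQp.mem_or_mem (h8 ▸ hq : b * z ∈ Q)).resolve_left hb
      have h9 : Ideal.span {y} * K * Q ≤ Ideal.span {a} * (Q * Q) := by
        rw [← mul_assoc]
        refine Ideal.mul_mono (Ideal.span_singleton_mul_le_iff.2 fun k hk => ?_) le_rfl
        obtain ⟨z, hz, e⟩ := hz k hk
        exact e ▸ Ideal.mul_mem_mul (Ideal.mem_span_singleton_self a) hz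
      rw [mul_assoc, mul_comm K Q, hK, Ideal.span_singleton_mul_span_singleton] at h9
      obtain ⟨w, hw, e⟩ := Ideal.mem_span_singleton_mul.1 (h9 (Ideal.mem_span_singleton_self _))
      rwa [← mul_left_cancel₀ ha (e.trans (mul_comm y a))]
    have hQI : Q ≤ Q * I := by
      intro q hq
      have h10 : q * b ∈ Q * Q + B * B := hI2 ▸ Ideal.mul_mem_mul (Submodule.mem_sup_left hq) (Submodule.mem_sup_right (Ideal.mem_span_singleton_self b))
      rw [hB, Ideal.span_singleton_mul_span_singleton] at h10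
      obtain ⟨x, hx, w, hw, e⟩ := Submodule.mem_sup.1 h10
      obtain ⟨r, rfl⟩ := Ideal.mem_span_singleton'.1 hw
      have hr : r ∈ Q := by
        have h11 : r * (b * b) ∈ Q := by
          rw [show r * (b * b) = q * b - x by rw [← e]; ring]
          exact sub_mem (Q.mul_mem_right _ hq) (Ideal.mul_le_left hx)
        exact (hQp.mem_or_mem h11).resolve_right fun hbb => hb ((hQp.mem_or_mem hbb).elim id id)
      have h12 : q - r * b ∈ Q * Q := prim _ (by rw [show b * (q - r * b) = x by linear_combination -e]; exact hx)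
      have : q = (q - r * b) + r * b := by ring
      rw [this]
      exact add_mem (Ideal.mul_mono le_rfl le_sup_left h12)
        (Ideal.mul_mem_mul hr (Submodule.mem_sup_right (Ideal.mem_span_singleton_self b)))
    exact cancel Q I ⊤ hQ hI0 top_ne_bot (by rw [Ideal.mul_top]; exact le_antisymm Ideal.mul_le_left hQI)
  -- every nonzero prime is maximal and invertible
  have main : ∀ P : Ideal R, P.IsPrime → P ≠ ⊥ →
      P.IsMaximal ∧ ∃ K : Ideal R, ∃ a : R, a ≠ 0 ∧ P * K = Ideal.span {a} := by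
    intro P hP hP0
    obtain ⟨a, haP, ha⟩ := Submodule.exists_mem_ne_zero_of_ne_bot hP0
    have hspan : Ideal.span {a} ≠ (⊥ : Ideal R) := by simpa using ha
    set s := f ⟨_, hspan⟩ with hs
    have hle : s.prod ≤ P := by rw [fprod]; simpa [Ideal.span_le] using haP
    obtain ⟨Q, hQs, hQP⟩ := hP.multiset_prod_le.1 hle
    obtain ⟨hQp, hQ0⟩ := (hf ⟨_, hspan⟩).1 Q hQs
    have hQinv : ∃ K : Ideal R, ∃ a : R, a ≠ 0 ∧ Q * K = Ideal.span {a} :=
      ⟨(s.erase Q).prod, a, ha, by rw [Multiset.prod_erase hQs, fprod]⟩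
    have hmax : Q.IsMaximal := Ideal.isMaximal_iff.2 ⟨(Ideal.ne_top_iff_one Q).1 hQp.ne_top,
      fun J b hQJ hbQ hbJ => (Ideal.eq_top_iff_one J).1 <| top_le_iff.1 <| by
        rw [← step Q hQp hQ0 hQinv b hbQ]
        exact sup_le hQJ (by simpa [Ideal.span_le] using hbJ)⟩
    obtain rfl := hmax.eq_of_le hP.ne_top hQP
    exact ⟨hmax, hQinv⟩
  let F := FractionRing R
  have hunit : ∀ I : Ideal R, I ≠ ⊥ → IsUnit (I : FractionalIdeal (nonZeroDivisors R) F) := by
    intro I hI
    rw [show I = (f ⟨I, hI⟩).prod from (fprod ⟨I, hI⟩).symm]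
    have hall : ∀ P ∈ f ⟨I, hI⟩, IsUnit (P : FractionalIdeal (nonZeroDivisors R) F) := by
      intro P hP
      obtain ⟨K, a, ha, hK⟩ := (main P ((hf _).1 P hP).1 ((hf _).1 P hP).2).2
      refine isUnit_of_mul_isUnit_left (y := (K : FractionalIdeal (nonZeroDivisors R) F)) ?_
      rw [← FractionalIdeal.coeIdeal_mul, hK, FractionalIdeal.coeIdeal_span_singleton]
      refine IsUnit.of_mul_eq_one (FractionalIdeal.spanSingleton _ (algebraMap R F a)⁻¹) ?_
      rw [FractionalIdeal.spanSingleton_mul_spanSingleton, mul_inv_cancel₀ (by simpa using ha),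
        FractionalIdeal.spanSingleton_one]
    generalize f ⟨I, hI⟩ = t at hall
    induction t using Multiset.induction with
    | empty => simp [Ideal.one_eq_top]
    | cons p t ih =>
      rw [Multiset.prod_cons, FractionalIdeal.coeIdeal_mul]
      exact (hall p (Multiset.mem_cons_self _ _)).mul (ih fun q hq => hall q (Multiset.mem_cons_of_mem hq))
  rw [isDedekindDomain_iff_mul_inv_cancel (K := F)]
  intro I hI
  obtain ⟨a, J, ha, rfl⟩ := FractionalIdeal.exists_eq_spanSingleton_mul I
  rw [FractionalIdeal.mul_inv_cancel_iff_isUnit]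
  refine IsUnit.mul (IsUnit.of_mul_eq_one (FractionalIdeal.spanSingleton _ (algebraMap R F a)) ?_) (hunit J ?_)
  · rw [FractionalIdeal.spanSingleton_mul_spanSingleton, inv_mul_cancel₀ (by simpa using ha),
      FractionalIdeal.spanSingleton_one]
  · rintro rfl; simp at hI

end Groth.Agent.S6369
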