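import Groth.Statements.S6371
import Mathlib.Algebra.Algebra.Epi
import Mathlib.RingTheory.Localization.Module
import Mathlib.RingTheory.Ideal.Maximal

set_option autoImplicit false
universe u
open CAlg
open scoped TensorProduct

namespace Groth.Agent.S6371

/-- A ring map R → S is an epimorphism of rings if and only if for every prime p of R the localized map
R_p → S_p is an epimorphism, where S_p is S localized at the image of R ∖ p. -/
theorem result (R S : Type u) [CommRing R] [CommRing S] [Algebra R S] :
    Algebra.IsEpi R S ↔ ∀ (p : Ideal R) [p.IsPrime],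
      Algebra.IsEpi (Localization.AtPrime p) (Localization (Algebra.algebraMapSubmonoid S p.primeCompl)) := by
  constructor
  · intro h p _
    let Rp := Localization.AtPrime p
    let Sp := Localization (Algebra.algebraMapSubmonoid S p.primeCompl)
    refine (Algebra.isEpi_iff_forall_one_tmul_eq Rp Sp).2 fun a => ?_
    have key : ((Algebra.TensorProduct.includeRight : Sp →ₐ[Rp] Sp ⊗[Rp] Sp) : Sp →+* Sp ⊗[Rp] Sp) =
        (Algebra.TensorProduct.includeLeftRingHom : Sp →+* Sp ⊗[Rp] Sp) := by
      refine IsLocalization.ringHom_ext (Algebra.algebraMapSubmonoid S p.primeCompl) (RingHom.ext fun s => ?_)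
      let ι : S →ₐ[R] Sp := IsScalarTower.toAlgHom R S Sp
      let φ : S ⊗[R] S →ₐ[R] Sp ⊗[Rp] Sp := Algebra.TensorProduct.lift
        ((Algebra.TensorProduct.includeLeft : Sp →ₐ[R] Sp ⊗[Rp] Sp).comp ι)
        (((Algebra.TensorProduct.includeRight : Sp →ₐ[Rp] Sp ⊗[Rp] Sp).restrictScalars R).comp ι) (fun _ _ => Commute.all _ _)
      have := congrArg φ ((Algebra.isEpi_iff_forall_one_tmul_eq R S).1 h s)
      simpa [φ, ι] using this
    exact DFunLike.congr_fun key a
  · intro h
    refine (Algebra.isEpi_iff_forall_one_tmul_eq R S).2 fun s => ?_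
    rw [← sub_eq_zero]
    set x : S ⊗[R] S := 1 ⊗ₜ[R] s - s ⊗ₜ[R] 1 with hx
    suffices ⊤ ≤ (Submodule.span R {x}).annihilator by
      simpa [Submodule.mem_annihilator_span_singleton] using this (show (1 : R) ∈ ⊤ from trivial)
    by_contra hann
    obtain ⟨p, hp, hle⟩ := Ideal.exists_le_maximal _ (fun e => hann e.ge)
    haveI := hp.isPrime
    let Rp := Localization.AtPrime p
    let Sp := Localization (Algebra.algebraMapSubmonoid S p.primeCompl)
    let M' := Algebra.algebraMapSubmonoid (S ⊗[R] S) p.primeCompl
    let T := Localization M'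
    have hM : ∀ g : S →ₐ[R] S ⊗[R] S, Algebra.algebraMapSubmonoid S p.primeCompl ≤ M'.comap g.toRingHom := by
      rintro g _ ⟨t, ht, rfl⟩
      exact ⟨t, ht, (g.commutes t).symm⟩
    let G : (S →ₐ[R] S ⊗[R] S) → (Sp →ₐ[Rp] T) := fun g =>
      { toRingHom := IsLocalization.map T g.toRingHom (hM g)
        commutes' := fun r => by
          refine RingHom.congr_fun (f := (IsLocalization.map T g.toRingHom (hM g)).comp (algebraMap Rp Sp)) ?_ r
          refine IsLocalization.ringHom_ext p.primeCompl (RingHom.ext fun t => ?_)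
          simp only [RingHom.comp_apply]
          rw [← IsScalarTower.algebraMap_apply R Rp Sp, IsScalarTower.algebraMap_apply R S Sp, IsLocalization.map_eq,
            ← IsScalarTower.algebraMap_apply R Rp T, IsScalarTower.algebraMap_apply R (S ⊗[R] S) T]
          exact congrArg (algebraMap (S ⊗[R] S) T) (g.commutes t) }
    let ψ : Sp ⊗[Rp] Sp →ₐ[Rp] T := Algebra.TensorProduct.lift (G Algebra.TensorProduct.includeLeft)
      (G Algebra.TensorProduct.includeRight) (fun _ _ => Commute.all _ _)
    have h0 := congrArg ψ ((Algebra.isEpi_iff_forall_one_tmul_eq Rp Sp).1 (h p) (algebraMap S Sp s))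
    simp only [ψ, Algebra.TensorProduct.lift_tmul, map_one, one_mul, mul_one] at h0
    have h1 : algebraMap (S ⊗[R] S) T x = 0 := by
      rw [hx, map_sub, sub_eq_zero]
      simpa [G, IsLocalization.map_eq] using h0
    obtain ⟨⟨_, t, ht, rfl⟩, htx⟩ := (IsLocalization.map_eq_zero_iff M' T x).1 h1
    refine ht (hle ?_)
    rw [Submodule.mem_annihilator_span_singleton, Algebra.smul_def]
    exact htx

end Groth.Agent.S6371
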