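import Groth.Statements.S6372
import Mathlib.Algebra.Algebra.Epi
import Mathlib.RingTheory.Flat.FaithfullyFlat.Basic

set_option autoImplicit false
universe u
open CAlg TensorProduct

namespace Groth.Agent.S6372

/-- A faithfully flat epimorphism of rings is an isomorphism: if R → S is faithfully flat and an
epimorphism in the category of rings then it is bijective. -/
theorem result (R S : Type u) [CommRing R] [CommRing S] [Algebra R S]
    [Module.FaithfullyFlat R S] [Algebra.IsEpi R S] : Function.Bijective (algebraMap R S) := by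
  have hinj : Function.Injective (algebraMap R S) := (injective_iff_map_eq_zero _).2 fun x hx =>
    (Module.FaithfullyFlat.one_tmul_eq_zero_iff R R (A := S) x).1 (by rw [← mul_one x, ← smul_eq_mul, TensorProduct.tmul_smul, TensorProduct.smul_tmul', Algebra.smul_def, hx, zero_mul, TensorProduct.zero_tmul])
  refine ⟨hinj, ?_⟩
  refine (Module.FaithfullyFlat.lTensor_surjective_iff_surjective R S (Algebra.linearMap R S)).1 fun z => ?_
  induction z using TensorProduct.induction_on with
  | zero => exact ⟨0, map_zero _⟩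
  | tmul x y =>
    refine ⟨(x * y) ⊗ₜ 1, ?_⟩
    rw [LinearMap.lTensor_tmul, Algebra.linearMap_apply, map_one]
    calc (x * y) ⊗ₜ[R] (1 : S) = (x ⊗ₜ[R] (1 : S)) * (y ⊗ₜ[R] (1 : S)) := by simp
      _ = (x ⊗ₜ[R] (1 : S)) * ((1 : S) ⊗ₜ[R] y) := by rw [(Algebra.isEpi_iff_forall_one_tmul_eq R S).1 inferInstance y]
      _ = x ⊗ₜ[R] y := by simp
  | add a b ha hb =>
    obtain ⟨c, rfl⟩ := ha
    obtain ⟨d, rfl⟩ := hb
    exact ⟨c + d, map_add _ _ _⟩

end Groth.Agent.S6372
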