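import Groth.Statements.S6374
import Mathlib.Algebra.Algebra.Epi
import Mathlib.RingTheory.LocalRing.ResidueField.Fiber
import Mathlib.RingTheory.TensorProduct.Maps
import Mathlib.LinearAlgebra.Dual.Lemmas

set_option autoImplicit false
universe u
open CAlg
open scoped TensorProduct

namespace Groth.Agent.S6374

/-- For an epimorphism of rings R → S, the induced map Spec S → Spec R is injective and induces trivial
residue field extensions; stated in the form the proof gives: for every prime p of R the fibre ring
S ⊗_R κ(p) is either zero or κ(p) → S ⊗_R κ(p) is bijective, together with injectivity of Spec S →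
Spec R. -/
theorem result (R S : Type u) [CommRing R] [CommRing S] [Algebra R S]
    [Algebra.IsEpi R S] :
    Function.Injective (PrimeSpectrum.comap (algebraMap R S)) ∧
      ∀ (p : Ideal R) [p.IsPrime],
        Subsingleton (p.Fiber S) ∨ Function.Bijective (algebraMap p.ResidueField (p.Fiber S)) := by
  classical
  have hfib : ∀ (p : Ideal R) [p.IsPrime], Subsingleton (p.Fiber S) ∨ Function.Bijective (algebraMap p.ResidueField (p.Fiber S)) := by
    intro p _
    rcases subsingleton_or_nontrivial (p.Fiber S) with h | h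
    · exact Or.inl h
    refine Or.inr ⟨(algebraMap p.ResidueField (p.Fiber S)).injective, fun a => ?_⟩
    let ι : S →ₐ[R] p.Fiber S := Algebra.TensorProduct.includeRight
    have hcomm : ∀ x : p.Fiber S, (1 : p.Fiber S) ⊗ₜ[p.ResidueField] x = x ⊗ₜ[p.ResidueField] (1 : p.Fiber S) := by
      intro x
      induction x using TensorProduct.induction_on with
      | zero => simp
      | add a b ha hb => rw [TensorProduct.tmul_add, TensorProduct.add_tmul, ha, hb]
      | tmul c s =>
        have h1 : (1 : p.Fiber S) ⊗ₜ[p.ResidueField] ι s = ι s ⊗ₜ[p.ResidueField] (1 : p.Fiber S) := by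
          let Φ : S ⊗[R] S →ₗ[R] p.Fiber S ⊗[p.ResidueField] p.Fiber S :=
            TensorProduct.lift (LinearMap.mk₂ R (fun a b => ι a ⊗ₜ[p.ResidueField] ι b)
              (fun a a' b => by rw [map_add, TensorProduct.add_tmul]) (fun r a b => by rw [map_smul, TensorProduct.smul_tmul'])
              (fun a b b' => by rw [map_add, TensorProduct.tmul_add]) (fun r a b => by rw [map_smul, TensorProduct.tmul_smul]))
          have h2 := congrArg Φ ((Algebra.isEpi_iff_forall_one_tmul_eq R S).1 inferInstance s)
          simpa [Φ] using h2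
        have h3 : c ⊗ₜ[R] s = c • ι s := by
          show c ⊗ₜ[R] s = c • ((1 : p.ResidueField) ⊗ₜ[R] s)
          rw [TensorProduct.smul_tmul', smul_eq_mul, mul_one]
        rw [h3, TensorProduct.tmul_smul, h1, TensorProduct.smul_tmul']
    by_contra ha
    push Not at ha
    have hli : a ∉ Submodule.span p.ResidueField {(1 : p.Fiber S)} := by
      intro h1
      obtain ⟨c, hc⟩ := Submodule.mem_span_singleton.1 h1
      exact ha c (by rw [Algebra.algebraMap_eq_smul_one, hc])
    obtain ⟨ψ, hψa, hψ⟩ := Submodule.exists_dual_map_eq_bot_of_notMem hli inferInstance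
    have hψ1 : ψ 1 = 0 := by
      have : ψ 1 ∈ Submodule.map ψ (Submodule.span p.ResidueField {(1 : p.Fiber S)}) := Submodule.mem_map_of_mem (Submodule.mem_span_singleton_self 1)
      rwa [hψ, Submodule.mem_bot] at this
    obtain ⟨φ, hφ, -⟩ := Submodule.exists_dual_map_eq_bot_of_notMem (p := (⊥ : Submodule p.ResidueField (p.Fiber S))) (show (1 : p.Fiber S) ∉ (⊥ : Submodule p.ResidueField (p.Fiber S)) by simp) inferInstance
    have h4 := congrArg (TensorProduct.lift ((LinearMap.mul p.ResidueField p.ResidueField).compl₁₂ φ ψ)) (hcomm a)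
    simp only [TensorProduct.lift.tmul, LinearMap.compl₁₂_apply, LinearMap.mul_apply', hψ1, mul_zero] at h4
    exact (mul_ne_zero hφ hψa) h4
  refine ⟨fun q q' h => ?_, fun p _ => hfib p⟩
  let P := PrimeSpectrum.comap (algebraMap R S) q
  have hsub : Subsingleton (PrimeSpectrum (P.asIdeal.Fiber S)) := by
    rcases hfib P.asIdeal with h1 | h1
    · exact ⟨fun a b => absurd (Subsingleton.elim (1 : P.asIdeal.Fiber S) 0 ▸ a.asIdeal.zero_mem : (1 : P.asIdeal.Fiber S) ∈ a.asIdeal) ((Ideal.ne_top_iff_one _).1 a.isPrime.ne_top)⟩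
    · exact (PrimeSpectrum.comapEquiv (RingEquiv.ofBijective _ h1).symm).injective.subsingleton
  have h2 : (⟨q, rfl⟩ : PrimeSpectrum.comap (algebraMap R S) ⁻¹' {P}) = ⟨q', h.symm⟩ := (PrimeSpectrum.preimageEquivFiber R S P).injective (Subsingleton.elim _ _)
  exact congrArg Subtype.val h2

end Groth.Agent.S6374
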