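import Groth.Statements.S6375
import Mathlib.RingTheory.TensorProduct.DirectLimitFG
import Mathlib.LinearAlgebra.TensorProduct.Vanishing
import Mathlib.Algebra.Algebra.Epi
import Mathlib.SetTheory.Cardinal.Arithmetic

set_option autoImplicit false
universe u
open CAlg
open scoped TensorProduct

namespace Groth.Agent.S6375

/-- For an infinite source ring: if R → S is an epimorphism of rings with R infinite, then |S| ≤ |R| as
cardinals. (For finite R the published statement also asserts |S| ≤ |R|, but its proof only gives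
that S is countable and omits the rest, so that case is not included.) -/
theorem result (R S : Type u) [CommRing R] [CommRing S] [Algebra R S] [Algebra.IsEpi R S]
    [Infinite R] : Cardinal.mk S ≤ Cardinal.mk R := by
  classical
  have key : ∀ s : S, ∃ d : Σ n k : ℕ, (Fin (n + 2) → Fin k → R),
      (∃ y : Fin d.2.1 → S, ∀ i, (Fin.cons s (Fin.cons (-1) 0) : Fin (d.1 + 2) → S) i = ∑ j, d.2.2 i j • y j) ∧
      ∃ g : Fin d.1 → S, ∀ j, ∑ i, d.2.2 i j • (Fin.cons 1 (Fin.cons s g) : Fin (d.1 + 2) → S) i = 0 := by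
    intro s
    let P : Submodule R S := Submodule.span R {1, s}
    have h1 : (1 : S) ∈ P := Submodule.subset_span (by simp)
    have hs : s ∈ P := Submodule.subset_span (by simp)
    let t : P ⊗[R] S := (⟨1, h1⟩ : P) ⊗ₜ s + (⟨s, hs⟩ : P) ⊗ₜ (-1 : S)
    have ht : LinearMap.rTensor S P.subtype t = 0 := by
      simp only [t, map_add, LinearMap.rTensor_tmul, Submodule.coe_subtype]
      rw [TensorProduct.tmul_neg, Algebra.tmul_comm R (1 : S) s, add_neg_cancel]
    obtain ⟨Q, hPQ, hQ, hQt⟩ :=
      TensorProduct.eq_zero_of_fg_of_subtype_eq_zero (Submodule.fg_span (by simp)) ht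
    obtain ⟨n, g, hg⟩ := Submodule.fg_iff_exists_fin_generating_family.1 hQ
    let g' : Fin n → Q := fun i => ⟨g i, hg ▸ Submodule.subset_span ⟨i, rfl⟩⟩
    let m : Fin (n + 2) → Q := Fin.cons ⟨1, hPQ h1⟩ (Fin.cons ⟨s, hPQ hs⟩ g')
    have hm : Submodule.span R (Set.range m) = ⊤ := by
      refine eq_top_iff.2 fun x _ => ?_
      have hx : (x : S) ∈ Submodule.span R (Q.subtype '' Set.range m) := by
        refine Submodule.span_mono ?_ (hg ▸ x.2 : (x : S) ∈ Submodule.span R (Set.range g))
        rintro _ ⟨i, rfl⟩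
        exact ⟨m i.succ.succ, ⟨_, rfl⟩, by simp [m, g']⟩
      rw [← Submodule.map_span] at hx
      obtain ⟨y, hy, hyx⟩ := hx
      exact Subtype.ext hyx ▸ hy
    have hsum : ∑ i, m i ⊗ₜ[R] (Fin.cons s (Fin.cons (-1) 0) : Fin (n + 2) → S) i = 0 := by
      simp only [t, map_add, LinearMap.rTensor_tmul] at hQt
      simpa [m, Fin.sum_univ_succ] using! hQt
    obtain ⟨k, a, y, hay, ham⟩ := TensorProduct.vanishesTrivially_of_sum_tmul_eq_zero R hm hsum
    refine ⟨⟨n, k, a⟩, ⟨y, hay⟩, g, fun j => ?_⟩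
    have h := congrArg Q.subtype (ham j)
    rw [map_sum, map_zero] at h
    refine (Finset.sum_congr rfl fun i _ => ?_).trans h
    rw [map_smul]
    refine congrArg (a i j • ·) ?_
    refine Fin.cases ?_ (fun i => Fin.cases ?_ (fun i => ?_) i) i <;> simp [m, g']
  choose D hy hg using key
  have hinj : Function.Injective D := by
    intro s s' h
    have hg' := hg s'
    rw [← h] at hg'
    obtain ⟨y, hy⟩ := hy s
    obtain ⟨g, hg⟩ := hg'
    set m : Fin ((D s).1 + 2) → S := Fin.cons 1 (Fin.cons s' g) with hm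
    have h0 : ∑ i, (Fin.cons s (Fin.cons (-1) 0) : Fin ((D s).1 + 2) → S) i * m i = 0 := by
      simp only [hy, Finset.sum_mul, smul_mul_assoc]
      rw [Finset.sum_comm]
      refine Finset.sum_eq_zero fun j _ => ?_
      simp only [← mul_smul_comm, ← Finset.mul_sum, hg, mul_zero]
    simp [hm, Fin.sum_univ_succ, ← sub_eq_add_neg] at h0
    exact sub_eq_zero.1 h0
  have hR : Cardinal.aleph0 ≤ Cardinal.mk R := Cardinal.aleph0_le_mk R
  let c : (Σ n k : ℕ, (Fin (n + 2) → Fin k → R)) → (ℕ × ℕ) × List R := fun d =>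
    ((d.1, d.2.1), List.ofFn fun p => Function.uncurry d.2.2 (finProdFinEquiv.symm p))
  have hc : Function.Injective c := by
    rintro ⟨n, k, a⟩ ⟨n', k', a'⟩ h
    simp only [c, Prod.mk.injEq] at h
    obtain ⟨⟨rfl, rfl⟩, h⟩ := h
    have h' := List.ofFn_injective h
    have : a = a' := funext₂ fun i j => by
      simpa using congrFun h' (finProdFinEquiv (i, j))
    rw [this]
  refine (Cardinal.mk_le_of_injective (hc.comp hinj)).trans ?_
  simp [Cardinal.mk_list_eq_mk, hR]

end Groth.Agent.S6375
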