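import Groth.Statements.S6377
import Groth.Agent.TorLocFlat.Basic
import Groth.Agent.LocalCrit.Criterion
import Groth.Agent.TorBalance.LESFlip
import Groth.Agent.W7Tor.Basic

set_option autoImplicit false
universe u
open CategoryTheory
open scoped TensorProduct
open CAlg

namespace Groth.Agent.S6377


open TensorProduct

section

variable {A : Type u} [CommRing A]

/-- iterated syzygies -/
noncomputable def syz (M : ModuleCat.{u} A) : ℕ → ModuleCat.{u} A
  | 0 => M
  | j + 1 => ModuleCat.of A (LinearMap.ker (Finsupp.linearCombination A (id : syz M j → syz M j)))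

/-- the projections -/
noncomputable def proj (M : ModuleCat.{u} A) (j : ℕ) : (syz M j →₀ A) →ₗ[A] syz M j :=
  Finsupp.linearCombination A (id : syz M j → syz M j)

/-- the inclusions -/
noncomputable def incl (M : ModuleCat.{u} A) (j : ℕ) : syz M (j + 1) →ₗ[A] (syz M j →₀ A) :=
  (LinearMap.ker (proj M j)).subtype

theorem proj_surj (M : ModuleCat.{u} A) (j : ℕ) : Function.Surjective (proj M j) :=
  fun m => ⟨Finsupp.single m 1, by simp [proj]⟩

theorem incl_inj (M : ModuleCat.{u} A) (j : ℕ) : Function.Injective (incl M j) :=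
  Subtype.val_injective

theorem incl_exact (M : ModuleCat.{u} A) (j : ℕ) : Function.Exact (incl M j) (proj M j) :=
  LinearMap.exact_subtype_ker_map (proj M j)

open CategoryTheory Limits in
theorem isZero_tor_syz (M : ModuleCat.{u} A) (N : ModuleCat.{u} A) (r : ℕ)
    (h : ∀ i, 1 ≤ i → i ≤ r + 1 → IsZero (((CategoryTheory.Tor (ModuleCat.{u} A) i).obj M).obj N)) :
    ∀ j i, 1 ≤ i → j + i ≤ r + 1 → IsZero (((CategoryTheory.Tor (ModuleCat.{u} A) i).obj (syz M j)).obj N) := by
  intro j
  induction j with
  | zero => exact fun i h1 h2 => h i h1 (by omega)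
  | succ j ih =>
    intro i h1 h2
    obtain ⟨i, rfl⟩ := Nat.exists_eq_add_of_le' h1
    let S : ShortComplex (ModuleCat.{u} A) :=
      ShortComplex.mk (X₁ := syz M (j + 1)) (X₂ := ModuleCat.of A (syz M j →₀ A)) (X₃ := syz M j)
        (ModuleCat.ofHom (incl M j)) (ModuleCat.ofHom (proj M j))
        (ModuleCat.hom_ext (incl_exact M j).linearMap_comp_eq_zero)
    have hS : S.ShortExact :=
      { exact := (ShortComplex.ShortExact.moduleCat_exact_iff_function_exact S).2 (incl_exact M j)
        mono_f := (ModuleCat.mono_iff_injective _).2 (incl_inj M j)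
        epi_g := (ModuleCat.epi_iff_surjective _).2 (proj_surj M j) }
    haveI : Module.Flat A S.X₂ := inferInstanceAs (Module.Flat A (syz M j →₀ A))
    exact TorBalance.isZero_left hS N (i + 1) (TorBalance.isZero_flat S.X₂ N i)
      (ih (i + 2) (by omega) (by omega))

open CategoryTheory Limits in
theorem mulMap_injective_of_isZero (I : Ideal A) (X : Type u) [AddCommGroup X] [Module A X]
    (h : IsZero (((CategoryTheory.Tor (ModuleCat.{u} A) 1).obj (ModuleCat.of A X)).obj (ModuleCat.of A (A ⧸ I)))) :
    Function.Injective (LocalCrit.mulMap I X) := by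
  obtain ⟨e⟩ := W7Tor.tor_iso (R := A) (N := X) (M := A ⧸ I) I.mkQ I.mkQ_surjective
  have h' := ModuleCat.isZero_iff_subsingleton.1 (h.of_iso e.symm)
  rw [injective_iff_map_eq_zero]
  intro z hz
  let σ : LinearMap.ker I.mkQ ≃ₗ[A] I := LinearEquiv.ofEq _ _ I.ker_mkQ
  obtain ⟨w, rfl⟩ := ((TensorProduct.comm A X (LinearMap.ker I.mkQ)).trans
    (TensorProduct.congr σ (LinearEquiv.refl A X))).surjective z
  have hnat : ∀ w, LocalCrit.mulMap I X (((TensorProduct.comm A X (LinearMap.ker I.mkQ)).trans
      (TensorProduct.congr σ (LinearEquiv.refl A X))) w) =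
      TensorProduct.rid A X ((LinearMap.ker I.mkQ).subtype.lTensor X w) := by
    intro w
    induction w with
    | zero => simp
    | add a b ha hb => simp only [map_add, ha, hb]
    | tmul x a => simp [σ]
  rw [hnat, LinearEquiv.map_eq_zero_iff] at hz
  have : (⟨w, hz⟩ : LinearMap.ker ((LinearMap.ker I.mkQ).subtype.lTensor X)) = 0 := Subsingleton.elim _ _
  rw [show w = 0 from congrArg Subtype.val this, map_zero]

theorem incl_baseChange_injective (M : ModuleCat.{u} A) (j : ℕ) (I : Ideal A)
    (h : Function.Injective (LocalCrit.mulMap I (syz M j))) :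
    Function.Injective ((incl M j).baseChange (A ⧸ I)) := by
  rw [LinearMap.baseChange_eq_ltensor]
  refine (LocalCrit.quot_lTensor_injective_iff I (incl M j)).2 fun x hx => ?_
  exact LocalCrit.mem_smul_of_map_mem_of_mulMap_injective (incl M j) (incl_inj M j) (proj M j)
    (proj_surj M j) (incl_exact M j) I h hx

theorem flat_syz (M : ModuleCat.{u} A) (B : Type u) [CommRing B] [Algebra A B] (r : ℕ)
    (h0 : Module.Flat B (B ⊗[A] M)) (h : ∀ j, j < r → Function.Injective ((incl M j).baseChange B)) :
    ∀ j, j ≤ r → Module.Flat B (B ⊗[A] syz M j) := by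
  intro j
  induction j with
  | zero => exact fun _ => h0
  | succ j ih =>
    intro hj
    haveI := ih (by omega)
    exact TorLocFlat.flat_baseChange_ker B (incl M j) (proj M j) (proj_surj M j) (incl_exact M j) (h j (by omega))

theorem vanish (M : ModuleCat.{u} A) (r : ℕ) (g : ℕ → A) (I : Ideal A) (hI : I = Ideal.span (g '' Set.Iio r))
    (hIflat : ∀ j, j ≤ r → Module.Flat (A ⧸ I) ((A ⧸ I) ⊗[A] syz M j))
    (hIinj : ∀ j, j ≤ r → Function.Injective ((incl M j).baseChange (A ⧸ I)))
    (hloc : ∀ i < r, ∀ j, Module.Flat (Localization.Away (g i)) (Localization.Away (g i) ⊗[A] syz M j)) :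
    ∀ k, k ≤ r → ∀ (N : Type u) [AddCommGroup N] [Module A N],
      (∀ i, k ≤ i → i < r → ∀ x : N, ∃ n, g i ^ n • x = 0) → ∀ j, j + k ≤ r →
        Function.Injective ((incl M j).rTensor N) := by
  intro k
  induction k with
  | zero =>
    intro _ N _ _ hN j hj
    haveI := hIflat j (by omega)
    refine TorLocFlat.inj_of_torsion I (incl M j) (proj M j) (proj_surj M j) (incl_exact M j)
      (hIinj j (by omega)) fun x => ?_
    have hle : I ≤ Ideal.radical (LinearMap.ker (LinearMap.toSpanSingleton A N x)) := by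
      rw [hI, Ideal.span_le]
      rintro _ ⟨i, hi, rfl⟩
      obtain ⟨n, hn⟩ := hN i (Nat.zero_le _) hi x
      exact ⟨n, by simpa using hn⟩
    have hfg : I.FG := by
      rw [hI]
      exact Submodule.fg_span ((Set.finite_Iio r).image g)
    obtain ⟨n, hn⟩ := Ideal.exists_pow_le_of_le_radical_of_fg hle hfg
    exact ⟨n, TorLocFlat.mem_tors.2 fun a ha => by simpa using hn ha⟩
  | succ k ih =>
    intro hk N _ _ hN j hj
    let B := Localization.Away (g k)
    let S := Submonoid.powers (g k)
    let L := LocalizedModule S N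
    let f := LocalizedModule.mkLinearMap S N
    letI : Module B L := LocalizedModule.moduleOfIsLocalization
    haveI : IsScalarTower A B L := inferInstance
    have hL : ∀ j, Function.Injective ((incl M j).rTensor L) := fun j => by
      haveI := hloc k (by omega) j
      refine TorLocFlat.inj_of_algebra B (incl M j) (proj M j) (proj_surj M j) (incl_exact M j) ?_ L
      rw [LinearMap.baseChange_eq_ltensor]
      haveI : Module.Flat A B := IsLocalization.flat B (Submonoid.powers (g k))
      exact Module.Flat.lTensor_preserves_injective_linearMap _ (incl_inj M j)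
    have hLtor : ∀ i, k + 1 ≤ i → i < r → ∀ y : L, ∃ n, g i ^ n • y = 0 := by
      intro i hi hir y
      obtain ⟨⟨x, s⟩, hs⟩ := IsLocalizedModule.surj S f y
      obtain ⟨n, hn⟩ := hN i hi hir x
      refine ⟨n, ?_⟩
      have h1 : s • (g i ^ n • y) = 0 := by
        rw [smul_comm, hs, ← map_smul, hn, map_zero]
      exact IsLocalizedModule.smul_injective f s (h1.trans (smul_zero s).symm)
    -- kernel and cokernel of `N → L`
    have hT : ∀ j, j + k ≤ r → Function.Injective ((incl M j).rTensor (LinearMap.ker f)) := by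
      refine ih (by omega) _ fun i hi hir x => ?_
      rcases eq_or_lt_of_le hi with rfl | hlt
      · obtain ⟨⟨_, n, rfl⟩, hn⟩ := (IsLocalizedModule.eq_zero_iff S f).1 (LinearMap.mem_ker.1 x.2)
        exact ⟨n, Subtype.ext hn⟩
      · obtain ⟨n, hn⟩ := hN i hlt hir x
        exact ⟨n, Subtype.ext hn⟩
    have hC : ∀ j, j + k ≤ r → Function.Injective ((incl M j).rTensor (L ⧸ LinearMap.range f)) := by
      refine ih (by omega) _ fun i hi hir x => ?_
      obtain ⟨y, rfl⟩ := Submodule.Quotient.mk_surjective _ x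
      rcases eq_or_lt_of_le hi with rfl | hlt
      · obtain ⟨⟨z, ⟨_, n, rfl⟩⟩, hz⟩ := IsLocalizedModule.surj S f y
        refine ⟨n, ?_⟩
        rw [← Submodule.Quotient.mk_smul, Submodule.Quotient.mk_eq_zero]
        exact ⟨z, hz.symm⟩
      · obtain ⟨n, hn⟩ := hLtor i hlt hir y
        exact ⟨n, by rw [← Submodule.Quotient.mk_smul, hn, Submodule.Quotient.mk_zero]⟩
    have hQ : Function.Injective ((incl M j).rTensor (LinearMap.range f)) :=
      TorLocFlat.inj_left (incl M j) (incl M (j + 1)) (proj M (j + 1)) (proj_surj M (j + 1))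
        (incl_exact M (j + 1)) (LinearMap.range f).subtype (LinearMap.range f).mkQ Subtype.val_injective
        (Submodule.mkQ_surjective _) (LinearMap.exact_subtype_mkQ _) (hL j) (hC (j + 1) (by omega))
    exact TorLocFlat.inj_middle (incl M j) (LinearMap.ker f).subtype f.rangeRestrict Subtype.val_injective
      f.surjective_rangeRestrict (fun x => ⟨fun hx => ⟨⟨x, congrArg Subtype.val hx⟩, rfl⟩,
        by rintro ⟨y, rfl⟩; exact Subtype.ext y.2⟩) (hT j (by omega)) hQ

end

/-- Let A be a ring, M an A-module and I = (f_1, ..., f_r) an ideal generated by r ≥ 1 elements. If (1)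
M_{f_i} is flat over A_{f_i} for each i, (2) M/IM is flat over A/I, and (3) Tor_i^A(M, A/I) = 0 for
i = 1, ..., r + 1, then M is flat over A. (The published statement adds the same with 'faithfully
flat', whose proof it omits; that variant is not included.) -/
theorem result (A : Type u) [CommRing A] (M : Type u) [AddCommGroup M]
    [Module A M] {r : ℕ} (hr : 1 ≤ r) (f : Fin r → A)
    (h1 : ∀ i, Module.Flat (Localization.Away (f i)) (LocalizedModule (Submonoid.powers (f i)) M))
    (h2 : Module.Flat (A ⧸ Ideal.span (Set.range f)) ((A ⧸ Ideal.span (Set.range f)) ⊗[A] M))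
    (h3 : ∀ i : ℕ, 1 ≤ i → i ≤ r + 1 →
      Limits.IsZero (((CategoryTheory.Tor (ModuleCat.{u} A) i).obj (ModuleCat.of A M)).obj (ModuleCat.of A (A ⧸ Ideal.span (Set.range f))))) :
    Module.Flat A M := by
  classical
  let g : ℕ → A := fun i => if h : i < r then f ⟨i, h⟩ else 0
  let I := Ideal.span (Set.range f)
  have hI : I = Ideal.span (g '' Set.Iio r) := by
    show Ideal.span (Set.range f) = _
    congr 1
    ext a
    constructor
    · rintro ⟨i, rfl⟩
      exact ⟨i, i.2, by simp [g]⟩
    · rintro ⟨i, hi, rfl⟩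
      exact ⟨⟨i, hi⟩, by simp [g, Set.mem_Iio.1 hi]⟩
  let M₀ := ModuleCat.of A M
  have hzero := isZero_tor_syz M₀ (ModuleCat.of A (A ⧸ I)) r h3
  have hinj : ∀ j, j ≤ r → Function.Injective ((incl M₀ j).baseChange (A ⧸ I)) := fun j hj =>
    incl_baseChange_injective M₀ j I (mulMap_injective_of_isZero I (syz M₀ j) (hzero j 1 le_rfl (by omega)))
  have hflat := flat_syz M₀ (A ⧸ I) r h2 fun j hj => hinj j hj.le
  have hloc : ∀ i < r, ∀ j, Module.Flat (Localization.Away (g i)) (Localization.Away (g i) ⊗[A] syz M₀ j) := by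
    intro i hi j
    haveI : Module.Flat A (Localization.Away (g i)) :=
      IsLocalization.flat _ (Submonoid.powers (g i))
    refine flat_syz M₀ _ j ?_ (fun t _ => ?_) j le_rfl
    · haveI := h1 ⟨i, hi⟩
      have hgi : g i = f ⟨i, hi⟩ := by simp [g, hi]
      rw [hgi]
      exact Module.Flat.of_linearEquiv (LocalizedModule.equivTensorProduct (Submonoid.powers (f ⟨i, hi⟩)) M).symm
    · rw [LinearMap.baseChange_eq_ltensor]
      exact Module.Flat.lTensor_preserves_injective_linearMap _ (incl_inj M₀ t)
  have hall : ∀ (N : Type u) [AddCommGroup N] [Module A N], Function.Injective ((incl M₀ 0).rTensor N) :=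
    fun N _ _ => vanish M₀ r g I hI hflat hinj hloc r le_rfl N (fun i h h' => absurd h' (by omega)) 0 (by omega)
  refine LocalCrit.flat_of_exact (M := M) (incl M₀ 0) (incl_inj M₀ 0) (proj M₀ 0) (proj_surj M₀ 0)
    (incl_exact M₀ 0) fun J _ x hx => ?_
  rw [← LocalCrit.one_tmul_eq_zero_iff J] at hx
  rw [← LocalCrit.one_tmul_eq_zero_iff J]
  apply (TensorProduct.comm A (A ⧸ J) (syz M₀ (0 + 1))).injective
  apply hall (A ⧸ J)
  rw [map_zero, map_zero, TensorProduct.comm_tmul, LinearMap.rTensor_tmul]
  have := congrArg (TensorProduct.comm A (A ⧸ J) (syz M₀ 0 →₀ A)) hx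
  rwa [map_zero, TensorProduct.comm_tmul] at this

end Groth.Agent.S6377
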