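import Groth.Statements.S6378
import Groth.Agent.S12205
import Mathlib.RingTheory.FiniteLength
import Mathlib.RingTheory.LocalRing.ResidueField.Basic
import Mathlib.RingTheory.SimpleModule.Basic

set_option autoImplicit false
universe u
open CategoryTheory
open CAlg Groth.Agent
open scoped TensorProduct

namespace Groth.Agent.S6378

/-- Let (R, m, κ) be a local ring and M an R-module with Tor_1^R(κ, M) = 0. Then Tor_1^R(N, M) = 0 for
every finite length R-module N. -/
theorem result (R : Type u) [CommRing R] [IsLocalRing R]
    (M : Type u) [AddCommGroup M] [Module R M]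
    (h : Limits.IsZero (((CategoryTheory.Tor (ModuleCat.{u} R) 1).obj (ModuleCat.of R (IsLocalRing.ResidueField R))).obj (ModuleCat.of R M)))
    (N : Type u) [AddCommGroup N] [Module R N] (hN : IsFiniteLength R N) :
    Limits.IsZero (((CategoryTheory.Tor (ModuleCat.{u} R) 1).obj (ModuleCat.of R N)).obj (ModuleCat.of R M)) := by
  obtain ⟨F, _, _, π, hF, hπ, hiff⟩ := S12205.exists_presentation (R := R) (M := M)
  have h0 := (hiff (IsLocalRing.ResidueField R)).1 h
  rw [hiff]
  clear h
  induction hN with
  | of_subsingleton => exact Function.injective_of_subsingleton _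
  | @of_simple_quotient V _ _ W hsimp _ ih =>
    refine S12205.injective_of_extension _ W ih ?_
    obtain ⟨m, hm, ⟨e⟩⟩ := isSimpleModule_iff_quot_maximal.1 hsimp
    rw [IsLocalRing.eq_maximalIdeal hm] at e
    let e' : (V ⧸ W) ≃ₗ[R] IsLocalRing.ResidueField R := e
    have hc : ∀ z, ((LinearMap.ker π).subtype.lTensor (IsLocalRing.ResidueField R)) (LinearEquiv.rTensor _ e' z) =
        LinearEquiv.rTensor _ e' ((LinearMap.ker π).subtype.lTensor (V ⧸ W) z) := fun z => by
      induction z with
      | zero => simp
      | add a b ha hb => simp only [map_add, ha, hb]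
      | tmul a b => simp
    intro p q hpq
    apply (LinearEquiv.rTensor (LinearMap.ker π) e').injective
    apply h0
    rw [hc, hc, hpq]

end Groth.Agent.S6378
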