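import Groth.Statements.S6380
import Mathlib.Algebra.Module.FinitePresentation
import Mathlib.LinearAlgebra.TensorProduct.Finiteness
import Mathlib.LinearAlgebra.TensorProduct.RightExactness
import Mathlib.LinearAlgebra.Finsupp.LinearCombination
import Mathlib.LinearAlgebra.DirectSum.Finsupp
import Mathlib.LinearAlgebra.Pi

set_option autoImplicit false
universe u
open scoped TensorProduct
open CAlg
open scoped TensorProduct

namespace Groth.Agent.S6380

/-- Given a linear map f : P → M of R-modules with P finitely presented, an R-module Q and an element x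
of P ⊗ Q in the kernel of f ⊗ id_Q, one can factor f as h ∘ f' through some finitely presented
module P' (with f' : P → P' and h : P' → M) so that already f' ⊗ id_Q sends x to zero. -/
theorem result (R : Type u) [CommRing R] {P M Q : Type u}
    [AddCommGroup P] [Module R P] [Module.FinitePresentation R P] [AddCommGroup M] [Module R M]
    [AddCommGroup Q] [Module R Q] (f : P →ₗ[R] M) (x : P ⊗[R] Q) (hx : f.rTensor Q x = 0) :
    ∃ (P' : Type u) (_ : AddCommGroup P') (_ : Module R P') (_ : Module.FinitePresentation R P')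
      (f' : P →ₗ[R] P') (h : P' →ₗ[R] M), f = h ∘ₗ f' ∧ f'.rTensor Q x = 0 := by
  classical
  let π := Finsupp.linearCombination R (id : Q → Q)
  have hπ : Function.Surjective π := Finsupp.linearCombination_id_surjective R Q
  obtain ⟨w, rfl⟩ := LinearMap.lTensor_surjective P hπ x
  have h1 : π.lTensor M (f.rTensor _ w) = 0 := by
    rw [← LinearMap.comp_apply, LinearMap.lTensor_comp_rTensor, ← LinearMap.rTensor_comp_lTensor, LinearMap.comp_apply, hx]
  obtain ⟨y, hy⟩ := (@lTensor_exact R (LinearMap.ker π) (Q →₀ R) Q _ _ _ _ _ _ _ (Submodule.subtype (LinearMap.ker π)) π M _ _ (LinearMap.exact_subtype_ker_map π) hπ (f.rTensor _ w)).1 h1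
  obtain ⟨T, hT⟩ := TensorProduct.exists_finset (R := R) y
  let c : (T → R) →ₗ[R] M := Fintype.linearCombination R (fun t : T => t.1.1)
  let f'' : P →ₗ[R] P × (T → R) := LinearMap.inl R P (T → R)
  let eP := TensorProduct.finsuppScalarRight R R P Q
  let eM := TensorProduct.finsuppScalarRight R R M Q
  let S : Finset Q := (eP w).support ∪ Finset.univ.biUnion fun t : T => (t.1.2 : Q →₀ R).support
  let rel : S → P × (T → R) := fun s => (eP w s.1, fun t => -((t.1.2 : Q →₀ R) s.1))
  let Rel := Submodule.span R (Set.range rel)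
  have hnat : ∀ (u : P ⊗[R] (Q →₀ R)) (s : Q), eM (f.rTensor _ u) s = f (eP u s) := by
    intro u s
    induction u with
    | zero => simp
    | tmul a b => simp [eP, eM]
    | add a b ha hb => simp [ha, hb]
  have hcoord : ∀ s : Q, f (eP w s) = ∑ t : T, (t.1.2 : Q →₀ R) s • t.1.1 := by
    intro s
    rw [← hnat, ← hy, hT, map_sum, map_sum, Finset.sum_apply', ← Finset.sum_coe_sort T]
    exact Finset.sum_congr rfl fun t _ => by simp [eM]
  let h' : P × (T → R) →ₗ[R] M := f.coprod c
  have hle : Rel ≤ LinearMap.ker h' := by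
    rw [Submodule.span_le]
    rintro _ ⟨s, rfl⟩
    rw [SetLike.mem_coe, LinearMap.mem_ker, LinearMap.coprod_apply, hcoord]
    simp [c, rel, Fintype.linearCombination_apply]
  have hfp : Module.FinitePresentation R ((P × (T → R)) ⧸ Rel) :=
    Module.finitePresentation_of_surjective Rel.mkQ Rel.mkQ_surjective (by rw [Submodule.ker_mkQ]; exact Submodule.fg_span (Set.finite_range rel))
  refine ⟨_, inferInstance, inferInstance, hfp, Rel.mkQ ∘ₗ f'', Rel.liftQ h' hle, LinearMap.ext fun p => by simp [f'', h'], ?_⟩
  -- in the new module the coordinates of `w` lie in the image of `ker π`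
  let g := Rel.mkQ ∘ₗ f''
  let eN := TensorProduct.finsuppScalarRight R R ((P × (T → R)) ⧸ Rel) Q
  have hgw : g.rTensor _ w = ∑ t : T, (Rel.mkQ (0, Pi.single t 1)) ⊗ₜ[R] (t.1.2 : Q →₀ R) := by
    apply eN.injective
    ext s
    have hn : ∀ u : P ⊗[R] (Q →₀ R), eN (g.rTensor _ u) s = g (eP u s) := fun u => by
      induction u using TensorProduct.induction_on with
      | zero => simp
      | tmul a b => simp [eP, eN]
      | add a b ha hb => simp only [map_add, Finsupp.add_apply, ha, hb]
    rw [hn, map_sum, Finset.sum_apply']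
    have h3 : (∑ t : T, eN (Rel.mkQ (0, Pi.single t 1) ⊗ₜ[R] (t.1.2 : Q →₀ R)) s) = Rel.mkQ (0, fun t => (t.1.2 : Q →₀ R) s) := by
      simp only [eN, TensorProduct.finsuppScalarRight_apply_tmul_apply, ← map_smul, ← map_sum]
      congr 1
      refine Prod.ext (by simp [Prod.fst_sum]) (funext fun t => ?_)
      simp [Prod.snd_sum, Finset.sum_apply, Pi.single_apply]
    rw [h3]
    show Rel.mkQ (eP w s, 0) = _
    rw [Submodule.mkQ_apply, Submodule.mkQ_apply, Submodule.Quotient.eq]
    by_cases hs : s ∈ S
    · have := Submodule.subset_span (R := R) (Set.mem_range_self (f := rel) ⟨s, hs⟩)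
      simpa [rel, Pi.neg_def] using this
    · have h4 : eP w s = 0 := Finsupp.notMem_support_iff.1 fun hh => hs (Finset.mem_union_left _ hh)
      have h5 : (fun t : T => (t.1.2 : Q →₀ R) s) = 0 := funext fun t => Finsupp.notMem_support_iff.1 fun hh =>
        hs (Finset.mem_union_right _ (Finset.mem_biUnion.2 ⟨t, Finset.mem_univ _, hh⟩))
      rw [h4, h5]
      simp
  rw [← LinearMap.comp_apply, LinearMap.rTensor_comp_lTensor, ← LinearMap.lTensor_comp_rTensor, LinearMap.comp_apply]
  show π.lTensor _ (g.rTensor _ w) = 0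
  rw [hgw, map_sum]
  exact Finset.sum_eq_zero fun t _ => by rw [LinearMap.lTensor_tmul, LinearMap.mem_ker.1 t.1.2.2, TensorProduct.tmul_zero]

end Groth.Agent.S6380
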