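import Groth.Statements.S6382
import Groth.Agent.LocalCrit.Criterion
import Groth.Agent.S6282
-- import your own Groth.Agent.* helpers here

set_option autoImplicit false
universe u
open CAlg

namespace Groth.Agent.S6382

/-- Consider a commutative square of local rings and local homomorphisms R → S, R → R', S → S', R' → S',
and a finite S-module M. Assume the maps R → R' and S → S' are flat, M is flat over R, the maximal
ideal of R generates the maximal ideal of R', and R', S' are Noetherian. Then M' = M ⊗_S S' (any
base change of M along S → S') is flat over R'. -/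
theorem result (R S R' S' : Type u) [CommRing R] [CommRing S]
    [CommRing R'] [CommRing S'] [IsLocalRing R] [IsLocalRing S] [IsLocalRing R'] [IsLocalRing S']
    [Algebra R S] [Algebra R R'] [Algebra S S'] [Algebra R' S'] [Algebra R S']
    [IsScalarTower R S S'] [IsScalarTower R R' S']
    [IsLocalHom (algebraMap R S)] [IsLocalHom (algebraMap R R')] [IsLocalHom (algebraMap S S')]
    [IsLocalHom (algebraMap R' S')] [Module.Flat R R'] [Module.Flat S S']
    [IsNoetherianRing R'] [IsNoetherianRing S']
    (hm : (IsLocalRing.maximalIdeal R).map (algebraMap R R') = IsLocalRing.maximalIdeal R')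
    (M : Type u) [AddCommGroup M] [Module S M] [Module R M] [IsScalarTower R S M] [Module.Finite S M]
    [Module.Flat R M]
    (M' : Type u) [AddCommGroup M'] [Module S' M'] [Module S M'] [IsScalarTower S S' M'] [Module R' M']
    [IsScalarTower R' S' M'] (j : M →ₗ[S] M') (hj : IsBaseChange S' j) :
    Module.Flat R' M' := by
  letI : Module R M' := Module.compHom M' (algebraMap R R')
  haveI : IsScalarTower R R' M' := IsScalarTower.of_algebraMap_smul fun r x => rfl
  haveI : IsScalarTower R S' M' := IsScalarTower.of_algebraMap_smul fun r x => by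
    rw [IsScalarTower.algebraMap_apply R R' S', algebraMap_smul]
    rfl
  haveI : Module.Finite S' M' := Module.Finite.equiv hj.equiv
  haveI : Module.Flat R (TensorProduct S S' M) := (S6282.result (R := R) (S := S) (S' := S') M).1 inferInstance
  haveI : Module.Flat R M' := Module.Flat.of_linearEquiv (hj.equiv.restrictScalars R).symm
  refine Groth.Agent.LocalCrit.flat_of_mulMap_injective S' ?_
  let g : TensorProduct R (IsLocalRing.maximalIdeal R) M' →+
      TensorProduct R' (IsLocalRing.maximalIdeal R') M' :=
    TensorProduct.liftAddHom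
      { toFun := fun r =>
          { toFun := fun x => (⟨algebraMap R R' r, hm.le (Ideal.mem_map_of_mem _ r.2)⟩ :
              IsLocalRing.maximalIdeal R') ⊗ₜ[R'] x
            map_zero' := TensorProduct.tmul_zero _ _
            map_add' := fun x y => TensorProduct.tmul_add _ _ _ }
        map_zero' := AddMonoidHom.ext fun x => by
          simp only [AddMonoidHom.coe_mk, ZeroHom.coe_mk, AddMonoidHom.zero_apply]
          rw [← TensorProduct.zero_tmul (IsLocalRing.maximalIdeal R') x]
          congr 1
          exact Subtype.ext (by simp)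
        map_add' := fun a b => AddMonoidHom.ext fun x => by
          simp only [AddMonoidHom.coe_mk, ZeroHom.coe_mk, AddMonoidHom.add_apply]
          rw [← TensorProduct.add_tmul]
          congr 1
          exact Subtype.ext (by simp) }
      fun c r x => by
        simp only [AddMonoidHom.coe_mk, ZeroHom.coe_mk]
        rw [← algebraMap_smul R' c x, ← TensorProduct.smul_tmul]
        congr 1
        exact Subtype.ext (by simp [Algebra.smul_def])
  have hg : ∀ r x, g (r ⊗ₜ[R] x) = (⟨algebraMap R R' r, hm.le (Ideal.mem_map_of_mem _ r.2)⟩ :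
      IsLocalRing.maximalIdeal R') ⊗ₜ[R'] x := fun r x => rfl
  have key : ∀ z, Groth.Agent.LocalCrit.mulMap (IsLocalRing.maximalIdeal R') M' (g z) =
      Groth.Agent.LocalCrit.mulMap (IsLocalRing.maximalIdeal R) M' z := fun z => by
    induction z using TensorProduct.induction_on with
    | zero => rw [map_zero, map_zero, map_zero]
    | add x y hx hy => rw [map_add, map_add, map_add, hx, hy]
    | tmul r x => rw [hg, Groth.Agent.LocalCrit.mulMap_tmul, Groth.Agent.LocalCrit.mulMap_tmul, algebraMap_smul]
  have hsurj : Function.Surjective g := by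
    intro z
    induction z using TensorProduct.induction_on with
    | zero => exact ⟨0, map_zero g⟩
    | add x y hx hy =>
      obtain ⟨a, rfl⟩ := hx
      obtain ⟨b, rfl⟩ := hy
      exact ⟨a + b, map_add g a b⟩
    | tmul a x =>
      obtain ⟨a, ha⟩ := a
      have ha' : a ∈ (IsLocalRing.maximalIdeal R).map (algebraMap R R') := hm ▸ ha
      clear key hg
      induction ha' using Submodule.span_induction generalizing x with
      | mem a h =>
        obtain ⟨r, hr, rfl⟩ := h
        exact ⟨(⟨r, hr⟩ : IsLocalRing.maximalIdeal R) ⊗ₜ[R] x, rfl⟩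
      | zero => exact ⟨0, by rw [map_zero, ← TensorProduct.zero_tmul (IsLocalRing.maximalIdeal R') x]; rfl⟩
      | add a b h₁ h₂ iha ihb =>
        obtain ⟨u, hu⟩ := iha x (hm.le h₁)
        obtain ⟨v, hv⟩ := ihb x (hm.le h₂)
        exact ⟨u + v, by rw [map_add, hu, hv, ← TensorProduct.add_tmul]; rfl⟩
      | smul c a h₁ iha =>
        obtain ⟨u, hu⟩ := iha (c • x) (hm.le h₁)
        exact ⟨u, by rw [hu, ← TensorProduct.smul_tmul]; rfl⟩
  intro z w hzw
  obtain ⟨z, rfl⟩ := hsurj z
  obtain ⟨w, rfl⟩ := hsurj w
  rw [key, key] at hzw
  rw [Groth.Agent.LocalCrit.mulMap_injective (IsLocalRing.maximalIdeal R) hzw]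

end Groth.Agent.S6382
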