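import Groth.Statements.S6385
import Groth.Agent.Unibranch.Noether
import Mathlib.RingTheory.NoetherNormalization
import Mathlib.RingTheory.Localization.Away.Basic
import Mathlib.RingTheory.FiniteType

set_option autoImplicit false
universe u
open CAlg Groth.Agent

namespace Groth.Agent.S6385

/-- Let k be a field, S a finite type k-algebra, q a prime of S and x the corresponding point of X =
Spec S. Then there is g ∈ S, g ∉ q, such that dim S_g equals dim_x X — the minimum of dim S_{g'}
over all g' ∉ q — and, writing d for this dimension, a finite injective k-algebra map from the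
polynomial ring k[y_1, ..., y_d] to S_g. -/
theorem result (k S : Type u) [Field k] [CommRing S] [Algebra k S]
    [Algebra.FiniteType k S] (q : Ideal S) [q.IsPrime] :
    ∃ (g : S) (d : ℕ), g ∉ q ∧ ringKrullDim (Localization.Away g) = d ∧
      (∀ g' : S, g' ∉ q → ringKrullDim (Localization.Away g) ≤ ringKrullDim (Localization.Away g')) ∧
      ∃ φ : MvPolynomial (Fin d) k →ₐ[k] Localization.Away g, Function.Injective φ ∧ φ.toRingHom.Finite := by
  classical
  have hex : ∀ g : S, g ∉ q → ∃ d : ℕ, ringKrullDim (Localization.Away g) = d ∧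
      ∃ φ : MvPolynomial (Fin d) k →ₐ[k] Localization.Away g, Function.Injective φ ∧ φ.toRingHom.Finite := by
    intro g hg
    have : Nontrivial (Localization.Away g) := by
      refine ⟨⟨0, 1, fun h => ?_⟩⟩
      obtain ⟨⟨_, n, rfl⟩, hn⟩ := (IsLocalization.eq_iff_exists (Submonoid.powers g) (Localization.Away g) (x := (0 : S)) (y := 1)).mp (by rw [map_zero, map_one]; exact h)
      simp only [mul_zero, mul_one] at hn
      exact hg (‹q.IsPrime›.mem_of_pow_mem n (hn ▸ q.zero_mem))
    have : Algebra.FiniteType S (Localization.Away g) := IsLocalization.finiteType_of_monoid_fg (Submonoid.powers g) _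
    have : Algebra.FiniteType k (Localization.Away g) := Algebra.FiniteType.trans (S := S) inferInstance this
    obtain ⟨s, φ, hi, hf⟩ := exists_finite_inj_algHom_of_fg k (Localization.Away g)
    exact ⟨s, Unibranch.ringKrullDim_eq_of_finite_inj φ hi hf, φ, hi, hf⟩
  have hne : ∃ d : ℕ, ∃ g : S, g ∉ q ∧ ringKrullDim (Localization.Away g) = d := by
    obtain ⟨d, hd, -⟩ := hex 1 (fun h => ‹q.IsPrime›.ne_top ((Ideal.eq_top_iff_one _).mpr h))
    exact ⟨d, 1, fun h => ‹q.IsPrime›.ne_top ((Ideal.eq_top_iff_one _).mpr h), hd⟩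
  obtain ⟨g, hg, hd⟩ := Nat.find_spec hne
  obtain ⟨d', hd', φ⟩ := hex g hg
  refine ⟨g, d', hg, hd', fun g' hg' => ?_, φ⟩
  obtain ⟨e, he, -⟩ := hex g' hg'
  have : Nat.find hne ≤ e := Nat.find_min' hne ⟨g', hg', he⟩
  rw [hd, he]
  exact_mod_cast this

end Groth.Agent.S6385
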