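import Groth.Statements.S6386
import Mathlib.RingTheory.Flat.EquationalCriterion
import Mathlib.Algebra.FreeAlgebra.Cardinality
import Mathlib.Algebra.Algebra.Subalgebra.Directed
import Mathlib.SetTheory.Cardinal.Arithmetic

set_option autoImplicit false
universe u
open CAlg

namespace Groth.Agent.S6386

/-- The key step of its proof: let A be a ring, κ = max(|A|, ℵ₀), and B a flat A-algebra. Then every
A-subalgebra E ⊆ B with at most κ elements lies inside a flat A-subalgebra B' ⊆ B with at most κ
elements. Consequently B is the filtered colimit (union) of its flat A-subalgebras of cardinality at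
most κ. -/
theorem result (A B : Type u) [CommRing A] [CommRing B] [Algebra A B]
    [Module.Flat A B] (E : Subalgebra A B) (hE : Cardinal.mk E ≤ max (Cardinal.mk A) Cardinal.aleph0) :
    ∃ B' : Subalgebra A B, E ≤ B' ∧ Module.Flat A B' ∧ Cardinal.mk B' ≤ max (Cardinal.mk A) Cardinal.aleph0 := by
  classical
  let κ : Cardinal.{u} := max (Cardinal.mk A) Cardinal.aleph0
  have hκ : Cardinal.aleph0 ≤ κ := le_max_right _ _
  have hwit : ∀ L : List (A × B), ∃ Y : Finset B, (∑ i : Fin L.length, (L.get i).1 • (L.get i).2 = 0) →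
      ∃ (k : ℕ) (a : Fin L.length → Fin k → A) (y : Fin k → B), (∀ j, y j ∈ Y) ∧
        (∀ i, (L.get i).2 = ∑ j, a i j • y j) ∧ ∀ j, ∑ i, (L.get i).1 * a i j = 0 := fun L => by
    by_cases h : ∑ i : Fin L.length, (L.get i).1 • (L.get i).2 = 0
    · obtain ⟨k, a, y, h1, h2⟩ := Module.Flat.isTrivialRelation_of_sum_smul_eq_zero h
      exact ⟨Finset.univ.image y, fun _ => ⟨k, a, y, fun j => Finset.mem_image_of_mem y (Finset.mem_univ j), h1, h2⟩⟩
    · exact ⟨∅, fun h' => absurd h' h⟩
  choose Y hY using hwit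
  let step : Subalgebra A B → Subalgebra A B := fun C =>
    Algebra.adjoin A ((C : Set B) ∪ ⋃ L : List (A × C), (Y (L.map fun z => (z.1, (z.2 : B))) : Set B))
  let S : ℕ → Subalgebra A B := fun n => step^[n] E
  have hSs : ∀ n, S (n + 1) = step (S n) := fun n => Function.iterate_succ_apply' step n E
  have hle : ∀ n, S n ≤ S (n + 1) := fun n b hb => by
    rw [hSs]
    exact Algebra.subset_adjoin (Or.inl hb)
  have hmono : Monotone S := monotone_nat_of_le_succ hle
  have hdir : Directed (· ≤ ·) S := hmono.directed_le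
  have hcoe : ((iSup S : Subalgebra A B) : Set B) = ⋃ n, (S n : Set B) := Subalgebra.coe_iSup_of_directed hdir
  have hcard : ∀ n, Cardinal.mk (S n) ≤ κ := fun n => by
    induction n with
    | zero => exact hE
    | succ n ih =>
      rw [hSs]
      refine (Algebra.cardinalMk_adjoin_le A _).trans (max_le (max_le (le_max_left _ _) ?_) hκ)
      refine (Cardinal.mk_union_le _ _).trans (Cardinal.add_le_of_le hκ ih ((Cardinal.mk_iUnion_le _).trans ?_))
      refine (mul_le_mul' ?_ (ciSup_le' fun L => ?_)).trans (Cardinal.mul_eq_self hκ).le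
      · refine (Cardinal.mk_list_le_max _).trans (max_le hκ ?_)
        rw [Cardinal.mk_prod, Cardinal.lift_id, Cardinal.lift_id]
        exact (mul_le_mul' (le_max_left _ _) ih).trans (Cardinal.mul_eq_self hκ).le
      · exact ((Finset.finite_toSet _).lt_aleph0.le).trans hκ
  refine ⟨iSup S, le_iSup_of_le 0 le_rfl, ?_, ?_⟩
  · rw [Module.Flat.iff_forall_isTrivialRelation]
    intro l f x hfx
    have hx : ∀ i, ∃ n, (x i : B) ∈ S n := fun i => Set.mem_iUnion.mp (hcoe ▸ (x i).2)
    choose n hn using hx
    let N := Finset.univ.sup n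
    let L₀ : List (A × S N) := List.ofFn fun i => (f i, ⟨x i, hmono (Finset.le_sup (Finset.mem_univ i)) (hn i)⟩)
    let L := L₀.map fun z => (z.1, (z.2 : B))
    have hLdef : L = List.ofFn fun i => (f i, (x i : B)) := by simp [L, L₀, List.map_ofFn, Function.comp_def]
    have hlen : L.length = l := by simp [hLdef]
    have hget : ∀ i : Fin L.length, L.get i = (f (Fin.cast hlen i), (x (Fin.cast hlen i) : B)) := fun i => by
      simp [hLdef, List.get_eq_getElem]
      exact ⟨rfl, rfl⟩
    have h0 : ∑ i : Fin L.length, (L.get i).1 • (L.get i).2 = 0 := by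
      have := congrArg (fun z : (iSup S : Subalgebra A B) => (z : B)) hfx
      simp only [AddSubmonoidClass.coe_finset_sum, Subalgebra.coe_smul, Subalgebra.coe_zero] at this
      simp only [hget]
      rw [← this]
      exact Fintype.sum_equiv (finCongr hlen) _ _ fun i => rfl
    obtain ⟨k, a, y, hy, h1, h2⟩ := hY L h0
    have hymem : ∀ j, y j ∈ iSup S := fun j => by
      refine (le_iSup S (N + 1)) ?_
      rw [hSs]
      exact Algebra.subset_adjoin (Or.inr (Set.mem_iUnion.mpr ⟨L₀, hy j⟩))
    refine ⟨k, fun i => a (Fin.cast hlen.symm i), fun j => ⟨y j, hymem j⟩, fun i => Subtype.ext ?_, fun j => ?_⟩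
    · have := h1 (Fin.cast hlen.symm i)
      rw [hget] at this
      simpa [AddSubmonoidClass.coe_finset_sum] using this
    · rw [← h2 j]
      refine (Fintype.sum_equiv (finCongr hlen) _ _ fun i => ?_).symm
      rw [hget]
      rfl
  · show Cardinal.mk ((iSup S : Subalgebra A B) : Set B) ≤ κ
    rw [hcoe]
    rw [← Set.iUnion_congr_of_surjective (f := fun n : ULift.{u} ℕ => (S n.down : Set B)) (g := fun n => (S n : Set B)) ULift.down ULift.down_surjective fun n => rfl]
    let T : ULift.{u} ℕ → Set B := fun n => (S n.down : Set B)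
    have hT : ∀ n, Cardinal.mk (T n) ≤ κ := fun n => hcard n.down
    have h1 : Cardinal.mk (⋃ n, T n : Set B) ≤ Cardinal.mk (ULift.{u} ℕ) * ⨆ n, Cardinal.mk (T n) := Cardinal.mk_iUnion_le T
    have h2 : Cardinal.mk (ULift.{u} ℕ) ≤ κ := by simpa using hκ
    have h3 : (⨆ n, Cardinal.mk (T n)) ≤ κ := ciSup_le' hT
    exact h1.trans ((mul_le_mul' h2 h3).trans (Cardinal.mul_eq_self hκ).le)

end Groth.Agent.S6386
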