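import Groth.Statements.S6387
import Groth.Agent.LocalCrit.Criterion
import Mathlib
-- import your own Groth.Agent.* helpers here

set_option autoImplicit false
universe u
open CategoryTheory
open CAlg

namespace Groth.Agent.S6387

open CategoryTheory CategoryTheory.Limits TensorProduct IsLocalRing

theorem flat_iff_restrict {R S : Type u} [CommRing R] [CommRing S] [Algebra R S] (X : ModuleCat.{u} S)
    [Module R X] [IsScalarTower R S X] :
    Module.Flat R ((ModuleCat.restrictScalars (algebraMap R S)).obj X) ↔ Module.Flat R X := by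
  let e : ((ModuleCat.restrictScalars (algebraMap R S)).obj X) ≃ₗ[R] X :=
    { toFun := fun x => x
      invFun := fun x => x
      map_add' := fun _ _ => rfl
      map_smul' := fun r x => by
        rw [RingHom.id_apply, ModuleCat.restrictScalars.smul_def]
        exact algebraMap_smul S r (show X from x)
      left_inv := fun _ => rfl
      right_inv := fun _ => rfl }
  exact ⟨fun _ => Module.Flat.of_linearEquiv e.symm, fun _ => Module.Flat.of_linearEquiv e⟩

/-- One step of the induction. -/
theorem step {R S : Type u} [CommRing R] [CommRing S] [IsLocalRing R] [IsLocalRing S] [IsNoetherianRing R]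
    [IsNoetherianRing S] [Algebra R S] [IsLocalHom (algebraMap R S)]
    {A B P : Type u} [AddCommGroup A] [AddCommGroup B] [AddCommGroup P] [Module R A] [Module R B] [Module R P]
    [Module S A] [Module S B] [Module S P] [IsScalarTower R S A] [IsScalarTower R S B] [IsScalarTower R S P]
    [Module.Finite S B] [Module.Flat R P] (d' : A →ₗ[S] B) (d : B →ₗ[S] P) (hdd : ∀ a, d (d' a) = 0)
    (hex : ∀ x, d x ∈ (maximalIdeal R).map (algebraMap R S) • (⊤ : Submodule S P) →
      ∃ y, x - d' y ∈ (maximalIdeal R).map (algebraMap R S) • (⊤ : Submodule S B)) :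
    LinearMap.ker d = LinearMap.range d' ∧ Module.Flat R (P ⧸ LinearMap.range d) := by
  let N := B ⧸ LinearMap.range d'
  let u : N →ₗ[S] P := (LinearMap.range d').liftQ d (by rintro _ ⟨a, rfl⟩; exact hdd a)
  have hu : Function.Injective ((u.restrictScalars R).lTensor (ResidueField R)) :=
    (LocalCrit.quot_lTensor_injective_iff (maximalIdeal R) (u.restrictScalars R)).2 fun x hx => by
      obtain ⟨x, rfl⟩ := Submodule.Quotient.mk_surjective _ x
      have h1 : d x ∈ (maximalIdeal R).map (algebraMap R S) • (⊤ : Submodule S P) :=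
        LocalCrit.smul_top_le_restrictScalars P (maximalIdeal R) hx
      obtain ⟨y, hy⟩ := hex x h1
      have h2 : (Submodule.Quotient.mk x : N) ∈ (maximalIdeal R).map (algebraMap R S) • (⊤ : Submodule S N) := by
        have h3 : (LinearMap.range d').mkQ (x - d' y) ∈
            ((maximalIdeal R).map (algebraMap R S) • (⊤ : Submodule S B)).map (LinearMap.range d').mkQ :=
          Submodule.mem_map_of_mem hy
        rw [Submodule.map_smul''] at h3
        rw [map_sub, show (LinearMap.range d').mkQ (d' y) = 0 from
          (Submodule.Quotient.mk_eq_zero _).2 (LinearMap.mem_range_self d' y), sub_zero] at h3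
        exact Submodule.smul_mono le_rfl le_top h3
      have h4 : (Submodule.Quotient.mk x : N) ∈
          ((maximalIdeal R).map (algebraMap R S) • (⊤ : Submodule S N)).restrictScalars R := h2
      rwa [Submodule.restrictScalars_map_smul_eq, Submodule.restrictScalars_top] at h4
  obtain ⟨hinj, hflat⟩ := LocalCrit.injective_and_flat_of_residue_injective (S := S) (u.restrictScalars R) hu
  refine ⟨le_antisymm (fun x hx => ?_) (by rintro _ ⟨a, rfl⟩; exact hdd a), ?_⟩
  · exact (Submodule.Quotient.mk_eq_zero _).1 (hinj (show u (Submodule.Quotient.mk x) = u 0 by rw [map_zero]; exact hx))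
  · have he : LinearMap.range (u.restrictScalars R) = (LinearMap.range d).restrictScalars R := by
      ext z
      constructor
      · rintro ⟨w, rfl⟩
        obtain ⟨x, rfl⟩ := Submodule.Quotient.mk_surjective _ w
        exact ⟨x, rfl⟩
      · rintro ⟨x, rfl⟩
        exact ⟨Submodule.Quotient.mk x, rfl⟩
    haveI := hflat
    exact Module.Flat.of_linearEquiv ((Submodule.quotEquivOfEq _ _ he).trans
      (Submodule.Quotient.restrictScalarsEquiv R (LinearMap.range d))).symm

/-- Let R and S be Noetherian local rings, R → S a local ring map, and m the maximal ideal of R. Take a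
bounded complex F_e → … → F_1 → F_0 of finitely generated S-modules, zero to the left of F_e (a
chain complex C with C_j = 0 for j > e) such that every F_j is flat over R and the complex 0 →
F_e/mF_e → … → F_0/mF_0 (C tensored over S with S/mS) is exact at F_e, …, F_1. Then 0 → F_e → … →
F_0 is exact at F_e, …, F_1 and the cokernel of F_1 → F_0 (the homology of C in degree 0) is flat
over R. -/
theorem result {R S : Type u} [CommRing R] [CommRing S]
    [IsLocalRing R] [IsLocalRing S] [IsNoetherianRing R] [IsNoetherianRing S] [Algebra R S]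
    [IsLocalHom (algebraMap R S)] (C : ChainComplex (ModuleCat.{u} S) ℕ) (e : ℕ)
    (hzero : ∀ j, e < j → Limits.IsZero (C.X j)) (hfin : ∀ j, Module.Finite S (C.X j))
    (hflat : ∀ j, Module.Flat R ((ModuleCat.restrictScalars (algebraMap R S)).obj (C.X j)))
    (hex : ∀ j, 1 ≤ j → j ≤ e →
      (((MonoidalCategory.tensorLeft
          (ModuleCat.of S (S ⧸ (IsLocalRing.maximalIdeal R).map (algebraMap R S)))).mapHomologicalComplex
          (ComplexShape.down ℕ)).obj C).ExactAt j) :
    (∀ j, 1 ≤ j → j ≤ e → C.ExactAt j) ∧
      Module.Flat R ((ModuleCat.restrictScalars (algebraMap R S)).obj (C.homology 0)) := by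
  classical
  letI instM : ∀ j, Module R (C.X j) := fun j => Module.compHom (C.X j) (algebraMap R S)
  haveI : ∀ j, IsScalarTower R S (C.X j) := fun j => IsScalarTower.of_algebraMap_smul fun _ _ => rfl
  haveI : ∀ j, Module.Flat R (C.X j) := fun j => (flat_iff_restrict (C.X j)).1 (hflat j)
  let I := (IsLocalRing.maximalIdeal R).map (algebraMap R S)
  let d : ∀ j, C.X (j + 1) →ₗ[S] C.X j := fun j => (C.d (j + 1) j).hom
  have hdd : ∀ j a, d j (d (j + 1) a) = 0 := fun j a => ConcreteCategory.congr_hom (C.d_comp_d (j + 2) (j + 1) j) a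
  have hex' : ∀ j, j < e → ∀ x, d j x ∈ I • (⊤ : Submodule S (C.X j)) →
      ∃ y, x - d (j + 1) y ∈ I • (⊤ : Submodule S (C.X (j + 1))) := by
    intro j hj x hx
    have h := hex (j + 1) (by omega) hj
    rw [HomologicalComplex.exactAt_iff' _ (j + 2) (j + 1) j (by simp) (by simp), ShortComplex.moduleCat_exact_iff] at h
    obtain ⟨w, hw⟩ := h ((1 : S ⧸ I) ⊗ₜ[S] x) (by
      change (1 : S ⧸ I) ⊗ₜ[S] d j x = 0
      exact (LocalCrit.one_tmul_eq_zero_iff I (d j x)).2 hx)
    obtain ⟨y, rfl⟩ := LocalCrit.exists_one_tmul I w
    refine ⟨y, (LocalCrit.one_tmul_eq_zero_iff I _).1 ?_⟩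
    rw [TensorProduct.tmul_sub, sub_eq_zero]
    exact hw.symm
  have hsub : ∀ j, e < j → Subsingleton (C.X j) := fun j hj => ModuleCat.subsingleton_of_isZero (hzero j hj)
  have main : ∀ k j, j + k = e →
      (∀ i, j < i → i ≤ e → C.ExactAt i) ∧ Module.Flat R (C.X j ⧸ LinearMap.range (d j)) := by
    intro k
    induction k with
    | zero =>
      intro j hj
      refine ⟨fun i hi hi' => absurd hi' (by omega), ?_⟩
      haveI := hsub (j + 1) (by omega)
      have : LinearMap.range (d j) = ⊥ := by
        rw [Submodule.eq_bot_iff]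
        rintro _ ⟨x, rfl⟩
        rw [Subsingleton.elim x 0, map_zero]
      exact Module.Flat.of_linearEquiv ((Submodule.quotEquivOfEqBot _ this).restrictScalars R)
    | succ k ih =>
      intro j hj
      obtain ⟨h1, -⟩ := ih (j + 1) (by omega)
      haveI := hfin (j + 1)
      obtain ⟨hker, hfl⟩ := step (R := R) (d (j + 1)) (d j) (hdd j) (hex' j (by omega))
      refine ⟨fun i hi hi' => ?_, hfl⟩
      rcases Nat.eq_or_lt_of_le hi with h | h
      · subst h
        rw [HomologicalComplex.exactAt_iff' _ (j + 2) (j + 1) j (by simp) (by simp), ShortComplex.moduleCat_exact_iff]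
        intro x hx
        have : x ∈ LinearMap.ker (d j) := hx
        rw [hker] at this
        exact this
      · exact h1 i h hi'
  obtain ⟨hexact, hflat0⟩ := main e 0 (by omega)
  refine ⟨fun j h1 h2 => hexact j (by omega) h2, ?_⟩
  letI : Module R (C.homology 0) := Module.compHom (C.homology 0) (algebraMap R S)
  haveI : IsScalarTower R S (C.homology 0) := IsScalarTower.of_algebraMap_smul fun _ _ => rfl
  refine (flat_iff_restrict (C.homology 0)).2 ?_
  let iso : C.homology 0 ≅ ModuleCat.of S (C.X 0 ⧸ LinearMap.range (d 0)) :=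
    C.isoHomologyι₀ ≪≫ (C.opcyclesIsCokernel 1 0 (by simp)).coconePointUniqueUpToIso
      (ModuleCat.cokernelIsColimit (C.d 1 0))
  exact Module.Flat.of_linearEquiv (iso.toLinearEquiv.restrictScalars R)

end Groth.Agent.S6387
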