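import Groth.Statements.S6388
import Mathlib

set_option autoImplicit false
universe u
open CAlg TensorProduct

namespace Groth.Agent.S6388

/-- Let f : M → N and g : M → M' be maps of R-modules and let N' be their pushout, realised as the
quotient of M' × N by the submodule of elements (g x, -f x). Then g dominates f — for every module Q
the kernel of f ⊗ id_Q is contained in the kernel of g ⊗ id_Q — if and only if the canonical map M'
→ N' is universally injective. -/
theorem result (R : Type u) [CommRing R] {M N M' : Type u}
    [AddCommGroup M] [Module R M] [AddCommGroup N] [Module R N] [AddCommGroup M'] [Module R M']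
    (f : M →ₗ[R] N) (g : M →ₗ[R] M') :
    (∀ (Q : Type u) [AddCommGroup Q] [Module R Q], LinearMap.ker (f.rTensor Q) ≤ LinearMap.ker (g.rTensor Q)) ↔
      CAlgX.UniversallyInjective R
        ((LinearMap.range (g.prod (-f))).mkQ ∘ₗ LinearMap.inl R M' N) := by
  have key : ∀ (Q : Type u) [AddCommGroup Q] [Module R Q] (w : M ⊗[R] Q),
      TensorProduct.prodLeft R R M' N Q ((g.prod (-f)).rTensor Q w) = (g.rTensor Q w, -(f.rTensor Q w)) := by
    intro Q _ _ w
    induction w using TensorProduct.induction_on with
    | zero => simp only [map_zero, neg_zero]; rfl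
    | tmul m q => simp [neg_tmul]
    | add a b ha hb => simp only [map_add, ha, hb, Prod.mk_add_mk, neg_add]
  have key2 : ∀ (Q : Type u) [AddCommGroup Q] [Module R Q] (z : M' ⊗[R] Q),
      TensorProduct.prodLeft R R M' N Q ((LinearMap.inl R M' N).rTensor Q z) = (z, 0) := by
    intro Q _ _ z
    induction z using TensorProduct.induction_on with
    | zero => exact map_zero _
    | tmul m q => simp
    | add a b ha hb => simp only [map_add, ha, hb, Prod.mk_add_mk, add_zero]
  have hker : ∀ (Q : Type u) [AddCommGroup Q] [Module R Q] (z : M' ⊗[R] Q),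
      ((LinearMap.range (g.prod (-f))).mkQ ∘ₗ LinearMap.inl R M' N).rTensor Q z = 0 ↔
        ∃ w, g.rTensor Q w = z ∧ f.rTensor Q w = 0 := by
    intro Q _ _ z
    rw [LinearMap.rTensor_comp_apply,
      (rTensor_exact Q (f := g.prod (-f)) (LinearMap.exact_map_mkQ_range _) (Submodule.mkQ_surjective _))]
    constructor
    · rintro ⟨w, hw⟩
      have h := congrArg (TensorProduct.prodLeft R R M' N Q) hw
      rw [key, key2, Prod.mk.injEq, neg_eq_zero] at h
      exact ⟨w, h⟩
    · rintro ⟨w, hw1, hw2⟩
      exact ⟨w, (TensorProduct.prodLeft R R M' N Q).injective (by rw [key, key2, hw1, hw2, neg_zero])⟩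
  constructor
  · intro h Q _ _
    rw [injective_iff_map_eq_zero]
    intro z hz
    obtain ⟨w, rfl, hw⟩ := (hker Q z).1 hz
    exact h Q hw
  · intro h Q _ _ w hw
    exact (injective_iff_map_eq_zero _).1 (h Q) _ ((hker Q _).2 ⟨w, rfl, hw⟩)

end Groth.Agent.S6388
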