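import Groth.Statements.S6390
import Groth.Agent.MLMod.Devissage

set_option autoImplicit false
universe u
open scoped Classical
open CAlg Groth.Agent

namespace Groth.Agent.S6390

/-- An R-module M is a direct sum of countably generated modules if and only if it admits a Kaplansky
dévissage, i.e. an increasing family of submodules (M_s) indexed by a well-ordered set S with M_s =
⋃_{t<s} M_t at non-successor indices (so the first term is 0), ⋃_s M_s = M, and, whenever t is the
successor of s, M_s a direct summand of M_t with M_t/M_s countably generated. -/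
theorem result (R : Type u) [CommRing R] (M : Type u)
    [AddCommGroup M] [Module R M] :
    (∃ (ι : Type u) (N : ι → Submodule R M), DirectSum.IsInternal N ∧ ∀ i, CAlg.IsCountablyGenerated R (N i)) ↔
      ∃ (S : Type u) (_ : LinearOrder S) (_ : WellFoundedLT S) (Mf : S → Submodule R M), Monotone Mf ∧
        (∀ s : S, Order.IsSuccPrelimit s → Mf s = ⨆ t : {t : S // t < s}, Mf t.1) ∧
        (⨆ s, Mf s) = ⊤ ∧
        (∀ s t : S, s ⋖ t → ∃ C : Submodule R M, Mf s ⊓ C = ⊥ ∧ Mf s ⊔ C = Mf t ∧
          CAlg.IsCountablyGenerated R (↥(Mf t) ⧸ Submodule.comap (Mf t).subtype (Mf s))) := by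
  classical
  constructor
  · rintro ⟨ι, N, hN, hc⟩
    exact MLMod.exists_devissage_of_isInternal N hN.submodule_iSupIndep hN.submodule_iSup_eq_top hc
  · rintro ⟨S, _, _, Mf, hmono, hlim, htop, hsucc⟩
    obtain ⟨ι, N, hind, hsup, hc⟩ := MLMod.isInternal_of_devissage Mf hmono hlim htop hsucc
    refine ⟨ι, N, ?_, hc⟩
    convert! DirectSum.isInternal_submodule_of_iSupIndep_of_iSup_eq_top hind hsup

end Groth.Agent.S6390
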