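import Groth.Statements.S6392
import Groth.Agent.MLMod.Countable
import Groth.Agent.Kaplansky.Summand

set_option autoImplicit false
universe u
open CAlg Groth.Agent TensorProduct

namespace Groth.Agent.S6392

/-- Suppose M is the colimit of finitely presented R-modules G_i along a directed system over a nonempty
directed index set (transition maps f_ij), and M is both Mittag-Leffler and countably generated.
Then some countable directed subset I' of the indices already computes M: the canonical map from the
colimit of the G_i with i ∈ I' to M is bijective. -/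
theorem result (R : Type u) [CommRing R]
    {ι : Type u} [Preorder ι] [IsDirected ι (· ≤ ·)] [Nonempty ι] [DecidableEq ι] (G : ι → Type u)
    [∀ i, AddCommGroup (G i)] [∀ i, Module R (G i)] [∀ i, Module.FinitePresentation R (G i)]
    (f : ∀ i j, i ≤ j → G i →ₗ[R] G j) [DirectedSystem G fun i j h => f i j h]
    (hML : CAlg.IsMittagLeffler R (Module.DirectLimit G f))
    (hc : CAlg.IsCountablyGenerated R (Module.DirectLimit G f)) :
    ∃ I' : Set ι, I'.Countable ∧ DirectedOn (· ≤ ·) I' ∧
      Function.Bijective (Module.DirectLimit.lift R I' (fun i : I' => G i.1)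
        (fun (i j : I') (h : i ≤ j) => f i.1 j.1 h)
        (fun i : I' => Module.DirectLimit.of R ι G f i.1)
        (fun (i j : I') (h : i ≤ j) (x : G i.1) => Module.DirectLimit.of_f)) := by
  classical
  have key : ∀ i, ∃ (j : ι) (hij : i ≤ j), ∀ x : G i, Module.DirectLimit.of R ι G f i x = 0 → f i j hij x = 0 := by
    intro i
    obtain ⟨⟨j, hij⟩, hdom⟩ := MLMod.exists_dominating hML (Module.DirectLimit.of R ι G f i)
      (J := {j // i ≤ j}) (fun j => f i j.1 j.2) fun Z _ _ x hx => by
        obtain ⟨j, hij, hj⟩ := MLMod.exists_of_rTensor_eq_zero f x hx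
        exact ⟨⟨j, hij⟩, hj⟩
    refine ⟨j, hij, fun x hx => ?_⟩
    have h0 : (Module.DirectLimit.of R ι G f i).rTensor R (x ⊗ₜ 1) = 0 := by
      rw [LinearMap.rTensor_tmul, hx, TensorProduct.zero_tmul]
    simpa using congrArg (TensorProduct.rid R (G j)) (hdom R _ h0)
  choose j hij hj using key
  obtain ⟨s, hs, hspan⟩ := hc
  obtain ⟨m, hm⟩ := (hs.insert (0 : Module.DirectLimit G f)).exists_eq_range ⟨0, Set.mem_insert _ _⟩
  choose v y hy using fun n => Module.DirectLimit.exists_of (m n)
  choose ub hub₁ hub₂ using fun a b : ι => exists_ge_ge a b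
  let i₀ : ι := Classical.arbitrary ι
  let seq : ℕ → ι := fun n => Nat.rec i₀ (fun k i => ub (j i) (v k)) n
  have hstep : ∀ n, seq n ≤ seq (n + 1) := fun n => (hij _).trans (hub₁ _ _)
  have hmono : Monotone seq := monotone_nat_of_le_succ hstep
  refine ⟨Set.range seq, Set.countable_range _, ?_, ?_⟩
  · rintro _ ⟨a, rfl⟩ _ ⟨b, rfl⟩
    exact ⟨seq (max a b), ⟨_, rfl⟩, hmono (le_max_left _ _), hmono (le_max_right _ _)⟩
  haveI : Nonempty (Set.range seq) := ⟨⟨seq 0, 0, rfl⟩⟩
  haveI : IsDirectedOrder (Set.range seq) := ⟨fun ⟨_, a, ha⟩ ⟨_, b, hb⟩ =>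
    ⟨⟨seq (max a b), _, rfl⟩, ha ▸ hmono (le_max_left a b), hb ▸ hmono (le_max_right a b)⟩⟩
  constructor
  · rw [injective_iff_map_eq_zero]
    intro z hz
    induction z using Module.DirectLimit.induction_on with
    | ih i x =>
      rw [Module.DirectLimit.lift_of] at hz
      obtain ⟨_, n, rfl⟩ := i
      have h1 : f (seq n) (seq (n + 1)) (hstep n) x = 0 := by
        rw [← DirectedSystem.map_map (f := fun i j h => f i j h) (hij (seq n)) (hub₁ _ _) x, hj _ x hz, map_zero]
      rw [← Module.DirectLimit.of_f (G := fun i : Set.range seq => G i.1)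
        (f := fun (i j : Set.range seq) (h : i ≤ j) => f i.1 j.1 h)
        (j := (⟨seq (n + 1), n + 1, rfl⟩ : Set.range seq)) (hij := hstep n)]
      exact (congrArg _ h1).trans (map_zero _)
  · rw [← LinearMap.range_eq_top, eq_top_iff, ← hspan, Submodule.span_le]
    intro x hx
    obtain ⟨n, rfl⟩ : x ∈ Set.range m := hm ▸ Set.mem_insert_of_mem _ hx
    refine ⟨Module.DirectLimit.of R (Set.range seq) _ _ ⟨seq (n + 1), n + 1, rfl⟩
      (f (v n) (seq (n + 1)) (hub₂ _ _) (y n)), ?_⟩
    rw [Module.DirectLimit.lift_of, Module.DirectLimit.of_f, hy]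

end Groth.Agent.S6392
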