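import Groth.Statements.S6393
import Groth.Agent.FibCatRep.Cart

set_option autoImplicit false
open CategoryTheory
universe v₂ u₂ v u
open FibCat

namespace Groth.Agent.S6393

set_option backward.isDefEq.respectTransparency false
set_option linter.style.haveILetI false
open CategoryTheory.Limits

/-- Given `p : S ⥤ C`, saying that p is fibred in groupoids is equivalent to saying that p is a fibred
functor whose fibre category over every object of C is a groupoid. -/
theorem result {C : Type u} [Category.{v} C] {S : Type u₂} [Category.{v₂} S] (p : S ⥤ C) :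
    FibCat.IsFibGrpd p ↔ (p.IsFibered ∧ ∀ U : C, IsGroupoid (p.Fiber U)) := by
  constructor
  · intro h
    refine ⟨Groth.Agent.FibCatRep.isFibered_of_grpd h, fun U => ⟨fun {a b} φ => ?_⟩⟩
    have e := Groth.Agent.FibCatRep.map_of_fiber φ
    haveI : IsIso (p.map φ.1) := by rw [e]; infer_instance
    haveI := Groth.Agent.FibCatRep.isIso_of_map h φ.1
    refine ⟨Groth.Agent.FibCatRep.fibHom b a (inv φ.1) (Groth.Agent.FibCatRep.map_inv_of_eqToHom _ e), ?_, ?_⟩
    · exact Subtype.ext (IsIso.hom_inv_id φ.1)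
    · exact Subtype.ext (IsIso.inv_hom_id φ.1)
  · rintro ⟨hf, hg⟩
    refine ⟨fun {x V} f => ?_, fun {y x} φ => ?_⟩
    · obtain ⟨y, ψ, hy, hψ, -⟩ := Groth.Agent.FibCatRep.exists_cart_lift (p := p) (x := x) f
      exact ⟨y, ψ, IsHomLift.of_fac' p f ψ hy rfl (hψ.trans (by simp))⟩
    · obtain ⟨y', ψ, hy', hψ, cψ⟩ := Groth.Agent.FibCatRep.exists_cart_lift (p := p) (x := x) (p.map φ)
      obtain ⟨χ, ⟨hχ, hc⟩, -⟩ := Groth.Agent.FibCatRep.existsUnique_of_cart cψ φ (eqToHom hy'.symm) (by simp [hψ])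
      haveI := hg (p.obj y)
      have hiso := IsGroupoid.all_isIso (C := p.Fiber (p.obj y))
        (Groth.Agent.FibCatRep.fibHom ⟨y, rfl⟩ ⟨y', hy'⟩ χ hχ)
      haveI : IsIso χ := inferInstanceAs (IsIso (Functor.Fiber.fiberInclusion.map
        (Groth.Agent.FibCatRep.fibHom (p := p) (U := p.obj y) ⟨y, rfl⟩ ⟨y', hy'⟩ χ hχ)))
      have := Groth.Agent.FibCatRep.cart_comp (Groth.Agent.FibCatRep.cart_of_isIso (p := p) χ) cψ
      rw [hc] at this
      exact this

end Groth.Agent.S6393
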