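import Groth.Statements.S6394
import Groth.Agent.FibCatRep.Cart

set_option autoImplicit false
open CategoryTheory
universe v u
open FibCat

namespace Groth.Agent.S6394

set_option backward.isDefEq.respectTransparency false
set_option linter.style.haveILetI false
open CategoryTheory.Limits

/-- If `F : 𝒳 ⟶ 𝒴` is an equivalence in the 2-category of categories over `C`, then `𝒳` is fibred over
`C` if and only if `𝒴` is. -/
theorem result {C : Type u} [Category.{v} C] {𝒳 𝒴 : BasedCategory.{v, max u v} C} (F : 𝒳 ⥤ᵇ 𝒴) (hF : FibCat.IsEquivOver F) :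
    𝒳.p.IsFibered ↔ 𝒴.p.IsFibered := by
  have key : ∀ {𝒳 𝒴 : BasedCategory.{v, max u v} C} (F : 𝒳 ⥤ᵇ 𝒴), FibCat.IsEquivOver F →
      𝒳.p.IsFibered → 𝒴.p.IsFibered := by
    intro 𝒳 𝒴 F hF hX
    obtain ⟨heq, hess⟩ := Groth.Agent.FibCatRep.isEquivOver_data hF
    haveI := heq
    refine Groth.Agent.FibCatRep.isFibered_of_lifts fun η V f => ?_
    obtain ⟨ξ, e, hξ, he⟩ := hess η
    obtain ⟨y, φ, hy, hφ, cφ⟩ := Groth.Agent.FibCatRep.exists_cart_lift (p := 𝒳.p) (x := ξ)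
      (f ≫ eqToHom (hξ.symm.trans (F.w_obj ξ)))
    refine ⟨F.obj y, F.map φ ≫ e.hom, (F.w_obj y).trans hy, by
      simp [Groth.Agent.FibCatRep.map_map, he, hφ], ?_⟩
    refine Groth.Agent.FibCatRep.cart_comp (Groth.Agent.FibCatRep.cart_mk _ fun {z} ψ g hg => ?_)
      (Groth.Agent.FibCatRep.cart_of_isIso e.hom)
    obtain ⟨w, d, hw, hd⟩ := hess z
    obtain ⟨ψ₀, hψ₀⟩ := F.toFunctor.map_surjective (d.hom ≫ ψ)
    have hp := congrArg 𝒴.p.map hψ₀
    rw [Groth.Agent.FibCatRep.map_map, Functor.map_comp, hd, ← hg, Groth.Agent.FibCatRep.map_map] at hp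
    let g₀ : 𝒳.p.obj w ⟶ 𝒳.p.obj y :=
      eqToHom ((F.w_obj w).symm.trans hw) ≫ g ≫ eqToHom (F.w_obj y)
    obtain ⟨χ, ⟨hχ, hc⟩, hu⟩ := Groth.Agent.FibCatRep.existsUnique_of_cart cφ ψ₀ g₀ (by
      rw [← cancel_epi (eqToHom (F.w_obj w)), ← cancel_mono (eqToHom (F.w_obj ξ).symm)]
      simp only [Category.assoc] at hp ⊢
      rw [hp]
      simp [g₀])
    refine ⟨d.inv ≫ F.map χ, ⟨?_, ?_⟩, fun χ' hχ' => ?_⟩
    · have hdi : 𝒴.p.map d.inv = eqToHom hw.symm := by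
        rw [← IsIso.Iso.inv_hom d]
        exact Groth.Agent.FibCatRep.map_inv_of_eqToHom _ hd
      simp [Groth.Agent.FibCatRep.map_map, hdi, hχ, g₀]
    · rw [Category.assoc, ← Functor.map_comp, hc, hψ₀, d.inv_hom_id_assoc]
    · obtain ⟨χ₀, hχ₀⟩ := F.toFunctor.map_surjective (d.hom ≫ χ')
      have h0 : χ₀ = χ := by
        refine hu χ₀ ⟨?_, ?_⟩
        · have := congrArg 𝒴.p.map hχ₀
          rw [Groth.Agent.FibCatRep.map_map, Functor.map_comp, hd, hχ'.1] at this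
          rw [← cancel_epi (eqToHom (F.w_obj w)), ← cancel_mono (eqToHom (F.w_obj y).symm)]
          simp only [Category.assoc] at this ⊢
          rw [this]
          simp [g₀]
        · apply F.toFunctor.map_injective
          rw [Functor.map_comp, hχ₀, hψ₀, Category.assoc, hχ'.2]
      rw [← h0, hχ₀, d.inv_hom_id_assoc]
  refine ⟨key F hF, ?_⟩
  obtain ⟨G, h₁, h₂⟩ := hF
  exact key G ⟨F, h₂, h₁⟩

end Groth.Agent.S6394
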