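import Groth.Statements.S6395
import Groth.Agent.FibCatRep.Cart

set_option autoImplicit false
open CategoryTheory
universe v u
open FibCat

namespace Groth.Agent.S6395

set_option backward.isDefEq.respectTransparency false
set_option linter.style.haveILetI false
open CategoryTheory.Limits

/-- An equivalence `F : 𝒳 ⟶ 𝒴` in the 2-category of categories over `C` maps strongly cartesian
morphisms to strongly cartesian morphisms. -/
theorem result {C : Type u} [Category.{v} C] {𝒳 𝒴 : BasedCategory.{v, max u v} C} (F : 𝒳 ⥤ᵇ 𝒴) (hF : FibCat.IsEquivOver F)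
    {R S : C} (f : R ⟶ S) {a b : 𝒳.obj} (φ : a ⟶ b) [𝒳.p.IsStronglyCartesian f φ] :
    𝒴.p.IsStronglyCartesian f (F.map φ) := by
  open Groth.Agent.FibCatRep in
  obtain ⟨heq, hess⟩ := isEquivOver_data hF
  haveI := heq
  open Groth.Agent.FibCatRep in
  have cφ : Cart 𝒳.p φ := cart_of_lift f φ inferInstance
  refine Groth.Agent.FibCatRep.lift_of_cart f _ (Groth.Agent.FibCatRep.cart_mk _ fun {z} ψ g hg => ?_)
  open Groth.Agent.FibCatRep in
  obtain ⟨w, d, hw, hd⟩ := hess z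
  obtain ⟨ψ₀, hψ₀⟩ := F.toFunctor.map_surjective (d.hom ≫ ψ)
  have hp := congrArg 𝒴.p.map hψ₀
  rw [Groth.Agent.FibCatRep.map_map, Functor.map_comp, hd, ← hg, Groth.Agent.FibCatRep.map_map] at hp
  let g₀ : 𝒳.p.obj w ⟶ 𝒳.p.obj a :=
    eqToHom ((F.w_obj w).symm.trans hw) ≫ g ≫ eqToHom (F.w_obj a)
  obtain ⟨χ, ⟨hχ, hc⟩, hu⟩ := Groth.Agent.FibCatRep.existsUnique_of_cart cφ ψ₀ g₀ (by
    rw [← cancel_epi (eqToHom (F.w_obj w)), ← cancel_mono (eqToHom (F.w_obj b).symm)]
    simp only [Category.assoc] at hp ⊢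
    rw [hp]
    simp [g₀])
  refine ⟨d.inv ≫ F.map χ, ⟨?_, ?_⟩, fun χ' hχ' => ?_⟩
  · have hdi : 𝒴.p.map d.inv = eqToHom hw.symm := by
      rw [← IsIso.Iso.inv_hom d]
      exact Groth.Agent.FibCatRep.map_inv_of_eqToHom _ hd
    simp [Groth.Agent.FibCatRep.map_map, hdi, hχ, g₀]
  · rw [Category.assoc, ← Functor.map_comp, hc, hψ₀, d.inv_hom_id_assoc]
  · obtain ⟨χ₀, hχ₀⟩ := F.toFunctor.map_surjective (d.hom ≫ χ')
    have h0 : χ₀ = χ := by
      refine hu χ₀ ⟨?_, ?_⟩
      · have := congrArg 𝒴.p.map hχ₀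
        rw [Groth.Agent.FibCatRep.map_map, Functor.map_comp, hd, hχ'.1] at this
        rw [← cancel_epi (eqToHom (F.w_obj w)), ← cancel_mono (eqToHom (F.w_obj a).symm)]
        simp only [Category.assoc] at this ⊢
        rw [this]
        simp [g₀]
      · apply F.toFunctor.map_injective
        rw [Functor.map_comp, hχ₀, hψ₀, Category.assoc, hχ'.2]
    rw [← h0, hχ₀, d.inv_hom_id_assoc]

end Groth.Agent.S6395
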