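import Groth.Statements.S6398
import Groth.Agent.FibCatRep.Basic
import Mathlib.CategoryTheory.Functor.FullyFaithful

set_option autoImplicit false
open CategoryTheory
universe v u
open FibCat

namespace Groth.Agent.S6398

set_option backward.isDefEq.respectTransparency false

section

open Groth.Agent.FibCatRep Limits

variable {C : Type u} [Category.{v} C] {𝒳 𝒴 : BasedCategory.{v, max u v} C}

lemma map_eq_of_fiberHom {U : C} {a b : 𝒳.p.Fiber U} (φ : a ⟶ b) :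
    𝒳.p.map φ.1 = eqToHom (a.2.trans b.2.symm) := by
  have := φ.2
  exact (IsHomLift.fac' 𝒳.p (𝟙 U) φ.1).trans (by simp)

/-- A morphism over an identity as a morphism of a fibre. -/
def fiberHom {U : C} (a b : 𝒳.p.Fiber U) (φ : a.1 ⟶ b.1)
    (h : 𝒳.p.map φ = eqToHom (a.2.trans b.2.symm)) : a ⟶ b :=
  ⟨φ, IsHomLift.of_fac' 𝒳.p _ _ a.2 b.2 (h.trans (by simp))⟩

variable (G : 𝒳 ⥤ᵇ 𝒴)

lemma faithful_fiber [G.toFunctor.Faithful] (U : C) : (fiberFunctor G U).Faithful :=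
  ⟨fun h => Subtype.ext (G.toFunctor.map_injective (congrArg Subtype.val h))⟩

lemma full_fiber [G.toFunctor.Full] (U : C) : (fiberFunctor G U).Full := ⟨fun {a b} ψ => by
  obtain ⟨φ, hφ⟩ := G.toFunctor.map_surjective (X := a.1) (Y := b.1) ψ.1
  have h := map_eq_of_fiberHom ψ
  rw [← hφ, map_map] at h
  refine ⟨fiberHom a b φ ?_, Subtype.ext hφ⟩
  rw [← cancel_epi (eqToHom (G.w_obj a.1)), ← cancel_mono (eqToHom (G.w_obj b.1).symm)]
  simpa using h⟩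

lemma essSurj_fiber (h𝒳 : FibCat.IsFibGrpd 𝒳.p) [G.toFunctor.EssSurj] (U : C) :
    (fiberFunctor G U).EssSurj := ⟨fun y => by
  let e := G.toFunctor.objObjPreimageIso y.1
  let x := G.toFunctor.objPreimage y.1
  let f : U ⟶ 𝒳.p.obj x := eqToHom y.2.symm ≫ 𝒴.p.map e.inv ≫ eqToHom (G.w_obj x)
  obtain ⟨x', φ, hx', hφ⟩ := exists_lift h𝒳 (x := x) f
  have : IsIso (𝒳.p.map φ) := by rw [hφ]; infer_instance
  have := isIso_of_map h𝒳 φ
  let ψ : G.obj x' ⟶ y.1 := G.map φ ≫ e.hom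
  have hψ : 𝒴.p.map ψ = eqToHom ((G.w_obj x').trans (hx'.trans y.2.symm)) := by
    dsimp only [ψ]
    rw [Functor.map_comp, map_map, hφ]
    simp [f, x]
  have : IsIso ψ := by dsimp [ψ]; infer_instance
  have hinv : 𝒴.p.map (inv ψ) = eqToHom ((G.w_obj x').trans (hx'.trans y.2.symm)).symm := by
    rw [Functor.map_inv]
    apply IsIso.inv_eq_of_hom_inv_id
    rw [hψ]
    simp
  refine ⟨⟨x', hx'⟩, ⟨⟨fiberHom ((fiberFunctor G U).obj ⟨x', hx'⟩) y ψ hψ,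
    fiberHom y ((fiberFunctor G U).obj ⟨x', hx'⟩) (inv ψ) hinv, ?_, ?_⟩⟩⟩
  · exact Subtype.ext (IsIso.hom_inv_id ψ)
  · exact Subtype.ext (IsIso.inv_hom_id ψ)⟩

lemma exists_vertical (h𝒳 : FibCat.IsFibGrpd 𝒳.p) {a b : 𝒳.obj}
    (f : 𝒳.p.obj a ⟶ 𝒳.p.obj b) :
    ∃ (c : 𝒳.obj) (φ : c ⟶ b) (h : 𝒳.p.obj c = 𝒳.p.obj a), 𝒳.p.map φ = eqToHom h ≫ f :=
  exists_lift h𝒳 f

lemma faithful_of_fiber (h𝒳 : FibCat.IsFibGrpd 𝒳.p) (h𝒴 : FibCat.IsFibGrpd 𝒴.p)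
    [∀ U, (fiberFunctor G U).Faithful] : G.toFunctor.Faithful := ⟨fun {a b} φ φ' h => by
  have hp : 𝒳.p.map φ = 𝒳.p.map φ' := by
    have h2 := congrArg 𝒴.p.map h
    rw [map_map, map_map] at h2
    exact (cancel_mono (eqToHom (G.w_obj b).symm)).1 ((cancel_epi (eqToHom (G.w_obj a))).1 h2)
  obtain ⟨c, ψ, hc, hψ⟩ := exists_lift h𝒳 (x := b) (𝒳.p.map φ)
  obtain ⟨χ, ⟨hχ, hχc⟩, -⟩ := existsUnique_cart h𝒳 ψ φ (eqToHom hc.symm) (by simp [hψ])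
  obtain ⟨χ', ⟨hχ', hχc'⟩, -⟩ := existsUnique_cart h𝒳 ψ φ' (eqToHom hc.symm) (by simp [hψ, hp])
  have hG : G.map χ = G.map χ' := cancel h𝒴 (G.map ψ) (by simp [map_map, hχ, hχ'])
    (by rw [← Functor.map_comp, ← Functor.map_comp, hχc, hχc']; exact h)
  have := (fiberFunctor G (𝒳.p.obj a)).map_injective
    (a₁ := fiberHom ⟨a, rfl⟩ ⟨c, hc⟩ χ hχ) (a₂ := fiberHom ⟨a, rfl⟩ ⟨c, hc⟩ χ' hχ') (Subtype.ext hG)
  rw [← hχc, ← hχc', show χ = χ' from congrArg Subtype.val this]⟩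

lemma full_of_fiber (h𝒳 : FibCat.IsFibGrpd 𝒳.p) (h𝒴 : FibCat.IsFibGrpd 𝒴.p)
    [∀ U, (fiberFunctor G U).Full] : G.toFunctor.Full := ⟨fun {a b} ψ => by
  obtain ⟨c, φ, hc, hφ⟩ := exists_lift h𝒳 (x := b)
    (eqToHom (G.w_obj a).symm ≫ 𝒴.p.map ψ ≫ eqToHom (G.w_obj b))
  have hac : 𝒴.p.obj (G.obj a) = 𝒴.p.obj (G.obj c) := (G.w_obj a).trans (hc.symm.trans (G.w_obj c).symm)
  obtain ⟨χ, ⟨hχ, hχc⟩, -⟩ := existsUnique_cart h𝒴 (G.map φ) ψ (eqToHom hac) (by simp [map_map, hφ])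
  obtain ⟨χ₀, hχ₀⟩ := (fiberFunctor G (𝒳.p.obj a)).map_surjective
    (fiberHom ((fiberFunctor G _).obj ⟨a, rfl⟩) ((fiberFunctor G _).obj ⟨c, hc⟩) χ hχ)
  refine ⟨χ₀.1 ≫ φ, ?_⟩
  have h1 : G.map χ₀.1 = χ := congrArg Subtype.val hχ₀
  exact (G.toFunctor.map_comp _ _).trans ((congrArg (· ≫ G.map φ) h1).trans hχc)⟩

lemma essSurj_of_fiber [∀ U, (fiberFunctor G U).EssSurj] : G.toFunctor.EssSurj := ⟨fun y =>
  ⟨((fiberFunctor G (𝒴.p.obj y)).objPreimage ⟨y, rfl⟩).1,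
    ⟨Functor.Fiber.fiberInclusion.mapIso ((fiberFunctor G (𝒴.p.obj y)).objObjPreimageIso ⟨y, rfl⟩)⟩⟩⟩

end

/-- A functor `G` over `C` between categories fibred in groupoids is an equivalence of categories if and
only if each induced functor of fibre categories `𝒳_U ⥤ 𝒴_U` is an equivalence of categories. -/
theorem result {C : Type u} [Category.{v} C] {𝒳 𝒴 : BasedCategory.{v, max u v} C} (G : 𝒳 ⥤ᵇ 𝒴) (h𝒳 : FibCat.IsFibGrpd 𝒳.p) (h𝒴 : FibCat.IsFibGrpd 𝒴.p) :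
    G.toFunctor.IsEquivalence ↔ ∀ U : C, (FibCat.fiberFunctor G U).IsEquivalence := by
  constructor
  · intro h U
    have := faithful_fiber G U
    have := full_fiber G U
    have := essSurj_fiber G h𝒳 U
    exact { }
  · intro h
    have := faithful_of_fiber G h𝒳 h𝒴
    have := full_of_fiber G h𝒳 h𝒴
    have := essSurj_of_fiber G
    exact { }

end Groth.Agent.S6398
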