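import Groth.Statements.S6399
import Groth.Agent.FibCatRep.Cart

set_option autoImplicit false
open CategoryTheory
universe v u
open FibCat

namespace Groth.Agent.S6399

set_option backward.isDefEq.respectTransparency false
set_option linter.style.haveILetI false
open CategoryTheory.Limits

/-- A functor `G : 𝒳 ⟶ 𝒴` over `C` between categories fibred in groupoids is fully faithful if and only
if the diagonal `𝒳 ⟶ 𝒳 ×_𝒴 𝒳` is an equivalence over `C`. -/
theorem result {C : Type u} [Category.{v} C] {𝒳 𝒴 : BasedCategory.{v, max u v} C} (G : 𝒳 ⥤ᵇ 𝒴) (h𝒳 : FibCat.IsFibGrpd 𝒳.p) (h𝒴 : FibCat.IsFibGrpd 𝒴.p) :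
    (G.toFunctor.Full ∧ G.toFunctor.Faithful) ↔ FibCat.IsEquivOver (FibCat.diag G) := by
  constructor
  · rintro ⟨hfull, hfaith⟩
    haveI := hfull
    haveI := hfaith
    haveI : (FibCat.diag G).toFunctor.Faithful := ⟨fun {a b} f g h => by
      exact congrArg (fun m => m.hom.fst) h⟩
    haveI : (FibCat.diag G).toFunctor.Full := ⟨fun {a b} m => by
      have hw : G.map m.hom.fst ≫ (Iso.refl _).hom = (Iso.refl _).hom ≫ G.map m.hom.snd := m.hom.w
      have h : m.hom.fst = m.hom.snd := G.toFunctor.map_injective (by simpa using hw)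
      exact ⟨m.hom.fst, ObjectProperty.hom_ext _ (CategoricalPullback.hom_ext rfl h)⟩⟩
    refine Groth.Agent.FibCatRep.isEquivOver_of_fullyFaithful _ fun o => ?_
    obtain ⟨h, he⟩ := Groth.Agent.FibCatRep.map_iso_hom o
    let β : o.obj.fst ≅ o.obj.snd := G.toFunctor.preimageIso o.obj.iso
    have hβ : G.map β.hom = o.obj.iso.hom := by simp [β]
    refine ⟨o.obj.fst, (FibCat.fpProp G G).isoMk (CategoricalPullback.mkIso (Iso.refl _) β ?_), rfl, ?_⟩
    · show G.map (𝟙 o.obj.fst) ≫ o.obj.iso.hom = (Iso.refl (G.obj o.obj.fst)).hom ≫ G.map β.hom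
      simp [hβ]
    · exact 𝒳.p.map_id _
  · intro hd
    obtain ⟨heq, hess⟩ := Groth.Agent.FibCatRep.isEquivOver_data hd
    haveI := heq
    have hfaith : G.toFunctor.Faithful := ⟨fun {a b} φ φ' h => by
      let m : (FibCat.diag G).obj a ⟶ (FibCat.diag G).obj b := ObjectProperty.homMk
        { fst := φ
          snd := φ'
          w := by
            show G.map φ ≫ (Iso.refl _).hom = (Iso.refl _).hom ≫ G.map φ'
            simp [h] }
      obtain ⟨n, hn⟩ := (FibCat.diag G).toFunctor.map_surjective m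
      have h1 : n = φ := congrArg (fun m => m.hom.fst) hn
      have h2 : n = φ' := congrArg (fun m => m.hom.snd) hn
      exact h1.symm.trans h2⟩
    refine ⟨⟨fun {a b} ψ => ?_⟩, hfaith⟩
    obtain ⟨c, φ, hc, hφ⟩ := Groth.Agent.FibCatRep.exists_lift h𝒳 (x := b)
      (eqToHom (G.w_obj a).symm ≫ 𝒴.p.map ψ ≫ eqToHom (G.w_obj b))
    have hac : 𝒴.p.obj (G.obj a) = 𝒴.p.obj (G.obj c) :=
      (G.w_obj a).trans (hc.symm.trans (G.w_obj c).symm)
    obtain ⟨χ, ⟨hχ, hχc⟩, -⟩ := Groth.Agent.FibCatRep.existsUnique_cart h𝒴 (G.map φ) ψ (eqToHom hac)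
      (by simp [Groth.Agent.FibCatRep.map_map, hφ])
    haveI : IsIso (𝒴.p.map χ) := by rw [hχ]; infer_instance
    haveI := Groth.Agent.FibCatRep.isIso_of_map h𝒴 χ
    obtain ⟨x, e, -, -⟩ := hess ⟨⟨a, c, asIso χ⟩, Groth.Agent.FibCatRep.fpProp_of_map G G _ hac hχ⟩
    let e₁ : x ≅ a := (FibCat.fpFst G G).toFunctor.mapIso e
    have hw : G.map e.hom.hom.fst ≫ χ = (Iso.refl (G.obj x)).hom ≫ G.map e.hom.hom.snd := e.hom.hom.w
    refine ⟨e₁.inv ≫ e.hom.hom.snd ≫ φ, ?_⟩
    rw [Iso.refl_hom, Category.id_comp] at hw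
    have h1 : G.map e₁.inv ≫ G.map e.hom.hom.fst = 𝟙 (G.obj a) := by
      rw [← Functor.map_comp]
      exact (congrArg G.map e₁.inv_hom_id).trans (G.toFunctor.map_id a)
    simp [← hw, reassoc_of% h1, hχc]

end Groth.Agent.S6399
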