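import Groth.Statements.S6402
import Groth.Agent.FibCatRep.Cart

set_option autoImplicit false
open CategoryTheory
universe v u
open FibCat

namespace Groth.Agent.S6402

set_option backward.isDefEq.respectTransparency false
set_option linter.style.haveILetI false
open CategoryTheory.Limits

/-- For a functor `F : 𝒳 ⟶ 𝒴` of fibred categories over `C` preserving strongly cartesian morphisms, the
relative inertia `I_{𝒳/𝒴}` (pairs `(x, α)` with `α` an automorphism of `x` sent to the identity by
`F`) is equivalent over `C` to `𝒳 ×_{Δ, 𝒳 ×_𝒴 𝒳, Δ} 𝒳`, by a functor over `C` whose composite with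
either projection is the forgetful functor `(x, α) ↦ x`. (Only the two projections of the
equivalence are pinned here; its 2-cell component at `(x, α)` is `(α, 𝟙)`.) -/
theorem result {C : Type u} [Category.{v} C] {𝒳 𝒴 : BasedCategory.{v, max u v} C} [𝒳.p.IsFibered] [𝒴.p.IsFibered] (F : 𝒳 ⥤ᵇ 𝒴) (hF : FibCat.PreservesStronglyCartesian F) :
    ∃ E : FibCat.inertia F ⥤ᵇ FibCat.fp (FibCat.diag F) (FibCat.diag F),
      FibCat.IsEquivOver E ∧ BasedFunctor.comp E (FibCat.fpFst _ _) = FibCat.inertiaToBase F ∧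
        BasedFunctor.comp E (FibCat.fpSnd _ _) = FibCat.inertiaToBase F := by
  let E : FibCat.inertia F ⥤ᵇ FibCat.fp (FibCat.diag F) (FibCat.diag F) :=
    { toFunctor :=
        { obj := fun z =>
            ⟨⟨z.pt, z.pt, (FibCat.fpProp F F).isoMk (CategoricalPullback.mkIso z.aut (Iso.refl z.pt) (by
                show F.map z.aut.hom ≫ (Iso.refl _).hom = (Iso.refl _).hom ≫ F.map (𝟙 z.pt)
                simp [z.map_aut]))⟩,
              Groth.Agent.FibCatRep.fpProp_of_map (FibCat.diag F) (FibCat.diag F) _ rfl (by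
                show 𝒳.p.map z.aut.hom = 𝟙 _
                have h := Groth.Agent.FibCatRep.map_map F z.aut.hom
                rw [z.map_aut, 𝒴.p.map_id] at h
                rw [← cancel_epi (eqToHom (F.w_obj z.pt)), ← cancel_mono (eqToHom (F.w_obj z.pt).symm)]
                simp only [Category.assoc] at h ⊢
                rw [← h]
                simp)⟩
          map := fun {z z'} m => ObjectProperty.homMk
            { fst := m.hom
              snd := m.hom
              w := ObjectProperty.hom_ext _ (CategoricalPullback.hom_ext m.comm.symm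
                ((Category.comp_id _).trans (Category.id_comp _).symm)) }
          map_id := fun z => rfl
          map_comp := fun m m' => rfl }
      w := rfl }
  refine ⟨E, ?_, rfl, rfl⟩
  haveI : E.toFunctor.Faithful := ⟨fun {z z'} m m' h =>
    FibCat.InertiaObj.hom_ext (congrArg (fun k => k.hom.fst) h)⟩
  haveI : E.toFunctor.Full := ⟨fun {z z'} m => by
    have h1 : m.hom.fst ≫ z'.aut.hom = z.aut.hom ≫ m.hom.snd := congrArg (fun k => k.hom.fst) m.hom.w
    have h2 : m.hom.fst ≫ 𝟙 z'.pt = 𝟙 z.pt ≫ m.hom.snd := congrArg (fun k => k.hom.snd) m.hom.w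
    have h3 : m.hom.fst = m.hom.snd := (Category.comp_id _).symm.trans (h2.trans (Category.id_comp _))
    refine ⟨⟨m.hom.fst, by rw [h1, ← h3]⟩, ObjectProperty.hom_ext _ (CategoricalPullback.hom_ext rfl h3)⟩⟩
  refine Groth.Agent.FibCatRep.isEquivOver_of_fullyFaithful E fun o => ?_
  let q := CategoricalPullback.π₁ F.toFunctor F.toFunctor
  let r := CategoricalPullback.π₂ F.toFunctor F.toFunctor
  let f : o.obj.fst ≅ o.obj.snd := q.mapIso ((FibCat.fpProp F F).ι.mapIso o.obj.iso)
  let g : o.obj.fst ≅ o.obj.snd := r.mapIso ((FibCat.fpProp F F).ι.mapIso o.obj.iso)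
  have hw : F.map f.hom ≫ (Iso.refl (F.obj o.obj.snd)).hom = (Iso.refl (F.obj o.obj.fst)).hom ≫ F.map g.hom :=
    o.obj.iso.hom.hom.w
  simp only [Iso.refl_hom, Category.comp_id, Category.id_comp] at hw
  let z : FibCat.InertiaObj F := ⟨o.obj.fst, f ≪≫ g.symm, by
    show F.map (f.hom ≫ g.inv) = 𝟙 _
    rw [Functor.map_comp, hw, ← Functor.map_comp, g.hom_inv_id, Functor.map_id]⟩
  refine ⟨z, (FibCat.fpProp _ _).isoMk (CategoricalPullback.mkIso (Iso.refl _) g ?_), rfl, ?_⟩
  · apply ObjectProperty.hom_ext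
    apply CategoricalPullback.hom_ext
    · show 𝟙 o.obj.fst ≫ f.hom = (f.hom ≫ g.inv) ≫ g.hom
      simp
    · show 𝟙 o.obj.fst ≫ g.hom = 𝟙 o.obj.fst ≫ g.hom
      rfl
  · exact 𝒳.p.map_id _

end Groth.Agent.S6402
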