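import Groth.Statements.S6405
import Groth.Agent.FibCatRep.Inertia

set_option autoImplicit false
open CategoryTheory
universe v u
open FibCat

namespace Groth.Agent.S6405

set_option backward.isDefEq.respectTransparency false
set_option linter.style.haveILetI false
open CategoryTheory.Limits Groth.Agent.FibCatRep

/-- (2) ⇒ (1): if `𝒳` is fibred in groupoids over `C` and the canonical functor `I_𝒳 ⟶ 𝒳` from its
inertia is an equivalence over `C`, then `𝒳` is fibred in setoids. (The published statement is an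
equivalence; this row states only that the inertia condition implies that `𝒳` is fibred in setoids.) -/
theorem result {C : Type u} [Category.{v} C] {𝒳 : BasedCategory.{v, max u v} C} (h𝒳 : FibCat.IsFibGrpd 𝒳.p)
    (h : FibCat.IsEquivOver (FibCat.inertiaToBase (FibCat.toSelf 𝒳))) : FibCat.IsFibSetoid 𝒳.p := by
  obtain ⟨heq, -⟩ := isEquivOver_data h
  haveI := heq
  refine ⟨h𝒳, fun U a b => ⟨fun φ φ' => Subtype.ext ?_⟩⟩
  haveI : IsIso (𝒳.p.map φ'.1) := by rw [map_of_fiber φ']; infer_instance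
  haveI := isIso_of_map h𝒳 φ'.1
  let α : a.1 ≅ a.1 := asIso φ'.1 ≪≫ (asIso φ'.1).symm
  haveI : IsIso (𝒳.p.map φ.1) := by rw [map_of_fiber φ]; infer_instance
  haveI := isIso_of_map h𝒳 φ.1
  let β : a.1 ≅ a.1 := asIso φ.1 ≪≫ (asIso φ'.1).symm
  have hβ : (FibCat.toSelf 𝒳).map β.hom = 𝟙 _ := by
    show 𝒳.p.map (φ.1 ≫ inv φ'.1) = 𝟙 _
    rw [Functor.map_comp, Functor.map_inv, IsIso.comp_inv_eq, Category.id_comp, map_of_fiber φ, map_of_fiber φ']
  let z₁ : FibCat.InertiaObj (FibCat.toSelf 𝒳) := ⟨a.1, Iso.refl _, (FibCat.toSelf 𝒳).map_id _⟩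
  let z₂ : FibCat.InertiaObj (FibCat.toSelf 𝒳) := ⟨a.1, β, hβ⟩
  obtain ⟨m, hm⟩ := (FibCat.inertiaToBase (FibCat.toSelf 𝒳)).toFunctor.map_surjective
    (X := z₁) (Y := z₂) (𝟙 a.1)
  have h1 : m.hom = 𝟙 a.1 := hm
  have h2 : 𝟙 a.1 ≫ m.hom = m.hom ≫ φ.1 ≫ inv φ'.1 := m.comm
  rw [h1, Category.comp_id, Category.id_comp] at h2
  exact (IsIso.comp_inv_eq φ'.1).1 h2.symm |>.trans (Category.id_comp _)

end Groth.Agent.S6405
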