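import Groth.Statements.S6406
import Groth.Agent.FibCatRep.Cart

set_option autoImplicit false
open CategoryTheory
universe v u
open FibCat

namespace Groth.Agent.S6406

set_option backward.isDefEq.respectTransparency false
set_option linter.style.haveILetI false
open CategoryTheory.Limits

/-- A category fibred in setoids over `C` admits an equivalence over `C` to a category fibred in sets
over `C`. (The target is taken in the same universes as the slices `C/U`; its morphism sets are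
essentially as small as those of `C`.) -/
theorem result {C : Type u} [Category.{v} C] {𝒳 : BasedCategory.{v, max u v} C} (h𝒳 : FibCat.IsFibSetoid 𝒳.p) :
    ∃ (𝒴 : BasedCategory.{v, max u v} C) (F : 𝒳 ⥤ᵇ 𝒴), FibCat.IsFibSet 𝒴.p ∧ FibCat.IsEquivOver F := by
  open Groth.Agent.FibCatRep in
  have hg := h𝒳.1
  open Groth.Agent.FibCatRep in
  have thin : ∀ {a b : 𝒳.obj} (φ φ' : a ⟶ b), 𝒳.p.map φ = 𝒳.p.map φ' → φ = φ' := fun {a b} φ φ' h => by
    obtain ⟨c, ψ, hc, hψ⟩ := exists_lift hg (x := b) (𝒳.p.map φ)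
    obtain ⟨χ, ⟨hχ, c₁⟩, -⟩ := existsUnique_cart hg ψ φ (eqToHom hc.symm) (by simp [hψ])
    obtain ⟨χ', ⟨hχ', c₂⟩, -⟩ := existsUnique_cart hg ψ φ' (eqToHom hc.symm) (by simp [hψ, h])
    haveI := h𝒳.2 (𝒳.p.obj a)
    have h1 : fibHom (p := 𝒳.p) ⟨a, rfl⟩ ⟨c, hc⟩ χ hχ = fibHom ⟨a, rfl⟩ ⟨c, hc⟩ χ' hχ' := Subsingleton.elim _ _
    rw [← c₁, ← c₂, show χ = χ' from congrArg Subtype.val h1]
  let s : Setoid 𝒳.obj :=
    { r := fun a b => ∃ (φ : a ⟶ b) (h : 𝒳.p.obj a = 𝒳.p.obj b), 𝒳.p.map φ = eqToHom h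
      iseqv := ⟨fun a => ⟨𝟙 a, rfl, 𝒳.p.map_id a⟩, fun {a b} ⟨φ, h, e⟩ => by
          haveI : IsIso (𝒳.p.map φ) := by rw [e]; infer_instance
          haveI := Groth.Agent.FibCatRep.isIso_of_map hg φ
          exact ⟨inv φ, h.symm, Groth.Agent.FibCatRep.map_inv_of_eqToHom φ e⟩,
        fun {a b c} ⟨φ, h, e⟩ ⟨ψ, h', e'⟩ => ⟨φ ≫ ψ, h.trans h', by simp [e, e']⟩⟩ }
  let pr : Quotient s → C := Quotient.lift 𝒳.p.obj (fun a b ⟨φ, h, _⟩ => h)
  let rep : Quotient s → 𝒳.obj := Quotient.out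
  have hrep : ∀ q, 𝒳.p.obj (rep q) = pr q := fun q =>
    (show pr (Quotient.mk s (rep q)) = pr q by rw [Quotient.out_eq])
  let P : ∀ q q' : Quotient s, (pr q ⟶ pr q') → Prop := fun q q' f =>
    ∃ φ : rep q ⟶ rep q', 𝒳.p.map φ = eqToHom (hrep q) ≫ f ≫ eqToHom (hrep q').symm
  letI cat : Category.{v} (Quotient s) :=
    { Hom := fun q q' => { f : pr q ⟶ pr q' // P q q' f }
      id := fun q => ⟨𝟙 _, 𝟙 _, by simp⟩
      comp := fun f g => ⟨f.1 ≫ g.1, by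
        obtain ⟨φ, hφ⟩ := f.2
        obtain ⟨ψ, hψ⟩ := g.2
        exact ⟨φ ≫ ψ, by simp [hφ, hψ]⟩⟩
      id_comp := fun f => Subtype.ext (Category.id_comp _)
      comp_id := fun f => Subtype.ext (Category.comp_id _)
      assoc := fun f g h => Subtype.ext (Category.assoc _ _ _) }
  let 𝒴 : BasedCategory.{v, max u v} C := BasedCategory.ofFunctor
    ({ obj := pr, map := fun f => f.1 } : Quotient s ⥤ C)
  have hqa : ∀ a : 𝒳.obj, ∃ (φ : rep (Quotient.mk s a) ⟶ a) (h : 𝒳.p.obj (rep (Quotient.mk s a)) = 𝒳.p.obj a),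
      𝒳.p.map φ = eqToHom h := fun a => Quotient.exact (Quotient.out_eq (Quotient.mk s a))
  have hqa' : ∀ a : 𝒳.obj, ∃ (φ : a ⟶ rep (Quotient.mk s a)) (h : 𝒳.p.obj a = 𝒳.p.obj (rep (Quotient.mk s a))),
      𝒳.p.map φ = eqToHom h := fun a => Quotient.exact (Quotient.out_eq (Quotient.mk s a)).symm
  have hmap : ∀ {a b : 𝒳.obj} (φ : a ⟶ b), P (Quotient.mk s a) (Quotient.mk s b) (𝒳.p.map φ) := fun {a b} φ => by
    obtain ⟨r, hr, er⟩ := hqa a
    obtain ⟨r', hr', er'⟩ := hqa' b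
    refine ⟨r ≫ φ ≫ r', ?_⟩
    rw [Functor.map_comp, Functor.map_comp, er, er']
  let F : 𝒳 ⥤ᵇ 𝒴 :=
    { toFunctor :=
        { obj := fun a => Quotient.mk s a
          map := fun φ => ⟨𝒳.p.map φ, hmap φ⟩
          map_id := fun a => Subtype.ext (𝒳.p.map_id a)
          map_comp := fun φ ψ => Subtype.ext (𝒳.p.map_comp φ ψ) }
      w := rfl }
  haveI : F.toFunctor.Faithful := ⟨fun {a b} φ φ' h => thin φ φ' (congrArg Subtype.val h)⟩
  haveI : F.toFunctor.Full := ⟨fun {a b} f => by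
    obtain ⟨φ, hφ⟩ := f.2
    obtain ⟨r, hr, er⟩ := hqa' a
    obtain ⟨r', hr', er'⟩ := hqa b
    refine ⟨r ≫ φ ≫ r', Subtype.ext ?_⟩
    show 𝒳.p.map (r ≫ φ ≫ r') = f.1
    rw [Functor.map_comp, Functor.map_comp, er, er', hφ]
    simp⟩
  refine ⟨𝒴, F, ⟨Groth.Agent.FibCatRep.isFibGrpd_mk (fun {q V} f => ?_) (fun {q'' q' q} φ ψ g hg' => ?_), ?_⟩,
    Groth.Agent.FibCatRep.isEquivOver_of_fullyFaithful F fun η => ?_⟩
  · obtain ⟨y, φ, hy, hφ⟩ := Groth.Agent.FibCatRep.exists_lift hg (x := rep q) (f ≫ eqToHom (hrep q).symm)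
    obtain ⟨r, hr, er⟩ := hqa y
    refine ⟨Quotient.mk s y, ⟨eqToHom hy ≫ f, r ≫ φ, ?_⟩, hy, rfl⟩
    rw [Functor.map_comp, er, hφ]
    simp
  · obtain ⟨φ₀, hφ₀⟩ := φ.2
    obtain ⟨ψ₀, hψ₀⟩ := ψ.2
    have hgg : g ≫ φ.1 = ψ.1 := hg'
    obtain ⟨χ, ⟨hχ, -⟩, -⟩ := Groth.Agent.FibCatRep.existsUnique_cart hg φ₀ ψ₀
      (eqToHom (hrep q'') ≫ g ≫ eqToHom (hrep q').symm) (by
        rw [hφ₀, hψ₀, ← hgg]
        simp)
    exact ⟨⟨g, χ, hχ⟩, ⟨rfl, Subtype.ext hgg⟩, fun χ' h' => Subtype.ext h'.1⟩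
  · intro U
    have hp : ∀ {a b : 𝒴.p.Fiber U} (m : a ⟶ b), m.1.1 = eqToHom (a.2.trans b.2.symm) := fun m =>
      Groth.Agent.FibCatRep.map_of_fiber m
    exact
      { subsingleton := fun a b => ⟨fun m m' => Subtype.ext (Subtype.ext ((hp m).trans (hp m').symm))⟩
        eq_of_hom := fun {a b} m => Subtype.ext (by
          obtain ⟨χ, hχ⟩ := m.1.2
          rw [← Quotient.out_eq a.1, ← Quotient.out_eq b.1]
          refine Quotient.sound ⟨χ, (hrep _).trans ((a.2.trans b.2.symm).trans (hrep _).symm), ?_⟩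
          rw [hχ, hp m]
          simp) }
  · refine ⟨rep η, eqToIso (Quotient.out_eq η), hrep η, ?_⟩
    show 𝒴.p.map (eqToHom (Quotient.out_eq η : (F.obj (rep η)) = η)) = _
    rw [eqToHom_map]

end Groth.Agent.S6406
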