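import Groth.Statements.S6408
import Groth.Agent.FibCatRep.Inertia

set_option autoImplicit false
open CategoryTheory
universe v u
open FibCat

namespace Groth.Agent.S6408

set_option backward.isDefEq.respectTransparency false
set_option linter.style.haveILetI false
open CategoryTheory.Limits Groth.Agent.FibCatRep

/-- Between categories fibred in sets over `C` the only 2-morphisms over `C` are identities. -/
theorem result {C : Type u} [Category.{v} C] {𝒳 𝒴 : BasedCategory.{v, max u v} C} (h𝒳 : FibCat.IsFibSet 𝒳.p) (h𝒴 : FibCat.IsFibSet 𝒴.p) {F G : 𝒳 ⥤ᵇ 𝒴} (α : F ⟶ G) :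
    ∃ h : F = G, α = eqToHom h := by
  have hhom : ∀ a : 𝒳.obj, ∃ h : F.obj a = G.obj a, α.toNatTrans.app a = eqToHom h := fun a => by
    haveI := h𝒴.2 (𝒳.p.obj a)
    let A : 𝒴.p.Fiber (𝒳.p.obj a) := ⟨F.obj a, F.w_obj a⟩
    let B : 𝒴.p.Fiber (𝒳.p.obj a) := ⟨G.obj a, G.w_obj a⟩
    let m : A ⟶ B := fibHom A B (α.toNatTrans.app a) (map_app α a)
    have e := IsDiscrete.eq_of_hom m
    refine ⟨congrArg Subtype.val e, ?_⟩
    have h1 : m = eqToHom e := Subsingleton.elim _ _
    refine (congrArg Subtype.val h1).trans ?_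
    exact (Functor.Fiber.fiberInclusion : 𝒴.p.Fiber (𝒳.p.obj a) ⥤ _).map (eqToHom e) |> fun _ =>
      eqToHom_map Functor.Fiber.fiberInclusion e
  choose ho hα using hhom
  have hFG : F = G := by
    obtain ⟨F₀, hF⟩ := F
    obtain ⟨G₀, hG⟩ := G
    have : F₀ = G₀ := CategoryTheory.Functor.ext ho (fun a b φ => by
      have := α.toNatTrans.naturality φ
      rw [hα, hα] at this
      rw [← Category.assoc, ← this]
      simp)
    subst this
    rfl
  refine ⟨hFG, ?_⟩
  subst hFG
  ext a
  rw [hα]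
  rfl

end Groth.Agent.S6408
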