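import Groth.Statements.S6414
import Groth.Agent.FibCatRep.Inertia

set_option autoImplicit false
open CategoryTheory
universe v₁ u₁ v₂ u₂ v₃ u₃
open FibCat

namespace Groth.Agent.S6414

set_option backward.isDefEq.respectTransparency false
set_option linter.style.haveILetI false
open CategoryTheory.Limits Groth.Agent.FibCatRep

/-- A morphism that is strongly cartesian with respect to `F : 𝒜 ⥤ ℬ` and whose image is strongly
cartesian with respect to `G : ℬ ⥤ 𝒞` is strongly cartesian with respect to `F ⋙ G`. -/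
theorem result {𝒜 : Type u₁} [Category.{v₁} 𝒜] {ℬ : Type u₂} [Category.{v₂} ℬ] {𝒞 : Type u₃} [Category.{v₃} 𝒞] (F : 𝒜 ⥤ ℬ) (G : ℬ ⥤ 𝒞) {x y : 𝒜} (φ : x ⟶ y)
    [F.IsStronglyCartesian (F.map φ) φ] [G.IsStronglyCartesian (G.map (F.map φ)) (F.map φ)] :
    (F ⋙ G).IsStronglyCartesian ((F ⋙ G).map φ) φ := by
  refine Groth.Agent.FibCatRep.cart_mk (p := F ⋙ G) φ fun {z} ψ g hg => ?_
  obtain ⟨χ₀, ⟨hχ₀, hc₀⟩, hu₀⟩ := existsUnique_of_cart (p := G) (φ := F.map φ) ‹G.IsStronglyCartesian (G.map (F.map φ)) (F.map φ)›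
    (F.map ψ) g hg
  obtain ⟨χ, ⟨hχ, hc⟩, hu⟩ := existsUnique_of_cart (p := F) (φ := φ) ‹F.IsStronglyCartesian (F.map φ) φ› ψ χ₀ hc₀
  refine ⟨χ, ⟨by show G.map (F.map χ) = g; rw [hχ, hχ₀], hc⟩, fun χ' h' => hu χ' ⟨?_, h'.2⟩⟩
  exact hu₀ _ ⟨h'.1, by rw [← F.map_comp, h'.2]⟩

end Groth.Agent.S6414
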