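import Groth.Statements.S6416
import Groth.Agent.FibCatRep.Inertia

set_option autoImplicit false
open CategoryTheory
universe v₁ u₁ v₂ u₂ v₃ u₃
open FibCat

namespace Groth.Agent.S6416

set_option backward.isDefEq.respectTransparency false
set_option linter.style.haveILetI false
open CategoryTheory.Limits Groth.Agent.FibCatRep

/-- The composite of two functors fibred in groupoids is fibred in groupoids. -/
theorem result {𝒜 : Type u₁} [Category.{v₁} 𝒜] {ℬ : Type u₂} [Category.{v₂} ℬ] {𝒞 : Type u₃} [Category.{v₃} 𝒞] (F : 𝒜 ⥤ ℬ) (G : ℬ ⥤ 𝒞) (hF : FibCat.IsFibGrpd F) (hG : FibCat.IsFibGrpd G) : FibCat.IsFibGrpd (F ⋙ G) := by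
  refine isFibGrpd_mk (p := F ⋙ G) (fun {x V} f => ?_) (fun {z y x} φ ψ g hg => ?_)
  · obtain ⟨b, β, hb, hβ⟩ := exists_lift hG (x := F.obj x) f
    obtain ⟨a, φ, ha, hφ⟩ := exists_lift hF (x := x) β
    refine ⟨a, φ, (congrArg G.obj ha).trans hb, ?_⟩
    show G.map (F.map φ) = _
    rw [hφ, G.map_comp, hβ, eqToHom_map]
    simp
  · obtain ⟨χ₀, ⟨hχ₀, hc₀⟩, hu₀⟩ := existsUnique_cart hG (F.map φ) (F.map ψ) g hg
    obtain ⟨χ, ⟨hχ, hc⟩, hu⟩ := existsUnique_cart hF φ ψ χ₀ hc₀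
    refine ⟨χ, ⟨by show G.map (F.map χ) = g; rw [hχ, hχ₀], hc⟩, fun χ' h' => hu χ' ⟨?_, h'.2⟩⟩
    exact hu₀ _ ⟨h'.1, by rw [← F.map_comp, h'.2]⟩

end Groth.Agent.S6416
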