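import Groth.Statements.S6418
import Groth.Agent.FibOver.Basic

set_option autoImplicit false
open CategoryTheory
universe v₁ u₁ v₂ u₂
open FibCat

namespace Groth.Agent.S6418

/-- If `p' : 𝒮 ⥤ C/U` composed with the forgetful functor `C/U ⥤ C` is a fibred category, then so is
`p'`. -/
theorem result {𝒮 : Type u₁} [Category.{v₁} 𝒮] {C : Type u₂} [Category.{v₂} C] {U : C} (p' : 𝒮 ⥤ Over U) [(p' ⋙ Over.forget U).IsFibered] : p'.IsFibered := by
  refine Functor.IsFibered.of_exists_isStronglyCartesian fun a R f => ?_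
  obtain ⟨b, φ, hφ⟩ := IsPreFibered.exists_isCartesian (p' ⋙ Over.forget U)
    (S := (p'.obj a).left) rfl f.left
  haveI := hφ
  haveI := Groth.Agent.FibOver.exists_map_eq p' f φ
  obtain rfl := IsHomLift.domain_eq p' f φ
  obtain rfl := IsHomLift.eq_of_isHomLift p' f φ
  haveI : (p' ⋙ Over.forget U).IsStronglyCartesian ((p' ⋙ Over.forget U).map φ) φ := by
    have : (p' ⋙ Over.forget U).IsCartesian ((p' ⋙ Over.forget U).map φ) φ := hφ
    infer_instance
  exact ⟨b, φ, Groth.Agent.FibOver.isStronglyCartesian_of_comp_forget p' φ⟩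

end Groth.Agent.S6418
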