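import Groth.Statements.S6421


set_option autoImplicit false
open CategoryTheory CategoryTheory.Limits
universe v u
open FibCat

namespace Groth.Agent.S6421

/-- For a 2-commutative morphism of cospans of categories whose outer functors `X ⥤ A`, `Y ⥤ B` are
fully faithful and whose middle functor `Z ⥤ C` is faithful, the induced functor `X ×_Z Y ⥤ A ×_C B`
is fully faithful. -/
theorem result {X Y Z A B C : Type u} [Category.{v} X] [Category.{v} Y] [Category.{v} Z] [Category.{v} A] [Category.{v} B] [Category.{v} C] {H : X ⥤ Z} {I : Y ⥤ Z} {F : A ⥤ C} {G : B ⥤ C} (ψ : CatCospanTransform H I F G) [ψ.left.Full] [ψ.left.Faithful] [ψ.right.Full] [ψ.right.Faithful] [ψ.base.Faithful] :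
    (FibCat.categoricalPullbackMap ψ).Full ∧ (FibCat.categoricalPullbackMap ψ).Faithful := by
  have key : ∀ {a b : CategoricalPullback H I}
      (f : (FibCat.categoricalPullbackMap ψ).obj a ⟶ (FibCat.categoricalPullbackMap ψ).obj b),
      H.map (ψ.left.preimage f.fst) ≫ b.iso.hom = a.iso.hom ≫ I.map (ψ.right.preimage f.snd) := by
    intro a b f
    apply ψ.base.map_injective
    let f1 : ψ.left.obj a.fst ⟶ ψ.left.obj b.fst := f.fst
    let f2 : ψ.right.obj a.snd ⟶ ψ.right.obj b.snd := f.snd
    have hw : F.map f1 ≫ (ψ.squareLeft.iso.inv.app b.fst ≫ ψ.base.map b.iso.hom ≫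
        ψ.squareRight.iso.hom.app b.snd) = (ψ.squareLeft.iso.inv.app a.fst ≫
        ψ.base.map a.iso.hom ≫ ψ.squareRight.iso.hom.app a.snd) ≫ G.map f2 := by
      have h := f.w
      simp [FibCat.categoricalPullbackMap] at h
      exact h
    change ψ.base.map (H.map (ψ.left.preimage f1) ≫ b.iso.hom) =
      ψ.base.map (a.iso.hom ≫ I.map (ψ.right.preimage f2))
    rw [← ψ.left.map_preimage f1, ← ψ.right.map_preimage f2] at hw
    generalize ψ.left.preimage f1 = u at hw ⊢
    generalize ψ.right.preimage f2 = v at hw ⊢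
    have nH := ψ.squareLeft.iso.inv.naturality u
    have nI := ψ.squareRight.iso.hom.naturality v
    simp only [Functor.comp_map] at nH nI
    rw [reassoc_of% nH, Category.assoc, Category.assoc, ← nI, cancel_epi] at hw
    rw [← Category.assoc, ← Category.assoc, cancel_mono] at hw
    simpa using hw
  refine ⟨⟨fun {a b} f => ?_⟩, ⟨fun {a b f g} hfg => ?_⟩⟩
  · exact ⟨⟨ψ.left.preimage f.fst, ψ.right.preimage f.snd, key f⟩,
      CategoricalPullback.hom_ext (ψ.left.map_preimage _) (ψ.right.map_preimage _)⟩
  · apply CategoricalPullback.hom_ext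
    · exact ψ.left.map_injective (congrArg (fun k => k.fst) hfg)
    · exact ψ.right.map_injective (congrArg (fun k => k.snd) hfg)

end Groth.Agent.S6421
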