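import Groth.Statements.S6422
import Groth.Agent.S6421

set_option autoImplicit false
set_option linter.style.haveILetI false

open CategoryTheory CategoryTheory.Limits
universe v u
open FibCat

namespace Groth.Agent.S6422

/-- For a 2-commutative morphism of cospans of categories whose outer functors `X ⥤ A`, `Y ⥤ B` are
equivalences and whose middle functor `Z ⥤ C` is fully faithful, the induced functor `X ×_Z Y ⥤ A
×_C B` is an equivalence of categories. -/
theorem result {X Y Z A B C : Type u} [Category.{v} X] [Category.{v} Y] [Category.{v} Z] [Category.{v} A] [Category.{v} B] [Category.{v} C] {H : X ⥤ Z} {I : Y ⥤ Z} {F : A ⥤ C} {G : B ⥤ C} (ψ : CatCospanTransform H I F G) [ψ.left.IsEquivalence] [ψ.right.IsEquivalence] [ψ.base.Full] [ψ.base.Faithful] :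
    (FibCat.categoricalPullbackMap ψ).IsEquivalence := by
  obtain ⟨hfull, hfaith⟩ := Groth.Agent.S6421.result ψ
  suffices h : (FibCat.categoricalPullbackMap ψ).EssSurj by exact {}
  refine ⟨fun o => ?_⟩
  let x := ψ.left.objPreimage o.fst
  let y := ψ.right.objPreimage o.snd
  let ex := ψ.left.objObjPreimageIso o.fst
  let ey := ψ.right.objObjPreimageIso o.snd
  let d : ψ.base.obj (H.obj x) ≅ ψ.base.obj (I.obj y) :=
    ψ.squareLeft.iso.app x ≪≫ F.mapIso ex ≪≫ o.iso ≪≫ G.mapIso ey.symm ≪≫ (ψ.squareRight.iso.app y).symm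
  refine ⟨⟨x, y, ψ.base.preimageIso d⟩, ⟨CategoricalPullback.mkIso ex ey ?_⟩⟩
  simp [FibCat.categoricalPullbackMap, d]
  change F.map ex.hom ≫ o.iso.hom = (ψ.squareLeft.iso.inv.app x ≫ ψ.base.map (ψ.base.preimage
    (ψ.squareLeft.iso.hom.app x ≫ F.map ex.hom ≫ o.iso.hom ≫ G.map ey.inv ≫
      ψ.squareRight.iso.inv.app y)) ≫ ψ.squareRight.iso.hom.app y) ≫ G.map ey.hom
  simp
  rw [Category.id_comp, ← G.map_comp, Iso.inv_hom_id, G.map_id, Category.comp_id]

end Groth.Agent.S6422
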