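import Groth.Statements.S6423
import Mathlib

set_option autoImplicit false
open CategoryTheory CategoryTheory.Limits
universe v u
open CatLim

namespace Groth.Agent.S6423

variable {C : Type u} [Category.{v} C] {J : Type} [SmallCategory J] (F : J ⥤ C)

/-- a finite set of arrows in a set of vertices -/
def Inside (V : Finset J) (A : Finset (Σ i k : J, i ⟶ k)) : Prop := ∀ e ∈ A, e.1 ∈ V ∧ e.2.1 ∈ V

/-- representability of compatible families on a subgraph -/
def Good (V : Finset J) (A : Finset (Σ i k : J, i ⟶ k)) : Prop :=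
  Inside V A ∧ ∃ (L : C) (p : ∀ j, j ∈ V → (L ⟶ F.obj j)),
    (∀ e ∈ A, ∀ h₁ h₂, p e.1 h₁ ≫ F.map e.2.2 = p e.2.1 h₂) ∧
    ∀ (T : C) (q : ∀ j, j ∈ V → (T ⟶ F.obj j)), (∀ e ∈ A, ∀ h₁ h₂, q e.1 h₁ ≫ F.map e.2.2 = q e.2.1 h₂) →
      ∃! t : T ⟶ L, ∀ j hj, t ≫ p j hj = q j hj

open Classical in
lemma good_add_arrow [HasEqualizers C] {V : Finset J} {A : Finset (Σ i k : J, i ⟶ k)} (h : Good F V A)
    {i k : J} (a : i ⟶ k) (hi : i ∈ V) (hk : k ∈ V) : Good F V (insert ⟨i, k, a⟩ A) := by
  obtain ⟨hin, L, p, hp, hu⟩ := h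
  refine ⟨?_, equalizer (p i hi ≫ F.map a) (p k hk), fun j hj => equalizer.ι _ _ ≫ p j hj, ?_, fun T q hq => ?_⟩
  · intro e he
    rcases Finset.mem_insert.1 he with rfl | he
    exacts [⟨hi, hk⟩, hin e he]
  · intro e he h₁ h₂
    rcases Finset.mem_insert.1 he with rfl | he
    · rw [Category.assoc]
      exact equalizer.condition _ _
    · rw [Category.assoc, hp e he h₁ h₂]
  · obtain ⟨t, ht, ht'⟩ := hu T q fun e he => hq e (Finset.mem_insert_of_mem he)
    have heq : t ≫ p i hi ≫ F.map a = t ≫ p k hk := by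
      rw [← Category.assoc, ht i hi, ht k hk]
      exact hq ⟨i, k, a⟩ (Finset.mem_insert_self _ _) hi hk
    refine ⟨equalizer.lift t heq, fun j hj => ?_, fun s hs => ?_⟩
    · show equalizer.lift t heq ≫ equalizer.ι _ _ ≫ p j hj = q j hj
      rw [equalizer.lift_ι_assoc, ht j hj]
    · apply equalizer.hom_ext
      rw [equalizer.lift_ι]
      exact ht' _ fun j hj => by rw [Category.assoc]; exact hs j hj

open Classical in
lemma good_add_source [HasPullbacks C] {V : Finset J} {A : Finset (Σ i k : J, i ⟶ k)} (h : Good F V A)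
    {i k : J} (a : i ⟶ k) (hi : i ∉ V) (hk : k ∈ V) : Good F (insert i V) (insert ⟨i, k, a⟩ A) := by
  obtain ⟨hin, L, p, hp, hu⟩ := h
  have hki : k ≠ i := fun e => hi (e ▸ hk)
  let P := pullback (p k hk) (F.map a)
  let p' : ∀ j, j ∈ insert i V → (P ⟶ F.obj j) := fun j hj =>
    if e : j = i then pullback.snd (p k hk) (F.map a) ≫ eqToHom (by rw [e])
    else pullback.fst (p k hk) (F.map a) ≫ p j ((Finset.mem_insert.1 hj).resolve_left e)
  have hold : ∀ j (hj : j ∈ V) (hj' : j ∈ insert i V), p' j hj' = pullback.fst _ _ ≫ p j hj := fun j hj hj' =>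
    dif_neg fun (e : j = i) => hi (e ▸ hj)
  have hnew : ∀ hi', p' i hi' = pullback.snd (p k hk) (F.map a) := fun hi' =>
    (dif_pos rfl).trans (by simp)
  refine ⟨?_, P, p', ?_, fun T q hq => ?_⟩
  · intro e he
    rcases Finset.mem_insert.1 he with rfl | he
    exacts [⟨Finset.mem_insert_self _ _, Finset.mem_insert_of_mem hk⟩,
      ⟨Finset.mem_insert_of_mem (hin e he).1, Finset.mem_insert_of_mem (hin e he).2⟩]
  · intro e he h₁ h₂
    rcases Finset.mem_insert.1 he with rfl | he
    · rw [hnew h₁, hold k hk h₂]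
      exact pullback.condition.symm
    · rw [hold _ (hin e he).1 h₁, hold _ (hin e he).2 h₂, Category.assoc, hp e he _ (hin e he).2]
  · obtain ⟨t, ht, ht'⟩ := hu T (fun j hj => q j (Finset.mem_insert_of_mem hj))
      fun e he h₁ h₂ => hq e (Finset.mem_insert_of_mem he) _ _
    have hc : t ≫ p k hk = q i (Finset.mem_insert_self _ _) ≫ F.map a := by
      rw [ht k hk]
      exact (hq ⟨i, k, a⟩ (Finset.mem_insert_self _ _) (Finset.mem_insert_self _ _)
        (Finset.mem_insert_of_mem hk)).symm
    refine ⟨pullback.lift t (q i (Finset.mem_insert_self _ _)) hc, fun j hj => ?_, fun s hs => ?_⟩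
    · rcases Finset.mem_insert.1 hj with rfl | hj'
      · simp only [hnew]; exact pullback.lift_snd _ _ _
      · simp only [hold j hj']; rw [pullback.lift_fst_assoc]; exact ht j hj'
    · apply pullback.hom_ext
      · rw [pullback.lift_fst]
        refine ht' _ fun j hj => ?_
        rw [Category.assoc, ← hold j hj (Finset.mem_insert_of_mem hj)]
        exact hs _ _
      · rw [pullback.lift_snd, ← hnew (Finset.mem_insert_self _ _)]
        exact hs _ _

open Classical in
lemma good_add_target {V : Finset J} {A : Finset (Σ i k : J, i ⟶ k)} (h : Good F V A)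
    {i k : J} (a : i ⟶ k) (hi : i ∈ V) (hk : k ∉ V) : Good F (insert k V) (insert ⟨i, k, a⟩ A) := by
  obtain ⟨hin, L, p, hp, hu⟩ := h
  let p' : ∀ j, j ∈ insert k V → (L ⟶ F.obj j) := fun j hj =>
    if e : j = k then p i hi ≫ F.map a ≫ eqToHom (by rw [e])
    else p j ((Finset.mem_insert.1 hj).resolve_left e)
  have hold : ∀ j (hj : j ∈ V) (hj' : j ∈ insert k V), p' j hj' = p j hj := fun j hj hj' =>
    dif_neg fun (e : j = k) => hk (e ▸ hj)
  have hnew : ∀ hk', p' k hk' = p i hi ≫ F.map a := fun hk' => (dif_pos rfl).trans (by simp)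
  refine ⟨?_, L, p', ?_, fun T q hq => ?_⟩
  · intro e he
    rcases Finset.mem_insert.1 he with rfl | he
    exacts [⟨Finset.mem_insert_of_mem hi, Finset.mem_insert_self _ _⟩,
      ⟨Finset.mem_insert_of_mem (hin e he).1, Finset.mem_insert_of_mem (hin e he).2⟩]
  · intro e he h₁ h₂
    rcases Finset.mem_insert.1 he with rfl | he
    · rw [hnew h₂, hold i hi h₁]
    · rw [hold _ (hin e he).1 h₁, hold _ (hin e he).2 h₂, hp e he _ (hin e he).2]
  · obtain ⟨t, ht, ht'⟩ := hu T (fun j hj => q j (Finset.mem_insert_of_mem hj))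
      fun e he h₁ h₂ => hq e (Finset.mem_insert_of_mem he) _ _
    refine ⟨t, fun j hj => ?_, fun s hs => ht' s fun j hj => ?_⟩
    · rcases Finset.mem_insert.1 hj with rfl | hj'
      · simp only [hnew]
        rw [← Category.assoc, ht i hi]
        exact hq ⟨i, j, a⟩ (Finset.mem_insert_self _ _) _ _
      · simp only [hold j hj']; exact ht j hj'
    · rw [← hold j hj (Finset.mem_insert_of_mem hj)]
      exact hs _ _


/-- (2) ⇒ (1): a category with equalizers and fibre products has all finite connected limits. -/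
theorem result {C : Type u} [Category.{v} C] [HasEqualizers C] [HasPullbacks C]
    (J : Type) [SmallCategory J] [FinCategory J] [IsConnected J] : HasLimitsOfShape J C := by
  classical
  refine ⟨fun F => ?_⟩
  obtain ⟨j₀⟩ : Nonempty J := IsConnected.is_nonempty
  have hstart : Good F {j₀} ∅ := by
    refine ⟨by simp [Inside], F.obj j₀, fun j hj => eqToHom (by rw [Finset.mem_singleton.1 hj]), by simp,
      fun T q _ => ⟨q j₀ (Finset.mem_singleton_self _), fun j hj => ?_, fun s hs => ?_⟩⟩
    · obtain rfl := Finset.mem_singleton.1 hj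
      simp
    · simpa using hs j₀ (Finset.mem_singleton_self _)
  have grow : ∀ n, ∃ V A, Good F V A ∧ j₀ ∈ V ∧ (n ≤ V.card ∨ V = Finset.univ) := by
    intro n
    induction n with
    | zero => exact ⟨_, _, hstart, Finset.mem_singleton_self _, Or.inl (Nat.zero_le _)⟩
    | succ n ih =>
      obtain ⟨V, A, hV, hj₀, hn⟩ := ih
      by_cases hu : V = Finset.univ
      · exact ⟨V, A, hV, hj₀, Or.inr hu⟩
      have hex : ∃ (i k : J) (_ : i ⟶ k), (i ∈ V ∧ k ∉ V) ∨ (i ∉ V ∧ k ∈ V) := by
        by_contra hne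
        simp only [not_exists, not_or, not_and, not_not] at hne
        refine hu (Finset.eq_univ_iff_forall.2 fun j => ?_)
        exact induct_on_objects {x : J | x ∈ V} hj₀ (fun {a b} f =>
          ⟨fun h => (hne a b f).1 h, fun h => by_contra fun h' => (hne a b f).2 h' h⟩) j
      obtain ⟨i, k, a, ⟨hi, hk⟩ | ⟨hi, hk⟩⟩ := hex
      · exact ⟨_, _, good_add_target F hV a hi hk, Finset.mem_insert_of_mem hj₀,
          Or.inl (by rw [Finset.card_insert_of_notMem hk]; rcases hn with hn | hn; omega; exact absurd hn hu)⟩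
      · exact ⟨_, _, good_add_source F hV a hi hk, Finset.mem_insert_of_mem hj₀,
          Or.inl (by rw [Finset.card_insert_of_notMem hi]; rcases hn with hn | hn; omega; exact absurd hn hu)⟩
  obtain ⟨V, A, hV, -, hn⟩ := grow (Fintype.card J + 1)
  obtain rfl : V = Finset.univ := hn.resolve_left (by have := Finset.card_le_univ V; omega)
  have hall : ∀ B : Finset (Σ i k : J, i ⟶ k), ∃ A', B ⊆ A' ∧ Good F Finset.univ A' := by
    intro B
    induction B using Finset.induction_on with
    | empty => exact ⟨A, Finset.empty_subset _, hV⟩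
    | @insert e B he ih =>
      obtain ⟨A', hA', hg⟩ := ih
      obtain ⟨i, k, a⟩ := e
      exact ⟨_, Finset.insert_subset_insert _ hA',
        good_add_arrow F hg a (Finset.mem_univ i) (Finset.mem_univ k)⟩
  obtain ⟨A', hA', -, L, p, hp, hu⟩ := hall Finset.univ
  have hAll : ∀ e, e ∈ A' := fun e => hA' (Finset.mem_univ e)
  have uni : ∀ s : Cone F, ∃! t : s.pt ⟶ L, ∀ j hj, t ≫ p j hj = s.π.app j := fun s =>
    hu s.pt (fun j _ => s.π.app j) fun e _ _ _ => s.w e.2.2
  exact ⟨⟨{
    cone := { pt := L, π := { app := fun j => p j (Finset.mem_univ j),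
                              naturality := fun i k a => by
                                refine (Category.id_comp _).trans ?_
                                exact (hp ⟨i, k, a⟩ (hAll _) _ _).symm } }
    isLimit := {
      lift := fun s => (uni s).exists.choose
      fac := fun s j => (uni s).exists.choose_spec j _
      uniq := fun s m hm => (uni s).unique (fun j _ => hm j) (uni s).exists.choose_spec } }⟩⟩

end Groth.Agent.S6423
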