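import Groth.Statements.S6424
import Mathlib

set_option autoImplicit false
open CategoryTheory CategoryTheory.Limits
universe v u
open CatLim

namespace Groth.Agent.S6424

/-- (2) ⇒ (1): a category with products of pairs and equalizers has all finite nonempty limits. -/
theorem result {C : Type u} [Category.{v} C] [HasBinaryProducts C] [HasEqualizers C]
    (J : Type) [SmallCategory J] [FinCategory J] [Nonempty J] : HasLimitsOfShape J C := by
  have hfin : ∀ (n : ℕ) (f : Fin (n + 1) → C), HasProduct f := by
    intro n
    induction n with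
    | zero =>
      intro f
      exact HasLimit.mk ⟨Fan.mk (f 0) (fun i => eqToHom (congrArg f (Subsingleton.elim (0 : Fin 1) i))),
        mkFanLimit _ (fun s => s.proj 0)
          (fun s j => by obtain rfl : j = 0 := Subsingleton.elim (α := Fin 1) _ _; simp)
          (fun s m w => by simpa using w 0)⟩
    | succ n ih =>
      intro f
      haveI := ih fun i => f i.succ
      exact HasLimit.mk ⟨_, CategoryTheory.extendFanIsLimit f (limit.isLimit _) (limit.isLimit _)⟩
  have hT : ∀ (T : Type) [Fintype T] [Nonempty T] (f : T → C), HasProduct f := by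
    intro T _ _ f
    obtain ⟨n, hn⟩ := Nat.exists_eq_succ_of_ne_zero (Fintype.card_ne_zero (α := T))
    let e : T ≃ Fin (n + 1) := (Fintype.equivFin T).trans (finCongr hn)
    haveI := hfin n (f ∘ e.symm)
    exact hasProduct_of_equiv_of_iso (f ∘ e.symm) f e fun j => eqToIso (by simp)
  refine ⟨fun F => ?_⟩
  haveI : Nonempty (Σ p : J × J, p.1 ⟶ p.2) :=
    ⟨⟨(Classical.arbitrary J, Classical.arbitrary J), 𝟙 _⟩⟩
  letI : Fintype (Σ p : J × J, p.1 ⟶ p.2) := Fintype.ofFinite _
  haveI := hT J F.obj
  haveI := hT (Σ p : J × J, p.1 ⟶ p.2) (fun f => F.obj f.1.2)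
  exact hasLimit_of_equalizer_and_product F

end Groth.Agent.S6424
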