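import Groth.Statements.S6430
import Groth.Agent.FibCatRep.Cart

set_option autoImplicit false
open CategoryTheory
universe v₂ u₂ v u
open FibCat

namespace Groth.Agent.S6430

/-- For a fibred category `p : 𝒮 ⥤ C`, the wide subcategory of `𝒮` on the strongly cartesian morphisms
is fibred in groupoids over `C`. -/
theorem result {C : Type u} [Category.{v} C] {𝒮 : Type u₂} [Category.{v₂} 𝒮] (p : 𝒮 ⥤ C) [p.IsFibered] :
    FibCat.IsFibGrpd (FibCat.cartSubProj p) := by
  refine Groth.Agent.FibCatRep.isFibGrpd_mk (fun {x V} f => ?_) (fun {z y x} φ ψ g hg => ?_)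
  · let f' : V ⟶ p.obj x.obj := f
    obtain ⟨b, φ, hφ⟩ := IsPreFibered.exists_isCartesian p (S := p.obj x.obj) rfl f'
    haveI := hφ
    haveI hs : p.IsStronglyCartesian f' φ := inferInstance
    have h1 := IsHomLift.domain_eq p f' φ
    have h2 : p.map φ = eqToHom h1 ≫ f' := (IsHomLift.fac' p f' φ).trans (by simp)
    exact ⟨⟨b⟩, ⟨φ, Groth.Agent.FibCatRep.cart_of_lift f' φ hs⟩, h1, h2⟩
  · obtain ⟨φ, hφ⟩ := φ
    obtain ⟨ψ, hψ⟩ := ψ
    change g ≫ p.map φ = p.map ψ at hg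
    let g' : p.obj z.obj ⟶ p.obj y.obj := g
    replace hg : g' ≫ p.map φ = p.map ψ := hg
    haveI : p.IsStronglyCartesian (p.map φ) φ := hφ
    haveI : p.IsHomLift (g' ≫ p.map φ) ψ := by rw [hg]; exact IsHomLift.map _ _
    obtain ⟨χ, ⟨hχ, hc⟩, hu⟩ :=
      Functor.IsStronglyCartesian.universal_property' (p := p) (f := p.map φ) (φ := φ) g' ψ
    have hg' : g' = p.map χ := IsHomLift.eq_of_isHomLift p g' χ
    have hgg : g = p.map χ := hg'
    rw [hg'] at hg hu
    subst hgg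
    haveI : p.IsStronglyCartesian (p.map χ ≫ p.map φ) (χ ≫ φ) := by
      rw [hc, hg]; exact hψ
    have hχc : p.IsStronglyCartesian (p.map χ) χ :=
      Functor.IsStronglyCartesian.of_comp p (f := p.map χ) (g := p.map φ) (φ := χ) (ψ := φ)
    refine ⟨⟨χ, hχc⟩, ⟨rfl, WideSubcategory.hom_ext _ hc⟩, fun χ' h' => ?_⟩
    apply WideSubcategory.hom_ext
    refine hu χ'.hom ⟨?_, congrArg (fun k => k.hom) h'.2⟩
    have h1 : p.map χ'.hom = p.map χ := h'.1
    rw [← h1]; exact IsHomLift.map _ _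

end Groth.Agent.S6430
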