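import Groth.Statements.S6432
import Groth.Agent.FibCatRep.Strictify

set_option autoImplicit false
open CategoryTheory
universe v u
open FibCat

namespace Groth.Agent.S6432

/-- Every category fibred in groupoids over `C` is equivalent over `C` to the Grothendieck construction
of a strict functor `Cᵒᵖ ⥤ Cat` with groupoid values. -/
theorem result {C : Type u} [Category.{v} C] (𝒳 : BasedCategory.{v, max u v} C) (h𝒳 : FibCat.IsFibGrpd 𝒳.p) :
    ∃ (F : Cᵒᵖ ⥤ Cat.{v, max u v}) (_ : ∀ U : Cᵒᵖ, IsGroupoid (F.obj U))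
      (E : 𝒳 ⥤ᵇ BasedCategory.ofFunctor (Pseudofunctor.CoGrothendieck.forget F.toPseudofunctor')),
      FibCat.IsEquivOver E := by
  haveI := Groth.Agent.FibCatRep.isFibered_of_grpd h𝒳
  obtain ⟨E, h₁, h₂⟩ := Groth.Agent.FibCatRep.isEquivOver_evalElts (𝒳 := 𝒳)
  exact ⟨Groth.Agent.FibCatRep.ptFunctor 𝒳, Groth.Agent.FibCatRep.isGroupoid_ptFunctor 𝒳 h𝒳, E,
    Groth.Agent.FibCatRep.evalElts 𝒳, h₂, h₁⟩

end Groth.Agent.S6432
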