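import Groth.Statements.S6437
import Mathlib

set_option autoImplicit false
open CategoryTheory CategoryTheory.Limits
universe v
open CatLim

namespace Groth.Agent.S6437

/-- Over an index category in which spans can be completed to commutative squares and parallel pairs can
be coequalized (a disjoint union of filtered categories), colimits of sets commute with finite
connected limits. -/
theorem result {I : Type v} [SmallCategory I]
    (h1 : ∀ ⦃w x y : I⦄ (a : w ⟶ x) (b : w ⟶ y), ∃ (z : I) (c : x ⟶ z) (d : y ⟶ z), a ≫ c = b ≫ d)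
    (h2 : ∀ ⦃x y : I⦄ (a b : x ⟶ y), ∃ (z : I) (c : y ⟶ z), a ≫ c = b ≫ c)
    (J : Type) [SmallCategory J] [FinCategory J] [IsConnected J] :
    PreservesLimitsOfShape J (colim : (I ⥤ Type v) ⥤ Type v) := by
  have heq : ∀ (F : I ⥤ Type v) {i j : I} (x : F.obj i) (y : F.obj j),
      colimit.ι F i x = colimit.ι F j y ↔ ∃ (k : I) (f : i ⟶ k) (g : j ⟶ k), F.map f x = F.map g y := by
    intro F i j x y
    refine ⟨fun h => ?_, fun ⟨k, f, g, e⟩ => ?_⟩
    · suffices H : ∀ p q : Σ i, F.obj i, Relation.EqvGen F.ColimitTypeRel p q →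
          ∃ (k : I) (f : p.1 ⟶ k) (g : q.1 ⟶ k), F.map f p.2 = F.map g q.2 from
        H ⟨i, x⟩ ⟨j, y⟩ (Types.colimit_eq h)
      intro p q hpq
      induction hpq with
      | rel p q h => obtain ⟨f, hf⟩ := h; exact ⟨q.1, f, 𝟙 _, by simp [hf]⟩
      | refl p => exact ⟨p.1, 𝟙 _, 𝟙 _, rfl⟩
      | symm p q _ ih => obtain ⟨k, f, g, e⟩ := ih; exact ⟨k, g, f, e.symm⟩
      | trans p q r _ _ ih₁ ih₂ =>
        obtain ⟨k, f, g, e⟩ := ih₁
        obtain ⟨l, f', g', e'⟩ := ih₂
        obtain ⟨m, c, d, hcd⟩ := h1 g f'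
        exact ⟨m, f ≫ c, g' ≫ d, by
          simp only [Functor.map_comp_apply]
          rw [e, ← Functor.map_comp_apply, hcd, Functor.map_comp_apply, e']⟩
    · rw [← Types.Colimit.w_apply (f := f) (x := x), ← Types.Colimit.w_apply (f := g) (x := y), e]
  have hmap : ∀ {F G : I ⥤ Type v} (α : F ⟶ G) (i : I) (x : F.obj i),
      colimMap α (colimit.ι F i x) = colimit.ι G i (α.app i x) := fun {F G} α i x =>
    ConcreteCategory.congr_hom (ι_colimMap α i) x
  constructor
  intro K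
  constructor
  intro c hc
  rw [Types.isLimit_iff]
  intro s hs
  have hl : ∀ (l : I) (t : ∀ j, (K.obj j).obj l), (∀ {j j' : J} (a : j ⟶ j'), (K.map a).app l (t j) = t j') →
      ∃! w : c.pt.obj l, ∀ j, (c.π.app j).app l w = t j := fun l t ht =>
    (Types.isLimit_iff _).1 ⟨isLimitOfPreserves ((evaluation I (Type v)).obj l) hc⟩ t (fun a => ht a)
  classical
  obtain ⟨j₀⟩ := (inferInstance : Nonempty J)
  have hmerge : ∀ (k : I) (S : Finset (Σ j j' : J, (j ⟶ j'))) (P : ∀ l : I, (k ⟶ l) → (Σ j j' : J, (j ⟶ j')) → Prop),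
      (∀ l m (h : k ⟶ l) (h' : l ⟶ m) a, P l h a → P m (h ≫ h') a) →
      (∀ a ∈ S, ∃ l h, P l h a) → ∃ l h, ∀ a ∈ S, P l h a := by
    intro k S P hP hS
    induction S using Finset.induction_on with
    | empty => exact ⟨k, 𝟙 k, by simp⟩
    | insert a S _ ih =>
      obtain ⟨l, h, hh⟩ := ih (fun a ha => hS a (Finset.mem_insert_of_mem ha))
      obtain ⟨l', h', hh'⟩ := hS a (Finset.mem_insert_self a S)
      obtain ⟨m, c, d, hcd⟩ := h1 h h'
      refine ⟨m, h ≫ c, fun b hb => ?_⟩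
      rcases Finset.mem_insert.1 hb with rfl | hb
      · rw [hcd]; exact hP _ _ _ _ _ hh'
      · exact hP _ _ _ _ _ (hh b hb)
  have hunif : ∀ (k : I) (t t' : ∀ j, (K.obj j).obj k) (S : Finset (Σ j j' : J, (j ⟶ j'))),
      (∀ a ∈ S, colimit.ι (K.obj a.2.1) k ((K.map a.2.2).app k (t a.1)) = colimit.ι (K.obj a.2.1) k (t' a.2.1)) →
      ∃ (l : I) (h : k ⟶ l), ∀ a ∈ S,
        (K.map a.2.2).app l ((K.obj a.1).map h (t a.1)) = (K.obj a.2.1).map h (t' a.2.1) := by
    intro k t t' S hS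
    refine hmerge k S (fun l h a => (K.map a.2.2).app l ((K.obj a.1).map h (t a.1)) = (K.obj a.2.1).map h (t' a.2.1))
      (fun l m h h' a e => ?_) (fun a ha => ?_)
    · simp only [Functor.map_comp_apply]
      rw [NatTrans.naturality_apply, e]
    · obtain ⟨l, f, g, e⟩ := (heq _ _ _).1 (hS a ha)
      obtain ⟨m, q, hq⟩ := h2 f g
      refine ⟨m, g ≫ q, ?_⟩
      simp only [Functor.map_comp_apply]
      rw [NatTrans.naturality_apply, NatTrans.naturality_apply, ← e,
        ← Functor.map_comp_apply, ← Functor.map_comp_apply, hq]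
  have hex : ∃ (l : I) (w : c.pt.obj l), ∀ j, colimit.ι (K.obj j) l ((c.π.app j).app l w) = s j := by
    choose i x hx using fun j => Types.jointly_surjective' (s j)
    have hlink : ∀ j, ∃ (k : I) (_ : i j₀ ⟶ k) (_ : i j ⟶ k), True := by
      refine fun j => (isPreconnected_induction (fun j => ∃ (k : I) (_ : i j₀ ⟶ k) (_ : i j ⟶ k), True)
        ?_ ?_ (j₀ := j₀) ⟨i j₀, 𝟙 _, 𝟙 _, trivial⟩ j).elim id
      all_goals
        intro j j' a ⟨k, f, g, _⟩
        have e := hs a
        simp only [Functor.comp_map, ← hx, colim_map, hmap] at e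
        obtain ⟨l, f', g', -⟩ := (heq _ _ _).1 e
      · obtain ⟨m, p, q, -⟩ := h1 g f'
        exact ⟨m, f ≫ p, g' ≫ q, trivial⟩
      · obtain ⟨m, p, q, -⟩ := h1 g g'
        exact ⟨m, f ≫ p, f' ≫ q, trivial⟩
    have hbound : ∀ S : Finset J, ∃ (k : I) (_ : i j₀ ⟶ k), ∀ j ∈ S, Nonempty (i j ⟶ k) := by
      intro S
      induction S using Finset.induction_on with
      | empty => exact ⟨_, 𝟙 _, by simp⟩
      | insert j S _ ih =>
        obtain ⟨k, f, hf⟩ := ih
        obtain ⟨k', f', g', -⟩ := hlink j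
        obtain ⟨m, p, q, -⟩ := h1 f f'
        refine ⟨m, f ≫ p, fun b hb => ?_⟩
        rcases Finset.mem_insert.1 hb with rfl | hb
        · exact ⟨g' ≫ q⟩
        · exact ⟨(hf b hb).some ≫ p⟩
    obtain ⟨k, -, hk⟩ := hbound Finset.univ
    let t : ∀ j, (K.obj j).obj k := fun j => (K.obj j).map (hk j (Finset.mem_univ j)).some (x j)
    have ht : ∀ j, colimit.ι (K.obj j) k (t j) = s j := fun j => by
      rw [Types.Colimit.w_apply, hx]
    obtain ⟨l, h, hh⟩ := hunif k t t Finset.univ (fun a _ => by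
      have := hs a.2.2
      simp only [Functor.comp_map, ← ht, colim_map, hmap] at this
      exact this)
    obtain ⟨w, hw, -⟩ := hl l (fun j => (K.obj j).map h (t j)) (fun {j j'} a => hh ⟨j, j', a⟩ (Finset.mem_univ _))
    exact ⟨l, w, fun j => by rw [hw, Types.Colimit.w_apply, ht]⟩
  obtain ⟨l, w, hw⟩ := hex
  refine ⟨colimit.ι c.pt l w, fun j => (hmap (c.π.app j) l w).trans (hw j), fun z hz => ?_⟩
  obtain ⟨l', w', rfl⟩ := Types.jointly_surjective' z
  have hz' : ∀ j, colimit.ι (K.obj j) l' ((c.π.app j).app l' w') = s j := fun j =>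
    (hmap (c.π.app j) l' w').symm.trans (hz j)
  obtain ⟨k, f, g, -⟩ := (heq _ _ _).1 ((hz' j₀).trans (hw j₀).symm)
  have nat : ∀ (j : J) {a b : I} (q : a ⟶ b) (x : c.pt.obj a),
      (c.π.app j).app b (c.pt.map q x) = (K.obj j).map q ((c.π.app j).app a x) := fun j {a b} q x =>
    NatTrans.naturality_apply (c.π.app j) q x
  obtain ⟨m, h, hh⟩ := hunif k (fun j => (c.π.app j).app k (c.pt.map f w'))
    (fun j => (c.π.app j).app k (c.pt.map g w))
    (Finset.univ.image fun j => (⟨j, j, 𝟙 j⟩ : Σ j j' : J, (j ⟶ j'))) (fun a ha => by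
      obtain ⟨j, -, rfl⟩ := Finset.mem_image.1 ha
      simp only [CategoryTheory.Functor.map_id, NatTrans.id_app, types_id_apply]
      rw [nat, nat, Types.Colimit.w_apply, Types.Colimit.w_apply, hz', hw])
  have : c.pt.map h (c.pt.map f w') = c.pt.map h (c.pt.map g w) :=
    (hl m (fun j => (c.π.app j).app m (c.pt.map h (c.pt.map g w))) (fun {j j'} a => by
      change ((c.π.app j) ≫ K.map a).app m _ = _
      rw [c.w a])).unique (fun j => by
        have := hh ⟨j, j, 𝟙 j⟩ (Finset.mem_image.2 ⟨j, Finset.mem_univ j, rfl⟩)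
        simp only [CategoryTheory.Functor.map_id, NatTrans.id_app, types_id_apply] at this
        rw [nat, this, ← nat]) (fun j => rfl)
  rw [← Types.Colimit.w_apply (f := f) (x := w'), ← Types.Colimit.w_apply (f := g) (x := w),
    ← Types.Colimit.w_apply (f := h) (x := c.pt.map f w'), this, Types.Colimit.w_apply]

end Groth.Agent.S6437
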