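import Groth.Statements.S6438
import Mathlib

set_option autoImplicit false
set_option backward.isDefEq.respectTransparency false
set_option backward.isDefEq.respectTransparency.types false
open CategoryTheory
universe v u
open CatLim

namespace Groth.Agent.S6438

/-- A category with finitely many objects whose morphisms are generated under composition by finitely
many of them receives a functor from a finite category which is both final and initial, the finite
category being connected (resp. nonempty) exactly when the given one is. (The published statement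
says that limits and colimits of every diagram are computed after restriction along the functor;
this is expressed here through finality and initiality.) -/
theorem result {I : Type u} [Category.{v} I] [Finite I]
    (gen : Finset (Σ x y : I, x ⟶ y))
    (hgen : ∀ P : MorphismProperty I, P.IsMultiplicative → (∀ a ∈ gen, P a.2.2) → P = ⊤) :
    ∃ (J : Type) (_ : SmallCategory J) (_ : FinCategory J) (F : J ⥤ I),
      F.Final ∧ F.Initial ∧ (IsConnected J ↔ IsConnected I) ∧ (Nonempty J ↔ Nonempty I) := by
  classical
  haveI := Fintype.ofFinite I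
  let e : I ≃ Fin (Fintype.card I) := Fintype.equivFin I
  let g : Fin gen.card → (Σ x y : I, x ⟶ y) := fun a => (gen.equivFin.symm a).1
  have hg : ∀ a ∈ gen, ∃ k, g k = a := fun a ha => ⟨gen.equivFin ⟨a, ha⟩, by simp [g]⟩
  let sh : Limits.MultispanShape.{0, 0} :=
    { L := Fin gen.card, R := Fin (Fintype.card I), fst := fun a => e (g a).1, snd := fun a => e (g a).2.1 }
  let D : Limits.MultispanIndex sh I :=
    { left := fun a => (g a).1
      right := fun b => e.symm b
      fst := fun a => eqToHom (e.symm_apply_apply _).symm
      snd := fun a => (g a).2.2 ≫ eqToHom (e.symm_apply_apply _).symm }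
  haveI : Finite (Limits.WalkingMultispan sh) := Finite.of_equiv (sh.L ⊕ sh.R)
    ⟨fun x => Sum.elim (Limits.WalkingMultispan.left (J := sh)) (Limits.WalkingMultispan.right (J := sh)) x,
      fun x => match x with | .left a => Sum.inl a | .right b => Sum.inr b,
      fun x => by cases x <;> rfl, fun x => by cases x <;> rfl⟩
  haveI : ∀ a b : Limits.WalkingMultispan sh, Finite (a ⟶ b) := by
    haveI : Finite (Σ p : Limits.WalkingMultispan sh × Limits.WalkingMultispan sh, Limits.WalkingMultispan.Hom p.1 p.2) := by
      refine Finite.of_surjective (α := Limits.WalkingMultispan sh ⊕ Fin gen.card ⊕ Fin gen.card)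
        (fun x => match x with
          | .inl A => ⟨(A, A), .id A⟩
          | .inr (.inl a) => ⟨(_, _), .fst a⟩
          | .inr (.inr a) => ⟨(_, _), .snd a⟩) ?_
      rintro ⟨⟨A, B⟩, h⟩
      cases h with
      | id => exact ⟨.inl A, rfl⟩
      | fst a => exact ⟨.inr (.inl a), rfl⟩
      | snd a => exact ⟨.inr (.inr a), rfl⟩
    intro a b
    exact Finite.of_injective (β := Σ p : Limits.WalkingMultispan sh × Limits.WalkingMultispan sh, Limits.WalkingMultispan.Hom p.1 p.2)
      (Sigma.mk (β := fun p : Limits.WalkingMultispan sh × Limits.WalkingMultispan sh => Limits.WalkingMultispan.Hom p.1 p.2) (a, b)) sigma_mk_injective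
  let hfc : FinCategory (Limits.WalkingMultispan sh) :=
    { fintypeObj := Fintype.ofFinite _, fintypeHom := fun a b => Fintype.ofFinite _ }
  let F := D.multispan
  have hfinal : F.Final := ⟨fun i => by
    let mkR : ∀ x : I, (i ⟶ x) → StructuredArrow i F := fun x k =>
      StructuredArrow.mk (Y := (Limits.WalkingMultispan.right (J := sh)) (e x)) (k ≫ eqToHom (e.symm_apply_apply x).symm)
    let P : MorphismProperty I := fun x y h => ∀ k : i ⟶ x, Zigzag (mkR x k) (mkR y (k ≫ h))
    have hPm : P.IsMultiplicative :=
      { id_mem := fun x k => by rw [Category.comp_id]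
        comp_mem := fun h h' hh hh' k => (hh k).trans (by rw [← Category.assoc]; exact hh' (k ≫ h)) }
    have hP : P = ⊤ := hgen P hPm fun a ha k => by
      obtain ⟨j, rfl⟩ := hg a ha
      let L0 : StructuredArrow i F :=
        StructuredArrow.mk (Y := (Limits.WalkingMultispan.left (J := sh)) j) (S := i) (T := F) k
      have h1 : Zigzag (mkR (g j).1 k) L0 :=
        Zigzag.of_inv (StructuredArrow.homMk ((Limits.WalkingMultispan.Hom.fst (J := sh)) j) (by rfl))
      have h2 : Zigzag L0 (mkR (g j).2.1 (k ≫ (g j).2.2)) :=
        Zigzag.of_hom (StructuredArrow.homMk ((Limits.WalkingMultispan.Hom.snd (J := sh)) j) (Category.assoc _ _ _).symm)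
      exact h1.trans h2
    haveI : Nonempty (StructuredArrow i F) := ⟨mkR i (𝟙 i)⟩
    have key : ∀ X : StructuredArrow i F, Zigzag (mkR i (𝟙 i)) X := by
      have hR : ∀ (b : Fin (Fintype.card I)) (k : i ⟶ e.symm b),
          Zigzag (mkR i (𝟙 i)) (StructuredArrow.mk (Y := (Limits.WalkingMultispan.right (J := sh)) b) (S := i) (T := F) k) := by
        intro b k
        have h : P k := by rw [hP]; trivial
        refine (h (𝟙 i)).trans (Zigzag.of_hom (StructuredArrow.homMk
          (eqToHom (congrArg (Limits.WalkingMultispan.right (J := sh)) (e.apply_symm_apply b))) ?_))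
        simp [mkR, eqToHom_map]
      intro X
      obtain ⟨⟨⟩, Y, k⟩ := X
      cases Y with
      | right b => exact hR b k
      | left a =>
        exact (hR _ (k ≫ F.map ((Limits.WalkingMultispan.Hom.fst (J := sh)) a))).trans
          (Zigzag.of_inv (StructuredArrow.homMk ((Limits.WalkingMultispan.Hom.fst (J := sh)) a) rfl))
    exact zigzag_isConnected fun X Y => (key X).symm.trans (key Y)⟩
  have hinit : F.Initial := ⟨fun i => by
    let mkR : ∀ x : I, (x ⟶ i) → CostructuredArrow F i := fun x k =>
      CostructuredArrow.mk (Y := (Limits.WalkingMultispan.right (J := sh)) (e x)) (eqToHom (e.symm_apply_apply x) ≫ k)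
    let P : MorphismProperty I := fun x y h => ∀ k : y ⟶ i, Zigzag (mkR x (h ≫ k)) (mkR y k)
    have hPm : P.IsMultiplicative :=
      { id_mem := fun x k => by rw [Category.id_comp]
        comp_mem := fun h h' hh hh' k => Zigzag.trans (by rw [Category.assoc]; exact hh (h' ≫ k)) (hh' k) }
    have hP : P = ⊤ := hgen P hPm fun a ha k => by
      obtain ⟨j, rfl⟩ := hg a ha
      let L0 : CostructuredArrow F i :=
        CostructuredArrow.mk (Y := (Limits.WalkingMultispan.left (J := sh)) j) (S := F) (T := i) ((g j).2.2 ≫ k)
      have h1 : Zigzag (mkR (g j).1 ((g j).2.2 ≫ k)) L0 :=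
        Zigzag.of_inv (CostructuredArrow.homMk ((Limits.WalkingMultispan.Hom.fst (J := sh)) j) (by
          exact (eqToHom_trans_assoc (e.symm_apply_apply (g j).1).symm (e.symm_apply_apply (g j).1) _).trans (Category.id_comp _)))
      have h2 : Zigzag L0 (mkR (g j).2.1 k) :=
        Zigzag.of_hom (CostructuredArrow.homMk ((Limits.WalkingMultispan.Hom.snd (J := sh)) j) (by
          change ((g j).2.2 ≫ eqToHom _) ≫ eqToHom _ ≫ k = (g j).2.2 ≫ k
          rw [Category.assoc, ← Category.assoc (eqToHom _), eqToHom_trans, eqToHom_refl, Category.id_comp]))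
      exact h1.trans h2
    haveI : Nonempty (CostructuredArrow F i) := ⟨mkR i (𝟙 i)⟩
    have key : ∀ X : CostructuredArrow F i, Zigzag (mkR i (𝟙 i)) X := by
      have hR : ∀ (b : Fin (Fintype.card I)) (k : e.symm b ⟶ i),
          Zigzag (mkR i (𝟙 i)) (CostructuredArrow.mk (Y := (Limits.WalkingMultispan.right (J := sh)) b) (S := F) (T := i) k) := by
        intro b k
        have h : P k := by rw [hP]; trivial
        refine Zigzag.trans (h (𝟙 i)).symm (Zigzag.of_hom (CostructuredArrow.homMk
          (eqToHom (congrArg (Limits.WalkingMultispan.right (J := sh)) (e.apply_symm_apply b))) ?_))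
        simp [mkR, eqToHom_map]
      intro X
      obtain ⟨Y, ⟨⟩, k⟩ := X
      cases Y with
      | right b => exact hR b k
      | left a =>
        have hcc : ∀ k : (g a).1 ⟶ i, F.map ((Limits.WalkingMultispan.Hom.fst (J := sh)) a) ≫ eqToHom (e.symm_apply_apply (g a).1) ≫ k = k := by
          intro k
          exact (eqToHom_trans_assoc (e.symm_apply_apply (g a).1).symm (e.symm_apply_apply (g a).1) _).trans (Category.id_comp _)
        exact (hR _ (eqToHom (e.symm_apply_apply (g a).1) ≫ k)).trans
          (Zigzag.of_inv (CostructuredArrow.homMk ((Limits.WalkingMultispan.Hom.fst (J := sh)) a) (hcc k)))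
    exact zigzag_isConnected fun X Y => (key X).symm.trans (key Y)⟩
  refine ⟨Limits.WalkingMultispan sh, inferInstance, hfc, F, hfinal, hinit, ?_,
    ⟨fun ⟨x⟩ => ⟨F.obj x⟩, fun ⟨x⟩ => ⟨(Limits.WalkingMultispan.right (J := sh)) (e x)⟩⟩⟩
  haveI := hfinal
  exact Functor.isConnected_iff_of_final F

end Groth.Agent.S6438
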