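import Groth.Statements.S6446
import Mathlib

set_option autoImplicit false
open CategoryTheory CategoryTheory.Limits Opposite
universe v u
open CatLim

namespace Groth.Agent.S6446

/-- (2) ⇒ (1): over a filtered index category, a diagram `M` with a cocone `(X, M_i → X)` inducing
bijections `colim_i Mor(W, M_i) → Mor(W, X)` for all `W` is essentially constant as an ind-object
with value `X`. -/
theorem result {I : Type v} [SmallCategory I] [IsFiltered I] {C : Type u} [Category.{v} C]
    (M : I ⥤ C) (c : Cocone M)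
    (h : ∀ W : C, Function.Bijective (colimit.desc (M ⋙ coyoneda.obj (op W)) ((coyoneda.obj (op W)).mapCocone c))) :
    CatLim.IsEssConstInd M c := by
  classical
  let i0 := h c.pt
  obtain ⟨x, hx⟩ := i0.2 (𝟙 c.pt)
  obtain ⟨i, s, rfl⟩ := Types.jointly_surjective' x
  have hdesc : ∀ (W : C) (j : I) (t : W ⟶ M.obj j),
      colimit.desc (M ⋙ coyoneda.obj (op W)) ((coyoneda.obj (op W)).mapCocone c)
        (colimit.ι (M ⋙ coyoneda.obj (op W)) j t) = t ≫ c.ι.app j := fun W j t =>
    ConcreteCategory.congr_hom (colimit.ι_desc ((coyoneda.obj (op W)).mapCocone c) j) t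
  have hs : s ≫ c.ι.app i = 𝟙 c.pt := (hdesc c.pt i s).symm.trans hx
  refine ⟨i, s, hs, fun j => ?_⟩
  have he : colimit.ι (M ⋙ coyoneda.obj (op (M.obj j))) i (c.ι.app j ≫ s) =
      colimit.ι (M ⋙ coyoneda.obj (op (M.obj j))) j (𝟙 (M.obj j)) := by
    apply (h (M.obj j)).1
    rw [hdesc, hdesc, Category.assoc, hs]
    simp
  obtain ⟨k, a, b, hab⟩ := (Types.FilteredColimit.colimit_eq_iff _).1 he
  refine ⟨k, a, b, ?_⟩
  have hab' : (c.ι.app j ≫ s) ≫ M.map a = 𝟙 _ ≫ M.map b := hab
  rw [Category.id_comp, Category.assoc] at hab'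
  exact hab'.symm

end Groth.Agent.S6446
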