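import Groth.Statements.S6447
-- import your own Groth.Agent.* helpers here

set_option autoImplicit false
open CategoryTheory CategoryTheory.Limits
universe v u
open FibCat

namespace Groth.Agent.S6447

set_option backward.isDefEq.respectTransparency false
set_option linter.style.haveILetI false

/-- For a 2-fibre product `U = X ×_Y V` of categories, the square formed by `U ⟶ X`, the diagonals `U ⟶
U ×_V U`, `X ⟶ X ×_Y X` and the induced functor `U ×_V U ⟶ X ×_Y X` is 2-cartesian. (The filling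
2-isomorphism is the one whose two components at every object are identities; it exists and is
unique with that property.) -/
theorem result {X Y V : Type u} [Category.{v} X] [Category.{v} Y] [Category.{v} V] (p : X ⥤ Y) (q : V ⥤ Y) :
    ∃ e, (∀ u, (e.hom.app u).fst = 𝟙 _ ∧ (e.hom.app u).snd = 𝟙 _) ∧ FibCat.IsTwoCart
      (CategoricalPullback.π₁ p q)
      ((CategoricalPullback.CatCommSqOver.toFunctorToCategoricalPullback (CategoricalPullback.π₂ p q) (CategoricalPullback.π₂ p q) (CategoricalPullback p q)).obj ⟨𝟭 _, 𝟭 _, Iso.refl _⟩)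
      ((CategoricalPullback.CatCommSqOver.toFunctorToCategoricalPullback p p X).obj ⟨𝟭 _, 𝟭 _, Iso.refl _⟩)
      (FibCat.categoricalPullbackMap (⟨CategoricalPullback.π₁ p q, q, CategoricalPullback.π₁ p q, ⟨(CatCommSq.iso (CategoricalPullback.π₁ p q) (CategoricalPullback.π₂ p q) p q).symm⟩, ⟨(CatCommSq.iso (CategoricalPullback.π₁ p q) (CategoricalPullback.π₂ p q) p q).symm⟩⟩ : CatCospanTransform (CategoricalPullback.π₂ p q) (CategoricalPullback.π₂ p q) p p))
      e := by
  let DU := (CategoricalPullback.CatCommSqOver.toFunctorToCategoricalPullback (CategoricalPullback.π₂ p q) (CategoricalPullback.π₂ p q) (CategoricalPullback p q)).obj ⟨𝟭 _, 𝟭 _, Iso.refl _⟩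
  let DX := (CategoricalPullback.CatCommSqOver.toFunctorToCategoricalPullback p p X).obj ⟨𝟭 _, 𝟭 _, Iso.refl _⟩
  let M := FibCat.categoricalPullbackMap (⟨CategoricalPullback.π₁ p q, q, CategoricalPullback.π₁ p q, ⟨(CatCommSq.iso (CategoricalPullback.π₁ p q) (CategoricalPullback.π₂ p q) p q).symm⟩, ⟨(CatCommSq.iso (CategoricalPullback.π₁ p q) (CategoricalPullback.π₂ p q) p q).symm⟩⟩ : CatCospanTransform (CategoricalPullback.π₂ p q) (CategoricalPullback.π₂ p q) p p)
  have hM : ∀ w : CategoricalPullback (CategoricalPullback.π₂ p q) (CategoricalPullback.π₂ p q),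
      (M.obj w).iso.hom = w.fst.iso.hom ≫ q.map w.iso.hom ≫ w.snd.iso.inv := fun w => by
    simp [M, FibCat.categoricalPullbackMap]
    rfl
  let ec : ∀ u : CategoricalPullback p q, (CategoricalPullback.π₁ p q ⋙ DX).obj u ≅ (DU ⋙ M).obj u := fun u =>
    CategoricalPullback.mkIso (Iso.refl u.fst) (Iso.refl u.fst) (by
      show p.map (𝟙 u.fst) ≫ (M.obj (DU.obj u)).iso.hom = 𝟙 (p.obj u.fst) ≫ p.map (𝟙 u.fst)
      rw [hM]
      show p.map (𝟙 u.fst) ≫ u.iso.hom ≫ q.map (𝟙 u.snd) ≫ u.iso.inv = _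
      simp)
  let e : CategoricalPullback.π₁ p q ⋙ DX ≅ DU ⋙ M := NatIso.ofComponents ec (fun {u u'} f =>
    CategoricalPullback.hom_ext (by show f.fst ≫ 𝟙 _ = 𝟙 _ ≫ f.fst; simp)
      (by show f.fst ≫ 𝟙 _ = 𝟙 _ ≫ f.fst; simp))
  refine ⟨e, fun u => ⟨rfl, rfl⟩, ?_⟩
  let Φ := (CategoricalPullback.CatCommSqOver.toFunctorToCategoricalPullback DX M (CategoricalPullback p q)).obj
    ⟨CategoricalPullback.π₁ p q, DU, e⟩
  show Φ.IsEquivalence
  haveI : Φ.Faithful := ⟨fun {u u'} f g h => congrArg (fun k => k.snd.fst) h⟩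
  haveI : Φ.Full := ⟨fun {u u'} m => by
    have h1 : m.fst ≫ 𝟙 u'.fst = 𝟙 u.fst ≫ m.snd.fst.fst := congrArg (fun k => k.fst) m.w
    have h2 : m.fst ≫ 𝟙 u'.fst = 𝟙 u.fst ≫ m.snd.snd.fst := congrArg (fun k => k.snd) m.w
    have h3 : m.snd.fst.snd ≫ 𝟙 u'.snd = 𝟙 u.snd ≫ m.snd.snd.snd := m.snd.w
    have a1 : m.fst = m.snd.fst.fst := (Category.comp_id _).symm.trans (h1.trans (Category.id_comp _))
    have a2 : m.fst = m.snd.snd.fst := (Category.comp_id _).symm.trans (h2.trans (Category.id_comp _))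
    have a3 : m.snd.fst.snd = m.snd.snd.snd := (Category.comp_id _).symm.trans (h3.trans (Category.id_comp _))
    exact ⟨m.snd.fst, CategoricalPullback.hom_ext a1.symm (CategoricalPullback.hom_ext rfl
      (CategoricalPullback.hom_ext (a1.symm.trans a2) a3))⟩⟩
  haveI : Φ.EssSurj := ⟨fun o => by
    let i : o.fst ≅ o.snd.fst.fst := (CategoricalPullback.π₁ p p).mapIso o.iso
    let i' : o.fst ≅ o.snd.snd.fst := (CategoricalPullback.π₂ p p).mapIso o.iso
    have hi : p.map i.hom ≫ (M.obj o.snd).iso.hom = 𝟙 (p.obj o.fst) ≫ p.map i'.hom := o.iso.hom.w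
    rw [hM, Category.id_comp] at hi
    let γ : o.snd.fst ≅ o.snd.snd := CategoricalPullback.mkIso (i.symm ≪≫ i') o.snd.iso (by
      show p.map (i.inv ≫ i'.hom) ≫ o.snd.snd.iso.hom = o.snd.fst.iso.hom ≫ q.map o.snd.iso.hom
      rw [p.map_comp, ← hi]
      simp [← Functor.map_comp_assoc])
    let w : DU.obj o.snd.fst ≅ o.snd := CategoricalPullback.mkIso (Iso.refl _) γ (by
      show (𝟙 o.snd.fst.snd) ≫ o.snd.iso.hom = 𝟙 o.snd.fst.snd ≫ o.snd.iso.hom
      rfl)
    refine ⟨o.snd.fst, ⟨CategoricalPullback.mkIso i.symm w (CategoricalPullback.hom_ext ?_ ?_)⟩⟩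
    · show i.inv ≫ i.hom = 𝟙 o.snd.fst.fst ≫ 𝟙 o.snd.fst.fst
      simp
    · show i.inv ≫ i'.hom = 𝟙 o.snd.fst.fst ≫ i.inv ≫ i'.hom
      simp⟩
  exact { }

end Groth.Agent.S6447
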