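import Groth.Statements.S6450
import Groth.Agent.BivarOps.InterAssoc
-- import your own Groth.Agent.* helpers here

set_option autoImplicit false
set_option linter.style.haveILetI false
set_option backward.isDefEq.respectTransparency false
universe u
open CategoryTheory CategoryTheory.Limits AlgebraicGeometry
attribute [local instance] HasDerivedCategory.standard
open IntMult
open Groth.Agent

namespace Groth.Agent.S6450

/-- Let X be a nonsingular variety of dimension n and U, V, W closed subvarieties, with generic points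
ξU, ξV, ξW, which intersect properly pairwise and with dim(U ∩ V ∩ W) ≤ dim U + dim V + dim W − 2n.
Then U · (V · W) = (U · V) · W as cycles on X. The prime cycle [U] is the indicator function of the
generic point ξU. Here X is a nonsingular variety over the algebraically closed field K (smooth,
separated, quasi-compact, integral) with dimension function δ (transcendence degree over K, recorded
by Cyc.DeltaCompat to Spec K with value 0, together with Cyc.IsSetup) and n = dim X = δ of the
generic point; cycles are coefficient functions X → ℤ, proper intersection is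
IntMult.IntersectProperly and α · β is the Tor-formula intersection product on coefficient functions
(IntMult.interProd). -/
theorem result (K : Type u) [Field K] [IsAlgClosed K] (X : Scheme.{u}) (f : X ⟶ Spec (CommRingCat.of K)) [Smooth f] [IsSeparated f] [QuasiCompact f] [IsIntegral X] (δ : X → ℤ) (hX : Cyc.IsSetup X δ) (hδ : Cyc.DeltaCompat f δ (fun _ => 0)) (n : ℤ) (hn : δ (genericPoint X) = n) (ξU ξV ξW : X) (hUV : IntMult.IntersectProperly δ n (Set.indicator {ξU} 1) (Set.indicator {ξV} 1)) (hVW : IntMult.IntersectProperly δ n (Set.indicator {ξV} 1) (Set.indicator {ξW} 1)) (hUW : IntMult.IntersectProperly δ n (Set.indicator {ξU} 1) (Set.indicator {ξW} 1)) (hUVW : ∀ ζ : X, ξU ⤳ ζ → ξV ⤳ ζ → ξW ⤳ ζ → δ ζ ≤ δ ξU + δ ξV + δ ξW - 2 * n) : IntMult.interProd δ n (Set.indicator {ξU} 1) (IntMult.interProd δ n (Set.indicator {ξV} 1) (Set.indicator {ξW} 1)) = IntMult.interProd δ n (IntMult.interProd δ n (Set.indicator {ξU} 1) (Set.indicator {ξV} 1)) (Set.indicator {ξW} 1) := by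
  haveI := hX.1
  have hVW' : ∀ η : X, ξV ⤳ η → ξW ⤳ η → δ η ≤ δ ξV + δ ξW - n := fun η h1 h2 =>
    hVW ξV ξW η (by simp) (by simp) h1 h2
  have hUV' : ∀ η : X, ξU ⤳ η → ξV ⤳ η → δ η ≤ δ ξU + δ ξV - n := fun η h1 h2 =>
    hUV ξU ξV η (by simp) (by simp) h1 h2
  funext ζ
  rw [BivarOps.interProd_comm δ n (IntMult.interProd δ n (Set.indicator {ξU} 1) (Set.indicator {ξV} 1))]
  by_cases h : ξU ⤳ ζ ∧ ξV ⤳ ζ ∧ ξW ⤳ ζ ∧ δ ζ = δ ξU + δ ξV + δ ξW - 2 * n
  · obtain ⟨hu, hv, hw, hd⟩ := h
    haveI := SmLocalST.isRegularLocalRing_stalk_of_smooth_field f ζ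
    obtain ⟨hA₁, e₁⟩ := BivarOps.interProd_triple K f hX.2.2 n hn ξU ξV ξW ζ hu hv hw hd hVW' hUVW
    obtain ⟨hA₂, e₂⟩ := BivarOps.interProd_triple K f hX.2.2 n hn ξW ξU ξV ζ hw hu hv (by omega) hUV'
      (fun z h1 h2 h3 => le_of_le_of_eq (hUVW z h2 h3 h1) (by ring))
    rw [e₁, e₂]
    exact BivarOps.sum_chi_tor_eq _ _ _ hA₁ hA₂
  · have h0 : IntMult.interProd δ n (Set.indicator {ξU} 1)
        (IntMult.interProd δ n (Set.indicator {ξV} 1) (Set.indicator {ξW} 1)) ζ = 0 :=
      of_not_not fun hne => h (BivarOps.interProd_triple_ne hne)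
    rw [h0, eq_comm]
    refine of_not_not fun hne => h ?_
    obtain ⟨h1, h2, h3, h4⟩ := BivarOps.interProd_triple_ne hne
    exact ⟨h2, h3, h1, by omega⟩

end Groth.Agent.S6450
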