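import Groth.Statements.S6471
import Groth.Agent.S6470
import Groth.Agent.S1897
import Groth.Agent.BivarOps.ChiPull
import Groth.Agent.QC.Pullback
-- import your own Groth.Agent.* helpers here

set_option autoImplicit false
set_option linter.style.haveILetI false
set_option backward.isDefEq.respectTransparency false
set_option maxHeartbeats 1000000
universe u
open CategoryTheory CategoryTheory.Limits AlgebraicGeometry
attribute [local instance] HasDerivedCategory.standard
open IntMult
open Groth.Agent

namespace Groth.Agent.S6471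

/-- For a flat morphism f : X → Y between nonsingular varieties, with e = dim X − dim Y (every fibre
component has dimension e), and coherent O_Y-modules F, G whose supports have dimension at most r
and s and meet in dimension at most r + s − dim Y, the cycles of the pulled-back modules,
[f^*F]_{r+e} and [f^*G]_{s+e}, meet properly, and pulling back the product [F]_r · [G]_s along f
gives their product: f^*([F]_r · [G]_s) = [f^*F]_{r+e} · [f^*G]_{s+e}, coefficientwise (f^* on
cycles is Cyc.pullFun with relative dimension e, f^* on modules is Mathlib's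
Scheme.Modules.pullback). Here X is a nonsingular variety over the algebraically closed field K
(smooth, separated, quasi-compact, integral) with dimension function δ (transcendence degree over K,
recorded by Cyc.DeltaCompat to Spec K with value 0, together with Cyc.IsSetup) and n = dim X = δ of
the generic point; cycles are coefficient functions X → ℤ, proper intersection is
IntMult.IntersectProperly and α · β is the Tor-formula intersection product on coefficient functions
(IntMult.interProd). The same holds for Y with δY and m = dim Y. -/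
theorem result (K : Type u) [Field K] [IsAlgClosed K] (X Y : Scheme.{u}) (f : X ⟶ Y) (gX : X ⟶ Spec (CommRingCat.of K)) (gY : Y ⟶ Spec (CommRingCat.of K)) (hf : f ≫ gY = gX) [Smooth gX] [IsSeparated gX] [QuasiCompact gX] [IsIntegral X] [Smooth gY] [IsSeparated gY] [QuasiCompact gY] [IsIntegral Y] [Flat f] (δX : X → ℤ) (δY : Y → ℤ) (hX : Cyc.IsSetup X δX) (hY : Cyc.IsSetup Y δY) (hδX : Cyc.DeltaCompat gX δX (fun _ => 0)) (hδY : Cyc.DeltaCompat gY δY (fun _ => 0)) (hδ : Cyc.DeltaCompat f δX δY) (n m : ℤ) (hn : δX (genericPoint X) = n) (hm : δY (genericPoint Y) = m) (e : ℕ) (he : (e : ℤ) = n - m) (hrel : Cyc.HasRelDim f e) (F G : Y.Modules) (hF : Coh.IsCoh F) (hG : Coh.IsCoh G) (r s : ℤ) (hr : ∀ y : Y, Nontrivial (F.presheaf.stalk y) → δY y ≤ r) (hs : ∀ y : Y, Nontrivial (G.presheaf.stalk y) → δY y ≤ s) (hrs : ∀ y : Y, Nontrivial (F.presheaf.stalk y) → Nontrivial (G.presheaf.stalk y) → δY y ≤ r + s - m) : IntMult.IntersectProperly δX n (Cyc.sheafFun δX (r + e) ((Scheme.Modules.pullback f).obj F)) (Cyc.sheafFun δX (s + e) ((Scheme.Modules.pullback f).obj G))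 ∧ Cyc.pullFun f δX δY e (IntMult.interProd δY m (Cyc.sheafFun δY r F) (Cyc.sheafFun δY s G)) = IntMult.interProd δX n (Cyc.sheafFun δX (r + e) ((Scheme.Modules.pullback f).obj F)) (Cyc.sheafFun δX (s + e) ((Scheme.Modules.pullback f).obj G)) := by
  haveI := hX.1
  haveI := hY.1
  haveI : LocallyOfFiniteType f := by
    haveI : LocallyOfFiniteType (f ≫ gY) := hf ▸ inferInstance
    exact locallyOfFiniteType_of_comp f gY
  obtain ⟨hdF, -⟩ := Groth.Agent.S1897.result X Y δX δY hX hY f e hrel hδ r F hF hr
  obtain ⟨hdG, -⟩ := Groth.Agent.S1897.result X Y δX δY hX hY f e hrel hδ s G hG hs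
  haveI := hF.1
  haveI := hG.1
  have hz : ∀ (H : Y.Modules) (x : X), Subsingleton (H.presheaf.stalk (f x)) →
      Subsingleton (((Scheme.Modules.pullback f).obj H).presheaf.stalk x) := by
    intro H x hs'
    letI := (f.stalkMap x).hom.toAlgebra
    have hT : Subsingleton (TensorProduct (Y.presheaf.stalk (f x)) (X.presheaf.stalk x) (H.presheaf.stalk (f x))) :=
      inferInstance
    exact @Equiv.subsingleton _ _ ((KFlat.pullStalkIso f x).app H).toLinearEquiv.toEquiv hT
  have hrs' : ∀ x : X, Nontrivial (((Scheme.Modules.pullback f).obj F).presheaf.stalk x) →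
      Nontrivial (((Scheme.Modules.pullback f).obj G).presheaf.stalk x) → δX x ≤ r + e + (s + e) - n := by
    intro x h1 h2
    have := hrs (f x) (not_subsingleton_iff_nontrivial.1 fun h => not_subsingleton_iff_nontrivial.2 h1 (hz F x h))
      (not_subsingleton_iff_nontrivial.1 fun h => not_subsingleton_iff_nontrivial.2 h2 (hz G x h))
    obtain ⟨h3, -⟩ := CycDim.delta_le f hδ hrel x
    omega
  have hFX : Coh.IsCoh ((Scheme.Modules.pullback f).obj F) := QC.isCoh_pullback f hF
  have hGX : Coh.IsCoh ((Scheme.Modules.pullback f).obj G) := QC.isCoh_pullback f hG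
  obtain ⟨hI, hval⟩ := Groth.Agent.S6470.result K X gX δX hX hδX n hn _ _ hFX hGX (r + e) (s + e) hdF hdG hrs'
  obtain ⟨-, hvalY⟩ := Groth.Agent.S6470.result K Y gY δY hY hδY m hm F G hF hG r s hr hs hrs
  refine ⟨hI, funext fun x => ?_⟩
  rw [hval x, Cyc.pullFun, hvalY (f x)]
  obtain ⟨h3, -⟩ := CycDim.delta_le f hδ hrel x
  by_cases hc : δX x = r + e + (s + e) - n
  · rw [if_pos hc]
    by_cases hk : δY (f x) = r + s - m
    · rw [if_pos (show δX x = δY (f x) + e by omega), if_pos hk]
      letI := (f.stalkMap x).hom.toAlgebra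
      haveI : Module.Flat (Y.presheaf.stalk (f x)) (X.presheaf.stalk x) := Flat.stalkMap f x
      haveI : IsLocalHom (algebraMap (Y.presheaf.stalk (f x)) (X.presheaf.stalk x)) :=
        inferInstanceAs (IsLocalHom (f.stalkMap x).hom)
      refine (BivarOps.chi_baseChange (Y.presheaf.stalk (f x)) (X.presheaf.stalk x) (F.presheaf.stalk (f x))
        (G.presheaf.stalk (f x))).symm.trans (finsum_congr fun i => ?_)
      exact congrArg (fun l : ℕ∞ => (-1 : ℤ) ^ i * (l.toNat : ℤ))
        (DiagTor.length_tor_congr ((KFlat.pullStalkIso f x).app F).toLinearEquiv.symm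
          ((KFlat.pullStalkIso f x).app G).toLinearEquiv.symm i)
    · rw [if_neg hk, zero_mul, ite_self]
      by_cases hN : Nontrivial (F.presheaf.stalk (f x))
      · have : ¬ Nontrivial (G.presheaf.stalk (f x)) := fun h => by
          have := hrs (f x) hN h
          omega
        haveI := hz G x (not_nontrivial_iff_subsingleton.1 this)
        exact (BivarOps.chi_subsingleton_right _ _).symm
      · haveI := hz F x (not_nontrivial_iff_subsingleton.1 hN)
        exact (BivarOps.chi_subsingleton_left _ _).symm
  · rw [if_neg hc]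
    split_ifs <;> first | rfl | omega | simp

end Groth.Agent.S6471
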