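import Groth.Statements.S6451
import Groth.Agent.S6471
import Groth.Agent.BivarOps.InterBilin
-- import your own Groth.Agent.* helpers here

set_option autoImplicit false
set_option linter.style.haveILetI false
set_option backward.isDefEq.respectTransparency false
set_option maxHeartbeats 1000000
universe u
open CategoryTheory CategoryTheory.Limits AlgebraicGeometry
attribute [local instance] HasDerivedCategory.standard
open IntMult
open Groth.Agent

namespace Groth.Agent.S6451

/-- For a flat morphism f : X → Y between nonsingular varieties, with e = dim X − dim Y (every fibre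
component has dimension e), and for cycles α ∈ Z_r(Y) and β ∈ Z_s(Y) meeting properly, the flat
pullbacks f^*α and f^*β again meet properly and pulling back commutes with the product: f^*(α · β) =
f^*α · f^*β, coefficientwise (flat pullback is Cyc.pullFun with relative dimension e). Here X is a
nonsingular variety over the algebraically closed field K (smooth, separated, quasi-compact,
integral) with dimension function δ (transcendence degree over K, recorded by Cyc.DeltaCompat to
Spec K with value 0, together with Cyc.IsSetup) and n = dim X = δ of the generic point; cycles are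
Mathlib AlgebraicCycles with Cyc.Zk membership, proper intersection is IntMult.IntersectProperly and
α · β is the Tor-formula intersection product on coefficient functions (IntMult.interProd). The same
holds for Y with δY and m = dim Y. -/
theorem result (K : Type u) [Field K] [IsAlgClosed K] (X Y : Scheme.{u}) (f : X ⟶ Y) (gX : X ⟶ Spec (CommRingCat.of K)) (gY : Y ⟶ Spec (CommRingCat.of K)) (hf : f ≫ gY = gX) [Smooth gX] [IsSeparated gX] [QuasiCompact gX] [IsIntegral X] [Smooth gY] [IsSeparated gY] [QuasiCompact gY] [IsIntegral Y] [Flat f] (δX : X → ℤ) (δY : Y → ℤ) (hX : Cyc.IsSetup X δX) (hY : Cyc.IsSetup Y δY) (hδX : Cyc.DeltaCompat gX δX (fun _ => 0)) (hδY : Cyc.DeltaCompat gY δY (fun _ => 0)) (hδ : Cyc.DeltaCompat f δX δY) (n m : ℤ) (hn : δX (genericPoint X) = n) (hm : δY (genericPoint Y) = m) (e : ℕ) (he : (e : ℤ) = n - m) (hrel : Cyc.HasRelDim f e) (r s : ℤ) (α β : AlgebraicCycle Y ℤ) (hα : α ∈ Cyc.Zk Y δY r) (hβ : β ∈ Cyc.Zk Y δY s) (hprop : IntMult.IntersectProperly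 δY m ⇑α ⇑β) : IntMult.IntersectProperly δX n (Cyc.pullFun f δX δY e ⇑α) (Cyc.pullFun f δX δY e ⇑β) ∧ Cyc.pullFun f δX δY e (IntMult.interProd δY m ⇑α ⇑β) = IntMult.interProd δX n (Cyc.pullFun f δX δY e ⇑α) (Cyc.pullFun f δX δY e ⇑β) := by
  classical
  haveI := hX.1
  haveI := hY.1
  haveI : LocallyOfFiniteType f := by
    haveI : LocallyOfFiniteType (f ≫ gY) := hf ▸ inferInstance
    exact locallyOfFiniteType_of_comp f gY
  have hne : ∀ (γ : AlgebraicCycle Y ℤ) (ξ : X), Cyc.pullFun f δX δY e γ ξ ≠ 0 →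
      γ (f ξ) ≠ 0 ∧ δX ξ = δY (f ξ) + e := by
    intro γ ξ h
    rw [Cyc.pullFun] at h
    split_ifs at h with hc
    · exact ⟨left_ne_zero_of_mul h, hc⟩
    · exact absurd rfl h
  constructor
  · intro ξ η ζ hξ hη h1 h2
    obtain ⟨hξ0, hξe⟩ := hne α ξ hξ
    obtain ⟨hη0, hηe⟩ := hne β η hη
    have := hprop _ _ _ hξ0 hη0 (h1.map f.continuous) (h2.map f.continuous)
    obtain ⟨h3, -⟩ := CycDim.delta_le f hδ hrel ζ
    omega
  funext x
  let A := (BivarOps.finite_gens α (f x)).toFinset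
  let B := (BivarOps.finite_gens β (f x)).toFinset
  choose FF hFc hFs hFd hFv using fun a : Y => BivarOps.exists_pointSheaf hY a
  let i1 : Y → Y → ℤ := fun a => Cyc.sheafFun δY (δY a) (FF a)
  have hA : ∀ a ∈ A, a ⤳ f x ∧ α a ≠ 0 ∧ δY a = r := fun a ha => by
    obtain ⟨h1, h2⟩ := (BivarOps.finite_gens α (f x)).mem_toFinset.1 ha
    exact ⟨h1, h2, of_not_not fun h => h2 (hα a h)⟩
  have hB : ∀ b ∈ B, b ⤳ f x ∧ β b ≠ 0 ∧ δY b = s := fun b hb => by
    obtain ⟨h1, h2⟩ := (BivarOps.finite_gens β (f x)).mem_toFinset.1 hb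
    exact ⟨h1, h2, of_not_not fun h => h2 (hβ b h)⟩
  have hexp : ∀ (γ : AlgebraicCycle Y ℤ) (y : Y), y ⤳ f x →
      γ y = ∑ a ∈ (BivarOps.finite_gens γ (f x)).toFinset, γ a * i1 a y := by
    intro γ y hy
    rw [Finset.sum_eq_single y]
    · show γ y = γ y * Cyc.sheafFun δY (δY y) (FF y) y
      rw [hFv, if_pos rfl, mul_one]
    · intro a _ hay
      show γ a * Cyc.sheafFun δY (δY a) (FF a) y = 0
      rw [hFv, if_neg hay.symm, mul_zero]
    · intro hy'
      rw [Set.Finite.mem_toFinset] at hy'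
      rw [show γ y = 0 from of_not_not fun h => hy' ⟨hy, h⟩, zero_mul]
  have hexpX : ∀ (γ : AlgebraicCycle Y ℤ) (ξ : X), ξ ⤳ x → Cyc.pullFun f δX δY e γ ξ =
      ∑ a ∈ (BivarOps.finite_gens γ (f x)).toFinset, γ a * Cyc.pullFun f δX δY e (i1 a) ξ := by
    intro γ ξ hξ
    simp only [Cyc.pullFun]
    split_ifs with hc
    · rw [hexp γ _ (hξ.map f.continuous), Finset.sum_mul]
      exact Finset.sum_congr rfl fun a _ => mul_assoc _ _ _
    · simp
  have hfinY : ∀ a, {ξ | ξ ⤳ f x ∧ i1 a ξ ≠ 0}.Finite := fun a => (Set.finite_singleton a).subset fun ξ hξ => by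
    by_contra h
    exact hξ.2 ((hFv a ξ).trans (if_neg h))
  have hfinX : ∀ a, {ξ | ξ ⤳ x ∧ Cyc.pullFun f δX δY e (i1 a) ξ ≠ 0}.Finite := fun a => by
    obtain ⟨hd, heq⟩ := Groth.Agent.S1897.result X Y δX δY hX hY f e hrel hδ (δY a) (FF a) (hFc a) (hFd a)
    obtain ⟨S, hS, -⟩ := BivarOps.exists_top_primes hX.2.2 (QC.isCoh_pullback f (hFc a)) (δY a + e) hd x
    refine (S.finite_toSet.image (X.fromSpecStalk x)).subset fun ξ hξ => ?_
    refine ⟨_, (hS ξ hξ.1).2 ?_, BivarOps.fromSpecStalk_genPrime hξ.1⟩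
    have h2 := hξ.2
    rw [show Cyc.pullFun f δX δY e (i1 a) = _ from heq, Cyc.sheafFun] at h2
    split_ifs at h2 with hk
    · refine ⟨not_subsingleton_iff_nontrivial.1 fun hsub => h2 ?_, hk⟩
      rw [Module.length_eq_zero, ENat.toNat_zero, Nat.cast_zero]
    · exact absurd rfl h2
  have key : ∀ a ∈ A, ∀ b ∈ B, Cyc.pullFun f δX δY e (IntMult.interProd δY m (i1 a) (i1 b)) =
      IntMult.interProd δX n (Cyc.pullFun f δX δY e (i1 a)) (Cyc.pullFun f δX δY e (i1 b)) := by
    intro a ha b hb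
    obtain ⟨-, ha0, har⟩ := hA a ha
    obtain ⟨-, hb0, hbs⟩ := hB b hb
    obtain ⟨hd1, heq1⟩ := Groth.Agent.S1897.result X Y δX δY hX hY f e hrel hδ (δY a) (FF a) (hFc a) (hFd a)
    obtain ⟨hd2, heq2⟩ := Groth.Agent.S1897.result X Y δX δY hX hY f e hrel hδ (δY b) (FF b) (hFc b) (hFd b)
    show _ = IntMult.interProd δX n (Cyc.pullFun f δX δY e (Cyc.sheafFun δY (δY a) (FF a)))
      (Cyc.pullFun f δX δY e (Cyc.sheafFun δY (δY b) (FF b)))
    rw [heq1, heq2]
    exact (Groth.Agent.S6471.result K X Y f gX gY hf δX δY hX hY hδX hδY hδ n m hn hm e he hrel (FF a) (FF b)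
      (hFc a) (hFc b) (δY a) (δY b) (hFd a) (hFd b)
      fun y h1 h2 => hprop a b y ha0 hb0 (hFs a y h1) (hFs b y h2)).2
  rw [BivarOps.interProd_sum x A B α β (fun a => Cyc.pullFun f δX δY e (i1 a))
    (fun b => Cyc.pullFun f δX δY e (i1 b)) _ _ (hexpX α) (hexpX β) (fun a _ => hfinX a) (fun b _ => hfinX b)]
  rw [show Cyc.pullFun f δX δY e (IntMult.interProd δY m ⇑α ⇑β) x =
      ∑ a ∈ A, ∑ b ∈ B, α a * β b * Cyc.pullFun f δX δY e (IntMult.interProd δY m (i1 a) (i1 b)) x by
    simp only [Cyc.pullFun]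
    split_ifs with hc
    · rw [BivarOps.interProd_sum (f x) A B α β i1 i1 _ _ (hexp α) (hexp β) (fun a _ => hfinY a) (fun b _ => hfinY b),
        Finset.sum_mul]
      refine Finset.sum_congr rfl fun a _ => ?_
      rw [Finset.sum_mul]
      exact Finset.sum_congr rfl fun b _ => mul_assoc _ _ _
    · simp]
  exact Finset.sum_congr rfl fun a ha => Finset.sum_congr rfl fun b hb => by rw [key a ha b hb]

end Groth.Agent.S6451
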