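import Groth.Statements.S6452
import Groth.Agent.BivarOps.IntMultLemmas
import Groth.Agent.CMFlat.Local
import Groth.Agent.SmLocalST.SmoothField
-- import your own Groth.Agent.* helpers here

set_option autoImplicit false
set_option backward.isDefEq.respectTransparency false
universe u
open CategoryTheory AlgebraicGeometry
attribute [local instance] HasDerivedCategory.standard
open IntMult

namespace Groth.Agent.S6452

/-- Suppose the ideal of V in O_{X,ξ} is generated by a regular sequence g₁, …, g_c and the local ring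
O_{W,ξ} is Cohen–Macaulay. Then e(X, V·W, Z) = length_{O_{X,ξ}}(O_{W,ξ}/(g₁, …, g_c)O_{W,ξ}), i.e.
the length of O_{X,ξ}/(I_{W,ξ} + I_{V,ξ}). Here X is a nonsingular variety over an algebraically
closed field K (smooth, separated, quasi-compact, integral), V and W are closed subvarieties given
by quasi-coherent ideal sheaves with integral subschemes, of dimensions r and s with dim X = n,
intersecting properly, and ξ is the generic point of an irreducible component Z of V ∩ W (a point of
V ∩ W maximal under specialization); e(X, V·W, Z) = IntMult.mult is the alternating sum of lengths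
of Tor over O_{X,ξ}, and O_{W,ξ} = O_{X,ξ}/I_{W,ξ}. -/
theorem result (K : Type u) [Field K] [IsAlgClosed K] (X : Scheme.{u}) (f : X ⟶ Spec (CommRingCat.of K)) [Smooth f] [IsSeparated f] [QuasiCompact f] [IsIntegral X] (IV IW : X.IdealSheafData) [IsIntegral IV.subscheme] [IsIntegral IW.subscheme] (n r s : ℕ) (hn : topologicalKrullDim X = n) (hr : topologicalKrullDim IV.support = r) (hs : topologicalKrullDim IW.support = s) (hprop : IntMult.ProperInt (IV.support : Set X) (IW.support : Set X) n r s) (ξ : X) (hξV : ξ ∈ IV.support) (hξW : ξ ∈ IW.support) (hmax : ∀ ξ' : X, ξ' ∈ IV.support → ξ' ∈ IW.support → ξ' ⤳ ξ → ξ' = ξ) (c : ℕ) (g : Fin c → ↑(X.presheaf.stalk ξ)) (hg : IntMult.stalkIdeal IV ξ = Ideal.span (Set.range g)) (hreg : RingTheory.Sequence.IsRegular (↑(X.presheaf.stalk ξ)) (List.ofFn g)) (hW : LocCoh.IsCohenMacaulayLocalRing (↑(X.presheaf.stalk ξ) ⧸ IntMult.stalkIdeal IW ξ)) : (IntMult.mult IV IW ξ : ℤ) = (Module.length (X.presheaf.stalk ξ) (↑(X.presheaf.stalk ξ) ⧸ (IntMult.stalkIdeal IW ξ ⊔ IntMult.stalkIdeal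 IV ξ))).toNat := by
  haveI : IsLocallyNoetherian X := LocallyOfFiniteType.isLocallyNoetherian f
  set P := IntMult.stalkIdeal IW ξ with hP
  haveI := hW
  have hx : ∀ {I : X.IdealSheafData}, ξ ∈ I.support → IntMult.stalkIdeal I ξ ≤ IsLocalRing.maximalIdeal _ :=
    fun h => BivarOps.stalkIdeal_le_maximal _ h
  obtain ⟨hA, -⟩ := BivarOps.ringKrullDim_stalk_eq f n hn ξ
  obtain ⟨hdV, hdr⟩ := BivarOps.stalk_quot_dim f IV r hr hξV
  obtain ⟨hdW, hds⟩ := BivarOps.stalk_quot_dim f IW s hs hξW
  obtain ⟨hle, hd⟩ := hprop ⟨ξ, hξV, hξW⟩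
  have hpd := BivarOps.pdim_le_of_proper IV.support.isClosed IW.support.isClosed hξV hξW hd
  have hof : Ideal.ofList (List.ofFn g) = IntMult.stalkIdeal IV ξ := by
    rw [hg, Ideal.ofList]
    congr 1
    ext a
    simp [List.mem_ofFn]
  have hc := ringKrullDim_add_length_eq_ringKrullDim_of_isRegular (List.ofFn g) hreg
  rw [hof, List.length_ofFn, hdV, hA] at hc
  norm_cast at hc
  let rs : List (X.presheaf.stalk ξ ⧸ P) := List.ofFn fun i : Fin c => Ideal.Quotient.mk P (g i)
  have hrs : Ideal.ofList rs = (IntMult.stalkIdeal IV ξ).map (Ideal.Quotient.mk P) := by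
    rw [← hof, Ideal.map_ofList, List.map_ofFn]
    rfl
  have hrad : (Ideal.ofList rs).radical = IsLocalRing.maximalIdeal (X.presheaf.stalk ξ ⧸ P) := by
    have h := BivarOps.radical_sup_stalkIdeal IV IW hξV hξW hmax
    have hk : RingHom.ker (Ideal.Quotient.mk P) ≤ IntMult.stalkIdeal IV ξ ⊔ P := by
      rw [Ideal.mk_ker]; exact le_sup_right
    have h2 := Ideal.map_radical_of_surjective Ideal.Quotient.mk_surjective hk
    rw [Ideal.map_sup, Ideal.map_quotient_self, sup_bot_eq, h] at h2
    rw [hrs, ← h2]
    rcases Ideal.map_eq_top_or_isMaximal_of_surjective (Ideal.Quotient.mk P) Ideal.Quotient.mk_surjective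
      (IsLocalRing.maximalIdeal.isMaximal (X.presheaf.stalk ξ)) with h' | h'
    · exfalso
      have h'' := congrArg (Ideal.comap (Ideal.Quotient.mk P)) h'
      rw [Ideal.comap_top, Ideal.comap_map_of_surjective _ Ideal.Quotient.mk_surjective, ← RingHom.ker_eq_comap_bot,
        Ideal.mk_ker, sup_eq_left.2 (hx hξW)] at h''
      exact (IsLocalRing.maximalIdeal.isMaximal _).ne_top h''
    · exact IsLocalRing.eq_maximalIdeal h' 
  have hlen : ringKrullDim (X.presheaf.stalk ξ ⧸ P) = (rs.length : WithBot ℕ∞) := by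
    refine le_antisymm ?_ ?_
    · let S : Set (X.presheaf.stalk ξ ⧸ P) := {a | a ∈ rs}
      have hS : (Ideal.span S) = Ideal.ofList rs := rfl
      have hz : ringKrullDim ((X.presheaf.stalk ξ ⧸ P) ⧸ Ideal.span S) ≤ 0 := by
        rw [hS]
        refine Ring.krullDimLE_iff.1 (Ring.krullDimLE_zero_iff.2 fun Q hQ => ?_)
        haveI := hQ
        have hm : (Q.comap (Ideal.Quotient.mk (Ideal.ofList rs))) = IsLocalRing.maximalIdeal _ := by
          refine le_antisymm (IsLocalRing.le_maximalIdeal (Ideal.IsPrime.comap _).ne_top) ?_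
          rw [← hrad]
          refine (Ideal.IsPrime.comap _).radical_le_iff.2 fun a ha => ?_
          rw [Ideal.mem_comap, Ideal.Quotient.eq_zero_iff_mem.2 ha]
          exact Q.zero_mem
        haveI : (Q.comap (Ideal.Quotient.mk (Ideal.ofList rs))).IsMaximal := hm ▸ IsLocalRing.maximalIdeal.isMaximal _
        rw [← Ideal.map_comap_of_surjective (Ideal.Quotient.mk (Ideal.ofList rs)) Ideal.Quotient.mk_surjective Q]
        exact (Ideal.map_eq_top_or_isMaximal_of_surjective _ Ideal.Quotient.mk_surjective ‹_›).resolve_left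
          (by rw [Ideal.map_comap_of_surjective _ Ideal.Quotient.mk_surjective]; exact hQ.ne_top)
      refine (ringKrullDim_le_ringKrullDim_quotient_add_encard S fun a ha => ?_).trans ?_
      · show a ∈ Ring.jacobson _
        rw [IsLocalRing.ringJacobson_eq_maximalIdeal, ← hrad]
        exact Ideal.le_radical (Ideal.subset_span ha)
      · refine (add_le_add hz le_rfl).trans ?_
        rw [zero_add]
        have : S.encard ≤ rs.length := by
          classical
          have : S = (rs.toFinset : Set _) := by ext; simp [S]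
          rw [this, Set.encard_coe_eq_coe_finsetCard]
          exact_mod_cast rs.toFinset_card_le
        exact_mod_cast this
    · rw [hdW, List.length_ofFn, Nat.cast_le]
      omega
  have hregP := CMFlat.isWeaklyRegular_of_radical rs hlen hrad
  have hne : Ideal.span (Set.range g) ⊔ P ≠ ⊤ := by
    intro h
    have := sup_le (hx hξV) (hx hξW)
    rw [hg, ← hP, h] at this
    exact (IsLocalRing.maximalIdeal.isMaximal _).ne_top (top_le_iff.1 this)
  rw [IntMult.mult, hg, ← hP]
  exact BivarOps.chi_eq_length P _ fun i hi =>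
    BivarOps.subsingleton_tor_of_regular_quot c g hreg.toIsWeaklyRegular P hne hregP i hi

end Groth.Agent.S6452
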