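import Groth.Statements.S6453
import Groth.Agent.BivarOps.IntMultLemmas
import Groth.Agent.S14434
import Groth.Agent.SmLocalST.SmoothField
-- import your own Groth.Agent.* helpers here

set_option autoImplicit false
set_option backward.isDefEq.respectTransparency false
universe u
open CategoryTheory AlgebraicGeometry
attribute [local instance] HasDerivedCategory.standard
open IntMult

namespace Groth.Agent.S6453

/-- Suppose the ideal of V in O_{X,ξ} is generated by a single nonzerodivisor g (c = 1: V is an
effective Cartier divisor at ξ). Then e(X, V·W, Z) = length_{O_{X,ξ}}(O_{W,ξ}/g O_{W,ξ}), i.e. the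
length of O_{X,ξ}/(I_{W,ξ} + (g)). Here X is a nonsingular variety over an algebraically closed
field K (smooth, separated, quasi-compact, integral), V and W are closed subvarieties given by
quasi-coherent ideal sheaves with integral subschemes, of dimensions r and s with dim X = n,
intersecting properly, and ξ is the generic point of an irreducible component Z of V ∩ W (a point of
V ∩ W maximal under specialization); e(X, V·W, Z) = IntMult.mult is the alternating sum of lengths
of Tor over O_{X,ξ}, and O_{W,ξ} = O_{X,ξ}/I_{W,ξ}. -/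
theorem result (K : Type u) [Field K] [IsAlgClosed K] (X : Scheme.{u}) (f : X ⟶ Spec (CommRingCat.of K)) [Smooth f] [IsSeparated f] [QuasiCompact f] [IsIntegral X] (IV IW : X.IdealSheafData) [IsIntegral IV.subscheme] [IsIntegral IW.subscheme] (n r s : ℕ) (hn : topologicalKrullDim X = n) (hr : topologicalKrullDim IV.support = r) (hs : topologicalKrullDim IW.support = s) (hprop : IntMult.ProperInt (IV.support : Set X) (IW.support : Set X) n r s) (ξ : X) (hξV : ξ ∈ IV.support) (hξW : ξ ∈ IW.support) (hmax : ∀ ξ' : X, ξ' ∈ IV.support → ξ' ∈ IW.support → ξ' ⤳ ξ → ξ' = ξ) (g : ↑(X.presheaf.stalk ξ)) (hg : IntMult.stalkIdeal IV ξ = Ideal.span {g}) (hreg : IsSMulRegular (↑(X.presheaf.stalk ξ)) g) : (IntMult.mult IV IW ξ : ℤ) = (Module.length (X.presheaf.stalk ξ) (↑(X.presheaf.stalk ξ) ⧸ (IntMult.stalkIdeal IW ξ ⊔ Ideal.span {g}))).toNat := by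
  haveI : IsLocallyNoetherian X := LocallyOfFiniteType.isLocallyNoetherian f
  set P := IntMult.stalkIdeal IW ξ with hP
  haveI hPp : P.IsPrime := BivarOps.isPrime_stalkIdeal IW hξW
  have hrn : r ≤ n := by
    have h := topologicalKrullDim_subspace_le X (IV.support : Set X)
    rw [show topologicalKrullDim ↥(IV.support : Set X) = (r : WithBot ℕ∞) from hr, hn, Nat.cast_le] at h
    exact h
  have hne : IV ≠ ⊥ := by
    intro hb
    have hg0 : g = 0 := by
      have : g ∈ IntMult.stalkIdeal IV ξ := hg ▸ Ideal.mem_span_singleton_self g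
      rw [hb] at this
      have h0 : IntMult.stalkIdeal (⊥ : X.IdealSheafData) ξ ≤ ⊥ := iSup₂_le fun U hU => by
        simp [Scheme.IdealSheafData.ideal_bot]
      exact h0 this
    rw [hg0] at hreg
    exact zero_ne_one (α := X.presheaf.stalk ξ) (hreg (by simp))
  have hgP : g ∉ P := fun h => BivarOps.generic_not_le IV IW hn hr hs hrn hprop hξV hξW hne
    (hg ▸ (Ideal.span_singleton_le_iff_mem _).2 h)
  have hregP : IsSMulRegular (X.presheaf.stalk ξ ⧸ P) g := by
    refine (isSMulRegular_quotient_iff_mem_of_smul_mem _ g).2 fun a ha => ?_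
    exact (hPp.mem_or_mem ha).resolve_left hgP
  rw [IntMult.mult, hg, ← hP]
  exact BivarOps.chi_eq_length P (Ideal.span {g}) fun i hi => Groth.Agent.S14434.result _ g hreg hregP i hi

end Groth.Agent.S6453
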