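import Groth.Statements.S6458
import Groth.Agent.CycDim.Basic

set_option autoImplicit false
universe u
open CategoryTheory AlgebraicGeometry
open Cyc

namespace Groth.Agent.S6458

/-- Let X be integral with generic point η and ξ the generic point of an irreducible component of an
effective Cartier divisor on X; locally: g ∈ 𝔪_ξ ⊂ O_{X,ξ} is nonzero and O_{X,ξ}/(g) is
zero-dimensional. Then dim_δ of the closure of ξ is dim_δ(X) − 1, i.e. δ(ξ) = δ(η) − 1. Here a pair
(X, δ) with Cyc.IsSetup plays the role of a scheme locally of finite type over the base (S, δ) (X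
locally Noetherian with universally catenary local rings, δ a dimension function). -/
theorem result (X : Scheme.{u}) [IsIntegral X] (δ : X → ℤ) (hX : Cyc.IsSetup X δ) (ξ : X) (g : ↑(X.presheaf.stalk ξ)) (hg0 : g ≠ 0) (hgm : g ∈ IsLocalRing.maximalIdeal (X.presheaf.stalk ξ)) (hdim : ringKrullDim (↑(X.presheaf.stalk ξ) ⧸ Ideal.span {g}) = 0) : δ ξ = δ (genericPoint X) - 1 := by

  haveI := hX.1
  refine (Groth.Agent.CycDim.ringKrullDim_stalk_eq_one_iff hX.2.2 ξ).1 (le_antisymm ?_ ?_)
  · rw [← IsLocalRing.maximalIdeal_height_eq_ringKrullDim]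
    haveI : Ring.KrullDimLE 0 (↑(X.presheaf.stalk ξ) ⧸ Ideal.span {g}) :=
      Ring.krullDimLE_iff.2 (le_of_eq (hdim.trans (by simp)))
    have hle : Ideal.span {g} ≤ IsLocalRing.maximalIdeal (X.presheaf.stalk ξ) :=
      (Ideal.span_singleton_le_iff_mem _).2 hgm
    have hmin : IsLocalRing.maximalIdeal (X.presheaf.stalk ξ) ∈ (Ideal.span {g}).minimalPrimes := by
      refine ⟨⟨inferInstance, hle⟩, fun p hp hpm => ?_⟩
      haveI := hp.1
      have hker : RingHom.ker (Ideal.Quotient.mk (Ideal.span {g})) ≤ p := by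
        rw [Ideal.mk_ker]
        exact hp.2
      haveI := Ideal.map_isPrime_of_surjective (f := Ideal.Quotient.mk (Ideal.span {g}))
        Ideal.Quotient.mk_surjective hker
      haveI hm : (p.map (Ideal.Quotient.mk (Ideal.span {g}))).IsMaximal := Ideal.IsPrime.isMaximal' ‹_›
      have h2 := Ideal.comap_isMaximal_of_surjective (Ideal.Quotient.mk (Ideal.span {g}))
        Ideal.Quotient.mk_surjective (K := p.map (Ideal.Quotient.mk (Ideal.span {g})))
      rw [Ideal.comap_map_of_surjective _ Ideal.Quotient.mk_surjective] at h2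
      rw [show p ⊔ Ideal.comap (Ideal.Quotient.mk (Ideal.span {g})) ⊥ = p from sup_eq_left.2 hker] at h2
      exact le_of_eq (h2.eq_of_le (Ideal.IsPrime.ne_top inferInstance) hpm).symm
    haveI : (Ideal.span {g}).IsPrincipal := ⟨⟨g, rfl⟩⟩
    exact_mod_cast Ideal.height_le_one_of_isPrincipal_of_mem_minimalPrimes (Ideal.span {g}) _ hmin
  · by_contra hc
    have h0 : Ring.KrullDimLE 0 (X.presheaf.stalk ξ) := Ring.krullDimLE_iff.2 (by
      rw [ringKrullDim_stalk_eq_coheight] at hc ⊢
      rw [not_le, ← WithBot.coe_one, WithBot.coe_lt_coe, Order.lt_one_iff] at hc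
      simp [hc])
    haveI := h0
    have hfield : IsLocalRing.maximalIdeal (X.presheaf.stalk ξ) = ⊥ :=
      (Ideal.IsPrime.isMaximal' (I := (⊥ : Ideal (X.presheaf.stalk ξ))) Ideal.isPrime_bot).eq_of_le
        (IsLocalRing.maximalIdeal.isMaximal _).ne_top bot_le |>.symm
    rw [hfield, Ideal.mem_bot] at hgm
    exact hg0 hgm

end Groth.Agent.S6458
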