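import Groth.Statements.S6462
import Groth.Agent.CycDim.Chains

set_option autoImplicit false
universe u
open CategoryTheory AlgebraicGeometry
open Cyc

namespace Groth.Agent.S6462

/-- Assume in addition that X is Jacobson and δ(x) = 0 for every closed point x. For a point ξ of X with
closure Z (an integral closed subscheme whose generic point is ξ) one then has δ(ξ) = dim Z = dim
O_{Z,z} for every closed point z of Z; here Z is the closure of ξ and O_{Z,z} = O_{X,z}/𝔭_ξ
(Cyc.LocQuot). (The published statement takes X locally of finite type over a Jacobson base with δ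
zero on the base's closed points; this row assumes instead that X is Jacobson and δ vanishes on the
closed points of X, which follows from the published hypotheses.) Here a pair (X, δ) with
Cyc.IsSetup plays the role of a scheme locally of finite type over the base (S, δ) (X locally
Noetherian with universally catenary local rings, δ a dimension function). -/
theorem result (X : Scheme.{u}) [JacobsonSpace X] (δ : X → ℤ) (hX : Cyc.IsSetup X δ) (h0 : ∀ x : X, IsClosed ({x} : Set X) → δ x = 0) (ξ : X) : (topologicalKrullDim ↥(closure ({ξ} : Set X)) = ((δ ξ).toNat : WithBot ℕ∞) ∧ 0 ≤ δ ξ) ∧ ∀ (z : X) (h : ξ ⤳ z), IsClosed ({z} : Set X) → ringKrullDim (Cyc.LocQuot z ξ h) = ((δ ξ).toNat : WithBot ℕ∞) := by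

  have hδ := hX.2.2
  obtain ⟨z₀, hz₀, hc₀⟩ := Groth.Agent.CycDim.exists_closed ξ
  have hnn : ∀ w : X, 0 ≤ δ w := by
    intro w
    obtain ⟨z, hz, hc⟩ := Groth.Agent.CycDim.exists_closed w
    by_cases hwz : w = z
    · rw [hwz, h0 z hc]
    · have := (hδ w z hz hwz).1
      rw [h0 z hc] at this
      omega
  obtain ⟨h1, h2⟩ := Groth.Agent.CycDim.krullDim_eq hδ (fun w => ξ ⤳ w) ξ z₀ specializes_rfl hz₀
    (Scheme.le_iff_specializes.2 hz₀) (fun w hw => ⟨Scheme.le_iff_specializes.2 hw, by rw [h0 z₀ hc₀]; exact hnn w⟩)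
    (fun w _ hw => Scheme.le_iff_specializes.1 hw)
  rw [h0 z₀ hc₀, sub_zero] at h1
  refine ⟨⟨(Groth.Agent.CycDim.topologicalKrullDim_closure ξ).trans h1, hnn ξ⟩, fun z h hc => ?_⟩
  rw [Groth.Agent.CycDim.ringKrullDim_locQuot h, (Groth.Agent.CycDim.krullDim_eq hδ (fun w => ξ ⤳ w ∧ w ⤳ z) ξ z
    ⟨specializes_rfl, h⟩ ⟨h, specializes_rfl⟩ (Scheme.le_iff_specializes.2 h)
    (fun w hw => ⟨Scheme.le_iff_specializes.2 hw.1, by rw [h0 z hc]; exact hnn w⟩)
    (fun w hw1 hw2 => ⟨Scheme.le_iff_specializes.1 hw2, Scheme.le_iff_specializes.1 hw1⟩)).1, h0 z hc, sub_zero]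

end Groth.Agent.S6462
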