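import Groth.Statements.S6465
import Groth.Agent.CycK0.GysBase

set_option autoImplicit false
universe u
open CategoryTheory AlgebraicGeometry
open Cyc

set_option backward.isDefEq.respectTransparency false
set_option backward.isDefEq.respectTransparency.types false

namespace Groth.Agent.S6465

/-- Let (L, s, i : D → X) be a triple defining a Gysin map. Then i^* i_* : CH_k(D) → CH_{k−1}(D) sends
the class of a k-cycle α on D to c_1(L|_D) ∩ α: the (k − 1)-cycle i^*(i_* α) is rationally
equivalent on D to c_1(i^*L) ∩ α computed with any nonzero rational sections. Here i : D → X is the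
zero scheme of a global section s of the invertible module L (Cyc.IsZeroSchemeOf), the Gysin map i^*
: Z_{k+1}(X) → CH_k(D) is computed on coefficient functions as c_1(L) ∩ − with the rational sections
taken to be s where it is nonzero and a nonzero fallback elsewhere (Cyc.gysinChoice), restricted to
the points of D, and classes on D are compared up to rational equivalence on D for the restricted
dimension function; (X, δ) with Cyc.IsSetup stands for a scheme locally of finite type over the base
(S, δ). -/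
theorem result (X D : Scheme.{u}) (δ : X → ℤ) (hX : Cyc.IsSetup X δ) (L : X.Modules) (hL : PicF.IsInvertible L) (s : L.presheaf.obj (Opposite.op ⊤)) (i : D ⟶ X) [IsClosedImmersion i] (hD : Cyc.IsZeroSchemeOf i L s) (k : ℤ) (α : AlgebraicCycle D ℤ) (hα : α ∈ Cyc.Zk D (fun d => δ (i d)) k) (w : (ξ : X) → Cyc.secFibre L ξ) (hw : ∀ ξ, w ξ ≠ 0) (t : (d : D) → Cyc.secFibre ((Scheme.Modules.pullback i).obj L) d) (ht : ∀ d, t d ≠ 0) (ζ₁ ζ₂ : AlgebraicCycle D ℤ) (h₁ : ∀ d, ζ₁ d = Cyc.c1CapFun δ L ⇑(AlgebraicCycle.map i (fun d => δ (i d)) δ α) (Cyc.gysinChoice L s w) (i d)) (h₂ : ⇑ζ₂ = Cyc.c1CapFun (fun d => δ (i d)) ((Scheme.Modules.pullback i).obj L) ⇑α t) : Cyc.RatEquiv (fun d => δ (i d)) (k - 1) ζ₁ ζ₂ := by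
  classical
  haveI := hX.1
  have hL' : PicF.IsInvertible ((Scheme.Modules.pullback i).obj L) := PicLoc.isInvertible_pullback i hL
  have hsupp : ∀ x, AlgebraicCycle.map i (fun d => δ (i d)) δ α x ≠ 0 → x ∈ Set.range i := fun x hx => by
    by_contra h
    exact hx (Groth.Agent.S1918.map_closed_of_notMem i δ α h)
  have hchoice : ∀ x ∈ Set.range i, Cyc.gysinChoice L s w x = w x := fun x hx => by
    rw [hD.1] at hx
    unfold Cyc.gysinChoice
    exact if_neg (not_not.2 hx)
  refine Groth.Agent.C1Cap.ratEquiv_cap (fun d => δ (i d)) hL' (k - 1) α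
    (fun d hd => hα d (by rwa [sub_add_cancel] at hd)) (fun d => Groth.Agent.CycSec.secPull i d (w (i d))) t
    (fun d _ => Groth.Agent.CycSec.secPull_ne_zero i hL d (hw (i d))) (fun d _ => ht d) ζ₁ ζ₂ (funext fun d => ?_) h₂
  rw [h₁ d, Groth.Agent.CycK0.c1Cap_closed i hX.2.2 hL _ hsupp (Cyc.gysinChoice L s w)
    (fun x hx => by rw [hchoice x (hsupp x hx)]; exact hw x) d]
  simp only [Cyc.c1CapFun, Groth.Agent.S1918.map_closed]
  refine finsum_congr fun e => ?_
  rw [hchoice (i e) ⟨e, rfl⟩]

end Groth.Agent.S6465
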