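import Groth.Statements.S6473
import Groth.Agent.SectRank.Bound

set_option autoImplicit false
universe u
open CategoryTheory CategoryTheory.Limits AlgebraicGeometry
open IntMult

namespace Groth.Agent.S6473

/-- Let f : X → Y be a morphism of varieties over K which is a regular immersion of codimension c, and Z
⊂ Y a closed subvariety of dimension d. Then each irreducible component T of f⁻¹(Z) = X ×_Y Z
satisfies dim T ≥ d − c; stated as d ≤ dim T + c. Varieties: integral, separated, of finite type
over the algebraically closed field K. (The published statement takes f to be a closed immersion,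
regular immersions being closed there; this row allows any immersion cut out, locally on Y where it
is closed, by a regular sequence of length c, the bound being local on Y. The published statement
also has a second part, for local complete intersection morphisms of a given relative dimension,
which this row does not state.) -/
theorem result (K : Type u) [Field K] [IsAlgClosed K] (X Y Z : Scheme.{u}) (gX : X ⟶ Spec (CommRingCat.of K)) (gY : Y ⟶ Spec (CommRingCat.of K)) [IsSeparated gX] [LocallyOfFiniteType gX] [QuasiCompact gX] [IsIntegral X] [IsSeparated gY] [LocallyOfFiniteType gY] [QuasiCompact gY] [IsIntegral Y] (f : X ⟶ Y) (hf : f ≫ gY = gX) (c : ℕ) (hreg : RegImm.IsRegularImmersionOfCodim RegImm.Kind.regular c f) (ι : Z ⟶ Y) [IsClosedImmersion ι] [IsIntegral Z] (d : ℕ) (hd : topologicalKrullDim Z = d) (T : Set ↥(pullback f ι)) (hT : T ∈ irreducibleComponents ↥(pullback f ι)) : ((d : ℕ) : WithBot ℕ∞) ≤ topologicalKrullDim ↥T + c := by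
  haveI := hreg.1
  let P := pullback.snd f ι
  have hP : IsLocallyClosed (ι ⁻¹' Set.range f) := f.isLocallyClosed_range.preimage ι.continuous
  have hrange : Set.range P = ι ⁻¹' Set.range f := Scheme.Pullback.range_snd f ι
  haveI : IsImmersion P := MorphismProperty.pullback_snd _ _ ‹_›
  let e : ↥(pullback f ι) ≃ₜ ↥(ι ⁻¹' Set.range f) :=
    P.isEmbedding.toHomeomorph.trans (Homeomorph.setCongr hrange)
  have hQ : e '' T ∈ irreducibleComponents ↥(ι ⁻¹' Set.range f) := by
    refine ⟨hT.1.image _ e.continuous.continuousOn, fun S hS hle => ?_⟩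
    have h1 : T ⊆ e ⁻¹' S := fun x hx => hle ⟨x, hx, rfl⟩
    have h2 := hT.2 (by simpa [← e.image_symm] using hS.image _ e.symm.continuous.continuousOn) h1
    intro s hs
    exact ⟨e.symm s, h2 (by simpa using hs), e.apply_symm_apply s⟩
  obtain ⟨g, hg, hdim, hmax⟩ := Groth.Agent.SectRank.exists_generic_component (ι ≫ gY) hP hQ
  have hdT : topologicalKrullDim ↥T = topologicalKrullDim ↥(e '' T) :=
    IsHomeomorph.topologicalKrullDim_eq _ (e.isEmbedding.homeomorphImage T).isHomeomorph
  have hζ : WeilCoh.pdim Z (genericPoint ↥Z) = d := by
    obtain ⟨d', hd', h⟩ := Groth.Agent.FlatDim.exists_pdim_irreducible (ι ≫ gY)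
    rw [hd, Nat.cast_inj] at hd'
    exact (h _ fun z hz => (hz.antisymm (genericPoint_specializes z)).eq).trans hd'.symm
  rw [hdT, ← hζ]
  exact Groth.Agent.SectRank.pdim_le_add_dim_of_component (ι ≫ gY) ι f hreg (genericPoint_specializes g) hg
    (fun y hy hy' => hmax y hy' hy) hdim

end Groth.Agent.S6473
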