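import Groth.Statements.S6475
import Groth.Agent.CycK0.Degree

set_option autoImplicit false
universe u
open CategoryTheory AlgebraicGeometry
open Cyc

set_option backward.isDefEq.respectTransparency false
set_option backward.isDefEq.respectTransparency.types false

namespace Groth.Agent.S6475

/-- Let X be proper over a field k, Z ⊂ X a closed subscheme of dimension d and L_1, …, L_d invertible
O_X-modules. Then the intersection number (L_1 ⋯ L_d · Z) equals deg(c_1(L_1) ∩ … ∩ c_1(L_d) ∩
[Z]_d). The left side is FGA.intNum (alternating sum of Euler characteristics of (⊗_{i∈I} M_i) ⊗ O_Z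
with M_i inverse to L_i, which is the number defined through the numerical polynomial); the right
side iterates Cyc.c1CapFun with any nonzero rational sections starting from [Z]_d and takes
ChowOps.deg of the resulting 0-cycle. Dimension function: transcendence degree over k. The caps are
applied starting with L_1 (innermost), the reverse of the displayed order; the degree does not
depend on the order. (The published statement also gives deg_L(Z) = deg(c_1(L)^d ∩ [Z]_d) for an
ample L, the case L_1 = … = L_d = L; this row does not restate it.) -/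
theorem result (k : Type u) [Field k] (X : Scheme.{u}) [X.Over (Spec (CommRingCat.of k))] [IsProper (X ↘ Spec (CommRingCat.of k))] (δ : X → ℤ) (hX : Cyc.IsSetup X δ) (hδ : Cyc.DeltaCompat (X ↘ Spec (CommRingCat.of k)) δ (fun _ => 0)) (Z : Scheme.{u}) (ι : Z ⟶ X) [IsClosedImmersion ι] (d : ℕ) (hd : topologicalKrullDim Z = d) (L M : Fin d → X.Modules) (hL : ∀ i, PicF.IsInvertible (L i)) (hM : ∀ i, Nonempty (CohB1.tensorMod (M i) (L i) ≅ Coh.structureModule X)) (s : (i : Fin d) → (ξ : X) → Cyc.secFibre (L i) ξ) (hs : ∀ i ξ, s i ξ ≠ 0) (γ : ℕ → X → ℤ) (hγ0 : γ 0 = Cyc.subschemeFun δ d ι) (hγs : ∀ (i : ℕ) (h : i < d), γ (i + 1) = Cyc.c1CapFun δ (L ⟨i, h⟩) (γ i) (s ⟨i, h⟩)) (α : AlgebraicCycle X ℤ) (hα : ⇑α = γ d) : FGA.intNum k X d M ((Coh.push ι).obj (Coh.structureModule Z)) = ChowOps.deg (X ↘ Spec (CommRingCat.of k)) δ α := by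
  haveI := CurveRR.isNoetherian_of_proper k X
  let F := (Coh.push ι).obj (Coh.structureModule Z)
  have hrng : IsClosed (Set.range ι) := ι.isClosedEmbedding.isClosed_range
  have hdim : topologicalKrullDim (Set.range ι : Set X) ≤ (d : WithBot ℕ∞) :=
    le_trans (le_of_eq (IsHomeomorph.topologicalKrullDim_eq _
      ι.isClosedEmbedding.isEmbedding.toHomeomorph.isHomeomorph).symm) hd.le
  have hle : ∀ x ∈ Set.range ι, δ x ≤ (d : ℤ) := fun x hx => by
    have h1 := (CycK0.delta_height k hδ x)
    have h2 : topologicalKrullDim (closure ({x} : Set X)) ≤ (d : WithBot ℕ∞) :=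
      (Intersect.dim_mono (closure_minimal (Set.singleton_subset_iff.2 hx) hrng)).trans hdim
    rw [h1.2] at h2
    rw [h1.1]
    exact_mod_cast h2
  have hsupp : CohB1.support F ⊆ Set.range ι := fun x hx => by
    by_contra h
    exact hx (KFlat.subsingleton_stalk_push ι (Coh.structureModule Z) h)
  haveI : IsNoetherian Z := { toIsLocallyNoetherian := LocallyOfFiniteType.isLocallyNoetherian ι
                              toCompactSpace := ι.isClosedEmbedding.compactSpace }
  have hF : Cyc.CohLe δ (d : ℤ) F := ⟨Intersect.isCoh_push' ι RefStalk.isCoh_structureModule,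
    fun x hx => hle x (hsupp (not_subsingleton_iff_nontrivial.2 hx))⟩
  have h0 : γ 0 = Cyc.sheafFun δ (d : ℤ) F := hγ0.trans (S1899.result X Z δ hX ι d fun z => hle _ ⟨z, rfl⟩)
  have hL0 : γ d = CycK0.iterCap δ d L s (Cyc.sheafFun δ (d : ℤ) F) := by
    rw [CycK0.iterCap_eq d L s γ hγs, h0]
  have hα0 : ∀ x, α x ≠ 0 → δ x = 0 := fun x hx => CycK0.delta_iterCap d L s (Cyc.sheafFun δ (d : ℤ) F)
    (fun y hy => by by_contra h; exact hy (if_neg h)) x (by rwa [hα, hL0] at hx)
  have h : (FGA.intNum k X d M F : ℚ) = (ChowOps.deg (X ↘ Spec (CommRingCat.of k)) δ α : ℚ) := by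
    rw [CycK0.intNum_eq_alt_supp k hrng hdim M hsupp, CycK0.alt_eq_deg k hX hδ d L M hL hM s hs F hF,
      CycK0.deg_eq_degFun k hα0, hα, hL0]
  exact_mod_cast h

end Groth.Agent.S6475
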