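import Groth.Statements.S6476
import Mathlib

set_option autoImplicit false
universe u v
open CycAlg

namespace Groth.Agent.S6476

theorem fl {R : Type u} [CommRing R] [IsNoetherianRing R] [IsLocalRing R] {N : Type v} [AddCommGroup N] [Module R N] [Module.Finite R N]
    (hq : ∀ q ∈ Module.support R N, q.asIdeal = IsLocalRing.maximalIdeal R) : IsFiniteLength R N := by
  classical
  haveI : Ring.KrullDimLE 0 (R ⧸ Module.annihilator R N) := Ring.krullDimLE_zero_iff.2 fun P hP => by
    haveI := hP
    have h1 : (⟨P.comap (Ideal.Quotient.mk _), Ideal.IsPrime.comap _⟩ : PrimeSpectrum R) ∈ Module.support R N := by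
      rw [Module.support_eq_zeroLocus, PrimeSpectrum.mem_zeroLocus]
      intro x hx
      show Ideal.Quotient.mk _ x ∈ P
      rw [Ideal.Quotient.eq_zero_iff_mem.2 hx]
      exact zero_mem P
    haveI hm : (P.comap (Ideal.Quotient.mk (Module.annihilator R N))).IsMaximal := by
      have := hq _ h1
      simp only at this
      rw [this]; infer_instance
    rw [← Ideal.map_comap_of_surjective _ Ideal.Quotient.mk_surjective P]
    exact (Ideal.map_eq_top_or_isMaximal_of_surjective _ Ideal.Quotient.mk_surjective hm).resolve_left (by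
      rw [Ideal.map_comap_of_surjective _ Ideal.Quotient.mk_surjective P]; exact hP.ne_top)
  haveI : IsArtinianRing (R ⧸ Module.annihilator R N) := isArtinianRing_iff_krullDimLE_zero.2 inferInstance
  letI : Module (R ⧸ Module.annihilator R N) N := Module.IsTorsionBySet.module fun x ⟨a, ha⟩ => Module.mem_annihilator.1 ha x
  haveI : IsScalarTower R (R ⧸ Module.annihilator R N) N := Module.IsTorsionBySet.isScalarTower _
  haveI : Module.Finite (R ⧸ Module.annihilator R N) N := Module.Finite.of_restrictScalars_finite R _ _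
  haveI : IsArtinian R N := isArtinian_of_surjective_algebraMap (R := R ⧸ Module.annihilator R N) (S := R) (M := N) Ideal.Quotient.mk_surjective
  exact isFiniteLength_iff_isNoetherian_isArtinian.2 ⟨inferInstance, inferInstance⟩

/-- Let A be a Noetherian local ring, M a finite A-module of dimension 1, and φ, ψ : M → M injective
with φ(ψ(M)) = ψ(φ(M)) (e.g. φ, ψ commute). Then length_A(M/φψM) is finite and (M/φψM, φ, ψ) is an
exact (2, 1)-periodic complex; here φ', ψ' denote the endomorphisms of M/φψM induced by φ and ψ, and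
exactness says both cohomology modules (CycAlg.perH) are trivial. -/
theorem result {A : Type u} [CommRing A] [IsNoetherianRing A] [IsLocalRing A] {M : Type v} [AddCommGroup M] [Module A M] [Module.Finite A M] (hdim : Module.supportDim A M = 1) (φ ψ : M →ₗ[A] M) (hφ : Function.Injective φ) (hψ : Function.Injective ψ) (hcomm : Submodule.map φ (LinearMap.range ψ) = Submodule.map ψ (LinearMap.range φ)) (φ' ψ' : (M ⧸ LinearMap.range (φ ∘ₗ ψ)) →ₗ[A] (M ⧸ LinearMap.range (φ ∘ₗ ψ))) (hφ' : φ' ∘ₗ (LinearMap.range (φ ∘ₗ ψ)).mkQ = (LinearMap.range (φ ∘ₗ ψ)).mkQ ∘ₗ φ) (hψ' : ψ' ∘ₗ (LinearMap.range (φ ∘ₗ ψ)).mkQ = (LinearMap.range (φ ∘ₗ ψ)).mkQ ∘ₗ ψ) : Module.length A (M ⧸ LinearMap.range (φ ∘ₗ ψ)) < ⊤ ∧ CycAlg.IsPeriodic φ' ψ' ∧ Subsingleton (CycAlg.perH φ' ψ') ∧ Subsingleton (CycAlg.perH ψ' φ') := by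
  classical
  let χ := φ ∘ₗ ψ
  have hχ : Function.Injective χ := hφ.comp hψ
  let Q := M ⧸ LinearMap.range χ
  have hQ : ∀ q ∈ Module.support A Q, q.asIdeal = IsLocalRing.maximalIdeal A := by
    intro q hq
    by_contra hne
    let mm : PrimeSpectrum A := IsLocalRing.closedPoint A
    have hqm : q < mm := lt_of_le_of_ne (IsLocalRing.le_maximalIdeal q.2.ne_top) fun h => hne (congrArg PrimeSpectrum.asIdeal h)
    have hQM : Module.support A Q ⊆ Module.support A M := Module.support_subset_of_surjective (Submodule.mkQ _) (Submodule.mkQ_surjective _)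
    have hmin : ∀ r ∈ Module.support A M, r ≤ q → r = q := by
      intro r hr hrq
      by_contra hrne
      have hmsupp : mm ∈ Module.support A M := Module.mem_support_mono hqm.le (hQM hq)
      let s : LTSeries ↑(Module.support A M) :=
        ((RelSeries.singleton _ (⟨r, hr⟩ : ↑(Module.support A M))).snoc ⟨q, hQM hq⟩ (show (⟨r, hr⟩ : ↑(Module.support A M)) < ⟨q, hQM hq⟩ from lt_of_le_of_ne hrq (fun h => hrne (congrArg Subtype.val h)))).snoc ⟨mm, hmsupp⟩ (by exact hqm)
      have hle := Order.LTSeries.length_le_krullDim s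
      rw [show Order.krullDim ↑(Module.support A M) = 1 from hdim] at hle
      have : s.length = 2 := rfl
      rw [this] at hle
      exact absurd hle (by decide)
    let Aq := Localization.AtPrime q.asIdeal
    let Mq := LocalizedModule q.asIdeal.primeCompl M
    have hfl : IsFiniteLength Aq Mq := fl fun r hr => by
      have h1 : PrimeSpectrum.comap (algebraMap A Aq) r ∈ Module.support A M := by
        rw [Module.mem_support_iff_exists_annihilator] at hr ⊢
        obtain ⟨x, hx⟩ := hr
        obtain ⟨⟨m, s⟩, rfl⟩ := IsLocalizedModule.mk'_surjective q.asIdeal.primeCompl (LocalizedModule.mkLinearMap q.asIdeal.primeCompl M) x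
        refine ⟨m, fun a ha => ?_⟩
        rw [Submodule.mem_annihilator_span_singleton] at ha
        show algebraMap A Aq a ∈ r.asIdeal
        refine hx ?_
        rw [Submodule.mem_annihilator_span_singleton, algebraMap_smul, Function.uncurry_apply_pair, ← IsLocalizedModule.mk'_smul, ha, IsLocalizedModule.mk'_zero]
      have h2 : PrimeSpectrum.comap (algebraMap A Aq) r ≤ q := by
        have := Ideal.comap_mono (f := algebraMap A Aq) (IsLocalRing.le_maximalIdeal r.2.ne_top)
        rwa [show Ideal.comap (algebraMap A Aq) (IsLocalRing.maximalIdeal Aq) = q.asIdeal from Localization.AtPrime.under_maximalIdeal] at this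
      have h3 := congrArg PrimeSpectrum.asIdeal (hmin _ h1 h2)
      rw [← IsLocalization.map_comap q.asIdeal.primeCompl Aq r.asIdeal, show Ideal.under A r.asIdeal = q.asIdeal from h3]
      exact Localization.AtPrime.map_eq_maximalIdeal
    haveI : IsArtinian Aq Mq := (isFiniteLength_iff_isNoetherian_isArtinian.1 hfl).2
    let χq : Mq →ₗ[Aq] Mq := LocalizedModule.map q.asIdeal.primeCompl χ
    have hsurj : Function.Surjective χq :=
      IsArtinian.surjective_of_injective_endomorphism χq (LocalizedModule.map_injective q.asIdeal.primeCompl χ hχ)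
    refine Module.notMem_support_iff'.2 (fun z => ?_) hq
    obtain ⟨m, rfl⟩ := Submodule.mkQ_surjective _ z
    obtain ⟨y, hy⟩ := hsurj (LocalizedModule.mk m 1)
    induction y using LocalizedModule.induction_on with
    | h m' s =>
      rw [LocalizedModule.map_mk, LocalizedModule.mk_eq] at hy
      obtain ⟨t, ht⟩ := hy
      simp only [Submonoid.smul_def, OneMemClass.coe_one, one_smul] at ht
      refine ⟨t * s, (t * s).2, ?_⟩
      rw [← map_smul, Submodule.mkQ_apply, Submodule.Quotient.mk_eq_zero]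
      exact ⟨(t : A) • m', by rw [map_smul, ht, smul_smul]⟩
  have hlen : IsFiniteLength A Q := fl hQ
  have hcomp : ∀ x, ∃ y, φ (ψ x) = ψ (φ y) := fun x => by
    obtain ⟨_, ⟨y, rfl⟩, hy⟩ : φ (ψ x) ∈ Submodule.map ψ (LinearMap.range φ) := hcomm ▸ ⟨ψ x, ⟨x, rfl⟩, rfl⟩
    exact ⟨y, hy.symm⟩
  have hcomp' : ∀ x, ∃ y, ψ (φ x) = φ (ψ y) := fun x => by
    obtain ⟨_, ⟨y, rfl⟩, hy⟩ : ψ (φ x) ∈ Submodule.map φ (LinearMap.range ψ) := hcomm.symm ▸ ⟨φ x, ⟨x, rfl⟩, rfl⟩
    exact ⟨y, hy.symm⟩
  have e1 : ∀ x, φ' (Submodule.Quotient.mk x) = Submodule.Quotient.mk (φ x) := fun x => LinearMap.congr_fun hφ' x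
  have e2 : ∀ x, ψ' (Submodule.Quotient.mk x) = Submodule.Quotient.mk (ψ x) := fun x => LinearMap.congr_fun hψ' x
  have hper : CycAlg.IsPeriodic φ' ψ' := by
    constructor <;> refine LinearMap.ext fun z => ?_ <;> obtain ⟨x, rfl⟩ := Submodule.Quotient.mk_surjective _ z
    · rw [LinearMap.comp_apply, e2, e1, LinearMap.zero_apply, Submodule.Quotient.mk_eq_zero]
      exact ⟨x, rfl⟩
    · rw [LinearMap.comp_apply, e1, e2, LinearMap.zero_apply, Submodule.Quotient.mk_eq_zero]
      obtain ⟨y, hy⟩ := hcomp' x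
      exact ⟨y, hy.symm⟩
  refine ⟨lt_top_iff_ne_top.2 (Module.length_ne_top_iff.2 hlen), hper, ?_, ?_⟩
  · rw [Submodule.Quotient.subsingleton_iff]
    refine eq_top_iff.2 ?_
    rintro ⟨z, hz⟩ -
    obtain ⟨x, rfl⟩ := Submodule.Quotient.mk_surjective _ z
    rw [LinearMap.mem_ker, e1, Submodule.Quotient.mk_eq_zero] at hz
    obtain ⟨w, hw⟩ := hz
    exact ⟨Submodule.Quotient.mk w, (e2 w).trans (congrArg _ (hφ hw))⟩
  · rw [Submodule.Quotient.subsingleton_iff]
    refine eq_top_iff.2 ?_
    rintro ⟨z, hz⟩ -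
    obtain ⟨x, rfl⟩ := Submodule.Quotient.mk_surjective _ z
    rw [LinearMap.mem_ker, e2, Submodule.Quotient.mk_eq_zero] at hz
    obtain ⟨w, hw⟩ := hz
    obtain ⟨y, hy⟩ := hcomp w
    exact ⟨Submodule.Quotient.mk y, (e1 y).trans (congrArg _ (hψ (hy.symm.trans hw)))⟩

end Groth.Agent.S6476
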