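import Groth.Statements.S6477
import Groth.Agent.CycDim.PullDiv
import Groth.Agent.KFlat.Pullback

set_option autoImplicit false
universe u
open CategoryTheory AlgebraicGeometry
open CategoryTheory.Limits
open Cyc

namespace Groth.Agent.S6477

/-- Let F be a coherent O_X-module with dim_δ Supp(F) ≤ k and F' = p^*F its base change to X'. Then
dim_{δ'} Supp(F') ≤ k + c and g^*[F]_k = [F']_{k+c} in Z_{k+c}(X') (coefficientwise; support bounds
through nontrivial stalks). Setting: p : X' → X is flat (not necessarily of finite type), (X, δ) and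
(X', δ') satisfy Cyc.IsSetup, and δ'(x') = δ(p x') + c whenever x' is maximal under generalization
inside its fibre p⁻¹(p x'); g^* : Z_k(X) → Z_{k+c}(X') is the coefficientwise flat pullback
Cyc.pullFun p δ' δ c. (The published statement takes X′ = X ×_S S′ for a flat S′ → S and X locally
of finite type over S; this row allows any flat p : X′ → X with the shift condition. The published
statement also has a part for closed subschemes, which follows with [Z]_k = [O_Z]_k; this row does
not restate it.) -/
theorem result (X X' : Scheme.{u}) (p : X' ⟶ X) [Flat p] (δ : X → ℤ) (δ' : X' → ℤ) (hX : Cyc.IsSetup X δ) (hX' : Cyc.IsSetup X' δ') (c : ℤ) (hc : ∀ x' : X', (∀ y, p y = p x' → y ⤳ x' → y = x') → δ' x' = δ (p x') + c) (k : ℤ) (F : X.Modules) (hF : Coh.IsCoh F) (hdim : ∀ x : X, Nontrivial (F.presheaf.stalk x) → δ x ≤ k) : (∀ x' : X', Nontrivial (((Scheme.Modules.pullback p).obj F).presheaf.stalk x') → δ' x' ≤ k + c) ∧ Cyc.pullFun p δ' δ c (Cyc.sheafFun δ k F) = Cyc.sheafFun δ' (k + c) ((Scheme.Modules.pullback p).obj F) := by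

  classical
  haveI := hX.1; haveI := hX'.1
  have hlen : ∀ x' : X', Module.length (X'.presheaf.stalk x') (((Scheme.Modules.pullback p).obj F).presheaf.stalk x') =
      Module.length (X.presheaf.stalk (p x')) (F.presheaf.stalk (p x')) *
        Module.length (X'.presheaf.stalk x') (X'.presheaf.stalk x' ⧸
          Ideal.map (p.stalkMap x').hom (IsLocalRing.maximalIdeal (X.presheaf.stalk (p x')))) := by
    intro x'
    letI : Algebra (X.presheaf.stalk (p x')) (X'.presheaf.stalk x') := (p.stalkMap x').hom.toAlgebra
    haveI : Module.Flat (X.presheaf.stalk (p x')) (X'.presheaf.stalk x') := Flat.stalkMap p x'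
    haveI : IsLocalHom (algebraMap (X.presheaf.stalk (p x')) (X'.presheaf.stalk x')) :=
      inferInstanceAs (IsLocalHom (p.stalkMap x').hom)
    exact ((Groth.Agent.KFlat.pullStalkIso p x').app F).toLinearEquiv.length_eq.trans
      (IsLocalRing.length_baseChange (X.presheaf.stalk (p x')) (X'.presheaf.stalk x') (F.presheaf.stalk (p x')))
  have hnt : ∀ x' : X', Nontrivial (((Scheme.Modules.pullback p).obj F).presheaf.stalk x') →
      Nontrivial (F.presheaf.stalk (p x')) := by
    intro x' h
    rw [← Module.length_pos_iff (R := X'.presheaf.stalk x'), hlen x'] at h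
    rw [← Module.length_pos_iff (R := X.presheaf.stalk (p x'))]
    exact pos_iff_ne_zero.2 fun h0 => h.ne' (by rw [h0, zero_mul])
  have hbd := fun x' => (Groth.Agent.CycPull.delta_le_shift p hX'.2.2 hc x').1
  refine ⟨fun x' h => ?_, ?_⟩
  · have := hdim _ (hnt x' h)
    have := hbd x'
    omega
  funext x'
  unfold Cyc.pullFun Cyc.sheafFun
  by_cases h1 : δ' x' = k + c
  · rw [if_pos h1, hlen x']
    by_cases h2 : δ' x' = δ (p x') + c
    · rw [if_pos h2, if_pos (show δ (p x') = k by omega), ENat.toNat_mul, Nat.cast_mul]
    · rw [if_neg h2]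
      have h3 : Module.length (X.presheaf.stalk (p x')) (F.presheaf.stalk (p x')) = 0 := by
        rw [Module.length_eq_zero_iff, ← not_nontrivial_iff_subsingleton]
        intro h
        have := hdim _ h
        have := hbd x'
        omega
      rw [h3, zero_mul]
      rfl
  · rw [if_neg h1]
    split
    · next h2 => rw [if_neg (show δ (p x') ≠ k by omega), zero_mul]
    · rfl

end Groth.Agent.S6477
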