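import Groth.Statements.S6479
import Groth.Agent.CycDim.FlatLen

set_option autoImplicit false
universe u
open CategoryTheory AlgebraicGeometry
open CategoryTheory.Limits
open Cyc

namespace Groth.Agent.S6479

open CategoryTheory AlgebraicGeometry

/-- Let p : X' → X and p' : X'' → X' be flat with shifts c and c' on the dimension functions at generic
points of fibre components. Then the composite p' ≫ p has shift c + c' at generic points of its
fibre components, and g^* followed by (g')^* is (g ∘ g')^* on k-cycles: Cyc.pullFun (p' ≫ p) δ'' δ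
(c + c') α = Cyc.pullFun p' δ'' δ' c' (Cyc.pullFun p δ' δ c α). Setting: p : X' → X is flat (not
necessarily of finite type), (X, δ) and (X', δ') satisfy Cyc.IsSetup, and δ'(x') = δ(p x') + c
whenever x' is maximal under generalization inside its fibre p⁻¹(p x'); g^* : Z_k(X) → Z_{k+c}(X')
is the coefficientwise flat pullback Cyc.pullFun p δ' δ c. (The published statement takes both maps
to be base changes along flat S″ → S′ → S of one scheme locally of finite type over S, and has a
third part, the same composition on Chow groups, which follows; this row allows any two flat maps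
with the shift conditions.) -/
theorem result (X X' X'' : Scheme.{u}) (p : X' ⟶ X) (p' : X'' ⟶ X') [Flat p] [Flat p'] (δ : X → ℤ) (δ' : X' → ℤ) (δ'' : X'' → ℤ) (hX : Cyc.IsSetup X δ) (hX' : Cyc.IsSetup X' δ') (hX'' : Cyc.IsSetup X'' δ'') (c c' : ℤ) (hc : ∀ x' : X', (∀ y, p y = p x' → y ⤳ x' → y = x') → δ' x' = δ (p x') + c) (hc' : ∀ x'' : X'', (∀ y, p' y = p' x'' → y ⤳ x'' → y = x'') → δ'' x'' = δ' (p' x'') + c') (k : ℤ) (α : AlgebraicCycle X ℤ) (hα : α ∈ Cyc.Zk X δ k) : (∀ x'' : X'', (∀ y, (p' ≫ p) y = (p' ≫ p) x'' → y ⤳ x'' → y = x'') → δ'' x'' = δ ((p' ≫ p) x'') + (c + c')) ∧ Cyc.pullFun (p' ≫ p) δ'' δ (c + c') ⇑α = Cyc.pullFun p' δ'' δ' c' (Cyc.pullFun p δ' δ c ⇑α) := by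

  have hmaxgen : ∀ {A B : Scheme.{u}} (q : A ⟶ B) (x : A),
      ∃ m, q m = q x ∧ m ⤳ x ∧ Groth.Agent.EquidimPt.IsFibMax q m := by
    intro A B q x
    obtain ⟨w, hw⟩ := QuasiSober.sober (isIrreducible_irreducibleComponent (x := q.asFiber x))
      isClosed_irreducibleComponent
    refine ⟨q.fiberι (q x) w, ?_, ?_, (Groth.Agent.CycDim.mem_components_iff q w).1
      (hw.def.symm ▸ irreducibleComponent_mem_irreducibleComponents _)⟩
    · have : q.fiberι (q x) w ∈ Set.range (q.fiberι (q x)) := ⟨w, rfl⟩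
      rw [Scheme.Hom.range_fiberι] at this
      exact this
    · have h1 : w ⤳ q.asFiber x := hw.specializes mem_irreducibleComponent
      have h2 := h1.map (q.fiberι (q x)).continuous
      rwa [q.fiberι_asFiber x] at h2
  have key : ∀ x'', (∀ y, (p' ≫ p) y = (p' ≫ p) x'' → y ⤳ x'' → y = x'') →
      (∀ y, p' y = p' x'' → y ⤳ x'' → y = x'') ∧ ∀ y, p y = p (p' x'') → y ⤳ p' x'' → y = p' x'' := by
    intro x'' h
    refine ⟨fun y hy hyx => h y (congrArg p hy) hyx, fun y hy hyx => ?_⟩
    obtain ⟨w, hw, rfl⟩ := Flat.generalizingMap p' hyx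
    rw [h w hy hw]
  have hfirst : ∀ x'' : X'', (∀ y, (p' ≫ p) y = (p' ≫ p) x'' → y ⤳ x'' → y = x'') →
      δ'' x'' = δ ((p' ≫ p) x'') + (c + c') := by
    intro x'' h
    have h1 := hc' x'' (key x'' h).1
    have h2 := hc (p' x'') (key x'' h).2
    show δ'' x'' = δ (p (p' x'')) + (c + c')
    omega
  refine ⟨hfirst, ?_⟩
  funext x
  unfold Cyc.pullFun
  by_cases h : δ'' x = δ ((p' ≫ p) x) + (c + c')
  · have hmax : ∀ y, (p' ≫ p) y = (p' ≫ p) x → y ⤳ x → y = x := by
      obtain ⟨m, hm, hmx, hmax⟩ := hmaxgen (p' ≫ p) x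
      intro y hy hyx
      have h1 := hfirst m hmax
      rw [hm] at h1
      have h2 : m = x := Groth.Agent.CycDim.eq_of_delta_le hX''.2.2 hmx (by omega)
      subst h2
      exact hmax y hy hyx
    have h1 := hc' x (key x hmax).1
    have h2 := hc (p' x) (key x hmax).2
    rw [if_pos h, if_pos h1, if_pos h2]
    show α (p (p' x)) * _ = α (p (p' x)) * _ * _
    rw [mul_assoc, ← Nat.cast_mul, ← ENat.toNat_mul, Groth.Agent.CycDim.length_quot_map, Scheme.Hom.stalkMap_comp,
      Ideal.map_map]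
    rfl
  · rw [if_neg h]
    by_cases h1 : δ'' x = δ' (p' x) + c'
    · rw [if_pos h1, if_neg (fun h2 => h (show δ'' x = δ (p (p' x)) + (c + c') by omega)), zero_mul]
    · rw [if_neg h1]

end Groth.Agent.S6479
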