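import Groth.Statements.S6480
import Groth.Agent.TameCh.Local
import Groth.Agent.CycDim.OrdSum

set_option autoImplicit false
universe u
open CycAlg

open scoped Pointwise

namespace Groth.Agent.S6480

/-- Let A be a Noetherian local ring of dimension 1, a, b ∈ A nonzerodivisors, A without embedded
primes, M a finite A-module without embedded associated primes and with Supp(M) = Spec(A). Put I =
{x ∈ A | x·(a/b) ∈ A}, and write 𝔮_1, …, 𝔮_t for the minimal prime ideals of A. The conclusion is
that M contains (a/b)IM, and that the difference length_A(M/(a/b)IM) minus length_A(M/IM) equals the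
sum over i of length_{A_{𝔮_i}}(M_{𝔮_i}) multiplied by ord_{A/𝔮_i}(a/b). Encoding: I is the ideal
quotient (bA : aA); '(a/b)IM ⊂ M' is aIM ⊆ bM; (a/b)IM is the submodule of m with bm ∈ aIM (b acts
injectively on M); ord_{A/𝔮}(a/b) is CycAlg.ordFrac on κ(𝔮) = Frac(A/𝔮); lengths are truncated to ℕ
(they are finite here). -/
theorem result {A : Type u} [CommRing A] [IsNoetherianRing A] [IsLocalRing A] (hA : ringKrullDim A = 1) {M : Type u} [AddCommGroup M] [Module A M] [Module.Finite A M] (a b : A) (ha : a ∈ nonZeroDivisors A) (hb : b ∈ nonZeroDivisors A) (hAemb : ∀ p ∈ associatedPrimes A A, p ∈ minimalPrimes A) (hMemb : ∀ p ∈ associatedPrimes A M, p ∈ minimalPrimes A) (hsupp : Module.support A M = Set.univ) (I : Ideal A) (hI : I = (Ideal.span {b}).colon (Ideal.span {a})) (P : Submodule A M) (hP : P = Submodule.comap (LinearMap.lsmul A M b) ((Ideal.span {a} * I) • (⊤ : Submodule A M))) : (Ideal.span {a} * I) • (⊤ : Submodule A M) ≤ LinearMap.range (LinearMap.lsmul A M b) ∧ ((Module.length A (M ⧸ P)).toNat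 : ℤ) - ((Module.length A (M ⧸ I • (⊤ : Submodule A M))).toNat : ℤ) = ∑ᶠ (q : PrimeSpectrum A) (_ : q.asIdeal ∈ minimalPrimes A), ((Module.length (Localization.AtPrime q.asIdeal) (LocalizedModule q.asIdeal.primeCompl M)).toNat : ℤ) * CycAlg.ordFrac (A ⧸ q.asIdeal) q.asIdeal.ResidueField (algebraMap A q.asIdeal.ResidueField a / algebraMap A q.asIdeal.ResidueField b) := by
  classical
  subst hI hP
  haveI hK : Ring.KrullDimLE 1 A := Ring.krullDimLE_iff.2 hA.le
  set I := (Ideal.span {b}).colon (Ideal.span {a} : Set A) with hI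
  have hbI : b ∈ I := Submodule.mem_colon.2 fun z _ => Ideal.mul_mem_right z _ (Ideal.mem_span_singleton_self b)
  have hmin : ∀ {c : A}, c ∈ nonZeroDivisors A → ∀ p ∈ minimalPrimes A, c ∉ p := fun hc p hp h =>
    Set.disjoint_left.1 (Ideal.disjoint_nonZeroDivisors_of_mem_minimalPrimes hp) h hc
  have hinj : ∀ {c : A}, c ∈ nonZeroDivisors A → Function.Injective (LinearMap.lsmul A M c) := by
    intro c hc
    rw [← LinearMap.ker_eq_bot, eq_bot_iff]
    intro z hz
    by_contra h0
    obtain ⟨p, hp, hle⟩ := exists_le_isAssociatedPrime_of_isNoetherianRing A z (by simpa using h0)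
    refine hmin hc p (hMemb p hp) (hle ?_)
    simpa [Submodule.mem_colon_singleton] using LinearMap.mem_ker.1 hz
  have hainj := hinj ha
  have hbinj := hinj hb
  set J := (Ideal.span {a} * I) • (⊤ : Submodule A M) with hJdef
  let S : Submodule A M := I • (⊤ : Submodule A M)
  have hJ : J = Submodule.map (LinearMap.lsmul A M a) S := by
    rw [hJdef, mul_smul, Submodule.ideal_span_singleton_smul]
    rfl
  have hab : Ideal.span {a} * I ≤ Ideal.span {b} := by
    rw [mul_comm, Ideal.mul_le]
    intro r hr s hs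
    exact Submodule.mem_colon.1 hr s hs
  have hrange : J ≤ LinearMap.range (LinearMap.lsmul A M b) := by
    refine (Submodule.smul_mono_left hab).trans ?_
    rw [Submodule.ideal_span_singleton_smul]
    rintro _ ⟨w, -, rfl⟩
    exact ⟨w, rfl⟩
  refine ⟨hrange, ?_⟩
  set P := Submodule.comap (LinearMap.lsmul A M b) J with hPdef
  -- the two factorisations
  have step : ∀ (c : A) (hcinj : Function.Injective (LinearMap.lsmul A M c)) (S' J' : Submodule A M),
      Submodule.comap (LinearMap.lsmul A M c) J' = S' → J' ≤ LinearMap.range (LinearMap.lsmul A M c) →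
      Module.length A (M ⧸ J') = Module.length A (M ⧸ S') + Module.length A (CycDim.Coker c M) := by
    intro c hcinj S' J' hS hJ'
    refine Module.length_eq_add_of_exact (Submodule.mapQ S' J' (LinearMap.lsmul A M c) hS.ge)
      (Submodule.factor (show J' ≤ c • (⊤ : Submodule A M) from fun z hz => by
        obtain ⟨w, rfl⟩ := hJ' hz
        exact ⟨w, trivial, rfl⟩)) ?_ (Submodule.factor_surjective _) ?_
    · rw [← LinearMap.ker_eq_bot, eq_bot_iff]
      intro z hz
      obtain ⟨z, rfl⟩ := Submodule.Quotient.mk_surjective _ z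
      rw [LinearMap.mem_ker, Submodule.mapQ_apply, Submodule.Quotient.mk_eq_zero] at hz
      exact (Submodule.Quotient.mk_eq_zero _).2 (hS ▸ hz)
    · intro z
      obtain ⟨z, rfl⟩ := Submodule.Quotient.mk_surjective _ z
      constructor
      · intro h
        obtain ⟨w, -, hw⟩ := (Submodule.Quotient.mk_eq_zero (c • (⊤ : Submodule A M))).1 h
        exact ⟨Submodule.Quotient.mk w, congrArg Submodule.Quotient.mk hw⟩
      · rintro ⟨w, hw⟩
        obtain ⟨w, rfl⟩ := Submodule.Quotient.mk_surjective _ w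
        rw [← hw]
        exact (Submodule.Quotient.mk_eq_zero _).2 (Submodule.smul_mem_pointwise_smul w c _ trivial)
  have e1 := step a hainj S J (by rw [hJ]; exact Submodule.comap_map_eq_of_injective hainj S)
    (hJ ▸ LinearMap.map_le_range)
  have e2 := step b hbinj P J rfl hrange
  have fin : ∀ {c : A}, c ∈ nonZeroDivisors A → Module.length A (CycDim.Coker c M) < ⊤ := fun hc =>
    (CycDim.coker_finite hK (hmin hc) M).1
  have hS : Module.length A (M ⧸ S) < ⊤ :=
    CycDim.length_lt_top_of_killed hK (hmin hb) _ fun m => by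
      obtain ⟨m, rfl⟩ := Submodule.Quotient.mk_surjective _ m
      rw [← Submodule.Quotient.mk_smul, Submodule.Quotient.mk_eq_zero]
      exact Submodule.smul_mem_smul hbI trivial
  have hPfin : Module.length A (M ⧸ P) < ⊤ := by
    refine (le_add_right le_rfl).trans_lt ((e2.symm.trans e1).trans_lt (ENat.add_lt_top.2 ⟨hS, fin ha⟩))
  have e3 := congrArg ENat.toNat (e2.symm.trans e1)
  rw [ENat.toNat_add hPfin.ne (fin hb).ne, ENat.toNat_add hS.ne (fin ha).ne] at e3
  -- the sum over the minimal primes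
  have hfin : {p : PrimeSpectrum A | p.asIdeal ∈ minimalPrimes A}.Finite :=
    (minimalPrimes.finite_of_isNoetherianRing A).preimage (fun p _ q _ e => PrimeSpectrum.ext e)
  have hlen : ∀ {c : A}, c ∈ nonZeroDivisors A → ((Module.length A (CycDim.Coker c M)).toNat : ℤ) =
      ∑ q ∈ hfin.toFinset, ((CycDim.lenAt q M).toNat : ℤ) * ((CycDim.coef c q).toNat : ℤ) ∧
      ∀ q ∈ hfin.toFinset, CycAlg.ordFrac (A ⧸ q.asIdeal) q.asIdeal.ResidueField (algebraMap A q.asIdeal.ResidueField c) =
        ((CycDim.coef c q).toNat : ℤ) ∧ algebraMap A q.asIdeal.ResidueField c ≠ 0 := by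
    intro c hc
    refine ⟨?_, fun q hq => ?_⟩
    · have h := CycDim.length_quot_eq hK (hmin hc) M
      haveI : Subsingleton (LinearMap.ker (LinearMap.lsmul A M c)) :=
        subsingleton_of_forall_eq 0 fun m => Subtype.ext (hinj hc (m.2.trans (map_zero _).symm))
      rw [Module.length_eq_zero (M := LinearMap.ker (LinearMap.lsmul A M c)), zero_add,
        show (∑ᶠ (p : PrimeSpectrum A) (_ : p.asIdeal ∈ minimalPrimes A), CycDim.lenAt p M * CycDim.coef c p) =
          ∑ p ∈ hfin.toFinset, CycDim.lenAt p M * CycDim.coef c p from finsum_mem_eq_finite_toFinset_sum _ hfin] at h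
      have hne : ∀ p ∈ hfin.toFinset, CycDim.lenAt p M * CycDim.coef c p ≠ ⊤ :=
        (WithTop.sum_ne_top).1 (h ▸ (fin hc).ne)
      rw [h, ENat.toNat_sum hne]
      simp [ENat.toNat_mul]
    · haveI : Ring.KrullDimLE 1 (A ⧸ q.asIdeal) :=
        Ring.krullDimLE_iff.2 ((ringKrullDim_quotient_le _).trans hA.le)
      have hne : Ideal.Quotient.mk q.asIdeal c ≠ 0 := fun h =>
        hmin hc _ (hfin.mem_toFinset.1 hq) (Ideal.Quotient.eq_zero_iff_mem.1 h)
      refine ⟨?_, fun h => hmin hc _ (hfin.mem_toFinset.1 hq) ((Ideal.algebraMap_residueField_eq_zero).1 h)⟩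
      rw [show algebraMap A q.asIdeal.ResidueField c =
        algebraMap (A ⧸ q.asIdeal) q.asIdeal.ResidueField (Ideal.Quotient.mk q.asIdeal c) from rfl,
        CycNorm.ordFrac_algebraMap hne]
      congr 2
      rw [Ring.ord]
      refine ((Module.length_eq_of_surjective (R := A ⧸ q.asIdeal) (S := A) Ideal.Quotient.mk_surjective).symm).trans ?_
      refine LinearEquiv.length_eq (AlgEquiv.toLinearEquiv ?_)
      exact (Ideal.quotientEquivAlgOfEq A (by rw [Ideal.map_span, Set.image_singleton]; rfl :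
        Ideal.span {Ideal.Quotient.mk q.asIdeal c} = (Ideal.span {c}).map (Ideal.Quotient.mkₐ A q.asIdeal))).trans
        (DoubleQuot.quotQuotEquivQuotSupₐ A q.asIdeal (Ideal.span {c}))
  obtain ⟨sa, oa⟩ := hlen ha
  obtain ⟨sb, ob⟩ := hlen hb
  refine Eq.trans ?_ (finsum_mem_eq_finite_toFinset_sum _ hfin).symm
  rw [Finset.sum_congr rfl fun q hq => show _ = ((CycDim.lenAt q M).toNat : ℤ) * ((CycDim.coef a q).toNat : ℤ) -
      ((CycDim.lenAt q M).toNat : ℤ) * ((CycDim.coef b q).toNat : ℤ) by
    rw [div_eq_mul_inv, C1Cap.ordFrac_mul (oa q hq).2 (inv_ne_zero (ob q hq).2), TameCh.ordFrac_inv (ob q hq).2,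
      (oa q hq).1, (ob q hq).1]
    show ((CycDim.lenAt q M).toNat : ℤ) * _ = _
    ring, Finset.sum_sub_distrib, ← sa, ← sb]
  show ((Module.length A (M ⧸ P)).toNat : ℤ) - ((Module.length A (M ⧸ S)).toNat : ℤ) = _
  omega

end Groth.Agent.S6480
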