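import Groth.Statements.S6481
import Groth.Agent.TameCh.Main

set_option autoImplicit false
universe u
open CycAlg

namespace Groth.Agent.S6481

/-- Let (A, 𝔪) be a 2-dimensional Noetherian local ring, t ∈ 𝔪 a nonzerodivisor with V(t) = {𝔪, 𝔮_1, …,
𝔮_r}, and A_{𝔮_i} ⊂ B_i finite ring extensions with B_i/A_{𝔮_i} annihilated by a power of t and with
t a nonzerodivisor on each B_i. Then A admits some finite extension A ⊂ B whose quotient B/A is
killed by some power of t, such that for every i the localization B_{𝔮_i} = B ⊗_A A_{𝔮_i} is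
isomorphic to B_i (existence of an A_{𝔮_i}-algebra isomorphism; B itself is only asserted to exist).
(The published statement allows any finite ring extensions A_{𝔮_i} ⊂ B_i; this row asks t to be a
nonzerodivisor on each B_i, the case its proof treats, where B_i sits inside t^{-n}A_{𝔮_i}. The
published statement also makes B local with the same residue field as A; this row omits that
clause.) Finite extension with quotient killed by a power of t: CycAlg.IsFinExt with the ideal (t). -/
theorem result (A : Type u) [CommRing A] [IsNoetherianRing A] [IsLocalRing A] (hA : ringKrullDim A = 2) (t : A) (ht : t ∈ IsLocalRing.maximalIdeal A) (htnz : t ∈ nonZeroDivisors A) (r : ℕ) (q : Fin r → Ideal A) (hq : ∀ i, (q i).IsPrime) (hinj : Function.Injective q) (hqm : ∀ i, q i ≠ IsLocalRing.maximalIdeal A) (htq : ∀ i, t ∈ q i) (hV : ∀ p : Ideal A, p.IsPrime → t ∈ p → p = IsLocalRing.maximalIdeal A ∨ ∃ i, p = q i) (B : Fin r → Type u) [∀ i, CommRing (B i)] [∀ i, Algebra (Localization.AtPrime (q i)) (B i)] (hB : ∀ i, CycAlg.IsFinExt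 (Localization.AtPrime (q i)) (B i) (Ideal.span {algebraMap A (Localization.AtPrime (q i)) t})) (htB : ∀ i, IsSMulRegular (B i) (algebraMap A (Localization.AtPrime (q i)) t)) : ∃ (C : Type u) (_ : CommRing C) (_ : Algebra A C), CycAlg.IsFinExt A C (Ideal.span {t}) ∧ ∀ i, Nonempty (TensorProduct A (Localization.AtPrime (q i)) C ≃ₐ[Localization.AtPrime (q i)] B i) := by
  classical
  haveI := hq
  let qq : ULift.{u} (Fin r) → PrimeSpectrum A := fun i => ⟨q i.down, hq i.down⟩
  let E : ULift.{u} (Fin r) → Type u := fun i => B i.down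
  letI : ∀ i, Algebra A (E i) := fun i => ((algebraMap (Localization.AtPrime (q i.down)) (B i.down)).comp
    (algebraMap A (Localization.AtPrime (q i.down)))).toAlgebra
  haveI : ∀ i, IsScalarTower A (Localization.AtPrime (qq i).asIdeal) (E i) := fun i =>
    IsScalarTower.of_algebraMap_eq fun _ => rfl
  have hmin : ∀ i, (qq i).asIdeal ∈ (Ideal.span {t}).minimalPrimes := fun i => by
    obtain ⟨h1, h2⟩ := Groth.Agent.TameCh.height_one_iff hA htnz (q := qq i) (htq i.down)
    exact h2 (h1.2 fun hm => hqm i.down (IsLocalRing.eq_maximalIdeal hm))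
  have htE : ∀ i, algebraMap A (E i) t ∈ nonZeroDivisors (E i) := fun i =>
    mem_nonZeroDivisors_iff_right.2 fun x hx => htB i.down (by
      show algebraMap A (Localization.AtPrime (q i.down)) t • x = algebraMap A (Localization.AtPrime (q i.down)) t • 0
      rw [smul_zero, Algebra.smul_def, ← hx, mul_comm x]
      rfl)
  have hbd : ∀ i, ∃ n : ℕ, ∀ e : E i, ∃ α, algebraMap A (E i) (t ^ n) * e =
      algebraMap (Localization.AtPrime (qq i).asIdeal) (E i) α := fun i => by
    obtain ⟨n, hn⟩ := (hB i.down).2.2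
    refine ⟨n, fun e => ?_⟩
    obtain ⟨α, hα⟩ := hn _ (Ideal.pow_mem_pow (Ideal.mem_span_singleton_self _) n) e
    exact ⟨α, by rw [hα, Algebra.smul_def, map_pow, map_pow]; rfl⟩
  obtain ⟨C, hCfin, ⟨n, hn⟩, ψ, hψ⟩ := Groth.Agent.TameCh.exists_glue qq E htnz
    (fun i j h => ULift.ext _ _ (hinj (congrArg PrimeSpectrum.asIdeal h))) hmin (fun i => (hB i.down).1) htE hbd
  refine ⟨C, inferInstance, inferInstance, ⟨fun x y h => ?_, hCfin, n, fun a ha c => ?_⟩, fun i => ?_⟩
  · exact IsLocalization.injective (Localization.Away t) (Submonoid.powers_le.2 htnz) (congrArg Subtype.val h)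
  · rw [Ideal.span_singleton_pow, Ideal.mem_span_singleton'] at ha
    obtain ⟨b, rfl⟩ := ha
    obtain ⟨d, hd⟩ := hn c
    exact ⟨b * d, by rw [map_mul, ← hd, mul_smul, Algebra.smul_def b]⟩
  · letI : Algebra A (B i) := inferInstanceAs (Algebra A (E ⟨i⟩))
    letI : Algebra C (B i) := (ψ ⟨i⟩).toRingHom.toAlgebra
    haveI : IsScalarTower A C (B i) := IsScalarTower.of_algebraMap_eq fun x => ((ψ ⟨i⟩).commutes x).symm
    haveI : IsScalarTower A (Localization.AtPrime (q i)) (B i) := IsScalarTower.of_algebraMap_eq fun _ => rfl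
    haveI : IsLocalization (Algebra.algebraMapSubmonoid C (q i).primeCompl) (B i) := hψ ⟨i⟩
    haveI : Algebra.IsPushout A (Localization.AtPrime (q i)) C (B i) :=
      (Algebra.isPushout_of_isLocalization (q i).primeCompl (Localization.AtPrime (q i)) C (B i)).symm
    exact ⟨Algebra.IsPushout.equiv A (Localization.AtPrime (q i)) C (B i)⟩

end Groth.Agent.S6481
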