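import Groth.Statements.S6491
import Groth.Agent.CycPB.Span
import Groth.Agent.CycPB.RelBundle

set_option autoImplicit false
universe u
open CategoryTheory CategoryTheory.Limits AlgebraicGeometry TopologicalSpace Opposite
open scoped HomogeneousIdeal
open Cyc

set_option backward.isDefEq.respectTransparency false
set_option backward.isDefEq.respectTransparency.types false

namespace Groth.Agent.S6491

/-- Every class in CH_{k+r−1}(P) is of the form π^*α_0 + c_1(O_P(1)) ∩ π^*α_1 + … + c_1(O_P(1))^{r−1} ∩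
π^*α_{r−1} with α_i ∈ CH_{k+i}(X): for every (k + r − 1)-cycle β on P and any prescribed nonzero
rational sections for the caps there are cycles α_i ∈ Z_{k+i}(X) with β ∼_rat Σ_i c_1(O_P(1))^i ∩
π^*α_i. Projective bundle data: ℰ quasi-coherent, finite locally free of rank r ≥ 1; 𝒮 = Sym(ℰ) as a
graded quasi-coherent algebra (RelProj.IsGrSymAlg); (P, p, chart) its relative Proj
(RelProj.IsRelProj); (O1, lam) its O_P(1) (RelProj.IsRelTwist with n = 1); O_P(1) invertible and p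
proper, which hold for projective bundles, are carried as hypotheses; δP is the induced dimension
function (Cyc.IsSetup, Cyc.DeltaCompat). π^* is Cyc.pullFun with relative dimension r − 1, π_* is
Mathlib's pushforward of cycles, and c_1(O_P(1))^s ∩ − is the s-fold iterate of Cyc.c1CapFun with
any nonzero rational sections. Here a pair (X, δ) with Cyc.IsSetup plays the role of a scheme
locally of finite type over the base (S, δ) (X locally Noetherian with universally catenary local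
rings, δ a dimension function), and Cyc.DeltaCompat records that the dimension function upstairs is
the induced one. -/
theorem result (X : Scheme.{u}) (δ : X → ℤ) (hX : Cyc.IsSetup X δ) (E : X.Modules) (hq : Coh.IsQCoh E) (r : ℕ) (hr : 1 ≤ r) (hE : FlatMod.IsFinLocFreeOfRank r E) (𝒮 : RelProj.QCGrAlg X) (j : E ⟶ 𝒮.toModule) (hS : RelProj.IsGrSymAlg E 𝒮 j) (P : Scheme.{u}) (p : P ⟶ X) (chart : ∀ (U : X.Opens) (hU : IsAffineOpen U), (((p ⁻¹ᵁ U : P.Opens) : Scheme.{u}) ≅ Proj (𝒮.deg U hU))) (hP : RelProj.IsRelProj 𝒮 p chart) (O1 : P.Modules) (lam : ∀ (U : X.Opens) (hU : IsAffineOpen U), O1 ⟶ (Scheme.Modules.pushforward (RelProj.emb p chart U hU)).obj (GrTwist.twist (𝒮.deg U hU) 1)) (hO1 : RelProj.IsRelTwist 𝒮 p chart 1 O1 lam) (hinv : PicF.IsInvertible O1) [IsProper p] (δP : P → ℤ) (hPs : Cyc.IsSetup P δP) (hδ : Cyc.DeltaCompat p δP δ) (k : ℤ) (t : Fin r → ℕ → (ξ : P) → Cyc.secFibre O1 ξ) (ht : ∀ i m ξ, t i m ξ ≠ 0) (β : AlgebraicCycle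 P ℤ) (hβ : β ∈ Cyc.Zk P δP (k + r - 1)) : ∃ (α : Fin r → AlgebraicCycle X ℤ) (γ : Fin r → ℕ → P → ℤ) (β' : AlgebraicCycle P ℤ), (∀ i : Fin r, α i ∈ Cyc.Zk X δ (k + ((i : ℕ) : ℤ))) ∧ (∀ i : Fin r, γ i 0 = Cyc.pullFun p δP δ ((r : ℤ) - 1) ⇑(α i)) ∧ (∀ (i : Fin r) (m : ℕ), γ i (m + 1) = Cyc.c1CapFun δP O1 (γ i m) (t i m)) ∧ (∀ x, β' x = ∑ i : Fin r, γ i (i : ℕ) x) ∧ Cyc.RatEquiv δP (k + r - 1) β β' := by
  obtain ⟨n, rfl⟩ : ∃ n, r = n + 1 := ⟨r - 1, by omega⟩
  haveI := hX.1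
  have hn : ((n + 1 : ℕ) : ℤ) - 1 = n := by push_cast; ring
  have hk : k + ((n + 1 : ℕ) : ℤ) - 1 = k + n := by push_cast; ring
  have hF := Groth.Agent.CycPB.hasPnFibres_of_isRelProj hq hE hS hP hO1
  rw [hk] at hβ ⊢
  obtain ⟨α, hα, hr⟩ := Groth.Agent.CycPB.span hX hPs hδ hF hinv t ht β hβ
  choose A hA hAk using hα
  obtain ⟨B, hB, hBk⟩ := Groth.Agent.CycPB.Cy.sum (δ := δP) (k := k + n) Finset.univ
    (f := fun i : Fin (n + 1) => Cyc.c1PowFun δP O1 (t i) (i : ℕ) (Cyc.pullFun p δP δ n (α i))) fun i _ => by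
      have h := Groth.Agent.CycPB.Cy.pow hPs hinv (t := t i) (ht i) (Groth.Agent.CycPB.Cy.pull hPs hδ
        (Groth.Agent.CycPB.hasRelDim_of_hasPnFibres hF) (⟨A i, hA i, hAk i⟩ : Groth.Agent.CycPB.Cy δ _ _)) (i : ℕ)
      rwa [show k + ((i : ℕ) : ℤ) + n - ((i : ℕ) : ℤ) = k + n by ring] at h
  refine ⟨A, fun i m => Cyc.c1PowFun δP O1 (t i) m (Cyc.pullFun p δP δ n ⇑(A i)), B, hAk, fun i => ?_,
    fun i m => rfl, fun x => ?_, ?_⟩
  · rw [hn]; rfl
  · rw [hB]
    exact Finset.sum_congr rfl fun i _ => by dsimp only; rw [hA i]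
  · refine Groth.Agent.CycPB.RZ.ratEquiv ?_
    rw [hB]
    exact hr

end Groth.Agent.S6491
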