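import Groth.Statements.S6494
import Groth.Agent.BivarOps.LinePoint
import Groth.Agent.BivarOps.IntMultLemmas
import Groth.Agent.BivarOps.InterExt
import Groth.Agent.P1Div.SubFibre
import Groth.Agent.S1950
import Groth.Agent.S1952
-- import your own Groth.Agent.* helpers here

set_option autoImplicit false
set_option linter.style.haveILetI false
set_option backward.isDefEq.respectTransparency false
set_option maxHeartbeats 1000000
universe u
open CategoryTheory CategoryTheory.Limits AlgebraicGeometry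
attribute [local instance] HasDerivedCategory.standard
open IntMult
open Groth.Agent

namespace Groth.Agent.S6494

/-- Let X → P be a closed immersion of nonsingular varieties and C' ⊂ P × P^1 a closed subvariety of
dimension r + 1 with (1) the fibre C = C'_0 of dimension r (C' → P^1 dominant), (2) C' and X × P^1
intersecting properly, (3) [C]_r and X intersecting properly. Then, with α = [C]_r · X and β = C' ·
(X × P^1), one has α = pr_{X,*}(β · (X × 0)). Stated on P × P^1: α = pr_*((C' · (X × P^1)) · (P ×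
0)) as cycles on P. (The published statement takes the product of β with X × 0 on X × P^1 and pushes
it forward along X × P^1 → X; this row takes the product of C′ · (X × P^1) with P × 0 on P × P^1 and
pushes it forward along P × P^1 → P, which is the same cycle on P.) Encoding: P × P^1 =
CohB1.ProjSpaceOver 1 P with projection pr and zero section P1.sect P 0; dimension functions δP, δ'
(transcendence degree); C'_0 is the pullback of C' along the zero section and [C]_r its r-cycle
(Cyc.subschemeFun); X × P^1 and P × 0 enter as the prime cycles of their generic points; products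
are IntMult.interProd on P (dim N_P) and on P × P^1 (dim N_P + 1). Here P and X are nonsingular
varieties over the algebraically closed field K (smooth, separated, quasi-compact, integral), δP is
the dimension function on P (transcendence degree over K, recorded by Cyc.DeltaCompat to Spec K with
value 0, together with Cyc.IsSetup), N_P = δP of the generic point of P and n = δP of the generic
point of X; proper intersection is IntMult.IntersectProperly / IntMult.ProperInt and products are
IntMult.interProd. -/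
theorem result (K : Type u) [Field K] [IsAlgClosed K] (P : Scheme.{u}) (fP : P ⟶ Spec (CommRingCat.of K)) [Smooth fP] [IsSeparated fP] [QuasiCompact fP] [IsIntegral P] (δP : P → ℤ) (hP : Cyc.IsSetup P δP) (hδP : Cyc.DeltaCompat fP δP (fun _ => 0)) (NP : ℕ) (hNP : δP (genericPoint P) = NP) (δ' : ↥(CohB1.ProjSpaceOver 1 P) → ℤ) (hP' : Cyc.IsSetup (CohB1.ProjSpaceOver 1 P) δ') (hδ' : Cyc.DeltaCompat (CohB1.ProjSpaceOver.toBase 1 P) δ' δP) [QuasiCompact (CohB1.ProjSpaceOver.toBase 1 P)] (X : Scheme.{u}) (fX : X ⟶ Spec (CommRingCat.of K)) [Smooth fX] [IsSeparated fX] [QuasiCompact fX] [IsIntegral X] (ι : X ⟶ P) [IsClosedImmersion ι] (hι : ι ≫ fP = fX) (n : ℕ) (hn : δP (ι (genericPoint X)) = n) (ζX : ↥(CohB1.ProjSpaceOver 1 P)) (hζ1 : CohB1.ProjSpaceOver.toBase 1 P ζX = ι (genericPoint X)) (hζ2 : δ' ζX = n + 1) (C' : Scheme.{u}) [IsIntegral C'] (ι' : C' ⟶ CohB1.ProjSpaceOver 1 P) [IsClosedImmersion ι'] (r : ℕ) (hr : δ' (ι' (genericPoint C')) = r + 1) (hC0 : ∀ w : ↥(pullback ι' (P1.sect P 0)), δP (pullback.snd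 ι' (P1.sect P 0) w) ≤ r) (hC0ne : Nonempty ↥(pullback ι' (P1.sect P 0))) (h2 : IntMult.ProperInt (closure {ι' (genericPoint C')}) (⇑(CohB1.ProjSpaceOver.toBase 1 P) ⁻¹' Set.range ⇑ι) (NP + 1) (r + 1) (n + 1)) (h3 : IntMult.IntersectProperly δP NP (Cyc.subschemeFun δP r (pullback.snd ι' (P1.sect P 0))) (Set.indicator {ι (genericPoint X)} 1)) (B : AlgebraicCycle (CohB1.ProjSpaceOver 1 P) ℤ) (hB : ⇑B = IntMult.interProd δ' (NP + 1) (IntMult.interProd δ' (NP + 1) (Set.indicator {ι' (genericPoint C')} 1) (Set.indicator {ζX} 1)) (Set.indicator {P1.sect P 0 (genericPoint P)} 1)) : ⇑(AlgebraicCycle.map (CohB1.ProjSpaceOver.toBase 1 P) δ' δP B) = IntMult.interProd δP NP (Cyc.subschemeFun δP r (pullback.snd ι' (P1.sect P 0))) (Set.indicator {ι (genericPoint X)} 1) := by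
  classical
  haveI := hP.1
  let L := CohB1.ProjSpaceOver 1 P
  let π := CohB1.ProjSpaceOver.toBase 1 P
  haveI : Smooth π := CycPB.smooth_toBase 1 P
  haveI : IsProper π := P1Div.isProper_toBase P
  haveI : IsIntegral L := BivarOps.isIntegral_line
  haveI : IsLocallyNoetherian L := P1Div.isLocallyNoetherian_over
  haveI : Smooth (π ≫ fP) := inferInstance
  haveI : IsSeparated (π ≫ fP) := inferInstance
  haveI : QuasiCompact (π ≫ fP) := inferInstance
  have hδ₂ : Cyc.DeltaCompat (π ≫ fP) δ' (fun _ => 0) := Bivar.deltaCompat_comp π fP δ' δP _ hδ' hδP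
  have hD := hP'.2.2
  have hgen : δ' (genericPoint L) = (NP : ℤ) + 1 := by rw [BivarOps.delta_generic_line hδ', hNP]
  have hπ : ∀ y, π (P1.sect P 0 y) = y := fun y => by
    rw [← Scheme.Hom.comp_apply, P1Div.sect_toBase]; rfl
  let v := ι (genericPoint X)
  let w := ι' (genericPoint C')
  let g := P1.sect P 0 (genericPoint P)
  have hdg : δ' g = NP := (P1Div.delta_sect hδ' 0 _).trans hNP
  have hsect : ∀ z, g ⤳ z → ∃ y, P1.sect P 0 y = z := fun z hz =>
    hz.mem_closed (P1.sect P 0).isClosedEmbedding.isClosed_range ⟨_, rfl⟩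
  have hws : ∀ y, w ⤳ P1.sect P 0 y → δP y ≤ r := by
    intro y hy
    obtain ⟨c, hc⟩ : P1.sect P 0 y ∈ Set.range ι' := hy.mem_closed ι'.isClosedEmbedding.isClosed_range ⟨_, rfl⟩
    obtain ⟨z, -, hz⟩ := Scheme.Pullback.exists_preimage_pullback (f := ι') (g := P1.sect P 0) c y hc
    rw [← hz]
    exact hC0 z
  have hout : w ∉ Set.range (P1.sect P 0) := by
    rintro ⟨y, hy⟩
    have h := hws y (specializes_of_eq hy.symm)
    have h' := P1Div.delta_sect hδ' 0 y
    rw [hy] at h'
    rw [← h', hr] at h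
    omega
  -- the bound on the triple intersection
  have hT : ∀ x, v ⤳ x → w ⤳ P1.sect P 0 x → δP x ≤ (r : ℤ) + n - NP := by
    intro x hvx hwx
    obtain ⟨y, hyx, hwy, hle⟩ := BivarOps.exists_top_sect hD hδ' 0 hwx
    have hys : δP y = r := le_antisymm (hws y hwy) (by rw [hr] at hle; omega)
    have hne : Cyc.subschemeFun δP r (pullback.snd ι' (P1.sect P 0)) y ≠ 0 := by
      rw [P1Div.subschemeFun_sect 0 ι' y hys, dif_pos hwy]
      set t := P1Div.tStk 0 _ (P1Div.mem_dom_sect 0 y)
      have htP : t ∉ CDivNormal.genPrime hwy := by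
        rw [CDivNormal.mem_genPrime, not_not]
        show IsUnit ((L.presheaf.stalkSpecializes hwy).hom t)
        rw [P1Div.spz_tStk]
        exact P1Div.isUnit_tStk_of_not_range 0 _ hout
      have hfin := CycPull.length_sup_lt_top hD hwy (by rw [P1Div.delta_sect hδ' 0 y, hys, hr]) htP
      rw [ne_eq, Nat.cast_eq_zero, ENat.toNat_eq_zero]
      rintro (h | h)
      · haveI : Nontrivial (L.presheaf.stalk (P1.sect P 0 y) ⧸ (CDivNormal.genPrime hwy ⊔ Ideal.span {t})) := by
          refine Ideal.Quotient.nontrivial_iff.2 fun htop => ?_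
          exact (IsLocalRing.maximalIdeal.isMaximal _).ne_top (top_le_iff.1 (htop.ge.trans (sup_le
            (IsLocalRing.le_maximalIdeal (Ideal.IsPrime.ne_top inferInstance))
            ((Ideal.span_singleton_le_iff_mem _).2 (P1Div.not_isUnit_tStk_sect 0 y)))))
        exact (Module.length_pos (R := L.presheaf.stalk (P1.sect P 0 y))
          (M := L.presheaf.stalk (P1.sect P 0 y) ⧸ (CDivNormal.genPrime hwy ⊔ Ideal.span {t}))).ne' h
      · exact hfin.ne h
    have h := h3 y v x hne (by rw [Set.indicator_of_mem (Set.mem_singleton _), Pi.one_apply]; exact one_ne_zero) hyx hvx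
    rw [hys, hn] at h
    exact h
  have hbound : ∀ η, v ⤳ π η → w ⤳ η → δ' η ≤ (r : ℤ) + n + 1 - NP := by
    intro η hvη hwη
    have hW : η ∈ closure {w} := specializes_iff_mem_closure.1 hwη
    have hV : η ∈ π ⁻¹' Set.range ι := hvη.mem_closed ι.isClosedEmbedding.isClosed_range ⟨_, rfl⟩
    obtain ⟨hle, hdim⟩ := h2 ⟨η, hW, hV⟩
    have hp := BivarOps.pdim_le_of_proper isClosed_closure
      (ι.isClosedEmbedding.isClosed_range.preimage π.continuous) hW hV hdim
    have he : δ' η = (WeilCoh.pdim L η : ℤ) :=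
      CycPush.deltaCompat_unique (π ≫ fP) hδ₂ (CycDeg.deltaCompat_zero (π ≫ fP)) η
    have hp' : WeilCoh.pdim L η ≤ r + 1 + (n + 1) - (NP + 1) := hp
    omega
  -- the cycles
  have hvc : ⇑(CycRat.pt v) = Set.indicator {v} (1 : P → ℤ) := funext fun y => by
    rw [CycRat.pt_apply]; simp [Set.indicator_apply]
  have hwc : ⇑(CycRat.pt w) = Set.indicator {w} (1 : L → ℤ) := funext fun y => by
    rw [CycRat.pt_apply]; simp [Set.indicator_apply]
  have hu : Cyc.pullFun π δ' δP 1 (Set.indicator {v} 1) = Set.indicator {ζX} 1 :=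
    BivarOps.pullFun_point_line hδ' hζ1 (by rw [hζ2, hn])
  let dFun := IntMult.interProd δ' ((NP : ℤ) + 1) (Set.indicator {w} 1) (Set.indicator {g} 1)
  have hd : ∀ z, dFun z ≠ 0 → w ⤳ z ∧ g ⤳ z ∧ δ' z = r := by
    intro z hz
    obtain ⟨b, hwz, hbz, hd, hb⟩ := BivarOps.interProd_prime_ne hz
    obtain rfl := BivarOps.indicator_ne hb
    rw [hdg, hr] at hd
    exact ⟨hwz, hbz, by omega⟩
  let D : AlgebraicCycle L ℤ := CycLim.mkCycle dFun fun {U} hU =>
    BivarOps.finite_of_maximal hD (isClosed_closure.inter isClosed_closure : IsClosed (closure {w} ∩ closure {g}))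
      dFun (fun z hz => by
        obtain ⟨h2, h3, h4⟩ := hd z hz
        refine ⟨⟨specializes_iff_mem_closure.1 h2, specializes_iff_mem_closure.1 h3⟩, fun y hy _ => ?_⟩
        obtain ⟨x, rfl⟩ := hsect y (specializes_iff_mem_closure.2 hy.2)
        rw [P1Div.delta_sect hδ' 0 x, h4]
        exact hws x (specializes_iff_mem_closure.2 hy.1)) hU
  have hDk : D ∈ Cyc.Zk L δ' r := fun z hz => not_not.1 fun hne => hz (hd z hne).2.2
  have hpush : ∀ (F : AlgebraicCycle L ℤ), (∀ z, F z ≠ 0 → ∃ y, P1.sect P 0 y = z) →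
      ∀ x, AlgebraicCycle.map π δ' δP F x = F (P1.sect P 0 x) := by
    intro F hF x
    show (∑ᶠ p ∈ π ⁻¹' {x}, F p * ((AlgebraicCycle.mapCoeff π δ' δP p : ℕ) : ℤ)) = _
    rw [finsum_mem_eq_sum_of_subset (s := (π ⁻¹' {x} : Set _)) (t := {P1.sect P 0 x}) _ (fun p hp => ?_)
      (fun p hp => ?_), Finset.sum_singleton, AlgebraicCycle.mapCoeff,
      if_pos ((P1Div.delta_sect hδ' 0 x).trans (congrArg δP (hπ x)).symm), P1Div.residueDegree_sect, Nat.cast_one,
      mul_one]
    · obtain ⟨y, rfl⟩ := hF p (left_ne_zero_of_mul hp.2)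
      rw [Finset.coe_singleton, Set.mem_singleton_iff, show y = x from (hπ y).symm.trans hp.1]
    · rw [Finset.coe_singleton, Set.mem_singleton_iff] at hp
      rw [hp]
      exact hπ x
  have hD' : ⇑(AlgebraicCycle.map π δ' δP D) = Cyc.subschemeFun δP r (pullback.snd ι' (P1.sect P 0)) := by
    funext x
    rw [hpush D (fun z hz => hsect z (hd z hz).2.1) x]
    show IntMult.interProd δ' ((NP : ℤ) + 1) (Set.indicator {w} 1) (Set.indicator {g} 1) (P1.sect P 0 x) = _
    rw [← hwc, Groth.Agent.S1952.interProd_sect fP hNP hδ' r (CycRat.pt w)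
      (fun z hz => not_not.1 fun hne => hz (by
        rw [CycRat.pt_apply] at hne
        split_ifs at hne with he
        · rw [he]; exact hr
        · exact absurd rfl hne)) 0 (fun z hz => by
        rw [CycRat.pt_apply] at hz
        split_ifs at hz with he
        · rw [he]; exact hout
        · exact absurd rfl hz) x, P1Div.secSum]
    by_cases hx : δP x = r
    · rw [if_pos hx, P1Div.subschemeFun_sect 0 ι' x hx, finsum_eq_single _ w fun z hz => ?_]
      · rw [CycRat.pt_apply, if_pos rfl]
        split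
        · rw [one_mul]; rfl
        · rfl
      · rw [CycRat.pt_apply, if_neg hz]
        simp
    · rw [if_neg hx, Cyc.subschemeFun, if_neg hx]
  let eFun := IntMult.interProd δ' ((NP : ℤ) + 1) ⇑D (Set.indicator {ζX} 1)
  let Zi : Set L := (π ⁻¹' closure {v} ∩ closure {w}) ∩ closure {g}
  have he : ∀ z, eFun z ≠ 0 → z ∈ Zi ∧ δ' z = (r : ℤ) + n - NP := by
    intro z hz
    obtain ⟨p, hp⟩ := not_forall.1 fun h => hz (finsum_eq_zero_of_forall_eq_zero h)
    obtain ⟨h2, h3, h4⟩ := hd _ (left_ne_zero_of_mul (left_ne_zero_of_mul hp))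
    have hb := BivarOps.indicator_ne (right_ne_zero_of_mul (left_ne_zero_of_mul hp))
    have hsum := p.2.2.2
    have hζ := p.2.2.1
    rw [hb, hζ2, h4] at hsum
    rw [hb] at hζ
    exact ⟨⟨⟨specializes_iff_mem_closure.1 ((specializes_of_eq hζ1.symm).trans (hζ.map π.continuous)),
      specializes_iff_mem_closure.1 (h2.trans p.2.1)⟩, specializes_iff_mem_closure.1 (h3.trans p.2.1)⟩, by omega⟩
  let E : AlgebraicCycle L ℤ := CycLim.mkCycle eFun fun {U} hU =>
    BivarOps.finite_of_maximal hD (((isClosed_closure.preimage π.continuous).inter isClosed_closure).inter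
      isClosed_closure : IsClosed Zi) eFun (fun z hz => ⟨(he z hz).1, fun y hy _ => by
      obtain ⟨x, rfl⟩ := hsect y (specializes_iff_mem_closure.2 hy.2)
      rw [P1Div.delta_sect hδ' 0 x, (he z hz).2]
      exact hT x ((specializes_iff_mem_closure.2 hy.1.1).trans (specializes_of_eq (hπ x)))
        (specializes_iff_mem_closure.2 hy.1.2)⟩) hU
  have hpropD : IntMult.IntersectProperly δ' ((NP : ℤ) + 1) ⇑D (Set.indicator {ζX} 1) := by
    intro a b ζ ha hb haζ hbζ
    obtain rfl := BivarOps.indicator_ne hb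
    obtain ⟨h2, h3, h4⟩ := hd a ha
    obtain ⟨x, rfl⟩ := hsect ζ (h3.trans haζ)
    have := hT x ((specializes_of_eq hζ1.symm).trans ((hbζ.map π.continuous).trans (specializes_of_eq (hπ x))))
      (h2.trans haζ)
    rw [P1Div.delta_sect hδ' 0 x, h4, hζ2]
    omega
  have hproj := (Groth.Agent.S1950.result K L P π (π ≫ fP) fP rfl δ' δP hP' hP hδ₂ hδP hδ' ((NP : ℤ) + 1) NP hgen hNP
    1 (by simp) BivarOps.hasRelDim_line r n D (CycRat.pt v) hDk
    (fun y hy => not_not.1 fun hne => hy (by
      rw [CycRat.pt_apply] at hne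
      split_ifs at hne with he'
      · rw [he']; exact hn
      · exact absurd rfl hne))
    (by rw [hvc, Nat.cast_one, hu]; exact hpropD) E (by rw [hvc, Nat.cast_one, hu]; rfl)).2
  rw [hD', hvc] at hproj
  funext x
  rw [hproj, hpush E (fun z hz => hsect z (specializes_iff_mem_closure.2 (he z hz).1.2)),
    hpush B (fun z hz => ?_)]
  swap
  · rw [hB, BivarOps.interProd_comm] at hz
    obtain ⟨b, hgz, -⟩ := BivarOps.interProd_prime_ne hz
    exact hsect z hgz
  show B (P1.sect P 0 x) = IntMult.interProd δ' ((NP : ℤ) + 1) dFun (Set.indicator {ζX} 1) (P1.sect P 0 x)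
  rw [hB, BivarOps.interProd_comm δ' ((NP : ℤ) + 1) (Set.indicator {ι' (genericPoint C')} 1) (Set.indicator {ζX} 1),
    BivarOps.interProd_comm δ' ((NP : ℤ) + 1) dFun (Set.indicator {ζX} 1)]
  refine (BivarOps.interProd_assoc_local K (π ≫ fP) hD ((NP : ℤ) + 1) hgen ζX w g _ (fun η _ h1 h4 => ?_)
    (fun η _ h1 h4 => ?_) (fun z h1 h4 h5 => ?_)).symm
  · have := hbound η ((specializes_of_eq hζ1.symm).trans (h1.map π.continuous)) h4
    rw [hζ2, hr]
    omega
  · obtain ⟨y, rfl⟩ := hsect η h4
    have := hws y h1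
    rw [P1Div.delta_sect hδ' 0 y, hr, hdg]
    omega
  · obtain ⟨y, rfl⟩ := hsect z h5
    have := hT y ((specializes_of_eq hζ1.symm).trans ((h1.map π.continuous).trans (specializes_of_eq (hπ y)))) h4
    rw [P1Div.delta_sect hδ' 0 y, hζ2, hr, hdg]
    omega

end Groth.Agent.S6494
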