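import Groth.Statements.S6499
import Groth.Agent.QC.Localisation
import Groth.Agent.QC.Support
import Groth.Agent.WeakAssLib.Basic

set_option autoImplicit false
universe u
open CategoryTheory AlgebraicGeometry
open Cyc

namespace Groth.Agent.S6499

/-- Suppose X and Y are schemes locally of finite type over the base, and π : X → Y is a morphism
between them that is finite. Then π_* sends Coh_{≤k}(X) into Coh_{≤k}(Y): for F coherent on X with
dim_δ Supp(F) ≤ k, the direct image π_*F is coherent with dim_δ Supp(π_*F) ≤ k (Cyc.CohLe).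
(Exactness of π_* and the commutative diagram with the cycle maps are not restated; the latter is
the existing compatibility of [−]_k with π_*.) Here a pair (X, δ) with Cyc.IsSetup plays the role of
a scheme locally of finite type over the base (S, δ) (X locally Noetherian with universally catenary
local rings, δ a dimension function), and Cyc.DeltaCompat records that the dimension function
upstairs is the induced one. -/
theorem result (X Y : Scheme.{u}) (δX : X → ℤ) (δY : Y → ℤ) (hX : Cyc.IsSetup X δX) (hY : Cyc.IsSetup Y δY) (π : X ⟶ Y) [IsFinite π] (hδ : Cyc.DeltaCompat π δX δY) (k : ℤ) (F : X.Modules) (hF : Cyc.CohLe δX k F) : Cyc.CohLe δY k ((Coh.push π).obj F) := by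

  haveI := hX.1
  haveI := hY.1
  haveI := hF.1.1
  refine ⟨Groth.Agent.QC.isCoh_pushforward_of_isFinite π hF.1.2, fun y hy => ?_⟩
  by_contra hlt
  have hS : IsClosed (CohB1.support F) := Groth.Agent.QC.isClosed_support hF.1.2
  have hC : IsClosed (π.base '' CohB1.support F) := π.isClosedMap _ hS
  have hyC : y ∈ (π.base '' CohB1.support F)ᶜ := by
    rintro ⟨x, hx, rfl⟩
    obtain ⟨n, -, hn⟩ := hδ x
    have := hF.2 x (not_subsingleton_iff_nontrivial.1 hx)
    exact hlt (by omega)
  refine not_subsingleton_iff_nontrivial.2 hy (subsingleton_of_forall_eq 0 fun σ => ?_)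
  obtain ⟨U, hyU, s, rfl⟩ := TopCat.Presheaf.germ_exist ((Coh.push π).obj F).presheaf σ
  let W : Y.Opens := U ⊓ ⟨(π.base '' CohB1.support F)ᶜ, hC.isOpen_compl⟩
  have hW : W ≤ U := inf_le_left
  have h0 : Groth.Agent.QC.res ((Coh.push π).obj F) hW s = 0 := by
    apply Groth.Agent.WeakAssLib.ext_germ F (U := π ⁻¹ᵁ W)
    intro x hx
    haveI : Subsingleton (F.presheaf.stalk x) := not_not.1 fun hns => hx.2 ⟨x, hns, rfl⟩
    exact Subsingleton.elim _ _
  exact (Groth.Agent.QC.germ_res ((Coh.push π).obj F) hW y ⟨hyU, hyC⟩ s).symm.trans (by rw [h0, map_zero])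

end Groth.Agent.S6499
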