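import Groth.Statements.S6500
import Groth.Agent.SmLocalST.SmoothField
import Groth.Agent.RegDual.Scheme
import Groth.Agent.SerreReg.Regular
import Groth.Agent.PdRes.Basic

set_option autoImplicit false
universe u
open CategoryTheory CategoryTheory.Limits AlgebraicGeometry
attribute [local instance] HasDerivedCategory.standard
open IntMult

namespace Groth.Agent.S6500

/-- Let X be a nonsingular variety of dimension n and F, G coherent O_X-modules. The Tor sheaves
Tor_p^{O_X}(F, G), whose stalks are Tor_p^{O_{X,x}}(F_x, G_x), are nonzero only for p ∈ {0, …, n}: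
for every point x and every p > n, Tor_p^{O_{X,x}}(F_x, G_x) = 0. (Coherence of the Tor sheaves and
the support statement are not restated.) Nonsingular variety: X → Spec K smooth, separated,
quasi-compact, X integral, K algebraically closed; n = dim X. -/
theorem result (K : Type u) [Field K] [IsAlgClosed K] (X : Scheme.{u}) (f : X ⟶ Spec (CommRingCat.of K)) [Smooth f] [IsSeparated f] [QuasiCompact f] [IsIntegral X] (n : ℕ) (hn : topologicalKrullDim X = n) (F G : X.Modules) (hF : Coh.IsCoh F) (hG : Coh.IsCoh G) (x : X) (p : ℕ) (hp : n < p) : Subsingleton (DRing.Tor ↑(X.presheaf.stalk x) p ↑(F.presheaf.stalk x) ↑(G.presheaf.stalk x)) := by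
  have hreg : IsRegularLocalRing (X.presheaf.stalk x) :=
    Groth.Agent.SmLocalST.isRegularLocalRing_stalk_of_smooth_field f x
  have hle : ringKrullDim (X.presheaf.stalk x) ≤ (n : WithBot ℕ∞) :=
    hn ▸ Groth.Agent.RegDual.ringKrullDim_stalk_le_topologicalKrullDim x
  obtain ⟨d, hd⟩ : ∃ d : ℕ, ringKrullDim (X.presheaf.stalk x) = d :=
    ⟨_, (IsRegularLocalRing.spanFinrank_maximalIdeal (R := X.presheaf.stalk x)).symm⟩
  have hdn : d ≤ n := by rw [hd] at hle; exact_mod_cast hle
  obtain ⟨P, hP⟩ := Groth.Agent.PdRes.exists_resolution d (ModuleCat.of (X.presheaf.stalk x) (G.presheaf.stalk x))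
    (Groth.Agent.SerreReg.pdLE_of_isRegularLocalRing _ d hd _)
  refine ModuleCat.subsingleton_of_isZero (IsZero.of_iso ?_ (P.isoLeftDerivedObj
    ((MonoidalCategory.tensoringLeft (ModuleCat.{u} (X.presheaf.stalk x))).obj
      (ModuleCat.of (X.presheaf.stalk x) (F.presheaf.stalk x))) p))
  refine ((HomologicalComplex.exactAt_iff_isZero_homology _ _).1 (ShortComplex.exact_of_isZero_X₂ _ ?_))
  exact Functor.map_isZero ((MonoidalCategory.tensoringLeft (ModuleCat.{u} (X.presheaf.stalk x))).obj (ModuleCat.of (X.presheaf.stalk x) (F.presheaf.stalk x))) (hP p (by omega))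

end Groth.Agent.S6500
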