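import Groth.Statements.S6503
import Groth.Agent.TorCI.DiagSmooth

set_option autoImplicit false
set_option linter.style.haveILetI false
set_option backward.isDefEq.respectTransparency false
open Groth.Agent
universe u
open TensorProduct
open LCI

namespace Groth.Agent.S6503

/-- Suppose A and B are Noetherian local rings and A → B is a local homomorphism making B a flat
A-algebra that is essentially of finite type, and regard B as an algebra over B ⊗_A B via the
multiplication map. If B has finite Tor-dimension over B ⊗_A B (the diagonal is a perfect ring map),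
then there are a smooth A-algebra C and a prime ideal q of C such that B is an A-algebra
localization of C at q. -/
theorem result {A B : Type u} [CommRing A] [CommRing B]
    [Algebra A B] [IsNoetherianRing A] [IsNoetherianRing B] [IsLocalRing A] [IsLocalRing B]
    [IsLocalHom (algebraMap A B)] [Module.Flat A B] [Algebra.EssFiniteType A B]
    [Algebra (B ⊗[A] B) B]
    (hmul : ∀ x y : B, algebraMap (B ⊗[A] B) B (x ⊗ₜ[A] y) = x * y)
    (h : DRing.HasFiniteTorDim (B ⊗[A] B) B) :
    ∃ (C : Type u) (_ : CommRing C) (_ : Algebra A C) (_ : Algebra C B) (_ : IsScalarTower A C B)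
      (q : Ideal C) (_ : q.IsPrime), Algebra.Smooth A C ∧ IsLocalization.AtPrime B q := by
  let B₀ := Algebra.EssFiniteType.subalgebra A B
  let M := Algebra.EssFiniteType.submonoid A B
  let q := (IsLocalRing.maximalIdeal B).comap (algebraMap B₀ B)
  haveI hq : Algebra.IsSmoothAt A q := TorCI.isSmoothAt_of_diag_local M (TorCI.td_lmul_of_algebra hmul h)
  haveI : Algebra.FinitePresentation A B₀ := Algebra.FinitePresentation.of_finiteType.1 inferInstance
  obtain ⟨g, hg, hsm⟩ := Algebra.IsSmoothAt.exists_notMem_smooth A q
  let C := Localization.Away g
  have hu : IsUnit (algebraMap B₀ B g) := IsLocalRing.notMem_maximalIdeal.1 hg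
  let ψ : C →+* B := IsLocalization.Away.lift g hu
  letI : Algebra C B := ψ.toAlgebra
  haveI : IsScalarTower B₀ C B := IsScalarTower.of_algebraMap_eq' (IsLocalization.Away.lift_comp g hu).symm
  haveI : IsScalarTower A C B := IsScalarTower.of_algebraMap_eq fun a => by
    rw [IsScalarTower.algebraMap_apply A B₀ B, IsScalarTower.algebraMap_apply A B₀ C,
      ← IsScalarTower.algebraMap_apply B₀ C B]
  let Q := (IsLocalRing.maximalIdeal B).comap (algebraMap C B)
  haveI : IsLocalization (IsLocalRing.maximalIdeal B).primeCompl B :=
    IsLocalization.self fun x hx => IsLocalRing.notMem_maximalIdeal.1 hx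
  haveI : IsLocalization.AtPrime B q :=
    IsLocalization.isLocalization_isLocalization_atPrime_isLocalization M B (IsLocalRing.maximalIdeal B)
  haveI : IsLocalization (Algebra.algebraMapSubmonoid C q.primeCompl) B :=
    IsLocalization.isLocalization_of_submonoid_le C B (Submonoid.powers g) q.primeCompl
      (Submonoid.powers_le.2 hg)
  haveI : IsLocalization.AtPrime B Q :=
    IsLocalization.isLocalization_isLocalization_atPrime_isLocalization (Algebra.algebraMapSubmonoid C q.primeCompl) B
      (IsLocalRing.maximalIdeal B)
  exact ⟨C, inferInstance, inferInstance, inferInstance, inferInstance, Q, inferInstance, hsm, inferInstance⟩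

end Groth.Agent.S6503
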