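import Groth.Statements.S6507
import Groth.Agent.HypSR.Refine
import Groth.Agent.HypSite.Basic

set_option autoImplicit false
universe u
open CategoryTheory
open Hyper

set_option backward.isDefEq.respectTransparency false
set_option backward.isDefEq.respectTransparency.types false

namespace Groth.Agent.S6507

open Opposite CategoryTheory.Limits in
/-- With presheaves taken on the localized site C/X: let C be a small site with fibre products, X an
object, K a hypercovering of X and n ≥ 0. Let u : P → F(K_n) be a morphism of presheaves of sets on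
C/X, where F(K_n) is the coproduct of the presheaves represented by the members of the family K_n,
and assume u is locally surjective. Then there exist a hypercovering L of X and a morphism f : L → K
such that F(f_n) : F(L_n) → F(K_n) factors through u. -/
theorem result {C : Type u} [SmallCategory C] [HasPullbacks C]
    (J : GrothendieckTopology C) (X : C)
    [∀ (n : ℕ) (F : (SimplexCategory.Truncated n)ᵒᵖ ⥤ Limits.FormalCoproduct.{u} (Over X)),
      (SimplexCategory.Truncated.inclusion n).op.HasRightKanExtension F]
    (K : SimplicialObject (FormalCoproduct.{u} (Over X))) (hK : Hyper.IsHypercovering J X K) (n : ℕ)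
    (P : (Over X)ᵒᵖ ⥤ Type u) (u : P ⟶ FormalCoproduct.yoneda.obj (K.obj (op (SimplexCategory.mk n))))
    (hu : Presheaf.IsLocallySurjective (J.over X) u) :
    ∃ (L : SimplicialObject (FormalCoproduct.{u} (Over X))) (f : L ⟶ K)
      (g : FormalCoproduct.yoneda.obj (L.obj (op (SimplexCategory.mk n))) ⟶ P),
      Hyper.IsHypercovering J X L ∧ g ≫ u = FormalCoproduct.yoneda.map (f.app (op (SimplexCategory.mk n))) := by
  let Kn := K.obj (op (SimplexCategory.mk n))
  let Z : FormalCoproduct.{u} (Over X) :=
    ⟨Σ V : Over X, {a : P.obj (op V) × ((FormalCoproduct.incl (Over X)).obj V ⟶ Kn) //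
      u.app (op V) a.1 = Groth.Agent.HypSite.el a.2}, fun a => a.1⟩
  let u₀ : Z ⟶ Kn := { f := fun a => a.2.1.2.f PUnit.unit, φ := fun a => a.2.1.2.φ PUnit.unit }
  have hu₀ : Hyper.IsSRCovering (J.over X) u₀ := by
    rw [Groth.Agent.HypSR.covering_iff]
    intro W x
    refine GrothendieckTopology.superset_covering _ ?_
      (Presheaf.imageSieve_mem (J.over X) u (Groth.Agent.HypSite.el x))
    rintro V h ⟨t, ht⟩
    refine ⟨FormalCoproduct.Hom.fromIncl (Y := Z)
      ⟨V, ⟨(t, (FormalCoproduct.incl _).map h ≫ x), ht.trans (Groth.Agent.HypSite.res_el h x)⟩⟩ (𝟙 V), ?_⟩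
    refine FormalCoproduct.hom_ext rfl fun i => ?_
    cases i
    simp [u₀]; exact Category.id_comp _
  obtain ⟨L, f, g, hL, hg⟩ := Groth.Agent.HypSR.exists_refinement K hK n Z u₀ hu₀
  let T : FormalCoproduct.yoneda.obj Z ⟶ P := Sigma.desc fun a : Z.I => yonedaEquiv.symm a.2.1.1
  have hT : T ≫ u = FormalCoproduct.yoneda.map u₀ := by
    refine Sigma.hom_ext _ _ fun a => yonedaEquiv.injective ?_
    erw [Sigma.ι_desc_assoc]
    rw [yonedaEquiv_comp, Equiv.apply_symm_apply, a.2.2, yonedaEquiv_apply]
    have h := Groth.Agent.HypSite.map_el u₀ (FormalCoproduct.Hom.fromIncl (Y := Z) a (𝟙 a.1))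
    have e : FormalCoproduct.Hom.fromIncl (Y := Z) a (𝟙 a.1) ≫ u₀ = a.2.1.2 := by
      refine FormalCoproduct.hom_ext rfl fun i => ?_
      cases i
      simp [u₀]; exact Category.id_comp _
    rw [e] at h
    exact h.symm
  exact ⟨L, f, FormalCoproduct.yoneda.map g ≫ T, hL, by rw [Category.assoc, hT, ← Functor.map_comp, hg]⟩

end Groth.Agent.S6507
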