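import Groth.Statements.S6514
import Groth.Agent.KInj.Ops
import Groth.Agent.RelPCS.FlatBase
-- import your own Groth.Agent.* helpers here

set_option autoImplicit false
universe u
open CategoryTheory
open DCoh

namespace Groth.Agent.S6514

open AlgebraicGeometry in
/-- If f : X → Y is a flat morphism of schemes and I is a K-injective complex of O_X-modules, then f_* I
(direct image applied termwise) is a K-injective complex of O_Y-modules. (The published statement is
for flat morphisms of ringed spaces; this row is for flat morphisms of schemes.) -/
theorem result {X Y : Scheme.{u}} (f : X ⟶ Y) [Flat f]
    (I : CochainComplex X.Modules ℤ) (hI : I.IsKInjective) :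
    CochainComplex.IsKInjective (((Scheme.Modules.pushforward f).mapHomologicalComplex (ComplexShape.up ℤ)).obj I) := by
  haveI := Groth.Agent.RelPCS.preservesFiniteLimits_pullback f
  haveI := (Scheme.Modules.pullbackPushforwardAdjunction f).leftAdjoint_preservesColimits.{0, 0}
  haveI : (Scheme.Modules.pullback f).Additive := Functor.additive_of_preserves_binary_products _
  exact Groth.Agent.KInj.isKInjective_rightAdjoint (Scheme.Modules.pullbackPushforwardAdjunction f) I hI

end Groth.Agent.S6514
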