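import Groth.Statements.S6527
import Groth.Agent.KInj.Ops
import Mathlib
-- import your own Groth.Agent.* helpers here

set_option autoImplicit false
universe u
open CategoryTheory
attribute [local instance] HasDerivedCategory.standard
open DCoh

namespace Groth.Agent.S6527

section aux

open CategoryTheory.Limits

open DerivedCategory

universe w w' v v' u₁ u₂

variable {A : Type u₁} [Category.{v} A] [Abelian A] [HasDerivedCategory.{w} A]
  {C : Type u₂} [Category.{v'} C] [Abelian C] [HasDerivedCategory.{w'} C]
  {L : A ⥤ C} {R : C ⥤ A} (adj : L ⊣ R) [L.Additive] [R.Additive]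
  [PreservesFiniteLimits L] [PreservesFiniteColimits L] [PreservesFiniteLimits R] [PreservesFiniteColimits R]

/-- the derived adjunction of exact functors -/
noncomputable def derivedAdj' : L.mapDerivedCategory ⊣ R.mapDerivedCategory :=
  letI : CatCommSq (L.mapHomologicalComplex (ComplexShape.up ℤ)) (Q : CochainComplex A ℤ ⥤ _) Q L.mapDerivedCategory :=
    ⟨L.mapDerivedCategoryFactors.symm⟩
  letI : CatCommSq (R.mapHomologicalComplex (ComplexShape.up ℤ)) (Q : CochainComplex C ℤ ⥤ _) Q R.mapDerivedCategory :=
    ⟨R.mapDerivedCategoryFactors.symm⟩
  (Groth.Agent.KInj.mapHomologicalComplexAdj adj (ComplexShape.up ℤ)).localization Q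
    (HomologicalComplex.quasiIso A (ComplexShape.up ℤ)) Q (HomologicalComplex.quasiIso C (ComplexShape.up ℤ))
    L.mapDerivedCategory R.mapDerivedCategory

end aux

open AlgebraicGeometry CategoryTheory.Limits in
/-- For an open subscheme j : U → X, the extension by zero functor j_! : D(O_U) → D(O_X) is left adjoint
to the restriction functor D(O_X) → D(O_U). Both functors are the ones induced on derived categories
by the exact functors j_! and j^*; the assertion is the existence of an adjunction. (The published
statement is for ringed spaces; this row is for schemes.) -/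
theorem result {X : Scheme.{u}} (U : X.Opens)
    [PreservesFiniteLimits (CxOX.extZero U.ι)] :
    Nonempty (CxOX.extZeroD U.ι ⊣ DCoh.restrictD U.ι) := by
  exact ⟨derivedAdj' (CxOX.extZeroAdj U.ι)⟩

end Groth.Agent.S6527
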