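import Groth.Statements.S6528
import Groth.Agent.PerfGen.Open
import Groth.Agent.W7Baer.Local
import Mathlib

set_option autoImplicit false
universe u
open CategoryTheory
attribute [local instance] HasDerivedCategory.standard
open DCoh

namespace Groth.Agent.S6528

open AlgebraicGeometry CategoryTheory.Limits in
/-- `j^* j_! = id` on derived categories -/
theorem restrict_extZero {X : Scheme.{u}} (U : X.Opens) [PreservesFiniteLimits (CxOX.extZero U.ι)]
    (F : DCoh.D (U : Scheme.{u})) :
    Nonempty ((DCoh.restrictD U.ι).obj ((CxOX.extZeroD U.ι).obj F) ≅ F) := by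
  let C := (DerivedCategory.Q (C := (U : Scheme.{u}).Modules)).objPreimage F
  let e : DerivedCategory.Q.obj C ≅ F := DerivedCategory.Q.objObjPreimageIso F
  let L := (CxOX.extZero U.ι).mapHomologicalComplex (ComplexShape.up ℤ)
  let c : ((Scheme.Modules.restrictFunctor U.ι).mapHomologicalComplex (ComplexShape.up ℤ)).obj (L.obj C) ≅ C :=
    (HomologicalComplex.Hom.isoOfComponents
      (fun n => ((asIso (CxOX.extZeroAdj U.ι).unit).app (C.X n)))
      (fun a b _ => ((CxOX.extZeroAdj U.ι).unit.naturality (C.d a b)).symm)).symm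
  exact ⟨(DCoh.restrictD U.ι).mapIso ((CxOX.extZeroD U.ι).mapIso e.symm ≪≫
      (CxOX.extZero U.ι).mapDerivedCategoryFactors.app C) ≪≫
    (Scheme.Modules.restrictFunctor U.ι).mapDerivedCategoryFactors.app _ ≪≫
    DerivedCategory.Q.mapIso c ≪≫ e⟩

open AlgebraicGeometry CategoryTheory.Limits Groth.Agent.PerfGen in
/-- objects supported in a closed subset of `U` -/
theorem supported {X : Scheme.{u}} (U : X.Opens) (T : Set X) (hT : IsClosed T) (hTU : T ⊆ (U : Set X))
    (E : DCoh.D X) (h : SuppD T E) : Nonempty (E ≅ (DCoh.Rpush U.ι).obj ((DCoh.restrictD U.ι).obj E)) := by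
  haveI := isIso_unit_of_cover (Scheme.Opens.ι (⟨Tᶜ, hT.isOpen_compl⟩ : X.Opens)) U.ι (by
    rw [Scheme.Opens.range_ι, Scheme.Opens.range_ι]
    exact Set.eq_univ_of_forall fun x => (em (x ∈ T)).elim (fun h => Or.inr (hTU h)) Or.inl)
    ((isZero_RD_of_compl hT E).1 h)
  exact ⟨asIso ((adjR U.ι).unit.app E)⟩

open AlgebraicGeometry CategoryTheory.Limits in
/-- Let j : U → X be an open subscheme and T ⊆ U a subset which is closed in X. (1) If E ∈ D(O_X) has
cohomology sheaves supported on T, then E ≅ Rj_*(E|_U). (2) If F ∈ D(O_U) has cohomology sheaves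
supported on T, then j_!F ≅ Rj_*F. The published statement asserts that the canonical maps are
isomorphisms; this row asserts only that isomorphisms exist. (The published statement is for ringed
spaces; this row is for schemes.) -/
theorem result {X : Scheme.{u}} (U : X.Opens) [DCoh.HasRpush U.ι]
    [PreservesFiniteLimits (CxOX.extZero U.ι)] (T : Set X) (hT : IsClosed T) (hTU : T ⊆ (U : Set X)) :
    (∀ E : DCoh.D X, (∀ i : ℤ, CohB1.support (DCoh.HD E i) ⊆ T) →
      Nonempty (E ≅ (DCoh.Rpush U.ι).obj ((DCoh.restrictD U.ι).obj E))) ∧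
    (∀ F : DCoh.D (U : Scheme.{u}),
      (∀ i : ℤ, (fun x : (U : Scheme.{u}) => U.ι.base x) '' CohB1.support (DCoh.HD F i) ⊆ T) →
      Nonempty ((CxOX.extZeroD U.ι).obj F ≅ (DCoh.Rpush U.ι).obj F)) := by
  refine ⟨fun E hE => supported U T hT hTU E hE, fun F hF => ?_⟩
  let G := (CxOX.extZeroD U.ι).obj F
  let eh : ∀ i, DCoh.HD G i ≅ (CxOX.extZero U.ι).obj (DCoh.HD F i) := fun i =>
    (DQCoh.homologyDerIso (CxOX.extZero U.ι) i).app F
  let e2 : ∀ i, (Scheme.Modules.restrictFunctor U.ι).obj (DCoh.HD G i) ≅ DCoh.HD F i := fun i =>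
    (Scheme.Modules.restrictFunctor U.ι).mapIso (eh i) ≪≫
      ((asIso (CxOX.extZeroAdj U.ι).unit).app (DCoh.HD F i)).symm
  have hG : PerfGen.SuppD T G := fun i x hx => by
    by_cases hxU : x ∈ U
    · refine hF i ⟨⟨x, hxU⟩, ?_, rfl⟩
      rw [← PerfGen.support_eq_of_iso (e2 i), PerfGen.support_restrict]
      exact hx
    · exfalso
      rw [PerfGen.mem_support_iff] at hx
      exact hx ((W7Baer.suppIn_extZero U _ x hxU).of_iso ((DerSch.stalkFunctor X x).mapIso (eh i)))
  obtain ⟨e⟩ := supported U T hT hTU G hG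
  exact ⟨e ≪≫ (DCoh.Rpush U.ι).mapIso (restrict_extZero U F).some⟩

end Groth.Agent.S6528
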