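import Groth.Statements.S6530
import Mathlib
-- import your own Groth.Agent.* helpers here

set_option autoImplicit false
universe u
open DPow

namespace Groth.Agent.S6530

/-- Let (A, I, γ) be a divided power ring and p a prime number with p^t A ⊆ I for some t ≥ 0, so that p
is nilpotent in A/I. Let A^∧ be the p-adic completion of A and π : A^∧ → A/I the composite of the
evaluation A^∧ → A/p^tA with the projection A/p^tA → A/I. Then π is surjective, and there is a
divided power structure on Ker(π) (this kernel is the p-adic completion of I) such that the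
canonical map A → A^∧ is a homomorphism of divided power rings. -/
theorem result {A : Type u} [CommRing A] {I : Ideal A}
    (γ : DividedPowers I) (p : ℕ) [Fact p.Prime] (t : ℕ) (ht : Ideal.span {(p : A)} ^ t ≤ I) :
    Function.Surjective ((Ideal.Quotient.factor ht).comp
      (AdicCompletion.evalₐ (Ideal.span {(p : A)}) t).toRingHom) ∧
    ∃ δ : DividedPowers (RingHom.ker ((Ideal.Quotient.factor ht).comp
      (AdicCompletion.evalₐ (Ideal.span {(p : A)}) t).toRingHom)),
      γ.IsDPMorphism δ (algebraMap A (AdicCompletion (Ideal.span {(p : A)}) A)) := by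
  classical
  set q := Ideal.span {(p : A)} with hq
  set K := RingHom.ker ((Ideal.Quotient.factor ht).comp (AdicCompletion.evalₐ q t).toRingHom) with hK
  let e : ∀ s, AdicCompletion q A →ₐ[A] A ⧸ q ^ s := AdicCompletion.evalₐ q
  have hrep : ∀ x : AdicCompletion q A, ∃ a : ℕ → A, (∀ s, e s x = Ideal.Quotient.mk _ (a s)) ∧
      ∀ m n, m ≤ n → a m - a n ∈ q ^ m := by
    intro x
    obtain ⟨f, rfl⟩ := AdicCompletion.mk_surjective q A x
    refine ⟨f.val, fun s => AdicCompletion.evalₐ_mk q s f, fun m n hmn => ?_⟩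
    have h := SModEq.sub_mem.mp (f.2 hmn)
    rwa [smul_eq_mul, Ideal.mul_top] at h
  choose R hR hcau using hrep
  have hmemI : ∀ (x : AdicCompletion q A), x ∈ K → ∀ s, t ≤ s → ∀ a, e s x = Ideal.Quotient.mk _ a → a ∈ I := by
    intro x hx s hs a ha
    rw [hK, RingHom.mem_ker] at hx
    change Ideal.Quotient.factor ht (e t x) = 0 at hx
    rw [hR, Ideal.Quotient.factor_mk, Ideal.Quotient.eq_zero_iff_mem] at hx
    rw [hR, Ideal.Quotient.eq] at ha
    have h1 := ht (hcau x t s hs)
    have h2 := ht (Ideal.pow_le_pow_right hs ha)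
    rw [show a = R x t - (R x t - R x s) - (R x s - a) by ring]
    exact sub_mem (sub_mem hx h1) h2
  have hcongr : ∀ (n s : ℕ) (a b : A), a ∈ I → b ∈ I → a - b ∈ q ^ (s + t) →
      γ.dpow n a - γ.dpow n b ∈ q ^ s := by
    intro n s a b ha hb hab
    rw [hq, Ideal.span_singleton_pow, Ideal.mem_span_singleton'] at hab
    obtain ⟨z, hz⟩ := hab
    have hw : z * (p : A) ^ t ∈ I := I.mul_mem_left _ (ht (Ideal.pow_mem_pow (Ideal.mem_span_singleton_self _) t))
    rw [show a = b + (p : A) ^ s * (z * (p : A) ^ t) by linear_combination -hz, γ.dpow_add hb (I.mul_mem_left _ hw),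
      ← Finset.sum_erase_add _ _ (show (n, 0) ∈ Finset.HasAntidiagonal.antidiagonal n by
        simp [Finset.HasAntidiagonal.mem_antidiagonal]),
      γ.dpow_zero (I.mul_mem_left _ hw), mul_one, add_sub_cancel_right]
    refine Ideal.sum_mem _ fun k hk => Ideal.mul_mem_left _ _ ?_
    rw [Finset.mem_erase, Finset.HasAntidiagonal.mem_antidiagonal] at hk
    have hk2 : k.2 ≠ 0 := fun h => hk.1 (Prod.ext (by omega) h)
    rw [γ.dpow_mul hw, ← pow_mul]
    refine Ideal.mul_mem_right _ _ (Ideal.pow_le_pow_right (Nat.le_mul_of_pos_right s (Nat.pos_of_ne_zero hk2)) ?_)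
    exact Ideal.pow_mem_pow (Ideal.mem_span_singleton_self _) _
  let S : ℕ → ∀ x : AdicCompletion q A, x ∈ K → AdicCompletion.AdicCauchySequence q A := fun n x hx =>
    ⟨fun s => γ.dpow n (R x (s + t)), fun {m k} hmk => SModEq.sub_mem.mpr (by
      rw [smul_eq_mul, Ideal.mul_top]
      exact hcongr n m _ _ (hmemI x hx _ (by omega) _ (hR x _)) (hmemI x hx _ (by omega) _ (hR x _))
        (hcau x _ _ (by omega)))⟩
  let d : ℕ → AdicCompletion q A → AdicCompletion q A := fun n x =>
    if hx : x ∈ K then AdicCompletion.mk q A (S n x hx) else 0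
  have hd : ∀ (n s : ℕ) (x : AdicCompletion q A), x ∈ K → ∀ a : A, e (s + t) x = Ideal.Quotient.mk _ a →
      e s (d n x) = Ideal.Quotient.mk _ (γ.dpow n a) := by
    intro n s x hx a ha
    simp only [d, dif_pos hx]
    refine (AdicCompletion.evalₐ_mk q s _).trans (Ideal.Quotient.eq.mpr ?_)
    exact hcongr n s _ _ (hmemI x hx _ (by omega) _ (hR x _)) (hmemI x hx _ (by omega) a ha)
      (Ideal.Quotient.eq.mp ((hR x _).symm.trans ha))
  have hext : ∀ x y : AdicCompletion q A, (∀ s, e s x = e s y) → x = y := fun x y h =>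
    AdicCompletion.ext_evalₐ h
  have hI : ∀ (x : AdicCompletion q A), x ∈ K → ∀ s, R x (s + t) ∈ I := fun x hx s =>
    hmemI x hx _ (by omega) _ (hR x _)
  have hdK : ∀ n x, n ≠ 0 → x ∈ K → d n x ∈ K := by
    intro n x hn hx
    rw [hK, RingHom.mem_ker]
    change Ideal.Quotient.factor ht (e t (d n x)) = 0
    rw [hd n t x hx _ (hR x _), Ideal.Quotient.factor_mk, Ideal.Quotient.eq_zero_iff_mem]
    exact γ.dpow_mem hn (hI x hx t)
  have hcoe : ∀ (a : A) (s : ℕ), e s (algebraMap A _ a) = Ideal.Quotient.mk _ a := fun a s => (e s).commutes a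
  refine ⟨Ideal.Quotient.factor_surjective ht |>.comp (AdicCompletion.surjective_evalₐ q t), {
    dpow := d
    dpow_null := fun {n x} hx => dif_neg hx
    dpow_zero := fun {x} hx => hext _ _ fun s => by
      rw [hd 0 s x hx _ (hR x _), γ.dpow_zero (hI x hx s), map_one, map_one]
    dpow_one := fun {x} hx => hext _ _ fun s => by
      rw [hd 1 s x hx _ (hR x _), γ.dpow_one (hI x hx s), hR x s]
      exact (Ideal.Quotient.eq.mpr (hcau x s (s + t) (by omega))).symm
    dpow_mem := fun {n x} hn hx => hdK n x hn hx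
    dpow_add := fun {n x y} hx hy => hext _ _ fun s => by
      rw [hd n s (x + y) (add_mem hx hy) (R x (s + t) + R y (s + t)) (by rw [map_add, map_add, hR, hR]),
        γ.dpow_add (hI x hx s) (hI y hy s), map_sum, map_sum]
      exact Finset.sum_congr rfl fun k _ => by rw [map_mul, map_mul, hd k.1 s x hx _ (hR x _), hd k.2 s y hy _ (hR y _)]
    dpow_mul := fun {n c x} hx => hext _ _ fun s => by
      rw [hd n s (c * x) (K.mul_mem_left c hx) (R c (s + t) * R x (s + t)) (by rw [map_mul, map_mul, hR, hR]),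
        γ.dpow_mul (hI x hx s), map_mul, map_pow, map_mul, map_pow, hd n s x hx _ (hR x _), hR c s]
      congr 2
      exact (Ideal.Quotient.eq.mpr (hcau c s (s + t) (by omega))).symm
    mul_dpow := fun {m n x} hx => hext _ _ fun s => by
      rw [map_mul, hd m s x hx _ (hR x _), hd n s x hx _ (hR x _), ← map_mul, γ.mul_dpow (hI x hx s), map_mul,
        map_mul, map_natCast, map_natCast, hd (m + n) s x hx _ (hR x _)]
    dpow_comp := fun {m n x} hn hx => hext _ _ fun s => by
      rw [hd m s (d n x) (hdK n x hn hx) (γ.dpow n (R x (s + t + t))) (hd n (s + t) x hx _ (hR x _)),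
        γ.dpow_comp hn (hI x hx (s + t)), map_mul, map_mul, map_natCast, map_natCast, hd (m * n) s x hx _ (hR x _)]
      refine congrArg _ (Ideal.Quotient.eq.mpr (hcongr _ s _ _ (hI x hx (s + t)) (hI x hx s) ?_))
      rw [← Submodule.neg_mem_iff, neg_sub]
      exact hcau x _ _ (by omega) }, ?_⟩
  have hmap : ∀ a ∈ I, algebraMap A (AdicCompletion q A) a ∈ K := fun a ha => by
    rw [hK, RingHom.mem_ker]
    change Ideal.Quotient.factor ht (e t (algebraMap A _ a)) = 0
    rw [hcoe, Ideal.Quotient.factor_mk, Ideal.Quotient.eq_zero_iff_mem]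
    exact ha
  exact ⟨Ideal.map_le_iff_le_comap.mpr hmap, fun {n} a ha => hext _ _ fun s => by
    rw [hcoe]; exact hd n s _ (hmap a ha) a (hcoe a _)⟩


end Groth.Agent.S6530
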