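import Groth.Statements.S6532
import Mathlib
import Groth.Agent.TorLift.Basic
import Groth.Agent.TorCI.TDBaseChange
-- import your own Groth.Agent.* helpers here

set_option autoImplicit false
universe u
open LCI
open Groth.Agent

namespace Groth.Agent.S6532

/-- Let R' → R be a surjection of Noetherian rings whose kernel is generated by a single element f and
has square zero; let I ⊆ R be the image of the annihilator of f. Let S = R[x_1, …, x_n]/(f_1, …,
f_m) and let ∑ r_j f_j = 0 be a relation in R[x_1, …, x_n] such that (1) every coefficient of every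
r_j lies in I, and (2) there are lifts r'_j, f'_j in R'[x_1, …, x_n] and an element g with ∑ r'_j
f'_j = f g, where g maps to a non-nilpotent element of S/IS. Under these hypotheses, the
Tor-dimension of S over R is infinite (so S fails to be a perfect R-algebra). -/
theorem result {R' R : Type u} [CommRing R'] [CommRing R]
    [IsNoetherianRing R'] [IsNoetherianRing R] (π : R' →+* R) (hπ : Function.Surjective π)
    (f : R') (hker : RingHom.ker π = Ideal.span {f}) (hf : f * f = 0)
    {n m : ℕ} (fs r : Fin m → MvPolynomial (Fin n) R) (hrel : ∑ j, r j * fs j = 0)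
    (h1 : ∀ (j : Fin m) (d : Fin n →₀ ℕ),
      MvPolynomial.coeff d (r j) ∈ ((Ideal.span {f}).annihilator).map π)
    (r' f' : Fin m → MvPolynomial (Fin n) R') (g : MvPolynomial (Fin n) R')
    (hr' : ∀ j, MvPolynomial.map π (r' j) = r j) (hf' : ∀ j, MvPolynomial.map π (f' j) = fs j)
    (hsum : ∑ j, r' j * f' j = MvPolynomial.C f * g)
    (hg : ¬ IsNilpotent (Ideal.Quotient.mk
      (Ideal.span (Set.range fs) ⊔ (((Ideal.span {f}).annihilator).map π).map MvPolynomial.C)
      (MvPolynomial.map π g))) :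
    ¬ DRing.HasFiniteTorDim R (MvPolynomial (Fin n) R ⧸ Ideal.span (Set.range fs)) := by
  classical
  intro hfin
  obtain ⟨d, hd⟩ := hfin
  let A := MvPolynomial (Fin n) R'
  let P := MvPolynomial (Fin n) R
  let μ : A →+* P := MvPolynomial.map π
  have hμ : Function.Surjective μ := MvPolynomial.map_surjective π hπ
  let x : A := MvPolynomial.C f
  let I : Ideal R := (Ideal.span {f}).annihilator.map π
  let mA : Ideal A := (Ideal.span {f}).annihilator.map MvPolynomial.C
  have hI : mA.map μ = I.map (algebraMap R P) := by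
    rw [Ideal.map_map, MvPolynomial.algebraMap_eq, Ideal.map_map]
    congr 1
    exact RingHom.ext fun c => MvPolynomial.map_C π c
  have hkerμ : RingHom.ker μ = Ideal.span {x} := by
    rw [MvPolynomial.ker_map, hker, Ideal.map_span, Set.image_singleton]
  have hx : μ x = 0 := RingHom.mem_ker.mp (hkerμ.ge (Ideal.mem_span_singleton_self x))
  have hxm : x ∈ mA := Ideal.mem_map_of_mem _ (Submodule.mem_annihilator.mpr fun y hy => by
    obtain ⟨c, rfl⟩ := Ideal.mem_span_singleton'.mp hy
    rw [smul_eq_mul, mul_comm c f, ← mul_assoc, hf, zero_mul])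
  have hann : ∀ c : A, x * c = 0 → c ∈ mA := fun c hc => by
    rw [MvPolynomial.mem_map_C_iff]
    intro k
    refine Submodule.mem_annihilator.mpr fun y hy => ?_
    obtain ⟨e, rfl⟩ := Ideal.mem_span_singleton'.mp hy
    have hk := congrArg (MvPolynomial.coeff k) hc
    rw [MvPolynomial.coeff_C_mul, MvPolynomial.coeff_zero] at hk
    rw [smul_eq_mul, mul_comm e f, ← mul_assoc, mul_comm _ f, hk, zero_mul]
  have hb : ∀ j, r' j ∈ mA := fun j => by
    rw [MvPolynomial.mem_map_C_iff]
    intro k
    obtain ⟨c, hc, he⟩ := (Ideal.mem_map_iff_of_surjective π hπ).mp (h1 j k)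
    have hd' : MvPolynomial.coeff k (r' j) - c ∈ Ideal.span {f} := by
      rw [← hker, RingHom.mem_ker, map_sub, he, ← MvPolynomial.coeff_map, hr', sub_self]
    have hfa : Ideal.span {f} ≤ (Ideal.span {f}).annihilator := by
      rw [Ideal.span_singleton_le_iff_mem]
      refine Submodule.mem_annihilator.mpr fun y hy => ?_
      obtain ⟨e, rfl⟩ := Ideal.mem_span_singleton'.mp hy
      rw [smul_eq_mul, mul_comm e f, ← mul_assoc, hf, zero_mul]
    simpa using add_mem (hfa hd') hc
  -- a free resolution of `S` over `P`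
  let J : Ideal P := Ideal.span (Set.range fs)
  let p0 : (Fin 1 → P) →ₗ[P] P ⧸ J := J.mkQ ∘ₗ LinearMap.proj 0
  have hp0 : Function.Surjective p0 := fun z => by
    obtain ⟨z, rfl⟩ := Submodule.Quotient.mk_surjective J z
    exact ⟨fun _ => z, rfl⟩
  let st := TorLift.stage P (⟨1, LinearMap.ker p0⟩ : TorLift.Stage P)
  let rk : ℕ → ℕ := fun k => (st k).1
  let K : ∀ k, Submodule P (Fin (rk k) → P) := fun k => (st k).2
  let cov : ∀ k, (Fin (rk (k + 1)) → P) →ₗ[P] K k := fun k => TorLift.cover P (st k)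
  have hcov : ∀ k, Function.Surjective (cov k) := fun k => TorLift.cover_surjective P (st k)
  have hex0 : ∀ k, Function.Exact (K (k + 1)).subtype (cov k) := fun k => LinearMap.exact_subtype_ker_map (cov k)
  -- flat syzygies
  have hTD : ∀ k e, DRing.HasTorDimLE R (e + 1) (P ⧸ J) → k ≤ e → DRing.HasTorDimLE R (e - k) (K k) := by
    intro k
    induction k with
    | zero =>
      intro e he _
      exact (TorCI.torDimLE_succ_iff (R := R) ((K 0).subtype.restrictScalars R) (p0.restrictScalars R)
        (K 0).injective_subtype (LinearMap.exact_subtype_ker_map p0) hp0 e).mp he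
    | succ k ih =>
      intro e he hke
      have h := ih e he (by omega)
      rw [show e - k = (e - (k + 1)) + 1 by omega] at h
      exact (TorCI.torDimLE_succ_iff (R := R) ((K (k + 1)).subtype.restrictScalars R) ((cov k).restrictScalars R)
        (K (k + 1)).injective_subtype (hex0 k) (hcov k) _).mp h
  have hflat : ∀ k, d ≤ k → Module.Flat R (K k) := fun k hk => by
    refine (TorCI.torDimLE_zero_iff (R := R) (K k)).mp ?_
    have h := hTD k k (fun N _ _ p hp => hd N p (by omega)) le_rfl
    rwa [Nat.sub_self] at h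
  -- the lifted resolution
  let dP : ∀ k, (Fin (rk (k + 1)) → P) →ₗ[P] (Fin (rk k) → P) := fun k => (K k).subtype ∘ₗ cov k
  have hdd : ∀ k v, dP k (dP (k + 1) v) = 0 := fun k v => by
    change ((cov k) ((cov (k + 1) v).1) : Fin (rk k) → P) = 0
    rw [show cov k (cov (k + 1) v).1 = 0 from (cov (k + 1) v).2]
    rfl
  have hdex : ∀ k v, dP k v = 0 → ∃ w, dP (k + 1) w = v := fun k v hv => by
    obtain ⟨w, hw⟩ := hcov (k + 1) ⟨v, Subtype.ext hv⟩
    exact ⟨w, congrArg Subtype.val hw⟩
  let ρ : ∀ k, (Fin (rk k) → A) → (Fin (rk k) → P) := fun k v i => μ (v i)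
  have hρsurj : ∀ k, Function.Surjective (ρ k) := fun k v => by
    choose w hw using fun i => hμ (v i)
    exact ⟨w, funext hw⟩
  have hρker : ∀ k v, ρ k v = 0 → ∃ t, v = x • t := fun k v hv => by
    have h := fun i => Ideal.mem_span_singleton'.mp (hkerμ.le (RingHom.mem_ker.mpr (congrFun hv i)))
    choose t ht using h
    exact ⟨t, funext fun i => by rw [Pi.smul_apply, smul_eq_mul, mul_comm, ht]⟩
  have hρx : ∀ k (t : Fin (rk k) → A), ρ k (x • t) = 0 := fun k t => funext fun i => by
    change μ (x * t i) = 0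
    rw [map_mul, hx, zero_mul]
  have hρadd : ∀ k v w, ρ k (v + w) = ρ k v + ρ k w := fun k v w => funext fun i => map_add μ _ _
  choose c hc using fun k (i : Fin (rk (k + 1))) => hρsurj k (dP k (Pi.single i 1))
  let D : ∀ k, (Fin (rk (k + 1)) → A) →ₗ[A] (Fin (rk k) → A) := fun k => Fintype.linearCombination A (c k)
  have hρD : ∀ k v, ρ k (D k v) = dP k (ρ (k + 1) v) := fun k v => by
    have h2 : dP k (ρ (k + 1) v) = ∑ i, μ (v i) • dP k (Pi.single i 1) := by
      conv_lhs => rw [pi_eq_sum_univ' (ρ (k + 1) v)]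
      rw [map_sum]
      exact Finset.sum_congr rfl fun i _ => map_smul _ _ _
    rw [h2]
    funext l
    change μ (D k v l) = _
    rw [Fintype.linearCombination_apply, Finset.sum_apply, map_sum, Finset.sum_apply]
    refine Finset.sum_congr rfl fun i _ => ?_
    rw [Pi.smul_apply, Pi.smul_apply, smul_eq_mul, smul_eq_mul, map_mul, ← hc k i]
  -- reduction modulo the annihilator
  have hred : ∀ k (v : Fin (rk k) → A), v ∈ mA • (⊤ : Submodule A (Fin (rk k) → A)) →
      ρ k v ∈ I • (⊤ : Submodule R (Fin (rk k) → P)) := by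
    intro k v hv
    rw [← Submodule.restrictScalars_top R P, ← Ideal.smul_restrictScalars, ← hI, Submodule.restrictScalars_mem]
    refine Submodule.smul_induction_on hv (fun a ha w _ => ?_) fun a b ha hb => by rw [hρadd]; exact add_mem ha hb
    rw [show ρ k (a • w) = μ a • ρ k w from funext fun i => map_mul μ _ _]
    exact Submodule.smul_mem_smul (Ideal.mem_map_of_mem _ ha) Submodule.mem_top
  have hlift : ∀ k (z : Fin (rk k) → P), z ∈ I • (⊤ : Submodule R (Fin (rk k) → P)) →
      ∃ v ∈ mA • (⊤ : Submodule A (Fin (rk k) → A)), ρ k v = z := by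
    intro k z hz
    rw [← Submodule.restrictScalars_top R P, ← Ideal.smul_restrictScalars, ← hI, Submodule.restrictScalars_mem] at hz
    refine Submodule.smul_induction_on hz (fun a ha w _ => ?_) ?_
    · obtain ⟨a, ha', rfl⟩ := (Ideal.mem_map_iff_of_surjective μ hμ).mp ha
      obtain ⟨w, rfl⟩ := hρsurj k w
      exact ⟨a • w, Submodule.smul_mem_smul ha' Submodule.mem_top, funext fun i => map_mul μ _ _⟩
    · rintro _ _ ⟨v, hv, rfl⟩ ⟨w, hw, rfl⟩
      exact ⟨v + w, add_mem hv hw, hρadd k v w⟩
  have hTor : ∀ k, d + 1 ≤ k → ∀ v, D k v ∈ mA • (⊤ : Submodule A (Fin (rk k) → A)) →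
      v ∈ LinearMap.range (D (k + 1)) ⊔ mA • ⊤ := by
    intro k hk v hv
    obtain ⟨k, rfl⟩ : ∃ l, k = l + 1 := ⟨k - 1, by omega⟩
    haveI := hflat k (by omega)
    have h1 := hred (k + 1) _ hv
    rw [hρD] at h1
    have h2 : cov (k + 1) (ρ (k + 2) v) ∈ I • (⊤ : Submodule R (K (k + 1))) :=
      TorLift.mem_map_smul_of_flat (R := R) (f := (K (k + 1)).subtype.restrictScalars R)
        (g := (cov k).restrictScalars R) (K (k + 1)).injective_subtype (hex0 k) (hcov k) I _ h1
    have h3 : (⊤ : Submodule R (K (k + 1))) = (⊤ : Submodule R (Fin (rk (k + 2)) → P)).map ((cov (k + 1)).restrictScalars R) := by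
      rw [Submodule.map_top, eq_comm, LinearMap.range_eq_top]
      exact hcov (k + 1)
    rw [h3, ← Submodule.map_smul''] at h2
    obtain ⟨z, hz, hz'⟩ := h2
    obtain ⟨w, hw⟩ := hdex (k + 1) (ρ (k + 2) v - z) (by
      rw [map_sub, sub_eq_zero]
      exact congrArg Subtype.val hz'.symm)
    obtain ⟨v', hv', rfl⟩ := hlift (k + 2) z hz
    obtain ⟨w, rfl⟩ := hρsurj (k + 3) w
    obtain ⟨t, ht⟩ := hρker (k + 2) (v - D (k + 2) w - v') (by
      funext i
      have := congrFun hw i
      rw [← hρD] at this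
      simp only [ρ, Pi.sub_apply, map_sub, Pi.zero_apply] at this ⊢
      rw [this]
      abel)
    rw [show v = D (k + 2) w + (v' + x • t) by rw [← ht]; abel]
    exact Submodule.add_mem_sup ⟨w, rfl⟩ (add_mem hv' (Submodule.smul_mem_smul hxm Submodule.mem_top))
  obtain ⟨k, hk⟩ := TorLift.exists_pow_mem (fun k => Fin (rk k) → A) D mA f' r' hb (x := x) (g := g) hsum hxm hann
    (fun k v => hρker k _ (by rw [hρD, hρD, hdd]))
    (fun k v ⟨t, ht⟩ => by
      obtain ⟨w, hw⟩ := hdex k (ρ (k + 1) v) (by rw [← hρD, ht, hρx])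
      obtain ⟨w, rfl⟩ := hρsurj (k + 2) w
      obtain ⟨t, ht⟩ := hρker (k + 1) (v - D (k + 1) w) (by
        funext i
        have := congrFun hw i
        rw [← hρD] at this
        simp only [ρ, Pi.sub_apply, map_sub, Pi.zero_apply] at this ⊢
        rw [this, sub_self])
      exact ⟨w, t, by rw [← ht, add_sub_cancel]⟩)
    (fun _ => 1) (fun j => by
      have h0 : (fun _ => fs j : Fin (rk 0) → P) ∈ K 0 := by
        change p0 _ = 0
        exact (Submodule.Quotient.mk_eq_zero J).mpr (Ideal.subset_span ⟨j, rfl⟩)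
      obtain ⟨w, hw⟩ := hcov 0 ⟨_, h0⟩
      obtain ⟨w, rfl⟩ := hρsurj 1 w
      obtain ⟨t, ht⟩ := hρker 0 (f' j • (fun _ => (1 : A)) - D 0 w) (by
        funext i
        have h := congrFun (hρD 0 w) i
        rw [show dP 0 (ρ 1 w) = fun _ => fs j from congrArg Subtype.val hw] at h
        simp only [ρ, Pi.sub_apply, map_sub, Pi.smul_apply, smul_eq_mul, mul_one, Pi.zero_apply] at h ⊢
        rw [h]
        exact sub_eq_zero.mpr (hf' j))
      exact ⟨w, t, by rw [← ht, add_sub_cancel]⟩)
    (d + 1) hTor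
  refine hg ⟨k, ?_⟩
  rw [← map_pow, Ideal.Quotient.eq_zero_iff_mem]
  obtain ⟨_, ⟨w, rfl⟩, u, hu, huw⟩ := Submodule.mem_sup.mp hk
  let i0 : Fin (rk 0) := ⟨0, Nat.one_pos⟩
  have h0 : μ (g ^ k) = dP 0 (ρ 1 w) i0 + μ (u i0) := by
    have h := congrArg μ (congrFun huw i0)
    rw [Pi.add_apply, map_add, Pi.smul_apply, smul_eq_mul, mul_one] at h
    rw [← h, ← hρD]
  rw [← map_pow, h0]
  refine add_mem (Submodule.mem_sup_left ?_) (Submodule.mem_sup_right ?_)
  · have h : p0 (dP 0 (ρ 1 w)) = 0 := (cov 0 (ρ 1 w)).2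
    exact (Submodule.Quotient.mk_eq_zero J).mp h
  · rw [← MvPolynomial.algebraMap_eq, ← hI]
    refine Ideal.mem_map_of_mem _ ?_
    refine Submodule.smul_induction_on hu (fun a ha z _ => ?_) fun a b ha hb => add_mem ha hb
    exact mA.mul_mem_right _ ha

end Groth.Agent.S6532
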