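import Groth.Statements.S6536
import Groth.Agent.NormGen.RegSection
import Groth.Agent.CurveRR.GlobGen

set_option autoImplicit false
universe u
open CategoryTheory CategoryTheory.Limits AlgebraicGeometry
open Curves

namespace Groth.Agent.S6536

/-- Let X be proper over the field k, of dimension one, with H^0(X, O_X) = k, and let L be an invertible
O_X-module which has a regular global section (a monomorphism O_X → L), satisfies H^1(X, L) = 0 and
is ample. Then L^{⊗6} is very ample on X over k: there is a closed immersion i : X → P^n_k over k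
with i^* O(1) ≅ L^{⊗6}. -/
theorem result (k : Type u) [Field k] (X : Scheme.{u}) [X.Over (Spec (CommRingCat.of k))]
    [IsProper (X ↘ (Spec (CommRingCat.of k)))] (hdim : topologicalKrullDim X = 1)
    (h0 : Module.finrank k (Coh.HH X (Coh.structureModule X) 0) = 1) (L : X.Modules) (hL : PicF.IsInvertible L)
    (hs : ∃ s : Coh.structureModule X ⟶ L, Mono s) (h1 : Subsingleton (Coh.HH X L 1)) (hample : CohB1.IsAmple L) :
    ∃ (n : ℕ) (i : X ⟶ CohB1.ProjSpace n k), IsClosedImmersion i ∧ i ≫ CohB1.ProjSpace.toSpec n k = X ↘ (Spec (CommRingCat.of k)) ∧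
      Nonempty ((Scheme.Modules.pullback i).obj (Twist.twistProjSpace n k 1) ≅ CohB1.tensorPow L 6) := by
  obtain ⟨σ, hσ⟩ := hs
  haveI := hσ
  haveI := Groth.Agent.CurveRR.isNoetherian_of_proper k X
  have hv : ∀ M : X.Modules, Coh.IsCoh M → Subsingleton (Coh.HH X M 2) := fun M _ =>
    Groth.Agent.CurveRR.subsingleton_of_two_le (k := k) hdim.le M 2 le_rfl
  have hP : ∀ n, PicF.IsInvertible (CohB1.tensorPow L n) := TMul.isInvertible_tensorPow hL
  have hL1 : Subsingleton (Coh.HH X (CohB1.tensorPow L 1) 1) :=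
    Groth.Agent.CohQC.hh_subsingleton_of_iso (TMul.leftUnitIso L).symm 1 h1
  have hgg : ∀ n : ℕ, Subsingleton (Coh.HH X (CohB1.tensorPow L n) 1) →
      Curv2.IsGloballyGenerated (CohB1.tensorPow L (n + 1)) := fun n hn => by
    refine Groth.Agent.CurveRR.isGloballyGenerated_of_closed (hP (n + 1)) fun x _ => ?_
    by_cases hx : x ∈ CohB1.genLocus L σ
    · refine ⟨SecTwist.pow σ (n + 1) ⊤, ?_⟩
      have he := TMul.isGen_genLocus σ
      refine (TMul.mem_genLocus_iff_isUnit _ (Groth.Agent.NormGen.isGen_pg he (n + 1)) (c := 1) ?_ hx).2 (by simp)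
      rw [one_smul, Groth.Agent.NormGen.pg_val, TMul.val_homOf, ← SecTwist.val_powHom σ (n + 1) ⊤, ← SecTwist.val_powHom σ (n + 1) (CohB1.genLocus L σ)]
      exact TMul.res_val _ _
    · exact ⟨_, (Groth.Agent.NormGen.exists_section_gen σ k hdim.le hL (hP n) hn hx).choose_spec⟩
  have hgg2 := hgg 1 hL1
  have hh2 : Subsingleton (Coh.HH X (CohB1.tensorPow L 2) 1) :=
    Groth.Agent.NormGen.subsingleton_h1_mul σ k hdim.le hL (hP 1) hL1
  have hh3 : Subsingleton (Coh.HH X (CohB1.tensorPow L 3) 1) :=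
    Groth.Agent.NormGen.subsingleton_h1_mul σ k hdim.le hL (hP 2) hh2
  obtain ⟨n, i, hi, hif, ⟨φ⟩⟩ := Groth.Agent.NormGen.exists_closedImmersion_of_pn k
    (Groth.Agent.NormGen.isRelVeryAmplePn_sq k hdim.le (hP 3) (hgg 2 hh2) hh3 (TMul.isAmple_tensorPow hample (by omega)))
  obtain ⟨ψ⟩ := TMul.nonempty_powMulIso L 3 2
  exact ⟨n, i, hi, hif, ⟨φ ≪≫ ψ⟩⟩

end Groth.Agent.S6536
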