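import Groth.Statements.S6543
import Groth.Agent.DualGeneric.GenusZero
-- import your own Groth.Agent.* helpers here

set_option autoImplicit false
set_option backward.isDefEq.respectTransparency false
set_option backward.isDefEq.respectTransparency.types false
set_option maxHeartbeats 1000000
universe u
open CategoryTheory CategoryTheory.Limits AlgebraicGeometry
open Curves

namespace Groth.Agent.S6543

/-- Let X be a proper curve over the field k (proper, integral, of dimension one) with H^0(X, O_X) = k,
genus 0 and Gorenstein local rings. If X has an invertible O_X-module of odd degree, then X is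
isomorphic to P^1_k over k. -/
theorem result (k : Type u) [Field k] (X : Scheme.{u}) [X.Over (Spec (CommRingCat.of k))]
    [IsIntegral X] [IsProper (X ↘ (Spec (CommRingCat.of k)))] (hdim : topologicalKrullDim X = 1)
    (h0 : Module.finrank k (Coh.HH X (Coh.structureModule X) 0) = 1) (hg : Curv2.genus k X = 0) (hgor : ∀ x : X, LocCoh.IsGorensteinLocalRing (X.presheaf.stalk x))
    (L : X.Modules) (hL : PicF.IsInvertible L) (hodd : Odd (Curv2.deg k X L 1)) :
    ∃ e : X ≅ CohB1.ProjSpace 1 k, e.hom ≫ CohB1.ProjSpace.toSpec 1 k = X ↘ (Spec (CommRingCat.of k)) := by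
  obtain ⟨ω, hω, he⟩ := DualGeneric.exists_omega_gorenstein k hdim hgor
  have hO : Curv2.euler k X (Coh.structureModule X) = 1 := by
    rw [CurveRR.euler_eq hdim.le, show CurveRR.h k (Coh.structureModule X) 0 = 1 from h0,
      show CurveRR.h k (Coh.structureModule X) 1 = 0 from hg]; norm_num
  have hωd : Curv2.deg k X ω 1 = -2 := by rw [Curv2.deg, he, hO]; norm_num
  obtain ⟨j, hj⟩ := hodd
  obtain ⟨M, hM, hMd⟩ := DualGeneric.exists_deg_zsmul k hdim.le hω j
  refine DualGeneric.exists_iso_of_deg_one k hdim hg (TMul.isInvertible_tensorMod hL hM) ?_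
  rw [CurveRR.deg_tensor_inv hdim.le hL hM, hMd, hωd, hj]
  ring

end Groth.Agent.S6543
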