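import Groth.Statements.S6552
import Groth.Agent.NodeChar.Geom
-- import your own Groth.Agent.* helpers here

set_option autoImplicit false
set_option backward.isDefEq.respectTransparency false
set_option backward.isDefEq.respectTransparency.types false
set_option maxHeartbeats 1000000
universe u
open CategoryTheory CategoryTheory.Limits AlgebraicGeometry
open Curves

namespace Groth.Agent.S6552

/-- Let k be a field, X a scheme locally of finite type over k of dimension 1, π : Y → X an étale
morphism, and y ∈ Y a point with image x. Then x is a closed point of X which is a node if and only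
if y is a closed point of Y which is a node (Y being a k-scheme through π). -/
theorem result (k : Type u) [Field k] (X : Scheme.{u}) [X.Over (Spec (CommRingCat.of k))] [LocallyOfFiniteType (X ↘ (Spec (CommRingCat.of k)))] (hdim : topologicalKrullDim X = 1)
    {Y : Scheme.{u}} (π : Y ⟶ X) [Etale π] (y : Y) :
    Curv2.IsNode k X (π y) ↔ @Curv2.IsNode k _ Y ⟨π ≫ (X ↘ (Spec (CommRingCat.of k)))⟩ y := by
  let p := X ↘ Spec (CommRingCat.of k)
  letI : Y.Over (Spec (CommRingCat.of k)) := ⟨π ≫ p⟩
  haveI : LocallyOfFiniteType (Y ↘ Spec (CommRingCat.of k)) := inferInstanceAs (LocallyOfFiniteType (π ≫ p))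
  rw [NodeChar.isNode_iff k X (π y), NodeChar.isNode_iff k Y y]
  let A := X.presheaf.stalk (π y)
  let B := Y.presheaf.stalk y
  letI := Curv2.stalkAlgebra k X (π y)
  letI := Curv2.stalkAlgebra k Y y
  haveI := NodeChar.isNoetherianRing_stalk k X (π y)
  letI : Algebra A B := (π.stalkMap y).hom.toAlgebra
  haveI : IsLocalHom (algebraMap A B) := inferInstanceAs (IsLocalHom (π.stalkMap y).hom)
  haveI : Module.Flat A B := Flat.stalkMap π y
  haveI : Algebra.EssFiniteType A B := LocallyOfFiniteType.stalkMap π y
  haveI : Algebra.FormallyUnramified A B := RingHom.formallyUnramified_algebraMap.1 (by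
    rw [RingHom.algebraMap_toAlgebra]; exact FormallyUnramified.stalkMap π y)
  haveI : IsScalarTower k A B := IsScalarTower.of_algebraMap_eq fun t => by
    show Y.presheaf.germ ⊤ y trivial ((π ≫ p).appTop ((Scheme.ΓSpecIso (CommRingCat.of k)).inv t)) =
      π.stalkMap y (X.presheaf.germ ⊤ (π y) trivial (p.appTop ((Scheme.ΓSpecIso (CommRingCat.of k)).inv t)))
    rw [Scheme.Hom.germ_stalkMap_apply π ⊤ y trivial, Scheme.Hom.comp_appTop]
    rfl
  have hm := Algebra.FormallyUnramified.map_maximalIdeal (R := A) (S := B)
  haveI : IsScalarTower k (IsLocalRing.ResidueField A) (IsLocalRing.ResidueField B) :=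
    IsScalarTower.of_algebraMap_eq fun t => congrArg (IsLocalRing.residue _) (IsScalarTower.algebraMap_apply k A B t)
  refine and_congr ⟨fun h => Algebra.IsSeparable.trans k (IsLocalRing.ResidueField A) (IsLocalRing.ResidueField B),
    fun h => Algebra.isSeparable_tower_bot_of_isSeparable k (IsLocalRing.ResidueField A)
      (IsLocalRing.ResidueField B)⟩ ⟨fun h => h.map hm, fun h => h.descend hm⟩

end Groth.Agent.S6552
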