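import Groth.Statements.S6553
import Groth.Agent.NodeChar.Geom
-- import your own Groth.Agent.* helpers here

set_option autoImplicit false
set_option backward.isDefEq.respectTransparency false
set_option backward.isDefEq.respectTransparency.types false
set_option maxHeartbeats 1000000
universe u
open CategoryTheory CategoryTheory.Limits AlgebraicGeometry
open Curves

namespace Groth.Agent.S6553

/-- Let k'/k be a finite separable extension of fields, X a scheme locally of finite type over k' of
dimension 1, and x ∈ X a closed point. Then x is a node of the k'-scheme X if and only if x is a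
node of X viewed as a k-scheme via Spec k' → Spec k. -/
theorem result (k : Type u) [Field k] (k' : Type u) [Field k'] [Algebra k k']
    [FiniteDimensional k k'] [Algebra.IsSeparable k k']
    (X : Scheme.{u}) [X.Over (Spec (CommRingCat.of k'))] [LocallyOfFiniteType (X ↘ (Spec (CommRingCat.of k')))] (hdim : topologicalKrullDim X = 1)
    (x : X) (hx : IsClosed ({x} : Set X)) :
    Curv2.IsNode k' X x ↔
      @Curv2.IsNode k _ X ⟨(X ↘ (Spec (CommRingCat.of k'))) ≫ Spec.map (CommRingCat.ofHom (algebraMap k k'))⟩ x := by
  let g : Spec (CommRingCat.of k') ⟶ Spec (CommRingCat.of k) := Spec.map (CommRingCat.ofHom (algebraMap k k'))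
  let p := X ↘ Spec (CommRingCat.of k')
  letI : X.Over (Spec (CommRingCat.of k)) := ⟨p ≫ g⟩
  haveI : LocallyOfFiniteType g :=
    (HasRingHomProperty.Spec_iff (P := @LocallyOfFiniteType)).2 (RingHom.finiteType_algebraMap.2 inferInstance)
  haveI : LocallyOfFiniteType (X ↘ Spec (CommRingCat.of k)) := inferInstanceAs (LocallyOfFiniteType (p ≫ g))
  rw [NodeChar.isNode_iff k' X x, NodeChar.isNode_iff k X x]
  refine and_congr_left' ?_
  letI := Curv2.stalkAlgebra k' X x
  letI := Curv2.stalkAlgebra k X x
  haveI : IsScalarTower k k' (X.presheaf.stalk x) := IsScalarTower.of_algebraMap_eq fun t => by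
    have hn : (Scheme.ΓSpecIso (CommRingCat.of k)).inv ≫ g.appTop =
        CommRingCat.ofHom (algebraMap k k') ≫ (Scheme.ΓSpecIso (CommRingCat.of k')).inv :=
      (Scheme.ΓSpecIso_inv_naturality (CommRingCat.ofHom (algebraMap k k'))).symm
    show X.presheaf.germ ⊤ x trivial ((p ≫ g).appTop ((Scheme.ΓSpecIso (CommRingCat.of k)).inv t)) =
      X.presheaf.germ ⊤ x trivial (p.appTop ((Scheme.ΓSpecIso (CommRingCat.of k')).inv (algebraMap k k' t)))
    rw [Scheme.Hom.comp_appTop]
    exact congrArg (fun f => X.presheaf.germ ⊤ x trivial (p.appTop f)) (congrArg (fun h => h t) hn)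
  haveI : IsScalarTower k k' (IsLocalRing.ResidueField (X.presheaf.stalk x)) :=
    IsScalarTower.of_algebraMap_eq fun t => congrArg (IsLocalRing.residue _) (IsScalarTower.algebraMap_apply k k' _ t)
  exact ⟨fun h => Algebra.IsSeparable.trans k k' _, fun h => Algebra.isSeparable_tower_top_of_isSeparable k k' _⟩

end Groth.Agent.S6553
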