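import Groth.Statements.S6556
import Groth.Agent.CycPerf.Basic
import Groth.Agent.CMFlat.Scheme
import Groth.Agent.InsepLen.Basic
import Groth.Agent.WeilLib.Trdeg

set_option autoImplicit false
universe u
open CategoryTheory CategoryTheory.Limits AlgebraicGeometry
attribute [local instance] Curv2.resAlgebra
open Curves
open scoped TensorProduct

set_option backward.isDefEq.respectTransparency false
set_option backward.isDefEq.respectTransparency.types false

namespace Groth.Agent.S6556

/-- Let X be a smooth curve over the field k (integral, separated, of finite type and smooth over k, of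
dimension one), k̄ an algebraic closure of k, x̄ ∈ X_{k̄} a closed point and x ∈ X its image. Then
the ramification index of the extension of discrete valuation rings O_{X,x} → O_{X_{k̄}, x̄} (the
length of O_{X_{k̄},x̄} modulo the ideal generated by the maximal ideal of O_{X,x}) equals the
inseparable degree [κ(x) : k]_i. -/
theorem result (k : Type u) [Field k] (X : Scheme.{u}) [X.Over (Spec (CommRingCat.of k))]
    [IsIntegral X] [IsSeparated (X ↘ (Spec (CommRingCat.of k)))] [LocallyOfFiniteType (X ↘ (Spec (CommRingCat.of k)))] [QuasiCompact (X ↘ (Spec (CommRingCat.of k)))] (hdX : topologicalKrullDim X = 1) [Smooth (X ↘ (Spec (CommRingCat.of k)))]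
    (xb : Curv2.bc k X (AlgebraicClosure k)) (hxb : IsClosed ({xb} : Set (Curv2.bc k X (AlgebraicClosure k)))) :
    letI := ((Curv2.bcFst k X (AlgebraicClosure k)).stalkMap xb).hom.toAlgebra
    Ideal.ramificationIdx (IsLocalRing.maximalIdeal ((Curv2.bc k X (AlgebraicClosure k)).presheaf.stalk xb))
        (X.presheaf.stalk (Curv2.bcFst k X (AlgebraicClosure k) xb)) =
      Field.finInsepDegree k (X.residueField (Curv2.bcFst k X (AlgebraicClosure k) xb)) := by
  let f := X ↘ Spec (CommRingCat.of k)
  let g := Spec.map (CommRingCat.ofHom (algebraMap k (AlgebraicClosure k)))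
  change ↥(pullback f g) at xb
  let pr := pullback.fst f g
  haveI : IsIntegralHom g := IsIntegralHom.SpecMap_iff.mpr (algebraMap_isIntegral_iff.mpr inferInstance)
  haveI : IsIntegralHom pr := MorphismProperty.pullback_fst _ _ inferInstance
  let x := pr xb
  have hx : IsClosed ({x} : Set X) := by
    have h := pr.isClosedMap _ hxb
    rwa [Set.image_singleton] at h
  -- the fibre
  let κ := X.residueField x
  have hres : (Spec.preimage (X.fromSpecResidueField x ≫ f)).hom = Curv2.resMap k X x := by
    have h1 : (Spec.preimage (X.fromSpecResidueField x ≫ f)).hom = Groth.Agent.WeilLib.kStr f x := by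
      rw [Groth.Agent.WeilLib.fromSpecResidueField_comp, Spec.preimage_map]; rfl
    rw [h1]
    refine RingHom.ext fun c => ?_
    simp only [Groth.Agent.WeilLib.kStr, Groth.Agent.WeilLib.secStr, Scheme.Hom.appLE, f]
    simp [Curv2.resMap, Curv2.stalkMap, Coh.toGlobal, Scheme.evaluation]
  obtain ⟨e⟩ := Groth.Agent.CycPerf.exists_fibre_iso (K := AlgebraicClosure k) f x
  rw [hres] at e
  haveI : FiniteDimensional k κ := by
    have hk : Groth.Agent.WeilLib.kStr f x = Curv2.resMap k X x := by
      rw [← hres, Groth.Agent.WeilLib.fromSpecResidueField_comp, Spec.preimage_map]; rfl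
    have halg : Algebra.IsAlgebraic k κ := by
      have h := (Groth.Agent.WeilLib.exists_pdim_eq_trd f x).1
      rw [(Groth.Agent.WeilLib.pdim_eq_zero_iff f x).mpr hx, Nat.cast_zero] at h
      unfold Groth.Agent.WeilLib.trd at h
      rw [hk] at h
      exact trdeg_eq_zero_iff.mp h
    obtain ⟨t, ht⟩ : (⊤ : IntermediateField k κ).FG := IntermediateField.fg_top_iff.2
      (show RingHom.EssFiniteType (Curv2.resMap k X x) by
        rw [← hk]; exact Groth.Agent.WeilLib.essFiniteType_residueField f x)
    haveI : FiniteDimensional k (IntermediateField.adjoin k (t : Set κ)) :=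
      IntermediateField.finiteDimensional_adjoin fun y _ => (halg.isAlgebraic y).isIntegral
    rw [ht] at this
    exact Module.Finite.equiv IntermediateField.topEquiv.toLinearEquiv
  let z := e.hom (pr.asFiber xb)
  -- local rings
  letI := ((Curv2.bcFst k X (AlgebraicClosure k)).stalkMap xb).hom.toAlgebra
  let S := (pullback f g).presheaf.stalk xb
  let R := X.presheaf.stalk x
  letI : Algebra R S := (pr.stalkMap xb).hom.toAlgebra
  change Ideal.ramificationIdx (IsLocalRing.maximalIdeal S) R = _
  rw [Ideal.ramificationIdx_def]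
  haveI : IsLocalHom (algebraMap R S) := inferInstanceAs (IsLocalHom (pr.stalkMap xb).hom)
  have hunder : (IsLocalRing.maximalIdeal S).under R = IsLocalRing.maximalIdeal R :=
    IsLocalRing.maximalIdeal_comap (algebraMap R S)
  rw [hunder]
  let I : Ideal S := (IsLocalRing.maximalIdeal R).map (algebraMap R S)
  let Sq := Localization.AtPrime (IsLocalRing.maximalIdeal S)
  let E : S ≃ₐ[S] Sq := IsLocalization.atUnits S (IsLocalRing.maximalIdeal S).primeCompl
    fun s hs => IsLocalRing.notMem_maximalIdeal.mp hs
  let J : Ideal Sq := (IsLocalRing.maximalIdeal R).map (algebraMap R Sq)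
  have hJ : J = I.map (algebraMap S Sq) := by
    rw [Ideal.map_map, ← IsScalarTower.algebraMap_eq R S Sq]
  have hlen : Module.length Sq (Sq ⧸ J) = Module.length (S ⧸ I) (S ⧸ I) := by
    rw [Module.length_eq_of_surjective (R := Sq ⧸ J) (M := Sq ⧸ J) (S := Sq)
      (Ideal.Quotient.mk_surjective (I := J))]
    refine (CycDim.length_congr (Ideal.quotientEquiv I J E.toRingEquiv ?_)).symm
    rw [hJ]
    congr 1
  obtain ⟨e1⟩ := Groth.Agent.CMFlat.nonempty_fiberStalk_equiv pr xb
  have hk := InsepLen.length_localization z.asIdeal
  change (Module.length Sq (Sq ⧸ J)).toNat = _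
  rw [hlen, show Module.length (S ⧸ I) (S ⧸ I) = _ from CycDim.length_congr
    ((e1.trans (asIso (e.hom.stalkMap (pr.asFiber xb))).commRingCatIsoToRingEquiv.symm).trans
    (StructureSheaf.stalkIso (CommRingCat.of (AlgebraicClosure k ⊗[k] κ)) z).symm.toRingEquiv), hk]
  rfl

end Groth.Agent.S6556
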