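import Groth.Statements.S6557
import Groth.Agent.S0115
import Groth.Agent.SmoothCompl.Basic
import Groth.Agent.W7Cover.Basic

set_option autoImplicit false
universe u
set_option linter.style.haveILetI false
open CategoryTheory CategoryTheory.Limits AlgebraicGeometry
open Curves

namespace Groth.Agent.S6557

/-- Let k be a field and f : X → Y a surjective morphism over k of curves over k (integral, separated,
of finite type over k, of dimension one). If X is smooth over k and every local ring of Y is an
integrally closed domain, then Y is also smooth over k. -/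
theorem result (k : Type u) [Field k]
    (X Y : Scheme.{u}) [X.Over (Spec (CommRingCat.of k))] [Y.Over (Spec (CommRingCat.of k))]
    [IsIntegral X] [IsSeparated (X ↘ (Spec (CommRingCat.of k)))] [LocallyOfFiniteType (X ↘ (Spec (CommRingCat.of k)))] [QuasiCompact (X ↘ (Spec (CommRingCat.of k)))] (hdX : topologicalKrullDim X = 1) [IsIntegral Y] [IsSeparated (Y ↘ (Spec (CommRingCat.of k)))] [LocallyOfFiniteType (Y ↘ (Spec (CommRingCat.of k)))] [QuasiCompact (Y ↘ (Spec (CommRingCat.of k)))] (hdY : topologicalKrullDim Y = 1)
    (f : X ⟶ Y) (hf : f ≫ (Y ↘ (Spec (CommRingCat.of k))) = X ↘ (Spec (CommRingCat.of k))) [Surjective f]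
    [Smooth (X ↘ (Spec (CommRingCat.of k)))] (hY : Pi1.IsNormalScheme Y) :
    Smooth (Y ↘ (Spec (CommRingCat.of k))) := by
  let pX := X ↘ Spec (CommRingCat.of k)
  let pY := Y ↘ Spec (CommRingCat.of k)
  haveI : IsLocallyNoetherian Y := LocallyOfFiniteType.isLocallyNoetherian pY
  haveI : LocallyOfFiniteType (f ≫ pY) := by rw [hf]; infer_instance
  haveI : LocallyOfFiniteType f := locallyOfFiniteType_of_comp f pY
  haveI : QuasiCompact (f ≫ pY) := by rw [hf]; infer_instance
  haveI : QuasiCompact f := QuasiCompact.of_comp f pY
  haveI : LocallyOfFinitePresentation f := inferInstance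
  have hgen : f (genericPoint X) = genericPoint Y := by
    obtain ⟨z, hz⟩ := f.surjective (genericPoint Y)
    have h1 : f (genericPoint X) ⤳ f z := ((genericPoint_spec X).specializes trivial).map f.continuous
    rw [hz] at h1
    exact (h1.antisymm ((genericPoint_spec Y).specializes trivial)).eq
  haveI : Flat f := by
    refine (Flat.iff_flat_stalkMap f).2 fun x => ?_
    haveI := (hY (f x)).1
    haveI := (hY (f x)).2
    have hinj := Groth.Agent.W7Cover.stalkMap_injective f hgen x
    letI := (f.stalkMap x).hom.toAlgebra
    haveI : ValuationRing (Y.presheaf.stalk (f x)) := Groth.Agent.RatExt.valuationRing_of_dim_le_one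
      ((Groth.Agent.SmoothCompl.ringKrullDim_stalk_le (f x)).trans hdY.le)
    refine RingHom.flat_algebraMap_iff.2 ((Module.Flat.flat_iff_torsion_eq_bot_of_isBezout).2 ?_)
    refine (Submodule.isTorsionFree_iff_torsion_eq_bot).1 ?_
    exact Module.isTorsionFree_iff_algebraMap_injective.2 hinj
  haveI : Smooth (f ≫ pY) := by rw [hf]; infer_instance
  exact Groth.Agent.S0115.result f pY

end Groth.Agent.S6557
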