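import Groth.Statements.S6558
import Groth.Agent.GenusInsep.Twist

set_option autoImplicit false
universe u
open CategoryTheory CategoryTheory.Limits AlgebraicGeometry
open Curves

set_option backward.isDefEq.respectTransparency false
set_option backward.isDefEq.respectTransparency.types false

namespace Groth.Agent.S6558

/-- Let p be a prime number, k a field of characteristic p, and f : X → Y a nonconstant morphism over k
of proper nonsingular curves over k (proper, integral, of dimension one, all local rings regular),
nonconstant meaning f(ξ_X) = ξ_Y for the generic points (hypothesis e), so that k(Y) maps into k(X).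
Assume X is smooth over k with H^0(X, O_X) = k and k(X)/k(Y) purely inseparable. Then Y is smooth
over k, its global functions are the constants k, and Y and X have the same genus. -/
theorem result (k : Type u) [Field k] (p : ℕ) [Fact p.Prime] [CharP k p]
    (X Y : Scheme.{u}) [X.Over (Spec (CommRingCat.of k))] [Y.Over (Spec (CommRingCat.of k))]
    [IsIntegral X] [IsProper (X ↘ (Spec (CommRingCat.of k)))] (hdX : topologicalKrullDim X = 1) (hregX : ∀ x : X, IsRegularLocalRing (X.presheaf.stalk x))
    [IsIntegral Y] [IsProper (Y ↘ (Spec (CommRingCat.of k)))] (hdY : topologicalKrullDim Y = 1) (hregY : ∀ y : Y, IsRegularLocalRing (Y.presheaf.stalk y))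
    (f : X ⟶ Y) (hf : f ≫ (Y ↘ (Spec (CommRingCat.of k))) = X ↘ (Spec (CommRingCat.of k))) (e : f (genericPoint X) = genericPoint Y)
    [Smooth (X ↘ (Spec (CommRingCat.of k)))] (h0 : Module.finrank k (Coh.HH X (Coh.structureModule X) 0) = 1)
    (hpi : letI := ((Y.presheaf.stalkSpecializes (specializes_of_eq e) ≫ f.stalkMap (genericPoint X)).hom).toAlgebra
      IsPurelyInseparable Y.functionField X.functionField) :
    Smooth (Y ↘ (Spec (CommRingCat.of k))) ∧ Module.finrank k (Coh.HH Y (Coh.structureModule Y) 0) = 1 ∧
      Curv2.genus k Y = Curv2.genus k X := by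
  haveI := GenusInsep.isFinite_of_dominant hdX hdY f hf e
  have hnY : Pi1.IsNormalScheme Y := fun y => by
    haveI := hregY y
    exact ⟨RegLoc.isDomain (A := Y.presheaf.stalk y), RegLoc.isIntegrallyClosed⟩
  obtain ⟨r, i, hi⟩ := CurveFrob.exists_iso k p X Y hdX hdY hnY f hf e hpi
  let Φ := Spec.map (CommRingCat.ofHom (iterateFrobenius k p r))
  have hS : Smooth (Y ↘ Spec (CommRingCat.of k)) := by
    rw [← hi]
    haveI : Smooth (pullback.snd (X ↘ Spec (CommRingCat.of k)) Φ) := inferInstance
    infer_instance
  have hsq : IsPullback (i.hom ≫ pullback.fst (X ↘ Spec (CommRingCat.of k)) Φ) (Y ↘ Spec (CommRingCat.of k))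
      (X ↘ Spec (CommRingCat.of k)) Φ := by
    refine IsPullback.of_iso (IsPullback.of_hasPullback (X ↘ Spec (CommRingCat.of k)) Φ) i.symm (Iso.refl _)
      (Iso.refl _) (Iso.refl _) ?_ ?_ ?_ ?_
    · simp
    · simp [← hi, Φ]
    · simp
    · simp
  exact ⟨hS, (GenusInsep.h_twist _ _ hsq 0).trans h0, GenusInsep.h_twist _ _ hsq 1⟩

end Groth.Agent.S6558
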