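import Groth.Statements.S6563
import Groth.Agent.CurveCompl.Over
import Groth.Agent.CurveRR.Deg

set_option autoImplicit false
universe u
open CategoryTheory CategoryTheory.Limits AlgebraicGeometry
open Curves

set_option backward.isDefEq.respectTransparency false
set_option backward.isDefEq.respectTransparency.types false

open Groth.Agent

namespace Groth.Agent.S6563

/-- Let k be a field and f : X → Y a morphism over k of varieties over k, with X a curve (integral,
separated and of finite type over k, of dimension one) and Y proper over k (and integral). Then f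
extends over a projective completion of X: there are a projective curve X̄ over k (integral, of
dimension one, admitting a closed immersion over k into some P^n_k), an open immersion j : X → X̄
over k and a k-morphism g : X̄ → Y with g ∘ j = f. -/
theorem result (k : Type u) [Field k]
    (X Y : Scheme.{u}) [X.Over (Spec (CommRingCat.of k))] [Y.Over (Spec (CommRingCat.of k))]
    [IsIntegral X] [IsSeparated (X ↘ (Spec (CommRingCat.of k)))] [LocallyOfFiniteType (X ↘ (Spec (CommRingCat.of k)))] [QuasiCompact (X ↘ (Spec (CommRingCat.of k)))] (hdX : topologicalKrullDim X = 1)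
    [IsIntegral Y] [IsProper (Y ↘ (Spec (CommRingCat.of k)))]
    (f : X ⟶ Y) (hf : f ≫ (Y ↘ (Spec (CommRingCat.of k))) = X ↘ (Spec (CommRingCat.of k))) :
    ∃ (Xb : Scheme.{u}) (_ : Xb.Over (Spec (CommRingCat.of k))) (j : X ⟶ Xb) (g : Xb ⟶ Y),
      IsOpenImmersion j ∧ j ≫ g = f ∧ j ≫ (Xb ↘ (Spec (CommRingCat.of k))) = X ↘ (Spec (CommRingCat.of k)) ∧ g ≫ (Y ↘ (Spec (CommRingCat.of k))) = Xb ↘ (Spec (CommRingCat.of k)) ∧
      IsIntegral Xb ∧ topologicalKrullDim Xb = 1 ∧
      ∃ (n : ℕ) (i : Xb ⟶ CohB1.ProjSpace n k), IsClosedImmersion i ∧ i ≫ CohB1.ProjSpace.toSpec n k = Xb ↘ (Spec (CommRingCat.of k)) := by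
  obtain ⟨Z, q, j, g, n, c, hq, hj, hjr, hjd, hjg, hjq, hgp, hZ, hc, hcq⟩ :=
    CurveCompl.exists_completion_over (X ↘ Spec (CommRingCat.of k)) hdX.le (Y ↘ Spec (CommRingCat.of k)) f hf
  letI oZ : Z.Over (Spec (CommRingCat.of k)) := ⟨q⟩
  haveI : IsProper (Z ↘ Spec (CommRingCat.of k)) := hq
  haveI : QuasiCompact j := haveI := CurveRR.isNoetherian_of_proper k Z; inferInstance
  haveI : IsReduced Z := IsSchemeTheoreticallyDominant.isReduced j
  obtain ⟨x₀⟩ := (inferInstance : Nonempty X)
  haveI : PreirreducibleSpace Z := by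
    have h1 := ((IsIrreducible.closure ((IrreducibleSpace.isIrreducible_univ (X : Type u)).image j.base
      j.base.hom.continuous.continuousOn)))
    rw [Set.image_univ, hjr.closure_range] at h1
    exact ⟨h1.2⟩
  haveI : IrreducibleSpace Z := { toNonempty := ⟨j x₀⟩ }
  exact ⟨Z, oZ, j, g, hj, hjg, hjq, hgp, isIntegral_of_irreducibleSpace_of_isReduced Z,
    le_antisymm hZ (hdX ▸ j.isOpenEmbedding.isInducing.topologicalKrullDim_le), n, c, hc, hcq⟩

end Groth.Agent.S6563
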