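import Groth.Statements.S6565
import Groth.Agent.NodeBranch.Delta
import Groth.Agent.NodeBranch.Coeff
-- import your own Groth.Agent.* helpers here

set_option autoImplicit false
set_option backward.isDefEq.respectTransparency false
set_option backward.isDefEq.respectTransparency.types false
set_option maxHeartbeats 1000000
universe u
open Curves

namespace Groth.Agent.S6565

/-- (1) ⇔ (2): let k be a field and (A, m, κ) a Nagata local k-algebra. The following are equivalent:
(1) κ is separable over k (formally smooth, which for field extensions is separability, algebraic or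
not) and the m-adic completion of A is isomorphic, compatibly with the maps from k, to κ[[u, v]]/(a
u^2 + b uv + c v^2) for a nondegenerate quadratic form over κ (the algebraic characterization of a
node); (2) κ is separable over k in the same sense, and A is a reduced ring of Krull dimension one
whose δ-invariant equals 1 and which has exactly two geometric branches. (The published statement
also describes the maximal ideals of the integral closure of A; this row omits that assertion.) -/
theorem result (k : Type u) [Field k] (A : Type u) [CommRing A] [IsLocalRing A]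
    [Algebra k A] (hA : CAlg.IsNagata A) :
    (Algebra.FormallySmooth k (IsLocalRing.ResidueField A) ∧
      ∃ a b c : IsLocalRing.ResidueField A, 4 * a * c - b ^ 2 ≠ 0 ∧
        ∃ e : AdicCompletion (IsLocalRing.maximalIdeal A) A ≃+*
            (MvPowerSeries (Fin 2) (IsLocalRing.ResidueField A) ⧸ Ideal.span
              {(MvPowerSeries.C a * MvPowerSeries.X 0 ^ 2 + MvPowerSeries.C b * MvPowerSeries.X 0 * MvPowerSeries.X 1 +
                MvPowerSeries.C c * MvPowerSeries.X 1 ^ 2 : MvPowerSeries (Fin 2) (IsLocalRing.ResidueField A))}),
          ∀ t : k, e (algebraMap A _ (algebraMap k A t)) =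
            Ideal.Quotient.mk _ (MvPowerSeries.C (algebraMap A (IsLocalRing.ResidueField A) (algebraMap k A t)))) ↔
    (Algebra.FormallySmooth k (IsLocalRing.ResidueField A) ∧ IsReduced A ∧ ringKrullDim A = 1 ∧
      Curv2.deltaInv A = 1 ∧ Brnch.numGeomBranches A = 2) := by
  haveI := hA.1
  constructor
  · rintro ⟨hs, a, b, c, hd, e, -⟩
    have hq := NodeChar.isQuadLocal_of_completion_equiv (a := a) (b := b) (c := c)
      (fun h => hd (by linear_combination -(h : b ^ 2 - 4 * a * c = 0))) e
    exact ⟨hs, NodeChar.isReduced_of_isQuadLocal hq, NodeBranch.ringKrullDim_eq_one hq,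
      NodeBranch.delta_branches_of_isQuadLocal hq⟩
  · rintro ⟨hs, hr, hdim, hδ, hb⟩
    haveI := hs
    haveI := hr
    obtain ⟨a, b, c, hd, e, he⟩ :=
      NodeBranch.exists_model_completion_smooth k (NodeBranch.isQuadLocal_of_delta hA hdim hδ hb)
    refine ⟨hs, a, b, c, fun h => hd (?_ : b ^ 2 - 4 * a * c = 0), e, he⟩
    linear_combination -h

end Groth.Agent.S6565
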