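import Groth.Statements.S6566
import Groth.Agent.DualGeneric.EndOmega
-- import your own Groth.Agent.* helpers here

set_option autoImplicit false
set_option backward.isDefEq.respectTransparency false
set_option backward.isDefEq.respectTransparency.types false
set_option maxHeartbeats 1000000
universe u
open CategoryTheory CategoryTheory.Limits AlgebraicGeometry
attribute [local instance] HasDerivedCategory.standard
open Curves

namespace Groth.Agent.S6566

/-- Let X be proper over the field k, of dimension one, with H^0(X, O_X) = k, and ω_X its dualizing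
module (the degree -1 cohomology sheaf of f^! O for the structure morphism f, assuming Rf_* on
D_QCoh and its right adjoint exist). For coherent O_X-modules F and Q and an exact sequence ω_X → F
→ Q → 0 in which Q has no first cohomology, F has no first cohomology unless the map ω_X → F admits
a retraction (so that F splits as ω_X ⊕ Q): that is, H^1(X, F) = 0 or ω_X → F has a left inverse. -/
theorem result (k : Type u) [Field k] (X : Scheme.{u}) [X.Over (Spec (CommRingCat.of k))] [IsProper (X ↘ (Spec (CommRingCat.of k)))] (hdim : topologicalKrullDim X = 1)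
    (h0 : Module.finrank k (Coh.HH X (Coh.structureModule X) 0) = 1)
    [DCoh.HasRpush (X ↘ (Spec (CommRingCat.of k)))] (h : DCoh.RpushPreservesQCoh (X ↘ (Spec (CommRingCat.of k)))) [DCoh.HasShriek (X ↘ (Spec (CommRingCat.of k))) h]
    (OY : DCoh.DQCoh (Spec (CommRingCat.of k))) (hOY : Nonempty (OY.obj ≅ DCoh.inD (Spec (CommRingCat.of k)) (Coh.structureModule (Spec (CommRingCat.of k)))))
    (F Q : X.Modules) (hF : Coh.IsCoh F) (hQ : Coh.IsCoh Q)
    (f : DCoh.dualizingMod (X ↘ (Spec (CommRingCat.of k))) h OY 1 ⟶ F) (g : F ⟶ Q) [Epi g] (w : f ≫ g = 0) (hex : (ShortComplex.mk f g w).Exact)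
    (hQ1 : Subsingleton (Coh.HH X Q 1)) :
    Subsingleton (Coh.HH X F 1) ∨ ∃ r : F ⟶ DCoh.dualizingMod (X ↘ (Spec (CommRingCat.of k))) h OY 1, f ≫ r = 𝟙 (DCoh.dualizingMod (X ↘ (Spec (CommRingCat.of k))) h OY 1) := by
  obtain ⟨hc, hst, ⟨tr, ht⟩, hend⟩ := Groth.Agent.DualGeneric.omega_facts_of_h0 k h OY hdim h0 hOY
  by_cases hall : ∀ φ : F ⟶ DCoh.dualizingMod (X ↘ (Spec (CommRingCat.of k))) h OY 1, φ = 0
  · exact Or.inl (Groth.Agent.CurveRR.subsingleton_hh_of_hom ht hF.1 hall)
  obtain ⟨φ, hφ⟩ := not_forall.1 hall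
  obtain ⟨a, ha⟩ := hend (f ≫ φ)
  have ha0 : a ≠ 0 := by
    rintro rfl
    rw [zero_smul] at ha
    haveI : Epi (ShortComplex.mk f g w).g := ‹Epi g›
    refine hφ ?_
    rw [← hex.g_desc φ ha, Groth.Agent.CurveRR.hom_eq_zero_of_subsingleton ht hQ.1 hQ1 (hex.desc φ ha), comp_zero]
  refine Or.inr ⟨a⁻¹ • φ, ?_⟩
  rw [Linear.comp_smul, ha, smul_smul, inv_mul_cancel₀ ha0, one_smul]

end Groth.Agent.S6566
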