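import Groth.Statements.S6569
import Groth.Agent.NodeFib.FamilyCrit
import Groth.Agent.S9287
-- import your own Groth.Agent.* helpers here

set_option autoImplicit false
set_option backward.isDefEq.respectTransparency false
set_option backward.isDefEq.respectTransparency.types false
set_option maxHeartbeats 1000000
universe u
open CategoryTheory CategoryTheory.Limits AlgebraicGeometry
attribute [local instance] HasDerivedCategory.standard
open Curves

namespace Groth.Agent.S6569

/-- Let k be a field and X a scheme locally of finite type over k, equidimensional of dimension 1; the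
structure morphism is also assumed quasi-separated (automatic here, X being locally Noetherian), so
that the sheaf of differentials Ω_{X/k} can be taken as the conormal sheaf of the diagonal. Two
conditions on X are then equivalent: (1) X has at worst nodal singularities; (2) X → Spec k is a
local complete intersection morphism, and Z → Spec k is unramified, where Z ⊆ X denotes the closed
subscheme whose ideal sheaf is the first Fitting ideal of Ω_{X/k}. -/
theorem result (k : Type u) [Field k] (X : Scheme.{u}) [X.Over (Spec (CommRingCat.of k))] [LocallyOfFiniteType (X ↘ (Spec (CommRingCat.of k)))] [QuasiSeparated (X ↘ (Spec (CommRingCat.of k)))]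
    (hequi : ∀ Z ∈ irreducibleComponents (X : Type u), topologicalKrullDim Z = 1) :
    Curv2.AtWorstNodal k X ↔
      (Dual3.IsLCIMor (X ↘ (Spec (CommRingCat.of k))) ∧
        FormallyUnramified ((Fitt.sheafIdeal (Omega.sheaf (X ↘ (Spec (CommRingCat.of k)))) 1).subschemeι ≫ (X ↘ (Spec (CommRingCat.of k))))) := by
  set q := X ↘ Spec (CommRingCat.of k)
  haveI : LocallyOfFinitePresentation q := inferInstance
  haveI : Flat q := AlgSpLib.flat_of_field q
  have hfam : Curv2.IsNodalFamily q ↔ Curv2.AtWorstNodal k X := by
    rw [NodeFib.isNodalFamily_iff]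
    simp only [NodeFib.good_field_iff]
    refine ⟨fun h => ((NodeFib.curve_iff q).2 h.2.2).2,
      fun h => ⟨inferInstance, inferInstance, (NodeFib.curve_iff q).1 ⟨hequi, h⟩⟩⟩
  have hdim : ∀ x, FlatMor.fibreDimAt q x = 1 := fun x => by
    have := FittLib.fibreDimAt_eq_of_components q (d := 1) x fun Z hZ => ?_
    · simpa using this
    haveI := CMChart.isIso_fiberι_field q (q x)
    let e := (q.fiberι (q x)).homeomorph
    have himg : e '' Z ∈ irreducibleComponents (X : Type u) := by
      rw [← e.preimage_symm]
      exact preimage_mem_irreducibleComponents hZ e.symm.isOpenEmbedding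
        (by rw [e.symm.surjective.range_eq, Set.inter_univ]; exact hZ.1.1)
    exact ((e.image Z).isHomeomorph.topologicalKrullDim_eq _).trans (hequi _ himg)
  have hlci : Dual3.IsLCIMor q ↔ Synt.IsSyntomicMor q := by
    refine forall_congr' fun x => exists_congr fun U => exists_congr fun V => exists_congr fun e => ?_
    refine and_congr_right fun _ => ?_
    algebraize [(q.appLE V.1 U.1 e).hom]
    rw [S9287.result]
    exact ⟨fun h => ⟨q.flat_appLE V.2 U.2 e, h⟩, fun h => h.2⟩
  rw [← hfam, NodeFib.isNodalFamily_iff_of_ideal q (Fitt.sheafIdeal (Omega.sheaf q) 1) fun _ U V e => by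
    rw [FittLib.sheafIdeal_ideal (FittLib.isQCoh_omega q) (FittLib.isFT_omega q), FittLib.ideal_omega q U.2 V.2 e],
    hlci]
  exact ⟨fun h => ⟨h.1, h.2.2⟩, fun h => ⟨h.1, hdim, h.2⟩⟩

end Groth.Agent.S6569
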