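import Groth.Statements.S6570
import Groth.Agent.NodeFib.FamilyCrit
import Groth.Agent.GorMor.QuasiFiniteChart
-- import your own Groth.Agent.* helpers here

set_option autoImplicit false
set_option backward.isDefEq.respectTransparency false
set_option backward.isDefEq.respectTransparency.types false
set_option maxHeartbeats 1000000
universe u
open CategoryTheory CategoryTheory.Limits AlgebraicGeometry
attribute [local instance] HasDerivedCategory.standard
open Curves

namespace Groth.Agent.S6570

/-- Let f : X → S be a quasi-separated morphism of schemes (so that Ω_{X/S} can be taken as the conormal
sheaf of the diagonal). The following are equivalent: (1) f is flat, locally of finite presentation,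
and every nonempty fibre is equidimensional of dimension 1 with at-worst-nodal singularities; (2) f
is syntomic of relative dimension 1, and Sing(f) → S is unramified, where Sing(f) ⊆ X denotes the
closed subscheme whose ideal sheaf is the first Fitting ideal of Ω_{X/S}. (The published statement
does not assume f quasi-separated; this row does.) -/
theorem result {X S : Scheme.{u}} (f : X ⟶ S) [QuasiSeparated f] :
    Curv2.IsNodalFamily f ↔
      (Synt.IsSyntomicMor f ∧ (∀ x : X, Dual3.localFibreDim f x = 1) ∧
        FormallyUnramified ((Fitt.sheafIdeal (Omega.sheaf f) 1).subschemeι ≫ f)) := by
  simp only [GorMor.localFibreDim_eq]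
  refine NodeFib.isNodalFamily_iff_of_ideal f _ fun hfp U V e => ?_
  rw [FittLib.sheafIdeal_ideal (FittLib.isQCoh_omega f) (FittLib.isFT_omega f), FittLib.ideal_omega f U.2 V.2 e]

end Groth.Agent.S6570
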