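import Groth.Statements.S6572
import Groth.Agent.CurveDiff.Length
import Groth.Agent.CurveFF.Basic
import Groth.Agent.AlgEquivCurve.RelDim
import Groth.Agent.TameSep.Scheme
import Groth.Agent.W7Cover.Basic

set_option autoImplicit false
universe u
open CategoryTheory CategoryTheory.Limits AlgebraicGeometry
open Curves

set_option backward.isDefEq.respectTransparency false
set_option backward.isDefEq.respectTransparency.types false

namespace Groth.Agent.S6572

/-- Let k be a field and f : X → Y a morphism over k of smooth proper curves over k (proper, smooth,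
integral, of dimension one) which is generically étale (étale on a nonempty open of X) and
nonconstant (f(ξ_X) = ξ_Y for the generic points), with H^0(X, O_X) = H^0(Y, O_Y) = k. For a closed
point x ∈ X with image y, write e_x for the ramification index of the extension of discrete
valuation rings O_{Y,y} → O_{X,x} and d_x for the length of the O_{X,x}-module Ω_{O_{X,x}/O_{Y,y}}.
Then e_x − 1 ≤ d_x, with equality exactly when O_{Y,y} → O_{X,x} is tame: the residue field
extension κ(x)/κ(y) is separable and e_x is not divisible by the characteristic of κ(y) (e_x ≠ 0 in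
κ(y)). (The published statement also identifies d_x with the multiplicity of x in the ramification
divisor; this row takes the length of Ω_{O_{X,x}/O_{Y,y}}, the stalk of Ω_{X/Y} at x, as the
definition of d_x.) -/
theorem result (k : Type u) [Field k]
    (X Y : Scheme.{u}) [X.Over (Spec (CommRingCat.of k))] [Y.Over (Spec (CommRingCat.of k))]
    [IsIntegral X] [IsProper (X ↘ (Spec (CommRingCat.of k)))] [Smooth (X ↘ (Spec (CommRingCat.of k)))] (hdX : topologicalKrullDim X = 1)
    [IsIntegral Y] [IsProper (Y ↘ (Spec (CommRingCat.of k)))] [Smooth (Y ↘ (Spec (CommRingCat.of k)))] (hdY : topologicalKrullDim Y = 1)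
    (hX0 : Module.finrank k (Coh.HH X (Coh.structureModule X) 0) = 1) (hY0 : Module.finrank k (Coh.HH Y (Coh.structureModule Y) 0) = 1)
    (f : X ⟶ Y) (hf : f ≫ (Y ↘ (Spec (CommRingCat.of k))) = X ↘ (Spec (CommRingCat.of k))) (e : f (genericPoint X) = genericPoint Y)
    (het : ∃ U : X.Opens, (U : Set X).Nonempty ∧ Etale (U.ι ≫ f))
    (x : X) (hx : IsClosed ({x} : Set X)) :
    letI := (f.stalkMap x).hom.toAlgebra
    letI := (f.residueFieldMap x).hom.toAlgebra
    ((((Ideal.ramificationIdx (IsLocalRing.maximalIdeal (X.presheaf.stalk x)) (Y.presheaf.stalk (f x)) - 1 : ℕ) : ℕ∞) ≤ Module.length (X.presheaf.stalk x) (KaehlerDifferential (Y.presheaf.stalk (f x)) (X.presheaf.stalk x))) ∧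
      ((Module.length (X.presheaf.stalk x) (KaehlerDifferential (Y.presheaf.stalk (f x)) (X.presheaf.stalk x)) = ((Ideal.ramificationIdx (IsLocalRing.maximalIdeal (X.presheaf.stalk x)) (Y.presheaf.stalk (f x)) - 1 : ℕ) : ℕ∞)) ↔
        (Algebra.IsSeparable (Y.residueField (f x)) (X.residueField x) ∧ ((Ideal.ramificationIdx (IsLocalRing.maximalIdeal (X.presheaf.stalk x)) (Y.presheaf.stalk (f x)) : ℕ) : Y.residueField (f x)) ≠ 0))) := by
  have hsmX : Curve.IsSmoothProperCurve k X (X ↘ Spec (CommRingCat.of k)) :=
    ⟨inferInstance, inferInstance, inferInstance, hdX⟩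
  have hsmY : Curve.IsSmoothProperCurve k Y (Y ↘ Spec (CommRingCat.of k)) :=
    ⟨inferInstance, inferInstance, inferInstance, hdY⟩
  haveI : IsProper f := by
    haveI : IsProper (f ≫ (Y ↘ Spec (CommRingCat.of k))) := by rw [hf]; infer_instance
    exact IsProper.of_comp f (Y ↘ Spec (CommRingCat.of k))
  have hy : IsClosed ({f x} : Set Y) := by
    have := f.isClosedMap _ hx
    rwa [Set.image_singleton] at this
  haveI : IsDiscreteValuationRing (X.presheaf.stalk x) := CurveFF.stalk_dvr hsmX hx
  haveI : IsDiscreteValuationRing (Y.presheaf.stalk (f x)) := CurveFF.stalk_dvr hsmY hy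
  haveI : SmoothOfRelativeDimension 1 (X ↘ Spec (CommRingCat.of k)) :=
    AlgEquivCurve.smoothOfRelativeDimension_one _ hdX
  haveI : SmoothOfRelativeDimension 1 (Y ↘ Spec (CommRingCat.of k)) :=
    AlgEquivCurve.smoothOfRelativeDimension_one _ hdY
  letI := Curv2.stalkAlgebra k X x
  letI := Curv2.stalkAlgebra k Y (f x)
  obtain ⟨h1, h2, h3⟩ := TameSep.stalk_props (k := k) X x
  obtain ⟨-, h2', -⟩ := TameSep.stalk_props (k := k) Y (f x)
  haveI := h1; haveI := h2; haveI := h2'
  letI algAB : Algebra (Y.presheaf.stalk (f x)) (X.presheaf.stalk x) := (f.stalkMap x).hom.toAlgebra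
  haveI : IsScalarTower k (Y.presheaf.stalk (f x)) (X.presheaf.stalk x) := IsScalarTower.of_algebraMap_eq fun c => by
    show X.presheaf.germ ⊤ x trivial (Coh.toGlobal (X ↘ Spec (CommRingCat.of k)) c) =
      f.stalkMap x (Y.presheaf.germ ⊤ (f x) trivial (Coh.toGlobal (Y ↘ Spec (CommRingCat.of k)) c))
    rw [Scheme.Hom.germ_stalkMap_apply]
    simp only [← hf]
    rfl
  haveI : IsLocalHom (algebraMap (Y.presheaf.stalk (f x)) (X.presheaf.stalk x)) := f.toLRSHom.prop x
  obtain ⟨_, ⟨V, hV, rfl⟩, hxV, -⟩ :=
    X.isBasis_affineOpens.exists_subset_of_mem_open (Set.mem_univ x) isOpen_univ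
  haveI : Module.Finite k (IsLocalRing.ResidueField (X.presheaf.stalk x)) :=
    HurwitzAlg.finite_residueField (k := k) hV hxV hx
  obtain ⟨hge, hiff⟩ := CurveDiff.length_omega (k := k) (A := Y.presheaf.stalk (f x))
    (B := X.presheaf.stalk x) (W7Cover.stalkMap_injective f e x) h3
  have key : (show Algebra (Y.residueField (f x)) (X.residueField x) from
      (inferInstance : Algebra (IsLocalRing.ResidueField (Y.presheaf.stalk (f x)))
        (IsLocalRing.ResidueField (X.presheaf.stalk x)))) = (f.residueFieldMap x).hom.toAlgebra :=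
    Algebra.algebra_ext _ _ fun a => by
      obtain ⟨a, rfl⟩ := IsLocalRing.residue_surjective a
      exact (ConcreteCategory.congr_hom (Scheme.residue_residueFieldMap f x) a).symm
  refine ⟨hge, ?_⟩
  rw [← key]
  exact hiff

end Groth.Agent.S6572
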