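import Groth.Statements.S6575
import Mathlib

set_option linter.style.haveILetI false

set_option autoImplicit false
universe u
open Curves

namespace Groth.Agent.S6575

lemma key {k : Type u} [Field k] {n m l r : ℕ}
    (f : Fin m → MvPowerSeries (Fin n) k) (g : Fin l → MvPowerSeries (Fin n) k)
    (hfg : Ideal.span (Set.range f) = Ideal.span (Set.range g)) :
    Ideal.span {d : MvPowerSeries (Fin n) k | ∃ (ρ : Fin r → Fin m) (γ : Fin r → Fin n), Function.Injective ρ ∧ Function.Injective γ ∧
          d = ((Matrix.of fun (j : Fin m) (i : Fin n) => MvPowerSeries.pderiv k i (f j)).submatrix ρ γ).det} ≤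
      Ideal.span {d : MvPowerSeries (Fin n) k | ∃ (ρ : Fin r → Fin l) (γ : Fin r → Fin n), Function.Injective ρ ∧ Function.Injective γ ∧
          d = ((Matrix.of fun (j : Fin l) (i : Fin n) => MvPowerSeries.pderiv k i (g j)).submatrix ρ γ).det} ⊔ Ideal.span (Set.range g) := by
  classical
  set G : Set (MvPowerSeries (Fin n) k) := {d | ∃ (ρ : Fin r → Fin l) (γ : Fin r → Fin n), Function.Injective ρ ∧ Function.Injective γ ∧
          d = ((Matrix.of fun (j : Fin l) (i : Fin n) => MvPowerSeries.pderiv k i (g j)).submatrix ρ γ).det} with hG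
  set K := Ideal.span G ⊔ Ideal.span (Set.range g) with hK
  let q := Ideal.Quotient.mk K
  have hg0 : ∀ s, q (g s) = 0 := fun s => Ideal.Quotient.eq_zero_iff_mem.mpr
    (Ideal.mem_sup_right (Ideal.subset_span (Set.mem_range_self s)))
  have hc : ∀ j, ∃ c : Fin l → MvPowerSeries (Fin n) k, ∑ s, c s • g s = f j := fun j =>
    Submodule.mem_span_range_iff_exists_fun _ |>.mp
      (show f j ∈ Ideal.span (Set.range g) from hfg ▸ Ideal.subset_span ⟨j, rfl⟩)
  choose c hc using hc
  rw [Ideal.span_le]
  rintro _ ⟨ρ, γ, -, hγ, rfl⟩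
  rw [SetLike.mem_coe, ← Ideal.Quotient.eq_zero_iff_mem, RingHom.map_det]
  let row : Fin l → (Fin r → MvPowerSeries (Fin n) k ⧸ K) := fun s i =>
    q (MvPowerSeries.pderiv k (γ i) (g s))
  have hrow : (q.mapMatrix ((Matrix.of fun (j : Fin m) (i : Fin n) =>
      MvPowerSeries.pderiv k i (f j)).submatrix ρ γ)) =
      Matrix.of (fun a => ∑ s, q (c (ρ a) s) • row s) := by
    ext a i
    simp only [RingHom.mapMatrix_apply, Matrix.map_apply, Matrix.submatrix_apply, Matrix.of_apply,
      Finset.sum_apply, Pi.smul_apply, smul_eq_mul, row]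
    rw [← hc (ρ a), map_sum, map_sum]
    refine Finset.sum_congr rfl fun s _ => ?_
    rw [smul_eq_mul, Derivation.leibniz, smul_eq_mul, smul_eq_mul, map_add, map_mul, map_mul, hg0,
      zero_mul, add_zero]
  show (q.mapMatrix _).det = 0
  rw [hrow]
  show Matrix.detRowAlternating (fun a => ∑ s, q (c (ρ a) s) • row s) = 0
  rw [← AlternatingMap.coe_multilinearMap, MultilinearMap.map_sum]
  refine Finset.sum_eq_zero fun h _ => ?_
  rw [MultilinearMap.map_smul_univ]
  by_cases hh : Function.Injective h
  · rw [AlternatingMap.coe_multilinearMap]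
    have : Matrix.detRowAlternating (fun a => row (h a)) = q (((Matrix.of fun (j : Fin l) (i : Fin n) =>
        MvPowerSeries.pderiv k i (g j)).submatrix h γ).det) := by
      rw [RingHom.map_det]
      rfl
    have hmemG : ((Matrix.of fun (j : Fin l) (i : Fin n) =>
        MvPowerSeries.pderiv k i (g j)).submatrix h γ).det ∈ G := ⟨h, γ, hh, hγ, rfl⟩
    rw [this, show q (((Matrix.of fun (j : Fin l) (i : Fin n) =>
        MvPowerSeries.pderiv k i (g j)).submatrix h γ).det) = 0 from
      Ideal.Quotient.eq_zero_iff_mem.mpr (Ideal.mem_sup_left (Ideal.subset_span hmemG)), smul_zero]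
  · obtain ⟨a, b, hab, hne⟩ : ∃ a b, h a = h b ∧ a ≠ b := by
      rw [Function.Injective] at hh; push Not at hh; exact hh
    rw [AlternatingMap.coe_multilinearMap,
      AlternatingMap.map_eq_zero_of_eq _ _ (i := a) (j := b) (by simp [hab]) hne, smul_zero]


/-- Let k be a field, A = k[[x_1, …, x_n]] and I ⊆ A an ideal generated by f_1, …, f_m and also by g_1,
…, g_l. Then for every r ≥ 0 the ideal of A/I generated by the r × r minors of (∂f_j/∂x_i) equals
the one generated by the r × r minors of (∂g_s/∂x_i); stated in A as equality of the ideals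
generated by the minors together with I. (The published result also asserts independence of the
regular system of parameters x_1, …, x_n, which is not stated here.) -/
theorem result (k : Type u) [Field k] (n m l r : ℕ)
    (f : Fin m → MvPowerSeries (Fin n) k) (g : Fin l → MvPowerSeries (Fin n) k)
    (hfg : Ideal.span (Set.range f) = Ideal.span (Set.range g)) :
    Ideal.span {d : MvPowerSeries (Fin n) k | ∃ (ρ : Fin r → Fin m) (γ : Fin r → Fin n), Function.Injective ρ ∧ Function.Injective γ ∧
          d = ((Matrix.of fun (j : Fin m) (i : Fin n) => MvPowerSeries.pderiv k i (f j)).submatrix ρ γ).det} ⊔ Ideal.span (Set.range f) =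
      Ideal.span {d : MvPowerSeries (Fin n) k | ∃ (ρ : Fin r → Fin l) (γ : Fin r → Fin n), Function.Injective ρ ∧ Function.Injective γ ∧
          d = ((Matrix.of fun (j : Fin l) (i : Fin n) => MvPowerSeries.pderiv k i (g j)).submatrix ρ γ).det} ⊔ Ideal.span (Set.range g) := by
  refine le_antisymm (sup_le ?_ (hfg ▸ le_sup_right)) (sup_le ?_ (hfg ▸ le_sup_right))
  · exact key f g hfg
  · exact key g f hfg.symm

end Groth.Agent.S6575
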