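import Groth.Statements.S6579
import Groth.Agent.W7Cover.Degree
import Groth.Agent.CurveVA.Criterion
import Groth.Agent.W7Slope.Basic
import Groth.Agent.ProjEmb.Monomials
import Groth.Agent.CurveRR.Deg
import Groth.Agent.W7Cover.Basic
import Groth.Agent.Horrocks.Dim

set_option autoImplicit false
universe u
open CategoryTheory CategoryTheory.Limits AlgebraicGeometry
open Curves
open Groth.Agent.CohFinite Groth.Agent.CurveRR
open Groth.Agent
open Groth.Agent.QC (res resO res_self resO_self)

set_option backward.isDefEq.respectTransparency false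
set_option backward.isDefEq.respectTransparency.types false

namespace Groth.Agent.S6579

/-- Let k be a field and X a proper curve over k all of whose local rings are regular (X integral,
proper, of dimension one), (L, V) a g^1_d on X with ordered basis s_0, s_1 of V, and φ : X → P^1_k a
morphism over k together with α : φ^*O(1) → L sending φ^*T_i to s_i (the morphism attached to the
linear series). Then either (1) φ is nonconstant and has degree at most d — here: φ does not factor
through a closed point, and k(X) has dimension at most d over the local ring of P^1_k at the image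
of the generic point of X (that image is then the generic point, so this is [k(X) : k(P^1_k)] ≤ d) —
or (2) φ maps X (set-theoretically) to a single closed point of P^1_k, and in that case H^0(X, O_X)
is bigger than k. -/
theorem result (k : Type u) [Field k] (X : Scheme.{u}) [X.Over (Spec (CommRingCat.of k))]
    [IsIntegral X] [IsProper (X ↘ (Spec (CommRingCat.of k)))] (hdim : topologicalKrullDim X = 1) (hreg : ∀ x : X, IsRegularLocalRing (X.presheaf.stalk x))
    (d : ℕ) (L : X.Modules) (s : Fin (1 + 1) → LinSer.Sect X L) (hL : LinSer.IsLinSer k X L d 1 s)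
    (φ : X ⟶ CohB1.ProjSpace 1 k) (α : (Scheme.Modules.pullback φ).obj (Twist.twistProjSpace 1 k 1) ⟶ L)
    (hφ : φ ≫ CohB1.ProjSpace.toSpec 1 k = X ↘ (Spec (CommRingCat.of k)) ∧
        ∀ i : Fin (1 + 1), (α.val.app (Opposite.op ⊤)).hom (OmegaSh.pullSect φ (Twist.twistProjSpace 1 k 1) ⊤ (Twist.globalOf (CohB1.polyGrading 1 k) (⟨MvPolynomial.X i, MvPolynomial.isHomogeneous_X k i⟩ : (CohB1.polyGrading 1 k) 1))) = s i) :
    ((¬ ∃ p : CohB1.ProjSpace 1 k, IsClosed ({p} : Set (CohB1.ProjSpace 1 k)) ∧ Set.range φ ⊆ {p}) ∧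
      (letI := (φ.stalkMap (genericPoint X)).hom.toAlgebra
       Module.finrank ((CohB1.ProjSpace 1 k).presheaf.stalk (φ (genericPoint X))) X.functionField ≤ d)) ∨
    ((∃ p : CohB1.ProjSpace 1 k, IsClosed ({p} : Set (CohB1.ProjSpace 1 k)) ∧ Set.range φ ⊆ {p}) ∧
      Module.finrank k (Coh.HH X (Coh.structureModule X) 0) ≠ 1) := by
  classical
  obtain ⟨hLi, hdeg, hind⟩ := hL
  obtain ⟨hf, hs⟩ := hφ
  let P := CohB1.ProjSpace 1 k
  haveI := isNoetherian_of_proper k X
  haveI := CurveVA.isProper_f φ hf
  haveI := ProjMor.isProper_toSpec 1 k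
  haveI : IsProper (P ↘ Spec (CommRingCat.of k)) := ProjMor.isProper_toSpec 1 k
  haveI : IsIntegral P := Horrocks.isIntegral_projSpace
  have hdP : topologicalKrullDim P ≤ 1 := (Groth.Agent.S10829.result k 1).le
  let T : ∀ i : Fin (1 + 1), Γ(CurveVA.O1 φ, ⊤) := fun i =>
    ProjMor.pull1 φ (𝒜 := CohB1.polyGrading 1 k) (MvPolynomial.isHomogeneous_X k i)
  have hT : ∀ i, α.app ⊤ (T i) = s i := fun i => by
    rw [← hs i]
    simp only [T, ProjMor.pull1, ProjMor.sec1_eq_globalOf]
    rfl
  by_cases hξ : IsClosed ({φ (genericPoint X)} : Set P)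
  · right
    have hrange : Set.range φ ⊆ {φ (genericPoint X)} := by
      rintro _ ⟨y, rfl⟩
      exact ((genericPoint_specializes y).map φ.continuous).mem_closed hξ rfl
    refine ⟨⟨_, hξ, hrange⟩, fun h1 => ?_⟩
    -- some coordinate does not vanish at the point
    obtain ⟨l, hl⟩ : ∃ l : Fin (1 + 1), φ (genericPoint X) ∈
        Proj.basicOpen (CohB1.polyGrading 1 k) (MvPolynomial.X l) := by
      obtain ⟨l, -, hl⟩ := ProjEmb.exists_not_mem (CohB1.polyGrading 1 k) (deg := fun _ : Fin (1 + 1) => 1)
        (fun i => MvPolynomial.isHomogeneous_X k i) (MvPolynomial.adjoin_range_X) (φ (genericPoint X))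
      exact ⟨l, (ProjectiveSpectrum.mem_basicOpen _ _ _).mpr hl⟩
    have hV : (⊤ : X.Opens) ≤ φ ⁻¹ᵁ Proj.basicOpen (CohB1.polyGrading 1 k) (MvPolynomial.X l) :=
      fun y _ => by
        rw [Scheme.Hom.mem_preimage, show φ y = φ (genericPoint X) from hrange ⟨y, rfl⟩]; exact hl
    haveI : Nonempty (⊤ : X.Opens) := ⟨⟨genericPoint X, trivial⟩⟩
    have hone : (1 : Γ(X, ⊤)) ≠ 0 := one_ne_zero
    have hsc : ∀ c : Γ(X, ⊤), ∃ a : k, Coh.toGlobal (X ↘ Spec (CommRingCat.of k)) a = c := by
      intro c
      letI := CurveRR.secMod k (Coh.structureModule X) ⊤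
      have h2 : Module.finrank k Γ(Coh.structureModule X, ⊤) = 1 := (CurveRR.finrank_sec _).trans h1
      obtain ⟨a, ha⟩ := exists_smul_eq_of_finrank_eq_one h2 (x := (1 : Γ(X, ⊤))) hone (show Γ(Coh.structureModule X, ⊤) from c)
      refine ⟨a, ?_⟩
      rw [← ha]
      change _ = CurveRR.cst k X ⊤ a * (1 : Γ(X, ⊤))
      rw [mul_one]
      exact (resO_self le_top _).symm
    have key : ∀ i, ∃ a : k, s i = Coh.toGlobal (X ↘ Spec (CommRingCat.of k)) a • s l := fun i => by
      have e := ProjMor.res_pull1 φ (𝒜 := CohB1.polyGrading 1 k) (MvPolynomial.isHomogeneous_X k l)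
        (MvPolynomial.isHomogeneous_X k i) hV
      rw [res_self, res_self] at e
      obtain ⟨a, ha⟩ := hsc (ProjMor.ev φ _ ⊤ hV (GrT.deh (CohB1.polyGrading 1 k)
        (MvPolynomial.isHomogeneous_X k l) (MvPolynomial.X i)))
      refine ⟨a, ?_⟩
      rw [ha, ← hT i, ← hT l, ← TMul.app_smul]
      exact congrArg (α.app ⊤) e
    choose a ha using key
    by_cases hsl : s l = 0
    · have := hind (fun _ => 1) (Finset.sum_eq_zero fun i _ => by rw [ha i, hsl, smul_zero, smul_zero])
      exact one_ne_zero (congrFun this 0)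
    · obtain ⟨m, hm⟩ := exists_ne l
      have h0 := hind (Pi.single m 1 - Pi.single l (a m)) (by
        simp only [Pi.sub_apply, map_sub, sub_smul, Finset.sum_sub_distrib]
        rw [Finset.sum_eq_single m (fun i _ hi => by rw [Pi.single_eq_of_ne hi, map_zero, zero_smul]) (by simp),
          Finset.sum_eq_single l (fun i _ hi => by rw [Pi.single_eq_of_ne hi, map_zero, zero_smul]) (by simp),
          Pi.single_eq_same, Pi.single_eq_same, map_one, one_smul, ha m]
        exact sub_self _)
      have := congrFun h0 m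
      simp [hm] at this
  · left
    have e : φ (genericPoint X) = genericPoint P := by
      by_contra hne
      exact hξ (W7Cover.isClosed_of_ne_genericPoint (CohB1.ProjSpace.toSpec 1 k) hdP hne)
    refine ⟨fun ⟨p, hp, hr⟩ => hξ ((hr ⟨genericPoint X, rfl⟩ : φ (genericPoint X) = p) ▸ hp), ?_⟩
    have hgen : ∀ x', φ x' = φ (genericPoint X) → x' = genericPoint X := fun x' hx' => by
      by_contra hne
      refine hξ ?_
      have := φ.isClosedMap _ (CurveVA.isClosed_singleton_of_ne_generic (k := k) hdim hne)
      rwa [Set.image_singleton, hx'] at this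
    have hO : PicF.IsInvertible (CurveVA.O1 φ) := CurveVA.isInvertible_O1 φ
    have hd1 := DualGeneric.deg_pullback k hdim.le hdP φ hf e
      (fun y hy hy' => hξ ((hy' : φ (genericPoint X) = y) ▸ hy)) hgen
      (isFinLocFreeOfRank_one (CohFinite.isInvertible_twist 1 k 1))
    rw [show Curv2.deg k P (Twist.twistProjSpace 1 k 1) 1 = 1 from W7Cover.deg_twist_one, mul_one] at hd1
    have hα : α ≠ 0 := fun h0 => by
      have hz : ∀ i, s i = 0 := fun i => by rw [← hT i, h0]; rfl
      have := hind (fun _ => 1) (Finset.sum_eq_zero fun i _ => by rw [hz i, smul_zero])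
      exact one_ne_zero (congrFun this 0)
    haveI : Mono α := CurveRR.mono_of_ne_zero hO hLi α hα
    have hg1 := W7Slope.grk_of_rank (isFinLocFreeOfRank_one hO)
    have hg2 := W7Slope.grk_of_rank (isFinLocFreeOfRank_one hLi)
    obtain ⟨hle, -⟩ := W7Slope.cdeg_le_of_mono (k := k) hdim.le α (CurveRR.isCoh_of_inv hO)
      (CurveRR.isCoh_of_inv hLi) (hg1.trans hg2.symm)
    have hle' : Curv2.deg k X (CurveVA.O1 φ) 1 ≤ d :=
      (((W7Slope.deg_eq (k := k) (isFinLocFreeOfRank_one hO))).trans_le hle).trans_eq
        ((W7Slope.deg_eq (k := k) (isFinLocFreeOfRank_one hLi)).symm.trans hdeg)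
    have hres : φ.residueDegree (genericPoint X) ≤ d := by
      have : ((φ.residueDegree (genericPoint X) : ℤ)) ≤ d := hd1.symm.trans_le hle'
      exact_mod_cast this
    refine le_of_eq_of_le ?_ hres
    letI := (φ.stalkMap (genericPoint X)).hom.toAlgebra
    letI : Algebra (P.residueField (φ (genericPoint X))) (X.residueField (genericPoint X)) :=
      (φ.residueFieldMap (genericPoint X)).hom.toAlgebra
    have hY : IsField (P.presheaf.stalk (φ (genericPoint X))) := by
      have h : ∀ y, y = genericPoint P → IsField (P.presheaf.stalk y) := fun y hy => by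
        subst hy; exact Field.toIsField P.functionField
      exact h _ e
    have hX : IsField (X.presheaf.stalk (genericPoint X)) := Field.toIsField X.functionField
    have bij : ∀ {Z : Scheme.{u}} (z : Z), IsField (Z.presheaf.stalk z) → Function.Bijective (Z.residue z) :=
      fun {Z} z hz => ⟨by
        haveI : Nontrivial (Z.residueField z) := inferInstance
        letI := hz.toField
        exact (Z.residue z).hom.injective, IsLocalRing.residue_surjective⟩
    exact Algebra.finrank_eq_of_equiv_equiv (RingEquiv.ofBijective (P.residue (φ (genericPoint X))).hom (bij _ hY))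
      (RingEquiv.ofBijective (X.residue (genericPoint X)).hom (bij _ hX))
      (RingHom.ext fun b => (congrArg (fun q : P.presheaf.stalk (φ (genericPoint X)) ⟶ X.residueField (genericPoint X) => q.hom b)
        (Scheme.residue_residueFieldMap φ (genericPoint X))))

end Groth.Agent.S6579
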