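import Groth.Statements.S6587
import Groth.Agent.ARLib.Sys

set_option autoImplicit false
universe v u
open CategoryTheory CategoryTheory.Limits Opposite
open CohDer

namespace Groth.Agent.S6587

open CategoryTheory.Pretriangulated in
/-- Let D be a triangulated category and let X_n → Y_n → Z_n → X_n⟦1⟧ be an inverse system of
distinguished triangles of D indexed by ℕ (levelwise maps f, g, h of inverse systems, each level
distinguished). If the inverse system (Z_n) is pro-zero, then the levelwise map f : (X_n) → (Y_n) is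
a pro-isomorphism. -/
theorem result {D : Type u} [Category.{v} D] [Preadditive D] [HasZeroObject D] [HasShift D ℤ]
    [∀ n : ℤ, (shiftFunctor D n).Additive] [Pretriangulated D] [IsTriangulated D]
    (X Y Z : ARSys.PS D) (f : X ⟶ Y) (g : Y ⟶ Z) (h : Z ⟶ X ⋙ shiftFunctor D (1 : ℤ))
    (hT : ∀ n : ℕ, Triangle.mk (f.app (op n)) (g.app (op n)) (h.app (op n)) ∈ distinguishedTriangles)
    (hZ : DerCA.IsProZero Z) :
    DerCA.IsProIso f := by
  intro n
  obtain ⟨n1, hn1, h1⟩ := hZ n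
  obtain ⟨m, hm, h2⟩ := hZ n1
  have e0 : ARSys.tr Y hm ≫ g.app (op n1) = 0 := by
    have hn := g.naturality (homOfLE hm).op
    rw [show ARSys.tr Y hm ≫ g.app (op n1) = g.app (op m) ≫ ARSys.tr Z hm from hn, h2, Limits.comp_zero]
  obtain ⟨e, he⟩ : ∃ e : Y.obj (op m) ⟶ X.obj (op n1), ARSys.tr Y hm = e ≫ f.app (op n1) :=
    Pretriangulated.Triangle.coyoneda_exact₂ _ (hT n1) _ e0
  refine ⟨m, hn1.trans hm, e ≫ ARSys.tr X hn1, ?_, ?_⟩
  · let d : X.obj (op m) ⟶ X.obj (op n1) := f.app (op m) ≫ e - ARSys.tr X hm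
    have hd : d ≫ f.app (op n1) = 0 := by
      rw [Preadditive.sub_comp, Category.assoc, ← he, sub_eq_zero]
      exact (f.naturality (homOfLE hm).op).symm
    obtain ⟨c, hc⟩ : ∃ c : (X.obj (op m))⟦(1 : ℤ)⟧ ⟶ Z.obj (op n1), d⟦(1 : ℤ)⟧' = c ≫ h.app (op n1) :=
      Pretriangulated.Triangle.coyoneda_exact₂ _
      (Pretriangulated.rot_of_distTriang _ (Pretriangulated.rot_of_distTriang _ (hT n1))) (d⟦(1 : ℤ)⟧') (by
        show d⟦(1 : ℤ)⟧' ≫ (-((f.app (op n1))⟦(1 : ℤ)⟧')) = 0
        rw [Preadditive.comp_neg, ← Functor.map_comp, hd, Functor.map_zero, neg_zero])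
    have hd0 : d ≫ ARSys.tr X hn1 = 0 := (shiftFunctor D (1 : ℤ)).map_injective (by
      rw [Functor.map_comp, hc, Functor.map_zero, Category.assoc,
        show h.app (op n1) ≫ (ARSys.tr X hn1)⟦(1 : ℤ)⟧' = ARSys.tr Z hn1 ≫ h.app (op n) from
          (h.naturality (homOfLE hn1).op).symm, h1, Limits.zero_comp, Limits.comp_zero])
    rw [Preadditive.sub_comp, sub_eq_zero, Groth.Agent.ARLib.tr_tr, Category.assoc] at hd0
    exact hd0
  · rw [Category.assoc, show ARSys.tr X hn1 ≫ f.app (op n) = f.app (op n1) ≫ ARSys.tr Y hn1 from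
      f.naturality (homOfLE hn1).op, ← Category.assoc, ← he, Groth.Agent.ARLib.tr_tr]

end Groth.Agent.S6587
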