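import Groth.Statements.S6613
import Mathlib

set_option autoImplicit false
universe v u v' u'
open CategoryTheory CategoryTheory.Limits
open CohDer

namespace Groth.Agent.S6613

/-- Let D be a pretriangulated category, D' ⊂ D a full pretriangulated subcategory, S a saturated
multiplicative system of D compatible with the triangulated structure and Q : D → S⁻¹D the
localization. Assume every X in D admits some s : X' ⟶ X in S with X' in D'. Then, with S' = S ∩
Arrows(D'), the functor (S')⁻¹D' → S⁻¹D is an equivalence; equivalently the composite D' → D → S⁻¹D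
is a localization of D' at S'. (The published result additionally claims that the intersection S' =
S ∩ Arrows(D') forms a multiplicative system on D' which is saturated and respects the triangulated
structure of D'; this row asserts only the localization property.) -/
theorem result {D : Type u} [Category.{v} D] [Preadditive D] [HasZeroObject D] [HasShift D ℤ]
    [∀ n : ℤ, (shiftFunctor D n).Additive] [Pretriangulated D]
    (P : ObjectProperty D) [P.IsTriangulated]
    (S : MorphismProperty D) [S.HasLeftCalculusOfFractions] [S.HasRightCalculusOfFractions] [S.IsCompatibleWithTriangulation]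
    {E : Type u'} [Category.{v'} E] (Q : D ⥤ E) [Q.IsLocalization S]
    (hsat : ∀ {X Y : D} (f : X ⟶ Y), IsIso (Q.map f) → S f)
    (hP : ∀ X : D, ∃ (X' : D) (s : X' ⟶ X), P X' ∧ S s) :
    (P.ι ⋙ Q).IsLocalization (S.inverseImage P.ι) := by
  let W := S.inverseImage P.ι
  haveI : W.IsMultiplicative := inferInstanceAs (S.inverseImage P.ι).IsMultiplicative
  haveI : W.HasRightCalculusOfFractions :=
    { exists_rightFraction := fun X Y φ => by
        obtain ⟨ψ, hψ⟩ := MorphismProperty.HasRightCalculusOfFractions.exists_rightFraction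
          (W := S) (MorphismProperty.LeftFraction.mk (P.ι.map φ.f) (P.ι.map φ.s) φ.hs)
        obtain ⟨Z, t, hZ, ht⟩ := hP ψ.X'
        refine ⟨MorphismProperty.RightFraction.mk (X' := ⟨Z, hZ⟩) (ObjectProperty.homMk (t ≫ ψ.s)) (S.comp_mem _ _ ht ψ.hs)
          (ObjectProperty.homMk (t ≫ ψ.f)), ?_⟩
        exact P.ι.map_injective ((Category.assoc _ _ _).trans
          ((congrArg (t ≫ ·) hψ).trans (Category.assoc _ _ _).symm))
      ext := fun X Y Y' f₁ f₂ s hs e => by
        obtain ⟨Z, t, ht, e'⟩ := MorphismProperty.HasRightCalculusOfFractions.ext (W := S)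
          (P.ι.map f₁) (P.ι.map f₂) (P.ι.map s) hs (by rw [← Functor.map_comp, e, Functor.map_comp])
        obtain ⟨Z', t', hZ', ht'⟩ := hP Z
        refine ⟨⟨Z', hZ'⟩, ObjectProperty.homMk (t' ≫ t), S.comp_mem _ _ ht' ht, ?_⟩
        exact P.ι.map_injective ((Category.assoc _ _ _).trans
          ((congrArg (t' ≫ ·) e').trans (Category.assoc _ _ _).symm)) }
  have hinv : W.IsInvertedBy (P.ι ⋙ Q) := fun X Y f hf => Localization.inverts Q S _ hf
  let L := W.Q
  let F : W.Localization ⥤ E := Localization.lift (P.ι ⋙ Q) hinv L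
  let η : L ⋙ F ≅ P.ι ⋙ Q := Localization.fac (P.ι ⋙ Q) hinv L
  haveI := Localization.essSurj Q S
  haveI := Localization.essSurj L W
  haveI : F.EssSurj := ⟨fun Y => by
    obtain ⟨Z, t, hZ, ht⟩ := hP (Q.objPreimage Y)
    haveI := Localization.inverts Q S t ht
    exact ⟨L.obj ⟨Z, hZ⟩, ⟨η.app ⟨Z, hZ⟩ ≪≫ asIso (Q.map t) ≪≫ Q.objObjPreimageIso Y⟩⟩⟩
  have red : ∀ (A B : W.Localization), (∀ (X Y : P.FullSubcategory), Function.Bijective
      (F.map : (L.obj X ⟶ L.obj Y) → _)) → Function.Bijective (F.map : (A ⟶ B) → _) := by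
    intro A B h
    obtain ⟨h1, h2⟩ := h (L.objPreimage A) (L.objPreimage B)
    let a := L.objObjPreimageIso A
    let b := L.objObjPreimageIso B
    refine ⟨fun x y e => ?_, fun z => ?_⟩
    · have := h1 (show F.map (a.hom ≫ x ≫ b.inv) = F.map (a.hom ≫ y ≫ b.inv) by simp only [Functor.map_comp, e])
      simpa using this
    · obtain ⟨x, hx⟩ := h2 (F.map a.hom ≫ z ≫ F.map b.inv)
      refine ⟨a.inv ≫ x ≫ b.hom, ?_⟩
      have e1 : F.map a.inv ≫ F.map a.hom = 𝟙 _ := by rw [← Functor.map_comp, Iso.inv_hom_id, F.map_id]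
      have e2 : F.map b.inv ≫ F.map b.hom = 𝟙 _ := by rw [← Functor.map_comp, Iso.inv_hom_id, F.map_id]
      rw [Functor.map_comp, Functor.map_comp, hx]
      simp only [Category.assoc, e2, Category.comp_id]
      rw [← Category.assoc, e1, Category.id_comp]
  have nat : ∀ {X Y : P.FullSubcategory} (k : X ⟶ Y),
      F.map (L.map k) = η.hom.app X ≫ Q.map (P.ι.map k) ≫ η.inv.app Y := fun {X Y} k => by
    rw [← Category.assoc]
    exact (Iso.eq_comp_inv (η.app Y)).2 (η.hom.naturality k)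
  have bij : ∀ (X Y : P.FullSubcategory), Function.Bijective (F.map : (L.obj X ⟶ L.obj Y) → _) := by
    intro X Y
    refine ⟨fun f g e => ?_, fun z => ?_⟩
    · obtain ⟨φ, rfl⟩ := Localization.exists_rightFraction L W f
      obtain ⟨ψ, rfl⟩ := Localization.exists_rightFraction L W g
      obtain ⟨ρ, hρ⟩ := MorphismProperty.HasRightCalculusOfFractions.exists_rightFraction
        (W := W) (MorphismProperty.LeftFraction.mk φ.s ψ.s ψ.hs)
      haveI := Localization.inverts L W (ρ.s ≫ φ.s) (W.comp_mem _ _ ρ.hs φ.hs)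
      rw [← cancel_epi (L.map (ρ.s ≫ φ.s))]
      have e₁ : L.map (ρ.s ≫ φ.s) ≫ φ.map L (Localization.inverts L W) = L.map (ρ.s ≫ φ.f) := by
        rw [L.map_comp, L.map_comp, Category.assoc, MorphismProperty.RightFraction.map_s_comp_map]
      have e₂ : L.map (ρ.s ≫ φ.s) ≫ ψ.map L (Localization.inverts L W) = L.map (ρ.f ≫ ψ.f) := by
        rw [show ρ.s ≫ φ.s = ρ.f ≫ ψ.s from hρ, L.map_comp, L.map_comp, Category.assoc,
          MorphismProperty.RightFraction.map_s_comp_map]
      rw [e₁, e₂]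
      have h3 : F.map (L.map (ρ.s ≫ φ.f)) = F.map (L.map (ρ.f ≫ ψ.f)) := by
        rw [← e₁, ← e₂]
        exact (F.map_comp _ _).trans ((congrArg (F.map (L.map (ρ.s ≫ φ.s)) ≫ ·) e).trans (F.map_comp _ _).symm)
      rw [nat, nat] at h3
      have h4 : Q.map (P.ι.map (ρ.s ≫ φ.f)) = Q.map (P.ι.map (ρ.f ≫ ψ.f)) := by
        exact (cancel_mono _).1 ((cancel_epi _).1 h3)
      obtain ⟨Z, t, ht, e4⟩ := (MorphismProperty.map_eq_iff_precomp Q S _ _).1 h4
      obtain ⟨Z', t', hZ', ht'⟩ := hP Z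
      have e5 : L.map ((ObjectProperty.homMk (t' ≫ t) : (⟨Z', hZ'⟩ : P.FullSubcategory) ⟶ ρ.X') ≫ ρ.s ≫ φ.f) =
          L.map ((ObjectProperty.homMk (t' ≫ t) : (⟨Z', hZ'⟩ : P.FullSubcategory) ⟶ ρ.X') ≫ ρ.f ≫ ψ.f) :=
        congrArg L.map (P.ι.map_injective ((Category.assoc _ _ _).trans
          ((congrArg (t' ≫ ·) e4).trans (Category.assoc _ _ _).symm)))
      haveI := Localization.inverts L W (ObjectProperty.homMk (t' ≫ t) : (⟨Z', hZ'⟩ : P.FullSubcategory) ⟶ ρ.X')
        (S.comp_mem _ _ ht' ht)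
      exact (cancel_epi _).1 ((L.map_comp _ _).symm.trans (e5.trans (L.map_comp _ _)))
    · obtain ⟨φ, hφ⟩ := Localization.exists_rightFraction Q S
        ((η.inv.app X ≫ z ≫ η.hom.app Y : Q.obj X.obj ⟶ Q.obj Y.obj))
      obtain ⟨Z, t, hZ, ht⟩ := hP φ.X'
      let s' : (⟨Z, hZ⟩ : P.FullSubcategory) ⟶ X := ObjectProperty.homMk (t ≫ φ.s : Z ⟶ X.obj)
      let f' : (⟨Z, hZ⟩ : P.FullSubcategory) ⟶ Y := ObjectProperty.homMk (t ≫ φ.f : Z ⟶ Y.obj)
      haveI := Localization.inverts L W s' (S.comp_mem _ _ ht φ.hs)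
      refine ⟨inv (L.map s') ≫ L.map f', ?_⟩
      rw [Functor.map_comp, Functor.map_inv, IsIso.inv_comp_eq, nat, nat]
      have h2 : Q.map (t ≫ φ.s) ≫ η.inv.app X ≫ z ≫ η.hom.app Y = Q.map (t ≫ φ.f) := by
        rw [hφ, Q.map_comp, Category.assoc, MorphismProperty.RightFraction.map_s_comp_map, ← Q.map_comp]
      change η.hom.app (⟨Z, hZ⟩ : P.FullSubcategory) ≫ Q.map (t ≫ φ.f : Z ⟶ Y.obj) ≫ η.inv.app Y =
        (η.hom.app (⟨Z, hZ⟩ : P.FullSubcategory) ≫ Q.map (t ≫ φ.s : Z ⟶ X.obj) ≫ η.inv.app X) ≫ z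
      rw [← h2]
      simp
  haveI : F.Faithful := ⟨fun {A B} => (red A B bij).1⟩
  haveI : F.Full := ⟨fun {A B} => (red A B bij).2⟩
  haveI : F.IsEquivalence := {}
  exact Functor.IsLocalization.of_equivalence_target L W _ F.asEquivalence η

end Groth.Agent.S6613
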