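import Groth.Statements.S6618
import Mathlib
import Groth.Agent.RDerLib.LES

set_option autoImplicit false
universe v v' u u'
open CategoryTheory CategoryTheory.Limits
open CohDer

namespace Groth.Agent.S6618

/-- Part (2): (3), in the case where A has enough injectives: let F : A ⥤ B be an additive functor
between abelian categories, A with enough injectives. Then R⁰F is left exact; moreover, F itself is
left exact exactly when the canonical comparison morphism from F to R⁰F is invertible. -/
theorem result {A : Type u} [Category.{v} A] [Abelian A] [EnoughInjectives A]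
    {B : Type u'} [Category.{v'} B] [Abelian B] (F : A ⥤ B) [F.Additive] :
    PreservesFiniteLimits (F.rightDerived 0) ∧ (IsIso F.toRightDerivedZero ↔ PreservesFiniteLimits F) := by
  have h1 : PreservesFiniteLimits (F.rightDerived 0) := by
    refine ((F.rightDerived 0).preservesFiniteLimits_tfae.out 0 3).1 fun S hS => ?_
    let T := Groth.Agent.RDerLib.res hS
    refine ⟨Groth.Agent.RDerLib.exact₂ F T 0, ?_⟩
    haveI := (T.map_shortExact F).mono_f
    let φ := (F.mapHomologicalComplex (ComplexShape.up ℕ)).map T.f
    haveI : Mono φ := (T.map_shortExact F).mono_f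
    haveI : Mono (φ.f 0) := inferInstance
    haveI : ∀ (K : CochainComplex B ℕ), IsIso (K.homologyπ 0) := fun K =>
      HomologicalComplex.isIso_homologyπ K _ 0 rfl (by simp)
    have hm : Mono (HomologicalComplex.cyclesMap φ 0) := by
      refine @mono_of_mono _ _ _ _ _ _ (HomologicalComplex.iCycles _ 0) ?_
      rw [HomologicalComplex.cyclesMap_i]
      exact mono_comp _ _
    have hH : Mono (Groth.Agent.RDerLib.hmap F T.f 0) := by
      have := HomologicalComplex.homologyπ_naturality φ 0
      rw [show Groth.Agent.RDerLib.hmap F T.f 0 =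
        inv (HomologicalComplex.homologyπ _ 0) ≫ HomologicalComplex.cyclesMap φ 0 ≫
          HomologicalComplex.homologyπ _ 0 by rw [← this, IsIso.inv_hom_id_assoc]]
      infer_instance
    have e := Groth.Agent.RDerLib.map_f F T 0
    rw [(Iso.eq_comp_inv _).2 e]
    exact @mono_comp _ _ _ _ _ _ (@mono_comp _ _ _ _ _ _ (@IsIso.mono_of_iso _ _ _ _ _ (Iso.isIso_hom _)) _ hH) _
      (@IsIso.mono_of_iso _ _ _ _ _ (Iso.isIso_inv _))
  refine ⟨h1, fun h => ?_, fun h => inferInstance⟩
  exact preservesFiniteLimits_of_natIso (asIso F.toRightDerivedZero).symm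

end Groth.Agent.S6618
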