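import Groth.Statements.S6619
import Mathlib
import Groth.Agent.RDerLib.LES

set_option autoImplicit false
universe v v' u u'
open CategoryTheory CategoryTheory.Limits
open CohDer

namespace Groth.Agent.S6619

/-- In the case where A has enough injectives (an object X is right acyclic for the left exact functor F
when RⁱF(X) = 0 for all i > 0): suppose A and B are abelian categories, A has enough injectives, F :
A ⥤ B is left exact, and 0 → X₁ → X₂ → X₃ → 0 is a short exact sequence of A. (1) If X₁, X₃ are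
right acyclic so is X₂; (2) if X₁, X₂ are right acyclic so is X₃; (3) if X₂, X₃ are right acyclic
and F(X₂) ⟶ F(X₃) is surjective then X₁ is right acyclic. In each of the three cases 0 → F(X₁) →
F(X₂) → F(X₃) → 0 is short exact. -/
theorem result {A : Type u} [Category.{v} A] [Abelian A] [EnoughInjectives A]
    {B : Type u'} [Category.{v'} B] [Abelian B] (F : A ⥤ B) [F.Additive] [PreservesFiniteLimits F]
    (S : ShortComplex A) (hS : S.ShortExact) :
    ((∀ i : ℕ, 0 < i → IsZero ((F.rightDerived i).obj S.X₁)) → (∀ i : ℕ, 0 < i → IsZero ((F.rightDerived i).obj S.X₃)) →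
      (∀ i : ℕ, 0 < i → IsZero ((F.rightDerived i).obj S.X₂)) ∧ (S.map F).ShortExact) ∧
    ((∀ i : ℕ, 0 < i → IsZero ((F.rightDerived i).obj S.X₁)) → (∀ i : ℕ, 0 < i → IsZero ((F.rightDerived i).obj S.X₂)) →
      (∀ i : ℕ, 0 < i → IsZero ((F.rightDerived i).obj S.X₃)) ∧ (S.map F).ShortExact) ∧
    ((∀ i : ℕ, 0 < i → IsZero ((F.rightDerived i).obj S.X₂)) → (∀ i : ℕ, 0 < i → IsZero ((F.rightDerived i).obj S.X₃)) →
      Epi (F.map S.g) → (∀ i : ℕ, 0 < i → IsZero ((F.rightDerived i).obj S.X₁)) ∧ (S.map F).ShortExact) := by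
  let T := Groth.Agent.RDerLib.res hS
  have e2 := Groth.Agent.RDerLib.exact₂ F T
  have e3 := Groth.Agent.RDerLib.exact₃ F T
  have e1 := Groth.Agent.RDerLib.exact₁ F T
  have hη : (F.map S.g ≫ F.toRightDerivedZero.app S.X₃) = F.toRightDerivedZero.app S.X₂ ≫ (F.rightDerived 0).map S.g :=
    F.toRightDerivedZero.naturality S.g
  have hex : (S.map F).Exact ∧ Mono (F.map S.f) :=
    ((F.preservesFiniteLimits_tfae.out 3 0 rfl rfl).1 ‹PreservesFiniteLimits F›) S hS
  have hse : Epi (F.map S.g) → (S.map F).ShortExact := fun h =>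
    { exact := hex.1, mono_f := hex.2, epi_g := h }
  have hepi : IsZero ((F.rightDerived 1).obj S.X₁) → Epi (F.map S.g) := by
    intro h
    haveI : Epi ((F.rightDerived 0).map S.g) := (e3 0 1 rfl).epi_f (h.eq_of_tgt _ _)
    haveI : Epi (F.map S.g ≫ F.toRightDerivedZero.app S.X₃) := by rw [hη]; infer_instance
    rw [show F.map S.g = (F.map S.g ≫ F.toRightDerivedZero.app S.X₃) ≫ inv (F.toRightDerivedZero.app S.X₃) by simp]
    infer_instance
  refine ⟨fun h₁ h₃ => ⟨fun i hi => ?_, hse (hepi (h₁ 1 Nat.one_pos))⟩,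
    fun h₁ h₂ => ⟨fun i hi => ?_, hse (hepi (h₁ 1 Nat.one_pos))⟩, fun h₂ h₃ hg => ⟨fun i hi => ?_, hse hg⟩⟩
  · exact (e2 i).isZero_X₂ ((h₁ i hi).eq_of_src _ _) ((h₃ i hi).eq_of_tgt _ _)
  · exact (e3 i (i + 1) rfl).isZero_X₂ ((h₂ i hi).eq_of_src _ _) ((h₁ (i + 1) i.succ_pos).eq_of_tgt _ _)
  · obtain ⟨j, rfl⟩ : ∃ j, i = j + 1 := ⟨i - 1, by omega⟩
    refine (e1 j (j + 1) rfl).isZero_X₂ ?_ ((h₂ (j + 1) hi).eq_of_tgt _ _)
    rcases Nat.eq_zero_or_pos j with rfl | hj
    · haveI : Epi ((F.rightDerived 0).map S.g) := by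
        haveI := hg
        haveI : Epi (F.toRightDerivedZero.app S.X₂ ≫ (F.rightDerived 0).map S.g) := by rw [← hη]; infer_instance
        exact epi_of_epi (F.toRightDerivedZero.app S.X₂) _
      rw [← cancel_epi ((F.rightDerived 0).map S.g)]
      show (F.rightDerived 0).map S.g ≫ T.delta F 0 1 rfl = _
      rw [Groth.Agent.RDerLib.g_delta F T 0 1 rfl]
      simp
    · exact (h₃ j hj).eq_of_src _ _

end Groth.Agent.S6619
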