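import Groth.Statements.S6622
import Mathlib

set_option autoImplicit false
universe v u
open CategoryTheory CategoryTheory.Limits
open CohDer

namespace Groth.Agent.S6622

open scoped ZeroObject


/-- Let A be an additive category. The full subcategories K⁻(A) (complexes K with Kⁿ = 0 for n ≫ 0) and
Kᵇ(A) (Kⁿ = 0 for |n| ≫ 0) of the homotopy category K(A) are full triangulated subcategories. -/
theorem result {V : Type u} [Category.{v} V] [Preadditive V] [HasZeroObject V] [HasBinaryBiproducts V] :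
    (ObjectProperty.IsTriangulated (fun K : HomotopyCategory V (ComplexShape.up ℤ) => ∃ n : ℤ, CochainComplex.IsStrictlyLE K.as n)) ∧
    (ObjectProperty.IsTriangulated (fun K : HomotopyCategory V (ComplexShape.up ℤ) =>
      ∃ a b : ℤ, CochainComplex.IsStrictlyGE K.as a ∧ CochainComplex.IsStrictlyLE K.as b)) := by
  have hmc : ∀ {K L : CochainComplex V ℤ} (f : K ⟶ L) (n₁ n₂ : ℤ) [K.IsStrictlyLE n₁] [L.IsStrictlyLE n₂],
      (CochainComplex.mappingCone f).IsStrictlyLE (max n₁ n₂) := by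
    intro K L f n₁ n₂ _ _
    rw [CochainComplex.isStrictlyLE_iff]
    intro i hi
    simp only [CochainComplex.mappingCone.isZero_X_iff]
    exact ⟨K.isZero_of_isStrictlyLE n₁ _, L.isZero_of_isStrictlyLE n₂ _⟩
  have hgen : ∀ (P : ObjectProperty (HomotopyCategory V (ComplexShape.up ℤ))) (Q : CochainComplex V ℤ → Prop),
      (∀ K, P K ↔ Q K.as) → Q 0 → (∀ K (n : ℤ), Q K → Q (K⟦n⟧)) →
      (∀ {K L : CochainComplex V ℤ} (f : K ⟶ L), Q K → Q L → Q (CochainComplex.mappingCone f)) →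
      P.IsTriangulated := by
    intro P Q hPQ h0 hsh hcone
    haveI : P.ContainsZero := ⟨⟨(HomotopyCategory.quotient _ _).obj 0, Functor.map_isZero _ (isZero_zero _),
      (hPQ _).2 h0⟩⟩
    haveI : P.IsStableUnderShift ℤ := ⟨fun n => ⟨fun K hK => by
      rw [ObjectProperty.prop_shift_iff]
      obtain ⟨K : CochainComplex _ _, rfl⟩ := K.quotient_obj_surjective
      rw [HomotopyCategory.shift_quotient_obj]
      exact (hPQ _).2 (hsh _ n ((hPQ _).1 hK))⟩⟩
    haveI : P.IsTriangulatedClosed₃ := ⟨fun T hT h₁ h₂ => by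
      obtain ⟨f : T.obj₁.as ⟶ T.obj₂.as, hf⟩ := (HomotopyCategory.quotient _ _).map_surjective T.mor₁
      refine ⟨_, ?_, ⟨Pretriangulated.Triangle.π₃.mapIso (Pretriangulated.isoTriangleOfIso₁₂ T _ hT
        (HomotopyCategory.mappingCone_triangleh_distinguished f) (Iso.refl _) (Iso.refl _) ?_)⟩⟩
      · exact (hPQ _).2 (hcone f ((hPQ _).1 h₁) ((hPQ _).1 h₂))
      · exact (Category.comp_id _).trans (hf.symm.trans (Category.id_comp _).symm)⟩
    exact { toIsTriangulatedClosed₂ := .of_isTriangulatedClosed₃ }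
  constructor
  · refine hgen _ (fun K => ∃ n, CochainComplex.IsStrictlyLE K n) (fun _ => Iff.rfl) ⟨0, inferInstance⟩ ?_ ?_
    · rintro K n ⟨a, _⟩
      exact ⟨a - n, K.isStrictlyLE_shift a n (a - n) (by lia)⟩
    · rintro K L f ⟨a, _⟩ ⟨b, _⟩
      exact ⟨max a b, hmc f a b⟩
  · refine hgen _ (fun K => ∃ a b, CochainComplex.IsStrictlyGE K a ∧ CochainComplex.IsStrictlyLE K b)
      (fun _ => Iff.rfl) ⟨0, 0, inferInstance, inferInstance⟩ ?_ ?_
    · rintro K n ⟨a, b, _, _⟩
      exact ⟨a - n, b - n, K.isStrictlyGE_shift a n (a - n) (by lia), K.isStrictlyLE_shift b n (b - n) (by lia)⟩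
    · rintro K L f ⟨a₁, b₁, _, _⟩ ⟨a₂, b₂, _, _⟩
      exact ⟨min (a₁ - 1) a₂, max b₁ b₂,
        CochainComplex.isStrictlyGE_mappingCone f a₁ a₂ _ (by simp) (by simp), hmc f b₁ b₂⟩

end Groth.Agent.S6622
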