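import Groth.Statements.S6632
import Groth.Agent.EtSect.Locus

set_option autoImplicit false
open CategoryTheory CategoryTheory.Limits AlgebraicGeometry Opposite
universe u
open EtCore

set_option backward.isDefEq.respectTransparency false

set_option backward.isDefEq.respectTransparency false

namespace Groth.Agent.S6632

/-- Let f : X ⟶ Y be a morphism of schemes such that, for every etale V ⟶ Y, the base change X ×_Y V ⟶ V
satisfies condition (C) (for every etale U ⟶ X ×_Y V there are an etale V' ⟶ V and a surjective
morphism from the base change of V' to U over X ×_Y V) and is closed as a map of topological spaces.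
Then the base change functor V ↦ X ×_Y V from the small etale site of Y to that of X is almost
cocontinuous: every covering sieve of X ×_Y V contains the images of the members of some covering
sieve of V, except for members V' for which X ×_Y V' is covered by the empty sieve. -/
theorem result {X Y : Scheme.{u}} (f : X ⟶ Y)
    (hC : ∀ (V : Scheme.{u}) (v : V ⟶ Y) [Etale v], BigSite.PropC (pullback.snd f v))
    (hcl : ∀ (V : Scheme.{u}) (v : V ⟶ Y) [Etale v], IsClosedMap (pullback.snd f v).base) :
    BigSite.IsAlmostCocontinuous (EtCoh.bc f) Y.smallEtaleTopology X.smallEtaleTopology := by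
  intro V R hR
  obtain ⟨α, T, g, rfl⟩ := R.exists_eq_ofArrows
  rw [Scheme.ofArrows_mem_smallEtaleTopology_iff] at hR
  let v : V.left ⟶ Y := V.hom
  have hv : Etale v := V.prop
  let e : pullback v f ≅ pullback f v := pullbackSymmetry v f
  let p : pullback v f ⟶ V.left := pullback.fst v f
  let S : Sieve V :=
    { arrows := fun V' b => (⊥ : Sieve ((EtCoh.bc f).obj V')) ∈ X.smallEtaleTopology _ ∨
        ∃ (W : Y.Etale) (b₁ : V' ⟶ W) (b₂ : W ⟶ V), b₁ ≫ b₂ = b ∧
          ((⊥ : Sieve ((EtCoh.bc f).obj W)) ∈ X.smallEtaleTopology _ ∨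
            Sieve.ofArrows T g ((EtCoh.bc f).map b₂))
      downward_closed := by
        rintro V' V'' b (h | ⟨W, b₁, b₂, rfl, h⟩) c
        · exact Or.inr ⟨V', c, b, rfl, Or.inl h⟩
        · exact Or.inr ⟨W, c ≫ b₁, b₂, Category.assoc _ _ _, h⟩ }
  refine ⟨S, ?_, ?_⟩
  · have key : ∀ y : V.left, ∃ (W : Y.Etale) (b : W ⟶ V), y ∈ Set.range b.left ∧ S b := by
      intro y
      by_cases hy : y ∈ Set.range p
      · obtain ⟨x, rfl⟩ := hy
        obtain ⟨i, c, hc⟩ := Set.mem_iUnion.mp (hR ▸ Set.mem_univ x : x ∈ ⋃ i, Set.range (g i).left)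
        have := Groth.Agent.EtSect.etale_left (g i)
        let q : (T i).left ⟶ pullback v f := (g i).left
        have : Etale q := Groth.Agent.EtSect.etale_left (g i)
        obtain ⟨V', w, hw, h, hh, hs⟩ := hC V.left v (T i).left (q ≫ e.hom)
        let W : Y.Etale := Scheme.Etale.mk (w ≫ v)
        let b : W ⟶ V := MorphismProperty.Over.homMk w rfl
        obtain ⟨z, hz⟩ := h.surjective c
        refine ⟨W, b, ⟨pullback.snd (pullback.snd f v) w z, ?_⟩, Or.inr ⟨W, 𝟙 _, b, Category.id_comp _, Or.inr ?_⟩⟩
        · have h1 : e.hom (q c) = pullback.fst (pullback.snd f v) w z := by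
            rw [← hz]; exact congr($hh z)
          show w (pullback.snd (pullback.snd f v) w z) = _
          rw [← Scheme.Hom.comp_apply, ← pullback.condition, Scheme.Hom.comp_apply, ← h1, ← Scheme.Hom.comp_apply,
            show e.hom ≫ pullback.snd f v = pullback.fst v f from pullbackSymmetry_hom_comp_snd _ _, ← hc]
          rfl
        · let m : pullback (w ≫ v) f ⟶ pullback v f := ((EtCoh.bc f).map b).left
          have hm : m ≫ pullback.fst v f = pullback.fst (w ≫ v) f ≫ w := (EtCoh.isPullback_bc_map f b).w
          let t : pullback (w ≫ v) f ⟶ pullback (pullback.snd f v) w :=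
            pullback.lift (m ≫ e.hom) (pullback.fst _ _) (by
              rw [Category.assoc, pullbackSymmetry_hom_comp_snd, hm])
          have ht : (t ≫ h) ≫ q = m := by
            rw [← cancel_mono e.hom, Category.assoc, Category.assoc, hh, pullback.lift_fst]
          let n : (EtCoh.bc f).obj W ⟶ T i := MorphismProperty.Over.homMk (t ≫ h) (by
            change (t ≫ h) ≫ (T i).hom = _
            rw [← MorphismProperty.Over.w (g i)]
            exact (Category.assoc _ _ _).symm.trans ((congrArg (· ≫ _) ht).trans (MorphismProperty.Over.w ((EtCoh.bc f).map b))))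
          exact ⟨T i, n, g i, ⟨i⟩, MorphismProperty.Over.Hom.ext ht⟩
      · have hcl' : IsClosed (Set.range p) := by
          have h : Set.range p = pullback.snd f v '' Set.univ := by
            rw [Set.image_univ]
            ext y
            constructor
            · rintro ⟨z, rfl⟩; exact ⟨e.hom z, congr($(pullbackSymmetry_hom_comp_snd v f) z)⟩
            · rintro ⟨z, rfl⟩; exact ⟨e.inv z, congr($(pullbackSymmetry_inv_comp_fst v f) z)⟩
          rw [h]
          exact hcl V.left v _ isClosed_univ
        let O : V.left.Opens := ⟨(Set.range p)ᶜ, hcl'.isOpen_compl⟩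
        let W : Y.Etale := Scheme.Etale.mk (O.ι ≫ v)
        let b : W ⟶ V := MorphismProperty.Over.homMk O.ι rfl
        refine ⟨W, b, ⟨(⟨y, hy⟩ : O), rfl⟩, Or.inl ?_⟩
        have : IsEmpty ((EtCoh.bc f).obj W).left := ⟨fun z => by
          let z' : (pullback (O.ι ≫ v) f : Scheme.{u}) := z
          let c : O.toScheme := pullback.fst (O.ι ≫ v) f z'
          let m : pullback (O.ι ≫ v) f ⟶ pullback v f := ((EtCoh.bc f).map b).left
          exact c.2 ⟨m z', congr($((EtCoh.isPullback_bc_map f b).w) z')⟩⟩
        rw [show (⊥ : Sieve ((EtCoh.bc f).obj W)) = Sieve.ofArrows (fun k : PEmpty.{u + 1} => k.elim) (fun k => k.elim) from ?_]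
        · rw [Scheme.ofArrows_mem_smallEtaleTopology_iff]
          exact Set.eq_univ_of_forall fun z => this.elim z
        · refine Sieve.ext fun Z m => ⟨fun h => h.elim, ?_⟩
          rintro ⟨_, _, _, ⟨k⟩, _⟩
          exact k.elim
    choose W b hb hS using key
    have hle : Sieve.ofArrows W b ≤ S := by
      rintro Z m ⟨_, a, _, ⟨y⟩, rfl⟩
      exact S.downward_closed (hS y) a
    refine GrothendieckTopology.superset_covering _ hle ?_
    rw [Scheme.ofArrows_mem_smallEtaleTopology_iff]
    exact Set.eq_univ_of_forall fun y => Set.mem_iUnion.mpr ⟨y, hb y⟩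
  · rintro V' b (h | ⟨W, b₁, b₂, rfl, h | h⟩)
    · exact Or.inl h
    · exact Or.inl (by simpa using X.smallEtaleTopology.pullback_stable ((EtCoh.bc f).map b₁) h)
    · exact Or.inr (by rw [Functor.map_comp]; exact Sieve.downward_closed _ h _)

end Groth.Agent.S6632
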