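import Groth.Statements.S6637


set_option autoImplicit false
set_option linter.style.haveILetI false
set_option backward.isDefEq.respectTransparency false

open CategoryTheory CategoryTheory.Limits AlgebraicGeometry Opposite
universe u
open BigSite

namespace Groth.Agent.S6637

/-- For the Zariski, etale, smooth and fppf topologies: for a monomorphism of schemes f : X ⟶ Y the
counit f_big⁻¹ f_big,* F ⟶ F is an isomorphism for every sheaf of sets F on the big site of X, and
for every abelian sheaf. (The published statement also covers the syntomic topology; this row treats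
the Zariski, etale, smooth and fppf topologies only.) -/
theorem result {X Y : Scheme.{u}} (f : X ⟶ Y) [Mono f]
    (K : Precoverage Scheme.{u}) (hK : K = Scheme.zariskiPrecoverage ∨ K = Scheme.etalePrecoverage ∨
      K = Scheme.precoverage @Smooth ∨ K = Scheme.fppfPrecoverage) :
    (∀ F : QuotSh.Sh K X, IsIso ((BigSite.bigAdj K f (Type (u + 1))).counit.app F)) ∧
      (∀ F : BigSite.Ab K X, IsIso ((BigSite.bigAdj K f AddCommGrpCat.{u + 1}).counit.app F)) := by
  haveI : ∀ U, IsIso ((Over.mapPullbackAdj f).unit.app U) := fun U => by
    haveI : IsIso ((Over.forget X).map ((Over.mapPullbackAdj f).unit.app U)) := by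
      refine ⟨pullback.fst _ _, ?_, ?_⟩
      · simp
      · apply pullback.hom_ext
        · simp
        · rw [← cancel_mono f]
          simp [pullback.condition]
    exact isIso_of_reflects_iso _ (Over.forget X)
  refine ⟨fun F => ?_, fun F => ?_⟩
  · refine @isIso_of_fully_faithful _ _ _ _ (sheafToPresheaf _ _) _ _ _ _ _ ?_
    haveI : ∀ U, IsIso (((sheafToPresheaf _ _).map ((BigSite.bigAdj K f (Type (u + 1))).counit.app F)).app U) :=
      fun U => inferInstanceAs (IsIso (F.obj.map ((Over.mapPullbackAdj f).unit.app U.unop).op))
    exact NatIso.isIso_of_isIso_app _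
  · refine @isIso_of_fully_faithful _ _ _ _ (sheafToPresheaf _ _) _ _ _ _ _ ?_
    haveI : ∀ U, IsIso (((sheafToPresheaf _ _).map ((BigSite.bigAdj K f AddCommGrpCat.{u + 1}).counit.app F)).app U) :=
      fun U => inferInstanceAs (IsIso (F.obj.map ((Over.mapPullbackAdj f).unit.app U.unop).op))
    exact NatIso.isIso_of_isIso_app _

end Groth.Agent.S6637
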