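import Groth.Statements.S6647
import Groth.Agent.EtFLC.Serre

set_option autoImplicit false
open CategoryTheory CategoryTheory.Limits AlgebraicGeometry Opposite
universe u
open EtCore

namespace Groth.Agent.S6647

/-- Let φ : F ⟶ G be a map of locally constant abelian sheaves on the small etale site of a scheme X,
with F finite locally constant. Then on the members of some etale covering of X the restriction of φ
is, up to isomorphisms with constant sheaves on both sides, the map of constant sheaves induced by a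
homomorphism of abelian groups. -/
theorem result {X : Scheme.{u}} (F G : EtCoh.Ab X) (φ : F ⟶ G)
    (hF : EtCoh.IsFiniteLocallyConstant F) (hG : EtRest.IsLocallyConstant G) :
    ∃ (ι : Type u) (U : ι → X.Etale), EtCoh.Covers U ∧ ∀ i, ∃ (M N : Type (u + 1)) (_ : AddCommGroup M) (_ : AddCommGroup N)
      (h : M →+ N)
      (α : EtCoh.restr F (U i) ≅ (constantSheaf (X.smallEtaleTopology.over (U i)) AddCommGrpCat.{u + 1}).obj (AddCommGrpCat.of M))
      (β : EtCoh.restr G (U i) ≅ (constantSheaf (X.smallEtaleTopology.over (U i)) AddCommGrpCat.{u + 1}).obj (AddCommGrpCat.of N)),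
      (X.smallEtaleTopology.overPullback AddCommGrpCat.{u + 1} (U i)).map φ ≫ β.hom = α.hom ≫ (constantSheaf (X.smallEtaleTopology.over (U i)) AddCommGrpCat.{u + 1}).map (AddCommGrpCat.ofHom h) := by
  rw [EtFLC.isFLC_iff] at hF
  rw [EtFLC.isLC_iff] at hG
  have h : ∀ x : X, ∃ (U : X.Etale) (u : U.left) (M N : Type (u + 1)) (_ : AddCommGroup M) (_ : AddCommGroup N)
      (σ : M →+ EtCoh.sect F U) (τ : N →+ EtCoh.sect G U) (f : M →+ N),
      U.hom u = x ∧ EtFLC.IsTriv F U σ ∧ EtFLC.IsTriv G U τ ∧ ∀ m, (φ.hom.app (op U)).hom (σ m) = τ (f m) := by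
    intro x
    obtain ⟨U₁, u₁, M, _, _, σ₀, hu₁, hσ₀⟩ := hF x
    obtain ⟨U₂, u₂, N, _, τ₀, hu₂, hτ₀⟩ := hG x
    obtain ⟨U, g₁, g₂, u₀, hg₁, -⟩ := EtFLC.exists_common u₁ u₂ (hu₁.trans hu₂.symm)
    obtain ⟨V, g, v, f, hv, hf⟩ :=
      EtFLC.exists_local_hom φ (σ := (EtFLC.res F g₁).comp σ₀) (hτ₀.comap g₂) u₀
    refine ⟨V, v, ULift.{u + 1} M, N, inferInstance, inferInstance,
      ((EtFLC.res F g).comp ((EtFLC.res F g₁).comp σ₀)).comp (AddEquiv.ulift (α := M)).toAddMonoidHom,
      (EtFLC.res G g).comp ((EtFLC.res G g₂).comp τ₀), f.comp (AddEquiv.ulift (α := M)).toAddMonoidHom,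
      by rw [← hu₁, ← hg₁, EtFLC.hom_comp_left, ← hv, EtFLC.hom_comp_left],
      ((hσ₀.comap g₁).comap g).congr (AddEquiv.ulift (α := M)), (hτ₀.comap g₂).comap g, fun m => hf m.down⟩
  choose U y M N _ _ σ τ f hy hσ hτ hf using h
  refine ⟨X, U, fun x => ⟨x, y x, hy x⟩, fun x => ?_⟩
  haveI := EtFLC.isIso_descTriv (U := U x) (M := AddCommGrpCat.of (M x)) (hσ x)
  haveI := EtFLC.isIso_descTriv (U := U x) (M := AddCommGrpCat.of (N x)) (hτ x)
  refine ⟨M x, N x, inferInstance, inferInstance, f x,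
    (asIso (EtFLC.descTriv (U := U x) (M := AddCommGrpCat.of (M x)) F (σ x))).symm,
    (asIso (EtFLC.descTriv (U := U x) (M := AddCommGrpCat.of (N x)) G (τ x))).symm, ?_⟩
  simp only [Iso.symm_hom, asIso_inv]
  rw [IsIso.comp_inv_eq, Category.assoc, IsIso.eq_inv_comp]
  exact EtFLC.descTriv_natural φ (AddCommGrpCat.ofHom (f x)) (hf x)

end Groth.Agent.S6647
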