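import Groth.Agent.EtStalk.Conservative
import Mathlib
import Groth.Prelude.Def_EtBaseX
set_option autoImplicit false
set_option backward.isDefEq.respectTransparency false
open CategoryTheory CategoryTheory.Limits AlgebraicGeometry Opposite
universe u
namespace EtCore
end EtCore
open EtCore
open CategoryTheory AlgebraicGeometry Opposite

namespace Groth.Agent.S6648

/-- For a sheaf of (commutative) rings O on the small etale site of a scheme S, the set of points s of S
over which some geometric stalk of O is a nonzero ring is closed in S. (Rings are taken in the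
universe of the schemes, as for the structure presheaf of the prelude.) -/
theorem result {S : Scheme.{u}} (O : Sheaf S.smallEtaleTopology CommRingCat.{u}) :
    IsClosed {s : ↥S | ∃ (Ω : Type u) (_ : Field Ω) (_ : IsSepClosed Ω) (ξ : Spec (CommRingCat.of Ω) ⟶ S),
      ξ.base default = s ∧ Nontrivial ↑((Scheme.pointSmallEtale ξ).presheafFiber.obj O.obj)} := by
  rw [← isOpen_compl_iff, isOpen_iff_forall_mem_open]
  intro s hs
  obtain ⟨Ω, _, _, ξ, -, hξ⟩ := Groth.Agent.EtStalk.covers_all (X := S) s
  let Φ := Scheme.pointSmallEtale ξ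
  have h0 : Subsingleton ↑(Φ.presheafFiber.obj O.obj) :=
    not_nontrivial_iff_subsingleton.mp fun h => hs ⟨Ω, inferInstance, inferInstance, ξ, hξ, h⟩
  let x₀ : Φ.fiber.obj (EtCoh.top S) :=
    (Over.homMk ξ (Category.comp_id _) : Over.mk ξ ⟶ (Scheme.Etale.forget S).obj (EtCoh.top S))
  have h1 : Φ.toPresheafFiber (EtCoh.top S) x₀ O.obj 1 = Φ.toPresheafFiber (EtCoh.top S) x₀ O.obj 0 :=
    @Subsingleton.elim _ h0 _ _
  obtain ⟨U, g, y, hy, hg⟩ := (Φ.toPresheafFiber_eq_iff' _ _ _ _).mp h1
  rw [map_one, map_zero] at hg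
  haveI : Etale U.hom := U.prop
  let q : U.left ⟶ S := U.hom
  refine ⟨Set.range q, fun t ht => ?_, q.isOpenMap.isOpen_range, ?_⟩
  · rintro ⟨Ω', _, _, η, hη, hnt⟩
    obtain ⟨u, hu⟩ := ht
    obtain ⟨z, -⟩ := Scheme.pointSmallEtaleFiberObjToPreimage_surjective η hη U ⟨u, hu⟩
    have := congrArg ((Scheme.pointSmallEtale η).toPresheafFiber U z O.obj) hg
    rw [map_one, map_zero] at this
    exact one_ne_zero this
  · let y' : Over.mk ξ ⟶ (Scheme.Etale.forget S).obj U := y
    let pt : Spec (CommRingCat.of Ω) := default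
    exact ⟨y'.left pt, (congr($(Over.w y') pt)).trans hξ⟩

end Groth.Agent.S6648
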