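import Groth.Statements.S6649
import Groth.Agent.CurveFF.Basic
import Groth.Agent.S0212
import Groth.Agent.CiField.Brauer

set_option autoImplicit false
open CategoryTheory CategoryTheory.Limits AlgebraicGeometry Opposite
universe u
open Curves

namespace Groth.Agent.S6649

/-- For a curve C over an algebraically closed field k (C integral of dimension one, separated and of
finite type over k) the Brauer group of the function field of C is zero: every finite-dimensional
central division algebra over the function field has dimension one. -/
theorem result (k : Type u) [Field k] [IsAlgClosed k] (C : Scheme.{u})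
    (f : C ⟶ Spec (CommRingCat.of k)) [IsSeparated f] [LocallyOfFiniteType f] [QuasiCompact f] [IsIntegral C]
    (hdim : topologicalKrullDim ↥C = 1)
    (D : Type u) [DivisionRing D] [Algebra ↑C.functionField D] [Algebra.IsCentral ↑C.functionField D]
    [FiniteDimensional ↑C.functionField D] : Module.finrank ↑C.functionField D = 1 := by
  letI := Groth.Agent.CurveFF.ffAlg f
  letI := (Groth.Agent.WeilLib.kStr f (genericPoint C)).toAlgebra
  let e : C.functionField ≃ₐ[k] C.residueField (genericPoint C) :=
    AlgEquiv.ofRingEquiv (f := RingEquiv.ofBijective
      (C.residue (genericPoint C)).hom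
      ⟨(C.residue (genericPoint C)).hom.injective, IsLocalRing.residue_surjective⟩) fun c => rfl
  have hp : WeilCoh.pdim C (genericPoint C) = 1 := by
    rw [WeilCoh.pdim, genericPoint_closure, BMCoh.natDim_eq_of_homeomorph (Homeomorph.Set.univ _),
      WeilCoh.natDim, hdim]
    rfl
  have htr : Algebra.trdeg k C.functionField = (1 : ℕ) := by
    have h := (Groth.Agent.WeilLib.exists_pdim_eq_trd f (genericPoint C)).1
    rw [hp] at h
    exact e.trdeg_eq.trans h
  refine Groth.Agent.CiField.finrank_eq_one_of_isCr_one ?_ D
  intro n d p hp' hd hlt
  obtain ⟨a, ha, hev⟩ := Groth.Agent.S0212.result k C.functionField 1 htr 1 n (fun _ => p) (fun _ => d)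
    (fun _ => hp') (fun _ => hd) (by simpa using hlt)
  exact ⟨a, ha, hev 0⟩

end Groth.Agent.S6649
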