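import Groth.Statements.S6652
import Groth.Agent.EtProFin.Main

set_option autoImplicit false
open CategoryTheory CategoryTheory.Limits AlgebraicGeometry Opposite
universe u
open EtCore

set_option backward.isDefEq.respectTransparency false
set_option backward.isDefEq.respectTransparency.types false
set_option linter.style.haveILetI false

namespace Groth.Agent.S6652

/-- Let ℓ be a prime, n > 0, S a quasi-compact quasi-separated scheme and X the limit (in schemes over
S) of a nonempty directed inverse system of S-schemes X_i, each finite etale over S with all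
geometric fibres of one cardinality d_i prime to ℓ; let g : X ⟶ S be the structure morphism. Call an
abelian sheaf ℓ-power torsion when every section is, etale locally around every point, killed by a
power of ℓ (the predicate T below, pinned by hT). Then for an ℓ-power torsion G on S_etale with
H^n(S, G) nonzero, g⁻¹G is ℓ-power torsion with H^n(X, g⁻¹G) nonzero; and for an ℓ-power torsion F
on X_etale with H^n(X, F) nonzero, g_*F is ℓ-power torsion with H^n(S, g_*F) nonzero. (The published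
statement is the equivalence of the two nonvanishing conditions; this row states it through the
explicit sheaves g⁻¹G and g_*F.) -/
theorem result (ℓ : ℕ) [Fact ℓ.Prime] (n : ℕ) (hn : 0 < n)
    (T : ∀ (Y : Scheme.{u}), EtCoh.Ab Y → Prop)
    (hT : ∀ (Y : Scheme.{u}) (G : EtCoh.Ab Y), T Y G ↔
      ∀ (U : Y.Etale) (s : EtCoh.sect G U) (y : ↥U.left), ∃ (V : Y.Etale) (φ : V ⟶ U),
        (∃ v : ↥V.left, φ.left.base v = y) ∧ ∃ m : ℕ, (ℓ ^ m) • G.obj.map φ.op s = 0)
    (S : Scheme.{u}) [CompactSpace ↥S] [QuasiSeparatedSpace ↥S]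
    {ι : Type u} [Preorder ι] [IsDirected ι (· ≤ ·)] [Nonempty ι] (Xs : ιᵒᵖ ⥤ Over S)
    (hfin : ∀ i, IsFinite (Xs.obj i).hom) (het : ∀ i, AlgebraicGeometry.Etale (Xs.obj i).hom)
    (d : ιᵒᵖ → ℕ) (hd : ∀ i, ℓ.Coprime (d i))
    (hdeg : ∀ (i : ιᵒᵖ) (Ω : Type u) [Field Ω] [IsAlgClosed Ω] (η : Spec (CommRingCat.of Ω) ⟶ S),
      Nat.card {t : Spec (CommRingCat.of Ω) ⟶ (Xs.obj i).left // t ≫ (Xs.obj i).hom = η} = d i)
    (c : Cone Xs) (hc : IsLimit c) :
    (∀ G : EtCoh.Ab S, T S G → Nontrivial (EtCoh.H S G n) →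
      T c.pt.left ((EtCoh.pull c.pt.hom).obj G) ∧ Nontrivial (EtCoh.H c.pt.left ((EtCoh.pull c.pt.hom).obj G) n)) ∧
    (∀ F : EtCoh.Ab c.pt.left, T c.pt.left F → Nontrivial (EtCoh.H c.pt.left F n) →
      T S ((EtCoh.push c.pt.hom).obj F) ∧ Nontrivial (EtCoh.H S ((EtCoh.push c.pt.hom).obj F) n)) := by
  have hℓ : ℓ.Prime := Fact.out
  have hT' : ∀ (Y : Scheme.{u}) (G : EtCoh.Ab Y), T Y G ↔ EtAcyc.IsLTorsion {ℓ} G := by
    intro Y G
    rw [hT]
    constructor
    · intro h U s y
      obtain ⟨V, φ, hv, m, hm⟩ := h U s y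
      exact ⟨V, φ, ℓ ^ m, hv, ⟨pow_pos hℓ.pos m, fun p hp hpm =>
        (Nat.prime_dvd_prime_iff_eq hp hℓ).1 (hp.dvd_of_dvd_pow hpm)⟩, hm⟩
    · intro h U s y
      obtain ⟨V, φ, m, hv, hm, h0⟩ := h U s y
      refine ⟨V, φ, hv, m.factorization ℓ, ?_⟩
      have e : ℓ ^ (m.factorization ℓ) = m :=
        (Nat.eq_pow_of_factorization_eq_single hm.1.ne' (Finsupp.support_subset_singleton.1 (fun p hp => by
          rw [Nat.support_factorization, Nat.mem_primeFactors] at hp
          exact Finset.mem_singleton.2 (hm.2 p hp.1 hp.2.1)))).symm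
      rw [e]
      exact h0
  let D := Xs ⋙ Over.forget S
  let c' : Cone D := (Over.forget S).mapCone c
  haveI : IsConnected ιᵒᵖ := IsCofiltered.isConnected _
  have hc' : IsLimit c' := isLimitOfPreserves (Over.forget S) hc
  have hD : ∀ {i j : ιᵒᵖ} (f : i ⟶ j), D.map f ≫ (Xs.obj j).hom = (Xs.obj i).hom := fun f => Over.w (Xs.map f)
  have hg : ∀ i, c'.π.app i ≫ (Xs.obj i).hom = c.pt.hom := fun i => Over.w (c.π.app i)
  haveI : ∀ i, IsIntegralHom ((Xs.obj i).hom) := fun i => haveI := hfin i; inferInstance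
  haveI : ∀ {i j : ιᵒᵖ} (f : i ⟶ j), IsAffineHom (D.map f) := fun {i j} f => by
    haveI := hfin i
    haveI := hfin j
    haveI : IsFinite (D.map f ≫ (Xs.obj j).hom) := by rw [hD]; exact hfin i
    haveI : IsFinite (D.map f) := IsFinite.of_comp (D.map f) ((Xs.obj j).hom)
    infer_instance
  haveI hint : IsIntegralHom c.pt.hom :=
    EtProFin.isIntegralHom_limit D c' hc' (fun i => (Xs.obj i).hom) c.pt.hom hg hD
  haveI : CompactSpace ↥c.pt.left := QuasiCompact.compactSpace_of_compactSpace c.pt.hom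
  haveI : QuasiSeparatedSpace ↥c.pt.left := quasiSeparatedSpace_of_quasiSeparated c.pt.hom
  haveI := EtPullExact.pull_preservesFiniteLimits c.pt.hom
  constructor
  · intro G hG hne
    refine ⟨(hT' _ _).2 (EtAcycX.isLTorsion_pull c.pt.hom ((hT' _ _).1 hG)), ?_⟩
    obtain ⟨x, hx⟩ := exists_ne (0 : EtCoh.H S G n)
    exact nontrivial_of_ne (EtCore.Hpull c.pt.hom G n x) 0 fun h => hx
      (EtProFin.Hpull_limit_injective D c' hc' (fun i => (Xs.obj i).hom) hD hfin het c.pt.hom hg hℓ d hd hdeg G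
        ((hT' _ _).1 hG) n x h)
  · intro F hF hne
    refine ⟨(hT' _ _).2 (EtAcycX.isLTorsion_push (p := c.pt.hom) ((hT' _ _).1 hF)), ?_⟩
    have hb := EtMV.HofPush_bijective c.pt.hom F (fun k => EtIntegral.Rpush_succ_isZero c.pt.hom F k) n
    obtain ⟨y, hy⟩ := exists_ne (0 : EtCoh.H c.pt.left F n)
    obtain ⟨x, rfl⟩ := hb.2 y
    exact nontrivial_of_ne x 0 fun h => hy (by rw [h, map_zero])

end Groth.Agent.S6652
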