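import Groth.Statements.S6653
import Groth.Agent.EtDivSeq.Regular
import Groth.Agent.EtPBC.Curve
import Groth.Agent.RegDual.Scheme
import Groth.Agent.SmLocalST.SmoothField

set_option autoImplicit false
open CategoryTheory CategoryTheory.Limits AlgebraicGeometry Opposite
universe u
open Curves

namespace Groth.Agent.S6653

/-- The fundamental exact sequence: with the divisor map left unnamed: let X be a smooth curve over an
algebraically closed field k (here: X integral of dimension one, smooth, separated and of finite
type over k), let j : Spec O_{X,η} ⟶ X be the canonical morphism from the spectrum of the local ring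
at the generic point, and for a closed point x let i_x : Spec κ(x) ⟶ X be its inclusion. Then the
canonical map G_{m,X} ⟶ j_* G_{m,η} is a monomorphism, and its cokernel is isomorphic to the direct
sum over all closed points of the sheaves (i_x)_* Z (existence of an isomorphism only; the direct
sum is given as any colimit cofan of that family). -/
theorem result (k : Type u) [Field k] [IsAlgClosed k] (X : Scheme.{u})
    (f : X ⟶ Spec (CommRingCat.of k)) [Smooth f] [IsSeparated f] [LocallyOfFiniteType f] [QuasiCompact f] [IsIntegral X]
    (hdim : topologicalKrullDim ↥X = 1)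
    (c : Cofan fun x : {x : ↥X // IsClosed ({x} : Set ↥X)} =>
      (EtCoh.push (X.fromSpecResidueField x.1)).obj (EtCoh.const (Spec (X.residueField x.1)) ℤ))
    (hc : IsColimit c) :
    Mono (EtLim.GmPush (X.fromSpecStalk (genericPoint ↥X))) ∧
      Nonempty (cokernel (EtLim.GmPush (X.fromSpecStalk (genericPoint ↥X))) ≅ c.pt) := by
  haveI : IsLocallyNoetherian X := LocallyOfFiniteType.isLocallyNoetherian f
  haveI : CompactSpace X := QuasiCompact.compactSpace_of_compactSpace f
  haveI : IsNoetherian X := {}
  have hfact := Groth.Agent.EtDivSeq.etFact_of_regular
    (fun x => Groth.Agent.SmLocalST.isRegularLocalRing_stalk_of_smooth_field f x)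
  refine ⟨Groth.Agent.EtDivSeq.mono_gmUnit_generic hfact, ?_⟩
  refine Groth.Agent.EtDivSeq.nonempty_iso_of_iff hfact _ (fun x => ?_) c hc
  have h0 : Order.coheight (genericPoint X) = 0 := Order.coheight_eq_zero.2 fun y _ =>
    (genericPoint_spec X).specializes (Set.mem_univ y)
  constructor
  · intro hx
    have h1 : Order.coheight x ≤ 1 := by
      have h := (Groth.Agent.RegDual.ringKrullDim_stalk_le_topologicalKrullDim x).trans hdim.le
      rw [ringKrullDim_stalk_eq_coheight] at h
      exact WithBot.coe_le_coe.1 h
    refine le_antisymm h1 (Order.one_le_iff_pos.2 (pos_iff_ne_zero.2 fun h => ?_))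
    have hg : x = genericPoint X := (Specializes.antisymm
      (Order.coheight_eq_zero.1 h ((genericPoint_spec X).specializes (Set.mem_univ x)))
      ((genericPoint_spec X).specializes (Set.mem_univ x))).eq
    have huniv : ({x} : Set X) = Set.univ := by
      rw [← hx.closure_eq, hg]; exact genericPoint_spec X
    haveI : Subsingleton X := ⟨fun a b => (Set.eq_univ_iff_forall.1 huniv a).trans (Set.eq_univ_iff_forall.1 huniv b).symm⟩
    have : topologicalKrullDim X ≤ 0 := topologicalKrullDim_zero_of_discreteTopology X
    rw [hdim] at this
    exact absurd this (by decide)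
  · intro hx
    by_contra hc'
    have hg := Groth.Agent.EtPBC.isMaxPt_of_not_closed hdim.le hc' (genericPoint X)
      ((genericPoint_spec X).specializes (Set.mem_univ x))
    rw [← hg, h0] at hx
    exact zero_ne_one hx

end Groth.Agent.S6653
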