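import Groth.Statements.S6655
import Groth.Agent.EtTrivGen.LocalHom

set_option autoImplicit false
open CategoryTheory CategoryTheory.Limits AlgebraicGeometry Opposite
universe u
open EtModW

set_option backward.isDefEq.respectTransparency false


namespace Groth.Agent.S6655

/-- Part (3): with both sheaves of finite type: let Λ be a commutative ring and φ : F ⟶ G a map of
finite type locally constant sheaves of Λ-modules on the small etale site of a scheme X. Then on the
members of some etale covering of X the restriction of φ is, up to isomorphisms with constant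
sheaves on both sides, the map of constant sheaves induced by a Λ-linear map. (The published
statement allows G to be any locally constant sheaf of Λ-modules; this row assumes G of finite type
as well.) -/
theorem result (Λ : Type (u + 1)) [CommRing Λ] {X : Scheme.{u}} (F G : EtModW.Mod Λ X)
    (φ : F ⟶ G) (hF : EtModW.IsFTLocConst Λ F) (hG : EtModW.IsFTLocConst Λ G) :
    ∃ (ι : Type u) (U : ι → X.Etale), EtCoh.Covers U ∧ ∀ i, ∃ (M N : Type (u + 1)) (_ : AddCommGroup M) (_ : AddCommGroup N)
      (_ : Module Λ M) (_ : Module Λ N) (h : M →ₗ[Λ] N)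
      (α : EtModW.restr Λ F (U i) ≅ (constantSheaf (X.smallEtaleTopology.over (U i)) (ModuleCat.{u + 1} Λ)).obj (ModuleCat.of Λ M))
      (β : EtModW.restr Λ G (U i) ≅ (constantSheaf (X.smallEtaleTopology.over (U i)) (ModuleCat.{u + 1} Λ)).obj (ModuleCat.of Λ N)),
      (X.smallEtaleTopology.overPullback (ModuleCat.{u + 1} Λ) (U i)).map φ ≫ β.hom =
        α.hom ≫ (constantSheaf (X.smallEtaleTopology.over (U i)) (ModuleCat.{u + 1} Λ)).map (ModuleCat.ofHom h) := by
  have hx : ∀ x : X, ∃ (U : X.Etale), (∃ u₀ : U.left, U.hom.base u₀ = x) ∧ ∃ (M N : Type (u + 1))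
      (_ : AddCommGroup M) (_ : AddCommGroup N) (_ : Module Λ M) (_ : Module Λ N) (h : M →ₗ[Λ] N)
      (α : EtModW.restr Λ F U ≅ (constantSheaf (X.smallEtaleTopology.over U) (ModuleCat.{u + 1} Λ)).obj (ModuleCat.of Λ M))
      (β : EtModW.restr Λ G U ≅ (constantSheaf (X.smallEtaleTopology.over U) (ModuleCat.{u + 1} Λ)).obj (ModuleCat.of Λ N)),
      (X.smallEtaleTopology.overPullback (ModuleCat.{u + 1} Λ) U).map φ ≫ β.hom =
        α.hom ≫ (constantSheaf (X.smallEtaleTopology.over U) (ModuleCat.{u + 1} Λ)).map (ModuleCat.ofHom h) := fun x => by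
    obtain ⟨Ω, _, _, ξ, -, hξ⟩ := EtStalk.covers_all (X := X) x
    obtain ⟨V, y, M, N, _, _, _, _, _, _, σ, τ, f, hσ, hτ, hf⟩ := EtTrivGen.exists_model φ hF hG Ω ξ
    let y' : Over.mk ξ ⟶ (Scheme.Etale.forget X).obj V := y
    refine ⟨V, ⟨y'.left (default : Spec (CommRingCat.of Ω)), ?_⟩, M, N, inferInstance, inferInstance,
      inferInstance, inferInstance, f, ?_⟩
    · rw [← hξ]
      exact congrArg (fun t : Spec (CommRingCat.of Ω) ⟶ X => t default) (Over.w y')
    haveI := EtTrivGen.isIso_constHom (σ := ModuleCat.ofHom σ) hσ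
    haveI := EtTrivGen.isIso_constHom (σ := ModuleCat.ofHom τ) hτ
    refine ⟨(asIso (EtTrivGen.constHom (ModuleCat.ofHom σ))).symm,
      (asIso (EtTrivGen.constHom (ModuleCat.ofHom τ))).symm, ?_⟩
    rw [← cancel_epi (EtTrivGen.constHom (ModuleCat.ofHom σ))]
    simp only [Iso.symm_hom, asIso_inv, IsIso.hom_inv_id_assoc]
    rw [← Category.assoc, IsIso.comp_inv_eq]
    exact EtTrivGen.constHom_comp φ _ _ _ (by ext m; exact hf m)
  choose U hU hM using hx
  exact ⟨X, U, fun x => ⟨x, hU x⟩, hM⟩


end Groth.Agent.S6655
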