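import Groth.Statements.S6660
import Groth.Agent.EtBCQ.Chase

set_option autoImplicit false
universe u
open CategoryTheory CategoryTheory.Limits AlgebraicGeometry Opposite
open EtBC

set_option backward.isDefEq.respectTransparency false
set_option linter.style.haveILetI false
attribute [local instance 300000] CategoryTheory.Preadditive.preadditiveHasZeroMorphisms CategoryTheory.Abelian.toPreadditive

namespace Groth.Agent.S6660

/-- Let f : X → S be a morphism of schemes and n, q integers with q ≥ 1, and assume BC(f, n, q − 1).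
Here BC(f, n, q − 1) means: for every base change f₁ : X₁ → S₁ of f along a morphism S₁ → S, every
cartesian square Y₁ = X₁ ×_{S₁} T₁ over a quasi-compact quasi-separated g₁ : T₁ → S₁ (with h₁ : Y₁ →
X₁, e₁ : Y₁ → T₁), and every abelian sheaf G on the small etale site of T₁ killed by n, the base
change map f₁⁻¹ R^a g₁,_* G → R^a h₁,_* e₁⁻¹ G is an isomorphism for all a ≤ q − 1. Then for every
base change f' : X' → S' of f, every cartesian square Y = X' ×_{S'} T over a quasi-compact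
quasi-separated g : T → S' (h : Y → X', e : Y → T) and every abelian sheaf F on the small etale site
of T killed by n: (1) the degree-q base change map f'⁻¹ R^q g_* F → R^q h_* e⁻¹ F is a monomorphism;
(2) for every monomorphism F → G with G killed by n, the map from the cokernel of the degree-q base
change map for F to the cokernel of the one for G induced by F → G is a monomorphism. -/
theorem result {X S : Scheme.{u}} (f : X ⟶ S) (n q : ℕ) (hq : 1 ≤ q)
    (hBC : (∀ ⦃S₁ X₁ T₁ Y₁ : Scheme.{u}⦄ (p₁ : S₁ ⟶ S) (f₁ : X₁ ⟶ S₁) (r₁ : X₁ ⟶ X),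
        IsPullback r₁ f₁ f p₁ →
        ∀ (g₁ : T₁ ⟶ S₁) (h₁ : Y₁ ⟶ X₁) (e₁ : Y₁ ⟶ T₁) (c₁ : IsPullback e₁ h₁ g₁ f₁)
          [QuasiCompact g₁] [QuasiSeparated g₁] [PreservesFiniteLimits (EtCoh.pull e₁)]
          (G₁ : EtCoh.Ab T₁), EtCoh.KilledBy n G₁ →
          ∀ q₁ : ℕ, q₁ ≤ q - 1 → IsIso (EtBC.bcQ g₁ f₁ h₁ e₁ c₁.w q₁ G₁)))
    {S' X' T Y : Scheme.{u}} (p : S' ⟶ S) (f' : X' ⟶ S') (r : X' ⟶ X) (hX : IsPullback r f' f p)
    (g : T ⟶ S') (h : Y ⟶ X') (e : Y ⟶ T) (c : IsPullback e h g f') [QuasiCompact g] [QuasiSeparated g]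
    [PreservesFiniteLimits (EtCoh.pull e)] (F : EtCoh.Ab T) (hF : EtCoh.KilledBy n F) :
    Mono (EtBC.bcQ g f' h e c.w q F) ∧
      ∀ (G : EtCoh.Ab T) (ι : F ⟶ G) [Mono ι], EtCoh.KilledBy n G →
        ∃ φ : cokernel (EtBC.bcQ g f' h e c.w q F) ⟶ cokernel (EtBC.bcQ g f' h e c.w q G), Mono φ ∧
          cokernel.π (EtBC.bcQ g f' h e c.w q F) ≫ φ =
            (EtCoh.Rpush h q).map ((EtCoh.pull e).map ι) ≫ cokernel.π (EtBC.bcQ g f' h e c.w q G) := by
  haveI : QuasiCompact h := MorphismProperty.of_isPullback (P := @QuasiCompact) c ‹_›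
  haveI : QuasiSeparated h := MorphismProperty.of_isPullback (P := @QuasiSeparated) c ‹_›
  obtain ⟨k, rfl⟩ : ∃ k, q = k + 1 := ⟨q - 1, by omega⟩
  have hbij : ∀ (M : EtCoh.Ab T), EtCoh.KilledBy n M → ∀ l : EtBCQ.Loc f' g h e, Function.Bijective (l.r M k) :=
    fun M hM l => l.bijective_r c.w M k (hBC p f' r hX g h e c M hM k (by omega))
  have hinj : ∀ (M : EtCoh.Ab T), EtCoh.KilledBy n M → ∀ l : EtBCQ.Loc f' g h e,
      Function.Injective (l.r M (k + 1)) := by
    intro M hM l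
    obtain ⟨S', hS', rfl, h2, h3, hvan⟩ := EtBCQ.exists_hull f' g h e M n hM
    exact EtBCQ.injective_succ _ _ _ _ _ hS' k (hvan l k) (hbij _ h2 l).2 (hbij _ h3 l).1
  refine ⟨EtBCQ.mono_bcQ c.w c F (k + 1) (hinj F hF), fun G ι _ hG => ?_⟩
  let S' : ShortComplex (EtCoh.Ab T) := ShortComplex.mk ι (cokernel.π ι) (cokernel.condition ι)
  have hS' : S'.ShortExact :=
    { exact := ShortComplex.exact_of_g_is_cokernel _ (cokernelIsCokernel ι)
      mono_f := ‹_›
      epi_g := inferInstanceAs (Epi (cokernel.π ι)) }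
  have h3 : EtCoh.KilledBy n S'.X₃ := EtBCQ.killedBy_of_epi (cokernel.π ι) n hG
  exact EtBCQ.exists_map_cokernel c.w c hS' k (fun l => (hbij _ h3 l).2) (hinj _ h3)

end Groth.Agent.S6660
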