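import Groth.Statements.S6666
import Groth.Agent.LimPoint.Basic

set_option autoImplicit false
universe u
open CategoryTheory AlgebraicGeometry
open Lim

set_option backward.isDefEq.respectTransparency false
set_option linter.style.haveILetI false

namespace Groth.Agent.S6666

open TopologicalSpace

/-- a generic point of a component -/
theorem exists_max_point (W : Scheme.{u}) [Nonempty W] : ∃ x : W, ∀ y : W, y ⤳ x → y = x := by
  obtain ⟨z⟩ := ‹Nonempty W›
  obtain ⟨x, hx⟩ := QuasiSober.sober (α := (W : Type u)) isIrreducible_irreducibleComponent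
    (isClosed_irreducibleComponent (x := z))
  refine ⟨x, fun y hy => ?_⟩
  have h1 : irreducibleComponent z ≤ closure {y} := by
    rw [← hx.def]
    exact closure_minimal (by simpa [specializes_iff_mem_closure] using hy) isClosed_closure
  have h2 := (irreducibleComponent_mem_irreducibleComponents z).2 isIrreducible_singleton.closure h1
  exact (IsGenericPoint.eq (isGenericPoint_closure (x := y)) (le_antisymm h1 h2 ▸ hx)) 

/-- Let T be a nonempty quasi-compact quasi-separated scheme and P a property of schemes over T (applied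
to quasi-compact quasi-separated ones). Assume: (1) for every thickening T'' → T' (a surjective
closed immersion) of quasi-compact quasi-separated schemes over T, P(T'') if and only if P(T'); (2)
if a scheme T' over T is a limit (in schemes over T) of a cofiltered system of quasi-compact
quasi-separated schemes over T with affine transition morphisms and P holds for every member, then
P(T'); (3) if T' is quasi-compact quasi-separated over T with P(T') and Z ⊂ T' is a closed subscheme
whose open complement V is quasi-compact, then P(V) or P(Z). Then P(T) implies P(Spec K → T) for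
some field K and some morphism Spec K → T. (The published statement does not require T nonempty; for
T empty and P identically true there is no morphism from the spectrum of a field to T, so
nonemptiness is assumed here.) -/
theorem result (T : Scheme.{u}) [CompactSpace T] [QuasiSeparatedSpace T]
    [Nonempty T] (P : ∀ ⦃T' : Scheme.{u}⦄, (T' ⟶ T) → Prop)
    (h1 : ∀ ⦃T' T'' : Scheme.{u}⦄ (a : T' ⟶ T) (t : T'' ⟶ T') [IsClosedImmersion t] [Surjective t]
      [CompactSpace T'] [QuasiSeparatedSpace T'] [CompactSpace T''] [QuasiSeparatedSpace T''], P (t ≫ a) ↔ P a)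
    (h2 : ∀ ⦃I : Type u⦄ [SmallCategory I] [IsCofiltered I] (D : I ⥤ Over T) (c : Limits.Cone D) (_ : Limits.IsLimit c),
      (∀ (i j : I) (m : i ⟶ j), IsAffineHom (D.map m).left) →
      (∀ i, CompactSpace (D.obj i).left ∧ QuasiSeparatedSpace (D.obj i).left) →
      (∀ i, P (D.obj i).hom) → P c.pt.hom)
    (h3 : ∀ ⦃T' Z V : Scheme.{u}⦄ (a : T' ⟶ T) [CompactSpace T'] [QuasiSeparatedSpace T'] (i : Z ⟶ T') [IsClosedImmersion i]
      (j : V ⟶ T') [IsOpenImmersion j] [CompactSpace V], Set.range j = (Set.range i)ᶜ → P a → P (j ≫ a) ∨ P (i ≫ a))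
    (hT : P (𝟙 T)) :
    ∃ (K : Type u) (_ : Field K) (t : Spec (CommRingCat.of K) ⟶ T), P t := by
  classical
  have hcl : ∀ {W : Scheme.{u}} (a : W ⟶ T) [IsClosedImmersion a], CompactSpace W ∧ QuasiSeparatedSpace W :=
    fun a _ => ⟨QuasiCompact.compactSpace_of_compactSpace a, quasiSeparatedSpace_of_quasiSeparated a⟩
  have key : ∀ (C : Closeds T) {W : Scheme.{u}} (a : W ⟶ T) [IsClosedImmersion a], Set.range a = (C : Set T) → P a →
      P (Scheme.IdealSheafData.vanishingIdeal C).subschemeι := by
    intro C W a _ hrange hP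
    let b := (Scheme.IdealSheafData.vanishingIdeal C).subschemeι
    have hle : a.ker ≤ b.ker := by
      rw [Scheme.IdealSheafData.ker_subschemeι, ← Scheme.IdealSheafData.le_support_iff_le_vanishingIdeal]
      exact fun y hy => a.range_subset_ker_support (hrange.ge hy)
    let t := IsClosedImmersion.lift a b hle
    have ht : t ≫ a = b := IsClosedImmersion.lift_fac _ _ _
    haveI : IsClosedImmersion (t ≫ a) := by rw [ht]; infer_instance
    haveI : IsClosedImmersion t := IsClosedImmersion.of_comp t a
    haveI : Surjective t := ⟨fun y => by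
      have hy : a y ∈ Set.range b := by
        rw [Scheme.IdealSheafData.range_subschemeι, Scheme.IdealSheafData.coe_support_vanishingIdeal]
        exact hrange.le ⟨y, rfl⟩
      obtain ⟨w, hw⟩ := hy
      exact ⟨w, a.isClosedEmbedding.injective ((congrArg (fun g : _ ⟶ T => g w) ht).trans hw)⟩⟩
    obtain ⟨_, _⟩ := hcl a
    obtain ⟨_, _⟩ := hcl b
    have hP' := (h1 a t).2 hP
    rw [ht] at hP'
    exact hP'
  let 𝒮 : Set (Set T) := {C | ∃ h : IsClosed C, C.Nonempty ∧ P (Scheme.IdealSheafData.vanishingIdeal ⟨C, h⟩).subschemeι}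
  have huniv : Set.univ ∈ 𝒮 := ⟨isClosed_univ, Set.univ_nonempty, key _ (𝟙 T) (by simp) hT⟩
  obtain ⟨Z, hZ⟩ : ∃ Z, Minimal (· ∈ 𝒮) Z := by
    refine zorn_superset 𝒮 fun c hc hchain => ?_
    obtain rfl | hne := c.eq_empty_or_nonempty
    · exact ⟨Set.univ, huniv, fun s hs => absurd hs (Set.notMem_empty s)⟩
    let ι := OrderDual ↥c
    haveI : Nonempty ι := hne.to_subtype
    haveI : IsDirectedOrder ι := ⟨fun i j => by
      rcases hchain.total (OrderDual.ofDual i).2 (OrderDual.ofDual j).2 with h | h
      · exact ⟨i, le_rfl, h⟩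
      · exact ⟨j, h, le_rfl⟩⟩
    let C : ι → Closeds T := fun i => ⟨(OrderDual.ofDual i).1, (hc (OrderDual.ofDual i).2).1⟩
    let J : ι → T.IdealSheafData := fun i => Scheme.IdealSheafData.vanishingIdeal (C i)
    have hJ : Monotone J := fun i j hij => by
      rw [← Scheme.IdealSheafData.le_support_iff_le_vanishingIdeal]
      intro y hy
      have hy' : y ∈ (C i : Set T) := hij hy
      rw [← Scheme.IdealSheafData.coe_support_vanishingIdeal (C i)] at hy'
      exact hy'
    have hP := h2 (LimPoint.closedSys hJ) (LimPoint.closedSysCone hJ) (LimPoint.isLimitClosedSys hJ)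
      (fun i j m => by haveI := LimPoint.isClosedImmersion_closedSys_map hJ m; infer_instance)
      (fun i => hcl ((LimPoint.closedSys hJ).obj i).hom) (fun i => (hc (OrderDual.ofDual i.unop).2).2.2)
    let I : Set T := ⋂ i : ι, (C i : Set T)
    have hI : IsClosed I := isClosed_iInter fun i => (C i).isClosed
    have hIne : I.Nonempty := IsCompact.nonempty_iInter_of_directed_nonempty_isCompact_isClosed _
      (fun i j => let ⟨k, hik, hjk⟩ := exists_ge_ge i j; ⟨k, hik, hjk⟩)
      (fun i => (hc (OrderDual.ofDual i).2).2.1) (fun i => (C i).isClosed.isCompact) (fun i => (C i).isClosed)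
    refine ⟨I, ⟨hI, hIne, key ⟨I, hI⟩ (⨆ i, J i).subschemeι ?_ hP⟩, fun s hs => Set.iInter_subset _ (OrderDual.toDual (⟨s, hs⟩ : ↥c))⟩
    rw [Scheme.IdealSheafData.range_subschemeι, Scheme.IdealSheafData.support_iSup, Closeds.coe_iInf]
    exact Set.iInter_congr fun i => Scheme.IdealSheafData.coe_support_vanishingIdeal (C i)
  obtain ⟨hZc, hZne, hPZ⟩ := hZ.prop
  let W := (Scheme.IdealSheafData.vanishingIdeal ⟨Z, hZc⟩).subscheme
  let a : W ⟶ T := (Scheme.IdealSheafData.vanishingIdeal ⟨Z, hZc⟩).subschemeι
  have hra : Set.range a = Z := by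
    rw [Scheme.IdealSheafData.range_subschemeι, Scheme.IdealSheafData.coe_support_vanishingIdeal]
    rfl
  obtain ⟨_, _⟩ := hcl a
  haveI : Nonempty W := by
    obtain ⟨z, hz⟩ := hZne
    obtain ⟨w, -⟩ := hra.ge hz
    exact ⟨w⟩
  obtain ⟨x, hx⟩ := exists_max_point W
  have hV : ∀ V : LimPoint.AffNbhd x, P (V.2.1.fromSpec ≫ a) := fun V => by
    by_cases htop : V.1 = ⊤
    · haveI : IsIso V.2.1.fromSpec := by
        haveI : Epi V.2.1.fromSpec.base := by
          rw [TopCat.epi_iff_surjective, ← Set.range_eq_univ]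
          exact V.2.1.range_fromSpec.trans (congrArg (fun U : W.Opens => (U : Set W)) htop)
        exact IsOpenImmersion.isIso _
      haveI : CompactSpace (Spec Γ(W, V.1)) := inferInstance
      exact (h1 a V.2.1.fromSpec).2 hPZ
    · let R : Closeds W := ⟨(V.1 : Set W)ᶜ, V.1.2.isClosed_compl⟩
      let i := (Scheme.IdealSheafData.vanishingIdeal R).subschemeι
      have hri : Set.range i = (V.1 : Set W)ᶜ := by
        rw [Scheme.IdealSheafData.range_subschemeι, Scheme.IdealSheafData.coe_support_vanishingIdeal]
        rfl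
      refine (h3 a i V.2.1.fromSpec (by rw [hri, compl_compl]; exact V.2.1.range_fromSpec) hPZ).resolve_right fun hbad => ?_
      have hrange : Set.range (i ≫ a) = a '' (V.1 : Set W)ᶜ := by
        rw [← hri, ← Set.range_comp]
        rfl
      have hcC : IsClosed (a '' (V.1 : Set W)ᶜ) := a.isClosedEmbedding.isClosedMap _ V.1.2.isClosed_compl
      have hnon : (a '' (V.1 : Set W)ᶜ).Nonempty := by
        refine Set.Nonempty.image _ (Set.nonempty_compl.2 fun h => htop (TopologicalSpace.Opens.ext h))
      have hle : a '' (V.1 : Set W)ᶜ ⊆ Z := (Set.image_subset_range _ _).trans hra.le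
      have hge := hZ.le_of_le ⟨hcC, hnon, key ⟨_, hcC⟩ (i ≫ a) hrange hbad⟩ hle
      obtain ⟨w, hw, hwx⟩ := hge (hra.le ⟨x, rfl⟩)
      exact hw (a.isClosedEmbedding.injective hwx ▸ V.2.2)
  have hPx := h2 (LimPoint.overDiagram x a) (LimPoint.overCone x a) (LimPoint.isLimitOverCone x a)
    (fun V V' m => inferInstanceAs (IsAffineHom (Spec.map _))) (fun V => ⟨inferInstanceAs (CompactSpace (Spec _)),
      inferInstanceAs (QuasiSeparatedSpace (Spec _))⟩) hV
  let r := Spec.map (W.residue x)
  haveI : IsClosedImmersion r := IsClosedImmersion.spec_of_surjective _ (W.residue_surjective x)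
  haveI : Surjective r := ⟨fun p => by
    obtain ⟨q⟩ : Nonempty (Spec (W.residueField x)) := inferInstance
    refine ⟨q, (W.fromSpecStalk x).isEmbedding.injective ?_⟩
    have h' : ∀ p, W.fromSpecStalk x p = x := fun p => hx _ (W.range_fromSpecStalk.le ⟨p, rfl⟩)
    rw [h', h']⟩
  exact ⟨W.residueField x, inferInstance, r ≫ W.fromSpecStalk x ≫ a, (h1 (W.fromSpecStalk x ≫ a) r).2 hPx⟩

end Groth.Agent.S6666
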