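import Groth.Statements.S6667
import Groth.Agent.EtBCQ.Crit
-- import your own Groth.Agent.* helpers here

set_option autoImplicit false
universe u
open CategoryTheory CategoryTheory.Limits AlgebraicGeometry Opposite
open EtBC

namespace Groth.Agent.S6667

/-- Let Y = X ×_S T be a cartesian square of schemes with f : X → S, g : T → S quasi-compact and
quasi-separated, h : Y → X and e : Y → T, let F be an abelian sheaf on the small etale site of T and
q ≥ 0. The following are equivalent: (1) for every point x of X, all strict henselizations R_X of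
the local ring of X at x and R_S of the local ring of S at f(x), every local homomorphism ψ : R_S →
R_X compatible with f, and all cartesian squares P_S = Spec R_S ×_S T, P_X = Spec R_X ×_S T with the
morphism m : P_X → P_S induced by ψ, the pullback map H^q(P_S, F|P_S) → H^q(P_X, F|P_X) along m is
bijective; (2) the degree-q base change map f⁻¹ R^q g_* F → R^q h_* e⁻¹ F is an isomorphism. -/
theorem result {X S Y T : Scheme.{u}} (f : X ⟶ S) (g : T ⟶ S)
    [QuasiCompact g] [QuasiSeparated g] (h : Y ⟶ X) (e : Y ⟶ T) (c : IsPullback e h g f)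
    [PreservesFiniteLimits (EtCoh.pull e)] (F : EtCoh.Ab T) (q : ℕ) :
    (∀ (x : X) (RS : Type u) [CommRing RS] [IsLocalRing RS] [Algebra (S.presheaf.stalk (f.base x)) RS]
      [IsLocalHom (algebraMap (S.presheaf.stalk (f.base x)) RS)] [Hensel.IsStrictHenselization (S.presheaf.stalk (f.base x)) RS]
      (RX : Type u) [CommRing RX] [IsLocalRing RX] [Algebra (X.presheaf.stalk x) RX]
      [IsLocalHom (algebraMap (X.presheaf.stalk x) RX)] [Hensel.IsStrictHenselization (X.presheaf.stalk x) RX]
      (ψ : RS →+* RX) [IsLocalHom ψ],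
      ψ.comp (algebraMap (S.presheaf.stalk (f.base x)) RS) = (algebraMap (X.presheaf.stalk x) RX).comp (f.stalkMap x).hom →
      ∀ (PS PX : Scheme.{u}) (aS : PS ⟶ T) (bS : PS ⟶ Spec (CommRingCat.of RS))
        (_ : IsPullback aS bS g (Hens2.specOf S (f.base x) RS))
        (aX : PX ⟶ T) (bX : PX ⟶ Spec (CommRingCat.of RX))
        (_ : IsPullback aX bX g (Hens2.specOf X x RX ≫ f))
        (m : PX ⟶ PS) (w : m ≫ aS = aX), m ≫ bS = bX ≫ Spec.map (CommRingCat.ofHom ψ) →
        ∀ [PreservesFiniteLimits (EtCoh.pull m)], Function.Bijective (EtCore.HpullVia m aS aX w F q)) ↔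
    IsIso (EtBC.bcQ g f h e c.w q F) := by
  exact Groth.Agent.EtBCQ.isIso_bcQ_iff_restr f g h e c F q

end Groth.Agent.S6667
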