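import Groth.Statements.S6676
import Groth.Agent.BigPBC.Sites

set_option autoImplicit false
universe u
open CategoryTheory CategoryTheory.Limits AlgebraicGeometry Opposite
open HTop

namespace Groth.Agent.S6676

/-- Let f : X → Y be a proper morphism of schemes, F a torsion abelian sheaf on the small etale site of
X and i ≥ 0. Then a_Y⁻¹ (R^i f_* F) and R^i f_{big,ph,*} (a_X⁻¹ F) are isomorphic abelian sheaves on
the big ph site of Y (existence of an isomorphism; continuity of the comparison functors carried as
instance hypotheses). -/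
theorem result {X Y : Scheme.{u}} (f : X ⟶ Y) [IsProper f]
    [HTop.APhCont X] [HTop.APhCont Y] [HTop.PullPhCont f] (F : EtCoh.Ab X) (hF : EtCoh.IsTorsion F) (i : ℕ) :
    Nonempty ((HTop.aPhPull Y).obj ((EtCoh.Rpush f i).obj F) ≅
      (HTop.RpushBigPh f i).obj ((HTop.aPhPull X).obj F)) := by
  exact Groth.Agent.BigPBC.nonempty_push HTop.phPrecoverage (fun S F => Groth.Agent.BigSiteLib.isSheaf_Jph_Pi (S := S) F) f
    (fun F h => Groth.Agent.BigPBC.eAcyc_ph F h) F (Groth.Agent.EtPBC.isLTorsion_univ_of_isTorsion hF) i

end Groth.Agent.S6676
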