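import Groth.Statements.S6683
import Groth.Agent.BigPBC.Sites

set_option autoImplicit false
universe u
open CategoryTheory CategoryTheory.Limits AlgebraicGeometry Opposite
open HTop

namespace Groth.Agent.S6683

/-- For a torsion abelian sheaf, i.e. a complex in degree 0: let X be a scheme and F a torsion abelian
sheaf on the small etale site of X, and let a_X compare the big h site of X with the small etale
site. Then the unit F → a_X,_* a_X⁻¹ F is an isomorphism and R^q a_X,_* (a_X⁻¹ F) = 0 for every q >
0. (Continuity of the comparison functor carried as an instance hypothesis.) -/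
theorem result (X : Scheme.{u}) [HTop.AHCont X] (F : EtCoh.Ab X)
    (hF : EtCoh.IsTorsion F) :
    IsIso ((HTop.aHAdj X).unit.app F) ∧
      ∀ q : ℕ, 0 < q → IsZero ((HTop.RaHPush X q).obj ((HTop.aHPull X).obj F)) := by
  refine ⟨Groth.Agent.BigPBC.isIso_unit HTop.hPrecoverage (fun S F => Groth.Agent.BigSiteLib.isSheaf_Jh_Pi (S := S) F) X F, fun q hq => ?_⟩
  obtain ⟨n, rfl⟩ : ∃ n, q = n + 1 := ⟨q - 1, by omega⟩
  exact Groth.Agent.BigPBC.isZero_RresEt HTop.hPrecoverage _ (Groth.Agent.BigPBC.eAcyc_h F (Groth.Agent.EtPBC.isLTorsion_univ_of_isTorsion hF)) n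

end Groth.Agent.S6683
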