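import Groth.Statements.S6687
import Groth.Agent.BigSiteLib.Compare

set_option autoImplicit false
set_option linter.style.haveILetI false
set_option backward.isDefEq.respectTransparency false

universe u
open CategoryTheory CategoryTheory.Limits AlgebraicGeometry Opposite
open BigSite

namespace Groth.Agent.S6687

/-- Let f : T → S be a morphism of schemes, F an abelian sheaf on the small etale site of S and n ≥ 0.
Write π_S⁻¹ F for the pullback of F to the big etale site of S. Then the cohomology of π_S⁻¹ F over
the object (T → S) of the big site is isomorphic to H^n(T_et, f⁻¹ F). (Existence of an isomorphism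
of abelian groups only; the published statement identifies the two through the restriction of π_S⁻¹
F to the small etale site of T, which is f⁻¹ F.) -/
theorem result {T S : Scheme.{u}} (f : T ⟶ S) (n : ℕ) (F : EtCoh.Ab S) :
    Nonempty (BigSite.HU Scheme.etalePrecoverage ((BigSite.piEtPull Scheme.etalePrecoverage S).obj F) n (Over.mk f) ≃+
      EtCoh.H T ((EtCoh.pull f).obj F) n) := by
  obtain ⟨e⟩ := Groth.Agent.BigSiteLib.nonempty_H_resEt_equiv T
    ((BigSite.pullBig Scheme.etalePrecoverage f AddCommGrpCat.{u + 1}).obj ((BigSite.piEtPull Scheme.etalePrecoverage S).obj F)) n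
  let i := Groth.Agent.BigSiteLib.resPullIso f F
  let a : EtCoh.H T ((BigSite.resEtAlong Scheme.etalePrecoverage f).obj ((BigSite.piEtPull Scheme.etalePrecoverage S).obj F)) n ≃+
      EtCoh.H T ((EtCoh.pull f).obj F) n :=
    AddMonoidHom.toAddEquiv (Sheaf.H.map i.hom n) (Sheaf.H.map i.inv n)
      (AddMonoidHom.ext fun x => by simp [Sheaf.H.map_apply])
      (AddMonoidHom.ext fun x => by simp [Sheaf.H.map_apply])
  exact ⟨e.symm.trans a⟩

end Groth.Agent.S6687
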