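import Groth.Statements.S6692
import Groth.Agent.GabAcyc.HensLim
import Groth.Agent.GabAcyc.InjMod
import Groth.Agent.EtMV.GabberH
-- import your own Groth.Agent.* helpers here

set_option autoImplicit false
set_option linter.auxLemma false
attribute [local instance 100000] EtCoh.H._proof_1 Groth.Agent.EtMV.hext
attribute [local instance 200000] Groth.Agent.EtMV.hextAb
open CategoryTheory.Abelian
set_option backward.isDefEq.respectTransparency false
set_option backward.isDefEq.respectTransparency.types false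
universe u
open CategoryTheory CategoryTheory.Limits AlgebraicGeometry Opposite
open EtPBC

namespace Groth.Agent.S6692

/-- Let X be a scheme with affine diagonal (the intersection of any two affine opens is affine) covered
by n + 1 affine opens, i : Z → X a closed immersion, A a torsion sheaf of rings on the small etale
site of X (every local section is, etale locally around each point, of finite additive order) and I
an injective object of the category of sheaves of A-modules. Then the etale cohomology H^q(Z, i⁻¹ I)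
of the underlying abelian sheaf of I restricted to Z vanishes for every q > n. -/
theorem result (X : Scheme.{u}) (n : ℕ)
    (hΔ : ∀ U V : X.Opens, IsAffineOpen U → IsAffineOpen V → IsAffineOpen (U ⊓ V))
    (W : Fin (n + 1) → X.Opens) (hW : ∀ k, IsAffineOpen (W k)) (hcov : ⨆ k, W k = ⊤)
    {Z : Scheme.{u}} (i : Z ⟶ X) [IsClosedImmersion i]
    (A : Sheaf X.smallEtaleTopology RingCat.{u + 1})
    (hA : ∀ (U : X.Etale) (s : A.val.obj (op U)) (x : U.left), ∃ (V : X.Etale) (g : V ⟶ U),
      (∃ v : V.left, g.left.base v = x) ∧ IsOfFinAddOrder (A.val.map g.op s))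
    (I : SheafOfModules.{u + 1} A) [Injective I] (q : ℕ) (hq : n < q) :
    Subsingleton (EtCoh.H Z ((EtCoh.pull i).obj ((SheafOfModules.toSheaf A).obj I)) q) := by
  let G := (SheafOfModules.toSheaf A).obj I
  let F := (EtCoh.pull i).obj G
  have hacyc : ∀ (T : Scheme.{u}) (t : T ⟶ X) [Etale t] (k : ℕ), 0 < k →
      Subsingleton (EtCoh.H T ((EtCoh.pull t).obj G) k) := fun T t _ k hk => by
    obtain ⟨m, rfl⟩ : ∃ m, k = m + 1 := ⟨k - 1, by omega⟩
    exact (EtMV.subsingleton_H_iff_of_etale t G _).2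
      (GabAcyc.InjMod.subsingleton_ext I m _ (ModCstAcyc.torsionFree_freeSheaf _))
  have hT : EtCoh.IsTorsion G := by
    intro U s x
    obtain ⟨V, g, hv, h1⟩ := hA U 1 x
    refine ⟨V, g, hv, ?_⟩
    obtain ⟨n, hn, h0⟩ := isOfFinAddOrder_iff_nsmul_eq_zero.1 h1
    rw [map_one, nsmul_one] at h0
    refine isOfFinAddOrder_iff_nsmul_eq_zero.2 ⟨n, hn, ?_⟩
    show n • (show I.val.obj (op V) from G.obj.map g.op s) = 0
    rw [← Nat.cast_smul_eq_nsmul (A.val.obj (op V)), h0, zero_smul]
  have haff : ∀ (U : X.Opens), IsAffineOpen U → ∀ k, 0 < k →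
      ∀ x : Ext ((EtMV.P Z).obj (EtMV.oo (i ⁻¹ᵁ U))) F k, x = 0 := by
    intro U hU k hk
    haveI := EtPullExact.pull_preservesFiniteLimits (i ⁻¹ᵁ U).ι
    suffices h : Subsingleton (Ext ((EtMV.P Z).obj (EtMV.oo (i ⁻¹ᵁ U))) F k) from fun x => h.elim _ _
    refine (EtMV.subsingleton_H_iff_of_etale (i ⁻¹ᵁ U).ι F k).1 ?_
    haveI : IsAffine (U : Scheme.{u}) := hU
    let e := (U : Scheme.{u}).isoSpec
    let a := e.inv ≫ U.ι
    let G' := (EtCoh.pull a).obj G
    let iT : (i ⁻¹ᵁ U : Scheme.{u}) ⟶ Spec Γ((U : Scheme.{u}), ⊤) := (i ∣_ U) ≫ e.hom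
    haveI : IsClosedImmersion (i ∣_ U) := IsZariskiLocalAtTarget.restrict (P := @IsClosedImmersion) ‹_› U
    haveI : IsClosedImmersion iT := inferInstanceAs (IsClosedImmersion (_ ≫ _))
    have hh : Subsingleton (EtCoh.H _ ((EtCoh.pull iT).obj G') k) := by
      refine GabAcyc.subsingleton_H_closed iT G' (GabAcyc.isTorsion_pull a hT) k fun E iE iA iEt => ?_
      haveI : Etale (Spec.map (CommRingCat.ofHom (@algebraMap _ E _ _ iA))) :=
        (HasRingHomProperty.Spec_iff (P := @Etale)).2 ((@RingHom.etale_algebraMap _ E _ _ iA).2 iEt)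
      exact (GabAcyc.subsingleton_H_pull_pull_iff _ a _ rfl G k).2 (hacyc _ _ k hk)
    have w : iT ≫ a = (i ⁻¹ᵁ U).ι ≫ i := by
      simp only [iT, a, Category.assoc, Iso.hom_inv_id_assoc, morphismRestrict_ι]
    exact (GabAcyc.subsingleton_H_pull_pull_iff (i ⁻¹ᵁ U).ι i _ rfl G k).2
      ((GabAcyc.subsingleton_H_pull_pull_iff iT a _ w G k).1 hh)
  have hmv : ∀ (k : ℕ) (W : Fin (k + 1) → X.Opens), (∀ j, IsAffineOpen (W j)) → ∀ (m : ℕ), k < m →
      ∀ (O : Z.Opens), O = i ⁻¹ᵁ (⨆ j, W j) → ∀ x : Ext ((EtMV.P Z).obj (EtMV.oo O)) F m, x = 0 := by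
    intro k
    induction k with
    | zero =>
      intro W hW m hm O hO
      subst hO
      rw [show (⨆ j, W j) = W 0 from le_antisymm (iSup_le fun j => by rw [Fin.eq_zero j]) (le_iSup W 0)]
      exact haff _ (hW 0) m hm
    | succ k ih =>
      intro W hW m hm O hO x
      obtain ⟨m, rfl⟩ : ∃ l, m = l + 1 := ⟨m - 1, by omega⟩
      let U' := ⨆ j : Fin (k + 1), W j.castSucc
      let V' := W (Fin.last (k + 1))
      have hsup : (⨆ j, W j) = U' ⊔ V' := le_antisymm
        (iSup_le fun j => Fin.lastCases le_sup_right (fun j => (le_iSup (fun j : Fin (k + 1) => W j.castSucc) j).trans le_sup_left) j)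
        (sup_le (iSup_le fun j => le_iSup W _) (le_iSup W _))
      have hU : i ⁻¹ᵁ U' ≤ O := by rw [hO, hsup]; exact i.preimage_mono le_sup_left
      have hV : i ⁻¹ᵁ V' ≤ O := by rw [hO, hsup]; exact i.preimage_mono le_sup_right
      have hUV : O ≤ i ⁻¹ᵁ U' ⊔ i ⁻¹ᵁ V' := by
        rw [hO, hsup]
        intro z hz
        exact hz
      refine EtMV.eq_zero_of_mv hU hV hUV ?_ x (ih _ (fun j => hW _) (m + 1) (by omega) _ rfl _)
        (haff _ (hW _) (m + 1) (by omega) _)
      refine ih (fun j => W j.castSucc ⊓ V') (fun j => hΔ _ _ (hW _) (hW _)) m (by omega) _ ?_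
      rw [← iSup_inf_eq]
      rfl
  exact EtMV.subsingleton_H_of_vanish F q fun O hO =>
    hmv n W hW q hq O (by rw [hO, hcov]; rfl)

end Groth.Agent.S6692

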