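import Groth.Statements.S6697
import Groth.Agent.BigSiteLib.Shriek
import Groth.Agent.KInj.Ops

set_option autoImplicit false
set_option linter.style.haveILetI false
set_option backward.isDefEq.respectTransparency false

universe u
open CategoryTheory CategoryTheory.Limits AlgebraicGeometry Opposite
open BigSite

namespace Groth.Agent.S6697

/-- Let S be a scheme, I a K-injective complex of abelian sheaves on the big etale site of S (every
morphism from an acyclic complex to I is null-homotopic) and f : T → S a scheme over S. Then (b) the
termwise restriction I|_{S_et} to the small etale site of S is K-injective, and (a) the termwise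
restriction i_f⁻¹ I to the small etale site of T is K-injective. -/
theorem result (S : Scheme.{u})
    (I : CochainComplex (BigSite.Ab Scheme.etalePrecoverage S) ℤ) [I.IsKInjective] {T : Scheme.{u}} (f : T ⟶ S) :
    CochainComplex.IsKInjective (((BigSite.resEt Scheme.etalePrecoverage S).mapHomologicalComplex (ComplexShape.up ℤ)).obj I) ∧
      CochainComplex.IsKInjective (((BigSite.resEtAlong Scheme.etalePrecoverage f).mapHomologicalComplex (ComplexShape.up ℤ)).obj I) := by
  haveI : (BigSite.piEtPull Scheme.etalePrecoverage S).Additive := (BigSite.piEtAdj _ S).left_adjoint_additive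
  haveI : (BigSite.piEtPull Scheme.etalePrecoverage T).Additive := (BigSite.piEtAdj _ T).left_adjoint_additive
  haveI : (BigSite.shriekAb Scheme.etalePrecoverage f).Additive := (BigSite.shriekAbAdj _ f).left_adjoint_additive
  haveI : PreservesFiniteColimits (BigSite.piEtPull Scheme.etalePrecoverage S) :=
    ⟨fun _ _ _ => (BigSite.piEtAdj _ S).leftAdjoint_preservesColimits.preservesColimitsOfShape⟩
  haveI : PreservesFiniteColimits (BigSite.piEtPull Scheme.etalePrecoverage T) :=
    ⟨fun _ _ _ => (BigSite.piEtAdj _ T).leftAdjoint_preservesColimits.preservesColimitsOfShape⟩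
  haveI : PreservesFiniteColimits (BigSite.shriekAb Scheme.etalePrecoverage f) :=
    ⟨fun _ _ _ => (BigSite.shriekAbAdj _ f).leftAdjoint_preservesColimits.preservesColimitsOfShape⟩
  haveI := comp_preservesFiniteLimits (BigSite.piEtPull Scheme.etalePrecoverage T) (BigSite.shriekAb Scheme.etalePrecoverage f)
  haveI := comp_preservesFiniteColimits (BigSite.piEtPull Scheme.etalePrecoverage T) (BigSite.shriekAb Scheme.etalePrecoverage f)
  refine ⟨Groth.Agent.KInj.isKInjective_rightAdjoint (BigSite.piEtAdj _ S) I inferInstance, ?_⟩
  exact Groth.Agent.KInj.isKInjective_rightAdjoint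
    ((BigSite.piEtAdj _ T).comp (BigSite.shriekAbAdj _ f)) I inferInstance

end Groth.Agent.S6697
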