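import Groth.Statements.S6701
import Groth.Agent.EtBCQ.StrictSys
import Groth.Agent.EtBCQ.PbSys
import Groth.Agent.EtBCQ.PullSys
import Groth.Agent.EtBCQ.PbBij
-- import your own Groth.Agent.* helpers here

set_option autoImplicit false
set_option backward.isDefEq.respectTransparency false
set_option backward.isDefEq.respectTransparency.types false
set_option maxHeartbeats 1000000
set_option linter.style.haveILetI false
set_option linter.overlappingInstances false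
universe u
open CategoryTheory CategoryTheory.Limits AlgebraicGeometry Opposite
open EtBC

namespace Groth.Agent.S6701

/-- Let ι be a nonempty directed preordered set and consider an inverse system, indexed by ι, of
cartesian squares of schemes Y_i = X_i ×_{S_i} T_i (maps f_i : X_i → S_i, g_i : T_i → S_i
quasi-compact and quasi-separated, h_i : Y_i → X_i, e_i : Y_i → T_i) whose transition morphisms are
affine. Let X, S, T, Y be limits of the four systems, with the induced morphisms f : X → S, g : T →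
S, h : Y → X, e : Y → T forming a cartesian square compatible with the projections. Let (F_i) be
abelian sheaves on the small etale sites of the T_i with maps φ_ij : u_ij⁻¹ F_i → F_j for i ≤ j
satisfying the cocycle condition, and let F be the colimit on T of the sheaves p_i⁻¹ F_i along the
maps induced by the φ_ij (presented as the colimit of any diagram G identified with (p_i⁻¹ F_i)
compatibly). If for every i the degree-q base change map f_i⁻¹ R^q g_i,_* F_i → R^q h_i,_* e_i⁻¹ F_i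
is an isomorphism, then the degree-q base change map f⁻¹ R^q g_* F → R^q h_* e⁻¹ F is an
isomorphism. (Left exactness of the inverse image functors is carried as instance hypotheses.) -/
theorem result {ι : Type u} [Preorder ι] [Nonempty ι] [IsDirected ι (· ≤ ·)]
    (Xs Ss Ts Ys : ιᵒᵖ ⥤ Scheme.{u}) (fN : Xs ⟶ Ss) (gN : Ts ⟶ Ss) (hN : Ys ⟶ Xs) (eN : Ys ⟶ Ts)
    (sq : ∀ a : ιᵒᵖ, IsPullback (eN.app a) (hN.app a) (gN.app a) (fN.app a))
    [∀ a : ιᵒᵖ, QuasiCompact (gN.app a)] [∀ a : ιᵒᵖ, QuasiSeparated (gN.app a)]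
    (haff : ∀ ⦃a b : ιᵒᵖ⦄ (m : a ⟶ b),
      IsAffineHom (Xs.map m) ∧ IsAffineHom (Ss.map m) ∧ IsAffineHom (Ts.map m) ∧ IsAffineHom (Ys.map m))
    (cX : Cone Xs) (hcX : IsLimit cX) (cS : Cone Ss) (hcS : IsLimit cS)
    (cT : Cone Ts) (hcT : IsLimit cT) (cY : Cone Ys) (hcY : IsLimit cY)
    (f : cX.pt ⟶ cS.pt) (g : cT.pt ⟶ cS.pt) (h : cY.pt ⟶ cX.pt) (e : cY.pt ⟶ cT.pt)
    (hf : ∀ a, f ≫ cS.π.app a = cX.π.app a ≫ fN.app a) (hg : ∀ a, g ≫ cS.π.app a = cT.π.app a ≫ gN.app a)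
    (hh : ∀ a, h ≫ cX.π.app a = cY.π.app a ≫ hN.app a) (he : ∀ a, e ≫ cT.π.app a = cY.π.app a ≫ eN.app a)
    (c : IsPullback e h g f)
    [∀ a, PreservesFiniteLimits (EtCoh.pull (eN.app a))] [PreservesFiniteLimits (EtCoh.pull e)]
    (F : ∀ i : ι, EtCoh.Ab (Ts.obj (op i)))
    (φ : ∀ ⦃i j : ι⦄ (hij : i ≤ j), (EtCoh.pull (Ts.map (homOfLE hij).op)).obj (F i) ⟶ F j)
    (hφ : ∀ ⦃i j k : ι⦄ (hij : i ≤ j) (hjk : j ≤ k),
      φ (hij.trans hjk) = (EtLim.pullTrans Ts hij hjk).hom.app (F i) ≫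
        (EtCoh.pull (Ts.map (homOfLE hjk).op)).map (φ hij) ≫ φ hjk)
    (G : ι ⥤ EtCoh.Ab cT.pt) (ψ : ∀ i : ι, (EtCoh.pull (cT.π.app (op i))).obj (F i) ≅ G.obj i)
    (hψ : ∀ ⦃i j : ι⦄ (hij : i ≤ j), (ψ i).hom ≫ G.map (homOfLE hij) =
      (EtLim.pullTransCone Ts cT hij).hom.app (F i) ≫ (EtCoh.pull (cT.π.app (op j))).map (φ hij) ≫ (ψ j).hom)
    (q : ℕ)
    (hstage : ∀ i : ι, IsIso (EtBC.bcQ (gN.app (op i)) (fN.app (op i)) (hN.app (op i)) (eN.app (op i))
      (sq (op i)).w q (F i))) :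
    IsIso (EtBC.bcQ g f h e c.w q (colimit G)) := by
  haveI : IsFiltered ι := inferInstance
  haveI hTa : ∀ {a b : ιᵒᵖ} (m : a ⟶ b), IsAffineHom (Ts.map m) := fun m => (haff m).2.2.1
  haveI hSa : ∀ {a b : ιᵒᵖ} (m : a ⟶ b), IsAffineHom (Ss.map m) := fun m => (haff m).2.1
  let a₀ : ιᵒᵖ := op (Classical.arbitrary ι)
  haveI := isAffineHom_π_app Ts cT hcT a₀
  haveI := isAffineHom_π_app Ss cS hcS a₀
  haveI : QuasiCompact g := by
    haveI : QuasiCompact (g ≫ cS.π.app a₀) := by rw [hg a₀]; infer_instance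
    exact QuasiCompact.of_comp g (cS.π.app a₀)
  haveI : QuasiSeparated g := by
    haveI : QuasiSeparated (g ≫ cS.π.app a₀) := by rw [hg a₀]; infer_instance
    exact QuasiSeparated.of_comp g (cS.π.app a₀)
  refine (EtBCQ.isIso_bcQ_iff_restr f g h e c (colimit G) q).1 ?_
  intro x RS _ _ _ _ _ RX _ _ _ _ _ ψr _ hψr PS PX aS bS HS aX bX HX m w wb _
  let PSs : EtBCQ.SH cS.pt (f.base x) := { R := RS }
  let PXs : EtBCQ.SH cX.pt x := { R := RX }
  let xi : ∀ i : ι, Xs.obj (op i) := fun i => cX.π.app (op i) x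
  let si : ∀ i : ι, Ss.obj (op i) := fun i => (fN.app (op i)).base (xi i)
  obtain ⟨ΦX⟩ := EtBCQ.exists_SHSys PXs xi fun i => rfl
  obtain ⟨ΦS⟩ := EtBCQ.exists_SHSys PSs si fun i => by
    exact congrArg (fun k : cX.pt ⟶ Ss.obj (op i) => k x) (hf (op i))
  have hψ' : Spec.map (CommRingCat.ofHom ψr) ≫ PSs.spec = PXs.spec ≫ f :=
    (EtBCQ.specOf_comp f x RS RX ψr hψr).symm
  obtain ⟨ψi, hloc, hspec, hgψ, hnat⟩ := EtBCQ.exists_stage_homs hf ΦX ΦS ψr hψ'
  let γ : ΦX.specs ⟶ ΦS.specs :=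
    { app := fun a => Spec.map (CommRingCat.ofHom (ψi a.unop))
      naturality := fun a b m => ((Spec.map_comp _ _).symm.trans (congrArg (fun r => Spec.map (CommRingCat.ofHom r))
        (hnat b.unop a.unop (leOfHom m.unop)).symm)).trans (Spec.map_comp _ _) }
  have hγ : γ ≫ ΦS.toD = ΦX.toD ≫ fN := NatTrans.ext (funext fun a => hspec a.unop)
  have hbS : ∀ a, PSs.spec ≫ cS.π.app a = ΦS.specCone.π.app a ≫ ΦS.toD.app a := fun a => (ΦS.specCone_toD a).symm
  have hbX : ∀ a, (PXs.spec ≫ f) ≫ cS.π.app a = ΦX.specCone.π.app a ≫ (ΦX.toD ≫ fN).app a := fun a => by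
    rw [Category.assoc, hf, NatTrans.comp_app, ← Category.assoc, ← Category.assoc]
    exact congrArg (· ≫ fN.app a) (ΦX.specCone_toD a).symm
  obtain ⟨hlS⟩ := ΦS.nonempty_isLimit hcS
  obtain ⟨hlX⟩ := ΦX.nonempty_isLimit hcX
  haveI : ∀ {a b : ιᵒᵖ} (m : a ⟶ b), IsAffineHom (ΦS.specs.map m) := fun m =>
    inferInstanceAs (IsAffineHom (Spec.map _))
  haveI : ∀ {a b : ιᵒᵖ} (m : a ⟶ b), IsAffineHom (ΦX.specs.map m) := fun m =>
    inferInstanceAs (IsAffineHom (Spec.map _))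
  haveI : ∀ a, CompactSpace (ΦS.specs.obj a) := fun a => inferInstanceAs (CompactSpace (Spec _ : Scheme.{u}))
  haveI : ∀ a, CompactSpace (ΦX.specs.obj a) := fun a => inferInstanceAs (CompactSpace (Spec _ : Scheme.{u}))
  haveI : ∀ a, QuasiSeparatedSpace (ΦS.specs.obj a) := fun a =>
    inferInstanceAs (QuasiSeparatedSpace (Spec _ : Scheme.{u}))
  haveI : ∀ a, QuasiSeparatedSpace (ΦX.specs.obj a) := fun a =>
    inferInstanceAs (QuasiSeparatedSpace (Spec _ : Scheme.{u}))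
  have hγ₀ : ∀ a, ΦX.specCone.π.app a ≫ γ.app a = Spec.map (CommRingCat.ofHom ψr) ≫ ΦS.specCone.π.app a := fun a =>
    (Spec.map_comp _ _).symm.trans ((congrArg (fun r => Spec.map (CommRingCat.ofHom r)) (hgψ a.unop)).trans
      (Spec.map_comp _ _))
  refine EtBCQ.bijective_pb gN ΦS.toD (ΦX.toD ≫ fN) γ hγ (cT := cT) (cS := cS) (cBS := ΦS.specCone)
    (cBX := ΦX.specCone) hcT hcS hlS hlX g PSs.spec (PXs.spec ≫ f) hg hbS hbX (Spec.map (CommRingCat.ofHom ψr)) hγ₀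
    aS bS HS aX bX HX m w wb F φ hφ G ψ hψ q fun i _ => ?_
  haveI := hstage i
  haveI := hloc i
  exact EtBCQ.bijective_stage (fN.app (op i)) (gN.app (op i)) (hN.app (op i)) (eN.app (op i)) (sq (op i)) (F i) q
    (EtBCQ.mkSH (Ss.obj (op i)) (si i)) (EtBCQ.mkSH (Xs.obj (op i)) (xi i)) (ψi i) (hspec i) _ _ _ _
    (EtBCQ.pbIsPullback gN ΦS.toD (op i)) _ _ (EtBCQ.pbIsPullback gN (ΦX.toD ≫ fN) (op i)) _
    (EtBCQ.pbMap_fst gN ΦS.toD γ hγ (op i)) (EtBCQ.pbMap_snd gN ΦS.toD γ hγ (op i))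

end Groth.Agent.S6701
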