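import Groth.Statements.S6710
import Groth.Agent.HomNZ.Basic

set_option autoImplicit false
universe u v
open CategoryTheory
open FunMor

namespace Groth.Agent.S6710

/-- The statement for an affine scheme written in terms of modules: let A be a commutative ring, M a
finitely presented A-module and N a nonzero A-module with Supp(N) ⊆ Supp(M). Then Hom_A(M, N) is
nonzero. -/
theorem result
    (A : Type u) [CommRing A] (M : Type v) [AddCommGroup M] [Module A M]
    [Module.FinitePresentation A M] (N : Type v) [AddCommGroup N] [Module A N] [Nontrivial N]
    (h : Module.support A N ⊆ Module.support A M) : Nontrivial (M →ₗ[A] N) := by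
  classical
  obtain ⟨x, hx⟩ := exists_ne (0 : N)
  let Ix : Ideal A := (⊥ : Submodule A N).colon {x}
  have hIx : Ix ≠ ⊤ := fun h' => hx (by
    have := (Ideal.eq_top_iff_one Ix).1 h'
    simpa [Ix] using this)
  obtain ⟨q, hq⟩ := Ideal.nonempty_minimalPrimes hIx
  haveI := hq.1.1
  exact Groth.Agent.HomNZ.nontrivial_hom A M N x q hq h

end Groth.Agent.S6710
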