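import Groth.Statements.S6717
import Groth.Agent.ResExtend.Product

set_option autoImplicit false
set_option backward.isDefEq.respectTransparency false
set_option linter.style.haveILetI false
universe u
open CategoryTheory AlgebraicGeometry
open DEquiv

namespace Groth.Agent.S6717

open CategoryTheory.Limits in
/-- Let R be a commutative ring and X, Y quasi-compact and quasi-separated schemes over R which have the
resolution property. Then for every quasi-coherent O-module F of finite type on X ×_R Y there are a
finite locally free O_X-module E, a finite locally free O_Y-module G and an epimorphism pr_1^* E ⊗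
pr_2^* G ⟶ F. -/
theorem result
    (R : Type u) [CommRing R] (X Y : Scheme.{u}) [X.Over (Spec (.of R))] [Y.Over (Spec (.of R))]
    [CompactSpace X] [QuasiSeparatedSpace X] [CompactSpace Y] [QuasiSeparatedSpace Y]
    (hX : PerfAux.HasResolutionProperty X) (hY : PerfAux.HasResolutionProperty Y)
    (F : (pullback (X ↘ Spec (.of R)) (Y ↘ Spec (.of R))).Modules) (hF : Coh.IsQCoh F) (hF' : CohB1.IsFT F) :
    ∃ (E : X.Modules) (G : Y.Modules), FlatMod.IsFinLocFree E ∧ FlatMod.IsFinLocFree G ∧
      ∃ π : CohB1.tensorMod
          ((Scheme.Modules.pullback (pullback.fst (X ↘ Spec (.of R)) (Y ↘ Spec (.of R)))).obj E)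
          ((Scheme.Modules.pullback (pullback.snd (X ↘ Spec (.of R)) (Y ↘ Spec (.of R)))).obj G) ⟶ F,
        Epi π := by
  letI : (pullback (X ↘ Spec (.of R)) (Y ↘ Spec (.of R))).Over (Spec (.of R)) :=
    ⟨pullback.fst (X ↘ Spec (.of R)) (Y ↘ Spec (.of R)) ≫ (X ↘ Spec (.of R))⟩
  haveI : QuasiCompact (X ↘ Spec (.of R)) := (quasiCompact_iff_compactSpace _).mpr inferInstance
  haveI : QuasiCompact (Y ↘ Spec (.of R)) := (quasiCompact_iff_compactSpace _).mpr inferInstance
  haveI : QuasiSeparated (X ↘ Spec (.of R)) := (quasiSeparated_iff_quasiSeparatedSpace _).mpr inferInstance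
  haveI : QuasiSeparated (Y ↘ Spec (.of R)) := (quasiSeparated_iff_quasiSeparatedSpace _).mpr inferInstance
  let p := pullback.fst (X ↘ Spec (.of R)) (Y ↘ Spec (.of R))
  let q := pullback.snd (X ↘ Spec (.of R)) (Y ↘ Spec (.of R))
  haveI : CompactSpace ↥(pullback (X ↘ Spec (.of R)) (Y ↘ Spec (.of R))) :=
    QuasiCompact.compactSpace_of_compactSpace p
  haveI : QuasiSeparatedSpace ↥(pullback (X ↘ Spec (.of R)) (Y ↘ Spec (.of R))) :=
    quasiSeparatedSpace_of_quasiSeparated p
  exact Groth.Agent.ResExtend.exists_box_surjection p q rfl pullback.condition.symm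
    (IsPullback.of_hasPullback _ _) hX hY F hF hF'

end Groth.Agent.S6717
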