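import Groth.Statements.S6722
import Groth.Agent.GRLib.Supp

set_option autoImplicit false
set_option linter.style.haveILetI false
set_option backward.isDefEq.respectTransparency false
set_option backward.isDefEq.respectTransparency.types false
universe u
open CategoryTheory AlgebraicGeometry
open FunMor

namespace Groth.Agent.S6722

open CategoryTheory.Limits in
/-- Let X be a quasi-compact and quasi-separated scheme and F a finitely presented (quasi-coherent)
O_X-module. Then every quasi-coherent O_X-module E with Supp(E) ⊆ Supp(F) lies in the smallest Serre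
subcategory of QCoh(O_X) containing F which is closed under extensions and arbitrary direct sums.
Stated as: E has every property P of O_X-modules such that P holds for F, P is a Serre class on
quasi-coherent modules (in a short exact sequence of quasi-coherent modules the middle term has P
iff the outer terms do), and P is closed under direct sums of quasi-coherent modules. (The reverse
inclusion, that such modules form a class of this kind, is not restated.) -/
theorem result
    (X : Scheme.{u}) [CompactSpace X] [QuasiSeparatedSpace X]
    (F : X.Modules) (hFq : Coh.IsQCoh F) (hF : CohB1.IsFP F)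
    (P : ObjectProperty X.Modules) (hPF : P F)
    (hSerre : ∀ S : ShortComplex X.Modules, S.ShortExact → Coh.IsQCoh S.X₁ → Coh.IsQCoh S.X₂ →
      Coh.IsQCoh S.X₃ → (P S.X₂ ↔ P S.X₁ ∧ P S.X₃))
    (hsum : ∀ (ι : Type u) (M : ι → X.Modules), (∀ i, Coh.IsQCoh (M i)) → (∀ i, P (M i)) →
      P (∐ M))
    (E : X.Modules) (hE : Coh.IsQCoh E) (hsupp : CohB1.support E ⊆ CohB1.support F) :
    P E := by
  have hiso : ∀ {A B : X.Modules}, (A ≅ B) → Coh.IsQCoh A → P A → P B := by
    intro A B e hA hPA
    have hB : Coh.IsQCoh B := Groth.Agent.QC.isQCoh_of_iso e hA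
    let M : PEmpty.{u + 1} → X.Modules := fun i => i.elim
    have hM : IsZero (∐ M) := by
      rw [IsZero.iff_id_eq_zero]
      exact Sigma.hom_ext _ _ fun i => i.elim
    let S : ShortComplex X.Modules := ShortComplex.mk (0 : ∐ M ⟶ A) e.hom zero_comp
    have hS : S.ShortExact :=
      { exact := (S.exact_iff_mono (show S.f = 0 from rfl)).mpr (inferInstanceAs (Mono e.hom))
        mono_f := hM.mono _
        epi_g := inferInstanceAs (Epi e.hom) }
    exact ((hSerre S hS (QCGen.prop_zero X hM) hA hB).mp hPA).2
  let P' : QCohCat.QCoh X → Prop := fun T => P T.obj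
  have hloc : GRLib.IsLoc P' :=
    { iff := fun S hS => hSerre _ (hS.map_of_exact (QCohCat.isQCoh X).ι) S.X₁.property S.X₂.property S.X₃.property
      sum := fun ι M hM => by
        refine hiso (PreservesCoproduct.iso (QCohCat.isQCoh X).ι M).symm ?_ (hsum ι _ (fun i => (M i).property) hM)
        exact Groth.Agent.QC.isQCoh_of_iso (PreservesCoproduct.iso (QCohCat.isQCoh X).ι M) (∐ M).property }
  exact GRLib.mem_of_supp hloc ⟨F, hFq⟩ hF hPF ⟨E, hE⟩ hsupp

end Groth.Agent.S6722
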