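import Groth.Statements.S6723
import Groth.Agent.GRLib.Main

set_option autoImplicit false
set_option linter.style.haveILetI false
set_option backward.isDefEq.respectTransparency false
set_option backward.isDefEq.respectTransparency.types false
universe u
open CategoryTheory AlgebraicGeometry
open FunMor

namespace Groth.Agent.S6723

/-- Gabriel–Rosenberg reconstruction for quasi-compact quasi-separated schemes: let X and Y be
quasi-compact and quasi-separated schemes and F : QCoh(O_X) ⥤ QCoh(O_Y) an equivalence of
categories. Then there exist an isomorphism of schemes f : Y ≅ X and an invertible O_Y-module L such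
that F(G) ≅ f^* G ⊗ L functorially in the quasi-coherent O_X-module G (an isomorphism between F
followed by the inclusion into O_Y-modules and the composite of the inclusion, f^* and - ⊗ L). -/
theorem result
    (X Y : Scheme.{u}) [CompactSpace X] [QuasiSeparatedSpace X] [CompactSpace Y] [QuasiSeparatedSpace Y]
    (F : QCohCat.QCoh X ≌ QCohCat.QCoh Y) :
    ∃ (f : Y ≅ X) (L : Y.Modules), PicF.IsInvertible L ∧
      Nonempty (F.functor ⋙ (QCohCat.isQCoh Y).ι ≅
        (QCohCat.isQCoh X).ι ⋙ Scheme.Modules.pullback f.hom ⋙ DCoh.tensorRightMod L) := by
  exact GRLib.reconstruction F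

end Groth.Agent.S6723
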