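import Groth.Statements.S6724
import Groth.Agent.DenseExt.Coh
import Groth.Agent.GRLib.Main
-- import your own Groth.Agent.* helpers here

set_option autoImplicit false
set_option linter.style.haveILetI false
set_option backward.isDefEq.respectTransparency false
set_option backward.isDefEq.respectTransparency.types false
universe u
open CategoryTheory AlgebraicGeometry
open FunMor

namespace Groth.Agent.S6724

/-- Let X and Y be Noetherian schemes and F : Coh(O_X) ⥤ Coh(O_Y) an equivalence of categories. Then
there exist an isomorphism of schemes f : Y ≅ X and an invertible O_Y-module L such that F(G) ≅ f^*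
G ⊗ L functorially in the coherent O_X-module G (an isomorphism between F followed by the inclusion
into O_Y-modules and the composite of the inclusion, f^* and - ⊗ L). -/
theorem result
    (X Y : Scheme.{u}) [IsNoetherian X] [IsNoetherian Y]
    (F : ObjectProperty.FullSubcategory (fun M : X.Modules => Coh.IsCoh M) ≌ ObjectProperty.FullSubcategory (fun M : Y.Modules => Coh.IsCoh M)) :
    ∃ (f : Y ≅ X) (L : Y.Modules), PicF.IsInvertible L ∧
      Nonempty (F.functor ⋙ ObjectProperty.ι (fun M : Y.Modules => Coh.IsCoh M) ≅
        ObjectProperty.ι (fun M : X.Modules => Coh.IsCoh M) ⋙ Scheme.Modules.pullback f.hom ⋙ DCoh.tensorRightMod L) := by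
  haveI : F.functor.Full := inferInstance
  haveI : (F.functor ⋙ DenseExt.ιC Y).Full := inferInstance
  haveI : (F.functor ⋙ DenseExt.ιC Y).Faithful := inferInstance
  obtain ⟨e, ⟨he⟩⟩ := DenseExt.exists_equiv (DenseExt.ιC X) (F.functor ⋙ DenseExt.ιC Y)
    (DenseExt.isAcc X) ((DenseExt.isAcc Y).comp_equivalence F)
  obtain ⟨f, L, hL, ⟨α⟩⟩ := GRLib.reconstruction e
  refine ⟨f, L, hL, ⟨?_⟩⟩
  exact (Functor.isoWhiskerRight he (QCohCat.isQCoh Y).ι).symm ≪≫ Functor.associator _ _ _ ≪≫
    Functor.isoWhiskerLeft (DenseExt.ιC X) α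

end Groth.Agent.S6724
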