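import Groth.Statements.S6742
import Groth.Agent.DCohShriek.ExtFinite


set_option autoImplicit false
set_option backward.isDefEq.respectTransparency false
set_option backward.isDefEq.respectTransparency.types false
universe u
open CategoryTheory AlgebraicGeometry
attribute [local instance] HasDerivedCategory.standard
open DEquiv

namespace Groth.Agent.S6742

/-- Let X be a scheme proper over a field k, let K be an object of D(O_X) which is bounded and has
coherent cohomology sheaves, and let E be a perfect object of D(O_X). Then the k-vector spaces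
Ext^i_X(E, K) = Hom(E, K⟦i⟧) (k-linear structure induced by X → Spec k) are finite-dimensional for
all i ∈ ℤ and nonzero for only finitely many i. -/
theorem result
    (k : Type u) [Field k] (X : Scheme.{u}) [X.Over (Spec (.of k))] [IsProper (X ↘ Spec (.of k))]
    (K : DCoh.D X) (hK : SGA6.cohbP X K) (E : DCoh.D X) (hE : DCoh.IsPerfect E) :
    (∀ i : ℤ, Module.Finite k (E ⟶ (shiftFunctor (DCoh.D X) i).obj K)) ∧
        Set.Finite {i : ℤ | Nontrivial (E ⟶ (shiftFunctor (DCoh.D X) i).obj K)} := by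
  haveI := DCohShriek.isNoetherian_of_proper (X ↘ Spec (CommRingCat.of k))
  obtain ⟨hKc, a, b, ha, hb⟩ := hK
  obtain ⟨hEc, c₀, d₀, hc₀, hd₀⟩ := K0Coh.bounded_isCohD_of_isPerfect hE
  refine ⟨fun i => ?_, ?_⟩
  · haveI : (K⟦i⟧).IsGE (a - i) := DerivedCategory.TStructure.t.isGE_shift K a i (a - i) (by omega)
    exact DCohShriek.finite_hom_of_proper E (K⟦i⟧) hEc d₀ (fun j => DCohShriek.isCoh_iso
      (((DerivedCategory.homologyFunctor _ 0).shiftIso i j (i + j) rfl).app K).symm (hKc _)) (a - i)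
  · obtain ⟨C, ⟨e⟩⟩ : ∃ C, Nonempty (DerivedCategory.Q.obj C ≅ E) :=
      ⟨(DerivedCategory.Q : _ ⥤ DCoh.D X).objPreimage E, ⟨DerivedCategory.Q.objObjPreimageIso E⟩⟩
    have hC : DCoh.IsPerfect (DCoh.toD X C) := DQCoh.perfect_of_iso e.symm hE
    obtain ⟨c, d, -, hloc⟩ := PerfHom.exists_locIn hC
    obtain ⟨N, hN⟩ := PerfHom.exists_window X
    refine (Set.finite_Icc (a - d) (b - c + N)).subset fun i hi => ?_
    have hKz : ∀ j : ℤ, j < a ∨ b < j → Limits.IsZero (DCoh.HD K j) := fun j hj => hj.elim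
      (fun h => (DerivedCategory.isGE_iff _ _).1 ha j h) (fun h => (DerivedCategory.isLE_iff _ _).1 hb j h)
    by_contra hout
    have hout' : i < a - d ∨ b - c + N < i := by
      simp only [Set.mem_Icc, not_and_or, not_le] at hout
      exact hout
    have hq : DCoh.IsQCohD (K⟦i⟧) := PerfGen.isQCohD_shift (fun j => (hKc j).1) i
    have h0 : ∀ φ : E ⟶ K⟦i⟧, φ = 0 := fun φ => (cancel_epi e.hom).1 <| (hN c d C hloc hC _ hq (fun j hj₁ hj₂ =>
      (hKz (i + j) (by omega)).of_iso
        (((DerivedCategory.homologyFunctor _ 0).shiftIso i j (i + j) rfl).app K)) (e.hom ≫ φ)).trans Limits.comp_zero.symm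
    haveI : Nontrivial (E ⟶ K⟦i⟧) := hi
    obtain ⟨φ, hφ⟩ := exists_ne (0 : E ⟶ K⟦i⟧)
    exact hφ (h0 φ)

end Groth.Agent.S6742
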