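import Groth.Statements.S6770
import Groth.Agent.BeilCompact.Main
import Mathlib.Data.Matrix.Basis
import Mathlib.RingTheory.MvPolynomial.Basic

set_option autoImplicit false
set_option backward.isDefEq.respectTransparency false
set_option linter.style.haveILetI false
universe u
open CategoryTheory
attribute [local instance] HasDerivedCategory.standard
open DEquiv

namespace Groth.Agent.S6770

open MvPolynomial

variable (k : Type u) [Field k] (n : ℕ)

theorem finite_beilinson : Module.Finite k (beilinsonAlg k n) := by
  let W := restrictTotalDegree (Fin (n + 1)) k n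
  let f : beilinsonAlg k n →ₗ[k] (Fin (n + 1) → Fin (n + 1) → W) :=
    { toFun := fun M i j => ⟨M.1 i j, (mem_restrictTotalDegree _ _ _).2
        (((M.2 i j).2.totalDegree_le).trans (le_trans (Nat.sub_le _ _) (Nat.lt_succ_iff.1 j.2)))⟩
      map_add' := fun M M' => rfl
      map_smul' := fun c M => rfl }
  exact Module.Finite.of_injective f fun M M' h => Subtype.ext (Matrix.ext fun i j =>
    congrArg Subtype.val (congrFun (congrFun h i) j))

/-- the diagonal idempotents -/
noncomputable def idem (i : Fin (n + 1)) : beilinsonAlg k n :=
  ⟨Matrix.single i i 1, fun a b => by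
    refine ⟨fun h => ?_, ?_⟩
    · rw [Matrix.single_apply_of_ne]
      rintro ⟨rfl, rfl⟩
      exact lt_irrefl _ h
    · by_cases h : i = a ∧ i = b
      · obtain ⟨rfl, rfl⟩ := h
        rw [Matrix.single_apply_same, Nat.sub_self]
        exact isHomogeneous_one _ _
      · rw [Matrix.single_apply_of_ne _ _ _ _ _ h]
        exact isHomogeneous_zero _ _ _⟩

theorem triangular : BeilCompact.Triangular k (beilinsonAlg k n) (n + 1) (idem k n) where
  sum_eq_one := Subtype.ext <| by
    simp only [AddSubmonoidClass.coe_finsetSum, idem]
    ext a b
    rw [Matrix.sum_apply, OneMemClass.coe_one, Matrix.one_apply]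
    by_cases h : a = b
    · subst h
      rw [if_pos rfl, Finset.sum_eq_single a (fun c _ hc => Matrix.single_apply_of_ne _ _ _ _ _ (fun h => hc h.1))
        (fun h => absurd (Finset.mem_univ a) h), Matrix.single_apply_same]
    · rw [if_neg h, Finset.sum_eq_zero (fun c _ => Matrix.single_apply_of_ne _ _ _ _ _
        (fun hc => h (hc.1.symm.trans hc.2)))]
  idem i := Subtype.ext <| by simp [idem]
  tri i j hij r := Subtype.ext <| by
    simp only [idem, MulMemClass.coe_mul, ZeroMemClass.coe_zero, Matrix.single_mul_mul_single,
      (r.2 j i).1 hij, mul_zero, zero_mul, Matrix.single_zero]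
  diag i r := by
    have h := (r.2 i i).2
    rw [Nat.sub_self] at h
    refine ⟨(r.1 i i).coeff 0, Subtype.ext ?_⟩
    simp only [idem, MulMemClass.coe_mul, SetLike.val_smul, Matrix.single_mul_mul_single, one_mul, mul_one,
      Matrix.smul_single]
    congr 1
    rw [smul_eq_C_mul, mul_one]
    exact totalDegree_eq_zero_iff_eq_C.1 ((totalDegree_zero_iff_isHomogeneous _).2 h)

open CategoryTheory.Limits Opposite in
/-- Let k be a field, n ≥ 0, and R the Beilinson algebra of P^n_k: the k-algebra of upper triangular
(n+1) × (n+1) matrices whose (i, j) entry is a homogeneous polynomial of degree j - i in k[X_0, …,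
X_n]. For an object K of the derived category D(R) of R-modules the following are equivalent: K is a
compact object (the functor Hom(K, -) with values in abelian groups commutes with arbitrary direct
sums indexed by small types), and the cohomology modules H^i(K) are finite-dimensional k-vector
spaces for all i ∈ ℤ, nonzero for only finitely many i. (Left R-modules are used; the published
statement is for right modules, i.e. left modules over the opposite algebra, which is isomorphic to
R by reversing the order of the indices and transposing, and the printed proof applies verbatim to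
either side.) -/
theorem result
    (k : Type u) [Field k] (n : ℕ)
    (K : DerivedCategory (ModuleCat.{u} (DEquiv.beilinsonAlg k n))) :
    (∀ J : Type u, PreservesColimitsOfShape (Discrete J) (preadditiveCoyoneda.obj (op K))) ↔
      ((∀ i : ℤ, Module.Finite k (RestrictScalars k (DEquiv.beilinsonAlg k n) ((DerivedCategory.homologyFunctor (ModuleCat.{u} (DEquiv.beilinsonAlg k n)) i).obj K))) ∧
        Set.Finite {i : ℤ | Nontrivial ((DerivedCategory.homologyFunctor (ModuleCat.{u} (DEquiv.beilinsonAlg k n)) i).obj K)}) := by
  haveI := finite_beilinson k n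
  let C := DerivedCategory.Q.objPreimage K
  let eK : DerivedCategory.Q.obj C ≅ K := DerivedCategory.Q.objObjPreimageIso K
  let eH : ∀ i, (DerivedCategory.homologyFunctor (ModuleCat.{u} (DEquiv.beilinsonAlg k n)) i).obj K ≅ C.homology i :=
    fun i => (DerivedCategory.homologyFunctor _ i).mapIso eK.symm ≪≫
      (DerivedCategory.homologyFunctorFactors _ i).app C
  have hfin : ∀ M : ModuleCat.{u} (DEquiv.beilinsonAlg k n),
      Module.Finite k (RestrictScalars k (DEquiv.beilinsonAlg k n) M) ↔ Module.Finite (DEquiv.beilinsonAlg k n) M := by
    intro M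
    letI : Module k M := Module.compHom M (algebraMap k (DEquiv.beilinsonAlg k n))
    haveI : IsScalarTower k (DEquiv.beilinsonAlg k n) M := ⟨fun c r m => by
      show (c • r) • m = algebraMap k (DEquiv.beilinsonAlg k n) c • (r • m)
      rw [Algebra.smul_def, mul_smul]⟩
    refine ⟨fun h => ?_, fun h => ?_⟩
    · haveI : Module.Finite k M := h
      exact Module.Finite.of_restrictScalars_finite k (DEquiv.beilinsonAlg k n) M
    · show Module.Finite k M
      exact Module.Finite.trans (DEquiv.beilinsonAlg k n) M
  have key := BeilCompact.compact_iff' (triangular k n) C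
  refine Iff.trans ?_ (key.trans ?_)
  · exact ⟨fun h => BeilCompact.gen_of_iso eK.symm (BeilCompact.gen_of_preserves h),
      fun h J => BeilCompact.preserves_of_gen (BeilCompact.gen_of_iso eK h) J⟩
  · refine and_congr (forall_congr' fun i => ?_) ⟨fun ⟨a, b, hb⟩ => ?_, fun h => ?_⟩
    · rw [hfin]
      exact Module.Finite.equiv_iff (eH i).symm.toLinearEquiv
    · refine (Set.finite_Icc a b).subset fun i (hi : Nontrivial _) => ?_
      by_contra hn
      simp only [Set.mem_Icc, not_and_or, not_le] at hn
      exact not_subsingleton _ (ModuleCat.subsingleton_of_isZero ((hb i hn).of_iso (eH i)))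
    · obtain ⟨a, ha⟩ := h.bddBelow
      obtain ⟨b, hb⟩ := h.bddAbove
      refine ⟨a, b, fun i hi => IsZero.of_iso ?_ (eH i).symm⟩
      refine (ModuleCat.isZero_iff_subsingleton).2 (not_nontrivial_iff_subsingleton.1 fun hn => ?_)
      rcases hi with hi | hi
      · exact absurd (ha hn) (not_le.2 hi)
      · exact absurd (hb hn) (not_le.2 hi)

end Groth.Agent.S6770
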