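import Groth.Statements.S6775


set_option autoImplicit false
open CategoryTheory CategoryTheory.Limits
universe v u
open CategoryTheory CategoryTheory.Abelian

namespace Groth.Agent.S6775

/-- In an abelian category a cartesian square whose bottom arrow `k` is an epimorphism is also
cocartesian, and the arrow `f` opposite to `k` is an epimorphism. -/
theorem result {A : Type u} [Category.{v} A] [Abelian A] {w x y z : A} (f : w ⟶ y) (g : w ⟶ x) (h : y ⟶ z) (k : x ⟶ z) (sq : IsPullback f g h k) [Epi k] : IsPushout f g h k ∧ Epi f := by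
  haveI hf : Epi f := Abelian.epi_fst_of_isLimit h k sq.isLimit
  refine ⟨IsPushout.of_isColimit' sq.toCommSq ?_, hf⟩
  have hvan : ∀ s : PushoutCocone f g, kernel.ι k ≫ s.inr = 0 := fun s => by
    rw [← sq.lift_snd 0 (kernel.ι k) (by simp), Category.assoc, ← s.condition, ← Category.assoc, sq.lift_fst,
      zero_comp]
  refine PushoutCocone.IsColimit.mk _ (fun s => Abelian.epiDesc k s.inr (hvan s)) (fun s => ?_)
    (fun s => Abelian.comp_epiDesc k _ _) (fun s m _ hm => ?_)
  · rw [← cancel_epi f, ← Category.assoc, sq.w, Category.assoc, Abelian.comp_epiDesc, s.condition]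
  · rw [← cancel_epi k, Abelian.comp_epiDesc, hm]

end Groth.Agent.S6775
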