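import Groth.Statements.S6776


set_option autoImplicit false
open CategoryTheory CategoryTheory.Limits
universe v u
open CategoryTheory CategoryTheory.Abelian

namespace Groth.Agent.S6776

/-- In an abelian category a cocartesian square whose left arrow `g` is a monomorphism is also
cartesian, and the arrow `h` opposite to `g` is a monomorphism. -/
theorem result {A : Type u} [Category.{v} A] [Abelian A] {w x y z : A} (f : w ⟶ y) (g : w ⟶ x) (h : y ⟶ z) (k : x ⟶ z) (sq : IsPushout f g h k) [Mono g] : IsPullback f g h k ∧ Mono h := by
  haveI hh : Mono h := Abelian.mono_inl_of_isColimit f g sq.isColimit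
  refine ⟨IsPullback.of_isLimit' sq.toCommSq ?_, hh⟩
  have hvan : ∀ s : PullbackCone h k, s.snd ≫ cokernel.π g = 0 := fun s => by
    rw [← sq.inr_desc 0 (cokernel.π g) (by simp), ← Category.assoc, ← s.condition, Category.assoc, sq.inl_desc,
      comp_zero]
  refine PullbackCone.IsLimit.mk _ (fun s => Abelian.monoLift g s.snd (hvan s)) (fun s => ?_)
    (fun s => Abelian.monoLift_comp g _ _) (fun s m _ hm => ?_)
  · rw [← cancel_mono h, Category.assoc, sq.w, ← Category.assoc, Abelian.monoLift_comp, s.condition]
  · rw [← cancel_mono g, Abelian.monoLift_comp, hm]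

end Groth.Agent.S6776
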