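import Groth.Statements.S6784
import Mathlib

set_option autoImplicit false
open CategoryTheory
universe u
open SSet

set_option backward.isDefEq.respectTransparency false
open Simplicial
namespace Groth.Agent.S6784

/-- The standard simplex `Δ[n]` is `1`-coskeletal, i.e. it is the right Kan extension of its
`1`-truncation. -/
theorem result (n : ℕ) : SimplicialObject.IsCoskeletal (SSet.stdSimplex.{u}.obj (SimplexCategory.mk n)) 1 := by
  let X : SSet.{u} := SSet.stdSimplex.{u}.obj (SimplexCategory.mk n)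
  suffices h : ∀ m : ℕ, Nonempty ((SSet.Truncated.rightExtensionInclusion X 1).IsPointwiseRightKanExtensionAt (Opposite.op (SimplexCategory.mk m))) from
    ⟨Functor.RightExtension.IsPointwiseRightKanExtension.isRightKanExtension (E := SSet.Truncated.rightExtensionInclusion X 1) (fun Δ ↦ (h Δ.unop.len).some)⟩
  intro m
  let A : ∀ (k : ℕ), k ≤ 1 → (SimplexCategory.mk k ⟶ SimplexCategory.mk m) → StructuredArrow (Opposite.op (SimplexCategory.mk m)) (SimplexCategory.Truncated.inclusion 1).op :=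
    fun k hk f ↦ StructuredArrow.mk (T := (SimplexCategory.Truncated.inclusion 1).op) (Y := Opposite.op (⟨SimplexCategory.mk k, hk⟩ : SimplexCategory.Truncated 1)) f.op
  constructor
  refine ⟨fun s ↦ ↾fun x ↦ SSet.stdSimplex.objMk ⟨fun i ↦ (show X _⦋0⦌ from s.π.app (A 0 zero_le_one (SimplexCategory.const _ _ i)) x) 0, ?_⟩, ?_, ?_⟩
  · intro i i' hii
    let e : X _⦋1⦌ := s.π.app (A 1 le_rfl (SimplexCategory.mkOfLe i i' hii)) x
    let α : A 1 le_rfl (SimplexCategory.mkOfLe i i' hii) ⟶ A 0 zero_le_one (SimplexCategory.const _ _ i) :=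
      StructuredArrow.homMk (SimplexCategory.Truncated.Hom.tr (SimplexCategory.δ 1)).op (Quiver.Hom.unop_inj (show SimplexCategory.δ 1 ≫ SimplexCategory.mkOfLe i i' hii = SimplexCategory.const _ _ i by ext t; fin_cases t; rfl))
    let β : A 1 le_rfl (SimplexCategory.mkOfLe i i' hii) ⟶ A 0 zero_le_one (SimplexCategory.const _ _ i') :=
      StructuredArrow.homMk (SimplexCategory.Truncated.Hom.tr (SimplexCategory.δ 0)).op (Quiver.Hom.unop_inj (show SimplexCategory.δ 0 ≫ SimplexCategory.mkOfLe i i' hii = SimplexCategory.const _ _ i' by ext t; fin_cases t; rfl))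
    have h0 : (show X _⦋0⦌ from s.π.app (A 0 zero_le_one (SimplexCategory.const _ _ i)) x) = X.map (SimplexCategory.δ 1).op e :=
      (ConcreteCategory.congr_hom (s.w α) x).symm
    have h1 : (show X _⦋0⦌ from s.π.app (A 0 zero_le_one (SimplexCategory.const _ _ i')) x) = X.map (SimplexCategory.δ 0).op e :=
      (ConcreteCategory.congr_hom (s.w β) x).symm
    refine le_of_eq_of_le (congrArg (fun z : X _⦋0⦌ ↦ z 0) h0) (le_of_le_of_eq ?_ (congrArg (fun z : X _⦋0⦌ ↦ z 0) h1).symm)
    exact SSet.stdSimplex.monotone_apply e (show (1 : Fin 2).succAbove 0 ≤ (0 : Fin 2).succAbove 0 by decide)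
  · intro s j
    ext x
    obtain ⟨⟨k, hk⟩, ⟨f : _ ⟶ _⟩, rfl⟩ := j.mk_surjective
    obtain ⟨k, rfl⟩ : ∃ k', SimplexCategory.mk k' = k := ⟨_, k.mk_len⟩
    refine SSet.stdSimplex.ext _ _ fun t ↦ ?_
    let α : A k hk f ⟶ A 0 zero_le_one (SimplexCategory.const _ _ (f.toOrderHom t)) :=
      StructuredArrow.homMk (SimplexCategory.Truncated.Hom.tr (SimplexCategory.const ⦋0⦌ ⦋k⦌ t)).op (Quiver.Hom.unop_inj (show SimplexCategory.const ⦋0⦌ ⦋k⦌ t ≫ f = SimplexCategory.const _ _ (f.toOrderHom t) by ext u; rfl))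
    exact congrArg (fun (z : X _⦋0⦌) ↦ z 0) (ConcreteCategory.congr_hom (s.w α) x).symm
  · intro s l hl
    ext x
    refine SSet.stdSimplex.ext _ _ fun t ↦ ?_
    exact congrArg (fun (z : X _⦋0⦌) ↦ z 0) (ConcreteCategory.congr_hom (hl (A 0 zero_le_one (SimplexCategory.const _ _ t))) x)

end Groth.Agent.S6784
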