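import Groth.Statements.S6786
import Groth.Agent.MLTower.Basic
-- import your own Groth.Agent.* helpers here

set_option autoImplicit false
open CategoryTheory CategoryTheory.Limits
universe u
open HomAlg3

namespace Groth.Agent.S6786

open CategoryTheory CategoryTheory.Limits Opposite

/-- For a sequence `(A_i) ⟶ (B_i) ⟶ (C_i) ⟶ (D_i)` of inverse systems of abelian groups over `ℕ` that is
exact levelwise at the two middle places, if `(A_i)` is Mittag-Leffler then `lim B_i ⟶ lim C_i ⟶ lim
D_i` is exact. -/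
theorem result {A B C D : ℕᵒᵖ ⥤ AddCommGrpCat.{u}} (a : A ⟶ B) (b : B ⟶ C) (c : C ⟶ D) (hB : ∀ i, (b.app i).hom.ker = (a.app i).hom.range) (hC : ∀ i, (c.app i).hom.ker = (b.app i).hom.range) (hA : (A ⋙ forget AddCommGrpCat).IsMittagLeffler) : (limMap c).hom.ker = (limMap b).hom.range := by
  ext z
  rw [AddMonoidHom.mem_ker]
  constructor
  · intro hz
    obtain ⟨y, hy, hyz⟩ := Groth.Agent.MLTower.lift_sections ⟨Set.univ, Set.countable_univ, fun i => ⟨i, trivial, le_rfl⟩⟩
      a b hB hA (fun i => (limit.π C i).hom z) (fun f => Groth.Agent.MLTower.limit_π_compat C z f) (fun i => by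
        have h : (limit.π C i).hom z ∈ (c.app i).hom.ker := by
          rw [AddMonoidHom.mem_ker, ← Groth.Agent.MLTower.limMap_π, hz, map_zero]
        rw [hC] at h
        exact h)
    obtain ⟨x, hx⟩ := Groth.Agent.MLTower.exists_limit_elt B y hy
    exact ⟨x, Groth.Agent.MLTower.limit_ext' C _ _ fun i => by rw [Groth.Agent.MLTower.limMap_π, hx, hyz]⟩
  · rintro ⟨y, rfl⟩
    refine Groth.Agent.MLTower.limit_ext' D _ _ fun i => ?_
    rw [Groth.Agent.MLTower.limMap_π, Groth.Agent.MLTower.limMap_π, map_zero, ← AddMonoidHom.mem_ker, hC]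
    exact ⟨_, rfl⟩

end Groth.Agent.S6786
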