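import Groth.Statements.S6787
import Groth.Agent.MLTower.Basic
-- import your own Groth.Agent.* helpers here

set_option autoImplicit false
open CategoryTheory CategoryTheory.Limits
universe u
open HomAlg3

namespace Groth.Agent.S6787

open CategoryTheory CategoryTheory.Limits Opposite

/-- Take inverse systems `(A_i)`, `(B_i)`, `(C_i)` of abelian groups over `ℕ`, with morphisms of systems
`(A_i) ⟶ (B_i) ⟶ (C_i)` that give a short exact sequence at every index, and suppose `(C_i)` is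
essentially constant. Then `(A_i)` is Mittag-Leffler if and only if `(B_i)` is. -/
theorem result {A B C : ℕᵒᵖ ⥤ AddCommGrpCat.{u}} (a : A ⟶ B) (b : B ⟶ C) (ha : ∀ i, Function.Injective (a.app i).hom) (hb : ∀ i, Function.Surjective (b.app i).hom) (hex : ∀ i, (b.app i).hom.ker = (a.app i).hom.range) (hC : ∃ (C₀ : AddCommGrpCat.{u}) (c : (Functor.const ℕᵒᵖ).obj C₀ ⟶ C), DerCA.IsEssConstant C C₀ c) : (A ⋙ forget AddCommGrpCat).IsMittagLeffler ↔ (B ⋙ forget AddCommGrpCat).IsMittagLeffler := by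
  obtain ⟨C₀, c, i₀, s, hs, hfac⟩ := hC
  have hc : ∀ {i j : ℕᵒᵖ} (f : i ⟶ j) (x : C₀), (C.map f).hom ((c.app i).hom x) = (c.app j).hom x :=
    fun {i j} f x => (ConcreteCategory.congr_hom (c.naturality f) x).symm
  have hfac' : ∀ j : ℕ, ∃ (k : ℕ) (_ : i₀ ≤ k) (_ : j ≤ k), ∀ (m : ℕ) (_ : k ≤ m) (g : op m ⟶ op j)
      (g₀ : op m ⟶ op i₀) (y : C.obj (op m)),
      (C.map g).hom y = (c.app (op j)).hom (s.hom ((C.map g₀).hom y)) := by
    intro j
    obtain ⟨k, hi, hj, h⟩ := hfac j
    refine ⟨k, hi, hj, fun m hm g g₀ y => ?_⟩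
    rw [← Groth.Agent.MLTower.map_map' C (homOfLE hm).op (homOfLE hj).op g,
      ← Groth.Agent.MLTower.map_map' C (homOfLE hm).op (homOfLE hi).op g₀]
    exact ConcreteCategory.congr_hom h _
  have hsc : ∀ x, s.hom ((c.app (op i₀)).hom x) = x := fun x => ConcreteCategory.congr_hom hs x
  constructor
  · intro hA
    refine Groth.Agent.MLTower.isMittagLeffler_ext a b hex hA fun j => ?_
    obtain ⟨k, hki, hkj, hk⟩ := hfac' j.unop
    refine ⟨op k, (homOfLE hkj).op, fun {m} g x => ?_⟩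
    obtain ⟨y, hy⟩ := hb m ((c.app m).hom (s.hom ((C.map (homOfLE hki).op).hom ((b.app (op k)).hom x))))
    refine ⟨y, ?_⟩
    rw [hy, hc]
    exact (hk k le_rfl _ _ _).symm
  · intro hB j
    let j' : ℕ := max j.unop i₀
    obtain ⟨i, f, hf⟩ := hB (op j')
    refine ⟨i, f ≫ (homOfLE (le_max_left _ _)).op, fun {k} g => ?_⟩
    rintro _ ⟨x, rfl⟩
    let n : ℕ := max j' k.unop
    obtain ⟨p, hpi, hpn, hp⟩ := hfac' n
    have hnk : k.unop ≤ n := le_max_right _ _
    have hnj : j' ≤ n := le_max_left _ _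
    obtain ⟨y, hy⟩ := hf (k := op p) (homOfLE (hnj.trans hpn)).op ⟨(a.app i).hom x, rfl⟩
    change (B.map (homOfLE (hnj.trans hpn)).op).hom y = (B.map f).hom ((a.app i).hom x) at hy
    have hby : (C.map (homOfLE (hnj.trans hpn)).op).hom ((b.app (op p)).hom y) = 0 := by
      rw [← Groth.Agent.MLTower.naturality', hy, ← Groth.Agent.MLTower.naturality' a, ← AddMonoidHom.mem_ker, hex]
      exact ⟨_, rfl⟩
    have h0 : (C.map (homOfLE hpn).op).hom ((b.app (op p)).hom y) = 0 := by
      rw [hp p le_rfl _ (homOfLE hpi).op]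
      have : s.hom ((C.map (homOfLE hpi).op).hom ((b.app (op p)).hom y)) = 0 := by
        rw [← Groth.Agent.MLTower.map_map' C (homOfLE (hnj.trans hpn)).op (homOfLE (le_max_right _ i₀)).op (homOfLE hpi).op,
          hby, map_zero, map_zero]
      rw [this, map_zero]
    obtain ⟨z, hz⟩ : (B.map (homOfLE (hnk.trans hpn) : k.unop ⟶ p).op).hom y ∈ (a.app k).hom.range := by
      rw [← hex, AddMonoidHom.mem_ker, Groth.Agent.MLTower.naturality',
        ← Groth.Agent.MLTower.map_map' C (homOfLE hpn).op (homOfLE hnk).op, h0, map_zero]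
    refine ⟨z, ha j ?_⟩
    change (a.app j).hom ((A.map g).hom z) = (a.app j).hom ((A.map (f ≫ _)).hom x)
    rw [Groth.Agent.MLTower.naturality', Groth.Agent.MLTower.naturality', hz, Groth.Agent.MLTower.map_map' B _ g
      ((homOfLE (hnj.trans hpn)).op ≫ (homOfLE (le_max_left _ _)).op),
      ← Groth.Agent.MLTower.map_map' B f (homOfLE (le_max_left _ _)).op (f ≫ _), ← hy,
      ← Groth.Agent.MLTower.map_map' B (homOfLE (hnj.trans hpn)).op (homOfLE (le_max_left _ _)).op
      ((homOfLE (hnj.trans hpn)).op ≫ (homOfLE (le_max_left _ _)).op)]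

end Groth.Agent.S6787
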