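import Groth.Statements.S6790
import Mathlib

set_option autoImplicit false
open CategoryTheory CategoryTheory.Limits MonoidalCategory
universe v u
open CategoryTheory CategoryTheory.Monoidal

namespace Groth.Agent.S6790

/-- In an idempotent-complete additive monoidal category, a direct summand of an object admitting a dual
(with coevaluation `𝟙_ A ⟶ X ⊗ Y` and evaluation `Y ⊗ X ⟶ 𝟙_ A`) again admits such a dual. -/
theorem result {A : Type u} [Category.{v} A] [Preadditive A] [HasFiniteBiproducts A] [MonoidalCategory A] [MonoidalPreadditive A] [IsIdempotentComplete A] {X X₁ : A} (i : X₁ ⟶ X) (p : X ⟶ X₁) (hip : i ≫ p = 𝟙 X₁) [HasRightDual X] : Nonempty (HasRightDual X₁) := by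
  let Y := (Xᘁ : A)
  let f : Y ⟶ Y := ((p ≫ i)ᘁ : Xᘁ ⟶ Xᘁ)
  have hf : f ≫ f = f := by
    change ((p ≫ i)ᘁ : Xᘁ ⟶ Xᘁ) ≫ ((p ≫ i)ᘁ : Xᘁ ⟶ Xᘁ) = _
    rw [← comp_rightAdjointMate]
    congr 1
    rw [Category.assoc, reassoc_of% hip]
  obtain ⟨Y₁, j, q, hjq, hqj⟩ := IsIdempotentComplete.idempotents_split Y f hf
  have hfq : f ≫ q = q := by rw [← hqj, Category.assoc, hjq, Category.comp_id]
  have hjf : j ≫ f = j := by rw [← hqj, ← Category.assoc, hjq, Category.id_comp]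
  have hη : η_ X Y ≫ (p ⊗ₘ q) ≫ i ▷ Y₁ = η_ X Y ≫ X ◁ q := by
    have h : (η_ X Y ≫ X ◁ f) = η_ X Y ≫ (p ≫ i) ▷ Y := coevaluation_comp_rightAdjointMate (p ≫ i)
    calc η_ X Y ≫ (p ⊗ₘ q) ≫ i ▷ Y₁ = (η_ X Y ≫ (p ≫ i) ▷ Y) ≫ X ◁ q := by
          rw [MonoidalCategory.tensorHom_def, Category.assoc, whisker_exchange, MonoidalCategory.comp_whiskerRight]
          simp only [Category.assoc, whisker_exchange]
      _ = η_ X Y ≫ X ◁ (f ≫ q) := by rw [← h, Category.assoc, MonoidalCategory.whiskerLeft_comp]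
      _ = _ := by rw [hfq]
  have hε : Y₁ ◁ p ≫ (j ⊗ₘ i) ≫ ε_ X Y = j ▷ X ≫ ε_ X Y := by
    have h : f ▷ X ≫ ε_ X Y = Y ◁ (p ≫ i) ≫ ε_ X Y := rightAdjointMate_comp_evaluation (p ≫ i)
    calc Y₁ ◁ p ≫ (j ⊗ₘ i) ≫ ε_ X Y = j ▷ X ≫ Y ◁ (p ≫ i) ≫ ε_ X Y := by
          rw [MonoidalCategory.tensorHom_def, Category.assoc, MonoidalCategory.whiskerLeft_comp, ← whisker_exchange_assoc,
            Category.assoc, whisker_exchange_assoc, whisker_exchange_assoc]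
      _ = (j ≫ f) ▷ X ≫ ε_ X Y := by rw [← h, MonoidalCategory.comp_whiskerRight, Category.assoc]
      _ = _ := by rw [hjf]
  let η' : 𝟙_ A ⟶ X₁ ⊗ Y₁ := η_ X Y ≫ (p ⊗ₘ q)
  let ε' : Y₁ ⊗ X₁ ⟶ 𝟙_ A := (j ⊗ₘ i) ≫ ε_ X Y
  have t1 : Y₁ ◁ η' ≫ (α_ Y₁ X₁ Y₁).inv ≫ ε' ▷ Y₁ = (ρ_ Y₁).hom ≫ (λ_ Y₁).inv := by
    calc Y₁ ◁ η' ≫ (α_ Y₁ X₁ Y₁).inv ≫ ε' ▷ Y₁
        = j ▷ 𝟙_ A ≫ Y ◁ (η_ X Y ≫ (p ⊗ₘ q) ≫ i ▷ Y₁) ≫ (α_ Y X Y₁).inv ≫ ε_ X Y ▷ Y₁ := by
          simp only [η', ε', MonoidalCategory.tensorHom_def j i, MonoidalCategory.comp_whiskerRight, Category.assoc,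
            ← associator_inv_naturality_left_assoc, ← associator_inv_naturality_middle_assoc]
          rw [whisker_exchange_assoc, MonoidalCategory.whiskerLeft_comp, MonoidalCategory.whiskerLeft_comp,
            MonoidalCategory.whiskerLeft_comp]
          simp only [Category.assoc, whisker_exchange_assoc]
      _ = j ▷ 𝟙_ A ≫ (Y ◁ η_ X Y ≫ (α_ Y X Y).inv ≫ ε_ X Y ▷ Y) ≫ 𝟙_ A ◁ q := by
          rw [hη, MonoidalCategory.whiskerLeft_comp]
          simp only [Category.assoc, associator_inv_naturality_right_assoc, whisker_exchange]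
      _ = (ρ_ Y₁).hom ≫ (λ_ Y₁).inv := by
          rw [ExactPairing.coevaluation_evaluation, Category.assoc, ← leftUnitor_inv_naturality,
            rightUnitor_naturality_assoc, reassoc_of% hjq]
  have t2 : η' ▷ X₁ ≫ (α_ X₁ Y₁ X₁).hom ≫ X₁ ◁ ε' = (λ_ X₁).hom ≫ (ρ_ X₁).inv := by
    calc η' ▷ X₁ ≫ (α_ X₁ Y₁ X₁).hom ≫ X₁ ◁ ε'
        = 𝟙_ A ◁ i ≫ η_ X Y ▷ X ≫ (α_ X Y X).hom ≫ X ◁ (q ▷ X ≫ Y₁ ◁ p ≫ (j ⊗ₘ i) ≫ ε_ X Y) ≫ p ▷ 𝟙_ A := by
          have e1 : (p ⊗ₘ q) ▷ X₁ ≫ (α_ X₁ Y₁ X₁).hom =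
              (α_ X Y X₁).hom ≫ (p ⊗ₘ (q ▷ X₁)) := by
            rw [← tensorHom_id, associator_naturality, tensorHom_id]
          have e2 : i ≫ p = 𝟙 X₁ := hip
          simp only [η', ε', MonoidalCategory.comp_whiskerRight, Category.assoc]
          rw [reassoc_of% e1, MonoidalCategory.tensorHom_def' p, Category.assoc, ← whisker_exchange (p)]
          conv_lhs => rw [show q ▷ X₁ = q ▷ X₁ ≫ Y₁ ◁ (i ≫ p) by rw [e2]; simp]
          simp only [MonoidalCategory.whiskerLeft_comp, Category.assoc]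
          rw [← MonoidalCategory.whiskerLeft_comp_assoc X (q ▷ X₁) (Y₁ ◁ i), ← whisker_exchange,
            MonoidalCategory.whiskerLeft_comp_assoc, ← associator_naturality_right_assoc, ← whisker_exchange_assoc]
      _ = 𝟙_ A ◁ i ≫ η_ X Y ▷ X ≫ (α_ X Y X).hom ≫ X ◁ (f ▷ X ≫ ε_ X Y) ≫ p ▷ 𝟙_ A := by
          rw [hε, ← MonoidalCategory.comp_whiskerRight_assoc, hqj]
      _ = 𝟙_ A ◁ i ≫ (η_ X Y ≫ X ◁ f) ▷ X ≫ (α_ X Y X).hom ≫ X ◁ ε_ X Y ≫ p ▷ 𝟙_ A := by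
          simp only [MonoidalCategory.whiskerLeft_comp, MonoidalCategory.comp_whiskerRight, Category.assoc,
            associator_naturality_middle_assoc]
      _ = 𝟙_ A ◁ i ≫ ((η_ X Y ▷ X ≫ (α_ X Y X).hom ≫ X ◁ ε_ X Y) ≫ (p ≫ i) ▷ 𝟙_ A) ≫ p ▷ 𝟙_ A := by
          rw [show η_ X Y ≫ X ◁ f = η_ X Y ≫ (p ≫ i) ▷ Y from coevaluation_comp_rightAdjointMate (p ≫ i)]
          simp only [MonoidalCategory.comp_whiskerRight, Category.assoc, associator_naturality_left_assoc,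
            whisker_exchange_assoc]
      _ = (λ_ X₁).hom ≫ (ρ_ X₁).inv := by
          rw [ExactPairing.evaluation_coevaluation]
          simp only [Category.assoc, ← MonoidalCategory.comp_whiskerRight, hip, Category.comp_id,
            leftUnitor_naturality_assoc, ← rightUnitor_inv_naturality, reassoc_of% hip]
  exact ⟨{ rightDual := Y₁
           exact := { coevaluation' := η'
                      evaluation' := ε'
                      coevaluation_evaluation' := t1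
                      evaluation_coevaluation' := t2 } }⟩

end Groth.Agent.S6790
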