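import Groth.Statements.S6792
import Mathlib

set_option autoImplicit false
open CategoryTheory
universe v u
open SpSeq SpSeq.FilCx

namespace Groth.Agent.S6792

section

open HomologicalComplex CategoryTheory.Limits

variable {A : Type u} [Category.{v} A] [Abelian A] (K : SpSeq.FilCx A)

lemma exists_top (hK : ∀ n : ℤ, (K.XFil n).IsFinite) (n : ℤ) : ∃ a, ∀ p ≤ a, K.filX p n = ⊤ := by
  obtain ⟨⟨a, ha⟩, -⟩ := hK n
  exact ⟨a, fun p hp => le_antisymm le_top (le_trans (le_of_eq ha.symm) ((K.XFil n).anti hp))⟩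

lemma exists_bot (hK : ∀ n : ℤ, (K.XFil n).IsFinite) (n : ℤ) : ∃ b, ∀ p, b ≤ p → K.filX p n = ⊥ := by
  obtain ⟨-, b, hb⟩ := hK n
  exact ⟨b, fun p hp => le_antisymm (le_trans ((K.XFil n).anti hp) (le_of_eq hb)) bot_le⟩

lemma isZero_subquot {X : A} (Z B : Subobject X) (h : B ≤ Z) (h' : Z ≤ B) : IsZero (SpSeq.subquot Z B h) := by
  obtain rfl := le_antisymm h h'
  change IsZero (cokernel (B.ofLE B h))
  rw [IsZero.iff_id_eq_zero, ← cancel_epi (cokernel.π _)]
  simpa [Subobject.ofLE_refl] using cokernel.condition (B.ofLE B h)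

lemma bounded (hK : ∀ n : ℤ, (K.XFil n).IsFinite) : K.IsBounded 0 := by
  intro n
  obtain ⟨a, ha⟩ := exists_top K hK n
  obtain ⟨b, hb⟩ := exists_bot K hK n
  refine (Set.finite_Icc a b).subset fun p hp => ?_
  by_contra hc
  refine hp (isZero_subquot _ _ _ ?_)
  simp only [Set.mem_Icc, not_and_or, not_le] at hc
  rcases hc with hc | hc
  · have : K.filX (p + 1) n = ⊤ := ha _ (by lia)
    exact le_top.trans (le_of_eq (show ⊤ = SpSeq.FilCx.BSub K 0 p n by simp [SpSeq.FilCx.BSub, this]))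
  · refine le_trans (le_of_eq ?_) bot_le
    simp [SpSeq.FilCx.ZSub, hb p hc.le, hb (p + 1) (by lia)]

lemma isIso_f_of_top {p n : ℤ} (h : K.filX p n = ⊤) : IsIso ((K.fil p).arrow.f n) :=
  (Subobject.isIso_iff_mk_eq_top _).2 h

lemma hfil_top (hK : ∀ n : ℤ, (K.XFil n).IsFinite) (n : ℤ) : ∃ a, ∀ p ≤ a, K.filH p n = ⊤ := by
  obtain ⟨a₁, h₁⟩ := exists_top K hK (n - 1)
  obtain ⟨a₂, h₂⟩ := exists_top K hK n
  obtain ⟨a₃, h₃⟩ := exists_top K hK (n + 1)
  refine ⟨min a₁ (min a₂ a₃), fun p hp => ?_⟩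
  have i₁ := isIso_f_of_top K (h₁ p (by omega))
  have i₂ := isIso_f_of_top K (h₂ p (by omega))
  have i₃ := isIso_f_of_top K (h₃ p (by omega))
  let φ := (shortComplexFunctor A (ComplexShape.up ℤ) n).map (K.fil p).arrow
  haveI : IsIso φ.τ₁ := by
    show IsIso ((K.fil p).arrow.f _)
    rw [CochainComplex.prev]
    exact i₁
  haveI : IsIso φ.τ₂ := i₂
  haveI : IsIso φ.τ₃ := by
    show IsIso ((K.fil p).arrow.f _)
    rw [CochainComplex.next]
    exact i₃
  haveI : IsIso φ := ShortComplex.isIso_of_isIso φ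
  haveI : IsIso (homologyMap (K.fil p).arrow n) :=
    inferInstanceAs (IsIso ((ShortComplex.homologyFunctor A).map φ))
  refine le_antisymm le_top (Subobject.le_of_comm
    ((⊤ : Subobject _).arrow ≫ inv (homologyMap (K.fil p).arrow n) ≫ factorThruImageSubobject _) ?_)
  simp [SpSeq.FilCx.filH]

lemma hfil_bot (hK : ∀ n : ℤ, (K.XFil n).IsFinite) (n : ℤ) : ∃ b, ∀ p, b ≤ p → K.filH p n = ⊥ := by
  obtain ⟨b, hb⟩ := exists_bot K hK n
  refine ⟨b, fun p hp => ?_⟩
  have h0 : (K.fil p).arrow.f n = 0 := (Subobject.mk_eq_bot_iff_zero).1 (hb p hp)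
  have hz : IsZero (((K.fil p : Subobject _) : CochainComplex A ℤ).X n) := IsZero.of_mono_eq_zero _ h0
  have h1 : homologyMap (K.fil p).arrow n = 0 :=
    (ShortComplex.isZero_homology_of_isZero_X₂ _ hz).eq_of_src _ _
  show imageSubobject (homologyMap (K.fil p).arrow n) = ⊥
  rw [h1, imageSubobject_zero]

lemma pullback_bot {X Y : A} (f : X ⟶ Y) : (Subobject.pullback f).obj (⊥ : Subobject Y) = kernelSubobject f := by
  refine le_antisymm (le_kernelSubobject _ _ ?_) (SpSeq.FilCx.kernelSubobject_le_pullback f ⊥)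
  rw [← (Subobject.isPullback f ⊥).w, Subobject.bot_arrow, comp_zero]

lemma converges (hK : ∀ n : ℤ, (K.XFil n).IsFinite) : K.Converges := by
  have hZ : ∀ p n, ∃ r₀ : ℕ, ∀ r, r₀ ≤ r → K.ZSub r p n = K.ZTop p n := by
    intro p n
    obtain ⟨b, hb⟩ := exists_bot K hK (n + 1)
    refine ⟨(b - p).toNat, fun r hr => ?_⟩
    rw [SpSeq.FilCx.ZSub, hb (p + r) (by omega), pullback_bot]
    rfl
  refine ⟨fun p n => ?_, ⟨fun p n => ⟨?_, ?_⟩, fun n => ⟨?_, ?_⟩⟩, fun n T f hf => ?_⟩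
  · obtain ⟨r₀, hr⟩ := hZ p n
    exact ⟨r₀, fun r h => (hr r h).trans (hr r₀ le_rfl).symm⟩
  · obtain ⟨r₀, hr⟩ := hZ p n
    refine IsLeast.isGLB ⟨⟨r₀, hr r₀ le_rfl⟩, ?_⟩
    rintro _ ⟨r, rfl⟩
    exact sup_le_sup_right (inf_le_inf_left _ (SpSeq.FilCx.kernelSubobject_le_pullback _ _)) _
  · obtain ⟨a, ha⟩ := exists_top K hK (n - 1)
    let r₀ := (p + 1 - a).toNat
    refine IsGreatest.isLUB ⟨⟨r₀, ?_⟩, ?_⟩
    · show SpSeq.FilCx.BSub K r₀ p n = K.BBot p n
      have h := ha (p - r₀ + 1) (by omega)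
      haveI : IsIso (K.filX (p - r₀ + 1) (n - 1)).arrow := (Subobject.isIso_arrow_iff_eq_top _).2 h
      rw [SpSeq.FilCx.BSub, imageSubobject_iso_comp]
      rfl
    · rintro _ ⟨r, rfl⟩
      exact sup_le_sup_right (inf_le_inf_left _ (imageSubobject_comp_le _ _)) _
  · obtain ⟨b, hb⟩ := hfil_bot K hK n
    exact IsLeast.isGLB ⟨⟨b, hb b le_rfl⟩, fun x _ => bot_le⟩
  · obtain ⟨a, ha⟩ := hfil_top K hK n
    exact IsGreatest.isLUB ⟨⟨a, ha a le_rfl⟩, fun x _ => le_top⟩
  · obtain ⟨b, hb⟩ := hfil_bot K hK n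
    have hiso : ∀ p, b ≤ p → IsIso (cokernel.π ((K.HFil n).fil p).arrow) := fun p hp => by
      have e : ((K.HFil n).fil p).arrow = 0 := by
        have h : (K.HFil n).fil p = ⊥ := hb p hp
        rw [h, Subobject.bot_arrow]
      exact ⟨cokernel.desc _ (𝟙 _) (by rw [e]; simp), cokernel.π_desc _ _ _, by
        rw [← cancel_epi (cokernel.π _)]; simp⟩
    haveI := hiso b le_rfl
    refine ⟨f b ≫ inv (cokernel.π ((K.HFil n).fil b).arrow), fun p => ?_⟩
    rcases le_total p b with hp | hp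
    · rw [← hf p b hp, Category.assoc, IsIso.inv_comp_eq _ |>.2]
      exact (cokernel.π_desc _ _ _).symm
    · haveI := hiso p hp
      have hq : cokernel.π ((K.HFil n).fil p).arrow ≫ (K.HFil n).quotMap hp = cokernel.π ((K.HFil n).fil b).arrow :=
        cokernel.π_desc _ _ _
      haveI : IsIso ((K.HFil n).quotMap hp) := by
        haveI : IsIso (cokernel.π ((K.HFil n).fil p).arrow ≫ (K.HFil n).quotMap hp) := by rw [hq]; infer_instance
        exact IsIso.of_isIso_comp_left (cokernel.π ((K.HFil n).fil p).arrow) _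
      rw [← cancel_mono ((K.HFil n).quotMap hp), hf b p hp, Category.assoc, hq, Category.assoc, IsIso.inv_hom_id,
        Category.comp_id]

end


/-- For a filtered complex whose filtration is finite in each degree, the associated spectral sequence
is bounded (from page `0` on), the induced filtration on each cohomology object is finite, and the
spectral sequence converges to the cohomology. -/
theorem result {A : Type u} [Category.{v} A] [Abelian A] (K : SpSeq.FilCx A) (hK : ∀ n : ℤ, (K.XFil n).IsFinite) : K.IsBounded 0 ∧ (∀ n : ℤ, (K.HFil n).IsFinite) ∧ K.Converges := by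
  refine ⟨bounded K hK, fun n => ⟨?_, ?_⟩, converges K hK⟩
  · obtain ⟨a, ha⟩ := hfil_top K hK n
    exact ⟨a, ha a le_rfl⟩
  · obtain ⟨b, hb⟩ := hfil_bot K hK n
    exact ⟨b, hb b le_rfl⟩

end Groth.Agent.S6792
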