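import Groth.Statements.S6805
import Mathlib

set_option autoImplicit false
open CategoryTheory
universe u
open SSet

set_option backward.isDefEq.respectTransparency false
namespace Groth.Agent.S6805

/-- The simplicial set freely generated by an `m`-truncated simplicial set (its image under the left
adjoint of `m`-truncation) has only degenerate simplices above dimension `m`. -/
theorem result (m : ℕ) (U : SSet.Truncated.{u} m) : ((SSet.Truncated.sk m).obj U).HasDimensionLT (m + 1) := by
  refine ⟨fun n hn ↦ ?_⟩
  ext z
  refine iff_of_true ?_ trivial
  let L := (SimplexCategory.Truncated.inclusion m).op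
  have hc := (Functor.isPointwiseLeftKanExtensionLeftKanExtensionUnit L U) (Opposite.op (SimplexCategory.mk n))
  obtain ⟨j, u, hu⟩ := Limits.Types.jointly_surjective _ hc z
  have hk : j.left.unop.obj.len < n := by
    have h : j.left.unop.obj.len ≤ m := j.left.unop.property
    omega
  exact ⟨j.left.unop.obj.len, hk, j.hom.unop, _, hu⟩

end Groth.Agent.S6805
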