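import Groth.Statements.S6808
-- import your own Groth.Agent.* helpers here

set_option autoImplicit false
open CategoryTheory Opposite
universe u
open SSet

namespace Groth.Agent.S6808

/-- A map of simplicial sets preserving non-degeneracy of simplices and injective on non-degenerate
simplices is injective in every dimension. -/
theorem result {U V : SSet.{u}} (f : U ⟶ V) (ha : ∀ (n : ℕ) (x : U.obj (op (SimplexCategory.mk n))), x ∈ U.nonDegenerate n → f.app (op (SimplexCategory.mk n)) x ∈ V.nonDegenerate n) (hb : ∀ n : ℕ, Set.InjOn (f.app (op (SimplexCategory.mk n))) (U.nonDegenerate n)) (n : ℕ) : Function.Injective (f.app (op (SimplexCategory.mk n))) := by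
  intro x x' h
  obtain ⟨m, σ, hσ, y, hy⟩ := U.exists_nonDegenerate x
  obtain ⟨m', σ', hσ', y', hy'⟩ := U.exists_nonDegenerate x'
  have e : f.app _ x = V.map σ.op (f.app _ y.1) := by
    rw [hy, NatTrans.naturality_apply]
  have e' : f.app _ x = V.map σ'.op (f.app _ y'.1) := by
    rw [h, hy', NatTrans.naturality_apply]
  obtain rfl := V.unique_nonDegenerate_dim _ σ ⟨_, ha m y.1 y.2⟩ e σ' ⟨_, ha m' y'.1 y'.2⟩ e'
  have hz := V.unique_nonDegenerate_simplex _ σ ⟨_, ha m y.1 y.2⟩ e σ' ⟨_, ha m y'.1 y'.2⟩ e'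
  have hs := V.unique_nonDegenerate_map _ σ ⟨_, ha m y.1 y.2⟩ e σ' ⟨_, ha m y'.1 y'.2⟩ e'
  have hy2 : y.1 = y'.1 := hb m y.2 y'.2 (congrArg Subtype.val hz)
  rw [hy, hy', hs, hy2]

end Groth.Agent.S6808
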