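import Groth.Statements.S6812
import Mathlib
import Groth.Agent.S6805

set_option autoImplicit false
open CategoryTheory
universe u
open SSet

set_option backward.isDefEq.respectTransparency false
namespace Groth.Agent.S6812

/-- For a simplicial set `U`, the counit `i_{n!} sk_n U ⟶ U` of the skeleton adjunction is a
monomorphism whose image is the subcomplex of `U` generated by its simplices of dimension `≤ n`. -/
theorem result (U : SSet.{u}) (n : ℕ) : Mono ((SSet.skAdj n).counit.app U) ∧ SSet.Subcomplex.range ((SSet.skAdj n).counit.app U) = U.skeleton (n + 1) := by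
  set c := (SSet.skAdj n).counit.app U with hc
  have hiso : IsIso ((SSet.truncation n).map c) :=
    IsIso.of_isIso_fac_left ((SSet.skAdj n).right_triangle_components U)
  have hbij : ∀ k, k ≤ n → Function.Bijective (c.app (Opposite.op (SimplexCategory.mk k))) := fun k hk ↦ by
    have : IsIso (c.app (Opposite.op (SimplexCategory.mk k))) :=
      (inferInstance : IsIso (((SSet.truncation n).map c).app (Opposite.op ⟨SimplexCategory.mk k, hk⟩)))
    exact (isIso_iff_bijective _).mp this
  have hd : ((SSet.Truncated.sk n).obj ((SSet.truncation n).obj U)).HasDimensionLT (n + 1) :=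
    Groth.Agent.S6805.result n _
  set X := (SSet.Truncated.sk n).obj ((SSet.truncation n).obj U) with hX
  have hnd : ∀ {j : ℕ} (y : X.nonDegenerate j), c.app (Opposite.op (SimplexCategory.mk j)) y.1 ∈ U.nonDegenerate j := by
    intro j y
    have hjn : j ≤ n := by have := X.dim_lt_of_nonDegenerate y (n + 1); omega
    rw [SSet.mem_nonDegenerate_iff_notMem_degenerate]
    rintro ⟨i, hi, f, v, hv⟩
    obtain ⟨v', rfl⟩ := (hbij i (by omega)).2 v
    refine (SSet.mem_nonDegenerate_iff_notMem_degenerate _ _).mp y.2 ⟨i, hi, f, v', (hbij j hjn).1 ?_⟩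
    exact (NatTrans.naturality_apply c f.op v').trans hv

  constructor
  · have hinj : ∀ (p : SimplexCategoryᵒᵖ), Mono (c.app p) := by
      intro p
      rw [mono_iff_injective]
      intro z z' hzz
      obtain ⟨j, f, _, y, rfl⟩ := X.exists_nonDegenerate (n := p.unop.len) z
      obtain ⟨j', f', _, y', rfl⟩ := X.exists_nonDegenerate (n := p.unop.len) z'
      have hjn : j ≤ n := by have := X.dim_lt_of_nonDegenerate y (n + 1); omega
      have e1 := NatTrans.naturality_apply c f.op y.1
      have e2 := NatTrans.naturality_apply c f'.op y'.1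
      have e : U.map f.op (c.app _ y.1) = U.map f'.op (c.app _ y'.1) := e1.symm.trans (hzz.trans e2)
      obtain rfl := U.unique_nonDegenerate_dim _ f ⟨_, hnd y⟩ rfl f' ⟨_, hnd y'⟩ e
      have ey := congrArg Subtype.val (U.unique_nonDegenerate_simplex _ f ⟨_, hnd y⟩ rfl f' ⟨_, hnd y'⟩ e)
      have ef := U.unique_nonDegenerate_map _ f ⟨_, hnd y⟩ rfl f' ⟨_, hnd y'⟩ e
      rw [ef, (hbij j hjn).1 ey]
    exact NatTrans.mono_of_mono_app c
  · ext p u
    constructor
    · rintro ⟨z, rfl⟩
      obtain ⟨j, f, _, y, rfl⟩ := X.exists_nonDegenerate (n := p.unop.len) z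
      refine Eq.subst (motive := fun w ↦ w ∈ (U.skeleton (n + 1)).obj p) (NatTrans.naturality_apply c f.op y.1).symm ?_
      exact (U.skeleton (n + 1)).map f.op (U.mem_skeleton _ (by have := X.dim_lt_of_nonDegenerate y (n + 1); omega))
    · intro hu
      refine (show U.skeleton (n + 1) ≤ SSet.Subcomplex.range c from ?_) p hu
      refine iSup_le fun i ↦ iSup_le fun x ↦ ?_
      rw [SSet.Subcomplex.ofSimplex_le_iff]
      exact (hbij i.1 (Nat.lt_succ_iff.mp i.2)).2 x.1

end Groth.Agent.S6812
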