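import Groth.Statements.S6813
import Groth.Agent.SimpTrunc.Basic

set_option autoImplicit false
open CategoryTheory CategoryTheory.Limits
universe v u
open CategoryTheory CategoryTheory.SimplicialObject

namespace Groth.Agent.S6813

/-- For `k ≥ 1` the forgetful functor from the over category `C/X` to `C` (with `C` having finite
limits) commutes with `cosk_k`; stated as: a `k`-coskeletal simplicial object of `C/X` has
`k`-coskeletal underlying simplicial object in `C`. -/
theorem result {C : Type u} [Category.{v} C] [HasFiniteLimits C] (X : C) (k : ℕ) (hk : 1 ≤ k) (V : SimplicialObject (Over X)) [V.IsCoskeletal k] : SimplicialObject.IsCoskeletal (V ⋙ Over.forget X) k := by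
  haveI hk' : ∀ (F : (SimplexCategory.Truncated k)ᵒᵖ ⥤ Over X),
      (SimplexCategory.Truncated.inclusion k).op.HasPointwiseRightKanExtension F :=
    SimpTrunc.hasPointwiseRight k
  let L := (SimplexCategory.Truncated.inclusion k).op
  have hp := Functor.isPointwiseRightKanExtensionOfIsRightKanExtension V (𝟙 (L ⋙ V))
  have hconn : ∀ Y, IsConnected (StructuredArrow Y L) := by
    rintro ⟨n⟩
    induction n using SimplexCategory.rec with
    | _ n =>
    let vert : Fin (n + 1) → StructuredArrow (Opposite.op (SimplexCategory.mk n)) L := fun x =>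
      StructuredArrow.mk (Y := Opposite.op (⟨SimplexCategory.mk 0, Nat.zero_le k⟩ : SimplexCategory.Truncated k))
        (SimplexCategory.const (SimplexCategory.mk 0) (SimplexCategory.mk n) x).op
    haveI : Nonempty (StructuredArrow (Opposite.op (SimplexCategory.mk n)) L) := ⟨vert 0⟩
    have hv : ∀ (g : StructuredArrow (Opposite.op (SimplexCategory.mk n)) L) (i), Zigzag g (vert (g.hom.unop.toOrderHom i)) := by
      intro g i
      refine Zigzag.of_hom (StructuredArrow.homMk
        (ObjectProperty.homMk (SimplexCategory.const (SimplexCategory.mk 0) (Opposite.unop g.right).obj i)).op ?_)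
      apply Quiver.Hom.unop_inj
      exact SimplexCategory.Hom.ext _ _ (OrderHom.ext _ _ (funext fun _ => rfl))
    have hle : ∀ x y : Fin (n + 1), x ≤ y → Zigzag (vert x) (vert y) := by
      intro x y hxy
      let e : StructuredArrow (Opposite.op (SimplexCategory.mk n)) L :=
        StructuredArrow.mk (Y := Opposite.op (⟨SimplexCategory.mk 1, hk⟩ : SimplexCategory.Truncated k))
          (SimplexCategory.mkOfLe x y hxy).op
      exact (hv e (0 : Fin 2)).symm.trans (hv e (1 : Fin 2))
    refine zigzag_isConnected fun a b => ?_
    refine (hv a 0).trans (Zigzag.trans ?_ (hv b 0).symm)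
    rcases le_total (a.hom.unop.toOrderHom 0) (b.hom.unop.toOrderHom 0) with h | h
    · exact hle _ _ h
    · exact (hle _ _ h).symm
  refine ⟨Functor.RightExtension.IsPointwiseRightKanExtension.isRightKanExtension
    (E := Functor.RightExtension.mk (V ⋙ Over.forget X) (𝟙 (L ⋙ V ⋙ Over.forget X))) fun Y => ?_⟩
  haveI := hconn Y
  exact IsLimit.ofIsoLimit (isLimitOfPreserves (Over.forget X) (hp Y))
    (Cone.ext (Iso.refl _) fun g => by
      show ((V.map g.hom ≫ 𝟙 (V.obj (L.obj g.right))) : _ ⟶ _).left =
        𝟙 (V.obj Y).left ≫ (V.map g.hom).left ≫ 𝟙 (V.obj (L.obj g.right)).left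
      simp)

end Groth.Agent.S6813
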