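import Groth.Statements.S6820
import Mathlib.Algebra.Module.LocalizedModule.Basic
import Mathlib.RingTheory.Noetherian.Basic
-- import your own Groth.Agent.* helpers here

set_option autoImplicit false
universe u
open Smoothing

namespace Groth.Agent.S6820

/-- Let A be a Noetherian ring, M a finite A-module, S a multiplicative subset of A and π an element of
A such that on the localised module S⁻¹M the kernels of multiplication by π and by π² agree. Then
there is an element s of S such that for every n > 0 the kernels of multiplication by sⁿπ and by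
(sⁿπ)² on M agree. (Kernel equalities are written as implications, the reverse inclusions being
automatic.) -/
theorem result {A : Type u} [CommRing A] [IsNoetherianRing A]
    (M : Type u) [AddCommGroup M] [Module A M] [Module.Finite A M] (S : Submonoid A) (π : A)
    (h : ∀ m : LocalizedModule S M, π ^ 2 • m = 0 → π • m = 0) :
    ∃ s ∈ S, ∀ n : ℕ, 0 < n → ∀ m : M, (s ^ n * π) ^ 2 • m = 0 → (s ^ n * π) • m = 0 := by
  obtain ⟨gs, hgs⟩ := (IsNoetherian.noetherian
    (LinearMap.ker (π ^ 2 • (LinearMap.id : M →ₗ[A] M))) )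
  have hkill : ∀ m : M, π ^ 2 • m = 0 → ∃ t ∈ S, (t * π) • m = 0 := by
    intro m hm
    have h1 := h (LocalizedModule.mk m 1) (by rw [LocalizedModule.smul'_mk, hm, LocalizedModule.zero_mk])
    rw [LocalizedModule.smul'_mk, ← LocalizedModule.zero_mk (1 : S), LocalizedModule.mk_eq] at h1
    obtain ⟨t, ht⟩ := h1
    refine ⟨t, t.2, ?_⟩
    simp only [one_smul, smul_zero] at ht
    rw [mul_smul]
    exact ht
  classical
  choose! t htS ht using hkill
  have hmem : ∀ g ∈ gs, π ^ 2 • g = 0 := fun g hg => by
    have := hgs.le (Submodule.subset_span hg)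
    simpa using this
  let s₀ : A := ∏ g ∈ gs, t g
  have hs₀ : s₀ ∈ S := Submonoid.prod_mem S fun g hg => htS g (hmem g hg)
  have hall : ∀ m : M, π ^ 2 • m = 0 → (s₀ * π) • m = 0 := by
    intro m hm
    have hmm : m ∈ LinearMap.ker (π ^ 2 • (LinearMap.id : M →ₗ[A] M)) := by simpa using hm
    rw [← hgs] at hmm
    induction hmm using Submodule.span_induction with
    | mem g hg =>
      obtain ⟨c, hc⟩ : t g ∣ s₀ := Finset.dvd_prod_of_mem _ hg
      rw [hc, mul_comm (t g) c, mul_assoc, mul_smul, ht g (hmem g hg), smul_zero]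
    | zero => rw [smul_zero]
    | add a b ha hb iha ihb =>
      have hk : ∀ z ∈ Submodule.span A (gs : Set M), π ^ 2 • z = 0 := fun z hz => by
        simpa using hgs.le hz
      rw [smul_add, iha (hk a ha), ihb (hk b hb), add_zero]
    | smul c a ha iha =>
      rw [smul_comm, iha (by simpa using hgs.le ha), smul_zero]
  let K : ℕ →o Submodule A M :=
    ⟨fun j => LinearMap.ker (s₀ ^ j • (LinearMap.id : M →ₗ[A] M)), monotone_nat_of_le_succ fun j m hm => by
      simp only [LinearMap.mem_ker, LinearMap.smul_apply, LinearMap.id_apply] at hm ⊢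
      rw [pow_succ', mul_smul, hm, smul_zero]⟩
  obtain ⟨c, hc⟩ := monotone_stabilizes_iff_noetherian.2 (inferInstance : IsNoetherian A M) K
  refine ⟨s₀ ^ (c + 1), pow_mem hs₀ _, fun n hn m hm => ?_⟩
  set e := (c + 1) * n
  rw [← pow_mul] at hm ⊢
  have h1 : π ^ 2 • ((s₀ ^ e) ^ 2 • m) = 0 := by rw [smul_smul, ← hm]; congr 1; ring
  have h2 := hall _ h1
  have h3 : s₀ ^ (1 + (e + e)) • (π • m) = 0 := by
    rw [smul_smul, ← h2, smul_smul]; congr 1; ring
  have hce : c ≤ e := le_trans (Nat.le_succ c) (Nat.le_mul_of_pos_right _ hn)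
  have h4 : π • m ∈ K (1 + (e + e)) := LinearMap.mem_ker.2 h3
  rw [← hc _ (by omega), hc e hce] at h4
  rw [mul_smul]
  exact LinearMap.mem_ker.1 h4

end Groth.Agent.S6820
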