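import Groth.Statements.S6842
import Groth.Agent.HomColim.Coprod

set_option autoImplicit false
universe u
open CategoryTheory CategoryTheory.Limits TopologicalSpace
open ModSite

namespace Groth.Agent.S6842

/-- Let (X, O) be a ringed space, (F_i)_{i ∈ I} a family of O-modules and U ⊆ X a quasi-compact open.
Then the canonical map ⊕_i F_i(U) → (⊕_i F_i)(U) is bijective: every section of the direct sum over
U is a finite sum of images of sections of the F_i over U (surjectivity), and such a finite sum
vanishes only if each term's section is zero (injectivity). -/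
theorem result {X : TopCat.{u}} (O : TopCat.Sheaf CommRingCat.{u} X)
    {I : Type u} (F : I → ModSite.Mod O) [HasCoproduct F] (U : Opens X) (hU : IsCompact (U : Set X)) :
    (∀ s : ModSite.sect (∐ F) U, ∃ (S : Finset I) (t : ∀ i, ModSite.sect (F i) U),
        s = ∑ i ∈ S, ((Sigma.ι F i).val.app (Opposite.op U)).hom (t i)) ∧
      ∀ (S : Finset I) (t : ∀ i, ModSite.sect (F i) U),
        ∑ i ∈ S, ((Sigma.ι F i).val.app (Opposite.op U)).hom (t i) = 0 → ∀ i ∈ S, t i = 0 := by
  classical
  let c := colimit.cocone (Discrete.functor F)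
  have hc : IsColimit c := colimit.isColimit _
  choose π hπ hπ' using Groth.Agent.HomColim.exists_proj c hc
  refine ⟨fun s => ?_, fun S t h i hi => ?_⟩
  · obtain ⟨T, -, hT⟩ := Groth.Agent.HomColim.exists_eq_sum_proj c (Groth.Agent.HomColim.finRefines_of_isCompact hU) hc π hπ hπ' s
    refine ⟨T.image Discrete.as, fun i => (π ⟨i⟩).val.app (Opposite.op U) s, hT.trans ?_⟩
    rw [Finset.sum_image (fun a _ b _ h => Discrete.ext h)]
    exact Finset.sum_congr rfl fun j _ => rfl
  · have h1 := congrArg ((π ⟨i⟩).val.app (Opposite.op U)).hom h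
    rw [map_sum, map_zero, Finset.sum_eq_single i] at h1
    · refine Eq.trans ?_ h1
      show _ = (c.ι.app ⟨i⟩ ≫ π ⟨i⟩).val.app (Opposite.op U) (t i)
      rw [hπ]
      rfl
    · intro j _ hj
      show (c.ι.app ⟨j⟩ ≫ π ⟨i⟩).val.app (Opposite.op U) (t j) = 0
      rw [hπ' ⟨i⟩ ⟨j⟩ fun e => hj (congrArg Discrete.as e)]
      rfl
    · exact fun h => absurd hi h

end Groth.Agent.S6842
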