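import Groth.Statements.S6857
import Mathlib
import Groth.Agent.SheafEmb.Basic
import Groth.Prelude.Def_CohTop

set_option autoImplicit false
universe u
open CategoryTheory CategoryTheory.Limits TopologicalSpace
open CohTop

set_option backward.isDefEq.respectTransparency false
set_option backward.isDefEq.respectTransparency.types false
namespace Groth.Agent.S6857

section
open CategoryTheory CategoryTheory.Limits TopologicalSpace Opposite CohTop

variable {Z X : TopCat.{u}} (i : Z ⟶ X)

private lemma subsingleton_bot (F : CohTop.Ab Z) {W : Opens Z} (hW : W = ⊥) : Subsingleton (F.obj.obj (op W)) := by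
  subst hW
  exact AddCommGrpCat.subsingleton_of_isZero (IsTerminal.isZero (TopCat.Sheaf.isTerminalOfEmpty (F : TopCat.Sheaf AddCommGrpCat.{u} Z)))

private lemma stalk_outside (hi : IsClosed (Set.range i)) (F : CohTop.Ab Z) {x : X} (hx : x ∉ Set.range i) :
    IsZero (CohTop.stalk ((CohTop.push i).obj F) x) := by
  haveI : Subsingleton (CohTop.stalk ((CohTop.push i).obj F) x) := by
    refine ⟨fun a b => ?_⟩
    let P : TopCat.Presheaf AddCommGrpCat.{u} X := ((CohTop.push i).obj F).obj
    obtain ⟨V, hxV, s, rfl⟩ := P.exists_germ_eq a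
    obtain ⟨V', hxV', t, rfl⟩ := P.exists_germ_eq b
    let V₀ : Opens X := ⟨(Set.range i)ᶜ, hi.isOpen_compl⟩
    haveI : Subsingleton (P.obj (op (V ⊓ V' ⊓ V₀))) :=
      subsingleton_bot F (eq_bot_iff.2 fun z hz => hz.2 ⟨z, rfl⟩)
    rw [← P.germ_res_apply (homOfLE (inf_le_left.trans inf_le_left : V ⊓ V' ⊓ V₀ ≤ V)) x ⟨⟨hxV, hxV'⟩, hx⟩ s,
      ← P.germ_res_apply (homOfLE (inf_le_left.trans inf_le_right : V ⊓ V' ⊓ V₀ ≤ V')) x ⟨⟨hxV, hxV'⟩, hx⟩ t]
    exact congrArg _ (Subsingleton.elim _ _)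
  exact AddCommGrpCat.isZero_of_subsingleton _

private lemma push_epi (hi : Topology.IsClosedEmbedding i) {F G : CohTop.Ab Z} (φ : F ⟶ G) [Epi φ] :
    Epi ((CohTop.push i).map φ) := by
  have hls := (TopCat.Presheaf.isLocallySurjective_iff φ.hom).1 ((Sheaf.isLocallySurjective_iff_epi' AddCommGrpCat φ).2 ‹_›)
  refine (Sheaf.isLocallySurjective_iff_epi' AddCommGrpCat.{u} ((CohTop.push i).map φ)).1
    ((TopCat.Presheaf.isLocallySurjective_iff ((CohTop.push i).map φ).hom).2 fun V t x hx => ?_)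
  by_cases hr : x ∈ Set.range i
  · obtain ⟨z, rfl⟩ := hr
    obtain ⟨W, ι, ⟨s, hs⟩, hz⟩ := hls ((Opens.map i).obj V) t z hx
    let K := hi.isInducing.functorObj W ⊓ V
    have hK : (Opens.map i).obj K ≤ W := fun y hy => (hi.isInducing.mem_functorObj_iff W).1 hy.1
    refine ⟨K, inf_le_right, ⟨F.obj.map (homOfLE hK).op s, ?_⟩, (hi.isInducing.mem_functorObj_iff W).2 hz, hx⟩
    refine (ConcreteCategory.congr_hom (φ.hom.naturality (homOfLE hK).op) s).trans ?_
    refine (congrArg (G.obj.map (homOfLE hK).op) hs).trans ?_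
    show (G.obj.map _ ≫ G.obj.map _) t = G.obj.map _ t
    rw [← G.obj.map_comp]
    rfl
  · let K : Opens X := V ⊓ ⟨(Set.range i)ᶜ, hi.isClosed_range.isOpen_compl⟩
    have hsub : Subsingleton (G.obj.obj (op ((Opens.map i).obj K))) :=
      subsingleton_bot G (eq_bot_iff.2 fun z hz => hz.2 ⟨z, rfl⟩)
    exact ⟨K, inf_le_left, ⟨(0 : F.obj.obj (op ((Opens.map i).obj K))), hsub.elim _ _⟩, hx, hr⟩

private lemma mem_ess (hi : Topology.IsClosedEmbedding i) (G : CohTop.Ab X)
    (hG : ∀ x : X, x ∉ Set.range i → IsZero (CohTop.stalk G x)) : (CohTop.push i).essImage G := by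
  let G' : X.Sheaf (Type u) := ⟨G.obj ⋙ forget AddCommGrpCat.{u},
    (TopCat.Presheaf.isSheaf_iff_isSheaf_comp (forget AddCommGrpCat.{u}) G.obj).1 G.2⟩
  have hG' : ∀ x : X, x ∉ Set.range i → Nonempty (Unique (G'.presheaf.stalk x)) := by
    intro x hx
    let P : TopCat.Presheaf AddCommGrpCat.{u} X := G.obj
    haveI := AddCommGrpCat.subsingleton_of_isZero (hG x hx)
    refine ⟨@uniqueOfSubsingleton _ ⟨fun a b => ?_⟩ (G'.presheaf.germ ⊤ x trivial (0 : G.obj.obj (op ⊤)))⟩
    obtain ⟨V, hxV, s, rfl⟩ := G'.presheaf.exists_germ_eq a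
    obtain ⟨V', hxV', t, rfl⟩ := G'.presheaf.exists_germ_eq b
    obtain ⟨W, hW, i₁, i₂, h⟩ := P.germ_eq x hxV hxV' s t
      (Subsingleton.elim (α := CohTop.stalk G x) (P.germ V x hxV s) (P.germ V' x hxV' t))
    exact G'.presheaf.germ_ext W hW i₁ i₂ h
  let K := hi.isInducing.functor
  obtain ⟨F₀, ⟨e⟩⟩ := Groth.Agent.SheafEmb.mem_essImage hi G' hG'
  have hK : ∀ W, (Opens.map i).obj (K.obj W) = W := hi.isInducing.map_functorObj
  let P : TopCat.Presheaf AddCommGrpCat.{u} Z := K.op ⋙ G.obj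
  have hP : P.IsSheaf := by
    refine (TopCat.Presheaf.isSheaf_iff_isSheaf_comp (forget AddCommGrpCat.{u}) P).2 ?_
    refine TopCat.Presheaf.isSheaf_of_iso ?_ F₀.2
    exact NatIso.ofComponents (fun W => F₀.obj.mapIso (eqToIso (congrArg op (hK W.unop)).symm) ≪≫
      ((sheafToPresheaf _ _).mapIso e).app (op (K.obj W.unop))) (fun {W W'} f => by
        have hn := ((sheafToPresheaf _ _).mapIso e).hom.naturality (K.map f.unop).op
        change F₀.obj.map _ ≫ _ = _ ≫ (G'.obj.map _) at hn
        change F₀.obj.map f ≫ F₀.obj.map _ ≫ _ = (F₀.obj.map _ ≫ _) ≫ G'.obj.map (K.map f.unop).op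
        rw [Category.assoc]
        refine Eq.trans ?_ (congrArg (F₀.obj.map (eqToIso (congrArg op (hK W.unop)).symm).hom ≫ ·) hn)
        rw [← Category.assoc, ← Category.assoc, ← Functor.map_comp, ← Functor.map_comp]
        rfl)
  have hle : ∀ V : Opens X, V ≤ K.obj ((Opens.map i).obj V) := fun V => hi.isInducing.le_functorObj_iff.2 le_rfl
  haveI : ∀ V : Opens X, IsIso (G.obj.map (homOfLE (hle V)).op) := fun V => by
    rw [ConcreteCategory.isIso_iff_bijective]
    exact Groth.Agent.SheafEmb.res_bijective hi G' hG' (hle V) fun z hz =>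
      (hi.isInducing.mem_functorObj_iff ((Opens.map i).obj V)).1 hz
  refine ⟨⟨P, hP⟩, ⟨(fullyFaithfulSheafToPresheaf _ _).preimageIso
    (NatIso.ofComponents (fun V => asIso (G.obj.map (homOfLE (hle V.unop)).op)) fun {V V'} f => ?_)⟩⟩
  change G.obj.map _ ≫ G.obj.map _ = G.obj.map _ ≫ G.obj.map _
  rw [← G.obj.map_comp, ← G.obj.map_comp]
  rfl

theorem closed_push (hi : Topology.IsClosedEmbedding i) :
    PreservesFiniteColimits (CohTop.push i) ∧ (CohTop.push i).Full ∧ (CohTop.push i).Faithful ∧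
      (∀ F : CohTop.Ab X, (CohTop.push i).essImage F ↔ ∀ x : X, x ∉ Set.range i → IsZero (CohTop.stalk F x)) ∧
      Nonempty (CohTop.push i ⋙ CohTop.pull i ≅ 𝟭 (CohTop.Ab Z)) := by
  obtain ⟨h1, h2⟩ := Groth.Agent.SheafEmb.pushforward_full_faithful (A := AddCommGrpCat.{u}) i hi.isInducing
  haveI := h1
  haveI := h2
  let adj := TopCat.Sheaf.pullbackPushforwardAdjunction AddCommGrpCat.{u} i
  refine ⟨?_, h1, h2, fun F => ⟨fun ⟨E, ⟨e⟩⟩ x hx => ?_, mem_ess i hi F⟩, ⟨asIso adj.counit⟩⟩
  · haveI : (CohTop.push i).PreservesEpimorphisms := ⟨fun φ _ => push_epi i hi φ⟩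
    haveI : PreservesFiniteLimits (CohTop.push i) :=
      letI := adj.rightAdjoint_preservesLimits.{0, 0}
      PreservesLimitsOfSize.preservesFiniteLimits _
    haveI := Functor.preservesHomology_of_preservesEpis_and_kernels (CohTop.push i)
    exact (CohTop.push i).preservesFiniteColimits_of_preservesHomology
  · exact (stalk_outside i hi.isClosed_range E hx).of_iso ((TopCat.Presheaf.stalkFunctor AddCommGrpCat.{u} x).mapIso
      ((sheafToPresheaf _ _).mapIso e)).symm

end


/-- Let i : Z → X be the inclusion of a closed subset of a topological space (a closed embedding). Then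
i_* : Ab(Z) → Ab(X) is exact (right exactness being the content, i_* is a right adjoint) and fully
faithful, an abelian sheaf on X lies in its essential image exactly when its stalks at points
outside i(Z) are zero (support contained in Z), and i⁻¹ ∘ i_* is isomorphic to the identity functor
(existence of an isomorphism of functors is asserted). -/
theorem result {Z X : TopCat.{u}} (i : Z ⟶ X)
    (hi : Topology.IsClosedEmbedding i) :
    PreservesFiniteColimits (CohTop.push i) ∧ (CohTop.push i).Full ∧ (CohTop.push i).Faithful ∧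
      (∀ F : CohTop.Ab X, (CohTop.push i).essImage F ↔ ∀ x : X, x ∉ Set.range i → IsZero (CohTop.stalk F x)) ∧
      Nonempty (CohTop.push i ⋙ CohTop.pull i ≅ 𝟭 (CohTop.Ab Z)) := by
  exact closed_push i hi

end Groth.Agent.S6857
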