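import Groth.Statements.S6860
-- import your own Groth.Agent.* helpers here

set_option autoImplicit false
universe u
open Smoothing

namespace Groth.Agent.S6860

open MvPolynomial

/-- The tautological submersive presentation of `A` over itself with prescribed values of variables. -/
noncomputable def tautological {A : Type u} [CommRing A] {k : ℕ} (v : Fin k → A) :
    Algebra.SubmersivePresentation A A (Fin k) (Fin k) :=
  let G : Algebra.Generators A A (Fin k) :=
    Algebra.Generators.ofSurjective v fun x => ⟨C x, by simp⟩
  let P : Algebra.PreSubmersivePresentation A A (Fin k) (Fin k) :=
    { toGenerators := G
      relation := fun i => X i - C (v i)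
      span_range_relation_eq_ker := by
        rw [G.ker_eq_ker_aeval_val]
        apply le_antisymm
        · rw [Ideal.span_le]
          rintro _ ⟨i, rfl⟩
          simp [G]
        · intro p hp
          have key : ∀ q : MvPolynomial (Fin k) A,
              q - C (aeval v q) ∈ Ideal.span (Set.range fun i => (X i - C (v i) : MvPolynomial (Fin k) A)) := by
            intro q
            induction q using MvPolynomial.induction_on with
            | C r => simp
            | add p q hp hq =>
              rw [map_add, map_add, add_sub_add_comm]
              exact add_mem hp hq
            | mul_X p j hp =>
              rw [map_mul, map_mul, aeval_X, show p * X j - C (aeval v p) * C (v j) =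
                (p - C (aeval v p)) * X j + C (aeval v p) * (X j - C (v j)) by ring]
              exact add_mem (Ideal.mul_mem_right _ _ hp)
                (Ideal.mul_mem_left _ _ (Ideal.subset_span ⟨j, rfl⟩))
          have h := key p
          rw [show aeval v p = 0 from hp, map_zero, sub_zero] at h
          exact h
      map := id
      map_inj := Function.injective_id }
  { P with
    jacobian_isUnit := by
      classical
      have h : P.jacobiMatrix = 1 := by
        ext i j : 1
        rw [Algebra.PreSubmersivePresentation.jacobiMatrix_apply]
        change pderiv i (X j - C (v j) : MvPolynomial (Fin k) A) = _
        by_cases hij : i = j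
        · subst hij; simp [Matrix.one_apply_eq]
        · rw [Matrix.one_apply_ne hij]; simp [pderiv_X_of_ne (Ne.symm hij)]
      rw [Algebra.PreSubmersivePresentation.jacobian_eq_jacobiMatrix_det, h, Matrix.det_one, map_one]
      exact isUnit_one }


/-- Let R → A be standard smooth and E ⊆ A a finite subset. Then A admits a standard smooth presentation
A = R[x₁, …, x_N]/(f₁, …, f_c) (a submersive presentation: finitely many generators and relations,
an injection from the relations to the variables picking the distinguished variables, and the
Jacobian of the relations with respect to the distinguished variables invertible in A) in which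
every element of E is the class of a distinguished variable. (The published statement arranges E to
be exactly the classes of the first n = |E| variables, all of them distinguished, with c ≥ n; this
row states that E is contained in the set of classes of the distinguished variables, which is what
that arrangement gives.) -/
theorem result {R A : Type u} [CommRing R] [CommRing A] [Algebra R A]
    [Algebra.IsStandardSmooth R A] (E : Finset A) :
    ∃ (ι σ : Type) (_ : Finite ι) (_ : Finite σ) (P : Algebra.SubmersivePresentation R A ι σ),
      (↑E : Set A) ⊆ Set.range (P.val ∘ P.map) := by
  classical
  obtain ⟨ι, σ, hσ, hι, ⟨P⟩⟩ := (inferInstance : Algebra.IsStandardSmooth R A).out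
  let v : Fin E.card → A := fun i => ((E.equivFin.symm i : E) : A)
  refine ⟨Fin E.card ⊕ ι, Fin E.card ⊕ σ, inferInstance, inferInstance,
    (tautological v).comp P, fun x hx => ⟨Sum.inl (E.equivFin ⟨x, hx⟩), ?_⟩⟩
  change v (E.equivFin ⟨x, hx⟩) = x
  simp [v]

end Groth.Agent.S6860
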