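import Groth.Statements.S6862
import Mathlib.Algebra.Module.StablyFree.Basic
import Mathlib.LinearAlgebra.Basis.Prod
import Mathlib.RingTheory.Finiteness.Basic
import Mathlib.RingTheory.Finiteness.Prod
import Mathlib.LinearAlgebra.Prod

set_option autoImplicit false
universe u
open CAlg

namespace Groth.Agent.S6862

/-- Let `R` be a commutative ring and `P'`, `P`, `P''` finitely generated projective `R`-modules in an
exact sequence `0 → P' → P → P'' → 0`. Whenever two of the three are stably free, the remaining one
is stably free too (all three cases are stated). -/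
theorem result {R : Type u} [CommRing R] {P' P P'' : Type u}
    [AddCommGroup P'] [Module R P'] [Module.Finite R P'] [Module.Projective R P']
    [AddCommGroup P] [Module R P] [Module.Finite R P] [Module.Projective R P]
    [AddCommGroup P''] [Module R P''] [Module.Finite R P''] [Module.Projective R P'']
    (f : P' →ₗ[R] P) (g : P →ₗ[R] P'') (hf : Function.Injective f) (hg : Function.Surjective g)
    (hfg : Function.Exact f g) :
    (Module.IsStablyFree R P' → Module.IsStablyFree R P → Module.IsStablyFree R P'') ∧
    (Module.IsStablyFree R P' → Module.IsStablyFree R P'' → Module.IsStablyFree R P) ∧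
    (Module.IsStablyFree R P → Module.IsStablyFree R P'' → Module.IsStablyFree R P') := by
  obtain ⟨s, hs⟩ := Module.projective_lifting_property g LinearMap.id hg
  obtain ⟨e⟩ : Nonempty (P ≃ₗ[R] P' × P'') := by
    let φ : (P' × P'') →ₗ[R] P := f.coprod s
    have hs' : ∀ y, g (s y) = y := fun y => LinearMap.congr_fun hs y
    refine ⟨(LinearEquiv.ofBijective φ ⟨?_, fun p => ?_⟩).symm⟩
    · rw [injective_iff_map_eq_zero]
      rintro ⟨a, b⟩ h
      change f a + s b = 0 at h
      have hb : b = 0 := by
        have := congrArg g h
        rwa [map_add, hfg.apply_apply_eq_zero, zero_add, hs', map_zero] at this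
      rw [hb, map_zero, add_zero] at h
      exact Prod.ext (hf (by rw [h, Prod.fst_zero, map_zero])) hb
    · obtain ⟨a, ha⟩ := (hfg (p - s (g p))).mp (by rw [map_sub, hs', sub_self])
      exact ⟨(a, g p), show f a + s (g p) = p by rw [ha, sub_add_cancel]⟩
  -- the difference of two stably free finite modules
  have diff : ∀ (X Y Z : Type u) [AddCommGroup X] [Module R X] [Module.Finite R X] [AddCommGroup Y] [Module R Y] [AddCommGroup Z] [Module R Z],
      (Y ≃ₗ[R] X × Z) → Module.IsStablyFree R X → Module.IsStablyFree R Y → Module.IsStablyFree R Z := by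
    intro X Y Z _ _ _ _ _ _ _ ee hX hY
    obtain ⟨N, _, _, _, _, hXN⟩ := Module.IsStablyFree.exist_free_prod R X
    obtain ⟨N', _, _, _, _, hYN⟩ := Module.IsStablyFree.exist_free_prod R Y
    haveI : Module.Free R (Z × ((X × N) × N')) := by
      refine Module.Free.of_equiv (show ((Y × N') × N) ≃ₗ[R] (Z × ((X × N) × N')) from ?_)
      exact ((ee.prodCongr (LinearEquiv.refl R N')).prodCongr (LinearEquiv.refl R N)).trans
        { toFun := fun w => (w.1.1.2, ((w.1.1.1, w.2), w.1.2))
          invFun := fun w => (((w.2.1.1, w.1), w.2.2), w.2.1.2)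
          map_add' := fun _ _ => rfl
          map_smul' := fun _ _ => rfl
          left_inv := fun _ => rfl
          right_inv := fun _ => rfl }
    exact Module.IsStablyFree.of_free_prod R Z ((X × N) × N')
  refine ⟨fun h1 h2 => diff P' P P'' e h1 h2, fun h1 h2 => ?_, fun h1 h2 => diff P'' P P' (e.trans (LinearEquiv.prodComm R P' P'')) h2 h1⟩
  obtain ⟨N, _, _, _, _, hN⟩ := Module.IsStablyFree.exist_free_prod R P'
  obtain ⟨N', _, _, _, _, hN'⟩ := Module.IsStablyFree.exist_free_prod R P''
  haveI : Module.Free R (P × (N × N')) :=
    Module.Free.of_equiv (((LinearEquiv.prodProdProdComm R P' N P'' N')).trans (e.symm.prodCongr (LinearEquiv.refl R (N × N'))))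
  exact Module.IsStablyFree.of_free_prod R P (N × N')

end Groth.Agent.S6862
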