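import Groth.Statements.S6863
import Mathlib.RingTheory.Finiteness.Prod
import Mathlib.RingTheory.Nakayama
import Mathlib.LinearAlgebra.TensorProduct.RightExactness
import Mathlib.LinearAlgebra.TensorProduct.Pi
import Mathlib.LinearAlgebra.Dimension.Finite
import Mathlib.LinearAlgebra.FreeModule.Finite.Basic
import Mathlib.LinearAlgebra.Pi
import Mathlib.Algebra.Exact

set_option autoImplicit false
universe u
open TensorProduct
open CAlg
open scoped TensorProduct

namespace Groth.Agent.S6863

/-- Let `I` be an ideal of a commutative ring `R` contained in the Jacobson radical (equivalently, `1 +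
i` is a unit for each `i ∈ I`). Then each finitely generated stably free module `E` over `R/I`
lifts: there is a finite stably free `R`-module `M` with `M/IM ≅ E` (existence of an isomorphism
only; the published statement names no map). -/
theorem result {R : Type u} [CommRing R] (I : Ideal R)
    (hI : I ≤ Ideal.jacobson (⊥ : Ideal R)) (E : Type u) [AddCommGroup E] [Module (R ⧸ I) E]
    [Module.Finite (R ⧸ I) E] [Module.IsStablyFree (R ⧸ I) E] :
    ∃ (M : Type u) (_ : AddCommGroup M) (_ : Module R M), Module.Finite R M ∧ Module.IsStablyFree R M ∧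
      Nonempty ((R ⧸ I) ⊗[R] M ≃ₗ[R ⧸ I] E) := by
  classical
  obtain ⟨N, _, _, _, _, hfree⟩ := Module.IsStablyFree.exist_free_prod (R ⧸ I) E
  rcases subsingleton_or_nontrivial (R ⧸ I) with hsub | hnt
  · haveI : Subsingleton E := Module.subsingleton (R ⧸ I) E
    haveI : Subsingleton ((R ⧸ I) ⊗[R] R) := Module.subsingleton (R ⧸ I) _
    exact ⟨R, inferInstance, inferInstance, inferInstance, inferInstance,
      ⟨{ toFun := fun _ => 0, invFun := fun _ => 0, map_add' := fun _ _ => (add_zero _).symm,
         map_smul' := fun _ _ => (smul_zero _).symm, left_inv := fun _ => Subsingleton.elim _ _,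
         right_inv := fun _ => Subsingleton.elim _ _ }⟩⟩
  let A := R ⧸ I
  let m := Module.finrank A (E × N)
  let n := Module.finrank A N
  let e : (E × N) ≃ₗ[A] (Fin m → A) := (Module.finBasis A (E × N)).equivFun
  let eN : N ≃ₗ[A] (Fin n → A) := (Module.finBasis A N).equivFun
  let qb : (Fin m → A) →ₗ[A] (Fin n → A) := eN.toLinearMap ∘ₗ LinearMap.snd A E N ∘ₗ e.symm.toLinearMap
  let red : ∀ k : ℕ, (Fin k → R) →ₗ[R] (Fin k → A) := fun k => LinearMap.pi fun i => (Algebra.linearMap R A) ∘ₗ LinearMap.proj i
  have hred : ∀ k, Function.Surjective (red k) := fun k v => by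
    choose w hw using fun i => Ideal.Quotient.mk_surjective (v i)
    exact ⟨w, funext hw⟩
  obtain ⟨q, hq⟩ := Module.projective_lifting_property (red n) ((qb.restrictScalars R) ∘ₗ red m) (hred n)
  have hqb : Function.Surjective qb := eN.surjective.comp ((LinearMap.snd_surjective (R := A) (M := E) (M₂ := N)).comp e.symm.surjective)
  have hqs : Function.Surjective q := by
    rw [← LinearMap.range_eq_top, eq_top_iff]
    refine Submodule.le_of_le_smul_of_le_jacobson_bot Module.Finite.fg_top hI fun v _ => ?_
    obtain ⟨a, ha⟩ := hqb (red n v)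
    obtain ⟨w, rfl⟩ := hred m a
    have h0 : red n (v - q w) = 0 := by
      rw [map_sub, sub_eq_zero, ← ha]
      exact (LinearMap.congr_fun hq w).symm
    have hmem : v - q w ∈ I • (⊤ : Submodule R (Fin n → R)) := by
      rw [show v - q w = ∑ i, (v - q w) i • (Pi.single i 1 : Fin n → R) from pi_eq_sum_univ' _]
      refine Submodule.sum_mem _ fun i _ => Submodule.smul_mem_smul (Ideal.Quotient.eq_zero_iff_mem.1 ?_) trivial
      exact congrFun h0 i
    rw [show v = q w + (v - q w) by abel]
    exact Submodule.mem_sup.2 ⟨q w, ⟨w, rfl⟩, v - q w, hmem, rfl⟩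
  obtain ⟨s, hs⟩ := Module.projective_lifting_property q LinearMap.id hqs
  let M := LinearMap.ker q
  let p : (Fin m → R) →ₗ[R] M := (LinearMap.id - s ∘ₗ q).codRestrict _ fun v => by
    have := LinearMap.congr_fun hs (q v)
    rw [LinearMap.mem_ker]
    simpa [sub_eq_zero] using this.symm
  have hp : p ∘ₗ M.subtype = LinearMap.id := LinearMap.ext fun x => Subtype.ext (by simp [p, LinearMap.mem_ker.1 x.2])
  obtain ⟨φ, -⟩ := (LinearMap.exact_subtype_ker_map q).splitSurjectiveEquiv M.injective_subtype ⟨s, hs⟩
  haveI : Module.Finite R M := Module.Finite.of_surjective p fun x => ⟨x, LinearMap.congr_fun hp x⟩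
  haveI : Module.Free R (M × (Fin n → R)) := Module.Free.of_equiv φ
  haveI : Module.IsStablyFree R M := Module.IsStablyFree.of_free_prod R M (Fin n → R)
  refine ⟨M, inferInstance, inferInstance, inferInstance, inferInstance, ?_⟩
  let P : ∀ k : ℕ, A ⊗[R] (Fin k → R) ≃ₗ[A] (Fin k → A) := fun k => TensorProduct.piScalarRight R A A (Fin k)
  have hP : ∀ k v, P k (1 ⊗ₜ[R] v) = red k v := fun k v => funext fun i => by
    simp [P, red, Algebra.algebraMap_eq_smul_one]
  have hcomm : ∀ z, qb (P m z) = P n (q.baseChange A z) := by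
    intro z
    induction z with
    | zero => simp
    | tmul a v =>
      rw [show a ⊗ₜ[R] v = a • ((1 : A) ⊗ₜ[R] v) by rw [TensorProduct.smul_tmul', smul_eq_mul, mul_one],
        map_smul, map_smul, map_smul, map_smul, LinearMap.baseChange_tmul, hP, hP]
      exact congrArg (a • ·) (LinearMap.congr_fun hq v).symm
    | add x y hx hy => simp only [map_add, hx, hy]
  let ι : A ⊗[R] M →ₗ[A] (Fin m → A) := (P m).toLinearMap ∘ₗ M.subtype.baseChange A
  have hιi : Function.Injective ι := (P m).injective.comp
    (Function.LeftInverse.injective (g := p.baseChange A) fun z => by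
      rw [← LinearMap.comp_apply, ← LinearMap.baseChange_comp, hp, LinearMap.baseChange_id]
      rfl)
  have hιr : LinearMap.range ι = LinearMap.ker qb := by
    ext v
    obtain ⟨z, rfl⟩ := (P m).surjective v
    rw [LinearMap.mem_ker, hcomm, LinearEquiv.map_eq_zero_iff, LinearMap.mem_range]
    refine Iff.trans ⟨fun ⟨w, hw⟩ => ⟨w, (P m).injective hw⟩, fun ⟨w, hw⟩ => ⟨w, congrArg (P m) hw⟩⟩ (lTensor_exact A (LinearMap.exact_subtype_ker_map q) hqs z).symm
  let g : E →ₗ[A] LinearMap.ker qb := (e.toLinearMap ∘ₗ LinearMap.inl A E N).codRestrict _ fun x => by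
    show eN (e.symm (e (x, 0))).2 = 0
    rw [e.symm_apply_apply, map_zero]
  have hg : Function.Bijective g := by
    refine ⟨fun a b h => congrArg Prod.fst (e.injective (congrArg Subtype.val h)), fun v => ?_⟩
    have h2 : (e.symm v.1).2 = 0 := eN.injective ((LinearMap.mem_ker.1 v.2).trans (map_zero eN).symm)
    refine ⟨(e.symm v.1).1, Subtype.ext ?_⟩
    show e ((e.symm v.1).1, 0) = v.1
    rw [show ((e.symm v.1).1, (0 : N)) = e.symm v.1 from Prod.ext rfl h2.symm, e.apply_symm_apply]
  exact ⟨((LinearEquiv.ofInjective ι hιi).trans (LinearEquiv.ofEq _ _ hιr)).trans (LinearEquiv.ofBijective g hg).symm⟩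

end Groth.Agent.S6863
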