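import Groth.Statements.S6864
import Mathlib.RingTheory.Nakayama
import Mathlib.LinearAlgebra.TensorProduct.Quotient
import Mathlib.RingTheory.TensorProduct.Finite
import Mathlib.Algebra.Module.Projective

set_option autoImplicit false
universe u
open TensorProduct
open CAlg

namespace Groth.Agent.S6864

/-- Let `I` be an ideal of a commutative ring `R` contained in the Jacobson radical and let `φ : P → P'`
be an `R`-linear map between finite projective `R`-modules. If the induced map `P/IP → P'/IP'` is
bijective, then `φ` is bijective. -/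
theorem result {R : Type u} [CommRing R] (I : Ideal R)
    (hI : I ≤ Ideal.jacobson (⊥ : Ideal R)) {P P' : Type u}
    [AddCommGroup P] [Module R P] [Module.Finite R P] [Module.Projective R P]
    [AddCommGroup P'] [Module R P'] [Module.Finite R P'] [Module.Projective R P'] (φ : P →ₗ[R] P')
    (h : Function.Bijective (φ.baseChange (R ⧸ I))) : Function.Bijective φ := by
  have hq : ∀ (X : Type u) [AddCommGroup X] [Module R X] (x : X), (1 : R ⧸ I) ⊗ₜ[R] x = 0 ↔ x ∈ I • (⊤ : Submodule R X) := fun X _ _ x => by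
    rw [← (TensorProduct.quotTensorEquivQuotSMul X I).map_eq_zero_iff, TensorProduct.quotTensorEquivQuotSMul_mk_one_tmul,
      Submodule.Quotient.mk_eq_zero]
  have hsurj : Function.Surjective φ := by
    rw [← LinearMap.range_eq_top, eq_top_iff]
    refine Submodule.le_of_le_smul_of_le_jacobson_bot Module.Finite.fg_top hI fun y _ => ?_
    obtain ⟨z, hz⟩ := h.2 ((1 : R ⧸ I) ⊗ₜ[R] y)
    obtain ⟨x, rfl⟩ := TensorProduct.mk_surjective R P (R ⧸ I) Ideal.Quotient.mk_surjective z
    rw [TensorProduct.mk_apply, LinearMap.baseChange_tmul] at hz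
    have h1 := (hq P' (y - φ x)).1 (by rw [TensorProduct.tmul_sub, hz, sub_self])
    exact Submodule.mem_sup.2 ⟨φ x, ⟨x, rfl⟩, y - φ x, h1, add_sub_cancel _ _⟩
  obtain ⟨t, ht⟩ := Module.projective_lifting_property φ LinearMap.id hsurj
  have ht' : ∀ y, φ (t y) = y := fun y => LinearMap.congr_fun ht y
  let π : P →ₗ[R] P := LinearMap.id - t.comp φ
  have hπ : LinearMap.range π = LinearMap.ker φ := by
    refine le_antisymm ?_ fun x (hx : φ x = 0) => ⟨x, by simp [π, hx]⟩
    rintro _ ⟨x, rfl⟩
    simp [π, ht']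
  have hfg : (LinearMap.ker φ).FG := by
    rw [← hπ, ← Submodule.map_top]; exact Module.Finite.fg_top.map π
  refine ⟨LinearMap.ker_eq_bot.1 (Submodule.eq_bot_of_le_smul_of_le_jacobson_bot I _ hfg (fun x hx => ?_) hI), hsurj⟩
  have h0 : (1 : R ⧸ I) ⊗ₜ[R] x = 0 := h.1 (by
    rw [LinearMap.baseChange_tmul, show φ x = 0 from hx, TensorProduct.tmul_zero, map_zero])
  have hx' : π x = x := by simp [π, show φ x = 0 from hx]
  rw [← hπ, ← Submodule.map_top, ← Submodule.map_smul'']
  exact ⟨x, (hq P x).1 h0, hx'⟩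

end Groth.Agent.S6864
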