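import Groth.Statements.S6866
import Mathlib.LinearAlgebra.TensorProduct.Finiteness
import Mathlib.LinearAlgebra.TensorProduct.Pi
import Mathlib.RingTheory.Flat.Basic
import Groth.Agent.TFEmb.Basic

set_option autoImplicit false
universe u
open TensorProduct
open CAlg Groth.Agent

namespace Groth.Agent.S6866

/-- If `M` is a torsion free module over a domain `R` and `R → R'` is a flat ring map to another domain,
then `R' ⊗_R M` is torsion free over `R'`. -/
theorem result (R R' : Type u) [CommRing R] [IsDomain R] [CommRing R']
    [IsDomain R'] [Algebra R R'] [Module.Flat R R'] (M : Type u) [AddCommGroup M] [Module R M]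
    [Module.IsTorsionFree R M] : Module.IsTorsionFree R' (R' ⊗[R] M) := by
  refine Module.isTorsionFree_iff_smul_eq_zero.2 ?_
  intro r z hrz
  obtain ⟨N, hN, hz⟩ := TensorProduct.exists_finite_submodule_right_of_setFinite {z} (Set.finite_singleton z)
  obtain ⟨y, rfl⟩ := hz rfl
  haveI : Module.IsTorsionFree R N := inferInstance
  have hinj : Function.Injective (N.subtype.baseChange R') :=
    Module.Flat.lTensor_preserves_injective_linearMap (M := R') N.subtype N.subtype_injective
  have hy : r • y = 0 := by
    apply hinj
    rw [map_smul, map_zero]
    exact hrz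
  obtain ⟨n, f, hf⟩ := TFEmb.exists_injective (R := R) (M := N)
  have hfinj : Function.Injective (f.baseChange R') :=
    Module.Flat.lTensor_preserves_injective_linearMap (M := R') f hf
  let e := TensorProduct.piScalarRight R R' R' (Fin n)
  have : r • e (f.baseChange R' y) = 0 := by rw [← map_smul, ← map_smul, hy, map_zero, map_zero]
  rcases eq_or_ne r 0 with h0 | h0
  · exact Or.inl h0
  · right
    have h1 : e (f.baseChange R' y) = 0 := (smul_eq_zero.1 this).resolve_left h0
    have h2 : y = 0 := hfinj (by rw [map_zero]; exact e.injective (by rw [h1, map_zero]))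
    rw [h2, map_zero]

end Groth.Agent.S6866
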