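import Groth.Statements.S6868
import Groth.Agent.SkOneMod.Basic

set_option autoImplicit false
universe u
open CAlg Groth.Agent

namespace Groth.Agent.S6868

/-- (1) ⇔ (3) ⇔ (4): for a Noetherian domain `R` and a nonzero finite `R`-module `M`, torsion-freeness
of `M` is equivalent to `(0)` being the unique associated prime of `M`, and also to the conjunction:
`(0)` belongs to the support of `M` and `M` satisfies Serre's condition `(S_1)`. (The published
statement also lists embedding into a finite free module and the absence of embedded associated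
primes; this row states the other three conditions.) -/
theorem result (R : Type u) [CommRing R]
    [IsDomain R] [IsNoetherianRing R] (M : Type u) [AddCommGroup M] [Module R M] [Module.Finite R M] [Nontrivial M] :
    (Module.IsTorsionFree R M ↔ associatedPrimes R M = {⊥}) ∧
    (Module.IsTorsionFree R M ↔
      (⟨⊥, Ideal.isPrime_bot⟩ : PrimeSpectrum R) ∈ Module.support R M ∧ LocCoh.HasSk 1 R M) := by
  have h1 : Module.IsTorsionFree R M ↔ associatedPrimes R M = {⊥} := by
    constructor
    · intro h
      refine Set.Subset.antisymm (fun p hp => ?_) (fun p hp => ?_)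
      · rw [Set.mem_singleton_iff, eq_bot_iff]
        intro r hr
        have : r ∈ ⋃ q ∈ associatedPrimes R M, (q : Set R) := Set.mem_biUnion hp hr
        rw [biUnion_associatedPrimes_eq_compl_regular] at this
        by_contra hr0
        exact this (Module.IsTorsionFree.isSMulRegular (isRegular_of_ne_zero hr0))
      · rw [Set.mem_singleton_iff] at hp
        obtain ⟨q, hq⟩ := associatedPrimes.nonempty R M
        have : q = ⊥ := by
          rw [eq_bot_iff]
          intro r hr
          have : r ∈ ⋃ q ∈ associatedPrimes R M, (q : Set R) := Set.mem_biUnion hq hr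
          rw [biUnion_associatedPrimes_eq_compl_regular] at this
          by_contra hr0
          exact this (Module.IsTorsionFree.isSMulRegular (isRegular_of_ne_zero hr0))
        rw [hp, ← this]
        exact hq
    · intro h
      refine ⟨fun r hr => ?_⟩
      have hr0 : r ≠ 0 := hr.ne_zero
      by_contra hreg
      have : r ∈ ⋃ q ∈ associatedPrimes R M, (q : Set R) := by
        rw [biUnion_associatedPrimes_eq_compl_regular]
        exact hreg
      simp only [h, Set.mem_singleton_iff, Set.iUnion_iUnion_eq_left, SetLike.mem_coe, Ideal.mem_bot] at this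
      exact hr0 this
  refine ⟨h1, h1.trans ?_⟩
  constructor
  · intro h
    have hann : Module.annihilator R M = ⊥ := by
      rw [eq_bot_iff]
      have hb : (⊥ : Ideal R) ∈ associatedPrimes R M := h ▸ rfl
      exact (Submodule.annihilator_top (R := R) (M := M)).ge.trans (IsAssociatedPrime.annihilator_le hb)
    refine ⟨?_, SkOneMod.hasSk_one_iff.2 fun p hp => ?_⟩
    · rw [Module.support_eq_zeroLocus, PrimeSpectrum.mem_zeroLocus, SetLike.coe_subset_coe, hann]
    · rw [h, Set.mem_singleton_iff] at hp
      subst hp
      exact ⟨⟨Ideal.isPrime_bot, hann.le⟩, fun P hP _ => bot_le⟩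
  · rintro ⟨hs, hk⟩
    rw [Module.support_eq_zeroLocus, PrimeSpectrum.mem_zeroLocus, SetLike.coe_subset_coe] at hs
    refine Set.Subset.antisymm (fun p hp => ?_) (fun p hp => ?_)
    · exact Set.mem_singleton_iff.2 (le_bot_iff.1 ((SkOneMod.hasSk_one_iff.1 hk p hp).2 ⟨Ideal.isPrime_bot, hs⟩ bot_le))
    · obtain ⟨q, hq⟩ := associatedPrimes.nonempty R M
      rw [Set.mem_singleton_iff.1 hp, ← le_bot_iff.1 ((SkOneMod.hasSk_one_iff.1 hk q hq).2 ⟨Ideal.isPrime_bot, hs⟩ bot_le)]
      exact hq

end Groth.Agent.S6868
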