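import Groth.Statements.S6870
import Groth.Agent.DomRank.Basic
import Mathlib.LinearAlgebra.Dual.Defs

set_option autoImplicit false
universe u
open CAlg Groth.Agent

namespace Groth.Agent.S6870

/-- Let `R` be a domain, `M` a finite `R`-module and `j : M → M**` the evaluation map into the double
dual. Then one nonzero `c ∈ R` kills the kernel of `j` and multiplies `M**` into the image of `j`.
(The published statement says only that the kernel and cokernel of `j` are torsion; this row gives
one such `c` for both.) -/
theorem result (R : Type u) [CommRing R] [IsDomain R] (M : Type u)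
    [AddCommGroup M] [Module R M] [Module.Finite R M] :
    ∃ c : R, c ≠ 0 ∧ (∀ x : M, Module.Dual.eval R M x = 0 → c • x = 0) ∧
      ∀ y : Module.Dual R (Module.Dual R M), c • y ∈ LinearMap.range (Module.Dual.eval R M) := by
  obtain ⟨g, h, c, hc, hg, hgh, hhg⟩ := DomRank.exists_frame R M
  refine ⟨c, hc, ?_, ?_⟩
  · intro x hx
    have hh : h x = 0 := by
      funext i
      exact LinearMap.congr_fun hx (LinearMap.proj i ∘ₗ h)
    rw [← hgh, hh, map_zero]
  · intro y
    let a := fun i => y (LinearMap.proj i ∘ₗ h)
    refine ⟨g a, LinearMap.ext fun φ => ?_⟩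
    have hφ : c • φ = ∑ i, φ (g (Pi.single i 1)) • (LinearMap.proj i ∘ₗ h) := by
      apply LinearMap.ext
      intro x
      rw [LinearMap.smul_apply, ← map_smul, ← hgh]
      conv_lhs => rw [pi_eq_sum_univ' (h x)]
      simp [map_sum, mul_comm]
    have hga : φ (g a) = ∑ i, φ (g (Pi.single i 1)) * a i := by
      conv_lhs => rw [pi_eq_sum_univ' a]
      simp [map_sum, mul_comm]
    rw [Module.Dual.eval_apply, hga, LinearMap.smul_apply, ← map_smul, hφ, map_sum]
    simp [a]

end Groth.Agent.S6870
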