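import Groth.Statements.S6871
import Groth.Agent.ReflLoc.Basic

set_option autoImplicit false
universe u
open CAlg Groth.Agent

namespace Groth.Agent.S6871

/-- Let `R` be a Noetherian domain and `M` a finite `R`-module. Then `M` is reflexive if and only if
`M_𝔭` is a reflexive `R_𝔭`-module for every prime `𝔭`, if and only if `M_𝔪` is a reflexive
`R_𝔪`-module for every maximal ideal `𝔪`. -/
theorem result (R : Type u) [CommRing R] [IsDomain R] [IsNoetherianRing R] (M : Type u)
    [AddCommGroup M] [Module R M] [Module.Finite R M] :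
    (Module.IsReflexive R M ↔
      ∀ (p : Ideal R) [p.IsPrime], Module.IsReflexive (Localization.AtPrime p) (LocalizedModule p.primeCompl M)) ∧
    (Module.IsReflexive R M ↔
      ∀ (m : Ideal R) (_ : m.IsMaximal),
        Module.IsReflexive (Localization.AtPrime m) (LocalizedModule m.primeCompl M)) := by
  have hloc : Module.IsReflexive R M → ∀ (p : Ideal R) [p.IsPrime], Module.IsReflexive (Localization.AtPrime p) (LocalizedModule p.primeCompl M) :=
    fun _ p _ => ReflLoc.isReflexive_localized p M
  refine ⟨⟨hloc, fun h => ReflLoc.isReflexive_of_local M fun p _ => Or.inl (h p)⟩, ⟨fun h m hm => hloc h m, fun h => ?_⟩⟩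
  refine ⟨⟨fun a b hab => ?_, fun χ => ?_⟩⟩
  · rw [← sub_eq_zero]
    rw [← sub_eq_zero, ← map_sub] at hab
    by_contra hne
    obtain ⟨m, hm, hle⟩ := Ideal.exists_le_maximal ((⊥ : Submodule R M).colon {a - b}) (fun e => hne (by
      have h1 : (1 : R) ∈ (⊥ : Submodule R M).colon {a - b} := e ▸ trivial
      simpa [Submodule.mem_colon_singleton] using h1))
    obtain ⟨s, hs, hs0⟩ := (QGorD.exists_smul_eq_eval m M (h m hm)).2 _ hab
    exact hs (hle (Submodule.mem_colon_singleton.2 ((Submodule.mem_bot R).2 hs0)))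
  · by_contra hne
    obtain ⟨m, hm, hle⟩ := Ideal.exists_le_maximal ((LinearMap.range (Module.Dual.eval R M)).colon {χ}) (fun e => hne (by
      have h1 : (1 : R) ∈ (LinearMap.range (Module.Dual.eval R M)).colon {χ} := e ▸ trivial
      rw [Submodule.mem_colon_singleton, one_smul] at h1
      exact h1))
    obtain ⟨s, hs, g, hg⟩ := (QGorD.exists_smul_eq_eval m M (h m hm)).1 χ
    exact hs (hle (Submodule.mem_colon_singleton.2 ⟨g, hg⟩))

end Groth.Agent.S6871
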