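import Groth.Statements.S6875
import Groth.Agent.DomDual.Basic
import Mathlib.RingTheory.Noetherian.Basic
import Mathlib.LinearAlgebra.TensorProduct.RightExactness

set_option autoImplicit false
universe u
open CAlg Groth.Agent

namespace Groth.Agent.S6875

/-- Let `R` be a Noetherian domain, `M` a finite `R`-module and `N` a finite reflexive `R`-module. Then
`Hom_R(M, N)` is reflexive. -/
theorem result (R : Type u) [CommRing R] [IsDomain R] [IsNoetherianRing R]
    (M N : Type u) [AddCommGroup M] [Module R M] [Module.Finite R M] [AddCommGroup N] [Module R N] [Module.Finite R N]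
    [Module.IsReflexive R N] : Module.IsReflexive R (M →ₗ[R] N) := by
  obtain ⟨a, π, hπ⟩ := Module.Finite.exists_fin' R M
  obtain ⟨b, ρ, hρ⟩ := Module.Finite.exists_fin' R (LinearMap.ker π)
  let d : (Fin b → R) →ₗ[R] (Fin a → R) := (LinearMap.ker π).subtype.comp ρ
  have := DomDual.isReflexive_pi (R := R) N a
  have := DomDual.isReflexive_pi (R := R) N b
  let ea := ((Pi.basisFun R (Fin a)).constr R (M' := N))
  let eb := ((Pi.basisFun R (Fin b)).constr R (M' := N))
  let f : (M →ₗ[R] N) →ₗ[R] (Fin a → N) := ea.symm.toLinearMap.comp (π.lcomp R N)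
  let g : (Fin a → N) →ₗ[R] (Fin b → N) := eb.symm.toLinearMap.comp ((d.lcomp R N).comp ea.toLinearMap)
  refine DomDual.isReflexive_of_exact f g (ea.symm.injective.comp fun x y h => LinearMap.ext fun m => ?_) fun y => ?_
  · obtain ⟨v, rfl⟩ := hπ m
    exact LinearMap.congr_fun h v
  · show eb.symm ((ea y).comp d) = 0 ↔ y ∈ Set.range f
    rw [LinearEquiv.map_eq_zero_iff]
    constructor
    · intro h
      have hker : LinearMap.ker π ≤ LinearMap.ker (ea y) := fun v hv => by
        obtain ⟨w, hw⟩ := hρ ⟨v, hv⟩
        have := LinearMap.congr_fun h w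
        rw [LinearMap.mem_ker, ← show (d w : Fin a → R) = v from congrArg Subtype.val hw]
        exact this
      let φ : M →ₗ[R] N := ((LinearMap.ker π).liftQ (ea y) hker).comp (π.quotKerEquivOfSurjective hπ).symm.toLinearMap
      refine ⟨φ, ea.injective ?_⟩
      show ea (ea.symm (φ.comp π)) = ea y
      rw [LinearEquiv.apply_symm_apply]
      refine LinearMap.ext fun v => ?_
      show (LinearMap.ker π).liftQ (ea y) hker ((π.quotKerEquivOfSurjective hπ).symm (π v)) = ea y v
      rw [← LinearMap.quotKerEquivOfSurjective_apply_mk π hπ v, LinearEquiv.symm_apply_apply, Submodule.liftQ_apply]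
    · rintro ⟨φ, rfl⟩
      refine LinearMap.ext fun w => ?_
      show (ea (ea.symm (φ.comp π))) (d w) = 0
      rw [LinearEquiv.apply_symm_apply, LinearMap.comp_apply, show π (d w) = 0 from LinearMap.mem_ker.1 (ρ w).2, map_zero]

end Groth.Agent.S6875
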