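import Groth.Statements.S6877
import Groth.Agent.DepthHom.Basic
import Groth.Agent.LocH.DepthMisc
import Mathlib.Algebra.Module.FinitePresentation
import Mathlib.RingTheory.Support
import Mathlib.RingTheory.KrullDimension.Module
import Mathlib.Tactic.NormNum

set_option autoImplicit false
universe u
open CAlg Groth.Agent

namespace Groth.Agent.S6877

/-- Let `R` be a Noetherian ring and `M, N` finite `R`-modules. If `N` has `(S_1)`, resp. `(S_2)`, then
so does `Hom_R(M, N)`. (The published statement has a third part, over a domain: `N` torsion free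
with `(S_2)` implies the same for `Hom_R(M, N)`; this row states parts one and two.) -/
theorem result (R : Type u) [CommRing R] [IsNoetherianRing R]
    (M N : Type u) [AddCommGroup M] [Module R M] [Module.Finite R M] [AddCommGroup N] [Module R N] [Module.Finite R N] :
    (LocCoh.HasSk 1 R N → LocCoh.HasSk 1 R (M →ₗ[R] N)) ∧
    (LocCoh.HasSk 2 R N → LocCoh.HasSk 2 R (M →ₗ[R] N)) := by
  have main : ∀ k : ℕ, k ≤ 2 → LocCoh.HasSk k R N → LocCoh.HasSk k R (M →ₗ[R] N) := by
    intro k hk h p _
    let S := p.primeCompl
    let Rp := Localization.AtPrime p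
    let Mp := LocalizedModule S M
    let Np := LocalizedModule S N
    haveI : IsNoetherianRing Rp := IsLocalization.isNoetherianRing S _ inferInstance
    haveI : Module.FinitePresentation R M := Module.finitePresentation_of_finite R M
    haveI : Module.Finite Rp Mp := inferInstance
    haveI : Module.Finite Rp Np := inferInstance
    let e : LocalizedModule S (M →ₗ[R] N) ≃ₗ[Rp] (Mp →ₗ[Rp] Np) :=
      (IsLocalizedModule.linearEquiv S (LocalizedModule.mkLinearMap S (M →ₗ[R] N))
        (LocalizedModule.map S (M := M) (N := N))).extendScalarsOfIsLocalization S Rp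
    rw [LocCoh.depth, LocH.idealDepth_congr e, Module.supportDim_eq_of_equiv e]
    have hsub : Module.support Rp (Mp →ₗ[Rp] Np) ⊆ Module.support Rp Np := by
      rw [Module.support_eq_zeroLocus, Module.support_eq_zeroLocus]
      refine PrimeSpectrum.zeroLocus_anti_mono fun r hr => ?_
      rw [SetLike.mem_coe, Module.mem_annihilator] at hr ⊢
      exact fun φ => LinearMap.ext fun a => hr (φ a)
    have hdim : Module.supportDim Rp (Mp →ₗ[Rp] Np) ≤ Module.supportDim Rp Np :=
      Order.krullDim_le_of_strictMono (fun x => ⟨x.1, hsub x.2⟩) (fun _ _ hab => hab)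
    obtain ⟨d, hd⟩ : ∃ d : ℕ∞, LocCoh.depth Rp Np = d := ⟨_, rfl⟩
    have h1 := h p
    rw [hd] at h1
    refine (min_le_min le_rfl hdim).trans ?_
    rcases le_or_gt (k : ℕ∞) d with hkd | hkd
    · refine (min_le_left _ _).trans (le_trans ?_ (WithBot.coe_le_coe.2 (DepthHom.le_idealDepth_hom _ k hk ((show (k : ℕ∞) ≤ LocCoh.idealDepth _ _ from hkd.trans_eq hd.symm)))))
      exact le_of_eq rfl
    · lift d to ℕ using ne_top_of_lt hkd
      exact h1.trans (WithBot.coe_le_coe.2 (DepthHom.le_idealDepth_hom _ d (by
        have : d < k := by exact_mod_cast hkd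
        omega) (show (d : ℕ∞) ≤ LocCoh.idealDepth _ _ from hd.ge)))
  exact ⟨main 1 (by norm_num), main 2 le_rfl⟩

end Groth.Agent.S6877
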