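import Groth.Statements.S6878
import Mathlib.RingTheory.Ideal.AssociatedPrime.Basic
import Mathlib.Algebra.Module.LocalizedModule.Basic

set_option autoImplicit false
universe u
open CAlg

namespace Groth.Agent.S6878

/-- Let `R` be a Noetherian ring and `φ : M → N` a map of `R`-modules. Suppose that for every prime `𝔭`
of `R` either `M_𝔭 → N_𝔭` is injective or `𝔭` is not an associated prime of `M`. Then `φ` is
injective. -/
theorem result (R : Type u) [CommRing R]
    [IsNoetherianRing R] {M N : Type u} [AddCommGroup M] [Module R M] [AddCommGroup N] [Module R N] (φ : M →ₗ[R] N)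
    (h : ∀ (p : Ideal R) [p.IsPrime],
      Function.Injective (LocalizedModule.map p.primeCompl φ) ∨ p ∉ associatedPrimes R M) :
    Function.Injective φ := by
  refine (injective_iff_map_eq_zero φ).2 fun m hm => by_contra fun hm0 => ?_
  haveI : Nontrivial (LinearMap.ker φ) := ⟨⟨m, hm⟩, 0, fun e => hm0 (congrArg Subtype.val e)⟩
  obtain ⟨p, hp⟩ := associatedPrimes.nonempty R (LinearMap.ker φ)
  haveI := hp.isPrime
  obtain ⟨-, x, hx⟩ := isAssociatedPrime_iff.1 hp
  have hinj := (h p).resolve_right fun hn => hn (associatedPrimes.subset_of_injective (f := (LinearMap.ker φ).subtype) (Submodule.injective_subtype _) hp)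
  have h0 : LocalizedModule.mk (x : M) (1 : p.primeCompl) = 0 := hinj (by
    rw [LocalizedModule.map_mk, show φ (x : M) = 0 from x.2, map_zero, LocalizedModule.zero_mk])
  obtain ⟨s, hs⟩ := LocalizedModule.mk_eq.1 (h0.trans (LocalizedModule.zero_mk (1 : p.primeCompl)).symm)
  refine s.2 ?_
  show (s : R) ∈ p
  refine hx.ge ?_
  rw [Submodule.mem_colon_singleton, Submodule.mem_bot]
  exact Subtype.ext (by simpa [Submonoid.smul_def] using hs)

end Groth.Agent.S6878
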