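import Groth.Statements.S6882
import Mathlib.Algebra.Module.Torsion.Basic
import Mathlib.LinearAlgebra.FreeModule.PID
import Mathlib.RingTheory.DiscreteValuationRing.Basic
import Mathlib.LinearAlgebra.Dual.Lemmas

set_option autoImplicit false
universe u
open CAlg

namespace Groth.Agent.S6882

/-- For a finite module `M` over a discrete valuation ring `R`, the evaluation map from `M` to its
double dual `M**` is surjective. -/
theorem result (R : Type u) [CommRing R] [IsDomain R]
    [IsDiscreteValuationRing R] (M : Type u) [AddCommGroup M] [Module R M] [Module.Finite R M] :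
    Function.Surjective (Module.Dual.eval R M) := by
  intro ξ
  let T := Submodule.torsion R M
  haveI : Module.Finite R (M ⧸ T) := inferInstance
  haveI : Module.IsTorsionFree R (M ⧸ T) := inferInstance
  haveI : Module.Free R (M ⧸ T) := Module.free_of_finite_type_torsion_free'
  let η : Module.Dual R (Module.Dual R (M ⧸ T)) := ξ.comp (T.mkQ.dualMap)
  obtain ⟨y, hy⟩ := (Module.bijective_dual_eval R (M ⧸ T)).2 η
  obtain ⟨m, rfl⟩ := T.mkQ_surjective y
  refine ⟨m, LinearMap.ext fun φ => ?_⟩
  have hk : T ≤ LinearMap.ker φ := fun x hx => by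
    obtain ⟨⟨a, ha⟩, hax⟩ := (Submodule.mem_torsion_iff x).1 hx
    have h := congrArg φ hax
    rw [map_zero, Submonoid.mk_smul, map_smul, smul_eq_mul] at h
    exact (mul_eq_zero.1 h).resolve_left (nonZeroDivisors.ne_zero ha)
  have h := LinearMap.congr_fun hy (T.liftQ φ hk)
  have e : T.mkQ.dualMap (T.liftQ φ hk) = φ := LinearMap.ext fun x => rfl
  have e' : η (T.liftQ φ hk) = ξ φ := by show ξ _ = ξ φ; rw [e]
  rw [e'] at h
  exact h

end Groth.Agent.S6882
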