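import Groth.Statements.S6884
import Groth.Agent.FinDescent.Main
import Groth.Agent.FlatSpread.Tensor
-- import your own Groth.Agent.* helpers here

set_option autoImplicit false
universe u
open TensorProduct
open CAlg

namespace Groth.Agent.S6884

open Groth.Agent.FlatSpread MvPolynomial in
theorem exists_descend_submodule {A : Type u} [CommRing A] {σ ι : Type} [Finite ι]
    (W : Submodule (MvPolynomial σ A) (ι → MvPolynomial σ A)) (hW : W.FG) :
    ∃ (C₀ : Subalgebra ℤ A) (W₀ : Submodule (MvPolynomial σ C₀) (ι → MvPolynomial σ C₀)),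
      C₀.FG ∧ W₀.FG ∧ ext (algebraMap C₀ A) W₀ = W := by
  classical
  haveI := Fintype.ofFinite ι
  obtain ⟨T, hT⟩ := hW
  let c : Finset A := T.biUnion fun x => Finset.univ.biUnion fun i => (x i).support.image fun α => (x i).coeff α
  let C₀ : Subalgebra ℤ A := Algebra.adjoin ℤ (c : Set A)
  have hlift : ∀ x ∈ T, ∀ i, ∃ q : MvPolynomial σ C₀, MvPolynomial.map (algebraMap C₀ A) q = x i := by
    intro x hx i
    have hp : ∀ α ∈ (x i).support, (x i).coeff α ∈ c := fun α hα =>
      Finset.mem_biUnion.2 ⟨x, hx, Finset.mem_biUnion.2 ⟨i, Finset.mem_univ i, Finset.mem_image_of_mem _ hα⟩⟩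
    refine ⟨∑ α ∈ (x i).support.attach, monomial α.1 (⟨(x i).coeff α.1, Algebra.subset_adjoin (hp α.1 α.2)⟩ : C₀), ?_⟩
    rw [map_sum]
    refine (Finset.sum_congr rfl fun α _ => map_monomial _ _ _).trans ?_
    exact (Finset.sum_attach (x i).support fun α => monomial α ((x i).coeff α)).trans (x i).as_sum.symm
  choose q hq using hlift
  let T₀ : Finset (ι → MvPolynomial σ C₀) := T.attach.image fun x => q x.1 x.2
  refine ⟨C₀, Submodule.span _ (T₀ : Set _), ⟨c, rfl⟩, ⟨T₀, rfl⟩, le_antisymm ?_ ?_⟩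
  · refine Submodule.span_le.2 ?_
    rintro _ ⟨w, hw, rfl⟩
    induction hw using Submodule.span_induction with
    | mem w hw =>
      obtain ⟨⟨x, hx⟩, -, rfl⟩ := Finset.mem_image.1 hw
      rw [show kL (algebraMap C₀ A) (q x hx) = x from funext (hq x hx)]
      exact hT ▸ Submodule.subset_span hx
    | zero => simp
    | add a b _ _ ha hb => rw [map_add]; exact add_mem ha hb
    | smul p a _ ha => rw [LinearMap.map_smulₛₗ]; exact W.smul_mem _ ha
  · rw [← hT, Submodule.span_le]
    intro x hx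
    exact (show kL (algebraMap C₀ A) (q x hx) = x from funext (hq x hx)) ▸
      kL_mem_ext _ (Submodule.subset_span (Finset.mem_image.2 ⟨⟨x, hx⟩, Finset.mem_attach _ _, rfl⟩))

/-- For an injective integral ring map `R → S` and `n ≥ 0`, let `M` be a module of finite presentation
over the polynomial ring `R[x_1, …, x_n]`. Then flatness of `S ⊗_R M` over `S` forces flatness of
`M` over `R`. -/
theorem result (R S : Type u) [CommRing R]
    [CommRing S] [Algebra R S] [Algebra.IsIntegral R S] (hinj : Function.Injective (algebraMap R S)) (n : ℕ)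
    (M : Type u) [AddCommGroup M] [Module (MvPolynomial (Fin n) R) M] [Module R M]
    [IsScalarTower R (MvPolynomial (Fin n) R) M] [Module.FinitePresentation (MvPolynomial (Fin n) R) M]
    [Module.Flat S (S ⊗[R] M)] : Module.Flat R M := by
  classical
  rcases subsingleton_or_nontrivial R with hR | hR
  · haveI := Module.subsingleton R M
    exact Module.Flat.of_free
  obtain ⟨m, W, e₀, hW⟩ := Module.FinitePresentation.exists_fin (MvPolynomial (Fin n) R) M
  let eM := e₀.symm.restrictScalars R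
  have hA := (Groth.Agent.FlatSpread.flat_tensor_iff (A' := S) W eM).1 inferInstance
  obtain ⟨R₁, W₁, hR₁, hW₁, hWe⟩ := exists_descend_submodule W hW
  let α : R₁ →+* S := (algebraMap R S).comp (algebraMap R₁ R)
  rw [← hWe, Groth.Agent.FlatSpread.ext_ext] at hA
  let P : Type u := {D : Subalgebra ℤ S // D.FG ∧ ∀ r, α r ∈ D}
  let s : Groth.Agent.FlatSpread.Sys.{u, u} α :=
    { J := P
      G := fun D => D.1
      a := fun D => α.codRestrict D.1.toSubring D.2.2
      ψ := fun D => D.1.val.toRingHom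
      fac := fun D => rfl
      nonempty := ⟨⟨(⊤ : Subalgebra ℤ R₁).map α.toIntAlgHom, ((Subalgebra.fg_top R₁).2 hR₁).map _, fun r => ⟨r, Algebra.mem_top, rfl⟩⟩⟩
      lift := fun D x => ⟨⟨D.1 ⊔ Algebra.adjoin ℤ {x}, D.2.1.sup ⟨{x}, by simp⟩,
          fun r => le_sup_left (a := D.1) (D.2.2 r)⟩,
        (Subalgebra.inclusion le_sup_left).toRingHom, rfl, rfl,
        ⟨x, le_sup_right (a := D.1) (Algebra.subset_adjoin rfl)⟩, rfl⟩
      eq := fun D y hy => ⟨D, RingHom.id _, RingHom.comp_id _, RingHom.id_comp _,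
        Subtype.ext (show (y : S) = 0 from hy)⟩ }
  obtain ⟨D, hD⟩ := s.exists_fl_bot hW₁ hA
  obtain ⟨t, ht⟩ := D.2.1
  choose f hfm hf using fun x : t => Algebra.IsIntegral.isIntegral (R := R) x.1
  let cf : Finset R := Finset.univ.biUnion fun x : t => (f x).coeffs
  let R₂ : Subalgebra ℤ R := R₁ ⊔ Algebra.adjoin ℤ (cf : Set R)
  let ι₂ : R₁ →+* R₂ := (Subalgebra.inclusion le_sup_left).toRingHom
  haveI : Algebra.FiniteType ℤ R₂ := ⟨(Subalgebra.fg_top _).2 (hR₁.sup ⟨cf, rfl⟩)⟩
  haveI : IsNoetherianRing R₂ := Algebra.FiniteType.isNoetherianRing ℤ R₂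
  let S₂ : Subalgebra R₂ S := Algebra.adjoin R₂ (t : Set S)
  haveI : Module.Finite R₂ S₂ := Module.Finite.iff_fg.2 (fg_adjoin_of_finite t.finite_toSet fun x hx => by
    obtain ⟨g, hg, -, hgm⟩ := Polynomial.lifts_and_degree_eq_and_monic (f := algebraMap R₂ R) (p := f ⟨x, hx⟩) (by
      rw [Polynomial.lifts_iff_coeff_lifts]
      intro k
      by_cases hk : (f ⟨x, hx⟩).coeff k = 0
      · exact ⟨0, by rw [map_zero, hk]⟩
      · exact ⟨⟨_, le_sup_right (a := R₁) (Algebra.subset_adjoin (Finset.mem_biUnion.2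
          ⟨⟨x, hx⟩, Finset.mem_univ _, Polynomial.coeff_mem_coeffs hk⟩))⟩, rfl⟩) (hfm ⟨x, hx⟩)
    refine ⟨g, hgm, ?_⟩
    rw [IsScalarTower.algebraMap_eq R₂ R S, ← Polynomial.eval₂_map, hg]
    exact hf ⟨x, hx⟩)
  have hinj₂ : Function.Injective (algebraMap R₂ S₂) := fun a b h => Subtype.ext (hinj (congrArg Subtype.val h))
  have hle : ∀ x : D.1, (x : S) ∈ S₂ := fun x => by
    have hx : (x : S) ∈ Algebra.adjoin ℤ (t : Set S) := ht.symm ▸ x.2
    exact (Algebra.adjoin_le (S := S₂.restrictScalars ℤ) Algebra.subset_adjoin) hx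
  let φ : D.1 →+* S₂ := D.1.val.toRingHom.codRestrict S₂.toSubring hle
  have h2 := Groth.Agent.FlatSpread.Fl.baseChange φ hD (G' := (⊥ : Submonoid (MvPolynomial (Fin n) S₂))) fun p hp => by
    rw [Submonoid.mem_bot.1 hp, map_one]
    exact one_mem _
  rw [Ideal.map_bot, Groth.Agent.FlatSpread.ext_ext,
    show φ.comp (s.a D) = (algebraMap R₂ S₂).comp ι₂ from rfl, ← Groth.Agent.FlatSpread.ext_ext] at h2
  let W₂ := Groth.Agent.FlatSpread.ext ι₂ W₁
  haveI := (Groth.Agent.FlatSpread.flat_tensor_iff (A' := S₂) W₂ (LinearEquiv.refl R₂ _)).2 h2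
  have h3 := (Groth.Agent.FlatSpread.flat_quot_iff W₂).1
    (Groth.Agent.FinDescent.flat_of_finite_injective R₂ S₂ hinj₂ _)
  have h4 := Groth.Agent.FlatSpread.Fl.baseChange (algebraMap R₂ R) h3 (G' := (⊥ : Submonoid (MvPolynomial (Fin n) R))) fun p hp => by
    rw [Submonoid.mem_bot.1 hp, map_one]
    exact one_mem _
  rw [Ideal.map_bot, Groth.Agent.FlatSpread.ext_ext, show (algebraMap R₂ R).comp ι₂ = algebraMap R₁ R from rfl,
    hWe] at h4
  haveI := (Groth.Agent.FlatSpread.flat_quot_iff W).2 h4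
  exact Module.Flat.of_linearEquiv eM.symm

end Groth.Agent.S6884
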