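import Groth.Statements.S6886
import Mathlib.RingTheory.AdjoinRoot
import Mathlib.RingTheory.TensorProduct.Finite
import Mathlib.RingTheory.IntegralClosure.Algebra.Basic
import Mathlib.Algebra.MvPolynomial.CommRing
import Mathlib.RingTheory.Flat.Basic

set_option autoImplicit false
universe u
open TensorProduct
open CAlg

namespace Groth.Agent.S6886

/-- Let `R → S` be a finite ring map. One can find an extension `R ⊆ R'` of rings, with `R'` finite and
free as an `R`-module, for which the ring `S ⊗_R R'` arises as a quotient of `R'[T_1, …,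
T_n]/(P_1(T_1), …, P_n(T_n))` with each `P_i(T) = ∏_j (T - α_{ij})` a product of linear factors over
`R'`. -/
theorem result (R S : Type u) [CommRing R] [CommRing S] [Algebra R S]
    [Module.Finite R S] :
    ∃ (R' : Type u) (_ : CommRing R') (_ : Algebra R R'), Module.Finite R R' ∧ Module.Free R R' ∧
      Function.Injective (algebraMap R R') ∧
      ∃ (n : ℕ) (d : Fin n → ℕ) (α : (i : Fin n) → Fin (d i) → R')
        (φ : MvPolynomial (Fin n) R' →ₐ[R'] R' ⊗[R] S), Function.Surjective φ ∧
          ∀ i, φ (∏ j, (MvPolynomial.X i - MvPolynomial.C (α i j))) = 0 := by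
  classical
  rcases subsingleton_or_nontrivial R with hR | hR
  · haveI : Subsingleton (R ⊗[R] S) := Module.subsingleton R _
    exact ⟨R, inferInstance, inferInstance, inferInstance, inferInstance, Function.injective_id, 0,
      fun _ => 0, fun i => i.elim0, MvPolynomial.aeval fun i => i.elim0, fun x => ⟨0, Subsingleton.elim _ _⟩,
      fun i => i.elim0⟩
  obtain ⟨n, s, hs⟩ := Module.Finite.exists_fin (R := R) (M := S)
  have key : ∀ (k : ℕ) (f : Fin k → Polynomial R), (∀ i, (f i).Monic) →
      ∃ (T : Type u) (_ : CommRing T) (_ : Algebra R T) (_ : Module.Finite R T) (_ : Module.Free R T)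
        (_ : Nontrivial T), ∀ i, ((f i).map (algebraMap R T)).Splits := by
    intro k
    induction k with
    | zero => exact fun _ _ => ⟨R, inferInstance, inferInstance, inferInstance, inferInstance, inferInstance, fun i => i.elim0⟩
    | succ k ih =>
      intro f hf
      obtain ⟨T, _, _, _, _, _, hT⟩ := ih (fun i => f i.castSucc) (fun i => hf _)
      obtain ⟨U, _, _, _, _, _, hU⟩ := ((hf (Fin.last k)).map (algebraMap R T)).exists_splits_map
      letI : Algebra R U := ((algebraMap T U).comp (algebraMap R T)).toAlgebra
      haveI : IsScalarTower R T U := .of_algebraMap_eq' rfl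
      refine ⟨U, inferInstance, inferInstance, .trans T U, .trans (S := T), inferInstance, fun i => ?_⟩
      rw [IsScalarTower.algebraMap_eq R T U, ← Polynomial.map_map]
      induction i using Fin.lastCases with
      | last => exact hU
      | cast i => exact (hT i).map _
  choose P hP hP0 using fun i => (Algebra.IsIntegral.isIntegral (R := R) (s i))
  obtain ⟨T, _, _, _, _, _, hT⟩ := key n P hP
  have hroots : ∀ i, ∃ m : Multiset T, (P i).map (algebraMap R T) = (m.map fun a => Polynomial.X - Polynomial.C a).prod := by
    intro i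
    obtain ⟨m, hm⟩ := Polynomial.splits_iff_exists_multiset.mp (hT i)
    refine ⟨m, ?_⟩
    rwa [((hP i).map (algebraMap R T)).leadingCoeff, map_one, one_mul] at hm
  choose m hm using hroots
  let φ : MvPolynomial (Fin n) T →ₐ[T] T ⊗[R] S := MvPolynomial.aeval fun i => 1 ⊗ₜ s i
  refine ⟨T, inferInstance, inferInstance, inferInstance, inferInstance,
    FaithfulSMul.algebraMap_injective R T, n, fun i => (m i).toList.length,
    fun i j => (m i).toList.get j, φ, ?_, ?_⟩
  · intro z
    induction z using TensorProduct.induction_on with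
    | zero => exact ⟨0, map_zero _⟩
    | tmul t x =>
      have hx : x ∈ Submodule.span R (Set.range s) := hs ▸ Submodule.mem_top
      obtain ⟨c, rfl⟩ := (Submodule.mem_span_range_iff_exists_fun R).mp hx
      refine ⟨∑ i, MvPolynomial.C (t * algebraMap R T (c i)) * MvPolynomial.X i, ?_⟩
      rw [map_sum, TensorProduct.tmul_sum]
      refine Finset.sum_congr rfl fun i _ => ?_
      rw [TensorProduct.tmul_smul, TensorProduct.smul_tmul']
      simp [φ, Algebra.TensorProduct.algebraMap_apply, Algebra.TensorProduct.tmul_mul_tmul,
        Algebra.smul_def, mul_comm]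
    | add x y hx hy =>
      obtain ⟨a, rfl⟩ := hx; obtain ⟨b, rfl⟩ := hy
      exact ⟨a + b, map_add _ _ _⟩
  · intro i
    rw [Fin.prod_univ_def]
    have h1 : Polynomial.aeval (1 ⊗ₜ s i : T ⊗[R] S) ((P i).map (algebraMap R T)) = 0 := by
      rw [Polynomial.aeval_map_algebraMap]
      have : (1 ⊗ₜ s i : T ⊗[R] S) = (Algebra.TensorProduct.includeRight (R := R) (A := T) (B := S)) (s i) := rfl
      rw [this, Polynomial.aeval_algHom_apply]
      rw [show Polynomial.aeval (s i) (P i) = 0 from hP0 i, map_zero]
    rw [hm i] at h1
    rw [← h1, map_multiset_prod, ← Fin.prod_univ_def, map_prod]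
    conv_rhs => rw [← Multiset.coe_toList (m i), Multiset.map_coe, Multiset.map_coe, Multiset.prod_coe, List.map_map,
      ← List.ofFn_getElem_eq_map, List.prod_ofFn]
    refine Finset.prod_congr rfl fun j _ => ?_
    simp [φ]

end Groth.Agent.S6886
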