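import Groth.Statements.S6887
import Mathlib.LinearAlgebra.Matrix.Charpoly.Coeff
import Mathlib.LinearAlgebra.Matrix.ToLin
import Mathlib.RingTheory.Nakayama
import Mathlib.LinearAlgebra.Finsupp.LinearCombination
import Mathlib.RingTheory.Ideal.Quotient.Operations
import Mathlib.Algebra.Polynomial.AlgebraMap

set_option autoImplicit false
universe u
open Polynomial
open CAlg

namespace Groth.Agent.S6887

/-- Let `(A, I)` be a Zariski pair (`I` inside the Jacobson radical) and `A → B` a finite ring map.
Suppose `B/IB ≅ B₁ × B₂` as `A`-algebras with `A → B₁` surjective, and `b ∈ B` maps to `(1, 0)`.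
Then there is a monic `f ∈ A[x]` with `f(b) = 0` whose reduction modulo `I` is `(x - 1) x^d` for
some `d ≥ 1`. -/
theorem result (A B : Type u) [CommRing A] [CommRing B]
    [Algebra A B] [Module.Finite A B] (I : Ideal A) (hI : I ≤ Ideal.jacobson (⊥ : Ideal A))
    (B₁ B₂ : Type u) [CommRing B₁] [CommRing B₂] [Algebra A B₁] [Algebra A B₂]
    (e : (B ⧸ I.map (algebraMap A B)) ≃ₐ[A] B₁ × B₂) (h₁ : Function.Surjective (algebraMap A B₁)) (b : B)
    (hb : e (Ideal.Quotient.mk (I.map (algebraMap A B)) b) = (1, 0)) :
    ∃ (f : A[X]) (d : ℕ), f.Monic ∧ Polynomial.aeval b f = 0 ∧ 1 ≤ d ∧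
      f.map (Ideal.Quotient.mk I) = (X - 1) * X ^ d := by
  classical
  let J := I.map (algebraMap A B)
  haveI : Module.Finite A B₂ := by
    haveI : Module.Finite A (B₁ × B₂) := Module.Finite.equiv e.toLinearEquiv
    exact Module.Finite.of_surjective (LinearMap.snd A B₁ B₂) LinearMap.snd_surjective
  obtain ⟨m, y, hy⟩ := Module.Finite.exists_fin (R := A) (M := B₂)
  choose z hz using fun i => Ideal.Quotient.mk_surjective (e.symm ((0 : B₁), y i))
  have hb' : e (Ideal.Quotient.mk J b) = (1, 0) := hb
  have hz' : ∀ i, e (Ideal.Quotient.mk J (z i)) = (0, y i) := fun i => (congrArg e (hz i)).trans (e.apply_symm_apply _)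
  have hz'' : ∀ i, e (Ideal.Quotient.mk (I.map (algebraMap A B)) (z i)) = (0, y i) := hz'
  let x : Fin (m + 1 + 1) → B := Fin.cons b (Fin.cons 0 z)
  have hB : Submodule.span A (Set.range x) = ⊤ := by
    refine eq_top_iff.2 (Submodule.le_of_le_smul_of_le_jacobson_bot Module.Finite.fg_top hI ?_)
    intro w _
    obtain ⟨a, ha⟩ := h₁ (e (Ideal.Quotient.mk J w)).1
    have h2 : (e (Ideal.Quotient.mk J w)).2 ∈ Submodule.span A (Set.range y) := hy ▸ Submodule.mem_top
    obtain ⟨c, hc⟩ := (Submodule.mem_span_range_iff_exists_fun A).1 h2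
    have heq : Ideal.Quotient.mk J w = Ideal.Quotient.mkₐ A J (a • b + ∑ i, c i • z i) := by
      apply e.injective
      rw [map_add, map_smul, map_sum, map_add, map_smul, map_sum]
      simp only [map_smul, Ideal.Quotient.mkₐ_eq_mk, hb', hz']
      ext
      · simp [← ha, Algebra.algebraMap_eq_smul_one, Prod.fst_sum]
      · simp [← hc, Prod.snd_sum]
    have hwJ : w - (a • b + ∑ i, c i • z i) ∈ I • (⊤ : Submodule A B) := by
      rw [Ideal.smul_top_eq_map]
      exact Ideal.Quotient.eq.1 heq
    have hmem : a • b + ∑ i, c i • z i ∈ Submodule.span A (Set.range x) :=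
      add_mem (Submodule.smul_mem _ _ (Submodule.subset_span ⟨0, rfl⟩))
        (Submodule.sum_mem _ fun i _ => Submodule.smul_mem _ _ (Submodule.subset_span ⟨i.succ.succ, rfl⟩))
    rw [show w = (a • b + ∑ i, c i • z i) + (w - (a • b + ∑ i, c i • z i)) from (add_sub_cancel _ _).symm]
    exact Submodule.add_mem_sup hmem hwJ
  let π : (Fin (m + 1 + 1) → A) →ₗ[A] B := Fintype.linearCombination A x
  have hπ : Function.Surjective π := by rw [← LinearMap.range_eq_top, Fintype.range_linearCombination, hB]
  let D : Fin (m + 1 + 1) → A := Fin.cons 1 0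
  have hD : ∀ i, b * x i - D i • x i ∈ I • Submodule.span A (Set.range x) := fun i => by
    rw [hB, Ideal.smul_top_eq_map, Submodule.restrictScalars_mem, ← Ideal.Quotient.eq]
    apply e.injective
    rw [map_mul, map_mul]
    refine Fin.cases ?_ (fun j => ?_) i
    · simp [x, D, hb]
    · refine Fin.cases ?_ (fun k => ?_) j
      · simp [x, D]
      · simp [x, D, hb, hz'']
  choose c hcI hc using fun i => (Submodule.mem_ideal_smul_span_iff_exists_sum I x _).1 (hD i)
  let M : Matrix (Fin (m + 1 + 1)) (Fin (m + 1 + 1)) A := fun j i => (if j = i then D i else 0) + c i j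
  let g := Matrix.toLin' M
  have hg : ∀ v, π (g v) = b * π v := by
    have hh : π ∘ₗ g = LinearMap.mulLeft A b ∘ₗ π := by
      refine (Pi.basisFun A _).ext fun i => ?_
      have hMi : g (Pi.single i 1) = fun j => M j i := funext fun j => by simp [g, Matrix.mulVec, dotProduct, Pi.single_apply]
      simp only [LinearMap.comp_apply, Pi.basisFun_apply, hMi, π, Fintype.linearCombination_apply_single, LinearMap.mulLeft_apply, one_smul]
      rw [Fintype.linearCombination_apply]
      simp only [M, add_smul, ite_smul, zero_smul, Finset.sum_add_distrib, Finset.sum_ite_eq', Finset.mem_univ, if_true]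
      rw [show ∑ j, c i j • x j = b * x i - D i • x i from (Finsupp.sum_fintype _ _ fun j => zero_smul A (x j)).symm.trans (hc i), add_sub_cancel]
    exact fun v => LinearMap.congr_fun hh v
  let f := M.charpoly
  have hag : ∀ (p : A[X]) v, π (Polynomial.aeval g p v) = Polynomial.aeval b p * π v := fun p v => by
    induction p using Polynomial.induction_on generalizing v with
    | C a => rw [Polynomial.aeval_C, Polynomial.aeval_C, Module.algebraMap_end_apply, map_smul, Algebra.smul_def]
    | add p q hp hq => simp [map_add, LinearMap.add_apply, hp, hq, add_mul]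
    | monomial n a h =>
      rw [pow_succ, ← mul_assoc, map_mul (Polynomial.aeval g), map_mul (Polynomial.aeval b), Polynomial.aeval_X, Polynomial.aeval_X, Module.End.mul_apply, h, hg, mul_assoc]
  obtain ⟨v, hv⟩ := hπ 1
  refine ⟨f, m + 1, M.charpoly_monic, ?_, by omega, ?_⟩
  · have h0 : Polynomial.aeval g f = 0 := by
      show Polynomial.aeval (Matrix.toLinAlgEquiv' M) f = 0
      rw [Polynomial.aeval_algHom_apply, Matrix.aeval_self_charpoly, map_zero]
    have := hag f v
    rw [h0, LinearMap.zero_apply, map_zero, hv, mul_one] at this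
    exact this.symm
  · have hM : M.map (Ideal.Quotient.mk I) = Matrix.diagonal fun i => Ideal.Quotient.mk I (D i) := by
      ext j i
      show Ideal.Quotient.mk I ((if j = i then D i else 0) + c i j) = Matrix.diagonal (fun i => Ideal.Quotient.mk I (D i)) j i
      rw [map_add, Ideal.Quotient.eq_zero_iff_mem.2 (hcI i j), add_zero, Matrix.diagonal_apply]
      split_ifs with h
      · rw [h]
      · rw [map_zero]
    rw [← Matrix.charpoly_map, hM, Matrix.charpoly_diagonal, Fin.prod_univ_succ]
    simp [D]

end Groth.Agent.S6887
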