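import Groth.Statements.S6888


set_option autoImplicit false
universe u
open Polynomial
open CAlg Polynomial

namespace Groth.Agent.S6888

/-- Let `A` be absolutely integrally closed (every monic polynomial over `A` is a product of linear
factors) and `I ⊆ A` an ideal contained in the Jacobson radical such that `A → A/I` is surjective
(hence bijective) on idempotents. Then `(A, I)` is a henselian pair. (The published statement also
records the converse, which holds for every henselian pair; this row states the sufficiency only.) -/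
theorem result (A : Type u) [CommRing A]
    (hA : ∀ f : A[X], f.Monic → ∃ s : Multiset A, f = (s.map fun a => X - C a).prod) (I : Ideal A)
    (hI : I ≤ Ideal.jacobson (⊥ : Ideal A))
    (hidem : ∀ e : A ⧸ I, IsIdempotentElem e → ∃ e' : A, IsIdempotentElem e' ∧ Ideal.Quotient.mk I e' = e) :
    HenselianRing A I := by
  classical
  refine ⟨hI, fun f hf a₀ ha₀ hu => ?_⟩
  obtain ⟨s, hs⟩ := hA f hf
  let ι := Fin s.toList.length
  let α : ι → A := fun i => s.toList[i.1]
  have hfp : f = ∏ i : ι, (X - C (α i)) := by
    rw [hs, ← List.prod_ofFn]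
    conv_lhs => rw [← s.coe_toList, Multiset.map_coe, Multiset.prod_coe, ← List.ofFn_getElem (xs := s.toList)]
    rw [List.map_ofFn]
    rfl
  let π := Ideal.Quotient.mk I
  let x : ι → A ⧸ I := fun i => π (a₀ - α i)
  let P : ι → A ⧸ I := fun j => ∏ i ∈ Finset.univ.erase j, x i
  have hfull : ∏ i, x i = 0 := by
    simp only [x, ← map_prod]
    rw [Ideal.Quotient.eq_zero_iff_mem]
    simpa [hfp, eval_prod] using ha₀
  have hxP : ∀ j, x j * P j = 0 := fun j => by
    rw [Finset.mul_prod_erase _ _ (Finset.mem_univ j), hfull]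
  have hPP : ∀ j l, j ≠ l → P j * P l = 0 := fun j l hjl => by
    have : x j ∣ P l :=
      Finset.dvd_prod_of_mem _ (Finset.mem_erase.2 ⟨hjl, Finset.mem_univ j⟩)
    obtain ⟨c, hc⟩ := this
    rw [hc, ← mul_assoc, mul_comm (P j), hxP, zero_mul]
  have hD : π (f.derivative.eval a₀) = ∑ j, P j := by
    rw [hfp, derivative_prod_finset]
    simp [P, x, π, eval_finset_sum, eval_prod, map_prod]
  obtain ⟨D, hDu⟩ : IsUnit (∑ j, P j) := hD ▸ hu
  let e : ι → A ⧸ I := fun j => (↑D⁻¹ : A ⧸ I) * P j
  have hesum : ∑ j, e j = 1 := by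
    simp only [e, ← Finset.mul_sum, ← hDu, Units.inv_mul]
  have horth : ∀ j l, j ≠ l → e j * e l = 0 := fun j l h => by
    simp only [e]
    rw [mul_mul_mul_comm, hPP j l h, mul_zero]
  have hidm : ∀ j, IsIdempotentElem (e j) := fun j => by
    have h1 : e j * ∑ l, e l = e j * e j := by
      rw [Finset.mul_sum]
      exact Finset.sum_eq_single j (fun l _ hl => horth j l (Ne.symm hl)) (by simp)
    rw [hesum, mul_one] at h1
    exact h1.symm
  choose E hE hπE using fun j => hidem (e j) (hidm j)
  have hzero : ∀ z : A, IsIdempotentElem z → π z = 0 → z = 0 := fun z hz h0 => by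
    have hjac : z ∈ Ideal.jacobson (⊥ : Ideal A) := hI (Ideal.Quotient.eq_zero_iff_mem.1 h0)
    have hunit : IsUnit (1 - z) := by
      have := Ideal.mem_jacobson_bot.1 hjac (-1)
      convert this using 1; ring
    have h2 : (1 - z) * z = 0 := by rw [sub_mul, one_mul, hz.eq, sub_self]
    exact hunit.mul_right_eq_zero.1 h2
  have hEorth : ∀ j l, j ≠ l → E j * E l = 0 := fun j l h =>
    hzero _ ((hE j).mul (hE l)) (by rw [map_mul, hπE, hπE, horth j l h])
  have hEsum : ∑ j, E j = 1 := by
    have hi : IsIdempotentElem (∑ j, E j) := by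
      change _ * _ = _
      rw [Finset.sum_mul]
      refine Finset.sum_congr rfl fun j _ => ?_
      rw [Finset.mul_sum]
      rw [Finset.sum_eq_single j (fun l _ hl => hEorth j l (Ne.symm hl)) (by simp)]
      exact hE j
    have := hzero _ hi.one_sub (by simp [π, map_sum, hπE, hesum] )
    exact (sub_eq_zero.1 this).symm
  refine ⟨∑ j, E j * α j, ?_, ?_⟩
  · rw [IsRoot.def]
    have key : ∀ j, E j * f.eval (∑ l, E l * α l) = 0 := fun j => by
      rw [hfp, eval_prod, ← Finset.mul_prod_erase _ _ (Finset.mem_univ j), ← mul_assoc]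
      suffices E j * ((X - C (α j)).eval (∑ l, E l * α l)) = 0 by rw [this, zero_mul]
      rw [eval_sub, eval_X, eval_C, mul_sub, Finset.mul_sum,
        Finset.sum_eq_single j (fun l _ hl => by rw [← mul_assoc, hEorth j l (Ne.symm hl), zero_mul])
          (by simp), ← mul_assoc, (hE j).eq, sub_self]
    rw [← one_mul (f.eval _), ← hEsum, Finset.sum_mul]
    exact Finset.sum_eq_zero fun j _ => key j
  · rw [← Ideal.Quotient.eq, map_sum]
    have h3 : ∀ j, π (E j * α j) = e j * π a₀ := fun j => by
      have h4 : e j * x j = 0 := by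
        simp only [e]; rw [mul_assoc, mul_comm (P j), hxP, mul_zero]
      simp only [x, map_sub, mul_sub, sub_eq_zero] at h4
      rw [map_mul, hπE, h4]
    rw [Finset.sum_congr rfl fun j _ => h3 j, ← Finset.sum_mul, hesum, one_mul]

end Groth.Agent.S6888
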