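import Groth.Statements.S6893
import Mathlib.RingTheory.Flat.Tensor
import Mathlib.LinearAlgebra.TensorProduct.RightExactness
import Mathlib.LinearAlgebra.TensorProduct.Tower
import Mathlib.Algebra.Module.Torsion.Basic

set_option autoImplicit false
universe u
open TensorProduct
open CAlg
open scoped TensorProduct

namespace Groth.Agent.S6893

/-- Let `M` be a module over a ring `R` and `I₁, I₂ ⊆ R` ideals. Suppose flatness of `M/I₁M` as an
`R/I₁`-module holds, and likewise `M/I₂M` is a flat `R/I₂`-module; then the quotient `M/(I₁ ∩ I₂)M`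
is also flat as a module over `R/(I₁ ∩ I₂)`. -/
theorem result {R : Type u} [CommRing R] (M : Type u) [AddCommGroup M] [Module R M]
    (I₁ I₂ : Ideal R) [Module.Flat (R ⧸ I₁) ((R ⧸ I₁) ⊗[R] M)] [Module.Flat (R ⧸ I₂) ((R ⧸ I₂) ⊗[R] M)] :
    Module.Flat (R ⧸ (I₁ ⊓ I₂)) ((R ⧸ (I₁ ⊓ I₂)) ⊗[R] M) := by
  classical
  have key : ∀ (I : Ideal R) [Module.Flat (R ⧸ I) ((R ⧸ I) ⊗[R] M)] (V : Type u) [AddCommGroup V] [Module R V]
      (_ : ∀ a ∈ I, ∀ v : V, a • v = 0) (f : V →ₗ[R] (R ⧸ I)), Function.Injective f →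
        Function.Injective (f.rTensor M) := by
    intro I _ V _ _ hV f hf
    have hT : Module.IsTorsionBySet R V (I : Set R) := fun v a => hV a a.2 v
    let : Module (R ⧸ I) V := hT.module
    have : IsScalarTower R (R ⧸ I) V := hT.isScalarTower
    let f' : V →ₗ[R ⧸ I] (R ⧸ I) := LinearMap.extendScalarsOfSurjective Ideal.Quotient.mk_surjective f
    let eV := TensorProduct.AlgebraTensorModule.cancelBaseChange R (R ⧸ I) (R ⧸ I) V M
    let eA := TensorProduct.AlgebraTensorModule.cancelBaseChange R (R ⧸ I) (R ⧸ I) (R ⧸ I) M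
    have hinj := Module.Flat.rTensor_preserves_injective_linearMap (M := (R ⧸ I) ⊗[R] M) f' hf
    have hc : ∀ z, f.rTensor M (eV z) = eA (f'.rTensor ((R ⧸ I) ⊗[R] M) z) := by
      intro z
      induction z with
      | zero => simp
      | tmul v w =>
        induction w with
        | zero => simp
        | tmul c m =>
          simp [eV, eA, f']
          rw [show f (c • v) = c • f v from map_smul f' c v, smul_eq_mul]
        | add a b ha hb => simp only [TensorProduct.tmul_add, map_add, ha, hb]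
      | add a b ha hb => simp only [map_add, ha, hb]
    intro a b hab
    obtain ⟨a, rfl⟩ := eV.surjective a
    obtain ⟨b, rfl⟩ := eV.surjective b
    rw [hc, hc] at hab
    rw [hinj (eA.injective hab)]
  let A := R ⧸ (I₁ ⊓ I₂)
  refine Module.Flat.iff_rTensor_injective'.2 fun 𝔞 => ?_
  let eV := TensorProduct.AlgebraTensorModule.cancelBaseChange R A A 𝔞 M
  let eA := TensorProduct.AlgebraTensorModule.cancelBaseChange R A A A M
  let inc : 𝔞 →ₗ[R] A := (Submodule.subtype 𝔞).restrictScalars R
  suffices hmain : Function.Injective (inc.rTensor M) by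
    have hc : ∀ z, (inc.rTensor M) (eV z) = eA (LinearMap.rTensor (A ⊗[R] M) 𝔞.subtype z) := by
      intro z
      induction z with
      | zero => simp
      | tmul v w =>
        induction w with
        | zero => simp
        | tmul c m =>
          simp [eV, eA, inc]
          erw [LinearMap.rTensor_tmul]
          erw [TensorProduct.AlgebraTensorModule.cancelBaseChange_tmul]
          rfl
        | add a b ha hb => simp only [TensorProduct.tmul_add, map_add, ha, hb]
      | add a b ha hb => simp only [map_add, ha, hb]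
    intro a b hab
    exact eV.injective (hmain ((hc a).trans ((congrArg eA hab).trans (hc b).symm)))
  let q₁ : A →ₗ[R] (R ⧸ I₁) := Submodule.liftQ (I₁ ⊓ I₂ : Submodule R R) (Submodule.mkQ I₁) (by rw [Submodule.ker_mkQ]; exact inf_le_left)
  let q₂ : A →ₗ[R] (R ⧸ I₂) := Submodule.liftQ (I₁ ⊓ I₂ : Submodule R R) (Submodule.mkQ I₂) (by rw [Submodule.ker_mkQ]; exact inf_le_right)
  let g : 𝔞 →ₗ[R] (R ⧸ I₁) := q₁ ∘ₗ inc
  let V := LinearMap.range g
  let π : 𝔞 →ₗ[R] V := g.rangeRestrict
  have hπ : Function.Surjective π := g.surjective_rangeRestrict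
  have hkillQ : ∀ (J : Ideal R) (a : R), a ∈ J → ∀ c : R ⧸ J, a • c = 0 := fun J a ha c => by
    obtain ⟨c, rfl⟩ := Submodule.Quotient.mk_surjective _ c
    rw [← Submodule.Quotient.mk_smul, Submodule.Quotient.mk_eq_zero, smul_eq_mul]
    exact J.mul_mem_right c ha
  have hV : Function.Injective (V.subtype.rTensor M) :=
    key I₁ V (fun a ha v => Subtype.ext (hkillQ I₁ a ha v.1)) V.subtype V.injective_subtype
  let K := LinearMap.ker π
  have hK : Function.Injective ((q₂ ∘ₗ inc ∘ₗ K.subtype).rTensor M) := by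
    refine key I₂ K (fun a ha k => ?_) _ ?_
    · refine Subtype.ext (Subtype.ext ?_)
      have h1 : q₁ (k.1.1) = 0 := congrArg Subtype.val (LinearMap.mem_ker.1 k.2)
      obtain ⟨c, hc⟩ := Submodule.Quotient.mk_surjective _ (k.1.1 : A)
      show a • (k.1.1 : A) = 0
      rw [← hc] at h1 ⊢
      rw [Submodule.liftQ_apply, Submodule.mkQ_apply, Submodule.Quotient.mk_eq_zero] at h1
      rw [← Submodule.Quotient.mk_smul, Submodule.Quotient.mk_eq_zero, smul_eq_mul]
      exact ⟨I₁.mul_mem_left a h1, I₂.mul_mem_right c ha⟩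
    · rw [injective_iff_map_eq_zero]
      intro k hk
      have h1 : q₁ (k.1.1) = 0 := congrArg Subtype.val (LinearMap.mem_ker.1 k.2)
      have h2 : q₂ (k.1.1) = 0 := hk
      obtain ⟨c, hc⟩ := Submodule.Quotient.mk_surjective _ (k.1.1 : A)
      refine Subtype.ext (Subtype.ext ?_)
      show (k.1.1 : A) = 0
      rw [← hc] at h1 h2 ⊢
      rw [Submodule.liftQ_apply, Submodule.mkQ_apply, Submodule.Quotient.mk_eq_zero] at h1 h2
      exact (Submodule.Quotient.mk_eq_zero _).2 ⟨h1, h2⟩
  rw [injective_iff_map_eq_zero]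
  intro x hx
  have hx1 : π.rTensor M x = 0 := by
    refine hV ?_
    rw [map_zero, ← LinearMap.rTensor_comp_apply, show V.subtype ∘ₗ π = q₁ ∘ₗ inc from rfl, LinearMap.rTensor_comp_apply, hx, map_zero]
  obtain ⟨y, rfl⟩ := (@rTensor_exact R (LinearMap.ker π) 𝔞 V _ _ _ _ _ _ _ (Submodule.subtype _) π M _ _ (LinearMap.exact_subtype_ker_map π) hπ x).1 hx1
  have hy : y = 0 := by
    refine hK ?_
    rw [map_zero, LinearMap.rTensor_comp_apply, LinearMap.rTensor_comp_apply, hx, map_zero]
  rw [hy, map_zero]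

end Groth.Agent.S6893
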