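import Groth.Statements.S6896
import Groth.Agent.FittLib.BaseChange

set_option autoImplicit false
universe u
open Fitt

namespace Groth.Agent.S6896

/-- Let `R` be a local ring, `M` a finite `R`-module and `k ≥ 0` with `Fit_k(M) = (f)` principal. Then
the quotient `M'` of `M` by the submodule `{x ∈ M | f x = 0}` can be generated by `k` elements. -/
theorem result {R : Type u} [CommRing R] [IsLocalRing R]
    (M : Type u) [AddCommGroup M] [Module R M] [Module.Finite R M] (k : ℕ) (f : R)
    (hf : Fitt.ideal R M k = Ideal.span {f}) :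
    ∃ g : Fin k → M ⧸ LinearMap.ker (f • (LinearMap.id : M →ₗ[R] M)),
      Submodule.span R (Set.range g) = ⊤ := by
  classical
  by_cases hf0 : f = 0
  · subst hf0
    refine ⟨fun _ => 0, ?_⟩
    haveI : Subsingleton (M ⧸ LinearMap.ker ((0 : R) • (LinearMap.id : M →ₗ[R] M))) := by
      rw [Submodule.Quotient.subsingleton_iff]
      simp
    exact Subsingleton.elim _ _
  obtain ⟨n, x, hx⟩ := FittLib.exists_generators R M
  rw [FittLib.ideal_eq_minors_fin x hx] at hf
  obtain ⟨z, e, hz, v, hv⟩ : ∃ (z : Fin (n - k) → Fin n → R) (e : Fin (n - k) → Fin n),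
      (∀ j, z j ∈ FittLib.rel R x) ∧ ∃ v : Rˣ, FittLib.minor z e = v * f := by
    by_contra hc
    push Not at hc
    have hle : Ideal.span {f} ≤ IsLocalRing.maximalIdeal R * Ideal.span {f} := by
      conv_lhs => rw [← hf]
      refine FittLib.minors_le fun z e hz => ?_
      obtain ⟨c, hc'⟩ := Ideal.mem_span_singleton'.mp (hf ▸ FittLib.minor_mem_minors hz e)
      rw [Ideal.mem_mul_span_singleton]
      refine ⟨c, (IsLocalRing.mem_maximalIdeal c).mpr fun hu => ?_, hc'⟩
      obtain ⟨v, rfl⟩ := hu
      exact hc z e hz v hc'.symm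
    obtain ⟨a, ha, haf⟩ := Ideal.mem_mul_span_singleton.mp (hle (Ideal.mem_span_singleton_self f))
    have hu : IsUnit (1 - a) := IsLocalRing.isUnit_one_sub_self_of_mem_nonunits a ha
    exact hf0 ((hu.mul_right_eq_zero).mp (by rw [sub_mul, one_mul, haf, sub_self]))
  have he : Function.Injective e := by
    by_contra he
    rw [FittLib.minor_eq_zero_of_not_injective z e he] at hv
    exact hf0 ((v.isUnit.mul_right_eq_zero).mp hv.symm)
  let K := LinearMap.ker (f • (LinearMap.id : M →ₗ[R] M))
  refine FittLib.exists_fin_span (ι := Fin n) _ (FittLib.card_compl_range_le he (by simp))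
    (fun i => Submodule.Quotient.mk (x i)) ?_
  rw [eq_top_iff]
  rintro q -
  obtain ⟨m, rfl⟩ := Submodule.Quotient.mk_surjective _ q
  induction (show m ∈ Submodule.span R (Set.range x) by rw [hx]; trivial)
    using Submodule.span_induction with
  | mem y hy =>
    obtain ⟨i, rfl⟩ := hy
    by_cases hi : i ∈ Set.range e
    swap
    · exact Submodule.subset_span ⟨i, hi, rfl⟩
    obtain ⟨a, rfl⟩ := hi
    obtain ⟨c, hc1, hc2, heq⟩ := FittLib.exists_minor_smul_eq hz e a
    choose b hb using fun i => Ideal.mem_span_singleton'.mp (hf ▸ hc1 i)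
    let b' : Fin n → R := fun i => if i ∈ Set.range e then 0 else b i
    have hb' : ∀ i, b' i * f = c i := fun i => by
      by_cases hi : i ∈ Set.range e
      · simp only [b', if_pos hi, zero_mul, hc2 i hi]
      · simp only [b', if_neg hi, hb]
    have key : x (e a) - (↑v⁻¹ : R) • ∑ i, b' i • x i ∈ K := by
      simp only [K, LinearMap.mem_ker, LinearMap.smul_apply, LinearMap.id_coe, id_eq, smul_sub,
        sub_eq_zero, Finset.smul_sum, smul_smul]
      calc f • x (e a) = (↑v⁻¹ : R) • (FittLib.minor z e • x (e a)) := by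
            rw [hv, smul_smul, ← mul_assoc, Units.inv_mul, one_mul]
        _ = _ := by
            rw [heq, Finset.smul_sum]
            refine Finset.sum_congr rfl fun i _ => ?_
            rw [smul_smul, ← hb']
            congr 1
            ring
    rw [(Submodule.Quotient.eq K).mpr key, Submodule.Quotient.mk_smul]
    refine Submodule.smul_mem _ _ ?_
    rw [← Submodule.mkQ_apply, map_sum]
    refine Submodule.sum_mem _ fun i _ => ?_
    by_cases hi : i ∈ Set.range e
    · simp only [b', if_pos hi, zero_smul, map_zero, zero_mem]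
    · rw [map_smul]
      exact Submodule.smul_mem _ _ (Submodule.subset_span ⟨i, hi, rfl⟩)
  | zero => simp
  | add p q _ _ hp hq => rw [Submodule.Quotient.mk_add]; exact Submodule.add_mem _ hp hq
  | smul r p _ hp => rw [Submodule.Quotient.mk_smul]; exact Submodule.smul_mem _ _ hp

end Groth.Agent.S6896
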