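import Groth.Statements.S6897
import Groth.Agent.FittLib.Proj
import Groth.Agent.S6895

set_option autoImplicit false
universe u
open CategoryTheory
open Fitt

namespace Groth.Agent.S6897

/-- Let `M` be a finitely presented `R`-module and `k ≥ 0` such that `Fit_k(M) = (f)` for a
nonzerodivisor `f` and `Fit_{k-1}(M) = 0` (no condition when `k = 0`). Let `M' = Ker(f : M → M)`.
Then: the projective dimension of `M` is at most `1`; `M'` coincides with the `f`-power torsion of
`M` and its projective dimension is at most `1`; every prime of `R` has a basic open neighbourhood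
over which `M/M'` is free of rank `k`; and `M ≅ M/M' ⊕ M'` (existence of an isomorphism). -/
theorem result {R : Type u} [CommRing R] (M : Type u)
    [AddCommGroup M] [Module R M] [Module.FinitePresentation R M] (k : ℕ) (f : R) (hf0 : f ∈ nonZeroDivisors R)
    (hf : Fitt.ideal R M k = Ideal.span {f}) (hk : k = 0 ∨ Fitt.ideal R M (k - 1) = ⊥) :
    HasProjectiveDimensionLT (ModuleCat.of R M) 2 ∧
    (∀ x : M, (∃ n : ℕ, f ^ n • x = 0) ↔ f • x = 0) ∧
    HasProjectiveDimensionLT (ModuleCat.of R ↥(LinearMap.ker (f • (LinearMap.id : M →ₗ[R] M)))) 2 ∧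
    (∀ (p : Ideal R) [p.IsPrime], ∃ g : R, g ∉ p ∧
      Module.Free (Localization.Away g)
          (LocalizedModule (Submonoid.powers g) (M ⧸ LinearMap.ker (f • (LinearMap.id : M →ₗ[R] M)))) ∧
        Module.finrank (Localization.Away g)
          (LocalizedModule (Submonoid.powers g) (M ⧸ LinearMap.ker (f • (LinearMap.id : M →ₗ[R] M)))) = k) ∧
    Nonempty (M ≃ₗ[R] (M ⧸ LinearMap.ker (f • (LinearMap.id : M →ₗ[R] M))) ×
      ↥(LinearMap.ker (f • (LinearMap.id : M →ₗ[R] M)))) := by
  classical
  set T := LinearMap.ker (f • (LinearMap.id : M →ₗ[R] M)) with hT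
  have htop : Fitt.ideal R (M ⧸ T) k = ⊤ :=
    FittLib.ideal_quotient_eq_top hf0 hf T (fun y hy => by simpa [T] using hy)
  have hbot1 : k = 0 ∨ Fitt.ideal R (M ⧸ T) (k - 1) = ⊥ :=
    hk.imp id (FittLib.ideal_quotient_ker_eq_bot hf0)
  haveI : Module.Projective R (M ⧸ T) := FittLib.projective_of_ideal htop hbot1
  obtain ⟨n', x', hx'⟩ := FittLib.exists_generators R (M ⧸ T)
  have hrank : (∀ j, j < k → Fitt.ideal R (M ⧸ T) j = ⊥) ∧
      (∀ j, k ≤ j → Fitt.ideal R (M ⧸ T) j = ⊤) := by
    refine ⟨fun j hj => ?_, fun j hj => ?_⟩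
    · rcases hbot1 with rfl | hb
      · omega
      rw [FittLib.ideal_eq_minors_fin x' hx'] at hb ⊢
      exact le_bot_iff.mp (hb ▸ FittLib.minors_antitone x' (by omega))
    · rw [FittLib.ideal_eq_minors_fin x' hx'] at htop ⊢
      exact top_le_iff.mp (htop ▸ FittLib.minors_antitone x' (by omega))
  obtain ⟨sec, hsec⟩ := Module.projective_lifting_property T.mkQ LinearMap.id T.mkQ_surjective
  have hsec' : ∀ q, T.mkQ (sec q) = q := fun q => LinearMap.congr_fun hsec q
  have hpr : ∀ y, y - sec (T.mkQ y) ∈ T := fun y => by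
    rw [← Submodule.Quotient.mk_eq_zero T, ← T.mkQ_apply, map_sub, hsec', sub_self]
  let pr : M →ₗ[R] T := (LinearMap.id - sec ∘ₗ T.mkQ).codRestrict T hpr
  let e : M ≃ₗ[R] (M ⧸ T) × T := LinearEquiv.ofLinear (T.mkQ.prod pr)
    (sec.coprod T.subtype)
    (LinearMap.ext fun p => by
      have hm : T.mkQ (p.2 : M) = 0 := (Submodule.Quotient.mk_eq_zero T).mpr p.2.2
      have hm' : T.mkQ (sec p.1) = p.1 := hsec' _
      refine Prod.ext ?_ (Subtype.ext ?_)
      · change T.mkQ (sec p.1 + (p.2 : M)) = p.1
        rw [map_add, hm, hm', add_zero]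
      · change (sec p.1 + (p.2 : M)) - sec (T.mkQ (sec p.1 + (p.2 : M))) = (p.2 : M)
        rw [map_add, hm, hm', add_zero, add_sub_cancel_left])
    (LinearMap.ext fun y => by simp [pr])
  haveI : Module.Finite R T := Module.Finite.of_surjective pr fun t => ⟨(t : M), by
    apply Subtype.ext
    simp [pr, (Submodule.Quotient.mk_eq_zero T).mpr t.2]⟩
  have hfit : Fitt.ideal R T 0 = Ideal.span {f} := by
    rw [← hf, FittLib.ideal_congr e k, FittLib.ideal_prod, Finset.sum_eq_single k]
    · rw [hrank.2 k le_rfl, Nat.sub_self, Ideal.top_mul]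
    · intro j hj hne
      rw [Finset.mem_range] at hj
      rw [hrank.1 j (by omega), Ideal.bot_mul]
      rfl
    · simp
  obtain ⟨n, x, hx⟩ := FittLib.exists_generators R T
  haveI hK := FittLib.projective_rel hx hf0 hfit
  have hsurj : Function.Surjective (Fintype.linearCombination R x) := by
    rw [← LinearMap.range_eq_top, Fintype.range_linearCombination, hx]
  have pd : ∀ (P N : Type u) [AddCommGroup P] [Module R P] [AddCommGroup N] [Module R N]
      [Module.Projective R P] (i : FittLib.rel R x →ₗ[R] P) (q : P →ₗ[R] N),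
      Function.Injective i → Function.Surjective q → LinearMap.range i = LinearMap.ker q →
      HasProjectiveDimensionLT (ModuleCat.of R N) 2 := by
    intro P N _ _ _ _ _ i q hi hq hiq
    have hcomp : ModuleCat.ofHom i ≫ ModuleCat.ofHom q = 0 := by
      ext u
      simpa using (hiq ▸ LinearMap.mem_range_self i u : i u ∈ LinearMap.ker q)
    have hS : (ShortComplex.mk _ _ hcomp).ShortExact := by
      refine { exact := ?_, mono_f := ?_, epi_g := ?_ }
      · exact (ShortComplex.moduleCat_exact_iff_range_eq_ker _).mpr hiq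
      · exact (ModuleCat.mono_iff_injective _).mpr hi
      · exact (ModuleCat.epi_iff_surjective _).mpr hq
    have h1 : Projective (ModuleCat.of R (FittLib.rel R x)) :=
      (IsProjective.iff_projective (R := R) _).mp hK
    have h2 : Projective (ModuleCat.of R P) :=
      (IsProjective.iff_projective (R := R) _).mp inferInstance
    exact hS.hasProjectiveDimensionLT_X₃ 1
      (projective_iff_hasProjectiveDimensionLT_one.mp h1)
      (by
        haveI := projective_iff_hasProjectiveDimensionLT_one.mp h2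
        exact hasProjectiveDimensionLT_of_ge (ModuleCat.of R P) 1 2 (by omega))
  refine ⟨?_, fun y => ⟨fun ⟨j, hj⟩ => ?_, fun hy => ⟨1, by rwa [pow_one]⟩⟩, ?_,
    (Groth.Agent.S6895.result (M ⧸ T) k).mpr hrank, ⟨e⟩⟩
  · refine pd ((M ⧸ T) × (Fin n → R)) M (LinearMap.inr R _ _ ∘ₗ (FittLib.rel R x).subtype)
      (e.symm.toLinearMap ∘ₗ (LinearMap.prodMap LinearMap.id (Fintype.linearCombination R x)))
      (LinearMap.inr_injective.comp Subtype.val_injective)
      (e.symm.surjective.comp (Function.surjective_id.prodMap hsurj)) ?_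
    ext ⟨q, v⟩
    rw [LinearMap.mem_range, LinearMap.mem_ker, LinearMap.comp_apply, LinearEquiv.coe_toLinearMap,
      LinearEquiv.map_eq_zero_iff]
    constructor
    · rintro ⟨u, hu⟩
      simp only [LinearMap.comp_apply, Submodule.subtype_apply, LinearMap.inr_apply,
        Prod.ext_iff] at hu
      obtain ⟨rfl, rfl⟩ := hu
      exact Prod.ext rfl u.2
    · intro h
      obtain ⟨h1, h2⟩ := Prod.ext_iff.mp h
      exact ⟨⟨v, h2⟩, Prod.ext h1.symm rfl⟩
  · have h0 : f ^ j • (T.mkQ y) = 0 := by rw [← map_smul, hj, map_zero]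
    obtain ⟨s, hs⟩ := Module.projective_def.mp (inferInstance : Module.Projective R (M ⧸ T))
    have hs0 : s (T.mkQ y) = 0 := by
      ext a
      have := DFunLike.congr_fun (congrArg s h0) a
      rw [map_smul, map_zero] at this
      exact (mem_nonZeroDivisors_iff.mp (pow_mem hf0 j)).1 _ (by simpa using this)
    have h1 : T.mkQ y = 0 := by
      rw [← hs (T.mkQ y), hs0, map_zero]
    rw [Submodule.mkQ_apply, Submodule.Quotient.mk_eq_zero] at h1
    simpa [T] using h1
  · exact pd (Fin n → R) T (FittLib.rel R x).subtype (Fintype.linearCombination R x)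
      Subtype.val_injective hsurj (Submodule.range_subtype _)

end Groth.Agent.S6897
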