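import Groth.Statements.S6898
import Mathlib.RingTheory.Flat.Basic
import Mathlib.RingTheory.LocalRing.ResidueField.Basic
import Mathlib.LinearAlgebra.TensorProduct.RightExactness
import Mathlib.RingTheory.Nakayama
import Mathlib.LinearAlgebra.Basis.VectorSpace
import Mathlib.LinearAlgebra.FreeModule.Basic
import Groth.Agent.S6303
import Mathlib.Algebra.Module.Torsion.Basic
import Mathlib.LinearAlgebra.TensorProduct.Tower

set_option autoImplicit false
universe u
open TensorProduct
open CAlg Groth.Agent
open scoped TensorProduct

namespace Groth.Agent.S6898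

/-- Let `(A, 𝔪)` be a local ring and `u : M → N` a linear map between flat `A`-modules whose reduction
`M/𝔪M → N/𝔪N` is injective. If `I` is the content ideal of some `x ∈ M` (the least ideal `I` with `x
∈ IM`), then `I` is also the least ideal `J` with `u(x) ∈ J·N`. -/
theorem result {A : Type u} [CommRing A] [IsLocalRing A] {M N : Type u}
    [AddCommGroup M] [Module A M] [Module.Flat A M] [AddCommGroup N] [Module A N] [Module.Flat A N] (u : M →ₗ[A] N)
    (hu : Function.Injective (u.baseChange (IsLocalRing.ResidueField A))) (x : M) (I : Ideal A)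
    (hx : IsLeast {J : Ideal A | x ∈ J • (⊤ : Submodule A M)} I) :
    IsLeast {J : Ideal A | u x ∈ J • (⊤ : Submodule A N)} I := by
  obtain ⟨hxI, hIle⟩ := hx
  have hxI' : x ∈ I • (⊤ : Submodule A M) := hxI
  refine ⟨?_, ?_⟩
  · show u x ∈ I • (⊤ : Submodule A N)
    have : Submodule.map u (I • ⊤) ≤ I • (⊤ : Submodule A N) := by
      rw [Submodule.map_smul'']
      exact Submodule.smul_mono le_rfl le_top
    exact this ⟨x, hxI', rfl⟩
  intro J hJ
  have hJ' : u x ∈ J • (⊤ : Submodule A N) := hJ
  -- the content ideal is finitely generated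
  have hfg : I.FG := by
    have : ∃ I' : Ideal A, I'.FG ∧ I' ≤ I ∧ x ∈ I' • (⊤ : Submodule A M) := by
      clear hIle hxI hJ hJ'
      refine Submodule.smul_induction_on hxI' (fun r hr m _ => ?_) (fun y z hy hz => ?_)
      · exact ⟨Ideal.span {r}, Submodule.fg_span_singleton r, (Ideal.span_singleton_le_iff_mem _).mpr hr,
          Submodule.smul_mem_smul (Ideal.mem_span_singleton_self r) trivial⟩
      · obtain ⟨I1, f1, l1, m1⟩ := hy
        obtain ⟨I2, f2, l2, m2⟩ := hz
        exact ⟨I1 ⊔ I2, Submodule.FG.sup f1 f2, sup_le l1 l2,
          add_mem (Submodule.smul_mono le_sup_left le_rfl m1) (Submodule.smul_mono le_sup_right le_rfl m2)⟩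
    obtain ⟨I', hf, hle, hm⟩ := this
    exact (le_antisymm (hIle hm) hle) ▸ hf
  have key : ∀ (J : Ideal A), u x ∈ J • (⊤ : Submodule A N) → IsLocalRing.maximalIdeal A • I ≤ J → J ≤ I → I ≤ J := by
    intro J hJ hmJ hJI
    apply hIle
    show x ∈ J • (⊤ : Submodule A M)
    -- the k-vector space Q = I/J
    let Q := I ⧸ (Submodule.comap (Submodule.subtype (I : Submodule A A)) J)
    have hQm : ∀ a ∈ IsLocalRing.maximalIdeal A, ∀ q : Q, a • q = 0 := by
      intro a ha q
      obtain ⟨q, rfl⟩ := Submodule.Quotient.mk_surjective _ q
      rw [← Submodule.Quotient.mk_smul, Submodule.Quotient.mk_eq_zero]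
      exact hmJ (Submodule.smul_mem_smul ha q.2)
    letI : Module (IsLocalRing.ResidueField A) Q :=
      Module.IsTorsionBySet.module (I := IsLocalRing.maximalIdeal A) (fun q a => hQm a.1 a.2 q)
    haveI : IsScalarTower A (IsLocalRing.ResidueField A) Q := ⟨fun a r q => by
      obtain ⟨r, rfl⟩ := Ideal.Quotient.mk_surjective r
      exact mul_smul a r q⟩
    have hinj : Function.Injective (u.lTensor Q) := by
      let eM := TensorProduct.AlgebraTensorModule.cancelBaseChange A (IsLocalRing.ResidueField A) (IsLocalRing.ResidueField A) Q M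
      let eN := TensorProduct.AlgebraTensorModule.cancelBaseChange A (IsLocalRing.ResidueField A) (IsLocalRing.ResidueField A) Q N
      have h1 := Module.Flat.lTensor_preserves_injective_linearMap (R := IsLocalRing.ResidueField A) (M := Q)
        (u.baseChange (IsLocalRing.ResidueField A)) hu
      have : ∀ z, u.lTensor Q (eM z) = eN ((u.baseChange (IsLocalRing.ResidueField A)).lTensor Q z) := by
        intro z
        induction z using TensorProduct.induction_on with
        | zero => simp
        | tmul q w =>
          induction w using TensorProduct.induction_on with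
          | zero => simp
          | tmul r m => simp [eM, eN]
          | add a b ha hb => simp only [TensorProduct.tmul_add, map_add, ha, hb]
        | add a b ha hb => simp only [map_add, ha, hb]
      intro a b hab
      obtain ⟨a, rfl⟩ := eM.surjective a
      obtain ⟨b, rfl⟩ := eM.surjective b
      rw [this, this] at hab
      exact congrArg eM (h1 (eN.injective hab))
    -- lift x to I ⊗ M
    have hlift : ∀ (P : Type u) [AddCommGroup P] [Module A P] (K : Ideal A) (y : P), y ∈ K • (⊤ : Submodule A P) →
        ∃ t : (K : Submodule A A) ⊗[A] P, TensorProduct.lid A P ((Submodule.subtype (K : Submodule A A)).rTensor P t) = y := by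
      intro P _ _ K y hy
      refine Submodule.smul_induction_on hy (fun r hr m _ => ⟨⟨r, hr⟩ ⊗ₜ m, by simp⟩) (fun y z hy hz => ?_)
      obtain ⟨a, ha⟩ := hy; obtain ⟨b, hb⟩ := hz
      exact ⟨a + b, by simp only [map_add, ha, hb]⟩
    obtain ⟨t, ht⟩ := hlift M I x hxI'
    obtain ⟨s, hs⟩ := hlift N J (u x) hJ
    let incl : (J : Submodule A A) →ₗ[A] (I : Submodule A A) := Submodule.inclusion hJI
    let π : (I : Submodule A A) →ₗ[A] Q := Submodule.mkQ _
    have hιN : Function.Injective ((TensorProduct.lid A N).toLinearMap ∘ₗ (Submodule.subtype (I : Submodule A A)).rTensor N) :=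
      (TensorProduct.lid A N).injective.comp
        (Module.Flat.rTensor_preserves_injective_linearMap _ (Submodule.injective_subtype _))
    have hnat : ∀ z, TensorProduct.lid A N ((Submodule.subtype (I : Submodule A A)).rTensor N (u.lTensor _ z)) =
        u (TensorProduct.lid A M ((Submodule.subtype (I : Submodule A A)).rTensor M z)) := by
      intro z
      induction z using TensorProduct.induction_on with
      | zero => simp
      | tmul r m => simp
      | add a b ha hb => simp only [map_add, ha, hb]
    have hs' : TensorProduct.lid A N ((Submodule.subtype (I : Submodule A A)).rTensor N (incl.rTensor N s)) = u x := by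
      rw [← hs, ← LinearMap.rTensor_comp_apply]; rfl
    have hus : u.lTensor _ t = incl.rTensor N s := hιN (by
      show TensorProduct.lid A N _ = TensorProduct.lid A N _
      rw [hnat, ht, hs'])
    have hπ0 : π.rTensor M t = 0 := hinj (by
      rw [map_zero, ← LinearMap.comp_apply, LinearMap.lTensor_comp_rTensor, ← LinearMap.rTensor_comp_lTensor,
        LinearMap.comp_apply, hus, ← LinearMap.rTensor_comp_apply]
      have : π ∘ₗ incl = 0 := LinearMap.ext fun j => (Submodule.Quotient.mk_eq_zero _).mpr j.2
      rw [this, LinearMap.rTensor_zero, LinearMap.zero_apply])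
    have hexa : Function.Exact incl π := by
      intro i
      refine ⟨fun hi => ?_, ?_⟩
      · have : i ∈ Submodule.comap (Submodule.subtype (I : Submodule A A)) J := (Submodule.Quotient.mk_eq_zero _).mp hi
        exact ⟨⟨i.1, this⟩, rfl⟩
      rintro ⟨j, rfl⟩
      exact (Submodule.Quotient.mk_eq_zero _).mpr j.2
    obtain ⟨w, hw⟩ := ((rTensor_exact M hexa (Submodule.mkQ_surjective _)) t).mp hπ0
    rw [← ht, ← hw, ← LinearMap.rTensor_comp_apply]
    clear hw
    induction w using TensorProduct.induction_on with
    | zero => simp
    | tmul j m =>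
      simp only [LinearMap.rTensor_tmul, TensorProduct.lid_tmul]
      exact Submodule.smul_mem_smul j.2 trivial
    | add a b ha hb => simp only [map_add]; exact add_mem ha hb
  have hflat : u x ∈ (J ⊓ I) • (⊤ : Submodule A N) := by
    have hI : u x ∈ I • (⊤ : Submodule A N) := by
      have : Submodule.map u (I • ⊤) ≤ I • (⊤ : Submodule A N) := by
        rw [Submodule.map_smul'']
        exact Submodule.smul_mono le_rfl le_top
      exact this ⟨x, hxI', rfl⟩
    rw [← S6303.result J I N]
    exact ⟨hJ', hI⟩
  have h2 : I ≤ (J ⊓ I) ⊔ IsLocalRing.maximalIdeal A • I := by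
    apply key
    · exact Submodule.smul_mono le_sup_left le_rfl hflat
    · exact le_sup_right
    · exact sup_le inf_le_right Submodule.smul_le_right
  exact (Submodule.le_of_le_smul_of_le_jacobson_bot hfg (IsLocalRing.maximalIdeal_le_jacobson ⊥) h2).trans inf_le_left

end Groth.Agent.S6898
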