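import Groth.Statements.S6899
import Groth.Agent.EtMilLib.Basic

set_option autoImplicit false
universe u
open TensorProduct
open EtAlg Groth.Agent
open scoped TensorProduct

namespace Groth.Agent.S6899

/-- Let `B' = B ×_A A'` be a fibre square of rings with `A' → A` surjective, and let `(N₁, M₁', φ₁) →
(N₂, M₂', φ₂)` be a morphism of glueing data (a `B`-linear `u : N₁ → N₂` and an `A'`-linear `v : M₁'
→ M₂'` compatible with the `φ_i`) with `u` and `v` surjective. Then the induced map of glued modules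
`N₁ ×_{φ₁} M₁' → N₂ ×_{φ₂} M₂'` is surjective. -/
theorem result (B' B A' A : Type u) [CommRing B'] [CommRing B] [CommRing A'] [CommRing A]
    [Algebra B' B] [Algebra B' A'] [Algebra B A] [Algebra A' A] [Algebra B' A] [IsScalarTower B' B A] [IsScalarTower B' A' A]
    (hsq : EtMil.IsFibreSquare B' B A' A)
    {N₁ N₂ M₁' M₂' : Type u} [AddCommGroup N₁] [Module B N₁] [Module B' N₁] [IsScalarTower B' B N₁]
    [AddCommGroup N₂] [Module B N₂] [Module B' N₂] [IsScalarTower B' B N₂]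
    [AddCommGroup M₁'] [Module A' M₁'] [Module B' M₁'] [IsScalarTower B' A' M₁']
    [AddCommGroup M₂'] [Module A' M₂'] [Module B' M₂'] [IsScalarTower B' A' M₂']
    (φ₁ : A ⊗[B] N₁ ≃ₗ[A] A ⊗[A'] M₁') (φ₂ : A ⊗[B] N₂ ≃ₗ[A] A ⊗[A'] M₂') (u : N₁ →ₗ[B] N₂) (v : M₁' →ₗ[A'] M₂')
    (hc : (v.baseChange A).comp φ₁.toLinearMap = φ₂.toLinearMap.comp (u.baseChange A))
    (hu : Function.Surjective u) (hv : Function.Surjective v) :
    ∀ y : N₂ × M₂', y ∈ EtMil.glue B' φ₂ → ∃ x : N₁ × M₁', x ∈ EtMil.glue B' φ₁ ∧ u x.1 = y.1 ∧ v x.2 = y.2 := by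
  rintro ⟨n₂, m₂⟩ hy
  obtain ⟨n₁, rfl⟩ := hu n₂
  obtain ⟨m₁, rfl⟩ := hv m₂
  have h0 : v.baseChange A (φ₁ ((1 : A) ⊗ₜ[B] n₁) - (1 : A) ⊗ₜ[A'] m₁) = 0 := by
    rw [map_sub, LinearMap.baseChange_tmul, sub_eq_zero, ← hy]
    exact LinearMap.congr_fun hc ((1 : A) ⊗ₜ[B] n₁)
  obtain ⟨w, hw⟩ := (lTensor_exact A (LinearMap.exact_subtype_ker_map v) hv _).1 h0
  obtain ⟨k, rfl⟩ : ∃ k : LinearMap.ker v, (1 : A) ⊗ₜ[A'] k = w := by
    clear hw
    induction w using TensorProduct.induction_on with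
    | zero => exact ⟨0, TensorProduct.tmul_zero _ _⟩
    | tmul a k =>
      obtain ⟨a', rfl⟩ := hsq.1 a
      exact ⟨a' • k, by rw [← TensorProduct.smul_tmul, Algebra.smul_def, mul_one]⟩
    | add x y hx hy =>
      obtain ⟨a, rfl⟩ := hx; obtain ⟨b, rfl⟩ := hy
      exact ⟨a + b, TensorProduct.tmul_add _ _ _⟩
  refine ⟨(n₁, m₁ + k), ?_, rfl, by rw [map_add, k.2, add_zero]⟩
  show φ₁ ((1 : A) ⊗ₜ[B] n₁) = (1 : A) ⊗ₜ[A'] (m₁ + (k : M₁'))
  rw [TensorProduct.tmul_add, show ((1 : A) ⊗ₜ[A'] (k : M₁')) = _ from hw, add_sub_cancel]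

end Groth.Agent.S6899
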