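import Groth.Statements.S6909
import Mathlib.RingTheory.Filtration

set_option autoImplicit false
universe u
open CAlg

namespace Groth.Agent.S6909

/-- Let `A` be a Noetherian ring, `I ⊆ A` an ideal inside the Jacobson radical, and `L → M → N` two
complexes `(f, g)` and `(f', g')` of finite `A`-modules with `f' ≡ f` modulo `I^{c+1}M` and `g' ≡ g`
modulo `I^{c+1}N`. If `c` works in the Artin–Rees lemma for `f` and for `g` (that is `f(L) ∩ IⁿM ⊆
f(I^{n-c}L)` for `n ≥ c`, and likewise for `g`) and `(f, g)` is exact, then `c` works for `g'` and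
`(f', g')` is exact. -/
theorem result {A : Type u} [CommRing A] [IsNoetherianRing A] (I : Ideal A)
    (hI : I ≤ Ideal.jacobson (⊥ : Ideal A)) {L M N : Type u} [AddCommGroup L] [Module A L] [Module.Finite A L]
    [AddCommGroup M] [Module A M] [Module.Finite A M] [AddCommGroup N] [Module A N] [Module.Finite A N]
    (f f' : L →ₗ[A] M) (g g' : M →ₗ[A] N) (c : ℕ) (hgf : g.comp f = 0) (hgf' : g'.comp f' = 0)
    (hf : (∀ n : ℕ, c ≤ n → LinearMap.range f ⊓ (I ^ n • (⊤ : Submodule A M)) ≤ Submodule.map f (I ^ (n - c) • (⊤ : Submodule A L))))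
    (hg : (∀ n : ℕ, c ≤ n → LinearMap.range g ⊓ (I ^ n • (⊤ : Submodule A N)) ≤ Submodule.map g (I ^ (n - c) • (⊤ : Submodule A M))))
    (hex : Function.Exact f g)
    (hff' : ∀ x : L, f x - f' x ∈ I ^ (c + 1) • (⊤ : Submodule A M))
    (hgg' : ∀ y : M, g y - g' y ∈ I ^ (c + 1) • (⊤ : Submodule A N)) :
    (∀ n : ℕ, c ≤ n → LinearMap.range g' ⊓ (I ^ n • (⊤ : Submodule A N)) ≤ Submodule.map g' (I ^ (n - c) • (⊤ : Submodule A M))) ∧
    Function.Exact f' g' := by
  have hd : ∀ (p : ℕ) {x : L}, x ∈ (I ^ p • ⊤ : Submodule A L) → f x - f' x ∈ (I ^ (c + 1 + p) • ⊤ : Submodule A M) := by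
    intro p x hx
    refine Submodule.smul_induction_on hx (fun r hr y _ => ?_) (fun y z hy hz => ?_)
    · rw [map_smul, map_smul, ← smul_sub, add_comm, pow_add, Submodule.mul_smul]
      exact Submodule.smul_mem_smul hr (hff' y)
    · rw [map_add, map_add, add_sub_add_comm]
      exact add_mem hy hz
  have hd' : ∀ (p : ℕ) {y : M}, y ∈ (I ^ p • ⊤ : Submodule A M) → g y - g' y ∈ (I ^ (c + 1 + p) • ⊤ : Submodule A N) := by
    intro p x hx
    refine Submodule.smul_induction_on hx (fun r hr y _ => ?_) (fun y z hy hz => ?_)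
    · rw [map_smul, map_smul, ← smul_sub, add_comm, pow_add, Submodule.mul_smul]
      exact Submodule.smul_mem_smul hr (hgg' y)
    · rw [map_add, map_add, add_sub_add_comm]
      exact add_mem hy hz
  have step : ∀ (j : ℕ) (m : M), m ∈ (I ^ j • ⊤ : Submodule A M) → g' m ∈ (I ^ (c + 1 + j) • ⊤ : Submodule A N) →
      ∃ (x : L) (m' : M), m' ∈ (I ^ (j + 1) • ⊤ : Submodule A M) ∧ m = f' x + m' := by
    intro j m hm hgm
    have hg1 : g m ∈ (I ^ (c + 1 + j) • ⊤ : Submodule A N) := by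
      have := add_mem (hd' j hm) hgm
      rwa [sub_add_cancel] at this
    obtain ⟨m₂, hm₂, hm₂e⟩ := hg (c + 1 + j) (by omega) ⟨⟨m, rfl⟩, hg1⟩
    have hm₂' : m₂ ∈ (I ^ (j + 1) • ⊤ : Submodule A M) :=
      Submodule.smul_mono_left (Ideal.pow_le_pow_right (by omega)) hm₂
    obtain ⟨x₀, hx₀⟩ := (hex (m - m₂)).1 (by rw [map_sub, hm₂e, sub_self])
    have hfx : f x₀ ∈ (I ^ j • ⊤ : Submodule A M) := by
      rw [hx₀]
      exact sub_mem hm (Submodule.smul_mono_left (Ideal.pow_le_pow_right (by omega)) hm₂')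
    obtain ⟨x, hx, hxe⟩ : ∃ x ∈ (I ^ (j - c) • ⊤ : Submodule A L), f x = f x₀ := by
      rcases le_or_gt c j with hcj | hcj
      · exact hf j hcj ⟨⟨x₀, rfl⟩, hfx⟩
      · exact ⟨x₀, by rw [show j - c = 0 by omega, pow_zero, Ideal.one_eq_top, Submodule.top_smul]; trivial, rfl⟩
    refine ⟨x, m₂ + (f x - f' x),
      add_mem hm₂' (Submodule.smul_mono_left (Ideal.pow_le_pow_right (by omega)) (hd _ hx)), ?_⟩
    rw [hxe, hx₀]
    abel
  have hgf'' : ∀ x, g' (f' x) = 0 := fun x => LinearMap.congr_fun hgf' x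
  have iter : ∀ (j : ℕ) (m : M), (∀ i < j, g' m ∈ (I ^ (c + 1 + i) • ⊤ : Submodule A N)) →
      ∃ (x : L) (m' : M), m' ∈ (I ^ j • ⊤ : Submodule A M) ∧ m = f' x + m' := by
    intro j
    induction j with
    | zero =>
      intro m _
      exact ⟨0, m, by rw [pow_zero, Ideal.one_eq_top, Submodule.top_smul]; trivial, by simp⟩
    | succ j ih =>
      intro m hm
      obtain ⟨x, m₁, hm₁, rfl⟩ := ih m fun i hi => hm i (by omega)
      obtain ⟨y, m₂, hm₂, rfl⟩ := step j m₁ hm₁ (by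
        have := hm j (by omega)
        rwa [map_add, hgf'', zero_add] at this)
      exact ⟨x + y, m₂, hm₂, by rw [map_add, add_assoc]⟩
  constructor
  · rintro n hn z ⟨⟨m, rfl⟩, hz⟩
    obtain ⟨x, m', hm', rfl⟩ := iter (n - c) m fun i hi =>
      Submodule.smul_mono_left (Ideal.pow_le_pow_right (by omega)) hz
    exact ⟨m', hm', by rw [map_add, hgf'', zero_add]⟩
  · intro m
    refine ⟨fun hm => ?_, ?_⟩
    · let P := LinearMap.range f'
      have h0 : P.mkQ m ∈ (⨅ j : ℕ, I ^ j • ⊤ : Submodule A (M ⧸ P)) := by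
        rw [Submodule.mem_iInf]
        intro j
        obtain ⟨x, m', hm', rfl⟩ := iter j m fun i _ => by rw [hm]; exact zero_mem _
        have hx : P.mkQ (f' x) = 0 := (Submodule.Quotient.mk_eq_zero P).2 ⟨x, rfl⟩
        rw [map_add, hx, zero_add]
        have := Submodule.mem_map_of_mem (f := P.mkQ) hm'
        rwa [Submodule.map_smul'', Submodule.map_top, Submodule.range_mkQ] at this
      rw [Ideal.iInf_pow_smul_eq_bot_of_le_jacobson I hI, Submodule.mem_bot] at h0
      exact (Submodule.Quotient.mk_eq_zero P).1 h0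
    · rintro ⟨x, rfl⟩
      exact hgf'' x

end Groth.Agent.S6909
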