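import Groth.Statements.S6910
import Groth.Agent.S6909

set_option autoImplicit false
universe u
open CAlg

namespace Groth.Agent.S6910

/-- Let `A` be a Noetherian ring, `I ⊆ A` an ideal inside the Jacobson radical, and `L → M → N` two
complexes `(f, g)` and `(f', g')` of finite `A`-modules with `f' ≡ f` modulo `I^{c+1}M` and `g' ≡ g`
modulo `I^{c+1}N`, such that the Artin–Rees bound holds with constant `c` for both `f` and `g`, and
`(f, g)` is exact. Then for every `n` the submodules `I^{n+1}N + g(M) ∩ IⁿN` and `I^{n+1}N + g'(M) ∩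
IⁿN` of `N` are equal; consequently the associated graded modules of `Coker g` and `Coker g'` with
respect to `I` coincide degreewise as subquotients of `N`. -/
theorem result {A : Type u} [CommRing A] [IsNoetherianRing A] (I : Ideal A)
    (hI : I ≤ Ideal.jacobson (⊥ : Ideal A)) {L M N : Type u} [AddCommGroup L] [Module A L] [Module.Finite A L]
    [AddCommGroup M] [Module A M] [Module.Finite A M] [AddCommGroup N] [Module A N] [Module.Finite A N]
    (f f' : L →ₗ[A] M) (g g' : M →ₗ[A] N) (c : ℕ) (hgf : g.comp f = 0) (hgf' : g'.comp f' = 0)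
    (hf : (∀ n : ℕ, c ≤ n → LinearMap.range f ⊓ (I ^ n • (⊤ : Submodule A M)) ≤ Submodule.map f (I ^ (n - c) • (⊤ : Submodule A L))))
    (hg : (∀ n : ℕ, c ≤ n → LinearMap.range g ⊓ (I ^ n • (⊤ : Submodule A N)) ≤ Submodule.map g (I ^ (n - c) • (⊤ : Submodule A M))))
    (hex : Function.Exact f g)
    (hff' : ∀ x : L, f x - f' x ∈ I ^ (c + 1) • (⊤ : Submodule A M))
    (hgg' : ∀ y : M, g y - g' y ∈ I ^ (c + 1) • (⊤ : Submodule A N)) (n : ℕ) :
    I ^ (n + 1) • (⊤ : Submodule A N) ⊔ (LinearMap.range g ⊓ I ^ n • (⊤ : Submodule A N)) =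
      I ^ (n + 1) • (⊤ : Submodule A N) ⊔ (LinearMap.range g' ⊓ I ^ n • (⊤ : Submodule A N)) := by
  have hg' := (Groth.Agent.S6909.result I hI f f' g g' c hgf hgf' hf hg hex hff' hgg').1
  have hd' : ∀ (p : ℕ) {y : M}, y ∈ (I ^ p • ⊤ : Submodule A M) → g y - g' y ∈ (I ^ (c + 1 + p) • ⊤ : Submodule A N) := by
    intro p x hx
    refine Submodule.smul_induction_on hx (fun r hr y _ => ?_) (fun y z hy hz => ?_)
    · rw [map_smul, map_smul, ← smul_sub, add_comm, pow_add, Submodule.mul_smul]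
      exact Submodule.smul_mem_smul hr (hgg' y)
    · rw [map_add, map_add, add_sub_add_comm]
      exact add_mem hy hz
  have main : ∀ u v : M →ₗ[A] N,
      (∀ m : ℕ, c ≤ m → LinearMap.range u ⊓ (I ^ m • (⊤ : Submodule A N)) ≤ Submodule.map u (I ^ (m - c) • (⊤ : Submodule A M))) →
      (∀ (p : ℕ) {y : M}, y ∈ (I ^ p • ⊤ : Submodule A M) → v y - u y ∈ (I ^ (c + 1 + p) • ⊤ : Submodule A N)) →
      LinearMap.range u ⊓ I ^ n • (⊤ : Submodule A N) ≤
        I ^ (n + 1) • (⊤ : Submodule A N) ⊔ (LinearMap.range v ⊓ I ^ n • (⊤ : Submodule A N)) := by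
    rintro u v hu hd _ ⟨⟨m₀, rfl⟩, hm⟩
    obtain ⟨m, hmI, hme⟩ : ∃ m ∈ (I ^ (n - c) • ⊤ : Submodule A M), u m = u m₀ := by
      rcases le_or_gt c n with h | h
      · exact hu n h ⟨⟨m₀, rfl⟩, hm⟩
      · exact ⟨m₀, by rw [show n - c = 0 by omega, pow_zero, Ideal.one_eq_top, Submodule.top_smul]; trivial, rfl⟩
    have hsmall : v m - u m ∈ (I ^ (n + 1) • ⊤ : Submodule A N) :=
      Submodule.smul_mono_left (Ideal.pow_le_pow_right (by omega)) (hd _ hmI)
    refine Submodule.mem_sup.2 ⟨-(v m - u m), neg_mem hsmall, v m, ⟨⟨m, rfl⟩, ?_⟩, by rw [← hme]; abel⟩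
    have := add_mem (Submodule.smul_mono_left (Ideal.pow_le_pow_right (Nat.le_succ n)) hsmall) (hme.symm ▸ hm : u m ∈ (I ^ n • ⊤ : Submodule A N))
    rwa [sub_add_cancel] at this
  refine le_antisymm (sup_le le_sup_left (main g g' hg fun p {y} hy => ?_)) (sup_le le_sup_left (main g' g hg' hd'))
  rw [← neg_sub]
  exact neg_mem (hd' p hy)

end Groth.Agent.S6910
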