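import Groth.Statements.S6911
import Mathlib.RingTheory.Flat.Basic
import Mathlib.RingTheory.Ideal.Maps
import Mathlib.RingTheory.TensorProduct.Basic

set_option autoImplicit false
universe u
open TensorProduct
open CAlg
open scoped TensorProduct

namespace Groth.Agent.S6911

/-- Let `A → B` be a flat map of Noetherian rings, `I ⊆ A` an ideal and `f : M → N` a map of finite
`A`-modules such that `c` works for `f` in the Artin–Rees lemma (`f(M) ∩ IⁿN ⊆ f(I^{n-c}M)` for `n ≥
c`). Then `c` works for `f ⊗ 1 : M ⊗_A B → N ⊗_A B` and the ideal `IB`. -/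
theorem result {A B : Type u} [CommRing A] [IsNoetherianRing A] [CommRing B]
    [IsNoetherianRing B] [Algebra A B] [Module.Flat A B] (I : Ideal A) {M N : Type u} [AddCommGroup M] [Module A M]
    [Module.Finite A M] [AddCommGroup N] [Module A N] [Module.Finite A N] (f : M →ₗ[A] N) (c : ℕ)
    (hf : (∀ n : ℕ, c ≤ n → LinearMap.range f ⊓ (I ^ n • (⊤ : Submodule A N)) ≤ Submodule.map f (I ^ (n - c) • (⊤ : Submodule A M)))) :
    ∀ n : ℕ, c ≤ n →
      LinearMap.range (f.baseChange B) ⊓ ((I.map (algebraMap A B)) ^ n • (⊤ : Submodule B (B ⊗[A] N))) ≤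
        Submodule.map (f.baseChange B) ((I.map (algebraMap A B)) ^ (n - c) • (⊤ : Submodule B (B ⊗[A] M))) := by
  intro n hn
  rintro x ⟨⟨y, rfl⟩, hy⟩
  let Q : Submodule A N := I ^ n • ⊤
  let h : M →ₗ[A] N ⧸ Q := Q.mkQ ∘ₗ f
  have hkill : ∀ z ∈ (I.map (algebraMap A B)) ^ n • (⊤ : Submodule B (B ⊗[A] N)), Q.mkQ.baseChange B z = 0 := by
    intro z hz
    have hle : (I.map (algebraMap A B)) ^ n • (⊤ : Submodule B (B ⊗[A] N)) ≤ LinearMap.ker (Q.mkQ.baseChange B) := by
      rw [← Ideal.map_pow, Ideal.map, Submodule.smul_le]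
      intro r hr w _
      induction hr using Submodule.span_induction with
      | mem r hr =>
        obtain ⟨a, ha, rfl⟩ := hr
        rw [LinearMap.mem_ker]
        induction w with
        | zero => rw [smul_zero, map_zero]
        | add u v hu hv => rw [smul_add, map_add, hu trivial, hv trivial, add_zero]
        | tmul b z =>
          rw [algebraMap_smul, ← TensorProduct.tmul_smul, LinearMap.baseChange_tmul,
            (Submodule.Quotient.mk_eq_zero Q).mpr (Submodule.smul_mem_smul ha Submodule.mem_top) |>.symm |> fun e => (show Q.mkQ (a • z) = 0 from e.symm), TensorProduct.tmul_zero]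
      | zero => rw [zero_smul]; exact zero_mem _
      | add r r' _ _ hr hr' => rw [add_smul]; exact add_mem hr hr'
      | smul c r _ hr => rw [smul_assoc]; exact Submodule.smul_mem _ c hr
    exact hle hz
  have hex : Function.Exact ((LinearMap.ker h).subtype.lTensor B) (h.lTensor B) :=
    Module.Flat.lTensor_exact B (LinearMap.exact_subtype_ker_map h)
  have hy0 : h.lTensor B y = 0 := by
    rw [LinearMap.lTensor_comp, LinearMap.comp_apply]
    exact hkill _ hy
  obtain ⟨w, rfl⟩ := (hex y).mp hy0
  clear hy hy0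
  induction w with
  | zero => simp
  | add a b ha hb => rw [map_add, map_add]; exact add_mem ha hb
  | tmul b z =>
    obtain ⟨v, hv, hvz⟩ := hf n hn ⟨⟨(z : M), rfl⟩, (Submodule.Quotient.mk_eq_zero Q).mp z.2⟩
    refine ⟨b ⊗ₜ[A] v, ?_, ?_⟩
    · refine Submodule.smul_induction_on (p := fun u => b ⊗ₜ[A] u ∈ (I.map (algebraMap A B)) ^ (n - c) • (⊤ : Submodule B (B ⊗[A] M))) hv (fun a ha m _ => ?_) fun u u' hu hu' => by rw [TensorProduct.tmul_add]; exact add_mem hu hu'
      rw [TensorProduct.tmul_smul, ← algebraMap_smul B a, ← Ideal.map_pow]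
      exact Submodule.smul_mem_smul (Ideal.mem_map_of_mem _ ha) Submodule.mem_top
    · rw [LinearMap.baseChange_tmul, hvz]
      rfl

end Groth.Agent.S6911
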