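import Groth.Statements.S6912
import Mathlib.LinearAlgebra.Dimension.Localization
import Mathlib.LinearAlgebra.FreeModule.Finite.Matrix
import Mathlib.Algebra.Module.FinitePresentation
import Mathlib.RingTheory.Flat.Localization
import Mathlib.RingTheory.Localization.FractionRing
import Mathlib.RingTheory.TensorProduct.Finite

set_option autoImplicit false
universe u
open TensorProduct
open CAlg

namespace Groth.Agent.S6912
open TensorProduct

theorem rank_bc (R K X : Type u) [CommRing R] [IsDomain R] [Field K] [Algebra R K] [FaithfulSMul R K]
    [AddCommGroup X] [Module R X] : Module.rank K (K ⊗[R] X) = Module.rank R X :=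
  IsBaseChange.rank_eq (TensorProduct.isBaseChange R X K)

theorem rank_tensor (R K M N : Type u) [CommRing R] [IsDomain R] [Field K] [Algebra R K] [FaithfulSMul R K]
    [AddCommGroup M] [Module R M] [AddCommGroup N] [Module R N] :
    Module.rank R (M ⊗[R] N) = Module.rank R M * Module.rank R N := by
  have e := (TensorProduct.AlgebraTensorModule.distribBaseChange R K M N).rank_eq
  have e2 : Module.rank K ((K ⊗[R] M) ⊗[K] (K ⊗[R] N)) = Module.rank K (K ⊗[R] M) * Module.rank K (K ⊗[R] N) := rank_tensorProduct'
  rw [e2, rank_bc R K (M ⊗[R] N), rank_bc R K M, rank_bc R K N] at e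
  exact e

theorem rank_aux (R K X P : Type u) [CommRing R] [IsDomain R] [Field K] [Algebra R K] [FaithfulSMul R K]
    [AddCommGroup X] [Module R X] [AddCommGroup P] [Module R P] [Module K P] [IsScalarTower R K P]
    (g : X →ₗ[R] P) (h : IsBaseChange K g) : Module.rank K P = Module.rank R X := IsBaseChange.rank_eq h

theorem rank_hom (R K M N : Type u) [CommRing R] [IsDomain R] [Field K] [Algebra R K] [FaithfulSMul R K] [Module.Flat R K]
    [AddCommGroup M] [Module R M] [AddCommGroup N] [Module R N] [Module.FinitePresentation R M] :
    Module.rank R (M →ₗ[R] N) = Module.rank R M * Module.rank R N := by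
  have e1 : Module.rank K ((K ⊗[R] M) →ₗ[K] (K ⊗[R] N)) = Module.rank R (M →ₗ[R] N) :=
    rank_aux R K (M →ₗ[R] N) ((K ⊗[R] M) →ₗ[K] (K ⊗[R] N)) (LinearMap.baseChangeHom R K M N) (Module.FinitePresentation.isBaseChange_map R M N K)
  rw [← e1, Module.rank_linearMap, Cardinal.lift_id, Cardinal.lift_id, rank_bc R K M, rank_bc R K N]

/-- Let `R` be a domain and `M`, `N` two `R`-modules; rank means dimension over the fraction field after
base change. Then `rank (M ⊗_R N) = rank M · rank N`, and when `M` is finitely presented also `rank
Hom_R(M, N) = rank M · rank N`. -/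
theorem result (R : Type u) [CommRing R] [IsDomain R] (M N : Type u)
    [AddCommGroup M] [Module R M] [AddCommGroup N] [Module R N] :
    Module.rank R (M ⊗[R] N) = Module.rank R M * Module.rank R N ∧
    (Module.FinitePresentation R M → Module.rank R (M →ₗ[R] N) = Module.rank R M * Module.rank R N) := by
  haveI : Module.Flat R (FractionRing R) := IsLocalization.flat (FractionRing R) (nonZeroDivisors R)
  exact ⟨rank_tensor R (FractionRing R) M N, fun _ => rank_hom R (FractionRing R) M N⟩

end Groth.Agent.S6912
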