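import Groth.Statements.S6913
import Groth.Agent.DomRank.Basic
import Mathlib.RingTheory.Localization.Module
import Mathlib.LinearAlgebra.StdBasis
import Mathlib.Algebra.Module.LocalizedModule.Away
import Mathlib.LinearAlgebra.Dimension.StrongRankCondition
import Mathlib.LinearAlgebra.Charpoly.Basic
import Mathlib.RingTheory.Localization.Away.Basic

set_option autoImplicit false
universe u
open CAlg Groth.Agent

namespace Groth.Agent.S6913

/-- Let `R` be a domain and `M` a finite `R`-module, of (finite) rank `r`. Then: some linear map `M →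
R^r` has torsion kernel and torsion cokernel; some nonzero `f ∈ R` makes `M_f` free of rank `r` over
`R_f`; and some injective linear map `R^r → M` has torsion cokernel. -/
theorem result (R : Type u) [CommRing R] [IsDomain R] (M : Type u) [AddCommGroup M]
    [Module R M] [Module.Finite R M] :
    (∃ h : M →ₗ[R] (Fin (Module.finrank R M) → R),
      (∀ x : M, h x = 0 → ∃ c : R, c ≠ 0 ∧ c • x = 0) ∧
      (∀ y : Fin (Module.finrank R M) → R, ∃ c : R, c ≠ 0 ∧ c • y ∈ LinearMap.range h)) ∧
    (∃ f : R, f ≠ 0 ∧ Module.Free (Localization.Away f) (LocalizedModule (Submonoid.powers f) M) ∧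
      Module.finrank (Localization.Away f) (LocalizedModule (Submonoid.powers f) M) = Module.finrank R M) ∧
    (∃ g : (Fin (Module.finrank R M) → R) →ₗ[R] M, Function.Injective g ∧
      ∀ x : M, ∃ c : R, c ≠ 0 ∧ c • x ∈ LinearMap.range g) := by
  obtain ⟨g, h, c, hc, hg, hgh, hhg⟩ := DomRank.exists_frame R M
  refine ⟨⟨h, fun x hx => ⟨c, hc, by rw [← hgh, hx, map_zero]⟩, fun y => ⟨c, hc, g y, hhg y⟩⟩, ?_,
    g, hg, fun x => ⟨c, hc, h x, hgh x⟩⟩
  let S := Submonoid.powers c
  let A := Localization.Away c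
  let ιF := LocalizedModule.mkLinearMap S (Fin (Module.finrank R M) → R)
  let ιM := LocalizedModule.mkLinearMap S M
  let ψ := (IsLocalizedModule.map S ιF ιM g).extendScalarsOfIsLocalization S A
  have hψ : Function.Bijective ψ := by
    refine ⟨IsLocalizedModule.map_injective S ιF ιM g hg, fun z => ?_⟩
    obtain ⟨⟨x, s⟩, rfl⟩ := IsLocalizedModule.mk'_surjective S ιM z
    refine ⟨IsLocalizedModule.mk' ιF (h x) (⟨c, Submonoid.mem_powers c⟩ * s), ?_⟩
    change IsLocalizedModule.map S ιF ιM g _ = IsLocalizedModule.mk' ιM x s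
    rw [IsLocalizedModule.map_mk', hgh]
    exact IsLocalizedModule.mk'_cancel_left ιM x (⟨c, Submonoid.mem_powers c⟩ : S) s
  let e := LinearEquiv.ofBijective ψ hψ
  let b := ((Pi.basisFun R (Fin (Module.finrank R M))).ofIsLocalizedModule A S ιF).map e
  haveI : Nontrivial A := by
    refine ⟨0, 1, fun h01 => ?_⟩
    have h2 : algebraMap R A 1 = algebraMap R A 0 := by rw [map_one, map_zero]; exact h01.symm
    obtain ⟨⟨u, n, hn⟩, hu⟩ := (IsLocalization.eq_iff_exists S A).1 h2
    simp only [mul_one, mul_zero] at hu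
    subst hu
    exact hc (eq_zero_of_pow_eq_zero hn)
  refine ⟨c, hc, Module.Free.of_basis b, ?_⟩
  rw [Module.finrank_eq_card_basis b, Fintype.card_fin]

end Groth.Agent.S6913
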