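import Groth.Statements.S6914
import Groth.Agent.FittLib.Proj

set_option autoImplicit false
universe u
open TensorProduct
open Fitt

namespace Groth.Agent.S6914

/-- Let `M` be a finite `R`-module, `k ≥ 0`, `I = Fit_k(M)` and `a ∈ I`; let `R₁ ≅ R[I/a]` be (a copy
of) the affine blow-up algebra and `M' = (M ⊗_R R₁)/(a-power torsion)` the strict transform. Then
`Fit_k(M') = R₁`. -/
theorem result {R : Type u} [CommRing R] (M : Type u) [AddCommGroup M] [Module R M]
    [Module.Finite R M] (k : ℕ) (a : R) (ha : a ∈ Fitt.ideal R M k)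
    (R₁ : Type u) [CommRing R₁] [Algebra R R₁] (e : R₁ ≃ₐ[R] ↥(BlowUp.affineAlgebra R (Fitt.ideal R M k) a)) :
    Fitt.ideal R₁ ((R₁ ⊗[R] M) ⧸ FlatCA.powTorsion R₁ (algebraMap R R₁ a) (R₁ ⊗[R] M)) k = ⊤ := by
  classical
  set a₁ := algebraMap R R₁ a
  have hmap : Fitt.ideal R₁ (R₁ ⊗[R] M) k = Ideal.span {a₁} := by
    rw [FittLib.ideal_baseChange]
    apply le_antisymm
    · rw [Ideal.map_le_iff_le_comap]
      intro y hy
      rw [Ideal.mem_comap, Ideal.mem_span_singleton']
      have hy' : IsLocalization.mk' (Localization.Away a) y ⟨a, Submonoid.mem_powers a⟩ ∈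
          BlowUp.affineAlgebra R (Fitt.ideal R M k) a := Algebra.subset_adjoin ⟨y, hy, rfl⟩
      refine ⟨e.symm ⟨_, hy'⟩, e.injective (Subtype.ext ?_)⟩
      simp [a₁, IsLocalization.mk'_spec]
    · rw [Ideal.span_le, Set.singleton_subset_iff]
      exact Ideal.mem_map_of_mem _ ha
  have hnzd : a₁ ∈ nonZeroDivisors R₁ := by
    rw [mem_nonZeroDivisors_iff_right]
    intro y hy
    apply e.injective
    rw [map_zero]
    apply Subtype.ext
    have := congrArg (fun t => ((e t : BlowUp.affineAlgebra R (Fitt.ideal R M k) a) :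
      Localization.Away a)) hy
    simp only [map_mul, map_zero, MulMemClass.coe_mul, ZeroMemClass.coe_zero, a₁,
      AlgEquiv.commutes, Subalgebra.coe_algebraMap] at this ⊢
    exact (IsLocalization.map_units (Localization.Away a)
      (⟨a, Submonoid.mem_powers a⟩ : Submonoid.powers a)).mul_left_eq_zero.mp this
  refine FittLib.ideal_quotient_eq_top hnzd hmap _ fun y hy => ?_
  exact Submodule.mem_iSup_of_mem 1 (by simpa [Submodule.mem_torsionBy_iff] using hy)

end Groth.Agent.S6914
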