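import Groth.Statements.S6915
import Groth.Agent.FittLib.Proj
import Groth.Agent.S6914
import Groth.Agent.S6895

set_option autoImplicit false
universe u
open TensorProduct
open Fitt

namespace Groth.Agent.S6915

/-- Let `M` be a finite `R`-module, `k ≥ 0` and `I = Fit_k(M)`, and assume `M_𝔭` is free of rank `k` for
every prime `𝔭` not containing `I`. Then for every `a ∈ I` and (a copy `R₁` of) the affine blow-up
algebra `R[I/a]`, the strict transform `M' = (M ⊗_R R₁)/(a-power torsion)` is finite locally free of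
rank `k`: every prime of `R₁` has a basic open neighbourhood over which `M'` is free of rank `k`. -/
theorem result {R : Type u} [CommRing R] (M : Type u) [AddCommGroup M]
    [Module R M] [Module.Finite R M] (k : ℕ)
    (hfree : ∀ (p : Ideal R) [p.IsPrime], ¬ Fitt.ideal R M k ≤ p →
      Module.Free (Localization.AtPrime p) (LocalizedModule p.primeCompl M) ∧
        Module.finrank (Localization.AtPrime p) (LocalizedModule p.primeCompl M) = k)
    (a : R) (ha : a ∈ Fitt.ideal R M k) (R₁ : Type u) [CommRing R₁] [Algebra R R₁] (e : R₁ ≃ₐ[R] ↥(BlowUp.affineAlgebra R (Fitt.ideal R M k) a)) :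
    ∀ (p' : Ideal R₁) [p'.IsPrime], ∃ g : R₁, g ∉ p' ∧
      Module.Free (Localization.Away g) (LocalizedModule (Submonoid.powers g) ((R₁ ⊗[R] M) ⧸ FlatCA.powTorsion R₁ (algebraMap R R₁ a) (R₁ ⊗[R] M))) ∧
      Module.finrank (Localization.Away g) (LocalizedModule (Submonoid.powers g) ((R₁ ⊗[R] M) ⧸ FlatCA.powTorsion R₁ (algebraMap R R₁ a) (R₁ ⊗[R] M))) = k := by
  classical
  set a₁ := algebraMap R R₁ a
  set M₁ := R₁ ⊗[R] M
  set N := FlatCA.powTorsion R₁ a₁ M₁ with hN
  have hnzd : a₁ ∈ nonZeroDivisors R₁ := by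
    rw [mem_nonZeroDivisors_iff_right]
    intro y hy
    apply e.injective
    rw [map_zero]
    apply Subtype.ext
    have := congrArg (fun t => ((e t : BlowUp.affineAlgebra R (Fitt.ideal R M k) a) :
      Localization.Away a)) hy
    simp only [map_mul, map_zero, MulMemClass.coe_mul, ZeroMemClass.coe_zero, a₁,
      AlgEquiv.commutes, Subalgebra.coe_algebraMap] at this ⊢
    exact (IsLocalization.map_units (Localization.Away a)
      (⟨a, Submonoid.mem_powers a⟩ : Submonoid.powers a)).mul_left_eq_zero.mp this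
  have hbot : ∀ j, j < k → Fitt.ideal R₁ M₁ j = ⊥ := by
    intro j hj
    rw [FittLib.ideal_baseChange, Ideal.map_eq_bot_iff_le_ker]
    intro c hc
    by_contra hne
    have : ∀ t : ℕ, a ^ t * c ≠ 0 := by
      intro t ht
      apply hne
      rw [RingHom.mem_ker]
      refine (mem_nonZeroDivisors_iff.mp (pow_mem hnzd t)).1 _ ?_
      rw [← map_pow, ← map_mul, ht, map_zero]
    obtain ⟨p, hp, hcp, hdisj⟩ := Ideal.exists_le_prime_disjoint (Ideal.torsionOf R R c)
      (Submonoid.powers a) (by
        rw [Set.disjoint_left]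
        rintro _ hmem ⟨t, rfl⟩
        exact this t (by simpa [Ideal.mem_torsionOf_iff] using hmem))
    have hap : a ∉ p := fun h => Set.disjoint_left.mp hdisj h (Submonoid.mem_powers a)
    obtain ⟨hfr, hrk⟩ := hfree p fun hle => hap (hle ha)
    haveI : Module.Finite (Localization.AtPrime p) (LocalizedModule p.primeCompl M) :=
      Module.Finite.equiv (LocalizedModule.equivTensorProduct p.primeCompl M).symm
    let b := Module.finBasisOfFinrankEq (Localization.AtPrime p) (LocalizedModule p.primeCompl M) hrk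
    have h0 := Ideal.mem_map_of_mem (algebraMap R (Localization.AtPrime p)) hc
    rw [← FittLib.ideal_localizedModule, FittLib.ideal_eq_minors_fin b b.span_eq] at h0
    have h1 : algebraMap R (Localization.AtPrime p) c = 0 := by
      refine Ideal.mem_bot.mp (FittLib.minors_le (I := ⊥) (fun z e hz => ?_) h0)
      rw [Ideal.mem_bot]
      exact Matrix.det_eq_zero_of_column_eq_zero ⟨0, by omega⟩ fun i => by
        simp [funext (Fintype.linearIndependent_iff.mp b.linearIndependent (z ⟨0, by omega⟩)
          (FittLib.mem_rel.mp (hz ⟨0, by omega⟩)))]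
    rw [IsLocalization.map_eq_zero_iff p.primeCompl] at h1
    obtain ⟨⟨t, ht⟩, htc⟩ := h1
    exact ht (hcp (by simpa [Ideal.mem_torsionOf_iff] using htc))
  have hquot : ∀ j, j < k → Fitt.ideal R₁ (M₁ ⧸ N) j = ⊥ := by
    intro j hj
    obtain ⟨n, x, hx⟩ := FittLib.exists_generators R₁ M₁
    have hx' : Submodule.span R₁ (Set.range (N.mkQ ∘ x)) = ⊤ := by
      rw [Set.range_comp, Submodule.span_image, hx, Submodule.map_top, Submodule.range_mkQ]
    have h := hbot j hj
    rw [FittLib.ideal_eq_minors_fin x hx] at h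
    rw [FittLib.ideal_eq_minors_fin _ hx']
    refine le_bot_iff.mp (FittLib.minors_le fun z e' hz => ?_)
    have hpow : ∀ p, ∃ t : ℕ, (fun i => a₁ ^ t * z p i) ∈ FittLib.rel R₁ x := fun p => by
      have hp := FittLib.mem_rel.mp (hz p)
      simp only [Function.comp_apply, ← map_smul, ← map_sum] at hp
      rw [Submodule.mkQ_apply, Submodule.Quotient.mk_eq_zero, hN, FlatCA.powTorsion,
        Submodule.mem_iSup_of_directed] at hp
      · obtain ⟨t, ht⟩ := hp
        refine ⟨t, FittLib.mem_rel.mpr ?_⟩
        rw [Submodule.mem_torsionBy_iff, Finset.smul_sum] at ht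
        simpa [mul_smul] using ht
      · refine Monotone.directed_le fun s t hst y hy => ?_
        rw [Submodule.mem_torsionBy_iff] at hy ⊢
        obtain ⟨d, rfl⟩ := Nat.exists_eq_add_of_le hst
        rw [add_comm, pow_add, mul_smul, hy, smul_zero]
    choose t ht using hpow
    have := FittLib.minor_mem_minors ht e'
    rw [h, Ideal.mem_bot] at this
    have h2 : FittLib.minor (fun p i => a₁ ^ t p * z p i) e' =
        (∏ p, a₁ ^ t p) * FittLib.minor z e' := by
      rw [FittLib.minor, FittLib.minor, ← Matrix.det_mul_row]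
      rfl
    rw [Ideal.mem_bot]
    exact (mem_nonZeroDivisors_iff.mp (prod_mem fun p _ => pow_mem hnzd _)).1 _ (h2 ▸ this)
  intro p' _
  refine (Groth.Agent.S6895.result (M₁ ⧸ N) k).mpr ⟨hquot, fun j hj => ?_⟩ p'
  have htop : Fitt.ideal R₁ (M₁ ⧸ N) k = ⊤ := Groth.Agent.S6914.result M k a ha R₁ e
  obtain ⟨n, x, hx⟩ := FittLib.exists_generators R₁ (M₁ ⧸ N)
  rw [FittLib.ideal_eq_minors_fin x hx] at htop ⊢
  exact top_le_iff.mp (htop ▸ FittLib.minors_antitone x (by omega))

end Groth.Agent.S6915
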