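import Groth.Statements.S6918
import Groth.Agent.RG.Loc.FiniteTools

set_option autoImplicit false
universe u
open FlatMor

namespace Groth.Agent.S6918

/-- Let `R → S` be a ring map, `J ⊆ S` an ideal, `M` an `S`-module, `I ⊆ R` an ideal, `R → R'` a ring
map and `I' ⊇ IR'`; put `S' = S ⊗_R R'`, `M' = M ⊗_R R'`. If `M_𝔮` is flat over `R` for all primes
`𝔮 ⊇ IS + J` of `S`, then `M'_{𝔮'}` is flat over `R'` for all primes `𝔮' ⊇ I'S' + JS'` of `S'`. (The
published statement passes from an arbitrary pair `(R', I')` over `R` to a further pair `(R'',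
I'')`; this row takes the first pair to be `(R, I)`.) -/
theorem result {R S R' S' : Type u} [CommRing R] [CommRing S] [CommRing R'] [CommRing S']
    [Algebra R S] [Algebra R R'] [Algebra S S'] [Algebra R' S'] [Algebra R S'] [IsScalarTower R S S']
    [IsScalarTower R R' S'] [Algebra.IsPushout R S R' S']
    (I : Ideal R) (I' : Ideal R') (hII' : I.map (algebraMap R R') ≤ I')
    {M M' : Type u} [AddCommGroup M] [Module S M] [Module R M] [IsScalarTower R S M]
    [AddCommGroup M'] [Module S' M'] [Module R' M'] [IsScalarTower R' S' M'] [Module S M'] [IsScalarTower S S' M']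
    (f : M →ₗ[S] M') (hf : IsBaseChange S' f) (J : Ideal S)
    (h : (∀ (q : Ideal S) [q.IsPrime], I.map (algebraMap R S) ⊔ J ≤ q → FlatCA.FlatAt R q M)) :
    (∀ (q : Ideal S') [q.IsPrime], I'.map (algebraMap R' S') ⊔ J.map (algebraMap S S') ≤ q → FlatCA.FlatAt R' q M') := by
  intro Q _ hQ
  let q : Ideal S := Q.comap (algebraMap S S')
  have hq : I.map (algebraMap R S) ⊔ J ≤ q := by
    refine sup_le (Ideal.map_le_iff_le_comap.2 fun r hr => ?_)
      (Ideal.map_le_iff_le_comap.1 ((le_sup_right).trans hQ))
    change algebraMap S S' (algebraMap R S r) ∈ Q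
    rw [← IsScalarTower.algebraMap_apply, IsScalarTower.algebraMap_apply R R' S']
    exact hQ (Ideal.mem_sup_left (Ideal.mem_map_of_mem _ (hII' (Ideal.mem_map_of_mem _ hr))))
  haveI : Algebra.IsPushout R R' S S' := Algebra.IsPushout.symm inferInstance
  haveI : Module.Flat R' (LocalizedModule Q.primeCompl (TensorProduct S S' M)) :=
    RG.Loc.flat_baseChange_point (R := R) (H := R') q Q rfl M (h q hq)
  exact Module.Flat.of_linearEquiv
    ((IsLocalizedModule.mapEquiv Q.primeCompl (LocalizedModule.mkLinearMap Q.primeCompl (TensorProduct S S' M))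
      (LocalizedModule.mkLinearMap Q.primeCompl M') (Localization.AtPrime Q) hf.equiv).restrictScalars R').symm

end Groth.Agent.S6918
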