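import Groth.Statements.S6919
import Groth.Agent.RG.Dev.IdealDescent

set_option autoImplicit false
universe u
open FlatMor

namespace Groth.Agent.S6919

/-- Let `R → S` be a ring map, `J ⊆ S` an ideal, `M` an `S`-module and `I ⊆ R` an ideal; let `R → R'` be
a ring map and `I' ⊆ R'` an ideal containing `IR'`, and put `S' = S ⊗_R R'`, `M' = M ⊗_R R'`. Assume
that every prime of `R` containing `I` is the contraction of a prime of `R'` containing `I'`, and
that `R'_{𝔭'}` is flat over `R` for every prime `𝔭' ⊇ I'`. If `M'_{𝔮'}` is flat over `R'` for every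
prime `𝔮' ⊇ I'S' + JS'` of `S'`, then `M_𝔮` is flat over `R` for every prime `𝔮 ⊇ IS + J` of `S`.
(The published statement descends from a pair `(R'', I'')` to an arbitrary pair `(R', I')` over `R`;
this row takes `(R', I') = (R, I)`.) -/
theorem result {R S R' S' : Type u} [CommRing R] [CommRing S] [CommRing R'] [CommRing S']
    [Algebra R S] [Algebra R R'] [Algebra S S'] [Algebra R' S'] [Algebra R S'] [IsScalarTower R S S']
    [IsScalarTower R R' S'] [Algebra.IsPushout R S R' S']
    (I : Ideal R) (I' : Ideal R') (hII' : I.map (algebraMap R R') ≤ I')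
    {M M' : Type u} [AddCommGroup M] [Module S M] [Module R M] [IsScalarTower R S M]
    [AddCommGroup M'] [Module S' M'] [Module R' M'] [IsScalarTower R' S' M'] [Module S M'] [IsScalarTower S S' M']
    (f : M →ₗ[S] M') (hf : IsBaseChange S' f) (J : Ideal S)
    (hsurj : ∀ (p : Ideal R) [p.IsPrime], I ≤ p → ∃ (p' : Ideal R') (_ : p'.IsPrime), I' ≤ p' ∧ p'.comap (algebraMap R R') = p)
    (hflat : ∀ (p' : Ideal R') [p'.IsPrime], I' ≤ p' → Module.Flat R (Localization.AtPrime p'))
    (h : (∀ (q : Ideal S') [q.IsPrime], I'.map (algebraMap R' S') ⊔ J.map (algebraMap S S') ≤ q → FlatCA.FlatAt R' q M')) :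
    (∀ (q : Ideal S) [q.IsPrime], I.map (algebraMap R S) ⊔ J ≤ q → FlatCA.FlatAt R q M) := by
  intro q _ hq
  let p : Ideal R := q.comap (algebraMap R S)
  have hIp : I ≤ p := Ideal.map_le_iff_le_comap.1 (le_sup_left.trans hq)
  obtain ⟨p', hp', hIp', hp'p⟩ := hsurj p hIp
  haveI := hp'
  haveI : q.LiesOver p := ⟨rfl⟩
  haveI : p'.LiesOver p := ⟨hp'p.symm⟩
  obtain ⟨t, ht, htS, htR⟩ := RG.Pure.exists_prime_both p q p'
  let E := Algebra.IsPushout.equiv R S R' S'
  haveI := ht
  let Q : Ideal S' := Ideal.comap (E.symm : S' →+* TensorProduct R S R') t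
  have hQ1 : Q.comap (algebraMap S S') = q := by
    rw [Ideal.comap_comap, ← htS]
    congr 1
    ext b
    exact E.symm.commutes b
  have hQ2 : Q.comap (algebraMap R' S') = p' := by
    rw [Ideal.comap_comap, ← htR]
    congr 1
    ext a
    exact Algebra.IsPushout.equiv_symm_algebraMap_right R S R' S' a
  refine RG.Dev.flatAt_descent_point f hf q p' Q hQ1 hQ2 (hflat p' hIp') (h Q (sup_le ?_ ?_))
  · exact Ideal.map_le_iff_le_comap.2 (hIp'.trans hQ2.ge)
  · exact Ideal.map_le_iff_le_comap.2 ((le_sup_right.trans hq).trans hQ1.ge)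

end Groth.Agent.S6919
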