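import Groth.Statements.S6920
import Mathlib.Algebra.Category.Ring.Epi
import Mathlib.Algebra.Homology.HomotopyCategory.KInjective

set_option autoImplicit false
universe u
open CategoryTheory CategoryTheory.Limits MonoidalCategory
open DRing

namespace Groth.Agent.S6920

/-- For an epimorphism of rings `φ : R → S` and a complex `I•` of `S`-modules, if the underlying complex
of `R`-modules of `I•` is K-injective, then `I•` itself is K-injective over `S`. -/
theorem result (R S : Type u) [CommRing R] [CommRing S] (φ : R →+* S)
    (hφ : Epi (CommRingCat.ofHom φ)) (I : DRing.Cx S)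
    [CochainComplex.IsKInjective ((DRing.restrictCx φ).obj I)] : CochainComplex.IsKInjective I := by
  letI := φ.toAlgebra
  haveI hE : Algebra.IsEpi R S := CommRingCat.epi_iff_epi.mp hφ
  have key : ∀ (M N : ModuleCat.{u} S)
      (f : (ModuleCat.restrictScalars φ).obj M ⟶ (ModuleCat.restrictScalars φ).obj N),
      ∃ g : M ⟶ N, (ModuleCat.restrictScalars φ).map g = f := by
    intro M N f
    letI : Module R M := Module.compHom M φ
    letI : Module R N := Module.compHom N φ
    haveI : IsScalarTower R S M := ⟨fun r s x => mul_smul (φ r) s x⟩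
    haveI : IsScalarTower R S N := ⟨fun r s x => mul_smul (φ r) s x⟩
    let f₀ : M →ₗ[R] N :=
      { toFun := fun x => f.hom x
        map_add' := fun x y => f.hom.map_add x y
        map_smul' := fun r x => f.hom.map_smul r x }
    have hlin : ∀ (s : S) (x : M), f₀ (s • x) = s • f₀ x := by
      intro s x
      have h1 : (1 : S) ⊗ₜ[R] (s • x) = s ⊗ₜ[R] x := by
        refine Algebra.injective_lift_lsmul R S M ?_
        simp
      have := congrArg (TensorProduct.lift
        ((LinearMap.restrictScalars₁₂ R R (LinearMap.lsmul S N)).compl₂ f₀)) h1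
      simpa using this
    exact ⟨ModuleCat.ofHom { toFun := f₀, map_add' := f₀.map_add, map_smul' := hlin }, rfl⟩
  refine ⟨fun {K} f hK => ?_⟩
  have hK' : HomologicalComplex.Acyclic ((DRing.restrictCx φ).obj K) := fun n => by
    rw [HomologicalComplex.exactAt_iff]
    exact ((hK n).map (ModuleCat.restrictScalars φ) : _)
  obtain ⟨h⟩ := CochainComplex.IsKInjective.nonempty_homotopy_zero ((DRing.restrictCx φ).map f) hK'
  choose g hg using fun i j => key (K.X i) (I.X j) (h.hom i j)
  refine ⟨{ hom := g, zero := fun i j hij => ?_, comm := fun i => ?_ }⟩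
  · apply (ModuleCat.restrictScalars φ).map_injective
    exact (hg i j).trans (by rw [h.zero i j hij, Functor.map_zero]; rfl)
  · apply (ModuleCat.restrictScalars φ).map_injective
    have := h.comm i
    rw [dNext_eq _ (show (ComplexShape.up ℤ).Rel i (i + 1) from rfl),
      prevD_eq _ (show (ComplexShape.up ℤ).Rel (i - 1) i by simp)] at this ⊢
    simp only [Functor.map_add, Functor.map_comp, hg, HomologicalComplex.zero_f, Functor.map_zero, add_zero] at this ⊢
    exact this

end Groth.Agent.S6920
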