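import Groth.Statements.S6921
import Groth.Agent.EtMilLib.Glue

set_option autoImplicit false
universe u
open TensorProduct
open EtAlg Groth.Agent
open scoped TensorProduct

namespace Groth.Agent.S6921

/-- Let `B' = B ×_A A'` be a fibre square of rings with `A' → A` surjective, `B' → D'` a ring map, and
`D = D' ⊗_{B'} B`, `C' = D' ⊗_{B'} A'`, `C = D' ⊗_{B'} A`. Let `N` be a finite `D`-module, `M'` a
finite `C'`-module and `φ : N ⊗_D C ≅ M' ⊗_{C'} C` a `C`-linear isomorphism. Then the glued module
`N ×_φ M'` is a finite `D'`-module. -/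
theorem result (B' B A' A : Type u) [CommRing B'] [CommRing B] [CommRing A'] [CommRing A]
    [Algebra B' B] [Algebra B' A'] [Algebra B A] [Algebra A' A] [Algebra B' A] [IsScalarTower B' B A] [IsScalarTower B' A' A]
    (hsq : EtMil.IsFibreSquare B' B A' A)
    (D' D C' C : Type u) [CommRing D'] [CommRing D] [CommRing C'] [CommRing C]
    [Algebra B' D'] [Algebra B D] [Algebra A' C'] [Algebra A C]
    [Algebra D' D] [Algebra B' D] [IsScalarTower B' B D] [IsScalarTower B' D' D] [Algebra.IsPushout B' B D' D]
    [Algebra D' C'] [Algebra B' C'] [IsScalarTower B' A' C'] [IsScalarTower B' D' C'] [Algebra.IsPushout B' A' D' C']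
    [Algebra D' C] [Algebra B' C] [IsScalarTower B' A C] [IsScalarTower B' D' C] [Algebra.IsPushout B' A D' C]
    [Algebra D C] [IsScalarTower D' D C] [Algebra B C] [IsScalarTower B A C] [IsScalarTower B D C]
    [Algebra C' C] [IsScalarTower D' C' C] [Algebra A' C] [IsScalarTower A' A C] [IsScalarTower A' C' C]
    {N M' : Type u} [AddCommGroup N] [Module D N] [Module D' N] [IsScalarTower D' D N]
    [AddCommGroup M'] [Module C' M'] [Module D' M'] [IsScalarTower D' C' M'] (φ : C ⊗[D] N ≃ₗ[C] C ⊗[C'] M')
    [Module.Finite D N] [Module.Finite C' M'] : Module.Finite D' ↥(EtMil.glue D' φ) := by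
  let π : D' →+* D × C' := (algebraMap D' D).prod (algebraMap D' C')
  let E := D' ⧸ RingHom.ker π
  let gD : E →+* D := Ideal.Quotient.lift _ (algebraMap D' D) fun x hx => congrArg Prod.fst (RingHom.mem_ker.1 hx)
  let gC : E →+* C' := Ideal.Quotient.lift _ (algebraMap D' C') fun x hx => congrArg Prod.snd (RingHom.mem_ker.1 hx)
  letI : Algebra E D := gD.toAlgebra
  letI : Algebra E C' := gC.toAlgebra
  letI : Algebra E C := ((algebraMap D C).comp gD).toAlgebra
  haveI : IsScalarTower E D C := IsScalarTower.of_algebraMap_eq fun _ => rfl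
  haveI : IsScalarTower E C' C := IsScalarTower.of_algebraMap_eq fun x => by
    obtain ⟨x, rfl⟩ := Ideal.Quotient.mk_surjective x
    show algebraMap D C (algebraMap D' D x) = algebraMap C' C (algebraMap D' C' x)
    rw [← IsScalarTower.algebraMap_apply, ← IsScalarTower.algebraMap_apply]
  have hsurjC : Function.Surjective (algebraMap C' C) := fun c => by
    refine (Algebra.IsPushout.out (R := B') (S := A) (R' := D') (S' := C)).inductionOn c
      (fun c => ∃ c', algebraMap C' C c' = c) ?_ ?_ ?_ ?_
    · exact ⟨0, map_zero _⟩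
    · exact fun d => ⟨algebraMap D' C' d, (IsScalarTower.algebraMap_apply D' C' C d).symm⟩
    · rintro a _ ⟨c', rfl⟩
      obtain ⟨a', rfl⟩ := hsq.1 a
      refine ⟨algebraMap A' C' a' * c', ?_⟩
      rw [map_mul, Algebra.smul_def, ← IsScalarTower.algebraMap_apply, ← IsScalarTower.algebraMap_apply]
    · rintro _ _ ⟨x, rfl⟩ ⟨y, rfl⟩; exact ⟨x + y, map_add _ _ _⟩
  have hsqE : EtMil.IsFibreSquare E D C' C := by
    refine ⟨hsurjC, fun d c h => ?_⟩
    let eD := (Algebra.IsPushout.out (R := B') (S := B) (R' := D') (S' := D)).equiv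
    let eC' := (Algebra.IsPushout.out (R := B') (S := A') (R' := D') (S' := C')).equiv
    let eC := (Algebra.IsPushout.out (R := B') (S := A) (R' := D') (S' := C)).equiv
    have hB : ∀ x, eC ((IsScalarTower.toAlgHom B' B A).toLinearMap.rTensor D' x) = algebraMap D C (eD x) := fun x => by
      induction x using TensorProduct.induction_on with
      | zero => simp
      | tmul b z =>
        rw [LinearMap.rTensor_tmul, IsBaseChange.equiv_tmul, IsBaseChange.equiv_tmul]
        show algebraMap B A b • algebraMap D' C z = algebraMap D C (b • algebraMap D' D z)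
        rw [Algebra.smul_def, Algebra.smul_def, map_mul, ← IsScalarTower.algebraMap_apply,
          ← IsScalarTower.algebraMap_apply, ← IsScalarTower.algebraMap_apply]
      | add a b ha hb => simp only [map_add, ha, hb]
    have hA' : ∀ x, eC ((IsScalarTower.toAlgHom B' A' A).toLinearMap.rTensor D' x) = algebraMap C' C (eC' x) := fun x => by
      induction x using TensorProduct.induction_on with
      | zero => simp
      | tmul b z =>
        rw [LinearMap.rTensor_tmul, IsBaseChange.equiv_tmul, IsBaseChange.equiv_tmul]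
        show algebraMap A' A b • algebraMap D' C z = algebraMap C' C (b • algebraMap D' C' z)
        rw [Algebra.smul_def, Algebra.smul_def, map_mul, ← IsScalarTower.algebraMap_apply,
          ← IsScalarTower.algebraMap_apply, ← IsScalarTower.algebraMap_apply]
      | add a b ha hb => simp only [map_add, ha, hb]
    obtain ⟨l, hl, hl'⟩ := EtMilLib.exists_pair hsq D' (eD.symm d) (eC'.symm c)
      (eC.injective (by rw [hB, hA', eD.apply_symm_apply, eC'.apply_symm_apply]; exact h))
    have h1 : algebraMap D' D l = d := by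
      rw [← eD.apply_symm_apply d, ← hl, IsBaseChange.equiv_tmul, one_smul]; rfl
    have h2 : algebraMap D' C' l = c := by
      rw [← eC'.apply_symm_apply c, ← hl', IsBaseChange.equiv_tmul, one_smul]; rfl
    refine ⟨Ideal.Quotient.mk _ l, ⟨h1, h2⟩, fun y ⟨hy1, hy2⟩ => ?_⟩
    obtain ⟨y, rfl⟩ := Ideal.Quotient.mk_surjective y
    refine Ideal.Quotient.eq.2 (RingHom.mem_ker.2 (Prod.ext ?_ ?_))
    · show algebraMap D' D (y - l) = 0
      rw [map_sub, sub_eq_zero, h1]; exact hy1
    · show algebraMap D' C' (y - l) = 0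
      rw [map_sub, sub_eq_zero, h2]; exact hy2
  letI : Module E N := Module.compHom N gD
  letI : Module E M' := Module.compHom M' gC
  haveI : IsScalarTower E D N := IsScalarTower.of_algebraMap_smul fun _ _ => rfl
  haveI : IsScalarTower E C' M' := IsScalarTower.of_algebraMap_smul fun _ _ => rfl
  have hfin : Module.Finite E (EtMil.glue E φ) := EtMilLib.glue_finite hsqE φ
  obtain ⟨s, hs⟩ := hfin.fg_top
  let f : EtMil.glue E φ → EtMil.glue D' φ := fun x => ⟨x.1, x.2⟩
  classical
  refine ⟨⟨s.image f, eq_top_iff.2 fun x _ => ?_⟩⟩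
  rw [Finset.coe_image]
  refine Submodule.span_induction (p := fun z _ => f z ∈ Submodule.span D' (f '' (s : Set (EtMil.glue E φ)))) ?_ ?_ ?_ ?_
    (hs.ge (Submodule.mem_top (x := (⟨x.1, x.2⟩ : EtMil.glue E φ))))
  · exact fun z hz => Submodule.subset_span ⟨z, hz, rfl⟩
  · exact zero_mem _
  · exact fun a b _ _ ha hb => add_mem ha hb
  · intro e z _ hz
    obtain ⟨d, rfl⟩ := Ideal.Quotient.mk_surjective e
    have : f (Ideal.Quotient.mk (RingHom.ker π) d • z) = d • f z := Subtype.ext (Prod.ext
      (IsScalarTower.algebraMap_smul D d (z.1.1)) (IsScalarTower.algebraMap_smul C' d (z.1.2)))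
    rw [this]
    exact Submodule.smul_mem _ _ hz

end Groth.Agent.S6921
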