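import Groth.Statements.S6922
import Groth.Agent.EtMilLib.Rel

set_option autoImplicit false
universe u
open TensorProduct
open EtAlg Groth.Agent
open scoped TensorProduct

namespace Groth.Agent.S6922

/-- Finite presentation passes to a quotient ring. -/
theorem fp_of_surjective (P D' : Type u) [CommRing P] [CommRing D'] [Algebra P D']
    (h : Function.Surjective (algebraMap P D')) (L : Type u) [AddCommGroup L] [Module D' L] [Module P L]
    [IsScalarTower P D' L] [Module.FinitePresentation P L] : Module.FinitePresentation D' L := by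
  let f : D' ⊗[P] L →ₗ[D'] L := LinearMap.liftBaseChange D' (LinearMap.id : L →ₗ[P] L)
  refine Module.FinitePresentation.of_equiv (M := D' ⊗[P] L)
    (LinearEquiv.ofBijective f ⟨Function.LeftInverse.injective (g := fun x => (1 : D') ⊗ₜ[P] x) fun z => ?_,
      fun x => ⟨1 ⊗ₜ x, by simp [f]⟩⟩)
  induction z using TensorProduct.induction_on with
  | zero => simp
  | tmul d x =>
    obtain ⟨p, rfl⟩ := h d
    show (1 : D') ⊗ₜ[P] (algebraMap P D' p • x) = _
    rw [IsScalarTower.algebraMap_smul, ← TensorProduct.smul_tmul, Algebra.smul_def, mul_one]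
  | add a b ha hb =>
    show (1 : D') ⊗ₜ[P] f (a + b) = a + b
    rw [map_add, TensorProduct.tmul_add]
    exact congrArg₂ (· + ·) ha hb

/-- Transport of a bijective base change along an equivalence. -/
theorem bc_bij (B' : Type u) [CommRing B'] {B X Y N : Type u} [CommRing B] [Algebra B' B] [AddCommGroup X]
    [Module B' X] [AddCommGroup Y] [Module B' Y] [AddCommGroup N] [Module B N] [Module B' N] [IsScalarTower B' B N]
    (e : X ≃ₗ[B'] Y) (f : X →ₗ[B'] N) (g : Y →ₗ[B'] N) (h : ∀ x, g (e x) = f x)
    (hg : Function.Bijective (LinearMap.liftBaseChange B g)) : Function.Bijective (LinearMap.liftBaseChange B f) := by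
  have : (LinearMap.liftBaseChange B g).comp (e.baseChange B' B).toLinearMap = LinearMap.liftBaseChange B f := by
    refine TensorProduct.AlgebraTensorModule.ext fun b x => ?_
    show LinearMap.liftBaseChange B g (b ⊗ₜ[B'] e x) = _
    rw [LinearMap.liftBaseChange_tmul, LinearMap.liftBaseChange_tmul, h]
  rw [← this]
  exact hg.comp (e.baseChange B' B).bijective

/-- One side of the square: `(B ⊗ P) ⊗_P N' ≅ N` is finitely presented over `B ⊗ P`. -/
theorem fp_side (B' B D' D P : Type u) [CommRing B'] [CommRing B] [CommRing D'] [CommRing D] [CommRing P]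
    [Algebra B' B] [Algebra B' D'] [Algebra B' P] [Algebra B D] [Algebra D' D] [Algebra B' D]
    [IsScalarTower B' B D] [IsScalarTower B' D' D] [Algebra.IsPushout B' B D' D]
    [Algebra P D'] [IsScalarTower B' P D'] [Algebra P (B ⊗[B'] P)] [IsScalarTower B' P (B ⊗[B'] P)]
    [Algebra.IsPushout B' B P (B ⊗[B'] P)]
    (hπ : Function.Surjective (algebraMap P D')) (hker : (RingHom.ker (algebraMap P D')).FG)
    (N' : Type u) [AddCommGroup N'] [Module D' N'] [Module B' N'] [Module P N'] [IsScalarTower B' D' N']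
    [IsScalarTower P D' N'] [IsScalarTower B' P N']
    {N : Type u} [AddCommGroup N] [Module D N] [Module D' N] [IsScalarTower D' D N] [Module B N]
    [IsScalarTower B D N] [Module B' N] [IsScalarTower B' D' N] [IsScalarTower B' B N] [Module P N] [IsScalarTower P D' N]
    [Module.FinitePresentation D N] (f : N' →ₗ[D'] N)
    (hbij : Function.Bijective (LinearMap.liftBaseChange B (f.restrictScalars B')))
    (hP : ∀ x : P, algebraMap P (B ⊗[B'] P) x = (1 : B) ⊗ₜ[B'] x := by exact fun _ => rfl) :
    Module.FinitePresentation (B ⊗[B'] P) ((B ⊗[B'] P) ⊗[P] N') := by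
  let g := Algebra.TensorProduct.map (AlgHom.id B B) (IsScalarTower.toAlgHom B' P D')
  let e := Algebra.IsPushout.equiv B' B D' D
  let ρ : B ⊗[B'] P →ₐ[B] D := e.toAlgHom.comp g
  have hg : Function.Surjective g := fun z => by
    obtain ⟨y, rfl⟩ := LinearMap.lTensor_surjective B (g := (IsScalarTower.toAlgHom B' P D').toLinearMap) hπ z
    exact ⟨y, rfl⟩
  have hρ : Function.Surjective ρ := e.surjective.comp hg
  have hk : RingHom.ker ρ = (RingHom.ker (algebraMap P D')).map
      (Algebra.TensorProduct.includeRight : P →ₐ[B'] B ⊗[B'] P) := by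
    refine Eq.trans ?_ (Algebra.TensorProduct.lTensor_ker (A := B) (IsScalarTower.toAlgHom B' P D') hπ)
    ext z
    rw [RingHom.mem_ker, RingHom.mem_ker]
    show e (g z) = 0 ↔ g z = 0
    exact map_eq_zero_iff e e.injective
  letI : Algebra (B ⊗[B'] P) D := ρ.toRingHom.toAlgebra
  haveI : Module.FinitePresentation (B ⊗[B'] P) D :=
    Module.finitePresentation_of_surjective (Algebra.linearMap _ D) hρ (by
      rw [show LinearMap.ker (Algebra.linearMap (B ⊗[B'] P) D) = RingHom.ker ρ from rfl, hk]
      exact hker.map _)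
  letI : Module (B ⊗[B'] P) N := Module.compHom N ρ.toRingHom
  haveI : IsScalarTower (B ⊗[B'] P) D N := IsScalarTower.of_algebraMap_smul fun _ _ => rfl
  haveI : Module.FinitePresentation (B ⊗[B'] P) N := Module.FinitePresentation.trans (R := B ⊗[B'] P) N D
  haveI : IsScalarTower P (B ⊗[B'] P) N := IsScalarTower.of_algebraMap_smul fun x n => by
    show e (g (algebraMap P (B ⊗[B'] P) x)) • n = x • n
    rw [hP, Algebra.TensorProduct.map_tmul, Algebra.IsPushout.equiv_tmul, AlgHom.id_apply, map_one, one_mul,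
      IsScalarTower.algebraMap_smul]
    exact IsScalarTower.algebraMap_smul D' x n
  let ψ := LinearMap.liftBaseChange (B ⊗[B'] P) (f.restrictScalars P)
  let c := Algebra.IsPushout.cancelBaseChange B' B P (B ⊗[B'] P) N'
  have hc : ∀ y, ψ (c.symm y) = LinearMap.liftBaseChange B (f.restrictScalars B') y := fun y => by
    induction y using TensorProduct.induction_on with
    | zero => simp
    | tmul b x =>
      rw [Algebra.IsPushout.cancelBaseChange_symm_tmul, LinearMap.liftBaseChange_tmul, LinearMap.liftBaseChange_tmul]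
      show ρ (algebraMap B (B ⊗[B'] P) b) • f x = b • f x
      rw [ρ.commutes, IsScalarTower.algebraMap_smul]
    | add a b ha hb => simp only [map_add, ha, hb]
  have hψ : Function.Bijective ψ := by
    refine ⟨fun x y h => ?_, fun z => ?_⟩
    · obtain ⟨x, rfl⟩ := c.symm.surjective x
      obtain ⟨y, rfl⟩ := c.symm.surjective y
      rw [hc, hc] at h
      rw [hbij.1 h]
    · obtain ⟨y, rfl⟩ := hbij.2 z
      exact ⟨c.symm y, hc y⟩
  exact Module.FinitePresentation.of_equiv (LinearEquiv.ofBijective ψ hψ).symm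

/-- In the relative situation (`B' = B ×_A A'` with `A' → A` surjective, `B' → D'`, `D = D' ⊗_{B'} B`,
`C' = D' ⊗_{B'} A'`, `C = D' ⊗_{B'} A`), let `N` be a flat `B`-module that is finitely presented as
a `D`-module and `M'` a flat `A'`-module that is finitely presented as a `C'`-module, with a
`C`-isomorphism `φ : N ⊗_D C ≅ M' ⊗_{C'} C`, and suppose `B' → D'` is the composite of a flat ring
map `B' → D''` and a ring map `D'' → D'` of finite presentation. Then `N ×_φ M'` is finitely
presented over `D'`. -/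
theorem result (B' B A' A : Type u) [CommRing B'] [CommRing B] [CommRing A'] [CommRing A]
    [Algebra B' B] [Algebra B' A'] [Algebra B A] [Algebra A' A] [Algebra B' A] [IsScalarTower B' B A] [IsScalarTower B' A' A]
    (hsq : EtMil.IsFibreSquare B' B A' A)
    (D' D C' C : Type u) [CommRing D'] [CommRing D] [CommRing C'] [CommRing C]
    [Algebra B' D'] [Algebra B D] [Algebra A' C'] [Algebra A C]
    [Algebra D' D] [Algebra B' D] [IsScalarTower B' B D] [IsScalarTower B' D' D] [Algebra.IsPushout B' B D' D]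
    [Algebra D' C'] [Algebra B' C'] [IsScalarTower B' A' C'] [IsScalarTower B' D' C'] [Algebra.IsPushout B' A' D' C']
    [Algebra D' C] [Algebra B' C] [IsScalarTower B' A C] [IsScalarTower B' D' C] [Algebra.IsPushout B' A D' C]
    [Algebra D C] [IsScalarTower D' D C] [Algebra B C] [IsScalarTower B A C] [IsScalarTower B D C]
    [Algebra C' C] [IsScalarTower D' C' C] [Algebra A' C] [IsScalarTower A' A C] [IsScalarTower A' C' C]
    {N M' : Type u} [AddCommGroup N] [Module D N] [Module D' N] [IsScalarTower D' D N]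
    [AddCommGroup M'] [Module C' M'] [Module D' M'] [IsScalarTower D' C' M'] (φ : C ⊗[D] N ≃ₗ[C] C ⊗[C'] M')
    [Module B N] [IsScalarTower B D N] [Module A' M'] [IsScalarTower A' C' M']
    [Module.FinitePresentation D N] [Module.Flat B N] [Module.FinitePresentation C' M'] [Module.Flat A' M']
    (D'' : Type u) [CommRing D''] [Algebra B' D''] [Algebra D'' D'] [IsScalarTower B' D'' D'] [Module.Flat B' D'']
    [Algebra.FinitePresentation D'' D'] :
    Module.FinitePresentation D' ↥(EtMil.glue D' φ) := by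
  haveI : IsScalarTower B' D C := IsScalarTower.of_algebraMap_eq fun x => by
    rw [IsScalarTower.algebraMap_apply B' D' C, IsScalarTower.algebraMap_apply B' D' D, ← IsScalarTower.algebraMap_apply D' D C]
  haveI : IsScalarTower B' C' C := IsScalarTower.of_algebraMap_eq fun x => by
    rw [IsScalarTower.algebraMap_apply B' D' C, IsScalarTower.algebraMap_apply B' D' C', ← IsScalarTower.algebraMap_apply D' C' C]
  haveI : Algebra.IsPushout B A D C := (Algebra.IsPushout.comp_iff B' B D' D).1 inferInstance
  haveI : Algebra.IsPushout A' A C' C := (Algebra.IsPushout.comp_iff B' A' D' C').1 inferInstance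
  letI : Module B' N := Module.compHom N (algebraMap B' D')
  letI : Module B' M' := Module.compHom M' (algebraMap B' D')
  haveI : IsScalarTower B' D' N := IsScalarTower.of_algebraMap_smul fun _ _ => rfl
  haveI : IsScalarTower B' D' M' := IsScalarTower.of_algebraMap_smul fun _ _ => rfl
  haveI : IsScalarTower B' B N := IsScalarTower.of_algebraMap_smul fun b n => by
    rw [← IsScalarTower.algebraMap_smul D (algebraMap B' B b) n, ← IsScalarTower.algebraMap_apply,
      IsScalarTower.algebraMap_apply B' D' D, IsScalarTower.algebraMap_smul]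
    exact IsScalarTower.algebraMap_smul D' b n
  haveI : IsScalarTower B' A' M' := IsScalarTower.of_algebraMap_smul fun b n => by
    rw [← IsScalarTower.algebraMap_smul C' (algebraMap B' A' b) n, ← IsScalarTower.algebraMap_apply,
      IsScalarTower.algebraMap_apply B' D' C', IsScalarTower.algebraMap_smul]
    exact IsScalarTower.algebraMap_smul D' b n
  let c₁ := Algebra.IsPushout.cancelBaseChange B A D C N
  let c₂ := Algebra.IsPushout.cancelBaseChange A' A C' C M'
  let φB : A ⊗[B] N ≃ₗ[A] A ⊗[A'] M' := c₁.symm.trans ((φ.restrictScalars A).trans c₂)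
  have hmem : ∀ (n : N) (m : M'), φB ((1 : A) ⊗ₜ[B] n) = (1 : A) ⊗ₜ[A'] m ↔
      φ ((1 : C) ⊗ₜ[D] n) = (1 : C) ⊗ₜ[C'] m := fun n m => by
    show c₂ (φ (c₁.symm ((1 : A) ⊗ₜ[B] n))) = _ ↔ _
    rw [← LinearEquiv.eq_symm_apply, Algebra.IsPushout.cancelBaseChange_symm_tmul,
      Algebra.IsPushout.cancelBaseChange_symm_tmul, map_one]
  let eG : EtMil.glue D' φ ≃ₗ[B'] EtMil.glue B' φB :=
    { toFun := fun x => ⟨x.1, (hmem _ _).2 x.2⟩
      invFun := fun x => ⟨x.1, (hmem _ _).1 x.2⟩
      map_add' := fun _ _ => rfl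
      map_smul' := fun _ _ => rfl
      left_inv := fun _ => rfl
      right_inv := fun _ => rfl }
  haveI := EtMilLib.glue_flat hsq φB
  haveI : Module.Flat B' (EtMil.glue D' φ) := .of_linearEquiv eG
  obtain ⟨n, π, hπ, hker⟩ := (inferInstance : Algebra.FinitePresentation D'' D').out
  let P := MvPolynomial (Fin n) D''
  letI : Algebra P D' := π.toRingHom.toAlgebra
  haveI : IsScalarTower B' P D' := IsScalarTower.of_algebraMap_eq fun x => by
    show algebraMap B' D' x = π (algebraMap B' P x)
    rw [IsScalarTower.algebraMap_apply B' D'' P, π.commutes, ← IsScalarTower.algebraMap_apply]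
  haveI : Module.Flat B' P := Module.Flat.trans B' D'' P
  letI : Algebra P (B ⊗[B'] P) := Algebra.TensorProduct.rightAlgebra
  letI : Algebra P (A' ⊗[B'] P) := Algebra.TensorProduct.rightAlgebra
  letI : Algebra P (A ⊗[B'] P) := Algebra.TensorProduct.rightAlgebra
  letI : Algebra (B ⊗[B'] P) (A ⊗[B'] P) :=
    (Algebra.TensorProduct.map (IsScalarTower.toAlgHom B' B A) (AlgHom.id B' P)).toRingHom.toAlgebra
  letI : Algebra (A' ⊗[B'] P) (A ⊗[B'] P) :=
    (Algebra.TensorProduct.map (IsScalarTower.toAlgHom B' A' A) (AlgHom.id B' P)).toRingHom.toAlgebra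
  haveI : IsScalarTower P (B ⊗[B'] P) (A ⊗[B'] P) := IsScalarTower.of_algebraMap_eq fun x => by
    show (1 : A) ⊗ₜ[B'] x = algebraMap B A 1 ⊗ₜ[B'] x
    rw [map_one]
  haveI : IsScalarTower P (A' ⊗[B'] P) (A ⊗[B'] P) := IsScalarTower.of_algebraMap_eq fun x => by
    show (1 : A) ⊗ₜ[B'] x = algebraMap A' A 1 ⊗ₜ[B'] x
    rw [map_one]
  haveI : IsScalarTower B (B ⊗[B'] P) (A ⊗[B'] P) :=
    @IsScalarTower.of_algebraMap_eq B (B ⊗[B'] P) (A ⊗[B'] P) _ _ _ _ _ _ fun _ => rfl
  haveI : IsScalarTower A' (A' ⊗[B'] P) (A ⊗[B'] P) :=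
    @IsScalarTower.of_algebraMap_eq A' (A' ⊗[B'] P) (A ⊗[B'] P) _ _ _ _ _ _ fun _ => rfl
  have hsqP := EtMilLib.isFibreSquare_baseChange hsq P (B ⊗[B'] P) (A' ⊗[B'] P) (A ⊗[B'] P)
  letI : Module P N := Module.compHom N (algebraMap P D')
  letI : Module P M' := Module.compHom M' (algebraMap P D')
  haveI : IsScalarTower P D' N := IsScalarTower.of_algebraMap_smul fun _ _ => rfl
  haveI : IsScalarTower P D' M' := IsScalarTower.of_algebraMap_smul fun _ _ => rfl
  let N' := EtMil.glue D' φ
  haveI : IsScalarTower B' P N' := IsScalarTower.of_algebraMap_smul fun b x => by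
    rw [← IsScalarTower.algebraMap_smul D' (algebraMap B' P b) x, ← IsScalarTower.algebraMap_apply,
      IsScalarTower.algebraMap_smul]
  haveI : Module.FinitePresentation (B ⊗[B'] P) ((B ⊗[B'] P) ⊗[P] N') :=
    fp_side B' B D' D P hπ hker N' ((LinearMap.fst D' N M').comp N'.subtype)
      (bc_bij B' eG _ (EtMil.glueFst B' φB) (fun _ => rfl) (EtMilLib.fstBC_bijective hsq φB))
  haveI : Module.FinitePresentation (A' ⊗[B'] P) ((A' ⊗[B'] P) ⊗[P] N') :=
    fp_side B' A' D' C' P hπ hker N' ((LinearMap.snd D' N M').comp N'.subtype)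
      (bc_bij B' eG _ (EtMil.glueSnd B' φB) (fun _ => rfl) (EtMilLib.sndBC_bijective hsq φB))
  haveI : Module.FinitePresentation P N' :=
    EtMilLib.finitePresentation_rel hsq P (B ⊗[B'] P) (A' ⊗[B'] P) (A ⊗[B'] P) hsqP N'
  exact fp_of_surjective P D' hπ N'

end Groth.Agent.S6922
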