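import Groth.Statements.S6923

import Mathlib

set_option autoImplicit false
universe u
open Hensel

namespace Groth.Agent.S6923


section Step

variable {B B₀ : Type u} [CommRing B] [CommRing B₀] {t : B →+* B₀}
  {M M₀ : Type u} [AddCommGroup M] [Module B M] [AddCommGroup M₀] [Module B₀ M₀] {r : ℕ}

lemma comb_comp (v : M →ₛₗ[t] M₀) (g : Fin r → M) (x : Fin r → B) :
    v (Fintype.linearCombination B g x) =
      Fintype.linearCombination B₀ (fun j => v (g j)) (fun j => t (x j)) := by
  simp [Fintype.linearCombination_apply]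

lemma mem_smul_top_pi (I : Ideal B) (x : Fin r → B) :
    x ∈ I • (⊤ : Submodule B (Fin r → B)) ↔ ∀ j, x j ∈ I := by
  classical
  constructor
  · intro hx j
    refine Submodule.smul_induction_on hx (fun a ha z _ => ?_) (fun a b ha hb => ?_)
    · exact I.mul_mem_right _ ha
    · exact add_mem ha hb
  · intro hx
    rw [pi_eq_sum_univ x]
    exact Submodule.sum_mem _ fun i _ => Submodule.smul_mem_smul (hx i) trivial

/-- lifting relations along a nilpotent thickening -/
lemma exists_lift_ker (ht : Function.Surjective t) (v : M →ₛₗ[t] M₀)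
    (hv : LinearMap.ker v = RingHom.ker t • (⊤ : Submodule B M)) (g : Fin r → M)
    (hg : Function.Surjective (Fintype.linearCombination B g))
    (z : Fin r → B₀) (hz : Fintype.linearCombination B₀ (fun j => v (g j)) z = 0) :
    ∃ a : Fin r → B, (∀ j, t (a j) = z j) ∧ Fintype.linearCombination B g a = 0 := by
  choose a0 ha0 using fun j => ht (z j)
  have hmem : Fintype.linearCombination B g a0 ∈ RingHom.ker t • (⊤ : Submodule B M) := by
    rw [← hv, LinearMap.mem_ker, comb_comp]
    convert hz using 2
    exact funext ha0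
  rw [← LinearMap.range_eq_top.2 hg, LinearMap.range_eq_map, ← Submodule.map_smul''] at hmem
  obtain ⟨d, hd, hd'⟩ := hmem
  have hd0 := (mem_smul_top_pi _ d).1 hd
  refine ⟨a0 - d, fun j => ?_, by rw [map_sub, hd', sub_self]⟩
  rw [Pi.sub_apply, map_sub, RingHom.mem_ker.1 (hd0 j), sub_zero, ha0]

/-- a finite flat module which is projective modulo a nil ideal is projective -/
lemma projective_of_nil (ht : Function.Surjective t) (hnil : ∀ x, t x = 0 → IsNilpotent x)
    (v : M →ₛₗ[t] M₀) (hsurj : Function.Surjective v)
    (hv : LinearMap.ker v = RingHom.ker t • (⊤ : Submodule B M))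
    [Module.Finite B M] [Module.Flat B M] [Module.Projective B₀ M₀] : Module.Projective B M := by
  classical
  obtain ⟨r, φ, hφ⟩ := Module.Finite.exists_fin' B M
  let g : Fin r → M := fun j => φ (Pi.single j 1)
  have hφg : φ = Fintype.linearCombination B g := by
    apply LinearMap.pi_ext'
    intro j
    apply LinearMap.ext_ring
    simp [g, Fintype.linearCombination_apply_single]
  let φ₀ := Fintype.linearCombination B₀ (fun j => v (g j))
  have hφ₀ : Function.Surjective φ₀ := fun m => by
    obtain ⟨m', rfl⟩ := hsurj m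
    obtain ⟨x, rfl⟩ := hφ m'
    exact ⟨fun j => t (x j), by rw [hφg, comb_comp]⟩
  obtain ⟨σ, hσ⟩ := Module.projective_lifting_property φ₀ LinearMap.id hφ₀
  let z : Fin r → (Fin r → B₀) := fun j => Pi.single j 1 - σ (φ₀ (Pi.single j 1))
  have hz : ∀ j, φ₀ (z j) = 0 := fun j => by
    simp only [z, map_sub]
    rw [show φ₀ (σ (φ₀ (Pi.single j 1))) = φ₀ (Pi.single j 1) from LinearMap.congr_fun hσ _, sub_self]
  choose y hyt hy using fun j => exists_lift_ker ht v hv g (hφg ▸ hφ) (z j) (hz j)
  let K' := Submodule.span B (Set.range y)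
  have hK' : K' ≤ LinearMap.ker φ := by
    rw [Submodule.span_le]; rintro _ ⟨j, rfl⟩
    rw [SetLike.mem_coe, LinearMap.mem_ker, hφg, hy]
  have hdecomp : ∀ w ∈ LinearMap.ker φ, ∃ k ∈ K', ∀ j, t ((w - k) j) = 0 := by
    intro w hw
    let w₀ : Fin r → B₀ := fun j => t (w j)
    have hw₀ : φ₀ w₀ = 0 := by
      rw [← map_zero v, ← LinearMap.mem_ker.1 hw, hφg, comb_comp]
    have heq : w₀ = ∑ i, w₀ i • z i := by
      have h1 : ∑ i, w₀ i • (Pi.single i (1 : B₀) : Fin r → B₀) = w₀ := by
        ext j; simp [Finset.sum_apply, Pi.single_apply]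
      simp only [z, smul_sub, Finset.sum_sub_distrib, h1, ← map_smul, ← map_sum, hw₀, map_zero,
        sub_zero]
    refine ⟨∑ i, w i • y i, Submodule.sum_mem _ fun i _ =>
      Submodule.smul_mem _ _ (Submodule.subset_span ⟨i, rfl⟩), fun j => ?_⟩
    have hj := congrFun heq j
    simp only [Finset.sum_apply, Pi.smul_apply, smul_eq_mul, w₀] at hj
    simp [map_sum, hyt, hj]
  have hker : LinearMap.ker φ = K' := by
    refine le_antisymm (fun x hx => ?_) hK'
    let f := Fintype.linearCombination B (fun o : Option (Fin r) => o.elim x y)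
    have hf : φ ∘ₗ f = 0 := by
      apply LinearMap.pi_ext'
      intro o
      apply LinearMap.ext_ring
      cases o with
      | none => simpa [f, Fintype.linearCombination_apply_single] using hx
      | some j => simpa [f, Fintype.linearCombination_apply_single, hφg] using hy j
    obtain ⟨n, a, y', hya, haf⟩ := Module.Flat.exists_factorization_of_comp_eq_zero_of_free hf
    obtain ⟨y'', hy''⟩ := Module.projective_lifting_property φ y' hφ
    let θ : (Fin r → B) →ₗ[B] (Fin r → B) := LinearMap.id - y'' ∘ₗ a
    have hθφ : ∀ w, θ w ∈ LinearMap.ker φ := fun w => by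
      simp only [θ, LinearMap.mem_ker, LinearMap.sub_apply, LinearMap.id_apply, map_sub,
        LinearMap.comp_apply]
      rw [← LinearMap.comp_apply φ, hy'', ← LinearMap.comp_apply, ← hya, sub_self]
    have hθf : ∀ c, θ (f c) = f c := fun c => by
      have : a (f c) = 0 := LinearMap.congr_fun haf c
      simp [θ, this]
    have hθx : θ x = x := by
      have := hθf (Pi.single none 1)
      simpa [f, Fintype.linearCombination_apply_single] using this
    have hθK : ∀ k ∈ K', θ k = k := by
      intro k hk
      induction hk using Submodule.span_induction with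
      | mem z hz =>
        obtain ⟨j, rfl⟩ := hz
        have := hθf (Pi.single (some j) 1)
        simpa [f, Fintype.linearCombination_apply_single] using this
      | zero => simp
      | add _ _ _ _ ha hb => rw [map_add, ha, hb]
      | smul c _ _ ha => rw [map_smul, ha]
    choose k hk hkt using fun j => hdecomp _ (hθφ (Pi.single j 1))
    let J : Ideal B := Ideal.span (Set.range fun p : Fin r × Fin r => (θ (Pi.single p.1 1) - k p.1) p.2)
    have hJfg : J.FG := ⟨Finset.univ.image fun p : Fin r × Fin r => (θ (Pi.single p.1 1) - k p.1) p.2,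
      by simp [J]⟩
    obtain ⟨N, hN⟩ : IsNilpotent J := by
      rw [Ideal.FG.isNilpotent_iff_le_nilradical hJfg, Ideal.span_le]
      rintro _ ⟨p, rfl⟩
      exact hnil _ (hkt p.1 p.2)
    have hstep : ∀ w, θ w ∈ K' ⊔ J • ⊤ := by
      intro w
      rw [pi_eq_sum_univ' w]
      rw [map_sum]
      refine Submodule.sum_mem _ fun j _ => ?_
      rw [map_smul]
      refine Submodule.smul_mem _ _ (Submodule.mem_sup.2 ⟨k j, hk j, _, ?_, add_sub_cancel _ _⟩)
      exact (mem_smul_top_pi _ _).2 fun i => Ideal.subset_span ⟨(j, i), rfl⟩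
    have hiter : ∀ m, x ∈ K' ⊔ J ^ m • (⊤ : Submodule B (Fin r → B)) := by
      intro m
      induction m with
      | zero => rw [pow_zero, Ideal.one_eq_top, Submodule.top_smul, sup_top_eq]; trivial
      | succ m ih =>
        rw [← hθx]
        have h1 := Submodule.mem_map_of_mem (f := θ) ih
        rw [Submodule.map_sup, Submodule.map_smul''] at h1
        refine (sup_le (le_sup_of_le_left ?_) ?_ : Submodule.map θ K' ⊔ J ^ m • Submodule.map θ ⊤ ≤ _) h1
        · rintro _ ⟨c, hc, rfl⟩; rwa [hθK c hc]
        · have h2 : Submodule.map θ ⊤ ≤ K' ⊔ J • ⊤ := by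
            rintro _ ⟨c, -, rfl⟩; exact hstep c
          refine (Submodule.smul_mono le_rfl h2).trans ?_
          rw [Submodule.smul_sup, ← Submodule.smul_assoc, smul_eq_mul, ← pow_succ]
          exact sup_le_sup Submodule.smul_le_right le_rfl
    have := hiter N
    rwa [hN, Ideal.zero_eq_bot, Submodule.bot_smul, sup_bot_eq] at this
  have : Module.FinitePresentation B M :=
    Module.finitePresentation_of_surjective φ hφ (hker ▸ Submodule.fg_span (Set.finite_range y))
  exact Module.Flat.projective_of_finitePresentation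

lemma surjective_comb_of_nil (hnil : ∀ x, t x = 0 → IsNilpotent x) (ht : Function.Surjective t)
    (v : M →ₛₗ[t] M₀)
    (hv : LinearMap.ker v = RingHom.ker t • (⊤ : Submodule B M)) [Module.Finite B M]
    (g : Fin r → M) (hg : Function.Surjective (Fintype.linearCombination B₀ fun j => v (g j))) :
    Function.Surjective (Fintype.linearCombination B g) := by
  rw [← LinearMap.range_eq_top, eq_top_iff]
  refine Submodule.le_of_le_smul_of_le_jacobson_bot (Module.Finite.fg_top)
    (I := RingHom.ker t) ?_ ?_
  · exact fun x hx => Ideal.radical_le_jacobson (show x ∈ (⊥ : Ideal B).radical from hnil x hx)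
  · intro m _
    obtain ⟨z, hz⟩ := hg (v m)
    choose a ha using fun j => ht (z j)
    refine Submodule.mem_sup.2 ⟨_, ⟨a, rfl⟩, m - Fintype.linearCombination B g a, ?_, add_sub_cancel _ _⟩
    rw [← hv, LinearMap.mem_ker, map_sub, comb_comp, show (fun j => t (a j)) = z from funext ha, hz,
      sub_self]

/-- extend a section to the next level -/
lemma exists_section (ht : Function.Surjective t) (v : M →ₛₗ[t] M₀)
    (hv : LinearMap.ker v = RingHom.ker t • (⊤ : Submodule B M)) (g : Fin r → M)
    (hg : Function.Surjective (Fintype.linearCombination B g)) [Module.Projective B M]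
    (g₀ : Fin r → M₀) (hg₀ : ∀ j, v (g j) = g₀ j) (s : M₀ →ₗ[B₀] (Fin r → B₀))
    (hs : ∀ m, Fintype.linearCombination B₀ g₀ (s m) = m) :
    ∃ s' : M →ₗ[B] (Fin r → B), (∀ m, Fintype.linearCombination B g (s' m) = m) ∧
      ∀ m j, t (s' m j) = s (v m) j := by
  classical
  obtain rfl : (fun j => v (g j)) = g₀ := funext hg₀
  obtain ⟨σ, hσ⟩ := Module.projective_lifting_property _ LinearMap.id hg
  have hσ' : ∀ m, Fintype.linearCombination B g (σ m) = m := fun m => LinearMap.congr_fun hσ m
  have hz : ∀ i, Fintype.linearCombination B₀ (fun j => v (g j))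
      (s (v (g i)) - fun j => t (σ (g i) j)) = 0 := fun i => by
    rw [map_sub, hs, ← comb_comp, hσ', sub_self]
  choose c hct hc using fun i => exists_lift_ker ht v hv g hg _ (hz i)
  refine ⟨σ + (Fintype.linearCombination B c) ∘ₗ σ, fun m => ?_, fun m j => ?_⟩
  · rw [LinearMap.add_apply, map_add, hσ', LinearMap.comp_apply,
      Fintype.linearCombination_apply (R := B) c, map_sum]
    simp [map_smul, hc]
  · have h1 : v m = ∑ i, t (σ m i) • v (g i) := by
      conv_lhs => rw [← hσ' m, Fintype.linearCombination_apply, map_sum]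
      simp
    have h2 : t (σ m j) = ∑ i, t (σ m i) * t (σ (g i) j) := by
      conv_lhs => rw [← hσ' m, Fintype.linearCombination_apply, map_sum]
      simp [Finset.sum_apply, hσ']
    have h3 : s (v m) j = ∑ i, t (σ m i) * s (v (g i)) j := by
      rw [h1]; simp [Finset.sum_apply]
    simp [Fintype.linearCombination_apply, Finset.sum_apply, map_sum, hct, mul_sub,
      Finset.sum_sub_distrib, h3, ← h2]

end Step

lemma pi_surjective (A : Type u) [CommRing A] (An : ℕ → Type u)
    [∀ n, CommRing (An n)] (t : ∀ n, An (n + 1) →+* An n) (π : ∀ n, A →+* An n)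
    (ht : ∀ n, Function.Surjective (t n)) (hA : FlatCA.IsRingLimit A An t π) :
    ∀ n, Function.Surjective (π n) := by
  classical
  have hlim := hA.2.2
  have hcomp : ∀ n a, t n (π (n + 1) a) = π n a := fun n a => RingHom.congr_fun (hA.1 n) a
  choose ρ hρ using ht
  intro n
  induction n with
  | zero =>
    intro y
    obtain ⟨a, ha⟩ := hlim (fun n => Nat.rec y (fun m z => ρ m z) n) (fun m => hρ m _)
    exact ⟨a, ha 0⟩
  | succ n ih =>
    intro y
    obtain ⟨a, ha⟩ := ih (t n y)
    let f : ∀ m, An m := fun m => Nat.rec (motive := An) 0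
      (fun m z => if m < n then 0 else if h : m = n then h ▸ (y - π (n + 1) a) else ρ m z) m
    have hf0 : ∀ m ≤ n, f m = 0 := by
      intro m hm
      cases m with
      | zero => rfl
      | succ m => exact if_pos (by omega)
    have hfn : f (n + 1) = y - π (n + 1) a := by
      show (if n < n then _ else _) = _
      simp
    have hfc : ∀ m, t m (f (m + 1)) = f m := by
      intro m
      rcases lt_trichotomy m n with hm | hm | hm
      · rw [hf0 _ hm, hf0 _ hm.le, map_zero]
      · subst hm
        rw [hfn, hf0 _ le_rfl, map_sub, hcomp, ha, sub_self]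
      · show t m (if m < n then _ else _) = _
        rw [if_neg (by omega), dif_neg (by omega), hρ]
    obtain ⟨b, hb⟩ := hlim f hfc
    exact ⟨a + b, by rw [map_add, hb, hfn, add_sub_cancel]⟩

/-- Let `A = lim A_n` be the limit of an inverse system of rings `(A_n)_{n ≥ 0}` in which each map
`A_{n+1} → A_n` is onto and every element of its kernel is nilpotent. Let `M_n` be `A_n`-modules
with compatible maps `M_{n+1} → M_n` such that `M_0` is finite projective, every `M_n` is finite and
flat over `A_n`, and the maps induce isomorphisms `M_{n+1} ⊗_{A_{n+1}} A_n → M_n` (i.e. are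
surjective with kernel `Ker(A_{n+1} → A_n) M_{n+1}`). Then the inverse limit of the `M_n` is a
finitely generated projective `A`-module whose base change to each `A_n` maps onto `M_n`
isomorphically: there is a finite projective `A`-module `P` with compatible maps `P → M_n`, each
surjective with kernel `Ker(A → A_n) P`, through which `P` maps bijectively onto the compatible
sequences in `∏ M_n`. -/
theorem result (A : Type u) [CommRing A] (An : ℕ → Type u)
    [∀ n, CommRing (An n)] (t : ∀ n, An (n + 1) →+* An n) (π : ∀ n, A →+* An n)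
    (ht : ∀ n, Function.Surjective (t n)) (hnil : ∀ n (x : An (n + 1)), t n x = 0 → IsNilpotent x)
    (hA : FlatCA.IsRingLimit A An t π)
    (M : ℕ → Type u) [∀ n, AddCommGroup (M n)] [∀ n, Module (An n) (M n)] (u : ∀ n, M (n + 1) →ₛₗ[t n] M n)
    [Module.Projective (An 0) (M 0)] (hfin : ∀ n, Module.Finite (An n) (M n)) (hflat : ∀ n, Module.Flat (An n) (M n))
    (hu : ∀ n, Function.Surjective (u n) ∧ LinearMap.ker (u n) = RingHom.ker (t n) • (⊤ : Submodule (An (n + 1)) (M (n + 1)))) :
    ∃ (P : Type u) (_ : AddCommGroup P) (_ : Module A P) (p : ∀ n, P →ₛₗ[π n] M n),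
      Module.Finite A P ∧ Module.Projective A P ∧ (∀ n (x : P), u n (p (n + 1) x) = p n x) ∧
      (∀ n, Function.Surjective (p n) ∧ LinearMap.ker (p n) = RingHom.ker (π n) • (⊤ : Submodule A P)) ∧
      (∀ x : (∀ n, M n), (∀ n, u n (x (n + 1)) = x n) → ∃! q : P, ∀ n, p n q = x n) := by
  classical
  have hproj : ∀ n, Module.Projective (An n) (M n) := by
    intro n
    induction n with
    | zero => infer_instance
    | succ n ih =>
      have := hfin (n + 1); have := hflat (n + 1)
      exact projective_of_nil (ht n) (hnil n) (u n) (hu n).1 (hu n).2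
  obtain ⟨r, φ, hφ⟩ := @Module.Finite.exists_fin' (An 0) (M 0) _ _ _ (hfin 0)
  choose lift hlift using fun n => (hu n).1
  let g : ∀ n, Fin r → M n := fun n => Nat.rec (motive := fun n => Fin r → M n)
    (fun j => φ (Pi.single j 1)) (fun m gm j => lift m (gm j)) n
  have hgu : ∀ n j, u n (g (n + 1) j) = g n j := fun n j => hlift n _
  let F : ∀ n, (Fin r → An n) →ₗ[An n] M n := fun n => Fintype.linearCombination (An n) (g n)
  have hF : ∀ n, Function.Surjective (F n) := by
    intro n
    induction n with
    | zero =>
      have : φ = F 0 := by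
        apply LinearMap.pi_ext'
        intro j
        apply LinearMap.ext_ring
        simp [F, g, Fintype.linearCombination_apply_single]
      exact this ▸ hφ
    | succ n ih =>
      have := hfin (n + 1)
      refine surjective_comb_of_nil (hnil n) (ht n) (u n) (hu n).2 _ ?_
      simp only [hgu]
      exact ih
  have hsec : ∀ n (s : M n →ₗ[An n] (Fin r → An n)), (∀ m, F n (s m) = m) →
      ∃ s' : M (n + 1) →ₗ[An (n + 1)] (Fin r → An (n + 1)), (∀ m, F (n + 1) (s' m) = m) ∧
        ∀ m j, t n (s' m j) = s (u n m) j := fun n s hs => by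
    have := hproj (n + 1)
    exact exists_section (ht n) (u n) (hu n).2 _ (hF (n + 1)) (g n) (hgu n) s hs
  choose next hnext1 hnext2 using hsec
  obtain ⟨s0, hs0⟩ := Module.projective_lifting_property (F 0) LinearMap.id (hF 0)
  let S : ∀ n, {s : M n →ₗ[An n] (Fin r → An n) // ∀ m, F n (s m) = m} := fun n =>
    Nat.rec (motive := fun n => {s : M n →ₗ[An n] (Fin r → An n) // ∀ m, F n (s m) = m})
      ⟨s0, fun m => LinearMap.congr_fun hs0 m⟩ (fun n s => ⟨next n s.1 s.2, hnext1 n s.1 s.2⟩) n
  let s := fun n => (S n).1
  have hs : ∀ n m, F n (s n m) = m := fun n => (S n).2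
  have hst : ∀ n m j, t n (s (n + 1) m j) = s n (u n m) j := fun n => hnext2 n (S n).1 (S n).2
  have hπt : ∀ n a, t n (π (n + 1) a) = π n a := fun n a => RingHom.congr_fun (hA.1 n) a
  have hπs := pi_surjective A An t π ht hA
  have hlim := hA.2.2
  choose c hc using fun i j => hlim (fun n => s n (g n i) j) (fun n => by rw [hst, hgu])
  let e : (Fin r → A) →ₗ[A] (Fin r → A) := Fintype.linearCombination A c
  have he : ∀ n x j, π n (e x j) = s n (F n (fun i => π n (x i))) j := by
    intro n x j
    simp [e, F, Fintype.linearCombination_apply, Finset.sum_apply, map_sum, hc]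
  have hee : ∀ x, e (e x) = e x := by
    intro x
    funext j
    refine hA.2.1 _ _ fun n => ?_
    rw [he, funext (he n x), hs, he]
  let p : ∀ n, ↥(LinearMap.range e) →ₛₗ[π n] M n := fun n =>
    { toFun := fun q => F n (fun i => π n (q.1 i))
      map_add' := fun a b => by
        rw [← map_add]; congr 1; ext i; simp
      map_smul' := fun a b => by
        rw [← map_smul]; congr 1; ext i; simp }
  have hpq : ∀ n (q : ↥(LinearMap.range e)) j, π n (q.1 j) = s n (p n q) j := by
    intro n q j
    obtain ⟨x, hx⟩ := q.2
    change π n (q.1 j) = s n (F n fun i => π n (q.1 i)) j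
    rw [← he n q.1 j, ← hx, hee]
  refine ⟨↥(LinearMap.range e), inferInstance, inferInstance, p, inferInstance,
    Module.Projective.of_split (LinearMap.range e).subtype e.rangeRestrict ?_, ?_, ?_, ?_⟩
  · ext ⟨_, x, rfl⟩ : 1
    exact Subtype.ext (hee x)
  · intro n q
    change u n (F (n + 1) _) = F n _
    rw [comb_comp]
    simp only [hgu, hπt]
    rfl
  · intro n
    constructor
    · intro m
      obtain ⟨y, rfl⟩ := hF n m
      choose x hx using fun i => hπs n (y i)
      refine ⟨⟨e x, x, rfl⟩, ?_⟩
      change F n (fun i => π n (e x i)) = _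
      rw [funext (he n x), hs, funext hx]
    · refine le_antisymm (fun q hq => ?_) (Submodule.smul_le.2 fun a ha q _ => ?_)
      · have h0 : ∀ j, π n (q.1 j) = 0 := fun j => by
          rw [hpq, LinearMap.mem_ker.1 hq, map_zero]; rfl
        have : q = ∑ j, q.1 j • (⟨e (Pi.single j 1), _, rfl⟩ : ↥(LinearMap.range e)) := by
          obtain ⟨_, x, rfl⟩ := q
          apply Subtype.ext
          rw [Submodule.coe_sum]
          have h1 : e (∑ j, e x j • Pi.single j 1) = e x := by
            rw [← pi_eq_sum_univ' (e x), hee]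
          conv_lhs => rw [show ((⟨e x, x, rfl⟩ : ↥(LinearMap.range e)) : Fin r → A) = e x from rfl, ← h1, map_sum]
          simp
        rw [this]
        exact Submodule.sum_mem _ fun j _ => Submodule.smul_mem_smul (RingHom.mem_ker.2 (h0 j)) trivial
      · rw [LinearMap.mem_ker, map_smulₛₗ, RingHom.mem_ker.1 ha, zero_smul]
  · intro x hx
    choose q hq using fun j => hlim (fun n => s n (x n) j) (fun n => by rw [hst, hx])
    have heq : e q = q := by
      funext j
      refine hA.2.1 _ _ fun n => ?_
      rw [he, show (fun i => π n (q i)) = s n (x n) from funext fun i => hq i n, hs, hq]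
    refine ⟨⟨q, q, heq⟩, fun n => ?_, fun q' hq' => ?_⟩
    · change F n (fun i => π n (q i)) = _
      rw [show (fun i => π n (q i)) = s n (x n) from funext fun i => hq i n, hs]
    · apply Subtype.ext
      funext j
      refine hA.2.1 _ _ fun n => ?_
      rw [hpq, hq' n, hq]

end Groth.Agent.S6923
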