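import Groth.Statements.S6924
import Groth.Agent.FittLib.Torsion
import Groth.Agent.S6892
import Groth.Agent.S6895

set_option autoImplicit false
universe u
open TensorProduct
open Fitt Groth.Agent

namespace Groth.Agent.S6924

/-- Let `M` be a finite `R`-module and `f ∈ R` such that every prime of `D(f)` has a basic open
neighbourhood `D(g) ⊆ D(f)` with `M_g` free of rank `r` (in other words `M_f` is, locally on `D(f)`,
free of rank `r`). Then there is a finitely generated ideal `I ⊆ R` with `V(I) = V(f)` such that for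
every `a ∈ I` and (a copy `R₁` of) the affine blow-up algebra `R[I/a]`, the strict transform `(M ⊗_R
R₁)/(a-power torsion)` is finite locally free of rank `r` over `R₁`. -/
theorem result {R : Type u} [CommRing R] (M : Type u) [AddCommGroup M]
    [Module R M] [Module.Finite R M] (f : R) (r : ℕ)
    (hf : ∀ (p : Ideal R) [p.IsPrime], f ∉ p → ∃ g : R, g ∉ p ∧ g ∈ (Ideal.span {f}).radical ∧
      Module.Free (Localization.Away g) (LocalizedModule (Submonoid.powers g) M) ∧
        Module.finrank (Localization.Away g) (LocalizedModule (Submonoid.powers g) M) = r) :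
    ∃ I : Ideal R, I.FG ∧ I.radical = (Ideal.span {f}).radical ∧ ∀ a ∈ I, ∀ (R₁ : Type u) [CommRing R₁] [Algebra R R₁] (e : R₁ ≃ₐ[R] ↥(BlowUp.affineAlgebra R I a)),
      ∀ (p' : Ideal R₁) [p'.IsPrime], ∃ g : R₁, g ∉ p' ∧
        Module.Free (Localization.Away g) (LocalizedModule (Submonoid.powers g) ((R₁ ⊗[R] M) ⧸ FlatCA.powTorsion R₁ (algebraMap R R₁ a) (R₁ ⊗[R] M))) ∧
        Module.finrank (Localization.Away g) (LocalizedModule (Submonoid.powers g) ((R₁ ⊗[R] M) ⧸ FlatCA.powTorsion R₁ (algebraMap R R₁ a) (R₁ ⊗[R] M))) = r := by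
  classical
  have hrad : f ∈ (Fitt.ideal R M r).radical := by
    rw [Ideal.radical_eq_sInf, Submodule.mem_sInf]
    rintro p ⟨hle, hp⟩
    by_contra hfp
    haveI := hp
    obtain ⟨g, hgp, -, hfree, hrk⟩ := hf p hfp
    haveI : Module.Finite (Localization.Away g) (LocalizedModule (Submonoid.powers g) M) :=
      Module.Finite.equiv (LocalizedModule.equivTensorProduct (Submonoid.powers g) M).symm
    rcases subsingleton_or_nontrivial (Localization.Away g) with hs | hs
    · obtain ⟨t, ht⟩ := (IsLocalization.subsingleton_iff (M := Submonoid.powers g)).mp hs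
      exact hgp (hp.mem_of_pow_mem t (by rw [show g ^ t = 0 from ht]; exact p.zero_mem))
    let b := Module.finBasisOfFinrankEq (Localization.Away g) (LocalizedModule (Submonoid.powers g) M) hrk
    have h1 : Fitt.ideal (Localization.Away g) (LocalizedModule (Submonoid.powers g) M) r = ⊤ :=
      FittLib.ideal_eq_top_of_generators b b.span_eq (by simp)
    rw [FittLib.ideal_localizedModule] at h1
    exact (IsLocalization.map_algebraMap_ne_top_iff_disjoint (Submonoid.powers g) (Localization.Away g) _).2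
      (((Ideal.disjoint_powers_iff_notMem_of_isPrime (I := p) g).2 hgp).mono_right hle) h1
  obtain ⟨m, hm⟩ := hrad
  obtain ⟨n, x, hx⟩ := FittLib.exists_generators R M
  rw [FittLib.ideal_eq_minors_fin x hx] at hm
  obtain ⟨G, hGfg, hGle, hmG⟩ : ∃ G : Submodule R (Fin n → R), G.FG ∧ G ≤ FittLib.rel R x ∧
      f ^ m ∈ Ideal.span {d | ∃ (z : Fin (n - r) → Fin n → R) (e : Fin (n - r) → Fin n),
        (∀ j, z j ∈ G) ∧ d = FittLib.minor z e} := by
    unfold FittLib.minors at hm
    generalize f ^ m = w at hm ⊢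
    induction hm using Submodule.span_induction with
    | mem d hd =>
      obtain ⟨z, e, hz, rfl⟩ := hd
      exact ⟨Submodule.span R (Set.range z), Submodule.fg_span (Set.finite_range z),
        Submodule.span_le.2 (Set.range_subset_iff.2 hz),
        Ideal.subset_span ⟨z, e, fun j => Submodule.subset_span ⟨j, rfl⟩, rfl⟩⟩
    | zero => exact ⟨⊥, Submodule.fg_bot, bot_le, Submodule.zero_mem _⟩
    | add a b _ _ ha hb =>
      obtain ⟨G, hG, hG', haG⟩ := ha
      obtain ⟨H, hH, hH', hbH⟩ := hb
      refine ⟨G ⊔ H, hG.sup hH, sup_le hG' hH', Submodule.add_mem _ (Ideal.span_mono ?_ haG)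
        (Ideal.span_mono ?_ hbH)⟩
      · rintro d ⟨z, e, hz, rfl⟩
        exact ⟨z, e, fun j => Submodule.mem_sup_left (hz j), rfl⟩
      · rintro d ⟨z, e, hz, rfl⟩
        exact ⟨z, e, fun j => Submodule.mem_sup_right (hz j), rfl⟩
    | smul c a _ ha =>
      obtain ⟨G, hG, hG', haG⟩ := ha
      exact ⟨G, hG, hG', Submodule.smul_mem _ c haG⟩
  let N := (Fin n → R) ⧸ G
  haveI : Module.FinitePresentation R N :=
    Module.finitePresentation_of_surjective G.mkQ G.mkQ_surjective (by rw [Submodule.ker_mkQ]; exact hGfg)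
  let xN : Fin n → N := fun i => G.mkQ (Pi.single i 1)
  have hcomb : ∀ z : Fin n → R, ∑ i, z i • xN i = G.mkQ z := fun z => by
    simp only [xN, ← map_smul, ← map_sum]
    exact congrArg _ (by ext j; simp [Pi.single_apply])
  have hxN : Submodule.span R (Set.range xN) = ⊤ := by
    rw [eq_top_iff]
    rintro q -
    obtain ⟨z, rfl⟩ := G.mkQ_surjective q
    rw [← hcomb]
    exact Submodule.sum_mem _ fun i _ => Submodule.smul_mem _ _ (Submodule.subset_span ⟨i, rfl⟩)
  have hrel : FittLib.rel R xN = G := by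
    ext z
    rw [FittLib.mem_rel, hcomb, Submodule.mkQ_apply, Submodule.Quotient.mk_eq_zero]
  have hfN : f ^ m ∈ Fitt.ideal R N r := by
    rw [FittLib.ideal_eq_minors_fin xN hxN]
    unfold FittLib.minors
    rw [hrel]
    exact hmG
  let π : N →ₗ[R] M := G.liftQ (Fintype.linearCombination R x) hGle
  have hπ : Function.Surjective π := by
    rw [← LinearMap.range_eq_top, Submodule.range_liftQ, Fintype.range_linearCombination, hx]
  refine ⟨Ideal.span {f} * Fitt.ideal R N r,
    (Submodule.fg_span_singleton f).mul ((S6892.result N N r).2.1 inferInstance), ?_, ?_⟩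
  · rw [Ideal.radical_mul, inf_eq_left]
    exact Ideal.radical_le_radical_iff.2 (Ideal.span_le.2 (Set.singleton_subset_iff.2 ⟨m, hfN⟩))
  intro a ha R₁ _ _ e
  set I := Ideal.span {f} * Fitt.ideal R N r with hI
  set a₁ := algebraMap R R₁ a
  have hnzd : a₁ ∈ nonZeroDivisors R₁ := by
    rw [mem_nonZeroDivisors_iff_right]
    intro y hy
    apply e.injective
    rw [map_zero]
    apply Subtype.ext
    have := congrArg (fun t => ((e t : BlowUp.affineAlgebra R I a) : Localization.Away a)) hy
    simp only [map_mul, map_zero, MulMemClass.coe_mul, ZeroMemClass.coe_zero, a₁,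
      AlgEquiv.commutes, Subalgebra.coe_algebraMap] at this ⊢
    exact (IsLocalization.map_units (Localization.Away a)
      (⟨a, Submonoid.mem_powers a⟩ : Submonoid.powers a)).mul_left_eq_zero.mp this
  have hIa : I.map (algebraMap R R₁) = Ideal.span {a₁} := by
    apply le_antisymm
    · rw [Ideal.map_le_iff_le_comap]
      intro y hy
      rw [Ideal.mem_comap, Ideal.mem_span_singleton']
      have hy' : IsLocalization.mk' (Localization.Away a) y ⟨a, Submonoid.mem_powers a⟩ ∈
          BlowUp.affineAlgebra R I a := Algebra.subset_adjoin ⟨y, hy, rfl⟩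
      refine ⟨e.symm ⟨_, hy'⟩, e.injective (Subtype.ext ?_)⟩
      simp [a₁, IsLocalization.mk'_spec]
    · rw [Ideal.span_le, Set.singleton_subset_iff]
      exact Ideal.mem_map_of_mem _ ha
  set f₁ := algebraMap R R₁ f with hf₁
  set J := (Fitt.ideal R N r).map (algebraMap R R₁) with hJ
  have hfJ : Ideal.span {f₁} * J = Ideal.span {a₁} := by
    rw [← hIa, hI, Ideal.map_mul, Ideal.map_span, Set.image_singleton]
  obtain ⟨c, hcJ, hca⟩ := Ideal.mem_span_singleton_mul.mp
    (hfJ.ge (Ideal.mem_span_singleton_self a₁))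
  have hnz : c ∈ nonZeroDivisors R₁ ∧ f₁ ∈ nonZeroDivisors R₁ :=
    (mul_mem_nonZeroDivisors.mp (hca.symm ▸ hnzd)).symm
  have hJc : Fitt.ideal R₁ (R₁ ⊗[R] N) r = Ideal.span {c} := by
    rw [FittLib.ideal_baseChange]
    refine le_antisymm (fun j hj => ?_) (Ideal.span_le.2 (Set.singleton_subset_iff.2 hcJ))
    obtain ⟨u, hu⟩ := Ideal.mem_span_singleton'.mp
      (hfJ.le (Ideal.mul_mem_mul (Ideal.mem_span_singleton_self f₁) hj))
    refine Ideal.mem_span_singleton'.mpr ⟨u, ?_⟩
    refine mul_cancel_left_mem_nonZeroDivisors hnz.2 |>.mp ?_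
    rw [← hu, ← hca]
    ring
  set T := FlatCA.powTorsion R₁ a₁ (R₁ ⊗[R] M) with hT
  set TN := FlatCA.powTorsion R₁ a₁ (R₁ ⊗[R] N) with hTN
  have htopN : Fitt.ideal R₁ ((R₁ ⊗[R] N) ⧸ TN) r = ⊤ :=
    FittLib.ideal_quotient_eq_top hnz.1 hJc _ fun y hy =>
      Submodule.mem_iSup_of_mem 1 (by simp [Submodule.mem_torsionBy_iff, ← hca, mul_smul, hy])
  have htop : Fitt.ideal R₁ ((R₁ ⊗[R] M) ⧸ T) r = ⊤ := by
    refine top_le_iff.mp (htopN ▸ FittLib.ideal_le_of_surjective
      (Submodule.mapQ TN T (π.baseChange R₁) ?_) ?_ r)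
    · refine iSup_le fun t y hy => Submodule.mem_iSup_of_mem t ?_
      rw [Submodule.mem_torsionBy_iff] at hy ⊢
      rw [← map_smul, hy, map_zero]
    · intro q
      obtain ⟨q, rfl⟩ := T.mkQ_surjective q
      obtain ⟨y, rfl⟩ := LinearMap.baseChange_surjective (A := R₁) (g := π) hπ q
      exact ⟨TN.mkQ y, rfl⟩
  have hbot : ∀ j, j < r → Fitt.ideal R₁ (R₁ ⊗[R] M) j = ⊥ := by
    intro j hj
    rw [FittLib.ideal_baseChange, Ideal.map_eq_bot_iff_le_ker]
    intro d hd
    by_contra hne
    have : ∀ t : ℕ, a ^ t * d ≠ 0 := by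
      intro t ht
      apply hne
      rw [RingHom.mem_ker]
      refine (mem_nonZeroDivisors_iff.mp (pow_mem hnzd t)).1 _ ?_
      rw [← map_pow, ← map_mul, ht, map_zero]
    obtain ⟨p, hp, hdp, hdisj⟩ := Ideal.exists_le_prime_disjoint (Ideal.torsionOf R R d)
      (Submonoid.powers a) (by
        rw [Set.disjoint_left]
        rintro _ hmem ⟨t, rfl⟩
        exact this t (by simpa [Ideal.mem_torsionOf_iff] using hmem))
    have hap : a ∉ p := fun h => Set.disjoint_left.mp hdisj h (Submonoid.mem_powers a)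
    have hfp : f ∉ p := fun h => hap ((Ideal.mul_le_left.trans ((Ideal.span_singleton_le_iff_mem p).2 h)) ha)
    obtain ⟨g, hgp, -, hfr, hrk⟩ := hf p hfp
    rcases subsingleton_or_nontrivial (Localization.Away g) with hs | hs
    · obtain ⟨t, ht⟩ := (IsLocalization.subsingleton_iff (M := Submonoid.powers g)).mp hs
      exact hgp (hp.mem_of_pow_mem t (by rw [show g ^ t = 0 from ht]; exact p.zero_mem))
    haveI : Module.Finite (Localization.Away g) (LocalizedModule (Submonoid.powers g) M) :=
      Module.Finite.equiv (LocalizedModule.equivTensorProduct (Submonoid.powers g) M).symm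
    let b := Module.finBasisOfFinrankEq (Localization.Away g) (LocalizedModule (Submonoid.powers g) M) hrk
    have h0 := Ideal.mem_map_of_mem (algebraMap R (Localization.Away g)) hd
    rw [← FittLib.ideal_localizedModule, FittLib.ideal_eq_minors_fin b b.span_eq] at h0
    have h1 : algebraMap R (Localization.Away g) d = 0 := by
      refine Ideal.mem_bot.mp (FittLib.minors_le (I := ⊥) (fun z e hz => ?_) h0)
      rw [Ideal.mem_bot]
      exact Matrix.det_eq_zero_of_column_eq_zero ⟨0, by omega⟩ fun i => by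
        simp [funext (Fintype.linearIndependent_iff.mp b.linearIndependent (z ⟨0, by omega⟩)
          (FittLib.mem_rel.mp (hz ⟨0, by omega⟩)))]
    rw [IsLocalization.map_eq_zero_iff (Submonoid.powers g)] at h1
    obtain ⟨⟨_, t, rfl⟩, htc⟩ := h1
    exact hgp (hp.mem_of_pow_mem t (hdp (by simpa [Ideal.mem_torsionOf_iff] using htc)))
  intro p' _
  refine (S6895.result ((R₁ ⊗[R] M) ⧸ T) r).mpr ⟨fun j hj => ?_, fun j hj => ?_⟩ p'
  · exact FittLib.ideal_quotient_powTorsion_eq_bot hnzd (hbot j hj)
  · obtain ⟨n', y, hy⟩ := FittLib.exists_generators R₁ ((R₁ ⊗[R] M) ⧸ T)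
    rw [FittLib.ideal_eq_minors_fin y hy] at htop ⊢
    exact top_le_iff.mp (htop ▸ FittLib.minors_antitone y (by omega))

end Groth.Agent.S6924
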