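import Groth.Statements.S6928
import Groth.Agent.FlatDesc6928.Points
import Groth.Agent.FlatSpread.Sys

set_option linter.style.haveILetI false
set_option backward.isDefEq.respectTransparency false

set_option autoImplicit false
universe u
open FlatMor

namespace Groth.Agent.S6928

open MvPolynomial FlatSpread FlatDesc6928

/-- Elements of the ideal generated by the image are images up to denominators. -/
theorem exists_of_mem_map {R S M : Type u} [CommRing R] [CommRing S] [Algebra R S] [AddCommGroup M]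
    [Module S M] {n b : ℕ} {U : Submonoid (MvPolynomial (Fin n) R)}
    {W : Submodule (MvPolynomial (Fin n) R) (Fin b → MvPolynomial (Fin n) R)} {xs : Fin n → S} {ms : Fin b → M}
    (h : Pres U W xs ms) (𝔞 : Ideal (MvPolynomial (Fin n) R)) {s : S}
    (hs : s ∈ 𝔞.map (aeval xs : MvPolynomial (Fin n) R →ₐ[R] S)) :
    ∃ p ∈ 𝔞, ∃ v ∈ U, s * aeval xs v = aeval xs p := by
  induction hs using Submodule.span_induction with
  | mem x hx =>
    obtain ⟨p, hp, rfl⟩ := hx
    exact ⟨p, hp, 1, one_mem _, by simp⟩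
  | zero => exact ⟨0, zero_mem _, 1, one_mem _, by simp⟩
  | add x y _ _ ih ih' =>
    obtain ⟨p, hp, v, hv, e⟩ := ih
    obtain ⟨p', hp', v', hv', e'⟩ := ih'
    refine ⟨p * v' + p' * v, add_mem (Ideal.mul_mem_right _ _ hp) (Ideal.mul_mem_right _ _ hp'), v * v',
      mul_mem hv hv', ?_⟩
    simp only [map_add, map_mul, ← e, ← e']
    ring
  | smul c x _ ih =>
    obtain ⟨p, hp, v, hv, e⟩ := ih
    obtain ⟨q, v', hv', e'⟩ := h.surj c
    refine ⟨q * p, Ideal.mul_mem_left _ _ hp, v' * v, mul_mem hv' hv, ?_⟩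
    simp only [smul_eq_mul, map_mul, ← e, ← e']
    ring

/-- The criterion for the multiplicative set of elements invertible along a closed subset. -/
theorem fl_of_forall {R S M : Type u} [CommRing R] [CommRing S] [Algebra R S] [AddCommGroup M]
    [Module S M] [Module R M] [IsScalarTower R S M] {n b : ℕ} {U : Submonoid (MvPolynomial (Fin n) R)}
    {W : Submodule (MvPolynomial (Fin n) R) (Fin b → MvPolynomial (Fin n) R)} {xs : Fin n → S} {ms : Fin b → M}
    (h : Pres U W xs ms) (𝔟 : Ideal S) (hfl : ∀ (q : Ideal S) [q.IsPrime], 𝔟 ≤ q → FlatCA.FlatAt R q M) :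
    Fl (⊥ : Ideal R) ((IsUnit.submonoid (S ⧸ 𝔟)).comap
      ((Ideal.Quotient.mk 𝔟).comp (aeval xs : MvPolynomial (Fin n) R →ₐ[R] S).toRingHom)) W := by
  intro J hJ w hw hwJ
  let 𝔞 : Ideal (MvPolynomial (Fin n) R) :=
    Submodule.comap (LinearMap.toSpanSingleton _ _ w) (J.map (C : R →+* MvPolynomial (Fin n) R) • W ⊔ cf ⊥)
  have htop : 𝔞.map (aeval xs : MvPolynomial (Fin n) R →ₐ[R] S) ⊔ 𝔟 = ⊤ := by
    by_contra hne
    obtain ⟨q, hq, hle⟩ := Ideal.exists_le_maximal _ hne
    haveI : q.IsPrime := hq.isPrime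
    obtain ⟨s, hs, hsw⟩ := (h.flatAt_iff q).mp (hfl q (le_sup_right.trans hle)) J hJ w hw hwJ
    exact hs (hle (Submodule.mem_sup_left (Ideal.mem_map_of_mem _ (show s ∈ 𝔞 from hsw))))
  obtain ⟨a, ha, e, he, hae⟩ := Submodule.mem_sup.mp ((Ideal.eq_top_iff_one _).mp htop)
  obtain ⟨p, hp, v, hv, hpv⟩ := exists_of_mem_map h 𝔞 ha
  refine ⟨p, ?_, hp⟩
  change IsUnit (Ideal.Quotient.mk 𝔟 (aeval xs p))
  rw [← hpv, map_mul, show Ideal.Quotient.mk 𝔟 a = 1 from by
    rw [← map_one (Ideal.Quotient.mk 𝔟), Ideal.Quotient.eq, ← hae, sub_add_cancel_left]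
    exact neg_mem he, one_mul]
  exact (h.units v hv).map _

/-- Let `R → S` be a ring map that is essentially of finite presentation, `J ⊆ S` an ideal and `M` a
finitely presented `S`-module. Let `(R_λ)` be a directed system of `R`-algebras with colimit `R'`,
and `I_λ ⊆ R_λ` ideals with `I_λ R_μ ⊆ I_μ`, `I' = colim I_λ`, `S' = S ⊗_R R'`, `M' = M ⊗_R R'`. If
`M'_{𝔮'}` is flat over `R'` for every prime `𝔮' ⊇ I'S' + JS'`, then there is `λ` such that, with
`S_λ = S ⊗_R R_λ` and `M_λ = M ⊗_R R_λ`, `(M_λ)_𝔮` is flat over `R_λ` for every prime `𝔮 ⊇ I_λ S_λ +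
J S_λ`. -/
theorem result {R S : Type u} [CommRing R] [CommRing S] [Algebra R S] (hS : FlatCA.EssFinitePresentation R S)
    {M : Type u} [AddCommGroup M] [Module S M] [Module R M] [IsScalarTower R S M] [Module.FinitePresentation S M]
    {ι : Type u} [Preorder ι] (G : ι → Type u) [∀ i, CommRing (G i)] [∀ i, Algebra R (G i)]
    (g : ∀ i j, i ≤ j → G i →+* G j) (hgR : ∀ i j (h : i ≤ j), (g i j h).comp (algebraMap R (G i)) = algebraMap R (G j))
    (R' : Type u) [CommRing R'] [Algebra R R'] [∀ i, Algebra (G i) R'] [∀ i, IsScalarTower R (G i) R']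
    (hcolim : FlatCA.IsDirectedColimitRing G g R')
    (Il : ∀ i, Ideal (G i)) (hIl : ∀ i j (h : i ≤ j), (Il i).map (g i j h) ≤ Il j)
    {S' : Type u} [CommRing S'] [Algebra S S'] [Algebra R' S'] [Algebra R S'] [IsScalarTower R S S']
    [IsScalarTower R R' S'] [Algebra.IsPushout R S R' S']
    {M' : Type u} [AddCommGroup M'] [Module S' M'] [Module R' M'] [IsScalarTower R' S' M'] [Module S M']
    [IsScalarTower S S' M'] (f : M →ₗ[S] M') (hf : IsBaseChange S' f)
    (J : Ideal S)
    (h : ∀ (q' : Ideal S') [q'.IsPrime],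
      (⨆ i, (Il i).map (algebraMap (G i) R')).map (algebraMap R' S') ⊔ J.map (algebraMap S S') ≤ q' →
        FlatCA.FlatAt R' q' M') :
    ∃ i : ι, ∀ (Si Mi : Type u) [CommRing Si] [Algebra S Si] [Algebra (G i) Si] [Algebra R Si] [IsScalarTower R S Si]
      [IsScalarTower R (G i) Si] [Algebra.IsPushout R S (G i) Si] [AddCommGroup Mi] [Module Si Mi] [Module (G i) Mi]
      [IsScalarTower (G i) Si Mi] [Module S Mi] [IsScalarTower S Si Mi] (fi : M →ₗ[S] Mi), IsBaseChange Si fi →
      ∀ (q : Ideal Si) [q.IsPrime], (Il i).map (algebraMap (G i) Si) ⊔ J.map (algebraMap S Si) ≤ q → FlatCA.FlatAt (G i) q Mi := by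
  classical
  obtain ⟨hdir, hne, hgid, hgcomp, hgA, hgs, hgk⟩ := hcolim
  haveI := hne
  obtain ⟨n, b, U, W, xs, ms, hWfg, hP⟩ := exists_pres (M := M) hS
  have hPA := hP.baseChange (G := R') f hf
  let πA : MvPolynomial (Fin n) R' →ₐ[R'] S' := aeval fun i => algebraMap S S' (xs i)
  let I' : Ideal R' := ⨆ i, (Il i).map (algebraMap (G i) R')
  let II : Ideal S' := I'.map (algebraMap R' S') ⊔ J.map (algebraMap S S')
  let K₀ : Ideal (MvPolynomial (Fin n) R) := J.comap (aeval xs : MvPolynomial (Fin n) R →ₐ[R] S)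
  let aA : MvPolynomial (Fin n) R →+* MvPolynomial (Fin n) R' := MvPolynomial.map (algebraMap R R')
  let EA : Ideal (MvPolynomial (Fin n) R') := I'.map C ⊔ K₀.map aA
  have hcompA : ∀ p, πA (aA p) = algebraMap S S' (aeval xs p) := fun p => by
    rw [show πA (aA p) = aeval (fun i => algebraMap S S' (xs i)) p from
      MvPolynomial.aeval_map_algebraMap R' _ p]
    exact MvPolynomial.aeval_algebraMap_apply (R := R) (B := S') xs p
  -- flatness at a stage near the closed subset
  let sys : FlatSpread.Sys.{u, u} (algebraMap R R') :=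
    { J := ι
      G := G
      a := fun i => algebraMap R (G i)
      ψ := fun i => algebraMap (G i) R'
      fac := fun i => (IsScalarTower.algebraMap_eq R (G i) R').symm
      nonempty := hne
      lift := fun j x => by
        obtain ⟨i, y, hy⟩ := hgs x
        obtain ⟨k, hjk, hik⟩ := hdir.directed j i
        refine ⟨k, g j k hjk, hgA j k hjk, hgR j k hjk, g i k hik y, ?_⟩
        rw [← RingHom.comp_apply, hgA]
        exact hy
      eq := fun j y hy => by
        obtain ⟨k, hjk, hk⟩ := hgk j y hy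
        exact ⟨k, g j k hjk, hgA j k hjk, hgR j k hjk, hk⟩ }
  obtain ⟨j, g₀, hg₀, hfl₀⟩ := sys.exists_fl hWfg (fl_of_forall hPA II fun q _ hq => h q hq)
  change IsUnit (Ideal.Quotient.mk II (πA (MvPolynomial.map (algebraMap (G j) R') g₀))) at hg₀
  -- an equation for the unit
  obtain ⟨c, u, hu, hcu⟩ : ∃ c : MvPolynomial (Fin n) R', ∃ u ∈ U,
      MvPolynomial.map (algebraMap (G j) R') g₀ * c - aA u ∈ EA := by
    set gA := MvPolynomial.map (algebraMap (G j) R') g₀
    obtain ⟨z, hz⟩ := hg₀.exists_right_inv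
    obtain ⟨y, rfl⟩ := Ideal.Quotient.mk_surjective z
    rw [← map_mul, ← map_one (Ideal.Quotient.mk II), Ideal.Quotient.eq] at hz
    obtain ⟨c, _, ⟨v, hv, rfl⟩, hc⟩ := hPA.surj y
    have hle : II ≤ EA.map πA := by
      refine sup_le (Ideal.map_le_iff_le_comap.mpr fun a ha => ?_) (Ideal.map_le_iff_le_comap.mpr fun a ha => ?_)
      · have := Ideal.mem_map_of_mem πA (show C a ∈ EA from Submodule.mem_sup_left (Ideal.mem_map_of_mem _ ha))
        rwa [aeval_C] at this
      · obtain ⟨p, w, hw, hpw⟩ := hP.surj a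
        have hp : πA (aA p) ∈ EA.map πA := Ideal.mem_map_of_mem πA (Submodule.mem_sup_right
          (Ideal.mem_map_of_mem _ (show aeval xs p ∈ J from hpw ▸ J.mul_mem_right _ ha)))
        rw [hcompA, ← hpw, map_mul] at hp
        exact (Ideal.mul_unit_mem_iff_mem (EA.map πA) ((hP.units w hw).map (algebraMap S S'))).mp hp
    have hmem : πA (gA * c - aA v) ∈ II := by
      have := II.mul_mem_right (πA (aA v)) hz
      rw [sub_mul, one_mul, mul_assoc, show y * πA (aA v) = πA c from hc] at this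
      rwa [map_sub, map_mul]
    obtain ⟨e, he, _, ⟨v', hv', rfl⟩, hev⟩ := exists_of_mem_map hPA EA (hle hmem)
    -- the kernel of `πA`
    have hP1 : Pres (M := S) U (Submodule.comap (LinearEquiv.funUnique (Fin 1) (MvPolynomial (Fin n) R)
        (MvPolynomial (Fin n) R)).toLinearMap (RingHom.ker (aeval xs : MvPolynomial (Fin n) R →ₐ[R] S)))
        xs (fun _ => (1 : S)) :=
      { units := hP.units
        surj := hP.surj
        surjMod := fun s => by
          obtain ⟨p, w, hw, hpw⟩ := hP.surj s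
          exact ⟨fun _ => p, w, hw, by simp [← hpw, mul_comm]⟩
        rel := fun w hw => by
          have : aeval xs (w 0) = 0 := hw
          simp [this]
        sat := fun x hx => ⟨1, one_mem _, by
          rw [one_smul]
          show aeval xs (x 0) = 0
          simpa using hx⟩ }
    have hPA1 := hP1.baseChange (G := R') (S' := S') (Algebra.linearMap S S') (IsBaseChange.linearMap S S')
    obtain ⟨_, ⟨v'', hv'', rfl⟩, hker⟩ := hPA1.sat (fun _ => (gA * c - aA v) * aA v' - e) (by
      simpa [map_sub, map_mul, sub_eq_zero] using! hev)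
    rw [ext_comap_funUnique] at hker
    have hk : aA v'' * ((gA * c - aA v) * aA v' - e) ∈ EA :=
      Submodule.mem_sup_right (Ideal.map_mono (fun p hp => show aeval xs p ∈ J by
        rw [show aeval xs p = 0 from hp]; exact J.zero_mem) hker)
    refine ⟨c * aA v' * aA v'', v * v' * v'', mul_mem (mul_mem hv hv') hv'', ?_⟩
    have h2 := EA.add_mem hk (EA.mul_mem_left (aA v'') he)
    convert h2 using 1
    simp only [map_mul]
    ring
  -- descend the equation
  let Et : ∀ k, Ideal (MvPolynomial (Fin n) (G k)) := fun k =>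
    (Il k).map C ⊔ K₀.map (MvPolynomial.map (algebraMap R (G k)))
  have hEt : ∀ i k (hik : i ≤ k), (Et i).map (MvPolynomial.map (g i k hik)) ≤ Et k := by
    intro i k hik
    rw [Ideal.map_sup, Ideal.map_map, Ideal.map_map]
    refine sup_le_sup ?_ (le_of_eq ?_)
    · rw [show (MvPolynomial.map (g i k hik)).comp (C : G i →+* MvPolynomial (Fin n) (G i)) =
        (C : G k →+* _).comp (g i k hik) from RingHom.ext fun a => MvPolynomial.map_C _ a, ← Ideal.map_map]
      exact Ideal.map_mono (hIl i k hik)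
    · rw [show (MvPolynomial.map (g i k hik)).comp (MvPolynomial.map (algebraMap R (G i))) =
        MvPolynomial.map (algebraMap R (G k)) from RingHom.ext fun a => by
          rw [RingHom.comp_apply, MvPolynomial.map_map, hgR]]
  let ψ : ∀ k, MvPolynomial (Fin n) (G k) →+* MvPolynomial (Fin n) R' := fun k =>
    MvPolynomial.map (algebraMap (G k) R')
  have hψ : ∀ i k (hik : i ≤ k) p, ψ k (MvPolynomial.map (g i k hik) p) = ψ i p := fun i k hik p => by
    change MvPolynomial.map _ _ = MvPolynomial.map _ p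
    rw [MvPolynomial.map_map, hgA]
  have hlift : ∀ (p : MvPolynomial (Fin n) R') (j : ι), ∃ k, j ≤ k ∧ ∃ y, ψ k y = p := by
    intro p
    induction p using MvPolynomial.induction_on' with
    | monomial β a =>
      intro j
      obtain ⟨i, x, rfl⟩ := hgs a
      obtain ⟨k, hjk, hik⟩ := hdir.directed j i
      refine ⟨k, hjk, monomial β (g i k hik x), ?_⟩
      change MvPolynomial.map _ _ = _
      rw [map_monomial, ← RingHom.comp_apply, hgA]
    | add p p' ih ih' =>
      intro j
      obtain ⟨k, hjk, y, rfl⟩ := ih j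
      obtain ⟨l, hkl, y', rfl⟩ := ih' k
      exact ⟨l, hjk.trans hkl, MvPolynomial.map (g k l hkl) y + y', by rw [map_add, hψ]⟩
  let L : Ideal (MvPolynomial (Fin n) R') :=
    { carrier := {p | ∀ j, ∃ k, j ≤ k ∧ ∃ y ∈ Et k, ψ k y = p}
      zero_mem' := fun j => ⟨j, le_rfl, 0, zero_mem _, map_zero _⟩
      add_mem' := fun {p p'} hp hp' j => by
        obtain ⟨k, hjk, y, hy, rfl⟩ := hp j
        obtain ⟨l, hkl, y', hy', rfl⟩ := hp' k
        exact ⟨l, hjk.trans hkl, _, add_mem (hEt k l hkl (Ideal.mem_map_of_mem _ hy)) hy', by rw [map_add, hψ]⟩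
      smul_mem' := fun r {p} hp j => by
        obtain ⟨k, hjk, y, hy, rfl⟩ := hp j
        obtain ⟨l, hkl, r', rfl⟩ := hlift r k
        exact ⟨l, hjk.trans hkl, _, Ideal.mul_mem_left _ r' (hEt k l hkl (Ideal.mem_map_of_mem _ hy)),
          by rw [map_mul, hψ, smul_eq_mul]⟩ }
  have hEL : EA ≤ L := by
    refine sup_le ?_ (Ideal.map_le_iff_le_comap.mpr fun p hp j => ?_)
    · rw [Ideal.map_iSup, iSup_le_iff]
      intro i
      rw [Ideal.map_map, Ideal.map_le_iff_le_comap]
      intro a ha j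
      obtain ⟨k, hjk, hik⟩ := hdir.directed j i
      refine ⟨k, hjk, C (g i k hik a), Submodule.mem_sup_left (Ideal.mem_map_of_mem _
        (hIl i k hik (Ideal.mem_map_of_mem _ ha))), ?_⟩
      change MvPolynomial.map _ _ = C (algebraMap (G i) R' a)
      exact (map_C _ _).trans (congrArg C (RingHom.congr_fun (hgA i k hik) a))
    · refine ⟨j, le_rfl, _, Submodule.mem_sup_right (Ideal.mem_map_of_mem _ hp), ?_⟩
      change MvPolynomial.map _ _ = MvPolynomial.map _ p
      rw [MvPolynomial.map_map, ← IsScalarTower.algebraMap_eq]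
  obtain ⟨k₁, hjk₁, c', hc'⟩ := hlift c j
  obtain ⟨k₂, hk₁₂, y, hy, hy'⟩ := hEL hcu k₁
  let d := MvPolynomial.map (g j k₂ (hjk₁.trans hk₁₂)) g₀ * MvPolynomial.map (g k₁ k₂ hk₁₂) c' -
    MvPolynomial.map (algebraMap R (G k₂)) u - y
  have hd : ψ k₂ d = 0 := by
    simp only [d, map_sub, map_mul, hψ, hc', hy']
    change ψ j g₀ * c - MvPolynomial.map (algebraMap (G k₂) R') (MvPolynomial.map (algebraMap R (G k₂)) u) - _ = 0
    rw [MvPolynomial.map_map, ← IsScalarTower.algebraMap_eq]
    exact sub_self _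
  have hvanish : ∀ F : Finset (G k₂), (∀ x ∈ F, algebraMap (G k₂) R' x = 0) →
      ∃ l, ∃ hl : k₂ ≤ l, ∀ x ∈ F, g k₂ l hl x = 0 := by
    intro F
    induction F using Finset.induction with
    | empty => exact fun _ => ⟨k₂, le_rfl, by simp⟩
    | insert x F _ ih =>
      intro hF
      obtain ⟨l, hl, h0⟩ := ih fun z hz => hF z (Finset.mem_insert_of_mem hz)
      obtain ⟨l', hl', hx⟩ := hgk l (g k₂ l hl x) (by
        rw [← RingHom.comp_apply, hgA]; exact hF x (Finset.mem_insert_self _ _))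
      refine ⟨l', hl.trans hl', fun z hz => ?_⟩
      rw [← hgcomp k₂ l l' hl hl', RingHom.comp_apply]
      rcases Finset.mem_insert.mp hz with rfl | hz
      · exact hx
      · rw [h0 z hz, map_zero]
  obtain ⟨l, hl, hl0⟩ := hvanish (d.support.image fun β => d.coeff β) fun x hx => by
    obtain ⟨β, -, rfl⟩ := Finset.mem_image.mp hx
    rw [← MvPolynomial.coeff_map]
    exact (congrArg (MvPolynomial.coeff β) hd).trans (coeff_zero β)
  have hd0 : MvPolynomial.map (g k₂ l hl) d = 0 := by
    ext β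
    rw [coeff_map, coeff_zero]
    by_cases hβ : β ∈ d.support
    · exact hl0 _ (Finset.mem_image_of_mem _ hβ)
    · rw [notMem_support_iff.mp hβ, map_zero]
  have hjl : j ≤ l := (hjk₁.trans hk₁₂).trans hl
  refine ⟨l, ?_⟩
  intro Si Mi _ _ _ _ _ _ _ _ _ _ _ _ _ fi hfi q _ hq
  have hPi := hP.baseChange (G := G l) fi hfi
  rw [hPi.flatAt_iff]
  have hfl := Fl.baseChange (g j l hjl) hfl₀ (G' := Submonoid.powers (MvPolynomial.map (g j l hjl) g₀))
    (by rintro _ ⟨m, rfl⟩; exact ⟨m, (map_pow _ _ _).symm⟩)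
  rw [Ideal.map_bot, ext_ext, show (g j l hjl).comp (sys.a j) = algebraMap R (G l) from hgR j l hjl] at hfl
  intro J' hJ' w hw hwJ
  obtain ⟨s, hs, hsw⟩ := hfl J' hJ' w hw hwJ
  refine ⟨s, ?_, hsw⟩
  refine Submonoid.powers_le.mpr ?_ hs
  change aeval _ (MvPolynomial.map (g j l hjl) g₀) ∉ q
  intro hgq
  let πi : MvPolynomial (Fin n) (G l) →ₐ[G l] Si := aeval fun i => algebraMap S Si (xs i)
  have hcompi : ∀ p, πi (MvPolynomial.map (algebraMap R (G l)) p) = algebraMap S Si (aeval xs p) := fun p => by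
    rw [show πi (MvPolynomial.map (algebraMap R (G l)) p) = aeval (fun i => algebraMap S Si (xs i)) p from
      MvPolynomial.aeval_map_algebraMap (G l) _ p]
    exact MvPolynomial.aeval_algebraMap_apply (R := R) (B := Si) xs p
  have hEq : Et l ≤ q.comap πi := by
    refine sup_le (Ideal.map_le_iff_le_comap.mpr fun a ha => ?_) (Ideal.map_le_iff_le_comap.mpr fun p hp => ?_)
    · change πi (C a) ∈ q
      rw [aeval_C]
      exact hq (Submodule.mem_sup_left (Ideal.mem_map_of_mem _ ha))
    · change πi (MvPolynomial.map _ p) ∈ q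
      rw [hcompi]
      exact hq (Submodule.mem_sup_right (Ideal.mem_map_of_mem _ hp))
  have hy'' := hEt k₂ l hl (Ideal.mem_map_of_mem (MvPolynomial.map (g k₂ l hl)) hy)
  have hrel : MvPolynomial.map (g j l hjl) g₀ * MvPolynomial.map (g k₁ l (hk₁₂.trans hl)) c' -
      MvPolynomial.map (algebraMap R (G l)) u ∈ Et l := by
    simp only [d, map_sub, map_mul, MvPolynomial.map_map, hgcomp, hgR] at hd0
    rw [sub_eq_zero.mp hd0]
    exact hy''
  have h1 : πi (MvPolynomial.map (g j l hjl) g₀ * MvPolynomial.map (g k₁ l (hk₁₂.trans hl)) c' -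
      MvPolynomial.map (algebraMap R (G l)) u) ∈ q := hEq hrel
  rw [map_sub, map_mul, hcompi] at h1
  refine Ideal.IsPrime.ne_top ‹_› (q.eq_top_of_isUnit_mem ?_ ((hP.units u hu).map (algebraMap S Si)))
  exact (Submodule.sub_mem_iff_right q (q.mul_mem_right _ hgq)).mp h1

end Groth.Agent.S6928
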