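import Groth.Statements.S6929
import Mathlib

set_option autoImplicit false
universe u
open EtAlg

namespace Groth.Agent.S6929

/-- Let `R` be a Noetherian ring, `ι` a finite index type, and `φ_i : A_i → B_i`, `ψ_i : Q → B_i`
surjective `R`-algebra maps, where `Q` and all `A_i`, `B_i` are `R`-algebras of finite type. Then
the fibre product ring `P = Q ×_{∏ B_i} ∏ A_i` (pairs `(q, a)` with `ψ_i(q) = φ_i(a_i)` for all `i`)
is an `R`-algebra of finite type. -/
theorem result (R : Type u) [CommRing R] [IsNoetherianRing R] {ι : Type u} [Fintype ι]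
    (Q : Type u) [CommRing Q] [Algebra R Q] [Algebra.FiniteType R Q] (A B : ι → Type u) [∀ i, CommRing (A i)]
    [∀ i, CommRing (B i)] [∀ i, Algebra R (A i)] [∀ i, Algebra R (B i)] (hA : ∀ i, Algebra.FiniteType R (A i))
    (hB : ∀ i, Algebra.FiniteType R (B i)) (φ : ∀ i, A i →ₐ[R] B i) (ψ : ∀ i, Q →ₐ[R] B i)
    (hφ : ∀ i, Function.Surjective (φ i)) (hψ : ∀ i, Function.Surjective (ψ i)) :
    Algebra.FiniteType R ↥(AlgHom.equalizer ((AlgHom.pi ψ).comp (AlgHom.fst R Q (∀ i, A i)))
      ((AlgHom.pi fun i => (φ i).comp (Pi.evalAlgHom R A i)).comp (AlgHom.snd R Q (∀ i, A i)))) := by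
  classical
  haveI := hA
  haveI := hB
  set P := AlgHom.equalizer ((AlgHom.pi ψ).comp (AlgHom.fst R Q (∀ i, A i)))
      ((AlgHom.pi fun i => (φ i).comp (Pi.evalAlgHom R A i)).comp (AlgHom.snd R Q (∀ i, A i))) with hP
  have hmem : ∀ y : Q × (∀ i, A i), y ∈ P ↔ ∀ i, ψ i y.1 = φ i (y.2 i) := fun y => by
    simp [hP, funext_iff]
  -- the ambient algebra is generated as a module over the fibre product by `(1,0)` and `(0,e_i)`
  have hfin : Module.Finite P (Q × (∀ i, A i)) := by
    refine ⟨⟨insert ((1, 0) : Q × (∀ i, A i)) (Finset.univ.image fun i => ((0, Pi.single i 1) : Q × (∀ i, A i))), ?_⟩⟩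
    rw [eq_top_iff]
    rintro ⟨x, y⟩ -
    have hg0 : ((1, 0) : Q × (∀ i, A i)) ∈ Submodule.span P (↑(insert ((1, 0) : Q × (∀ i, A i)) (Finset.univ.image fun i => ((0, Pi.single i 1) : Q × (∀ i, A i)))) : Set (Q × (∀ i, A i))) :=
      Submodule.subset_span (Finset.mem_coe.2 (Finset.mem_insert_self _ _))
    have hgi : ∀ i, ((0, Pi.single i 1) : Q × (∀ i, A i)) ∈ Submodule.span P (↑(insert ((1, 0) : Q × (∀ i, A i)) (Finset.univ.image fun i => ((0, Pi.single i 1) : Q × (∀ i, A i)))) : Set (Q × (∀ i, A i))) := fun i =>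
      Submodule.subset_span (Finset.mem_coe.2 (Finset.mem_insert_of_mem (Finset.mem_image_of_mem (fun i => ((0, Pi.single i 1) : Q × (∀ i, A i))) (Finset.mem_univ i))))
    have hx : (x, (0 : ∀ i, A i)) ∈ Submodule.span P (↑(insert ((1, 0) : Q × (∀ i, A i))
        (Finset.univ.image fun i => ((0, Pi.single i 1) : Q × (∀ i, A i)))) : Set (Q × (∀ i, A i))) := by
      choose a ha using fun i => hφ i (ψ i x)
      have h := Submodule.smul_mem (Submodule.span P (↑(insert ((1, 0) : Q × (∀ i, A i))
          (Finset.univ.image fun i => ((0, Pi.single i 1) : Q × (∀ i, A i)))) : Set (Q × (∀ i, A i))))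
        (⟨(x, a), (hmem _).2 fun i => (ha i).symm⟩ : P) hg0
      simpa [Subalgebra.smul_def] using h
    have hy : ∀ i, ((0 : Q), Pi.single i (y i)) ∈ Submodule.span P (↑(insert ((1, 0) : Q × (∀ i, A i))
        (Finset.univ.image fun i => ((0, Pi.single i 1) : Q × (∀ i, A i)))) : Set (Q × (∀ i, A i))) := by
      intro i
      obtain ⟨q, hq⟩ := hψ i (φ i (y i))
      choose a ha using fun j => hφ j (ψ j q)
      have h := Submodule.smul_mem (Submodule.span P (↑(insert ((1, 0) : Q × (∀ i, A i))
          (Finset.univ.image fun i => ((0, Pi.single i 1) : Q × (∀ i, A i)))) : Set (Q × (∀ i, A i))))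
        (⟨(q, Function.update a i (y i)), (hmem _).2 fun j => by
          rcases eq_or_ne j i with rfl | hne
          · simpa using hq
          · simpa [Function.update_of_ne hne] using (ha j).symm⟩ : P)
        (hgi i)
      convert h using 1
      refine Prod.ext (by simp [Subalgebra.smul_def]) (funext fun j => ?_)
      rcases eq_or_ne j i with rfl | hne
      · simp [Subalgebra.smul_def]
      · simp [Subalgebra.smul_def, Pi.single_eq_of_ne hne]
    have := add_mem hx (Submodule.sum_mem _ fun i (_ : i ∈ Finset.univ) => hy i)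
    convert this using 1
    ext <;> simp [Prod.fst_sum, Prod.snd_sum, Finset.univ_sum_single]
  haveI : Algebra.FiniteType R (∀ i, A i) := by
    choose G hG using fun i => (hA i).out
    refine ⟨⟨Finset.univ.biUnion fun i => (insert 1 (G i)).image (Pi.single i), ?_⟩⟩
    rw [eq_top_iff]
    rintro z -
    rw [← Finset.univ_sum_single z]
    refine Subalgebra.sum_mem _ fun i _ => ?_
    have hsub : ∀ g ∈ insert 1 (G i), Pi.single i g ∈ Algebra.adjoin R
        (↑(Finset.univ.biUnion fun i => (insert 1 (G i)).image (Pi.single i)) : Set (∀ i, A i)) := fun g hg =>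
      Algebra.subset_adjoin (Finset.mem_coe.2 (Finset.mem_biUnion.2 ⟨i, Finset.mem_univ _, Finset.mem_image_of_mem _ hg⟩))
    have hz : z i ∈ Algebra.adjoin R (G i : Set (A i)) := by rw [hG i]; trivial
    generalize z i = w at hz ⊢
    induction hz using Algebra.adjoin_induction with
    | mem g hg => exact hsub g (Finset.mem_insert_of_mem hg)
    | algebraMap r => rw [Algebra.algebraMap_eq_smul_one, Pi.single_smul]; exact Subalgebra.smul_mem _ (hsub 1 (Finset.mem_insert_self _ _)) r
    | add a b _ _ ha hb => rw [Pi.single_add]; exact add_mem ha hb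
    | mul a b _ _ ha hb => rw [Pi.single_mul]; exact mul_mem ha hb
  exact ⟨fg_of_fg_of_fg R P (Q × (∀ i, A i)) (inferInstance : Algebra.FiniteType R (Q × (∀ i, A i))).out
    hfin.fg_top Subtype.val_injective⟩

end Groth.Agent.S6929
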