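import Groth.Statements.S6933
import Mathlib
-- import your own Groth.Agent.* helpers here

set_option autoImplicit false
universe u
open CategoryTheory
open InjHull

namespace Groth.Agent.S6933

/-- An abelian group `J` that is injective as an object of the category of abelian groups is divisible:
`n J = J` for every nonzero integer `n`. (The published statement is an equivalence; this row states
the implication from injective to divisible.) -/
theorem result (J : Type u) [AddCommGroup J] (hJ : Injective (AddCommGrpCat.of J))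
    (n : ℤ) (hn : n ≠ 0) (x : J) : ∃ y : J, n • y = x := by
  let f : AddCommGrpCat.of (ULift.{u} ℤ) ⟶ AddCommGrpCat.of (ULift.{u} ℤ) :=
    AddCommGrpCat.ofHom (AddMonoidHom.mk' (fun a => ⟨n * a.down⟩)
      (fun a b => ULift.ext _ _ (mul_add n a.down b.down)))
  have : Mono f := (AddCommGrpCat.mono_iff_injective f).2 fun a b h =>
    ULift.ext _ _ (mul_left_cancel₀ hn (congrArg ULift.down h))
  let g : AddCommGrpCat.of (ULift.{u} ℤ) ⟶ AddCommGrpCat.of J :=
    AddCommGrpCat.ofHom (AddMonoidHom.mk' (fun a => a.down • x) (fun a b => add_zsmul x a.down b.down))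
  obtain ⟨h, hh⟩ := hJ.factors g f
  refine ⟨h.hom ⟨1⟩, ?_⟩
  have h1 : h.hom (f.hom ⟨1⟩) = g.hom ⟨1⟩ := by rw [← hh]; rfl
  have hf : f.hom ⟨1⟩ = n • (⟨1⟩ : ULift.{u} ℤ) := by
    ext; simp [f]
  rw [hf, map_zsmul] at h1
  simpa [g] using h1

end Groth.Agent.S6933
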