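import Groth.Statements.S6934
import Mathlib

set_option autoImplicit false
universe u
open EtAlg

namespace Groth.Agent.S6934

/-- Let `s : B → R`, `t : R' → R` be ring maps and `B' = B ×_R R'` the fibre product ring, i.e. a ring
`B'` with maps `p : B' → B`, `q : B' → R'`, `s ∘ p = t ∘ q`, such that `(p, q)` is injective with
image the pairs `(b, r')` with `s(b) = t(r')`. Let `h ∈ B'` with images `g = p(h)`, `f = q(h)`. Then
the square of localizations `B'_h → B_g`, `B'_h → R'_f`, `B_g → R_{s(g)}`, `R'_f → R_{t(f)} =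
R_{s(g)}` (the induced maps) is cartesian as well: `B'_h = B_g ×_{R_{s(g)}} R'_f`. -/
theorem result {B R R' B' : Type u} [CommRing B] [CommRing R] [CommRing R'] [CommRing B']
    (s : B →+* R) (t : R' →+* R) (p : B' →+* B) (q : B' →+* R') (hc : s.comp p = t.comp q)
    (hinj : ∀ x y : B', p x = p y → q x = q y → x = y) (hsurj : ∀ (b : B) (r' : R'), s b = t r' → ∃ x : B', p x = b ∧ q x = r')
    (h : B') (Bh Bg Rf Rsg : Type u) [CommRing Bh] [CommRing Bg] [CommRing Rf] [CommRing Rsg]
    [Algebra B' Bh] [IsLocalization.Away h Bh] [Algebra B Bg] [IsLocalization.Away (p h) Bg]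
    [Algebra R' Rf] [IsLocalization.Away (q h) Rf] [Algebra R Rsg] [IsLocalization.Away (s (p h)) Rsg]
    (pL : Bh →+* Bg) (qL : Bh →+* Rf) (sL : Bg →+* Rsg) (tL : Rf →+* Rsg)
    (hp : pL.comp (algebraMap B' Bh) = (algebraMap B Bg).comp p) (hq : qL.comp (algebraMap B' Bh) = (algebraMap R' Rf).comp q)
    (hs : sL.comp (algebraMap B Bg) = (algebraMap R Rsg).comp s) (ht : tL.comp (algebraMap R' Rf) = (algebraMap R Rsg).comp t) :
    (∀ x y : Bh, pL x = pL y → qL x = qL y → x = y) ∧
    (∀ (b : Bg) (r : Rf), sL b = tL r → ∃ x : Bh, pL x = b ∧ qL x = r) := by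
  have eB : ∀ a, pL (algebraMap B' Bh a) = algebraMap B Bg (p a) := fun a => RingHom.congr_fun hp a
  have eR : ∀ a, qL (algebraMap B' Bh a) = algebraMap R' Rf (q a) := fun a => RingHom.congr_fun hq a
  have hu : IsUnit (algebraMap B' Bh h) := IsLocalization.Away.algebraMap_isUnit h
  constructor
  · intro x y hxp hxq
    rw [← sub_eq_zero]
    obtain ⟨n, a, ha⟩ := IsLocalization.Away.surj h (x - y)
    have h1 : algebraMap B Bg (p a) = algebraMap B Bg 0 := by
      rw [← eB, ← ha, map_mul, map_sub, hxp, sub_self, zero_mul, map_zero]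
    have h2 : algebraMap R' Rf (q a) = algebraMap R' Rf 0 := by
      rw [← eR, ← ha, map_mul, map_sub, hxq, sub_self, zero_mul, map_zero]
    obtain ⟨i, hi⟩ := IsLocalization.Away.exists_of_eq (p h) h1
    obtain ⟨j, hj⟩ := IsLocalization.Away.exists_of_eq (q h) h2
    rw [mul_zero] at hi hj
    have h3 : h ^ (i + j) * a = 0 := hinj _ _
      (by rw [map_zero, map_mul, map_pow, pow_add, mul_comm (p h ^ i), mul_assoc, hi, mul_zero])
      (by rw [map_zero, map_mul, map_pow, pow_add, mul_assoc, hj, mul_zero])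
    have h4 := congrArg (algebraMap B' Bh) h3
    rw [map_mul, map_pow, map_zero, (hu.pow _).mul_right_eq_zero, ← ha, (hu.pow _).mul_left_eq_zero] at h4
    exact h4
  · intro b r hbr
    obtain ⟨n, b0, hb⟩ := IsLocalization.Away.surj (p h) b
    obtain ⟨m, r0, hr⟩ := IsLocalization.Away.surj (q h) r
    have est : s (p h) = t (q h) := RingHom.congr_fun hc h
    have e1 : algebraMap R Rsg (s (b0 * p h ^ m)) = algebraMap R Rsg (t (r0 * q h ^ n)) := by
      rw [← RingHom.comp_apply (algebraMap R Rsg) s, ← hs, ← RingHom.comp_apply (algebraMap R Rsg) t, ← ht,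
        RingHom.comp_apply, RingHom.comp_apply, map_mul (algebraMap B Bg), map_mul (algebraMap R' Rf),
        ← hb, ← hr, map_pow, map_pow]
      have e2 : sL (algebraMap B Bg (p h)) = tL (algebraMap R' Rf (q h)) := by
        rw [← RingHom.comp_apply sL, hs, ← RingHom.comp_apply tL, ht, RingHom.comp_apply, RingHom.comp_apply, est]
      simp only [map_mul, map_pow, hbr, e2]
      ring
    obtain ⟨M, hM⟩ := IsLocalization.Away.exists_of_eq (s (p h)) e1
    obtain ⟨x0, hx1, hx2⟩ := hsurj (p h ^ M * (b0 * p h ^ m)) (q h ^ M * (r0 * q h ^ n)) (by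
      rw [map_mul, map_mul t, map_pow, map_pow, ← est]; exact hM)
    obtain ⟨w, hw⟩ := hu.pow (M + n + m)
    refine ⟨algebraMap B' Bh x0 * ↑w⁻¹, ?_, ?_⟩
    · have hwu : IsUnit (pL (w : Bh)) := (Units.isUnit w).map pL
      apply hwu.mul_left_injective
      simp only
      rw [← map_mul, Units.inv_mul_cancel_right, eB, hx1, hw, map_pow, eB, map_mul, map_mul, map_pow,
        map_pow, ← hb]
      ring
    · have hwu : IsUnit (qL (w : Bh)) := (Units.isUnit w).map qL
      apply hwu.mul_left_injective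
      simp only
      rw [← map_mul, Units.inv_mul_cancel_right, eR, hx2, hw, map_pow, eR, map_mul, map_mul, map_pow,
        map_pow, ← hr]
      ring

end Groth.Agent.S6934
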