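import Groth.Statements.S6936
import Groth.Agent.DRingKP.Modules

set_option autoImplicit false
universe u
open CategoryTheory CategoryTheory.Limits
attribute [local instance] HasDerivedCategory.standard
open DRing

namespace Groth.Agent.S6936

/-- Let R be a commutative ring, m an integer and K an object of D(R). If H^i(K) = 0 for every i > m +
1, H^(m+1)(K) is a finitely presented R-module and H^m(K) is a finitely generated R-module, then K
is m-pseudo-coherent. -/
theorem result (R : Type u) [CommRing R]
    (m : ℤ) (K : Dual.D R) (hvan : ∀ i : ℤ, m + 1 < i → Subsingleton (Dual.HD R K i))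
    (hfp : Module.FinitePresentation R (Dual.HD R K (m + 1))) (hfin : Module.Finite R (Dual.HD R K m)) :
    DRing.IsPseudoCoherent R m K := by
  refine Groth.Agent.DRingKP.pc_of_homology m K ⟨m + 2, fun i hi => ?_⟩ fun i hi => ?_
  · haveI := hvan i (by lia)
    exact ModuleCat.isZero_of_subsingleton _
  · rcases (show i = m ∨ i = m + 1 ∨ m + 1 < i by lia) with rfl | rfl | h
    · rw [sub_self]
      exact (Groth.Agent.DRingKP.pcModule_zero_iff _).2 hfin
    · rw [show m - (m + 1) = -1 by lia]
      exact (Groth.Agent.DRingKP.pcModule_negOne_iff _).2 hfp
    · haveI : Subsingleton (Dual.HD R K i) := hvan i h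
      haveI : Module.FinitePresentation R (Dual.HD R K i) :=
        Module.finitePresentation_of_projective R _
      exact Groth.Agent.DRingKP.pcModule_of_projective _ _

end Groth.Agent.S6936
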