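import Groth.Statements.S6943
import Groth.Agent.DRingKP.Coherent

set_option autoImplicit false
universe u
open CategoryTheory CategoryTheory.Limits
attribute [local instance] HasDerivedCategory.standard
open DRing

namespace Groth.Agent.S6943

/-- Let R be a coherent commutative ring, i.e. every finitely generated ideal of R is finitely presented
as an R-module. Let K be an object of D(R) whose cohomology vanishes in large degrees and m an
integer. Then K is m-pseudo-coherent if and only if H^m(K) is finitely generated and H^i(K) is
finitely presented for every i > m. Consequently K is pseudo-coherent if and only if every H^i(K) is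
finitely presented. -/
theorem result (R : Type u) [CommRing R]
    (hR : ∀ I : Ideal R, I.FG → Module.FinitePresentation R I) (K : Dual.D R)
    (hb : ∃ b : ℤ, ∀ i : ℤ, b < i → Subsingleton (Dual.HD R K i)) (m : ℤ) :
    (DRing.IsPseudoCoherent R m K ↔
      Module.Finite R (Dual.HD R K m) ∧ ∀ i : ℤ, m < i → Module.FinitePresentation R (Dual.HD R K i)) ∧
      (DRing.IsPseudoCoherent' R K ↔ ∀ i : ℤ, Module.FinitePresentation R (Dual.HD R K i)) := by
  have hb' : ∃ n, Groth.Agent.DRingKP.IsAbove n K := by
    obtain ⟨b, hb⟩ := hb
    refine ⟨b + 1, fun i hi => ?_⟩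
    haveI := hb i (by lia)
    exact ModuleCat.isZero_of_subsingleton _
  exact ⟨Groth.Agent.DRingKP.pc_iff_coherent hR hb', Groth.Agent.DRingKP.pc'_iff_coherent hR hb'⟩

end Groth.Agent.S6943
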