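import Groth.Statements.S6951
import Groth.Agent.AmpLocal.Basic

set_option autoImplicit false
universe u
open CategoryTheory CategoryTheory.Limits
attribute [local instance] HasDerivedCategory.standard
open DRing

set_option backward.isDefEq.respectTransparency false
set_option backward.isDefEq.respectTransparency.types false

namespace Groth.Agent.S6951

open CategoryTheory DerivedCategory Groth.Agent.DRingKP Groth.Agent.KSixLib

attribute [local instance] HasDerivedCategory.standard

/-- Let R → A → B be homomorphisms of commutative rings with A → B faithfully flat, such that the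
derived base change D(A) → D(B) exists, and let K be an object of D(A). Then for all integers a, b,
the following are equivalent: the restriction of K to D(R) is of tor amplitude within [a, b]; the
restriction of K ⊗^L_A B to D(R) is of tor amplitude within [a, b]. -/
theorem result {R A B : Type u}
    [CommRing R] [CommRing A] [CommRing B] [Algebra R A] [Algebra A B] [Algebra R B] [IsScalarTower R A B]
    [Module.FaithfullyFlat A B] [DRing.HasLBaseChange (algebraMap A B)] (K : Dual.D A) (a b : ℤ) :
    DRing.HasTorAmplitudeIn R a b ((DRing.restrictD (algebraMap R A)).obj K) ↔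
      DRing.HasTorAmplitudeIn R a b ((DRing.restrictD (algebraMap R B)).obj ((DRing.LBaseChange (algebraMap A B)).obj K)) := by
  obtain ⟨P, q, hP, -, -, hq⟩ : ∃ (P : DRing.Cx A) (q : P ⟶ DerivedCategory.Q.objPreimage K), P.IsKProjective ∧
      True ∧ True ∧ QuasiIso q := by
    obtain ⟨P, q, h1, h2⟩ := exists_kProj_resolution (DerivedCategory.Q.objPreimage K)
    exact ⟨P, q, h1, trivial, trivial, h2⟩
  let eP : DRing.toD P ≅ K := asIso (DerivedCategory.Q.map q) ≪≫ DerivedCategory.Q.objObjPreimageIso K
  let eR : DRing.toD ((resCx (algebraMap R A)).obj P) ≅ (DRing.restrictD (algebraMap R A)).obj K :=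
    ((ModuleCat.restrictScalars.{u} (algebraMap R A)).mapDerivedCategoryFactors.app P).symm ≪≫
      (DRing.restrictD (algebraMap R A)).mapIso eP
  let eB : DRing.toD ((resCx (algebraMap R B)).obj ((bc (algebraMap A B)).obj P)) ≅
      (DRing.restrictD (algebraMap R B)).obj ((DRing.LBaseChange (algebraMap A B)).obj K) :=
    ((ModuleCat.restrictScalars.{u} (algebraMap R B)).mapDerivedCategoryFactors.app _).symm ≪≫
      (DRing.restrictD (algebraMap R B)).mapIso ((lBaseChangeIso (algebraMap A B) P).symm ≪≫
        (DRing.LBaseChange (algebraMap A B)).mapIso eP)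
  constructor
  · intro h
    exact amp_of_iso eB (amp_flat_bc (algebraMap R A) (algebraMap A B) (RingHom.flat_algebraMap_iff.2 inferInstance)
      (algebraMap R B) (IsScalarTower.algebraMap_eq R A B) P (amp_of_iso eR.symm h))
  · intro h
    have hdet : Detects (A := A) fun _ : PUnit.{u + 1} => B := fun M _ _ hM =>
      detects_of_faithfullyFlat (A := A) B M fun _ => hM PUnit.unit
    exact amp_of_iso eR (AmpLocal.amp_of_family (fun _ : PUnit.{u + 1} => B) (fun _ : PUnit.{u + 1} => R) hdet
      (algebraMap R A) (fun _ => algebraMap R B)
      (fun _ => by rw [IsScalarTower.algebraMap_eq R A B]; rfl) P a b fun _ => amp_of_iso eB.symm h)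

end Groth.Agent.S6951
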