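import Groth.Statements.S6964
import Groth.Agent.DRingKP.ProjAmp

set_option autoImplicit false
universe u
open CategoryTheory CategoryTheory.Limits
attribute [local instance] HasDerivedCategory.standard
open DRing

namespace Groth.Agent.S6964

/-- Let R be a commutative ring, K an object of D(R) and a, b integers. These four conditions are
equivalent: (1) the projective amplitude of K lies in [a, b], meaning K is isomorphic in D(R) to a
complex of projective R-modules vanishing outside [a, b]; (2) Hom(K, N[i]) = 0 in D(R) for every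
R-module N and every integer i outside [-b, -a]; (3) H^n(K) = 0 for all n > b and Hom(K, N[i]) = 0
for every R-module N and every i > -a; (4) H^n(K) = 0 for all n outside [a - 1, b] and Hom(K, N[-a +
1]) = 0 for every R-module N. -/
theorem result (R : Type u) [CommRing R] (K : Dual.D R) (a b : ℤ) :
    [∃ P : DRing.Cx R, DRing.VanishesOutside P a b ∧ (∀ i : ℤ, Module.Projective R (P.X i)) ∧
        Nonempty (DRing.toD P ≅ K),
      ∀ (N : Type u) [AddCommGroup N] [Module R N] (i : ℤ), (i < -b ∨ -a < i) →
        Subsingleton (DRing.ExtD R K (Dual.inD R N) i),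
      (∀ n : ℤ, b < n → Subsingleton (Dual.HD R K n)) ∧
        ∀ (N : Type u) [AddCommGroup N] [Module R N] (i : ℤ), -a < i → Subsingleton (DRing.ExtD R K (Dual.inD R N) i),
      (∀ n : ℤ, (n < a - 1 ∨ b < n) → Subsingleton (Dual.HD R K n)) ∧
        ∀ (N : Type u) [AddCommGroup N] [Module R N], Subsingleton (DRing.ExtD R K (Dual.inD R N) (-a + 1))].TFAE := by
  tfae_have 1 → 2 := by
    rintro ⟨P, hP, hPp, ⟨e⟩⟩ N _ _ i hi
    haveI := Groth.Agent.DRingKP.isKProjective_of_vanishesAbove (fun j hj => hP j (Or.inr hj))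
      (fun j => haveI := hPp j; (IsProjective.iff_projective (P.X j)).1 inferInstance)
    refine (subsingleton_of_forall_eq (0 : DRing.ExtD R K (Dual.inD R N) i) fun φ => ?_)
    let E := Groth.Agent.DRingKP.homShiftEquiv e (ModuleCat.of R N) (-i)
    have hn : - -i = i := neg_neg i
    let eS : ((DerivedCategory.singleFunctor (ModuleCat.{u} R) 0).obj (ModuleCat.of R N))⟦- -i⟧ ≅ (Dual.inD R N)⟦i⟧ :=
      CategoryTheory.eqToIso (by rw [hn])
    rcases hi with hi | hi
    · obtain ⟨y, hy⟩ := E.surjective (φ ≫ eS.inv)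
      obtain ⟨g, hg⟩ := PerfLocal.exists_lift y
      have hg0 : g = 0 := HomologicalComplex.hom_ext _ _ fun j => by
        by_cases hj : j = -i
        · exact (hP j (Or.inr (by lia))).eq_of_src _ _
        · exact (HomologicalComplex.isZero_single_obj_X (ComplexShape.up ℤ) (-i) _ j hj).eq_of_tgt _ _
      rw [hg0, Functor.map_zero] at hg
      rw [← cancel_mono eS.inv, ← hy, ← hg]
      simp [E, Groth.Agent.DRingKP.homShiftEquiv]
      erw [CategoryTheory.Iso.homCongr_apply]
      exact (congrArg (_ ≫ ·) CategoryTheory.Limits.zero_comp).trans CategoryTheory.Limits.comp_zero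
    · have hab : Groth.Agent.DRingKP.IsAbove a ((Dual.inD R N)⟦i⟧) := fun j hj =>
        Groth.Agent.DRingKP.isAbove_shift (Groth.Agent.DRingKP.isAbove_mono (show (1 : ℤ) ≤ a + i by lia)
          (Groth.Agent.DRingKP.isAbove_single (ModuleCat.of R N) 0)) i j (by lia)
      exact @Subsingleton.elim _ (Groth.Agent.DRingKP.subsingleton_hom hP hPp e hab) _ _
  have hvan : ∀ n : ℤ, (∀ (N : Type u) [AddCommGroup N] [Module R N], Subsingleton (DRing.ExtD R K (Dual.inD R N) (-n))) →
      Subsingleton (Dual.HD R K n) := fun n h =>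
    Groth.Agent.DRingKP.zero_homology_of_ext (DerivedCategory.Q.objObjPreimageIso K) n (h _)
  tfae_have 2 → 3 := fun h => ⟨fun n hn => hvan n fun N _ _ => h N (-n) (Or.inl (by lia)),
    fun N _ _ i hi => h N i (Or.inr hi)⟩
  tfae_have 3 → 4 := fun ⟨h1, h2⟩ => ⟨fun n hn => hn.elim
    (fun hn => hvan n fun N _ _ => h2 N (-n) (by lia)) (h1 n), fun N _ _ => h2 N (-a + 1) (by lia)⟩
  tfae_have 4 → 1 := fun ⟨h1, h2⟩ => by
    refine Groth.Agent.DRingKP.projAmp_of_vanishing K a b h1 fun N => ?_
    rw [show -(a - 1) = -a + 1 by ring]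
    exact h2 N
  tfae_finish

end Groth.Agent.S6964
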