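import Groth.Statements.S6966
import Groth.Agent.ExtPro.Shift

set_option autoImplicit false
universe u
open CategoryTheory CategoryTheory.Limits
attribute [local instance] HasDerivedCategory.standard
open CAlg

namespace Groth.Agent.S6966

/-- Let R be a commutative ring, I an ideal of R and M an R-module. Then the following two conditions
coincide: for each a ∈ I, the endomorphism of M given by multiplication by a can be written as a
composite M → P → M with P some projective R-module; and for every R-module N and every a ∈ I, a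
annihilates Ext^1_R(M, N) = Hom(M[0], N[1]) in D(R). -/
theorem result (R : Type u) [CommRing R] (I : Ideal R) (M : Type u)
    [AddCommGroup M] [Module R M] :
    (∀ a ∈ I, ∃ (P : Type u) (_ : AddCommGroup P) (_ : Module R P) (_ : Module.Projective R P)
        (f : M →ₗ[R] P) (g : P →ₗ[R] M), g ∘ₗ f = a • LinearMap.id) ↔
      ∀ (N : Type u) [AddCommGroup N] [Module R N], ∀ a ∈ I,
        ∀ x : DRing.ExtD R (Dual.inD R M) (Dual.inD R N) 1, a • x = 0 := by
  let F := DerivedCategory.singleFunctor (ModuleCat.{u} R) 0
  let M₀ := ModuleCat.of R M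
  constructor
  · intro h N _ _ a ha x
    obtain ⟨P, _, _, hP, f, g, hgf⟩ := h a ha
    haveI : Projective (ModuleCat.of R P) := (IsProjective.iff_projective (R := R) P).1 hP
    have hx : F.map (ModuleCat.ofHom g : ModuleCat.of R P ⟶ M₀) ≫ x = 0 :=
      Groth.Agent.ExtPro.hom_shift_eq_zero 1 one_ne_zero _
    have he : F.map (a • 𝟙 M₀) = a • 𝟙 (F.obj M₀) := by rw [Functor.map_smul, CategoryTheory.Functor.map_id]
    have hfg : a • 𝟙 M₀ = ModuleCat.ofHom f ≫ ModuleCat.ofHom g := ModuleCat.hom_ext hgf.symm
    have : (a • 𝟙 (F.obj M₀)) ≫ x = 0 := by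
      rw [← he, hfg, Functor.map_comp, Category.assoc, hx, Limits.comp_zero]
    rw [Linear.smul_comp, Category.id_comp] at this
    exact this
  · intro h a ha
    let π : (M →₀ R) →ₗ[R] M := Finsupp.linearCombination R id
    have hπ : Function.Surjective π := fun m => ⟨Finsupp.single m 1, by simp [π]⟩
    let ι : ModuleCat.of R (LinearMap.ker π) ⟶ ModuleCat.of R (M →₀ R) :=
      ModuleCat.ofHom (X := LinearMap.ker π) (Y := M →₀ R) (LinearMap.ker π).subtype
    let S : ShortComplex (ModuleCat.{u} R) := ShortComplex.mk ι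
      (ModuleCat.ofHom π) (ModuleCat.hom_ext (LinearMap.ext fun (x : LinearMap.ker π) => x.2))
    have hS : S.ShortExact := ShortComplex.ShortExact.mk'
      ((ShortComplex.moduleCat_exact_iff_range_eq_ker _).2 (Submodule.range_subtype _))
      ((ModuleCat.mono_iff_injective _).2 Subtype.val_injective) ((ModuleCat.epi_iff_surjective _).2 hπ)
    have h1 : a • hS.singleδ = 0 := h (LinearMap.ker π) a ha hS.singleδ
    have h2 : F.map (a • 𝟙 M₀) ≫ hS.singleδ = 0 := by
      rw [Functor.map_smul, CategoryTheory.Functor.map_id, Linear.smul_comp, Category.id_comp]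
      exact h1
    obtain ⟨(g : F.obj M₀ ⟶ F.obj S.X₂), hg⟩ :=
      Pretriangulated.Triangle.coyoneda_exact₃ _ hS.singleTriangle_distinguished (F.map (a • 𝟙 M₀)) h2
    obtain ⟨s, rfl⟩ := F.map_surjective g
    refine ⟨M →₀ R, inferInstance, inferInstance, inferInstance, s.hom, π, ?_⟩
    have := F.map_injective (hg.trans (F.map_comp s S.g).symm)
    exact (congrArg ModuleCat.Hom.hom this).symm

end Groth.Agent.S6966
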