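import Groth.Statements.S6968
import Mathlib.LinearAlgebra.Dual.Basis
import Mathlib.LinearAlgebra.FreeModule.Basic
import Mathlib.LinearAlgebra.StdBasis
import Mathlib.Algebra.Module.Projective

set_option autoImplicit false
universe u
open CAlg

namespace Groth.Agent.S6968

/-- Let R be a commutative ring, I an ideal of R and M a finitely generated R-module such that
multiplication by a on M factors through a projective R-module for every a ∈ I. Then multiplication
by a on the dual module Hom_R(M, R) factors through a projective R-module for every a ∈ I. -/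
theorem result (R : Type u) [CommRing R] (I : Ideal R) (M : Type u) [AddCommGroup M]
    [Module R M] [Module.Finite R M]
    (hM : ∀ a ∈ I, ∃ (P : Type u) (_ : AddCommGroup P) (_ : Module R P) (_ : Module.Projective R P)
        (f : M →ₗ[R] P) (g : P →ₗ[R] M), g ∘ₗ f = a • LinearMap.id) :
    ∀ a ∈ I, ∃ (P : Type u) (_ : AddCommGroup P) (_ : Module R P) (_ : Module.Projective R P)
        (f : Module.Dual R M →ₗ[R] P) (g : P →ₗ[R] Module.Dual R M), g ∘ₗ f = a • LinearMap.id := by
  classical
  intro a ha
  obtain ⟨P, _, _, _, f, g, hfg⟩ := hM a ha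
  obtain ⟨s, hs⟩ := Module.projective_def'.mp (show Module.Projective R P from inferInstance)
  obtain ⟨T, hT⟩ : ∃ T : Finset P, LinearMap.range (s ∘ₗ f) ≤ Finsupp.supported R R (T : Set P) := by
    obtain ⟨G, hG⟩ := Module.Finite.fg_top (R := R) (M := M)
    refine ⟨G.biUnion fun m => (s (f m)).support, ?_⟩
    rw [LinearMap.range_eq_map, ← hG, Submodule.map_span, Submodule.span_le]
    rintro _ ⟨m, hm, rfl⟩
    rw [SetLike.mem_coe, Finsupp.mem_supported]
    intro x hx
    exact Finset.mem_biUnion.mpr ⟨m, hm, hx⟩
  let q : M →ₗ[R] (T → R) := LinearMap.pi fun t => Finsupp.lapply (t : P) ∘ₗ (s ∘ₗ f)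
  let r : (T → R) →ₗ[R] M := Fintype.linearCombination R fun t : T => g (t : P)
  have hrq : r ∘ₗ q = a • LinearMap.id := by
    refine LinearMap.ext fun m => ?_
    rw [← hfg]
    have h1 : s (f m) ∈ Finsupp.supported R R (T : Set P) := hT ⟨m, rfl⟩
    have h2 : Finsupp.linearCombination R id (s (f m)) = f m := LinearMap.congr_fun hs (f m)
    show r (q m) = g (f m)
    rw [Fintype.linearCombination_apply]
    conv_rhs => rw [← h2, Finsupp.linearCombination_apply, Finsupp.sum_of_support_subset _ ((Finsupp.mem_supported _ _).mp h1) _ (by simp)]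
    rw [map_sum, ← Finset.sum_coe_sort T]
    simp [q]
  haveI : Module.Projective R (Module.Dual R (T → R)) := Module.Projective.of_equiv (Pi.basisFun R T).toDualEquiv
  refine ⟨Module.Dual R (T → R), inferInstance, inferInstance, inferInstance, r.dualMap, q.dualMap, ?_⟩
  rw [show q.dualMap ∘ₗ r.dualMap = (r ∘ₗ q).dualMap from rfl, hrq]
  refine LinearMap.ext fun φ => LinearMap.ext fun m => ?_
  simp

end Groth.Agent.S6968
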