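import Groth.Statements.S6969
import Mathlib

set_option autoImplicit false
universe u
open CAlg

namespace Groth.Agent.S6969

/-- Let R be a commutative ring and φ : M → N an R-linear map which factors through a projective
R-module. If M is finitely generated, then φ factors through a finitely generated projective
R-module. -/
theorem result (R : Type u) [CommRing R] {M N : Type u} [AddCommGroup M]
    [Module R M] [Module.Finite R M] [AddCommGroup N] [Module R N] (φ : M →ₗ[R] N)
    (h : ∃ (P : Type u) (_ : AddCommGroup P) (_ : Module R P) (_ : Module.Projective R P) (f : M →ₗ[R] P)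
      (g : P →ₗ[R] N), g ∘ₗ f = φ) :
    ∃ (P : Type u) (_ : AddCommGroup P) (_ : Module R P) (_ : Module.Projective R P) (_ : Module.Finite R P)
      (f : M →ₗ[R] P) (g : P →ₗ[R] N), g ∘ₗ f = φ := by
  classical
  obtain ⟨P, _, _, _, f, g, hgf⟩ := h
  let π : (P →₀ R) →ₗ[R] P := Finsupp.linearCombination R (id : P → P)
  obtain ⟨σ, hσ⟩ := Module.projective_def'.1 (inferInstance : Module.Projective R P)
  obtain ⟨t, ht⟩ := Module.Finite.fg_top (R := R) (M := M)
  let s : Finset P := t.sup fun m => (σ (f m)).support
  have hsupp : ∀ m, σ (f m) ∈ Finsupp.supported R R (s : Set P) := by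
    intro m
    show m ∈ (Finsupp.supported R R (s : Set P)).comap (σ ∘ₗ f)
    have : (⊤ : Submodule R M) ≤ (Finsupp.supported R R (s : Set P)).comap (σ ∘ₗ f) := by
      rw [← ht, Submodule.span_le]
      intro x hx
      exact (Finsupp.mem_supported R _).2 (Finset.coe_subset.2 (Finset.le_sup (f := fun m => (σ (f m)).support) hx))
    exact this trivial
  let E := Finsupp.supportedEquivFinsupp (R := R) (M := R) (s : Set P)
  haveI : Module.Projective R ↥(Finsupp.supported R R (s : Set P)) := Module.Projective.of_equiv E.symm
  haveI : Module.Finite R ↥(Finsupp.supported R R (s : Set P)) := Module.Finite.equiv E.symm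
  refine ⟨↥(Finsupp.supported R R (s : Set P)), inferInstance, inferInstance, inferInstance, inferInstance,
    (σ ∘ₗ f).codRestrict _ hsupp, g ∘ₗ π ∘ₗ (Finsupp.supported R R (s : Set P)).subtype, ?_⟩
  refine LinearMap.ext fun m => ?_
  show g (π (σ (f m))) = φ m
  rw [show π (σ (f m)) = f m from LinearMap.congr_fun hσ (f m), ← hgf]
  rfl

end Groth.Agent.S6969
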