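import Groth.Statements.S6972
import Groth.Agent.MinCxRep.Main

set_option autoImplicit false
universe u
open CategoryTheory CategoryTheory.Limits
attribute [local instance] HasDerivedCategory.standard
open DRing

namespace Groth.Agent.S6972

/-- Let R be a local commutative ring with residue field κ such that the derived base change D(R) → D(κ)
exists, and let K be a pseudo-coherent object of D(R). Write d_i for the κ-dimension of H^i(K ⊗^L_R
κ). Then every H^i(K ⊗^L_R κ) is finite dimensional and vanishes for i large; there is a bounded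
above cochain complex P of finite free R-modules with rank P^i = d_i for all i which is isomorphic
to K in D(R); and any two such complexes are isomorphic as complexes of R-modules. -/
theorem result (R : Type u) [CommRing R] [IsLocalRing R]
    [DRing.HasLBaseChange (IsLocalRing.residue R)] (K : Dual.D R) (hK : DRing.IsPseudoCoherent' R K) :
    let κ := IsLocalRing.ResidueField R
    let Kκ := (DRing.LBaseChange (IsLocalRing.residue R)).obj K
    let Minimal := fun P : DRing.Cx R => (∃ b : ℤ, DRing.VanishesAbove P b) ∧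
      (∀ i : ℤ, Module.Free R (P.X i) ∧ Module.Finite R (P.X i) ∧
        Module.finrank R (P.X i) = Module.finrank κ (Dual.HD κ Kκ i)) ∧ Nonempty (DRing.toD P ≅ K)
    (∀ i : ℤ, Module.Finite κ (Dual.HD κ Kκ i)) ∧ (∃ b : ℤ, ∀ i : ℤ, b < i → Subsingleton (Dual.HD κ Kκ i)) ∧
      (∃ P : DRing.Cx R, Minimal P) ∧ ∀ P Q : DRing.Cx R, Minimal P → Minimal Q → Nonempty (P ≅ Q) := by
  obtain ⟨E, b, hb, hE, ⟨e⟩⟩ := hK
  obtain ⟨P, hPb, hPf, hPm, π, hπ⟩ := Groth.Agent.MinCxRep.exists_minimal hb hE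
  haveI : IsIso (DerivedCategory.Q.map π) := (DerivedCategory.isIso_Q_map_iff_quasiIso _ π).2 hπ
  let eP : DRing.toD P ≅ K := (asIso (DerivedCategory.Q.map π)).symm ≪≫ e
  let L := fun i => (Groth.Agent.MinCxRep.hdEquiv hPb hPf eP i).trans (Groth.Agent.MinCxRep.homologyEquiv hPm i)
  intro κ Kκ Minimal
  refine ⟨fun i => ?_, ⟨b, fun i hi => ?_⟩, ⟨P, ⟨b, hPb⟩, fun i => ?_, ⟨eP⟩⟩, ?_⟩
  · haveI := (hPf i).1
    haveI := Groth.Agent.MinCxRep.finite_bc (P.X i)
    exact Module.Finite.equiv (L i).symm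
  · haveI := ModuleCat.subsingleton_of_isZero
      ((ModuleCat.extendScalars.{u, u, u} (IsLocalRing.residue R)).map_isZero (hPb i hi))
    exact (L i).toEquiv.subsingleton
  · haveI := (hPf i).1
    haveI := (hPf i).2
    exact ⟨inferInstance, inferInstance,
      ((L i).finrank_eq.trans (Groth.Agent.MinCxRep.finrank_bc (P.X i))).symm⟩
  · rintro P₁ P₂ ⟨⟨b₁, hb₁⟩, h₁, ⟨e₁⟩⟩ ⟨⟨b₂, hb₂⟩, h₂, ⟨e₂⟩⟩
    have hf₁ : DRing.TermwiseFiniteFree P₁ := fun i => ⟨(h₁ i).2.1, (h₁ i).1⟩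
    have hf₂ : DRing.TermwiseFiniteFree P₂ := fun i => ⟨(h₂ i).2.1, (h₂ i).1⟩
    have hm₁ : Groth.Agent.MinCxRep.IsMin P₁ :=
      Groth.Agent.MinCxRep.isMin_of_finrank (fun i => (h₁ i).1) (fun i => (h₁ i).2.1)
        fun i => (h₁ i).2.2.trans (Groth.Agent.MinCxRep.hdEquiv hb₁ hf₁ e₁ i).finrank_eq
    have hm₂ : Groth.Agent.MinCxRep.IsMin P₂ :=
      Groth.Agent.MinCxRep.isMin_of_finrank (fun i => (h₂ i).1) (fun i => (h₂ i).2.1)
        fun i => (h₂ i).2.2.trans (Groth.Agent.MinCxRep.hdEquiv hb₂ hf₂ e₂ i).finrank_eq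
    exact Groth.Agent.MinCxRep.nonempty_iso_of_minimal hb₁ hb₂ hf₁ hf₂ hm₁ hm₂ (e₁ ≪≫ e₂.symm)

end Groth.Agent.S6972
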