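import Groth.Statements.S6975
import Groth.Agent.DRingKP.Fibre
import Groth.Agent.DRingKP.Restrict

set_option autoImplicit false
universe u
open CategoryTheory CategoryTheory.Limits
attribute [local instance] HasDerivedCategory.standard
open DRing

namespace Groth.Agent.S6975

/-- Let R be a local commutative ring with residue field κ such that the derived base change D(R) → D(κ)
exists, and let K be a pseudo-coherent object of D(R). If there is an integer a with H^i(K ⊗^L_R κ)
= 0 for all i < a, then K is perfect. -/
theorem result (R : Type u) [CommRing R] [IsLocalRing R]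
    [DRing.HasLBaseChange (IsLocalRing.residue R)] (K : Dual.D R) (hK : DRing.IsPseudoCoherent' R K) (a : ℤ)
    (h : ∀ i : ℤ, i < a → Subsingleton (Dual.HD (IsLocalRing.ResidueField R)
      ((DRing.LBaseChange (IsLocalRing.residue R)).obj K) i)) :
    DRing.IsPerfect R K := by
  haveI : ∀ m : Ideal R, DRing.HasLBaseChange (Ideal.Quotient.mk m) := fun m =>
    DRingKP.hasLBaseChange _
  obtain ⟨n, hn⟩ := DRingKP.pc_bounded
    (DRingKP.pc_lBaseChange (IsLocalRing.residue R) K 0 (DRingKP.pc_of_pc' hK 0))
  refine (DRingKP.amp_of_fibres hK a n fun m hm i hi => ?_).1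
  obtain rfl := IsLocalRing.eq_maximalIdeal hm
  rcases hi with hi | hi
  · exact h i hi
  · exact ModuleCat.subsingleton_of_isZero (hn i hi.le)

end Groth.Agent.S6975
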