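import Groth.Statements.S6977
import Groth.Agent.DRingKP.Fibre
import Groth.Agent.DRingKP.Fibre2
import Groth.Agent.DRingKP.GlobalDim
import Groth.Agent.RelPC.Away
import Groth.Agent.FibCrit.Tools
import Groth.Agent.SerreReg.Regular

set_option autoImplicit false
universe u
open CategoryTheory CategoryTheory.Limits
attribute [local instance] HasDerivedCategory.standard
open DRing

set_option backward.isDefEq.respectTransparency false
set_option backward.isDefEq.respectTransparency.types false

namespace Groth.Agent.S6977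

open DerivedCategory HomologicalComplex Groth.Agent.DRingKP

/-- Let A → B be a flat local homomorphism of local commutative rings such that B/m_A B is a regular
local ring of dimension d, and assume the derived base change D(A) → D(κ_A) to the residue field of
A exists. Let a, b be integers and K a pseudo-coherent object of D(B) such that H^i((K regarded in
D(A)) ⊗^L_A κ_A) = 0 for every i outside [a, b]. Then K is perfect as an object of D(B) and has tor
amplitude in [a - d, b] over B. -/
theorem result {A B : Type u} [CommRing A] [CommRing B] [IsLocalRing A]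
    [IsLocalRing B] [Algebra A B] [IsLocalHom (algebraMap A B)] [Module.Flat A B] (d : ℕ)
    [IsRegularLocalRing (B ⧸ (IsLocalRing.maximalIdeal A).map (algebraMap A B))]
    (hd : ringKrullDim (B ⧸ (IsLocalRing.maximalIdeal A).map (algebraMap A B)) = d)
    [DRing.HasLBaseChange (IsLocalRing.residue A)] (a b : ℤ) (K : Dual.D B) (hK : DRing.IsPseudoCoherent' B K)
    (h : ∀ i : ℤ, (i < a ∨ b < i) → Subsingleton (Dual.HD (IsLocalRing.ResidueField A)
      ((DRing.LBaseChange (IsLocalRing.residue A)).obj ((DRing.restrictD (algebraMap A B)).obj K)) i)) :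
    DRing.IsPerfect B K ∧ DRing.HasTorAmplitudeIn B (a - d) b K := by
  let I := IsLocalRing.maximalIdeal A
  let J := I.map (algebraMap A B)
  letI : Algebra (A ⧸ I) (B ⧸ J) := (Ideal.quotientMap J (algebraMap A B) Ideal.le_comap_map).toAlgebra
  haveI : IsScalarTower A (A ⧸ I) (B ⧸ J) := IsScalarTower.of_algebraMap_eq fun _ => rfl
  haveI : Algebra.IsPushout A (A ⧸ I) B (B ⧸ J) := FibCrit.isPushout_quot I rfl
  haveI : DRing.HasLBaseChange (algebraMap A (A ⧸ I)) := ‹DRing.HasLBaseChange (IsLocalRing.residue A)›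
  haveI : DRing.HasLBaseChange (Ideal.Quotient.mk J) := hasLBaseChange _
  haveI : DRing.HasLBaseChange (algebraMap B (B ⧸ J)) := hasLBaseChange _
  obtain ⟨P, c, hc, hP, ⟨eP⟩⟩ := id hK
  have hPp := projective_X (termwiseFiniteProjective_of_free hP)
  haveI := isKProjective_of_vanishesAbove hc hPp
  let rs := ModuleCat.restrictScalars.{u} (algebraMap A B)
  let T := (rs.mapHomologicalComplex (ComplexShape.up ℤ)).obj P
  have hTb : DRing.VanishesAbove T c := fun i hi => rs.map_isZero (hc i hi)
  have hTf : DRing.TermwiseFlat T := fun i => by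
    letI : Module A (P.X i) := Module.compHom _ (algebraMap A B)
    haveI : IsScalarTower A B (P.X i) := ⟨fun r x y => by rw [Algebra.smul_def, mul_smul]; rfl⟩
    haveI := flat_of_projective hPp i
    exact (Module.Flat.trans A B (P.X i) : Module.Flat A (P.X i))
  obtain ⟨G, c', hGb, hG, ⟨eG⟩⟩ := exists_proj_rep_le (DRing.toD T)
    ⟨c + 1, fun i hi => (ShortComplex.isZero_homology_of_isZero_X₂ _ (hTb i (by lia))).of_iso
      ((homologyFunctorFactors (ModuleCat.{u} A) i).app _)⟩
  haveI := isKProjective_of_vanishesAbove hGb hG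
  obtain ⟨g, hg⟩ := PerfLocal.exists_lift eG.hom
  haveI : IsIso (DerivedCategory.Q.map g) := by rw [hg]; infer_instance
  haveI : QuasiIso g := (DerivedCategory.isIso_Q_map_iff_quasiIso _ g).1 inferInstance
  haveI := DRingKP.quasiIso_bc (algebraMap A (A ⧸ I)) g hGb hTb (flat_of_projective hG) hTf
  let e : (DRing.LBaseChange (algebraMap A (A ⧸ I))).obj ((DRing.restrictD (algebraMap A B)).obj K) ≅
      DRing.toD (((ModuleCat.restrictScalars.{u} (algebraMap (A ⧸ I) (B ⧸ J))).mapHomologicalComplex
        (ComplexShape.up ℤ)).obj ((bc (algebraMap B (B ⧸ J))).obj P)) :=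
    (DRing.LBaseChange (algebraMap A (A ⧸ I))).mapIso
      ((DRing.restrictD (algebraMap A B)).mapIso eP.symm ≪≫ rs.mapDerivedCategoryFactors.app P ≪≫ eG.symm) ≪≫
    lBaseChangeIso (algebraMap A (A ⧸ I)) G ≪≫
    asIso (DerivedCategory.Q.map ((bc (algebraMap A (A ⧸ I))).map g)) ≪≫
    DerivedCategory.Q.mapIso (RelPC.bcSquareCxIso (P := A) (Q := A ⧸ I) (A := B) (B := B ⧸ J) P)
  have hz : ∀ i, (i < a ∨ b < i) → IsZero ((DerivedCategory.homologyFunctor (ModuleCat.{u} (B ⧸ J)) i).obj
      ((DRing.LBaseChange (Ideal.Quotient.mk J)).obj K)) := fun i hi => by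
    haveI := h i hi
    have h0 : IsZero ((DerivedCategory.homologyFunctor (ModuleCat.{u} (A ⧸ I)) i).obj
        ((DRing.LBaseChange (algebraMap A (A ⧸ I))).obj ((DRing.restrictD (algebraMap A B)).obj K))) :=
      @ModuleCat.isZero_of_subsingleton _ _ _ this
    have h1 : (((ModuleCat.restrictScalars.{u} (algebraMap (A ⧸ I) (B ⧸ J))).mapHomologicalComplex
        (ComplexShape.up ℤ)).obj ((bc (algebraMap B (B ⧸ J))).obj P)).ExactAt i :=
      (exactAt_iff_isZero_homology _ _).2 (h0.of_iso (((homologyFunctorFactors _ i).app _).symm ≪≫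
        (DerivedCategory.homologyFunctor _ i).mapIso e.symm))
    rw [exactAt_iff] at h1
    have h2 : ((bc (algebraMap B (B ⧸ J))).obj P).ExactAt i :=
      (ShortComplex.exact_map_iff_of_faithful _ (ModuleCat.restrictScalars.{u} _)).1 h1
    exact ((exactAt_iff_isZero_homology _ _).1 h2).of_iso
      ((DerivedCategory.homologyFunctor _ i).mapIso
        ((DRing.LBaseChange (algebraMap B (B ⧸ J))).mapIso eP.symm ≪≫ lBaseChangeIso _ P) ≪≫
          (homologyFunctorFactors _ i).app _)
  obtain ⟨E, hE, hEp, ⟨eE⟩⟩ := exists_projRep (R := B ⧸ J) (a - d) b d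
    (fun M => SerreReg.pdLE_of_isRegularLocalRing (B ⧸ J) d hd M) _ (fun i hi => hz i (by lia))
  have hJ : J ≤ Ideal.jacobson (⊥ : Ideal B) := by
    rw [IsLocalRing.jacobson_eq_maximalIdeal ⊥ bot_ne_top]
    exact Ideal.map_le_iff_le_comap.2 (IsLocalRing.maximalIdeal_comap (algebraMap A B)).ge
  have hamp := amp_of_jacobson J hJ K hK (a - d) b
    ⟨E, hE, fun i => haveI := hEp i; inferInstance, ⟨eE⟩⟩
  exact ⟨(DRingKP.isPerfect_iff K).2 ⟨hK, _, _, hamp⟩, hamp⟩

end Groth.Agent.S6977
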