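import Groth.Statements.S6980
import Groth.Agent.DRingKP.ProdIdeal

set_option autoImplicit false
universe u
open CategoryTheory CategoryTheory.Limits
attribute [local instance] HasDerivedCategory.standard
open DRing

namespace Groth.Agent.S6980

/-- Let R be a commutative ring, I and J ideals of R such that the derived base changes D(R) → D(R/I),
D(R/J), D(R/IJ) exist, and K an object of D(R). If K ⊗^L_R R/I is perfect in D(R/I) and K ⊗^L_R R/J
is perfect in D(R/J), then K ⊗^L_R R/IJ is perfect in D(R/IJ). -/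
theorem result (R : Type u) [CommRing R] (I J : Ideal R)
    [DRing.HasLBaseChange (Ideal.Quotient.mk I)] [DRing.HasLBaseChange (Ideal.Quotient.mk J)]
    [DRing.HasLBaseChange (Ideal.Quotient.mk (I * J))] (K : Dual.D R)
    (hI : DRing.IsPerfect (R ⧸ I) ((DRing.LBaseChange (Ideal.Quotient.mk I)).obj K))
    (hJ : DRing.IsPerfect (R ⧸ J) ((DRing.LBaseChange (Ideal.Quotient.mk J)).obj K)) :
    DRing.IsPerfect (R ⧸ (I * J)) ((DRing.LBaseChange (Ideal.Quotient.mk (I * J))).obj K) := by
  obtain ⟨P, q, hP, hPf, hPt, hq⟩ := DRingKP.exists_kProj_kFlat_resolution (DerivedCategory.Q.objPreimage K)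
  let eP : DRing.toD P ≅ K := asIso (DerivedCategory.Q.map q) ≪≫ DerivedCategory.Q.objObjPreimageIso K
  let φ := Ideal.Quotient.mk (I * J)
  let P' := (DRingKP.bc φ).obj P
  let L : Bool → Ideal R := fun b => bif b then I else J
  have hle : ∀ b, I * J ≤ L b := fun b => Bool.rec (motive := fun b => I * J ≤ L b) (Ideal.mul_le_right (I := I) (J := J)) (Ideal.mul_le_left (I := I) (J := J)) b
  let B : Bool → Type u := fun b => R ⧸ L b
  letI : ∀ b, Algebra (R ⧸ I * J) (B b) := fun b => (Ideal.Quotient.factor (hle b)).toAlgebra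
  refine PerfLocal.isPerfect_of_iso
    ((DRingKP.lBaseChangeIso φ P).symm ≪≫ (DRing.LBaseChange φ).mapIso eP)
    (DRingKP.isPerfect_two B (fun b => Ideal.Quotient.factor_surjective (hle b)) ?_ P'
      (KFlat.isKFlat_extendScalars φ hPf) (fun i => DRingKP.extendScalars_flat φ (hPt i)) fun b => ?_)
  · rw [show algebraMap (R ⧸ I * J) (B true) = Ideal.Quotient.factor (hle true) from rfl,
      show algebraMap (R ⧸ I * J) (B false) = Ideal.Quotient.factor (hle false) from rfl,
      Ideal.Quotient.factor_ker, Ideal.Quotient.factor_ker]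
    exact (Ideal.map_mul _ I J).symm.trans (Ideal.map_quotient_self _)
  · haveI : DRing.HasLBaseChange (Ideal.Quotient.mk (L b)) := DRingKP.hasLBaseChange _
    let e : (DRingKP.bc (algebraMap (R ⧸ I * J) (B b))).obj P' ≅ (DRingKP.bc (Ideal.Quotient.mk (L b))).obj P :=
      ((NatIso.mapHomologicalComplex (ModuleCat.extendScalarsComp.{u, u} φ (Ideal.Quotient.factor (hle b)))
        (ComplexShape.up ℤ)).app P).symm
    refine PerfLocal.isPerfect_of_iso ((DRing.LBaseChange (Ideal.Quotient.mk (L b))).mapIso eP.symm ≪≫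
      DRingKP.lBaseChangeIso (Ideal.Quotient.mk (L b)) P ≪≫ DerivedCategory.Q.mapIso e.symm) ?_
    cases b
    · exact hJ
    · exact hI

end Groth.Agent.S6980
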