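import Groth.Statements.S6981
import Groth.Agent.DRingKP.Restrict
import Mathlib.RingTheory.Polynomial.Basic

set_option autoImplicit false
universe u
open CategoryTheory CategoryTheory.Limits
attribute [local instance] HasDerivedCategory.standard
open DRing

namespace Groth.Agent.S6981

/-- Let R be a commutative ring, K an object of D(R), m an integer, and R[x] → R the R-algebra
homomorphism sending x to 0. Then K is m-pseudo-coherent over R if and only if K, regarded as an
object of D(R[x]) by restriction of scalars along this map, is m-pseudo-coherent over R[x]. -/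
theorem result (R : Type u) [CommRing R] (K : Dual.D R)
    (m : ℤ) :
    DRing.IsPseudoCoherent R m K ↔
      DRing.IsPseudoCoherent (Polynomial R) m ((DRing.restrictD (Polynomial.evalRingHom (0 : R))).obj K) := by
  letI : Algebra (Polynomial R) R := (Polynomial.evalRingHom (0 : R)).toAlgebra
  refine DRingKP.pc_res_iff (A := Polynomial R) (B := R) ?_ m K
  refine DRingKP.pc'_iff.2 fun k => ?_
  let f : ModuleCat.of (Polynomial R) (Polynomial R) ⟶ ModuleCat.of (Polynomial R) (Polynomial R) :=
    ModuleCat.ofHom (LinearMap.mulRight (Polynomial R) (Polynomial.X : Polynomial R))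
  let g : ModuleCat.of (Polynomial R) (Polynomial R) ⟶ ModuleCat.of (Polynomial R) R :=
    ModuleCat.ofHom (Algebra.linearMap (Polynomial R) R)
  have hz : f ≫ g = 0 := by
    ext
    simp [f, g, RingHom.algebraMap_toAlgebra]
  have hinj : Function.Injective f.hom := fun x y h =>
    (Polynomial.monic_X (R := R)).isRegular.right h
  have hsurj : Function.Surjective g.hom := fun r => ⟨Polynomial.C r, by
    simp [g, RingHom.algebraMap_toAlgebra]⟩
  have hex : (ShortComplex.mk f g hz).Exact := by
    rw [ShortComplex.moduleCat_exact_iff]
    intro p hp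
    have h0 : p.coeff 0 = 0 := by
      simpa [g, RingHom.algebraMap_toAlgebra, ← Polynomial.coeff_zero_eq_eval_zero] using hp
    obtain ⟨q, hq⟩ := Polynomial.X_dvd_iff.2 h0
    exact ⟨q, by simp [f, hq, mul_comm]⟩
  exact DRingKP.pcModule_quotient
    { exact := hex, mono_f := (ModuleCat.mono_iff_injective f).2 hinj,
      epi_g := (ModuleCat.epi_iff_surjective g).2 hsurj } k
    (DRingKP.pcModule_of_free (ModuleCat.of (Polynomial R) (Polynomial R)) _)
    (DRingKP.pcModule_of_free (ModuleCat.of (Polynomial R) (Polynomial R)) _)

end Groth.Agent.S6981
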