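import Groth.Statements.S6984
import Groth.Agent.RelPC.More

set_option autoImplicit false
universe u
open CategoryTheory CategoryTheory.Limits
attribute [local instance] HasDerivedCategory.standard
open DerCA

namespace Groth.Agent.S6984

/-- Let R be a commutative ring, A → B a finite homomorphism of finite type R-algebras, K an object of
D(B) and m an integer. Then K is m-pseudo-coherent relative to R over B if and only if K, with
scalars restricted to A, is m-pseudo-coherent relative to R over A; and K is pseudo-coherent
relative to R over B if and only if its restriction to A is pseudo-coherent relative to R. -/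
theorem result {R A B : Type u} [CommRing R] [CommRing A] [CommRing B]
    [Algebra R A] [Algebra A B] [Algebra R B] [IsScalarTower R A B] [Algebra.FiniteType R A]
    [Algebra.FiniteType R B] [Module.Finite A B] (K : Dual.D B) (m : ℤ) :
    (DerCA.IsRelPseudoCoherent R B m K ↔
      DerCA.IsRelPseudoCoherent R A m ((DRing.restrictD (algebraMap A B)).obj K)) ∧
      (DerCA.IsRelPseudoCoherentAll R B K ↔
        DerCA.IsRelPseudoCoherentAll R A ((DRing.restrictD (algebraMap A B)).obj K)) := by
  classical
  obtain ⟨n, α, hα⟩ := Algebra.FiniteType.iff_quotient_mvPolynomial''.1 (inferInstance : Algebra.FiniteType R A)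
  obtain ⟨s, hs⟩ := (Module.Finite.fg_top : (⊤ : Submodule A B).FG)
  let b : Fin s.card → B := fun j => ((s.equivFin.symm j : s) : B)
  let f : MvPolynomial (Fin n) R →+* B := (algebraMap A B).comp α.toRingHom
  have hint : ∀ j, f.IsIntegralElem (b j) := fun j => by
    obtain ⟨q, hq, hqb⟩ := Algebra.IsIntegral.isIntegral (R := A) (b j)
    obtain ⟨q', hq', -, hm⟩ := Polynomial.lifts_and_natDegree_eq_and_monic (f := α.toRingHom)
      ((Polynomial.mem_lifts q).2 (Polynomial.map_surjective α.toRingHom hα q)) hq
    refine ⟨q', hm, ?_⟩
    rw [← Polynomial.eval₂_map, hq']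
    exact hqb
  let ψ : MvPolynomial (Fin s.card) (MvPolynomial (Fin n) R) →ₐ[R] B :=
    { MvPolynomial.eval₂Hom f b with
      commutes' := fun r => by
        show MvPolynomial.eval₂Hom f b (algebraMap R _ r) = _
        rw [MvPolynomial.algebraMap_apply, MvPolynomial.eval₂Hom_C]
        change algebraMap A B (α (algebraMap R (MvPolynomial (Fin n) R) r)) = _
        rw [AlgHom.commutes, ← IsScalarTower.algebraMap_apply] }
  have hψ : Function.Surjective ψ := fun x => by
    have hx : x ∈ Submodule.span A (s : Set B) := hs ▸ Submodule.mem_top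
    induction hx using Submodule.span_induction with
    | mem x hx => exact ⟨MvPolynomial.X (s.equivFin ⟨x, hx⟩), by
        show MvPolynomial.eval₂Hom f b _ = x
        simp [b]⟩
    | zero => exact ⟨0, map_zero ψ⟩
    | add x y _ _ hx hy =>
      obtain ⟨p, hp⟩ := hx
      obtain ⟨q, hq⟩ := hy
      exact ⟨p + q, by rw [map_add, hp, hq]⟩
    | smul a x _ hx =>
      obtain ⟨p, hp⟩ := hx
      obtain ⟨c, rfl⟩ := hα a
      refine ⟨MvPolynomial.C c * p, ?_⟩
      rw [map_mul, hp, Algebra.smul_def]
      congr 1
      exact MvPolynomial.eval₂Hom_C f b c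
  have key : ∀ k : ℤ, DerCA.IsRelPseudoCoherent R B k K ↔
      DerCA.IsRelPseudoCoherent R A k ((DRing.restrictD (algebraMap A B)).obj K) := fun k =>
    (Groth.Agent.RelPC.rel_iff_iter ψ hψ k K).trans
      ((Groth.Agent.RelPC.pc_eval₂Hom_iff f b hint k K).trans
        ((Groth.Agent.RelPC.pc_comp_iff α.toRingHom (algebraMap A B) k K).trans
          (Groth.Agent.RelPC.rel_iff α hα k _).symm))
  exact ⟨key m, forall_congr' key⟩

end Groth.Agent.S6984
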