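import Groth.Statements.S6985
import Groth.Agent.RelPC.More

set_option autoImplicit false
universe u
open CategoryTheory CategoryTheory.Limits
attribute [local instance] HasDerivedCategory.standard
open DerCA

namespace Groth.Agent.S6985

/-- Let R be a commutative ring and A → B a homomorphism of finite type R-algebras such that A, as an
A-module, is pseudo-coherent relative to R. Let K be an object of D(B) and m an integer. Then K is
m-pseudo-coherent relative to A if and only if K is m-pseudo-coherent relative to R; and K is
pseudo-coherent relative to A if and only if it is pseudo-coherent relative to R. -/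
theorem result {R A B : Type u} [CommRing R] [CommRing A]
    [CommRing B] [Algebra R A] [Algebra A B] [Algebra R B] [IsScalarTower R A B] [Algebra.FiniteType R A]
    [Algebra.FiniteType R B] [Algebra.FiniteType A B] (hA : DerCA.IsRelPseudoCoherentModuleAll R A A)
    (K : Dual.D B) (m : ℤ) :
    (DerCA.IsRelPseudoCoherent A B m K ↔ DerCA.IsRelPseudoCoherent R B m K) ∧
      (DerCA.IsRelPseudoCoherentAll A B K ↔ DerCA.IsRelPseudoCoherentAll R B K) := by
  obtain ⟨n, α, hα⟩ := Algebra.FiniteType.iff_quotient_mvPolynomial''.1 (inferInstance : Algebra.FiniteType R A)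
  obtain ⟨k, β, hβ⟩ := Algebra.FiniteType.iff_quotient_mvPolynomial''.1 (inferInstance : Algebra.FiniteType A B)
  have hpc : Groth.Agent.RelPC.PCHom α.toRingHom := (Groth.Agent.RelPC.relAll_iff α hα _).1 hA
  let ψ : MvPolynomial (Fin k) (MvPolynomial (Fin n) R) →ₐ[R] B :=
    { β.toRingHom.comp (MvPolynomial.map α.toRingHom) with
      commutes' := fun r => by
        show β (MvPolynomial.map α.toRingHom (algebraMap R _ r)) = _
        rw [MvPolynomial.algebraMap_apply, MvPolynomial.map_C]
        change β (MvPolynomial.C (α (algebraMap R (MvPolynomial (Fin n) R) r))) = _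
        rw [AlgHom.commutes, ← MvPolynomial.algebraMap_eq, AlgHom.commutes, ← IsScalarTower.algebraMap_apply] }
  have hψ : Function.Surjective ψ := hβ.comp (MvPolynomial.map_surjective α.toRingHom hα)
  have key : ∀ j : ℤ, DerCA.IsRelPseudoCoherent A B j K ↔ DerCA.IsRelPseudoCoherent R B j K := fun j =>
    (Groth.Agent.RelPC.rel_iff β hβ j K).trans
      (((hpc.map (Fin k)).pc_comp_iff β.toRingHom j K).symm.trans
        (Groth.Agent.RelPC.rel_iff_iter ψ hψ j K).symm)
  exact ⟨key m, forall_congr' key⟩

end Groth.Agent.S6985
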