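import Groth.Statements.S6987
import Groth.Agent.RelPC.Away

set_option autoImplicit false
universe u
open CategoryTheory CategoryTheory.Limits
attribute [local instance] HasDerivedCategory.standard
open DerCA

namespace Groth.Agent.S6987

/-- Let R → A be a finite type homomorphism of commutative rings, K a cochain complex of A-modules, m an
integer and f_1, ..., f_r elements of A generating the unit ideal. Then relative m-pseudo-coherence
of K over R holds exactly when, for every i, the termwise localization K ⊗_A A_(f_i) is
m-pseudo-coherent relative to R over the finite type R-algebra A_(f_i). -/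
theorem result {R A : Type u} [CommRing R] [CommRing A] [Algebra R A]
    [Algebra.FiniteType R A] (K : DRing.Cx A) (m : ℤ) {r : ℕ} (f : Fin r → A)
    (hf : Ideal.span (Set.range f) = ⊤) :
    DerCA.IsRelPseudoCoherent R A m (DRing.toD K) ↔
      ∀ i, DerCA.IsRelPseudoCoherent R (Localization.Away (f i)) m
        (DRing.toD (((ModuleCat.extendScalars (algebraMap A (Localization.Away (f i)))).mapHomologicalComplex
          (ComplexShape.up ℤ)).obj K)) := by
  classical
  refine ⟨fun h i => Groth.Agent.RelPC.rel_away_of_rel (f i) K m h, fun h => ?_⟩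
  obtain ⟨n, α, hα⟩ := Algebra.FiniteType.iff_quotient_mvPolynomial''.1 (inferInstance : Algebra.FiniteType R A)
  choose c hc using fun i => hα (f i)
  have h1 : (1 : A) ∈ Ideal.span (Set.range f) := hf ▸ Submodule.mem_top
  obtain ⟨a, ha⟩ := (Ideal.mem_span_range_iff_exists_fun).1 h1
  choose a' ha' using fun i => hα (a i)
  let g : Option (Fin r) → A := fun o => o.elim 0 f
  let t : Option (Fin r) → MvPolynomial (Fin n) R := fun o => o.elim (1 - ∑ i, a' i * c i) c
  have hgt : ∀ o, α (t o) = g o := by
    rintro (_ | i)
    · simp [t, g, hc, ha', ha]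
    · exact hc i
  have hspan : Ideal.span (Set.range t) = ⊤ := by
    rw [Ideal.eq_top_iff_one, show (1 : MvPolynomial (Fin n) R) = (1 - ∑ i, a' i * c i) + ∑ i, a' i * c i by ring]
    exact Ideal.add_mem _ (Ideal.subset_span ⟨none, rfl⟩)
      (Ideal.sum_mem _ fun i _ => Ideal.mul_mem_left _ _ (Ideal.subset_span ⟨some i, rfl⟩))
  refine (Groth.Agent.RelPC.rel_iff α hα m _).2 (Groth.Agent.DRingKP.pc_of_iso
    ((ModuleCat.restrictScalars.{u} α.toRingHom).mapDerivedCategoryFactors.app K).symm ?_)
  haveI : ∀ o, Module.Flat (MvPolynomial (Fin n) R) (Localization.Away (t o)) := fun o =>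
    IsLocalization.flat _ (Submonoid.powers (t o))
  refine Groth.Agent.DRingKP.pc_of_bc (Groth.Agent.DRingKP.detects_away t hspan) m _ fun o => ?_
  refine (Groth.Agent.RelPC.rel_away_iff α hα (t o) (g o) (hgt o) K m).1 ?_
  rcases o with _ | i
  · haveI : Subsingleton (Localization.Away (g none)) :=
      IsLocalization.subsingleton (M := Submonoid.powers (g none)) ⟨1, pow_one _⟩
    refine ⟨_, ((Algebra.FiniteType.iff_quotient_mvPolynomial''.1
      (inferInstance : Algebra.FiniteType R (Localization.Away (g none)))).choose_spec.choose), ?_, ?_⟩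
    · exact ((Algebra.FiniteType.iff_quotient_mvPolynomial''.1
        (inferInstance : Algebra.FiniteType R (Localization.Away (g none)))).choose_spec.choose_spec)
    · refine Groth.Agent.DRingKP.pc_of_isAbove ((Groth.Agent.DRingKP.isAbove_res _).2 fun j _ => ?_)
      haveI : Subsingleton (Dual.HD (Localization.Away (g none)) (DRing.toD
          (((ModuleCat.extendScalars (algebraMap A (Localization.Away (g none)))).mapHomologicalComplex
            (ComplexShape.up ℤ)).obj K)) j) := Module.subsingleton (Localization.Away (g none)) _
      exact @ModuleCat.isZero_of_subsingleton _ _ _ this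
  · exact h i

end Groth.Agent.S6987
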