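import Groth.Statements.S6988
import Groth.Agent.DRingKP.ToSingle

set_option autoImplicit false
universe u
open CategoryTheory CategoryTheory.Limits
attribute [local instance] HasDerivedCategory.standard
open DRing

namespace Groth.Agent.S6988

/-- Let R be a commutative ring, K a pseudo-coherent object of D(R) and i an integer. Then some finitely
presented R-module M admits a morphism K → M[-i] in D(R) that is injective on H^i (here H^i(M[-i]) =
M). -/
theorem result (R : Type u) [CommRing R] (K : Dual.D R)
    (hK : DRing.IsPseudoCoherent' R K) (i : ℤ) :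
    ∃ (M : Type u) (_ : AddCommGroup M) (_ : Module R M) (_ : Module.FinitePresentation R M)
      (f : K ⟶ (shiftFunctor (Dual.D R) (-i)).obj (Dual.inD R M)),
      Mono ((DerivedCategory.homologyFunctor (ModuleCat.{u} R) i).map f) := by
  obtain ⟨P, b, hb, hP, ⟨e⟩⟩ := hK
  obtain ⟨f, a, c, hf⟩ := Groth.Agent.DRingKP.exists_hom_to_shift P e i _ (𝟙 (P.opcycles i))
  haveI := (hP i).1
  haveI := (hP i).2
  haveI := (hP (i - 1)).1
  have hsurj : Function.Surjective (P.pOpcycles i).hom := (ModuleCat.epi_iff_surjective _).1 inferInstance
  have hker : LinearMap.ker (P.pOpcycles i).hom = LinearMap.range (P.d (i - 1) i).hom := by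
    exact ((CategoryTheory.ShortComplex.moduleCat_exact_iff_range_eq_ker
      (CategoryTheory.ShortComplex.mk (P.d (i - 1) i) (P.pOpcycles i) (P.d_pOpcycles _ _))).1
      (CategoryTheory.ShortComplex.exact_of_g_is_cokernel _ (P.opcyclesIsCokernel (i - 1) i (by simp)))).symm
  haveI : Module.Projective R (P.X i) := Module.Projective.of_free
  haveI : Module.FinitePresentation R (P.X i) := Module.finitePresentation_of_projective R (P.X i)
  haveI hM : Module.FinitePresentation R (P.opcycles i) := by
    refine Module.finitePresentation_of_surjective (P.pOpcycles i).hom hsurj ?_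
    rw [hker]
    exact Module.Finite.iff_fg.1 (Module.Finite.range _)
  refine ⟨P.opcycles i, inferInstance, inferInstance, hM, f, ?_⟩
  rw [hf]
  infer_instance

end Groth.Agent.S6988
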