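import Groth.Statements.S6989
import Groth.Agent.DRingKP.ToSingle
import Groth.Agent.DRingKP.Coherent
import Mathlib.RingTheory.Filtration

set_option autoImplicit false
universe u
open CategoryTheory CategoryTheory.Limits
attribute [local instance] HasDerivedCategory.standard
open DRing

namespace Groth.Agent.S6989

/-- Let A be a Noetherian commutative ring, K an object of D(A) whose cohomology vanishes in large
degrees and whose cohomology modules are all finitely generated, m a maximal ideal of A and i an
integer such that m H^i(K) ≠ H^i(K). Then some finitely generated A-module E killed by a power of m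
receives a morphism K → E[-i] in D(A) whose induced map H^i(K) → H^i(E[-i]) is nonzero. -/
theorem result (A : Type u) [CommRing A]
    [IsNoetherianRing A] (K : Dual.D A) (hb : ∃ b : ℤ, ∀ j : ℤ, b < j → Subsingleton (Dual.HD A K j))
    (hfin : ∀ j : ℤ, Module.Finite A (Dual.HD A K j)) (m : Ideal A) [m.IsMaximal] (i : ℤ)
    (hi : m • (⊤ : Submodule A (Dual.HD A K i)) ≠ ⊤) :
    ∃ (E : Type u) (_ : AddCommGroup E) (_ : Module A E) (_ : Module.Finite A E) (n : ℕ)
      (_ : m ^ n • (⊤ : Submodule A E) = ⊥) (f : K ⟶ (shiftFunctor (Dual.D A) (-i)).obj (Dual.inD A E)),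
      (DerivedCategory.homologyFunctor (ModuleCat.{u} A) i).map f ≠ 0 := by
  have hK : DRing.IsPseudoCoherent' A K := by
    obtain ⟨b, hb⟩ := hb
    refine (Groth.Agent.DRingKP.pc'_iff_coherent (Groth.Agent.DRingKP.isCoh_of_noetherian (A := A)) ⟨b + 1, fun j hj => ?_⟩).2 fun j => ?_
    · haveI : Subsingleton (Dual.HD A K j) := hb j (by lia)
      exact CategoryTheory.Limits.IsZero.of_iso (ModuleCat.isZero_of_subsingleton _) (CategoryTheory.Iso.refl _)
    · haveI := hfin j
      exact Module.finitePresentation_of_finite A _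
  obtain ⟨P, b, hb', hP, ⟨e⟩⟩ := hK
  haveI := (hP i).1
  let C : ModuleCat.{u} A := P.opcycles i
  haveI hC : Module.Finite A C := Module.Finite.of_surjective (P.pOpcycles i).hom
    ((ModuleCat.epi_iff_surjective _).1 inferInstance)
  let F : P.homology i →ₗ[A] C := (P.homologyι i).hom
  have hFinj : Function.Injective F := (ModuleCat.mono_iff_injective _).1 inferInstance
  obtain ⟨k, hk⟩ := Ideal.exists_pow_inf_eq_pow_smul m (LinearMap.range F)
  obtain ⟨f, a, c, hf⟩ := Groth.Agent.DRingKP.exists_hom_to_shift P e i
    (ModuleCat.of A (C ⧸ (m ^ (k + 1) • (⊤ : Submodule A C))))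
    (ModuleCat.ofHom (m ^ (k + 1) • (⊤ : Submodule A C)).mkQ)
  refine ⟨_, inferInstance, inferInstance, inferInstance, k + 1, ?_, f, fun h0 => hi ?_⟩
  · rw [← Submodule.range_mkQ (m ^ (k + 1) • (⊤ : Submodule A C)), LinearMap.range_eq_map,
      ← Submodule.map_smul'']
    exact Submodule.mkQ_map_self _
  · have h1 : P.homologyι i ≫ ModuleCat.ofHom (m ^ (k + 1) • (⊤ : Submodule A C)).mkQ = 0 := by
      rw [← CategoryTheory.cancel_mono c.hom, ← CategoryTheory.cancel_epi a.inv]
      rw [hf] at h0
      simp only [CategoryTheory.Category.assoc, CategoryTheory.Limits.comp_zero, CategoryTheory.Limits.zero_comp]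
      exact h0
    have h2 : LinearMap.range F ≤ m ^ (k + 1) • (⊤ : Submodule A C) := by
      rintro _ ⟨x, rfl⟩
      have := LinearMap.congr_fun (congrArg ModuleCat.Hom.hom h1) x
      exact (Submodule.Quotient.mk_eq_zero _).1 this
    have h3 : LinearMap.range F ≤ m • LinearMap.range F := by
      calc LinearMap.range F ≤ m ^ (k + 1) • (⊤ : Submodule A C) ⊓ LinearMap.range F := le_inf h2 le_rfl
        _ = m ^ 1 • (m ^ k • ⊤ ⊓ LinearMap.range F) := by
          rw [hk (k + 1) (by lia), Nat.add_sub_cancel_left]
        _ ≤ m • LinearMap.range F := by rw [pow_one]; exact Submodule.smul_mono le_rfl inf_le_right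
    let G : P.homology i →ₗ[A] Dual.HD A K i := a.hom.hom
    have hG : Function.Surjective G := (ModuleCat.epi_iff_surjective _).1 inferInstance
    have h4 : (⊤ : Submodule A (P.homology i)) ≤ m • ⊤ := by
      intro x _
      have hx := h3 ⟨x, rfl⟩
      rw [LinearMap.range_eq_map, ← Submodule.map_smul''] at hx
      obtain ⟨y, hy, hxy⟩ := hx
      exact hFinj hxy ▸ hy
    refine eq_top_iff.2 fun z _ => ?_
    obtain ⟨x, rfl⟩ := hG z
    have := Submodule.mem_map_of_mem (f := G) (h4 (Submodule.mem_top (x := x)))
    rw [Submodule.map_smul''] at this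
    exact Submodule.smul_mono le_rfl le_top this

end Groth.Agent.S6989
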