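import Groth.Statements.S6991
import Groth.Agent.RelFP.Change

set_option autoImplicit false
universe u
open CAlg

open Groth.Agent
set_option backward.isDefEq.respectTransparency false
open scoped TensorProduct
namespace Groth.Agent.S6991

theorem fp_of_surjective {P A : Type u} [CommRing P] [CommRing A] [Algebra P A]
    (hα : Function.Surjective (algebraMap P A)) (M : Type u) [AddCommGroup M] [Module A M] [Module P M]
    [IsScalarTower P A M] [Module.FinitePresentation P M] : Module.FinitePresentation A M := by
  obtain ⟨m, l, hl⟩ := Module.Finite.exists_fin' P M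
  obtain ⟨t, ht⟩ := Module.FinitePresentation.fg_ker l hl
  refine Module.finitePresentation_of_surjective (LinearMap.liftBaseChange A l) (fun y => ?_) ?_
  · obtain ⟨x, rfl⟩ := hl y
    exact ⟨1 ⊗ₜ x, by simp⟩
  · have hle : LinearMap.ker (LinearMap.liftBaseChange A l) ≤ (LinearMap.ker l).baseChange A := by
      intro z hz
      obtain ⟨x, rfl⟩ := TensorProduct.mk_surjective P _ A hα z
      refine Submodule.tmul_mem_baseChange_of_mem 1 ?_
      simpa using hz
    have hge : (LinearMap.ker l).baseChange A ≤ LinearMap.ker (LinearMap.liftBaseChange A l) := by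
      rw [Submodule.baseChange_eq_span, Submodule.span_le]
      rintro _ ⟨x, hx, rfl⟩
      simpa using hx
    rw [le_antisymm hle hge, ← ht, Submodule.baseChange_span]
    exact Submodule.fg_span (t.finite_toSet.image _)

/-- Let R → A be a finite type homomorphism of commutative rings, M an A-module, and α : R[x_1, ...,
x_n] → A, β : R[y_1, ..., y_k] → A surjective R-algebra homomorphisms. Then M is finitely presented
as an R[x_1, ..., x_n]-module through α if and only if M is finitely presented as an R[y_1, ...,
y_k]-module through β. If this holds, M is a finitely presented A-module. -/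
theorem result {R A : Type u} [CommRing R] [CommRing A] [Algebra R A]
    [Algebra.FiniteType R A] (M : Type u) [AddCommGroup M] [Module A M] {n k : ℕ}
    (α : MvPolynomial (Fin n) R →ₐ[R] A) (hα : Function.Surjective α)
    (β : MvPolynomial (Fin k) R →ₐ[R] A) (hβ : Function.Surjective β) :
    (@Module.FinitePresentation (MvPolynomial (Fin n) R) M _ _ (Module.compHom M α.toRingHom) ↔
      @Module.FinitePresentation (MvPolynomial (Fin k) R) M _ _ (Module.compHom M β.toRingHom)) ∧
      (@Module.FinitePresentation (MvPolynomial (Fin n) R) M _ _ (Module.compHom M α.toRingHom) →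
        Module.FinitePresentation A M) := by
  refine ⟨⟨RelFP.indep (MvPolynomial (Fin n) R) (MvPolynomial (Fin k) R) α hα β hβ M,
    RelFP.indep (MvPolynomial (Fin k) R) (MvPolynomial (Fin n) R) β hβ α hα M⟩, fun h => ?_⟩
  letI : Module (MvPolynomial (Fin n) R) M := Module.compHom M α.toRingHom
  letI : Algebra (MvPolynomial (Fin n) R) A := α.toRingHom.toAlgebra
  haveI : IsScalarTower (MvPolynomial (Fin n) R) A M := IsScalarTower.of_algebraMap_smul fun _ _ => rfl
  exact fp_of_surjective (P := MvPolynomial (Fin n) R) hα M

end Groth.Agent.S6991
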