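import Groth.Statements.S6995
import Groth.Agent.DRingKP.GlobalDim
import Groth.Agent.DRingKP.TorAmp

set_option autoImplicit false
universe u
open CategoryTheory CategoryTheory.Limits
attribute [local instance] HasDerivedCategory.standard
open DRing

namespace Groth.Agent.S6995

/-- Let R be a Noetherian regular commutative ring of finite Krull dimension d ≥ 1, K a perfect object
of D(R) and k an integer such that H^i(K) = 0 for every i with k - d + 2 ≤ i ≤ k. Then K splits in
D(R) as the direct sum of its canonical truncations: there is an isomorphism K ≅ τ_(≤ k-d+1) K ⊕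
τ_(≥ k+1) K under which the truncation map τ_(≤ k-d+1) K → K becomes the first inclusion and K →
τ_(≥ k+1) K the second projection. -/
theorem result (R : Type u) [CommRing R] [IsNoetherianRing R]
    (hreg : ∀ p : PrimeSpectrum R, IsRegularLocalRing (Localization.AtPrime p.asIdeal)) (d : ℕ) (hd1 : 1 ≤ d)
    (hd : ringKrullDim R = d) (K : Dual.D R) (hK : DRing.IsPerfect R K) (k : ℤ)
    (hgap : ∀ i : ℤ, k - d + 2 ≤ i → i ≤ k → Subsingleton (Dual.HD R K i))
    [HasBinaryBiproduct
      (((DerivedCategory.TStructure.t : Triangulated.TStructure (Dual.D R)).truncLT (k - d + 2)).obj K)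
      (((DerivedCategory.TStructure.t : Triangulated.TStructure (Dual.D R)).truncGE (k + 1)).obj K)] :
    ∃ e : K ≅
      ((DerivedCategory.TStructure.t : Triangulated.TStructure (Dual.D R)).truncLT (k - d + 2)).obj K ⊞
        ((DerivedCategory.TStructure.t : Triangulated.TStructure (Dual.D R)).truncGE (k + 1)).obj K,
      ((DerivedCategory.TStructure.t : Triangulated.TStructure (Dual.D R)).truncLTι (k - d + 2)).app K ≫ e.hom =
          biprod.inl ∧
        e.hom ≫ biprod.snd =
          ((DerivedCategory.TStructure.t : Triangulated.TStructure (Dual.D R)).truncGEπ (k + 1)).app K := by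
  let t := (DerivedCategory.TStructure.t : Triangulated.TStructure (Dual.D R))
  obtain ⟨E, a₀, b, hE, -, ⟨eE⟩⟩ := hK
  let m := k - (d : ℤ) + 2
  have hT := t.triangleLTGE_distinguished m K
  haveI hm : ((t.truncGE m).obj K).IsGE m := inferInstanceAs (t.IsGE ((t.truncGE m).obj K) m)
  have hz : ∀ i : ℤ, (i < k + 1 - (d : ℤ) + d ∨ max b k < i) →
      Limits.IsZero ((DerivedCategory.homologyFunctor (ModuleCat.{u} R) i).obj ((t.truncGE m).obj K)) := by
    intro i hi
    rcases lt_or_ge i m with h | h
    · exact DerivedCategory.isZero_of_isGE _ m i h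
    · haveI := Groth.Agent.DRingKP.isIso_homology_truncGEπ K m i h
      refine CategoryTheory.Limits.IsZero.of_iso ?_
        (CategoryTheory.asIso ((DerivedCategory.homologyFunctor (ModuleCat.{u} R) i).map ((t.truncGEπ m).app K))).symm
      rcases hi with hi | hi
      · exact @ModuleCat.isZero_of_subsingleton R _ ((DerivedCategory.homologyFunctor (ModuleCat.{u} R) i).obj ((𝟭 _).obj K))
          (hgap i h (by lia))
      · exact ((CategoryTheory.ShortComplex.isZero_homology_of_isZero_X₂ _ (hE i (Or.inr (by lia)))).of_iso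
          ((DerivedCategory.homologyFunctorFactors _ i).app E)).of_iso
          ((DerivedCategory.homologyFunctor (ModuleCat.{u} R) i).mapIso eE).symm
  obtain ⟨P, hP, hPp, ⟨eP⟩⟩ := Groth.Agent.DRingKP.exists_projRep (k + 1 - (d : ℤ)) (max b k) d
    (fun M => Groth.Agent.DRingKP.pdLE_of_regular hreg d hd M) _ hz
  haveI hle : ((t.truncLT m).obj K).IsLE (m - 1) := inferInstanceAs (t.IsLE ((t.truncLT m).obj K) (m - 1))
  haveI hle1 : (((t.truncLT m).obj K)⟦(1 : ℤ)⟧).IsLE (m - 1 - 1) := Groth.Agent.DRingKP.isLE_shift_one hle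
  have hδ : (t.truncGEδLT m).app K = 0 := @Subsingleton.elim _ (Groth.Agent.DRingKP.subsingleton_hom hP hPp eP
    (fun i hi => DerivedCategory.isZero_of_isLE (((t.truncLT m).obj K)⟦(1 : ℤ)⟧) (m - 1 - 1) i (by lia))) _ _
  have hiso := Groth.Agent.DRingKP.isIso_natTransTruncGE K m (k + 1) (by lia) (fun i hi hi' => hgap i hi (by lia))
  obtain ⟨e, he₁, he₂⟩ := CategoryTheory.Pretriangulated.exists_iso_binaryBiproduct_of_distTriang _ hT hδ
  have he₁' : (t.truncLTι m).app K ≫ e.hom = biprod.inl := he₁
  have he₂' : e.hom ≫ biprod.snd = (t.truncGEπ m).app K := he₂.symm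
  refine ⟨e ≪≫ (biprod.mapIso (CategoryTheory.Iso.refl _)
    (@CategoryTheory.asIso _ _ _ _ ((t.natTransTruncGEOfLE m (k + 1) (by lia)).app K) hiso)), ?_, ?_⟩
  · show (t.truncLTι m).app K ≫ (e.hom ≫ biprod.map (𝟙 _) ((t.natTransTruncGEOfLE m (k + 1) (by lia)).app K)) = _
    refine (CategoryTheory.Category.assoc _ _ _).symm.trans ?_
    erw [he₁', CategoryTheory.Limits.biprod.inl_map, CategoryTheory.Category.id_comp]
    rfl
  · show (e.hom ≫ biprod.map (𝟙 _) ((t.natTransTruncGEOfLE m (k + 1) (by lia)).app K)) ≫ biprod.snd = _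
    refine (CategoryTheory.Category.assoc _ _ _).trans ?_
    erw [CategoryTheory.Limits.biprod.map_snd, reassoc_of% he₂']
    exact t.π_natTransTruncGEOfLE_app m (k + 1) (by lia) K

end Groth.Agent.S6995
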