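import Groth.Statements.S7004
import Groth.Agent.DRingKP.SplitGap

set_option autoImplicit false
universe u
open CategoryTheory CategoryTheory.Limits
attribute [local instance] HasDerivedCategory.standard
open DRing

namespace Groth.Agent.S7004

/-- Let R be a commutative ring, a an integer and K an object of D(R) whose cohomology vanishes in large
degrees, such that Hom(K, M[-a]) = 0 in D(R) for every R-module M. Then K ≅ τ_(≤ a-1) K ⊕ τ_(≥ a+1)
K by an isomorphism carrying τ_(≤ a-1) K → K to the first inclusion and K → τ_(≥ a+1) K to the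
second projection, and τ_(≥ a+1) K is isomorphic in D(R) to a complex of projective modules
vanishing outside [a+1, b] for some integer b. (The published statement also asserts that the
decomposition is unique; that part is not restated.) -/
theorem result (R : Type u) [CommRing R] (a : ℤ) (K : Dual.D R)
    (hKb : ∃ b : ℤ, ∀ i : ℤ, b < i → Subsingleton (Dual.HD R K i))
    (h : ∀ (M : Type u) [AddCommGroup M] [Module R M],
      Subsingleton (K ⟶ (shiftFunctor (Dual.D R) (-a)).obj (Dual.inD R M)))
    [HasBinaryBiproduct (((DerivedCategory.TStructure.t : Triangulated.TStructure (Dual.D R)).truncLT a).obj K) (((DerivedCategory.TStructure.t : Triangulated.TStructure (Dual.D R)).truncGE (a + 1)).obj K)] :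
    (∃ e : K ≅ ((DerivedCategory.TStructure.t : Triangulated.TStructure (Dual.D R)).truncLT a).obj K ⊞ ((DerivedCategory.TStructure.t : Triangulated.TStructure (Dual.D R)).truncGE (a + 1)).obj K,
      ((DerivedCategory.TStructure.t : Triangulated.TStructure (Dual.D R)).truncLTι a).app K ≫ e.hom = biprod.inl ∧
        e.hom ≫ biprod.snd = ((DerivedCategory.TStructure.t : Triangulated.TStructure (Dual.D R)).truncGEπ (a + 1)).app K) ∧
      ∃ (P : DRing.Cx R) (b : ℤ), DRing.VanishesOutside P (a + 1) b ∧ (∀ i : ℤ, Module.Projective R (P.X i)) ∧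
        Nonempty (DRing.toD P ≅ ((DerivedCategory.TStructure.t : Triangulated.TStructure (Dual.D R)).truncGE (a + 1)).obj K) := by
  obtain ⟨b, hb⟩ := hKb
  let t := (DerivedCategory.TStructure.t : Triangulated.TStructure (Dual.D R))
  have hHa : Subsingleton (Dual.HD R K a) :=
    Groth.Agent.DRingKP.zero_homology_of_ext (DerivedCategory.Q.objObjPreimageIso K) a (h _)
  have hz : CategoryTheory.Limits.IsZero ((DerivedCategory.homologyFunctor (ModuleCat.{u} R) a).obj K) :=
    @ModuleCat.isZero_of_subsingleton _ _ ((DerivedCategory.homologyFunctor (ModuleCat.{u} R) a).obj K) hHa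
  let ν := (t.natTransTruncLTOfLE a (a + 1) (by lia)).app K
  have hν : ν ≫ (t.truncLTι (a + 1)).app K = (t.truncLTι a).app K := t.natTransTruncLTOfLE_ι_app a (a + 1) (by lia) K
  haveI : IsIso ν := by
    rw [DerivedCategory.isIso_iff]
    intro i
    rcases lt_trichotomy i a with hi | rfl | hi
    · haveI := Groth.Agent.DRingKP.isIso_homology_truncLTι K a i hi
      haveI := Groth.Agent.DRingKP.isIso_homology_truncLTι K (a + 1) i (by lia)
      have := congrArg (DerivedCategory.homologyFunctor (ModuleCat.{u} R) i).map hν
      rw [Functor.map_comp] at this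
      exact CategoryTheory.IsIso.of_isIso_fac_right this
    · haveI := Groth.Agent.DRingKP.isIso_homology_truncLTι K (i + 1) i (by lia)
      haveI : ((t.truncLT i).obj K).IsLE (i - 1) := inferInstanceAs (t.IsLE ((t.truncLT i).obj K) (i - 1))
      exact CategoryTheory.Limits.isIso_of_source_target_iso_zero _
        (DerivedCategory.isZero_of_isLE ((t.truncLT i).obj K) (i - 1) i (by lia)).isoZero
        (hz.of_iso (CategoryTheory.asIso ((DerivedCategory.homologyFunctor (ModuleCat.{u} R) i).map ((t.truncLTι (i + 1)).app K)))).isoZero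
    · haveI : ((t.truncLT a).obj K).IsLE (a - 1) := inferInstanceAs (t.IsLE ((t.truncLT a).obj K) (a - 1))
      haveI : ((t.truncLT (a + 1)).obj K).IsLE a := inferInstanceAs (t.IsLE ((t.truncLT (a + 1)).obj K) a)
      exact CategoryTheory.Limits.isIso_of_source_target_iso_zero _
        (DerivedCategory.isZero_of_isLE ((t.truncLT a).obj K) (a - 1) i (by lia)).isoZero
        (DerivedCategory.isZero_of_isLE ((t.truncLT (a + 1)).obj K) a i (by lia)).isoZero
  obtain ⟨⟨e, he₁, he₂⟩, hP⟩ := Groth.Agent.DRingKP.split_of_hom_vanishing a b K hb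
    (fun N => subsingleton_of_forall_eq 0 fun g => Groth.Agent.DRingKP.hom_trunc_eq_zero N g
      (@Subsingleton.elim _ (h N) _ _))
  refine ⟨⟨e ≪≫ (biprod.mapIso (CategoryTheory.asIso ν).symm (CategoryTheory.Iso.refl _)), ?_, ?_⟩, hP⟩
  · rw [← hν, CategoryTheory.Category.assoc]
    simp only [CategoryTheory.Iso.trans_hom, CategoryTheory.Limits.biprod.mapIso_hom, CategoryTheory.Iso.symm_hom, CategoryTheory.asIso_inv, CategoryTheory.Iso.refl_hom]
    erw [reassoc_of% he₁]
    simp
  · simp [he₂]

end Groth.Agent.S7004
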