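import Groth.Statements.S7006
import Groth.Agent.RelFP.Change

set_option autoImplicit false
set_option linter.style.haveILetI false
set_option backward.isDefEq.respectTransparency false
open Groth.Agent
universe u
open CAlg

namespace Groth.Agent.S7006

/-- Let R be a commutative ring, f an element of R, A an R_f-algebra with a surjective R_f-algebra
homomorphism α : R_f[x_1, ..., x_n] → A, g an element of A, and M an A-module which is finitely
presented as an R_f[x_1, ..., x_n]-module through α. Then for every surjective R-algebra
homomorphism γ : R[z_1, ..., z_k] → A_g, the localized module M_g is finitely presented as an R[z_1,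
..., z_k]-module through γ. -/
theorem result {R A : Type u} [CommRing R] [CommRing A] (f : R)
    [Algebra R A] [Algebra (Localization.Away f) A] [IsScalarTower R (Localization.Away f) A] {n k : ℕ}
    (α : MvPolynomial (Fin n) (Localization.Away f) →ₐ[Localization.Away f] A) (hα : Function.Surjective α)
    (g : A) (M : Type u) [AddCommGroup M] [Module A M]
    (hM : @Module.FinitePresentation (MvPolynomial (Fin n) (Localization.Away f)) (M) _ _ (Module.compHom (M) α.toRingHom))
    (γ : MvPolynomial (Fin k) R →ₐ[R] Localization.Away g) (hγ : Function.Surjective γ) :
    @Module.FinitePresentation (MvPolynomial (Fin k) R) (LocalizedModule (Submonoid.powers g) M) _ _ (Module.compHom (LocalizedModule (Submonoid.powers g) M) γ.toRingHom) := by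
  haveI : Algebra.FinitePresentation R (Localization.Away f) :=
    IsLocalization.Away.finitePresentation f
  haveI : Algebra.FiniteType (Localization.Away f) A :=
    Algebra.FiniteType.of_surjective α hα
  haveI : Algebra.FiniteType R A := Algebra.FiniteType.trans (S := Localization.Away f) inferInstance inferInstance
  obtain ⟨m, β, hβ⟩ := Algebra.FiniteType.iff_quotient_mvPolynomial''.mp (inferInstance : Algebra.FiniteType R A)
  have h1 := Groth.Agent.RelFP.change_base α hα β hβ M hM
  haveI : Algebra.FinitePresentation A (Localization.Away g) := IsLocalization.Away.finitePresentation g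
  have h2 := Groth.Agent.RelFP.extend β hβ γ hγ M h1
  letI : Module (MvPolynomial (Fin k) R) (TensorProduct A (Localization.Away g) M) := Module.compHom _ γ.toRingHom
  letI : Module (MvPolynomial (Fin k) R) (LocalizedModule (Submonoid.powers g) M) := Module.compHom _ γ.toRingHom
  let e := (LocalizedModule.equivTensorProduct (Submonoid.powers g) M).symm
  let e' : TensorProduct A (Localization.Away g) M ≃ₗ[MvPolynomial (Fin k) R] LocalizedModule (Submonoid.powers g) M :=
    { toFun := fun z => e z
      invFun := fun z => e.symm z
      left_inv := e.symm_apply_apply
      right_inv := e.apply_symm_apply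
      map_add' := fun a b => e.map_add a b
      map_smul' := fun a b => e.map_smul (γ a) b }
  exact @Module.FinitePresentation.of_equiv _ _ _ _ _ _ _ _ e' h2

end Groth.Agent.S7006
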