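import Groth.Statements.S7008
import Groth.Agent.RelPC.Away
import Groth.Agent.S6985

set_option autoImplicit false
universe u
open CategoryTheory CategoryTheory.Limits
attribute [local instance] HasDerivedCategory.standard
open DerCA

namespace Groth.Agent.S7008

/-- Let R be a commutative ring, f an element of R, A a finite type R_f-algebra, g an element of A, K a
cochain complex of A-modules and m an integer; write K_g for the termwise localization K ⊗_A A_g, a
complex over the finite type R-algebra A_g. Suppose K is m-pseudo-coherent relative to R_f; then K_g
is m-pseudo-coherent relative to R. Suppose K is pseudo-coherent relative to R_f in every degree;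
then so is K_g relative to R. -/
theorem result {R A : Type u} [CommRing R] [CommRing A] (f : R) [Algebra R A]
    [Algebra (Localization.Away f) A] [IsScalarTower R (Localization.Away f) A]
    [Algebra.FiniteType (Localization.Away f) A] (g : A) (K : DRing.Cx A) (m : ℤ) :
    (DerCA.IsRelPseudoCoherent (Localization.Away f) A m (DRing.toD K) →
      DerCA.IsRelPseudoCoherent R (Localization.Away g) m
        (DRing.toD (((ModuleCat.extendScalars (algebraMap A (Localization.Away g))).mapHomologicalComplex
          (ComplexShape.up ℤ)).obj K))) ∧
      (DerCA.IsRelPseudoCoherentAll (Localization.Away f) A (DRing.toD K) →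
        DerCA.IsRelPseudoCoherentAll R (Localization.Away g)
          (DRing.toD (((ModuleCat.extendScalars (algebraMap A (Localization.Away g))).mapHomologicalComplex
            (ComplexShape.up ℤ)).obj K))) := by
  haveI : Algebra.FinitePresentation R (Localization.Away f) := IsLocalization.Away.finitePresentation f
  haveI : Module.Flat R (Localization.Away f) := IsLocalization.flat _ (Submonoid.powers f)
  haveI : Algebra.FiniteType R A := Algebra.FiniteType.trans (inferInstance : Algebra.FiniteType R (Localization.Away f))
    (inferInstance : Algebra.FiniteType (Localization.Away f) A)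
  obtain ⟨n, α, hα⟩ := Algebra.FiniteType.iff_quotient_mvPolynomial''.1
    (inferInstance : Algebra.FiniteType R (Localization.Away f))
  have hA : DerCA.IsRelPseudoCoherentModuleAll R (Localization.Away f) (Localization.Away f) :=
    (Groth.Agent.RelPC.relAll_iff α hα _).2 (Groth.Agent.RelPC.pcHom_of_flat_fp α hα)
  have key : ∀ k : ℤ, DerCA.IsRelPseudoCoherent (Localization.Away f) A k (DRing.toD K) →
      DerCA.IsRelPseudoCoherent R (Localization.Away g) k (DRing.toD
        (((ModuleCat.extendScalars (algebraMap A (Localization.Away g))).mapHomologicalComplex (ComplexShape.up ℤ)).obj K)) :=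
    fun k h => Groth.Agent.RelPC.rel_away_of_rel g K k ((Groth.Agent.S6985.result hA (DRing.toD K) k).1.1 h)
  exact ⟨key m, fun h k => key k (h k)⟩

end Groth.Agent.S7008
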