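import Groth.Statements.S7009
import Groth.Agent.PerfColim.Descend
import Groth.Agent.DRingKP.BC

set_option autoImplicit false
universe u
open CategoryTheory CategoryTheory.Limits
attribute [local instance] HasDerivedCategory.standard
open DRing

namespace Groth.Agent.S7009

/-- Let (R_j) be a diagram of commutative rings over a small filtered category with colimit R, such that
the derived base change D(R_j) → D(R) exists for every j, and let K be a perfect object of D(R).
Then there exist an index j and a perfect object K_j of D(R_j) such that K_j ⊗^L R is isomorphic to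
K in D(R). -/
theorem result {J : Type u} [SmallCategory J] [IsFiltered J]
    (F : J ⥤ CommRingCat.{u}) (c : Cocone F) (hc : IsColimit c)
    [∀ j : J, DRing.HasLBaseChange (c.ι.app j).hom] (K : Dual.D c.pt) (hK : DRing.IsPerfect c.pt K) :
    ∃ (j : J) (Kj : Dual.D (F.obj j)), DRing.IsPerfect (F.obj j) Kj ∧
      Nonempty ((DRing.LBaseChange (c.ι.app j).hom).obj Kj ≅ K) := by
  obtain ⟨E, a, b, hE, hp, ⟨e⟩⟩ := hK
  obtain ⟨D, hn, ⟨g⟩⟩ := Groth.Agent.PerfColim.exists_data E a b hE hp
  obtain ⟨j, D', hn', rfl⟩ := Groth.Agent.PerfColim.exists_data_stage hc D a b hn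
  have hv : DRing.VanishesOutside D'.cx a b := fun i hi => D'.isZero_X (hn' i hi)
  haveI : CochainComplex.IsKProjective D'.cx := Groth.Agent.DRingKP.isKProjective_of_vanishesAbove
    (fun i hi => hv i (Or.inr hi)) (Groth.Agent.DRingKP.projective_X D'.termwiseFiniteProjective)
  obtain ⟨β⟩ := Groth.Agent.PerfColim.exists_bc_iso (c.ι.app j).hom D'
  exact ⟨j, DRing.toD D'.cx, ⟨D'.cx, a, b, hv, D'.termwiseFiniteProjective, ⟨Iso.refl _⟩⟩,
    ⟨Groth.Agent.DRingKP.lBaseChangeIso (c.ι.app j).hom D'.cx ≪≫ DerivedCategory.Q.mapIso (β ≪≫ g.symm) ≪≫ e⟩⟩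

end Groth.Agent.S7009
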