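import Groth.Statements.S7010
import Groth.Agent.ProTor.Criterion
import Groth.Agent.ExtPro.Shift

set_option autoImplicit false
universe u
open CategoryTheory CategoryTheory.Limits
attribute [local instance] HasDerivedCategory.standard
open DRing

namespace Groth.Agent.S7010

open CategoryTheory.Pretriangulated in
/-- The inclusion of the perfect objects in the subcategory generated by R: let R be a commutative ring
and P a property of objects of D(R) which is closed under isomorphisms, holds for R[0], is stable
under all shifts, is closed under extensions (if it holds for the outer terms of a distinguished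
triangle it holds for the middle term) and is closed under taking direct summands. Then P holds for
every perfect object of D(R). -/
theorem result (R : Type u) [CommRing R]
    (P : ObjectProperty (Dual.D R)) [P.IsClosedUnderIsomorphisms] (hR : P (Dual.inD R R))
    (hshift : ∀ (K : Dual.D R) (n : ℤ), P K → P ((shiftFunctor (Dual.D R) n).obj K))
    (hext : ∀ T : Triangle (Dual.D R), T ∈ distinguishedTriangles → P T.obj₁ → P T.obj₃ → P T.obj₂)
    (hsum : ∀ (X Y : Dual.D R) [HasBinaryBiproduct X Y], P (X ⊞ Y) → P X)
    (K : Dual.D R) (hK : DRing.IsPerfect R K) : P K := by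
  have hQ : ∀ (M : ModuleCat.{u} R) (i : ℤ), P ((DerivedCategory.singleFunctor (ModuleCat.{u} R) 0).obj M) →
      P (DerivedCategory.Q.obj ((HomologicalComplex.single (ModuleCat.{u} R) (ComplexShape.up ℤ) i).obj M)) := by
    intro M i h
    have e := ((Groth.Agent.ExtPro.ν (A := R) (-i)).app M)
    rw [neg_neg] at e
    exact P.prop_of_iso e (hshift _ (-i) h)
  have hfree : ∀ k : ℕ, P ((DerivedCategory.singleFunctor (ModuleCat.{u} R) 0).obj (ModuleCat.of R (Fin k → R))) := by
    intro k
    induction k with
    | zero =>
      -- the zero object is a summand of `R`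
      let X := (DerivedCategory.singleFunctor (ModuleCat.{u} R) 0).obj (ModuleCat.of R (Fin 0 → R))
      have hX : IsZero X := Functor.map_isZero _ (ModuleCat.isZero_of_subsingleton _)
      exact hsum X (Dual.inD R R) (P.prop_of_iso (isoBiprodZero hX |>.trans (biprod.braiding _ _)) hR)
    | succ k ih =>
      let f : ModuleCat.of R R ⟶ ModuleCat.of R (Fin (k + 1) → R) :=
        ModuleCat.ofHom ((Fin.consLinearEquiv R (fun _ : Fin (k + 1) => R)).toLinearMap ∘ₗ LinearMap.inl R R (Fin k → R))
      let g : ModuleCat.of R (Fin (k + 1) → R) ⟶ ModuleCat.of R (Fin k → R) :=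
        ModuleCat.ofHom (LinearMap.snd R R (Fin k → R) ∘ₗ (Fin.consLinearEquiv R (fun _ : Fin (k + 1) => R)).symm.toLinearMap)
      have hfg : f ≫ g = 0 := ModuleCat.hom_ext (LinearMap.ext fun x => by simp [f, g])
      have hS : (ShortComplex.mk f g hfg).ShortExact := ShortComplex.ShortExact.mk'
        ((ShortComplex.moduleCat_exact_iff _).2 fun x hx => ⟨x 0, by
          refine funext fun i => ?_
          refine Fin.cases ?_ (fun j => ?_) i
          · simp [f]
          · have := congrFun hx j
            simp [f, g, Fin.consLinearEquiv, Fin.tail, Pi.zero_apply] at this ⊢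
            exact this.symm⟩)
        ((ModuleCat.mono_iff_injective _).2 fun a b h => by
          simpa [f] using congrFun h 0)
        ((ModuleCat.epi_iff_surjective _).2 fun y => ⟨Fin.consLinearEquiv R (fun _ : Fin (k + 1) => R) (0, y), by simp [g]⟩)
      exact hext _ hS.singleTriangle_distinguished hR ih
  have hproj : ∀ M : ModuleCat.{u} R, Module.Finite R M → Module.Projective R M →
      P ((DerivedCategory.singleFunctor (ModuleCat.{u} R) 0).obj M) := by
    intro M _ _
    obtain ⟨k, π, hπ⟩ := Module.Finite.exists_fin' R M
    obtain ⟨s, hs⟩ := Module.projective_lifting_property π LinearMap.id hπ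
    let S : ShortComplex (ModuleCat.{u} R) := ShortComplex.mk (ModuleCat.ofHom (LinearMap.ker π).subtype)
      (ModuleCat.ofHom π) (ModuleCat.hom_ext (LinearMap.comp_ker_subtype π))
    have hSe : S.ShortExact := ShortComplex.ShortExact.mk'
      ((ShortComplex.moduleCat_exact_iff_range_eq_ker _).2 (Submodule.range_subtype _))
      ((ModuleCat.mono_iff_injective _).2 Subtype.val_injective) ((ModuleCat.epi_iff_surjective _).2 hπ)
    let σ : S.Splitting := ShortComplex.Splitting.ofExactOfSection S hSe.exact (ModuleCat.ofHom s)
      (ModuleCat.hom_ext hs) hSe.mono_f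
    let F := DerivedCategory.singleFunctor (ModuleCat.{u} R) 0
    haveI : PreservesBinaryBiproduct S.X₃ S.X₁ F := Limits.preservesBinaryBiproduct_of_preservesBiproduct F _ _
    exact hsum (F.obj M) (F.obj S.X₁) (P.prop_of_iso
      (F.mapIso (σ.isoBinaryBiproduct ≪≫ biprod.braiding _ _) ≪≫ F.mapBiprod _ _) (hfree k))
  suffices H : ∀ (n : ℕ) (a : ℤ) (E : DRing.Cx R), DRing.VanishesOutside E a (a + n) →
      DRing.TermwiseFiniteProjective E → P (DerivedCategory.Q.obj E) by
    obtain ⟨E, a, b, hv, hf, ⟨e⟩⟩ := hK
    exact P.prop_of_iso e (H (b - a).toNat a E (fun i hi => hv i (by omega)) hf)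
  intro n
  induction n with
  | zero =>
    intro a E hv hf
    let p : E ⟶ (HomologicalComplex.single (ModuleCat.{u} R) (ComplexShape.up ℤ) a).obj (E.X a) :=
      HomologicalComplex.mkHomToSingle (𝟙 _) fun i hi => (hv i (Or.inl (by
        have : i + 1 = a := hi
        omega))).eq_of_src _ _
    haveI : IsIso p := by
      haveI : ∀ i, IsIso (p.f i) := fun i => by
        by_cases hi : i = a
        · subst hi
          rw [HomologicalComplex.mkHomToSingle_f]
          infer_instance
        · exact IsZero.isIso (hv i (by omega)) (HomologicalComplex.isZero_single_obj_X _ a _ i hi) _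
      exact HomologicalComplex.Hom.isIso_of_components p
    exact P.prop_of_iso (DerivedCategory.Q.mapIso (asIso p)).symm (hQ _ a (hproj _ (hf a).1 (hf a).2))
  | succ n ih =>
    intro a E hv hf
    let p : E ⟶ (HomologicalComplex.single (ModuleCat.{u} R) (ComplexShape.up ℤ) a).obj (E.X a) :=
      HomologicalComplex.mkHomToSingle (𝟙 _) fun i hi => (hv i (Or.inl (by
        have : i + 1 = a := hi
        omega))).eq_of_src _ _
    have hp : ∀ i, Function.Surjective (p.f i).hom := fun i => by
      by_cases hi : i = a
      · subst hi
        refine (ModuleCat.epi_iff_surjective _).1 ?_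
        rw [HomologicalComplex.mkHomToSingle_f]
        infer_instance
      · haveI := ModuleCat.subsingleton_of_isZero
          (HomologicalComplex.isZero_single_obj_X (ComplexShape.up ℤ) a (E.X a) i hi)
        exact fun y => ⟨0, Subsingleton.elim _ _⟩
    have hker : ∀ i, i ≠ a → LinearMap.ker (p.f i).hom = ⊤ := fun i hi => by
      haveI := ModuleCat.subsingleton_of_isZero
        (HomologicalComplex.isZero_single_obj_X (ComplexShape.up ℤ) a (E.X a) i hi)
      exact Submodule.eq_top_iff'.2 fun x => LinearMap.mem_ker.2 (Subsingleton.elim _ _)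
    have ha : IsZero ((Groth.Agent.ProTor.kerCx p).X a) := by
      haveI : Subsingleton (LinearMap.ker (p.f a).hom) := by
        haveI : Mono (p.f a) := by rw [HomologicalComplex.mkHomToSingle_f]; infer_instance
        refine ⟨fun x y => Subtype.ext ((ModuleCat.mono_iff_injective (p.f a)).1 inferInstance ?_)⟩
        exact (LinearMap.mem_ker.1 x.2).trans (LinearMap.mem_ker.1 y.2).symm
      exact ModuleCat.isZero_of_subsingleton (ModuleCat.of R (LinearMap.ker (p.f a).hom))
    refine hext _ (DerivedCategory.triangleOfSES_distinguished (Groth.Agent.ProTor.kerSC_shortExact p hp))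
      (ih (a + 1) _ (fun i hi => ?_) fun i => ?_) (hQ _ a (hproj _ (hf a).1 (hf a).2))
    · by_cases hia : i = a
      · subst hia; exact ha
      · haveI := ModuleCat.subsingleton_of_isZero (hv i (by omega))
        exact ModuleCat.isZero_of_subsingleton (ModuleCat.of R (LinearMap.ker (p.f i).hom))
    · by_cases hia : i = a
      · subst hia
        haveI := ModuleCat.subsingleton_of_isZero ha
        exact ⟨inferInstanceAs (Module.Finite R ((Groth.Agent.ProTor.kerCx p).X i)), inferInstanceAs (Module.Projective R ((Groth.Agent.ProTor.kerCx p).X i))⟩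
      · have e : (Groth.Agent.ProTor.kerCx p).X i ≃ₗ[R] E.X i :=
          (LinearEquiv.ofEq _ _ (hker i hia)).trans Submodule.topEquiv
        haveI := (hf i).1
        haveI := (hf i).2
        exact ⟨Module.Finite.equiv e.symm, Module.Projective.of_equiv e.symm⟩

end Groth.Agent.S7010
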