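import Groth.Statements.S7017
import Groth.Agent.DRingKP.Modules

set_option autoImplicit false
universe u
open CategoryTheory CategoryTheory.Limits
attribute [local instance] HasDerivedCategory.standard
open DRing

namespace Groth.Agent.S7017

open CategoryTheory.Pretriangulated in
/-- Let R be a commutative ring and K → L → M → K[1] a distinguished triangle in D(R). Whenever two of
K, L, M are pseudo-coherent (isomorphic in D(R) to bounded above complexes of finite free modules),
the remaining one is as well. -/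
theorem result (R : Type u) [CommRing R] (T : Triangle (Dual.D R))
    (hT : T ∈ distinguishedTriangles) :
    (DRing.IsPseudoCoherent' R T.obj₁ → DRing.IsPseudoCoherent' R T.obj₂ → DRing.IsPseudoCoherent' R T.obj₃) ∧
      (DRing.IsPseudoCoherent' R T.obj₁ → DRing.IsPseudoCoherent' R T.obj₃ → DRing.IsPseudoCoherent' R T.obj₂) ∧
      (DRing.IsPseudoCoherent' R T.obj₂ → DRing.IsPseudoCoherent' R T.obj₃ → DRing.IsPseudoCoherent' R T.obj₁) := by
  simp only [Groth.Agent.DRingKP.pc'_iff]
  refine ⟨fun h₁ h₂ m => Groth.Agent.DRingKP.pc_obj₃ T hT m (h₁ _) (h₂ _),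
    fun h₁ h₃ m => Groth.Agent.DRingKP.pc_obj₂ T hT m (h₁ _) (h₃ _), fun h₂ h₃ m => ?_⟩
  rw [← sub_add_cancel m 1]
  exact Groth.Agent.DRingKP.pc_obj₁ T hT (m - 1) (h₂ _) (h₃ _)

end Groth.Agent.S7017
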