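import Groth.Statements.S7020
import Groth.Agent.RelPC.Basic

set_option autoImplicit false
universe u
open CategoryTheory CategoryTheory.Limits
attribute [local instance] HasDerivedCategory.standard
open DerCA

namespace Groth.Agent.S7020

open CategoryTheory.Pretriangulated in
/-- Let R → A be a finite type homomorphism of commutative rings, m an integer and K → L → M → K[1] a
distinguished triangle in D(A); all pseudo-coherence below is relative to R. (1) M is
m-pseudo-coherent when K is (m+1)-pseudo-coherent and L is m-pseudo-coherent. (2) L is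
m-pseudo-coherent when K and M are. (3) K is (m+1)-pseudo-coherent when L is (m+1)-pseudo-coherent
and M is m-pseudo-coherent. (4) Pseudo-coherence in every degree of any two of K, L, M implies that
of the third. -/
theorem result {R A : Type u} [CommRing R] [CommRing A] [Algebra R A] [Algebra.FiniteType R A] (m : ℤ) (T : Triangle (Dual.D A))
    (hT : T ∈ distinguishedTriangles) :
    (DerCA.IsRelPseudoCoherent R A (m + 1) T.obj₁ → DerCA.IsRelPseudoCoherent R A m T.obj₂ →
        DerCA.IsRelPseudoCoherent R A m T.obj₃) ∧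
      (DerCA.IsRelPseudoCoherent R A m T.obj₁ → DerCA.IsRelPseudoCoherent R A m T.obj₃ →
        DerCA.IsRelPseudoCoherent R A m T.obj₂) ∧
      (DerCA.IsRelPseudoCoherent R A (m + 1) T.obj₂ → DerCA.IsRelPseudoCoherent R A m T.obj₃ →
        DerCA.IsRelPseudoCoherent R A (m + 1) T.obj₁) ∧
      ((DerCA.IsRelPseudoCoherentAll R A T.obj₁ → DerCA.IsRelPseudoCoherentAll R A T.obj₂ →
          DerCA.IsRelPseudoCoherentAll R A T.obj₃) ∧
        (DerCA.IsRelPseudoCoherentAll R A T.obj₁ → DerCA.IsRelPseudoCoherentAll R A T.obj₃ →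
          DerCA.IsRelPseudoCoherentAll R A T.obj₂) ∧
        (DerCA.IsRelPseudoCoherentAll R A T.obj₂ → DerCA.IsRelPseudoCoherentAll R A T.obj₃ →
          DerCA.IsRelPseudoCoherentAll R A T.obj₁)) := by
  obtain ⟨n, α, hα⟩ := Algebra.FiniteType.iff_quotient_mvPolynomial''.1 (inferInstance : Algebra.FiniteType R A)
  have hT' := (DRing.restrictD α.toRingHom).map_distinguished T hT
  simp only [Groth.Agent.RelPC.rel_iff α hα]
  refine ⟨fun h1 h2 => Groth.Agent.DRingKP.pc_obj₃ _ hT' m h1 h2,
    fun h1 h3 => Groth.Agent.DRingKP.pc_obj₂ _ hT' m h1 h3,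
    fun h2 h3 => Groth.Agent.DRingKP.pc_obj₁ _ hT' m h2 h3, ?_⟩
  simp only [Groth.Agent.RelPC.relAll_iff α hα, Groth.Agent.DRingKP.pc'_iff]
  exact ⟨fun h1 h2 k => Groth.Agent.DRingKP.pc_obj₃ _ hT' k (h1 _) (h2 k),
    fun h1 h3 k => Groth.Agent.DRingKP.pc_obj₂ _ hT' k (h1 k) (h3 k),
    fun h2 h3 k => sub_add_cancel k 1 ▸ Groth.Agent.DRingKP.pc_obj₁ _ hT' (k - 1) ((sub_add_cancel k 1).symm ▸ h2 k) (h3 _)⟩

end Groth.Agent.S7020
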