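import Groth.Statements.S7021
import Groth.Agent.RelPC.Basic

set_option autoImplicit false
universe u
open CategoryTheory CategoryTheory.Limits
attribute [local instance] HasDerivedCategory.standard
open DerCA

namespace Groth.Agent.S7021

/-- Let R → A be a finite type homomorphism of commutative rings, α : R[x_1, ..., x_n] → A a surjective
R-algebra homomorphism and M an A-module. Then relative 0-pseudo-coherence of M over R amounts to M
being a finitely generated A-module, and relative (-1)-pseudo-coherence of M over R amounts to M
being finitely presented as an R[x_1, ..., x_n]-module through α. -/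
theorem result {R A : Type u} [CommRing R] [CommRing A]
    [Algebra R A] [Algebra.FiniteType R A] {n : ℕ} (α : MvPolynomial (Fin n) R →ₐ[R] A)
    (hα : Function.Surjective α) (M : Type u) [AddCommGroup M] [Module A M] :
    (DerCA.IsRelPseudoCoherentModule R A 0 M ↔ Module.Finite A M) ∧
      (DerCA.IsRelPseudoCoherentModule R A (-1) M ↔
        @Module.FinitePresentation (MvPolynomial (Fin n) R) M _ _ (Module.compHom M α.toRingHom)) := by
  letI : Algebra (MvPolynomial (Fin n) R) A := α.toRingHom.toAlgebra
  letI : Module (MvPolynomial (Fin n) R) M := Module.compHom M α.toRingHom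
  haveI : IsScalarTower (MvPolynomial (Fin n) R) A M := ⟨fun p a x => by
    rw [Algebra.smul_def, mul_smul]; rfl⟩
  haveI : Module.Finite (MvPolynomial (Fin n) R) A :=
    Module.Finite.of_surjective (Algebra.linearMap (MvPolynomial (Fin n) R) A) hα
  let e : ((ModuleCat.restrictScalars.{u} α.toRingHom).obj (ModuleCat.of A M)) ≃ₗ[MvPolynomial (Fin n) R] M :=
    { toFun := fun x => x
      map_add' := fun _ _ => rfl
      map_smul' := fun _ _ => rfl
      invFun := fun x => x
      left_inv := fun _ => rfl
      right_inv := fun _ => rfl }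
  let i := Groth.Agent.RelPC.resInDIso α.toRingHom (ModuleCat.of A M) ≪≫
    (DerivedCategory.singleFunctor (ModuleCat.{u} (MvPolynomial (Fin n) R)) 0).mapIso e.toModuleIso
  have key : ∀ k : ℤ, DerCA.IsRelPseudoCoherentModule R A k M ↔
      DRing.IsPseudoCoherentModule (MvPolynomial (Fin n) R) k M := fun k =>
    (Groth.Agent.RelPC.rel_iff α hα k _).trans
      ⟨Groth.Agent.DRingKP.pc_of_iso i, Groth.Agent.DRingKP.pc_of_iso i.symm⟩
  refine ⟨(key 0).trans ((Groth.Agent.DRingKP.pcModule_zero_iff
      (ModuleCat.of (MvPolynomial (Fin n) R) M)).trans ⟨fun h => ?_, fun h => ?_⟩),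
    (key (-1)).trans (Groth.Agent.DRingKP.pcModule_negOne_iff (ModuleCat.of (MvPolynomial (Fin n) R) M))⟩
  · haveI : Module.Finite (MvPolynomial (Fin n) R) M := h
    exact Module.Finite.of_restrictScalars_finite (MvPolynomial (Fin n) R) A M
  · exact Module.Finite.trans A M

end Groth.Agent.S7021
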