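import Groth.Statements.S7022
import Groth.Agent.RelPC.Basic

set_option autoImplicit false
universe u
open CategoryTheory CategoryTheory.Limits
attribute [local instance] HasDerivedCategory.standard
open DerCA

namespace Groth.Agent.S7022

/-- Let R → A be a finite type homomorphism of commutative rings, m an integer and K, L objects of the
derived category D(A). Whenever the direct sum K ⊕ L is pseudo-coherent relative to R in degree m,
both summands K and L are too; likewise, relative pseudo-coherence of K ⊕ L (in every degree) passes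
to K and to L. -/
theorem result {R A : Type u} [CommRing R] [CommRing A] [Algebra R A] [Algebra.FiniteType R A] (m : ℤ) (K L : Dual.D A) [HasBinaryBiproduct K L] :
    (DerCA.IsRelPseudoCoherent R A m (K ⊞ L) → DerCA.IsRelPseudoCoherent R A m K ∧ DerCA.IsRelPseudoCoherent R A m L) ∧
      (DerCA.IsRelPseudoCoherentAll R A (K ⊞ L) →
        DerCA.IsRelPseudoCoherentAll R A K ∧ DerCA.IsRelPseudoCoherentAll R A L) := by
  obtain ⟨n, α, hα⟩ := Algebra.FiniteType.iff_quotient_mvPolynomial''.1 (inferInstance : Algebra.FiniteType R A)
  haveI : PreservesBinaryBiproduct K L (DRing.restrictD α.toRingHom) :=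
    preservesBinaryBiproduct_of_preservesBiproduct _ _ _
  haveI : HasBinaryBiproduct ((DRing.restrictD α.toRingHom).obj K) ((DRing.restrictD α.toRingHom).obj L) :=
    Functor.hasBinaryBiproduct_of_preserves _ K L
  have key : ∀ k : ℤ, DerCA.IsRelPseudoCoherent R A k (K ⊞ L) →
      DerCA.IsRelPseudoCoherent R A k K ∧ DerCA.IsRelPseudoCoherent R A k L := fun k h => by
    simp only [Groth.Agent.RelPC.rel_iff α hα] at h ⊢
    exact Groth.Agent.DRingKP.pc_biprod k _ _
      (Groth.Agent.DRingKP.pc_of_iso ((DRing.restrictD α.toRingHom).mapBiprod K L) h)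
  exact ⟨key m, fun h => ⟨fun k => (key k (h k)).1, fun k => (key k (h k)).2⟩⟩

end Groth.Agent.S7022
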