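import Groth.Statements.S7024
import Groth.Agent.RelPC.Basic

set_option autoImplicit false
universe u
open CategoryTheory CategoryTheory.Limits
attribute [local instance] HasDerivedCategory.standard
open DerCA

namespace Groth.Agent.S7024

/-- Let R → A be a finite type homomorphism of commutative rings, m an integer and K an object of D(A)
whose cohomology vanishes in large degrees. If the module H^i(K) is (m - i)-pseudo-coherent relative
to R for every i, then K is m-pseudo-coherent relative to R. Moreover, K is relatively
pseudo-coherent over R as soon as each cohomology module H^i(K) has this property over R. -/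
theorem result {R A : Type u} [CommRing R] [CommRing A] [Algebra R A] [Algebra.FiniteType R A] (m : ℤ) (K : Dual.D A)
    (hb : ∃ b : ℤ, ∀ i : ℤ, b < i → Subsingleton (Dual.HD A K i)) :
    ((∀ i : ℤ, DerCA.IsRelPseudoCoherentModule R A (m - i) (Dual.HD A K i)) → DerCA.IsRelPseudoCoherent R A m K) ∧
      ((∀ i : ℤ, DerCA.IsRelPseudoCoherentModuleAll R A (Dual.HD A K i)) → DerCA.IsRelPseudoCoherentAll R A K) := by
  obtain ⟨n, α, hα⟩ := Algebra.FiniteType.iff_quotient_mvPolynomial''.1 (inferInstance : Algebra.FiniteType R A)
  obtain ⟨b, hb⟩ := hb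
  have hab : Groth.Agent.DRingKP.IsAbove (b + 1) ((DRing.restrictD α.toRingHom).obj K) :=
    (Groth.Agent.DRingKP.isAbove_res α.toRingHom).2 fun i hi =>
      haveI := hb i (by lia)
      ModuleCat.isZero_of_subsingleton _
  have key : ∀ k : ℤ, (∀ i : ℤ, DerCA.IsRelPseudoCoherentModule R A (k - i) (Dual.HD A K i)) →
      DerCA.IsRelPseudoCoherent R A k K := fun k h => by
    refine (Groth.Agent.RelPC.rel_iff α hα k _).2
      (Groth.Agent.DRingKP.pc_of_homology k _ ⟨_, hab⟩ fun i _ => ?_)
    exact Groth.Agent.DRingKP.pc_of_iso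
      (Groth.Agent.RelPC.resInDIso α.toRingHom ((DerivedCategory.homologyFunctor (ModuleCat.{u} A) i).obj K) ≪≫
        (DerivedCategory.singleFunctor _ 0).mapIso (Groth.Agent.DRingKP.resHHIso α.toRingHom K i).symm)
      ((Groth.Agent.RelPC.rel_iff α hα _ _).1 (h i))
  exact ⟨key m, fun h k => key k fun i => h i _⟩

end Groth.Agent.S7024
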