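import Groth.Statements.S7026
import Groth.Agent.RelPC.More
import Groth.Agent.S6942

set_option autoImplicit false
universe u
open CategoryTheory CategoryTheory.Limits
attribute [local instance] HasDerivedCategory.standard
open DerCA

namespace Groth.Agent.S7026

/-- Let R be a Noetherian commutative ring, R → A a finite type ring homomorphism, m an integer, K an
object of D(A) and M an A-module. Then: m-pseudo-coherence of K relative to R is equivalent to
H^i(K) vanishing for all large i together with H^i(K) being a finitely generated A-module for each i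
≥ m; pseudo-coherence of K relative to R (every degree) is equivalent to the same with H^i(K)
finitely generated for every i; and the A-module M is pseudo-coherent relative to R exactly when M
is finitely generated. -/
theorem result {R A : Type u} [CommRing R]
    [IsNoetherianRing R] [CommRing A] [Algebra R A] [Algebra.FiniteType R A] (m : ℤ) (K : Dual.D A)
    (M : Type u) [AddCommGroup M] [Module A M] :
    (DerCA.IsRelPseudoCoherent R A m K ↔
      (∃ b : ℤ, ∀ i : ℤ, b < i → Subsingleton (Dual.HD A K i)) ∧ ∀ i : ℤ, m ≤ i → Module.Finite A (Dual.HD A K i)) ∧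
    (DerCA.IsRelPseudoCoherentAll R A K ↔
      (∃ b : ℤ, ∀ i : ℤ, b < i → Subsingleton (Dual.HD A K i)) ∧ ∀ i : ℤ, Module.Finite A (Dual.HD A K i)) ∧
    (DerCA.IsRelPseudoCoherentModuleAll R A M ↔ Module.Finite A M) := by
  obtain ⟨n, α, hα⟩ := Algebra.FiniteType.iff_quotient_mvPolynomial''.1 (inferInstance : Algebra.FiniteType R A)
  have fin : ∀ (N : ModuleCat.{u} A), Module.Finite (MvPolynomial (Fin n) R)
      ((ModuleCat.restrictScalars.{u} α.toRingHom).obj N) ↔ Module.Finite A N := by
    intro N
    letI : Algebra (MvPolynomial (Fin n) R) A := α.toRingHom.toAlgebra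
    letI : Module (MvPolynomial (Fin n) R) N := Module.compHom N α.toRingHom
    haveI : IsScalarTower (MvPolynomial (Fin n) R) A N := ⟨fun p a x => by
      rw [Algebra.smul_def, mul_smul]; rfl⟩
    haveI : Module.Finite (MvPolynomial (Fin n) R) A :=
      Module.Finite.of_surjective (Algebra.linearMap (MvPolynomial (Fin n) R) A) hα
    constructor
    · intro h
      haveI : Module.Finite (MvPolynomial (Fin n) R) N := h
      exact Module.Finite.of_restrictScalars_finite (MvPolynomial (Fin n) R) A N
    · intro h
      exact (Module.Finite.trans A N : Module.Finite (MvPolynomial (Fin n) R) N)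
  have hHD : ∀ i : ℤ, (Module.Finite (MvPolynomial (Fin n) R)
        (Dual.HD (MvPolynomial (Fin n) R) ((DRing.restrictD α.toRingHom).obj K) i) ↔
      Module.Finite A (Dual.HD A K i)) ∧
      (Subsingleton (Dual.HD (MvPolynomial (Fin n) R) ((DRing.restrictD α.toRingHom).obj K) i) ↔
        Subsingleton (Dual.HD A K i)) := fun i => by
    let e := (Groth.Agent.DRingKP.resHHIso α.toRingHom K i).toLinearEquiv
    exact ⟨(Module.Finite.equiv_iff e).trans (fin _), e.toEquiv.subsingleton_congr⟩
  have key : ∀ k : ℤ, DerCA.IsRelPseudoCoherent R A k K ↔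
      (∃ b : ℤ, ∀ i : ℤ, b < i → Subsingleton (Dual.HD A K i)) ∧
        ∀ i : ℤ, k ≤ i → Module.Finite A (Dual.HD A K i) := fun k => by
    rw [Groth.Agent.RelPC.rel_iff α hα k K, (Groth.Agent.S6942.result _ k _ (MvPolynomial (Fin n) R)).1]
    simp only [fun i => (hHD i).1, fun i => (hHD i).2]
  refine ⟨key m, ?_, ?_⟩
  · refine ⟨fun h => ⟨((key 0).1 (h 0)).1, fun i => ((key i).1 (h i)).2 i le_rfl⟩,
      fun h k => (key k).2 ⟨h.1, fun i _ => h.2 i⟩⟩
  · let N := (ModuleCat.restrictScalars.{u} α.toRingHom).obj (ModuleCat.of A M)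
    let i := Groth.Agent.RelPC.resInDIso α.toRingHom (ModuleCat.of A M)
    refine Iff.trans ?_ (((Groth.Agent.S6942.result (MvPolynomial (Fin n) R) 0 (Dual.inD _ N) N).2).trans
      (fin (ModuleCat.of A M)))
    refine (Groth.Agent.RelPC.relAll_iff α hα _).trans ?_
    rw [Groth.Agent.DRingKP.pc'_iff]
    refine Iff.trans ?_ Groth.Agent.DRingKP.pc'_iff.symm
    exact forall_congr' fun k => ⟨Groth.Agent.DRingKP.pc_of_iso i, Groth.Agent.DRingKP.pc_of_iso i.symm⟩

end Groth.Agent.S7026
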