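import Groth.Statements.S7035
import Groth.Agent.DRingKP.Fibre
import Groth.Agent.DRingKP.GlobalDim
import Groth.Agent.RelPC.Away
import Groth.Agent.RelPC.LBC
import Mathlib.RingTheory.LocalRing.ResidueField.Ideal

set_option autoImplicit false
universe u
open CategoryTheory CategoryTheory.Limits
attribute [local instance] HasDerivedCategory.standard
open DRing

set_option backward.isDefEq.respectTransparency false
set_option backward.isDefEq.respectTransparency.types false

namespace Groth.Agent.S7035

open DerivedCategory HomologicalComplex Groth.Agent.DRingKP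

attribute [local instance] Algebra.TensorProduct.rightAlgebra

/-- Let A → B be a flat homomorphism of commutative rings and d a natural number such that for every
prime p of A, with residue field κ(p), every module over κ(p) ⊗_A B has projective dimension at most
d; assume the derived tensor products - ⊗^L M exist on D(κ(p) ⊗_A B) for all p and the derived base
changes D(B) → D(B/m) exist for all ideals m of B. Let a, b be integers and K an object of D(B)
which is pseudo-coherent over B and, with scalars restricted to A, has tor amplitude in [a, b]. Then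
K is perfect over B and has tor amplitude in [a - d, b] over B. -/
theorem result {A B : Type u} [CommRing A] [CommRing B] [Algebra A B]
    [Module.Flat A B] (d : ℕ)
    (hgl : ∀ (p : PrimeSpectrum A) (M : Type u) [AddCommGroup M]
      [Module (TensorProduct A p.asIdeal.ResidueField B) M],
      HasProjectiveDimensionLT (ModuleCat.of (TensorProduct A p.asIdeal.ResidueField B) M) (d + 1))
    [∀ (p : PrimeSpectrum A) (M : ModuleCat.{u} (TensorProduct A p.asIdeal.ResidueField B)),
      DRing.HasLTensor (TensorProduct A p.asIdeal.ResidueField B) M]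
    [∀ m : Ideal B, DRing.HasLBaseChange (Ideal.Quotient.mk m)] (a b : ℤ) (K : Dual.D B)
    (hK : DRing.IsPseudoCoherent' B K)
    (hKa : DRing.HasTorAmplitudeIn A a b ((DRing.restrictD (algebraMap A B)).obj K)) :
    DRing.IsPerfect B K ∧ DRing.HasTorAmplitudeIn B (a - d) b K := by
  obtain ⟨P, c, hc, hP, ⟨eP⟩⟩ := id hK
  have hPp := projective_X (termwiseFiniteProjective_of_free hP)
  haveI := isKProjective_of_vanishesAbove hc hPp
  refine amp_of_fibres hK (a - d) b fun m hm i hi => ModuleCat.subsingleton_of_isZero
    (M := (DerivedCategory.homologyFunctor (ModuleCat.{u} (B ⧸ m)) i).obj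
      ((DRing.LBaseChange (Ideal.Quotient.mk m)).obj K)) ?_
  let p : PrimeSpectrum A := ⟨m.comap (algebraMap A B), inferInstance⟩
  let κ := p.asIdeal.ResidueField
  let C := TensorProduct A κ B
  haveI := hm
  let f : κ →+* B ⧸ m := Ideal.ResidueField.lift p.asIdeal (algebraMap A (B ⧸ m))
    (fun x hx => by
      rw [RingHom.mem_ker, IsScalarTower.algebraMap_apply A B (B ⧸ m), Ideal.Quotient.algebraMap_eq,
        Ideal.Quotient.eq_zero_iff_mem]
      exact hx)
    (fun x hx => by
      show IsUnit (algebraMap A (B ⧸ m) x)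
      letI := Ideal.Quotient.field m
      refine isUnit_iff_ne_zero.2 fun h0 => hx ?_
      rw [IsScalarTower.algebraMap_apply A B (B ⧸ m), Ideal.Quotient.algebraMap_eq,
        Ideal.Quotient.eq_zero_iff_mem] at h0
      exact h0)
  let fa : κ →ₐ[A] B ⧸ m :=
    { f with commutes' := fun x => Ideal.ResidueField.lift_algebraMap _ _ _ _ x }
  let ρ : C →ₐ[A] B ⧸ m := Algebra.TensorProduct.lift fa (IsScalarTower.toAlgHom A B (B ⧸ m))
    fun _ _ => Commute.all _ _
  have hρ : ρ.toRingHom.comp (algebraMap B C) = Ideal.Quotient.mk m := RingHom.ext fun x => by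
    show ρ ((1 : κ) ⊗ₜ[A] x) = _
    exact (Algebra.TensorProduct.lift_tmul _ _ _ _ _).trans (by rw [map_one, one_mul]; rfl)
  haveI : DRing.HasLBaseChange (algebraMap A κ) := hasLBaseChange _
  haveI : DRing.HasLBaseChange ρ.toRingHom := hasLBaseChange _
  let rs := ModuleCat.restrictScalars.{u} (algebraMap A B)
  let T := (rs.mapHomologicalComplex (ComplexShape.up ℤ)).obj P
  have hTb : DRing.VanishesAbove T c := fun i hi => rs.map_isZero (hc i hi)
  have hTf : DRing.TermwiseFlat T := fun i => by
    letI : Module A (P.X i) := Module.compHom _ (algebraMap A B)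
    haveI : IsScalarTower A B (P.X i) := ⟨fun r x y => by rw [Algebra.smul_def, mul_smul]; rfl⟩
    haveI := flat_of_projective hPp i
    exact (Module.Flat.trans A B (P.X i) : Module.Flat A (P.X i))
  obtain ⟨G, c', hGb, hG, ⟨eG⟩⟩ := exists_proj_rep_le (DRing.toD T)
    ⟨c + 1, fun j hj => (ShortComplex.isZero_homology_of_isZero_X₂ _ (hTb j (by lia))).of_iso
      ((homologyFunctorFactors (ModuleCat.{u} A) j).app _)⟩
  haveI := isKProjective_of_vanishesAbove hGb hG
  obtain ⟨g, hg⟩ := PerfLocal.exists_lift eG.hom
  haveI : IsIso (DerivedCategory.Q.map g) := by rw [hg]; infer_instance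
  haveI : QuasiIso g := (DerivedCategory.isIso_Q_map_iff_quasiIso _ g).1 inferInstance
  haveI := DRingKP.quasiIso_bc (algebraMap A κ) g hGb hTb (flat_of_projective hG) hTf
  let e : (DRing.LBaseChange (algebraMap A κ)).obj ((DRing.restrictD (algebraMap A B)).obj K) ≅
      DRing.toD (((ModuleCat.restrictScalars.{u} (algebraMap κ C)).mapHomologicalComplex
        (ComplexShape.up ℤ)).obj ((bc (algebraMap B C)).obj P)) :=
    (DRing.LBaseChange (algebraMap A κ)).mapIso
      ((DRing.restrictD (algebraMap A B)).mapIso eP.symm ≪≫ rs.mapDerivedCategoryFactors.app P ≪≫ eG.symm) ≪≫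
    lBaseChangeIso (algebraMap A κ) G ≪≫
    asIso (DerivedCategory.Q.map ((bc (algebraMap A κ)).map g)) ≪≫
    DerivedCategory.Q.mapIso (RelPC.bcSquareCxIso (P := A) (Q := κ) (A := B) (B := C) P)
  obtain ⟨E, hE, -, ⟨eE⟩⟩ := amp_lBaseChange (algebraMap A κ) _ a b hKa
  let P' := (bc (algebraMap B C)).obj P
  have hz : ∀ j, (j < a ∨ b < j) →
      IsZero ((DerivedCategory.homologyFunctor (ModuleCat.{u} C) j).obj (DRing.toD P')) := fun j hj => by
    have h1 : (((ModuleCat.restrictScalars.{u} (algebraMap κ C)).mapHomologicalComplex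
        (ComplexShape.up ℤ)).obj P').ExactAt j :=
      (exactAt_iff_isZero_homology _ _).2 ((ShortComplex.isZero_homology_of_isZero_X₂ _ (hE j hj)).of_iso
        (((homologyFunctorFactors _ j).app _).symm ≪≫
          (DerivedCategory.homologyFunctor _ j).mapIso (eE ≪≫ e).symm ≪≫ (homologyFunctorFactors _ j).app _))
    rw [exactAt_iff] at h1
    have h2 : P'.ExactAt j :=
      (ShortComplex.exact_map_iff_of_faithful _ (ModuleCat.restrictScalars.{u} _)).1 h1
    exact ((exactAt_iff_isZero_homology _ _).1 h2).of_iso ((homologyFunctorFactors _ j).app _)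
  obtain ⟨F, hF, hFp, ⟨eF⟩⟩ := exists_projRep (R := C) (a - d) b d
    (fun M => hgl p M) (DRing.toD P') (fun j hj => hz j (by lia))
  haveI : P'.IsKProjective := isKProjective_of_vanishesAbove (b := c)
    (fun j hj => (ModuleCat.extendScalars.{u, u, u} (algebraMap B C)).map_isZero (hc j hj))
    (projective_X fun j => extendScalars_finiteProjective (algebraMap B C)
      (termwiseFiniteProjective_of_free hP j))
  obtain ⟨E', hE', -, ⟨eE'⟩⟩ := amp_lBaseChange ρ.toRingHom (DRing.toD P') (a - d) b
    ⟨F, hF, fun j => haveI := hFp j; inferInstance, ⟨eF⟩⟩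
  exact (ShortComplex.isZero_homology_of_isZero_X₂ _ (hE' i hi)).of_iso
    ((DerivedCategory.homologyFunctor (ModuleCat.{u} (B ⧸ m)) i).mapIso
      ((DRing.LBaseChange (Ideal.Quotient.mk m)).mapIso eP.symm ≪≫ lBaseChangeIso _ P ≪≫
        DerivedCategory.Q.mapIso (RelPC.bcCompIso (algebraMap B C) ρ.toRingHom _ hρ P).symm ≪≫
        (lBaseChangeIso ρ.toRingHom P').symm ≪≫ eE'.symm) ≪≫ (homologyFunctorFactors _ i).app _)

end Groth.Agent.S7035
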