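import Groth.Statements.S7039
import Mathlib
import Groth.Agent.PowTors.Basic
-- import your own Groth.Agent.* helpers here

set_option autoImplicit false
universe u
open LocCoh

namespace Groth.Agent.S7039

/-- For a finitely generated ideal I of a commutative ring R and any R-module M, the quotient of M by
its submodule of I-power torsion elements has no nonzero element annihilated by I. -/
theorem result {R : Type u} [CommRing R] (I : Ideal R) (hI : I.FG)
    (M : Type u) [AddCommGroup M] [Module R M] :
    LocCoh.torsionBy I (M ⧸ DRing.torsionSub I M) = ⊥ := by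
  rw [eq_bot_iff]
  intro x hx
  obtain ⟨m, rfl⟩ := Submodule.Quotient.mk_surjective _ x
  rw [Submodule.mem_bot, Submodule.Quotient.mk_eq_zero]
  refine Groth.Agent.PowTors.mem_torsionSub_of_smul_mem hI fun a ha => ?_
  have h0 := (Submodule.mem_torsionBySet_iff _ _).1 hx ⟨a, ha⟩
  exact (Submodule.Quotient.mk_eq_zero _).1 h0

end Groth.Agent.S7039
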