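import Groth.Statements.S7040
import Mathlib
import Groth.Agent.PowTors.Basic
-- import your own Groth.Agent.* helpers here

set_option autoImplicit false
universe u
open CategoryTheory
open LocCoh

namespace Groth.Agent.S7040

/-- For a finitely generated ideal I of a commutative ring R, the property of being an I-power torsion
module (every element killed by a power of I) is a Serre class in the category of R-modules: it
holds for 0 and is closed under subobjects, quotients and extensions. -/
theorem result {R : Type u} [CommRing R] (I : Ideal R) (hI : I.FG) :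
    ObjectProperty.IsSerreClass (C := ModuleCat.{u} R) (fun M => LocCoh.IsPowerTorsion I M) := by
  refine
    { exists_zero := ⟨ModuleCat.of R PUnit, ModuleCat.isZero_of_subsingleton _,
        fun m => ⟨0, fun a _ => Subsingleton.elim _ _⟩⟩
      toIsClosedUnderSubobjects := ⟨fun f _ hY m => ?_⟩
      toIsClosedUnderQuotients := ⟨fun f _ hX m => ?_⟩
      toIsClosedUnderExtensions := ⟨fun {S} hS h₁ h₃ m => ?_⟩ }
  · obtain ⟨n, hn⟩ := hY (f.hom m)
    refine ⟨n, fun a ha => (ModuleCat.mono_iff_injective f).1 inferInstance ?_⟩
    rw [map_smul, map_zero]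
    exact hn a ha
  · obtain ⟨x, rfl⟩ := (ModuleCat.epi_iff_surjective f).1 inferInstance m
    obtain ⟨n, hn⟩ := hX x
    exact ⟨n, fun a ha => by rw [← map_smul, hn a ha, map_zero]⟩
  · obtain ⟨n, hn⟩ := h₃ (S.g.hom m)
    refine Groth.Agent.PowTors.mem_torsionSub_of_pow_smul_mem hI n (M := S.X₂) fun a ha => ?_
    obtain ⟨y, hy⟩ := (ShortComplex.moduleCat_exact_iff S).1 hS.exact (a • m)
      (by rw [map_smul]; exact hn a ha)
    obtain ⟨k, hk⟩ := h₁ y
    exact ⟨k, fun b hb => by rw [← hy, ← map_smul, hk b hb, map_zero]⟩

end Groth.Agent.S7040
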