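import Groth.Statements.S7044
import Groth.Agent.DRingKP.DCTele
import Groth.Agent.DRingKP.DCAlg
import Mathlib.RingTheory.AdicCompletion.Completeness
import Mathlib.RingTheory.Henselian

set_option autoImplicit false
universe u
attribute [local instance] HasDerivedCategory.standard
open DRing

namespace Groth.Agent.S7044

/-- Let A be a commutative ring and I an ideal of A; if A, regarded as an object of D(A) sitting in
degree 0, is I-adically derived complete, then the pair (A, I) is henselian: I lies in the Jacobson
radical and simple roots modulo I of monic polynomials lift to roots in A. -/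
theorem result {A : Type u} [CommRing A] (I : Ideal A)
    (hc : DRing.IsDerivedComplete I (Dual.inD A A)) : HenselianRing A I := by
  have hc' := (Groth.Agent.DRingKP.isDerivedComplete_inD_iff I A).1 hc
  have hunit : ∀ f ∈ I, IsUnit (1 - f) := by
    intro f hf
    obtain ⟨x, hx⟩ := (hc' f hf).2 fun _ => 1
    have hs : (fun n => x (n + 1)) = x := (hc' f hf).1 (funext fun n => by
      rw [show Groth.Agent.DRingKP.tele A f (fun n => x (n + 1)) n = Groth.Agent.DRingKP.tele A f x (n + 1) from rfl,
        congrFun hx n, congrFun hx (n + 1)])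
    have h0 := congrFun hx 0
    have h1 : x (0 + 1) = x 0 := congrFun hs 0
    simp only [Groth.Agent.DRingKP.tele_apply, h1, smul_eq_mul] at h0
    exact IsUnit.of_mul_eq_one (x 0) (by linear_combination h0)
  refine ⟨fun f hf => Ideal.mem_jacobson_bot.2 fun y => ?_, fun p hp a₀ h₀ hder => ?_⟩
  · have := hunit (-(f * y)) (neg_mem (Ideal.mul_mem_right _ _ hf))
    rwa [sub_neg_eq_add, add_comm] at this
  by_cases hd : p.natDegree = 0
  · have h1 : p = 1 := hp.natDegree_eq_zero.mp hd
    rw [h1, Polynomial.eval_one] at h₀
    have hsub : Subsingleton A := by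
      have := hunit 1 h₀
      rw [sub_self, isUnit_zero_iff] at this
      exact subsingleton_of_zero_eq_one this
    exact ⟨a₀, Subsingleton.elim _ _, by rw [sub_self]; exact zero_mem _⟩
  set g := p.eval a₀ with hg
  have hT := hc' g h₀
  let ev : PowerSeries A → A := fun b => Groth.Agent.DRingKP.tev hT fun n => PowerSeries.coeff n b
  have ev_add : ∀ b c, ev (b + c) = ev b + ev c := fun b c => by
    simp only [ev, map_add]
    exact map_add (Groth.Agent.DRingKP.tev hT) (fun n => PowerSeries.coeff n b) (fun n => PowerSeries.coeff n c)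
  have ev_X : ∀ b, ev (PowerSeries.X * b) = g * ev b := fun b => by
    simp only [ev]
    rw [Groth.Agent.DRingKP.tev_rec]
    simp [PowerSeries.coeff_succ_X_mul]
  have ev_C : ∀ a b, ev (PowerSeries.C a * b) = a * ev b := fun a b => by
    simp only [ev, PowerSeries.coeff_C_mul]
    exact map_smul (Groth.Agent.DRingKP.tev hT) a fun n => PowerSeries.coeff n b
  have ev_const : ∀ a, ev (PowerSeries.C a) = a := fun a => by
    simp only [ev]
    rw [Groth.Agent.DRingKP.tev_rec, show (fun n => PowerSeries.coeff (n + 1) (PowerSeries.C a)) = 0 from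
      funext fun n => by simp, map_zero]
    simp
  have ev_split : ∀ b, ∃ y, b = PowerSeries.C (ev b) + (PowerSeries.X - PowerSeries.C g) * y := fun b => by
    obtain ⟨x, hx⟩ := hT.2 fun n => PowerSeries.coeff n b
    refine ⟨PowerSeries.mk fun n => x (n + 1), PowerSeries.ext fun n => ?_⟩
    have he : ev b = x 0 := by simp only [ev, ← hx, Groth.Agent.DRingKP.tev_tele]
    have hn : x n - g * x (n + 1) = PowerSeries.coeff n b := congrFun hx n
    rw [map_add, sub_mul, map_sub, PowerSeries.coeff_C_mul, PowerSeries.coeff_mk, he]
    rcases n with _ | n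
    · simp only [PowerSeries.coeff_zero_X_mul, PowerSeries.coeff_zero_C]
      rw [← hn]; ring
    · simp only [PowerSeries.coeff_succ_X_mul, PowerSeries.coeff_mk, PowerSeries.coeff_C, if_neg (Nat.succ_ne_zero n)]
      rw [← hn]; ring
  have ev_mul : ∀ b c, ev (b * c) = ev b * ev c := fun b c => by
    obtain ⟨y, hy⟩ := ev_split b
    have h1 : ev ((PowerSeries.X - PowerSeries.C g) * (y * c)) = 0 := by
      rw [sub_mul, sub_eq_add_neg, ev_add, ev_X, ← neg_mul, ← map_neg, ev_C]
      ring
    conv_lhs => rw [hy, add_mul, mul_assoc, ev_add, ev_C, h1, add_zero]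
  let φ : PowerSeries A →+* A :=
    { toFun := ev, map_one' := by rw [← map_one (PowerSeries.C (R := A)), ev_const], map_mul' := ev_mul
      map_zero' := by rw [← map_zero (PowerSeries.C (R := A)), ev_const], map_add' := ev_add }
  let F : Polynomial (PowerSeries A) := p.map PowerSeries.C + Polynomial.C (PowerSeries.X - PowerSeries.C g)
  have hFm : F.Monic := (hp.map _).add_of_left (by
    refine Polynomial.degree_C_le.trans_lt ?_
    haveI : Nontrivial A := by
      by_contra hA
      rw [not_nontrivial_iff_subsingleton] at hA
      exact hd (by rw [Subsingleton.elim p 0, Polynomial.natDegree_zero])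
    rw [Polynomial.degree_eq_natDegree (hp.map PowerSeries.C).ne_zero, hp.natDegree_map]
    exact_mod_cast Nat.pos_of_ne_zero hd)
  have hF0 : F.eval (PowerSeries.C a₀) = PowerSeries.X := by
    simp only [F, Polynomial.eval_add, Polynomial.eval_C, Polynomial.eval_map_apply, ← hg]
    ring
  have hFd : IsUnit (Ideal.Quotient.mk (Ideal.span {(PowerSeries.X : PowerSeries A)}) (F.derivative.eval (PowerSeries.C a₀))) := by
    have hu : IsUnit (p.derivative.eval a₀) := by
      obtain ⟨c, hc⟩ := hder.exists_right_inv
      obtain ⟨c, rfl⟩ := Ideal.Quotient.mk_surjective c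
      rw [← map_mul, ← map_one (Ideal.Quotient.mk I), Ideal.Quotient.eq] at hc
      have := hunit _ (neg_mem hc)
      rw [sub_neg_eq_add, add_sub_cancel] at this
      exact isUnit_of_mul_isUnit_left this
    rw [show F.derivative.eval (PowerSeries.C a₀) = PowerSeries.C (p.derivative.eval a₀) by
      simp [F, Polynomial.derivative_map, Polynomial.eval_map_apply]]
    exact (hu.map _).map _
  obtain ⟨r, hr, hr0⟩ := HenselianRing.is_henselian (I := Ideal.span {(PowerSeries.X : PowerSeries A)}) F hFm
    (PowerSeries.C a₀) (by rw [hF0]; exact Ideal.mem_span_singleton_self _) hFd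
  refine ⟨φ r, ?_, ?_⟩
  · have := congrArg φ (show F.eval r = 0 from hr)
    rw [map_zero, ← Polynomial.eval_map_apply] at this
    have hFφ : F.map φ = p := by
      have hCid : φ.comp PowerSeries.C = RingHom.id A := RingHom.ext ev_const
      have hXg : φ (PowerSeries.X - PowerSeries.C g) = 0 := by
        rw [map_sub, show φ (PowerSeries.C g) = g from ev_const g, show φ PowerSeries.X = g from ?_, sub_self]
        have := ev_X 1
        rw [mul_one, show ev 1 = 1 from map_one φ, mul_one] at this
        exact this
      simp only [F, Polynomial.map_add, Polynomial.map_map, hCid, Polynomial.map_id, Polynomial.map_C, hXg, map_zero, add_zero]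
    rwa [hFφ] at this
  · obtain ⟨y, hy⟩ := Ideal.mem_span_singleton'.1 hr0
    have h2 : φ (r - PowerSeries.C a₀) ∈ I := by
      rw [← hy, mul_comm, show φ (PowerSeries.X * y) = g * φ y from ev_X y]
      exact Ideal.mul_mem_right _ _ h₀
    rwa [map_sub, show φ (PowerSeries.C a₀) = a₀ from ev_const a₀] at h2

end Groth.Agent.S7044
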