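import Groth.Statements.S7046
import Groth.Agent.DRingKP.DCTele
import Groth.Agent.DRingKP.DCRing

set_option autoImplicit false
universe u
attribute [local instance] HasDerivedCategory.standard
open DRing

namespace Groth.Agent.S7046

/-- A reduced commutative ring A which, placed in degree 0 of D(A), is derived complete with respect to
a finitely generated ideal I is I-adically complete, i.e. separated and complete for the I-adic
topology. -/
theorem result {A : Type u} [CommRing A] [IsReduced A]
    (I : Ideal A) (hI : I.FG) (hc : DRing.IsDerivedComplete I (Dual.inD A A)) :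
    IsAdicComplete I A := by
  obtain ⟨s, rfl⟩ := hI
  have hc' := (Groth.Agent.DRingKP.isDerivedComplete_inD_iff _ A).1 hc
  have hT : ∀ g ∈ s, Groth.Agent.DRingKP.TBij A g := fun g hg => hc' g (Submodule.subset_span hg)
  have h0 : (⨅ n : ℕ, Submodule.span A (s : Set A) ^ n) = ⊥ := by
    have h := Groth.Agent.DRingKP.iInf_pow_eq_bot s.card A s le_rfl hT
    rw [eq_bot_iff]
    intro a ha
    have ha' : a ^ (2 ^ s.card) ∈ (⊥ : Ideal A) := h ▸ Ideal.pow_mem_pow ha _
    exact (Submodule.mem_bot A).2 (IsReduced.eq_zero a ⟨_, (Submodule.mem_bot A).1 ha'⟩)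
  rw [isAdicComplete_iff]
  refine ⟨⟨fun a ha => ?_⟩, AdicCompletion.of_surjective_iff.1 (Groth.Agent.DRingKP.surjective_adicCompletion s hT)⟩
  have : a ∈ ⨅ n : ℕ, Submodule.span A (s : Set A) ^ n := (Submodule.mem_iInf _).2 fun n => by
    simpa [SModEq.zero] using ha n
  rwa [h0, Submodule.mem_bot] at this

end Groth.Agent.S7046
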