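import Groth.Statements.S7047
import Groth.Agent.DRingKP.DCTele

set_option autoImplicit false
universe u
attribute [local instance] HasDerivedCategory.standard
open DRing

namespace Groth.Agent.S7047

/-- For a commutative ring A and an object K of D(A), the set of elements f of A such that every
morphism from A_f (placed in degree 0) to any shift K[n] vanishes is a radical ideal of A. -/
theorem result {A : Type u} [CommRing A] (K : Dual.D A) :
    ∃ J : Ideal A, J.IsRadical ∧
      (J : Set A) = {f : A | ∀ n : ℤ, Subsingleton (Dual.inD A (Localization.Away f) ⟶ K⟦n⟧)} := by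
  let J : Ideal A := ⨅ n : ℤ, Groth.Agent.DRingKP.tideal (A := A) (Dual.HD A K n)
  have key : ∀ (k : ℕ), 0 < k → ∀ (M : Type u) [AddCommGroup M] [Module A M] (f : A),
      Groth.Agent.DRingKP.TBij M (f ^ k) → Groth.Agent.DRingKP.TBij M f := by
    intro k hk M _ _ f h
    refine ⟨fun x y hxy => sub_eq_zero.1 (funext fun n => ?_), fun d => ?_⟩
    · have hz : ∀ m, (x - y) m = f • (x - y) (m + 1) := fun m => by
        have := congrFun hxy m
        simp only [Groth.Agent.DRingKP.tele_apply] at this
        simp only [Pi.sub_apply, smul_sub]
        linear_combination (norm := abel) this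
      have hj : ∀ (j m : ℕ), (x - y) m = f ^ j • (x - y) (m + j) := fun j => by
        induction j with
        | zero => simp
        | succ j ih => intro m; rw [ih m, hz (m + j), smul_smul, ← pow_succ, add_assoc]
      have := Groth.Agent.DRingKP.eq_zero_of_div h (fun j => (x - y) (n + k * j))
        (fun j => by rw [hj k (n + k * j), add_assoc, ← Nat.mul_succ]) 0
      simpa using this
    · refine ⟨fun n => Groth.Agent.DRingKP.tev h fun j => ∑ i ∈ Finset.range k, f ^ i • d (n + k * j + i),
        funext fun n => ?_⟩
      have he : (fun j => ∑ i ∈ Finset.range k, f ^ i • d (n + k * j + i)) -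
          f • (fun j => ∑ i ∈ Finset.range k, f ^ i • d (n + 1 + k * j + i)) =
          Groth.Agent.DRingKP.tele M (f ^ k) fun j => d (n + k * j) := funext fun j => by
        simp only [Pi.sub_apply, Pi.smul_apply, Groth.Agent.DRingKP.tele_apply, Finset.smul_sum, smul_smul, ← pow_succ',
          ← Finset.sum_sub_distrib]
        have := Finset.sum_range_sub' (fun i => f ^ i • d (n + k * j + i)) k
        simp only [pow_zero, one_smul, add_zero] at this
        rw [show n + k * (j + 1) = n + k * j + k by ring, ← this]
        refine Finset.sum_congr rfl fun i _ => ?_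
        rw [show n + 1 + k * j + i = n + k * j + (i + 1) by ring]
      simp only [Groth.Agent.DRingKP.tele_apply, ← map_smul, ← map_sub]
      rw [he, Groth.Agent.DRingKP.tev_tele]
      simp
  refine ⟨J, ?_, ?_⟩
  · intro f ⟨k, hk⟩
    rw [Submodule.mem_iInf] at hk ⊢
    intro n
    refine key (k + 1) k.succ_pos _ f ?_
    rw [pow_succ']
    exact Groth.Agent.DRingKP.TBij.mul_left (hk n) f
  · ext f
    simp only [SetLike.mem_coe, J, Submodule.mem_iInf, Set.mem_ofPred_eq]
    exact (Groth.Agent.DRingKP.tele_iff_HD f K).symm

end Groth.Agent.S7047
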