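import Groth.Statements.S7048
import Groth.Agent.DRingKP.DCTele

set_option autoImplicit false
universe u
attribute [local instance] HasDerivedCategory.standard
open DRing

namespace Groth.Agent.S7048

/-- For a commutative ring A, an ideal I and an A-module M which is I-adically complete, the object M[0]
of D(A) is derived complete with respect to I. -/
theorem result {A : Type u} [CommRing A] (I : Ideal A)
    (M : Type u) [AddCommGroup M] [Module A M] [IsAdicComplete I M] :
    DRing.IsDerivedComplete I (Dual.inD A M) := by
  exact (Groth.Agent.DRingKP.isDerivedComplete_inD_iff I M).2 fun g hg =>
    Groth.Agent.DRingKP.TBij.of_isAdicComplete I hg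

end Groth.Agent.S7048
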