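import Groth.Statements.S7055
import Groth.Agent.DRingKP.DCNak

set_option autoImplicit false
universe u
attribute [local instance] HasDerivedCategory.standard
open CategoryTheory
open DRing

namespace Groth.Agent.S7055

/-- For a commutative ring A, a finitely generated ideal I and an object K of D(A) which is derived
complete with respect to I, if K ⊗^L_A A/I vanishes then K vanishes. The derived tensor product with
the module A/I is the total left derived functor, assumed to exist. -/
theorem result {A : Type u} [CommRing A] (I : Ideal A) (hI : I.FG)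
    [DRing.HasLTensor A (ModuleCat.of A (A ⧸ I))]
    (K : Dual.D A) (hc : DRing.IsDerivedComplete I K)
    (h0 : Limits.IsZero ((DRing.LTensor A (ModuleCat.of A (A ⧸ I))).obj K)) : Limits.IsZero K := by
  refine (Limits.IsZero.iff_id_eq_zero K).2 ?_
  have hz : ∀ i : ℤ, Limits.IsZero ((DerivedCategory.homologyFunctor (ModuleCat.{u} A) i).obj K) := fun i => by
    haveI : Subsingleton ((DerivedCategory.homologyFunctor (ModuleCat.{u} A) i).obj K) :=
      (Groth.Agent.DRingKP.nakayama I hI K hc (i - 1)).2 (fun j _ => ModuleCat.subsingleton_of_isZero
        ((DerivedCategory.homologyFunctor (ModuleCat.{u} A) j).map_isZero h0)) i (by lia)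
    exact ModuleCat.isZero_of_subsingleton _
  haveI : IsIso (0 : K ⟶ K) := (DerivedCategory.isIso_iff _ _).2 fun i =>
    ⟨⟨0, (hz i).eq_of_src _ _, (hz i).eq_of_src _ _⟩⟩
  exact (CategoryTheory.Limits.isIsoZeroEquiv K K) inferInstance |>.1

end Groth.Agent.S7055
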