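import Groth.Statements.S7057
import Groth.Agent.DRingKP.DCCx

set_option autoImplicit false
universe u
attribute [local instance] HasDerivedCategory.standard
open DRing

namespace Groth.Agent.S7057

/-- For a homomorphism of commutative rings A → B, an ideal I of A and an object L of D(B), L is derived
complete with respect to the extended ideal IB if and only if L viewed in D(A) by restriction of
scalars is derived complete with respect to I. -/
theorem result {A B : Type u} [CommRing A] [CommRing B] (φ : A →+* B)
    (I : Ideal A) (L : Dual.D B) :
    DRing.IsDerivedComplete (I.map φ) L ↔ DRing.IsDerivedComplete I ((DRing.restrictD φ).obj L) := by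
  simp only [Groth.Agent.DRingKP.isDerivedComplete_iff]
  refine ⟨fun h g hg n => (Groth.Agent.DRingKP.tBij_restrict_iff φ L n g).2 (h _ (Ideal.mem_map_of_mem φ hg) n),
    fun h g hg n => ?_⟩
  refine (Ideal.map_le_iff_le_comap (f := φ) (K := Groth.Agent.DRingKP.tideal (A := B) (Dual.HD B L n))).2
    (fun a ha => ?_) hg
  exact (Groth.Agent.DRingKP.tBij_restrict_iff φ L n a).1 (h a ha n)

end Groth.Agent.S7057
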