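import Groth.Statements.S7058
import Groth.Agent.DRingKP.DCPi

set_option autoImplicit false
universe u
attribute [local instance] HasDerivedCategory.standard
open CategoryTheory
open DRing

namespace Groth.Agent.S7058

/-- Let A be a commutative ring, I a finitely generated ideal, and assume the derived completion functor
(left adjoint to the inclusion of derived complete objects of D(A)) exists. If K is a cochain
complex of A-modules and some f in I acts bijectively on every term of K, then the derived
completion of K is zero. -/
theorem result {A : Type u} [CommRing A] (I : Ideal A) (hI : I.FG)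
    [DRing.HasDerivedCompletion I] (K : DRing.Cx A) (f : A) (hf : f ∈ I)
    (hK : ∀ i : ℤ, Function.Bijective (fun x : K.X i => f • x)) :
    Limits.IsZero ((DRing.derivedCompletion I).obj (DRing.toD K)).obj := by
  let X := (DRing.derivedCompletion I).obj (DRing.toD K)
  haveI : IsIso (f • 𝟙 (DRing.toD K)) := by
    haveI : IsIso (f • 𝟙 K) := by
      haveI : ∀ i : ℤ, IsIso ((f • 𝟙 K : K ⟶ K).f i) := fun i => by
        rw [ConcreteCategory.isIso_iff_bijective]
        exact hK i
      exact HomologicalComplex.Hom.isIso_of_components _
    have h : f • 𝟙 (DRing.toD K) = DerivedCategory.Q.map (f • 𝟙 K) := by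
      rw [CategoryTheory.Functor.map_smul, CategoryTheory.Functor.map_id]
    rw [h]
    infer_instance
  have hsub : Subsingleton (DRing.toD K ⟶ X.obj) := Groth.Agent.DRingKP.subsingleton_hom_of_invertible
    (f := f) fun n => (Groth.Agent.DRingKP.isDerivedComplete_iff I X.obj).1 X.property f hf n
  rw [CategoryTheory.Limits.IsZero.iff_id_eq_zero]
  have h1 : (𝟙 X : X ⟶ X) = 0 := ((DRing.derivedCompletionAdj I).homEquiv _ _).injective (@Subsingleton.elim _ hsub _ _)
  exact congrArg (fun g : X ⟶ X => g.hom) h1

end Groth.Agent.S7058
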