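import Groth.Statements.S7059
import Groth.Agent.DRingKP.DCTele
import Groth.Agent.DRingKP.DCFin
import Mathlib.RingTheory.AdicCompletion.AsTensorProduct

set_option autoImplicit false
universe u
attribute [local instance] HasDerivedCategory.standard
open DRing

namespace Groth.Agent.S7059

/-- Let A be a Noetherian commutative ring, I an ideal and M an A-module which, placed in degree 0 of
D(A), is derived complete with respect to I. If M/IM is a finite module, then M is I-adically
complete, and M (identified with its I-adic completion) is a finite module over the I-adic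
completion of A. -/
theorem result {A : Type u} [CommRing A]
    [IsNoetherianRing A] (I : Ideal A) (M : Type u) [AddCommGroup M] [Module A M]
    (hc : DRing.IsDerivedComplete I (Dual.inD A M))
    (hf : Module.Finite A (M ⧸ I • (⊤ : Submodule A M))) :
    IsAdicComplete I M ∧ Module.Finite (AdicCompletion I A) (AdicCompletion I M) := by
  classical
  have hc' := (Groth.Agent.DRingKP.isDerivedComplete_inD_iff I M).1 hc
  obtain ⟨s, hs⟩ := (IsNoetherian.noetherian I : I.FG)
  refine ⟨?_, ?_⟩
  · have hsurj := Groth.Agent.DRingKP.surjective_adicCompletion (M := M) s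
      fun g hg => hc' g (hs ▸ Submodule.subset_span hg)
    rw [Ideal.span, hs] at hsurj
    exact (isAdicComplete_iff _ _).2 ⟨Groth.Agent.DRingKP.isHausdorff_of_finite M I hc' hf,
      AdicCompletion.of_surjective_iff.1 hsurj⟩
  · obtain ⟨n, g, hg⟩ := Module.Finite.exists_fin' A (M ⧸ I • (⊤ : Submodule A M))
    choose e he using fun i => Submodule.Quotient.mk_surjective _ (g (Pi.single i 1))
    let φ : (Fin n → A) →ₗ[A] M := Fintype.linearCombination A e
    have hφ : Function.Surjective ((I • (⊤ : Submodule A M)).mkQ ∘ₗ φ) := by
      intro q
      obtain ⟨a, rfl⟩ := hg q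
      refine ⟨a, ?_⟩
      simp only [φ, LinearMap.comp_apply, Fintype.linearCombination_apply, map_sum, map_smul, Submodule.mkQ_apply, he]
      conv_rhs => rw [pi_eq_sum_univ' a, map_sum]
      simp only [map_smul]
    have h1 := AdicCompletion.map_surjective_of_mkQ_comp_surjective hφ
    haveI : Module.Finite (AdicCompletion I A) (AdicCompletion I A) :=
      ⟨⟨{1}, eq_top_iff.2 fun x _ => by
        rw [Finset.coe_singleton, Submodule.mem_span_singleton]
        exact ⟨x, mul_one x⟩⟩⟩
    haveI : Module.Finite (AdicCompletion I A) (AdicCompletion I (Fin n → A)) :=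
      @Module.Finite.equiv _ _ _ _ _ _ _ _ (@Module.Finite.pi _ _ (Fin n) (fun _ => AdicCompletion I A) _ _ _ fun _ => inferInstance)
        (AdicCompletion.piEquivOfFintype I (fun _ : Fin n => A)).symm
    exact Module.Finite.of_surjective (AdicCompletion.map I φ) h1

end Groth.Agent.S7059
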