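import Groth.Statements.S7069
import Groth.Agent.DRingKP.ResAmp
import Groth.Agent.DRingKP.Regular
import Groth.Agent.S7067
import Groth.Agent.S0563

set_option autoImplicit false
universe u
attribute [local instance] HasDerivedCategory.standard
open MoreMor

namespace Groth.Agent.S7069

open CategoryTheory Limits DerivedCategory HomologicalComplex MonoidalCategory
open scoped TensorProduct
open Groth.Agent.DRingKP
attribute [local instance] HasDerivedCategory.standard

section
variable {A : Type u} [CommRing A]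

/-- cokernels of differentials are flat below the range -/
theorem flat_coker_cyclic {F : DRing.Cx A} (hF : DRing.TermwiseFlat F) (a : ℤ)
    (h : ∀ (I : Ideal A), IsZero (((tR (ModuleCat.of A (A ⧸ I))).obj F).homology (a - 1))) :
    Module.Flat A (F.X a ⧸ LinearMap.range (F.d (a - 1) a).hom) := by
  rw [Module.Flat.iff_lTensor_injective]
  intro I _
  let d := (F.d (a - 1) a).hom
  let π := (LinearMap.range d).mkQ
  haveI := hF a
  let μ : ∀ (N : Type u) [AddCommGroup N] [Module A N], N ⊗[A] I →ₗ[A] N := fun N _ _ =>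
    (TensorProduct.rid A N).toLinearMap ∘ₗ LinearMap.lTensor N I.subtype
  have hμnat : ∀ {N N' : Type u} [AddCommGroup N] [Module A N] [AddCommGroup N'] [Module A N']
      (f : N →ₗ[A] N') (x : N ⊗[A] I), μ N' (f.rTensor I x) = f (μ N x) := by
    intro N N' _ _ _ _ f x
    induction x using TensorProduct.induction_on with
    | zero => simp
    | tmul n i => simp [μ]
    | add x y hx hy => simp [hx, hy]
  refine (injective_iff_map_eq_zero _).2 fun x hx => ?_
  obtain ⟨y, rfl⟩ := LinearMap.rTensor_surjective I (Submodule.mkQ_surjective (LinearMap.range d)) x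
  have hy : π (μ _ y) = 0 := by
    rw [← hμnat]
    show (TensorProduct.rid A _) (LinearMap.lTensor _ I.subtype _) = 0
    rw [hx, map_zero]
  obtain ⟨z, hz⟩ := (Submodule.Quotient.mk_eq_zero _).1 hy
  -- `μ` hits `I • ⊤`
  have hrange : ∀ (N : Type u) [AddCommGroup N] [Module A N] (n : N), n ∈ I • (⊤ : Submodule A N) →
      ∃ t, μ N t = n := by
    intro N _ _ n hn
    refine Submodule.smul_induction_on hn (fun r hr n _ => ⟨n ⊗ₜ ⟨r, hr⟩, by simp [μ]⟩) ?_
    rintro _ _ ⟨t, rfl⟩ ⟨t', rfl⟩
    exact ⟨t + t', map_add _ _ _⟩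
  have hμmem : ∀ (t : F.X a ⊗[A] I), μ _ t ∈ I • (⊤ : Submodule A (F.X a)) := by
    intro t
    induction t using TensorProduct.induction_on with
    | zero => simp
    | tmul n i =>
      simp only [μ, LinearMap.comp_apply, LinearMap.lTensor_tmul, LinearEquiv.coe_coe, TensorProduct.rid_tmul]
      exact Submodule.smul_mem_smul i.2 trivial
    | add t t' ht ht' => rw [map_add]; exact add_mem ht ht'
  let Q : ModuleCat.{u} A := ModuleCat.of A (A ⧸ I)
  have hcyc : (F.d (a - 1) a).hom.rTensor (A ⧸ I) (z ⊗ₜ (1 : A ⧸ I)) = 0 := by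
    refine (TensorProduct.tensorQuotEquivQuotSMul (F.X a) I).injective ?_
    rw [LinearMap.rTensor_tmul, map_zero, show (1 : A ⧸ I) = Ideal.Quotient.mk I 1 from rfl,
      TensorProduct.tensorQuotEquivQuotSMul_tmul_mk, one_smul, Submodule.Quotient.mk_eq_zero]
    exact hz ▸ hμmem y
  have hex : (((tR Q).obj F).sc' (a - 2) (a - 1) a).Exact :=
    (((tR Q).obj F).exactAt_iff' (a - 2) (a - 1) a (by simp; lia) (by simp)).1
      ((HomologicalComplex.exactAt_iff_isZero_homology _ _).2 (h I))
  obtain ⟨w', hw'⟩ := (ShortComplex.moduleCat_exact_iff _).1 hex (z ⊗ₜ (1 : A ⧸ I)) hcyc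
  have hsurj : ∀ (N : Type u) [AddCommGroup N] [Module A N] (t : N ⊗[A] (A ⧸ I)),
      ∃ n : N, n ⊗ₜ (1 : A ⧸ I) = t := by
    intro N _ _ t
    induction t using TensorProduct.induction_on with
    | zero => exact ⟨0, TensorProduct.zero_tmul _ _⟩
    | tmul n q =>
      obtain ⟨r, rfl⟩ := Ideal.Quotient.mk_surjective q
      exact ⟨r • n, by rw [TensorProduct.smul_tmul]; congr 1; simp [Algebra.smul_def]⟩
    | add t t' ht ht' =>
      obtain ⟨n, rfl⟩ := ht; obtain ⟨n', rfl⟩ := ht'
      exact ⟨n + n', TensorProduct.add_tmul _ _ _⟩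
  obtain ⟨w, rfl⟩ := hsurj (F.X (a - 2)) w'
  replace hw' : ((F.d (a - 2) (a - 1)).hom w) ⊗ₜ[A] (1 : A ⧸ I) = z ⊗ₜ (1 : A ⧸ I) := hw'
  have hmem : z - (F.d (a - 2) (a - 1)).hom w ∈ I • (⊤ : Submodule A (F.X (a - 1))) := by
    rw [← Submodule.Quotient.mk_eq_zero]
    have := congrArg (TensorProduct.tensorQuotEquivQuotSMul (F.X (a - 1)) I) hw'
    simp only [show (1 : A ⧸ I) = Ideal.Quotient.mk I 1 from rfl,
      TensorProduct.tensorQuotEquivQuotSMul_tmul_mk, one_smul] at this
    rw [Submodule.Quotient.mk_sub, ← this, sub_self]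
  obtain ⟨ζ, hζ⟩ := hrange _ _ hmem
  have hinj : Function.Injective (μ (F.X a)) :=
    (TensorProduct.rid A (F.X a)).injective.comp
      (Module.Flat.lTensor_preserves_injective_linearMap I.subtype I.injective_subtype)
  have hyζ : y = d.rTensor I ζ := by
    refine hinj ?_
    rw [hμnat, hζ, map_sub, ← hz]
    have : d ((F.d (a - 2) (a - 1)).hom w) = 0 :=
      LinearMap.congr_fun (congrArg ModuleCat.Hom.hom (F.d_comp_d (a - 2) (a - 1) a)) w
    rw [this, sub_zero]
  rw [hyζ, ← LinearMap.rTensor_comp_apply, LinearMap.range_mkQ_comp, LinearMap.rTensor_zero,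
    LinearMap.zero_apply]



theorem amp_of_flat_coker (d : ℕ) (N : ModuleCat.{u} A) (R : ProjectiveResolution N)
    (h : Module.Flat A (R.cochainComplex.X (-(d : ℤ)) ⧸
      LinearMap.range (R.cochainComplex.d (-(d : ℤ) - 1) (-(d : ℤ))).hom)) :
    DRing.HasTorAmplitudeIn A (-(d : ℤ)) 0 (Dual.inD A N) := by
  let P := R.cochainComplex
  have hb : DRing.VanishesAbove P 0 := (CochainComplex.isStrictlyLE_iff _ 0).1 inferInstance
  let eN : DRing.toD P ≅ Dual.inD A N :=
    asIso (DerivedCategory.Q.map (resToSingle R)) ≪≫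
      ((DerivedCategory.singleFunctorIsoCompQ (ModuleCat.{u} A) 0).app N).symm
  let a : ℤ := -(d : ℤ)
  haveI : P.IsGE a := (CochainComplex.isGE_iff P a).2 fun i hi => by
    have hi0 : i ≠ 0 := by
      have : a ≤ 0 := by simp [a]
      lia
    rw [HomologicalComplex.exactAt_iff_isZero_homology]
    exact (HomologicalComplex.isZero_single_obj_homology (ComplexShape.up ℤ) 0 N i hi0).of_iso
      (isoOfQuasiIsoAt (resToSingle R) i)
  haveI : QuasiIso (P.πTruncGE a) := (CochainComplex.quasiIso_πTruncGE_iff P a).2 inferInstance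
  let E := P.truncGE a
  let T := P.sc' (a - 1) a (a + 1)
  let eop : E.X a ≅ ModuleCat.of A (P.X a ⧸ LinearMap.range (P.d (a - 1) a).hom) :=
    P.truncGEXIsoOpcycles a ≪≫ P.opcyclesIsoSc' (a - 1) a (a + 1) (by simp) (by simp) ≪≫
      T.moduleCatOpcyclesIso
  haveI : P.IsStrictlyLE 0 := (CochainComplex.isStrictlyLE_iff P 0).2 hb
  have hE : DRing.VanishesOutside E a 0 := fun i hi => by
    rcases hi with hi | hi
    · exact E.isZero_of_isStrictlyGE a i hi
    · exact E.isZero_of_isStrictlyLE 0 i hi
  refine ⟨E, hE, fun i => ?_, ⟨(asIso (DerivedCategory.Q.map (P.πTruncGE a))).symm ≪≫ eN⟩⟩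
  rcases lt_trichotomy i a with hi | rfl | hi
  · haveI := ModuleCat.subsingleton_of_isZero (hE i (Or.inl hi))
    infer_instance
  · haveI := h
    exact Module.Flat.of_linearEquiv eop.toLinearEquiv
  · haveI : Module.Flat A (P.X i) := flat_of_projective (P := P) (fun _ => inferInstance) i
    exact Module.Flat.of_linearEquiv (P.truncGEXIso a i hi).toLinearEquiv

theorem torDimLE_of_cyclic (d : ℕ)
    (hd : ∀ I : Ideal A, HasProjectiveDimensionLT (ModuleCat.of A (A ⧸ I)) (d + 1))
    (M : Type u) [AddCommGroup M] [Module A M] : DRing.HasTorDimLE A d M := by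
  refine (hasTorDimLE_iff M d).2 ?_
  let RM := projectiveResolution (ModuleCat.of A M)
  refine amp_of_flat_coker d _ RM (flat_coker_cyclic (flat_of_projective fun _ => inferInstance) _ fun I => ?_)
  let RQ := projectiveResolution (ModuleCat.of A (A ⧸ I))
  rw [isZero_balance RM RQ]
  exact torVan_rep (torVan_of_amp (amp_of_projDim d (ModuleCat.of A (A ⧸ I)) (hd I)))
    ((CochainComplex.isStrictlyLE_iff _ 0).1 inferInstance) (flat_of_projective fun _ => inferInstance)
    (asIso (DerivedCategory.Q.map (resToSingle RQ)) ≪≫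
      ((DerivedCategory.singleFunctorIsoCompQ (ModuleCat.{u} A) 0).app _).symm) _ _ (Or.inl (by lia))

theorem projDim_of_regular [IsRegularRing A] (d : ℕ) (hdim : ringKrullDim A ≤ d)
    (M : Type u) [AddCommGroup M] [Module A M] [Module.Finite A M] :
    HasProjectiveDimensionLT (ModuleCat.of A M) (d + 1) := by
  refine ((ModuleCat.of A M).hasProjectiveDimensionLE_iff_forall_maximalSpectrum d).2 fun q => ?_
  haveI : IsRegularLocalRing (Localization.AtPrime q.asIdeal) :=
    IsRegularRing.isRegularLocalRing_localization q.asIdeal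
  obtain ⟨e, he⟩ : ∃ e : ℕ, ringKrullDim (Localization.AtPrime q.asIdeal) = e :=
    ⟨_, (IsRegularLocalRing.spanFinrank_maximalIdeal (R := Localization.AtPrime q.asIdeal)).symm⟩
  have hed : e ≤ d := by
    have : ringKrullDim (Localization.AtPrime q.asIdeal) ≤ ringKrullDim A := by
      rw [IsLocalization.AtPrime.ringKrullDim_eq_height q.asIdeal]
      exact Ideal.height_le_ringKrullDim_of_ne_top q.isMaximal.ne_top
    rw [he] at this
    exact_mod_cast this.trans hdim
  haveI := Groth.Agent.S0563.result (Localization.AtPrime q.asIdeal) e he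
    (LocalizedModule q.asIdeal.primeCompl M)
  haveI : HasProjectiveDimensionLT
      (ModuleCat.of (Localization q.asIdeal.primeCompl) (LocalizedModule q.asIdeal.primeCompl M)) (d + 1) :=
    hasProjectiveDimensionLT_of_ge _ (e + 1) (d + 1) (by omega)
  exact hasProjectiveDimensionLT_of_iso (LinearEquiv.toModuleIso
    (Shrink.linearEquiv (Localization q.asIdeal.primeCompl) (LocalizedModule q.asIdeal.primeCompl M)).symm) _

end


/-- A finite type homomorphism of commutative rings A → B, where A is a regular ring of finite Krull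
dimension, is perfect: pseudo-coherent with B of finite tor dimension as an A-module. -/
theorem result (A B : Type u) [CommRing A] [CommRing B] [Algebra A B]
    [IsRegularRing A] (hdim : ringKrullDim A < ⊤) [Algebra.FiniteType A B] : MoreMor.IsPerfectHom A B := by
  refine ⟨Groth.Agent.S7067.result A B, ?_⟩
  obtain ⟨d, hd⟩ : ∃ d : ℕ, ringKrullDim A ≤ d := by
    rcases h : ringKrullDim A with _ | _ | d
    · exact ⟨0, bot_le⟩
    · rw [h] at hdim; exact absurd hdim (lt_irrefl _)
    · exact ⟨d, le_rfl⟩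
  exact ⟨d, torDimLE_of_cyclic d (fun I => projDim_of_regular d hd (A ⧸ I)) B⟩

end Groth.Agent.S7069
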