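import Groth.Statements.S7074
import Groth.Agent.W7RelPerf.Basic
import Groth.Agent.RelPCS.FlatTerms

set_option autoImplicit false
universe u
attribute [local instance] HasDerivedCategory.standard
open CategoryTheory
open Dual2

namespace Groth.Agent.S7074
section
open CategoryTheory Limits DerivedCategory HomologicalComplex
open Groth.Agent.DRingKP Groth.Agent.W7RelPerf
attribute [local instance] HasDerivedCategory.standard
set_option linter.style.haveILetI false
variable {R A : Type u} [CommRing R] [CommRing A] [Algebra R A]

/-- a relatively perfect complex has a bounded above projective resolution `P` with a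
quasi-isomorphism to a bounded complex whose terms are flat over the base -/
theorem exists_rep_fp [Module.Flat R A] {K : Dual.D A} (hK : Dual2.IsRelPerfect R A K) :
    ∃ (Q : DRing.Cx A) (a c : ℤ),
      DRing.VanishesOutside Q a c ∧ DRing.TermwiseFlat ((rsC R A).obj Q) ∧
      (∀ i, Module.FinitePresentation A (Q.X i)) ∧ Nonempty (DRing.toD Q ≅ K) := by
  obtain ⟨hpc, a, b, hab⟩ := hK
  obtain ⟨P, c, hc, hP, ⟨e⟩⟩ := pc'_iff_projective.1 hpc
  have hPR : DRing.TermwiseFlat ((rsC R A).obj P) := fun i => by
    letI : Module R (P.X i) := Module.compHom _ (algebraMap R A)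
    haveI : IsScalarTower R A (P.X i) :=
      ⟨fun r x y => by rw [Algebra.smul_def, mul_smul]; rfl⟩
    haveI := (hP i).2
    exact Module.Flat.trans R A (P.X i)
  have hc' : DRing.VanishesAbove ((rsC R A).obj P) c := fun i hi => (rsM R A).map_isZero (hc i hi)
  have hv : Van a b ((rsC R A).obj P) := torVan_rep (torVan_of_amp hab) hc' hPR
    (((rsM R A).mapDerivedCategoryFactors.app P).symm ≪≫
      (DRing.restrictD (algebraMap R A)).mapIso e)
  have hz : ∀ i, i < a → IsZero (P.homology i) := fun i hi => by
    have h := (isZero_homology_of_van hv (Or.inl hi)).of_iso ((P.sc i).mapHomologyIso (rsM R A)).symm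
    haveI := ModuleCat.subsingleton_of_isZero h
    exact @ModuleCat.isZero_of_subsingleton _ _ _ ‹_›
  haveI : P.IsGE a := (CochainComplex.isGE_iff P a).2 fun i hi =>
    (HomologicalComplex.exactAt_iff_isZero_homology _ _).2 (hz i hi)
  haveI : QuasiIso (P.πTruncGE a) := (CochainComplex.quasiIso_πTruncGE_iff P a).2 inferInstance
  haveI : P.IsStrictlyLE c := (CochainComplex.isStrictlyLE_iff P c).2 hc
  let T := P.sc' (a - 1) a (a + 1)
  let eop : (P.truncGE a).X a ≅ ModuleCat.of A (P.X a ⧸ LinearMap.range (P.d (a - 1) a).hom) :=
    P.truncGEXIsoOpcycles a ≪≫ P.opcyclesIsoSc' (a - 1) a (a + 1) (by simp) (by simp) ≪≫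
      T.moduleCatOpcyclesIso
  haveI : ∀ i, Module.Finite A (P.X i) := fun i => (hP i).1
  haveI : ∀ i, Module.Projective A (P.X i) := fun i => (hP i).2
  haveI : ∀ i, Module.FinitePresentation A (P.X i) := fun i => Module.finitePresentation_of_projective A _
  refine ⟨P.truncGE a, a, c, fun i hi => ?_, fun i => ?_, fun i => ?_,
    ⟨(asIso (DerivedCategory.Q.map (P.πTruncGE a))).symm ≪≫ e⟩⟩
  · rcases hi with hi | hi
    · exact (P.truncGE a).isZero_of_isStrictlyGE a i hi
    · exact (P.truncGE a).isZero_of_isStrictlyLE c i hi
  · rcases lt_trichotomy i a with hi | rfl | hi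
    · haveI := ModuleCat.subsingleton_of_isZero
        ((rsM R A).map_isZero ((P.truncGE a).isZero_of_isStrictlyGE a i hi))
      exact inferInstanceAs (Module.Flat R ((rsM R A).obj ((P.truncGE a).X i)))
    · haveI := flat_coker hPR i fun M => hv M (i - 1) (Or.inl (by lia))
      let l : (((rsC R A).obj P).X i ⧸ LinearMap.range (((rsC R A).obj P).d (i - 1) i).hom) ≃ₗ[R]
          (rsM R A).obj (ModuleCat.of A (P.X i ⧸ LinearMap.range (P.d (i - 1) i).hom)) :=
        { toFun := Quotient.map' id (fun x y h => by
            exact (Submodule.quotientRel_def _).2 ((Submodule.quotientRel_def _).1 h))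
          map_add' := fun x y => by induction x using Submodule.Quotient.induction_on
                                    induction y using Submodule.Quotient.induction_on
                                    rfl
          map_smul' := fun r x => by induction x using Submodule.Quotient.induction_on
                                     rfl
          invFun := Quotient.map' id (fun x y h => by
            exact (Submodule.quotientRel_def _).2 ((Submodule.quotientRel_def _).1 h))
          left_inv := fun x => by induction x using Submodule.Quotient.induction_on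
                                  rfl
          right_inv := fun x => by induction x using Submodule.Quotient.induction_on
                                   rfl }
      exact Module.Flat.of_linearEquiv (((rsM R A).mapIso eop).toLinearEquiv.trans l.symm)
    · haveI : Module.Flat R ((rsM R A).obj (P.X i)) := hPR i
      exact Module.Flat.of_linearEquiv ((rsM R A).mapIso (P.truncGEXIso a i hi)).toLinearEquiv
  · rcases lt_trichotomy i a with hi | rfl | hi
    · haveI := ModuleCat.subsingleton_of_isZero ((P.truncGE a).isZero_of_isStrictlyGE a i hi)
      exact Module.finitePresentation_of_projective A _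
    · haveI : Module.FinitePresentation A (P.X i ⧸ LinearMap.range (P.d (i - 1) i).hom) :=
        Module.finitePresentation_of_surjective (LinearMap.range (P.d (i - 1) i).hom).mkQ (Submodule.mkQ_surjective _)
          (by rw [Submodule.ker_mkQ, LinearMap.range_eq_map]; exact Module.Finite.fg_top.map _)
      exact Module.FinitePresentation.of_equiv eop.symm.toLinearEquiv
    · exact Module.FinitePresentation.of_equiv (P.truncGEXIso a i hi).symm.toLinearEquiv

theorem isRelPerfect_of_terms [Module.Flat R A] [Algebra.FinitePresentation R A] {K : Dual.D A}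
    (E : DRing.Cx A) (a b : ℤ) (hab : DRing.VanishesOutside E a b)
    (hE : ∀ i : ℤ, Module.FinitePresentation A (E.X i) ∧ Module.Flat R ((rsM R A).obj (E.X i)))
    (e : DRing.toD E ≅ K) : Dual2.IsRelPerfect R A K := by
  refine ⟨pc'_of_forall fun m => pc_of_iso e (pc_of_termwise m E b (fun i hi => hab i (Or.inr hi)) fun i _ => ?_),
    a, b, ⟨(rsC R A).obj E, fun i hi => (rsM R A).map_isZero (hab i hi), fun i => (hE i).2,
      ⟨((rsM R A).mapDerivedCategoryFactors.app E).symm ≪≫ (DRing.restrictD (algebraMap R A)).mapIso e⟩⟩⟩
  letI : Module R (E.X i) := Module.compHom _ (algebraMap R A)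
  haveI : IsScalarTower R A (E.X i) := ⟨fun r x y => by rw [Algebra.smul_def, mul_smul]; rfl⟩
  haveI : Module.Flat R (E.X i) := (hE i).2
  haveI := (hE i).1
  exact pc_mono (by omega) (RelPCS.pcModule_of_fp_flat (R := R) (i - m).toNat (E.X i))

end

/-- For a flat homomorphism of finite presentation R → A of commutative rings and an object K of D(A), K
is R-perfect (pseudo-coherent over A and of finite tor dimension over R) if and only if K is
isomorphic in D(A) to a bounded complex whose terms are finitely presented A-modules that are flat
as R-modules. -/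
theorem result (R A : Type u) [CommRing R] [CommRing A] [Algebra R A]
    [Module.Flat R A] [Algebra.FinitePresentation R A] (K : Dual.D A) :
    Dual2.IsRelPerfect R A K ↔
      ∃ (E : DRing.Cx A) (a b : ℤ), DRing.VanishesOutside E a b ∧
        (∀ i : ℤ, Module.FinitePresentation A (E.X i) ∧
          Module.Flat R ((ModuleCat.restrictScalars (algebraMap R A)).obj (E.X i))) ∧
        Nonempty (DRing.toD E ≅ K) := by
  refine ⟨fun h => ?_, fun ⟨E, a, b, hab, hE, ⟨e⟩⟩ => isRelPerfect_of_terms E a b hab hE e⟩
  obtain ⟨Q, a, c, hv, hfl, hfp, e⟩ := exists_rep_fp h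
  exact ⟨Q, a, c, hv, fun i => ⟨hfp i, hfl i⟩, e⟩

end Groth.Agent.S7074
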