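import Groth.Statements.S7076
import Groth.Agent.DRingKP.Nilp
import Groth.Agent.RelPC.Away

set_option autoImplicit false
universe u
attribute [local instance] HasDerivedCategory.standard
open TensorProduct
open Dual2

set_option backward.isDefEq.respectTransparency false
set_option backward.isDefEq.respectTransparency.types false

namespace Groth.Agent.S7076

open CategoryTheory DerivedCategory HomologicalComplex Groth.Agent.DRingKP TensorProduct

attribute [local instance] HasDerivedCategory.standard Algebra.TensorProduct.rightAlgebra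

/-- Let R' → A' be a flat homomorphism of finite presentation of commutative rings, R' → R a surjective
homomorphism of rings with nilpotent kernel, A = R ⊗_{R'} A', and K' an object of D(A'). If the
derived base change K' ⊗^L_{A'} A (total left derived functor of extension of scalars, assumed to
exist) is R-perfect in D(A), then K' is R'-perfect in D(A'). -/
theorem result (R' A' R : Type u) [CommRing R'] [CommRing A'] [Algebra R' A']
    [CommRing R] [Algebra R' R] [Module.Flat R' A'] [Algebra.FinitePresentation R' A']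
    (hs : Function.Surjective (algebraMap R' R)) (hn : IsNilpotent (RingHom.ker (algebraMap R' R)))
    [DRing.HasLBaseChange (Algebra.TensorProduct.includeRight.toRingHom : A' →+* R ⊗[R'] A')]
    (K' : Dual.D A')
    (hK : Dual2.IsRelPerfect R (R ⊗[R'] A')
      ((DRing.LBaseChange (Algebra.TensorProduct.includeRight.toRingHom : A' →+* R ⊗[R'] A')).obj K')) :
    Dual2.IsRelPerfect R' A' K' := by
  let S := R ⊗[R'] A'
  let I := RingHom.ker (algebraMap R' R)
  let J := I.map (algebraMap R' A')
  haveI : DRing.HasLBaseChange (algebraMap A' S) :=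
    ‹DRing.HasLBaseChange (Algebra.TensorProduct.includeRight.toRingHom : A' →+* R ⊗[R'] A')›
  haveI : DRing.HasLBaseChange (algebraMap R' R) := hasLBaseChange _
  have hs' : Function.Surjective (algebraMap A' S) := fun z => by
    induction z using TensorProduct.induction_on with
    | zero => exact ⟨0, map_zero _⟩
    | tmul r x =>
      obtain ⟨t, rfl⟩ := hs r
      refine ⟨t • x, ?_⟩
      show (1 : R) ⊗ₜ[R'] (t • x) = _
      rw [← TensorProduct.smul_tmul, Algebra.algebraMap_eq_smul_one]
    | add x y hx hy =>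
      obtain ⟨a, ha⟩ := hx
      obtain ⟨b, hb⟩ := hy
      exact ⟨a + b, by rw [map_add, ha, hb]⟩
  have hn' : IsNilpotent (RingHom.ker (algebraMap A' S)) := by
    let g : R →+* A' ⧸ J := (algebraMap R' R).liftOfSurjective hs
      ⟨algebraMap R' (A' ⧸ J), fun x hx => by
        rw [RingHom.mem_ker, IsScalarTower.algebraMap_apply R' A' (A' ⧸ J), Ideal.Quotient.algebraMap_eq,
          Ideal.Quotient.eq_zero_iff_mem]
        exact Ideal.mem_map_of_mem _ hx⟩
    let ga : R →ₐ[R'] A' ⧸ J :=
      { g with commutes' := fun x => RingHom.liftOfRightInverse_comp_apply _ _ _ _ x }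
    let ρ : S →ₐ[R'] A' ⧸ J := Algebra.TensorProduct.lift ga (IsScalarTower.toAlgHom R' A' (A' ⧸ J))
      fun _ _ => Commute.all _ _
    have hle : RingHom.ker (algebraMap A' S) ≤ J := fun x hx => by
      refine Ideal.Quotient.eq_zero_iff_mem.1 ?_
      have h1 : ρ ((1 : R) ⊗ₜ[R'] x) = Ideal.Quotient.mk J x :=
        (Algebra.TensorProduct.lift_tmul _ _ _ _ _).trans (by rw [map_one, one_mul]; rfl)
      rw [← h1, show ((1 : R) ⊗ₜ[R'] x) = 0 from hx, map_zero]
    obtain ⟨n, hn⟩ := hn
    refine ⟨n, eq_bot_iff.2 ((Ideal.pow_right_mono hle n).trans ?_)⟩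
    rw [← Ideal.map_pow, hn]
    simp
  obtain ⟨hpcS, a, b, hamp⟩ := hK
  have hpc : DRing.IsPseudoCoherent' A' K' := (pc'_nilp_iff hs' hn' K').1 hpcS
  obtain ⟨P, c, hc, hP, ⟨eP⟩⟩ := id hpc
  have hPp := projective_X (termwiseFiniteProjective_of_free hP)
  haveI := isKProjective_of_vanishesAbove hc hPp
  let rs := ModuleCat.restrictScalars.{u} (algebraMap R' A')
  let T := (rs.mapHomologicalComplex (ComplexShape.up ℤ)).obj P
  have hTb : DRing.VanishesAbove T c := fun i hi => rs.map_isZero (hc i hi)
  have hTf : DRing.TermwiseFlat T := fun i => by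
    letI : Module R' (P.X i) := Module.compHom _ (algebraMap R' A')
    haveI : IsScalarTower R' A' (P.X i) := ⟨fun r x y => by rw [Algebra.smul_def, mul_smul]; rfl⟩
    haveI := flat_of_projective hPp i
    exact (Module.Flat.trans R' A' (P.X i) : Module.Flat R' (P.X i))
  obtain ⟨G, c', hGb, hG, ⟨eG⟩⟩ := exists_proj_rep_le (DRing.toD T)
    ⟨c + 1, fun i hi => (ShortComplex.isZero_homology_of_isZero_X₂ _ (hTb i (by lia))).of_iso
      ((homologyFunctorFactors (ModuleCat.{u} R') i).app _)⟩
  haveI := isKProjective_of_vanishesAbove hGb hG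
  obtain ⟨g, hg⟩ := PerfLocal.exists_lift eG.hom
  haveI : IsIso (DerivedCategory.Q.map g) := by rw [hg]; infer_instance
  haveI : QuasiIso g := (DerivedCategory.isIso_Q_map_iff_quasiIso _ g).1 inferInstance
  haveI := DRingKP.quasiIso_bc (algebraMap R' R) g hGb hTb (flat_of_projective hG) hTf
  let e : (DRing.LBaseChange (algebraMap R' R)).obj ((DRing.restrictD (algebraMap R' A')).obj K') ≅
      (DRing.restrictD (algebraMap R S)).obj ((DRing.LBaseChange (algebraMap A' S)).obj K') :=
    (DRing.LBaseChange (algebraMap R' R)).mapIso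
      ((DRing.restrictD (algebraMap R' A')).mapIso eP.symm ≪≫ rs.mapDerivedCategoryFactors.app P ≪≫ eG.symm) ≪≫
    lBaseChangeIso (algebraMap R' R) G ≪≫
    asIso (DerivedCategory.Q.map ((bc (algebraMap R' R)).map g)) ≪≫
    DerivedCategory.Q.mapIso (RelPC.bcSquareCxIso (P := R') (Q := R) (A := A') (B := S) P) ≪≫
    ((ModuleCat.restrictScalars.{u} (algebraMap R S)).mapDerivedCategoryFactors.app _).symm ≪≫
    (DRing.restrictD (algebraMap R S)).mapIso
      ((lBaseChangeIso (algebraMap A' S) P).symm ≪≫ (DRing.LBaseChange (algebraMap A' S)).mapIso eP)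
  exact ⟨hpc, a, b, (amp_nilp_iff hs hn _ a b).1 (amp_of_iso e.symm hamp)⟩

end Groth.Agent.S7076
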