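import Groth.Statements.S7077
import Groth.Agent.DRingKP.TwoTermRep

set_option autoImplicit false
universe u
attribute [local instance] HasDerivedCategory.standard
open CategoryTheory
open DRing

namespace Groth.Agent.S7077

/-- (1)⇔(2): let R be a commutative ring and K an object of D(R) whose cohomology modules vanish outside
degrees -1 and 0. Then H^{-1}(K) vanishes and H^0(K) is a projective R-module if and only if
Ext^1_R(K, M) = Hom_{D(R)}(K, M[1]) vanishes for every R-module M. -/
theorem result {R : Type u} [CommRing R] (K : Dual.D R)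
    (hK : ∀ i : ℤ, i ≠ -1 → i ≠ 0 → Subsingleton (Dual.HD R K i)) :
    (Subsingleton (Dual.HD R K (-1)) ∧ Module.Projective R (Dual.HD R K 0)) ↔
      ∀ (M : Type u) [AddCommGroup M] [Module R M], Subsingleton (K ⟶ (Dual.inD R M)⟦(1 : ℤ)⟧) := by
  obtain ⟨_, _⟩ := DRingKP.isLE_of_two hK
  constructor
  · rintro ⟨h1, h0⟩ M _ _
    haveI : K.IsGE 0 := (DerivedCategory.isGE_iff K 0).2 fun i hi => by
      obtain rfl | hi : i = -1 ∨ i < -1 := by lia
      · exact @ModuleCat.isZero_of_subsingleton _ _
          ((DerivedCategory.homologyFunctor (ModuleCat.{u} R) (-1)).obj K) h1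
      · exact DerivedCategory.isZero_of_isGE K (-1) i hi
    obtain ⟨Y, ⟨e⟩⟩ := DerivedCategory.exists_iso_singleFunctor_obj_of_isGE_of_isLE K 0
    haveI : Module.Projective R ((DerivedCategory.homologyFunctor (ModuleCat.{u} R) 0).obj K) := h0
    haveI : Module.Projective R Y := Module.Projective.of_equiv
      ((DerivedCategory.homologyFunctor (ModuleCat.{u} R) 0).mapIso e ≪≫
        (DerivedCategory.singleFunctorCompHomologyFunctorIso (ModuleCat.{u} R) 0).app Y).toLinearEquiv
    let P : DRing.Cx R := (HomologicalComplex.single _ (ComplexShape.up ℤ) 0).obj Y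
    refine DRingKP.subsingleton_hom (P := P) (a := 0) (b := 0)
      (fun i hi => HomologicalComplex.isZero_single_obj_X (ComplexShape.up ℤ) 0 Y i (by lia)) (fun i => ?_)
      (((DerivedCategory.singleFunctorIsoCompQ (ModuleCat.{u} R) 0).app Y).symm ≪≫ e.symm) fun i hi => ?_
    · by_cases hi : i = 0
      · subst hi
        exact Module.Projective.of_equiv
          (HomologicalComplex.singleObjXSelf (ComplexShape.up ℤ) 0 Y).toLinearEquiv.symm
      · haveI := ModuleCat.subsingleton_of_isZero
          (HomologicalComplex.isZero_single_obj_X (ComplexShape.up ℤ) 0 Y i hi)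
        infer_instance
    · haveI : (Dual.inD R M).IsLE 0 := inferInstanceAs
        (((DerivedCategory.singleFunctor (ModuleCat.{u} R) 0).obj (ModuleCat.of R M)).IsLE 0)
      haveI : ((Dual.inD R M)⟦(1 : ℤ)⟧).IsLE (-1) :=
        DerivedCategory.TStructure.t.isLE_shift (Dual.inD R M) 0 1 (-1)
      exact DerivedCategory.isZero_of_isLE _ (-1) i (by lia)
  · intro h
    obtain ⟨E, hE, hE0, ⟨e⟩⟩ := DRingKP.exists_twoTerm_free K
    have hb : DRing.VanishesAbove E 0 := fun i hi => hE i (Or.inr hi)
    haveI := hE0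
    have hp : Projective (E.X 0) := (IsProjective.iff_projective (E.X 0)).1 (Module.Projective.of_free)
    have hd : E.d (-2) (-1) = 0 := (hE (-2) (Or.inl (by lia))).eq_of_src _ _
    haveI := h (E.X (-1))
    obtain ⟨g, hg⟩ := (DRingKP.ext1_eq_zero_iff (E.X (-1)) hb hp (𝟙 _) (by rw [hd, Limits.zero_comp])).1
      ((cancel_epi e.inv).1 (Subsingleton.elim
        (α := K ⟶ (Dual.inD R (E.X (-1)))⟦(1 : ℤ)⟧) _ _))
    let d : E.X (-1) →ₗ[R] E.X 0 := (E.d (-1) 0).hom
    have hgd : ∀ x, g.hom (d x) = x := fun x => LinearMap.congr_fun (congrArg ModuleCat.Hom.hom hg) x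
    let eH : ∀ i, (DerivedCategory.homologyFunctor (ModuleCat.{u} R) i).obj K ≅ E.homology i := fun i =>
      (DerivedCategory.homologyFunctor (ModuleCat.{u} R) i).mapIso e.symm ≪≫
        (DerivedCategory.homologyFunctorFactors (ModuleCat.{u} R) i).app E
    constructor
    · refine ModuleCat.subsingleton_of_isZero (Limits.IsZero.of_iso ?_ (eH (-1)))
      rw [← HomologicalComplex.exactAt_iff_isZero_homology,
        HomologicalComplex.exactAt_iff' E (-2) (-1) 0 (by simp) (by simp), ShortComplex.moduleCat_exact_iff]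
      intro x hx
      refine ⟨0, ?_⟩
      rw [map_zero, ← hgd x]
      exact ((congrArg g.hom (show d x = 0 from hx)).trans (map_zero _)).symm
    · let r : E.X 0 →ₗ[R] E.X 0 := LinearMap.id - d ∘ₗ g.hom
      have hr : LinearMap.range d ≤ LinearMap.ker r := by
        rintro _ ⟨x, rfl⟩
        simp [r, hgd]
      haveI : Module.Projective R (E.X 0 ⧸ LinearMap.range d) :=
        Module.Projective.of_split ((LinearMap.range d).liftQ r hr) (LinearMap.range d).mkQ
          (Submodule.linearMap_qext _ (LinearMap.ext fun x => by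
            change (LinearMap.range d).mkQ (r x) = (LinearMap.range d).mkQ x
            rw [Submodule.mkQ_apply, Submodule.mkQ_apply, Submodule.Quotient.eq]
            exact ⟨-g.hom x, by simp [r]⟩))
      let e' := eH 0 ≪≫ E.isoHomologyι 0 1 (by simp) ((hE 1 (Or.inr (by lia))).eq_of_tgt _ _) ≪≫
        E.opcyclesIsoSc' (-1) 0 1 (by simp) (by simp) ≪≫ (E.sc' (-1) 0 1).moduleCatOpcyclesIso
      exact Module.Projective.of_equiv
        (show (E.X 0 ⧸ LinearMap.range d) ≃ₗ[R]
          (DerivedCategory.homologyFunctor (ModuleCat.{u} R) 0).obj K from e'.toLinearEquiv.symm)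

end Groth.Agent.S7077
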