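import Groth.Statements.S7082
import Groth.Agent.DRingKP.TwoTermRep

set_option autoImplicit false
universe u
attribute [local instance] HasDerivedCategory.standard
open CategoryTheory
open DRing

namespace Groth.Agent.S7082

/-- (1)⇔(3): let R be a commutative ring, I an ideal and K an object of D(R) whose cohomology vanishes
outside degrees -1 and 0. Then I annihilates Ext^1_R(K, N) = Hom_{D(R)}(K, N[1]) for every R-module
N if and only if, for every two-term complex E in degrees -1 and 0 with E^0 projective that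
represents K, and every a in I, multiplication by a on E^{-1} factors through the differential
E^{-1} → E^0. -/
theorem result {R : Type u} [CommRing R] (I : Ideal R) (K : Dual.D R)
    (hK : ∀ i : ℤ, i ≠ -1 → i ≠ 0 → Subsingleton (Dual.HD R K i)) :
    (∀ (N : Type u) [AddCommGroup N] [Module R N] (a : R), a ∈ I →
        ∀ ξ : K ⟶ (Dual.inD R N)⟦(1 : ℤ)⟧, a • ξ = 0) ↔
      ∀ (E : DRing.Cx R), DRing.VanishesOutside E (-1) 0 → Module.Projective R (E.X 0) →
        Nonempty (DRing.toD E ≅ K) → ∀ a : R, a ∈ I →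
          ∃ h : E.X 0 ⟶ E.X (-1), E.d (-1) 0 ≫ h = a • 𝟙 (E.X (-1)) := by
  obtain ⟨_, _⟩ := DRingKP.isLE_of_two hK
  constructor
  · rintro hI E hE hE0 ⟨e⟩ a ha
    have hb : DRing.VanishesAbove E 0 := fun i hi => hE i (Or.inr hi)
    have hd : E.d (-2) (-1) = 0 := (hE (-2) (Or.inl (by lia))).eq_of_src _ _
    have h := hI (E.X (-1)) a ha
      (e.inv ≫ DRingKP.ext1 (E.X (-1)) (𝟙 (E.X (-1))) (by rw [hd, Limits.zero_comp]))
    rw [← Linear.comp_smul, ← Limits.comp_zero (f := e.inv), cancel_epi, DRingKP.ext1_smul,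
      DRingKP.ext1_eq_zero_iff _ hb ((IsProjective.iff_projective _).1 hE0)] at h
    exact h
  · intro h N _ _ a ha ξ
    obtain ⟨E, hE, hE0, ⟨e⟩⟩ := DRingKP.exists_twoTerm_free K
    haveI := hE0
    have hb : DRing.VanishesAbove E 0 := fun i hi => hE i (Or.inr hi)
    have hp : Projective (E.X 0) := (IsProjective.iff_projective (E.X 0)).1 (Module.Projective.of_free)
    obtain ⟨g, hg⟩ := h E hE Module.Projective.of_free ⟨e⟩ a ha
    obtain ⟨φ, hφ, hξ⟩ := DRingKP.ext1_surjective (ModuleCat.of R N) hb hp (e.hom ≫ ξ)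
    rw [← cancel_epi e.hom, Limits.comp_zero, Linear.comp_smul]
    refine (congrArg (a • ·) hξ.symm).trans ((DRingKP.ext1_smul _ a φ hφ).trans ?_)
    refine (DRingKP.ext1_eq_zero_iff _ hb hp _ _).2 ⟨g ≫ φ, ?_⟩
    rw [← Category.assoc, hg, Linear.smul_comp, Category.id_comp]

end Groth.Agent.S7082
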