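import Groth.Statements.S7085
import Mathlib
import Groth.Agent.PowTors.Basic
-- import your own Groth.Agent.* helpers here

set_option autoImplicit false
universe u
open LocCoh

namespace Groth.Agent.S7085

/-- Let R be a commutative ring, I an ideal generated by finitely many elements f_1, …, f_t, and M an
R-module. Then: M has no nonzero element killed by I if and only if it has no nonzero element killed
by I^n for every n ≥ 1; and M has no nonzero element killed by I if and only if an element of M
vanishing in every localization M_{f_i} is zero. -/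
theorem result {R : Type u} [CommRing R] {t : ℕ} (f : Fin t → R)
    (I : Ideal R) (hI : Ideal.span (Set.range f) = I) (M : Type u) [AddCommGroup M] [Module R M] :
    (LocCoh.torsionBy I M = ⊥ ↔ ∀ n : ℕ, 1 ≤ n → LocCoh.torsionBy (I ^ n) M = ⊥) ∧
    (LocCoh.torsionBy I M = ⊥ ↔
      ∀ m : M, (∀ i : Fin t, LocalizedModule.mkLinearMap (Submonoid.powers (f i)) M m = 0) → m = 0) := by
  have hfg : I.FG := hI ▸ Submodule.fg_span (Set.finite_range f)
  refine ⟨⟨fun h n _ => ?_, fun h => by simpa using h 1 le_rfl⟩, ⟨fun h m hm => ?_, fun h => ?_⟩⟩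
  · rw [eq_bot_iff]
    exact fun m hm => Groth.Agent.PowTors.torsionBy_pow_eq_bot h n fun a ha =>
      (Submodule.mem_torsionBySet_iff _ _).1 hm ⟨a, ha⟩
  · choose k hk using fun i => (IsLocalizedModule.eq_zero_iff (Submonoid.powers (f i)) (LocalizedModule.mkLinearMap (Submonoid.powers (f i)) M)).1 (hm i)
    obtain ⟨n, hn⟩ : ∃ n, ∀ a ∈ I ^ n, a • m = 0 := by
      have hle : I ≤ Ideal.radical (LinearMap.ker (LinearMap.toSpanSingleton R M m)) := by
        rw [← hI, Ideal.span_le]
        rintro _ ⟨i, rfl⟩
        obtain ⟨e, he⟩ := (k i).2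
        exact ⟨e, by rw [LinearMap.mem_ker, LinearMap.toSpanSingleton_apply,
          show f i ^ e = ((k i : R)) from he]; exact hk i⟩
      obtain ⟨n, hn⟩ := Ideal.exists_pow_le_of_le_radical_of_fg hle hfg
      exact ⟨n, fun a ha => hn ha⟩
    exact Groth.Agent.PowTors.torsionBy_pow_eq_bot h n hn
  · rw [eq_bot_iff]
    intro m hm
    refine h m fun i => (IsLocalizedModule.eq_zero_iff (Submonoid.powers (f i))
      (LocalizedModule.mkLinearMap (Submonoid.powers (f i)) M)).2 ⟨⟨f i, Submonoid.mem_powers _⟩, ?_⟩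
    exact (Submodule.mem_torsionBySet_iff _ _).1 hm ⟨f i, hI ▸ Ideal.subset_span ⟨i, rfl⟩⟩

end Groth.Agent.S7085
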