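import Groth.Statements.S7091
import Groth.Agent.DRingKP.DComplIso

set_option autoImplicit false
universe u
attribute [local instance] HasDerivedCategory.standard
open CategoryTheory
open DRing

namespace Groth.Agent.S7091

/-- Let A be a commutative ring, I a finitely generated ideal, and assume the derived completion functor
(left adjoint to the inclusion of derived complete objects) exists. If a morphism K → L in D(A)
induces isomorphisms on cohomology in degrees ≥ 1 and a surjection in degree 0, then so does the
induced morphism between the derived completions. -/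
theorem result {A : Type u} [CommRing A] (I : Ideal A) (hI : I.FG)
    [DRing.HasDerivedCompletion I] {K L : Dual.D A} (φ : K ⟶ L)
    (hiso : ∀ i : ℤ, 1 ≤ i → IsIso ((DerivedCategory.homologyFunctor (ModuleCat.{u} A) i).map φ))
    (hepi : Epi ((DerivedCategory.homologyFunctor (ModuleCat.{u} A) 0).map φ)) :
    (∀ i : ℤ, 1 ≤ i → IsIso ((DerivedCategory.homologyFunctor (ModuleCat.{u} A) i).map
        ((DRing.derivedCompletion I).map φ).hom)) ∧
      Epi ((DerivedCategory.homologyFunctor (ModuleCat.{u} A) 0).map ((DRing.derivedCompletion I).map φ).hom) := by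
  obtain ⟨s, hs⟩ := hI
  have hs' : Ideal.span {x | x ∈ s.toList} = I := by simpa using hs
  have h : ∀ j : ℤ, 0 ≤ j → Epi ((DerivedCategory.homologyFunctor (ModuleCat.{u} A) j).map φ) ∧
      Mono ((DerivedCategory.homologyFunctor (ModuleCat.{u} A) (j + 1)).map φ) := fun j hj => by
    haveI := hiso (j + 1) (by lia)
    refine ⟨?_, inferInstance⟩
    rcases hj.eq_or_lt with rfl | hj'
    · exact hepi
    · haveI := hiso j (by lia)
      infer_instance
  have key := fun (n : ℤ) (hn : 0 ≤ n) => Groth.Agent.DRingKP.zeroAt_completion_map I s.toList hs' φ n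
    fun j hj _ => h j (by lia)
  refine ⟨fun i hi => ?_, (key 0 le_rfl).1⟩
  haveI := (key i (by lia)).1
  have h2 := (key (i - 1) (by lia)).2
  rw [sub_add_cancel] at h2
  haveI := h2
  exact CategoryTheory.isIso_of_mono_of_epi _

end Groth.Agent.S7091
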