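import Groth.Statements.S7093
import Groth.Agent.DRingKP.TorAmp
import Groth.Agent.DRingKP.FlatBC
import Groth.Agent.DRingKP.Res

set_option autoImplicit false
universe u
attribute [local instance] HasDerivedCategory.standard
open CategoryTheory CategoryTheory.Limits
open Dual2

namespace Groth.Agent.S7093

section helpers
open Groth.Agent.DRingKP CategoryTheory CategoryTheory.Limits CategoryTheory.Pretriangulated DerivedCategory
open scoped ZeroObject
attribute [local instance] HasDerivedCategory.standard
variable {R A : Type u} [CommRing R] [CommRing A] [Algebra R A]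

lemma pc_of_iso' {K L : Dual.D A} (e : K ≅ L) (h : DRing.IsPseudoCoherent' A K) :
    DRing.IsPseudoCoherent' A L :=
  pc'_iff.2 fun m => pc_of_iso e (pc_of_pc' h m)

lemma rel_iso {K L : Dual.D A} (e : K ≅ L) (h : Dual2.IsRelPerfect R A K) :
    Dual2.IsRelPerfect R A L := by
  obtain ⟨h1, a, b, h2⟩ := h
  exact ⟨pc_of_iso' e h1, a, b, amp_of_iso ((DRing.restrictD (algebraMap R A)).mapIso e) h2⟩

lemma rel_zero : ∃ Z : Dual.D A, IsZero Z ∧ Dual2.IsRelPerfect R A Z := by
  refine ⟨DRing.toD (0 : DRing.Cx A), DerivedCategory.Q.map_isZero (isZero_zero _), ?_, 0, 0, ?_⟩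
  · exact pc'_iff.2 fun m => pc_of_isAbove fun i _ =>
      isZero_of_isZero i (DerivedCategory.Q.map_isZero (isZero_zero _))
  · exact amp_of_isZero 0 0 ((DRing.restrictD (algebraMap R A)).map_isZero
      (DerivedCategory.Q.map_isZero (isZero_zero _)))

lemma rel_shift (n : ℤ) {K : Dual.D A} (h : Dual2.IsRelPerfect R A K) :
    Dual2.IsRelPerfect R A (K⟦n⟧) := by
  obtain ⟨h1, a, b, h2⟩ := h
  refine ⟨pc'_iff.2 fun m => ?_, a - n, b - n,
    amp_of_iso (((DRing.restrictD (algebraMap R A)).commShiftIso n).app K).symm (amp_shift h2 n)⟩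
  have := pc_shift (pc_of_pc' h1 (m + n)) n
  rwa [add_sub_cancel_right] at this

lemma rel_ext (T : Triangle (Dual.D A)) (hT : T ∈ distTriang (Dual.D A))
    (h₁ : Dual2.IsRelPerfect R A T.obj₁) (h₃ : Dual2.IsRelPerfect R A T.obj₃) :
    Dual2.IsRelPerfect R A T.obj₂ := by
  obtain ⟨h1, a, b, ha⟩ := h₁
  obtain ⟨h3, c, d, hc⟩ := h₃
  exact ⟨pc'_iff.2 fun m => pc_obj₂ T hT m (pc_of_pc' h1 m) (pc_of_pc' h3 m), min a c, max b d,
    amp_obj₂ ((DRing.restrictD (algebraMap R A)).mapTriangle.obj T)
      ((DRing.restrictD (algebraMap R A)).map_distinguished T hT)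
      (amp_widen (min_le_left _ _) (le_max_left _ _) ha)
      (amp_widen (min_le_right _ _) (le_max_right _ _) hc)⟩

lemma rel_summand (X Y : Dual.D A) (h : Dual2.IsRelPerfect R A (X ⊞ Y)) :
    Dual2.IsRelPerfect R A X ∧ Dual2.IsRelPerfect R A Y := by
  obtain ⟨h1, a, b, h2⟩ := h
  let F := DRing.restrictD (algebraMap R A)
  refine ⟨⟨pc'_iff.2 fun m => (pc_biprod m X Y (pc_of_pc' h1 m)).1, a, b, ?_⟩,
    ⟨pc'_iff.2 fun m => (pc_biprod m X Y (pc_of_pc' h1 m)).2, a, b, ?_⟩⟩
  · exact amp_iff_torVan.2 (torVan_retract (torVan_of_amp h2) (F.map biprod.inl) (F.map biprod.fst)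
      (by rw [← F.map_comp, biprod.inl_fst, F.map_id]))
  · exact amp_iff_torVan.2 (torVan_retract (torVan_of_amp h2) (F.map biprod.inr) (F.map biprod.snd)
      (by rw [← F.map_comp, biprod.inr_snd, F.map_id]))

end helpers


/-- For a flat homomorphism of finite presentation R → A of commutative rings, the R-perfect objects of
D(A) (pseudo-coherent over A, finite tor dimension over R) form a strictly full, saturated
triangulated subcategory: the property is a triangulated object property (contains zero, stable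
under shifts and under extensions in distinguished triangles), is closed under isomorphisms, and
passes to direct summands. -/
theorem result (R A : Type u) [CommRing R] [CommRing A] [Algebra R A]
    [Module.Flat R A] [Algebra.FinitePresentation R A] :
    ObjectProperty.IsTriangulated (C := Dual.D A) (fun K => Dual2.IsRelPerfect R A K) ∧
      ObjectProperty.IsClosedUnderIsomorphisms (C := Dual.D A) (fun K => Dual2.IsRelPerfect R A K) ∧
      ∀ X Y : Dual.D A, Dual2.IsRelPerfect R A (X ⊞ Y) → Dual2.IsRelPerfect R A X ∧ Dual2.IsRelPerfect R A Y := by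
  refine ⟨?_, ⟨fun e h => rel_iso e h⟩, fun X Y h => rel_summand X Y h⟩
  exact
    { exists_zero := rel_zero
      isStableUnderShiftBy := fun n => ⟨fun X hX => rel_shift n hX⟩
      ext₂' := fun T hT h₁ h₃ => ObjectProperty.le_isoClosure _ _ (rel_ext T hT h₁ h₃) }

end Groth.Agent.S7093
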