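import Groth.Statements.S7098
import Groth.Agent.DRingKP.DCPi
import Groth.Agent.DRingKP.Modules

set_option autoImplicit false
universe u
attribute [local instance] HasDerivedCategory.standard
open DRing

namespace Groth.Agent.S7098

/-- (1)⇔(2): let A be a commutative ring, f an element of A and K an object of D(A). Then every morphism
A_f[0] → K[n] vanishes for every integer n if and only if every morphism E → K vanishes for every
object E of D(A) obtained by restriction of scalars from D(A_f). -/
theorem result {A : Type u} [CommRing A] (f : A)
    (K : Dual.D A) :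
    (∀ n : ℤ, Subsingleton (Dual.inD A (Localization.Away f) ⟶ K⟦n⟧)) ↔
      ∀ E : Dual.D (Localization.Away f),
        Subsingleton ((DRing.restrictD (algebraMap A (Localization.Away f))).obj E ⟶ K) := by
  refine ⟨fun h E => ?_, fun h n => ?_⟩
  · haveI := Groth.Agent.DRingKP.isIso_smul_restrict f E
    exact Groth.Agent.DRingKP.subsingleton_hom_of_invertible (f := f) ((Groth.Agent.DRingKP.tele_iff_HD f K).1 h)
  · let ψ := algebraMap A (Localization.Away f)
    let E : Dual.D (Localization.Away f) := DerivedCategory.Q.obj
      ((HomologicalComplex.single (ModuleCat.{u} (Localization.Away f)) (ComplexShape.up ℤ) n).obj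
        (ModuleCat.of (Localization.Away f) (Localization.Away f)))
    let m : (ModuleCat.restrictScalars.{u} ψ).obj (ModuleCat.of (Localization.Away f) (Localization.Away f)) ≅
        ModuleCat.of A (Localization.Away f) :=
      (show ((ModuleCat.restrictScalars.{u} ψ).obj (ModuleCat.of (Localization.Away f) (Localization.Away f))) ≃ₗ[A]
          Localization.Away f from
        { toFun := fun (x : Localization.Away f) => x, invFun := fun (x : Localization.Away f) => x,
          left_inv := fun _ => rfl, right_inv := fun _ => rfl,
          map_add' := fun _ _ => rfl, map_smul' := fun a (x : Localization.Away f) => (Algebra.smul_def a x).symm }).toModuleIso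
    let e : (DRing.restrictD ψ).obj E ≅ (Dual.inD A (Localization.Away f))⟦-n⟧ :=
      (ModuleCat.restrictScalars.{u} ψ).mapDerivedCategoryFactors.app _ ≪≫
        DerivedCategory.Q.mapIso (((HomologicalComplex.singleMapHomologicalComplex
          (ModuleCat.restrictScalars.{u} ψ) (ComplexShape.up ℤ) n).app _) ≪≫
          (HomologicalComplex.single (ModuleCat.{u} A) (ComplexShape.up ℤ) n).mapIso m) ≪≫
        ((DerivedCategory.singleFunctorIsoCompQ (ModuleCat.{u} A) n).app _).symm ≪≫
        (Groth.Agent.DRingKP.singleShiftIso _ n).symm
    haveI := h E
    have h2 : Subsingleton ((Dual.inD A (Localization.Away f))⟦-n⟧ ⟶ K) :=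
      (CategoryTheory.Iso.homCongr e.symm (CategoryTheory.Iso.refl K)).subsingleton
    exact @Equiv.subsingleton _ _ (((CategoryTheory.shiftEquiv' (Dual.D A) (-n) n (by lia)).toAdjunction.homEquiv _ _).symm) h2

end Groth.Agent.S7098
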