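import Groth.Statements.S7100
import Groth.Agent.RelPCS.FlatTerms
import Groth.Agent.DRingKP.Restrict
import Mathlib.RingTheory.Finiteness.ModuleFinitePresentation

set_option autoImplicit false
universe u
attribute [local instance] HasDerivedCategory.standard
open DerCA

namespace Groth.Agent.S7100

/-- (1)⇔(4): let R → B → A be homomorphisms of commutative rings with B → A surjective and with R → B
and R → A both flat and of finite presentation. Then an object K of D(A) is pseudo-coherent
(isomorphic in D(A) to a bounded above complex of finite free modules) if and only if its
restriction of scalars to D(B) is pseudo-coherent; and for every integer m, K is m-pseudo-coherent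
if and only if its restriction of scalars to D(B) is m-pseudo-coherent. -/
theorem result (R B A : Type u) [CommRing R] [CommRing B] [CommRing A]
    [Algebra R B] [Algebra R A] [Algebra B A] [IsScalarTower R B A]
    (hφ : Function.Surjective (algebraMap B A))
    [Module.Flat R B] [Algebra.FinitePresentation R B] [Module.Flat R A] [Algebra.FinitePresentation R A]
    (K : Dual.D A) :
    (DRing.IsPseudoCoherent' A K ↔ DRing.IsPseudoCoherent' B ((DRing.restrictD (algebraMap B A)).obj K)) ∧
      ∀ m : ℤ, (DRing.IsPseudoCoherent A m K ↔
        DRing.IsPseudoCoherent B m ((DRing.restrictD (algebraMap B A)).obj K)) := by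
  haveI : Module.Finite B A := Module.Finite.of_surjective (Algebra.linearMap B A) hφ
  haveI : Algebra.FinitePresentation B A := Algebra.FinitePresentation.of_restrict_scalars_finitePresentation R B A
  haveI : Module.FinitePresentation B A := Module.FinitePresentation.of_finite_of_finitePresentation B A
  have hA : DRing.IsPseudoCoherentModule' B A := DRingKP.pc'_of_forall fun k =>
    DRingKP.pc_mono (show -((-k).toNat : ℤ) ≤ k by omega) (RelPCS.pcModule_of_fp_flat (R := R) (B := B) (-k).toNat A)
  have h := fun m => DRingKP.pc_res_iff (A := B) (B := A) hA m K
  refine ⟨?_, h⟩
  rw [DRingKP.pc'_iff, DRingKP.pc'_iff]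
  exact forall_congr' h

end Groth.Agent.S7100
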