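import Groth.Statements.S7107
import Mathlib.LinearAlgebra.Finsupp.SumProd
import Mathlib.SetTheory.Cardinal.Arithmetic
import Mathlib.LinearAlgebra.Finsupp.Defs
import Mathlib.LinearAlgebra.Prod
import Mathlib.LinearAlgebra.Finsupp.Pi

set_option autoImplicit false
universe u
open CAlg

namespace Groth.Agent.S7107

/-- Let R be a ring and P, Q modules such that P ⊕ Q is isomorphic to a free module F on an infinite
basis. Then P ⊕ F is isomorphic to F. -/
theorem result (R : Type u) [CommRing R] (P Q : Type u) [AddCommGroup P] [Module R P]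
    [AddCommGroup Q] [Module R Q] (ι : Type u) [Infinite ι] (e : (P × Q) ≃ₗ[R] (ι →₀ R)) :
    Nonempty ((P × (ι →₀ R)) ≃ₗ[R] (ι →₀ R)) := by
  classical
  obtain ⟨σ⟩ : Nonempty (ι ≃ ℕ × ι) := by
    have h : Cardinal.mk (ℕ × ι) = Cardinal.mk ι := by
      rw [Cardinal.mk_prod, Cardinal.mk_nat, Cardinal.lift_aleph0, Cardinal.lift_uzero]
      exact le_antisymm ((mul_le_mul_left (Cardinal.aleph0_le_mk ι) _).trans_eq (Cardinal.mul_eq_self (Cardinal.aleph0_le_mk ι)))
        (le_mul_of_one_le_left' (Cardinal.one_le_aleph0))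
    exact ⟨(Classical.choice (Cardinal.eq.1 h)).symm⟩
  let eF : (ι →₀ R) ≃ₗ[R] (ℕ →₀ (P × Q)) :=
    (Finsupp.domLCongr σ).trans ((Finsupp.curryLinearEquiv R).trans (Finsupp.mapRange.linearEquiv e.symm))
  let spl : (ℕ →₀ (P × Q)) ≃ₗ[R] ((ℕ →₀ P) × (ℕ →₀ Q)) :=
    LinearEquiv.ofLinear ((Finsupp.mapRange.linearMap (LinearMap.fst R P Q)).prod (Finsupp.mapRange.linearMap (LinearMap.snd R P Q)))
      ((Finsupp.mapRange.linearMap (LinearMap.inl R P Q)).coprod (Finsupp.mapRange.linearMap (LinearMap.inr R P Q)))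
      (by refine LinearMap.ext fun x => Prod.ext (Finsupp.ext fun n => ?_) (Finsupp.ext fun n => ?_) <;> simp)
      (by refine LinearMap.ext fun x => Finsupp.ext fun n => ?_; simp)
  let absorb : (P × (ℕ →₀ P)) ≃ₗ[R] (ℕ →₀ P) :=
    (((Finsupp.LinearEquiv.finsuppUnique R P PUnit.{1}).symm).prodCongr (LinearEquiv.refl R _)).trans
      ((LinearEquiv.prodComm R _ _).trans ((Finsupp.sumFinsuppLEquivProdFinsupp R).symm.trans (Finsupp.domLCongr Equiv.natSumPUnitEquivNat)))
  exact ⟨((LinearEquiv.refl R P).prodCongr (eF.trans spl)).trans ((LinearEquiv.prodAssoc R P (ℕ →₀ P) (ℕ →₀ Q)).symm.trans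
    ((absorb.prodCongr (LinearEquiv.refl R _)).trans (spl.symm.trans eF.symm)))⟩

end Groth.Agent.S7107
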