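import Groth.Statements.S7108
import Mathlib

set_option autoImplicit false
universe u
open CAlg

namespace Groth.Agent.S7108

/-- Every projective module P over a ring R becomes free after adding a suitable free module: P ⊕ F is
free for some free module F (here F is the free module on some index type). -/
theorem result (R : Type u) [CommRing R] (P : Type u) [AddCommGroup P]
    [Module R P] [Module.Projective R P] : ∃ ι : Type u, Module.Free R (P × (ι →₀ R)) := by
  classical
  let π : (P →₀ R) →ₗ[R] P := Finsupp.linearCombination R (id : P → P)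
  obtain ⟨s, hs⟩ := Module.projective_def'.1 (inferInstance : Module.Projective R P)
  have hs' : ∀ p, π (s p) = p := LinearMap.congr_fun hs
  let Q := ↥(LinearMap.ker π)
  let eF : (P →₀ R) ≃ₗ[R] P × Q :=
    LinearEquiv.ofLinear (LinearMap.prod π ((LinearMap.id - s ∘ₗ π).codRestrict _ fun x => by
        show π (x - s (π x)) = 0
        rw [map_sub, hs', sub_self]))
      (LinearMap.coprod s (LinearMap.ker π).subtype)
      (LinearMap.ext fun x => by
        obtain ⟨p, ⟨q, hq⟩⟩ := x
        have h1 : π (s p + q) = p := by rw [map_add, hs', LinearMap.mem_ker.1 hq, add_zero]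
        refine Prod.ext h1 (Subtype.ext ?_)
        show s p + q - s (π (s p + q)) = q
        rw [h1, add_sub_cancel_left])
      (LinearMap.ext fun x => by
        show s (π x) + (x - s (π x)) = x
        exact add_sub_cancel _ _)
  let split : (ℕ →₀ P × Q) ≃ₗ[R] (ℕ →₀ P) × (ℕ →₀ Q) :=
    LinearEquiv.ofLinear
      (LinearMap.prod (Finsupp.mapRange.linearMap (LinearMap.fst R P Q))
        (Finsupp.mapRange.linearMap (LinearMap.snd R P Q)))
      (LinearMap.coprod (Finsupp.mapRange.linearMap (LinearMap.inl R P Q))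
        (Finsupp.mapRange.linearMap (LinearMap.inr R P Q)))
      (LinearMap.ext fun x => by
        refine Prod.ext (Finsupp.ext fun n => ?_) (Finsupp.ext fun n => ?_) <;> simp)
      (LinearMap.ext fun x => Finsupp.ext fun n => by
        refine Prod.ext ?_ ?_ <;> simp)
  let e1 : (ℕ × P →₀ R) ≃ₗ[R] (ℕ →₀ P) × (ℕ →₀ Q) :=
    ((Finsupp.curryLinearEquiv R).trans (Finsupp.mapRange.linearEquiv eF)).trans split
  let en : Unit ⊕ ℕ ≃ ℕ := (Equiv.sumComm _ _).trans (Equiv.natSumPUnitEquivNat)
  let e2 : (P × (ℕ →₀ P)) ≃ₗ[R] (ℕ →₀ P) :=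
    ((((Finsupp.LinearEquiv.finsuppUnique R P Unit).symm).prodCongr (LinearEquiv.refl R _)).trans
      (Finsupp.sumFinsuppLEquivProdFinsupp R).symm).trans (Finsupp.domLCongr en)
  let e : (P × (ULift.{u} ℕ × P →₀ R)) ≃ₗ[R] (ℕ × P →₀ R) :=
    (((LinearEquiv.refl R P).prodCongr ((Finsupp.domLCongr (Equiv.ulift.prodCongr (Equiv.refl P))).trans e1)).trans
      (((LinearEquiv.prodAssoc R P (ℕ →₀ P) (ℕ →₀ Q)).symm).trans (e2.prodCongr (LinearEquiv.refl R _)))).trans e1.symm
  exact ⟨ULift.{u} ℕ × P, Module.Free.of_equiv e.symm⟩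

end Groth.Agent.S7108
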