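import Groth.Statements.S7109
import Mathlib.Algebra.Module.Projective
import Mathlib.LinearAlgebra.Prod
import Mathlib.LinearAlgebra.Pi
import Mathlib.LinearAlgebra.Dimension.Free
import Mathlib.LinearAlgebra.Finsupp.LinearCombination

set_option autoImplicit false
universe u
open CAlg

namespace Groth.Agent.S7109

/-- Let P be a projective module over a ring R and s an element of P. Then there are a finite free
module R^n and a direct summand K of R^n ⊕ P which is finite free and contains (0, s). -/
theorem result (R : Type u) [CommRing R] (P : Type u) [AddCommGroup P]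
    [Module R P] [Module.Projective R P] (s : P) :
    ∃ (n : ℕ) (K K' : Submodule R ((Fin n → R) × P)), IsCompl K K' ∧ Module.Free R K ∧ Module.Finite R K ∧
      ((0, s) : (Fin n → R) × P) ∈ K := by
  classical
  obtain ⟨i, hi⟩ := Module.projective_def'.1 ‹Module.Projective R P›
  let p : (P →₀ R) →ₗ[R] P := Finsupp.linearCombination R id
  have hpi : ∀ x, p (i x) = x := fun x => LinearMap.congr_fun hi x
  let S := (i s).support
  let π : (P →₀ R) →ₗ[R] (Fin S.card → R) :=
    { toFun := fun v k => v (S.equivFin.symm k : P)
      map_add' := fun a b => rfl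
      map_smul' := fun c a => rfl }
  let j : (Fin S.card → R) →ₗ[R] (P →₀ R) :=
    { toFun := fun w => ∑ k, Finsupp.single (S.equivFin.symm k : P) (w k)
      map_add' := fun a b => by simp only [Pi.add_apply, Finsupp.single_add, Finset.sum_add_distrib]
      map_smul' := fun c a => by simp only [Pi.smul_apply, Finset.smul_sum, Finsupp.smul_single, RingHom.id_apply] }
  have hjπ : j (π (i s)) = i s := by
    show ∑ k, Finsupp.single (S.equivFin.symm k : P) (i s (S.equivFin.symm k : P)) = i s
    rw [S.equivFin.symm.sum_comp (fun x : S => Finsupp.single (x : P) (i s x)), Finset.sum_coe_sort S (fun x => Finsupp.single x (i s x))]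
    exact Finsupp.sum_single (i s)
  let α : (Fin S.card → R) →ₗ[R] (Fin S.card → R) × P := (LinearMap.id - π.comp (i.comp (p.comp j))).prod (p.comp j)
  let β : (Fin S.card → R) × P →ₗ[R] (Fin S.card → R) := LinearMap.id.coprod (π.comp i)
  have hβα : ∀ v, β (α v) = v := fun v => by simp [α, β]
  refine ⟨S.card, LinearMap.range α, LinearMap.ker β, ⟨?_, ?_⟩, ?_, ?_, ⟨π (i s), ?_⟩⟩
  · rw [disjoint_iff, eq_bot_iff]
    rintro _ ⟨⟨v, rfl⟩, hv⟩
    have : v = 0 := (hβα v).symm.trans hv
    simp [this]
  · rw [codisjoint_iff, eq_top_iff]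
    intro x _
    refine Submodule.mem_sup.2 ⟨α (β x), ⟨β x, rfl⟩, x - α (β x), ?_, add_sub_cancel _ _⟩
    rw [LinearMap.mem_ker, map_sub, hβα, sub_self]
  · exact Module.Free.of_equiv (LinearEquiv.ofInjective α (Function.LeftInverse.injective hβα))
  · infer_instance
  · simp [α, hjπ, hpi]

end Groth.Agent.S7109
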