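import Groth.Statements.S7111
import Groth.Agent.BigProj.Basic
-- import your own Groth.Agent.* helpers here

set_option autoImplicit false
universe u
open CAlg

namespace Groth.Agent.S7111

/-- Let R be a ring whose quotient by its Jacobson radical is Noetherian and P a projective R-module
such that for every maximal ideal m the localization P_m is not finitely generated over R_m (P has
infinite rank everywhere). Then every element s of P lies in a direct summand of P which is a finite
stably free module. -/
theorem result (R : Type u) [CommRing R]
    [IsNoetherianRing (R ⧸ (⊥ : Ideal R).jacobson)]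
    (P : Type u) [AddCommGroup P] [Module R P] [Module.Projective R P]
    (hP : ∀ (m : Ideal R) [m.IsMaximal],
      ¬ Module.Finite (Localization.AtPrime m) (LocalizedModule m.primeCompl P))
    (s : P) :
    ∃ (K K' : Submodule R P), IsCompl K K' ∧ Module.Finite R K ∧ Module.IsStablyFree R K ∧ s ∈ K := by
  obtain ⟨n, σ, π, hσ, -, -, hs⟩ := Groth.Agent.BigProj.exists_free_summand
    (Groth.Agent.BigProj.big_of_not_finite hP) LinearMap.id (fun _ => rfl)
    (by rw [LinearMap.ker_id]; exact Submodule.fg_bot) s rfl
  have hinj : Function.Injective σ := Function.LeftInverse.injective hσ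
  let e : (Fin n → R) ≃ₗ[R] LinearMap.range σ := LinearEquiv.ofInjective σ hinj
  haveI : Module.Free R (LinearMap.range σ) := Module.Free.of_equiv e
  refine ⟨LinearMap.range σ, LinearMap.ker π, ?_, Module.Finite.equiv e, inferInstance, hs⟩
  refine ⟨disjoint_iff.2 (eq_bot_iff.2 ?_), codisjoint_iff.2 (eq_top_iff.2 fun x _ => ?_)⟩
  · rintro _ ⟨⟨v, rfl⟩, hv⟩
    have : π (σ v) = 0 := hv
    rw [hσ] at this
    simp [this]
  · rw [show x = σ (π x) + (x - σ (π x)) by abel]
    exact add_mem (Submodule.mem_sup_left (LinearMap.mem_range_self σ _))
      (Submodule.mem_sup_right (LinearMap.mem_ker.2 (by rw [map_sub, hσ, sub_self])))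

end Groth.Agent.S7111
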