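import Groth.Statements.S7113
import Mathlib
import Groth.Agent.SerreSplit.Cancel

set_option autoImplicit false
universe u
open CAlg

namespace Groth.Agent.S7113

/-- Let R be a ring whose set of maximal ideals, with the Zariski topology, is a Noetherian topological
space of Krull dimension at most d, and let M be an R-module of finite presentation whose
localization M_m at each maximal ideal m contains a free direct summand of rank d + 1. Then M is
isomorphic to R ⊕ M' for some M': there are s in M and a linear form φ on M with φ(s) = 1. (The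
published statement takes the dimension equal to d; a space of smaller dimension satisfies the
hypothesis for a smaller d, so the bound form is equivalent.) -/
theorem result (R : Type u) [CommRing R] (d : ℕ)
    [TopologicalSpace.NoetherianSpace (MaximalSpectrum R)]
    (hdim : topologicalKrullDim (MaximalSpectrum R) ≤ d)
    (M : Type u) [AddCommGroup M] [Module R M] [Module.FinitePresentation R M]
    (hM : ∀ (m : Ideal R) [m.IsMaximal],
      ∃ (f : (Fin (d + 1) → Localization.AtPrime m) →ₗ[Localization.AtPrime m] LocalizedModule m.primeCompl M)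
        (g : LocalizedModule m.primeCompl M →ₗ[Localization.AtPrime m] (Fin (d + 1) → Localization.AtPrime m)),
        g ∘ₗ f = LinearMap.id) :
    ∃ (s : M) (φ : M →ₗ[R] R), φ s = 1 := by
  classical
  have hrank : ∀ x : MaximalSpectrum R, 0 + (d + 1) ≤
      Module.finrank (R ⧸ x.asIdeal) ((M ⧸ (x.asIdeal • ⊤ : Submodule R M)) ⧸ SerreSplit.Bq M x) := by
    intro x
    haveI := x.isMaximal
    letI : Field (R ⧸ x.asIdeal) := Ideal.Quotient.field x.asIdeal
    haveI : Module.Finite (R ⧸ x.asIdeal) (M ⧸ (x.asIdeal • ⊤ : Submodule R M)) :=
      Module.Finite.of_restrictScalars_finite R _ _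
    obtain ⟨f, g, hgf⟩ := hM x.asIdeal
    let ι := LocalizedModule.mkLinearMap x.asIdeal.primeCompl M
    let l : Fin (d + 1) → (M →ₗ[R] Localization.AtPrime x.asIdeal) := fun i =>
      ((LinearMap.proj i).comp g).restrictScalars R ∘ₗ ι
    choose h s hs using fun i => Module.FinitePresentation.exists_lift_of_isLocalizedModule
      x.asIdeal.primeCompl (Algebra.linearMap R (Localization.AtPrime x.asIdeal)) (l i)
    choose mu hmu using fun j : Fin (d + 1) =>
      IsLocalizedModule.surj x.asIdeal.primeCompl ι (f (Pi.single j 1))
    have key : ∀ i j, algebraMap R (Localization.AtPrime x.asIdeal) (h i (mu j).1) =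
        algebraMap R _ ((s i : R) * ((mu j).2 : R) * (if i = j then 1 else 0)) := by
      intro i j
      have h1 : algebraMap R (Localization.AtPrime x.asIdeal) (h i (mu j).1) = (s i : R) • l i (mu j).1 :=
        DFunLike.congr_fun (hs i) (mu j).1
      rw [h1]
      show (s i : R) • (g (ι (mu j).1)) i = _
      rw [← hmu j, Submonoid.smul_def, LinearMap.map_smul_of_tower]
      have h2 : g (f (Pi.single j 1)) = Pi.single j 1 := DFunLike.congr_fun hgf _
      rw [Pi.smul_apply, h2, Pi.single_apply, Algebra.smul_def, Algebra.smul_def, map_mul, map_mul]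
      split_ifs <;> simp [mul_assoc]
    have hli : LinearIndependent (R ⧸ x.asIdeal) fun j => SerreSplit.img x (mu j).1 := by
      rw [Fintype.linearIndependent_iff]
      intro c hc i
      choose r hr using fun j => Ideal.Quotient.mk_surjective (c j)
      have h0 : SerreSplit.img x (∑ j, r j • (mu j).1) = 0 := by
        rw [← hc]
        simp only [SerreSplit.img, map_sum, ← hr]
        rfl
      have h1 := SerreSplit.img_eq_zero.1 h0 (h i)
      have h2 : algebraMap R (Localization.AtPrime x.asIdeal) (h i (∑ j, r j • (mu j).1)) =
          algebraMap R _ (r i * ((s i : R) * ((mu i).2 : R))) := by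
        rw [map_sum, map_sum, Finset.sum_eq_single i]
        · rw [map_smul, smul_eq_mul, map_mul, key, if_pos rfl, mul_one, ← map_mul]
        · intro j _ hj
          rw [map_smul, smul_eq_mul, map_mul, key, if_neg (Ne.symm hj), mul_zero, map_zero, mul_zero]
        · exact fun hni => absurd (Finset.mem_univ _) hni
      obtain ⟨t, ht⟩ := (IsLocalization.eq_iff_exists x.asIdeal.primeCompl _).1 h2
      have h3 : (t : R) * (r i * ((s i : R) * ((mu i).2 : R))) ∈ x.asIdeal := ht ▸ Ideal.mul_mem_left _ _ h1
      have h4 : r i ∈ x.asIdeal := by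
        rcases x.isMaximal.isPrime.mem_or_mem h3 with h | h
        · exact absurd h t.2
        rcases x.isMaximal.isPrime.mem_or_mem h with h | h
        · exact h
        rcases x.isMaximal.isPrime.mem_or_mem h with h | h
        · exact absurd h (s i).2
        · exact absurd h (mu i).2.2
      rw [← hr i, Ideal.Quotient.eq_zero_iff_mem.2 h4]
    simpa using hli.fintype_card_le_finrank
  obtain ⟨t, F', hF'c, -, hdep, hF'⟩ := SerreSplit.main (d + 1) 0 (Fin.elim0 : Fin 0 → M) ∅ isClosed_empty ∅
    (by simp) (fun _ => 0) hrank (fun x hx => (hx linearIndependent_empty_type).elim)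
  have hempty : F' = ∅ := by
    refine Set.eq_empty_iff_forall_notMem.2 fun x hx => ?_
    have h1 := hF' ⟨{x}, isIrreducible_singleton, isClosed_singleton⟩ (by simpa using hx)
    have h3 := ((WithBot.coe_le_coe.2 h1).trans (Order.coheight_le_krullDim _)).trans hdim
    norm_cast at h3
    omega
  obtain ⟨φ, hφ⟩ := SerreSplit.exists_dual_eq_one (t := t) fun x hx => by
    have hmem : x ∈ SerreSplit.Dep (R := R) (Fin.snoc (Fin.elim0 : Fin 0 → M) t : Fin 1 → M) := fun hl =>
      hl.ne_zero (0 : Fin 1) (by simpa [Fin.snoc] using hx)
    have := hdep hmem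
    simp [hempty] at this
  exact ⟨t, φ, hφ⟩

end Groth.Agent.S7113
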