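import Groth.Statements.S7114
import Mathlib.RingTheory.OrderOfVanishing.Basic

set_option autoImplicit false
universe u
open CAlg
open scoped Pointwise

namespace Groth.Agent.S7114

/-- Let R be a Noetherian local ring of Krull dimension one and x an element of the maximal ideal lying
in no minimal prime of R. Then for every n the length of R/xⁿR is at most n times the length of
R/xR, and equality holds when x is a nonzerodivisor. -/
theorem result (R : Type u) [CommRing R] [IsNoetherianRing R] [IsLocalRing R]
    (hdim : ringKrullDim R = 1) (x : R) (hx : x ∈ IsLocalRing.maximalIdeal R)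
    (hmin : ∀ p ∈ minimalPrimes R, x ∉ p) (n : ℕ) :
    Module.length R (R ⧸ Ideal.span {x ^ n}) ≤ (n : ℕ∞) * Module.length R (R ⧸ Ideal.span {x}) ∧
      (x ∈ nonZeroDivisors R →
        Module.length R (R ⧸ Ideal.span {x ^ n}) = (n : ℕ∞) * Module.length R (R ⧸ Ideal.span {x})) := by
  have key : ∀ a b : R, Ring.ord R (a * b) ≤ Ring.ord R a + Ring.ord R b := by
    intro a b
    let f := Ideal.mulQuot b (Ideal.span {a})
    let g := Ideal.quotOfMul b (Ideal.span {a})
    have h1 := Module.length_eq_add_of_exact (LinearMap.ker g).subtype g (Submodule.subtype_injective _)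
      (Ideal.quotOfMul_surjective _) (LinearMap.exact_subtype_ker_map g)
    have h2 : Module.length R (LinearMap.ker g) ≤ Module.length R (R ⧸ Ideal.span {a}) := by
      rw [(Ideal.exact_mulQuot_quotOfMul (Ideal.span {a})).linearMap_ker_eq]
      exact Module.length_le_of_surjective f.rangeRestrict f.surjective_rangeRestrict
    have lem : (b • Ideal.span {a} : Ideal R) = Ideal.span {b * a} := by
      rw [← Submodule.singleton_set_smul]
      simp [← Ideal.submodule_span_eq, Submodule.set_smul_span]
    show Module.length R (R ⧸ Ideal.span {a * b}) ≤ _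
    rw [mul_comm a b, ← lem]
    exact h1.le.trans (add_le_add h2 le_rfl)
  refine ⟨?_, fun hx0 => ?_⟩
  · induction n with
    | zero =>
      rw [pow_zero, show Module.length R (R ⧸ Ideal.span {(1 : R)}) = Ring.ord R 1 from rfl, Ring.ord_one]
      exact zero_le
    | succ n ih =>
      rw [pow_succ, Nat.cast_succ, add_mul, one_mul]
      exact (key _ _).trans (add_le_add ih le_rfl)
  · have h := Ring.ord_pow (R := R) hx0 n
    rw [nsmul_eq_mul] at h
    exact h

end Groth.Agent.S7114
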