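import Groth.Statements.S7115
import Groth.Agent.SerreReg.CM
import Mathlib.RingTheory.KrullDimension.NonZeroDivisors
import Mathlib.Tactic.NormNum

set_option autoImplicit false
universe u
open CAlg Groth.Agent

namespace Groth.Agent.S7115

/-- Let R be a Noetherian local ring of Krull dimension d > 1 with maximal ideal m, let f be an element
of m contained in no minimal prime, and let k be a natural number. Then there are elements g_1, ...,
g_{d-1} of m lying in m^k such that f, g_1, ..., g_{d-1} form a system of parameters: these d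
elements of m generate an ideal whose radical is m. -/
theorem result (R : Type u) [CommRing R] [IsNoetherianRing R] [IsLocalRing R]
    (d : ℕ) (hd : ringKrullDim R = d) (h1 : 1 < d) (f : R) (hf : f ∈ IsLocalRing.maximalIdeal R)
    (hmin : ∀ p ∈ minimalPrimes R, f ∉ p) (k : ℕ) :
    ∃ g : Fin (d - 1) → R, (∀ i, g i ∈ IsLocalRing.maximalIdeal R ^ k) ∧ (∀ i, g i ∈ IsLocalRing.maximalIdeal R) ∧
      IsLocalRing.maximalIdeal R ≤ (Ideal.span (insert f (Set.range g))).radical := by
  classical
  haveI : Nontrivial (R ⧸ Ideal.span {f}) := Ideal.Quotient.nontrivial_iff.mpr (ne_top_of_le_ne_top (IsLocalRing.maximalIdeal.isMaximal R).ne_top ((Ideal.span_singleton_le_iff_mem _).mpr hf))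
  haveI : IsLocalRing (R ⧸ Ideal.span {f}) := .of_surjective' (Ideal.Quotient.mk _) Ideal.Quotient.mk_surjective
  have hlt : ringKrullDim (R ⧸ Ideal.span {f}) + 1 ≤ ringKrullDim R := by
    have : Nonempty (PrimeSpectrum.zeroLocus (R := R) (Ideal.span {f} : Ideal R)) := ⟨⟨⟨IsLocalRing.maximalIdeal R, inferInstance⟩, (Ideal.span_singleton_le_iff_mem _).mpr hf⟩⟩
    rw [ringKrullDim_quotient, Order.krullDim_eq_iSup_length, ringKrullDim,
      Order.krullDim_eq_iSup_length, ← WithBot.coe_one, ← WithBot.coe_add,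
      ENat.iSup_add, WithBot.coe_le_coe, iSup_le_iff]
    intro l
    obtain ⟨p, hp, hp'⟩ := Ideal.exists_minimalPrimes_le (J := l.head.1.asIdeal) bot_le
    let p' : PrimeSpectrum R := ⟨p, hp.1.1⟩
    have hp'' : p' < l.head := lt_of_le_of_ne hp' fun h ↦ hmin p hp (show f ∈ p by simpa [← h] using l.head.2)
    refine le_trans ?_ (le_iSup _ ((l.map Subtype.val (fun _ _ ↦ id)).cons p' hp''))
    simp
  obtain ⟨n, hn⟩ : ∃ n : ℕ, ringKrullDim (R ⧸ Ideal.span {f}) = n := by
    have h0 := ringKrullDim_ne_bot (R := R ⧸ Ideal.span {f}) 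
    have h2 := ringKrullDim_ne_top (R := R ⧸ Ideal.span {f})
    obtain ⟨m, hm⟩ := WithBot.ne_bot_iff_exists.mp h0
    obtain ⟨n, hn⟩ := ENat.ne_top_iff_exists.mp (show m ≠ ⊤ by rintro rfl; exact h2 hm.symm)
    exact ⟨n, by rw [← hm, ← hn]; rfl⟩
  have hnd : n ≤ d - 1 := by
    rw [hn, hd] at hlt
    have : ((n + 1 : ℕ) : WithBot ℕ∞) ≤ (d : ℕ) := by push_cast; exact hlt
    have : n + 1 ≤ d := by exact_mod_cast this
    omega
  obtain ⟨a, ha⟩ := SerreReg.exists_sop (R ⧸ Ideal.span {f}) n hn
  choose b hb using fun i => Ideal.Quotient.mk_surjective (a i)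
  have hbm : ∀ i, b i ∈ IsLocalRing.maximalIdeal R := fun i => by
    rw [IsLocalRing.mem_maximalIdeal, mem_nonunits_iff]
    intro hu
    exact (IsLocalRing.mem_maximalIdeal _).mp (ha.mem i) (hb i ▸ hu.map (Ideal.Quotient.mk _))
  let g : Fin (d - 1) → R := fun i => if h : (i : ℕ) < n then b ⟨i, h⟩ ^ (k + 1) else 0
  refine ⟨g, fun i => ?_, fun i => ?_, fun x hx => ?_⟩
  · simp only [g]
    split_ifs with h
    · exact Ideal.pow_le_pow_right (Nat.le_succ k) (Ideal.pow_mem_pow (hbm _) _)
    · exact zero_mem _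
  · simp only [g]
    split_ifs with h
    · exact Ideal.pow_mem_of_mem _ (hbm _) _ k.succ_pos
    · exact zero_mem _
  · have h1 : Ideal.Quotient.mk (Ideal.span {f}) x ∈ (Ideal.span (Set.range a)).radical := by
      rw [show (Ideal.span (Set.range a)).radical = _ from ha, IsLocalRing.mem_maximalIdeal, mem_nonunits_iff]
      intro hu
      haveI : IsLocalHom (Ideal.Quotient.mk (Ideal.span {f})) := IsLocalHom.of_surjective _ Ideal.Quotient.mk_surjective
      exact (IsLocalRing.mem_maximalIdeal _).mp hx (isUnit_of_map_unit (Ideal.Quotient.mk (Ideal.span {f})) x hu)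
    obtain ⟨N, hN⟩ := h1
    rw [← map_pow, show Set.range a = Ideal.Quotient.mk (Ideal.span {f}) '' Set.range b by rw [← Set.range_comp]; exact congrArg _ (funext fun i => (hb i).symm),
      ← Ideal.map_span, Ideal.mem_quotient_iff_mem_sup] at hN
    rw [← Ideal.radical_idem (Ideal.span (insert f (Set.range g)))]
    refine ⟨N, ?_⟩
    suffices h : Ideal.span (Set.range b) ⊔ Ideal.span {f} ≤ (Ideal.span (insert f (Set.range g))).radical from h hN
    refine sup_le (Ideal.span_le.mpr ?_) (Ideal.span_le.mpr ?_)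
    · rintro _ ⟨i, rfl⟩
      refine ⟨k + 1, Ideal.subset_span (Set.mem_insert_of_mem _ ⟨⟨i, by omega⟩, ?_⟩)⟩
      simp [g]
    · rintro _ rfl
      exact Ideal.le_radical (Ideal.subset_span (Set.mem_insert _ _))

end Groth.Agent.S7115
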