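import Groth.Statements.S7116
import Groth.Agent.SerreReg.CM

set_option autoImplicit false
universe u
open CAlg

namespace Groth.Agent.S7116

/-- Let R be a Noetherian local ring of Krull dimension d with maximal ideal m and let f be an element
of m contained in no minimal prime. Then there are g_1, ..., g_{d-1} in m and a natural number N
such that f, g_1, ..., g_{d-1} is a system of parameters (these d elements of m generate an ideal
with radical m) and, for every h in m^N, the elements f + h, g_1, ..., g_{d-1} again form a system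
of parameters and the lengths of R/(f, g_1, ..., g_{d-1}) and R/(f + h, g_1, ..., g_{d-1}) agree. -/
theorem result (R : Type u) [CommRing R] [IsNoetherianRing R] [IsLocalRing R]
    (d : ℕ) (hd : ringKrullDim R = d) (f : R) (hf : f ∈ IsLocalRing.maximalIdeal R)
    (hmin : ∀ p ∈ minimalPrimes R, f ∉ p) :
    ∃ (g : Fin (d - 1) → R) (N : ℕ), (∀ i, g i ∈ IsLocalRing.maximalIdeal R) ∧
      IsLocalRing.maximalIdeal R ≤ (Ideal.span (insert f (Set.range g))).radical ∧
      ∀ h ∈ IsLocalRing.maximalIdeal R ^ N,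
        IsLocalRing.maximalIdeal R ≤ (Ideal.span (insert (f + h) (Set.range g))).radical ∧
        Module.length R (R ⧸ Ideal.span (insert f (Set.range g))) =
          Module.length R (R ⧸ Ideal.span (insert (f + h) (Set.range g))) := by
  have key : ∃ g : Fin (d - 1) → R, (∀ i, g i ∈ IsLocalRing.maximalIdeal R ^ 0) ∧ (∀ i, g i ∈ IsLocalRing.maximalIdeal R) ∧
      IsLocalRing.maximalIdeal R ≤ (Ideal.span (insert f (Set.range g))).radical := by
    classical
    haveI : Nontrivial (R ⧸ Ideal.span {f}) := Ideal.Quotient.nontrivial_iff.mpr (ne_top_of_le_ne_top (IsLocalRing.maximalIdeal.isMaximal R).ne_top ((Ideal.span_singleton_le_iff_mem _).mpr hf))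
    haveI : IsLocalRing (R ⧸ Ideal.span {f}) := .of_surjective' (Ideal.Quotient.mk _) Ideal.Quotient.mk_surjective
    have hlt : ringKrullDim (R ⧸ Ideal.span {f}) + 1 ≤ ringKrullDim R := by
      have : Nonempty (PrimeSpectrum.zeroLocus (R := R) (Ideal.span {f} : Ideal R)) := ⟨⟨⟨IsLocalRing.maximalIdeal R, inferInstance⟩, (Ideal.span_singleton_le_iff_mem _).mpr hf⟩⟩
      rw [ringKrullDim_quotient, Order.krullDim_eq_iSup_length, ringKrullDim,
        Order.krullDim_eq_iSup_length, ← WithBot.coe_one, ← WithBot.coe_add,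
        ENat.iSup_add, WithBot.coe_le_coe, iSup_le_iff]
      intro l
      obtain ⟨p, hp, hp'⟩ := Ideal.exists_minimalPrimes_le (J := l.head.1.asIdeal) bot_le
      let p' : PrimeSpectrum R := ⟨p, hp.1.1⟩
      have hp'' : p' < l.head := lt_of_le_of_ne hp' fun h ↦ hmin p hp (show f ∈ p by simpa [← h] using l.head.2)
      refine le_trans ?_ (le_iSup _ ((l.map Subtype.val (fun _ _ ↦ id)).cons p' hp''))
      simp
    obtain ⟨n, hn⟩ : ∃ n : ℕ, ringKrullDim (R ⧸ Ideal.span {f}) = n := by
      have h0 := ringKrullDim_ne_bot (R := R ⧸ Ideal.span {f}) 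
      have h2 := ringKrullDim_ne_top (R := R ⧸ Ideal.span {f})
      obtain ⟨m, hm⟩ := WithBot.ne_bot_iff_exists.mp h0
      obtain ⟨n, hn⟩ := ENat.ne_top_iff_exists.mp (show m ≠ ⊤ by rintro rfl; exact h2 hm.symm)
      exact ⟨n, by rw [← hm, ← hn]; rfl⟩
    have hnd : n ≤ d - 1 := by
      rw [hn, hd] at hlt
      have : ((n + 1 : ℕ) : WithBot ℕ∞) ≤ (d : ℕ) := by push_cast; exact hlt
      have : n + 1 ≤ d := by exact_mod_cast this
      omega
    obtain ⟨a, ha⟩ := SerreReg.exists_sop (R ⧸ Ideal.span {f}) n hn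
    choose b hb using fun i => Ideal.Quotient.mk_surjective (a i)
    have hbm : ∀ i, b i ∈ IsLocalRing.maximalIdeal R := fun i => by
      rw [IsLocalRing.mem_maximalIdeal, mem_nonunits_iff]
      intro hu
      exact (IsLocalRing.mem_maximalIdeal _).mp (ha.mem i) (hb i ▸ hu.map (Ideal.Quotient.mk _))
    let g : Fin (d - 1) → R := fun i => if h : (i : ℕ) < n then b ⟨i, h⟩ ^ (0 + 1) else 0
    refine ⟨g, fun i => ?_, fun i => ?_, fun x hx => ?_⟩
    · simp only [g]
      split_ifs with h
      · exact Ideal.pow_le_pow_right (Nat.le_succ 0) (Ideal.pow_mem_pow (hbm _) _)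
      · exact zero_mem _
    · simp only [g]
      split_ifs with h
      · exact Ideal.pow_mem_of_mem _ (hbm _) _ Nat.one_pos
      · exact zero_mem _
    · have h1 : Ideal.Quotient.mk (Ideal.span {f}) x ∈ (Ideal.span (Set.range a)).radical := by
        rw [show (Ideal.span (Set.range a)).radical = _ from ha, IsLocalRing.mem_maximalIdeal, mem_nonunits_iff]
        intro hu
        haveI : IsLocalHom (Ideal.Quotient.mk (Ideal.span {f})) := IsLocalHom.of_surjective _ Ideal.Quotient.mk_surjective
        exact (IsLocalRing.mem_maximalIdeal _).mp hx (isUnit_of_map_unit (Ideal.Quotient.mk (Ideal.span {f})) x hu)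
      obtain ⟨N, hN⟩ := h1
      rw [← map_pow, show Set.range a = Ideal.Quotient.mk (Ideal.span {f}) '' Set.range b by rw [← Set.range_comp]; exact congrArg _ (funext fun i => (hb i).symm),
        ← Ideal.map_span, Ideal.mem_quotient_iff_mem_sup] at hN
      rw [← Ideal.radical_idem (Ideal.span (insert f (Set.range g)))]
      refine ⟨N, ?_⟩
      suffices h : Ideal.span (Set.range b) ⊔ Ideal.span {f} ≤ (Ideal.span (insert f (Set.range g))).radical from h hN
      refine sup_le (Ideal.span_le.mpr ?_) (Ideal.span_le.mpr ?_)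
      · rintro _ ⟨i, rfl⟩
        refine ⟨0 + 1, Ideal.subset_span (Set.mem_insert_of_mem _ ⟨⟨i, by omega⟩, ?_⟩)⟩
        simp [g]
      · rintro _ rfl
        exact Ideal.le_radical (Ideal.subset_span (Set.mem_insert _ _))
  obtain ⟨g, -, hg, hrad⟩ := key
  let J := Ideal.span (insert f (Set.range g))
  obtain ⟨c, hc⟩ := Ideal.exists_pow_le_of_le_radical_of_fg hrad (IsNoetherian.noetherian _)
  refine ⟨g, c + 1, hg, hrad, fun h hh => ?_⟩
  have hh' : h ∈ IsLocalRing.maximalIdeal R * J := by
    rw [pow_succ'] at hh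
    exact Ideal.mul_mono_right hc hh
  have hJ : h ∈ J := Ideal.mul_le_right hh'
  let J' : Ideal R := Ideal.span (insert (f + h) (Set.range g))
  have hfh : f + h ∈ J' := Ideal.subset_span (Set.mem_insert _ _)
  have hgJ : ∀ x ∈ Set.range g, x ∈ J' := fun x hx => Ideal.subset_span (Set.mem_insert_of_mem _ hx)
  have hfJ : f ∈ J := Ideal.subset_span (Set.mem_insert _ _)
  have he : Ideal.span (insert (f + h) (Set.range g)) = J := by
    refine le_antisymm (Ideal.span_le.2 (Set.insert_subset (add_mem hfJ hJ) fun x hx =>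
      Ideal.subset_span (Set.mem_insert_of_mem _ hx))) ?_
    refine Submodule.le_of_le_smul_of_le_jacobson_bot (I := IsLocalRing.maximalIdeal R) (N := J') (N' := J)
      (IsNoetherian.noetherian _) (IsLocalRing.maximalIdeal_le_jacobson _) ?_
    rw [smul_eq_mul]
    refine Ideal.span_le.2 (Set.insert_subset ?_ fun x hx => Submodule.mem_sup_left (hgJ x hx))
    have h2 : f + h + -h ∈ J' ⊔ IsLocalRing.maximalIdeal R * J := Submodule.add_mem_sup hfh (neg_mem hh')
    rwa [add_neg_cancel_right] at h2
  rw [he]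
  exact ⟨hrad, rfl⟩

end Groth.Agent.S7116
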