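import Groth.Statements.S7117
import Groth.Agent.SopLen.Basic

set_option autoImplicit false
universe u
open CAlg

namespace Groth.Agent.S7117

/-- Let R be a Noetherian local ring of Krull dimension d with maximal ideal m, and suppose g_1, ...,
g_d in m form a system of parameters (they generate an ideal with radical m). Then the number of
minimal prime ideals p of R with R/p of Krull dimension d is at most the length of R/(g_1, ...,
g_d). -/
theorem result (R : Type u) [CommRing R] [IsNoetherianRing R] [IsLocalRing R]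
    (d : ℕ) (hd : ringKrullDim R = d) (g : Fin d → R) (hg : ∀ i, g i ∈ IsLocalRing.maximalIdeal R)
    (hsop : IsLocalRing.maximalIdeal R ≤ (Ideal.span (Set.range g)).radical) :
    (Set.ncard {p : Ideal R | p ∈ minimalPrimes R ∧ ringKrullDim (R ⧸ p) = d} : ℕ∞) ≤
      Module.length R (R ⧸ Ideal.span (Set.range g)) := by
  classical
  have hfin : {p : Ideal R | p ∈ minimalPrimes R ∧ ringKrullDim (R ⧸ p) = d}.Finite :=
    (minimalPrimes.finite_of_isNoetherianRing R).subset fun p hp => hp.1
  let T := hfin.toFinset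
  have hT : ∀ p ∈ T, p.IsPrime := fun p hp => ((hfin.mem_toFinset.1 hp).1).1.1
  let S : Finset (PrimeSpectrum R) := T.attach.image fun p => ⟨p.1, hT p.1 p.2⟩
  have hS : ∀ q ∈ S, (⊥ : Ideal R) ≤ q.asIdeal ∧ Order.coheight q = (d : ℕ∞) := fun q hq => by
    obtain ⟨⟨p, hp⟩, -, rfl⟩ := Finset.mem_image.1 hq
    refine ⟨bot_le, ?_⟩
    have h := Groth.Agent.SopLen.coheight_eq (R := R) ⟨p, hT p hp⟩
    rw [(hfin.mem_toFinset.1 hp).2] at h
    exact_mod_cast h
  have h := Groth.Agent.SopLen.sum_lenAt_le_length d ⊥ g hg (by rw [bot_sup_eq]; exact hsop) S hS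
  rw [bot_sup_eq] at h
  refine le_trans ?_ h
  rw [Set.ncard_eq_toFinset_card _ hfin,
    show hfin.toFinset.card = S.card by
      rw [Finset.card_image_of_injective _ fun a b hab => Subtype.ext (congrArg PrimeSpectrum.asIdeal hab),
        Finset.card_attach],
    Finset.card_eq_sum_ones, Nat.cast_sum]
  refine Finset.sum_le_sum fun q _ => ?_
  rw [Nat.cast_one, Order.one_le_iff_pos, pos_iff_ne_zero]
  intro h0
  obtain ⟨s, hs, hs0⟩ := (Groth.Agent.SopLen.lenAt_eq_zero_iff q _).1 h0 (Submodule.Quotient.mk 1)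
  rw [← Submodule.Quotient.mk_smul, Submodule.Quotient.mk_eq_zero, Submodule.mem_bot, smul_eq_mul, mul_one] at hs0
  exact hs (hs0 ▸ q.asIdeal.zero_mem)

end Groth.Agent.S7117
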