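import Groth.Statements.S7118
import Groth.Agent.ReducedHyp.Basic

set_option autoImplicit false
universe u
open CAlg

namespace Groth.Agent.S7118

/-- Let A be a Noetherian normal local domain of Krull dimension 2 and a a nonzero element of the
maximal ideal. Then there is a nonzero element c of A such that A/cA is reduced and a divides some
power cⁿ. (The published statement does not require c to be nonzero and is then satisfied by c = 0;
this row requires c ≠ 0.) -/
theorem result (A : Type u) [CommRing A] [IsDomain A] [IsNoetherianRing A]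
    [IsLocalRing A] [IsIntegrallyClosed A] (hdim : ringKrullDim A = 2) (a : A)
    (ha : a ∈ IsLocalRing.maximalIdeal A) (ha0 : a ≠ 0) :
    ∃ c : A, c ≠ 0 ∧ IsReduced (A ⧸ Ideal.span {c}) ∧ ∃ n : ℕ, a ∣ c ^ n := by
  classical
  obtain ⟨c, hc0, hcP, hred⟩ := ReducedHyp.exists_reduced hdim
    (Ideal.finite_minimalPrimes_of_isNoetherianRing A (Ideal.span {a})).toFinset (fun p hp => by
      rw [Set.Finite.mem_toFinset] at hp
      refine ⟨hp.1.1, le_antisymm (Ideal.height_le_one_of_isPrincipal_of_mem_minimalPrimes _ p hp) ?_⟩
      rw [Order.one_le_iff_ne_zero]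
      intro h
      haveI := hp.1.1
      rw [Ideal.height_eq_zero_iff, IsDomain.minimalPrimes_eq_singleton_bot, Set.mem_singleton_iff] at h
      have := hp.1.2 (Ideal.mem_span_singleton_self a)
      rw [h, Submodule.mem_bot] at this
      exact ha0 this)
  refine ⟨c, hc0, hred, ?_⟩
  have hrad : c ∈ (Ideal.span {a}).radical := by
    rw [← Ideal.sInf_minimalPrimes, Submodule.mem_sInf]
    exact fun p hp => hcP p ((Set.Finite.mem_toFinset _).2 hp)
  obtain ⟨n, hn⟩ := hrad
  exact ⟨n, Ideal.mem_span_singleton.1 hn⟩

end Groth.Agent.S7118
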