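import Groth.Statements.S7120
import Mathlib.RingTheory.Bezout
import Mathlib.LinearAlgebra.Basis.Prod
import Mathlib.LinearAlgebra.FreeModule.Finite.Basic
import Mathlib.LinearAlgebra.Basis.VectorSpace
import Mathlib.LinearAlgebra.Dimension.Free
import Mathlib.Algebra.Module.Projective

set_option autoImplicit false
universe u
open CAlg

namespace Groth.Agent.S7120

/-- Over a Bézout domain, a finitely generated submodule of a free module is itself free of finite rank. -/
theorem result (R : Type u) [CommRing R] [IsDomain R] [IsBezout R]
    (F : Type u) [AddCommGroup F] [Module R F] [Module.Free R F] (N : Submodule R F) (hN : N.FG) :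
    Module.Free R N ∧ Module.Finite R N := by
  classical
  have key : ∀ (n : ℕ) (P : Submodule R (Fin n → R)), P.FG → Module.Free R P := by
    intro n
    induction n with
    | zero =>
      intro P _
      haveI : Subsingleton P := inferInstance
      infer_instance
    | succ n ih =>
      intro P hP
      let π : P →ₗ[R] R := (LinearMap.proj (Fin.last n)).comp P.subtype
      have hJ : (LinearMap.range π).FG := by
        rw [LinearMap.range_comp, Submodule.range_subtype]
        exact hP.map _
      obtain ⟨a, ha⟩ := (IsBezout.isPrincipal_of_FG (LinearMap.range π) hJ).principal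
      let rest : (Fin (n + 1) → R) →ₗ[R] (Fin n → R) := LinearMap.funLeft R R Fin.castSucc
      have hpinj : ∀ x : P, π x = 0 → rest x.1 = 0 → x = 0 := by
        intro x h1 h2
        apply Subtype.ext
        funext i
        refine Fin.lastCases h1 (fun j => ?_) i
        exact congrFun h2 j
      haveI : Module.Finite R P := Module.Finite.iff_fg.2 hP
      by_cases ha0 : a = 0
      · have h0 : ∀ x : P, π x = 0 := by
          intro x
          have : π x ∈ LinearMap.range π := ⟨x, rfl⟩
          rw [ha, ha0, Submodule.span_singleton_eq_bot.2 rfl, Submodule.mem_bot] at this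
          exact this
        let f : P →ₗ[R] (Fin n → R) := rest.comp P.subtype
        have hf : Function.Injective f := (injective_iff_map_eq_zero f).2 fun x hx => hpinj x (h0 x) hx
        haveI := ih (LinearMap.range f) ((Module.Finite.iff_fg).1 (Module.Finite.range f))
        exact Module.Free.of_equiv (LinearEquiv.ofInjective f hf).symm
      · obtain ⟨p, hp⟩ : a ∈ LinearMap.range π := by rw [ha]; exact Submodule.mem_span_singleton_self a
        have hc : ∀ x : P, ∃ c : R, π x = c * a := by
          intro x
          have : π x ∈ LinearMap.range π := ⟨x, rfl⟩
          rw [ha, Submodule.mem_span_singleton] at this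
          obtain ⟨c, hc⟩ := this
          exact ⟨c, by rw [← hc, smul_eq_mul]⟩
        choose c hc using hc
        let C : P →ₗ[R] R :=
          { toFun := c
            map_add' := fun x y => mul_right_cancel₀ ha0 (by rw [← hc, map_add, hc, hc, add_mul])
            map_smul' := fun r x => mul_right_cancel₀ ha0 (by
              rw [← hc, map_smul, hc, RingHom.id_apply, smul_eq_mul, smul_eq_mul, mul_assoc]) }
        let f : P →ₗ[R] (Fin n → R) := (rest.comp P.subtype).comp (LinearMap.id - C.smulRight p)
        have hCp : C p = 1 := mul_right_cancel₀ ha0 (by rw [one_mul]; exact (hc p).symm.trans hp)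
        let F : P →ₗ[R] R × LinearMap.range f := C.prod f.rangeRestrict
        have hF : Function.Bijective F := by
          constructor
          · refine (injective_iff_map_eq_zero F).2 fun x hx => ?_
            have h1 : C x = 0 := congrArg Prod.fst hx
            have h2 : f x = 0 := congrArg Subtype.val (congrArg Prod.snd hx)
            refine hpinj x ?_ ?_
            · have : c x = 0 := h1
              rw [hc, this, zero_mul]
            · simpa [f, h1] using! h2
          · rintro ⟨t, ⟨_, y, rfl⟩⟩
            refine ⟨t • p + (y - C y • p), Prod.ext ?_ (Subtype.ext ?_)⟩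
            · change C (t • p + (y - C y • p)) = t
              simp [hCp]
            · change f (t • p + (y - C y • p)) = f y
              have hfp : f p = 0 := by simp [f, hCp]
              simp [hfp]
        haveI := ih (LinearMap.range f) ((Module.Finite.iff_fg).1 (Module.Finite.range f))
        exact Module.Free.of_equiv (LinearEquiv.ofBijective F hF).symm
  haveI : Module.Finite R N := Module.Finite.iff_fg.2 hN
  refine ⟨?_, inferInstance⟩
  obtain ⟨s, hs⟩ := hN
  let b := Module.Free.chooseBasis R F
  let T : Finset (Module.Free.ChooseBasisIndex R F) := s.biUnion fun x => (b.repr x).support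
  let e := (Finset.equivFin T).symm
  let g : F →ₗ[R] (Fin T.card → R) := LinearMap.pi fun i => b.coord (e i).1
  have hg : ∀ x ∈ N, g x = 0 → x = 0 := by
    intro x hx hgx
    have hsupp : ∀ y ∈ N, ∀ j ∉ T, b.coord j y = 0 := by
      intro y hy j hj
      rw [← hs] at hy
      refine Submodule.span_induction (p := fun y _ => b.coord j y = 0) (fun z hz => ?_) (map_zero _)
        (fun u v _ _ hu hv => by rw [map_add, hu, hv, add_zero])
        (fun r u _ hu => by rw [map_smul, hu, smul_zero]) hy
      by_contra hc
      exact hj (Finset.mem_biUnion.2 ⟨z, hz, Finsupp.mem_support_iff.2 hc⟩)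
    apply b.repr.injective
    rw [map_zero]
    ext j
    by_cases hj : j ∈ T
    · have := congrFun hgx (e.symm ⟨j, hj⟩)
      simpa [g] using this
    · exact hsupp x hx j hj
  let gN : N →ₗ[R] (Fin T.card → R) := g.comp N.subtype
  have hgN : Function.Injective gN := (injective_iff_map_eq_zero gN).2 fun x hx => Subtype.ext (hg x.1 x.2 hx)
  haveI := key _ (LinearMap.range gN) ((Module.Finite.iff_fg).1 (Module.Finite.range gN))
  exact Module.Free.of_equiv (LinearEquiv.ofInjective gN hgN).symm

end Groth.Agent.S7120
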