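import Groth.Statements.S7121
import Groth.Agent.S7120
import Groth.Agent.BezoutFP.Smith
import Mathlib.Algebra.Module.Torsion.Basic
import Mathlib.LinearAlgebra.LinearIndependent.Lemmas
import Mathlib.LinearAlgebra.FreeModule.PID
import Mathlib.LinearAlgebra.Dimension.Free

set_option autoImplicit false
universe u
open CAlg

namespace Groth.Agent.S7121

/-- Over a Bézout domain R, a finitely presented module M splits as R^r ⊕ M_tors for some r, and its
torsion part M_tors is a retract (direct summand) of R/f_1R ⊕ … ⊕ R/f_nR for some nonzero f_1, …,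
f_n. -/
theorem result (R : Type u) [CommRing R] [IsDomain R] [IsBezout R]
    (M : Type u) [AddCommGroup M] [Module R M] [Module.FinitePresentation R M] :
    (∃ r : ℕ, Nonempty (M ≃ₗ[R] ((Fin r → R) × Submodule.torsion R M))) ∧
      ∃ (n : ℕ) (f : Fin n → R), (∀ j, f j ≠ 0) ∧
        ∃ (i : Submodule.torsion R M →ₗ[R] ((j : Fin n) → R ⧸ Ideal.span {f j}))
          (p : ((j : Fin n) → R ⧸ Ideal.span {f j}) →ₗ[R] Submodule.torsion R M),
          p ∘ₗ i = LinearMap.id := by
  classical
  obtain ⟨n, g, hg⟩ := Module.Finite.exists_fin (R := R) (M := M)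
  set T := Submodule.torsion R M
  let N := M ⧸ T
  let v : Fin n → N := fun i => Submodule.Quotient.mk (g i)
  have hv : Submodule.span R (Set.range v) = ⊤ := by
    have h1 : Set.range v = T.mkQ '' (Set.range g) := (Set.range_comp T.mkQ g).symm ▸ rfl
    rw [h1, ← Submodule.map_span, hg, Submodule.map_top, Submodule.range_mkQ]
  haveI : Module.IsTorsionFree R N := Submodule.QuotientTorsion.instIsTorsionFree
  obtain ⟨s, hs, hmax⟩ := exists_maximal_linearIndepOn R v
  have hfree : Module.Free R N := by
    let F := Submodule.span R (Set.range fun i : s => v i)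
    haveI : Module.Free R F := Module.Free.of_basis (Module.Basis.span hs)
    have hex : ∀ i, ∃ a : R, a ≠ 0 ∧ a • v i ∈ F := by
      intro i
      by_cases hi : i ∈ s
      · exact ⟨1, one_ne_zero, by rw [one_smul]; exact Submodule.subset_span ⟨⟨i, hi⟩, rfl⟩⟩
      · obtain ⟨a, ha, hav⟩ := hmax i hi
        exact ⟨a, ha, by simpa [F, Set.image_eq_range] using! hav⟩
    choose a ha hav using hex
    let A : R := ∏ i, a i
    have hA : A ≠ 0 := Finset.prod_ne_zero_iff.2 fun i _ => ha i
    have hrange : ∀ z : N, A • z ∈ F := by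
      intro z
      have hz : z ∈ Submodule.span R (Set.range v) := hv ▸ Submodule.mem_top
      induction hz using Submodule.span_induction with
      | mem y hy =>
        obtain ⟨i, rfl⟩ := hy
        obtain ⟨c, hc⟩ : a i ∣ A := Finset.dvd_prod_of_mem a (Finset.mem_univ i)
        rw [hc, mul_comm, mul_smul]
        exact F.smul_mem c (hav i)
      | zero => simp
      | add y y' _ _ hy hy' => rw [smul_add]; exact F.add_mem hy hy'
      | smul c y _ hy => rw [smul_comm]; exact F.smul_mem c hy
    let μ : N →ₗ[R] F := (A • LinearMap.id).codRestrict F hrange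
    have hμ : Function.Injective μ := (injective_iff_map_eq_zero μ).2 fun z hz => by
      have : A • z = 0 := congrArg Subtype.val hz
      exact (smul_eq_zero.1 this).resolve_left hA
    haveI : Module.Finite R N := inferInstanceAs (Module.Finite R (M ⧸ T))
    haveI := (Groth.Agent.S7120.result R F (LinearMap.range μ)
      (Module.Finite.iff_fg.1 (Module.Finite.range μ))).1
    exact Module.Free.of_equiv (LinearEquiv.ofInjective μ hμ).symm
  haveI : Module.Free R (M ⧸ T) := hfree
  obtain ⟨sec, hsec⟩ := Module.projective_lifting_property T.mkQ LinearMap.id T.mkQ_surjective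
  have hsec' : ∀ y, T.mkQ (sec y) = y := fun y => LinearMap.congr_fun hsec y
  let π' : M →ₗ[R] T := (LinearMap.id - sec ∘ₗ T.mkQ).codRestrict T fun m => by
    refine (Submodule.Quotient.mk_eq_zero T).1 ?_
    change T.mkQ _ = 0
    simp only [LinearMap.sub_apply, LinearMap.id_apply, LinearMap.comp_apply, map_sub, hsec']
    exact sub_self _
  have hπT : ∀ t : T, π' t = t := fun t => by
    apply Subtype.ext
    have : T.mkQ (t : M) = 0 := (Submodule.Quotient.mk_eq_zero T).2 t.2
    change (t : M) - sec (T.mkQ (t : M)) = t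
    rw [this, map_zero, sub_zero]
  constructor
  · refine ⟨Module.finrank R (M ⧸ T), ⟨LinearEquiv.ofBijective
      (((Module.finBasis R (M ⧸ T)).equivFun.toLinearMap ∘ₗ T.mkQ).prod π') ⟨?_, ?_⟩⟩⟩
    · refine (injective_iff_map_eq_zero _).2 fun m hm => ?_
      have h1 : T.mkQ m = 0 := (Module.finBasis R (M ⧸ T)).equivFun.map_eq_zero_iff.1 (congrArg Prod.fst hm)
      have h2 : m - sec (T.mkQ m) = 0 := congrArg Subtype.val (congrArg Prod.snd hm)
      rwa [h1, map_zero, sub_zero] at h2
    · rintro ⟨c, t⟩
      refine ⟨sec ((Module.finBasis R (M ⧸ T)).equivFun.symm c) + t, Prod.ext ?_ (Subtype.ext ?_)⟩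
      · have : T.mkQ (t : M) = 0 := (Submodule.Quotient.mk_eq_zero T).2 t.2
        change (Module.finBasis R (M ⧸ T)).equivFun (T.mkQ _) = c
        rw [map_add, hsec', this, add_zero, LinearEquiv.apply_symm_apply]
      · have : T.mkQ (t : M) = 0 := (Submodule.Quotient.mk_eq_zero T).2 t.2
        change sec _ + (t : M) - sec (T.mkQ _) = t
        rw [map_add T.mkQ, hsec', this, add_zero]
        abel
  have hker : (LinearMap.ker π').FG := by
    have : LinearMap.ker π' = LinearMap.range sec := by
      ext m
      rw [LinearMap.mem_ker, Subtype.ext_iff]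
      change m - sec (T.mkQ m) = 0 ↔ _
      refine ⟨fun h => ⟨T.mkQ m, (sub_eq_zero.1 h).symm⟩, ?_⟩
      rintro ⟨y, rfl⟩
      rw [hsec', sub_self]
    rw [this]
    exact Module.Finite.iff_fg.1 (Module.Finite.range sec)
  haveI : Module.FinitePresentation R T :=
    Module.finitePresentation_of_surjective π' (fun t => ⟨t, hπT t⟩) hker
  have htors : ∀ x : T, ∃ a : R, a ≠ 0 ∧ a • x = 0 := fun x => by
    obtain ⟨⟨a, ha⟩, hax⟩ := (Submodule.mem_torsion_iff x.1).1 x.2
    exact ⟨a, nonZeroDivisors.ne_zero ha, Subtype.ext hax⟩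
  obtain ⟨k, c, φ, hφ⟩ := Submodule.mem_span_set'.1
    (Groth.Agent.BezoutFP.id_mem_span_cyclicFactor T htors)
  choose f hf i p hip using fun j => (φ j).2
  refine ⟨k, f, hf, LinearMap.pi fun j => c j • i j, ∑ j, p j ∘ₗ LinearMap.proj j, ?_⟩
  rw [← hφ]
  refine LinearMap.ext fun x => ?_
  simp only [LinearMap.comp_apply, LinearMap.sum_apply, LinearMap.proj_apply, LinearMap.pi_apply,
    LinearMap.smul_apply]
  refine Finset.sum_congr rfl fun j _ => ?_
  rw [hip j, LinearMap.comp_apply, map_smul]

end Groth.Agent.S7121
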