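import Groth.Statements.S7122
import Mathlib.LinearAlgebra.Matrix.ToLinearEquiv
import Mathlib.LinearAlgebra.Dimension.Constructions
import Mathlib.LinearAlgebra.Dimension.Finite
import Mathlib.LinearAlgebra.InvariantBasisNumber
import Mathlib.LinearAlgebra.Charpoly.Basic
import Mathlib.LinearAlgebra.Determinant
import Groth.Agent.S7120

set_option autoImplicit false
universe u
open CAlg

namespace Groth.Agent.S7122

/-- Let R be a Bézout domain, n ≥ 1, and f_1, ..., f_n elements generating the unit ideal. Then some
invertible n × n matrix over R has (f_1, ..., f_n) as its first row. -/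
theorem result (R : Type u) [CommRing R] [IsDomain R] [IsBezout R]
    (n : ℕ) (f : Fin (n + 1) → R) (hf : Ideal.span (Set.range f) = ⊤) :
    ∃ A : Matrix (Fin (n + 1)) (Fin (n + 1)) R, IsUnit A.det ∧ A 0 = f := by
  classical
  let φ : (Fin (n + 1) → R) →ₗ[R] R := Fintype.linearCombination R f
  obtain ⟨c, hc⟩ : ∃ c, φ c = 1 := by
    have : (1 : R) ∈ LinearMap.range φ := by
      rw [Fintype.range_linearCombination]
      have h : Submodule.span R (Set.range f) = ⊤ := hf
      rw [h]; exact Submodule.mem_top
    exact this
  let K := LinearMap.ker φ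
  let p : (Fin (n + 1) → R) →ₗ[R] K := LinearMap.codRestrict K (LinearMap.id - φ.smulRight c) fun x => by
    simp [K, hc]
  have hp : ∀ k : K, p k = k := fun k => Subtype.ext (by simp [p, show φ k.1 = 0 from k.2])
  have hKfg : K.FG := by
    have hr : LinearMap.range p = ⊤ := LinearMap.range_eq_top.2 fun k => ⟨k, hp k⟩
    haveI : Module.Finite R K := Module.Finite.of_surjective p (LinearMap.range_eq_top.1 hr)
    exact Module.Finite.iff_fg.1 inferInstance
  obtain ⟨hfree, hfin⟩ := Groth.Agent.S7120.result R (Fin (n + 1) → R) K hKfg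
  let E : (Fin (n + 1) → R) →ₗ[R] R × K := φ.prod p
  have hE : Function.Bijective E := by
    constructor
    · refine (injective_iff_map_eq_zero E).2 fun x hx => ?_
      have h1 : φ x = 0 := congrArg Prod.fst hx
      have h2 : p x = 0 := congrArg Prod.snd hx
      have := congrArg Subtype.val h2
      simpa [p, h1] using this
    · rintro ⟨t, k⟩
      refine ⟨t • c + k, Prod.ext ?_ ?_⟩
      · change φ (t • c + k.1) = t
        simp [hc, show φ k.1 = 0 from k.2]
      · change p (t • c + k.1) = k
        have : p c = 0 := Subtype.ext (by simp [p, hc])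
        simp [this, hp k]
  let E' := LinearEquiv.ofBijective E hE
  have hrk : Module.finrank R K = n := by
    have h := E'.finrank_eq
    rw [Module.finrank_pi, Fintype.card_fin, Module.finrank_prod, Module.finrank_self] at h
    omega
  let bK := Module.finBasisOfFinrankEq R K hrk
  let G : (R × K) ≃ₗ[R] (Fin (n + 1) → R) :=
    (LinearEquiv.prodCongr (LinearEquiv.refl R R) bK.equivFun).trans (Fin.consLinearEquiv R (fun _ : Fin (n + 1) => R))
  let Φ := E'.trans G
  refine ⟨LinearMap.toMatrix' Φ.toLinearMap, ?_, ?_⟩
  · rw [← LinearMap.toMatrix_eq_toMatrix', LinearMap.det_toMatrix]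
    exact LinearEquiv.isUnit_det' Φ
  · funext j
    rw [LinearMap.toMatrix'_apply]
    have : Φ (Pi.single j 1) 0 = φ (Pi.single j 1) := by
      simp [Φ, G, E', E, Fin.consLinearEquiv]
    simpa [φ, Fintype.linearCombination_apply, Pi.single_apply] using this

end Groth.Agent.S7122
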