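import Groth.Statements.S7123
import Mathlib.Algebra.DirectSum.Module
import Mathlib.RingTheory.Ideal.Quotient.Basic
import Mathlib.LinearAlgebra.Quotient.Basic

set_option autoImplicit false
universe u
open CAlg

namespace Groth.Agent.S7123

open DirectSum in
/-- For a module P over a ring R these two conditions are equivalent: (1) P is a retract (direct
summand) of a direct sum of cyclic modules R/fR, f ranging over R; (2) for every surjection of
R-modules π : B → C whose kernel A satisfies fA = A ∩ fB for every f in R, each linear map P → C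
lifts through π. -/
theorem result (R : Type u) [CommRing R] (P : Type u)
    [AddCommGroup P] [Module R P] :
    (∃ (ι : Type u) (f : ι → R) (i : P →ₗ[R] (⨁ j, R ⧸ Ideal.span {f j}))
        (p : (⨁ j, R ⧸ Ideal.span {f j}) →ₗ[R] P), p ∘ₗ i = LinearMap.id) ↔
      ∀ (B C : Type u) [AddCommGroup B] [Module R B] [AddCommGroup C] [Module R C] (π : B →ₗ[R] C),
        Function.Surjective π →
        (∀ (f : R) (b : B), π (f • b) = 0 → ∃ a : B, π a = 0 ∧ f • a = f • b) →
        ∀ ψ : P →ₗ[R] C, ∃ φ : P →ₗ[R] B, π ∘ₗ φ = ψ := by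
  classical
  constructor
  · rintro ⟨ι, f, i, p, hpi⟩ B C _ _ _ _ π hπ hpure ψ
    have hex : ∀ j : ι, ∃ b : B, π b = ψ (p (DirectSum.lof R ι _ j (Submodule.Quotient.mk (1 : R)))) ∧ f j • b = 0 := by
      intro j
      obtain ⟨b, hb⟩ := hπ (ψ (p (DirectSum.lof R ι _ j (Submodule.Quotient.mk (1 : R)))))
      have h0 : π (f j • b) = 0 := by
        rw [map_smul, hb, ← map_smul, ← map_smul, ← map_smul, ← Submodule.Quotient.mk_smul, smul_eq_mul, mul_one,
          (Submodule.Quotient.mk_eq_zero _).mpr (Ideal.mem_span_singleton_self _), map_zero, map_zero, map_zero]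
      obtain ⟨a, ha, hfa⟩ := hpure (f j) b h0
      exact ⟨b - a, by rw [map_sub, hb, ha, sub_zero], by rw [smul_sub, hfa, sub_self]⟩
    choose b hb hfb using hex
    let l : (⨁ j, R ⧸ Ideal.span {f j}) →ₗ[R] B := DirectSum.toModule R ι B fun j =>
      (Ideal.span {f j}).liftQ (LinearMap.toSpanSingleton R B (b j)) (by
        intro r hr
        obtain ⟨c, rfl⟩ := Ideal.mem_span_singleton'.mp hr
        simp [mul_smul, hfb])
    have hl : π ∘ₗ l = ψ ∘ₗ p := by
      apply DirectSum.linearMap_ext
      intro j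
      apply Submodule.linearMap_qext
      ext
      show π (l (DirectSum.lof R ι _ j (Submodule.Quotient.mk (1 : R)))) =
        ψ (p (DirectSum.lof R ι _ j (Submodule.Quotient.mk (1 : R))))
      simp only [l, DirectSum.toModule_lof, Submodule.liftQ_apply, LinearMap.toSpanSingleton_apply, one_smul, hb]
    refine ⟨l ∘ₗ i, ?_⟩
    rw [← LinearMap.comp_assoc, hl, LinearMap.comp_assoc, hpi, LinearMap.comp_id]
  · intro h
    let ι := {q : R × P // q.1 • q.2 = 0}
    let f : ι → R := fun q => q.1.1
    let p : (⨁ j, R ⧸ Ideal.span {f j}) →ₗ[R] P := DirectSum.toModule R ι P fun j =>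
      (Ideal.span {f j}).liftQ (LinearMap.toSpanSingleton R P j.1.2) (by
        intro r hr
        obtain ⟨c, rfl⟩ := Ideal.mem_span_singleton'.mp hr
        simp [mul_smul, f, j.2])
    have hp : ∀ j : ι, p (DirectSum.lof R ι _ j (Submodule.Quotient.mk (1 : R))) = j.1.2 := fun j => by
      simp only [p, DirectSum.toModule_lof, Submodule.liftQ_apply, LinearMap.toSpanSingleton_apply, one_smul]
    have hsurj : Function.Surjective p := fun x => ⟨_, hp ⟨(0, x), zero_smul _ _⟩⟩
    obtain ⟨i, hi⟩ := h _ P p hsurj (fun r b hb => by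
      let j : ι := ⟨(r, p b), by rw [← map_smul, hb]⟩
      refine ⟨b - DirectSum.lof R ι _ j (Submodule.Quotient.mk (1 : R)), by rw [map_sub, hp, sub_self], ?_⟩
      rw [smul_sub, ← map_smul, ← Submodule.Quotient.mk_smul, smul_eq_mul, mul_one,
        (Submodule.Quotient.mk_eq_zero _).mpr (Ideal.mem_span_singleton_self r), map_zero, sub_zero]) LinearMap.id
    exact ⟨ι, f, i, p, hi⟩

end Groth.Agent.S7123
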