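import Groth.Statements.S7124
import Mathlib
-- import your own Groth.Agent.* helpers here

set_option autoImplicit false
universe u
open CAlg

namespace Groth.Agent.S7124

/-- A sum of elements whose values are pairwise distinct does not vanish. -/
theorem sum_ne_zero {B L : Type u} [CommRing B] [IsDomain B] [ValuationRing B] [Field L] [Algebra B L]
    [IsFractionRing B L] {ι : Type*} (s : Finset ι) (hs : s.Nonempty) (z : ι → L) (hz : ∀ i ∈ s, z i ≠ 0)
    (h : ∀ i ∈ s, ∀ j ∈ s, i ≠ j → ∀ u : Bˣ, z i ≠ algebraMap B L u * z j) : ∑ i ∈ s, z i ≠ 0 := by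
  classical
  obtain ⟨i₀, hi₀, hmax⟩ := s.exists_max_image (fun i => ValuationRing.valuation B L (z i)) hs
  have hq : ∀ i ∈ s, ∃ b : B, algebraMap B L b = z i / z i₀ := fun i hi => by
    refine (ValuationRing.mem_integer_iff B L _).1 ?_
    rw [Valuation.mem_integer_iff, map_div₀, div_le_one₀ (Valuation.pos_iff _ |>.2 (hz i₀ hi₀))]
    exact hmax i hi
  choose b hb using hq
  intro hsum
  have h1 : ∑ i ∈ s.attach, b i.1 i.2 = 0 := by
    apply IsFractionRing.injective B L
    rw [map_zero, map_sum, Finset.sum_congr rfl fun i _ => hb i.1 i.2, Finset.sum_attach s fun i => z i / z i₀,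
      ← Finset.sum_div, hsum, zero_div]
  rw [← Finset.add_sum_erase _ _ (Finset.mem_attach s ⟨i₀, hi₀⟩)] at h1
  have h2 : b i₀ hi₀ = 1 := IsFractionRing.injective B L (by rw [hb, map_one, div_self (hz i₀ hi₀)])
  have h3 : ∑ i ∈ s.attach.erase ⟨i₀, hi₀⟩, b i.1 i.2 ∈ IsLocalRing.maximalIdeal B := by
    refine Ideal.sum_mem _ fun i hi => ?_
    intro hu
    refine h i.1 i.2 i₀ hi₀ (fun h' => (Finset.mem_erase.1 hi).1 (Subtype.ext h')) hu.unit ?_
    rw [IsUnit.unit_spec, hb, div_mul_cancel₀ _ (hz i₀ hi₀)]
  rw [h2] at h1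
  exact (IsLocalRing.maximalIdeal.isMaximal B).ne_top ((Ideal.eq_top_iff_one _).2
    (by rw [eq_neg_of_add_eq_zero_left h1]; exact neg_mem h3))

/-- Residually independent elements times representatives of distinct value classes are independent. -/
theorem linearIndependent_mul {A B K L : Type u} [CommRing A] [IsDomain A]
    [ValuationRing A] [CommRing B] [IsDomain B] [ValuationRing B] [Field K] [Field L]
    [Algebra A K] [IsFractionRing A K] [Algebra B L] [IsFractionRing B L] [Algebra A B] [Algebra K L]
    [Algebra A L] [IsScalarTower A K L] [IsScalarTower A B L] [IsLocalHom (algebraMap A B)]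
    {ι κ : Type*} (x : ι → Lˣ) (y : κ → B)
    (hx : ∀ i j, i ≠ j → ∀ (c : Kˣ) (u : Bˣ), (x i : L) ≠ algebraMap B L u * (algebraMap K L c * x j))
    (hy : LinearIndependent (IsLocalRing.ResidueField A) fun j => IsLocalRing.residue B (y j)) :
    LinearIndependent K fun p : ι × κ => (x p.1 : L) * algebraMap B L (y p.2) := by
  classical
  rw [linearIndependent_iff']
  intro s g hg p hp
  by_contra hgp
  let T : Finset ι := (s.filter fun p => g p ≠ 0).image Prod.fst
  have hT : ∀ i ∈ T, ∃ (k : Kˣ) (u : Bˣ),
      ∑ p ∈ s.filter (fun p => p.1 = i), g p • ((x p.1 : L) * algebraMap B L (y p.2)) =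
        algebraMap B L u * (algebraMap K L k * x i) := by
    intro i hi
    obtain ⟨q, hq, rfl⟩ := Finset.mem_image.1 hi
    rw [Finset.mem_filter] at hq
    obtain ⟨q₀, hq₀, hmax⟩ := (s.filter fun p => p.1 = q.1).exists_max_image
      (fun p => ValuationRing.valuation A K (g p)) ⟨q, Finset.mem_filter.2 ⟨hq.1, rfl⟩⟩
    have hg₀ : g q₀ ≠ 0 := fun h0 => by
      have := hmax q (Finset.mem_filter.2 ⟨hq.1, rfl⟩)
      rw [h0, map_zero, le_zero_iff, Valuation.zero_iff] at this
      exact hq.2 this
    have ha : ∀ p ∈ s.filter (fun p => p.1 = q.1), ∃ a : A, algebraMap A K a = g p / g q₀ := fun p hp => by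
      refine (ValuationRing.mem_integer_iff A K _).1 ?_
      rw [Valuation.mem_integer_iff, map_div₀, div_le_one₀ (Valuation.pos_iff _ |>.2 hg₀)]
      exact hmax p hp
    choose a ha using ha
    let F := s.filter fun p => p.1 = q.1
    let w : B := ∑ p ∈ F.attach, algebraMap A B (a p.1 p.2) * y p.1.2
    have hw : IsUnit w := by
      by_contra hw
      have h0 : IsLocalRing.residue B w = 0 := (IsLocalRing.residue_eq_zero_iff w).2 hw
      let e : {x // x ∈ F} → κ := fun p => p.1.2
      have he : Function.Injective e := fun p p' h => Subtype.ext (Prod.ext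
        ((Finset.mem_filter.1 p.2).2.trans (Finset.mem_filter.1 p'.2).2.symm) h)
      have hli := linearIndependent_iff'.1 (hy.comp e he) F.attach
        (fun p => IsLocalRing.residue A (a p.1 p.2)) (by
          rw [← h0, map_sum]
          refine Finset.sum_congr rfl fun p _ => ?_
          rw [map_mul, Algebra.smul_def]
          rfl) ⟨q₀, hq₀⟩ (Finset.mem_attach _ _)
      have h1 : a q₀ hq₀ = 1 := IsFractionRing.injective A K (by rw [ha, map_one, div_self hg₀])
      simp only [h1, map_one, one_ne_zero] at hli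
    refine ⟨Units.mk0 (g q₀) hg₀, hw.unit, ?_⟩
    rw [IsUnit.unit_spec, map_sum, Finset.sum_mul, ← Finset.sum_attach]
    refine Finset.sum_congr rfl fun p _ => ?_
    rw [map_mul, ← IsScalarTower.algebraMap_apply, IsScalarTower.algebraMap_apply A K L, ha, Units.val_mk0,
      Algebra.smul_def, map_div₀, (Finset.mem_filter.1 p.2).2]
    field_simp [(map_ne_zero (algebraMap K L)).2 hg₀]
  choose! k u hku using hT
  have hTne : T.Nonempty := ⟨p.1, Finset.mem_image.2 ⟨p, Finset.mem_filter.2 ⟨hp, hgp⟩, rfl⟩⟩
  refine sum_ne_zero (B := B) T hTne (fun i => algebraMap B L (u i) * (algebraMap K L (k i) * x i))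
    (fun i _ => ?_) (fun i _ j _ hij v hv => ?_) ?_
  · exact mul_ne_zero ((map_ne_zero_iff _ (IsFractionRing.injective B L)).2 (u i).ne_zero)
      (mul_ne_zero ((map_ne_zero _).2 (k i).ne_zero) (x i).ne_zero)
  · refine hx i j hij ((k i)⁻¹ * k j) ((u i)⁻¹ * v * u j) ?_
    have hu : algebraMap B L (u i) ≠ 0 := (map_ne_zero_iff _ (IsFractionRing.injective B L)).2 (u i).ne_zero
    have hk : algebraMap K L (k i) ≠ 0 := (map_ne_zero _).2 (k i).ne_zero
    refine mul_left_cancel₀ hk (mul_left_cancel₀ hu (hv.trans ?_))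
    simp only [Units.val_mul, map_mul]
    have hu' : algebraMap B L ↑(u i)⁻¹ * algebraMap B L (u i) = 1 := by rw [← map_mul, Units.inv_mul, map_one]
    have hk' : algebraMap K L ↑(k i)⁻¹ * algebraMap K L (k i) = 1 := by rw [← map_mul, Units.inv_mul, map_one]
    linear_combination (-(algebraMap B L v * algebraMap B L (u j) * algebraMap K L (k j) * (x j : L)) *
        (algebraMap B L ↑(u i)⁻¹ * algebraMap B L (u i))) * hk' -
      (algebraMap B L v * algebraMap B L (u j) * algebraMap K L (k j) * (x j : L)) * hu'
  · refine ((Finset.sum_congr rfl fun i hi => (hku i hi).symm).trans ?_).trans hg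
    have h2 : ∀ i ∈ T, s.filter (fun p => p.1 = i) = (s.filter fun p => p.1 ∈ T).filter (fun p => p.1 = i) := fun i hi => by
      ext p
      simp only [Finset.mem_filter]
      exact ⟨fun h => ⟨⟨h.1, h.2 ▸ hi⟩, h.2⟩, fun h => ⟨h.1.1, h.2⟩⟩
    rw [Finset.sum_congr rfl fun i hi => by rw [h2 i hi],
      Finset.sum_fiberwise_of_maps_to (s := s.filter fun p => p.1 ∈ T) (t := T) (g := Prod.fst)
        fun p hp => (Finset.mem_filter.1 hp).2]
    refine Finset.sum_subset (Finset.filter_subset _ _) fun p hp hpT => ?_
    rw [show g p = 0 from by_contra fun h => hpT (Finset.mem_filter.2 ⟨hp, Finset.mem_image.2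
      ⟨p, Finset.mem_filter.2 ⟨hp, h⟩, rfl⟩⟩), zero_smul]

/-- Let A ⊆ B be an extension of valuation rings (both valuation domains, the inclusion injective and
local) with fraction fields K ⊆ L such that L/K is finite. Then the residue field of B is finite
over that of A, the value group of A has finite index in the value group of B, and (index of value
groups) · (residue degree) ≤ [L : K]. Here the value group of B is written as Lˣ modulo the units of
B, and that of A as the image of Kˣ in it. -/
theorem result (A B K L : Type u) [CommRing A] [IsDomain A]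
    [ValuationRing A] [CommRing B] [IsDomain B] [ValuationRing B] [Field K] [Field L]
    [Algebra A K] [IsFractionRing A K] [Algebra B L] [IsFractionRing B L] [Algebra A B] [Algebra K L]
    [Algebra A L] [IsScalarTower A K L] [IsScalarTower A B L] (hinj : Function.Injective (algebraMap A B))
    [IsLocalHom (algebraMap A B)] [FiniteDimensional K L] :
    let UB : Subgroup Lˣ := (Units.map (algebraMap B L).toMonoidHom).range
    let ΓA : Subgroup (Lˣ ⧸ UB) := ((QuotientGroup.mk' UB).comp (Units.map (algebraMap K L).toMonoidHom)).range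
    Module.Finite (IsLocalRing.ResidueField A) (IsLocalRing.ResidueField B) ∧ ΓA.index ≠ 0 ∧
      ΓA.index * Module.finrank (IsLocalRing.ResidueField A) (IsLocalRing.ResidueField B) ≤
        Module.finrank K L := by
  classical
  intro UB ΓA
  let n := Module.finrank K L
  let Q := (Lˣ ⧸ UB) ⧸ ΓA
  let rep : Q → Lˣ := fun q => (Quotient.out q).out
  have hrep : ∀ i j : Q, i ≠ j → ∀ (c : Kˣ) (u : Bˣ),
      (rep i : L) ≠ algebraMap B L u * (algebraMap K L c * rep j) := by
    intro i j hij c u h
    apply hij
    have h' : rep i = Units.map (algebraMap B L).toMonoidHom u * (Units.map (algebraMap K L).toMonoidHom c * rep j) :=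
      Units.ext h
    have e : ∀ q : Q, QuotientGroup.mk (QuotientGroup.mk (rep q) : Lˣ ⧸ UB) = q := fun q => by
      simp only [rep, QuotientGroup.out_eq']
    rw [← e i, ← e j]
    refine (QuotientGroup.eq (s := ΓA)).2 ⟨c⁻¹, (QuotientGroup.eq (s := UB)).2 ⟨u⁻¹, ?_⟩⟩
    rw [h', map_inv, map_inv, mul_inv_rev, mul_inv_rev, inv_inv]
    rw [mul_comm (Units.map (algebraMap K L).toMonoidHom c)]
    simp [mul_comm, mul_left_comm, mul_assoc]
  -- the basic bound
  have bound : ∀ (S : Finset Q) (κ : Type u) [Fintype κ] (y : κ → B),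
      LinearIndependent (IsLocalRing.ResidueField A) (fun j => IsLocalRing.residue B (y j)) →
      S.card * Fintype.card κ ≤ n := by
    intro S κ _ y hy
    have h := (linearIndependent_mul (A := A) (K := K) (fun i : {x // x ∈ S} => rep i.1) y
      (fun i j hij => hrep i.1 j.1 fun h => hij (Subtype.ext h)) hy).fintype_card_le_finrank
    rwa [Fintype.card_prod, Fintype.card_coe] at h
  have hlift : ∀ (κ : Type u) (z : κ → IsLocalRing.ResidueField B), ∃ y : κ → B, (fun j => IsLocalRing.residue B (y j)) = z :=
    fun κ z => ⟨fun j => (IsLocalRing.residue_surjective (z j)).choose,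
      funext fun j => (IsLocalRing.residue_surjective (z j)).choose_spec⟩
  let b := Module.Free.chooseBasis (IsLocalRing.ResidueField A) (IsLocalRing.ResidueField B)
  have hbfin : Finite (Module.Free.ChooseBasisIndex (IsLocalRing.ResidueField A) (IsLocalRing.ResidueField B)) := by
    by_contra hinf
    rw [not_finite_iff_infinite] at hinf
    obtain ⟨S, hS⟩ := Infinite.exists_subset_card_eq (Module.Free.ChooseBasisIndex (IsLocalRing.ResidueField A)
      (IsLocalRing.ResidueField B)) (n + 1)
    obtain ⟨y, hy⟩ := hlift {x // x ∈ S} fun j => b j.1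
    have h := bound {QuotientGroup.mk (1 : Lˣ ⧸ UB)} {x // x ∈ S} y (by rw [hy]; exact b.linearIndependent.comp _ Subtype.val_injective)
    rw [Finset.card_singleton, one_mul, Fintype.card_coe, hS] at h
    omega
  have hfin : Module.Finite (IsLocalRing.ResidueField A) (IsLocalRing.ResidueField B) := Module.Finite.of_basis b
  let b' := Module.finBasis (IsLocalRing.ResidueField A) (IsLocalRing.ResidueField B)
  obtain ⟨y, hy⟩ := hlift (ULift.{u} (Fin (Module.finrank (IsLocalRing.ResidueField A) (IsLocalRing.ResidueField B))))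
    fun j => b' j.down
  have hb' := fun S : Finset Q => bound S _ y (by rw [hy]; exact b'.linearIndependent.comp _ ULift.down_injective)
  simp only [Fintype.card_ulift, Fintype.card_fin] at hb'
  have hd : 0 < Module.finrank (IsLocalRing.ResidueField A) (IsLocalRing.ResidueField B) := Module.finrank_pos
  haveI hQ : Finite Q := by
    by_contra hinf
    rw [not_finite_iff_infinite] at hinf
    obtain ⟨S, hS⟩ := Infinite.exists_subset_card_eq Q (n + 1)
    have h := hb' S
    rw [hS] at h
    have : n + 1 ≤ (n + 1) * Module.finrank (IsLocalRing.ResidueField A) (IsLocalRing.ResidueField B) :=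
      Nat.le_mul_of_pos_right _ hd
    omega
  haveI := Fintype.ofFinite Q
  refine ⟨hfin, Subgroup.FiniteIndex.index_ne_zero (H := ΓA) (self := ⟨Nat.card_pos.ne'⟩), ?_⟩
  have h := hb' Finset.univ
  rwa [Finset.card_univ, ← Nat.card_eq_fintype_card] at h


end Groth.Agent.S7124
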