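import Groth.Statements.S7130
import Mathlib
import Groth.Agent.WeakEt.Basic
-- import your own Groth.Agent.* helpers here

set_option autoImplicit false
universe u
open EtAlg

namespace Groth.Agent.S7130

/-- (2) ⇔ (3) ⇔ (4): for a ring A the following are equivalent: every A-module is flat; A is reduced of
Krull dimension zero, in the sense that every prime ideal of A is maximal; the local ring A_p is a
field for every prime p. (The further equivalent condition 'A has weak dimension at most zero'
coincides with the first condition by definition and is not listed separately.) -/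
theorem result (A : Type u) [CommRing A] :
    List.TFAE [∀ (M : Type u) [AddCommGroup M] [Module A M], Module.Flat A M,
      IsReduced A ∧ ∀ p : Ideal A, p.IsPrime → p.IsMaximal,
      ∀ (p : Ideal A) [p.IsPrime], IsField (Localization.AtPrime p)] := by
  tfae_have 1 → 3 := fun h p hp => by
    have hv : ∀ a : A, ∃ c, a * a * c = a := fun a => by
      haveI : (Ideal.span {a}).Pure := h _
      obtain ⟨y, hy, hay⟩ := Ideal.exists_eq_mul_of_pure (Ideal.mem_span_singleton_self a)
      obtain ⟨c, rfl⟩ := Ideal.mem_span_singleton.1 hy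
      exact ⟨c, by rw [mul_assoc]; exact hay.symm⟩
    haveI : p.IsPrime := hp
    refine ⟨⟨0, 1, zero_ne_one⟩, mul_comm, fun {x} hx => ?_⟩
    obtain ⟨r, ⟨s, hs⟩, rfl⟩ := IsLocalization.exists_mk'_eq p.primeCompl x
    obtain ⟨c, hc⟩ := hv r
    have hr : r ∉ p := fun hrp => hx (by
      rw [IsLocalization.mk'_eq_zero_iff]
      refine ⟨⟨1 - r * c, fun h1 => hp.ne_top ((Ideal.eq_top_iff_one p).2
        (by simpa using p.add_mem h1 (p.mul_mem_right c hrp)))⟩, ?_⟩
      linear_combination -hc)
    exact ⟨IsLocalization.mk' _ s (⟨r, hr⟩ : p.primeCompl), IsLocalization.mk'_mul_mk'_eq_one' r (⟨s, hs⟩ : p.primeCompl) hr⟩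
  tfae_have 3 → 2 := fun h => by
    refine ⟨isReduced_ofLocalizationMaximal A fun J hJ => ?_, fun p hp => ?_⟩
    · haveI := hJ.isPrime
      letI := (h J).toField
      infer_instance
    · obtain ⟨m, hm, hle⟩ := Ideal.exists_le_maximal p hp.ne_top
      haveI := hm.isPrime
      letI := (h m).toField
      have key : m ≤ p := fun a ha => by
        have h0 : algebraMap A (Localization.AtPrime m) a = 0 := by
          by_contra hne
          exact (IsLocalization.AtPrime.isUnit_to_map_iff (Localization.AtPrime m) m a).1 (Ne.isUnit hne) ha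
        obtain ⟨⟨t, ht⟩, hta⟩ := (IsLocalization.map_eq_zero_iff m.primeCompl _ a).1 h0
        exact (hp.mem_or_mem (show t * a ∈ p by rw [show t * a = 0 from hta]; exact p.zero_mem)).resolve_left
          fun htp => ht (hle htp)
      rwa [le_antisymm hle key]
  tfae_have 2 → 1 := fun ⟨hred, hdim⟩ M _ _ => by
    refine Groth.Agent.WeakEt.flat_of_forall_exists_sq_mul (fun a => ?_) M
    suffices h : a ∈ Ideal.span {a * a} by
      obtain ⟨c, hc⟩ := Ideal.mem_span_singleton.1 h
      exact ⟨c, hc.symm⟩
    by_contra hne
    let T : Ideal A := Submodule.comap (LinearMap.mulRight A a) (Ideal.span {a * a})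
    have hT : T ≠ ⊤ := fun h => hne (by
      have h1 : (1 : A) ∈ T := h ▸ Submodule.mem_top
      simpa [T] using h1)
    obtain ⟨m, hm, hle⟩ := Ideal.exists_le_maximal T hT
    have haT : a ∈ T := Ideal.mem_span_singleton_self (a * a)
    have ham : a ∈ m := hle haT
    -- `a` vanishes in the local ring at `m`
    haveI := hm.isPrime
    have hnil : IsNilpotent (algebraMap A (Localization.AtPrime m) a) := by
      rw [← mem_nilradical, nilradical_eq_sInf, Ideal.mem_sInf]
      intro Q hQ
      haveI : Q.IsPrime := hQ
      have hle' : Q.comap (algebraMap A _) ≤ m := fun y hy => by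
        by_contra hym
        exact hQ.ne_top (Q.eq_top_of_isUnit_mem hy (IsLocalization.map_units (M := m.primeCompl) _ ⟨y, hym⟩))
      have heq := (hdim _ (Ideal.IsPrime.comap (algebraMap A (Localization.AtPrime m)) (K := Q))).eq_of_le hm.ne_top hle'
      exact Ideal.mem_comap.1 (heq.symm ▸ ham : a ∈ Q.comap (algebraMap A _))
    haveI := hred
    haveI : IsReduced (Localization.AtPrime m) := isReduced_localizationPreserves m.primeCompl _ hred
    have ha0 := IsNilpotent.eq_zero hnil
    obtain ⟨⟨s, hs⟩, hsa⟩ := (IsLocalization.map_eq_zero_iff m.primeCompl _ a).1 ha0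
    refine hs (hle (show s * a ∈ Ideal.span {a * a} by rw [show s * a = 0 from hsa]; exact Submodule.zero_mem _))
  tfae_finish

end Groth.Agent.S7130
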