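import Groth.Statements.S7132
import Mathlib

set_option autoImplicit false
universe u
open EtAlg

namespace Groth.Agent.S7132

open IsLocalRing

/-- Lifts of residue-independent elements times powers of the uniformizer are independent over the base. -/
theorem independent (A B : Type u) [CommRing A] [IsDomain A]
    [IsDiscreteValuationRing A] [CommRing B] [IsDomain B] [IsDiscreteValuationRing B] [Algebra A B]
    (hinj : Function.Injective (algebraMap A B)) [IsLocalHom (algebraMap A B)]
    {e : ℕ} (he : (maximalIdeal A).map (algebraMap A B) ≤ maximalIdeal B ^ e)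
    {ι : Type u} [Finite ι] (b : ι → B)
    (hb : LinearIndependent (ResidueField A) fun i => residue B (b i))
    {ϖ : B} (hϖ : Irreducible ϖ) :
    LinearIndependent A fun x : Fin e × ι => ϖ ^ (x.1 : ℕ) * b x.2 := by
  classical
  haveI := Fintype.ofFinite ι
  have hspan : maximalIdeal B = Ideal.span {ϖ} := hϖ.maximalIdeal_eq
  rw [Fintype.linearIndependent_iff]
  have key : ∀ a : Fin e × ι → A, ∑ x, a x • (ϖ ^ (x.1 : ℕ) * b x.2) = 0 → ∀ x, a x ∈ maximalIdeal A := by
    intro a ha
    suffices h : ∀ (j : ℕ) (hj : j < e) (i : ι), a (⟨j, hj⟩, i) ∈ maximalIdeal A from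
      fun x => h x.1 x.1.2 x.2
    intro j
    induction j using Nat.strong_induction_on with
    | _ j ih =>
      intro hj
      let c : Fin e → B := fun k => ∑ i, algebraMap A B (a (k, i)) * b i
      have hsum : ∑ k : Fin e, ϖ ^ (k : ℕ) * c k = 0 := by
        rw [← ha, Fintype.sum_prod_type]
        refine Finset.sum_congr rfl fun k _ => ?_
        simp only [c, Finset.mul_sum, Algebra.smul_def]
        exact Finset.sum_congr rfl fun i _ => by ring
      have hdvd : ϖ ^ (j + 1) ∣ ϖ ^ j * c ⟨j, hj⟩ := by
        have h1 := Finset.add_sum_erase Finset.univ (fun k : Fin e => ϖ ^ (k : ℕ) * c k) (Finset.mem_univ ⟨j, hj⟩)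
        rw [hsum, add_eq_zero_iff_eq_neg] at h1
        simp only at h1
        rw [h1, dvd_neg]
        refine Finset.dvd_sum fun k hk => ?_
        rcases lt_trichotomy (k : ℕ) j with hkj | hkj | hkj
        · have h2 : c k ∈ maximalIdeal B ^ e := Ideal.sum_mem _ fun i _ =>
            Ideal.mul_mem_right _ _ (he (Ideal.mem_map_of_mem _ (ih k hkj k.2 i)))
          rw [hspan, Ideal.span_singleton_pow, Ideal.mem_span_singleton] at h2
          exact ((pow_dvd_pow ϖ (by omega)).trans h2).trans (dvd_mul_left _ _)
        · exact absurd (Fin.ext hkj) (Finset.ne_of_mem_erase hk)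
        · exact (pow_dvd_pow ϖ (by omega)).trans (dvd_mul_right _ _)
      rw [pow_succ, mul_dvd_mul_iff_left (pow_ne_zero _ hϖ.ne_zero)] at hdvd
      have hc : residue B (c ⟨j, hj⟩) = 0 := (residue_eq_zero_iff _).2 (by
        rw [hspan, Ideal.mem_span_singleton]; exact hdvd)
      simp only [c, map_sum, map_mul] at hc
      have h3 := Fintype.linearIndependent_iff.1 hb (fun i => residue A (a (⟨j, hj⟩, i))) (by
        rw [← hc]
        refine Finset.sum_congr rfl fun i _ => ?_
        rw [Algebra.smul_def]
        rfl)
      exact fun i => (residue_eq_zero_iff _).1 (h3 i)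
  obtain ⟨t, ht⟩ := IsDiscreteValuationRing.exists_irreducible A
  have hpow : ∀ (N : ℕ) (a : Fin e × ι → A), ∑ x, a x • (ϖ ^ (x.1 : ℕ) * b x.2) = 0 →
      ∀ x, a x ∈ maximalIdeal A ^ N := by
    intro N
    induction N with
    | zero => intro a _ x; simp
    | succ N ih =>
      intro a ha x
      have h1 := key a ha
      simp only [ht.maximalIdeal_eq, Ideal.mem_span_singleton] at h1
      choose a' ha' using h1
      have h2 : ∑ x, a' x • (ϖ ^ (x.1 : ℕ) * b x.2) = 0 := by
        have h0 : algebraMap A B t * ∑ x, a' x • (ϖ ^ (x.1 : ℕ) * b x.2) = 0 := by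
          rw [← ha, Finset.mul_sum]
          refine Finset.sum_congr rfl fun x _ => ?_
          rw [ha' x, Algebra.smul_def, Algebra.smul_def, map_mul, mul_assoc]
        exact (mul_eq_zero.1 h0).resolve_left ((map_ne_zero_iff _ hinj).2 ht.ne_zero)
      rw [ha' x, pow_succ']
      exact Ideal.mul_mem_mul (ht.maximalIdeal_eq ▸ Ideal.mem_span_singleton_self t) (ih a' h2 x)
  intro a ha x
  have h := Ideal.iInf_pow_eq_bot_of_isLocalRing (maximalIdeal A) (maximalIdeal.isMaximal A).ne_top
  rw [← Ideal.mem_bot, ← h, Submodule.mem_iInf]
  exact fun N => hpow N a ha x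

/-- For an injective local homomorphism A → B of discrete valuation rings whose fraction fields K ⊆ L
form a finite extension, the residue field of B is finite over that of A, and the ramification index
e times the residue degree f is at most [L : K]. -/
theorem result (A B K L : Type u) [CommRing A] [IsDomain A]
    [IsDiscreteValuationRing A] [CommRing B] [IsDomain B] [IsDiscreteValuationRing B] [Algebra A B]
    (hinj : Function.Injective (algebraMap A B)) [IsLocalHom (algebraMap A B)]
    [Field K] [Field L] [Algebra A K] [IsFractionRing A K] [Algebra B L] [IsFractionRing B L]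
    [Algebra K L] [Algebra A L] [IsScalarTower A K L] [IsScalarTower A B L] [FiniteDimensional K L] :
    Module.Finite (IsLocalRing.ResidueField A) (IsLocalRing.ResidueField B) ∧
      Ideal.ramificationIdx' (IsLocalRing.maximalIdeal A) (IsLocalRing.maximalIdeal B) *
          Module.finrank (IsLocalRing.ResidueField A) (IsLocalRing.ResidueField B) ≤
        Module.finrank K L := by
  classical
  haveI : FaithfulSMul A B := (faithfulSMul_iff_algebraMap_injective A B).2 hinj
  have hne : (maximalIdeal A).map (algebraMap A B) ≠ ⊥ := fun h =>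
    IsDiscreteValuationRing.not_a_field A ((Ideal.map_eq_bot_iff_of_injective hinj).1 h)
  obtain ⟨ϖ, hϖ⟩ := IsDiscreteValuationRing.exists_irreducible B
  obtain ⟨e, he⟩ := IsDiscreteValuationRing.ideal_eq_span_pow_irreducible hne hϖ
  have he' : (maximalIdeal A).map (algebraMap A B) = maximalIdeal B ^ e := by
    rw [he, hϖ.maximalIdeal_eq, Ideal.span_singleton_pow]
  have heq : Ideal.ramificationIdx' (maximalIdeal A) (maximalIdeal B) = e :=
    Ideal.ramificationIdx'_spec he'.le fun hle =>
      (Ideal.pow_succ_lt_pow (IsDiscreteValuationRing.not_a_field B) e).not_ge (he'.ge.trans hle)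
  have hepos : 0 < e := by
    by_contra h0
    have h1 := map_maximalIdeal_le (algebraMap A B)
    rw [he', Nat.eq_zero_of_not_pos h0, pow_zero, Ideal.one_eq_top] at h1
    exact (maximalIdeal.isMaximal B).ne_top (top_le_iff.1 h1)
  have hbound : ∀ (s : Set (ResidueField B)), s.Finite → LinearIndepOn (ResidueField A) id s →
      e * s.ncard ≤ Module.finrank K L := by
    intro s hs hli
    haveI := hs.to_subtype
    choose g hg using fun y : ResidueField B => residue_surjective (R := B) y
    have h1 := independent A B hinj he'.le (fun i : s => g i.1) (by simpa [hg, linearIndepOn_iff', LinearIndepOn] using hli.linearIndependent) hϖ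
    have h2 : LinearIndependent A (fun x : Fin e × s => algebraMap B L (ϖ ^ (x.1 : ℕ) * g x.2.1)) :=
      h1.map' (IsScalarTower.toAlgHom A B L).toLinearMap
        (LinearMap.ker_eq_bot.2 (IsFractionRing.injective B L))
    have h3 := (LinearIndependent.iff_fractionRing (R := A) (K := K)).1 h2
    have := Fintype.ofFinite s
    have h4 := h3.fintype_card_le_finrank
    rw [Fintype.card_prod, Fintype.card_fin, ← Nat.card_eq_fintype_card, Nat.card_coe_set_eq] at h4
    exact h4
  have hfin : Module.Finite (ResidueField A) (ResidueField B) := by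
    refine Module.rank_lt_aleph0_iff.1 (lt_of_le_of_lt (rank_le (n := Module.finrank K L) fun s hs => ?_) (Cardinal.natCast_lt_aleph0))
    have := hbound (s : Set (ResidueField B)) s.finite_toSet hs
    rw [Set.ncard_coe_finset] at this
    exact le_trans (Nat.le_mul_of_pos_left _ hepos) this
  refine ⟨hfin, ?_⟩
  rw [heq]
  let bs := Module.finBasis (ResidueField A) (ResidueField B)
  have := hbound (Set.range bs) (Set.finite_range _) bs.linearIndependent.linearIndepOn_id
  rwa [Set.ncard_range_of_injective bs.injective, Nat.card_eq_fintype_card, Fintype.card_fin] at this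

end Groth.Agent.S7132
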