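import Groth.Statements.S7133
import Mathlib

set_option autoImplicit false
universe u
open EtAlg

namespace Groth.Agent.S7133

/-- For an injective local homomorphism A → B of discrete valuation rings whose fields of fractions are
K ⊆ L: if K has characteristic p > 0 and L/K is purely inseparable, then the ramification index of B
over A is a power of p. -/
theorem result (A B K L : Type u) [CommRing A] [IsDomain A]
    [IsDiscreteValuationRing A] [CommRing B] [IsDomain B] [IsDiscreteValuationRing B] [Algebra A B]
    (hinj : Function.Injective (algebraMap A B)) [IsLocalHom (algebraMap A B)]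
    [Field K] [Field L] [Algebra A K] [IsFractionRing A K] [Algebra B L] [IsFractionRing B L]
    [Algebra K L] [Algebra A L] [IsScalarTower A K L] [IsScalarTower A B L]
    (p : ℕ) (hp : p.Prime) [CharP K p] [IsPurelyInseparable K L] :
    ∃ k : ℕ, Ideal.ramificationIdx' (IsLocalRing.maximalIdeal A) (IsLocalRing.maximalIdeal B) =
      p ^ k := by
  classical
  haveI : Fact p.Prime := ⟨hp⟩
  haveI : ExpChar K p := ExpChar.prime hp
  obtain ⟨ϖA, hA⟩ := IsDiscreteValuationRing.exists_irreducible A
  obtain ⟨ϖB, hB⟩ := IsDiscreteValuationRing.exists_irreducible B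
  have hA0 : algebraMap A B ϖA ≠ 0 := (map_ne_zero_iff _ hinj).2 hA.ne_zero
  obtain ⟨e, ue, he⟩ := IsDiscreteValuationRing.eq_unit_mul_pow_irreducible hA0 hB
  have hval : ∀ {u v : Bˣ} {m n : ℕ}, (u : B) * ϖB ^ m = v * ϖB ^ n → m = n := fun {u v m n} h => by
    exact IsDiscreteValuationRing.unit_mul_pow_congr_pow hB hB u v m n h
  have hram : Ideal.ramificationIdx' (IsLocalRing.maximalIdeal A) (IsLocalRing.maximalIdeal B) = e := by
    refine Ideal.ramificationIdx'_spec ?_ ?_
    · rw [hA.maximalIdeal_eq, hB.maximalIdeal_eq, Ideal.map_span, Set.image_singleton, Ideal.span_singleton_pow,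
        Ideal.span_singleton_le_span_singleton, he]
      exact dvd_mul_left _ _
    · rw [hA.maximalIdeal_eq, hB.maximalIdeal_eq, Ideal.map_span, Set.image_singleton, Ideal.span_singleton_pow,
        Ideal.span_singleton_le_span_singleton, he, (Units.isUnit ue).dvd_mul_left,
        pow_dvd_pow_iff hB.ne_zero hB.not_isUnit]
      omega
  rw [hram]
  obtain ⟨j, z, hz⟩ := IsPurelyInseparable.pow_mem K p (algebraMap B L ϖB)
  obtain ⟨a, b, hb, rfl⟩ := IsFractionRing.div_surjective A z
  have hb0 : b ≠ 0 := nonZeroDivisors.ne_zero hb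
  have hbL : algebraMap A L b ≠ 0 := by
    rw [IsScalarTower.algebraMap_apply A K L]
    exact (map_ne_zero_iff _ (RingHom.injective _)).2 ((map_ne_zero_iff _ (IsFractionRing.injective A K)).2 hb0)
  rw [map_div₀, ← IsScalarTower.algebraMap_apply A K L, ← IsScalarTower.algebraMap_apply A K L, div_eq_iff hbL,
    IsScalarTower.algebraMap_apply A B L, IsScalarTower.algebraMap_apply A B L, ← map_pow, ← map_mul] at hz
  have h := IsFractionRing.injective B L hz
  have ha0 : a ≠ 0 := fun h0 => by
    rw [h0, map_zero] at h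
    rcases mul_eq_zero.1 h.symm with h1 | h1
    · exact pow_ne_zero _ hB.ne_zero h1
    · exact hb0 (hinj (h1.trans (map_zero _).symm))
  obtain ⟨t, ua, ha⟩ := IsDiscreteValuationRing.eq_unit_mul_pow_irreducible ha0 hA
  obtain ⟨s, ub, hb'⟩ := IsDiscreteValuationRing.eq_unit_mul_pow_irreducible hb0 hA
  rw [ha, hb', map_mul, map_mul, map_pow, map_pow, he] at h
  have hts : e * t = p ^ j + e * s := hval (u := Units.map (algebraMap A B : A →* B) ua * ue ^ t)
      (v := Units.map (algebraMap A B : A →* B) ub * ue ^ s) (by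
    simp only [Units.val_mul, Units.coe_map, MonoidHom.coe_coe, Units.val_pow_eq_pow_val, pow_add, pow_mul]
    linear_combination h)
  have hdvd : e ∣ p ^ j := (Nat.dvd_add_left (dvd_mul_right e s)).1 (hts ▸ dvd_mul_right e t)
  obtain ⟨k, -, hk⟩ := (Nat.dvd_prime_pow hp).1 hdvd
  exact ⟨k, hk⟩

end Groth.Agent.S7133
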