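import Groth.Statements.S7134
import Groth.Agent.S2038
import Groth.Agent.S2451
import Groth.Agent.RegLoc.Order

set_option autoImplicit false
universe u
open EtAlg

namespace Groth.Agent.S7134

/-- For an injective local homomorphism A → B of discrete valuation rings, A → B is formally smooth for
the adic topology of the maximal ideal of B if and only if A → B is weakly unramified and the
residue field of B is a separable (possibly transcendental, i.e. geometrically reduced) extension of
the residue field of A. -/
theorem result (A B : Type u) [CommRing A]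
    [IsDomain A] [IsDiscreteValuationRing A] [CommRing B] [IsDomain B] [IsDiscreteValuationRing B] [Algebra A B]
    (hinj : Function.Injective (algebraMap A B)) [IsLocalHom (algebraMap A B)] :
    CAlgX.IsAdicFormallySmooth A B (IsLocalRing.maximalIdeal B) ↔
      EtRam.IsWeaklyUnramified A B ∧
        Algebra.IsGeometricallyReduced (IsLocalRing.ResidueField A) (IsLocalRing.ResidueField B) := by
  haveI := IsDiscreteValuationRing.toIsPrincipalIdealRing (R := A)
  have hle : (IsLocalRing.maximalIdeal A).map (algebraMap A B) ≤ (IsLocalRing.maximalIdeal B) :=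
    Ideal.map_le_iff_le_comap.mpr fun a ha => map_nonunit (algebraMap A B) a ha
  haveI : FaithfulSMul A B := (faithfulSMul_iff_algebraMap_injective A B).2 hinj
  haveI : Module.IsTorsionFree A B := inferInstance
  haveI : Module.Flat A B := inferInstance
  constructor
  · intro h
    obtain ⟨-, hreg⟩ := S2038.result.mpr h
    letI : Field (A ⧸ (IsLocalRing.maximalIdeal A)) := Ideal.Quotient.field _
    have hreg' := GRingCpl.geomRegular_quotient_of_fibre (B := B) (A ⧸ (IsLocalRing.maximalIdeal A)) inferInstance hreg
    haveI : IsRegularRing (B ⧸ (IsLocalRing.maximalIdeal A).map (algebraMap A B)) := IsRegularRing.of_ringEquiv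
      (R := TensorProduct (A ⧸ (IsLocalRing.maximalIdeal A)) (A ⧸ (IsLocalRing.maximalIdeal A)) (B ⧸ (IsLocalRing.maximalIdeal A).map (algebraMap A B)))
      (Algebra.TensorProduct.lid (A ⧸ (IsLocalRing.maximalIdeal A)) (B ⧸ (IsLocalRing.maximalIdeal A).map (algebraMap A B))).toRingEquiv
    haveI : Nontrivial (B ⧸ (IsLocalRing.maximalIdeal A).map (algebraMap A B)) := Ideal.Quotient.nontrivial_iff.mpr fun e =>
      (IsLocalRing.maximalIdeal.isMaximal B).ne_top (top_le_iff.mp (e ▸ hle))
    haveI : IsLocalRing (B ⧸ (IsLocalRing.maximalIdeal A).map (algebraMap A B)) :=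
      IsLocalRing.of_surjective' (Ideal.Quotient.mk _) Ideal.Quotient.mk_surjective
    haveI : IsRegularLocalRing (B ⧸ (IsLocalRing.maximalIdeal A).map (algebraMap A B)) := IsRegularLocalRing.of_isRegularRing_of_isLocalRing _
    haveI : IsDomain (B ⧸ (IsLocalRing.maximalIdeal A).map (algebraMap A B)) := RegLoc.isDomain _
    have hprime : ((IsLocalRing.maximalIdeal A).map (algebraMap A B)).IsPrime := (Ideal.Quotient.isDomain_iff_prime _).1 inferInstance
    have hne : (IsLocalRing.maximalIdeal A).map (algebraMap A B) ≠ ⊥ := by
      rw [Ne, Ideal.map_eq_bot_iff_of_injective hinj]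
      exact IsDiscreteValuationRing.not_a_field A
    have hu : (IsLocalRing.maximalIdeal A).map (algebraMap A B) = (IsLocalRing.maximalIdeal B) :=
      (hprime.isMaximal hne).eq_of_le (IsLocalRing.maximalIdeal.isMaximal B).ne_top hle
    refine ⟨hu, (S2451.result (k := IsLocalRing.ResidueField A) (K := IsLocalRing.ResidueField B)).1
      (Algebra.FormallySmooth.of_comp_surjective fun C _ _ J hJ ψ => ?_)⟩
    letI : Algebra A C := ((algebraMap (IsLocalRing.ResidueField A) C).comp (IsLocalRing.residue A)).toAlgebra
    let ψB : B →ₐ[A] C ⧸ J :=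
      { ψ.toRingHom.comp (IsLocalRing.residue B) with
        commutes' := fun a => by
          show ψ (IsLocalRing.residue B (algebraMap A B a)) = _
          rw [← IsLocalRing.ResidueField.map_residue,
            show IsLocalRing.ResidueField.map (algebraMap A B) (IsLocalRing.residue A a) =
              algebraMap (IsLocalRing.ResidueField A) (IsLocalRing.ResidueField B) (IsLocalRing.residue A a) from rfl,
            AlgHom.commutes]
          rfl }
    obtain ⟨χ, hχ⟩ := h C J hJ ψB ⟨1, fun x hx => by
      show ψ (IsLocalRing.residue B x) = 0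
      rw [pow_one] at hx
      rw [(IsLocalRing.residue_eq_zero_iff x).2 hx, map_zero]⟩
    have hker : ∀ x ∈ (IsLocalRing.maximalIdeal B), χ x = 0 := by
      intro x hx
      rw [← hu] at hx
      induction hx using Submodule.span_induction with
      | mem w hw =>
        obtain ⟨a, ha, rfl⟩ := hw
        rw [AlgHom.commutes]
        show algebraMap (IsLocalRing.ResidueField A) C (IsLocalRing.residue A a) = 0
        rw [(IsLocalRing.residue_eq_zero_iff a).2 ha, map_zero]
      | zero => rw [map_zero]
      | add u v _ _ hu hv => rw [map_add, hu, hv, add_zero]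
      | smul r w _ hw => rw [smul_eq_mul, map_mul, hw, mul_zero]
    refine ⟨{ Ideal.Quotient.lift (IsLocalRing.maximalIdeal B) χ.toRingHom hker with
      commutes' := fun a => ?_ }, AlgHom.ext fun x => ?_⟩
    · obtain ⟨a, rfl⟩ := IsLocalRing.residue_surjective a
      exact χ.commutes a
    · obtain ⟨x, rfl⟩ := IsLocalRing.residue_surjective x
      exact congrArg (fun g : B →ₐ[A] C ⧸ J => g x) hχ
  · rintro ⟨hu, hK⟩
    have hu' : (IsLocalRing.maximalIdeal A).map (algebraMap A B) = (IsLocalRing.maximalIdeal B) := hu
    haveI := (S2451.result (k := IsLocalRing.ResidueField A) (K := IsLocalRing.ResidueField B)).2 hK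
    refine GRingCpl.isAdicFormallySmooth_of_maximal (IsLocalRing.maximalIdeal A) (IsLocalRing.maximalIdeal B) hle
      (EGA41FS.isFormallySmoothAdic_of_flat_fibre (IsLocalRing.maximalIdeal A) (IsLocalRing.maximalIdeal A) (IsLocalRing.maximalIdeal B) hle hle ?_)
    intro C _ _ J hJ _ ψ _
    letI : Algebra (A ⧸ (IsLocalRing.maximalIdeal A)) (IsLocalRing.ResidueField B) :=
      inferInstanceAs (Algebra (IsLocalRing.ResidueField A) (IsLocalRing.ResidueField B))
    let e : IsLocalRing.ResidueField B ≃ₐ[A ⧸ (IsLocalRing.maximalIdeal A)] (B ⧸ (IsLocalRing.maximalIdeal A).map (algebraMap A B)) :=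
      { (Ideal.quotEquivOfEq hu'.symm : (B ⧸ (IsLocalRing.maximalIdeal B)) ≃+* (B ⧸ (IsLocalRing.maximalIdeal A).map (algebraMap A B))) with
        commutes' := fun a => by
          obtain ⟨a, rfl⟩ := Ideal.Quotient.mk_surjective a
          rfl }
    haveI : Algebra.FormallySmooth (A ⧸ (IsLocalRing.maximalIdeal A)) (IsLocalRing.ResidueField B) := ‹_›
    haveI : Algebra.FormallySmooth (A ⧸ (IsLocalRing.maximalIdeal A)) (B ⧸ (IsLocalRing.maximalIdeal A).map (algebraMap A B)) := Algebra.FormallySmooth.of_equiv e
    exact ⟨Algebra.FormallySmooth.lift J hJ ψ, Algebra.FormallySmooth.comp_lift J hJ ψ⟩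

end Groth.Agent.S7134
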