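import Groth.Statements.S7135
import Groth.Agent.AdicBasics.Exact

set_option autoImplicit false
universe u
open CAlg

namespace Groth.Agent.S7135

open AdicCompletion in
/-- Membership in `I • ⊤` for a finite power. -/
theorem pi_mem_smul_top {A : Type u} [CommRing A] (J : Ideal A) {N : Type u} [AddCommGroup N] [Module A N]
    {ι : Type*} [Fintype ι] [DecidableEq ι] (x : ι → N) :
    x ∈ (J • ⊤ : Submodule A (ι → N)) ↔ ∀ i, x i ∈ (J • ⊤ : Submodule A N) := by
  refine ⟨fun h i => ?_, fun h => ?_⟩
  · have := Submodule.mem_map_of_mem (f := LinearMap.proj (R := A) (φ := fun _ => N) i) h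
    rw [Submodule.map_smul''] at this
    exact Submodule.smul_mono (le_refl J) le_top this
  · rw [← Finset.univ_sum_single x]
    refine sum_mem fun i _ => ?_
    have := Submodule.mem_map_of_mem (f := LinearMap.single A (fun _ => N) i) (h i)
    rw [Submodule.map_smul''] at this
    exact Submodule.smul_mono (le_refl J) le_top this

/-- A compatible map mod a high power of `I` agrees mod `I` with a linear map. -/
theorem exists_lift {A : Type u} [CommRing A] [IsNoetherianRing A] (I : Ideal A)
    (M N : Type u) [AddCommGroup M] [Module A M] [Module.Finite A M] [AddCommGroup N] [Module A N]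
    [Module.Finite A N]
    (h : ∀ n : ℕ, Nonempty ((M ⧸ (I ^ n • ⊤ : Submodule A M)) ≃ₗ[A] (N ⧸ (I ^ n • ⊤ : Submodule A N)))) :
    ∃ f : M →ₗ[A] N, Function.Surjective ((Submodule.mkQ (I • ⊤ : Submodule A N)) ∘ₗ f) := by
  classical
  obtain ⟨g, π, hπ⟩ := Module.Finite.exists_fin' A M
  obtain ⟨r, k, hk⟩ := Submodule.fg_iff_exists_fin_generating_family.1
    (IsNoetherian.noetherian (LinearMap.ker π))
  let d : (Fin g → N) →ₗ[A] (Fin r → N) := LinearMap.pi fun j => ∑ i, k j i • LinearMap.proj i
  obtain ⟨c, hc⟩ := Ideal.exists_pow_inf_eq_pow_smul I (LinearMap.range d)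
  obtain ⟨e⟩ := h (c + 1)
  let x : Fin g → N := fun i => (Submodule.Quotient.mk_surjective _
    (e (Submodule.Quotient.mk (π (Pi.single i 1))))).choose
  have hx : ∀ i, Submodule.Quotient.mk (x i) = e (Submodule.Quotient.mk (π (Pi.single i 1))) :=
    fun i => (Submodule.Quotient.mk_surjective _ _).choose_spec
  have hxe : ∀ v : Fin g → A, Submodule.Quotient.mk (∑ i, v i • x i) = e (Submodule.Quotient.mk (π v)) := by
    intro v
    conv_rhs => rw [show π v = ∑ i, v i • π (Pi.single i 1) from by
      rw [← pi_eq_sum_univ' v |> congrArg π |>.symm]; simp]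
    simp only [← Submodule.mkQ_apply, map_sum, map_smul]
    simp only [Submodule.mkQ_apply, hx]
  have hdx : d x ∈ (I ^ (c + 1) • ⊤ : Submodule A (Fin r → N)) ⊓ LinearMap.range d := by
    refine ⟨(pi_mem_smul_top _ _).2 fun j => ?_, x, rfl⟩
    rw [← Submodule.Quotient.mk_eq_zero]
    simp only [d, LinearMap.pi_apply, LinearMap.sum_apply, LinearMap.smul_apply, LinearMap.proj_apply]
    rw [hxe, show π (k j) = 0 from hk.le (Submodule.subset_span ⟨j, rfl⟩), Submodule.Quotient.mk_zero,
      map_zero]
  rw [hc (c + 1) (by omega), show c + 1 - c = 1 by omega, pow_one] at hdx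
  have hdx' := Submodule.smul_mono (le_refl I) inf_le_right hdx
  rw [← Submodule.map_top, ← Submodule.map_smul''] at hdx'
  obtain ⟨z, hz, hdz⟩ := hdx'
  let y : (Fin g → A) →ₗ[A] N := Fintype.linearCombination A (fun i => x i - z i)
  have hker : LinearMap.ker π ≤ LinearMap.ker y := by
    rw [← hk, Submodule.span_le]
    rintro _ ⟨j, rfl⟩
    have := congrFun hdz j
    simp only [d, LinearMap.pi_apply, LinearMap.sum_apply, LinearMap.smul_apply, LinearMap.proj_apply] at this
    simp [y, Fintype.linearCombination_apply, smul_sub, Finset.sum_sub_distrib, this]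
  refine ⟨(Submodule.liftQ _ y hker) ∘ₗ (π.quotKerEquivOfSurjective hπ).symm.toLinearMap, fun q => ?_⟩
  obtain ⟨w, rfl⟩ := Submodule.Quotient.mk_surjective _ q
  obtain ⟨p, hp⟩ := e.surjective (Submodule.Quotient.mk w)
  obtain ⟨u, rfl⟩ := Submodule.Quotient.mk_surjective _ p
  obtain ⟨v, rfl⟩ := hπ u
  rw [← hxe] at hp
  refine ⟨π v, ?_⟩
  have hv : (π.quotKerEquivOfSurjective hπ).symm (π v) = Submodule.Quotient.mk v :=
    (LinearEquiv.symm_apply_eq _).2 rfl
  simp only [LinearMap.comp_apply, LinearEquiv.coe_coe, hv, Submodule.liftQ_apply, Submodule.mkQ_apply]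
  rw [Submodule.Quotient.eq]
  have h1 : (∑ i, v i • x i) - w ∈ (I • ⊤ : Submodule A N) :=
    Submodule.smul_mono_left (Ideal.pow_le_self (by omega)) ((Submodule.Quotient.eq _).1 hp)
  have h2 : ∑ i, v i • z i ∈ (I • ⊤ : Submodule A N) :=
    sum_mem fun i _ => Submodule.smul_mem _ _ ((pi_mem_smul_top I z).1 hz i)
  convert sub_mem h1 h2 using 1
  simp only [y, Fintype.linearCombination_apply, smul_sub, Finset.sum_sub_distrib]
  abel

/-- Let A be a Noetherian ring, I an ideal and M, N finite A-modules. If M/IⁿM and N/IⁿN are isomorphic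
for every n, then the I-adic completions of M and N are isomorphic as modules over the I-adic
completion of A. -/
theorem result (A : Type u) [CommRing A] [IsNoetherianRing A] (I : Ideal A)
    (M N : Type u) [AddCommGroup M] [Module A M] [Module.Finite A M] [AddCommGroup N] [Module A N]
    [Module.Finite A N]
    (h : ∀ n : ℕ, Nonempty ((M ⧸ (I ^ n • ⊤ : Submodule A M)) ≃ₗ[A] (N ⧸ (I ^ n • ⊤ : Submodule A N)))) :
    Nonempty (AdicCompletion I M ≃ₗ[AdicCompletion I A] AdicCompletion I N) := by
  obtain ⟨f, hf⟩ := exists_lift I M N h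
  obtain ⟨g, hg⟩ := exists_lift I N M fun n => (h n).map LinearEquiv.symm
  haveI : Module.Finite (AdicCompletion I A) (AdicCompletion I M) :=
    Module.Finite.equiv (AdicCompletion.ofTensorProductEquivOfFiniteNoetherian I M)
  have hf' := AdicCompletion.map_surjective_of_mkQ_comp_surjective hf
  have hg' := AdicCompletion.map_surjective_of_mkQ_comp_surjective hg
  have hinj : Function.Injective ((AdicCompletion.map I g) ∘ₗ (AdicCompletion.map I f)) :=
    OrzechProperty.injective_of_surjective_endomorphism _ (hg'.comp hf')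
  refine ⟨LinearEquiv.ofBijective (AdicCompletion.map I f) ⟨?_, hf'⟩⟩
  rw [LinearMap.coe_comp] at hinj
  exact hinj.of_comp

end Groth.Agent.S7135
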