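import Groth.Statements.S7136
import Mathlib.RingTheory.Filtration
import Mathlib.LinearAlgebra.StdBasis

set_option autoImplicit false
universe u
open CAlg

namespace Groth.Agent.S7136

/-- Let A be a Noetherian ring, I an ideal, and M, N finite A-modules; write N_n = N/IⁿN, so that
Hom_A(M/IⁿM, N_n) = Hom_A(M, N_n). Then (1) the inverse system (Hom_A(M, N_n))_n, with transition
maps induced by the projections N_k → N_n, is Mittag-Leffler; (2) there is c ≥ 0 such that for all n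
the kernel and the cokernel of Hom_A(M, N)/IⁿHom_A(M, N) → Hom_A(M, N_n) are annihilated by I^c. -/
theorem result (A : Type u) [CommRing A] [IsNoetherianRing A]
    (I : Ideal A) (M N : Type u) [AddCommGroup M] [Module A M] [Module.Finite A M] [AddCommGroup N] [Module A N]
    [Module.Finite A N] :
    let Nq : ℕ → Submodule A N := fun n => I ^ n • ⊤
    let pr : ∀ n k : ℕ, n ≤ k → (N ⧸ Nq k) →ₗ[A] (N ⧸ Nq n) :=
      fun n k hnk => Submodule.mapQ (Nq k) (Nq n) (LinearMap.id : N →ₗ[A] N) (Submodule.smul_mono_left (Ideal.pow_le_pow_right hnk))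
    let red : ∀ n : ℕ, (M →ₗ[A] N) → (M →ₗ[A] N ⧸ Nq n) := fun n φ => (Nq n).mkQ ∘ₗ φ
    (∀ n : ℕ, ∃ m : ℕ, n ≤ m ∧ ∀ (k : ℕ) (hmk : m ≤ k) (hnm : n ≤ m) (ψ : M →ₗ[A] N ⧸ Nq m),
        ∃ ψ' : M →ₗ[A] N ⧸ Nq k, pr n k (hnm.trans hmk) ∘ₗ ψ' = pr n m hnm ∘ₗ ψ) ∧
    ∃ c : ℕ, ∀ n : ℕ,
      (∀ φ : M →ₗ[A] N, red n φ = 0 → ∀ a ∈ I ^ c, a • φ ∈ (I ^ n • ⊤ : Submodule A (M →ₗ[A] N))) ∧
      (∀ (ψ : M →ₗ[A] N ⧸ Nq n), ∀ a ∈ I ^ c, ∃ φ : M →ₗ[A] N, red n φ = a • ψ) := by
  intro Nq pr red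
  classical
  have hpi : ∀ (ι : Type u) [Fintype ι] [DecidableEq ι] (J : Ideal A) (x : ι → N),
      x ∈ (J • ⊤ : Submodule A (ι → N)) ↔ ∀ i, x i ∈ (J • ⊤ : Submodule A N) := by
    intro ι _ _ J x
    refine ⟨fun hx i => ?_, fun hx => ?_⟩
    · have h := Submodule.mem_map_of_mem (f := (LinearMap.proj i : (ι → N) →ₗ[A] N)) hx
      rw [Submodule.map_smul''] at h
      exact Submodule.smul_mono le_rfl le_top h
    · rw [← Finset.univ_sum_single x]
      refine Submodule.sum_mem _ fun i _ => ?_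
      have h := Submodule.mem_map_of_mem (f := LinearMap.single A (fun _ : ι => N) i) (hx i)
      rw [Submodule.map_smul''] at h
      exact Submodule.smul_mono le_rfl le_top h
  obtain ⟨r, π, hπ⟩ := Module.Finite.exists_fin' A M
  obtain ⟨S, hS⟩ : (LinearMap.ker π).FG := IsNoetherian.noetherian _
  let R : Type u := ULift.{u} (Fin r)
  let bl : Module.Basis R A (Fin r → A) := (Pi.basisFun A (Fin r)).reindex Equiv.ulift.symm
  let ext : (R → N) →ₗ[A] ((Fin r → A) →ₗ[A] N) := (bl.constr A).toLinearMap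
  let β : (R → N) →ₗ[A] ({g // g ∈ S} → N) :=
    LinearMap.pi fun g => (LinearMap.applyₗ g.1).comp ext
  let e : (M →ₗ[A] N) →ₗ[A] (R → N) := LinearMap.pi fun i => LinearMap.applyₗ (π (bl i))
  have hexte : ∀ φ, ext (e φ) = φ.comp π := fun φ => bl.ext fun i => by
    simp only [ext, e, LinearEquiv.coe_coe, Module.Basis.constr_basis, LinearMap.pi_apply,
      LinearMap.applyₗ_apply_apply, LinearMap.comp_apply]
  have heinj : Function.Injective e := fun φ φ' h => LinearMap.ext fun x => by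
    obtain ⟨y, rfl⟩ := hπ x
    have := LinearMap.congr_fun ((hexte φ).symm.trans ((congrArg ext h).trans (hexte φ'))) y
    exact this
  have hdesc : ∀ y, β y = 0 → ∃ φ, e φ = y := by
    intro y hy
    have hle : LinearMap.ker π ≤ LinearMap.ker (ext y) := by
      rw [← hS, Submodule.span_le]
      intro g hg
      exact congrFun hy ⟨g, hg⟩
    refine ⟨(Submodule.liftQ _ (ext y) hle).comp (LinearMap.quotKerEquivOfSurjective π hπ).symm.toLinearMap,
      funext fun i => ?_⟩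
    have : (LinearMap.quotKerEquivOfSurjective π hπ).symm (π (bl i)) = Submodule.Quotient.mk (bl i) := by
      rw [LinearEquiv.symm_apply_eq]; rfl
    change Submodule.liftQ _ (ext y) hle ((LinearMap.quotKerEquivOfSurjective π hπ).symm (π (bl i))) = y i
    rw [this, Submodule.liftQ_apply]
    exact Module.Basis.constr_basis _ _ _ _
  obtain ⟨k₁, hk₁⟩ := Ideal.exists_pow_inf_eq_pow_smul I (LinearMap.range β)
  obtain ⟨k₂, hk₂⟩ := Ideal.exists_pow_inf_eq_pow_smul I (LinearMap.range e)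
  let c := k₁ + k₂ + 1
  -- lifts of homomorphisms to the quotient
  have hlift : ∀ (m : ℕ) (ψ : M →ₗ[A] N ⧸ Nq m), ∃ y : R → N,
      β y ∈ (I ^ m • ⊤ : Submodule A ({g // g ∈ S} → N)) ∧ ∀ i, (Nq m).mkQ (y i) = ψ (π (bl i)) := by
    intro m ψ
    choose y hy using fun i => (Nq m).mkQ_surjective (ψ (π (bl i)))
    refine ⟨y, (hpi _ _ _).2 fun g => ?_, hy⟩
    have h1 : (Nq m).mkQ ∘ₗ ext y = ψ ∘ₗ π := bl.ext fun i => by
      simp only [ext, LinearEquiv.coe_coe, Module.Basis.constr_basis, LinearMap.comp_apply, hy]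
    have hg : π g.1 = 0 := by
      have : g.1 ∈ LinearMap.ker π := by rw [← hS]; exact Submodule.subset_span g.2
      exact this
    have h2 : (Nq m).mkQ (ext y g.1) = 0 := (LinearMap.congr_fun h1 g.1).trans (by
      rw [LinearMap.comp_apply, hg, map_zero])
    exact (Submodule.Quotient.mk_eq_zero _).1 h2
  have key : ∀ (n : ℕ) (y : R → N), β y ∈ (I ^ (n + c) • ⊤ : Submodule A ({g // g ∈ S} → N)) →
      ∃ φ, ∀ i, y i - e φ i ∈ Nq n := by
    intro n y hy
    have h : β y ∈ (I ^ (n + c) • ⊤ : Submodule A ({g // g ∈ S} → N)) ⊓ LinearMap.range β := ⟨hy, ⟨y, rfl⟩⟩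
    rw [hk₁ (n + c) (by omega)] at h
    have h' : β y ∈ I ^ n • LinearMap.range β :=
      Submodule.smul_mono (Ideal.pow_le_pow_right (by omega)) inf_le_right h
    rw [← Submodule.map_top, ← Submodule.map_smul''] at h'
    obtain ⟨w, hw, hwy⟩ := h'
    obtain ⟨φ, hφ⟩ := hdesc (y - w) (by rw [map_sub, hwy, sub_self])
    exact ⟨φ, fun i => by rw [hφ, Pi.sub_apply, sub_sub_cancel]; exact (hpi R _ _).1 hw i⟩
  have hext2 : ∀ (n : ℕ) (u v : M →ₗ[A] N ⧸ Nq n), (∀ i, u (π (bl i)) = v (π (bl i))) → u = v :=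
    fun n u v h => LinearMap.ext fun x => by
      obtain ⟨y, rfl⟩ := hπ x
      exact LinearMap.congr_fun (bl.ext h : u.comp π = v.comp π) y
  refine ⟨fun n => ⟨n + c, Nat.le_add_right _ _, fun k hmk hnm ψ => ?_⟩, c, fun n => ⟨?_, ?_⟩⟩
  · obtain ⟨y, hy, hyψ⟩ := hlift _ ψ
    obtain ⟨φ, hφ⟩ := key n y hy
    refine ⟨red k φ, hext2 n _ _ fun i => ?_⟩
    rw [LinearMap.comp_apply, LinearMap.comp_apply (pr n (n + c) hnm), ← hyψ i]
    exact ((Submodule.Quotient.eq _).2 (hφ i)).symm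
  · intro φ hφ a ha
    have hmem : e φ ∈ (I ^ n • ⊤ : Submodule A (R → N)) :=
      (hpi R _ _).2 fun i => (Submodule.Quotient.mk_eq_zero _).1 (LinearMap.congr_fun hφ (π (bl i)))
    have : e (a • φ) ∈ (I ^ n • ⊤ : Submodule A (M →ₗ[A] N)).map e := by
      rw [Submodule.map_smul'', Submodule.map_top, map_smul]
      rcases le_or_gt k₂ n with hn | hn
      · have h : e φ ∈ (I ^ n • ⊤ : Submodule A (R → N)) ⊓ LinearMap.range e := ⟨hmem, ⟨φ, rfl⟩⟩
        rw [hk₂ n hn] at h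
        have h' : e φ ∈ I ^ (n - k₂) • LinearMap.range e := Submodule.smul_mono le_rfl inf_le_right h
        have := Submodule.smul_mem_smul ha h'
        rw [← Submodule.mul_smul, ← pow_add] at this
        exact Submodule.smul_mono_left (Ideal.pow_le_pow_right (by omega)) this
      · exact Submodule.smul_mono_left (Ideal.pow_le_pow_right (by omega))
          (Submodule.smul_mem_smul ha ⟨φ, rfl⟩)
    obtain ⟨φ', hφ', he⟩ := this
    exact heinj he ▸ hφ'
  · intro ψ a ha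
    obtain ⟨y, hy, hyψ⟩ := hlift n ψ
    obtain ⟨φ, hφ⟩ := key n (a • y) (by
      rw [map_smul, add_comm, pow_add, Submodule.mul_smul]
      exact Submodule.smul_mem_smul ha hy)
    refine ⟨φ, hext2 n _ _ fun i => ?_⟩
    rw [LinearMap.smul_apply, ← hyψ i, ← map_smul]
    exact ((Submodule.Quotient.eq _).2 (hφ i)).symm

end Groth.Agent.S7136
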