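import Groth.Statements.S7137
import Groth.Agent.S0604
import Groth.Agent.LocH.DepthMisc
import Groth.Agent.LocH.Depth
import Groth.Agent.PdQuot

set_option autoImplicit false
universe u
open CategoryTheory
open CAlg Groth.Agent

namespace Groth.Agent.S7137

theorem exists_pd_eq (A : Type u) [CommRing A] (M : Type u) [AddCommGroup M] [Module A M] [Nontrivial M]
    (h : projectiveDimension (ModuleCat.of A M) ≠ ⊤) :
    ∃ n : ℕ, projectiveDimension (ModuleCat.of A M) = n := by
  cases hp : projectiveDimension (ModuleCat.of A M) with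
  | bot => exact absurd (ModuleCat.subsingleton_of_isZero ((projectiveDimension_eq_bot_iff _).1 hp)) (not_subsingleton M)
  | coe x =>
    have hx : x ≠ ⊤ := fun hx => h (by rw [hp, hx]; rfl)
    obtain ⟨n, rfl⟩ := ENat.ne_top_iff_exists.1 hx
    exact ⟨n, rfl⟩

/-- Take a Noetherian local ring R, an ideal I and a finite module E ≠ 0 over R/I. Suppose that R/I, as
an R-module, and E, as an R/I-module, both have finite projective dimension. Then E, as an R-module,
has finite projective dimension too, and it equals pd_R(R/I) + pd_{R/I}(E). -/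
theorem result (R : Type u) [CommRing R] [IsNoetherianRing R] [IsLocalRing R]
    (I : Ideal R) (E : Type u) [AddCommGroup E] [Module (R ⧸ I) E] [Module R E] [IsScalarTower R (R ⧸ I) E]
    [Module.Finite (R ⧸ I) E] [Nontrivial E]
    (h1 : projectiveDimension (ModuleCat.of R (R ⧸ I)) ≠ ⊤)
    (h2 : projectiveDimension (ModuleCat.of (R ⧸ I) E) ≠ ⊤) :
    projectiveDimension (ModuleCat.of R E) ≠ ⊤ ∧
      projectiveDimension (ModuleCat.of R E) =
        projectiveDimension (ModuleCat.of R (R ⧸ I)) + projectiveDimension (ModuleCat.of (R ⧸ I) E) := by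
  haveI : Nontrivial (R ⧸ I) := Module.nontrivial (R ⧸ I) E
  haveI : IsLocalRing (R ⧸ I) := IsLocalRing.of_surjective' (Ideal.Quotient.mk I) Ideal.Quotient.mk_surjective
  haveI : Module.Finite R E := Module.Finite.trans (R ⧸ I) E
  obtain ⟨a, ha⟩ := exists_pd_eq R (R ⧸ I) h1
  obtain ⟨b, hb⟩ := exists_pd_eq (R ⧸ I) E h2
  have hab : SerreReg.PdLE R E (a + b) := PdQuot.pdLE_restrict ((projectiveDimension_le_iff _ a).1 ha.le) b E
    ((projectiveDimension_le_iff _ b).1 hb.le)
  have hne : projectiveDimension (ModuleCat.of R E) ≠ ⊤ := (projectiveDimension_ne_top_iff _).2 ⟨a + b, hab⟩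
  obtain ⟨c, hc⟩ := exists_pd_eq R E hne
  refine ⟨hne, ?_⟩
  have hm : (IsLocalRing.maximalIdeal R).map (algebraMap R (R ⧸ I)) = IsLocalRing.maximalIdeal (R ⧸ I) :=
    IsLocalRing.map_maximalIdeal_of_surjective (Ideal.Quotient.mk I) Ideal.Quotient.mk_surjective
  have hQ : LocCoh.depth R (R ⧸ I) = LocCoh.depth (R ⧸ I) (R ⧸ I) := by
    rw [LocCoh.depth, LocCoh.depth, ← hm]; exact LocH.idealDepth_map_eq _ _
  have hE : LocCoh.depth R E = LocCoh.depth (R ⧸ I) E := by
    rw [LocCoh.depth, LocCoh.depth, ← hm]; exact LocH.idealDepth_map_eq _ _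
  have e1 := Groth.Agent.S0604.result R (R ⧸ I) a ha
  have e2 := Groth.Agent.S0604.result (R ⧸ I) E b hb
  have e3 := Groth.Agent.S0604.result R E c hc
  rw [hQ, e2, ← hE, e3, ← add_assoc] at e1
  have hdne : LocCoh.depth R E ≠ ⊤ := LocH.idealDepth_ne_top (Submodule.top_ne_ideal_smul_of_le_jacobson_annihilator
    (IsLocalRing.maximalIdeal_le_jacobson _)).symm
  obtain ⟨d, hd⟩ := ENat.ne_top_iff_exists.1 hdne
  rw [← hd] at e1
  have hcab : c = a + b := Nat.add_right_cancel (show c + d = a + b + d by exact_mod_cast e1)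
  rw [hc, ha, hb, hcab, Nat.cast_add]

end Groth.Agent.S7137
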