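import Groth.Statements.S7140
import Mathlib

set_option autoImplicit false
universe u
open EtAlg

namespace Groth.Agent.S7140

open Polynomial in
/-- Let p be a prime and A a ring with an element ζ satisfying 1 + ζ + ... + ζ^(p-1) = 0 (so that A is
an algebra over the ring of integers of the p-th cyclotomic field); set w = 1 - ζ. Then the
polynomial ((1 + wz)^p - 1)/w^p makes sense in A[z]: there is P in A[z] with w^p·P = (1 + wz)^p - 1,
of the form z^p - z + Σ_{0<i<p} a_i z^i with all a_i in the ideal (w), and P(z₁ + z₂ + w z₁ z₂) =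
P(z₁) + P(z₂) + w^p P(z₁)P(z₂) for all z₁, z₂ in any A-algebra. (The published statement asks only
for a primitive p-th root of unity; this row asks that ζ be a root of the p-th cyclotomic
polynomial, the case its proof treats. With ζ only of multiplicative order p the published statement
fails, for example for ζ = (1, e^{2πi/p}) in ℂ × ℂ.) -/
theorem result (p : ℕ) (hp : p.Prime) (A : Type u) [CommRing A] (ζ : A)
    (hζ : aeval ζ (cyclotomic p ℤ) = 0) :
    ∃ P : A[X], C ((1 - ζ) ^ p) * P = (1 + C (1 - ζ) * X) ^ p - 1 ∧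
      (∃ a : ℕ → A, (∀ i, a i ∈ Ideal.span {1 - ζ}) ∧
        P = X ^ p - X + (Finset.Ioo 0 p).sum (fun i => C (a i) * X ^ i)) ∧
      ∀ (S : Type u) [CommRing S] [Algebra A S] (z₁ z₂ : S),
        aeval (z₁ + z₂ + algebraMap A S (1 - ζ) * z₁ * z₂) P =
          aeval z₁ P + aeval z₂ P + algebraMap A S ((1 - ζ) ^ p) * aeval z₁ P * aeval z₂ P := by
  classical
  obtain ⟨n, rfl⟩ : ∃ n, p = n + 1 := ⟨p - 1, by have := hp.pos; omega⟩
  haveI : Fact (n + 1).Prime := ⟨hp⟩
  let R₀ := AdjoinRoot (cyclotomic (n + 1) ℤ)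
  let z₀ : R₀ := AdjoinRoot.root _
  have hirr : Irreducible (cyclotomic (n + 1) ℤ) := cyclotomic.irreducible hp.pos
  haveI : IsDomain R₀ := AdjoinRoot.isDomain_of_prime hirr.prime
  have hinj : Function.Injective (algebraMap ℤ R₀) :=
    AdjoinRoot.of.injective_of_degree_ne_zero (by
      rw [degree_cyclotomic]; exact_mod_cast (Nat.totient_pos.2 hp.pos).ne')
  haveI : CharZero R₀ := charZero_of_injective_algebraMap hinj
  haveI : NeZero (((n + 1) : ℕ) : R₀) := ⟨Nat.cast_ne_zero.2 hp.ne_zero⟩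
  have hprim : IsPrimitiveRoot z₀ (n + 1) := by
    rw [← isRoot_cyclotomic_iff, ← map_cyclotomic_int (n + 1) R₀, IsRoot.def, eval_map]
    have h := AdjoinRoot.eval₂_root (cyclotomic (n + 1) ℤ)
    rw [show AdjoinRoot.of (cyclotomic (n + 1) ℤ) = Int.castRingHom R₀ from RingHom.ext_int _ _] at h
    exact h
  let l₀ : R₀ := 1 - z₀
  let c : R₀ := ∏ k ∈ Finset.range n, ∑ j ∈ Finset.range (k + 1), z₀ ^ j
  have hpc : ((n + 1) : R₀) = l₀ ^ n * c := by
    have h := IsPrimitiveRoot.prod_one_sub_pow_eq_order hprim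
    push_cast at h ⊢
    rw [← h]
    have : ∀ k, 1 - z₀ ^ (k + 1) = l₀ * ∑ j ∈ Finset.range (k + 1), z₀ ^ j := fun k => (mul_neg_geom_sum _ _).symm
    simp only [this, Finset.prod_mul_distrib, Finset.prod_const, Finset.card_range, c]
  let I : Ideal R₀ := Ideal.span {l₀}
  have hl0 : Ideal.Quotient.mk I z₀ = 1 := by
    rw [← map_one (Ideal.Quotient.mk I), eq_comm, Ideal.Quotient.eq]
    exact Ideal.mem_span_singleton_self _
  have hpI : ((n + 1) : R₀) ∈ I := by
    rw [hpc]
    exact Ideal.mul_mem_right _ _ (Ideal.pow_mem_of_mem _ (Ideal.mem_span_singleton_self _) _ (by have := hp.two_le; omega))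
  have hc : c + 1 ∈ I := by
    rw [← Ideal.Quotient.eq_zero_iff_mem, map_add, map_one]
    simp only [c, map_prod, map_sum, map_pow, hl0, one_pow, Finset.sum_const, Finset.card_range, nsmul_eq_mul,
      mul_one]
    rw [← Nat.cast_prod, Finset.prod_range_add_one_eq_factorial]
    have hw : ((Nat.factorial n + 1 : ℕ) : ZMod (n + 1)) = 0 := by
      have := ZMod.wilsons_lemma (n + 1)
      simp only [Nat.add_sub_cancel] at this
      push_cast; rw [this]; exact neg_add_cancel 1
    obtain ⟨e, he⟩ := (ZMod.natCast_eq_zero_iff _ _).1 hw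
    have h0 : (((n + 1) : ℕ) : R₀ ⧸ I) = 0 := by
      rw [← map_natCast (Ideal.Quotient.mk I), Ideal.Quotient.eq_zero_iff_mem, Nat.cast_add_one]; exact hpI
    have h1 := congrArg (fun k : ℕ => (k : R₀ ⧸ I)) he
    simp only [Nat.cast_mul, h0, zero_mul, Nat.cast_add_one] at h1
    exact h1
  let a₀ : ℕ → R₀ := fun i => if i = 1 then c + 1 else (((n + 1).choose i / (n + 1) : ℕ) : R₀) * c * l₀ ^ (i - 1)
  have ha₀ : ∀ i, 1 ≤ i → a₀ i ∈ I := fun i hi => by
    by_cases h1 : i = 1
    · simp only [a₀, if_pos h1]; exact hc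
    · simp only [a₀, if_neg h1]
      exact Ideal.mul_mem_left _ _ (Ideal.pow_mem_of_mem _ (Ideal.mem_span_singleton_self _) _ (by omega))
  let P₀ : R₀[X] := X ^ (n + 1) - X + (Finset.Ioo 0 (n + 1)).sum (fun i => C (a₀ i) * X ^ i)
  have hP₀ : C (l₀ ^ (n + 1)) * P₀ = (1 + C l₀ * X) ^ (n + 1) - 1 := by
    rw [add_comm (1 : R₀[X]), add_pow, Finset.sum_range_succ]
    simp only [one_pow, mul_one, Nat.choose_self, Nat.cast_one, mul_pow, ← map_pow]
    rw [Finset.range_eq_Ico, Finset.sum_eq_sum_Ico_succ_bot hp.pos, show Finset.Ico (0 + 1) (n + 1) = Finset.Ioo 0 (n + 1) from rfl]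
    simp only [pow_zero, map_one, Nat.choose_zero_right, Nat.cast_one, mul_one]
    have hX : (C (l₀ ^ (n + 1)) * X : R₀[X]) = ∑ i ∈ Finset.Ioo 0 (n + 1), (if i = 1 then C (l₀ ^ (n + 1)) * X else 0) := by
      rw [Finset.sum_ite_eq' _ 1, if_pos (Finset.mem_Ioo.2 ⟨Nat.one_pos, hp.one_lt⟩)]
    have hterm : ∀ i ∈ Finset.Ioo 0 (n + 1), C (l₀ ^ (n + 1)) * (C (a₀ i) * X ^ i) - (if i = 1 then C (l₀ ^ (n + 1)) * X else 0) =
        C (l₀ ^ i) * X ^ i * ((n + 1).choose i : R₀[X]) := by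
      intro i hi
      obtain ⟨hi1, hi2⟩ := Finset.mem_Ioo.1 hi
      have hch : ((n + 1).choose i : R₀) = (((n + 1).choose i / (n + 1) : ℕ) : R₀) * (l₀ ^ n * c) := by
        rw [← hpc, ← Nat.cast_add_one, ← Nat.cast_mul, Nat.div_mul_cancel (hp.dvd_choose_self (by omega) hi2)]
      rw [← map_natCast (C : R₀ →+* R₀[X]), hch]
      by_cases h1 : i = 1
      · subst h1
        simp only [if_pos, a₀, Nat.choose_one_right, Nat.div_self hp.pos, Nat.cast_one, one_mul, pow_one]
        rw [show l₀ ^ (n + 1) = l₀ ^ n * l₀ by rw [pow_succ]]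
        simp only [map_mul, map_add, map_one]
        ring
      · simp only [if_neg h1, a₀, sub_zero]
        obtain ⟨j, rfl⟩ : ∃ j, i = j + 1 := ⟨i - 1, by omega⟩
        rw [show l₀ ^ (n + 1) = l₀ ^ n * l₀ by rw [pow_succ], Nat.add_sub_cancel]
        simp only [map_mul, map_pow]
        ring
    simp only [P₀, mul_add, mul_sub]
    rw [Finset.mul_sum, ← sub_eq_zero]
    have hs := Finset.sum_congr rfl hterm
    rw [Finset.sum_sub_distrib, ← hX] at hs
    linear_combination hs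
  have hlne : l₀ ≠ 0 := sub_ne_zero.2 (hprim.ne_one hp.one_lt).symm
  have haev : ∀ (T : Type) [CommRing T] [Algebra R₀ T] (w : T), algebraMap R₀ T (l₀ ^ (n + 1)) * aeval w P₀ = (1 + algebraMap R₀ T l₀ * w) ^ (n + 1) - 1 :=
    fun T _ _ w => by simpa using congrArg (aeval w) hP₀
  let T := MvPolynomial (Fin 2) R₀
  have hid : aeval (MvPolynomial.X 0 + MvPolynomial.X 1 + algebraMap R₀ T l₀ * MvPolynomial.X 0 * MvPolynomial.X 1) P₀ =
      aeval (MvPolynomial.X 0) P₀ + aeval (MvPolynomial.X 1) P₀ +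
        algebraMap R₀ T (l₀ ^ (n + 1)) * aeval (MvPolynomial.X 0) P₀ * aeval (MvPolynomial.X 1) P₀ := by
    have hne : algebraMap R₀ T (l₀ ^ (n + 1)) ≠ 0 :=
      (map_ne_zero_iff _ (MvPolynomial.C_injective _ _)).2 (pow_ne_zero _ hlne)
    apply mul_left_cancel₀ hne
    have e0 := haev T (MvPolynomial.X 0)
    have e1 := haev T (MvPolynomial.X 1)
    have es := haev T (MvPolynomial.X 0 + MvPolynomial.X 1 + algebraMap R₀ T l₀ * MvPolynomial.X 0 * MvPolynomial.X 1)
    rw [show 1 + algebraMap R₀ T l₀ * (MvPolynomial.X 0 + MvPolynomial.X 1 + algebraMap R₀ T l₀ * MvPolynomial.X 0 * MvPolynomial.X 1) =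
      (1 + algebraMap R₀ T l₀ * MvPolynomial.X 0) * (1 + algebraMap R₀ T l₀ * MvPolynomial.X 1) by ring, mul_pow] at es
    linear_combination es - e0 - e1 - (algebraMap R₀ T (l₀ ^ (n + 1)) * aeval (MvPolynomial.X 1 : T) P₀) * e0 -
      ((1 + algebraMap R₀ T l₀ * MvPolynomial.X 0) ^ (n + 1) - 1) * e1
  let φ : R₀ →+* A := AdjoinRoot.lift (Int.castRingHom A) ζ (by
    have h := hζ
    rw [aeval_def, show algebraMap ℤ A = Int.castRingHom A from RingHom.ext_int _ _] at h
    exact h)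
  have hφl : φ l₀ = 1 - ζ := by
    show φ (1 - z₀) = 1 - ζ
    rw [map_sub, map_one]
    exact congrArg (1 - ·) (AdjoinRoot.lift_root _)
  refine ⟨P₀.map φ, ?_, ⟨fun i => if i = 0 then 0 else φ (a₀ i), fun i => ?_, ?_⟩, ?_⟩
  · have := congrArg (Polynomial.map φ) hP₀
    simpa [hφl] using this
  · show (if i = 0 then 0 else φ (a₀ i)) ∈ Ideal.span {1 - ζ}
    by_cases h : i = 0
    · rw [if_pos h]; exact zero_mem _
    · rw [if_neg h]
      obtain ⟨d, hd⟩ := Ideal.mem_span_singleton.1 (ha₀ i (by omega))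
      rw [hd, map_mul, hφl]
      exact Ideal.mul_mem_right _ _ (Ideal.mem_span_singleton_self _)
  · simp only [P₀, Polynomial.map_add, Polynomial.map_sub, Polynomial.map_pow, Polynomial.map_X,
      Polynomial.map_sum, Polynomial.map_mul, Polynomial.map_C]
    congr 1
    refine Finset.sum_congr rfl fun i hi => ?_
    rw [if_neg (Finset.mem_Ioo.1 hi).1.ne']
  · intro S _ _ z₁ z₂
    let ψ : R₀ →+* S := (algebraMap A S).comp φ
    let ev : T →+* S := MvPolynomial.eval₂Hom ψ ![z₁, z₂]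
    have hC : ∀ r, ev (algebraMap R₀ T r) = algebraMap A S (φ r) := fun r => MvPolynomial.eval₂Hom_C _ _ r
    have hX0 : ev (MvPolynomial.X 0) = z₁ := MvPolynomial.eval₂Hom_X' _ _ _
    have hX1 : ev (MvPolynomial.X 1) = z₂ := MvPolynomial.eval₂Hom_X' _ _ _
    have hev : ∀ w : T, ev (aeval w P₀) = aeval (ev w) (P₀.map φ) := fun w => by
      rw [aeval_def, hom_eval₂, aeval_def, eval₂_map]
      congr 1
      exact RingHom.ext hC
    have h := congrArg ev hid
    simp only [map_add, map_mul, map_pow, hev, hC, hφl, hX0, hX1] at h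
    simpa only [map_pow] using h

end Groth.Agent.S7140
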