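import Groth.Statements.S7141
import Groth.Agent.WEtField.Basic

set_option autoImplicit false
set_option backward.isDefEq.respectTransparency false
set_option backward.isDefEq.respectTransparency.types false
set_option linter.style.haveILetI false
set_option synthInstance.maxHeartbeats 200000
universe u
open EtAlg

namespace Groth.Agent.S7141

/-- Let K be a field and, for a K-algebra A, let B_max(A) be its largest weakly étale K-subalgebra. (2)
For a K-subalgebra A' ⊆ A one has B_max(A') = B_max(A) ∩ A'. (4) The quotient map A → A_red =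
A/nilradical restricts to a bijection B_max(A) → B_max(A_red). (6) If A ≠ 0 and its only idempotents
are 0 and 1, then B_max(A) is a field, algebraic and separable over K. (The published statement
omits A ≠ 0; this row assumes it, since for A = 0 the largest weakly étale subalgebra is the zero
ring.) -/
theorem result (K : Type u) [Field K] (A : Type u) [CommRing A] [Algebra K A] :
    (∀ A' : Subalgebra K A,
      (EtAlgD.maxWeaklyEtale K A').map A'.val = EtAlgD.maxWeaklyEtale K A ⊓ A') ∧
    (Set.BijOn (Ideal.Quotient.mkₐ K (nilradical A)) (EtAlgD.maxWeaklyEtale K A)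
      (EtAlgD.maxWeaklyEtale K (A ⧸ nilradical A))) ∧
    ((∀ e : A, IsIdempotentElem e → e = 0 ∨ e = 1) → Nontrivial A →
      IsField (EtAlgD.maxWeaklyEtale K A) ∧ Algebra.IsSeparable K (EtAlgD.maxWeaklyEtale K A)) := by
  have hmem : ∀ {R : Type u} [CommRing R] [Algebra K R] (b : R),
      b ∈ EtAlgD.maxWeaklyEtale K R ↔ Groth.Agent.WEtField.IsSepElem K b :=
    fun b => Groth.Agent.WEtField.mem_maxWeaklyEtale_iff b
  haveI : Algebra.WeaklyEtale K (EtAlgD.maxWeaklyEtale K A) := Groth.Agent.WEtField.weaklyEtale_of_forall fun x =>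
    (Groth.Agent.WEtField.isSepElem_subalgebra _ x).mpr ((hmem _).mp x.2)
  haveI : IsReduced (EtAlgD.maxWeaklyEtale K A) := Groth.Agent.WeakEt.isReduced_of_weaklyEtale K _
  refine ⟨fun A' => SetLike.ext fun a => ?_, ⟨fun a ha => (hmem _).mpr (((hmem a).mp ha).map _),
    fun a ha b hb hab => ?_, fun y hy => ?_⟩, fun hid hnt => ?_⟩
  · rw [Algebra.mem_inf, Subalgebra.mem_map]
    constructor
    · rintro ⟨x, hx, rfl⟩
      exact ⟨(hmem _).mpr (((hmem x).mp hx).map A'.val), x.2⟩
    · rintro ⟨ha, ha'⟩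
      exact ⟨⟨a, ha'⟩, (hmem _).mpr ((Groth.Agent.WEtField.isSepElem_subalgebra A' ⟨a, ha'⟩).mpr ((hmem a).mp ha)), rfl⟩
  · have hn : IsNilpotent (a - b) := mem_nilradical.mp (Ideal.Quotient.eq.mp hab)
    have h0 : (⟨a, ha⟩ - ⟨b, hb⟩ : EtAlgD.maxWeaklyEtale K A) = 0 := by
      obtain ⟨n, hn⟩ := hn
      exact IsReduced.eq_zero _ ⟨n, Subtype.ext (by simpa using hn)⟩
    exact congrArg Subtype.val (sub_eq_zero.mp h0)
  · obtain ⟨f, hf, hy0⟩ := (hmem y).mp hy
    obtain ⟨x, rfl⟩ := Ideal.Quotient.mkₐ_surjective K (nilradical A) y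
    rw [Polynomial.aeval_algHom_apply] at hy0
    have hn : IsNilpotent (Polynomial.aeval x f) := mem_nilradical.mp (Ideal.Quotient.eq_zero_iff_mem.mp hy0)
    have hu : IsUnit (Polynomial.aeval x (Polynomial.derivative f)) := by
      obtain ⟨a, b, hab⟩ := hf
      have h1 := congrArg (Polynomial.aeval x) hab
      simp only [map_add, map_mul, map_one] at h1
      refine isUnit_of_mul_isUnit_right (x := Polynomial.aeval x b) ?_
      rw [show Polynomial.aeval x b * Polynomial.aeval x (Polynomial.derivative f) =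
        1 - Polynomial.aeval x a * Polynomial.aeval x f from eq_sub_of_add_eq' h1]
      exact IsNilpotent.isUnit_one_sub ((Commute.all _ _).isNilpotent_mul_left hn)
    obtain ⟨r, ⟨hxr, hr⟩, -⟩ := Polynomial.existsUnique_nilpotent_sub_and_aeval_eq_zero hn hu
    refine ⟨r, (hmem r).mpr ⟨f, hf, hr⟩, ?_⟩
    exact (Ideal.Quotient.eq.mpr (mem_nilradical.mpr hxr)).symm
  · refine ⟨⟨⟨0, 1, fun h => zero_ne_one (congrArg Subtype.val h)⟩, mul_comm, fun {a} ha => ?_⟩, ⟨fun x => ?_⟩⟩
    · obtain ⟨b, hb⟩ := Groth.Agent.WeakEt.exists_sq_mul_of_weaklyEtale (R := K)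
        (S := EtAlgD.maxWeaklyEtale K A) (fun c => ⟨c⁻¹, by rcases eq_or_ne c 0 with rfl | h <;> simp [*]⟩) a
      have he : IsIdempotentElem (a * b) := by
        change a * b * (a * b) = a * b
        calc a * b * (a * b) = a * a * b * b := by ring
          _ = a * b := by rw [hb]
      rcases hid (a * b : EtAlgD.maxWeaklyEtale K A).1 (congrArg Subtype.val he) with h0 | h1
      · exfalso
        refine ha ?_
        rw [← hb, mul_assoc, show a * b = 0 from Subtype.ext h0, mul_zero]
      · exact ⟨b, Subtype.ext h1⟩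
    · obtain ⟨f, hf, hx⟩ := (Groth.Agent.WEtField.isSepElem_subalgebra _ x).mpr ((hmem _).mp x.2)
      exact hf.of_dvd (minpoly.dvd K x hx)

end Groth.Agent.S7141
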