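import Groth.Statements.S7143
import Groth.Agent.S1968
import Mathlib

set_option autoImplicit false
universe u
open CategoryTheory
open EtAlg

namespace Groth.Agent.S7143

/-- Every normal domain A with fraction field K is the fibre product V ×_L K for suitable rings V and L
with maps A → V, V → L, K → L (together with the given A → K), where every ideal of V is flat (weak
dimension at most one) and V → L is flat, injective and an epimorphism of rings. -/
theorem result (A K : Type u) [CommRing A] [IsDomain A] [Field K] [Algebra A K]
    [IsFractionRing A K] [IsIntegrallyClosed A] :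
    ∃ (V L : Type u) (_ : CommRing V) (_ : CommRing L) (f : A →+* V) (g : V →+* L) (h : K →+* L),
      g.comp f = h.comp (algebraMap A K) ∧
      (∀ I : Ideal V, Module.Flat V I) ∧ g.Flat ∧ Function.Injective g ∧ Epi (CommRingCat.ofHom g) ∧
      ∀ (v : V) (k : K), g v = h k → ∃! a : A, f a = v ∧ algebraMap A K a = k := by
  classical
  let R : Subring K := (algebraMap A K).range
  let J := {W : ValuationSubring K // R ≤ W.toSubring}
  let V := (j : J) → ↥(j.1)
  let L := J → K
  obtain ⟨hflat, hloc⟩ := Groth.Agent.S1968.result (fun j : J => ↥(j.1)) (fun _ => K)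
  let f : A →+* V := Pi.ringHom fun j : J => (algebraMap A K).codRestrict j.1.toSubring fun a => j.2 ⟨a, rfl⟩
  refine ⟨V, L, inferInstance, inferInstance, f, algebraMap V L, Pi.ringHom fun _ => RingHom.id K, ?_, hflat, ?_, ?_, ?_, ?_⟩
  · ext a j; rfl
  · exact (RingHom.flat_algebraMap_iff (R := V) (S := L)).2 (IsLocalization.flat _ (nonZeroDivisors V))
  · intro v w h
    funext j
    exact Subtype.ext (congrFun h j)
  · refine ⟨fun {T} φ ψ e => CommRingCat.hom_ext (IsLocalization.ringHom_ext (nonZeroDivisors V) ?_)⟩
    exact congrArg CommRingCat.Hom.hom e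
  · intro v k hvk
    haveI : IsIntegrallyClosedIn R K := by
      rw [isIntegrallyClosedIn_iff]
      refine ⟨Subtype.val_injective, fun {x} hx => ?_⟩
      let e : A →+* R := (algebraMap A K).rangeRestrict
      have hA : IsIntegral A x := by
        obtain ⟨p, hp, hpx⟩ := hx
        have hs : Function.Surjective e := (algebraMap A K).rangeRestrict_surjective
        obtain ⟨q, hq, -, hqm⟩ := Polynomial.lifts_and_degree_eq_and_monic (f := e)
          ((Polynomial.lifts_iff_coeff_lifts p).2 fun n => hs (p.coeff n)) hp
        refine ⟨q, hqm, ?_⟩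
        rw [← hq, Polynomial.eval₂_map] at hpx
        exact hpx
      obtain ⟨a, ha⟩ := IsIntegrallyClosed.isIntegral_iff.1 hA
      exact ⟨⟨x, a, ha⟩, rfl⟩
    have hk : k ∈ R := by
      rw [Subring.eq_iInf_of_isIntegrallyClosedIn (R := R)]
      simp only [Subring.mem_iInf]
      intro W
      have h1 := congrFun hvk W
      have h2 : ((v W : ↥(W.1)) : K) = k := h1
      exact h2 ▸ (v W).2
    obtain ⟨a, ha⟩ := hk
    refine ⟨a, ⟨funext fun j => Subtype.ext ?_, ha⟩, fun b hb => IsFractionRing.injective A K (hb.2.trans ha.symm)⟩
    have h1 := congrFun hvk j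
    exact ha.trans h1.symm

end Groth.Agent.S7143
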