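import Groth.Statements.S7144
import Mathlib.RingTheory.Valuation.ValuationRing
import Mathlib.RingTheory.Bezout
import Mathlib.RingTheory.LocalRing.MaximalIdeal.Basic

set_option autoImplicit false
universe u
open CAlg

namespace Groth.Agent.S7144

/-- (1) ⇔ (2): let R be a nonzero ring. Then for all a, b in R one of a, b divides the other if and only
if R is local and every finitely generated ideal of R is principal. (The further equivalence with
the total ordering of the set of ideals by inclusion is standard and not restated here.) -/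
theorem result (R : Type u) [CommRing R] [Nontrivial R] :
    PreValuationRing R ↔ IsLocalRing R ∧ IsBezout R := by
  refine ⟨fun h => ⟨inferInstance, IsBezout.iff_span_pair_isPrincipal.2 fun a b => ?_⟩, fun ⟨_, _⟩ => PreValuationRing.iff_dvd_total.2 ⟨fun a b => ?_⟩⟩
  · rcases PreValuationRing.iff_dvd_total.1 h |>.total a b with h' | h'
    · exact ⟨a, le_antisymm (Ideal.span_le.2 (by rintro z (rfl | rfl); exacts [Ideal.mem_span_singleton_self _, Ideal.mem_span_singleton.2 h'])) ((Ideal.span_singleton_le_iff_mem _).2 (Ideal.subset_span (Or.inl rfl)))⟩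
    · exact ⟨b, le_antisymm (Ideal.span_le.2 (by rintro z (rfl | rfl); exacts [Ideal.mem_span_singleton.2 h', Ideal.mem_span_singleton_self _])) ((Ideal.span_singleton_le_iff_mem _).2 (Ideal.subset_span (Or.inr rfl)))⟩
  obtain ⟨d, hd⟩ := (IsBezout.span_pair_isPrincipal a b).principal
  have ha : a ∈ Submodule.span R {d} := hd ▸ Ideal.subset_span (Set.mem_insert a _)
  have hb : b ∈ Submodule.span R {d} := hd ▸ Ideal.subset_span (Set.mem_insert_of_mem a rfl)
  obtain ⟨x, rfl⟩ := Submodule.mem_span_singleton.1 ha
  obtain ⟨y, rfl⟩ := Submodule.mem_span_singleton.1 hb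
  obtain ⟨u, v, huv⟩ := Ideal.mem_span_pair.1 (hd ▸ Submodule.mem_span_singleton_self d : d ∈ Ideal.span {x • d, y • d})
  simp only [smul_eq_mul] at huv ⊢
  by_cases hx : IsUnit x
  · exact Or.inl (by rw [hx.mul_left_dvd]; exact dvd_mul_left d y)
  by_cases hy : IsUnit y
  · exact Or.inr (by rw [hy.mul_left_dvd]; exact dvd_mul_left d x)
  have h1 : IsUnit (1 - (u * x + v * y)) := IsLocalRing.isUnit_one_sub_self_of_mem_nonunits _
    ((IsLocalRing.maximalIdeal R).add_mem (Ideal.mul_mem_left _ _ hx) (Ideal.mul_mem_left _ _ hy))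
  have h2 : (1 - (u * x + v * y)) * d = 0 := by linear_combination -huv
  rw [h1.mul_right_eq_zero.1 h2, mul_zero, mul_zero]
  exact Or.inl dvd_rfl

end Groth.Agent.S7144
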