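import Groth.Statements.S7145
import Mathlib.Algebra.Category.ModuleCat.Abelian
import Mathlib.LinearAlgebra.FreeModule.Basic
import Mathlib.Algebra.Homology.HomologicalComplex
import Mathlib.LinearAlgebra.Basis.Submodule
import Mathlib.RingTheory.Finiteness.Basic

set_option autoImplicit false
universe u
open CategoryTheory CategoryTheory.Limits
open CAlg

namespace Groth.Agent.S7145

/-- Let R be a ring and F a cochain complex of free R-modules that is zero in all sufficiently large
degrees. Given finitely many elements f_i of F, f_i lying in degree n_i, there is a subcomplex G of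
F (a map of complexes G → F injective in every degree) through which every f_i passes, such that G
is zero outside a finite range of degrees and each term of G is a finitely generated free R-module. -/
theorem result (R : Type u) [CommRing R]
    (F : CochainComplex (ModuleCat.{u} R) ℤ) (hfree : ∀ n : ℤ, Module.Free R (F.X n))
    (b : ℤ) (hb : ∀ n : ℤ, b < n → IsZero (F.X n))
    (N : ℕ) (deg : Fin N → ℤ) (f : ∀ i : Fin N, F.X (deg i)) :
    ∃ (G : CochainComplex (ModuleCat.{u} R) ℤ) (ι : G ⟶ F),
      (∀ n : ℤ, Function.Injective (ι.f n)) ∧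
      (∃ a c : ℤ, ∀ n : ℤ, (n < a ∨ c < n) → IsZero (G.X n)) ∧
      (∀ n : ℤ, Module.Finite R (G.X n) ∧ Module.Free R (G.X n)) ∧
      ∀ i : Fin N, f i ∈ Set.range (ι.f (deg i)) := by
  classical
  haveI := hfree
  obtain ⟨a, ha⟩ : ∃ a : ℤ, ∀ i, a ≤ deg i := by
    obtain ⟨a, ha⟩ := (Finset.univ.image deg).exists_le (α := ℤᵒᵈ)
    exact ⟨OrderDual.ofDual a, fun i => ha _ (Finset.mem_image_of_mem _ (Finset.mem_univ i))⟩
  let B := fun n : ℤ => Module.Free.chooseBasis R (F.X n)
  let S₀ : ∀ n : ℤ, Finset (Module.Free.ChooseBasisIndex R (F.X n)) := fun n =>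
    Finset.univ.biUnion fun i : Fin N => if h : deg i = n then ((B n).repr ((F.XIsoOfEq h).hom (f i))).support else ∅
  let next : ∀ n m : ℤ, Finset (Module.Free.ChooseBasisIndex R (F.X n)) → Finset (Module.Free.ChooseBasisIndex R (F.X m)) :=
    fun n m s => s.biUnion fun x => ((B m).repr (F.d n m (B n x))).support
  let T' : ∀ k : ℕ, Finset (Module.Free.ChooseBasisIndex R (F.X (a + k))) := fun k =>
    Nat.rec (S₀ (a + ((0 : ℕ) : ℤ))) (fun k s => S₀ (a + ((k + 1 : ℕ) : ℤ)) ∪ next (a + k) (a + ((k + 1 : ℕ) : ℤ)) s) k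
  let T : ∀ n : ℤ, Finset (Module.Free.ChooseBasisIndex R (F.X n)) := fun n =>
    if h : ∃ k : ℕ, a + k = n then h.choose_spec ▸ T' h.choose else ∅
  let G : ∀ n : ℤ, Submodule R (F.X n) := fun n => Submodule.span R (B n '' T n)
  have hTeq : ∀ k : ℕ, T (a + k) = T' k := by
    intro k
    have hex : ∃ j : ℕ, a + j = a + (k : ℤ) := ⟨k, rfl⟩
    simp only [T, dif_pos hex]
    have : ∀ (j : ℕ) (e : a + (j : ℤ) = a + k), (e ▸ T' j : Finset (Module.Free.ChooseBasisIndex R (F.X (a + k)))) = T' k := by
      intro j e
      obtain rfl : j = k := by omega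
      rfl
    exact this _ _
  have hmem : ∀ (n : ℤ) (x : F.X n) (s : Finset (Module.Free.ChooseBasisIndex R (F.X n))), ((B n).repr x).support ⊆ s → x ∈ Submodule.span R (B n '' s) := by
    intro n x s hs
    exact (B n).mem_span_image.mpr (Finset.coe_subset.mpr hs)
  have hd : ∀ i j : ℤ, ∀ x ∈ G i, F.d i j x ∈ G j := by
    intro i j x hx
    by_cases hij : i + 1 = j
    · suffices h : G i ≤ (G j).comap (F.d i j).hom from h hx
      refine Submodule.span_le.mpr ?_
      rintro _ ⟨t, ht, rfl⟩
      by_cases hk : ∃ k : ℕ, a + k = i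
      · obtain ⟨k, rfl⟩ := hk
        obtain rfl : a + ((k + 1 : ℕ) : ℤ) = j := by push_cast; omega
        have ht' : t ∈ T' k := hTeq k ▸ ht
        show F.d _ _ (B _ t) ∈ Submodule.span R _
        rw [hTeq (k + 1)]
        refine hmem _ _ _ (Finset.Subset.trans ?_ Finset.subset_union_right)
        exact Finset.subset_biUnion_of_mem (fun x => ((B (a + ((k + 1 : ℕ) : ℤ))).repr (F.d (a + k) (a + ((k + 1 : ℕ) : ℤ)) (B (a + k) x))).support) ht'
      · simp [T, dif_neg hk] at ht
    · rw [F.shape i j (fun h => hij h)]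
      exact zero_mem _
  let Gc : CochainComplex (ModuleCat.{u} R) ℤ :=
    { X := fun n => ModuleCat.of R (G n)
      d := fun i j => ModuleCat.ofHom ((F.d i j).hom.restrict (hd i j))
      shape := fun i j h => by
        ext x
        show F.d i j x.1 = 0
        rw [F.shape i j h]; rfl
      d_comp_d' := fun i j k _ _ => by
        ext x
        exact congr($(F.d_comp_d i j k) x.1) }
  let ι : Gc ⟶ F := { f := fun n => ModuleCat.ofHom (G n).subtype, comm' := fun i j _ => by ext x; rfl }
  refine ⟨Gc, ι, fun n => Subtype.val_injective, ⟨a, b, fun n hn => ?_⟩, fun n => ⟨?_, ?_⟩, fun i => ?_⟩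
  · haveI : Subsingleton (G n) := by
      rcases hn with hn | hn
      · have : ¬ ∃ k : ℕ, a + k = n := by rintro ⟨k, rfl⟩; omega
        have e : G n = ⊥ := by simp [G, T, dif_neg this]
        rw [e]; infer_instance
      · haveI : Subsingleton (F.X n) := ModuleCat.subsingleton_of_isZero (hb n hn)
        infer_instance
    exact ModuleCat.isZero_of_subsingleton (ModuleCat.of R (G n))
  · exact Module.Finite.of_fg (Submodule.fg_span ((T n).finite_toSet.image (B n)))
  · have h := (B n).linearIndependent.comp (fun t : T n => (t : Module.Free.ChooseBasisIndex R (F.X n))) Subtype.val_injective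
    have e : G n = Submodule.span R (Set.range (B n ∘ fun t : T n => (t : Module.Free.ChooseBasisIndex R (F.X n)))) := by
      simp only [G, Set.range_comp]
      congr 2
      ext x; simp
    show Module.Free R (G n)
    rw [e]
    exact Module.Free.of_basis (Module.Basis.span h)
  · obtain ⟨k, hk⟩ : ∃ k : ℕ, a + k = deg i := ⟨(deg i - a).toNat, by have := ha i; omega⟩
    refine ⟨⟨f i, ?_⟩, rfl⟩
    have key : ∀ n (h : deg i = n), (F.XIsoOfEq h).hom (f i) ∈ Submodule.span R (B n '' S₀ n) := by
      intro n h
      refine hmem _ _ _ ?_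
      refine Finset.Subset.trans ?_ (Finset.subset_biUnion_of_mem _ (Finset.mem_univ i))
      rw [dif_pos h]
    have hS : S₀ (deg i) ⊆ T (deg i) := by
      rw [← hk, hTeq]
      cases k with
      | zero => exact subset_rfl
      | succ k => exact Finset.subset_union_left
    have := key (deg i) rfl
    rw [HomologicalComplex.XIsoOfEq_rfl] at this
    exact Submodule.span_mono (Set.image_mono (Finset.coe_subset.mpr hS)) this

end Groth.Agent.S7145
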