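import Groth.Statements.S7146
import Groth.Agent.SopLength.Basic

set_option autoImplicit false
universe u
open Filter
open CAlg

namespace Groth.Agent.S7146

/-- Let R be a Noetherian local ring of Krull dimension d and I the ideal generated by a system of
parameters g_1, ..., g_d (d elements of the maximal ideal generating an ideal with radical the
maximal ideal); let e_I be the multiplicity of I, i.e. d! times the top coefficient of the numerical
polynomial n ↦ length(R/I^(n+1)), equivalently the limit of d!·length(R/Iⁿ)/n^d. Then e_I ≤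
length(R/I). (Stated for a natural number e equal to that limit.) -/
theorem result (R : Type u) [CommRing R] [IsNoetherianRing R] [IsLocalRing R]
    (d : ℕ) (hd : ringKrullDim R = d) (g : Fin d → R) (hg : ∀ i, g i ∈ IsLocalRing.maximalIdeal R)
    (hsop : IsLocalRing.maximalIdeal R ≤ (Ideal.span (Set.range g)).radical) (e : ℕ)
    (he : Tendsto (fun n : ℕ => (d.factorial : ℝ) * ((Module.length R (R ⧸ Ideal.span (Set.range g) ^ n)).toNat : ℝ) / (n : ℝ) ^ d)
      atTop (nhds (e : ℝ))) :
    (e : ℕ∞) ≤ Module.length R (R ⧸ Ideal.span (Set.range g)) := by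
  classical
  set q := Ideal.span (Set.range g) with hq
  have hle : q ≤ IsLocalRing.maximalIdeal R := Ideal.span_le.2 (by rintro _ ⟨i, rfl⟩; exact hg i)
  have hrad : q.radical = IsLocalRing.maximalIdeal R :=
    le_antisymm ((IsLocalRing.maximalIdeal.isMaximal R).isPrime.radical_le_iff.2 hle) hsop
  obtain ⟨ℓ, hℓ⟩ := ENat.ne_top_iff_exists.1 (Groth.Agent.SopLength.length_ne_top_of_radical hrad)
  have hpow : ∀ k : ℕ, q ^ k ≤ Ideal.span (Set.range fun s : Sym (Fin d) k => ((s : Multiset (Fin d)).map g).prod) := by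
    intro k
    induction k with
    | zero =>
      rw [pow_zero, Ideal.one_eq_top, ← Ideal.span_singleton_one]
      exact Ideal.span_mono (Set.singleton_subset_iff.2 ⟨Sym.nil, by simp⟩)
    | succ k ih =>
      rw [pow_succ]
      refine le_trans (Ideal.mul_mono ih le_rfl) ?_
      rw [hq, Ideal.span_mul_span', Ideal.span_le]
      rintro _ ⟨_, ⟨s, rfl⟩, _, ⟨i, rfl⟩, rfl⟩
      refine Ideal.subset_span ⟨Sym.cons i s, ?_⟩
      show (Multiset.map g ↑(Sym.cons i s)).prod = (Multiset.map g ↑s).prod * g i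
      rw [Sym.coe_cons, Multiset.map_cons, Multiset.prod_cons]; exact mul_comm _ _
  have hpow' : ∀ (k : ℕ) (s : Sym (Fin d) k), ((s : Multiset (Fin d)).map g).prod ∈ q ^ k := by
    intro k
    induction k with
    | zero => intro s; rw [pow_zero, Ideal.one_eq_top]; trivial
    | succ k ih =>
      intro s
      obtain ⟨i, t, rfl⟩ := Sym.exists_eq_cons_of_succ s
      rw [pow_succ, Sym.coe_cons, Multiset.map_cons, Multiset.prod_cons, mul_comm (g i)]
      exact Ideal.mul_mem_mul (ih t) (Ideal.subset_span ⟨i, rfl⟩)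
  have hstep : ∀ k : ℕ, Module.length R (R ⧸ q ^ (k + 1)) ≤
      Module.length R (R ⧸ q ^ k) + ((Nat.multichoose d k * ℓ : ℕ) : ℕ∞) := by
    intro k
    let π : (R ⧸ q ^ (k + 1)) →ₗ[R] R ⧸ q ^ k := Submodule.factor (Ideal.pow_le_pow_right k.le_succ)
    have h1 := Module.length_eq_add_of_exact (LinearMap.ker π).subtype π (Submodule.subtype_injective _)
      (Submodule.factor_surjective _) (LinearMap.exact_subtype_ker_map π)
    let m : Sym (Fin d) k → ((R ⧸ q) →ₗ[R] R ⧸ q ^ (k + 1)) := fun s =>
      Submodule.mapQ q (q ^ (k + 1)) (LinearMap.toSpanSingleton R R ((s : Multiset (Fin d)).map g).prod) (by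
        intro x hx
        rw [Submodule.mem_comap, LinearMap.toSpanSingleton_apply, smul_eq_mul, pow_succ, mul_comm x]
        exact Ideal.mul_mem_mul (hpow' k s) hx)
    let ψ : (Sym (Fin d) k → R ⧸ q) →ₗ[R] R ⧸ q ^ (k + 1) := ∑ s, (m s).comp (LinearMap.proj s)
    have hker : LinearMap.ker π ≤ LinearMap.range ψ := by
      intro y hy
      obtain ⟨a, rfl⟩ := Submodule.Quotient.mk_surjective _ y
      have ha : a ∈ q ^ k := (Submodule.Quotient.mk_eq_zero _).1 hy
      obtain ⟨c, hc⟩ := Ideal.mem_span_range_iff_exists_fun.1 (hpow k ha)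
      refine ⟨fun s => Submodule.Quotient.mk (c s), ?_⟩
      rw [← hc, show (Submodule.Quotient.mk (∑ s, c s * ((s : Multiset (Fin d)).map g).prod) : R ⧸ q ^ (k + 1)) =
        ∑ s, Submodule.Quotient.mk (c s * ((s : Multiset (Fin d)).map g).prod) from map_sum (Submodule.mkQ _) _ _]
      simp only [ψ, m, LinearMap.sum_apply, LinearMap.comp_apply, LinearMap.proj_apply, Submodule.mapQ_apply,
        LinearMap.toSpanSingleton_apply, smul_eq_mul]
    have h2 : Module.length R (LinearMap.ker π) ≤ ((Nat.multichoose d k * ℓ : ℕ) : ℕ∞) := by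
      refine le_trans (Module.length_le_of_injective (Submodule.inclusion hker) (Submodule.inclusion_injective hker)) ?_
      refine le_trans (Module.length_le_of_surjective ψ.rangeRestrict ψ.surjective_rangeRestrict) ?_
      rw [Module.length_pi_of_fintype, ← hℓ, Finset.sum_const, Finset.card_univ, Sym.card_sym_eq_multichoose,
        Fintype.card_fin, nsmul_eq_mul, Nat.cast_mul]
    rw [h1, add_comm]
    exact add_le_add le_rfl h2
  have hbound : ∀ n : ℕ, Module.length R (R ⧸ q ^ (n + 1)) ≤ ((Nat.multichoose (d + 1) n * ℓ : ℕ) : ℕ∞) := by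
    intro n
    induction n with
    | zero => rw [zero_add, pow_one, Nat.multichoose_zero_right, one_mul, ← hℓ]
    | succ n ih =>
      refine (hstep (n + 1)).trans ?_
      rw [Nat.multichoose_succ_succ, add_mul, Nat.cast_add, add_comm ((Nat.multichoose d (n + 1) * ℓ : ℕ) : ℕ∞)]
      exact add_le_add ih le_rfl
  have hnum : ∀ n : ℕ, d.factorial * (Module.length R (R ⧸ q ^ n)).toNat ≤ (n + d) ^ d * ℓ := by
    intro n
    have h1 : Module.length R (R ⧸ q ^ n) ≤ ((Nat.multichoose (d + 1) n * ℓ : ℕ) : ℕ∞) :=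
      le_trans (Groth.Agent.SopLength.length_mono (Ideal.pow_le_pow_right n.le_succ)) (hbound n)
    refine le_trans (Nat.mul_le_mul_left _ (ENat.toNat_le_of_le_coe h1)) ?_
    rw [← mul_assoc, Nat.multichoose_eq, show d + 1 + n - 1 = n + d by omega, Nat.choose_symm_add,
      ← Nat.descFactorial_eq_factorial_mul_choose]
    exact Nat.mul_le_mul_right _ (Nat.descFactorial_le_pow _ _)
  have hlim : Tendsto (fun n : ℕ => (ℓ : ℝ) * (1 + (d : ℝ) / n) ^ d) atTop (nhds (ℓ : ℝ)) := by
    have := ((tendsto_const_nhds (x := (1 : ℝ))).add (tendsto_const_div_atTop_nhds_zero_nat (d : ℝ))).pow d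
    simpa using this.const_mul (ℓ : ℝ)
  have hev : ∀ᶠ n : ℕ in atTop, (d.factorial : ℝ) * ((Module.length R (R ⧸ q ^ n)).toNat : ℝ) / (n : ℝ) ^ d ≤
      (ℓ : ℝ) * (1 + (d : ℝ) / n) ^ d := by
    filter_upwards [eventually_ge_atTop 1] with n hn
    have hn0 : (0 : ℝ) < n := by exact_mod_cast hn
    rw [show (1 : ℝ) + (d : ℝ) / n = ((n : ℝ) + d) / n by field_simp, div_pow, mul_div_assoc']
    refine div_le_div_of_nonneg_right ?_ (by positivity)
    rw [mul_comm (ℓ : ℝ)]
    exact_mod_cast hnum n
  have := le_of_tendsto_of_tendsto he hlim hev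
  rw [← hℓ]
  exact_mod_cast this

end Groth.Agent.S7146
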