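import Groth.Statements.S7149
import Groth.Agent.ExtPro.Basic

set_option autoImplicit false
universe u
open CategoryTheory
attribute [local instance] HasDerivedCategory.standard
open CAlg

namespace Groth.Agent.S7149

/-- Let A be a Noetherian ring, I an ideal, K a pseudo-coherent object of D(A) and M a finite A-module.
For each integer p there is c such that for all n ≥ c the image of Ext^p_A(K, IⁿM) → Ext^p_A(K, M)
is contained in I^(n-c)·Ext^p_A(K, M); here Ext^p(K, X) = Hom_{D(A)}(K, X[p]) with its natural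
A-module structure. -/
theorem result (A : Type u) [CommRing A] [IsNoetherianRing A] (I : Ideal A)
    (K : Dual.D A) (hK : DRing.IsPseudoCoherent' A K) (M : Type u) [AddCommGroup M] [Module A M] [Module.Finite A M]
    (p : ℤ) :
    ∃ c : ℕ, ∀ n : ℕ, c ≤ n →
      ∀ e : K ⟶ (Dual.inD A ↥(I ^ n • ⊤ : Submodule A M))⟦p⟧,
        e ≫ ((DerivedCategory.singleFunctor (ModuleCat.{u} A) 0).map
              (ModuleCat.ofHom (I ^ n • ⊤ : Submodule A M).subtype))⟦p⟧' ∈
          (I ^ (n - c) • ⊤ : Submodule A (K ⟶ (Dual.inD A M)⟦p⟧)) := by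
  obtain ⟨P, b, hPb, hP, ⟨eK⟩⟩ := hK
  have hPp : ∀ j, Projective (P.X j) := fun j =>
    haveI := (hP j).2
    (IsProjective.iff_projective (R := A) (P.X j)).1 inferInstance
  haveI := Groth.Agent.DRingKP.isKProjective_of_vanishesAbove hPb hPp
  haveI := (hP (-p)).1
  haveI := (hP (-p)).2
  let M₀ := ModuleCat.of A M
  let Z : Submodule A (P.X (-p) →ₗ[A] M) := LinearMap.ker (LinearMap.lcomp A M (P.d (-p - 1) (-p)).hom)
  have hZ : ∀ u : Z, ExtPro.IsCocycle P p (ModuleCat.ofHom u.1 : P.X (-p) ⟶ M₀) := fun u j => by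
    by_cases hj : j + 1 = -p
    · obtain rfl : j = -p - 1 := by omega
      exact ModuleCat.hom_ext u.2
    · rw [P.shape j (-p) hj, Limits.zero_comp]
  let cl : Z →ₗ[A] (K ⟶ (Dual.inD A M)⟦p⟧) :=
    { toFun := fun u => ExtPro.cls P K eK p (ModuleCat.ofHom u.1 : P.X (-p) ⟶ M₀) (hZ u)
      map_add' := fun u v => by
        have : ExtPro.chain P p (ModuleCat.ofHom (u + v).1 : P.X (-p) ⟶ M₀) (hZ (u + v)) =
            ExtPro.chain P p (ModuleCat.ofHom u.1 : P.X (-p) ⟶ M₀) (hZ u) +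
              ExtPro.chain P p (ModuleCat.ofHom v.1 : P.X (-p) ⟶ M₀) (hZ v) := by
          refine HomologicalComplex.to_single_hom_ext ?_
          rw [HomologicalComplex.add_f_apply, ExtPro.chain_f, ExtPro.chain_f, ExtPro.chain_f, ← Preadditive.add_comp]
          rfl
        simp only [ExtPro.cls, this, Functor.map_add, Preadditive.add_comp, Preadditive.comp_add]
      map_smul' := fun x u => ExtPro.cls_smul P K eK p (ModuleCat.ofHom u.1 : P.X (-p) ⟶ M₀) (hZ u) x }
  obtain ⟨c, hc⟩ := Ideal.exists_pow_inf_eq_pow_smul I Z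
  refine ⟨c, fun n hn e => ?_⟩
  obtain ⟨u, hu, rfl⟩ := ExtPro.exists_cls P K eK p e
  refine (congrArg (· ∈ (I ^ (n - c) • ⊤ : Submodule A (K ⟶ (Dual.inD A M)⟦p⟧))) (ExtPro.cls_comp P K eK p u hu _)).mpr ?_
  let ι := (I ^ n • ⊤ : Submodule A M).subtype
  let v : P.X (-p) →ₗ[A] M := ι ∘ₗ u.hom
  have hvZ : v ∈ Z := LinearMap.ext fun x =>
    (congrArg ι (LinearMap.congr_fun (congrArg ModuleCat.Hom.hom (hu (-p - 1))) x)).trans (map_zero ι)
  have h1 : v ∈ I ^ (n - c) • (I ^ c • ⊤ ⊓ Z) :=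
    (hc n hn).le ⟨ExtPro.mem_smul_top_of_image P hP _ _ v fun x => (u.hom x).2, hvZ⟩
  have h2 : v ∈ Submodule.map Z.subtype (I ^ (n - c) • (⊤ : Submodule A Z)) := by
    rw [Submodule.map_smul'', Submodule.map_subtype_top]
    exact Submodule.smul_mono le_rfl inf_le_right h1
  obtain ⟨w, hw, hwv⟩ := Submodule.mem_map.1 h2
  have hcl : cl w ∈ (I ^ (n - c) • ⊤ : Submodule A (K ⟶ (Dual.inD A M)⟦p⟧)) := by
    have := Submodule.mem_map_of_mem (f := cl) hw
    rw [Submodule.map_smul''] at this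
    exact Submodule.smul_mono le_rfl le_top this
  refine (congrArg (· ∈ (I ^ (n - c) • ⊤ : Submodule A (K ⟶ (Dual.inD A M)⟦p⟧))) ?_).mp hcl
  refine ExtPro.cls_congr P K eK p (hZ w) _ (ModuleCat.hom_ext ?_)
  exact hwv

end Groth.Agent.S7149
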