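import Groth.Statements.S7153
import Mathlib.RingTheory.Filtration

set_option autoImplicit false
universe u
open CAlg

namespace Groth.Agent.S7153

/-- Let A be a Noetherian ring, I an ideal and K → L → M a complex of finite A-modules with maps α, β
and homology H = Ker β / Im α; for n ≥ 0 let H_n be the homology of the induced complex K/IⁿK →
L/IⁿL → M/IⁿM, which is β⁻¹(IⁿM)/(Im α + IⁿL). Then there is c > 0 such that for every n: (i) the
image of H_(n+c) → H_n is contained in, hence equal to, the image of H → H_n; (ii) the kernel and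
the cokernel of H/IⁿH → H_n are annihilated by I^c. Everything is phrased with representatives in L. -/
theorem result (A : Type u) [CommRing A] [IsNoetherianRing A] (I : Ideal A)
    (K L M : Type u) [AddCommGroup K] [Module A K] [Module.Finite A K] [AddCommGroup L] [Module A L]
    [Module.Finite A L] [AddCommGroup M] [Module A M] [Module.Finite A M]
    (α : K →ₗ[A] L) (β : L →ₗ[A] M) (hαβ : β ∘ₗ α = 0) :
    ∃ c : ℕ, 0 < c ∧ ∀ n : ℕ,
      (∀ y ∈ (I ^ (n + c) • ⊤ : Submodule A M).comap β,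
        ∃ z ∈ LinearMap.ker β, y - z ∈ LinearMap.range α ⊔ (I ^ n • ⊤ : Submodule A L)) ∧
      (∀ z ∈ LinearMap.ker β, z ∈ LinearMap.range α ⊔ (I ^ n • ⊤ : Submodule A L) →
        ∀ a ∈ I ^ c, a • z ∈ LinearMap.range α ⊔ I ^ n • LinearMap.ker β) ∧
      (∀ y ∈ (I ^ n • ⊤ : Submodule A M).comap β, ∀ a ∈ I ^ c,
        ∃ z ∈ LinearMap.ker β, a • y - z ∈ LinearMap.range α ⊔ (I ^ n • ⊤ : Submodule A L)) := by
  obtain ⟨k₁, hk₁⟩ := Ideal.exists_pow_inf_eq_pow_smul I (LinearMap.range β)
  obtain ⟨k₂, hk₂⟩ := Ideal.exists_pow_inf_eq_pow_smul I (LinearMap.ker β)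
  let c := k₁ + k₂ + 1
  have hmap : ∀ m : ℕ, (I ^ m • ⊤ : Submodule A L).map β = I ^ m • LinearMap.range β := fun m => by
    rw [Submodule.map_smul'', Submodule.map_top]
  have h1 : ∀ n : ℕ, ∀ y ∈ (I ^ (n + c) • ⊤ : Submodule A M).comap β,
      ∃ z ∈ LinearMap.ker β, y - z ∈ (I ^ n • ⊤ : Submodule A L) := by
    intro n y hy
    have h : β y ∈ (I ^ (n + c) • ⊤ : Submodule A M) ⊓ LinearMap.range β := ⟨hy, ⟨y, rfl⟩⟩
    rw [hk₁ (n + c) (by omega)] at h
    have h' : β y ∈ I ^ n • LinearMap.range β :=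
      Submodule.smul_mono (Ideal.pow_le_pow_right (by omega)) inf_le_right h
    rw [← hmap] at h'
    obtain ⟨w, hw, hwy⟩ := h'
    refine ⟨y - w, ?_, by rwa [sub_sub_cancel]⟩
    rw [LinearMap.mem_ker, map_sub, hwy, sub_self]
  refine ⟨c, Nat.succ_pos _, fun n => ⟨?_, ?_, ?_⟩⟩
  · intro y hy
    obtain ⟨z, hz, hyz⟩ := h1 n y hy
    exact ⟨z, hz, Submodule.mem_sup_right hyz⟩
  · intro z hz hz' a ha
    obtain ⟨u, ⟨x, rfl⟩, w, hw, rfl⟩ := Submodule.mem_sup.1 hz'
    have hwk : w ∈ LinearMap.ker β := by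
      rw [LinearMap.mem_ker, map_add] at hz
      have : β (α x) = 0 := LinearMap.congr_fun hαβ x
      rw [this, zero_add] at hz
      exact hz
    rw [smul_add]
    refine Submodule.add_mem_sup ⟨a • x, map_smul α a x⟩ ?_
    rcases le_or_gt k₂ n with hn | hn
    · have h : w ∈ (I ^ n • ⊤ : Submodule A L) ⊓ LinearMap.ker β := ⟨hw, hwk⟩
      rw [hk₂ n hn] at h
      have h' : w ∈ I ^ (n - k₂) • LinearMap.ker β := Submodule.smul_mono le_rfl inf_le_right h
      have := Submodule.smul_mem_smul ha h'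
      rw [← Submodule.mul_smul, ← pow_add] at this
      exact Submodule.smul_mono_left (Ideal.pow_le_pow_right (by omega)) this
    · exact Submodule.smul_mono_left (Ideal.pow_le_pow_right (by omega)) (Submodule.smul_mem_smul ha hwk)
  · intro y hy a ha
    obtain ⟨z, hz, hyz⟩ := h1 n (a • y) (by
      rw [Submodule.mem_comap, map_smul]
      have := Submodule.smul_mem_smul ha (Submodule.mem_comap.1 hy)
      rwa [← Submodule.mul_smul, ← pow_add, add_comm] at this)
    exact ⟨z, hz, Submodule.mem_sup_right hyz⟩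

end Groth.Agent.S7153
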