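import Groth.Statements.S7160
import Mathlib.Algebra.Homology.DerivedCategory.HomologySequence
import Mathlib.Algebra.Category.ModuleCat.EpiMono
import Mathlib.Algebra.Homology.DerivedCategory.Linear
import Mathlib.Algebra.Homology.ShortComplex.Linear
import Mathlib.CategoryTheory.Linear.LinearFunctor

set_option autoImplicit false
universe u
open CategoryTheory CategoryTheory.Pretriangulated
attribute [local instance] HasDerivedCategory.standard
open CAlg

namespace Groth.Agent.S7160

/-- Let R be a ring, f an element of R, M an object of D(R) and C the cone of f : M → M. Suppose that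
H^i(M)_f = 0 whenever i < 0 (every element of H^i(M) is killed by a power of f) and that H^i(C) = 0
whenever i < -1. Then H^i(M) vanishes for every i < 0. -/
theorem result (R : Type u) [CommRing R] (f : R) (M C : Dual.D R)
    (g : M ⟶ C) (h : C ⟶ M⟦(1 : ℤ)⟧) (hT : Triangle.mk (f • 𝟙 M) g h ∈ distinguishedTriangles)
    (hloc : ∀ i : ℤ, i < 0 → ∀ x : Dual.HD R M i, ∃ n : ℕ, f ^ n • x = 0)
    (hC : ∀ i : ℤ, i < -1 → Subsingleton (Dual.HD R C i)) :
    ∀ i : ℤ, i < 0 → Subsingleton (Dual.HD R M i) := by
  intro i hi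
  let F := DerivedCategory.homologyFunctor (ModuleCat.{u} R) 0
  have hz : Limits.IsZero ((DerivedCategory.homologyFunctor (ModuleCat.{u} R) (i - 1)).obj C) :=
    @ModuleCat.isZero_of_subsingleton R _ _ (hC (i - 1) (by omega))
  haveI hmono : Mono ((DerivedCategory.homologyFunctor (ModuleCat.{u} R) i).map (f • 𝟙 M)) :=
    (DerivedCategory.HomologySequence.mono_homologyMap_mor₁_iff _ hT (i - 1) i (by omega)).mpr (hz.eq_of_src _ _)
  have hmap : (DerivedCategory.homologyFunctor (ModuleCat.{u} R) i).map (f • 𝟙 M) = f • 𝟙 _ := by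
    obtain ⟨K, ⟨e⟩⟩ : ∃ K : CochainComplex (ModuleCat.{u} R) ℤ, Nonempty (DerivedCategory.Q.obj K ≅ M) := ⟨_, ⟨DerivedCategory.Q.objObjPreimageIso M⟩⟩
    let H := DerivedCategory.homologyFunctor (ModuleCat.{u} R) i
    have h1 : f • 𝟙 M = e.inv ≫ DerivedCategory.Q.map (f • 𝟙 K) ≫ e.hom := by
      rw [Functor.map_smul, CategoryTheory.Functor.map_id, Linear.smul_comp, Linear.comp_smul, Category.id_comp, e.inv_hom_id]
    have h2 : H.map (DerivedCategory.Q.map (f • 𝟙 K)) = f • 𝟙 _ := by
      have hn := (DerivedCategory.homologyFunctorFactors (ModuleCat.{u} R) i).hom.naturality (f • 𝟙 K)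
      have h3 : (HomologicalComplex.homologyFunctor (ModuleCat.{u} R) (ComplexShape.up ℤ) i).map (f • 𝟙 K) = f • 𝟙 _ := by
        show HomologicalComplex.homologyMap (f • 𝟙 K) i = _
        rw [HomologicalComplex.homologyMap, show (HomologicalComplex.shortComplexFunctor (ModuleCat.{u} R) (ComplexShape.up ℤ) i).map (f • 𝟙 K) = f • 𝟙 (K.sc i) by ext <;> rfl,
          ShortComplex.homologyMap_smul, ShortComplex.homologyMap_id]
        rfl
      rw [h3, Linear.comp_smul, Category.comp_id] at hn
      rw [← cancel_mono ((DerivedCategory.homologyFunctorFactors (ModuleCat.{u} R) i).hom.app K), Linear.smul_comp, Category.id_comp]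
      exact hn
    show H.map (f • 𝟙 M) = _
    rw [h1, H.map_comp, H.map_comp, h2, Linear.smul_comp, Linear.comp_smul, Category.id_comp, ← H.map_comp, e.inv_hom_id, H.map_id]
  have hinj : ∀ x : Dual.HD R M i, f • x = 0 → x = 0 := fun x hx => by
    refine (ModuleCat.mono_iff_injective _).mp hmono ?_
    rw [hmap, map_zero]
    exact hx
  refine subsingleton_of_forall_eq 0 fun x => ?_
  obtain ⟨n, hn⟩ := hloc i hi x
  induction n with
  | zero => simpa using hn
  | succ n ih => exact ih (hinj _ (by rw [← mul_smul, ← pow_succ']; exact hn))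

end Groth.Agent.S7160
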