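import Groth.Statements.S7161
import Mathlib
import Groth.Agent.TorBalance.LESFlip

set_option linter.style.haveILetI false

set_option autoImplicit false
universe u
open CategoryTheory
open CAlg

namespace Groth.Agent.S7161

section Pre
open CategoryTheory CategoryTheory.Limits
variable {A : Type u} [CommRing A] [IsNoetherianRing A] {I : Ideal A}

theorem exists_mono (N : ModuleCat.{u} A) (hN : ∀ a ∈ I, ∀ y : N, a • y = 0) (M : ModuleCat.{u} A)
    [Module.Finite A M] {g : A} (hg : g ∈ I) :
    ∃ (M' : ModuleCat.{u} A) (q : M ⟶ M'), Module.Finite A M' ∧ Function.Surjective q ∧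
      (∀ p, Mono (((Tor (ModuleCat.{u} A) p).flip.obj N).map q)) ∧ ∃ e : ℕ, ∀ y : M', g ^ e • y = 0 := by
  let φ : Module.End A M := g • 1
  obtain ⟨c, hc⟩ := Filter.eventually_atTop.1 φ.eventually_disjoint_ker_pow_range_pow
  have hd : Disjoint (LinearMap.ker (φ ^ (c + 1))) (LinearMap.range (φ ^ (c + 1))) := hc _ c.le_succ
  have hpow : ∀ x : M, (φ ^ (c + 1)) x = g ^ (c + 1) • x := fun x => by simp [φ, smul_pow]
  let X := LinearMap.range (φ ^ (c + 1))
  let j : ↥X →ₗ[A] M := g ^ (c + 1) • X.subtype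
  have hj : Function.Injective j := by
    refine (injective_iff_map_eq_zero j).2 fun x hx => Subtype.ext ?_
    exact Submodule.disjoint_def.1 hd x.1 ((hpow _).trans hx) x.2
  have hS : (ShortComplex.mk (ModuleCat.ofHom j) (ModuleCat.ofHom (LinearMap.range j).mkQ)
      (by ext x; exact (Submodule.Quotient.mk_eq_zero _).2 ⟨x, rfl⟩)).ShortExact :=
    { exact := (ShortComplex.ShortExact.moduleCat_exact_iff_function_exact _).2
        (LinearMap.exact_map_mkQ_range j)
      mono_f := (ModuleCat.mono_iff_injective _).2 hj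
      epi_g := (ModuleCat.epi_iff_surjective _).2 (Submodule.mkQ_surjective _) }
  refine ⟨ModuleCat.of A (M ⧸ LinearMap.range j), ModuleCat.ofHom (LinearMap.range j).mkQ,
    inferInstanceAs (Module.Finite A (M ⧸ LinearMap.range j)), Submodule.mkQ_surjective _, fun p => ?_,
    (c + 1) + (c + 1), fun y => ?_⟩
  · obtain ⟨_, h⟩ := (TorBalance.exists_les_flip hS N p).1
    refine h.mono_g ?_
    have h' : (ModuleCat.ofHom j : ModuleCat.of A X ⟶ M) = g ^ (c + 1) • ModuleCat.ofHom X.subtype := rfl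
    show ((Tor (ModuleCat.{u} A) p).flip.obj N).map (ModuleCat.ofHom j) = 0
    rw [h', TorBalance.tor_map_smul, ← Category.comp_id (((Tor (ModuleCat.{u} A) p).flip.obj N).map _),
      ← Linear.comp_smul]
    exact (congrArg (((Tor (ModuleCat.{u} A) p).flip.obj N).map (ModuleCat.ofHom X.subtype) ≫ ·)
      (TorBalance.smul_id_eq_zero _ M N (fun y => hN _ (I.pow_mem_of_mem hg _ c.succ_pos) y) p)).trans comp_zero
  · induction y using Submodule.Quotient.induction_on with
    | _ x =>
      exact (Submodule.Quotient.mk_eq_zero _).2 ⟨⟨g ^ (c + 1) • x, x, hpow x⟩, by simp [j, pow_add, mul_smul]⟩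

theorem exists_mono' (N : ModuleCat.{u} A) (hN : ∀ a ∈ I, ∀ y : N, a • y = 0) (M : ModuleCat.{u} A)
    [Module.Finite A M] (s : Finset A) (hs : (s : Set A) ⊆ I) :
    ∃ (M' : ModuleCat.{u} A) (q : M ⟶ M'), Module.Finite A M' ∧
      (∀ p, Mono (((Tor (ModuleCat.{u} A) p).flip.obj N).map q)) ∧
      ∀ g ∈ s, ∃ e : ℕ, ∀ y : M', g ^ e • y = 0 := by
  classical
  induction s using Finset.induction_on with
  | empty =>
    exact ⟨M, 𝟙 M, inferInstance, fun p => by rw [CategoryTheory.Functor.map_id]; infer_instance,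
      fun g hg => absurd hg (Finset.notMem_empty g)⟩
  | insert a s ha ih =>
    obtain ⟨M₁, q₁, hf₁, hm₁, he₁⟩ := ih (fun x hx => hs (Finset.mem_insert_of_mem hx))
    obtain ⟨M₂, q₂, hf₂, hsur, hm₂, e, he⟩ := exists_mono N hN M₁ (hs (Finset.mem_insert_self a s))
    refine ⟨M₂, q₁ ≫ q₂, hf₂, fun p => ?_, fun g hg => ?_⟩
    · haveI := hm₁ p
      haveI := hm₂ p
      rw [Functor.map_comp]
      infer_instance
    · obtain rfl | hg := Finset.mem_insert.1 hg
      · exact ⟨e, he⟩
      · obtain ⟨e', he'⟩ := he₁ g hg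
        refine ⟨e', fun y => ?_⟩
        obtain ⟨x, rfl⟩ := hsur y
        rw [← map_smul, he', map_zero]

end Pre


/-- Let A be a Noetherian ring, I an ideal, M a finite A-module and N an A-module annihilated by I. Then
there is an integer n > 0 such that the maps Tor_p^A(IⁿM, N) → Tor_p^A(M, N) induced by IⁿM ⊆ M are
zero for all p ≥ 0. -/
theorem result (A : Type u) [CommRing A] [IsNoetherianRing A] (I : Ideal A)
    (M N : Type u) [AddCommGroup M] [Module A M] [Module.Finite A M] [AddCommGroup N] [Module A N]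
    (hN : ∀ a ∈ I, ∀ y : N, a • y = 0) :
    ∃ n : ℕ, 0 < n ∧ ∀ p : ℕ,
      ((CategoryTheory.Tor (ModuleCat.{u} A) p).map (ModuleCat.ofHom (I ^ n • ⊤ : Submodule A M).subtype)).app
        (ModuleCat.of A N) = 0 := by
  obtain ⟨s, hs⟩ := (IsNoetherian.noetherian I : I.FG)
  have hs' : (s : Set A) ⊆ I := fun x hx => hs ▸ Ideal.subset_span hx
  obtain ⟨M', q, _, hm, he⟩ := exists_mono' (ModuleCat.of A N) hN (ModuleCat.of A M) s hs'
  have hle : I ≤ (Module.annihilator A M').radical := by
    rw [← hs, Submodule.span_le]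
    intro g hg
    obtain ⟨e, hg'⟩ := he g hg
    exact ⟨e, Module.mem_annihilator.2 hg'⟩
  obtain ⟨k, hk⟩ := Ideal.exists_pow_le_of_le_radical_of_fg_radical hle (IsNoetherian.noetherian _)
  refine ⟨k + 1, k.succ_pos, fun p => ?_⟩
  haveI := hm p
  show ((Tor (ModuleCat.{u} A) p).flip.obj (ModuleCat.of A N)).map _ = 0
  rw [← cancel_mono (((Tor (ModuleCat.{u} A) p).flip.obj (ModuleCat.of A N)).map q), Limits.zero_comp,
    ← Functor.map_comp]
  refine (congrArg _ ?_).trans (TorBalance.tor_map_zero _ p _ _)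
  refine ModuleCat.hom_ext (LinearMap.ext fun x => ?_)
  show q.hom x.1 = 0
  refine Submodule.smul_induction_on x.2 (fun r hr m _ => ?_) (fun a b ha hb => by rw [map_add, ha, hb, add_zero])
  rw [map_smul]
  exact Module.mem_annihilator.1 (hk (Ideal.pow_le_pow_right k.le_succ hr)) _

end Groth.Agent.S7161
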