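import Groth.Statements.S7162
import Groth.Agent.EtRamSh7162.Descend

set_option linter.style.haveILetI false
set_option maxHeartbeats 1600000

set_option autoImplicit false
universe u
open EtAlg

namespace Groth.Agent.S7162

/-- Let A → B be an injective local homomorphism of discrete valuation rings whose fields of fractions
are K ⊆ L. There is a commutative square of such extensions A ⊆ A', B ⊆ B', A' ⊆ B' (with fraction
fields K', L') such that (1) K'/K and L'/L are separable algebraic, (2) the residue field of A' is a
separable algebraic closure of that of A, and likewise for B' over B, and (3) whenever A' ⊆ B'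
admits a solution (respectively a separable solution), so does A ⊆ B. (The published statement
asserts (3) for weak solutions as well; that clause is left out here: a weak solution for A' ⊆ B'
descends to a finite extension of K but controls only those local extensions attached to embeddings
compatible with K ⊆ K', and weak solutions, unlike solutions, are not preserved under passing to a
normal closure; the clause can fail when the residue field of A is not separably closed in that of
B.) -/
theorem result (A B K L : Type u) [CommRing A] [IsDomain A]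
    [IsDiscreteValuationRing A] [CommRing B] [IsDomain B] [IsDiscreteValuationRing B] [Algebra A B]
    (hinj : Function.Injective (algebraMap A B)) [IsLocalHom (algebraMap A B)]
    [Field K] [Field L] [Algebra A K] [IsFractionRing A K] [Algebra B L] [IsFractionRing B L]
    [Algebra K L] [Algebra A L] [IsScalarTower A K L] [IsScalarTower A B L] :
    ∃ (A' B' K' L' : Type u) (_ : CommRing A') (_ : IsDomain A') (_ : IsDiscreteValuationRing A')
      (_ : CommRing B') (_ : IsDomain B') (_ : IsDiscreteValuationRing B') (_ : Field K') (_ : Field L')
      (_ : Algebra A A') (_ : Algebra B B') (_ : Algebra A' B') (_ : Algebra A B')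
      (_ : IsScalarTower A B B') (_ : IsScalarTower A A' B')
      (_ : Algebra A' K') (_ : IsFractionRing A' K') (_ : Algebra B' L') (_ : IsFractionRing B' L')
      (_ : Algebra K' L') (_ : Algebra A' L') (_ : IsScalarTower A' K' L') (_ : IsScalarTower A' B' L')
      (_ : Algebra K K') (_ : Algebra A K') (_ : IsScalarTower A K K') (_ : IsScalarTower A A' K')
      (_ : Algebra L L') (_ : Algebra B L') (_ : IsScalarTower B L L') (_ : IsScalarTower B B' L')
      (hA : IsLocalHom (algebraMap A A')) (hB : IsLocalHom (algebraMap B B')) (_ : IsLocalHom (algebraMap A' B')),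
      Function.Injective (algebraMap A A') ∧ Function.Injective (algebraMap B B') ∧
      Function.Injective (algebraMap A' B') ∧
      Algebra.IsSeparable K K' ∧ Algebra.IsSeparable L L' ∧
      (letI := (IsLocalRing.ResidueField.map (algebraMap A A')).toAlgebra
       IsSepClosure (IsLocalRing.ResidueField A) (IsLocalRing.ResidueField A')) ∧
      (letI := (IsLocalRing.ResidueField.map (algebraMap B B')).toAlgebra
       IsSepClosure (IsLocalRing.ResidueField B) (IsLocalRing.ResidueField B')) ∧
      ((∃ (K₁ : Type u) (_ : Field K₁) (_ : Algebra K' K₁), FiniteDimensional K' K₁ ∧ EtRam.IsSolution B' K' L' K₁) →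
        ∃ (K₁ : Type u) (_ : Field K₁) (_ : Algebra K K₁), FiniteDimensional K K₁ ∧ EtRam.IsSolution B K L K₁) ∧
      ((∃ (K₁ : Type u) (_ : Field K₁) (_ : Algebra K' K₁), FiniteDimensional K' K₁ ∧ Algebra.IsSeparable K' K₁ ∧
          EtRam.IsSolution B' K' L' K₁) →
        ∃ (K₁ : Type u) (_ : Field K₁) (_ : Algebra K K₁), FiniteDimensional K K₁ ∧ Algebra.IsSeparable K K₁ ∧
          EtRam.IsSolution B K L K₁) := by
  classical
  obtain ⟨A', _, _, _, _, hlocA, hSA, hinjA, hmaxA⟩ := EtRamSh7162.exists_strict_dvr A
  obtain ⟨B', _, _, _, _, hlocB, hSB, hinjB, -⟩ := EtRamSh7162.exists_strict_dvr B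
  haveI := hlocA; haveI := hlocB; haveI := hSA; haveI := hSB
  haveI : HenselianLocalRing B' := hSB.henselian
  haveI := hSB.isSepClosure.sep_closed
  haveI := hSA.isSepClosure.separable
  let fA : A →+* B' := (algebraMap B B').comp (algebraMap A B)
  haveI : IsLocalHom fA := RingHom.isLocalHom_comp _ _
  letI : Algebra (IsLocalRing.ResidueField A) (IsLocalRing.ResidueField B') := (IsLocalRing.ResidueField.map fA).toAlgebra
  let τ : IsLocalRing.ResidueField A' →ₐ[IsLocalRing.ResidueField A] IsLocalRing.ResidueField B' := IsSepClosed.lift
  obtain ⟨g, ⟨hg, hgres⟩, -⟩ := hSA.universal B' fA τ.toRingHom (RingHom.ext fun x => τ.commutes x)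
  letI : Algebra A' B' := g.toAlgebra
  letI : Algebra A B' := fA.toAlgebra
  haveI : IsScalarTower A B B' := IsScalarTower.of_algebraMap_eq fun _ => rfl
  haveI : IsScalarTower A A' B' := IsScalarTower.of_algebraMap_eq fun x => (RingHom.congr_fun hg x).symm
  haveI hgloc : IsLocalHom (algebraMap A' B') := ⟨fun x hx => by
    by_contra hu
    have h1 := hgres x
    rw [(IsLocalRing.residue_eq_zero_iff x).2 hu, map_zero, IsLocalRing.residue_eq_zero_iff] at h1
    exact h1 hx⟩
  have hginj : Function.Injective g := by
    rw [injective_iff_map_eq_zero]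
    intro x hx
    by_contra hx0
    obtain ⟨π, hπ⟩ := IsDiscreteValuationRing.exists_irreducible A
    obtain ⟨ϖ, hϖ⟩ := IsDiscreteValuationRing.exists_irreducible A'
    obtain ⟨n, u, rfl⟩ := IsDiscreteValuationRing.eq_unit_mul_pow_irreducible hx0 hϖ
    obtain ⟨m, v, hv⟩ := IsDiscreteValuationRing.eq_unit_mul_pow_irreducible
      (fun h : algebraMap A A' π = 0 => hπ.ne_zero (hinjA (by rw [h, map_zero]))) hϖ
    rw [map_mul, map_pow, mul_eq_zero] at hx
    have hϖ0 : g ϖ = 0 := by
      rcases hx with h | h
      · exact absurd h (IsUnit.ne_zero (u.isUnit.map g))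
      · exact (pow_eq_zero_iff'.1 h).1
    have hm : m ≠ 0 := fun h => by
      have : IsUnit (algebraMap A A' π) := by rw [hv, h, pow_zero, mul_one]; exact v.isUnit
      exact hπ.not_isUnit (isUnit_of_map_unit (algebraMap A A') π this)
    have h0 : fA π = 0 := by
      rw [← hg, RingHom.comp_apply, hv, map_mul, map_pow, hϖ0, zero_pow hm, mul_zero]
    exact hπ.ne_zero (hinj (hinjB (by rw [map_zero, map_zero]; exact h0)))
  let K' := FractionRing A'
  let L' := FractionRing B'
  have hA'L : Function.Injective (algebraMap A' L') := (IsFractionRing.injective B' L').comp hginj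
  letI : Algebra K' L' := (IsFractionRing.lift (A := A') (K := K') hA'L).toAlgebra
  haveI : IsScalarTower A' K' L' := IsScalarTower.of_algebraMap_eq fun x =>
    (IsFractionRing.lift_algebraMap (A := A') (K := K') hA'L x).symm
  have hAK : Function.Injective (algebraMap A K') := (IsFractionRing.injective A' K').comp hinjA
  letI : Algebra K K' := (IsFractionRing.lift (A := A) (K := K) hAK).toAlgebra
  haveI : IsScalarTower A K K' := IsScalarTower.of_algebraMap_eq fun x =>
    (IsFractionRing.lift_algebraMap (A := A) (K := K) hAK x).symm
  have hBL : Function.Injective (algebraMap B L') := (IsFractionRing.injective B' L').comp hinjB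
  letI : Algebra L L' := (IsFractionRing.lift (A := B) (K := L) hBL).toAlgebra
  haveI : IsScalarTower B L L' := IsScalarTower.of_algebraMap_eq fun x =>
    (IsFractionRing.lift_algebraMap (A := B) (K := L) hBL x).symm
  haveI hsK : Algebra.IsSeparable K K' := EtRamSh7162.isSeparable_fraction A A' K K'
  haveI hsL : Algebra.IsSeparable L L' := EtRamSh7162.isSeparable_fraction B B' L L'
  have hKL : ∀ x : K, algebraMap K' L' (algebraMap K K' x) = algebraMap L L' (algebraMap K L x) := by
    have : (algebraMap K' L').comp (algebraMap K K') = (algebraMap L L').comp (algebraMap K L) :=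
      IsLocalization.ringHom_ext (nonZeroDivisors A) (RingHom.ext fun a => by
        show algebraMap K' L' (algebraMap K K' (algebraMap A K a)) = algebraMap L L' (algebraMap K L (algebraMap A K a))
        rw [← IsScalarTower.algebraMap_apply A K K', ← IsScalarTower.algebraMap_apply A K L,
          IsScalarTower.algebraMap_apply A A' K', IsScalarTower.algebraMap_apply A B L,
          ← IsScalarTower.algebraMap_apply A' K' L', ← IsScalarTower.algebraMap_apply B L L',
          IsScalarTower.algebraMap_apply A' B' L', IsScalarTower.algebraMap_apply B B' L',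
          ← IsScalarTower.algebraMap_apply A A' B', ← IsScalarTower.algebraMap_apply A B B'])
    exact RingHom.congr_fun this
  refine ⟨A', B', K', L', inferInstance, inferInstance, inferInstance, inferInstance, inferInstance, inferInstance,
    inferInstance, inferInstance, inferInstance, inferInstance, inferInstance, inferInstance, inferInstance,
    inferInstance, inferInstance, inferInstance, inferInstance, inferInstance, inferInstance, inferInstance,
    inferInstance, inferInstance, inferInstance, inferInstance, inferInstance, inferInstance, inferInstance,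
    inferInstance, inferInstance, inferInstance, hlocA, hlocB, hgloc, hinjA, hinjB, hginj, hsK, hsL, ?_, ?_, ?_, ?_⟩
  · convert hSA.isSepClosure using 1
    refine Algebra.algebra_ext _ _ fun x => ?_
    obtain ⟨y, rfl⟩ := IsLocalRing.residue_surjective x
    rfl
  · convert hSB.isSepClosure using 1
    refine Algebra.algebra_ext _ _ fun x => ?_
    obtain ⟨y, rfl⟩ := IsLocalRing.residue_surjective x
    rfl
  · rintro ⟨K₁, _, _, hfin, hs⟩
    haveI := hfin
    obtain ⟨K₀, i1, i2, h1, -, h3⟩ :=
      EtRamSh7162.descend (A := A) (B := B) (L := L) hinjA hmaxA hKL hinjB K₁ hs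
    exact ⟨K₀, i1, i2, h1, h3⟩
  · rintro ⟨K₁, _, _, hfin, hsep, hs⟩
    haveI := hfin
    obtain ⟨K₀, i1, i2, h1, h2, h3⟩ :=
      EtRamSh7162.descend (A := A) (B := B) (L := L) hinjA hmaxA hKL hinjB K₁ hs
    exact ⟨K₀, i1, i2, h1, h2 hsep, h3⟩

end Groth.Agent.S7162
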