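import Groth.Statements.S7164
import Groth.Agent.ExtPro.Basic

set_option autoImplicit false
universe u
open CategoryTheory
attribute [local instance] HasDerivedCategory.standard
open CAlg

namespace Groth.Agent.S7164

/-- Let A be a Noetherian ring, I an ideal, K a pseudo-coherent object of D(A) and a an integer. Assume
that for every finite A-module M and every i ≥ a the module Ext^i_A(K, M) is I-power torsion. Then
for i ≥ a and M finite the inverse system (Ext^i_A(K, M/IⁿM))_n is essentially constant with value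
Ext^i_A(K, M) (so that Ext^i_A(K, M) = lim Ext^i_A(K, M/IⁿM)): concretely, some comparison map
Ext^i(K, M) → Ext^i(K, M/I^mM) is injective and for every n there is m' ≥ n such that the image of
the transition map Ext^i(K, M/I^(m')M) → Ext^i(K, M/IⁿM) is contained in the image of Ext^i(K, M).
Here Ext^i(K, X) = Hom_{D(A)}(K, X[i]). -/
theorem result (A : Type u) [CommRing A] [IsNoetherianRing A]
    (I : Ideal A) (K : Dual.D A) (hK : DRing.IsPseudoCoherent' A K) (a : ℤ)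
    (htors : ∀ (M : Type u) [AddCommGroup M] [Module A M], Module.Finite A M → ∀ i : ℤ, a ≤ i →
      ∀ e : K ⟶ (Dual.inD A M)⟦i⟧, ∃ n : ℕ, ∀ x ∈ I ^ n, x • e = 0)
    (M : Type u) [AddCommGroup M] [Module A M] [Module.Finite A M] (i : ℤ) (hi : a ≤ i) :
    let Mq : ℕ → Submodule A M := fun n => I ^ n • ⊤
    let c : ∀ n : ℕ, (K ⟶ (Dual.inD A M)⟦i⟧) → (K ⟶ (Dual.inD A (M ⧸ Mq n))⟦i⟧) :=
      fun n e => e ≫ ((DerivedCategory.singleFunctor (ModuleCat.{u} A) 0).map (ModuleCat.ofHom (Mq n).mkQ))⟦i⟧'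
    let t : ∀ n m : ℕ, n ≤ m → (K ⟶ (Dual.inD A (M ⧸ Mq m))⟦i⟧) → (K ⟶ (Dual.inD A (M ⧸ Mq n))⟦i⟧) :=
      fun n m hnm e => e ≫ ((DerivedCategory.singleFunctor (ModuleCat.{u} A) 0).map (ModuleCat.ofHom
        (Submodule.mapQ (Mq m) (Mq n) (LinearMap.id : M →ₗ[A] M) (Submodule.smul_mono_left (Ideal.pow_le_pow_right hnm)))))⟦i⟧'
    (∃ m : ℕ, Function.Injective (c m)) ∧
      ∀ n : ℕ, ∃ (m' : ℕ) (hnm : n ≤ m'), Set.range (t n m' hnm) ⊆ Set.range (c n) := by
  obtain ⟨P, b, hPb, hP, ⟨e⟩⟩ := hK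
  have hPp : ∀ j, Projective (P.X j) := fun j =>
    haveI := (hP j).2
    (IsProjective.iff_projective (R := A) (P.X j)).1 inferInstance
  haveI := Groth.Agent.DRingKP.isKProjective_of_vanishesAbove hPb hPp
  intro Mq c t
  let M₀ := ModuleCat.of A M
  have hb : ∀ (j : ℤ), a ≤ j → ∀ n, ∃ m, n ≤ m ∧ ∀ u : P.X (-j) ⟶ M₀, ExtPro.IsCocycle P j u →
      (∀ x, u.hom x ∈ I ^ m • (⊤ : Submodule A M)) →
      ∃ g : P.X (-j + 1) ⟶ M₀, (∀ x, g.hom x ∈ I ^ n • (⊤ : Submodule A M)) ∧ P.d (-j) (-j + 1) ≫ g = u :=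
    fun j hj n => by
      haveI : Module.Finite A M₀ := inferInstanceAs (Module.Finite A M)
      exact ExtPro.exists_bound P K j hP I (fun f => htors M inferInstance j hj f) e n
  refine ⟨?_, fun n => ?_⟩
  · obtain ⟨m, -, hm⟩ := hb i hi 0
    refine ⟨m, fun f₁ f₂ h => ?_⟩
    obtain ⟨u₁, hu₁, rfl⟩ := ExtPro.exists_cls P K e i f₁
    obtain ⟨u₂, hu₂, rfl⟩ := ExtPro.exists_cls P K e i f₂
    have hu : ExtPro.IsCocycle P i (u₁ - u₂) := fun j => by rw [Preadditive.comp_sub, hu₁ j, hu₂ j, sub_self]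
    have hsub : ExtPro.cls P K e i (u₁ - u₂) hu = ExtPro.cls P K e i u₁ hu₁ - ExtPro.cls P K e i u₂ hu₂ := by
      have : ExtPro.chain P i (u₁ - u₂) hu = ExtPro.chain P i u₁ hu₁ - ExtPro.chain P i u₂ hu₂ := by
        refine HomologicalComplex.to_single_hom_ext ?_
        rw [HomologicalComplex.sub_f_apply, ExtPro.chain_f, ExtPro.chain_f, ExtPro.chain_f, Preadditive.sub_comp]
      simp only [ExtPro.cls, this, Functor.map_sub, Preadditive.sub_comp, Preadditive.comp_sub]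
    rw [← sub_eq_zero, ← hsub, ExtPro.cls_eq_zero_iff]
    let q : M₀ ⟶ ModuleCat.of A (M ⧸ Mq m) := ModuleCat.ofHom (Mq m).mkQ
    have h0 : ExtPro.cls P K e i ((u₁ - u₂) ≫ q) (ExtPro.isCocycle_comp P i hu q) = 0 := by
      rw [← ExtPro.cls_comp P K e i _ hu q, hsub, Preadditive.sub_comp, sub_eq_zero]
      exact h
    rw [ExtPro.cls_eq_zero_iff] at h0
    obtain ⟨g, hg⟩ := h0
    haveI : Module.Free A (P.X (-i + 1)) := (hP (-i + 1)).2
    obtain ⟨g', hg'⟩ := Module.projective_lifting_property (Mq m).mkQ g.hom (Submodule.mkQ_surjective _)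
    let v : P.X (-i) ⟶ M₀ := (u₁ - u₂) - P.d (-i) (-i + 1) ≫ ModuleCat.ofHom g'
    have hv : ExtPro.IsCocycle P i v := fun j => by
      simp only [v, Preadditive.comp_sub, hu j, ← Category.assoc, HomologicalComplex.d_comp_d, Limits.zero_comp, sub_self]
    have hvI : ∀ x, v.hom x ∈ I ^ m • (⊤ : Submodule A M) := fun x => by
      have h1 := LinearMap.congr_fun (congrArg ModuleCat.Hom.hom hg) x
      have h2 := LinearMap.congr_fun hg' ((P.d (-i) (-i + 1)).hom x)
      refine (Submodule.Quotient.mk_eq_zero (Mq m)).1 ?_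
      change (Mq m).mkQ ((u₁ - u₂).hom x - g' ((P.d (-i) (-i + 1)).hom x)) = 0
      rw [map_sub, sub_eq_zero]
      exact h1.symm.trans h2.symm
    obtain ⟨k, -, hk⟩ := hm v hv hvI
    exact ⟨k + ModuleCat.ofHom g', by rw [Preadditive.comp_add, hk]; exact sub_add_cancel _ _⟩
  · obtain ⟨m, hnm, hm⟩ := hb (i + 1) (hi.trans (by omega)) n
    refine ⟨m, hnm, ?_⟩
    rintro _ ⟨f, rfl⟩
    obtain ⟨u, hu, rfl⟩ := ExtPro.exists_cls P K e i f
    haveI : Module.Free A (P.X (-i)) := (hP (-i)).2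
    obtain ⟨u', hu'⟩ := Module.projective_lifting_property (Mq m).mkQ u.hom (Submodule.mkQ_surjective _)
    let w : P.X (-(i + 1)) ⟶ M₀ := P.d (-(i + 1)) (-i) ≫ ModuleCat.ofHom u'
    have hw : ExtPro.IsCocycle P (i + 1) w := fun j => by
      simp only [w, ← Category.assoc, HomologicalComplex.d_comp_d, Limits.zero_comp]
    have hwI : ∀ x, w.hom x ∈ I ^ m • (⊤ : Submodule A M) := fun x => by
      refine (Submodule.Quotient.mk_eq_zero (Mq m)).1 ?_
      exact (LinearMap.congr_fun hu' _).trans (LinearMap.congr_fun (congrArg ModuleCat.Hom.hom (hu (-(i + 1)))) x)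
    obtain ⟨h₀, hh₀I, hh₀⟩ := hm w hw hwI
    obtain ⟨k, hk, hkI⟩ : ∃ k : P.X (-i) ⟶ M₀, P.d (-(i + 1)) (-i) ≫ k = w ∧ ∀ x, k.hom x ∈ I ^ n • (⊤ : Submodule A M) := by
      have aux : ∀ (j : ℤ), j = -(i + 1) + 1 → ∃ k : P.X j ⟶ M₀, P.d (-(i + 1)) j ≫ k = w ∧
          ∀ x, k.hom x ∈ I ^ n • (⊤ : Submodule A M) := by
        rintro j rfl
        exact ⟨h₀, hh₀, hh₀I⟩
      exact aux (-i) (by omega)
    let v : P.X (-i) ⟶ M₀ := ModuleCat.ofHom u' - k
    have hv : ExtPro.IsCocycle P i v := fun j => by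
      by_cases hj : j = -(i + 1)
      · subst hj
        rw [Preadditive.comp_sub, hk, sub_self]
      · rw [P.shape j (-i) (by simp only [ComplexShape.up_Rel]; omega), Limits.zero_comp]
    refine ⟨ExtPro.cls P K e i v hv, ?_⟩
    have hc : c n (ExtPro.cls P K e i v hv) = _ := ExtPro.cls_comp P K e i v hv (ModuleCat.ofHom (Mq n).mkQ)
    have ht : t n m hnm (ExtPro.cls P K e i u hu) = _ := ExtPro.cls_comp P K e i u hu _
    rw [hc, ht]
    refine ExtPro.cls_congr P K e i _ _ (ModuleCat.hom_ext (LinearMap.ext fun x => ?_))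
    change (Mq n).mkQ (u' x - k.hom x) = _
    rw [map_sub, (Submodule.Quotient.mk_eq_zero (Mq n)).2 (hkI x) |> fun h => (show (Mq n).mkQ (k.hom x) = 0 from h), sub_zero]
    have := LinearMap.congr_fun hu' x
    refine Eq.trans ?_ (congrArg (Submodule.mapQ (Mq m) (Mq n) (LinearMap.id : M →ₗ[A] M)
      (Submodule.smul_mono_left (Ideal.pow_le_pow_right hnm))) this)
    rfl

end Groth.Agent.S7164
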