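import Groth.Statements.S7165
import Groth.Agent.KA7165.Main

set_option autoImplicit false
universe u
open EtAlg

namespace Groth.Agent.S7165

open TensorProduct in
/-- Let A → B be an injective local homomorphism of discrete valuation rings whose fields of fractions
are K ⊆ L, the A-algebra B being essentially of finite type. Let K' ⊇ K be an algebraic extension
field for which A', the integral closure of A in K', is a Noetherian ring, and let L' = (L ⊗_K
K')_red. Then B', the integral closure of B in L', is a Noetherian ring. (The published statement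
also asserts that Spec B' → Spec A' is surjective and that the residue field extensions are finitely
generated; this row states only that B' is Noetherian.) -/
theorem result (A B K L : Type u) [CommRing A] [IsDomain A]
    [IsDiscreteValuationRing A] [CommRing B] [IsDomain B] [IsDiscreteValuationRing B] [Algebra A B]
    (hinj : Function.Injective (algebraMap A B)) [IsLocalHom (algebraMap A B)] [Algebra.EssFiniteType A B]
    [Field K] [Field L] [Algebra A K] [IsFractionRing A K] [Algebra B L] [IsFractionRing B L]
    [Algebra K L] [Algebra A L] [IsScalarTower A K L] [IsScalarTower A B L]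
    (K' : Type u) [Field K'] [Algebra K K'] [Algebra A K'] [IsScalarTower A K K'] [Algebra.IsAlgebraic K K']
    (hA' : IsNoetherianRing (integralClosure A K'))
    (L' : Type u) [CommRing L'] [IsReduced L'] [Algebra K L'] [Algebra L L'] [Algebra K' L'] [Algebra B L']
    [IsScalarTower K L L'] [IsScalarTower K K' L'] [IsScalarTower B L L']
    (q : L ⊗[K] K' →ₐ[K] L') (hq : Function.Surjective q) (hker : RingHom.ker q.toRingHom = nilradical (L ⊗[K] K'))
    (hqL : ∀ y : L, q (y ⊗ₜ 1) = algebraMap L L' y) (hqK : ∀ z : K', q (1 ⊗ₜ z) = algebraMap K' L' z) :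
    IsNoetherianRing (integralClosure B L') := by
  letI : Algebra A L' := ((algebraMap B L').comp (algebraMap A B)).toAlgebra
  haveI : IsScalarTower A B L' := IsScalarTower.of_algebraMap_eq' rfl
  haveI : IsScalarTower A K' L' := IsScalarTower.of_algebraMap_eq fun a => by
    show algebraMap B L' (algebraMap A B a) = _
    rw [IsScalarTower.algebraMap_apply A K K', ← IsScalarTower.algebraMap_apply K K' L',
      IsScalarTower.algebraMap_apply B L L', ← IsScalarTower.algebraMap_apply A B L,
      IsScalarTower.algebraMap_apply K L L', ← IsScalarTower.algebraMap_apply A K L]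
  let A' := integralClosure A K'
  haveI : IsNoetherianRing A' := hA'
  let g : A' →ₐ[A] L' := (IsScalarTower.toAlgHom A K' L').comp A'.val
  let ψ : A' ⊗[A] B →ₐ[A] L' :=
    Algebra.TensorProduct.lift g (IsScalarTower.toAlgHom A B L') fun _ _ => Commute.all _ _
  let R : Subalgebra B L' :=
    { ψ.range.toSubsemiring with algebraMap_mem' := fun b => ⟨1 ⊗ₜ b, by simp [ψ]⟩ }
  haveI : IsNoetherianRing (A' ⊗[A] B) := Algebra.EssFiniteType.isNoetherianRing A' _
  haveI : IsNoetherianRing R := isNoetherianRing_of_surjective (A' ⊗[A] B) R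
    (ψ.toRingHom.codRestrict R fun x => ⟨x, rfl⟩) (by rintro ⟨_, x, rfl⟩; exact ⟨x, rfl⟩)
  haveI : Algebra.IsIntegral B R := ⟨fun r => by
    refine (isIntegral_algHom_iff R.val Subtype.val_injective).1 ?_
    obtain ⟨x, hx⟩ := r.2
    rw [show R.val r = ψ x from hx.symm]
    clear hx
    induction x using TensorProduct.induction_on with
    | zero => rw [map_zero]; exact isIntegral_zero
    | add x y hx hy => rw [map_add]; exact hx.add hy
    | tmul a b =>
      rw [Algebra.TensorProduct.lift_tmul]
      exact (((integralClosure.isIntegral a).map g).tower_top).mul isIntegral_algebraMap⟩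
  refine KA7165.isNoetherianRing_integralClosure (fun b hb => ?_) R fun z => ?_
  · rw [IsScalarTower.algebraMap_apply B L L']
    exact (isUnit_iff_ne_zero.2 fun h => hb (IsFractionRing.injective B L (h.trans (map_zero _).symm))).map _
  obtain ⟨t, rfl⟩ := hq z
  induction t using TensorProduct.induction_on with
  | zero => exact ⟨1, one_ne_zero, by rw [map_zero, mul_zero]; exact R.zero_mem⟩
  | add x y hx hy =>
    obtain ⟨b, hb, hbx⟩ := hx
    obtain ⟨c, hc, hcy⟩ := hy
    refine ⟨b * c, mul_ne_zero hb hc, ?_⟩
    rw [map_add, map_mul, mul_add, mul_right_comm]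
    refine R.add_mem (R.mul_mem hbx (R.algebraMap_mem c)) ?_
    rw [mul_assoc]
    exact R.mul_mem (R.algebraMap_mem b) hcy
  | tmul l k =>
    obtain ⟨⟨b₁, b₂⟩, hl⟩ := IsLocalization.surj (nonZeroDivisors B) l
    obtain ⟨a, ha, hak⟩ :=
      ((IsFractionRing.isAlgebraic_iff A K K').2 (Algebra.IsAlgebraic.isAlgebraic k)).exists_integral_multiple
    refine ⟨b₂ * algebraMap A B a, mul_ne_zero (nonZeroDivisors.ne_zero b₂.2)
      (fun h => ha (hinj (h.trans (map_zero _).symm))), ?_⟩
    have h1 : algebraMap B L' b₁ * g ⟨a • k, hak⟩ ∈ R :=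
      ⟨⟨a • k, hak⟩ ⊗ₜ b₁, by simp [ψ, mul_comm]⟩
    convert h1 using 1
    have h2 : q (l ⊗ₜ k) = algebraMap L L' l * algebraMap K' L' k := by
      rw [← hqL, ← hqK, ← map_mul, Algebra.TensorProduct.tmul_mul_tmul, mul_one, one_mul]
    rw [h2, show g ⟨a • k, hak⟩ = algebraMap K' L' (a • k) from rfl, Algebra.smul_def a k, map_mul,
      map_mul, ← IsScalarTower.algebraMap_apply A B L', ← IsScalarTower.algebraMap_apply A K' L',
      IsScalarTower.algebraMap_apply B L L' b₁, ← hl, map_mul, ← IsScalarTower.algebraMap_apply B L L']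
    ring

end Groth.Agent.S7165
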