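import Groth.Statements.S7170
import Groth.Agent.PCMor.Scheme
import Groth.Agent.RelPC.More

set_option autoImplicit false
set_option linter.style.haveILetI false
set_option backward.isDefEq.respectTransparency false
open Groth.Agent
universe u
attribute [local instance] HasDerivedCategory.standard
open FlatMor

namespace Groth.Agent.S7170

open AlgebraicGeometry CategoryTheory Limits in
/-- For a finite morphism f : X → S, pseudo-coherence of f is equivalent to pseudo-coherence of the
O_S-module f_* O_X; as f is affine, the latter means that O_X(f⁻¹ V) is a pseudo-coherent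
O_S(V)-module for every affine open V of S, the form used here. -/
theorem result {X S : Scheme.{u}} (f : X ⟶ S) [IsFinite f] :
    MoreMor.IsPseudoCoherentMor f ↔ ∀ (V : S.Opens), IsAffineOpen V →
      (letI := (f.app V).hom.toAlgebra
       DRing.IsPseudoCoherentModule' Γ(S, V) Γ(X, f ⁻¹ᵁ V)) := by
  have key : ∀ (A B : Type u) [CommRing A] [CommRing B] [Algebra A B] [Module.Finite A B],
      MoreMor.IsPseudoCoherentHom A B ↔ DRing.IsPseudoCoherentModule' A B := by
    intro A B _ _ _ _
    obtain ⟨k, b, hb⟩ := Module.Finite.exists_fin (R := A) (M := B)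
    let φ : MvPolynomial (Fin k) A →+* B := MvPolynomial.eval₂Hom (algebraMap A B) b
    have hφ : Function.Surjective φ := by
      intro x
      have hx : x ∈ Submodule.span A (Set.range b) := hb ▸ Submodule.mem_top
      induction hx using Submodule.span_induction with
      | mem x hx => obtain ⟨i, rfl⟩ := hx; exact ⟨MvPolynomial.X i, MvPolynomial.eval₂Hom_X' _ _ i⟩
      | zero => exact ⟨0, map_zero φ⟩
      | add x y _ _ hx hy =>
        obtain ⟨p, rfl⟩ := hx; obtain ⟨q, rfl⟩ := hy
        exact ⟨p + q, map_add φ p q⟩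
      | smul a x _ hx =>
        obtain ⟨p, rfl⟩ := hx
        exact ⟨MvPolynomial.C a * p, by rw [map_mul, Algebra.smul_def]; simp [φ]⟩
    have h1 : PCMor.PC (algebraMap A B) ↔ RelPC.PCHom φ :=
      PCMor.pc_iff_pcHom hφ (RingHom.ext fun a => MvPolynomial.eval₂Hom_C _ _ a)
    have h0 : MoreMor.IsPseudoCoherentHom A B ↔ PCMor.PC (algebraMap A B) := by
      have e : (algebraMap A B).toAlgebra = ‹Algebra A B› := Algebra.algebra_ext _ _ fun _ => rfl
      show _ ↔ @MoreMor.IsPseudoCoherentHom A B _ _ (algebraMap A B).toAlgebra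
      rw [e]
    rw [h0, h1, ← RelPC.pcHom_iff_module]
    unfold RelPC.PCHom
    rw [DRingKP.pc'_iff, DRingKP.pc'_iff]
    exact forall_congr' fun m => RelPC.pc_eval₂Hom_iff (algebraMap A B) b
      (fun j => Algebra.IsIntegral.isIntegral (R := A) (b j)) m _
  have hfin : ∀ (V : S.Opens), IsAffineOpen V → (f.app V).hom.Finite := fun V hV =>
    IsFinite.finite_app f V hV
  constructor
  · intro h V hV
    have h1 := h (f ⁻¹ᵁ V) V (hV.preimage f) hV le_rfl
    have e : f.appLE V (f ⁻¹ᵁ V) le_rfl = f.app V := Scheme.Hom.appLE_eq_app f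
    rw [e] at h1
    letI := (f.app V).hom.toAlgebra
    haveI : Module.Finite Γ(S, V) Γ(X, f ⁻¹ᵁ V) := hfin V hV
    exact (key _ _).1 h1
  · intro h
    refine PCMor.of_forall_exists (P := @MoreMor.IsPseudoCoherentMor) f PCMor.pc_locSource fun x => ?_
    obtain ⟨V, hV, hxV, -⟩ := exists_isAffineOpen_mem_and_subset (show f x ∈ (⊤ : S.Opens) from trivial)
    refine ⟨f ⁻¹ᵁ V, V, le_rfl, hV.preimage f, hV, hxV, ?_⟩
    rw [Scheme.Hom.appLE_eq_app]
    letI := (f.app V).hom.toAlgebra
    haveI : Module.Finite Γ(S, V) Γ(X, f ⁻¹ᵁ V) := hfin V hV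
    exact (key _ _).2 (h V hV)

end Groth.Agent.S7170
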