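import Groth.Statements.S7176
import Groth.Agent.KoszulLib.SchNoeth
import Groth.Agent.TorCI.Pair
import Groth.Agent.S7174

set_option autoImplicit false
set_option linter.style.haveILetI false
set_option backward.isDefEq.respectTransparency false
open Groth.Agent
universe u
attribute [local instance] HasDerivedCategory.standard
open FlatMor

namespace Groth.Agent.S7176

open AlgebraicGeometry CategoryTheory Limits in
/-- Let i : Z → Y and j : Y → X be immersions with X locally Noetherian, j ∘ i a regular immersion and i
perfect. Then i is a regular immersion and j is a regular immersion at every point i(z), z in Z.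
(The published statement concludes that j is a regular immersion outright; its proof works in the
local rings of X at points of Z, and for Z empty the hypotheses hold for every immersion j, so the
conclusion on j is stated at the points of i(Z) only.) Over a locally Noetherian scheme the four
kinds of regular immersion agree; the kind is a parameter here. -/
theorem result {Z Y X : Scheme.{u}} (i : Z ⟶ Y) (j : Y ⟶ X) [IsImmersion i] [IsImmersion j]
    [IsLocallyNoetherian X] (k : RegImm.Kind) (h : RegImm.IsRegularImmersion k (i ≫ j)) (hi : MoreMor.IsPerfectMor i) :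
    RegImm.IsRegularImmersion k i ∧ ∀ z : Z, RegImm.IsRegularImmersionAt k j (i z) := by
  haveI : IsLocallyNoetherian Y := LocallyOfFiniteType.isLocallyNoetherian j
  have key : ∀ z : Z, (∃ ts : List (X.presheaf.stalk (j (i z))),
      Ideal.ofList ts = RingHom.ker (j.stalkMap (i z)).hom ∧ RingTheory.Sequence.IsRegular (X.presheaf.stalk (j (i z))) ts) ∧
      ∃ ts : List (Y.presheaf.stalk (i z)),
        Ideal.ofList ts = RingHom.ker (i.stalkMap z).hom ∧ RingTheory.Sequence.IsRegular (Y.presheaf.stalk (i z)) ts := by
    intro z
    have hT : PCMor.TD (i.stalkMap z).hom := (S7174.result i fun U V hU hV hUV => (hi U V hU hV hUV).1).1 hi z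
    have hJ := (KoszulLib.isRegularImmersionAt_iff_stalk k (i ≫ j) z).1 (h.2 z)
    rw [show ((i ≫ j).stalkMap z).hom = (i.stalkMap z).hom.comp (j.stalkMap (i z)).hom by
      rw [Scheme.Hom.stalkMap_comp]; rfl] at hJ
    exact TorCI.regular_pair_of_td (j.stalkMap (i z)).hom (j.stalkMap_surjective _) (i.stalkMap z).hom
      (i.stalkMap_surjective _) hT hJ
  exact ⟨⟨inferInstance, fun z => (KoszulLib.isRegularImmersionAt_iff_stalk k i z).2 (key z).2⟩,
    fun z => (KoszulLib.isRegularImmersionAt_iff_stalk k j (i z)).2 (key z).1⟩

end Groth.Agent.S7176
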