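import Groth.Statements.S7177
import Groth.Agent.WeakEt.Stalk
import Groth.Agent.WeakEt.Module

set_option autoImplicit false
universe u
open FlatMor

namespace Groth.Agent.S7177

open AlgebraicGeometry CategoryTheory Limits in
/-- Let f : X → Y have flat diagonal and let F be an O_X-module flat over Y. Then F is flat as an
O_X-module. -/
theorem result {X Y : Scheme.{u}} (f : X ⟶ Y) [Flat (pullback.diagonal f)] (F : X.Modules)
    (hF : FlatMod.IsFlatOver f F) : FlatMod.IsFlat F := by
  intro x
  letI := (f.stalkMap x).hom.toAlgebra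
  letI := FlatMod.moduleStalkOver f F x
  haveI : IsScalarTower (Y.presheaf.stalk (f x)) (X.presheaf.stalk x) (F.presheaf.stalk x) :=
    IsScalarTower.of_algebraMap_smul fun _ _ => rfl
  haveI : Module.Flat (Y.presheaf.stalk (f x)) (F.presheaf.stalk x) := hF x
  exact Groth.Agent.WeakEt.flat_of_flat_lmul (Groth.Agent.WeakEt.flat_lmul_stalk f x) (F.presheaf.stalk x)

end Groth.Agent.S7177
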