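import Groth.Statements.S7183
import Groth.Agent.Pinch.Milnor

set_option autoImplicit false
universe u
open FlatMor

open CategoryTheory Limits AlgebraicGeometry Groth.Agent
set_option backward.isDefEq.respectTransparency false
namespace Groth.Agent.S7183

open AlgebraicGeometry CategoryTheory Limits in
/-- Let i : Z → X, j : Z → Y be closed immersions with pushout P, let X' → X and Y' → Y be morphisms
whose base changes to Z are identified (a scheme Z' cartesian over both), let P' be the pushout of
Z' → X' and Z' → Y' and h : P' → P the induced morphism. Then h is locally of finite type (resp.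
flat, resp. flat and locally of finite presentation, resp. smooth, resp. étale) if and only if X' →
X and Y' → Y both are. -/
theorem result {X Y Z P X' Y' Z' P' : Scheme.{u}}
    (i : Z ⟶ X) (j : Z ⟶ Y) [IsClosedImmersion i] [IsClosedImmersion j] (a : X ⟶ P) (b : Y ⟶ P) (hP : IsPushout i j a b)
    (f : X' ⟶ X) (g : Y' ⟶ Y) (i' : Z' ⟶ X') (j' : Z' ⟶ Y') (c : Z' ⟶ Z) (hX : IsPullback i' c f i) (hY : IsPullback j' c g j)
    (a' : X' ⟶ P') (b' : Y' ⟶ P') (hP' : IsPushout i' j' a' b') (h : P' ⟶ P) (ha : a' ≫ h = f ≫ a) (hb : b' ≫ h = g ≫ b) :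
    (LocallyOfFiniteType h ↔ LocallyOfFiniteType f ∧ LocallyOfFiniteType g) ∧
    (Flat h ↔ Flat f ∧ Flat g) ∧
    ((Flat h ∧ LocallyOfFinitePresentation h) ↔ (Flat f ∧ LocallyOfFinitePresentation f) ∧ (Flat g ∧ LocallyOfFinitePresentation g)) ∧
    (Smooth h ↔ Smooth f ∧ Smooth g) ∧
    (Etale h ↔ Etale f ∧ Etale g) := by
  haveI : IsClosedImmersion i' := MorphismProperty.of_isPullback hX.flip ‹IsClosedImmersion i›
  haveI : IsClosedImmersion j' := MorphismProperty.of_isPullback hY.flip ‹IsClosedImmersion j›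
  have p := Pinch.isPinch_of_isPushout (Pinch.hasCharts_of_closed i j) hP
  have p' := Pinch.isPinch_of_isPushout (Pinch.hasCharts_of_closed i' j') hP'
  have qFT := (RingHom.finiteType_stableUnderComposition.stableUnderCompositionWithLocalizationAway
      RingHom.finiteType_holdsForLocalizationAway).1
  have qFl := (RingHom.Flat.stableUnderComposition.stableUnderCompositionWithLocalizationAway
      RingHom.Flat.holdsForLocalizationAway).1
  have qFP := (RingHom.finitePresentation_stableUnderComposition.stableUnderCompositionWithLocalizationAway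
      RingHom.finitePresentation_holdsForLocalizationAway).1
  have qSm := (RingHom.Smooth.stableUnderComposition.stableUnderCompositionWithLocalizationAway
      RingHom.Smooth.holdsForLocalizationAway).1
  have qEt := (RingHom.Etale.stableUnderComposition.stableUnderCompositionWithLocalizationAway
      (RingHom.Etale.propertyIsLocal.HoldsForLocalizationAway RingHom.Etale.containsIdentities)).1
  refine ⟨⟨?_, fun ⟨hf, hg⟩ => ?_⟩, ⟨?_, fun ⟨hf, hg⟩ => ?_⟩, ⟨?_, fun ⟨⟨hf, hf'⟩, hg, hg'⟩ => ⟨?_, ?_⟩⟩,
    ⟨?_, fun ⟨hf, hg⟩ => ?_⟩, ⟨?_, fun ⟨hf, hg⟩ => ?_⟩⟩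
  · exact Pinch.branches_of RingHom.finiteType_isStableUnderBaseChange qFT (Pinch.hasCharts_of_closed i j) p (Pinch.hasCharts_of_closed i' j') p' hX hY ha hb
  · exact Pinch.of_desc (M := @LocallyOfFiniteType) Pinch.desc_finiteType qFT (Pinch.hasCharts_of_closed i j) p (Pinch.hasCharts_of_closed i' j') p' hX hY ha hb
      (HasRingHomProperty.appLE _ f hf) (HasRingHomProperty.appLE _ g hg)
  · exact Pinch.branches_of RingHom.Flat.isStableUnderBaseChange qFl (Pinch.hasCharts_of_closed i j) p (Pinch.hasCharts_of_closed i' j') p' hX hY ha hb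
  · exact Pinch.of_desc (M := @Flat) Pinch.desc_flat qFl (Pinch.hasCharts_of_closed i j) p (Pinch.hasCharts_of_closed i' j') p' hX hY ha hb
      (HasRingHomProperty.appLE _ f hf) (HasRingHomProperty.appLE _ g hg)
  · rintro ⟨h1, h2⟩
    have e1 := Pinch.branches_of RingHom.Flat.isStableUnderBaseChange qFl (Pinch.hasCharts_of_closed i j) p (Pinch.hasCharts_of_closed i' j') p' hX hY ha hb h1
    have e2 := Pinch.branches_of RingHom.finitePresentation_isStableUnderBaseChange qFP (Pinch.hasCharts_of_closed i j) p (Pinch.hasCharts_of_closed i' j') p' hX hY ha hb h2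
    exact ⟨⟨e1.1, e2.1⟩, e1.2, e2.2⟩
  · exact Pinch.of_desc (M := @Flat) Pinch.desc_flat qFl (Pinch.hasCharts_of_closed i j) p (Pinch.hasCharts_of_closed i' j') p' hX hY ha hb
      (HasRingHomProperty.appLE _ f hf) (HasRingHomProperty.appLE _ g hg)
  · exact Pinch.of_desc (M := @LocallyOfFinitePresentation)
      (Q₁ := fun f => f.Flat ∧ f.FinitePresentation)
      (fun B' B A' A E D C _ _ _ _ _ _ _ _ _ _ _ _ _ _ _ _ _ _ _ _ _ _ _ _ _ hsq h₁ h₂ q₁ q₂ =>
        (Pinch.desc_flat_finitePresentation B' B A' A E D C hsq h₁ h₂ q₁ q₂).2) qFP (Pinch.hasCharts_of_closed i j) p (Pinch.hasCharts_of_closed i' j') p' hX hY ha hb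
      (fun U V e => ⟨HasRingHomProperty.appLE _ f hf U V e, HasRingHomProperty.appLE _ f hf' U V e⟩)
      (fun U V e => ⟨HasRingHomProperty.appLE _ g hg U V e, HasRingHomProperty.appLE _ g hg' U V e⟩)
  · exact Pinch.branches_of RingHom.Smooth.isStableUnderBaseChange qSm (Pinch.hasCharts_of_closed i j) p (Pinch.hasCharts_of_closed i' j') p' hX hY ha hb
  · exact Pinch.of_desc (M := @Smooth) Pinch.desc_smooth qSm (Pinch.hasCharts_of_closed i j) p (Pinch.hasCharts_of_closed i' j') p' hX hY ha hb
      (HasRingHomProperty.appLE _ f hf) (HasRingHomProperty.appLE _ g hg)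
  · exact Pinch.branches_of RingHom.Etale.isStableUnderBaseChange qEt (Pinch.hasCharts_of_closed i j) p (Pinch.hasCharts_of_closed i' j') p' hX hY ha hb
  · exact Pinch.of_desc (M := @Etale) Pinch.desc_etale qEt (Pinch.hasCharts_of_closed i j) p (Pinch.hasCharts_of_closed i' j') p' hX hY ha hb
      (HasRingHomProperty.appLE _ f hf) (HasRingHomProperty.appLE _ g hg)

end Groth.Agent.S7183
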