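import Groth.Statements.S7186
import Groth.Agent.W7Strat.Bundle

set_option autoImplicit false
universe u
open FlatMor

namespace Groth.Agent.S7186

open AlgebraicGeometry CategoryTheory Limits in
/-- Let f : X → S be flat, proper and of finite presentation such that O_T → (f_T)_* O_{X_T} is an
isomorphism for every base change T → S. Suppose E is an O_X-module that is finite locally free and
whose restriction to each fibre X_s is free, and let S be reduced. Then E is isomorphic to the
pullback of a finite locally free O_S-module. -/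
theorem result {X S : Scheme.{u}} (f : X ⟶ S) [Flat f] [IsProper f] [LocallyOfFinitePresentation f]
    (hO : ∀ (T : Scheme.{u}) (g : T ⟶ S) (U : T.Opens), IsIso ((pullback.snd f g).app U))
    (E : X.Modules) (hE : FlatMod.IsFinLocFree E)
    (hfib : ∀ s : S, ∃ r : ℕ, Nonempty ((Scheme.Modules.pullback (f.fiberι s)).obj E ≅ FlatMod.freeMod (f.fiber s) r))
    [IsReduced S] :
    ∃ N : S.Modules, FlatMod.IsFinLocFree N ∧ Nonempty ((Scheme.Modules.pullback f).obj N ≅ E) := by
  haveI := W7Strat.univO_of_forall hO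
  obtain ⟨Z, j, h1, -, -, hfac, hrange⟩ := W7Strat.exists_seesaw_bundle (f := f) hE
  have hsurj : Function.Surjective j.base := Set.range_eq_univ.1 (hrange.trans (Set.eq_univ_of_forall fun s =>
    (W7Strat.trivF_fibre_iff s).2 (hfib s)))
  haveI : IsClosedImmersion j := IsClosedImmersion.of_isPreimmersion _
    (by rw [Set.range_eq_univ.2 hsurj]; exact isClosed_univ)
  haveI : Surjective j := ⟨hsurj⟩
  haveI : IsIso j := isIso_of_isClosedImmersion_of_surjective j
  obtain ⟨N, hN, ⟨e⟩⟩ := (W7Strat.trivF_iff_exists (𝟙 S)).1 ((hfac S (𝟙 S)).1 ⟨inv j, IsIso.inv_hom_id j⟩)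
  have hinv : inv (pullback.fst f (𝟙 S)) ≫ pullback.snd f (𝟙 S) = f := by
    rw [IsIso.inv_comp_eq, pullback.condition, Category.comp_id]
  let a := inv (pullback.fst f (𝟙 S))
  refine ⟨N, hN, ⟨((Scheme.Modules.pullbackCongr hinv).app N).symm ≪≫
    ((Scheme.Modules.pullbackComp a (pullback.snd f (𝟙 S))).app N).symm ≪≫
    (Scheme.Modules.pullback a).mapIso e.symm ≪≫ (Scheme.Modules.pullbackComp a (pullback.fst f (𝟙 S))).app E ≪≫
    (Scheme.Modules.pullbackCongr (IsIso.inv_hom_id (pullback.fst f (𝟙 S)))).app E ≪≫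
    (Scheme.Modules.pullbackId X).app E⟩⟩

end Groth.Agent.S7186
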