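import Groth.Statements.S7188
import Groth.Agent.W7Strat.Bundle
import Groth.Agent.W7See.Locus

set_option autoImplicit false
universe u
open FlatMor

namespace Groth.Agent.S7188

open AlgebraicGeometry CategoryTheory in
lemma nonempty_iso_unit_of_free {P : Scheme.{u}} [Nonempty P] {M : P.Modules} {n : ℕ} (hM : PicF.IsInvertible M)
    (e : M ≅ FlatMod.freeMod P n) : Nonempty (M ≅ Coh.structureModule P) := by
  obtain ⟨p⟩ : Nonempty P := inferInstance
  obtain ⟨U, hp, ⟨i⟩⟩ := hM p
  obtain ⟨a⟩ := W7Strat.nonempty_iso_free (⊤ : P.Opens).ι (by simp)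
    (W7Strat.isFrame_app e.symm (W7Strat.isFrame_freeMod P n))
  obtain rfl : (1 : ℕ) = n := ModDesc.rank_unique
    (i ≪≫ (Limits.coproductUniqueIso fun _ : Fin 1 => Coh.structureModule (↑U : Scheme.{u})).symm) a hp trivial
  exact ⟨e ≪≫ Limits.coproductUniqueIso fun _ : Fin 1 => Coh.structureModule P⟩


open AlgebraicGeometry CategoryTheory Limits in
/-- Let f : X → S be flat, proper and of finite presentation with O_T → (f_T)_* O_{X_T} an isomorphism
for every base change, let E be an invertible O_X-module, and let j : Z → S be the immersion of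
finite presentation representing the locus of those T → S over which the pullback of E comes from a
finite locally free O_T-module. If every geometric fibre of f is an integral scheme, j is a closed
immersion (the locus is a closed subscheme of S). -/
theorem result {X S Z : Scheme.{u}} (f : X ⟶ S) [Flat f] [IsProper f] [LocallyOfFinitePresentation f]
    (hO : ∀ (T : Scheme.{u}) (g : T ⟶ S) (U : T.Opens), IsIso ((pullback.snd f g).app U))
    (E : X.Modules) (hE : PicF.IsInvertible E)
    (j : Z ⟶ S) [IsImmersion j] [LocallyOfFinitePresentation j]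
    (hZ : ∀ (T : Scheme.{u}) (g : T ⟶ S), (∃ g' : T ⟶ Z, g' ≫ j = g) ↔
        ∃ N : T.Modules, FlatMod.IsFinLocFree N ∧
          Nonempty ((Scheme.Modules.pullback (pullback.snd f g)).obj N ≅ (Scheme.Modules.pullback (pullback.fst f g)).obj E))
    (hgeo : ∀ (K : Type u) [Field K] (x : Spec (CommRingCat.of K) ⟶ S), IsIntegral (pullback f x)) :
    IsClosedImmersion j := by
  haveI := W7Strat.univO_of_forall hO
  have hEf : FlatMod.IsFinLocFree E := fun x =>
    let ⟨U, hx, ⟨e⟩⟩ := hE x
    ⟨U, 1, hx, ⟨e ≪≫ (Limits.coproductUniqueIso fun _ : Fin 1 => Coh.structureModule (↑U : Scheme.{u})).symm⟩⟩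
  haveI hint : ∀ y : S, IsIntegral (f.fiber y) := fun y => hgeo (S.residueField y) (S.fromSpecResidueField y)
  have hiff : ∀ (T : Scheme.{u}) (g : T ⟶ S), (∃ g' : T ⟶ Z, g' ≫ j = g) ↔ W7Strat.TrivF f E g :=
    fun T g => (hZ T g).trans ((exists_congr fun N => and_congr_right fun _ =>
      ⟨fun ⟨e⟩ => ⟨e.symm⟩, fun ⟨e⟩ => ⟨e.symm⟩⟩).trans (W7Strat.trivF_iff_exists g).symm)
  have hrange : Set.range j.base =
      {y : S | Nonempty (CohIII.fiberMod f E y ≅ Coh.structureModule (f.fiber y))} := by
    ext y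
    refine ⟨?_, fun ⟨e⟩ => ?_⟩
    · rintro ⟨z, rfl⟩
      obtain ⟨n, ⟨e⟩⟩ := (W7Strat.trivF_fibre_iff (j z)).1
        (((hiff Z j).1 ⟨𝟙 Z, Category.id_comp _⟩).trivF_point hEf z)
      exact nonempty_iso_unit_of_free (PicLoc.isInvertible_pullback _ hE) e
    · obtain ⟨w, hw⟩ := (hiff _ _).2 ((W7Strat.trivF_fibre_iff y).2
        ⟨1, ⟨e ≪≫ (Limits.coproductUniqueIso fun _ : Fin 1 => Coh.structureModule (f.fiber y)).symm⟩⟩)
      refine ⟨w (IsLocalRing.closedPoint _), ?_⟩
      exact ((Scheme.Hom.comp_apply w j _).symm.trans congr(($hw) _)).trans (Scheme.fromSpecResidueField_apply _ _)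
  refine IsClosedImmersion.of_isPreimmersion _ ?_
  rw [hrange]
  exact W7See.isClosed_trivial_locus_lfp f hint (fun y => W7Strat.UnivO.bijective_fiber y) E hE

end Groth.Agent.S7188
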