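import Groth.Statements.S7191
import Groth.Agent.CDLim.Affine
import Groth.Agent.LimDesc.Tower

set_option autoImplicit false
universe u
open CategoryTheory AlgebraicGeometry
open FlatMor CategoryTheory.Limits

set_option backward.isDefEq.respectTransparency false
set_option linter.style.haveILetI false

namespace Groth.Agent.S7191

/-- Let S = lim S_i be a cofiltered limit of schemes with affine transition morphisms, f₀ : X₀ → Y₀ a
morphism over some S_{i₀} with Y₀ quasi-compact and quasi-separated and f₀ locally of finite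
presentation, and f : X → Y its base change to S. If f is completely decomposed (every point of Y is
the image of a point of X with the same residue field), then some base change f_i : X_i → Y_i of f₀
to an S_i, i → i₀, is completely decomposed. -/
theorem result {I : Type u} [SmallCategory I] [IsCofiltered I]
    (D : I ⥤ Scheme.{u}) (c : Limits.Cone D) (hc : Limits.IsLimit c)
    [∀ (i j : I) (a : i ⟶ j), IsAffineHom (D.map a)]
    (i0 : I) {X0 Y0 X Y : Scheme.{u}} (f0 : X0 ⟶ Y0) (q0 : Y0 ⟶ D.obj i0) [CompactSpace ↥Y0] [QuasiSeparatedSpace ↥Y0]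
    [LocallyOfFinitePresentation f0]
    (f : X ⟶ Y) (q : Y ⟶ c.pt) (pY : Y ⟶ Y0) (pX : X ⟶ X0)
    (hY : IsPullback pY q q0 (c.π.app i0)) (hX : IsPullback pX f f0 pY)
    (hcd : ∀ y : Y, ∃ x : X, f x = y ∧ Function.Bijective (f.residueFieldMap x)) :
    ∃ (i : I) (a : i ⟶ i0) (Xi Yi : Scheme.{u}) (fi : Xi ⟶ Yi) (qi : Yi ⟶ D.obj i) (pYi : Yi ⟶ Y0) (pXi : Xi ⟶ X0),
      IsPullback pYi qi q0 (D.map a) ∧ IsPullback pXi fi f0 pYi ∧
      ∀ y : Yi, ∃ x : Xi, fi x = y ∧ Function.Bijective (fi.residueFieldMap x) := by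
  classical
  have hY0 : ∀ y, CDLim.Dec f0 pY y := fun y => by
    obtain ⟨x, hx, hb⟩ := hcd y
    exact CDLim.dec_of_point hX.w hx hb
  have haff : ∀ {i j : I} (φ : i ⟶ j), IsAffineHom (D.map φ) := fun φ => inferInstance
  have H : ∀ U : Y0.affineOpens, ∃ j : Over i0, ∀ z : ↥(pullback q0 (D.map j.hom)),
      pullback.fst q0 (D.map j.hom) z ∈ U.1 → CDLim.Dec f0 (pullback.fst q0 (D.map j.hom)) z := by
    intro U
    let g0 := U.1.ι ≫ q0
    have hW := IsPullback.of_hasPullback g0 (c.π.app i0)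
    haveI : IsAffine (U.1 : Scheme.{u}) := U.2
    haveI : ∀ j, IsAffine ((LimDesc.tower D g0).obj j) := fun j => by
      haveI := LimDesc.isAffineHom_toBase D g0 j
      exact isAffine_of_isAffineHom (LimDesc.toBase D g0 j)
    obtain ⟨j, hj⟩ := CDLim.exists_stage_all (f₀ := f0) U.2 (LimDesc.tower D g0) (LimDesc.towerCone D g0 c hW)
      (LimDesc.isLimitTowerCone D g0 c hW hc) (fun j => LimDesc.toBase D g0 j ≫ U.1.ι)
      (fun {j k} p => by
        show LimDesc.trans D g0 p ≫ LimDesc.toBase D g0 k ≫ U.1.ι = _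
        rw [LimDesc.trans_toBase_assoc])
      (fun j z _ => (LimDesc.toBase D g0 j z).2)
      (fun y j => by
        let m : pullback g0 (c.π.app i0) ⟶ Y :=
          hY.lift (pullback.fst _ _ ≫ U.1.ι) (pullback.snd _ _) (by rw [Category.assoc]; exact hW.w)
        refine (hY0 (m y)).comp m ?_
        show m ≫ pY = LimDesc.proj D g0 c hW j ≫ LimDesc.toBase D g0 j ≫ U.1.ι
        rw [LimDesc.proj_toBase_assoc, hY.lift_fst])
    refine ⟨j, fun z hz => ?_⟩
    let W := pullback.fst q0 (D.map j.hom) ⁻¹ᵁ U.1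
    have hw : IsOpenImmersion.lift U.1.ι (W.ι ≫ pullback.fst q0 (D.map j.hom)) (by
        rw [Scheme.Opens.range_ι]; rintro _ ⟨w, rfl⟩; exact w.2) ≫ g0 =
        (W.ι ≫ pullback.snd q0 (D.map j.hom)) ≫ D.map j.hom := by
      rw [IsOpenImmersion.lift_fac_assoc, Category.assoc, Category.assoc, pullback.condition]
    let k : (W : Scheme.{u}) ⟶ LimDesc.stage D g0 j := pullback.lift _ _ hw
    exact CDLim.Dec.of_openImmersion W.ι (y := ⟨z, hz⟩) ((hj (k ⟨z, hz⟩)).comp k (by
      rw [LimDesc.lift_toBase_assoc, IsOpenImmersion.lift_fac]))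
  choose j hj using H
  obtain ⟨t, ht⟩ := (CompactSpace.isCompact_univ (X := Y0)).elim_finite_subcover
    (fun U : Y0.affineOpens => (U.1 : Set Y0)) (fun U => U.1.isOpen) (fun s _ => by
      obtain ⟨U, hU, hs, -⟩ := exists_isAffineOpen_mem_and_subset (x := s) (U := (⊤ : Y0.Opens)) trivial
      exact Set.mem_iUnion.mpr ⟨⟨U, hU⟩, hs⟩)
  obtain ⟨k, hk⟩ := IsCofiltered.inf_objs_exists (t.image j)
  refine ⟨k.left, k.hom, pullback f0 (pullback.fst q0 (D.map k.hom)), pullback q0 (D.map k.hom),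
    pullback.snd _ _, pullback.snd _ _, pullback.fst _ _, pullback.fst _ _, IsPullback.of_hasPullback _ _,
    IsPullback.of_hasPullback _ _, fun y => CDLim.exists_point (IsPullback.of_hasPullback _ _) ?_⟩
  obtain ⟨U, hU, hy⟩ := Set.mem_iUnion₂.mp (ht (Set.mem_univ (pullback.fst q0 (D.map k.hom) y)))
  obtain ⟨p⟩ := hk (Finset.mem_image_of_mem j hU)
  have e : LimDesc.trans D q0 p ≫ pullback.fst q0 (D.map (j U).hom) = pullback.fst q0 (D.map k.hom) :=
    LimDesc.trans_toBase D q0 p
  refine (hj U _ ?_).comp (LimDesc.trans D q0 p) e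
  rw [← Scheme.Hom.comp_apply, e]
  exact hy

end Groth.Agent.S7191
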