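import Groth.Statements.S7193
import Groth.Agent.HomRep.MorS

set_option autoImplicit false
set_option backward.isDefEq.respectTransparency.types false
universe u
open CategoryTheory AlgebraicGeometry
open FlatMor

namespace Groth.Agent.S7193

/-- Let Z, X and S be affine schemes with morphisms Z → S and X → S, and suppose Γ(Z, O_Z) is a finite
free Γ(S, O_S)-module; then the functor Mor_S(Z, X) on schemes over S is represented by some scheme
W over S with W affine. -/
theorem result {Z X S : Scheme.{u}} [IsAffine Z] [IsAffine X] [IsAffine S] (g : Z ⟶ S) (f : X ⟶ S)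
    (hfree : letI := (g.appTop).hom.toAlgebra
      Module.Finite Γ(S, ⊤) Γ(Z, ⊤) ∧ Module.Free Γ(S, ⊤) Γ(Z, ⊤)) :
    ∃ W : Over S, IsAffine W.left ∧ Nonempty ((Flatn.morS g f).RepresentableBy W) := by
  letI := (g.appTop).hom.toAlgebra
  obtain ⟨h1, h2⟩ := hfree
  haveI : Module.Finite Γ(S, ⊤) Γ(Z, ⊤) := h1
  haveI : Module.Free Γ(S, ⊤) Γ(Z, ⊤) := h2
  have hfin : g.appTop.hom.Finite := h1
  have hflat : g.appTop.hom.Flat := (inferInstance : Module.Flat Γ(S, ⊤) Γ(Z, ⊤))
  haveI : Module.FinitePresentation Γ(S, ⊤) Γ(Z, ⊤) := Module.finitePresentation_of_projective _ _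
  have hfp : g.appTop.hom.FinitePresentation :=
    (inferInstance : Algebra.FinitePresentation Γ(S, ⊤) Γ(Z, ⊤))
  haveI : IsFinite (Over.mk g).hom := (HasAffineProperty.iff_of_isAffine (P := @AlgebraicGeometry.IsFinite)).2 ⟨(inferInstance : IsAffine Z), hfin⟩
  haveI : Flat (Over.mk g).hom := (HasRingHomProperty.iff_of_isAffine (P := @Flat) (f := g)).2 hflat
  haveI : LocallyOfFinitePresentation (Over.mk g).hom :=
    (HasRingHomProperty.iff_of_isAffine (P := @LocallyOfFinitePresentation) (f := g)).2 hfp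
  haveI : IsAffineHom (Over.mk f).hom := inferInstanceAs (IsAffineHom f)
  obtain ⟨W, hW, hrep⟩ := Groth.Agent.HomRep.morS_representable g f
  haveI := hW
  exact ⟨W, isAffine_of_isAffineHom W.hom, hrep⟩

end Groth.Agent.S7193
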