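import Groth.Statements.S7195
import Groth.Agent.HomRep.MorGlue

set_option autoImplicit false
universe u
open CategoryTheory AlgebraicGeometry
open FlatMor CategoryTheory.Limits

namespace Groth.Agent.S7195

/-- Let Z → S be finite locally free and X → S such that any finitely many points of X lying over a
common point of S are contained in some affine open of X. Then Mor_S(Z, X) is representable by a
scheme. -/
theorem result {Z X S : Scheme.{u}} (g : Z ⟶ S) (f : X ⟶ S) (hg : Mor2.IsFinLocFree g)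
    (hAF : ∀ (s : S) (d : ℕ) (x : Fin d → ↥X), (∀ k, f (x k) = s) → ∃ U : X.Opens, IsAffineOpen U ∧ ∀ k, x k ∈ U) :
    (Flatn.morS g f).IsRepresentable := by
  haveI := hg.1
  haveI := hg.2.1
  haveI := hg.2.2
  refine Groth.Agent.HomRep.morS_isRepresentable fun T x p => ?_
  obtain ⟨d, e, -, he⟩ := (((pullback.fst x.t g).finite_preimage_singleton p).image x.φ).fin_param
  obtain ⟨U, hU, hmem⟩ := hAF (x.t p) d e fun k => by
    obtain ⟨z, hz, hzk⟩ : e k ∈ x.φ '' (pullback.fst x.t g ⁻¹' {p}) := he ▸ ⟨k, rfl⟩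
    rw [← hzk, ← Scheme.Hom.comp_apply, x.w, ← pullback.condition, Scheme.Hom.comp_apply]
    exact congrArg x.t hz
  refine ⟨U, hU, fun z hz => ?_⟩
  obtain ⟨k, hk⟩ : x.φ z ∈ Set.range e := he.symm ▸ ⟨z, hz, rfl⟩
  exact hk ▸ hmem k

end Groth.Agent.S7195
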