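import Groth.Statements.S7196
import Groth.Agent.HomRep.MorGlue
import Groth.Agent.QA.Props
import Groth.Agent.QA.GenLocus

set_option autoImplicit false
universe u
open CategoryTheory AlgebraicGeometry
open FlatMor CategoryTheory.Limits

namespace Groth.Agent.S7196

/-- finitely many points of one fibre of a separated locally quasi-finite morphism lie in an affine open -/
theorem exists_affineOpen_finite {X S : Scheme.{u}} (f : X ⟶ S) [IsSeparated f] [LocallyQuasiFinite f]
    [LocallyOfFiniteType f] (s : S) {F : Set X} (hF : F.Finite) (hFs : ∀ x ∈ F, f x = s) :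
    ∃ U : X.Opens, IsAffineOpen U ∧ F ⊆ U := by
  classical
  obtain ⟨V, hV, hsV, -⟩ := exists_isAffineOpen_mem_and_subset (x := s) (U := (⊤ : S.Opens)) trivial
  haveI := hF.to_subtype
  choose A hA hxA hAV using fun x : F => exists_isAffineOpen_mem_and_subset (x := x.1) (U := f ⁻¹ᵁ V)
    (show f x.1 ∈ V from (hFs x x.2).symm ▸ hsV)
  let W : X.Opens := ⨆ x, A x
  have hW : IsCompact (W : Set X) := by
    rw [TopologicalSpace.Opens.coe_iSup]
    exact isCompact_iUnion fun x => (hA x).isCompact
  have hWV : W ≤ f ⁻¹ᵁ V := iSup_le fun x => hAV x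
  haveI : CompactSpace W.toScheme := isCompact_iff_compactSpace.1 hW
  haveI : IsAffine V.toScheme := hV
  let h := f.resLE V W hWV
  haveI : QuasiCompact h := (quasiCompact_iff_compactSpace h).2 inferInstance
  haveI : IsSeparated (h ≫ V.ι) := by rw [Scheme.Hom.resLE_comp_ι]; infer_instance
  haveI : IsSeparated h := IsSeparated.of_comp h V.ι
  haveI : LocallyOfFiniteType h := by
    haveI : LocallyOfFiniteType (h ≫ V.ι) := by rw [Scheme.Hom.resLE_comp_ι]; infer_instance
    exact locallyOfFiniteType_of_comp h V.ι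
  haveI : LocallyQuasiFinite h := by
    haveI : LocallyQuasiFinite (h ≫ V.ι) := by rw [Scheme.Hom.resLE_comp_ι]; infer_instance
    exact LocallyQuasiFinite.of_comp h V.ι
  haveI : Scheme.IsQuasiAffine ((⊤ : W.toScheme.Opens) : Scheme.{u}) := (Groth.Agent.QA.of_locallyQuasiFinite h).2 ⊤ (isAffineOpen_top _)
  haveI : Scheme.IsQuasiAffine W.toScheme := Scheme.IsQuasiAffine.of_isAffineHom (Scheme.topIso W.toScheme).inv
  have hFW : F ⊆ W := fun x hx => TopologicalSpace.Opens.mem_iSup.2 ⟨⟨x, hx⟩, hxA ⟨x, hx⟩⟩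
  obtain ⟨t, ht, hsub, -⟩ := TMul.exists_finite_le_of_isQuasiAffine (TMul.isInvertible_structureModule (X := W.toScheme))
    (hF.preimage W.ι.isOpenEmbedding.injective.injOn) (W := ⊤) (fun _ _ => trivial)
  refine ⟨W.ι ''ᵁ _, ht.image_of_isOpenImmersion W.ι, fun x hx => ?_⟩
  exact ⟨⟨x, hFW hx⟩, hsub hx, rfl⟩

/-- For Z → S finite locally free and X → S separated, locally of finite type and with discrete fibres
(locally quasi-finite), the functor T ↦ {S-morphisms T ×_S Z → X} on S-schemes is represented by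
some S-scheme. -/
theorem result {Z X S : Scheme.{u}} (g : Z ⟶ S) (f : X ⟶ S) (hg : Mor2.IsFinLocFree g)
    [IsSeparated f] [LocallyQuasiFinite f] [LocallyOfFiniteType f] :
    (Flatn.morS g f).IsRepresentable := by
  haveI := hg.1
  haveI := hg.2.1
  haveI := hg.2.2
  refine Groth.Agent.HomRep.morS_isRepresentable fun T x p => ?_
  obtain ⟨U, hU, hsub⟩ := exists_affineOpen_finite f (x.t p)
    ((((pullback.fst x.t g).finite_preimage_singleton p).image x.φ)) (by
      rintro _ ⟨z, hz, rfl⟩
      show f (x.φ z) = x.t p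
      rw [← Scheme.Hom.comp_apply, x.w, ← pullback.condition, Scheme.Hom.comp_apply]
      exact congrArg x.t hz)
  exact ⟨U, hU, fun z hz => hsub ⟨z, hz, rfl⟩⟩

end Groth.Agent.S7196
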