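import Groth.Statements.S7197
import Groth.Agent.BlowAmp.Ample
import Groth.Agent.QC.FTIdeal
import Groth.Agent.BlowUpExist.Global
import Mathlib.AlgebraicGeometry.Limits
import Mathlib.Topology.Sober
-- import your own Groth.Agent.* helpers here

set_option autoImplicit false
universe u
open FlatMor

namespace Groth.Agent.S7197

open AlgebraicGeometry CategoryTheory Limits TopologicalSpace

/-- Pairwise disjoint affine neighbourhoods of the generic points, each inside every member of a given
finite family that contains the point. -/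
theorem exists_nbhds {X : Scheme.{u}} (hirr : (irreducibleComponents ↥X).Finite) {m : ℕ} (W : Fin m → X.Opens) :
    ∃ (n : ℕ) (η : Fin n → ↥X) (N : Fin n → X.Opens), (∀ k, η k ∈ N k) ∧ (∀ k, IsAffineOpen (N k)) ∧
      Pairwise (Function.onFun Disjoint N) ∧ (∀ i k, η k ∈ W i → N k ≤ W i) ∧
      (∀ i k, η k ∉ W i → Disjoint (N k) (W i)) ∧ Dense (Set.range η) := by
  classical
  have : Fintype (genericPoints ↥X) := (genericPoints.finite hirr).fintype
  let e := (Fintype.equivFin (genericPoints ↥X)).symm
  let η : Fin (Fintype.card (genericPoints ↥X)) → ↥X := fun k => (e k).1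
  have hgen : ∀ (k) (O : X.Opens) (z : ↥X), z ∈ closure {η k} → z ∈ O → η k ∈ O := fun k O z hz hzO => by
    obtain ⟨w, hw1, rfl⟩ := mem_closure_iff.mp hz O O.2 hzO
    exact hw1
  have hcov : ∀ z : ↥X, ∃ k, z ∈ closure {η k} := fun z => by
    refine ⟨e.symm (genericPoints.ofComponent ⟨irreducibleComponent z,
      irreducibleComponent_mem_irreducibleComponents z⟩), ?_⟩
    show z ∈ closure {(e _).1}
    rw [Equiv.apply_symm_apply]
    exact ((genericPoints.isGenericPoint _).def.trans (congrArg Subtype.val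
      (genericPoints.component_ofComponent _))).symm.subset mem_irreducibleComponent
  let Z : Fin (Fintype.card (genericPoints ↥X)) → Set ↥X := fun k => ⋃ l : {l // l ≠ k}, closure {η l.1}
  have hZ : ∀ k, IsClosed (Z k) := fun k => isClosed_iUnion_of_finite fun _ => isClosed_closure
  have hnot : ∀ k, η k ∉ Z k := fun k hk => by
    obtain ⟨l, hl⟩ := Set.mem_iUnion.mp hk
    have h1 : closure {η k} ⊆ closure {η l.1} := closure_minimal (Set.singleton_subset_iff.mpr hl) isClosed_closure
    have h2 := Set.Subset.antisymm h1 ((e k).2.2 isIrreducible_singleton.closure h1)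
    exact l.2 (e.injective (Subtype.ext ((isGenericPoint_closure (x := η k)).eq
      (show IsGenericPoint (η l.1) (closure {η k}) from h2.symm)).symm))
  let O : Fin (Fintype.card (genericPoints ↥X)) → X.Opens := fun k =>
    ⟨(Z k)ᶜ, (hZ k).isOpen_compl⟩ ⊓ Finset.univ.inf fun i => if η k ∈ W i then W i else ⊤
  have hO : ∀ k, η k ∈ O k := fun k => ⟨hnot k, by
    suffices h : ∀ s : Finset (Fin m), η k ∈ s.inf fun i => if η k ∈ W i then W i else ⊤ from h _
    intro s
    induction s using Finset.induction with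
    | empty => simp
    | insert i s _ ih =>
      rw [Finset.inf_insert]
      refine ⟨?_, ih⟩
      split_ifs with h
      · exact h
      · trivial⟩
  choose N hN hηN hNO using fun k => exists_isAffineOpen_mem_and_subset (hO k)
  replace hNO : ∀ k, N k ≤ O k := hNO
  have hsub : ∀ k, ∀ z ∈ N k, z ∈ closure {η k} := fun k z hz => by
    obtain ⟨l, hl⟩ := hcov z
    by_contra hk
    exact (hNO k hz).1 (Set.mem_iUnion.mpr ⟨⟨l, fun h => hk (h ▸ hl)⟩, hl⟩)
  refine ⟨_, η, N, hηN, hN, fun k l hkl => disjoint_iff.mpr (Opens.ext (Set.eq_empty_iff_forall_notMem.mpr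
    fun z hz => (hNO k hz.1).1 (Set.mem_iUnion.mpr ⟨⟨l, hkl.symm⟩, hsub l z hz.2⟩))), fun i k hk => ?_,
    fun i k hk => disjoint_iff.mpr (Opens.ext (Set.eq_empty_iff_forall_notMem.mpr
      fun z hz => hk (hgen k (W i) z (hsub k z hz.1) hz.2))), ?_⟩
  · intro z hz
    have h1 := (Finset.inf_le (f := fun i => if η k ∈ W i then W i else (⊤ : X.Opens)) (Finset.mem_univ i))
      (hNO k hz).2
    simpa [hk] using h1
  · intro z
    obtain ⟨k, hk⟩ := hcov z
    exact closure_mono (Set.singleton_subset_iff.mpr (Set.mem_range_self k)) hk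


open AlgebraicGeometry CategoryTheory Limits in
/-- A quasi-compact quasi-separated scheme X with finitely many irreducible components admits a
quasi-compact dense open U together with a blowing up X' → X which is U-admissible and whose source
X' carries an ample family of invertible modules. -/
theorem result (X : Scheme.{u}) [CompactSpace ↥X] [QuasiSeparatedSpace ↥X]
    (hirr : (irreducibleComponents ↥X).Finite) :
    ∃ (U : X.Opens) (𝓘 : X.IdealSheafData) (X' : Scheme.{u}) (b : X' ⟶ X),
      IsCompact (U : Set ↥X) ∧ Dense (U : Set ↥X) ∧ BlowUp.IsAdmissibleFor U 𝓘 ∧ BlowUp.IsBlowUp b 𝓘 ∧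
      MoreMor.HasAmpleFamily X' := by
  classical
  obtain ⟨m, W, hW, hWcov⟩ : ∃ (m : ℕ) (W : Fin m → X.Opens), (∀ i, IsAffineOpen (W i)) ∧ ∀ x, ∃ i, x ∈ W i := by
    have : Finite X.affineCover.finiteSubcover.I₀ := inferInstance
    obtain ⟨m, ⟨e⟩⟩ := Finite.exists_equiv_fin X.affineCover.finiteSubcover.I₀
    refine ⟨m, fun i => (X.affineCover.finiteSubcover.f (e.symm i)).opensRange,
      fun i => isAffineOpen_opensRange _, fun x => ?_⟩
    obtain ⟨i, hi⟩ := X.affineCover.finiteSubcover.exists_eq x
    exact ⟨e i, by dsimp only; rw [e.symm_apply_apply]; exact hi⟩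
  obtain ⟨n, η, N, hηN, hN, hdisj, hle, hfar, hdense⟩ := exists_nbhds hirr W
  let F : (i : Fin m) → Option {k // η k ∉ W i} → X.Opens := fun i o => o.elim (W i) fun k => N k.1
  let W' : Fin m → X.Opens := fun i => ⨆ o, F i o
  have hW' : ∀ i, IsAffineOpen (W' i) := fun i => by
    refine IsAffineOpen.iSup_of_disjoint (fun o => ?_) fun o o' hoo => ?_
    · cases o with
      | none => exact hW i
      | some k => exact hN k.1
    · cases o with
      | none => cases o' with
        | none => exact absurd rfl hoo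
        | some k' => exact (hfar i k'.1 k'.2).symm
      | some k => cases o' with
        | none => exact hfar i k.1 k.2
        | some k' => exact hdisj fun h => hoo (congrArg _ (Subtype.ext h))
  have hWW' : ∀ i, W i ≤ W' i := fun i => le_iSup (F i) none
  have hNW' : ∀ i k, N k ≤ W' i := fun i k => by
    by_cases h : η k ∈ W i
    · exact (hle i k h).trans (hWW' i)
    · exact le_iSup (F i) (some ⟨k, h⟩)
  choose I J ι h1 h2 h3 h4 hIft hIsupp using fun i => Groth.Agent.QC.exists_ftIdeal (W' i) (hW' i).isCompact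
  obtain ⟨X', b, hb⟩ := Groth.Agent.BlowUpExist.exists_isBlowUp X (∏ i, I i)
  have hftp : ∀ s : Finset (Fin m), BlowUp.IsFiniteTypeIdeal (∏ i ∈ s, I i) ∧
      ((∏ i ∈ s, I i).support : Set ↥X) ⊆ ⋃ i, (W' i : Set ↥X)ᶜ := fun s => by
    induction s using Finset.induction with
    | empty =>
      rw [Finset.prod_empty]
      refine ⟨fun V => ?_, ?_⟩
      · show ((⊤ : X.IdealSheafData).ideal V).FG
        rw [Scheme.IdealSheafData.ideal_top]
        exact ⟨{1}, by simp⟩
      · show ((⊤ : X.IdealSheafData).support : Set ↥X) ⊆ _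
        rw [Scheme.IdealSheafData.support_top]
        simp
    | insert i s hi ih =>
      rw [Finset.prod_insert hi]
      refine ⟨fun V => ?_, ?_⟩
      · rw [Scheme.IdealSheafData.ideal_mul, Pi.mul_apply]
        exact (hIft i V).mul (ih.1 V)
      · rw [Scheme.IdealSheafData.support_mul, Closeds.coe_sup, hIsupp]
        exact Set.union_subset (Set.subset_iUnion (fun i => ((W' i : Set ↥X))ᶜ) i) ih.2
  have hft := (hftp Finset.univ).1
  refine ⟨⨆ k, N k, ∏ i, I i, X', b, ?_, ?_, ⟨hft, ?_⟩, hb, ?_⟩
  · rw [Opens.coe_iSup]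
    exact isCompact_iUnion fun k => (hN k).isCompact
  · exact hdense.mono (Set.range_subset_iff.mpr fun k => Opens.mem_iSup.mpr ⟨k, hηN k⟩)
  · refine Set.disjoint_left.mpr fun z hz hzU => ?_
    obtain ⟨i, hi⟩ := Set.mem_iUnion.mp ((hftp Finset.univ).2 hz)
    obtain ⟨k, hk⟩ := Opens.mem_iSup.mp hzU
    exact hi (hNW' i k hk)
  have := Groth.Agent.BlowUpExist.isProper_of_isFiniteType hb hft
  have hcomap : ∀ i, ((I i).comap b).support.compl = b ⁻¹ᵁ W' i := fun i => by
    refine Opens.ext ?_
    show (((I i).comap b).support : Set ↥X')ᶜ = (b : ↥X' → ↥X) ⁻¹' (W' i : Set ↥X)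
    rw [Scheme.IdealSheafData.support_comap, Closeds.coe_preimage, hIsupp, Set.preimage_compl, compl_compl]
  refine Groth.Agent.ResDesc.hasAmpleFamily_of_cartier_cover (fun i => (I i).comap b) (fun i => ?_) ?_
    (fun _ => ClSub.idealMod ((∏ i, I i).comap b)) (fun _ => (Groth.Agent.S8914.result _).mpr hb.1) fun i => ?_
  · have h := hb.1
    rw [← Finset.mul_prod_erase Finset.univ I (Finset.mem_univ i), Groth.Agent.BlowUpLib.comap_mul] at h
    exact Groth.Agent.BlowUpLib.cartier_of_mul_left h
  · refine Set.eq_empty_iff_forall_notMem.mpr fun x hx => ?_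
    obtain ⟨i, hi⟩ := hWcov (b x)
    have h1 : x ∉ b ⁻¹ᵁ W' i := by
      rw [← hcomap i]
      exact not_not.mpr (Set.mem_iInter.mp hx i)
    exact h1 (hWW' i hi)
  · rw [hcomap i]
    exact Groth.Agent.BlowAmp.isAmple_restrict_exceptional hb hft ⟨W' i, hW' i⟩

end Groth.Agent.S7197
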