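import Groth.Statements.S7199
import Groth.Agent.SepPencil.CodimTwo
-- import your own Groth.Agent.* helpers here

set_option autoImplicit false
universe u
open FlatMor

namespace Groth.Agent.S7199

/-- Take a field k, an integral domain A that is a finitely generated k-algebra, n ≥ 2 and g_1, …, g_n ∈
A, and suppose some irreducible component of the common zero locus of g_1 and g_2 in Spec A has
dimension dim A − 2. Then for suitable c_1, …, c_n ∈ k the n + 2 elements x_1, …, x_n, Σ g_i x_i, Σ
c_i g_i of the rational function field Frac(A)(x_1, …, x_n) form an algebraically independent family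
over k. -/
theorem result {k A : Type u} [Field k] [CommRing A] [IsDomain A] [Algebra k A]
    [Algebra.FiniteType k A] (m : ℕ) (g : Fin (m + 2) → A)
    (p : Ideal A) (hp : p ∈ (Ideal.span {g 0, g 1}).minimalPrimes) (hdim : ringKrullDim (A ⧸ p) + 2 = ringKrullDim A) :
    ∃ c : Fin (m + 2) → k,
      AlgebraicIndependent k
        (Sum.elim
          (fun i : Fin (m + 2) => algebraMap (MvPolynomial (Fin (m + 2)) (FractionRing A)) (FractionRing (MvPolynomial (Fin (m + 2)) (FractionRing A))) (MvPolynomial.X i))
          ![∑ i, algebraMap A (FractionRing (MvPolynomial (Fin (m + 2)) (FractionRing A))) (g i) *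
              algebraMap (MvPolynomial (Fin (m + 2)) (FractionRing A)) (FractionRing (MvPolynomial (Fin (m + 2)) (FractionRing A))) (MvPolynomial.X i),
            algebraMap A (FractionRing (MvPolynomial (Fin (m + 2)) (FractionRing A))) (∑ i, c i • g i)]) := by
  classical
  refine ⟨Pi.single 0 1, ?_⟩
  have hg := (Groth.Agent.SepPencil.algebraicIndependent_pair hp hdim).map'
    (f := IsScalarTower.toAlgHom k A (FractionRing A)) (IsFractionRing.injective A (FractionRing A))
  have h := Groth.Agent.SepPencil.algebraicIndependent_generic (k := k) (K := FractionRing A)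
    (fun i => algebraMap A (FractionRing A) (g i)) (by
      rw [show ![algebraMap A (FractionRing A) (g 0), algebraMap A (FractionRing A) (g 1)] =
        (IsScalarTower.toAlgHom k A (FractionRing A)) ∘ ![g 0, g 1] by funext i; fin_cases i <;> rfl]
      exact hg)
  have hc : ∑ i, (Pi.single 0 1 : Fin (m + 2) → k) i • g i = g 0 := by
    simp [Pi.single_apply]
  rw [hc]
  simp only [IsScalarTower.algebraMap_apply A (FractionRing A) (FractionRing (MvPolynomial (Fin (m + 2)) (FractionRing A)))]
  exact h

end Groth.Agent.S7199
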