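import Groth.Statements.S7201
import Mathlib.RingTheory.AdicCompletion.LocalRing

set_option backward.isDefEq.respectTransparency false
set_option backward.isDefEq.respectTransparency.types false
set_option linter.style.haveILetI false

set_option autoImplicit false
universe u
open FlatMor

namespace Groth.Agent.S7201

open AlgebraicGeometry CategoryTheory Limits Opposite

/-- maps out of a finite type algebra are pinned modulo an ideal by adjoining approximations -/
lemma exists_ctrl {A B L : Type u} [CommRing A] [CommRing B] [CommRing L] (a : A →+* L) (c : A →+* B)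
    (hc : c.FiniteType) (φ : B →+* L) (hφ : φ.comp c = a) (J : Ideal A) (hJ : J.FG) (I : Ideal L)
    (hI : J.map a = I) (happ : ∀ x : L, ∃ s d : A, IsUnit (a d) ∧ a d * x - a s ∈ I) :
    ∃ (B' : CommRingCat.{u}) (ι : B →+* B') (φ' : B' →+* L), ι.FiniteType ∧ φ'.comp ι = φ ∧
      ∀ ψ : B' →+* L, (ψ.comp ι).comp c = a → ∀ b, ψ (ι b) - φ b ∈ I := by
  classical
  algebraize [c]
  obtain ⟨gs, hgs⟩ := Algebra.FiniteType.out (R := A) (A := B)
  obtain ⟨μs, hμ⟩ := hJ
  choose s d hd hsd using fun i : ↥gs => happ (φ i)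
  have hspan : Ideal.span (Set.range fun j : ↥μs => a j) = I := by
    rw [← hI, ← hμ, Ideal.map_span]
    congr 1
    ext y; simp
  have hco : ∀ i, ∃ co : ↥μs → L, ∑ j, co j * a j = a (d i) * φ i - a (s i) := fun i => by
    have := hsd i
    rw [← hspan] at this
    exact Ideal.mem_span_range_iff_exists_fun.1 this
  choose co hco using hco
  let r : ↥gs → (MvPolynomial (↥gs × ↥μs) B) := fun i =>
    MvPolynomial.C (c (d i) * (i : B) - c (s i)) - ∑ j : ↥μs, MvPolynomial.X (i, j) * MvPolynomial.C (c (j : A))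
  let K : Ideal (MvPolynomial (↥gs × ↥μs) B) := Ideal.span (Set.range r)
  let e : (MvPolynomial (↥gs × ↥μs) B) →+* L := MvPolynomial.eval₂Hom φ fun p => co p.1 p.2
  have hac : ∀ x, φ (c x) = a x := fun x => RingHom.congr_fun hφ x
  have he : ∀ x ∈ K, e x = 0 := fun x hx => by
    refine Submodule.span_induction (fun y ⟨i, hi⟩ => ?_) (map_zero e) (fun y z _ _ h₁ h₂ => by rw [map_add, h₁, h₂, add_zero])
      (fun t y _ h => by rw [smul_eq_mul, map_mul, h, mul_zero]) hx
    rw [← hi]
    simp only [r, e, map_sub, map_sum, map_mul, MvPolynomial.eval₂Hom_C, MvPolynomial.eval₂Hom_X', hac, hco]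
    abel
  refine ⟨CommRingCat.of ((MvPolynomial (↥gs × ↥μs) B) ⧸ K), (Ideal.Quotient.mk K).comp MvPolynomial.C, Ideal.Quotient.lift K e he,
    (RingHom.FiniteType.of_surjective _ Ideal.Quotient.mk_surjective).comp
      (RingHom.finiteType_algebraMap.2 (inferInstance : Algebra.FiniteType B (MvPolynomial (↥gs × ↥μs) B))),
    RingHom.ext fun b => by simp [e], fun ψ hψ b => ?_⟩
  let χ : B →+* L := ψ.comp ((Ideal.Quotient.mk K).comp MvPolynomial.C)
  change χ b - φ b ∈ I
  have hχ : ∀ x, χ (c x) = a x := fun x => RingHom.congr_fun hψ x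
  have hgen : ∀ i : ↥gs, χ i - φ i ∈ I := fun i => by
    have h0 : ψ (Ideal.Quotient.mk K (r i)) = 0 := by
      rw [Ideal.Quotient.eq_zero_iff_mem.2 (Ideal.subset_span (Set.mem_range_self i) : r i ∈ K), map_zero]
    simp only [r, map_sub, map_sum, map_mul] at h0
    have h1 : a (d i) * χ i - a (s i) ∈ I := by
      rw [← hχ, ← hχ]
      simp only [χ, RingHom.comp_apply]
      rw [sub_eq_zero.1 h0]
      refine Ideal.sum_mem _ fun j _ => Ideal.mul_mem_left _ _ ?_
      rw [show ψ (Ideal.Quotient.mk K (MvPolynomial.C (c j))) = a j from hχ j, ← hspan]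
      exact Ideal.subset_span ⟨j, rfl⟩
    refine (Ideal.unit_mul_mem_iff_mem I (hd i)).1 ?_
    have h2 := I.sub_mem h1 (hsd i)
    rw [sub_sub_sub_cancel_right, ← mul_sub] at h2
    exact h2
  have hb : b ∈ Algebra.adjoin A (gs : Set B) := by rw [hgs]; trivial
  induction hb using Algebra.adjoin_induction with
  | mem x hx => exact hgen ⟨x, hx⟩
  | algebraMap x => rw [show algebraMap A B x = c x from rfl, hχ, hac, sub_self]; exact I.zero_mem
  | add x y _ _ hx hy => rw [map_add, map_add, add_sub_add_comm]; exact I.add_mem hx hy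
  | mul x y _ _ hx hy =>
    rw [map_mul, map_mul, show χ x * χ y - φ x * φ y = χ x * (χ y - φ y) + (χ x - φ x) * φ y by ring]
    exact I.add_mem (I.mul_mem_left _ hy) (I.mul_mem_right _ hx)

/-- approximation in a completion -/
lemma exists_approx {R : Type u} [CommRing R] [IsLocalRing R] [IsNoetherianRing R] (N : ℕ)
    (x : AdicCompletion (IsLocalRing.maximalIdeal R) R) :
    ∃ r : R, x - algebraMap R _ r ∈ (IsLocalRing.maximalIdeal R ^ N).map
      (algebraMap R (AdicCompletion (IsLocalRing.maximalIdeal R) R)) := by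
  obtain ⟨r, hr⟩ := Submodule.Quotient.mk_surjective _ (AdicCompletion.eval _ R N x)
  refine ⟨r, ?_⟩
  have h : x - algebraMap R _ r ∈ LinearMap.ker (AdicCompletion.eval (IsLocalRing.maximalIdeal R) R N) := by
    rw [LinearMap.mem_ker, map_sub, sub_eq_zero, ← hr]
    simp [AdicCompletion.eval, AdicCompletion.algebraMap_apply]
  rw [← AdicCompletion.pow_smul_top_eq_ker_eval (IsLocalRing.maximalIdeal R).fg_of_isNoetherianRing,
    Ideal.smul_top_eq_map] at h
  exact h

section germ

variable {T : Scheme.{u}} {U : T.Opens} (hU : IsAffineOpen U) {B' : CommRingCat.{u}} (ι : Γ(T, U) ⟶ B')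

lemma stalkMap_germ (q : Spec B') (hq : (Spec.map ι ≫ hU.fromSpec) q ∈ U) (b : Γ(T, U)) :
    ((Spec.map ι ≫ hU.fromSpec).stalkMap q).hom (T.presheaf.germ U _ hq b) =
      (Spec B').presheaf.germ ⊤ q trivial ((Scheme.ΓSpecIso B').inv (ι b)) := by
  have hpre : (⊤ : (Spec B').Opens) ≤ (Spec.map ι ≫ hU.fromSpec) ⁻¹ᵁ U := fun y _ => by
    change hU.fromSpec ((Spec.map ι) y) ∈ U
    exact hU.range_fromSpec.subset ⟨_, rfl⟩
  have h : T.presheaf.germ U _ hq ≫ (Spec.map ι ≫ hU.fromSpec).stalkMap q =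
      (ι ≫ (Scheme.ΓSpecIso B').inv) ≫ (Spec B').presheaf.germ ⊤ q trivial := by
    rw [Scheme.Hom.germ_stalkMap, ← (Spec B').presheaf.germ_res (homOfLE hpre) q trivial, ← Category.assoc]
    congr 1
    change (Spec.map ι ≫ hU.fromSpec).appLE U ⊤ hpre = _
    rw [← Scheme.Hom.appLE_comp_appLE (Spec.map ι) hU.fromSpec U ⊤ ⊤ (by rw [hU.fromSpec_preimage_self]) le_top]
    rw [Scheme.Hom.appLE, hU.fromSpec_app_self]
    simp [← Functor.map_comp, Scheme.Hom.appLE, Scheme.ΓSpecIso_inv_naturality]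
  exact congrArg (fun t => t.hom b) h

end germ

open AlgebraicGeometry CategoryTheory Limits in
set_option maxHeartbeats 1000000 in
/-- Let h : T → S be a morphism of finite type between Noetherian schemes, t a point of T with image s,
and σ : O_{T,t} → O_{S,s}^∧ a local O_{S,s}-algebra map to the completion. For every N ≥ 1 there is
a morphism of finite type g : T' → T and a point t' over t such that σ factors through O_{T,t} →
O_{T',t'}, and any local O_{S,s}-algebra map σ' : O_{T,t} → O_{S,s}^∧ factoring through O_{T,t} →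
O_{T',t'} agrees with σ modulo m_s^N. -/
theorem result {T S : Scheme.{u}} [IsNoetherian T] [IsNoetherian S]
    (h : T ⟶ S) [LocallyOfFiniteType h] [QuasiCompact h] (t : T)
    (σ : ↑(T.presheaf.stalk t) →+* (AdicCompletion (IsLocalRing.maximalIdeal ↑(S.presheaf.stalk (h t))) ↑(S.presheaf.stalk (h t))))
    (hσ : σ.comp (h.stalkMap t).hom = algebraMap ↑(S.presheaf.stalk (h t)) (AdicCompletion (IsLocalRing.maximalIdeal ↑(S.presheaf.stalk (h t))) ↑(S.presheaf.stalk (h t))))
    (hloc : ∀ a ∈ IsLocalRing.maximalIdeal ↑(T.presheaf.stalk t),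
      σ a ∈ (IsLocalRing.maximalIdeal ↑(S.presheaf.stalk (h t))).map (algebraMap ↑(S.presheaf.stalk (h t)) (AdicCompletion (IsLocalRing.maximalIdeal ↑(S.presheaf.stalk (h t))) ↑(S.presheaf.stalk (h t)))))
    (N : ℕ) (hN : 1 ≤ N) :
    ∃ (T' : Scheme.{u}) (g : T' ⟶ T) (t' : T') (hg : g t' = t) (τ : ↑(T'.presheaf.stalk t') →+* (AdicCompletion (IsLocalRing.maximalIdeal ↑(S.presheaf.stalk (h t))) ↑(S.presheaf.stalk (h t)))),
      LocallyOfFiniteType g ∧ QuasiCompact g ∧
      τ.comp ((g.stalkMap t').hom.comp (T.presheaf.stalkCongr (Inseparable.of_eq hg)).inv.hom) = σ ∧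
      ∀ (σ' : ↑(T.presheaf.stalk t) →+* (AdicCompletion (IsLocalRing.maximalIdeal ↑(S.presheaf.stalk (h t))) ↑(S.presheaf.stalk (h t)))),
        σ'.comp (h.stalkMap t).hom = algebraMap ↑(S.presheaf.stalk (h t)) (AdicCompletion (IsLocalRing.maximalIdeal ↑(S.presheaf.stalk (h t))) ↑(S.presheaf.stalk (h t))) →
        (∀ a ∈ IsLocalRing.maximalIdeal ↑(T.presheaf.stalk t),
          σ' a ∈ (IsLocalRing.maximalIdeal ↑(S.presheaf.stalk (h t))).map (algebraMap ↑(S.presheaf.stalk (h t)) (AdicCompletion (IsLocalRing.maximalIdeal ↑(S.presheaf.stalk (h t))) ↑(S.presheaf.stalk (h t))))) →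
        (∃ τ' : ↑(T'.presheaf.stalk t') →+* (AdicCompletion (IsLocalRing.maximalIdeal ↑(S.presheaf.stalk (h t))) ↑(S.presheaf.stalk (h t))),
          τ'.comp ((g.stalkMap t').hom.comp (T.presheaf.stalkCongr (Inseparable.of_eq hg)).inv.hom) = σ') →
        ∀ a : ↑(T.presheaf.stalk t), σ a - σ' a ∈ (IsLocalRing.maximalIdeal ↑(S.presheaf.stalk (h t)) ^ N).map (algebraMap ↑(S.presheaf.stalk (h t)) (AdicCompletion (IsLocalRing.maximalIdeal ↑(S.presheaf.stalk (h t))) ↑(S.presheaf.stalk (h t)))) := by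
  classical
  obtain ⟨_, ⟨V, hV, rfl⟩, hsV, -⟩ := S.isBasis_affineOpens.exists_subset_of_mem_open (Set.mem_univ (h t)) isOpen_univ
  obtain ⟨_, ⟨U, hU, rfl⟩, htU, hUV⟩ :=
    T.isBasis_affineOpens.exists_subset_of_mem_open (show t ∈ h ⁻¹ᵁ V from hsV) (h ⁻¹ᵁ V).isOpen
  set R := S.presheaf.stalk (h t)
  set L := AdicCompletion (IsLocalRing.maximalIdeal R) R
  haveI : IsNoetherianRing Γ(S, V) := IsLocallyNoetherian.component_noetherian ⟨V, hV⟩
  letI := TopCat.Presheaf.algebra_section_stalk S.presheaf (⟨h t, hsV⟩ : V)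
  haveI := hV.isLocalization_stalk ⟨h t, hsV⟩
  letI := TopCat.Presheaf.algebra_section_stalk T.presheaf (⟨t, htU⟩ : U)
  haveI := hU.isLocalization_stalk ⟨t, htU⟩
  let p := (hV.primeIdealOf ⟨h t, hsV⟩).asIdeal
  let a : Γ(S, V) →+* L := (algebraMap R L).comp (S.presheaf.germ V (h t) hsV).hom
  let c : Γ(S, V) →+* Γ(T, U) := (h.appLE V U hUV).hom
  let φ : Γ(T, U) →+* L := σ.comp (T.presheaf.germ U t htU).hom
  have hcomm : ∀ x, (T.presheaf.germ U t htU).hom (c x) = (h.stalkMap t).hom ((S.presheaf.germ V (h t) hsV).hom x) := fun x => by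
    have := congrArg (fun z => z.hom x) (Scheme.Hom.germ_stalkMap h V t hsV)
    simp only [CommRingCat.hom_comp, RingHom.comp_apply] at this
    rw [this]
    simp [c, Scheme.Hom.appLE]
  have hφ : φ.comp c = a := RingHom.ext fun x => by
    change σ ((T.presheaf.germ U t htU).hom (c x)) = _
    rw [hcomm]
    exact RingHom.congr_fun hσ _
  have hI : (p ^ N).map a = (IsLocalRing.maximalIdeal R ^ N).map (algebraMap R L) := by
    rw [show a = (algebraMap R L).comp (algebraMap Γ(S, V) R) from rfl, ← Ideal.map_map, Ideal.map_pow]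
    congr 2
    exact IsLocalization.AtPrime.map_eq_maximalIdeal p R
  have happ : ∀ x : L, ∃ s d : Γ(S, V), IsUnit (a d) ∧ a d * x - a s ∈ (IsLocalRing.maximalIdeal R ^ N).map (algebraMap R L) := fun x => by
    obtain ⟨r, hr⟩ := exists_approx N x
    obtain ⟨⟨s, d⟩, hsd⟩ := IsLocalization.surj p.primeCompl r
    refine ⟨s, d, (IsLocalization.map_units R d).map (algebraMap R L), ?_⟩
    have : a s = a d * algebraMap R L r := by
      change algebraMap R L (algebraMap Γ(S, V) R s) = _
      rw [← hsd, map_mul, mul_comm]; rfl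
    rw [this, ← mul_sub]
    exact Ideal.mul_mem_left _ _ hr
  obtain ⟨B', ι, φ', hft, hfac, hctrl⟩ := exists_ctrl a c
    (LocallyOfFiniteType.finiteType_appLE h hV hU hUV) φ hφ (p ^ N) (IsNoetherian.noetherian _) _ hI happ
  haveI : IsLocalHom σ := ⟨fun x hx => by
    by_contra hne
    have h1 := hloc x ((IsLocalRing.mem_maximalIdeal x).2 hne)
    rw [← AdicCompletion.maximalIdeal_eq_map, IsLocalRing.mem_maximalIdeal] at h1
    exact h1 hx⟩
  let q : Spec B' := ⟨(IsLocalRing.maximalIdeal L).comap φ', inferInstance⟩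
  have hq : Spec.map (CommRingCat.ofHom ι) q = hU.primeIdealOf ⟨t, htU⟩ := by
    refine PrimeSpectrum.ext ?_
    change ((IsLocalRing.maximalIdeal L).comap φ').comap ι = _
    rw [Ideal.comap_comap, hfac, ← Ideal.comap_comap, IsLocalRing.maximalIdeal_comap σ]
    exact IsLocalization.AtPrime.under_maximalIdeal (T.presheaf.stalk t) _
  let g : Spec B' ⟶ T := Spec.map (CommRingCat.ofHom ι) ≫ hU.fromSpec
  have hg : g q = t := by
    change hU.fromSpec (Spec.map (CommRingCat.ofHom ι) q) = t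
    rw [hq, hU.fromSpec_primeIdealOf]
  letI : Algebra B' ((Spec B').presheaf.stalk q) :=
    (((Scheme.ΓSpecIso B').inv ≫ (Spec B').presheaf.germ ⊤ q trivial).hom).toAlgebra
  haveI : IsLocalization.AtPrime ((Spec B').presheaf.stalk q) q.asIdeal :=
    StructureSheaf.IsLocalization.to_stalk B' q
  have hu : ∀ y : q.asIdeal.primeCompl, IsUnit (φ' y) := fun y => IsLocalRing.notMem_maximalIdeal.1 y.2
  let τ : (Spec B').presheaf.stalk q →+* L := IsLocalization.lift hu
  let ρ := (g.stalkMap q).hom.comp (T.presheaf.stalkCongr (Inseparable.of_eq hg)).inv.hom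
  have hρ : ∀ b, ρ ((T.presheaf.germ U t htU).hom b) = algebraMap B' ((Spec B').presheaf.stalk q) (ι b) := fun b => by
    have hgU : g q ∈ U := by rw [hg]; exact htU
    have h1 : (T.presheaf.stalkCongr (Inseparable.of_eq hg)).inv ((T.presheaf.germ U t htU).hom b) =
        T.presheaf.germ U (g q) hgU b := by
      rw [TopCat.Presheaf.stalkCongr_inv]
      exact TopCat.Presheaf.germ_stalkSpecializes_apply _ _ _ _
    change (g.stalkMap q).hom _ = _
    erw [h1]
    exact stalkMap_germ hU (CommRingCat.ofHom ι) q hgU b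
  refine ⟨Spec B', g, q, hg, τ, ?_, inferInstance, ?_, ?_⟩
  · haveI : LocallyOfFiniteType (Spec.map (CommRingCat.ofHom ι)) :=
      (HasRingHomProperty.Spec_iff (P := @LocallyOfFiniteType)).2 hft
    exact inferInstanceAs (LocallyOfFiniteType (Spec.map (CommRingCat.ofHom ι) ≫ hU.fromSpec))
  · refine IsLocalization.ringHom_ext (hU.primeIdealOf ⟨t, htU⟩).asIdeal.primeCompl (RingHom.ext fun b => ?_)
    change τ (ρ ((T.presheaf.germ U t htU).hom b)) = σ ((T.presheaf.germ U t htU).hom b)
    rw [hρ, IsLocalization.lift_eq]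
    exact RingHom.congr_fun hfac b
  · intro σ' hσ' _ ⟨τ', hτ'⟩
    let ψ : B' →+* L := τ'.comp (algebraMap B' ((Spec B').presheaf.stalk q))
    have hψ : ∀ b, ψ (ι b) = σ' ((T.presheaf.germ U t htU).hom b) := fun b => by
      rw [← hτ']
      change τ' _ = τ' (ρ _)
      rw [hρ]
    have key : ∀ b, σ' ((T.presheaf.germ U t htU).hom b) - φ b ∈ (IsLocalRing.maximalIdeal R ^ N).map (algebraMap R L) := fun b => by
      rw [← hψ]
      refine hctrl ψ (RingHom.ext fun x => ?_) b
      change ψ (ι (c x)) = a x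
      rw [hψ, hcomm]
      exact RingHom.congr_fun hσ' _
    set I := (IsLocalRing.maximalIdeal R ^ N).map (algebraMap R L)
    have heq : (Ideal.Quotient.mk I).comp σ = (Ideal.Quotient.mk I).comp σ' :=
      IsLocalization.ringHom_ext (hU.primeIdealOf ⟨t, htU⟩).asIdeal.primeCompl
        (RingHom.ext fun b => (Ideal.Quotient.eq.2 (key b)).symm)
    exact fun x => Ideal.Quotient.eq.1 (RingHom.congr_fun heq x)

end Groth.Agent.S7201
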