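import Groth.Statements.S7204
import Mathlib

set_option autoImplicit false
universe w u
open FlatMor

namespace Groth.Agent.S7204

open AlgebraicGeometry CategoryTheory Limits in
/-- Let (X_i)_{i ∈ I} be a diagram of schemes and (W, X_i → W) a cocone under it. If there is an fpqc
covering {W_a → W} such that each W_a is the colimit (in schemes) of the base-changed diagram (X_i
×_W W_a), and each W_a ×_W W_b is the colimit of (X_i ×_W W_a ×_W W_b), then W is the colimit of
(X_i) in the category of schemes. -/
theorem result {J : Type u} [SmallCategory J] (D : J ⥤ Scheme.{u}) (c : Cocone D)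
    (F : PreZeroHypercover.{w} c.pt) (hF : F.presieve₀ ∈ Scheme.fpqcPrecoverage c.pt)
    (h1 : ∀ a : F.I₀, Nonempty (IsColimit ((Over.forgetCocone (F.X a)).whisker
      (D.toOver c.pt (fun j => c.ι.app j) (fun g => c.w g) ⋙ Over.pullback (F.f a)))))
    (h2 : ∀ a b : F.I₀, Nonempty (IsColimit ((Over.forgetCocone (pullback (F.f a) (F.f b))).whisker
      (D.toOver c.pt (fun j => c.ι.app j) (fun g => c.w g) ⋙ Over.pullback (pullback.fst (F.f a) (F.f b) ≫ F.f a))))) :
    Nonempty (IsColimit c) := by
  classical
  let pb : ∀ (Z : Scheme.{u}) (g : Z ⟶ c.pt) (j : J), Scheme.{u} := fun Z g j => Limits.pullback (c.ι.app j) g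
  have extract : ∀ (Z : Scheme.{u}) (g : Z ⟶ c.pt),
      Nonempty (IsColimit ((Over.forgetCocone Z).whisker
        (D.toOver c.pt (fun j => c.ι.app j) (fun g => c.w g) ⋙ Over.pullback g))) →
      ∀ (s : Cocone D), ∃! h : Z ⟶ s.pt, ∀ j, pullback.snd (c.ι.app j) g ≫ h = pullback.fst (c.ι.app j) g ≫ s.ι.app j := by
    intro Z g ⟨hc⟩ s
    let K := D.toOver c.pt (fun j => c.ι.app j) (fun g => c.w g) ⋙ Over.pullback g ⋙ Over.forget Z
    let s' : Cocone K :=
      { pt := s.pt
        ι := { app := fun j => pullback.fst (c.ι.app j) g ≫ s.ι.app j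
               naturality := fun i j φ => by
                 show ((Over.pullback g).map ((D.toOver c.pt (fun j => c.ι.app j) (fun g => c.w g)).map φ)).left ≫
                   pullback.fst (c.ι.app j) g ≫ s.ι.app j = (pullback.fst (c.ι.app i) g ≫ s.ι.app i) ≫ 𝟙 _
                 rw [Category.comp_id, ← Category.assoc]
                 simp only [Over.pullback_map_left]
                 erw [pullback.lift_fst]
                 show (pullback.fst (c.ι.app i) g ≫ D.map φ) ≫ s.ι.app j = _
                 rw [Category.assoc, s.w] } }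
    refine ⟨hc.desc s', fun j => hc.fac s' j, fun m hm => hc.uniq s' m hm⟩
  have sheaf : ∀ (T S : Scheme.{u}) (R : Presieve S), R ∈ Scheme.fpqcPrecoverage S →
      Presieve.IsSheafFor (yoneda.obj T) R := fun T S R hR => by
    exact (GrothendieckTopology.Subcanonical.isSheaf_of_isRepresentable (J := Scheme.fpqcTopology) (yoneda.obj T)).isSheafFor _
      (Precoverage.generate_mem_toGrothendieck hR)
  have hS : ∀ T : Scheme.{u}, Presieve.IsSheafFor (yoneda.obj T) (Presieve.ofArrows F.X F.f) := fun T =>
    sheaf T c.pt _ hF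
  choose h hh huniq using fun (s : Cocone D) (a : F.I₀) => extract (F.X a) (F.f a) (h1 a) s
  have hcomp : ∀ (s : Cocone D) (a b : F.I₀), pullback.fst (F.f a) (F.f b) ≫ h s a = pullback.snd (F.f a) (F.f b) ≫ h s b := by
    intro s a b
    refine (extract _ _ (h2 a b) s).unique (fun j => ?_) (fun j => ?_)
    · let v : pullback (c.ι.app j) (pullback.fst (F.f a) (F.f b) ≫ F.f a) ⟶ pullback (c.ι.app j) (F.f a) :=
        pullback.lift (pullback.fst _ _) (pullback.snd _ _ ≫ pullback.fst _ _) (pullback.condition.trans (Category.assoc _ _ _).symm)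
      have := congrArg (v ≫ ·) (hh s a j)
      simp only [← Category.assoc, v, pullback.lift_fst, pullback.lift_snd] at this
      simpa only [Category.assoc] using this
    · let v : pullback (c.ι.app j) (pullback.fst (F.f a) (F.f b) ≫ F.f a) ⟶ pullback (c.ι.app j) (F.f b) :=
        pullback.lift (pullback.fst _ _) (pullback.snd _ _ ≫ pullback.snd _ _)
          (pullback.condition.trans ((congrArg (pullback.snd _ _ ≫ ·) pullback.condition).trans (Category.assoc _ _ _).symm))
      have := congrArg (v ≫ ·) (hh s b j)
      simp only [← Category.assoc, v, pullback.lift_fst, pullback.lift_snd] at this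
      simpa only [Category.assoc] using this
  have hglue : ∀ s : Cocone D, ∃! t : c.pt ⟶ s.pt, ∀ a, F.f a ≫ t = h s a := fun s =>
    (Presieve.isSheafFor_arrows_iff _ _).1 (hS s.pt) (h s) (fun a b Z ga gb e => by
      show ga ≫ h s a = gb ≫ h s b
      have := congrArg (pullback.lift ga gb e ≫ ·) (hcomp s a b)
      simpa only [← Category.assoc, pullback.lift_fst, pullback.lift_snd] using this)
  choose t ht htu using hglue
  refine ⟨{ desc := t, fac := fun s j => ?_, uniq := fun s m hm => htu s m fun a => huniq s a _ fun j => ?_ }⟩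
  · have hj : Presieve.ofArrows _ (fun a => pullback.fst (c.ι.app j) (F.f a)) ∈ Scheme.fpqcPrecoverage (D.obj j) :=
      Precoverage.mem_coverings_of_isPullback (fun a => F.f a) hF (c.ι.app j)
        (fun a => pullback.fst (c.ι.app j) (F.f a)) (fun a => pullback.snd (c.ι.app j) (F.f a))
        fun a => IsPullback.of_hasPullback _ _
    obtain ⟨e, -, heu⟩ := (Presieve.isSheafFor_arrows_iff _ _).1 (sheaf s.pt _ _ hj)
      (fun a => pullback.fst (c.ι.app j) (F.f a) ≫ s.ι.app j) (fun a b Z ga gb e => by
        show ga ≫ pullback.fst _ _ ≫ s.ι.app j = gb ≫ pullback.fst _ _ ≫ s.ι.app j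
        rw [← Category.assoc, e, Category.assoc])
    refine (heu _ fun a => ?_).trans (heu _ fun a => ?_).symm
    · show pullback.fst _ _ ≫ c.ι.app j ≫ t s = _
      rw [← Category.assoc, pullback.condition, Category.assoc, ht s a, hh s a j]
    · rfl
  · rw [← Category.assoc, ← pullback.condition, Category.assoc, hm j]

end Groth.Agent.S7204
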