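import Groth.Statements.S7213
import Groth.Agent.RelPCS.Calc

set_option autoImplicit false
universe u
open CategoryTheory CategoryTheory.Limits AlgebraicGeometry Opposite TopologicalSpace
attribute [local instance] HasDerivedCategory.standard
open FlatMor

namespace Groth.Agent.S7213

/-- Let f : X ⟶ S be a morphism of schemes, m an integer, and E ∈ D(O_X) such that E is
m-pseudo-coherent with respect to the morphism f (chart form; in particular f is locally of finite
type). Then for every integer i > m the cohomology sheaf H^i(E) is a quasi-coherent O_X-module. -/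
theorem result {X S : Scheme.{u}} (f : X ⟶ S) (m : ℤ) (E : DCoh.D X)
    (hE : DerSch.IsPseudoCoherentRel f m E) (i : ℤ) (hi : m < i) : Coh.IsQCoh (DCoh.HD E i) := by
  haveI := hE.1
  refine Groth.Agent.DQCoh.isQCoh_of_restrict_opens fun x => ?_
  obtain ⟨_, ⟨V, hV, rfl⟩, hxV, -⟩ :=
    S.isBasis_affineOpens.exists_subset_of_mem_open (Set.mem_univ (f.base x)) isOpen_univ
  obtain ⟨_, ⟨U, hU, rfl⟩, hxU, hUV⟩ :=
    X.isBasis_affineOpens.exists_subset_of_mem_open (a := x) (show x ∈ ((f ⁻¹ᵁ V : X.Opens) : Set X) from hxV) (f ⁻¹ᵁ V).2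
  replace hU : IsAffineOpen U := hU
  replace hV : IsAffineOpen V := hV
  obtain ⟨n, φ, hφ⟩ := Groth.Agent.RelPCS.exists_chart (f := f) hU hV hUV
  exact ⟨U, hxU, Groth.Agent.RelPCS.qcoh_restrict_of_fromSpec hU
    (Groth.Agent.RelPCS.qcoh_of_qpc (Groth.Agent.RelPCS.qpc_of_rel hE hU hV hUV hφ) i hi)⟩

end Groth.Agent.S7213
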