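import Groth.Statements.S7217
import Groth.Agent.RelPCS.Chart

set_option autoImplicit false
universe u
open CategoryTheory CategoryTheory.Limits AlgebraicGeometry Opposite TopologicalSpace
attribute [local instance] HasDerivedCategory.standard
open FlatMor

set_option backward.isDefEq.respectTransparency false
set_option linter.style.haveILetI false

namespace Groth.Agent.S7217

/-- Let f : X ⟶ S be a morphism of schemes, U ⊆ X and V ⊆ S affine opens with f(U) ⊆ V such that Γ(S, V)
→ Γ(X, U) is of finite type, E an object of D(O_X), m an integer, and g_1, …, g_k ∈ Γ(X, U) elements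
generating the unit ideal, so that the basic opens D(g_j) form a standard affine open covering of U.
Then the following are equivalent: for every j there is a surjection from a polynomial ring Γ(S,
V)[x_1, …, x_n] onto Γ(X, D(g_j)), compatible with f, along whose closed immersion into affine space
over V the direct image of E restricted to D(g_j) is m-pseudo-coherent; there is such a surjection
onto Γ(X, U) along whose closed immersion the direct image of E|_U is m-pseudo-coherent. -/
theorem result {X S : Scheme.{u}} (f : X ⟶ S) (U : X.affineOpens)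
    (V : S.affineOpens) (h : (U : X.Opens) ≤ f ⁻¹ᵁ (V : S.Opens))
    (hft : (f.appLE (V : S.Opens) (U : X.Opens) h).hom.FiniteType) (m : ℤ) (E : DCoh.D X)
    {k : ℕ} (g : Fin k → Γ(X, (U : X.Opens))) (hg : Ideal.span (Set.range g) = ⊤) :
    (∀ j : Fin k, ∃ (n : ℕ) (φ : MvPolynomial (Fin n) Γ(S, (V : S.Opens)) →+* Γ(X, X.basicOpen (g j))),
        DerSch.IsChart f (X.basicOpen (g j)) (V : S.Opens) ((X.basicOpen_le (g j)).trans h) φ ∧
          DerSch.ChartPC m E (X.basicOpen (g j)) (V : S.Opens) φ) ↔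
      ∃ (n : ℕ) (φ : MvPolynomial (Fin n) Γ(S, (V : S.Opens)) →+* Γ(X, (U : X.Opens))),
        DerSch.IsChart f (U : X.Opens) (V : S.Opens) h φ ∧ DerSch.ChartPC m E (U : X.Opens) (V : S.Opens) φ := by
  obtain ⟨U, hU⟩ := U
  obtain ⟨V, hV⟩ := V
  dsimp only at h hft g hg ⊢
  algebraize [(f.appLE V U h).hom]
  obtain ⟨n, φa, hφa⟩ := Algebra.FiniteType.iff_quotient_mvPolynomial''.1 ‹Algebra.FiniteType Γ(S, V) Γ(X, U)›
  let φ : MvPolynomial (Fin n) Γ(S, V) →+* Γ(X, U) := φa.toRingHom
  have hφ : DerSch.IsChart f U V h φ := ⟨hφa, RingHom.ext fun r => φa.commutes r⟩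
  have hcomp : ∀ {W : X.Opens} (hW : W ≤ U) {l : ℕ} {ψ : MvPolynomial (Fin l) Γ(S, V) →+* Γ(X, W)},
      DerSch.IsChart f W V (hW.trans h) ψ →
      (X.presheaf.map (homOfLE hW).op).hom.comp (φ.comp MvPolynomial.C) = ψ.comp MvPolynomial.C :=
    fun hW _ _ hψ => by
      rw [hφ.2, hψ.2]
      exact congrArg CommRingCat.Hom.hom (f.appLE_map h (homOfLE hW).op)
  constructor
  · intro hQ
    refine ⟨n, φ, hφ, (Groth.Agent.RelPCS.chartPC_iff hU V φ hφ.1).2 ?_⟩
    refine Groth.Agent.RelPCS.qpc_of_away φ hφ.1 fun p => ?_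
    obtain ⟨j, hj⟩ : ∃ j, p ∈ PrimeSpectrum.basicOpen (g j) := by
      by_contra hne
      push Not at hne
      exact p.isPrime.ne_top (eq_top_iff.2 (hg ▸ Ideal.span_le.2 (Set.range_subset_iff.2 fun j =>
        not_not.1 fun hc => hne j hc)))
    obtain ⟨l, ψ, hψ, hψE⟩ := hQ j
    haveI := Groth.Agent.RelPCS.isOpenImmersion_res hU (g j)
    refine ⟨g j, hj, Γ(X, X.basicOpen (g j)), inferInstance,
      (X.presheaf.map (homOfLE (X.basicOpen_le (g j))).op).hom.toAlgebra, hU.isLocalization_basicOpen (g j),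
      Groth.Agent.RelPCS.isOpenImmersion_res hU (g j), l, ψ, ?_, ?_⟩
    · first
        | exact hcomp (X.basicOpen_le (g j)) hψ
        | exact (hcomp (X.basicOpen_le (g j)) hψ).symm
    · exact Groth.Agent.RelPCS.qpc_congr
        (j' := Groth.Agent.RelPCS.sp (X.presheaf.map (homOfLE (X.basicOpen_le (g j))).op).hom ≫ hU.fromSpec)
        (hU.map_fromSpec (hU.basicOpen (g j)) (homOfLE (X.basicOpen_le (g j))).op).symm
        ((Groth.Agent.RelPCS.chartPC_iff (hU.basicOpen (g j)) V ψ hψ.1).1 hψE)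
  · rintro ⟨k', φ', hφ', hE⟩ j
    letI : Algebra Γ(X, U) Γ(X, X.basicOpen (g j)) :=
      (X.presheaf.map (homOfLE (X.basicOpen_le (g j))).op).hom.toAlgebra
    haveI : IsLocalization.Away (g j) Γ(X, X.basicOpen (g j)) := hU.isLocalization_basicOpen (g j)
    haveI : IsOpenImmersion (Groth.Agent.RelPCS.sp (algebraMap Γ(X, U) Γ(X, X.basicOpen (g j)))) :=
      Groth.Agent.RelPCS.isOpenImmersion_res hU (g j)
    have h' : X.basicOpen (g j) ≤ f ⁻¹ᵁ V := (X.basicOpen_le (g j)).trans h
    have hft' : (f.appLE V (X.basicOpen (g j)) h').hom.FiniteType := by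
      have e : (f.appLE V (X.basicOpen (g j)) h').hom =
          (algebraMap Γ(X, U) Γ(X, X.basicOpen (g j))).comp (f.appLE V U h).hom :=
        congrArg CommRingCat.Hom.hom (f.appLE_map h (homOfLE (X.basicOpen_le (g j))).op).symm
      rw [e]
      exact (RingHom.finiteType_algebraMap.2 (IsLocalization.finiteType_of_monoid_fg (Submonoid.powers (g j)) _)).comp hft
    letI : Algebra Γ(S, V) Γ(X, X.basicOpen (g j)) := (f.appLE V (X.basicOpen (g j)) h').hom.toAlgebra
    obtain ⟨l, ψa, hψa⟩ := Algebra.FiniteType.iff_quotient_mvPolynomial''.1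
      (show Algebra.FiniteType Γ(S, V) Γ(X, X.basicOpen (g j)) from hft')
    let ψ : MvPolynomial (Fin l) Γ(S, V) →+* Γ(X, X.basicOpen (g j)) := ψa.toRingHom
    have hψ : DerSch.IsChart f (X.basicOpen (g j)) V h' ψ := ⟨hψa, RingHom.ext fun r => ψa.commutes r⟩
    refine ⟨l, ψ, hψ, (Groth.Agent.RelPCS.chartPC_iff (hU.basicOpen (g j)) V ψ hψ.1).2
      (Groth.Agent.RelPCS.qpc_congr
        (j := Groth.Agent.RelPCS.sp (algebraMap Γ(X, U) Γ(X, X.basicOpen (g j))) ≫ hU.fromSpec)
        (hU.map_fromSpec (hU.basicOpen (g j)) (homOfLE (X.basicOpen_le (g j))).op) ?_)⟩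
    refine Groth.Agent.RelPCS.qpc_away φ hφ.1 (g j) ψ hψ.1 ?_
      ((Groth.Agent.RelPCS.qpc_indep φ' hφ'.1 φ hφ.1 (hφ'.2.trans hφ.2.symm)).1
        ((Groth.Agent.RelPCS.chartPC_iff hU V φ' hφ'.1).1 hE))
    first
      | exact hcomp (X.basicOpen_le (g j)) hψ
      | exact (hcomp (X.basicOpen_le (g j)) hψ).symm

end Groth.Agent.S7217
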