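import Groth.Statements.S7218
import Groth.Agent.RelPCS.Chart

set_option backward.isDefEq.respectTransparency false
set_option backward.isDefEq.respectTransparency.types false
set_option linter.style.haveILetI false

set_option autoImplicit false
universe u
open CategoryTheory CategoryTheory.Limits AlgebraicGeometry Opposite TopologicalSpace
attribute [local instance] HasDerivedCategory.standard
open FlatMor

namespace Groth.Agent.S7218

open Groth.Agent.RelPCS Groth.Agent.DQCoh

lemma exists_chart' {X S : Scheme.{u}} (f : X ⟶ S) {U : X.Opens} {V : S.Opens} (h : U ≤ f ⁻¹ᵁ V)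
    (hft : (f.appLE V U h).hom.FiniteType) :
    ∃ (n : ℕ) (φ : MvPolynomial (Fin n) Γ(S, V) →+* Γ(X, U)), DerSch.IsChart f U V h φ := by
  algebraize [(f.appLE V U h).hom]
  haveI : Algebra.FiniteType Γ(S, V) Γ(X, U) := hft
  obtain ⟨n, φ, hφ⟩ := Algebra.FiniteType.iff_quotient_mvPolynomial''.1 this
  exact ⟨n, φ.toRingHom, hφ, RingHom.ext fun r => φ.commutes r⟩

lemma finiteType_res {X : Scheme.{u}} {U : X.Opens} (hU : IsAffineOpen U) (g : Γ(X, U)) :
    (X.presheaf.map (homOfLE (X.basicOpen_le g)).op).hom.FiniteType := by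
  letI : Algebra Γ(X, U) Γ(X, X.basicOpen g) := (X.presheaf.map (homOfLE (X.basicOpen_le g)).op).hom.toAlgebra
  haveI : IsLocalization.Away g Γ(X, X.basicOpen g) := hU.isLocalization_basicOpen g
  haveI : Algebra.FinitePresentation Γ(X, U) Γ(X, X.basicOpen g) := IsLocalization.Away.finitePresentation g
  exact RingHom.finiteType_algebraMap.2 inferInstance

set_option maxHeartbeats 1600000 in
/-- Let f : X ⟶ S be a morphism of schemes, V ⊆ S an affine open, r ∈ Γ(S, V) with basic open D(r) ⊆ V,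
U ⊆ X an affine open with f(U) ⊆ D(r), g ∈ Γ(X, U) with basic open D(g) ⊆ U (a standard affine open
of U), E an object of D(O_X) and m an integer. Suppose there is a surjection from a polynomial ring
Γ(S, D(r))[x_1, …, x_n] onto Γ(X, U), compatible with f, along whose closed immersion into affine
space over D(r) the direct image of E|_U is m-pseudo-coherent. Then there is a surjection from a
polynomial ring Γ(S, V)[x_1, …, x_k] onto Γ(X, D(g)), compatible with f, along whose closed
immersion into affine space over V the direct image of E|_{D(g)} is m-pseudo-coherent. (The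
published statement allows any affine open of U in place of D(g); this row takes a standard open
D(g), the case its printed proof treats.) -/
theorem result {X S : Scheme.{u}} (f : X ⟶ S) (V : S.affineOpens)
    (r : Γ(S, (V : S.Opens))) (U : X.affineOpens) (hU : (U : X.Opens) ≤ f ⁻¹ᵁ S.basicOpen r)
    (g : Γ(X, (U : X.Opens))) (h' : X.basicOpen g ≤ f ⁻¹ᵁ (V : S.Opens))
    (m : ℤ) (E : DCoh.D X)
    (hE : ∃ (n : ℕ) (φ : MvPolynomial (Fin n) Γ(S, S.basicOpen r) →+* Γ(X, (U : X.Opens))),
      DerSch.IsChart f (U : X.Opens) (S.basicOpen r) hU φ ∧ DerSch.ChartPC m E (U : X.Opens) (S.basicOpen r) φ) :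
    ∃ (k : ℕ) (ψ : MvPolynomial (Fin k) Γ(S, (V : S.Opens)) →+* Γ(X, X.basicOpen g)),
      DerSch.IsChart f (X.basicOpen g) (V : S.Opens) h' ψ ∧ DerSch.ChartPC m E (X.basicOpen g) (V : S.Opens) ψ := by
  obtain ⟨n, φ, hφ, hpc⟩ := hE
  have h1 : X.basicOpen g ≤ f ⁻¹ᵁ (S.basicOpen r) := (X.basicOpen_le g).trans hU
  have hQ : QPC m E U.2.fromSpec φ := (chartPC_iff U.2 (S.basicOpen r) φ hφ.1).1 hpc
  have hftU : (f.appLE (S.basicOpen r) (U : X.Opens) hU).hom.FiniteType := by
    rw [← hφ.2]
    exact (RingHom.FiniteType.of_surjective φ hφ.1).comp (RingHom.finiteType_algebraMap.2 inferInstance)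
  have hft1 : (f.appLE (S.basicOpen r) (X.basicOpen g) h1).hom.FiniteType := by
    rw [← f.appLE_map hU (homOfLE (X.basicOpen_le g)).op]
    exact (finiteType_res U.2 g).comp hftU
  have hft0 : (f.appLE V (X.basicOpen g) h').hom.FiniteType := by
    rw [← f.map_appLE h1 (homOfLE (S.basicOpen_le r)).op]
    exact hft1.comp (finiteType_res V.2 r)
  obtain ⟨k', φ', hφ'⟩ := exists_chart' f h1 hft1
  obtain ⟨k, ψ, hψ⟩ := exists_chart' f h' hft0
  have haff : IsAffineOpen (X.basicOpen g) := U.2.basicOpen g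
  refine ⟨k, ψ, hψ, ?_⟩
  rw [chartPC_iff haff _ ψ hψ.1]
  letI : Algebra Γ(X, U) Γ(X, X.basicOpen g) := (X.presheaf.map (homOfLE (X.basicOpen_le g)).op).hom.toAlgebra
  haveI : IsLocalization.Away g Γ(X, X.basicOpen g) := U.2.isLocalization_basicOpen g
  haveI : IsOpenImmersion (sp (algebraMap Γ(X, U) Γ(X, X.basicOpen g))) := isOpenImmersion_res U.2 g
  letI : Algebra Γ(S, V) Γ(S, (S.basicOpen r)) := (S.presheaf.map (homOfLE (S.basicOpen_le r)).op).hom.toAlgebra
  haveI : IsLocalization.Away r Γ(S, (S.basicOpen r)) := V.2.isLocalization_basicOpen r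
  have hQ' : QPC m E (U.2.basicOpen g).fromSpec φ' := by
    refine qpc_congr (j := sp (algebraMap Γ(X, U) Γ(X, X.basicOpen g)) ≫ U.2.fromSpec)
      (U.2.map_fromSpec (U.2.basicOpen g) (homOfLE (X.basicOpen_le g)).op) (qpc_away φ hφ.1 g φ' hφ'.1 ?_ hQ)
    rw [hφ.2, hφ'.2]
    exact congrArg CommRingCat.Hom.hom (f.appLE_map hU (homOfLE (X.basicOpen_le g)).op).symm
  let φ₁ : MvPolynomial (Fin k) Γ(S, (S.basicOpen r)) →+* Γ(X, X.basicOpen g) :=
    MvPolynomial.eval₂Hom (f.appLE (S.basicOpen r) (X.basicOpen g) h1).hom fun i => ψ (MvPolynomial.X i)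
  have hfac : ψ = φ₁.comp (MvPolynomial.map (algebraMap Γ(S, V) Γ(S, (S.basicOpen r)))) := by
    refine MvPolynomial.ringHom_ext (fun x => ?_) fun i => ?_
    · rw [RingHom.comp_apply, MvPolynomial.map_C, MvPolynomial.eval₂Hom_C, ← RingHom.comp_apply, hψ.2]
      exact congrArg (fun t => t.hom x) (f.map_appLE h1 (homOfLE (S.basicOpen_le r)).op).symm
    · rw [RingHom.comp_apply, MvPolynomial.map_X, MvPolynomial.eval₂Hom_X']
  have hs : Function.Surjective φ₁ := fun b => by
    obtain ⟨p, rfl⟩ := hψ.1 b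
    exact ⟨MvPolynomial.map (algebraMap Γ(S, V) Γ(S, (S.basicOpen r))) p, (RingHom.congr_fun hfac p).symm⟩
  have hc : φ'.comp MvPolynomial.C = φ₁.comp MvPolynomial.C := by
    rw [hφ'.2]; exact RingHom.ext fun x => (MvPolynomial.eval₂Hom_C _ _ x).symm
  exact (qpc_base r ψ hψ.1 φ₁ hs hfac).2 ((qpc_indep φ' hφ'.1 φ₁ hs hc).1 hQ')

end Groth.Agent.S7218
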