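import Groth.Statements.S7223
import Groth.Agent.Conormal.NLKer

set_option autoImplicit false
set_option linter.style.haveILetI false
set_option backward.isDefEq.respectTransparency false
open Groth.Agent
universe u
open CategoryTheory CategoryTheory.Limits TensorProduct
attribute [local instance] HasDerivedCategory.standard
open FlatMor

namespace Groth.Agent.S7223

/-- Let A → B and A → A' be ring homomorphisms and B' an algebra over A' and over B making the square
cocartesian, B' = B ⊗_A A'. If A → B and A' → B' are both local complete intersection homomorphisms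
(of finite type, with Koszul-regular kernel for a polynomial presentation), then the kernel of the
canonical map H^{-1}(NL_{B/A} ⊗_B B') → H^{-1}(NL_{B'/A'}) (presentations on all elements) is a
finite projective B'-module. -/
theorem result (A B A' B' : Type u) [CommRing A] [CommRing B]
    [CommRing A'] [CommRing B'] [Algebra A B] [Algebra A' B'] [Algebra A A'] [Algebra B B'] [Algebra A B']
    [IsScalarTower A A' B'] [IsScalarTower A B B'] [Algebra.IsPushout A A' B B']
    (hB : LCI.IsLCI A B) (hB' : LCI.IsLCI A' B') :
    Module.Finite B' (LinearMap.ker (NLCx.bcH1Map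
        ((Algebra.Generators.self A B).defaultHom (Algebra.Generators.self A' B')).toExtensionHom)) ∧
      Module.Projective B' (LinearMap.ker (NLCx.bcH1Map
        ((Algebra.Generators.self A B).defaultHom (Algebra.Generators.self A' B')).toExtensionHom)) := by
  obtain ⟨n, ⟨G⟩⟩ := NLBC.exists_gen hB.1
  let G' : Algebra.Generators A' B' (ULift.{u} (Fin n)) := NLBC.bcGen G
  have h : ∀ i, G'.val i = algebraMap B B' (G.val i) := fun _ => rfl
  obtain ⟨_, _⟩ := NLBC.finite_projective_cotangent G.toExtension (NLBC.kAt_generators hB G)
  obtain ⟨_, _⟩ := NLBC.finite_projective_cotangent G'.toExtension (NLBC.kAt_generators hB' G')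
  let f := NLBC.cotMap G G' h
  obtain ⟨σ, hσ⟩ := Module.projective_lifting_property f LinearMap.id (NLBC.cotMap_surjective G G' h)
  let p : B' ⊗[B] G.toExtension.Cotangent →ₗ[B'] LinearMap.ker f :=
    (LinearMap.id - σ ∘ₗ f).codRestrict _ fun x => by
      rw [LinearMap.mem_ker, LinearMap.sub_apply, map_sub, LinearMap.id_apply, LinearMap.comp_apply,
        show f (σ (f x)) = f x from DFunLike.congr_fun hσ (f x), sub_self]
  have hp : p ∘ₗ (LinearMap.ker f).subtype = LinearMap.id := LinearMap.ext fun x => Subtype.ext (by
    simp [p, LinearMap.mem_ker.mp x.2])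
  haveI : Module.Projective B' (LinearMap.ker f) := Module.Projective.of_split _ p hp
  haveI : Module.Finite B' (LinearMap.ker f) :=
    Module.Finite.of_surjective p fun x => ⟨x.1, DFunLike.congr_fun hp x⟩
  let e := NLBC.kerSelfEquiv G G' h
  exact ⟨Module.Finite.equiv e, Module.Projective.of_equiv e⟩

end Groth.Agent.S7223
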