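import Mathlib

/-! Kähler differentials of a symmetric algebra: `C ⊗ M ≅ Ω_{C/A}`. -/

namespace Groth.Agent.SymAlgOmega

open TensorProduct

universe u v

variable (A : Type u) [CommRing A] (M : Type v) [AddCommGroup M] [Module A M]

local notation "𝐂" => SymmetricAlgebra A M

/-- `c ↦ (c, dc)` as an algebra map into the square-zero extension. -/
noncomputable def sec : 𝐂 →ₐ[A] TrivSqZeroExt 𝐂 (𝐂 ⊗[A] M) :=
  SymmetricAlgebra.lift
    { toFun := fun m => TrivSqZeroExt.inl (SymmetricAlgebra.ι A M m) + TrivSqZeroExt.inr ((1 : 𝐂) ⊗ₜ[A] m)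
      map_add' := fun m m' => by
        refine TrivSqZeroExt.ext ?_ ?_ <;> simp [tmul_add]
      map_smul' := fun r m => by
        refine TrivSqZeroExt.ext ?_ ?_ <;> simp [tmul_smul] }

theorem fst_sec (c : 𝐂) : (sec A M c).fst = c := by
  have : (TrivSqZeroExt.fstHom A 𝐂 (𝐂 ⊗[A] M)).comp (sec A M) = AlgHom.id A 𝐂 := by
    apply SymmetricAlgebra.algHom_ext
    ext m
    simp [sec]
  exact AlgHom.congr_fun this c

noncomputable def der : Derivation A 𝐂 (𝐂 ⊗[A] M) where
  toLinearMap :=
    { toFun := fun c => (sec A M c).snd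
      map_add' := fun a b => by simp
      map_smul' := fun r a => by simp }
  map_one_eq_zero' := by simp
  leibniz' a b := by
    show (sec A M (a * b)).snd = a • (sec A M b).snd + b • (sec A M a).snd
    rw [map_mul, TrivSqZeroExt.snd_mul, fst_sec, fst_sec]
    rw [op_smul_eq_smul]

theorem der_ι (m : M) : der A M (SymmetricAlgebra.ι A M m) = (1 : 𝐂) ⊗ₜ[A] m := by
  show (sec A M (SymmetricAlgebra.ι A M m)).snd = _
  simp [sec]

theorem bijective :
    Function.Bijective (LinearMap.liftBaseChange 𝐂
      ((KaehlerDifferential.D A 𝐂).toLinearMap.restrictScalars A ∘ₗ SymmetricAlgebra.ι A M)) := by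
  set f := LinearMap.liftBaseChange 𝐂
      ((KaehlerDifferential.D A 𝐂).toLinearMap.restrictScalars A ∘ₗ SymmetricAlgebra.ι A M) with hf
  have hD : ∀ c : 𝐂, f (der A M c) = KaehlerDifferential.D A 𝐂 c := by
    intro c
    induction c using SymmetricAlgebra.induction with
    | algebraMap r => simp
    | ι m => rw [der_ι]; simp [hf]
    | mul a b ha hb => rw [Derivation.leibniz, map_add, map_smul, map_smul, ha, hb, Derivation.leibniz]
    | add a b ha hb => rw [map_add, map_add, map_add, ha, hb]
  let g := (der A M).liftKaehlerDifferential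
  refine Function.bijective_iff_has_inverse.2 ⟨g, fun x => ?_, fun y => ?_⟩
  · induction x using TensorProduct.induction_on with
    | zero => simp
    | tmul c m => simp [hf, g, der_ι, TensorProduct.smul_tmul']
    | add x y hx hy => rw [map_add, map_add, hx, hy]
  · have : f.comp g = LinearMap.id := by
      refine Derivation.liftKaehlerDifferential_unique _ _ ?_
      ext c
      simp [g, hD]
    exact LinearMap.congr_fun this y

end Groth.Agent.SymAlgOmega
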