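import Groth.Statements.S7238
import Groth.Agent.PopDesc.Main
import Groth.Agent.PopDesc.Chart

set_option autoImplicit false
set_option linter.style.haveILetI false
set_option backward.isDefEq.respectTransparency false
universe u
open FlatMor

namespace Groth.Agent.S7238

open AlgebraicGeometry CategoryTheory Limits in
theorem finiteType_int {T : Scheme.{u}} [LocallyOfFiniteType (specULiftZIsTerminal.from T)] {U : T.Opens}
    (hU : IsAffineOpen U) : Algebra.FiniteType ℤ Γ(T, U) := by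
  have h := (specULiftZIsTerminal.from T).finiteType_appLE (U := ⊤) (isAffineOpen_top _) hU (by simp)
  let e₁ : ℤ →+* Γ(Spec (CommRingCat.of (ULift.{u} ℤ)), ⊤) :=
    (Scheme.ΓSpecIso (CommRingCat.of (ULift.{u} ℤ))).inv.hom.comp (ULift.ringEquiv (R := ℤ)).symm.toRingHom
  have he : Function.Surjective e₁ :=
    ((Scheme.ΓSpecIso (CommRingCat.of (ULift.{u} ℤ))).symm.commRingCatIsoToRingEquiv.surjective).comp
      (ULift.ringEquiv (R := ℤ)).symm.surjective
  have h2 := h.comp (RingHom.FiniteType.of_surjective e₁ he)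
  rw [show ((specULiftZIsTerminal.from T).appLE ⊤ U (by simp)).hom.comp e₁ = algebraMap ℤ Γ(T, U) from
    RingHom.ext_int _ _] at h2
  exact RingHom.finiteType_algebraMap.mp h2

open AlgebraicGeometry CategoryTheory Limits in
theorem stalkMap_chart {L A : CommRingCat.{u}} {Z : Scheme.{u}} (j : Spec A ⟶ Z) (f : Z ⟶ Spec L) (φ : L ⟶ A)
    (h : j ≫ f = Spec.map φ) (w : Spec A) (l : L) :
    j.stalkMap w (f.stalkMap (j w) ((Spec L).presheaf.germ ⊤ (f (j w)) trivial ((Scheme.ΓSpecIso L).inv l))) =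
      StructureSheaf.toStalk A w (φ l) := by
  have key : ∀ k : Spec A ⟶ Spec L, k = Spec.map φ →
      k.stalkMap w ((Spec L).presheaf.germ ⊤ (k w) trivial ((Scheme.ΓSpecIso L).inv l)) =
        StructureSheaf.toStalk A w (φ l) := by
    rintro k rfl
    exact stalkMap_toStalk_apply φ w l
  rw [← key _ h]
  exact (ConcreteCategory.congr_hom (Scheme.Hom.stalkMap_comp j f w) _).symm


open AlgebraicGeometry CategoryTheory Limits in
theorem exists_stalk_algebra {L P : CommRingCat.{u}} {Z : Scheme.{u}} (j : Spec P ⟶ Z) [IsOpenImmersion j]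
    (f : Z ⟶ Spec L) (φ : L ⟶ P) (h : j ≫ f = Spec.map φ) (w : Spec P) :
    ∃ ι : P →+* Z.presheaf.stalk (j w), (letI := ι.toAlgebra
      IsLocalization.AtPrime (Z.presheaf.stalk (j w)) w.asIdeal) ∧ ∀ l : L, ι (φ l) =
        f.stalkMap (j w) ((Spec L).presheaf.germ ⊤ (f (j w)) trivial ((Scheme.ΓSpecIso L).inv l)) := by
  let e := (asIso (j.stalkMap w)).commRingCatIsoToRingEquiv
  letI : Algebra P ((Spec P).presheaf.stalk w) := (StructureSheaf.toStalk P w).hom.toAlgebra
  haveI : IsLocalization.AtPrime ((Spec P).presheaf.stalk w) w.asIdeal :=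
    StructureSheaf.IsLocalization.to_stalk (R := P) w
  refine ⟨e.symm.toRingHom.comp (algebraMap P ((Spec P).presheaf.stalk w)), ?_, fun l => e.injective ?_⟩
  · letI := (e.symm.toRingHom.comp (algebraMap P ((Spec P).presheaf.stalk w))).toAlgebra
    exact IsLocalization.isLocalization_of_algEquiv _ (AlgEquiv.ofRingEquiv (f := e.symm) fun _ => rfl)
  · exact (e.apply_symm_apply _).trans (stalkMap_chart j f φ h w l).symm

theorem transfer {RS OX OXc A Ac L M N P : Type u} [CommRing RS] [CommRing OX] [CommRing OXc] [CommRing A]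
    [CommRing Ac] [CommRing L] [CommRing M] [CommRing N] [CommRing P] (φ : OXc ≃+* Ac) {a1 : OX →+* OXc}
    {m : RS →+* OX} {a2 : A →+* Ac} {g : N →+* A} {h1 : M →+* N} {h2 : L →+* M} {c : RS →+* L}
    (hφ : φ.toRingHom.comp (a1.comp m) = (a2.comp g).comp (h1.comp (h2.comp c))) (ι : P →+* A) (incl : L → P)
    (hι : ∀ l, ι (incl l) = g (h1 (h2 l))) (r : RS) (o : OX) (l : L) (ho : m r = o) (hl : c r = l) :
    φ (a1 o) = a2 (ι (incl l)) := by
  subst ho hl
  rw [hι]
  exact RingHom.congr_fun hφ r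

set_option maxHeartbeats 400000 in
open AlgebraicGeometry CategoryTheory Limits IsLocalRing TensorProduct in
/-- Let S be a locally Noetherian scheme and T a scheme of finite type over ℤ; let p : X ⟶ S and q : Y ⟶
T be locally of finite type; let x ∈ X with image s ∈ S such that O_{S,s} is a G-ring, and y ∈ Y
with image t ∈ T. Let σ : O_{T,t} → O_{S,s}^∧ be a local homomorphism into the completion, let Y_σ =
Y ×_T Spec(O_{S,s}^∧) be the base change of q along Spec(O_{S,s}^∧) → Spec(O_{T,t}) → T, let y_σ ∈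
Y_σ be a point lying over y and over the closed point of Spec(O_{S,s}^∧), and let φ : O_{X,x}^∧ ≅
O_{Y_σ,y_σ}^∧ be an isomorphism of completed local rings compatible with the two O_{S,s}-algebra
structures. Then there are: an elementary étale neighbourhood e : (V, v) ⟶ (S, s) (étale, v ↦ s,
trivial residue field extension) together with τ : V ⟶ T with τ(v) = t; an elementary étale
neighbourhood a : (W, w) ⟶ (X, x); and a morphism b : W ⟶ Y ×_{T,τ} V with W ⟶ X ⟶ S equal to W ⟶ Y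
×_T V ⟶ V ⟶ S, such that b is étale and b(w) lies over y and over v with trivial residue field
extension. (The published statement says more precisely that (W, w) is an elementary étale
neighbourhood of the point y_τ of Y ×_T V corresponding to y_σ under the identification of the fibre
of Y_σ over the closed point with the fibre of Y ×_T V over v; that identification is not expressed
here, only that b(w) lies over y and v.) -/
theorem result {X Y S T : Scheme.{u}} [IsLocallyNoetherian S]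
    (p : X ⟶ S) (q : Y ⟶ T) [LocallyOfFiniteType p] [LocallyOfFiniteType q]
    [LocallyOfFiniteType (specULiftZIsTerminal.from T)] [CompactSpace T]
    (x : X) (hG : CAlg.IsGRing ↑(S.presheaf.stalk (p x))) (y : Y)
    (σ : ↑(T.presheaf.stalk (q y)) →+*
      AdicCompletion (maximalIdeal ↑(S.presheaf.stalk (p x))) ↑(S.presheaf.stalk (p x)))
    [IsLocalHom σ]
    (yσ : ↑(pullback q (Spec.map (CommRingCat.ofHom σ) ≫ T.fromSpecStalk (q y))))
    (hyσ : (pullback.fst q (Spec.map (CommRingCat.ofHom σ) ≫ T.fromSpecStalk (q y))) yσ = y)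
    (hyσc : (pullback.snd q (Spec.map (CommRingCat.ofHom σ) ≫ T.fromSpecStalk (q y))) yσ =
      closedPoint (AdicCompletion (maximalIdeal ↑(S.presheaf.stalk (p x))) ↑(S.presheaf.stalk (p x))))
    (φ : AdicCompletion (maximalIdeal ↑(X.presheaf.stalk x)) ↑(X.presheaf.stalk x) ≃+*
      AdicCompletion (maximalIdeal ↑((pullback q (Spec.map (CommRingCat.ofHom σ) ≫ T.fromSpecStalk (q y))).presheaf.stalk yσ))
        ↑((pullback q (Spec.map (CommRingCat.ofHom σ) ≫ T.fromSpecStalk (q y))).presheaf.stalk yσ))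
    (hφ : φ.toRingHom.comp ((algebraMap ↑(X.presheaf.stalk x)
        (AdicCompletion (maximalIdeal ↑(X.presheaf.stalk x)) ↑(X.presheaf.stalk x))).comp (p.stalkMap x).hom) =
      ((algebraMap _ (AdicCompletion (maximalIdeal
          ↑((pullback q (Spec.map (CommRingCat.ofHom σ) ≫ T.fromSpecStalk (q y))).presheaf.stalk yσ)) _)).comp
        ((pullback.snd q (Spec.map (CommRingCat.ofHom σ) ≫ T.fromSpecStalk (q y))).stalkMap yσ).hom).comp
        ((((Spec (CommRingCat.of (AdicCompletion (maximalIdeal ↑(S.presheaf.stalk (p x))) ↑(S.presheaf.stalk (p x))))).presheaf.germ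
            ⊤ ((pullback.snd q (Spec.map (CommRingCat.ofHom σ) ≫ T.fromSpecStalk (q y))) yσ) trivial).hom.comp
          ((Scheme.ΓSpecIso (CommRingCat.of (AdicCompletion (maximalIdeal ↑(S.presheaf.stalk (p x)))
            ↑(S.presheaf.stalk (p x))))).inv.hom.comp
            (algebraMap ↑(S.presheaf.stalk (p x))
              (AdicCompletion (maximalIdeal ↑(S.presheaf.stalk (p x))) ↑(S.presheaf.stalk (p x)))))))) :
    ∃ (V : Scheme.{u}) (v : V) (e : V ⟶ S) (τ : V ⟶ T) (W : Scheme.{u}) (w : W) (a : W ⟶ X)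
      (b : W ⟶ pullback q τ),
      Etale e ∧ e v = p x ∧ Function.Bijective (e.residueFieldMap v) ∧ τ v = q y ∧
      Etale a ∧ a w = x ∧ Function.Bijective (a.residueFieldMap w) ∧
      a ≫ p = b ≫ pullback.snd q τ ≫ e ∧
      Etale b ∧ (pullback.fst q τ) (b w) = y ∧ (pullback.snd q τ) (b w) = v ∧
      Function.Bijective (b.residueFieldMap w) := by
  obtain ⟨VS, hVS, hxV, -⟩ := exists_isAffineOpen_mem_and_subset (U := ⊤) (x := p x) trivial
  obtain ⟨U₀, hU₀, hxU, hUV⟩ := exists_isAffineOpen_mem_and_subset (U := p ⁻¹ᵁ VS) (x := x) hxV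
  obtain ⟨VT, hVT, hyT, -⟩ := exists_isAffineOpen_mem_and_subset (U := ⊤) (x := q y) trivial
  obtain ⟨WY, hWY, hyW, hWV⟩ := exists_isAffineOpen_mem_and_subset (U := q ⁻¹ᵁ VT) (x := y) hyT
  replace hUV : U₀ ≤ p ⁻¹ᵁ VS := hUV
  replace hWV : WY ≤ q ⁻¹ᵁ VT := hWV
  haveI : IsNoetherianRing Γ(S, VS) := IsLocallyNoetherian.component_noetherian ⟨VS, hVS⟩
  haveI : Algebra.FiniteType ℤ Γ(T, VT) := finiteType_int hVT
  letI : Algebra Γ(S, VS) Γ(X, U₀) := (p.appLE VS U₀ hUV).hom.toAlgebra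
  letI : Algebra Γ(T, VT) Γ(Y, WY) := (q.appLE VT WY hWV).hom.toAlgebra
  haveI : Algebra.FiniteType Γ(S, VS) Γ(X, U₀) := LocallyOfFiniteType.finiteType_appLE p hVS hU₀ hUV
  haveI : Algebra.FiniteType Γ(T, VT) Γ(Y, WY) := LocallyOfFiniteType.finiteType_appLE q hVT hWY hWV
  letI := TopCat.Presheaf.algebra_section_stalk S.presheaf (⟨p x, hxV⟩ : VS)
  haveI := hVS.isLocalization_stalk ⟨p x, hxV⟩
  letI := TopCat.Presheaf.algebra_section_stalk X.presheaf (⟨x, hxU⟩ : U₀)
  haveI := hU₀.isLocalization_stalk ⟨x, hxU⟩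
  letI : Algebra Γ(S, VS) (X.presheaf.stalk x) :=
    ((X.presheaf.germ U₀ x hxU).hom.comp (algebraMap Γ(S, VS) Γ(X, U₀))).toAlgebra
  haveI : IsScalarTower Γ(S, VS) Γ(X, U₀) (X.presheaf.stalk x) := IsScalarTower.of_algebraMap_eq' rfl
  haveI : IsNoetherianRing (S.presheaf.stalk (p x)) := hG.1
  letI : Algebra Γ(T, VT) (AdicCompletion (maximalIdeal ↑(S.presheaf.stalk (p x))) ↑(S.presheaf.stalk (p x))) :=
    (σ.comp (T.presheaf.germ VT (q y) hyT).hom).toAlgebra
  have hg : Spec.map (CommRingCat.ofHom σ) ≫ T.fromSpecStalk (q y) =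
      Spec.map (CommRingCat.ofHom (algebraMap Γ(T, VT) _)) ≫ hVT.fromSpec := by
    rw [← hVT.fromSpecStalk_eq_fromSpecStalk hyT, IsAffineOpen.fromSpecStalk, ← Spec.map_comp_assoc]
    rfl
  obtain ⟨j, hjo, hj1, hj2, hjr⟩ := Groth.Agent.PopDesc.exists_chart q hVT hWY hWV _ rfl _ hg
  obtain ⟨u₀, hu₀⟩ := hjr yσ (by rw [hyσ]; exact hyW)
  subst hu₀
  haveI := hjo
  obtain ⟨ι, hι, hιl⟩ := exists_stalk_algebra j _ _ hj2 u₀
  letI := ι.toAlgebra
  haveI := hι
  have hQ : ∀ l, l ⊗ₜ[Γ(T, VT)] (1 : Γ(Y, WY)) ∈ u₀.asIdeal ↔ ¬ IsUnit l := fun l => by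
    have h1 := congrArg (fun f => f.base u₀) hj2
    have h2 : (Spec.map (CommRingCat.ofHom Algebra.TensorProduct.includeLeftRingHom)) u₀ = closedPoint _ :=
      h1.symm.trans hyσc
    exact (SetLike.ext_iff.1 (congrArg PrimeSpectrum.asIdeal h2) l).trans (mem_maximalIdeal l)
  have hq : ∀ d : Γ(Y, WY), (1 : AdicCompletion (maximalIdeal ↑(S.presheaf.stalk (p x))) ↑(S.presheaf.stalk (p x)))
      ⊗ₜ[Γ(T, VT)] d ∈ u₀.asIdeal ↔ d ∈ (hWY.primeIdealOf ⟨y, hyW⟩).asIdeal := fun d => by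
    have h1 := (congrArg (fun f => f.base u₀) hj1).symm.trans hyσ
    have h2 := hWY.fromSpec.isOpenEmbedding.injective (h1.trans (hWY.fromSpec_primeIdealOf ⟨y, hyW⟩).symm)
    exact SetLike.ext_iff.1 (congrArg PrimeSpectrum.asIdeal h2) d
  have hφR := transfer φ hφ ι _ hιl
  have hφ' : ∀ r : Γ(S, VS), φ (algebraMap (X.presheaf.stalk x) _ (algebraMap Γ(S, VS) (X.presheaf.stalk x) r)) =
      algebraMap ((pullback q (Spec.map (CommRingCat.ofHom σ) ≫ T.fromSpecStalk (q y))).presheaf.stalk (j u₀)) _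
        (algebraMap _ ((pullback q (Spec.map (CommRingCat.ofHom σ) ≫ T.fromSpecStalk (q y))).presheaf.stalk (j u₀))
          (algebraMap Γ(S, VS) (AdicCompletion (maximalIdeal ↑(S.presheaf.stalk (p x))) ↑(S.presheaf.stalk (p x))) r
            ⊗ₜ[Γ(T, VT)] (1 : Γ(Y, WY)))) := fun r => by
    have e1 : (p.stalkMap x).hom (S.presheaf.germ VS (p x) hxV r) =
        algebraMap Γ(S, VS) (X.presheaf.stalk x) r := Groth.Agent.Popescu.stalkMap_germ_appLE p hUV x hxU r
    have e2 : algebraMap (S.presheaf.stalk (p x))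
          (AdicCompletion (maximalIdeal ↑(S.presheaf.stalk (p x))) ↑(S.presheaf.stalk (p x)))
          (S.presheaf.germ VS (p x) hxV r) = algebraMap Γ(S, VS) _ r :=
      (IsScalarTower.algebraMap_apply Γ(S, VS) (S.presheaf.stalk (p x))
        (AdicCompletion (maximalIdeal ↑(S.presheaf.stalk (p x))) ↑(S.presheaf.stalk (p x))) r).symm
    exact hφR (S.presheaf.germ VS (p x) hxV r) _ _ e1 e2
  have h𝔭 : ((hU₀.primeIdealOf ⟨x, hxU⟩).asIdeal).comap (algebraMap Γ(S, VS) Γ(X, U₀)) =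
      (hVS.primeIdealOf ⟨p x, hxV⟩).asIdeal := by
    ext r
    rw [Ideal.mem_comap, ← IsLocalization.AtPrime.to_map_mem_maximal_iff (X.presheaf.stalk x)
      (hU₀.primeIdealOf ⟨x, hxU⟩).asIdeal, ← IsLocalization.AtPrime.to_map_mem_maximal_iff (S.presheaf.stalk (p x))
      (hVS.primeIdealOf ⟨p x, hxV⟩).asIdeal, mem_maximalIdeal, mem_maximalIdeal, mem_nonunits_iff, mem_nonunits_iff]
    refine not_congr (Iff.trans (Iff.of_eq (congrArg IsUnit ?_)) (isUnit_map_iff (p.stalkMap x).hom _))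
    exact (Groth.Agent.Popescu.stalkMap_germ_appLE p hUV x hxU r).symm
  obtain ⟨R', _, _, _, v, Wr, _, aW, bW, w, hR', hv, hvS, hvres, hvT, haW, hbW, hcomm, hw, hwP, hwD, hwv, hresP,
      hresD⟩ :=
    Groth.Agent.PopDesc.exists_nbhds Γ(S, VS) (hVS.primeIdealOf ⟨p x, hxV⟩).asIdeal (S.presheaf.stalk (p x)) hG
      Γ(X, U₀) (hU₀.primeIdealOf ⟨x, hxU⟩).asIdeal h𝔭 (X.presheaf.stalk x) Γ(T, VT) Γ(Y, WY) u₀.asIdeal hQ
      ((pullback q (Spec.map (CommRingCat.ofHom σ) ≫ T.fromSpecStalk (q y))).presheaf.stalk (j u₀)) φ hφ'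
  let vP : Spec (CommRingCat.of R') := (⟨v, hv⟩ : PrimeSpectrum R')
  let wP : Spec (CommRingCat.of Wr) := (⟨w, hw⟩ : PrimeSpectrum Wr)
  obtain ⟨τ, hτ⟩ : ∃ τ : Spec (CommRingCat.of R') ⟶ T,
      τ = Spec.map (CommRingCat.ofHom (algebraMap Γ(T, VT) R')) ≫ hVT.fromSpec := ⟨_, rfl⟩
  obtain ⟨j', hj'o, hj'1, hj'2, -⟩ := Groth.Agent.PopDesc.exists_chart q hVT hWY hWV R' rfl τ hτ
  haveI := hj'o
  refine ⟨Spec (CommRingCat.of R'), vP, Spec.map (CommRingCat.ofHom (algebraMap Γ(S, VS) R')) ≫ hVS.fromSpec, τ,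
    Spec (CommRingCat.of Wr), wP, Spec.map (CommRingCat.ofHom aW) ≫ hU₀.fromSpec,
    Spec.map (CommRingCat.ofHom bW) ≫ j', ?_, ?_, ?_, ?_, ?_, ?_, ?_, ?_, ?_, ?_, ?_, ?_⟩
  · haveI : Etale (Spec.map (CommRingCat.ofHom (algebraMap Γ(S, VS) R'))) :=
      HasRingHomProperty.Spec_iff.mpr (RingHom.etale_algebraMap.2 hR')
    infer_instance
  · have : Spec.map (CommRingCat.ofHom (algebraMap Γ(S, VS) R')) vP = hVS.primeIdealOf ⟨p x, hxV⟩ :=
      PrimeSpectrum.ext hvS
    rw [Scheme.Hom.comp_apply, this]; exact hVS.fromSpec_primeIdealOf _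
  · refine Groth.Agent.PopDesc.residueFieldMap_bijective (CommRingCat.ofHom (algebraMap Γ(S, VS) R')) hVS.fromSpec vP
      fun z => ?_
    obtain ⟨c, s, hs, h⟩ := hvres z
    exact ⟨c, s, fun h' => hs (hvS.le h'), h⟩
  · have : Spec.map (CommRingCat.ofHom (algebraMap Γ(T, VT) R')) vP = hVT.primeIdealOf ⟨q y, hyT⟩ := by
      refine PrimeSpectrum.ext (hvT.trans (Ideal.ext fun b => ?_))
      letI := TopCat.Presheaf.algebra_section_stalk T.presheaf (⟨q y, hyT⟩ : VT)
      haveI := hVT.isLocalization_stalk ⟨q y, hyT⟩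
      rw [Ideal.mem_comap, ← IsLocalization.AtPrime.to_map_mem_maximal_iff (T.presheaf.stalk (q y))
        (hVT.primeIdealOf ⟨q y, hyT⟩).asIdeal b, mem_maximalIdeal, mem_maximalIdeal, mem_nonunits_iff, mem_nonunits_iff]
      exact not_congr (isUnit_map_iff σ _)
    rw [hτ, Scheme.Hom.comp_apply, this]; exact hVT.fromSpec_primeIdealOf _
  · haveI : Etale (Spec.map (CommRingCat.ofHom aW)) := HasRingHomProperty.Spec_iff.mpr haW
    infer_instance
  · have : Spec.map (CommRingCat.ofHom aW) wP = hU₀.primeIdealOf ⟨x, hxU⟩ := PrimeSpectrum.ext hwP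
    rw [Scheme.Hom.comp_apply, this]; exact hU₀.fromSpec_primeIdealOf _
  · refine Groth.Agent.PopDesc.residueFieldMap_bijective (CommRingCat.ofHom aW) hU₀.fromSpec wP fun z => ?_
    obtain ⟨c, s, hs, h⟩ := hresP z
    exact ⟨c, s, fun h' => hs (hwP.le h'), h⟩
  · simp only [Category.assoc]
    rw [reassoc_of% hj'2, ← IsAffineOpen.SpecMap_appLE_fromSpec p hVS hU₀ hUV, ← Spec.map_comp_assoc,
      ← Spec.map_comp_assoc, ← Spec.map_comp_assoc]
    congr 2
    ext r
    exact hcomm r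
  · haveI : Etale (Spec.map (CommRingCat.ofHom bW)) := HasRingHomProperty.Spec_iff.mpr hbW
    infer_instance
  · rw [← Scheme.Hom.comp_apply, Category.assoc, hj'1, Scheme.Hom.comp_apply, Scheme.Hom.comp_apply]
    rw [show Spec.map (CommRingCat.ofHom (Algebra.TensorProduct.includeRight :
        Γ(Y, WY) →ₐ[Γ(T, VT)] R' ⊗[Γ(T, VT)] Γ(Y, WY)).toRingHom) (Spec.map (CommRingCat.ofHom bW) wP) =
        hWY.primeIdealOf ⟨y, hyW⟩ from
      PrimeSpectrum.ext (Ideal.ext fun d => (hwD d).trans (hq d))]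
    exact hWY.fromSpec_primeIdealOf _
  · rw [← Scheme.Hom.comp_apply, Category.assoc, hj'2, Scheme.Hom.comp_apply]
    exact PrimeSpectrum.ext (Ideal.ext fun t => hwv t)
  · exact Groth.Agent.PopDesc.residueFieldMap_bijective (CommRingCat.ofHom bW) j' wP hresD

end Groth.Agent.S7238
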