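import Groth.Statements.S7242
import Groth.Agent.ResExtend.Epi

set_option autoImplicit false
set_option backward.isDefEq.respectTransparency false
set_option linter.style.haveILetI false
universe u
open CategoryTheory CategoryTheory.Limits AlgebraicGeometry
attribute [local instance] HasDerivedCategory.standard
open Perf

namespace Groth.Agent.S7242

/-- Let X be a scheme, X = U_1 ∪ … ∪ U_m a finite covering by affine opens, and I_1, …, I_m
quasi-coherent ideal sheaves of finite type with V(I_j) = X ∖ U_j as sets. Then X has the resolution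
property (every quasi-coherent O_X-module of finite type is a quotient of a finite locally free
O_X-module) if and only if, for every j, the ideal sheaf I_j regarded as an O_X-module is a quotient
of a finite locally free O_X-module. -/
theorem result (X : Scheme.{u}) {m : ℕ} (U : Fin m → X.Opens)
    (hUaff : ∀ j, IsAffineOpen (U j)) (hcov : ⨆ j, U j = ⊤) (I : Fin m → X.IdealSheafData)
    (hIft : ∀ j, CohB1.IsFT (ClSub.idealMod (I j))) (hIsupp : ∀ j, ((I j).support : Set ↥X) = (U j : Set ↥X)ᶜ) :
    PerfAux.HasResolutionProperty X ↔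
      ∀ j, ∃ (E : X.Modules) (π : E ⟶ ClSub.idealMod (I j)), FlatMod.IsFinLocFree E ∧ Epi π := by
  constructor
  · exact fun h j => h _ (Groth.Agent.QC.isQCoh_idealMod (I j)) (hIft j)
  · intro h
    have hc : ∀ x : X, ∃ j, x ∈ U j := fun x => by
      have hx : x ∈ ⨆ j, U j := hcov ▸ trivial
      exact TopologicalSpace.Opens.mem_iSup.1 hx
    haveI : CompactSpace X := ⟨by
      have he : (Set.univ : Set X) = ⋃ j, (U j : Set X) := Set.ext fun x =>
        ⟨fun _ => Set.mem_iUnion.2 (hc x), fun _ => trivial⟩
      rw [he]
      exact isCompact_iUnion fun j => (hUaff j).isCompact⟩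
    choose E π hE hπ using h
    haveI : QuasiSeparatedSpace X := Groth.Agent.ResExtend.quasiSeparatedSpace_of_ft U hUaff hc I hIft hIsupp
    let σ : ∀ j, E j ⟶ Coh.structureModule X := fun j => π j ≫ ClSub.idealModι (I j)
    refine Groth.Agent.ResExtend.hasResolutionProperty_of_cosections U
      hUaff hc E hE σ ?_ ?_
    · intro j V t x hx
      have := Groth.Agent.CohQC.basicOpen_disjoint_of_range (I j) _ ⟨(π j).app V t, rfl⟩ x
      by_contra hxU
      exact this ((hIsupp j).ge hxU) hx
    · intro j
      obtain ⟨y, hy⟩ := Groth.Agent.CohQC.range_idealModι_of_disjoint (I j) (U j)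
        (by rw [hIsupp j]; exact Set.inter_compl_self _) 1
      haveI := hπ j
      obtain ⟨e, he⟩ := Groth.Agent.QC.app_surjective_of_epi (hUaff j)
        (Groth.Agent.LocFree.isQCoh_of_isFinLocFree (hE j)) (Groth.Agent.QC.isQCoh_idealMod (I j)) (π j) y
      exact ⟨e, (congrArg ((ClSub.idealModι (I j)).app (U j)) he).trans hy⟩

end Groth.Agent.S7242
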