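import Groth.Statements.S7251
import Groth.Agent.DQCoh.Pullback

set_option autoImplicit false
set_option backward.isDefEq.respectTransparency false
set_option backward.isDefEq.respectTransparency.types false
universe u
open CategoryTheory CategoryTheory.Limits AlgebraicGeometry
attribute [local instance] HasDerivedCategory.standard
open Perf

namespace Groth.Agent.S7251

/-- Let f : X ⟶ Y be a quasi-compact and quasi-separated morphism of schemes. Assume Rf_* exists and
sends D_QCoh(O_X) into D_QCoh(O_Y), let an adjunction Lf^* ⊣ Rf_* be given as data, and assume the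
inclusion functors D_QCoh ⥤ D have (chosen) right adjoints DQ_X and DQ_Y. Then Rf_* ∘ DQ_X = DQ_Y ∘
Rf_*: for every K ∈ D(O_X) the comparison map Rf_*(DQ_X K) ⟶ DQ_Y(Rf_* K) in D_QCoh(O_Y),
corresponding under the adjunction to Rf_* applied to the counit DQ_X K ⟶ K, is an isomorphism. -/
theorem result {X Y : Scheme.{u}} (f : X ⟶ Y) [QuasiCompact f] [QuasiSeparated f]
    [DCoh.HasRpush f] (h : DCoh.RpushPreservesQCoh f) [DCoh.HasLpull f] (adj : DCoh.Lpull f ⊣ DCoh.Rpush f)
    [(ObjectProperty.ι (DCoh.IsQCohD (X := X))).IsLeftAdjoint] [(ObjectProperty.ι (DCoh.IsQCohD (X := Y))).IsLeftAdjoint]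
    (K : DCoh.D X) :
    IsIso ((Adjunction.ofIsLeftAdjoint (ObjectProperty.ι (DCoh.IsQCohD (X := Y)))).homEquiv
      (⟨(DCoh.Rpush f).obj (((ObjectProperty.ι (DCoh.IsQCohD (X := X))).rightAdjoint.obj K).obj),
        h _ (((ObjectProperty.ι (DCoh.IsQCohD (X := X))).rightAdjoint.obj K).property)⟩ : DCoh.DQCoh Y)
      ((DCoh.Rpush f).obj K)
      ((DCoh.Rpush f).map ((Adjunction.ofIsLeftAdjoint (ObjectProperty.ι (DCoh.IsQCohD (X := X)))).counit.app K))) := by
  set aY := Adjunction.ofIsLeftAdjoint (ObjectProperty.ι (DCoh.IsQCohD (X := Y))) with haY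
  set aX := Adjunction.ofIsLeftAdjoint (ObjectProperty.ι (DCoh.IsQCohD (X := X))) with haX
  set A : DCoh.DQCoh Y := ⟨(DCoh.Rpush f).obj (((ObjectProperty.ι (DCoh.IsQCohD (X := X))).rightAdjoint.obj K).obj),
        h _ (((ObjectProperty.ι (DCoh.IsQCohD (X := X))).rightAdjoint.obj K).property)⟩ with hA
  refine isIso_of_yoneda_map_bijective _ fun M => ?_
  -- postcomposition with `Rf_* ε` on maps out of `M`
  have key : Function.Bijective fun g : M.obj ⟶ A.obj => g ≫ (DCoh.Rpush f).map (aX.counit.app K) := by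
    let N : DCoh.DQCoh X := ⟨(DCoh.Lpull f).obj M.obj, Groth.Agent.DQCoh.isQCohD_Lpull f M.obj M.property⟩
    have h1 : Function.Bijective fun p : (DCoh.Lpull f).obj M.obj ⟶
        ((ObjectProperty.ι (DCoh.IsQCohD (X := X))).rightAdjoint.obj K).obj => p ≫ aX.counit.app K := by
      have e : (fun p : (DCoh.Lpull f).obj M.obj ⟶
          ((ObjectProperty.ι (DCoh.IsQCohD (X := X))).rightAdjoint.obj K).obj => p ≫ aX.counit.app K) =
          (aX.homEquiv N K).symm ∘ fun p => ObjectProperty.homMk p := by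
        funext p
        simp only [Function.comp, Adjunction.homEquiv_counit]
        rfl
      rw [e]
      exact (aX.homEquiv N K).symm.bijective.comp
        ⟨fun p q hpq => congrArg InducedCategory.Hom.hom hpq, fun p => ⟨p.hom, rfl⟩⟩
    have e : (fun g : M.obj ⟶ A.obj => g ≫ (DCoh.Rpush f).map (aX.counit.app K)) =
        (adj.homEquiv M.obj K) ∘ (fun p => p ≫ aX.counit.app K) ∘
          (adj.homEquiv M.obj ((ObjectProperty.ι (DCoh.IsQCohD (X := X))).rightAdjoint.obj K).obj).symm := by
      funext g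
      exact (((adj.homEquiv_naturality_right _ _).trans (congrArg (· ≫ (DCoh.Rpush f).map (aX.counit.app K)) (Equiv.apply_symm_apply _ g)))).symm
    rw [e]
    exact (Equiv.bijective _).comp (h1.comp (Equiv.bijective _))
  have e : (fun g : M ⟶ A => g ≫ aY.homEquiv A ((DCoh.Rpush f).obj K) ((DCoh.Rpush f).map (aX.counit.app K))) =
      (aY.homEquiv M ((DCoh.Rpush f).obj K)) ∘ (fun g => g ≫ (DCoh.Rpush f).map (aX.counit.app K)) ∘
        fun g : M ⟶ A => g.hom := by
    funext g
    exact (aY.homEquiv_naturality_left g _).symm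
  rw [e]
  exact (Equiv.bijective _).comp (key.comp ⟨fun p q hpq => InducedCategory.hom_ext hpq, fun p => ⟨ObjectProperty.homMk p, rfl⟩⟩)

end Groth.Agent.S7251
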