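import Groth.Statements.S7260
import Groth.Agent.HDU.SingleLimitGen
import Groth.Agent.LimMilnor.Formal
import Groth.Agent.DQCoh.Affine
import Groth.Agent.CohQC.Restrict

set_option backward.isDefEq.respectTransparency false
set_option backward.isDefEq.respectTransparency.types false
set_option linter.style.haveILetI false

set_option autoImplicit false
universe u
open CategoryTheory CategoryTheory.Limits AlgebraicGeometry
attribute [local instance] HasDerivedCategory.standard
open Perf

namespace Groth.Agent.S7260

/-- Let X be a scheme and (F_n)_{n ≥ 0} an inverse system of quasi-coherent O_X-modules whose transition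
maps F_{n+1} ⟶ F_n are surjective for n ≥ 1. Then R lim F_n = lim F_n, that is, lim F_n placed in
degree 0 is a derived limit in D(O_X) of the system (F_n[0]) (granted the countable product exists
there), and H^p(U, lim F_n) = 0 for every affine open U ⊆ X and every p > 0. (The published
statement is phrased for the system of q-th cohomology sheaves of an inverse system in D_QCoh(O_X);
the proof uses only that these form an inverse system of quasi-coherent modules with surjective
transition maps, which is the form stated here.) -/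
theorem result {X : Scheme.{u}} (F : ℕ → X.Modules)
    (hF : ∀ n, Coh.IsQCoh (F n)) (t : ∀ n, F (n + 1) ⟶ F n) (ht : ∀ n, 1 ≤ n → Epi (t n))
    [HasProduct fun n => DCoh.inD X (F n)] :
    DCoh.IsRlim (fun n => DCoh.inD X (F n)) (fun n => (DerivedCategory.singleFunctor X.Modules 0).map (t n))
        (DCoh.inD X (Limits.limit (Functor.ofOpSequence t))) ∧
      ∀ (U : X.Opens), IsAffineOpen U → ∀ p : ℕ, 0 < p →
        Subsingleton (Coh.HHon X (Limits.limit (Functor.ofOpSequence t)) U p) := by
  haveI : IsGrothendieckAbelian.{u} X.Modules := KFlat.isGrothendieck X.sheaf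
  haveI : IsGrothendieckAbelian.{u} (ModSite.Mod X.sheaf) := KFlat.isGrothendieck X.sheaf
  have hsurj : ∀ V : X.Opens, IsAffineOpen V → ∀ n, 1 ≤ n → Function.Surjective ((t n).app V) := fun V hV n hn =>
    haveI := ht n hn
    QC.app_surjective_of_epi hV (hF _) (hF _) (t n)
  refine ⟨?_, fun U hU p hp => ?_⟩
  · haveI : HasProduct fun n : ℕ => (DerivedCategory.singleFunctor (ModSite.Mod X.sheaf) 0).obj (F n) :=
      ‹HasProduct fun n => DCoh.inD X (F n)›
    refine HDU.isRlim_single_limit_gen (HDU.modData X.sheaf) F t {V : X.Opens | IsAffineOpen V}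
      (LimMilnor.affines_cover X) (fun V hV n j hj => ?_) fun V hV => ?_
    · obtain ⟨k, rfl⟩ : ∃ k : ℕ, j = ((k + 1 : ℕ) : ℤ) := ⟨(j - 1).toNat, by omega⟩
      haveI : (F n).IsQuasicoherent := hF n
      exact HDU.modVan X.sheaf _ (k + 1) (by omega) V (CohQC.hu_vanish_of_isAffineOpen (F n) hV k)
    · refine HDU.exists_limOne_of_eventually_surjective _ _ 1 fun n hn ψ => ?_
      obtain ⟨s, hs⟩ := hsurj V hV n hn ((HDU.modData X.sheaf).sec V _ ψ)
      refine ⟨((HDU.modData X.sheaf).sec V _).symm s, ((HDU.modData X.sheaf).sec V _).injective ?_⟩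
      refine ((HDU.modData X.sheaf).sec_comp _ (t n)).trans ?_
      rw [AddEquiv.apply_symm_apply]
      exact hs
  · letI := BrownDerived.smallDerived (Sheaf (Opens.grothendieckTopology X) AddCommGrpCat.{u})
    obtain ⟨q, rfl⟩ : ∃ q : ℕ, p = q + 1 := ⟨p - 1, by omega⟩
    let Φ := SheafOfModules.toSheaf.{u} X.ringCatSheaf
    let K := fun n : ℕ =>
      (DerivedCategory.singleFunctor (Sheaf (Opens.grothendieckTopology X) AddCommGrpCat.{u}) 0).obj (Φ.obj (F n))
    haveI : HasProduct K :=
      have := HDU.hasProduct_derived (A := Sheaf (Opens.grothendieckTopology X) AddCommGrpCat.{u})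
        (T := ULift.{u} ℕ) (fun n => K n.down)
      hasLimit_of_iso (F := (Discrete.equivalence (Equiv.ulift.{u}.symm : ℕ ≃ ULift.{u} ℕ)).functor ⋙
          Discrete.functor fun n : ULift.{u} ℕ => K n.down)
        (Discrete.natIso fun _ => Iso.refl _)
    let t' := fun n : ℕ => Φ.map (t n)
    have h := (HDU.isRlim_single_limit (fun n => Φ.obj (F n)) t' {V : X.Opens | IsAffineOpen V}
      (LimMilnor.affines_cover X)
      (fun V hV k n => by
        haveI : (F n).IsQuasicoherent := hF n
        exact CohQC.hu_vanish_of_isAffineOpen (F n) hV k)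
      (fun V hV => HDU.exists_limOne_of_eventually_surjective _ _ 1 fun n hn => hsurj V hV n hn)).2 U hU q
    let eF : CohCx.opSequence (fun n => Φ.obj (F n)) t' ≅ Functor.ofOpSequence t ⋙ Φ :=
      NatIso.ofComponents (fun n => Iso.refl _) (fun {Y Z} g => by
        let η : CohCx.opSequence (fun n => Φ.obj (F n)) t' ⟶ Functor.ofOpSequence t ⋙ Φ :=
          NatTrans.ofOpSequence (fun n => 𝟙 _) fun n => by
            simp only [CohCx.opSequence, Functor.comp_map, Functor.ofOpSequence_map_homOfLE_succ,
              Category.comp_id, Category.id_comp]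
            rfl
        exact η.naturality g)
    have h' := HDU.subsingleton_hu_of_iso
      (HasLimit.isoOfNatIso eF ≪≫ (preservesLimitIso Φ (Functor.ofOpSequence t)).symm) (q + 1) U h
    obtain ⟨e⟩ := CohQC.hu_restrict (Limits.limit (Functor.ofOpSequence t)) U (q + 1)
    exact @Equiv.subsingleton _ _ e.symm.toEquiv h'

end Groth.Agent.S7260
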