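import Groth.Statements.S7271
import Mathlib
import Groth.Agent.QCGen.Basic
import Groth.Agent.RelPCS.FlatBase
import Groth.Agent.KInj.Ops
import Groth.Agent.KInj.Existence
import Groth.Agent.QC.Pullback
import Groth.Agent.DerPush.Basic

set_option autoImplicit false
set_option backward.isDefEq.respectTransparency false
set_option backward.isDefEq.respectTransparency.types false
set_option maxHeartbeats 1000000
universe u
open CategoryTheory CategoryTheory.Limits AlgebraicGeometry
attribute [local instance] HasDerivedCategory.standard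
open Perf

namespace Groth.Agent.S7271

open Groth.Agent

theorem derived_comp_iso {A B C : Type*} [Category A] [Abelian A] [Category B] [Abelian B] [Category C] [Abelian C]
    [HasDerivedCategory A] [HasDerivedCategory B] [HasDerivedCategory C]
    (hA : ∀ K : CochainComplex A ℤ, ∃ (I : CochainComplex A ℤ) (f : K ⟶ I), I.IsKInjective ∧ QuasiIso f)
    (hB : ∀ K : CochainComplex B ℤ, ∃ (I : CochainComplex B ℤ) (f : K ⟶ I), I.IsKInjective ∧ QuasiIso f)
    (F₁ : A ⥤ B) [F₁.Additive] (F₂ : B ⥤ C) [F₂.Additive]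
    [(F₁.mapHomotopyCategory (ComplexShape.up ℤ) ⋙ DerivedCategory.Qh).HasRightDerivedFunctor
      (HomotopyCategory.quasiIso A (ComplexShape.up ℤ))]
    [(F₂.mapHomotopyCategory (ComplexShape.up ℤ) ⋙ DerivedCategory.Qh).HasRightDerivedFunctor
      (HomotopyCategory.quasiIso B (ComplexShape.up ℤ))]
    (hF₁ : ∀ I : CochainComplex A ℤ, I.IsKInjective → CochainComplex.IsKInjective
      ((F₁.mapHomologicalComplex (ComplexShape.up ℤ)).obj I))
    (T : HomotopyCategory A (ComplexShape.up ℤ) ⥤ DerivedCategory C)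
    (e : F₁.mapHomotopyCategory (ComplexShape.up ℤ) ⋙ F₂.mapHomotopyCategory (ComplexShape.up ℤ) ⋙
      DerivedCategory.Qh ≅ T) :
    ∃ α : T ⟶ DerivedCategory.Qh ⋙
      ((F₁.mapHomotopyCategory (ComplexShape.up ℤ) ⋙ DerivedCategory.Qh).totalRightDerived DerivedCategory.Qh
        (HomotopyCategory.quasiIso A (ComplexShape.up ℤ)) ⋙
       (F₂.mapHomotopyCategory (ComplexShape.up ℤ) ⋙ DerivedCategory.Qh).totalRightDerived DerivedCategory.Qh
        (HomotopyCategory.quasiIso B (ComplexShape.up ℤ))),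
      Functor.IsRightDerivedFunctor _ α (HomotopyCategory.quasiIso A (ComplexShape.up ℤ)) := by
  let G₁ := F₁.mapHomotopyCategory (ComplexShape.up ℤ) ⋙ DerivedCategory.Qh
  let G₂ := F₂.mapHomotopyCategory (ComplexShape.up ℤ) ⋙ DerivedCategory.Qh
  let WA := HomotopyCategory.quasiIso A (ComplexShape.up ℤ)
  let WB := HomotopyCategory.quasiIso B (ComplexShape.up ℤ)
  let R₂ := G₂.totalRightDerived DerivedCategory.Qh WB
  let u₁ := G₁.totalRightDerivedUnit DerivedCategory.Qh WA
  let u₂ := G₂.totalRightDerivedUnit DerivedCategory.Qh WB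
  let α := e.inv ≫ Functor.whiskerLeft (F₁.mapHomotopyCategory (ComplexShape.up ℤ)) u₂ ≫
    (Functor.associator _ _ _).inv ≫ Functor.whiskerRight u₁ R₂ ≫ (Functor.associator _ _ _).hom
  refine ⟨α, (KInj.isDeforming_Qh hA T).isRightDerivedFunctor WA _ α fun I hI => ?_⟩
  haveI h₂ : IsIso (u₂.app ((F₁.mapHomotopyCategory (ComplexShape.up ℤ)).obj I)) :=
    (KInj.isDeforming_Qh hB G₂).isIso_app WB _ u₂ (hF₁ I.as hI)
  haveI h₁ : IsIso (u₁.app I) := (KInj.isDeforming_Qh hA G₁).isIso_app WA _ u₁ hI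
  have : α.app I = e.inv.app I ≫ u₂.app ((F₁.mapHomotopyCategory (ComplexShape.up ℤ)).obj I) ≫
      𝟙 _ ≫ R₂.map (u₁.app I) ≫ 𝟙 _ := rfl
  rw [this]
  infer_instance

/-- Let f : X ⟶ Y be a quasi-compact, quasi-separated and flat morphism of schemes. Granting that
quasi-coherent modules on X and on Y contain zero and are closed under kernels, cokernels and finite
products, with exact inclusions (instance hypotheses making QCoh abelian), let Q_X and Q_Y be
coherators (right adjoints of the inclusions QCoh ⥤ Mod, given with their adjunctions), let RQ_X,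
RQ_Y be their total right derived functors and Φ the total right derived functor of f_* : QCoh(O_X)
⥤ QCoh(O_Y) (existence binders; f_* preserves quasi-coherence by hypothesis hf). Then RQ_Y ∘ Rf_* =
Φ ∘ RQ_X as functors D(O_X) ⥤ D(QCoh(O_Y)) (existence of a natural isomorphism only). -/
theorem result {X Y : Scheme.{u}} (f : X ⟶ Y)
    [QuasiCompact f] [QuasiSeparated f] [Flat f] [DCoh.HasRpush f]
    [ObjectProperty.ContainsZero (fun M : X.Modules => Coh.IsQCoh M)] [ObjectProperty.IsClosedUnderKernels (fun M : X.Modules => Coh.IsQCoh M)]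
    [ObjectProperty.IsClosedUnderCokernels (fun M : X.Modules => Coh.IsQCoh M)] [ObjectProperty.IsClosedUnderFiniteProducts (fun M : X.Modules => Coh.IsQCoh M)]
    [PreservesFiniteLimits (ObjectProperty.ι (fun M : X.Modules => Coh.IsQCoh M))] [PreservesFiniteColimits (ObjectProperty.ι (fun M : X.Modules => Coh.IsQCoh M))]
    [ObjectProperty.ContainsZero (fun M : Y.Modules => Coh.IsQCoh M)] [ObjectProperty.IsClosedUnderKernels (fun M : Y.Modules => Coh.IsQCoh M)]
    [ObjectProperty.IsClosedUnderCokernels (fun M : Y.Modules => Coh.IsQCoh M)] [ObjectProperty.IsClosedUnderFiniteProducts (fun M : Y.Modules => Coh.IsQCoh M)]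
    [PreservesFiniteLimits (ObjectProperty.ι (fun M : Y.Modules => Coh.IsQCoh M))] [PreservesFiniteColimits (ObjectProperty.ι (fun M : Y.Modules => Coh.IsQCoh M))]
    (QX : X.Modules ⥤ ObjectProperty.FullSubcategory (fun M : X.Modules => Coh.IsQCoh M)) (adjX : ObjectProperty.ι (fun M : X.Modules => Coh.IsQCoh M) ⊣ QX)
    (QY : Y.Modules ⥤ ObjectProperty.FullSubcategory (fun M : Y.Modules => Coh.IsQCoh M)) (adjY : ObjectProperty.ι (fun M : Y.Modules => Coh.IsQCoh M) ⊣ QY)
    [QX.Additive] [QY.Additive]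
    [(QX.mapHomotopyCategory (ComplexShape.up ℤ) ⋙ DerivedCategory.Qh).HasRightDerivedFunctor (HomotopyCategory.quasiIso X.Modules (ComplexShape.up ℤ))] [(QY.mapHomotopyCategory (ComplexShape.up ℤ) ⋙ DerivedCategory.Qh).HasRightDerivedFunctor (HomotopyCategory.quasiIso Y.Modules (ComplexShape.up ℤ))]
    (hf : ∀ M : X.Modules, Coh.IsQCoh M → Coh.IsQCoh ((Scheme.Modules.pushforward f).obj M))
    [(ObjectProperty.lift (fun M : Y.Modules => Coh.IsQCoh M) (ObjectProperty.ι (fun M : X.Modules => Coh.IsQCoh M) ⋙ Scheme.Modules.pushforward f) (fun M => hf M.obj M.property)).Additive]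
    [((ObjectProperty.lift (fun M : Y.Modules => Coh.IsQCoh M) (ObjectProperty.ι (fun M : X.Modules => Coh.IsQCoh M) ⋙ Scheme.Modules.pushforward f) (fun M => hf M.obj M.property)).mapHomotopyCategory (ComplexShape.up ℤ) ⋙ DerivedCategory.Qh).HasRightDerivedFunctor (HomotopyCategory.quasiIso (ObjectProperty.FullSubcategory (fun M : X.Modules => Coh.IsQCoh M)) (ComplexShape.up ℤ))] :
    Nonempty (DCoh.Rpush f ⋙ (QY.mapHomotopyCategory (ComplexShape.up ℤ) ⋙ DerivedCategory.Qh).totalRightDerived DerivedCategory.Qh (HomotopyCategory.quasiIso Y.Modules (ComplexShape.up ℤ)) ≅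
      (QX.mapHomotopyCategory (ComplexShape.up ℤ) ⋙ DerivedCategory.Qh).totalRightDerived DerivedCategory.Qh (HomotopyCategory.quasiIso X.Modules (ComplexShape.up ℤ)) ⋙
        ((ObjectProperty.lift (fun M : Y.Modules => Coh.IsQCoh M) (ObjectProperty.ι (fun M : X.Modules => Coh.IsQCoh M) ⋙ Scheme.Modules.pushforward f) (fun M => hf M.obj M.property)).mapHomotopyCategory (ComplexShape.up ℤ) ⋙ DerivedCategory.Qh).totalRightDerived DerivedCategory.Qh (HomotopyCategory.quasiIso (ObjectProperty.FullSubcategory (fun M : X.Modules => Coh.IsQCoh M)) (ComplexShape.up ℤ))) := by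
  haveI : IsGrothendieckAbelian.{u} X.Modules := DerPush.isGrothendieckAbelian_modules X
  let qX : ObjectProperty X.Modules := fun M => Coh.IsQCoh M
  let qY : ObjectProperty Y.Modules := fun M => Coh.IsQCoh M
  let pf := ObjectProperty.lift qY (qX.ι ⋙ Scheme.Modules.pushforward f) (fun M => hf M.obj M.property)
  let pb := ObjectProperty.lift qX (qY.ι ⋙ Scheme.Modules.pullback f) (fun M => QC.isQCoh_pullback f M.property)
  let adjf : pb ⊣ pf := Adjunction.restrictFullyFaithful (Scheme.Modules.pullbackPushforwardAdjunction f)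
    qY.fullyFaithfulι qX.fullyFaithfulι (Iso.refl _) (Iso.refl _)
  let e₀ : pb ⋙ qX.ι ≅ qY.ι ⋙ Scheme.Modules.pullback f := Iso.refl _
  let e : QX ⋙ pf ≅ Scheme.Modules.pushforward f ⋙ QY :=
    ((adjf.comp adjX).ofNatIsoLeft e₀).rightAdjointUniq (adjY.comp (Scheme.Modules.pullbackPushforwardAdjunction f))
  haveI : IsGrothendieckAbelian.{u} (ObjectProperty.FullSubcategory (fun M : X.Modules => Coh.IsQCoh M)) := QCGen.isGrothendieckAbelian X
  haveI : PreservesFiniteLimits (Scheme.Modules.pullback f) := RelPCS.instPreservesFiniteLimitsPullback f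
  haveI : PreservesFiniteColimits (Scheme.Modules.pullback f) := RelPCS.instPreservesFiniteColimitsPullback f
  haveI : (Scheme.Modules.pullback f).Additive := RelPCS.instAdditivePullback f
  let K₁ := (Scheme.Modules.pushforward f).mapHomotopyCategory (ComplexShape.up ℤ)
  let K₂ := QY.mapHomotopyCategory (ComplexShape.up ℤ)
  let L₁ := QX.mapHomotopyCategory (ComplexShape.up ℤ)
  let L₂ := pf.mapHomotopyCategory (ComplexShape.up ℤ)
  let i : L₁ ⋙ L₂ ⋙ DerivedCategory.Qh ≅ K₁ ⋙ K₂ ⋙ DerivedCategory.Qh :=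
    (Functor.associator _ _ _).symm ≪≫ Functor.isoWhiskerRight
      (Functor.mapHomotopyCategoryCompIso e (ComplexShape.up ℤ) ≪≫
        (Functor.mapHomotopyCategoryCompIso (Iso.refl (Scheme.Modules.pushforward f ⋙ QY)) (ComplexShape.up ℤ)).symm) _ ≪≫
      Functor.associator _ _ _
  haveI : PreservesFiniteLimits (qX.ι) := inferInstance
  obtain ⟨a, ha⟩ := derived_comp_iso DerPush.exists_kInj_sch DerPush.exists_kInj_sch
    (Scheme.Modules.pushforward f) QY
    (fun I hI => KInj.isKInjective_rightAdjoint (Scheme.Modules.pullbackPushforwardAdjunction f) I hI)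
    (K₁ ⋙ K₂ ⋙ DerivedCategory.Qh) (Iso.refl _)
  obtain ⟨b, hb⟩ := derived_comp_iso DerPush.exists_kInj_sch
    (fun K => by
      obtain ⟨I, g, hI, hg, -⟩ := KInj.exists_kInjective K
      exact ⟨I, g, hI, hg⟩)
    QX pf (fun I hI => KInj.isKInjective_rightAdjoint adjX I hI)
    (K₁ ⋙ K₂ ⋙ DerivedCategory.Qh) i
  exact ⟨Functor.rightDerivedUnique _ _ a b (HomotopyCategory.quasiIso X.Modules (ComplexShape.up ℤ))⟩

end Groth.Agent.S7271
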