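import Groth.Statements.S7280
import Groth.Agent.DCohGammaZ.Basic
import Groth.Agent.DQPush.Coprod
import Groth.Agent.PerfGen.Extend
import Groth.Agent.H4Easy.Batch60

set_option backward.isDefEq.respectTransparency false
set_option backward.isDefEq.respectTransparency.types false
set_option maxHeartbeats 800000

set_option autoImplicit false
universe u
open CategoryTheory CategoryTheory.Limits AlgebraicGeometry
attribute [local instance] HasDerivedCategory.standard
open Perf Pretriangulated

namespace Groth.Agent.S7280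

/-- Let X be a scheme, j : U ⟶ X an open immersion which is quasi-compact, and T = X ∖ U (a closed
subset with retrocompact complement). Assuming the unbounded derived functor RΓ_T = i_* RH_T of
sections with support in T exists on D(O_X): for every family Eᵢ of objects of D_QCoh(O_X) indexed
by a small type whose direct sums ∐ Eᵢ and ∐ RΓ_T(Eᵢ) exist in D(O_X), the canonical map ∐ RΓ_T(Eᵢ)
⟶ RΓ_T(∐ Eᵢ) is an isomorphism. (The published statement is RH_T(⊕ Eᵢ) = ⊕ RH_T(Eᵢ) in D(i⁻¹O_X) for
the inclusion i : T → X; since i_* identifies D(i⁻¹O_X) with the objects of D(O_X) supported on T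
and commutes with direct sums, this is the same assertion for i_* RH_T = RΓ_T.) -/
theorem result {U X : Scheme.{u}} (j : U ⟶ X) [IsOpenImmersion j] [QuasiCompact j]
    [CxOX.HasRgammaZ j] {ι : Type u} (E : ι → DCoh.D X) (hE : ∀ i, DCoh.IsQCohD (E i)) [HasCoproduct E]
    [HasCoproduct (fun i => (CxOX.RgammaZ j).obj (E i))] :
    IsIso (Sigma.desc (fun i => (CxOX.RgammaZ j).map (Sigma.ι E i))) := by
  haveI := PerfGen.hasCoproducts_D' X ι
  haveI := PerfGen.hasCoproducts_D' U ι
  choose G c d hT using fun i => DCohGammaZ.exists_triangle j (E i)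
  have hG : ∀ i, DCoh.IsQCohD (G i) := fun i => by
    haveI : IsIso ((DQCoh.RD j).map (c i)) :=
      (Triangle.isZero₁_iff_isIso₂ _ ((DQCoh.RD j).map_distinguished _ (hT i))).1
        (DCohGammaZ.isZero_RD_RgammaZ j (E i))
    exact fun m => QC.isQCoh_of_iso ((DerivedCategory.homologyFunctor U.Modules m).mapIso
      (asIso ((DQCoh.RD j).map (c i)) ≪≫ asIso ((PerfGen.adjR j).counit.app (G i))))
      (PerfGen.isQCohD_RD j (hE i) m)
  haveI := DQPush.isIso_comparison_qcoh j G hG
  have hA : IsZero ((DQCoh.RD j).obj (∐ fun i => (CxOX.RgammaZ j).obj (E i))) := by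
    haveI : PreservesColimitsOfSize.{u, u} (DQCoh.RD j) := (PerfGen.adjR j).leftAdjoint_preservesColimits
    refine IsZero.of_iso ?_ (PreservesCoproduct.iso (DQCoh.RD j) _)
    exact (IsZero.iff_id_eq_zero _).2 (Sigma.hom_ext _ _ fun i =>
      (DCohGammaZ.isZero_RD_RgammaZ j (E i)).eq_of_src _ _)
  let T : ι → Triangle (DCoh.D X) := fun i => Triangle.mk ((CxOX.RgammaZToId j).app (E i)) (c i) (d i)
  haveI : HasCoproduct fun i => (T i).obj₁ := ‹HasCoproduct fun i => (CxOX.RgammaZ j).obj (E i)›
  haveI : HasCoproduct fun i => (T i).obj₂ := ‹HasCoproduct E›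
  have hC := H4Easy.coproduct_triangle T hT
  refine DCohGammaZ.isIso_of_triangle j hA hC (fun B hB f => ?_) _ ?_
  · let f' : B ⟶ ∐ fun i => (DCoh.Rpush j).obj (G i) := f
    have h : f' ≫ sigmaComparison (DCoh.Rpush j) G = 0 := DCohGammaZ.hom_eq_zero j hB _
    exact (cancel_mono (sigmaComparison (DCoh.Rpush j) G)).1 (h.trans zero_comp.symm)
  · refine Sigma.hom_ext _ _ fun i => ?_
    rw [Sigma.ι_desc_assoc]
    exact ((CxOX.RgammaZToId j).naturality (Sigma.ι E i)).trans (Sigma.ι_map (fun i => (T i).mor₁) i).symm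

end Groth.Agent.S7280
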