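import Groth.Statements.S7284
import Groth.Agent.Deligne.Points

set_option autoImplicit false
open CategoryTheory CategoryTheory.Limits AlgebraicGeometry Opposite
universe u
open ProEtS

set_option backward.isDefEq.respectTransparency false

namespace Groth.Agent.S7284

/-- For every scheme S the small pro-etale site of S has enough points, that is, it admits a small
conservative family of points (fibre functors valued one universe up, the universe in which
pro-etale sheaves are valued). -/
theorem result (S : Scheme.{u}) :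
    GrothendieckTopology.HasEnoughPoints.{u + 1} (Scheme.ProEt.topology S) := by
  refine Groth.Agent.Deligne.hasEnoughPoints.{u, u + 1} (J := Scheme.ProEt.topology S) (Q := fun U => IsAffine U.left)
    { exists_cover := fun X => ?_, pullback := fun {A B D} f g hA hB hD => ?_, finite := fun U hU R hR => ?_ }
  · let W : X.left.affineOpens → S.ProEt := fun O => Scheme.ProEt.mk (O.1.ι ≫ X.hom)
    let i : ∀ O, W O ⟶ X := fun O => MorphismProperty.Over.homMk O.1.ι rfl
    refine ⟨Sieve.ofArrows W i, ?_, ?_⟩
    · refine Precoverage.generate_mem_toGrothendieck ?_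
      rw [Scheme.ProEt.precoverage, Precoverage.mem_comap_iff, Presieve.map_ofArrows]
      refine Scheme.zariskiPrecoverage_le_propQCPrecoverage _ ?_
      rw [Scheme.ofArrows_mem_precoverage_iff]
      refine ⟨fun x => ?_, fun O => inferInstanceAs (IsOpenImmersion O.1.ι)⟩
      obtain ⟨_, ⟨O, hO, rfl⟩, hx, -⟩ := X.left.isBasis_affineOpens.exists_subset_of_mem_open (Set.mem_univ x) isOpen_univ
      obtain ⟨y, hy⟩ := (Scheme.Opens.range_ι O).ge hx
      exact ⟨⟨O, hO⟩, y, hy⟩
    · intro Y f hf
      obtain ⟨_, a, _, ⟨O⟩, rfl⟩ := hf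
      exact ⟨W O, a, i O, inferInstanceAs (IsAffine O.1), rfl⟩
  · have : IsAffine A.left := hA
    have : IsAffine B.left := hB
    have : IsAffine D.left := hD
    refine ⟨pullback f g, pullback.fst f g, pullback.snd f g, ?_, IsPullback.of_hasPullback f g⟩
    haveI : PreservesLimit (cospan f g) (Scheme.ProEt.forget S ⋙ Over.forget S) := inferInstance
    haveI : IsAffine (pullback ((Scheme.ProEt.forget S ⋙ Over.forget S).map f) ((Scheme.ProEt.forget S ⋙ Over.forget S).map g)) :=
      inferInstanceAs (IsAffine (pullback f.left g.left))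
    exact IsAffine.of_isIso ((IsPullback.of_hasPullback f g).map (Scheme.ProEt.forget S ⋙ Over.forget S)).isoPullback.hom
  · haveI : IsAffine U.left := hU
    haveI : Scheme.proetalePrecoverage.IsStableUnderComposition := inferInstance
    haveI : (Scheme.ProEt.precoverage S).IsStableUnderComposition := by
      unfold Scheme.ProEt.precoverage; infer_instance
    haveI : (Scheme.ProEt.precoverage S).IsStableUnderBaseChange := by
      unfold Scheme.ProEt.precoverage; infer_instance
    haveI : (Scheme.ProEt.precoverage S).HasIsos := by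
      unfold Scheme.ProEt.precoverage; infer_instance
    rw [Scheme.ProEt.topology, Precoverage.mem_toGrothendieck_iff_of_isStableUnderComposition] at hR
    obtain ⟨P, hP, hPR⟩ := hR
    obtain ⟨ι, W, w, rfl⟩ := P.exists_eq_ofArrows
    rw [Scheme.ProEt.precoverage, Precoverage.mem_comap_iff, Presieve.map_ofArrows] at hP
    let E : PreZeroHypercover U.left := ⟨ι, fun i => (W i).left, fun i => (w i).left⟩
    haveI : QuasiCompactCover E := Scheme.presieve₀_mem_qcPrecoverage_iff.mp hP.1
    have hw : ∀ i, WeaklyEtale (w i).left := ((Scheme.ofArrows_mem_precoverage_iff (P := @WeaklyEtale)).mp hP.2).2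
    obtain ⟨n, a, V, hV, huV⟩ := QuasiCompactCover.exists_isAffineOpen_of_isCompact E (U := ⊤) isCompact_univ
    let Z : Fin n → S.ProEt := fun k => Scheme.ProEt.mk ((V k).ι ≫ (W (a k)).hom)
    let g : ∀ k, Z k ⟶ U := fun k => (MorphismProperty.Over.homMk (V k).ι rfl : Z k ⟶ W (a k)) ≫ w (a k)
    haveI hZ : ∀ k, IsAffine (Z k).left := fun k => hV k
    refine ⟨n, Z, g, hZ, fun k => R.downward_closed (hPR _ _ (Presieve.ofArrows.mk (a k))) _, ?_⟩
    refine Precoverage.generate_mem_toGrothendieck ?_
    rw [Scheme.ProEt.precoverage, Precoverage.mem_comap_iff, Presieve.map_ofArrows]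
    let e : ∀ k, (Z k).left ⟶ U.left := fun k => (V k).ι ≫ (w (a k)).left
    have he : ∀ k, WeaklyEtale (e k) := fun k => by
      haveI := hw (a k)
      exact inferInstanceAs (WeaklyEtale ((V k).ι ≫ (w (a k)).left))
    have hs : ∀ x, ∃ k, x ∈ Set.range (e k) := fun x => by
      obtain ⟨k, y, hy, rfl⟩ := Set.mem_iUnion.mp (huV.ge (Set.mem_univ x))
      obtain ⟨z, rfl⟩ := (Scheme.Opens.range_ι (V k)).ge hy
      exact ⟨k, z, Scheme.Hom.comp_apply _ _ z⟩
    let 𝒲 : U.left.Cover (Scheme.precoverage @WeaklyEtale) :=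
      ⟨⟨Fin n, fun k => (Z k).left, e⟩, (Scheme.ofArrows_mem_precoverage_iff (P := @WeaklyEtale)).mpr ⟨hs, he⟩⟩
    haveI : Finite 𝒲.I₀ := inferInstanceAs (Finite (Fin n))
    haveI : ∀ i, AlgebraicGeometry.QuasiCompact (𝒲.f i) := fun k =>
      inferInstanceAs (QuasiCompact (show (Z k).left ⟶ U.left from e k))
    haveI hqc : QuasiCompactCover 𝒲.toPreZeroHypercover := QuasiCompactCover.of_finite
    exact ⟨(Scheme.presieve₀_mem_qcPrecoverage_iff (E := 𝒲.toPreZeroHypercover)).mpr hqc, 𝒲.mem₀⟩

end Groth.Agent.S7284
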