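import Groth.Statements.S7291
import Groth.Agent.HTopVLim.Basic

set_option autoImplicit false
set_option backward.isDefEq.respectTransparency false
set_option backward.isDefEq.respectTransparency.types false
open CategoryTheory CategoryTheory.Limits AlgebraicGeometry Opposite
universe w u
open HTop

namespace Groth.Agent.S7291

/-- Let Y be an affine scheme and let X be the limit (as a scheme) of a cofiltered system of affine
schemes X_i over Y. Then the one-member family X over Y is a standard V covering exactly when, for
every i, the one-member family X_i over Y is a standard V covering. -/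
theorem result {Y : Scheme.{u}} [IsAffine Y]
    {I : Type u} [SmallCategory I] [IsCofiltered I] (D : I ⥤ Over Y) [∀ i, IsAffine (D.obj i).left]
    (c : Cone D) (hc : IsLimit ((Over.forget Y).mapCone c)) :
    HTop.IsStandardV (PreZeroHypercover.singleton.{w} c.pt.hom) ↔
      ∀ i, HTop.IsStandardV (PreZeroHypercover.singleton.{w} (D.obj i).hom) := by
  haveI : IsConnected I := IsCofiltered.isConnected I
  haveI : IsAffine c.pt.left := by
    have hc' : IsLimit ((Over.forget Y).mapCone c) := hc
    haveI : ∀ i, IsAffine ((D ⋙ Over.forget Y).obj i) := fun i => inferInstanceAs (IsAffine (D.obj i).left)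
    exact Scheme.isAffine_of_isLimit _ hc'
  constructor
  · intro h i
    refine ⟨h.isAffine, h.finite_index, fun _ => inferInstanceAs (IsAffine (D.obj i).left), ?_⟩
    intro V _ _ g
    obtain ⟨W, i1, i2, φ, hφ, j, g', hg'⟩ := h.lift V g
    let h' : Spec W ⟶ c.pt.left := g'
    refine ⟨W, i1, i2, φ, hφ, PUnit.unit, (h' ≫ (c.π.app i).left : Spec W ⟶ (D.obj i).left), ?_⟩
    show (h' ≫ (c.π.app i).left) ≫ (D.obj i).hom = _
    rw [Category.assoc]
    erw [Over.w (c.π.app i)]
    exact hg'
  · intro h
    exact ⟨inferInstance, inferInstanceAs (Finite PUnit), fun _ => inferInstanceAs (IsAffine c.pt.left),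
      Groth.Agent.HTopVLim.hasValLift_of_isLimit D c hc fun i => (h i).lift⟩

end Groth.Agent.S7291
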