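import Groth.Statements.S7292
import Groth.Agent.HTopVPh.Cover
import Groth.Agent.HTopVLim.Basic
import Groth.Agent.HTopVLim.Sheaf

set_option autoImplicit false
set_option backward.isDefEq.respectTransparency false
set_option backward.isDefEq.respectTransparency.types false
open CategoryTheory CategoryTheory.Limits AlgebraicGeometry Opposite
universe w u
open HTop

namespace Groth.Agent.S7292

/-- Let f be a morphism of affine schemes from X to Y. The following are equivalent: (1) the one-member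
family given by f is a standard V covering; (2) X (with f) is the limit, as a scheme over Y, of a
cofiltered system of affine schemes X_i over Y such that each one-member family X_i over Y is a ph
covering; (3) the same with each X_i over Y an h covering. -/
theorem result {X Y : Scheme.{u}} [IsAffine X] [IsAffine Y] (f : X ⟶ Y) :
    List.TFAE
      [HTop.IsStandardV (PreZeroHypercover.singleton.{w} f),
       ∃ (I : Type u) (_ : SmallCategory I) (_ : IsCofiltered I) (D : I ⥤ Over Y) (c : Cone D)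
          (_ : IsLimit ((Over.forget Y).mapCone c)) (_ : c.pt ≅ Over.mk f),
          (∀ i, IsAffine (D.obj i).left) ∧ ∀ i, HTop.IsPhCover (PreZeroHypercover.singleton.{w} (D.obj i).hom),
       ∃ (I : Type u) (_ : SmallCategory I) (_ : IsCofiltered I) (D : I ⥤ Over Y) (c : Cone D)
          (_ : IsLimit ((Over.forget Y).mapCone c)) (_ : c.pt ≅ Over.mk f),
          (∀ i, IsAffine (D.obj i).left) ∧ ∀ i, HTop.IsHCover (PreZeroHypercover.singleton.{w} (D.obj i).hom)] := by
  have hstd : ∀ (Z : Over Y), IsAffine Z.left →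
      HTop.IsVCover (PreZeroHypercover.singleton.{w} Z.hom) →
      HTop.IsStandardV (PreZeroHypercover.singleton.{w} Z.hom) := fun Z hZ hv => by
    obtain ⟨G, hG, hGE⟩ := Groth.Agent.HTopV.exists_isStandardV_refining (𝟙 Y) hv
    refine ⟨inferInstance, inferInstanceAs (Finite PUnit), fun _ => hZ, fun V _ _ g => ?_⟩
    obtain ⟨W, i1, i2, φ, hφ, j, g', hg'⟩ := hG.lift V g
    obtain ⟨i, a, ha⟩ := hGE j
    let a' : G.X j ⟶ Z.left := a
    refine ⟨W, i1, i2, φ, hφ, PUnit.unit, (g' ≫ a' : Spec W ⟶ Z.left), ?_⟩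
    show (g' ≫ a') ≫ Z.hom = _
    have ha' : a' ≫ Z.hom = G.f j := ha.trans (Category.comp_id _)
    rw [Category.assoc, ha', hg']
  have back : (∃ (I : Type u) (_ : SmallCategory I) (_ : IsCofiltered I) (D : I ⥤ Over Y) (c : Cone D)
      (_ : IsLimit ((Over.forget Y).mapCone c)) (_ : c.pt ≅ Over.mk f),
        (∀ i, IsAffine (D.obj i).left) ∧ ∀ i, HTop.IsVCover (PreZeroHypercover.singleton.{w} (D.obj i).hom)) →
      HTop.IsStandardV (PreZeroHypercover.singleton.{w} f) := by
    rintro ⟨I, _, _, D, c, hc, e, hD, hV⟩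
    haveI := hD
    haveI : IsAffine c.pt.left := by
      haveI : ∀ i, IsAffine ((D ⋙ Over.forget Y).obj i) := hD
      exact Scheme.isAffine_of_isLimit _ hc
    have hl := Groth.Agent.HTopVLim.hasValLift_of_isLimit D c hc fun i => (hstd _ (hD i) (hV i)).lift
    refine ⟨inferInstance, inferInstanceAs (Finite PUnit), fun _ => ‹IsAffine X›, fun V _ _ g => ?_⟩
    obtain ⟨W, i1, i2, φ, hφ, j, g', hg'⟩ := hl V g
    let h' : Spec W ⟶ c.pt.left := g'
    refine ⟨W, i1, i2, φ, hφ, PUnit.unit, (h' ≫ e.hom.left : Spec W ⟶ X), ?_⟩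
    show (h' ≫ e.hom.left) ≫ f = _
    rw [Category.assoc]
    erw [Over.w e.hom]
    exact hg'
  have forth : HTop.IsStandardV (PreZeroHypercover.singleton.{w} f) →
      ∃ (I : Type u) (_ : SmallCategory I) (_ : IsCofiltered I) (D : I ⥤ Over Y) (c : Cone D)
      (_ : IsLimit ((Over.forget Y).mapCone c)) (_ : c.pt ≅ Over.mk f),
        (∀ i, IsAffine (D.obj i).left) ∧
          ∀ i, HTop.IsHCover (PreZeroHypercover.singleton.{w} (D.obj i).hom) := fun h => by
    obtain ⟨I, _, _, D, c, hc, e, hD, hF⟩ := Groth.Agent.HTopVLim.exists_fp_limit f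
    refine ⟨I, inferInstance, inferInstance, D, c, hc, e, hD, fun i =>
      ⟨fun _ => hF i, Groth.Agent.HTopV.isVCover_of_isStandardV ?_⟩⟩
    refine ⟨inferInstance, inferInstanceAs (Finite PUnit), fun _ => hD i, fun V _ _ g => ?_⟩
    obtain ⟨W, i1, i2, φ, hφ, j, g', hg'⟩ := h.lift V g
    let h' : Spec W ⟶ X := g'
    refine ⟨W, i1, i2, φ, hφ, PUnit.unit,
      (h' ≫ (e.inv ≫ c.π.app i).left : Spec W ⟶ (D.obj i).left), ?_⟩
    show (h' ≫ (e.inv ≫ c.π.app i).left) ≫ (D.obj i).hom = _
    rw [Category.assoc]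
    erw [Over.w (e.inv ≫ c.π.app i)]
    exact hg'
  tfae_have 1 → 2 := fun h => by
    obtain ⟨I, _, _, D, c, hc, e, hD, hH⟩ := forth h
    exact ⟨I, inferInstance, inferInstance, D, c, hc, e, hD, fun i =>
      Groth.Agent.HTopVPh.isPhCover_of_isVCover (hH i).1 (hH i).2⟩
  tfae_have 1 → 3 := forth
  tfae_have 2 → 1 := fun ⟨I, i1, i2, D, c, hc, e, hD, hH⟩ =>
    back ⟨I, i1, i2, D, c, hc, e, hD, fun i => Groth.Agent.HTopVPh.isVCover_of_isPhCover (hH i)⟩
  tfae_have 3 → 1 := fun ⟨I, i1, i2, D, c, hc, e, hD, hH⟩ =>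
    back ⟨I, i1, i2, D, c, hc, e, hD, fun i => (hH i).2⟩
  tfae_finish

end Groth.Agent.S7292
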