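import Groth.Statements.S7299
import Groth.Agent.RatBlow.Sections
import Groth.Agent.RatBlow.Base
import Groth.Agent.S7297

set_option autoImplicit false
universe u
open CategoryTheory CategoryTheory.Limits AlgebraicGeometry
open Resolve

namespace Groth.Agent.S7299

/-- Let (A, m) be a local normal Nagata domain of dimension two defining a rational singularity, f : X →
Spec A a proper morphism from an integral normal scheme which is an isomorphism over some nonempty
open, and suppose the closed fibre, with ideal sheaf I = m O_X, is an effective Cartier divisor.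
Then for every n ≥ 0, H^1(X, I^n) = 0 and H^0(X, I^n) = m^n: an element of A, viewed as a global
function on X, lies in I^n on every affine open if and only if it belongs to m^n. -/
theorem result (A : Type u) [CommRing A] [IsDomain A] [IsLocalRing A] [IsNoetherianRing A]
    [IsIntegrallyClosed A] (hN : CAlg.IsNagata A) (hdim : ringKrullDim A = 2) (hA : Curv2.IsRationalSing A)
    (X : Scheme.{u}) (f : X ⟶ Spec (CommRingCat.of A)) [IsProper f] [IsIntegral X] (hXn : Pi1.IsNormalScheme X)
    (hbir : ∃ U : (Spec (CommRingCat.of A)).Opens, (U : Set (Spec (CommRingCat.of A))).Nonempty ∧ IsIso (f ∣_ U))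
    (hE : BlowUp.IsEffCartierIdeal ((Curv2.idealSheaf A (IsLocalRing.maximalIdeal A)).comap f)) (n : ℕ) :
    Subsingleton (Coh.HH X (ClSub.idealMod (((Curv2.idealSheaf A (IsLocalRing.maximalIdeal A)).comap f) ^ n)) 1) ∧
      ∀ a : A, (∀ U : X.affineOpens,
          Coh.resTop X (Opposite.op U.1) (Coh.toGlobal f a) ∈ (((Curv2.idealSheaf A (IsLocalRing.maximalIdeal A)).comap f) ^ n).ideal U) ↔
        a ∈ IsLocalRing.maximalIdeal A ^ n := by
  letI : X.Over (Spec (CommRingCat.of A)) := ⟨f⟩
  have hv : ∀ M : X.Modules, Coh.IsCoh M → Subsingleton (Coh.HH X M 2) := fun M hM =>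
    Groth.Agent.S7297.result A hN hdim hA X f hXn hbir M hM.1 2 le_rfl
  have hO : Subsingleton (Coh.HH X (Coh.structureModule X) 1) := hA X f inferInstance inferInstance hXn hbir
  obtain ⟨r, a, ha⟩ := Submodule.fg_iff_exists_fin_generating_family.1
    (IsNoetherian.noetherian (IsLocalRing.maximalIdeal A))
  obtain ⟨s, hs, hgen⟩ := Groth.Agent.RatBlow.exists_gen hE a ha
  refine ⟨Groth.Agent.RatBlow.h1_idealMod hE hv hO s hgen n, fun b => ⟨fun h => ?_, fun h U => ?_⟩⟩
  · obtain ⟨σ, hσ⟩ := Groth.Agent.RatBlow.exists_μ hE n (Groth.Agent.RatBlow.el f ⊤ b) fun U => by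
      rw [Groth.Agent.RatBlow.el_res]
      exact h U
    exact Groth.Agent.RatBlow.mem_pow_of_μ hE hv hO s hgen a (fun j => ha ▸ Ideal.subset_span ⟨j, rfl⟩) hs
      (Groth.Agent.RatBlow.el_top_bijective f hbir)
      (fun c hc => Groth.Agent.RatBlow.mem_of_range f
        (Groth.Agent.RatBlow.exists_over f hbir (IsLocalRing.closedPoint A)) c hc) n σ b hσ
  · rw [Groth.Agent.RatBlow.resTop_eq, Groth.Agent.RatBlow.pow_ideal]
    exact Ideal.mem_map_of_mem _ h

end Groth.Agent.S7299
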