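import Groth.Statements.S7301
import Groth.Agent.RatLocal.Local
import Groth.Agent.RatLocal.BaseChange
import Groth.Agent.S7304
import Groth.Agent.AdicBasics.Dimension

set_option autoImplicit false
universe u
open CategoryTheory CategoryTheory.Limits AlgebraicGeometry
open Resolve

set_option backward.isDefEq.respectTransparency false
set_option backward.isDefEq.respectTransparency.types false

namespace Groth.Agent.S7301

/-- Let (A, m) be a Nagata local normal domain of dimension two which defines a rational singularity,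
and assume the m-adic completion of A is a normal domain. Then the completion defines a rational
singularity as well. -/
theorem result (A : Type u) [CommRing A] [IsDomain A] [IsLocalRing A] [IsNoetherianRing A]
    [IsIntegrallyClosed A] (hN : CAlg.IsNagata A) (hdim : ringKrullDim A = 2) (hA : Curv2.IsRationalSing A)
    [IsDomain (Curv2.cpl A)] [IsIntegrallyClosed (Curv2.cpl A)] : Curv2.IsRationalSing (Curv2.cpl A) := by
  classical
  intro W w hw hWi hWn hWb
  haveI := hw
  haveI := hWi
  let C := Curv2.cpl A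
  let S := Spec (CommRingCat.of A)
  let S' := Spec (CommRingCat.of C)
  let σ : S' ⟶ S := Spec.map (CommRingCat.ofHom (algebraMap A C))
  have hC : ringKrullDim C = 2 := (AdicBasics.ringKrullDim_completion (A := A)).trans hdim
  have hinj : Function.Injective (algebraMap A C) := by
    intro u v h
    exact AdicCompletion.of_injective (IsLocalRing.maximalIdeal A) A h
  haveI : AlgebraicGeometry.IsNoetherian S' := inferInstance
  haveI : IsIntegral S' := inferInstance
  have hSn : Pi1.IsNormalScheme S' := fun s => RatBlow.isNormal_spec (A := C) s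
  obtain ⟨U₀, hU₀, hU₀i⟩ := hWb
  obtain ⟨-, hcl⟩ := PtBlow.compl_isoLocus w hSn
    (le_of_eq ((PrimeSpectrum.topologicalKrullDim_eq_ringKrullDim C).trans hC)) ⟨U₀, hU₀, hU₀i⟩
  let P : S'.Opens := FEt.puncturedSpec C
  have hPle : P ≤ PtBlow.isoLocus w := fun s hs => by
    by_contra h
    refine hs ?_
    obtain ⟨hsc, -⟩ := hcl s h
    exact ((IsLocalRing.specializes_closedPoint (R := C) s).mem_closed hsc (Set.mem_singleton s)).symm
  haveI : IsIso (w ∣_ P) := ModLeray1.isIso_restrict_of_le_isoLocus w hPle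
  obtain ⟨J, Z, c, hc, hadm, h, hh⟩ := S1274.result w P (TopologicalSpace.NoetherianSpace.isCompact _)
  obtain ⟨I, X, b, hadmI, hb, e, he⟩ := S7304.result A Z c J hadm hc
  have hηA : genericPoint S ≠ IsLocalRing.closedPoint A := fun hcp => by
    have h1 : genericPoint S = (⟨⊥, Ideal.bot_prime⟩ : PrimeSpectrum A) := genericPoint_eq_bot_of_affine _
    rw [h1] at hcp
    have h2 : IsLocalRing.maximalIdeal A = ⊥ := (congrArg PrimeSpectrum.asIdeal hcp).symm
    rw [ringKrullDim_eq_zero_of_isField (IsLocalRing.isField_iff_maximalIdeal_eq.2 h2)] at hdim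
    exact absurd hdim (by decide)
  have hηI : genericPoint S ∉ I.support := fun hmem => Set.disjoint_left.1 hadmI.2 hmem hηA
  have hI : I ≠ ⊥ := fun e' => hηI (by rw [e', Scheme.IdealSheafData.support_bot]; trivial)
  haveI : IsIntegral X := W7Fib.isIntegral_blowUp hI hb
  haveI : IsProper b := BlowUpExist.isProper_spec b _ hb (hadmI.1 _)
  haveI := BlowUpLib.isIso_restrict hb
  obtain ⟨Y, ν, hν, hYi, hYn, ⟨U, hU, hUi⟩, -⟩ :=
    RatLocal.exists_normal_over hN b ⟨I.support.compl, ⟨_, hηI⟩, inferInstance⟩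
  haveI := hν
  haveI := hYi
  obtain ⟨-, ⟨_, ⟨a, rfl⟩, rfl⟩, haU, haU'⟩ :=
    PrimeSpectrum.isBasis_basic_opens.exists_subset_of_mem_open
      (show genericPoint S ∈ U from ((genericPoint_spec S).mem_open_set_iff U.2).2 (by simpa using hU)) U.2
  have ha : algebraMap A C a ≠ 0 := (map_ne_zero_iff _ hinj).2 fun h0 => by
    subst h0
    exact haU (Submodule.zero_mem _)
  haveI : IsIso ((ν ≫ b) ∣_ PrimeSpectrum.basicOpen a) :=
    ModLeray1.isIso_restrict_of_le_isoLocus (ν ≫ b) (le_trans haU' (PtBlow.le_isoLocus hUi))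
  let YC := Curv2.bcCpl A (ν ≫ b)
  let p : YC ⟶ S' := Curv2.bcCplSnd A (ν ≫ b)
  have hpb : IsPullback (Curv2.bcCplFst A (ν ≫ b)) p (ν ≫ b) σ := IsPullback.of_hasPullback _ _
  haveI : IsIntegral YC := RatLocal.isIntegral_pullback_of_birational (ν ≫ b) a ha hpb
  haveI : IsProper p := MorphismProperty.pullback_snd (P := @IsProper) _ _ inferInstance
  let t : YC ⟶ Curv2.bcCpl A b := pullback.lift (Curv2.bcCplFst A (ν ≫ b) ≫ ν) p (by
    rw [Category.assoc]; exact pullback.condition)
  let q : YC ⟶ W := t ≫ e.inv ≫ h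
  have hq : q ≫ w = p := by
    simp only [q, t, Category.assoc, hh, ← he, Iso.inv_hom_id_assoc]
    exact pullback.lift_snd _ _ _
  haveI : IsProper q := by
    haveI : IsProper (q ≫ w) := by rw [hq]; infer_instance
    exact IsProper.of_comp q w
  let Q : S'.Opens := σ ⁻¹ᵁ PrimeSpectrum.basicOpen a ⊓ P
  have hp1 : IsIso (p ∣_ σ ⁻¹ᵁ PrimeSpectrum.basicOpen a) := by
    have hA := (isPullback_morphismRestrict p (σ ⁻¹ᵁ PrimeSpectrum.basicOpen a)).flip
    have hB := hA.paste_horiz hpb
    rw [← morphismRestrict_ι σ (PrimeSpectrum.basicOpen a)] at hB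
    have hD := IsPullback.of_right' hB (isPullback_morphismRestrict (ν ≫ b) (PrimeSpectrum.basicOpen a)).flip
    exact MorphismProperty.of_isPullback (P := MorphismProperty.isomorphisms Scheme.{u}) hD ‹IsIso ((ν ≫ b) ∣_ _)›
  have hQp : IsIso (p ∣_ Q) :=
    ModLeray1.isIso_restrict_of_le_isoLocus p (inf_le_left.trans (PtBlow.le_isoLocus hp1))
  have hQw : IsIso (w ∣_ Q) := ModLeray1.isIso_restrict_of_le_isoLocus w (inf_le_right.trans hPle)
  haveI hqi := PtBlow.isIso_restrict_left hq Q hQp hQw
  have hQ : (Q : Set S').Nonempty := by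
    refine ⟨(⟨⊥, Ideal.bot_prime⟩ : PrimeSpectrum C), fun h0 => ha (Ideal.mem_bot.1 h0), fun hcp => ?_⟩
    have h2 : IsLocalRing.maximalIdeal C = ⊥ := (congrArg PrimeSpectrum.asIdeal hcp).symm
    rw [ringKrullDim_eq_zero_of_isField (IsLocalRing.isField_iff_maximalIdeal_eq.2 h2)] at hC
    exact absurd hC (by decide)
  refine PtBlow.subsingleton_h1_of_dominated q
    (PtBlow.bijective_app_of_birational q hWn (w ⁻¹ᵁ Q) (PtBlow.nonempty_preimage hQ hQw)) ?_
  letI : Y.Over (Spec (CommRingCat.of A)) := ⟨ν ≫ b⟩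
  letI : YC.Over (Spec (CommRingCat.of C)) := ⟨p⟩
  haveI : CompactSpace Y := QuasiCompact.compactSpace_of_compactSpace (ν ≫ b)
  haveI : IsLocallyNoetherian Y := LocallyOfFiniteType.isLocallyNoetherian (ν ≫ b)
  haveI : QuasiSeparatedSpace Y := inferInstance
  haveI h1 : Subsingleton (Coh.HH Y (Coh.structureModule Y) 1) := hA Y (ν ≫ b) hν hYi hYn ⟨U, hU, hUi⟩
  obtain ⟨E⟩ := W7FlatBC.nonempty_hh_baseChange A C (Curv2.bcCplFst A (ν ≫ b)) hpb
    (Coh.structureModule Y) (StMod.isQCoh_structureModule _) 1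
  refine CohQC.hh_subsingleton_of_iso (FreeLite.pullUnitIso (Curv2.bcCplFst A (ν ≫ b))) 1 ?_
  haveI : Subsingleton (TensorProduct A C (Coh.HH Y (Coh.structureModule Y) 1)) := by
    refine subsingleton_of_forall_eq 0 fun z => ?_
    induction z using TensorProduct.induction_on with
    | zero => rfl
    | tmul u v => rw [Subsingleton.elim v 0, TensorProduct.tmul_zero]
    | add u v hu hv => rw [hu, hv, add_zero]
  exact E.toEquiv.symm.subsingleton

end Groth.Agent.S7301
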