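import Groth.Statements.S7302
import Groth.Agent.RatLocal.CplPoint
import Groth.Agent.RatLocal.CplNormalStalk
import Groth.Agent.S7301
import Groth.Agent.S1650
import Groth.Agent.S0568
import Groth.Agent.BlowUpLib.Basic
import Groth.Agent.BlowUpExist.Proper
import Groth.Agent.AdicBasics.Dimension
import Groth.Agent.RigPts.ComplEquiv

set_option autoImplicit false
universe u
open CategoryTheory CategoryTheory.Limits AlgebraicGeometry
open Resolve

set_option backward.isDefEq.respectTransparency false
set_option backward.isDefEq.respectTransparency.types false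

namespace Groth.Agent.S7302

/-- Let (A, m) be a Nagata local normal domain of dimension two which defines a rational singularity and
whose m-adic completion is a normal domain, and let b : X → Spec A be the blowing up in m. Then for
every closed point x of X the completion of the local ring O_{X,x} at its maximal ideal is a normal
domain. -/
theorem result (A : Type u) [CommRing A] [IsDomain A] [IsLocalRing A] [IsNoetherianRing A]
    [IsIntegrallyClosed A] (hN : CAlg.IsNagata A) (hdim : ringKrullDim A = 2) (hA : Curv2.IsRationalSing A)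
    [IsDomain (Curv2.cpl A)] [IsIntegrallyClosed (Curv2.cpl A)]
    (X : Scheme.{u}) (b : X ⟶ Spec (CommRingCat.of A)) (hb : BlowUp.IsBlowUp b (Curv2.idealSheaf A (IsLocalRing.maximalIdeal A)))
    (x : X) (hx : IsClosed ({x} : Set X)) :
    IsDomain (Curv2.cpl (X.presheaf.stalk x)) ∧ IsIntegrallyClosed (Curv2.cpl (X.presheaf.stalk x)) := by
  classical
  let C := Curv2.cpl A
  let S' := Spec (CommRingCat.of C)
  let σ : S' ⟶ Spec (CommRingCat.of A) := Spec.map (CommRingCat.ofHom (algebraMap A C))
  have hfg : (IsLocalRing.maximalIdeal A).FG := IsNoetherian.noetherian _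
  have hm : IsLocalRing.maximalIdeal A ≠ ⊥ := by
    intro e
    rw [ringKrullDim_eq_zero_of_isField (IsLocalRing.isField_iff_maximalIdeal_eq.2 e)] at hdim
    exact absurd hdim (by decide)
  haveI : IsProper b := BlowUpExist.isProper_spec b _ hb (by
    haveI := IsLocallyNoetherian.component_noetherian (X := Spec (CommRingCat.of A)) ⟨⊤, isAffineOpen_top _⟩
    exact IsNoetherian.noetherian _)
  haveI : IsLocallyNoetherian X := LocallyOfFiniteType.isLocallyNoetherian b
  -- the blow-up of the completion
  haveI : Flat σ := by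
    rw [HasRingHomProperty.Spec_iff (P := @Flat)]
    exact RingHom.flat_algebraMap_iff.mpr inferInstance
  have hb' : BlowUp.IsBlowUp (pullback.fst σ b) (Curv2.idealSheaf C (IsLocalRing.maximalIdeal C)) := by
    have h := BlowUpLib.isBlowUp_flat σ hb
    have hc : (Curv2.idealSheaf A (IsLocalRing.maximalIdeal A)).comap σ =
        Curv2.idealSheaf C (IsLocalRing.maximalIdeal C) := by
      refine Scheme.IdealSheafData.ext_of_isAffine ?_
      rw [FpqcDescent.ideal_comap_appLE _ σ ⟨⊤, isAffineOpen_top _⟩ ⟨⊤, isAffineOpen_top _⟩ le_top]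
      have hnat : σ.appLE ⊤ ⊤ le_top = σ.appTop := by simp [Scheme.Hom.appLE, Scheme.Hom.appTop]
      simp only [Curv2.idealSheaf, Scheme.IdealSheafData.ofIdealTop_ideal, Ideal.map_map, hnat]
      have e : (Scheme.ΓSpecIso (CommRingCat.of A)).inv ≫ σ.appTop =
          CommRingCat.ofHom (algebraMap A C) ≫ (Scheme.ΓSpecIso (CommRingCat.of C)).inv :=
        (Scheme.ΓSpecIso_inv_naturality (CommRingCat.ofHom (algebraMap A C))).symm
      rw [show IsLocalRing.maximalIdeal C = (IsLocalRing.maximalIdeal A).map (algebraMap A C) from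
        AdicCompletion.maximalIdeal_eq_map, Ideal.map_map]
      congr 1
      simp only [homOfLE_refl, op_id, CategoryTheory.Functor.map_id, CommRingCat.hom_id, RingHom.id_comp]
      exact congrArg CommRingCat.Hom.hom e
    rwa [hc] at h
  have hC : ringKrullDim C = 2 := (AdicBasics.ringKrullDim_completion (A := A)).trans hdim
  have hNC : CAlg.IsNagata C := S0568.result C
  have hCn : Pi1.IsNormalScheme (pullback σ b) :=
    S1650.result C hNC hC (S7301.result A hN hdim hA) _ _ hb'
  -- the point above `x`
  have hbx : b.base x = IsLocalRing.closedPoint A := by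
    have h := b.isClosedMap _ hx
    rw [Set.image_singleton] at h
    exact ((IsLocalRing.specializes_closedPoint (R := A) (b.base x)).mem_closed h (Set.mem_singleton _)).symm
  have hσc : σ.base (IsLocalRing.closedPoint C) = IsLocalRing.closedPoint A := by
    haveI : IsLocalHom (CommRingCat.ofHom (algebraMap A C)).hom := inferInstanceAs (IsLocalHom (algebraMap A C))
    exact IsLocalRing.comap_closedPoint (CommRingCat.ofHom (algebraMap A C)).hom
  obtain ⟨z, hz, -⟩ := Scheme.Pullback.exists_preimage_pullback (f := b) (g := σ) x (IsLocalRing.closedPoint C)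
    (hbx.trans hσc.symm)
  subst hz
  haveI : LocallyOfFiniteType (Curv2.bcCplSnd A b) := MorphismProperty.pullback_snd (P := @LocallyOfFiniteType) _ _ inferInstance
  haveI : IsLocallyNoetherian (Curv2.bcCpl A b) := LocallyOfFiniteType.isLocallyNoetherian (Curv2.bcCplSnd A b)
  let w := (pullbackSymmetry b σ).hom
  have hzn : IsDomain ((Curv2.bcCpl A b).presheaf.stalk z) ∧ IsIntegrallyClosed ((Curv2.bcCpl A b).presheaf.stalk z) := by
    obtain ⟨h1, h2⟩ := hCn (w z)
    haveI := h1
    haveI := h2
    let e := (asIso (w.stalkMap z)).commRingCatIsoToRingEquiv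
    exact ⟨e.symm.toMulEquiv.isDomain, IsIntegrallyClosed.of_equiv e⟩
  obtain ⟨hd, hc⟩ := RatLocal.cpl_stalk_normal (Curv2.bcCplSnd A b) z hzn
  let ψ := ((Curv2.bcCplFst A b).stalkMap z).hom
  have hle : ∀ n : ℕ, IsLocalRing.maximalIdeal (X.presheaf.stalk ((Curv2.bcCplFst A b).base z)) ^ n ≤
      (IsLocalRing.maximalIdeal ((Curv2.bcCpl A b).presheaf.stalk z) ^ n).comap ψ := fun n => by
    rw [← Ideal.map_le_iff_le_comap, Ideal.map_pow, RatLocal.CplPoint.map_maximalIdeal_eq b hfg z hbx]
  letI : Algebra (X.presheaf.stalk ((Curv2.bcCplFst A b).base z)) ((Curv2.bcCpl A b).presheaf.stalk z) := ψ.toAlgebra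
  obtain ⟨E⟩ := RigPts.adicCompletion_algEquiv (A := X.presheaf.stalk ((Curv2.bcCplFst A b).base z))
    (Algebra.ofId (X.presheaf.stalk ((Curv2.bcCplFst A b).base z)) ((Curv2.bcCpl A b).presheaf.stalk z))
    (IsLocalRing.maximalIdeal _) (IsLocalRing.maximalIdeal ((Curv2.bcCpl A b).presheaf.stalk z)) hle
    (fun n r hr => by
      have h1 := (RatLocal.CplPoint.bijective_quotientMap b hfg z hbx n (hle n)).1
        (a₁ := Ideal.Quotient.mk _ r) (a₂ := 0) (by
          rw [map_zero, Ideal.quotientMap_mk, Ideal.Quotient.eq_zero_iff_mem]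
          exact hr)
      exact Ideal.Quotient.eq_zero_iff_mem.1 h1)
    (fun n d => by
      obtain ⟨r, hr⟩ := RatLocal.CplPoint.exists_sub_mem_pow b hfg z hbx n d
      refine ⟨r, ?_⟩
      rw [Ideal.map_pow, RatLocal.CplPoint.map_maximalIdeal_eq b hfg z hbx] at hr
      have h2 := neg_mem hr
      rwa [neg_sub] at h2)
  haveI := hd
  haveI := hc
  exact ⟨E.toRingEquiv.toMulEquiv.isDomain, IsIntegrallyClosed.of_equiv E.symm.toRingEquiv⟩

end Groth.Agent.S7302
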