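import Groth.Statements.S7309
import Groth.Agent.Castel.Stein

set_option autoImplicit false
universe u
open CategoryTheory CategoryTheory.Limits AlgebraicGeometry
open Resolve

set_option backward.isDefEq.respectTransparency false
set_option backward.isDefEq.respectTransparency.types false

namespace Groth.Agent.S7309

/-- Let X be a Noetherian scheme, ι : E → X a closed immersion which is an exceptional curve of the
first kind, and f : X → Y a proper morphism to a Noetherian scheme which sends all of E to one point
y and whose restriction to the open complement of E is locally quasi-finite. Then E can be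
contracted: there is a contraction b : X → X' of E through which f factors as b followed by a finite
morphism X' → Y, with O_{X'} → b_* O_X an isomorphism (so b is the first factor of the Stein
factorization of f). -/
theorem result {E X Y : Scheme.{u}} [IsNoetherian X] [IsNoetherian Y]
    (ι : E ⟶ X) [IsClosedImmersion ι] (hE : Models.IsExcCurve ι) (f : X ⟶ Y) [IsProper f]
    (y : Y) (hy : Set.range ((ι ≫ f).base : E → Y) = {y})
    (hqf : LocallyQuasiFinite (Scheme.Opens.ι (X := X) ι.ker.support.compl ≫ f)) :
    ∃ (X' : Scheme.{u}) (b : X ⟶ X') (g : X' ⟶ Y), Models.IsContractionOf ι b ∧ b ≫ g = f ∧ IsFinite g ∧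
      IsIso (ClSub.unitToPush b) := by
  exact Groth.Agent.Castel.exists_contraction ι hE f y hy hqf

end Groth.Agent.S7309
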