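import Groth.Statements.S7320
import Groth.Agent.PtBlow.Dominate

set_option autoImplicit false
universe u
open CategoryTheory CategoryTheory.Limits AlgebraicGeometry
open Resolve

set_option backward.isDefEq.respectTransparency false
set_option backward.isDefEq.respectTransparency.types false

namespace Groth.Agent.S7320

/-- Let X be a Noetherian scheme, T ⊂ X a finite set of closed points x with O_{X,x} regular of
dimension two, and f : Y → X a proper morphism which is an isomorphism over U = X ∖ T. Then there
exist a morphism g : X' → X which is a finite composite of blowings up at closed points with regular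
two-dimensional local rings (contractions of exceptional curves of the first kind) and an
isomorphism over U, and a factorization of g through f. -/
theorem result (X : Scheme.{u}) [IsNoetherian X] (T : Set X) (hTf : T.Finite)
    (hTc : IsClosed T) (hT : ∀ x ∈ T, IsClosed ({x} : Set X) ∧ IsRegularLocalRing (X.presheaf.stalk x) ∧ ringKrullDim (X.presheaf.stalk x) = 2)
    {Y : Scheme.{u}} (f : Y ⟶ X) [IsProper f] (hf : IsIso (f ∣_ (⟨Tᶜ, hTc.isOpen_compl⟩ : X.Opens))) :
    ∃ (X' : Scheme.{u}) (g : X' ⟶ X), Models.IsContractionSeq g ∧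
      IsIso (g ∣_ (⟨Tᶜ, hTc.isOpen_compl⟩ : X.Opens)) ∧ ∃ h : X' ⟶ Y, h ≫ f = g := by
  haveI := hf
  obtain ⟨X', g, h, hg, hiso, hh⟩ := PtBlow.exists_dominating (⟨Tᶜ, hTc.isOpen_compl⟩ : X.Opens)
    (by show (Tᶜᶜ).Finite; rw [compl_compl]; exact hTf)
    (fun x hx => have hx' : x ∈ T := not_not.1 hx
      ⟨(hT x hx').1, (hT x hx').2.1, (hT x hx').2.2⟩) f
  exact ⟨X', g, hg.isContractionSeq, hiso, h, hh⟩

end Groth.Agent.S7320
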