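import Groth.Statements.S7323
import Groth.Agent.PtBlow.Contraction

set_option autoImplicit false
universe u
open CategoryTheory CategoryTheory.Limits AlgebraicGeometry
open Resolve

set_option backward.isDefEq.respectTransparency false
set_option backward.isDefEq.respectTransparency.types false

namespace Groth.Agent.S7323

/-- Let (A, m, κ) be a regular local ring of dimension two and b : X → Spec A the blowing up in m, with
exceptional divisor E ⊂ X and its ideal sheaf I_E = O_X(-E). Then there is a closed immersion r : X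
→ P^1_A over Spec A such that O_X(E) = r^* O(-1), i.e. r^* O(1) ≅ I_E; and E is an exceptional curve
of the first kind: an effective Cartier divisor isomorphic to a projective line over a field, with
conormal sheaf pulling back to O(1). (The published statement identifies E with P^1_κ through r
itself; this row only asserts that some field and some isomorphism with a projective line exist.) -/
theorem result (A : Type u) [CommRing A] [IsRegularLocalRing A] (hA : ringKrullDim A = 2)
    (X : Scheme.{u}) (b : X ⟶ Spec (CommRingCat.of A)) (hb : BlowUp.IsBlowUp b (Curv2.idealSheaf A (IsLocalRing.maximalIdeal A))) :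
    (∃ r : X ⟶ CohB1.ProjSpace 1 A, IsClosedImmersion r ∧ r ≫ CohB1.ProjSpace.toSpec 1 A = b ∧
      Nonempty ((Scheme.Modules.pullback r).obj (Twist.twistProjSpace 1 A 1) ≅
        ClSub.idealMod (BlowUp.exceptional b (Curv2.idealSheaf A (IsLocalRing.maximalIdeal A))))) ∧
    Models.IsExcCurve (BlowUp.exceptional b (Curv2.idealSheaf A (IsLocalRing.maximalIdeal A))).subschemeι := by
  let m := IsLocalRing.maximalIdeal A
  haveI := Groth.Agent.RegLoc.isDomain A
  letI : Field (A ⧸ m) := Ideal.Quotient.field m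
  let eL : A ≃ₐ[A] Localization.AtPrime m := IsLocalization.atUnits A m.primeCompl
    (fun a ha => IsLocalRing.notMem_maximalIdeal.1 ha)
  obtain ⟨d, w, hw, hwd⟩ := Groth.Agent.RegLoc.exists_rsop (A := A)
  obtain rfl : d = 2 := by exact_mod_cast hwd.symm.trans hA
  have hG : Groth.Agent.PtBlow.Good m (w 0) (w 1) := by
    refine Groth.Agent.PtBlow.good_of_regular (IsRegularLocalRing.of_ringEquiv eL.toRingEquiv)
      ((ringKrullDim_eq_of_ringEquiv eL.toRingEquiv).symm.trans hA) ?_
    show IsLocalRing.maximalIdeal A = _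
    rw [← hw]
    congr 1
    ext z
    simp [Fin.exists_fin_two, eq_comm]
  obtain ⟨c, r, hc, hr, hrS, hcS, hck, ⟨θ⟩, ⟨τ⟩⟩ :=
    Groth.Agent.PtBlow.exists_line (Ideal.Quotient.mk m) hG (IsLocalRing.maximalIdeal.isMaximal A).ne_top
      Ideal.Quotient.mk_surjective Ideal.mk_ker
  have h0 := Groth.Agent.BlowUpExist.isBlowUp_affine m
  obtain ⟨kk, hk, -⟩ := h0.2 _ b hb.1
  obtain ⟨l, hl, -⟩ := hb.2 _ (Groth.Agent.BlowUpExist.structMap m) h0.1
  haveI : IsIso kk := ⟨l, (hb.2 _ _ hb.1).unique (by rw [Category.assoc, hl, hk]) (Category.id_comp _),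
    (h0.2 _ _ h0.1).unique (by rw [Category.assoc, hk, hl]) (Category.id_comp _)⟩
  let E₀ := (Groth.Agent.BlowUpExist.sheafOf m).comap (Groth.Agent.BlowUpExist.structMap m)
  let E := BlowUp.exceptional b (Curv2.idealSheaf A m)
  have hEk : E₀.comap kk = E := by
    show (Scheme.IdealSheafData.comap _ _).comap kk = _
    rw [← Scheme.IdealSheafData.comap_comp, hk]
    rfl
  obtain ⟨θ'⟩ := Groth.Agent.Nakai.nonempty_pullback_idealMod kk h0.1 (hEk.symm ▸ hb.1)
  haveI : IsClosedImmersion r := hr
  haveI : IsClosedImmersion c := hc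
  refine ⟨⟨kk ≫ r, inferInstance, by rw [Category.assoc, hrS, hk], ⟨?_⟩⟩, ?_⟩
  · exact ((Scheme.Modules.pullbackComp kk r).app _).symm ≪≫ (Scheme.Modules.pullback kk).mapIso θ ≪≫ θ' ≪≫
      eqToIso (congrArg ClSub.idealMod hEk)
  let ι : CohB1.ProjSpace 1 (A ⧸ m) ⟶ X := c ≫ inv kk
  have hker : ι.ker = E := by
    have hP : IsPullback (𝟙 _) ι c kk := IsPullback.of_horiz_isIso ⟨by simp [ι]⟩
    rw [Groth.Agent.AlmostBlow.ker_of_isPullback hP, hck]
    exact hEk
  have hι : IsIso ι.toImage := inferInstance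
  obtain ⟨e, he⟩ : ∃ e : CohB1.ProjSpace 1 (A ⧸ m) ≅ E.subscheme, e.hom ≫ E.subschemeι = ι := by
    have key : ∀ J : X.IdealSheafData, ι.ker = J →
        ∃ e : CohB1.ProjSpace 1 (A ⧸ m) ≅ J.subscheme, e.hom ≫ J.subschemeι = ι := by
      rintro _ rfl
      exact ⟨asIso ι.toImage, ι.toImage_imageι⟩
    exact key E hker
  refine ⟨by rw [Scheme.IdealSheafData.ker_subschemeι]; exact hb.1, A ⧸ m, inferInstance, e, ?_⟩
  have hsup : ClSub.idealMod (BlowUp.exceptional b (Curv2.idealSheaf A m)).subschemeι.ker = ClSub.idealMod E := by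
    rw [Scheme.IdealSheafData.ker_subschemeι]
  obtain ⟨θ''⟩ := Groth.Agent.Nakai.nonempty_pullback_idealMod (inv kk) (I := E) hb.1 (by
    show BlowUp.IsEffCartierIdeal (E.comap (inv kk))
    rw [← hEk, ← Scheme.IdealSheafData.comap_comp, IsIso.inv_hom_id, Scheme.IdealSheafData.comap_id]
    exact h0.1)
  have hEinv : E.comap (inv kk) = E₀ := by
    rw [← hEk, ← Scheme.IdealSheafData.comap_comp, IsIso.inv_hom_id, Scheme.IdealSheafData.comap_id]
  refine ⟨?_⟩
  exact (Scheme.Modules.pullbackCongr he).app _ ≪≫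
    (Scheme.Modules.pullback ι).mapIso (eqToIso hsup) ≪≫
    ((Scheme.Modules.pullbackComp c (inv kk)).app _).symm ≪≫
    (Scheme.Modules.pullback c).mapIso (θ'' ≪≫ eqToIso (congrArg ClSub.idealMod hEinv)) ≪≫ τ

end Groth.Agent.S7323
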