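import Groth.Statements.S7324
import Groth.Agent.PlaneBlow.BlowRank
import Groth.Agent.PicInf.JacTangent
import Groth.Agent.Castel.PicModel

set_option autoImplicit false
set_option linter.style.haveILetI false
set_option backward.isDefEq.respectTransparency false
set_option backward.isDefEq.respectTransparency.types false
universe u
open CategoryTheory CategoryTheory.Limits AlgebraicGeometry
open Resolve

namespace Groth.Agent.S7324

/-- Let (A, m) be a regular local ring of dimension two and b : X → Spec A the blowing up in m, with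
exceptional divisor E, ideal sheaf I = O_X(-E), and M = O_X(E) an inverse of I for the tensor
product. Then Pic(X) = Z generated by O_X(E): every invertible O_X-module is isomorphic to I^{⊗ n}
or to M^{⊗ n} for some n ≥ 0, and I^{⊗ n} is not isomorphic to O_X for n ≥ 1. -/
theorem result (A : Type u) [CommRing A] [IsRegularLocalRing A] (hA : ringKrullDim A = 2)
    (X : Scheme.{u}) (b : X ⟶ Spec (CommRingCat.of A)) (hb : BlowUp.IsBlowUp b (Curv2.idealSheaf A (IsLocalRing.maximalIdeal A)))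
    (M : X.Modules) (hM : ClSub.IsInverseOf M (ClSub.idealMod (BlowUp.exceptional b (Curv2.idealSheaf A (IsLocalRing.maximalIdeal A))))) :
    (∀ L : X.Modules, PicF.IsInvertible L → ∃ n : ℕ,
      Nonempty (L ≅ CohB1.tensorPow (ClSub.idealMod (BlowUp.exceptional b (Curv2.idealSheaf A (IsLocalRing.maximalIdeal A)))) n) ∨
        Nonempty (L ≅ CohB1.tensorPow M n)) ∧
    ∀ n : ℕ, 1 ≤ n →
      IsEmpty (CohB1.tensorPow (ClSub.idealMod (BlowUp.exceptional b (Curv2.idealSheaf A (IsLocalRing.maximalIdeal A)))) n ≅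
        Coh.structureModule X) := by
  haveI : IsNoetherianRing A := inferInstance
  let x : Spec (CommRingCat.of A) := IsLocalRing.closedPoint A
  have hx : IsClosed ({x} : Set (Spec (CommRingCat.of A))) := IsLocalRing.isClosed_singleton_closedPoint A
  let eA := (Scheme.ΓSpecIso (CommRingCat.of A)).symm.commRingCatIsoToRingEquiv
  have hvan : Curv2.idealSheaf A (IsLocalRing.maximalIdeal A) = Scheme.IdealSheafData.vanishingIdeal ⟨{x}, hx⟩ := by
    haveI : ((IsLocalRing.maximalIdeal A).map (Scheme.ΓSpecIso (CommRingCat.of A)).inv.hom).IsMaximal :=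
      Ideal.map_isMaximal_of_equiv eA
    have hle : Curv2.idealSheaf A (IsLocalRing.maximalIdeal A) ≤ Scheme.IdealSheafData.vanishingIdeal ⟨{x}, hx⟩ := by
      refine Scheme.IdealSheafData.le_support_iff_le_vanishingIdeal.1 ?_
      intro z hz
      obtain rfl : z = x := hz
      show x ∈ ((Curv2.idealSheaf A (IsLocalRing.maximalIdeal A)).support : TopologicalSpace.Closeds (Spec (CommRingCat.of A)))
      rw [← SetLike.mem_coe, Curv2.idealSheaf]
      rw [Scheme.IdealSheafData.coe_support_ofIdealTop, Spec_zeroLocus, PrimeSpectrum.mem_zeroLocus]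
      rintro f hf
      have h : (Scheme.ΓSpecIso (CommRingCat.of A)).inv.hom f ∈
          (IsLocalRing.maximalIdeal A).map (Scheme.ΓSpecIso (CommRingCat.of A)).inv.hom := hf
      obtain ⟨g, hg, hgf⟩ := (Ideal.mem_map_iff_of_surjective _ eA.surjective).1 h
      exact (eA.injective hgf : g = f) ▸ hg
    refine Scheme.IdealSheafData.ext_of_isAffine ?_
    have h2 := hle ⟨⊤, isAffineOpen_top _⟩
    have h5 := Scheme.IdealSheafData.equivOfIsAffine.apply_symm_apply
      ((IsLocalRing.maximalIdeal A).map (Scheme.ΓSpecIso (CommRingCat.of A)).inv.hom)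
    rw [Scheme.IdealSheafData.equivOfIsAffine_symm_apply, Scheme.IdealSheafData.equivOfIsAffine_apply] at h5
    rw [Curv2.idealSheaf, h5] at h2 ⊢
    refine Ideal.IsMaximal.eq_of_le inferInstance (fun htop => ?_) h2
    have h3 : Scheme.IdealSheafData.vanishingIdeal (X := Spec (CommRingCat.of A)) ⟨{x}, hx⟩ = ⊤ :=
      Scheme.IdealSheafData.ext_of_isAffine (by rw [htop]; rfl)
    have h4 := Scheme.IdealSheafData.coe_support_vanishingIdeal (X := Spec (CommRingCat.of A)) (Z := ⟨{x}, hx⟩)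
    rw [h3, Scheme.IdealSheafData.support_top] at h4
    exact (h4.ge (rfl : x ∈ ({x} : Set _))).elim
  haveI : IsNoetherian (Spec (CommRingCat.of A)) := inferInstance
  have hpt : Groth.Agent.PtBlow.IsRegPt (Spec (CommRingCat.of A)) x := by
    letI : Algebra A ((Spec (CommRingCat.of A)).presheaf.stalk (IsLocalRing.closedPoint A)) :=
      (StructureSheaf.toStalk A (IsLocalRing.closedPoint A)).hom.toAlgebra
    haveI : IsLocalization.AtPrime ((Spec (CommRingCat.of A)).presheaf.stalk (IsLocalRing.closedPoint A))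
        (IsLocalRing.maximalIdeal A) := StructureSheaf.IsLocalization.to_stalk A (IsLocalRing.closedPoint A)
    let e := (IsLocalization.atUnits A (IsLocalRing.maximalIdeal A).primeCompl
      (S := (Spec (CommRingCat.of A)).presheaf.stalk (IsLocalRing.closedPoint A))
      (fun a ha => IsLocalRing.notMem_maximalIdeal.1 ha)).toRingEquiv
    exact ⟨hx, IsRegularLocalRing.of_ringEquiv e, (ringKrullDim_eq_of_ringEquiv e).symm.trans hA⟩
  have hb' : BlowUp.IsBlowUp b (Groth.Agent.PtBlow.pt hpt) := by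
    have h := hb
    rw [hvan] at h
    exact h
  obtain ⟨k', _, ι, hι, hexc, -, hker, hrange, -⟩ := Groth.Agent.PtBlow.exists_contraction'' hpt hb'
  haveI := hι
  obtain ⟨hI, k₁, _, e', ⟨c⟩⟩ := hexc
  let ι₀ := e'.hom ≫ ι
  have hker0 : ι₀.ker = ι.ker := Scheme.Hom.ker_comp_of_isIso e'.hom ι
  have hEx : BlowUp.exceptional b (Curv2.idealSheaf A (IsLocalRing.maximalIdeal A)) = ι.ker := by
    rw [hker, BlowUp.exceptional, hvan]
  rw [hEx] at hM ⊢
  have hE : PicF.IsInvertible (ClSub.idealMod ι.ker) := (Groth.Agent.S8914.result _).2 hI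
  letI := Groth.Agent.W7Cube.law (Y := X)
  letI := Groth.Agent.W7Cube.law (Y := CohB1.ProjSpace 1 k₁)
  obtain ⟨hMi, hMc⟩ := Groth.Agent.Castel.cls_inverse hI hM
  rw [Groth.Agent.Castel.clsD_eq hE] at hMc
  let Q := PicGrp.pullHom ι₀ (Groth.Agent.W7Cube.pullMul ι₀)
  have hQE : ∀ a : ℤ, Q (PicGrp.cls _ hE ^ a) = PicGrp.cls _ (Groth.Agent.CohFinite.isInvertible_twist 1 k₁ a) := by
    intro a
    rw [map_zpow, PicGrp.pullHom_cls,
      (PicGrp.cls_eq_cls_iff _ (Groth.Agent.CohFinite.isInvertible_twist 1 k₁ 1)).2 ⟨c⟩]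
    exact Groth.Agent.PlaneBlow.cls_twist_zpow 1 k₁ a
  constructor
  · intro L hL
    obtain ⟨a, ⟨ea⟩⟩ := Groth.Agent.PicPn.exists_iso (k := k₁) (n := 1) le_rfl _ (PicLoc.isInvertible_pullback ι₀ hL)
    obtain ⟨F, hF, hFc⟩ := PicGrp.exists_eq_cls (PicGrp.cls L hL * (PicGrp.cls _ hE ^ a)⁻¹)
    have hFtriv : Nonempty ((Scheme.Modules.pullback ι₀).obj F ≅ Coh.structureModule _) := by
      have h := congrArg Q hFc.symm
      rw [map_mul, map_inv, hQE, PicGrp.pullHom_cls, PicGrp.pullHom_cls,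
        (PicGrp.cls_eq_cls_iff _ (Groth.Agent.CohFinite.isInvertible_twist 1 k₁ a)).2 ⟨ea⟩, mul_inv_cancel] at h
      exact (PicGrp.cls_eq_one_iff _).1 h
    have hfib : b ⁻¹' {x} = Set.range ι₀ := by
      refine hrange.symm.trans (subset_antisymm ?_ ?_)
      · rintro _ ⟨z, rfl⟩
        obtain ⟨w, rfl⟩ := e'.hom.surjective z
        exact ⟨w, rfl⟩
      · rintro _ ⟨z, rfl⟩
        exact ⟨e'.hom z, rfl⟩
    obtain ⟨L', hL', ⟨eL⟩⟩ := Groth.Agent.Castel.exists_descent_blowUp hpt hb' ι₀ hfib (hker0 ▸ hI) (m := 1)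
      (by norm_num) ((Scheme.Modules.pullback ι₀).mapIso (eqToIso (by rw [hker0])) ≪≫ c) hF hFtriv.some
    obtain ⟨t⟩ : Nonempty (L' ≅ Coh.structureModule (Spec (CommRingCat.of A))) :=
      (PicGrp.cl_eq_cl_iff _ _).1 (Groth.Agent.PicInf.Jac.trivialCl_of_local (c := PicF.cl L') ⟨L', rfl, hL'⟩)
    have hF1 : PicGrp.cls F hF = 1 := (PicGrp.cls_eq_one_iff _).2
      ⟨eL.symm ≪≫ (Scheme.Modules.pullback b).mapIso t ≪≫ Groth.Agent.DerPerf.pullUnitIso b⟩
    have hLa : PicGrp.cls L hL = PicGrp.cls _ hE ^ a := by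
      rw [hF1] at hFc
      exact mul_inv_eq_one.1 hFc
    refine ⟨a.natAbs, ?_⟩
    rcases Int.natAbs_eq a with h | h <;> rw [h] at hLa
    · refine Or.inl ((PicGrp.cls_eq_cls_iff hL (TMul.isInvertible_tensorPow hE _)).1 ?_)
      rw [hLa, Groth.Agent.PlaneBlow.cls_pow' hE, zpow_natCast]
    · refine Or.inr ((PicGrp.cls_eq_cls_iff hL (TMul.isInvertible_tensorPow hMi _)).1 ?_)
      rw [hLa, Groth.Agent.PlaneBlow.cls_pow' hMi, hMc, zpow_neg, zpow_natCast, inv_pow]
  · intro n hn
    refine ⟨fun e => ?_⟩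
    have h := (PicGrp.cls_eq_one_iff (TMul.isInvertible_tensorPow hE n)).2 ⟨e⟩
    rw [Groth.Agent.PlaneBlow.cls_pow' hE, ← zpow_natCast] at h
    have h1 := congrArg Q h
    rw [hQE, map_one, PicGrp.cls_eq_one_iff] at h1
    obtain ⟨o⟩ := Groth.Agent.Horrocks.Om_zero (k := k₁) (d := 1)
    obtain ⟨d, -, hd⟩ := Groth.Agent.PicPn.existsUnique_iso (K := k₁) (n := 1) le_rfl _
      (Groth.Agent.CohFinite.isInvertible_twist 1 k₁ (n : ℤ))
    have h2 := hd n ⟨Iso.refl _⟩
    have h3 := hd 0 ⟨h1.some ≪≫ o.symm⟩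
    omega

end Groth.Agent.S7324
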