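import Groth.Statements.S7325
import Groth.Agent.Castel.PicDescent

set_option autoImplicit false
universe u
open CategoryTheory CategoryTheory.Limits AlgebraicGeometry
open Resolve

set_option backward.isDefEq.respectTransparency false
set_option backward.isDefEq.respectTransparency.types false

namespace Groth.Agent.S7325

/-- Let X be a Noetherian scheme, ι : E → X a closed immersion which is an exceptional curve of the
first kind, and b : X → X' a contraction of E. Then pullback along b is injective on isomorphism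
classes of invertible modules, and an invertible O_X-module L is the pullback of some invertible
O_{X'}-module if and only if ι^* L ≅ O_E. (The published statement is a split short exact sequence 0
→ Pic(X') → Pic(X) → Z → 0 whose second map is the degree on E; this row states the injectivity of
the first map and the description of its image, and does not restate the degree map or the
splitting.) -/
theorem result {E X X' : Scheme.{u}} [IsNoetherian X] (ι : E ⟶ X) [IsClosedImmersion ι]
    (hE : Models.IsExcCurve ι) (b : X ⟶ X') (hb : Models.IsContractionOf ι b) :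
    (∀ L₁ L₂ : X'.Modules, PicF.IsInvertible L₁ → PicF.IsInvertible L₂ →
      Nonempty ((Scheme.Modules.pullback b).obj L₁ ≅ (Scheme.Modules.pullback b).obj L₂) → Nonempty (L₁ ≅ L₂)) ∧
    ∀ L : X.Modules, PicF.IsInvertible L →
      ((∃ L' : X'.Modules, PicF.IsInvertible L' ∧ Nonempty ((Scheme.Modules.pullback b).obj L' ≅ L)) ↔
        Nonempty ((Scheme.Modules.pullback ι).obj L ≅ Coh.structureModule E)) := by
  obtain ⟨hY, hp, y, hy, hrange, hreg, hd, hbl⟩ := hb
  haveI := hY
  haveI := hp
  have hP : Groth.Agent.PtBlow.IsRegPt X' y := ⟨hy, hreg, hd⟩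
  refine ⟨fun L₁ L₂ h₁ h₂ ⟨e⟩ => Groth.Agent.Castel.nonempty_iso_of_pullback b
    (Groth.Agent.Castel.bijective_app_contract hP hbl) h₁ h₂ e, fun L hL => ⟨?_, ?_⟩⟩
  · rintro ⟨L', hL', ⟨q⟩⟩
    obtain ⟨t⟩ := Groth.Agent.Castel.nonempty_pullback_point (ι ≫ b) y
      (fun e => hrange.le ⟨e, rfl⟩) hL'
    exact ⟨(Scheme.Modules.pullback ι).mapIso q.symm ≪≫ (Scheme.Modules.pullbackComp ι b).app L' ≪≫ t⟩
  · rintro ⟨q⟩
    obtain ⟨hI, k, _, e, ⟨c⟩⟩ := hE
    obtain ⟨k', _, ι', hι', -, -, -, hfib, -⟩ := Groth.Agent.PtBlow.exists_contraction'' (x := y) hP hbl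
    haveI := hι'
    let ι₀ := e.hom ≫ ι
    have hker : ι₀.ker = ι.ker := Scheme.Hom.ker_comp_of_isIso e.hom ι
    have hsub : Set.range ι₀ ⊆ Set.range ι' := by
      rintro _ ⟨z, rfl⟩
      rw [hfib]
      exact hrange.le ⟨e.hom z, rfl⟩
    refine Groth.Agent.Castel.exists_descent_blowUp hP hbl ι₀
      (hfib.symm.trans (Groth.Agent.Castel.range_eq_of_subset ι₀ ι' hsub).symm) (hker ▸ hI) (m := 1) (by norm_num)
      ((Scheme.Modules.pullback ι₀).mapIso (eqToIso (by rw [hker])) ≪≫ c) hL
      (((Scheme.Modules.pullbackComp e.hom ι).app L).symm ≪≫ (Scheme.Modules.pullback e.hom).mapIso q ≪≫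
        PicLoc.pullbackStructureIso e.hom)

end Groth.Agent.S7325
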