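import Groth.Statements.S7326
import Groth.Agent.Castel.PicApps

set_option autoImplicit false
universe u
open CategoryTheory CategoryTheory.Limits AlgebraicGeometry
open Models

set_option backward.isDefEq.respectTransparency false
set_option backward.isDefEq.respectTransparency.types false

namespace Groth.Agent.S7326

/-- Let R be a discrete valuation ring with fraction field K, C a smooth proper curve over K with H^0(C,
O_C) = K, X a regular proper model of C, Γ_1, …, Γ_n the irreducible components of the closed fibre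
with multiplicities m_i, d = gcd(m_i), and D = Σ (m_i/d) Γ_i the effective Cartier divisor with
ideal sheaf I_D = Π I(Γ_i)^{m_i/d}. Then O_X(D) (any L with L ⊗ I_D ≅ O_X) has order dividing d in
Pic(X), i.e. L^{⊗ d} ≅ O_X, and the conormal sheaf I_D|_D, an invertible O_D-module, has order
dividing d in Pic(D). -/
theorem result (R : Type u) [CommRing R] [IsDomain R] [IsDiscreteValuationRing R]
    (C X : Scheme.{u}) (f : C ⟶ Spec (CommRingCat.of (FractionRing R))) (p : X ⟶ Spec (CommRingCat.of R))
    (hC : Curve.IsSmoothProperCurve (FractionRing R) C f) (hH0 : IsIso f.appTop)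
    (hX : Models.IsRegularProperModel R X p C f)
    {n : ℕ} (Γ : Fin n → ArSurf.VertComp R (Over.mk p)) (hΓ : Models.IsComponentList R (Over.mk p) Γ)
    (L : X.Modules)
    (hL : ClSub.IsInverseOf L (ClSub.idealMod (∏ i, (Γ i).ι.ker ^ (Models.mult R (Over.mk p) (Γ i) / Models.multGcd R (Over.mk p) Γ)))) :
    Nonempty (CohB1.tensorPow L (Models.multGcd R (Over.mk p) Γ) ≅ Coh.structureModule X) ∧
      Nonempty (CohB1.tensorPow ((Scheme.Modules.pullback
          (∏ i, (Γ i).ι.ker ^ (Models.mult R (Over.mk p) (Γ i) / Models.multGcd R (Over.mk p) Γ)).subschemeι).obj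
          (ClSub.idealMod (∏ i, (Γ i).ι.ker ^ (Models.mult R (Over.mk p) (Γ i) / Models.multGcd R (Over.mk p) Γ))))
          (Models.multGcd R (Over.mk p) Γ) ≅
        Coh.structureModule (∏ i, (Γ i).ι.ker ^ (Models.mult R (Over.mk p) (Γ i) / Models.multGcd R (Over.mk p) Γ)).subscheme) := by
  letI := @W7Cube.law
  have hA := Castel.isArithSurface_of_regularProper hC hX
  obtain ⟨-, -, hdvd, -, -⟩ := Castel.mult_facts hC hH0 hX Γ hΓ
  let e : Fin n → ℕ := fun i => Models.mult R (Over.mk p) (Γ i) / Models.multGcd R (Over.mk p) Γ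
  have hI : BlowUp.IsEffCartierIdeal (Castel.divI Γ e) := Castel.cartier_divI hA Γ e
  have hIi := (Groth.Agent.S8914.result _).2 hI
  have hd : Castel.clsD (Castel.divI Γ e) ^ Models.multGcd R (Over.mk p) Γ = (1 : PicLoc.PicSet X) := by
    rw [Castel.clsD_divI hA, ← zpow_natCast, ← Castel.picO_smul, Castel.picO_eq_one_iff hC hH0 hX Γ hΓ]
    refine ⟨-1, fun i => ?_⟩
    rw [Pi.smul_apply, smul_eq_mul, mul_neg, ← Nat.cast_mul, Nat.mul_div_cancel' (hdvd i), neg_one_mul]
  obtain ⟨hLi, eL⟩ := Castel.cls_inverse hI hL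
  refine ⟨(Castel.nonempty_tensorPow_iso_iff hLi _).2 ?_, ?_⟩
  · rw [eL, inv_pow, hd, inv_one]
  · refine (Castel.nonempty_tensorPow_iso_iff (PicLoc.isInvertible_pullback _ hIi) _).2 ?_
    refine (congrArg (· ^ Models.multGcd R (Over.mk p) Γ) (Castel.pull_cls _ hIi).symm).trans ?_
    rw [← map_pow, ← Castel.clsD_eq hIi, hd, map_one]

end Groth.Agent.S7326
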