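import Groth.Statements.S7328
import Groth.Agent.RatUp.Bound

set_option autoImplicit false
universe u
open CategoryTheory CategoryTheory.Limits AlgebraicGeometry
open Resolve

set_option backward.isDefEq.respectTransparency false
set_option backward.isDefEq.respectTransparency.types false

namespace Groth.Agent.S7328

/-- Suppose A and B are two-dimensional local normal Nagata domains and A → B is an injective, finite,
local ring map for which the fraction field of B is separable over that of A. If A admits reduction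
to rational singularities (the lengths of the A-modules H^1(X, O_X), over all proper morphisms X →
Spec A from an integral normal scheme which are an isomorphism over a nonempty open, are bounded),
then B admits it as well (the same lengths for B are bounded). The fraction field of B is given an
algebra structure over that of A compatible with A → B. -/
theorem result (A B : Type u) [CommRing A] [CommRing B] [IsDomain A] [IsDomain B]
    [IsLocalRing A] [IsLocalRing B] [IsNoetherianRing A] [IsNoetherianRing B] [IsIntegrallyClosed A] [IsIntegrallyClosed B]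
    (hNA : CAlg.IsNagata A) (hNB : CAlg.IsNagata B) (hdA : ringKrullDim A = 2) (hdB : ringKrullDim B = 2)
    [Algebra A B] [Module.Finite A B] (hinj : Function.Injective (algebraMap A B)) [IsLocalHom (algebraMap A B)]
    [Algebra (FractionRing A) (FractionRing B)]
    (hcompat : ∀ a : A, algebraMap (FractionRing A) (FractionRing B) (algebraMap A (FractionRing A) a) =
      algebraMap B (FractionRing B) (algebraMap A B a))
    [Algebra.IsSeparable (FractionRing A) (FractionRing B)]
    (hA : (∃ N : ℕ, ∀ (X : Scheme.{u}) [X.Over (Spec (CommRingCat.of A))], IsProper (X ↘ Spec (CommRingCat.of A)) →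
        IsIntegral X → Pi1.IsNormalScheme X →
        (∃ U : (Spec (CommRingCat.of A)).Opens, (U : Set (Spec (CommRingCat.of A))).Nonempty ∧ IsIso ((X ↘ Spec (CommRingCat.of A)) ∣_ U)) →
        Module.length A (Coh.HH X (Coh.structureModule X) 1) ≤ (N : ℕ∞))) :
    (∃ N : ℕ, ∀ (X : Scheme.{u}) [X.Over (Spec (CommRingCat.of B))], IsProper (X ↘ Spec (CommRingCat.of B)) →
        IsIntegral X → Pi1.IsNormalScheme X →
        (∃ U : (Spec (CommRingCat.of B)).Opens, (U : Set (Spec (CommRingCat.of B))).Nonempty ∧ IsIso ((X ↘ Spec (CommRingCat.of B)) ∣_ U)) →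
        Module.length B (Coh.HH X (Coh.structureModule X) 1) ≤ (N : ℕ∞)) := by
  classical
  obtain ⟨NA, hNA'⟩ := hA
  have hmA : IsLocalRing.maximalIdeal A ≠ ⊥ := by
    intro e
    rw [ringKrullDim_eq_zero_of_isField (IsLocalRing.isField_iff_maximalIdeal_eq.2 e)] at hdA
    exact absurd hdA (by decide)
  obtain ⟨a, ham, ha0⟩ := Submodule.exists_mem_ne_zero_of_ne_bot hmA
  haveI : IsScalarTower A (FractionRing A) (FractionRing B) :=
    IsScalarTower.of_algebraMap_eq fun x => ((hcompat x).trans (IsScalarTower.algebraMap_apply A B (FractionRing B) x).symm).symm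
  obtain ⟨n, δ, bb, ww, hδ, hid⟩ := RatTrace.exists_trace_data (A := A) (B := B) (FractionRing A) (FractionRing B) hinj
  let d : B := algebraMap A B (a ^ NA * δ)
  have hd : d ≠ 0 := (map_ne_zero_iff _ hinj).2 (mul_ne_zero (pow_ne_zero _ ha0) hδ)
  obtain ⟨N, hN⟩ := S7300.result B hNB hdB d hd
  refine ⟨N, fun X _ hXp hXi hXn hXb => ?_⟩
  haveI := hXp
  haveI := hXi
  let P := FEt.puncturedSpec B
  haveI := RatUp.isIso_restrict_punctured hdB (X ↘ Spec (CommRingCat.of B)) hXb
  haveI : IsNoetherian (Spec (CommRingCat.of B)) := inferInstance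
  obtain ⟨I, S', bS, hbS, hadm, h, hh⟩ :=
    S1274.result (X ↘ Spec (CommRingCat.of B)) P (TopologicalSpace.NoetherianSpace.isCompact _)
  obtain ⟨J, rfl⟩ := RatUp.exists_ideal I
  have hJ : J ≠ ⊥ := by
    rintro rfl
    have hbot : Curv2.idealSheaf B (⊥ : Ideal B) = ⊥ := by
      refine Scheme.IdealSheafData.ext_of_isAffine ?_
      simp [Curv2.idealSheaf]
    have hη : genericPoint (Spec (CommRingCat.of B)) ∈ (P : Set (Spec (CommRingCat.of B))) := fun hcp => by
      rw [Set.mem_singleton_iff, genericPoint_eq_bot_of_affine] at hcp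
      have h2 : IsLocalRing.maximalIdeal B = ⊥ := (congrArg PrimeSpectrum.asIdeal hcp).symm
      rw [ringKrullDim_eq_zero_of_isField (IsLocalRing.isField_iff_maximalIdeal_eq.2 h2)] at hdB
      exact absurd hdB (by decide)
    exact Set.disjoint_left.1 hadm.2 (by rw [hbot, Scheme.IdealSheafData.support_bot]; trivial) hη
  obtain ⟨Y, Z, f, g, π, hfp, hYi, hYn, ⟨U, hU, hUi⟩, hgp, hZi, hZn, ⟨V, hV, hVi⟩, hπ, hsq, hJZ⟩ :=
    RatUp.exists_dominating hNA hNB hinj J hJ
  haveI := hfp; haveI := hYi; haveI := hUi; haveI := hgp; haveI := hZi; haveI := hVi; haveI := hπ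
  letI : Y.Over (Spec (CommRingCat.of A)) := ⟨f⟩
  letI : Z.Over (Spec (CommRingCat.of B)) := ⟨g⟩
  haveI : IsProper (Z ↘ Spec (CommRingCat.of B)) := hgp
  obtain ⟨t, ht, -⟩ := hbS.2 Z g hJZ
  let gX : Z ⟶ X := t ≫ h
  have hgX : gX ≫ (X ↘ Spec (CommRingCat.of B)) = Z ↘ Spec (CommRingCat.of B) := by
    simp only [gX, Category.assoc, hh]
    exact ht
  haveI : HasInjectiveResolutions Z.Modules := inferInstance
  obtain ⟨-, -, -, hlen⟩ := S7338.result B hdB X Z hXb ⟨V, hV, hVi⟩ hXn gX hgX
  refine le_trans (le_of_le_of_eq le_self_add hlen.symm) ?_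
  have hc : ∀ x : Coh.HH Y (Coh.structureModule Y) 1, (a ^ NA) • x = 0 := fun x =>
    RatUp.pow_smul_eq_zero_of_length_le NA (hNA' Y hfp hYi hYn ⟨U, hU, hUi⟩) ham x
  letI : Z.Over (Spec (CommRingCat.of A)) := ⟨g ≫ RatTrace.specMap⟩
  haveI : IsIso ((Y ↘ Spec (CommRingCat.of A)) ∣_ U) := hUi
  have hkill : ∀ x : Coh.HH Z (Coh.structureModule Z) 1, d • x = 0 := fun x => by
    refine Eq.trans ?_ (RatTrace.smul_h1_eq_zero A B (FractionRing A) (FractionRing B) hinj n δ bb ww hid hYn g rfl π
      hsq U hU V hV (a ^ NA) hc x)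
    have e : (Coh.toGlobal (Z ↘ Spec (CommRingCat.of B)) d : Γ(Z, ⊤)) =
        Coh.toGlobal (Z ↘ Spec (CommRingCat.of A)) (a ^ NA * δ) := by
      show (Coh.toGlobal g (algebraMap A B (a ^ NA * δ)) : Γ(Z, ⊤)) = Coh.toGlobal (g ≫ RatTrace.specMap) (a ^ NA * δ)
      simp only [Coh.toGlobal, Scheme.Hom.comp_appTop, RatTrace.specMap]
      exact congrArg g.appTop
        (ConcreteCategory.congr_hom (Scheme.ΓSpecIso_inv_naturality (CommRingCat.ofHom (algebraMap A B))) (a ^ NA * δ))
    exact congrArg (fun r : Γ(Z, ⊤) => Sheaf.H.map (Coh.smulAb (Coh.structureModule Z) r) 1 x) e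
  have htop : Submodule.torsionBy B (Coh.HH Z (Coh.structureModule Z) 1) d = ⊤ :=
    eq_top_iff.2 fun x _ => hkill x
  have hb := hN Z hgp hZi hZn ⟨V, hV, hVi⟩
  rw [htop, Module.length_top] at hb
  exact hb

end Groth.Agent.S7328
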