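import Groth.Statements.S7330
import Groth.Agent.RatModel.Main
import Groth.Agent.S9708
import Groth.Agent.S4452

set_option autoImplicit false
universe u
open CategoryTheory CategoryTheory.Limits AlgebraicGeometry
open Resolve

set_option backward.isDefEq.respectTransparency false
set_option backward.isDefEq.respectTransparency.types false

namespace Groth.Agent.S7330

/-- Let (A, m) be a local normal Nagata domain of dimension two for which reduction to rational
singularities is possible (the lengths of H^1(X, O_X) over all proper morphisms X → Spec A from an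
integral normal scheme which are an isomorphism over a nonempty open are bounded). Then there is
such a normal modification f : X → Spec A, with f projective, such that at each closed point x of X
the stalk O_{X,x} is a rational singularity. (The published statement obtains X by a finite sequence
of normalized blowings up in closed points; this row asserts only the resulting modification.) -/
theorem result (A : Type u) [CommRing A] [IsDomain A] [IsLocalRing A] [IsNoetherianRing A]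
    [IsIntegrallyClosed A] (hN : CAlg.IsNagata A) (hdim : ringKrullDim A = 2)
    (hA : (∃ N : ℕ, ∀ (X : Scheme.{u}) [X.Over (Spec (CommRingCat.of A))], IsProper (X ↘ Spec (CommRingCat.of A)) →
        IsIntegral X → Pi1.IsNormalScheme X →
        (∃ U : (Spec (CommRingCat.of A)).Opens, (U : Set (Spec (CommRingCat.of A))).Nonempty ∧ IsIso ((X ↘ Spec (CommRingCat.of A)) ∣_ U)) →
        Module.length A (Coh.HH X (Coh.structureModule X) 1) ≤ (N : ℕ∞))) :
    ∃ (X : Scheme.{u}) (f : X ⟶ Spec (CommRingCat.of A)), IsProper f ∧ IsIntegral X ∧ Pi1.IsNormalScheme X ∧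
      (∃ U : (Spec (CommRingCat.of A)).Opens, (U : Set (Spec (CommRingCat.of A))).Nonempty ∧ IsIso (f ∣_ U)) ∧
      RelProj.IsProjective f ∧
      ∀ x : X, IsClosed ({x} : Set X) → Curv2.IsRationalSing (X.presheaf.stalk x) := by
  classical
  obtain ⟨N, hA⟩ := hA
  let Mod := {T : Σ T : Scheme.{u}, T ⟶ Spec (CommRingCat.of A) // IsProper T.2 ∧ IsIntegral T.1 ∧
    Pi1.IsNormalScheme T.1 ∧ ∃ U : (Spec (CommRingCat.of A)).Opens,
      (U : Set (Spec (CommRingCat.of A))).Nonempty ∧ IsIso (T.2 ∣_ U)}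
  let len : Mod → ℕ∞ := fun T =>
    letI : T.1.1.Over (Spec (CommRingCat.of A)) := ⟨T.1.2⟩
    Module.length A (Coh.HH T.1.1 (Coh.structureModule T.1.1) 1)
  have hle : ∀ T : Mod, len T ≤ (N : ℕ∞) := fun T =>
    letI : T.1.1.Over (Spec (CommRingCat.of A)) := ⟨T.1.2⟩
    hA T.1.1 T.2.1 T.2.2.1 T.2.2.2.1 T.2.2.2.2
  obtain ⟨U₀, hU₀⟩ : ∃ U : (Spec (CommRingCat.of A)).Opens, (U : Set (Spec (CommRingCat.of A))).Nonempty :=
    ⟨⊤, ⟨genericPoint _, trivial⟩⟩
  obtain ⟨Z', ν, hν, hZi, hZn, hνb⟩ := RatModel.exists_normal_cover hN (𝟙 (Spec (CommRingCat.of A)))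
  haveI := hν
  let T₀ : Mod := ⟨⟨Z', ν⟩, inferInstance, hZi, hZn, hνb⟩
  let S : Set ℕ := {n | ∃ T : Mod, len T = n}
  have hS : S.Nonempty := by
    obtain ⟨n, hn, -⟩ := ENat.le_coe_iff.1 (hle T₀)
    exact ⟨n, T₀, hn⟩
  have hSb : BddAbove S := ⟨N, by
    rintro n ⟨T, hT⟩
    exact ENat.coe_le_coe.1 (hT ▸ hle T)⟩
  obtain ⟨T₁, hT₁⟩ := Nat.sSup_mem hS hSb
  have hmax : ∀ T : Mod, len T ≤ len T₁ := fun T => by
    obtain ⟨n, hn, -⟩ := ENat.le_coe_iff.1 (hle T)
    rw [hn, hT₁]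
    exact ENat.coe_le_coe.2 (le_csSup hSb ⟨T, hn⟩)
  obtain ⟨⟨X₁, p₁⟩, hp₁, hi₁, hn₁, ⟨U₁, hU₁, hU₁i⟩⟩ := T₁
  haveI := hp₁
  haveI := hi₁
  haveI := hU₁i
  -- a projective modification dominating it
  obtain ⟨I, B, b, hb, hadm, h, hh⟩ := Groth.Agent.S1274.result p₁ U₁ (TopologicalSpace.NoetherianSpace.isCompact _)
  have hI0 : I ≠ ⊥ := RatModel.ne_bot_of_disjoint hU₁ hadm.2
  haveI : IsIntegral B := W7Fib.isIntegral_blowUp hI0 hb
  have hbproj := Groth.Agent.S8910.result I hadm.1 b hb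
  haveI : IsProper b := (Groth.Agent.S4418.result b hbproj).2
  have hbb : ∃ U : (Spec (CommRingCat.of A)).Opens, (U : Set (Spec (CommRingCat.of A))).Nonempty ∧ IsIso (b ∣_ U) :=
    ⟨I.support.compl, ⟨genericPoint _, W7Fib.genericPoint_notMem_support hI0⟩, BlowUpLib.isIso_restrict hb⟩
  obtain ⟨X, μ, hμ, hXi, hXn, hμb⟩ := RatModel.exists_normal_cover hN b
  haveI := hμ
  haveI := hXi
  let f := μ ≫ b
  have hbir := RatModel.exists_isIso_comp μ b hμb hbb
  letI : X₁.Over (Spec (CommRingCat.of A)) := ⟨p₁⟩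
  letI : X.Over (Spec (CommRingCat.of A)) := ⟨f⟩
  haveI : IsProper (X₁ ↘ Spec (CommRingCat.of A)) := hp₁
  haveI : IsProper (X ↘ Spec (CommRingCat.of A)) := inferInstanceAs (IsProper (μ ≫ b))
  refine ⟨X, f, inferInstance, hXi, hXn, hbir, ?_, fun x _ => ?_⟩
  · exact Groth.Agent.S9708.result μ b (Groth.Agent.S4452.result μ) hbproj
  · have hge : len ⟨⟨X₁, p₁⟩, hp₁, hi₁, hn₁, ⟨U₁, hU₁, hU₁i⟩⟩ ≤ Module.length A (Coh.HH X (Coh.structureModule X) 1) :=
      RatModel.length_le A hdim (X := X₁) (X' := X) ⟨U₁, hU₁, hU₁i⟩ hbir hn₁ (μ ≫ h)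
        (show (μ ≫ h) ≫ p₁ = μ ≫ b by rw [Category.assoc, hh])
    refine RatModel.isRationalSing_stalk A hdim hbir hXn hN ?_ (fun X' _ hp' hi' hn' hb' => ?_) x
    · exact ne_top_of_le_ne_top (ENat.coe_ne_top N) (hA X inferInstance hXi hXn hbir)
    · exact (hmax ⟨⟨X', X' ↘ Spec (CommRingCat.of A)⟩, hp', hi', hn', hb'⟩).trans hge

end Groth.Agent.S7330
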