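import Groth.Statements.S7334
import Groth.Agent.ExcVanish.Torsion
import Groth.Agent.ExcVanish.RpushHom

set_option autoImplicit false
universe u
open CategoryTheory CategoryTheory.Limits AlgebraicGeometry
attribute [local instance] HasDerivedCategory.standard
open Resolve

set_option backward.isDefEq.respectTransparency false
set_option backward.isDefEq.respectTransparency.types false

namespace Groth.Agent.S7334

/-- Let (A, m, κ) be a local Noetherian normal domain of dimension two which is Nagata, and f : X → Spec
A a proper morphism from an integral normal scheme which is an isomorphism over a nonempty open.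
Then Hom(κ[-1], Rf_* O_X) = 0, computed in D(O_{Spec A}) with κ[-1] the shift of the quasi-coherent
module attached to κ. The published statement computes this group in D(A), identified with
D_QCoh(O_{Spec A}); this row computes it in D(O_{Spec A}), which gives the same group because D_QCoh
is a full subcategory containing both objects. Existence of Rf_* on the unbounded derived category
and left exactness of M ↦ M~ are carried as instance hypotheses. -/
theorem result (A : Type u) [CommRing A] [IsDomain A] [IsLocalRing A] [IsNoetherianRing A]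
    [IsIntegrallyClosed A] (hN : CAlg.IsNagata A) (hdim : ringKrullDim A = 2)
    (X : Scheme.{u}) (f : X ⟶ Spec (CommRingCat.of A)) [IsProper f] [IsIntegral X] (hXn : Pi1.IsNormalScheme X)
    (hbir : ∃ U : (Spec (CommRingCat.of A)).Opens, (U : Set (Spec (CommRingCat.of A))).Nonempty ∧ IsIso (f ∣_ U))
    [PreservesFiniteLimits (tilde.functor (CommRingCat.of A))] [DCoh.HasRpush f] :
    Subsingleton ((((DCoh.tildeD (CommRingCat.of A)).obj (Dual.inD A (IsLocalRing.ResidueField A)))⟦(-1 : ℤ)⟧) ⟶
      (DCoh.Rpush f).obj (DCoh.inD X (Coh.structureModule X))) := by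
  classical
  obtain ⟨a, ha, ha0⟩ : ∃ a ∈ IsLocalRing.maximalIdeal A, a ≠ 0 := by
    refine Submodule.exists_mem_ne_zero_of_ne_bot fun h => ?_
    haveI : IsField A := IsLocalRing.isField_iff_maximalIdeal_eq.2 h
    rw [ringKrullDim_eq_zero_of_isField this] at hdim
    exact absurd hdim (by decide)
  let b : Γ(Spec (CommRingCat.of A), ⊤) := (Scheme.ΓSpecIso (CommRingCat.of A)).inv a
  let k : ModuleCat.{u} (CommRingCat.of A) := ModuleCat.of A (IsLocalRing.ResidueField A)
  let M := (tilde.functor (CommRingCat.of A)).obj k
  haveI : Mono (PicBdd.scal (f.appTop b) (Coh.structureModule X)) := ExcVanish.mono_scal f hbir ha0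
  have hlin : ∀ (N : (Spec (CommRingCat.of A)).Modules)
      (p : k ⟶ (moduleSpecΓFunctor).obj N) (c : A), c ∈ IsLocalRing.maximalIdeal A →
      ∀ x : k, (show Γ(Spec (CommRingCat.of A), ⊤) from (Scheme.ΓSpecIso (CommRingCat.of A)).inv c) •
        (show Γ(N, ⊤) from p.hom x) = 0 := fun N p c hc x => by
    have h := p.hom.map_smul c x
    rw [show c • x = 0 from ?_, map_zero] at h
    · exact h.symm
    · obtain ⟨y, rfl⟩ := Ideal.Quotient.mk_surjective x
      exact (Ideal.Quotient.eq_zero_iff_mem).2 (Ideal.mul_mem_right y _ hc)
  refine subsingleton_of_forall_eq 0 fun φ => ?_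
  let e := ((tilde.functor (CommRingCat.of A)).mapDerivedCategorySingleFunctor 0).app k
  rw [← cancel_epi (e.inv⟦(-1 : ℤ)⟧'), comp_zero]
  refine ExcVanish.hom_shift_rpush_eq_zero f b (Coh.structureModule X) M ?_ (fun g => ?_) _
  · apply ((tilde.adjunction (R := CommRingCat.of A)).homEquiv k M).injective
    ext x
    rw [Adjunction.homEquiv_unit, Adjunction.homEquiv_unit]
    refine Eq.trans ?_ (by simp : (0 : (moduleSpecΓFunctor).obj M) = _)
    refine Eq.trans ?_ (hlin M (tilde.adjunction.unit.app k) a ha x)
    exact (PicBdd.scal_app b M ⊤ _).trans (congrArg (fun r : Γ(Spec (CommRingCat.of A), ⊤) => r • (show Γ(M, ⊤) from (tilde.adjunction.unit.app k).hom x)) (QC.resO_self _ _))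
  · apply ((tilde.adjunction (R := CommRingCat.of A)).homEquiv k _).injective
    ext x
    refine Eq.trans (ExcVanish.socle_cokernel_scal_eq_zero hdim f hbir hXn ha0 _ fun c hc => ?_)
      (by rw [Adjunction.homEquiv_unit]; simp)
    exact hlin _ (((tilde.adjunction (R := CommRingCat.of A)).homEquiv k _) g) c hc x

end Groth.Agent.S7334
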