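import Groth.Statements.S7335
import Groth.Agent.ExcVanish.Twists
import Groth.Agent.S1650
import Groth.Agent.S7297
import Groth.Agent.S7332
import Groth.Agent.BlowUpLib.Basic
import Groth.Agent.BlowUpExist.Proper

set_option autoImplicit false
universe u
open CategoryTheory CategoryTheory.Limits AlgebraicGeometry
attribute [local instance] HasDerivedCategory.standard
open Resolve

set_option backward.isDefEq.respectTransparency false
set_option backward.isDefEq.respectTransparency.types false

namespace Groth.Agent.S7335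

/-- Let (A, m) be a local normal Nagata domain of dimension two which defines a rational singularity, is
not regular, and has a dualizing module ω_A; let b : X → Spec A be the blowing up in m, with
exceptional ideal sheaf I = O_X(1), and let ω_X be the dualizing module of X normalized relative to
ω_A (the degree-zero cohomology sheaf of b^!(ω_A~), with b^! the right adjoint of Rb_* on D_QCoh;
these existence statements are carried as hypotheses). Then H^1(X, ω_X(n)) = 0 for all n ≥ 0, where
ω_X(n) = ω_X ⊗ I^{⊗ n}. -/
theorem result (A : Type u) [CommRing A] [IsDomain A] [IsLocalRing A] [IsNoetherianRing A]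
    [IsIntegrallyClosed A] (hN : CAlg.IsNagata A) (hdim : ringKrullDim A = 2) (hA : Curv2.IsRationalSing A)
    (hnr : ¬ IsRegularLocalRing A)
    (X : Scheme.{u}) (f : X ⟶ Spec (CommRingCat.of A)) (hb : BlowUp.IsBlowUp f (Curv2.idealSheaf A (IsLocalRing.maximalIdeal A)))
    (ωA : Type u) [AddCommGroup ωA] [Module A ωA] (hω : Dual.IsDualizing A (Dual.inD A ωA))
    [PreservesFiniteLimits (tilde.functor (CommRingCat.of A))]
    [DCoh.HasRpush f] (h : DCoh.RpushPreservesQCoh f) [DCoh.HasShriek f h]
    (WA : DCoh.DQCoh (Spec (CommRingCat.of A))) (hWA : Nonempty (WA.obj ≅ (DCoh.tildeD (CommRingCat.of A)).obj (Dual.inD A ωA))) (n : ℕ) :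
    Subsingleton (Coh.HH X (CohB1.tensorMod (DCoh.dualizingMod f h WA 0)
      (CohB1.tensorPow (ClSub.idealMod (BlowUp.exceptional f (Curv2.idealSheaf A (IsLocalRing.maximalIdeal A)))) n)) 1) := by
  classical
  letI : X.Over (Spec (CommRingCat.of A)) := ⟨f⟩
  have hm : IsLocalRing.maximalIdeal A ≠ ⊥ := by
    intro e
    rw [ringKrullDim_eq_zero_of_isField (IsLocalRing.isField_iff_maximalIdeal_eq.2 e)] at hdim
    exact absurd hdim (by decide)
  have hI := RatBlow.idealSheaf_ne_bot hm
  haveI hXi : IsIntegral X := W7Fib.isIntegral_blowUp hI hb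
  haveI : IsProper f := BlowUpExist.isProper_spec f _ hb (by
    haveI := IsLocallyNoetherian.component_noetherian (X := Spec (CommRingCat.of A)) ⟨⊤, isAffineOpen_top _⟩
    exact IsNoetherian.noetherian _)
  haveI : IsProper (X ↘ Spec (CommRingCat.of A)) := ‹IsProper f›
  haveI : IsNoetherian X := Groth.Agent.H1Triv.isNoetherian_of_proper_ring A
  have hbir : ∃ U : (Spec (CommRingCat.of A)).Opens, (U : Set (Spec (CommRingCat.of A))).Nonempty ∧ IsIso (f ∣_ U) :=
    ⟨(Curv2.idealSheaf A (IsLocalRing.maximalIdeal A)).support.compl, ⟨_, W7Fib.genericPoint_notMem_support hI⟩,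
      BlowUpLib.isIso_restrict hb⟩
  have hXn : Pi1.IsNormalScheme X := S1650.result A hN hdim hA X f hb
  have hv : ∀ M : X.Modules, Coh.IsQCoh M → Subsingleton (Coh.HH X M 2) := fun M hM =>
    S7297.result A hN hdim hA X f hXn hbir M hM 2 le_rfl
  have h0 := S7332.result A hN hdim X f hXn hbir ωA hω h WA hWA
  obtain ⟨r, a, ha⟩ := Submodule.fg_iff_exists_fin_generating_family.1
    (IsNoetherian.noetherian (IsLocalRing.maximalIdeal A))
  have hE : BlowUp.IsEffCartierIdeal (RatBlow.idl f (IsLocalRing.maximalIdeal A)) := hb.1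
  obtain ⟨s, -, hgen⟩ := RatBlow.exists_gen hE a ha
  exact ExcVanish.h1_tensorPow_qcoh A hv (((DCoh.shriek f h).obj WA).property 0) (RatBlow.isInvertible_L hE) s hgen h0 n

end Groth.Agent.S7335
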