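import Groth.Statements.S7336
import Groth.Agent.ExcVanish.Factoring

set_option autoImplicit false
universe u
open CategoryTheory CategoryTheory.Limits AlgebraicGeometry
open Resolve

set_option backward.isDefEq.respectTransparency false
set_option backward.isDefEq.respectTransparency.types false

namespace Groth.Agent.S7336

/-- Let (A, m) be a local Noetherian normal domain of dimension two and f : X → Spec A a proper morphism
from an integral scheme which is an isomorphism over some nonempty open and is not an isomorphism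
(so that every irreducible component of the closed fibre is a curve). Then there is a nonzero a ∈ m
such that for every irreducible component C of the closed fibre, with generic point ξ, there are a
closed point x ∈ C lying on no other component and a factorization a = g · q in O_{X,x} with g in
the maximal ideal of O_{X,x} and g not vanishing identically on C near x, i.e. the image of g in
O_{X,ξ} is a unit. -/
theorem result (A : Type u) [CommRing A] [IsDomain A] [IsLocalRing A] [IsNoetherianRing A]
    [IsIntegrallyClosed A] (hdim : ringKrullDim A = 2)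
    (X : Scheme.{u}) (f : X ⟶ Spec (CommRingCat.of A)) [IsProper f] [IsIntegral X]
    (hbir : ∃ U : (Spec (CommRingCat.of A)).Opens, (U : Set (Spec (CommRingCat.of A))).Nonempty ∧ IsIso (f ∣_ U)) (hf : ¬ IsIso f) :
    ∃ a : A, a ≠ 0 ∧ a ∈ IsLocalRing.maximalIdeal A ∧
      ∀ C ∈ irreducibleComponents ↥(f.base ⁻¹' {IsLocalRing.closedPoint A}),
        ∃ (x ξ : ↥(f.base ⁻¹' {IsLocalRing.closedPoint A})) (hξx : (ξ : X) ⤳ (x : X)),
          x ∈ C ∧ IsGenericPoint ξ C ∧ IsClosed ({(x : X)} : Set X) ∧
          (∀ C' ∈ irreducibleComponents ↥(f.base ⁻¹' {IsLocalRing.closedPoint A}), C' ≠ C → x ∉ C') ∧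
          ∃ g q : X.presheaf.stalk (x : X), g ∈ IsLocalRing.maximalIdeal (X.presheaf.stalk (x : X)) ∧
            (X.presheaf.germ ⊤ (x : X) trivial).hom (Coh.toGlobal f a) = g * q ∧
            IsUnit ((X.presheaf.stalkSpecializes hξx).hom g) := by
  classical
  haveI : IsLocallyNoetherian X := LocallyOfFiniteType.isLocallyNoetherian f
  haveI : CompactSpace X := QuasiCompact.compactSpace_of_compactSpace f
  haveI : AlgebraicGeometry.IsNoetherian X := {}
  have hEc : IsClosed (f.base ⁻¹' {IsLocalRing.closedPoint A}) :=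
    (IsLocalRing.isClosed_singleton_closedPoint A).preimage f.continuous
  have hfin : (irreducibleComponents ↥(f.base ⁻¹' {IsLocalRing.closedPoint A})).Finite :=
    TopologicalSpace.NoetherianSpace.finite_irreducibleComponents
  have key : ∀ C ∈ irreducibleComponents ↥(f.base ⁻¹' {IsLocalRing.closedPoint A}),
      ∃ a : A, a ≠ 0 ∧ a ∈ IsLocalRing.maximalIdeal A ∧ ∀ b : A,
      ∃ (x ξ : ↥(f.base ⁻¹' {IsLocalRing.closedPoint A})) (hξx : (ξ : X) ⤳ (x : X)), x ∈ C ∧ IsGenericPoint ξ C ∧
        IsClosed ({(x : X)} : Set X) ∧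
        (∀ C' ∈ irreducibleComponents ↥(f.base ⁻¹' {IsLocalRing.closedPoint A}), C' ≠ C → x ∉ C') ∧
        ∃ g q : X.presheaf.stalk (x : X), g ∈ IsLocalRing.maximalIdeal (X.presheaf.stalk (x : X)) ∧
          (X.presheaf.germ ⊤ (x : X) trivial).hom (Coh.toGlobal f (a * b)) = g * q ∧
          IsUnit ((X.presheaf.stalkSpecializes hξx).hom g) := by
    intro C hC
    have hCc := isClosed_of_mem_irreducibleComponents C hC
    haveI : QuasiSober ↥(f.base ⁻¹' {IsLocalRing.closedPoint A}) := hEc.isClosedEmbedding_subtypeVal.quasiSober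
    obtain ⟨ξ, hξ⟩ := QuasiSober.sober hC.1 hCc
    let R := ⋃₀ (irreducibleComponents ↥(f.base ⁻¹' {IsLocalRing.closedPoint A}) \ {C})
    have hR : IsClosed R := by
      simp only [R, Set.sUnion_eq_biUnion]
      exact (hfin.diff).isClosed_biUnion fun D hD => isClosed_of_mem_irreducibleComponents D hD.1
    have hξR : ξ ∉ R := by
      rintro ⟨D, ⟨hD, hne⟩, hξD⟩
      refine hne (hC.eq_of_le hD.1 ?_).symm
      rw [← hξ.def]
      exact (isClosed_of_mem_irreducibleComponents D hD).closure_subset_iff.2 (Set.singleton_subset_iff.2 hξD)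
    -- a closed point of the component off the other components
    haveI : JacobsonSpace ↥(f.base ⁻¹' {IsLocalRing.closedPoint A}) := by
      haveI : JacobsonSpace ↥(f.fiber (IsLocalRing.closedPoint A)) :=
        LocallyOfFiniteType.jacobsonSpace (f.fiberToSpecResidueField (IsLocalRing.closedPoint A))
      exact JacobsonSpace.of_isClosedEmbedding (f.fiberHomeo (IsLocalRing.closedPoint A)).symm.isClosedEmbedding
    obtain ⟨x, ⟨hxC, hxR⟩, hx⟩ := nonempty_inter_closedPoints (Z := C \ R) ⟨ξ, hξ.mem, hξR⟩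
      (hCc.isLocallyClosed.inter hR.isOpen_compl.isLocallyClosed)
    have hxcl : IsClosed ({(x : X)} : Set X) := by
      have h := hEc.isClosedEmbedding_subtypeVal.isClosedMap _ (mem_closedPoints_iff.1 hx)
      rwa [Set.image_singleton] at h
    have hsp : (ξ : X) ⤳ (x : X) := (hξ.specializes hxC).map continuous_subtype_val
    have hne' : (ξ : X) ≠ x := fun e => ExcVanish.genericPoint_component_not_closed hdim f hbir hf hC (x := x) (by
      rw [← hξ.def, show ξ = x from Subtype.ext e]
      exact (mem_closedPoints_iff.1 hx).closure_eq)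
    obtain ⟨a, ha0, ham, ha⟩ := ExcVanish.exists_factor_at hdim f hbir hxcl hsp hne' x.2
    exact ⟨a, ha0, ham, fun b => ⟨x, ξ, hsp, hxC, hξ, hxcl,
      fun C' hC' hne hxC' => hxR ⟨C', ⟨hC', hne⟩, hxC'⟩, ha b⟩⟩
  choose a ha0 ham hab using key
  obtain ⟨a₀, ha₀m, ha₀0⟩ : ∃ a₀ ∈ IsLocalRing.maximalIdeal A, a₀ ≠ 0 := Submodule.exists_mem_ne_zero_of_ne_bot fun e => by
      rw [ringKrullDim_eq_zero_of_isField (IsLocalRing.isField_iff_maximalIdeal_eq.2 e)] at hdim
      exact absurd hdim (by decide)
  refine ⟨a₀ * ∏ C ∈ hfin.toFinset.attach, a C.1 (hfin.mem_toFinset.1 C.2), mul_ne_zero ha₀0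
    (Finset.prod_ne_zero_iff.2 fun C _ => ha0 _ _), Ideal.mul_mem_right _ _ ha₀m, fun C hC => ?_⟩
  obtain ⟨b, hb⟩ : a C hC ∣ a₀ * ∏ D ∈ hfin.toFinset.attach, a D.1 (hfin.mem_toFinset.1 D.2) :=
    Dvd.dvd.mul_left (Finset.dvd_prod_of_mem (fun D : {D // D ∈ hfin.toFinset} => a D.1 (hfin.mem_toFinset.1 D.2))
      (Finset.mem_attach _ ⟨C, hfin.mem_toFinset.2 hC⟩)) a₀
  rw [hb]
  exact hab C hC b

end Groth.Agent.S7336
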