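import Groth.Statements.S7337
import Groth.Agent.RatBlow.Exceptional
import Groth.Agent.RatBlow.Graded
import Groth.Agent.S7297

set_option autoImplicit false
universe u
open CategoryTheory CategoryTheory.Limits AlgebraicGeometry
open Resolve

namespace Groth.Agent.S7337

/-- Let (A, m, κ) be a local normal Nagata domain of dimension two defining a rational singularity, let
X → Spec A (the structure morphism of X over Spec A) be the blowing up in m, and let E ⊂ X be the
exceptional divisor with ideal sheaf I = O_X(1), so that O_E(n) pushed forward to X is I^{⊗ n} ⊗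
O_X/I. Then E is Cohen–Macaulay of dimension one; H^1(E, O_E(n)) = 0 for n ≥ 0; and H^0(E, O_E(n)) ≅
m^n/m^{n+1} for n ≥ 0. (The published statement also asserts that E is proper over κ, that O_E(1) is
very ample, and that deg O_E(1) ≥ 1 with equality only for A regular; this row does not restate
those, and states the description of H^0(E, O_E(n)) as an equality of A-lengths.) -/
theorem result (A : Type u) [CommRing A] [IsDomain A] [IsLocalRing A] [IsNoetherianRing A]
    [IsIntegrallyClosed A] (hN : CAlg.IsNagata A) (hdim : ringKrullDim A = 2) (hA : Curv2.IsRationalSing A)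
    (X : Scheme.{u}) [X.Over (Spec (CommRingCat.of A))]
    (hb : BlowUp.IsBlowUp (X ↘ Spec (CommRingCat.of A)) (Curv2.idealSheaf A (IsLocalRing.maximalIdeal A))) (n : ℕ) :
    (∀ e : ↥(BlowUp.exceptional (X ↘ Spec (CommRingCat.of A)) (Curv2.idealSheaf A (IsLocalRing.maximalIdeal A))).subscheme,
        LocCoh.IsCohenMacaulayLocalRing
          ((BlowUp.exceptional (X ↘ Spec (CommRingCat.of A)) (Curv2.idealSheaf A (IsLocalRing.maximalIdeal A))).subscheme.presheaf.stalk e)) ∧
      topologicalKrullDim ↥(BlowUp.exceptional (X ↘ Spec (CommRingCat.of A)) (Curv2.idealSheaf A (IsLocalRing.maximalIdeal A))).subscheme = 1 ∧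
      Subsingleton (Coh.HH X (CohB1.tensorMod
        (CohB1.tensorPow (ClSub.idealMod (BlowUp.exceptional (X ↘ Spec (CommRingCat.of A)) (Curv2.idealSheaf A (IsLocalRing.maximalIdeal A)))) n)
        (ClSub.quotMod (BlowUp.exceptional (X ↘ Spec (CommRingCat.of A)) (Curv2.idealSheaf A (IsLocalRing.maximalIdeal A))))) 1) ∧
      Module.length A (Coh.HH X (CohB1.tensorMod
        (CohB1.tensorPow (ClSub.idealMod (BlowUp.exceptional (X ↘ Spec (CommRingCat.of A)) (Curv2.idealSheaf A (IsLocalRing.maximalIdeal A)))) n)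
        (ClSub.quotMod (BlowUp.exceptional (X ↘ Spec (CommRingCat.of A)) (Curv2.idealSheaf A (IsLocalRing.maximalIdeal A))))) 0) =
        Module.length A (↥(IsLocalRing.maximalIdeal A ^ n) ⧸
          (Submodule.comap (IsLocalRing.maximalIdeal A ^ n).subtype (IsLocalRing.maximalIdeal A ^ (n + 1)))) := by
  let f := X ↘ Spec (CommRingCat.of A)
  obtain ⟨hfp, hXi, hbir⟩ := Groth.Agent.RatBlow.blowUp_props hdim hb
  haveI := hfp
  haveI := hXi
  haveI : IsProper (X ↘ Spec (CommRingCat.of A)) := hfp
  haveI : IsLocallyNoetherian X := LocallyOfFiniteType.isLocallyNoetherian (X ↘ Spec (CommRingCat.of A))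
  have hXn := Groth.Agent.RatBlow.isNormal_blowUp hN hdim hA hb
  have hdY : ∀ y : Spec (CommRingCat.of A), ringKrullDim ((Spec (CommRingCat.of A)).presheaf.stalk y) ≤ 2 :=
    fun y => by
      refine (Groth.Agent.RegDual.ringKrullDim_stalk_le_topologicalKrullDim y).trans ?_
      rw [show topologicalKrullDim (Spec (CommRingCat.of A)) = ringKrullDim A from
        PrimeSpectrum.topologicalKrullDim_eq_ringKrullDim A, hdim]
  obtain ⟨U₀, hU₀, hiso⟩ := id hbir
  haveI := hiso
  have hd : ∀ x : X, ringKrullDim (X.presheaf.stalk x) ≤ 2 := fun x =>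
    (Groth.Agent.StrictRat.dim_le (X ↘ Spec (CommRingCat.of A)) U₀ hU₀ x).trans (hdY _)
  have hv : ∀ M : X.Modules, Coh.IsCoh M → Subsingleton (Coh.HH X M 2) := fun M hM =>
    Groth.Agent.S7297.result A hN hdim hA X (X ↘ Spec (CommRingCat.of A)) hXn hbir M hM.1 2 le_rfl
  have hO : Subsingleton (Coh.HH X (Coh.structureModule X) 1) :=
    hA X (X ↘ Spec (CommRingCat.of A)) inferInstance inferInstance hXn hbir
  obtain ⟨r, a, ha⟩ := Submodule.fg_iff_exists_fin_generating_family.1
    (IsNoetherian.noetherian (IsLocalRing.maximalIdeal A))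
  obtain ⟨s, hs, hgen⟩ := Groth.Agent.RatBlow.exists_gen hb.1 a ha
  have htop := Groth.Agent.RatBlow.el_top_bijective (X ↘ Spec (CommRingCat.of A)) hbir
  have hmem := Groth.Agent.RatBlow.mem_pow_of_μ hb.1 hv hO s hgen a (fun j => ha ▸ Ideal.subset_span ⟨j, rfl⟩) hs htop
    (fun c hc => Groth.Agent.RatBlow.mem_of_range (X ↘ Spec (CommRingCat.of A))
      (Groth.Agent.RatBlow.exists_over (X ↘ Spec (CommRingCat.of A)) hbir (IsLocalRing.closedPoint A)) c hc)
  refine ⟨fun e => (Groth.Agent.RatBlow.cm_stalk_subscheme hXn hd hb.1 e).1,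
    le_antisymm (Groth.Agent.RatBlow.topDim_subscheme_le hXn hd hb.1) (Groth.Agent.RatBlow.one_le_topDim hdim hb),
    Groth.Agent.RatBlow.h1_quot A hb.1 hv n (Groth.Agent.RatBlow.h1_pow hb.1 hv hO s hgen n),
    Groth.Agent.RatBlow.length_quot A hb.1 htop hmem n (Groth.Agent.RatBlow.h1_pow hb.1 hv hO s hgen (n + 1))⟩

end Groth.Agent.S7337
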