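import Groth.Statements.S7339
import Groth.Agent.Castel.LineVanish
import Groth.Agent.Castel.Ample

set_option autoImplicit false
universe u
open CategoryTheory CategoryTheory.Limits AlgebraicGeometry
open Resolve

set_option backward.isDefEq.respectTransparency false
set_option backward.isDefEq.respectTransparency.types false

namespace Groth.Agent.S7339

/-- Let X be a Noetherian scheme, ι : E → X a closed immersion which is an exceptional curve of the
first kind, with ideal sheaf I and M = O_X(E) an inverse of I for the tensor product, and L an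
invertible O_X-module whose pullback to E ≅ P^1_k (for some field k and isomorphism e : P^1_k ≅ E)
is isomorphic to O(n). If H^1(X, L) = 0 and n ≥ 0, then H^1(X, L(iE)) = 0 for 0 ≤ i ≤ n + 1, where
L(iE) = L ⊗ M^{⊗ i}. (The published statement also asserts, for n ≤ 0, that H^1(X, L) → H^1(X, L(E))
is injective; this row states only the vanishing for n ≥ 0.) -/
theorem result {E X : Scheme.{u}} [IsNoetherian X] (ι : E ⟶ X) [IsClosedImmersion ι]
    (hE : Models.IsExcCurve ι) (M : X.Modules) (hM : ClSub.IsInverseOf M (ClSub.idealMod ι.ker))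
    (L : X.Modules) (hL : PicF.IsInvertible L)
    (k : Type u) [Field k] (e : CohB1.ProjSpace 1 k ≅ E) (n : ℕ)
    (hn : Nonempty ((Scheme.Modules.pullback (e.hom ≫ ι)).obj L ≅ Twist.twistProjSpace 1 k (n : ℤ)))
    (h1 : Subsingleton (Coh.HH X L 1)) (i : ℕ) (hi : i ≤ n + 1) :
    Subsingleton (Coh.HH X (CohB1.tensorMod L (CohB1.tensorPow M i)) 1) := by
  obtain ⟨hI, k', _, e', ⟨c'⟩⟩ := hE
  haveI : IsLocallyNoetherian X := inferInstance
  let ι₀ := e.hom ≫ ι
  have hker : ι₀.ker = ι.ker := Scheme.Hom.ker_comp_of_isIso e.hom ι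
  obtain ⟨t⟩ := Groth.Agent.Castel.nonempty_twist_of_iso (e ≪≫ e'.symm)
  have hθ : (e ≪≫ e'.symm).hom ≫ e'.hom ≫ ι = ι₀ := by
    simp only [Iso.trans_hom, Iso.symm_hom, Category.assoc, Iso.inv_hom_id_assoc, ι₀]
  have e₁ : (Scheme.Modules.pullback ι₀).obj (ClSub.idealMod ι.ker) ≅ Twist.twistProjSpace 1 k ((1 : ℤ)) :=
    (Scheme.Modules.pullbackCongr hθ.symm).app _ ≪≫ ((Scheme.Modules.pullbackComp _ _).app _).symm ≪≫
      (Scheme.Modules.pullback _).mapIso c' ≪≫ t
  have hMi := Groth.Agent.Castel.isInvertible_of_isInverseOf ((Groth.Agent.S8914.result _).2 hI) hM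
  obtain ⟨eM⟩ := Groth.Agent.Castel.nonempty_pullback_inverse ι₀ hM hMi e₁
  obtain ⟨en⟩ := hn
  induction i with
  | zero => exact Groth.Agent.CohQC.hh_subsingleton_of_iso (SecTwist.unitorR _).symm 1 h1
  | succ j ih =>
    obtain ⟨q⟩ := Groth.Agent.Castel.nonempty_ideal_tensor (A := L) hM j
    obtain ⟨ep⟩ := Groth.Agent.Castel.nonempty_pullback_pow ι₀ eM (j + 1)
    have hG : PicF.IsInvertible (CohB1.tensorMod L (CohB1.tensorPow M (j + 1))) :=
      TMul.isInvertible_tensorMod hL (TMul.isInvertible_tensorPow hMi (j + 1))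
    obtain ⟨eG⟩ := Groth.Agent.Castel.nonempty_pullback_tensor ι₀ en ep rfl
    have h3 := Groth.Agent.Castel.subsingleton_h1_quot_of_iso ι₀ hker hG (by push_cast; omega) eG
    refine Groth.Agent.CohQC.hh_subsingleton_of_iso (TMul.leftUnitIso _) 1 ?_
    exact Groth.Agent.W7Hull.hh_subsingleton_middle
      (Groth.Agent.CohFinite.shortExact_tmap hG (Groth.Agent.CurveRR.ideal_shortExact ι.ker)) 1
      (Groth.Agent.CohQC.hh_subsingleton_of_iso q.symm 1 (ih (by omega))) h3

end Groth.Agent.S7339
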