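import Mathlib
import Groth.Statements.S7340


set_option autoImplicit false
universe u
open Polynomial
open Resolve

set_option backward.isDefEq.respectTransparency false
namespace Groth.Agent.S7340

section Trace

variable {p : ℕ} [Fact p.Prime] {R : Type u} [CommRing R] [CharP R p] {b : R}
  {T : Ω[AdjoinRoot (X ^ p - C b : R[X])⁄R] →ₗ[R] Ω[R⁄ℤ]}


theorem monic_f : (X ^ p - C b : R[X]).Monic := monic_X_pow_sub_C b (Fact.out : p.Prime).ne_zero

theorem nontriv (p : ℕ) [Fact p.Prime] (R : Type u) [CommRing R] [CharP R p] : Nontrivial R := CharP.nontrivial_of_char_ne_one (Fact.out : p.Prime).ne_one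

theorem exists_rep (z : (AdjoinRoot (X ^ p - C b : R[X]))) : ∃ c : Fin p → R, z = ∑ i, c i • (AdjoinRoot.root (X ^ p - C b : R[X])) ^ (i : ℕ) := by
  haveI := nontriv p R
  let pb := AdjoinRoot.powerBasis' (monic_f (p := p) (b := b))
  have hd : pb.dim = p := natDegree_X_pow_sub_C
  refine ⟨fun i => pb.basis.repr z (Fin.cast hd.symm i), ?_⟩
  conv_lhs => rw [← pb.basis.sum_repr z]
  refine Fintype.sum_equiv (finCongr hd) _ _ fun i => ?_
  rw [pb.basis_eq_pow]
  rfl

theorem root_pow : (AdjoinRoot.root (X ^ p - C b : R[X])) ^ p = algebraMap R (AdjoinRoot (X ^ p - C b : R[X])) b := by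
  have := AdjoinRoot.eval₂_root (X ^ p - C b : R[X])
  rwa [eval₂_sub, eval₂_X_pow, eval₂_C, sub_eq_zero] at this

theorem algebraMap_inj : Function.Injective (algebraMap R (AdjoinRoot (X ^ p - C b : R[X]))) := by
  haveI := nontriv p R
  let pb := AdjoinRoot.powerBasis' (monic_f (p := p) (b := b))
  have hd : pb.dim = p := natDegree_X_pow_sub_C
  let j : Fin pb.dim := ⟨0, by rw [hd]; exact (Fact.out : p.Prime).pos⟩
  intro r s h
  have e : ∀ r : R, pb.basis.repr (algebraMap R _ r) j = r := fun r => by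
    have h1 : algebraMap R _ r = r • pb.basis j := by rw [pb.basis_eq_pow, pow_zero, Algebra.algebraMap_eq_smul_one]
    rw [h1, map_smul, pb.basis.repr_self, Finsupp.smul_single, smul_eq_mul, mul_one, Finsupp.single_eq_same]
  rw [← e r, ← e s, h]

variable (hT : ∀ i : ℕ, i + 2 ≤ p → T ((AdjoinRoot.root (X ^ p - C b : R[X])) ^ i • (KaehlerDifferential.D R (AdjoinRoot (X ^ p - C b : R[X]))) (AdjoinRoot.root (X ^ p - C b : R[X]))) = 0)
  (hT' : T ((AdjoinRoot.root (X ^ p - C b : R[X])) ^ (p - 1) • (KaehlerDifferential.D R (AdjoinRoot (X ^ p - C b : R[X]))) (AdjoinRoot.root (X ^ p - C b : R[X]))) = KaehlerDifferential.D ℤ R b)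

include hT in
theorem T_exact (z : (AdjoinRoot (X ^ p - C b : R[X]))) : T ((KaehlerDifferential.D R (AdjoinRoot (X ^ p - C b : R[X]))) z) = 0 := by
  obtain ⟨c, rfl⟩ := exists_rep z
  rw [map_sum, map_sum]
  refine Finset.sum_eq_zero fun i _ => ?_
  rw [Derivation.map_smul, map_smul, Derivation.leibniz_pow, map_nsmul]
  rcases Nat.eq_zero_or_pos (i : ℕ) with h | h
  · rw [h, zero_nsmul, smul_zero]
  · rw [hT _ (by omega), smul_zero, smul_zero]

theorem prime_add_mul_choose {i : ℕ} (h1 : 1 ≤ i) :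
    ((p.choose i / p : ℕ) * i = (p - 1).choose (i - 1) ∨ p ≤ i) ∧
      ((p.choose i / p : ℕ) * (p - i) = (p - 1).choose i ∨ p ≤ i) := by
  by_cases hi : p ≤ i
  · exact ⟨Or.inr hi, Or.inr hi⟩
  have hp := (Fact.out : p.Prime)
  obtain ⟨q, hq⟩ := Nat.Prime.dvd_choose_self hp (by omega) (by omega : i < p)
  obtain ⟨j, rfl⟩ : ∃ j, i = j + 1 := ⟨i - 1, by omega⟩
  obtain ⟨n, hn⟩ : ∃ n, p = n + 1 := ⟨p - 1, by omega⟩
  rw [hq, Nat.mul_div_cancel_left _ hp.pos, hn, Nat.add_sub_cancel, Nat.add_sub_cancel]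
  rw [hn] at hq
  have e1 := Nat.add_one_mul_choose_eq n j
  have e2 := Nat.choose_succ_succ n j
  constructor <;> left
  · apply Nat.eq_of_mul_eq_mul_left (show 0 < n + 1 by omega)
    rw [e1, hq, mul_assoc]
  · apply Nat.eq_of_mul_eq_mul_left (show 0 < n + 1 by omega)
    rw [← mul_assoc, ← hq, mul_comm (n + 1) (n.choose (j + 1)), Nat.choose_mul_succ_eq, Nat.add_sub_add_right]

include hT in
theorem T_add (u v : (AdjoinRoot (X ^ p - C b : R[X]))) : T ((u + v) ^ (p - 1) • (KaehlerDifferential.D R (AdjoinRoot (X ^ p - C b : R[X]))) (u + v)) = T (u ^ (p - 1) • (KaehlerDifferential.D R (AdjoinRoot (X ^ p - C b : R[X]))) u) + T (v ^ (p - 1) • (KaehlerDifferential.D R (AdjoinRoot (X ^ p - C b : R[X]))) v) := by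
  have hp := (Fact.out : p.Prime)
  obtain ⟨n, hn⟩ : ∃ n, p = n + 1 := ⟨p - 1, by have := hp.pos; omega⟩
  let G : (AdjoinRoot (X ^ p - C b : R[X])) := ∑ j ∈ Finset.range n, (p.choose (j + 1) / p) • (u ^ (j + 1) * v ^ (n - j))
  have key : (u + v) ^ n • (KaehlerDifferential.D R (AdjoinRoot (X ^ p - C b : R[X]))) (u + v) = u ^ n • (KaehlerDifferential.D R (AdjoinRoot (X ^ p - C b : R[X]))) u + v ^ n • (KaehlerDifferential.D R (AdjoinRoot (X ^ p - C b : R[X]))) v + (KaehlerDifferential.D R (AdjoinRoot (X ^ p - C b : R[X]))) G := by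
    have hG : (KaehlerDifferential.D R (AdjoinRoot (X ^ p - C b : R[X]))) G = ∑ j ∈ Finset.range n, ((n.choose j : (AdjoinRoot (X ^ p - C b : R[X]))) * (u ^ j * v ^ (n - j))) • (KaehlerDifferential.D R (AdjoinRoot (X ^ p - C b : R[X]))) u +
        ∑ j ∈ Finset.range n, ((n.choose (j + 1) : (AdjoinRoot (X ^ p - C b : R[X]))) * (u ^ (j + 1) * v ^ (n - (j + 1)))) • (KaehlerDifferential.D R (AdjoinRoot (X ^ p - C b : R[X]))) v := by
      rw [map_sum, ← Finset.sum_add_distrib]
      refine Finset.sum_congr rfl fun j hj => ?_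
      rw [Finset.mem_range] at hj
      obtain ⟨e1, e2⟩ := prime_add_mul_choose (p := p) (i := j + 1) (by omega)
      replace e1 := e1.resolve_right (by omega)
      replace e2 := e2.resolve_right (by omega)
      rw [show p - (j + 1) = n - j by omega, show p - 1 = n by omega] at e2
      rw [show p - 1 = n by omega, Nat.add_sub_cancel] at e1
      rw [map_nsmul, Derivation.leibniz, Derivation.leibniz_pow, Derivation.leibniz_pow, ← e1, ← e2,
        Nat.add_sub_cancel, show n - (j + 1) = n - j - 1 by omega, ← Nat.cast_smul_eq_nsmul (AdjoinRoot (X ^ p - C b : R[X])),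
        ← Nat.cast_smul_eq_nsmul (AdjoinRoot (X ^ p - C b : R[X])) (j + 1), ← Nat.cast_smul_eq_nsmul (AdjoinRoot (X ^ p - C b : R[X])) (n - j)]
      push_cast
      module
    rw [hG, map_add, smul_add, add_pow, Finset.sum_smul, Finset.sum_smul]
    conv_lhs => rw [Finset.sum_range_succ, Finset.sum_range_succ']
    simp only [Nat.choose_self, Nat.choose_zero_right, Nat.sub_self, pow_zero, Nat.sub_zero, Nat.cast_one, mul_one,
      one_mul]
    simp only [mul_comm (n.choose _ : (AdjoinRoot (X ^ p - C b : R[X])))]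
    abel
  rw [show p - 1 = n by omega, key, map_add, map_add, T_exact hT, add_zero]

include hT hT' in
theorem T_cartier (u : (AdjoinRoot (X ^ p - C b : R[X]))) : ∃ r : R, u ^ p = algebraMap R (AdjoinRoot (X ^ p - C b : R[X])) r ∧ T (u ^ (p - 1) • (KaehlerDifferential.D R (AdjoinRoot (X ^ p - C b : R[X]))) u) = KaehlerDifferential.D ℤ R r := by
  haveI := nontriv p R
  haveI : CharP (AdjoinRoot (X ^ p - C b : R[X])) p := charP_of_injective_algebraMap algebraMap_inj p
  have hp := (Fact.out : p.Prime)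
  obtain ⟨c, rfl⟩ := exists_rep u
  induction (Finset.univ : Finset (Fin p)) using Finset.induction_on with
  | empty => exact ⟨0, by simp [hp.ne_zero], by simp⟩
  | insert i s hi ih =>
    obtain ⟨r, hr, hr'⟩ := ih
    refine ⟨c i ^ p * b ^ (i : ℕ) + r, ?_, ?_⟩
    · rw [Finset.sum_insert hi, add_pow_char, hr, map_add, map_mul, map_pow, map_pow, ← root_pow, Algebra.smul_def, mul_pow,
        ← pow_mul, ← pow_mul, mul_comm (i : ℕ) p]
    · rw [Finset.sum_insert hi, T_add hT, hr', map_add]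
      congr 1
      rw [Derivation.map_smul, Derivation.leibniz_pow, _root_.smul_pow, smul_comm (c i) (i : ℕ), smul_comm _ (i : ℕ), map_nsmul,
        Derivation.leibniz, Derivation.leibniz_pow, Derivation.leibniz_pow]
      have hz : (p : ℕ) • (c i ^ (p - 1) • KaehlerDifferential.D ℤ R (c i)) = 0 := by
        rw [← Nat.cast_smul_eq_nsmul R, CharP.cast_eq_zero, zero_smul]
      rw [hz, smul_zero, add_zero]
      rcases Nat.eq_zero_or_pos (i : ℕ) with h | h
      · rw [h, zero_nsmul, zero_nsmul, smul_zero]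
      · have e : (c i ^ (p - 1) • ((AdjoinRoot.root (X ^ p - C b : R[X])) ^ (i : ℕ)) ^ (p - 1)) • c i • ((AdjoinRoot.root (X ^ p - C b : R[X])) ^ ((i : ℕ) - 1) • (KaehlerDifferential.D R (AdjoinRoot (X ^ p - C b : R[X]))) (AdjoinRoot.root (X ^ p - C b : R[X]))) =
            (c i ^ p * b ^ ((i : ℕ) - 1)) • ((AdjoinRoot.root (X ^ p - C b : R[X])) ^ (p - 1) • (KaehlerDifferential.D R (AdjoinRoot (X ^ p - C b : R[X]))) (AdjoinRoot.root (X ^ p - C b : R[X]))) := by
          rw [← smul_assoc (c i), ← smul_assoc, ← smul_assoc (c i ^ p * _)]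
          congr 1
          rw [smul_eq_mul, smul_mul_smul_comm, ← pow_succ, Nat.sub_add_cancel hp.pos, ← pow_mul, ← pow_add,
            Algebra.smul_def, Algebra.smul_def, map_mul, map_pow _ b, ← root_pow, ← pow_mul, mul_assoc, ← pow_add]
          congr 2
          obtain ⟨j, hj⟩ : ∃ j, (i : ℕ) = j + 1 := ⟨(i : ℕ) - 1, by omega⟩
          obtain ⟨n, hn⟩ : ∃ n, p = n + 1 := ⟨p - 1, by have := hp.pos; omega⟩
          rw [hj, Nat.add_sub_cancel]
          subst hn
          simp only [Nat.add_sub_cancel]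
          ring
        rw [e, map_smul, hT', smul_comm (c i ^ p) (i : ℕ), smul_smul]

end Trace

/-- Let p be a prime number and R an F_p-algebra, a, b ∈ R, S_a = R[x]/(x^p - a) and S_b = R[y]/(y^p -
b). The trace Tr_x : Ω_{S_a/R} → Ω_R is the R-linear map with x^i dx ↦ 0 for 0 ≤ i ≤ p - 2 and
x^{p-1} dx ↦ da (these determine it, Ω_{S_a/R} being free over R on the x^i dx), and similarly Tr_y.
Then for every R-algebra homomorphism φ : S_a → S_b one has Tr_x = Tr_y ∘ φ_*: for all s, t ∈ S_a,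
Tr_x(s dt) = Tr_y(φ(s) dφ(t)). Here Ω_R is the module of absolute differentials Ω_{R/Z}. -/
theorem result (p : ℕ) [Fact p.Prime] (R : Type u) [CommRing R] [CharP R p] (a b : R)
    (φ : AdjoinRoot (X ^ p - C a : R[X]) →ₐ[R] AdjoinRoot (X ^ p - C b : R[X]))
    (Tx : Ω[AdjoinRoot (X ^ p - C a : R[X])⁄R] →ₗ[R] Ω[R⁄ℤ])
    (Ty : Ω[AdjoinRoot (X ^ p - C b : R[X])⁄R] →ₗ[R] Ω[R⁄ℤ])
    (hTx : ∀ i : ℕ, i + 2 ≤ p →
      Tx (AdjoinRoot.root (X ^ p - C a) ^ i • KaehlerDifferential.D R _ (AdjoinRoot.root (X ^ p - C a))) = 0)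
    (hTx' : Tx (AdjoinRoot.root (X ^ p - C a) ^ (p - 1) • KaehlerDifferential.D R _ (AdjoinRoot.root (X ^ p - C a))) =
      KaehlerDifferential.D ℤ R a)
    (hTy : ∀ i : ℕ, i + 2 ≤ p →
      Ty (AdjoinRoot.root (X ^ p - C b) ^ i • KaehlerDifferential.D R _ (AdjoinRoot.root (X ^ p - C b))) = 0)
    (hTy' : Ty (AdjoinRoot.root (X ^ p - C b) ^ (p - 1) • KaehlerDifferential.D R _ (AdjoinRoot.root (X ^ p - C b))) =
      KaehlerDifferential.D ℤ R b)
    (s t : AdjoinRoot (X ^ p - C a : R[X])) :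
    Tx (s • KaehlerDifferential.D R _ t) = Ty (φ s • KaehlerDifferential.D R _ (φ t)) := by
  haveI := nontriv p R
  letI : Algebra (AdjoinRoot (X ^ p - C a : R[X])) (AdjoinRoot (X ^ p - C b : R[X])) := φ.toRingHom.toAlgebra
  haveI : IsScalarTower R (AdjoinRoot (X ^ p - C a : R[X])) (AdjoinRoot (X ^ p - C b : R[X])) :=
    IsScalarTower.of_algebraMap_eq fun r => (φ.commutes r).symm
  let ψ := KaehlerDifferential.map R R (AdjoinRoot (X ^ p - C a : R[X])) (AdjoinRoot (X ^ p - C b : R[X]))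
  have hψ : ∀ s t, ψ (s • KaehlerDifferential.D R _ t) = φ s • KaehlerDifferential.D R _ (φ t) := fun s t => by
    rw [map_smul, KaehlerDifferential.map_D, algebra_compatible_smul (AdjoinRoot (X ^ p - C b : R[X]))]
    rfl
  set x := AdjoinRoot.root (X ^ p - C a : R[X])
  have hb : ∀ i : Fin p, Tx (x ^ (i : ℕ) • KaehlerDifferential.D R _ x) =
      Ty (φ x ^ (i : ℕ) • KaehlerDifferential.D R _ (φ x)) := by
    intro i
    by_cases h : (i : ℕ) + 2 ≤ p
    · rw [hTx _ h]
      have h0 := T_exact hTy (φ x ^ ((i : ℕ) + 1))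
      rw [Derivation.leibniz_pow, map_nsmul, Nat.add_sub_cancel, ← Nat.cast_smul_eq_nsmul R] at h0
      obtain ⟨q, hq⟩ : IsUnit (((i : ℕ) + 1 : ℕ) : R) := by
        rw [CharP.isUnit_natCast_iff (Fact.out : p.Prime)]
        exact fun hd => absurd (Nat.le_of_dvd (by omega) hd) (by omega)
      rw [← hq] at h0
      exact ((smul_eq_zero_iff_eq q).1 h0).symm
    · rw [show (i : ℕ) = p - 1 by omega, hTx']
      obtain ⟨r, hr, hr'⟩ := T_cartier hTy hTy' (φ x)
      rw [hr']
      congr 1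
      refine (algebraMap_inj (p := p) (b := b) ?_).symm
      rw [← hr, ← map_pow, root_pow, φ.commutes]
  have hs : ∀ s : AdjoinRoot (X ^ p - C a : R[X]), Tx (s • KaehlerDifferential.D R _ x) = Ty (ψ (s • KaehlerDifferential.D R _ x)) := by
    intro s
    obtain ⟨c, rfl⟩ := exists_rep s
    rw [Finset.sum_smul, map_sum, map_sum, map_sum]
    refine Finset.sum_congr rfl fun i _ => ?_
    rw [smul_assoc, LinearMap.map_smul_of_tower ψ (c i), LinearMap.map_smul Tx (c i), LinearMap.map_smul Ty (c i), hψ, map_pow, hb]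
  obtain ⟨c, hc⟩ := exists_rep t
  have ht : ∃ s' : AdjoinRoot (X ^ p - C a : R[X]), s • KaehlerDifferential.D R _ t = s' • KaehlerDifferential.D R _ x := by
    refine ⟨∑ i, s * (c i • ((i : ℕ) • x ^ ((i : ℕ) - 1))), ?_⟩
    rw [hc, map_sum, Finset.smul_sum, Finset.sum_smul]
    refine Finset.sum_congr rfl fun i _ => ?_
    rw [Derivation.map_smul, Derivation.leibniz_pow, mul_smul, smul_assoc, smul_assoc]
  obtain ⟨s', hs'⟩ := ht
  rw [← hψ, hs', hs]

end Groth.Agent.S7340
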