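import Groth.Statements.S7341
import Groth.Agent.NumType.Chain

set_option autoImplicit false
open Finset
open Models Models.NumericalType

namespace Groth.Agent.S7341

/-- Classification of proper subgraphs which are chains of three vertices: let T be a numerical type on
n > 3 indices and i, j, k distinct (-2)-indices with a_ij > 0 and a_jk > 0. Then a_ik = 0 and, up to
reversing the order of i, j, k, one of the following holds for some integer w: (A3) w_i = w_j = w_k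
= w, a_ij = a_jk = w, with 2 m_i ≥ m_j, 2 m_j ≥ m_i + m_k, 2 m_k ≥ m_j; (C3) w_i = w_j = w, w_k =
2w, a_ij = w, a_jk = 2w, with 2 m_i ≥ m_j, 2 m_j ≥ m_i + 2 m_k, 2 m_k ≥ m_j; (B3) w_i = w_j = 2w,
w_k = w, a_ij = a_jk = 2w, with 2 m_i ≥ m_j, 2 m_j ≥ m_i + m_k, m_k ≥ m_j. -/
theorem result {n : ℕ} (T : Models.NumericalType n) (hn : 3 < n) (i j k : Fin n)
    (hij : i ≠ j) (hjk : j ≠ k) (hik : i ≠ k) (hi : T.IsMinusTwo i) (hj : T.IsMinusTwo j) (hk : T.IsMinusTwo k)
    (h1 : 0 < T.a i j) (h2 : 0 < T.a j k) :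
    T.a i k = 0 ∧ ∃ (i' k' : Fin n) (w : ℤ), ((i' = i ∧ k' = k) ∨ (i' = k ∧ k' = i)) ∧
      ((T.w i' = w ∧ T.w j = w ∧ T.w k' = w ∧ T.a i' j = w ∧ T.a j k' = w ∧
          T.m j ≤ 2 * T.m i' ∧ T.m i' + T.m k' ≤ 2 * T.m j ∧ T.m j ≤ 2 * T.m k') ∨
        (T.w i' = w ∧ T.w j = w ∧ T.w k' = 2 * w ∧ T.a i' j = w ∧ T.a j k' = 2 * w ∧
          T.m j ≤ 2 * T.m i' ∧ T.m i' + 2 * T.m k' ≤ 2 * T.m j ∧ T.m j ≤ 2 * T.m k') ∨
        (T.w i' = 2 * w ∧ T.w j = 2 * w ∧ T.w k' = w ∧ T.a i' j = 2 * w ∧ T.a j k' = 2 * w ∧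
          T.m j ≤ 2 * T.m i' ∧ T.m i' + T.m k' ≤ 2 * T.m j ∧ T.m j ≤ T.m k')) := by
  open Groth.Agent.NumType in
  have hc := chain_of (T := T) ⟨![i, j, k], by
      intro a b e; fin_cases a <;> fin_cases b <;>
        first
        | rfl
        | exact absurd e hij
        | exact absurd e hik
        | exact absurd e hjk
        | exact absurd e.symm hij
        | exact absurd e.symm hik
        | exact absurd e.symm hjk⟩
    (by omega) (by omega) (by intro a; fin_cases a <;> assumption) (by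
      intro a b hb; fin_cases a <;> fin_cases b <;>
        first | exact absurd hb (by decide) | exact h1.ne' | exact h2.ne')
  refine ⟨hc.zero (a := 0) (b := 2) (by omega) (by omega), ?_⟩
  obtain ⟨u', hu', hc', hcase⟩ := chain_normal hc (by omega)
  obtain ⟨hj', hend⟩ : u' 1 = j ∧ ((u' 0 = i ∧ u' 2 = k) ∨ (u' 0 = k ∧ u' 2 = i)) := by
    rcases hu' with rfl | rfl
    · exact ⟨rfl, Or.inl ⟨rfl, rfl⟩⟩
    · exact ⟨rfl, Or.inr ⟨rfl, rfl⟩⟩
  subst hj'
  rcases hcase with h1 | ⟨hs, hd⟩ | ⟨hs, hd⟩ | ⟨h4, s0, hd, s2⟩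
  · refine ⟨u' 0, u' 2, T.w (u' 0), hend, Or.inl ?_⟩
    obtain ⟨e0, a0⟩ : Simple T (u' 0) (u' 1) := h1 0 (by omega)
    obtain ⟨e1, a1⟩ : Simple T (u' 1) (u' 2) := h1 1 (by omega)
    have i0 := le_chain_start hc' (a := 0) (by omega) (c := 1) (by linarith)
    have i1 := le_chain_mid hc' (a := 0) (by omega) (c := 1) (e := 1) (by linarith) (by linarith)
    have i2 := le_chain_end hc' (a := 1) (by omega) (c := 1) (by linarith)
    norm_num at i0 i1 i2 ⊢
    (repeat' apply And.intro) <;> linarith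
  · refine ⟨u' 0, u' 2, T.w (u' 0), hend, Or.inr (Or.inl ?_)⟩
    obtain ⟨e0, a0⟩ : Simple T (u' 0) (u' 1) := hs 0 (by omega)
    obtain ⟨e1, a1⟩ : Double T (u' 1) (u' 2) := hd
    have i0 := le_chain_start hc' (a := 0) (by omega) (c := 1) (by linarith)
    have i1 := le_chain_mid hc' (a := 0) (by omega) (c := 1) (e := 2) (by linarith) (by linarith)
    have i2 := le_chain_end hc' (a := 1) (by omega) (c := 1) (by linarith)
    norm_num at i0 i1 i2 ⊢
    (repeat' apply And.intro) <;> linarith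
  · refine ⟨u' 0, u' 2, T.w (u' 2), hend, Or.inr (Or.inr ?_)⟩
    obtain ⟨e0, a0⟩ : Simple T (u' 0) (u' 1) := hs 0 (by omega)
    obtain ⟨e1, b1⟩ : Double T (u' 2) (u' 1) := hd
    have a1 : T.a (u' 1) (u' 2) = T.w (u' 1) := by rw [T.symm.apply]; exact b1
    have i0 := le_chain_start hc' (a := 0) (by omega) (c := 1) (by linarith)
    have i1 := le_chain_mid hc' (a := 0) (by omega) (c := 1) (e := 1) (by linarith) (by linarith)
    have i2 := le_chain_end hc' (a := 1) (by omega) (c := 2) (by linarith)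
    norm_num at i0 i1 i2 ⊢
    (repeat' apply And.intro) <;> linarith
  · omega

end Groth.Agent.S7341
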