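import Groth.Statements.S7342
import Groth.Agent.NumType.Chain

set_option autoImplicit false
open Finset
open Models Models.NumericalType

namespace Groth.Agent.S7342

/-- Let T be a numerical type on n indices, t ≥ 4 and n > t + 2. Then no t + 2 (-2)-indices of T,
pairwise distinct and numbered i_0, …, i_{t+1}, satisfy: a_{i_j i_{j+1}} > 0 for 1 ≤ j ≤ t - 1,
a_{i_0 i_2} > 0 and a_{i_{t-1} i_{t+1}} > 0. -/
theorem result {n : ℕ} (T : Models.NumericalType n) (t : ℕ) (ht : 4 ≤ t) (hn : t + 2 < n)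
    (v : Fin (t + 2) ↪ Fin n) (hv : ∀ j, T.IsMinusTwo (v j))
    (hchain : ∀ j j' : Fin (t + 2), 1 ≤ j.val → j.val + 1 ≤ t → j'.val = j.val + 1 → 0 < T.a (v j) (v j'))
    (h02 : ∀ j j' : Fin (t + 2), j.val = 0 → j'.val = 2 → 0 < T.a (v j) (v j'))
    (hlast : ∀ j j' : Fin (t + 2), j.val = t - 1 → j'.val = t + 1 → 0 < T.a (v j) (v j')) : False := by
  open Groth.Agent.NumType in
  open Finset in
  have hp0 : 0 < t + 2 := by omega
  set u := extFun v hp0
  have hu : ∀ a (ha : a < t + 2), u a = v ⟨a, ha⟩ := fun a ha => extFun_eq _ _ ha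
  have hinj : ∀ a b, a < t + 2 → b < t + 2 → u a = u b → a = b := fun a b ha hb e => by
    rw [hu a ha, hu b hb] at e; exact congrArg Fin.val (v.injective e)
  have hr : ∀ a b, (ha : a < t + 2) → (hb : b < t + 2) → a ≠ b →
      (0 < T.a (v ⟨a, ha⟩) (v ⟨b, hb⟩) ∨ 0 < T.a (v ⟨b, hb⟩) (v ⟨a, ha⟩)) → 1 ≤ r T (u a) (u b) := by
    intro a b ha hb hab h
    rw [hu a ha, hu b hb]
    refine one_le_r (v.injective.ne fun e => hab (congrArg Fin.val e)) ?_
    rcases h with h | h
    · exact h.ne'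
    · rw [T.symm.apply]; exact h.ne'
  let d : ℕ → ℝ := fun j => if 2 ≤ j ∧ j + 1 ≤ t then 2 else 1
  have h0 : ∀ b, 0 ≤ d b := fun b => by simp only [d]; split_ifs <;> norm_num
  refine null_contra_nat hinj hn (fun a ha => by rw [hu a ha]; exact hv _) d (fun a _ => h0 a)
    ⟨0, by omega, by simp [d]⟩ fun a ha _ => ?_
  have mid : ∀ b, 2 ≤ b → b + 1 ≤ t → d b = 2 := fun b h1 h2 => if_pos ⟨h1, h2⟩
  have out : ∀ b, (b < 2 ∨ t ≤ b) → d b = 1 := fun b h1 => if_neg (by omega)
  have up : ∀ b, 1 ≤ b → b + 1 ≤ t → 1 ≤ r T (u b) (u (b + 1)) ∧ 1 ≤ r T (u (b + 1)) (u b) := by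
    intro b h1 h2
    have := hr b (b + 1) (by omega) (by omega) (by omega)
      (Or.inl (hchain ⟨b, by omega⟩ ⟨b + 1, by omega⟩ h1 h2 rfl))
    exact ⟨this, r_symm T _ _ ▸ this⟩
  have e0 : 1 ≤ r T (u 0) (u 2) := hr 0 2 (by omega) (by omega) (by omega) (Or.inl (h02 _ _ rfl rfl))
  have el : 1 ≤ r T (u (t - 1)) (u (t + 1)) :=
    hr (t - 1) (t + 1) (by omega) (by omega) (by omega) (Or.inl (hlast _ _ rfl rfl))
  rcases (show a = 0 ∨ a = 1 ∨ a = 2 ∨ (3 ≤ a ∧ a + 2 ≤ t) ∨ a + 1 = t ∨ a = t ∨ a = t + 1 by omega)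
    with rfl | rfl | rfl | ⟨h1, h2⟩ | h1 | rfl | rfl
  · exact le_one_nbr (b := 2) ⟨by omega, by omega⟩ e0 (h0 _)
      (by rw [out 0 (by omega), mid 2 le_rfl (by omega), one_mul]; norm_num)
  · exact le_one_nbr (b := 2) ⟨by omega, by omega⟩ (up 1 le_rfl (by omega)).1 (h0 _)
      (by rw [out 1 (by omega), mid 2 le_rfl (by omega), one_mul]; norm_num)
  · exact le_three_nbr (b := 0) (b' := 1) (b'' := 3) ⟨by omega, by omega⟩ ⟨by omega, by omega⟩
      ⟨by omega, by omega⟩ (by omega) (by omega) (by omega) (r_symm T (u 0) _ ▸ e0)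
      (up 1 le_rfl (by omega)).2 (up 2 (by omega) (by omega)).1 (h0 _) (h0 _) (h0 _)
      (by rw [out 0 (by omega), out 1 (by omega), mid 2 le_rfl (by omega),
        mid 3 (by omega) (by omega)]; norm_num)
  · have := (up (a - 1) (by omega) (by omega)).2
    rw [show a - 1 + 1 = a by omega] at this
    exact le_two_nbr (b := a - 1) (b' := a + 1) ⟨by omega, by omega⟩ ⟨by omega, by omega⟩
      (by omega) this (up a (by omega) (by omega)).1 (h0 _) (h0 _)
      (by rw [mid a (by omega) (by omega), mid (a - 1) (by omega) (by omega),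
        mid (a + 1) (by omega) (by omega)]; norm_num)
  · obtain rfl : a = t - 1 := by omega
    have h3 := (up (t - 2) (by omega) (by omega)).2
    rw [show t - 2 + 1 = t - 1 by omega] at h3
    have h4 := (up (t - 1) (by omega) (by omega)).1
    rw [show t - 1 + 1 = t by omega] at h4
    exact le_three_nbr (b := t - 2) (b' := t) (b'' := t + 1) ⟨by omega, by omega⟩
      ⟨by omega, by omega⟩ ⟨by omega, by omega⟩ (by omega) (by omega) (by omega) h3 h4 el
      (h0 _) (h0 _) (h0 _)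
      (by rw [mid (t - 1) (by omega) (by omega), mid (t - 2) (by omega) (by omega),
        out t (by omega), out (t + 1) (by omega)]; norm_num)
  · have h4 := (up (a - 1) (by omega) (by omega)).2
    rw [show a - 1 + 1 = a by omega] at h4
    exact le_one_nbr (b := a - 1) ⟨by omega, by omega⟩ h4 (h0 _)
      (by rw [out a (by omega), mid (a - 1) (by omega) (by omega)]; norm_num)
  · exact le_one_nbr (b := t - 1) ⟨by omega, by omega⟩ (r_symm T (u (t - 1)) _ ▸ el) (h0 _)
      (by rw [out (t + 1) (by omega), mid (t - 1) (by omega) (by omega)]; norm_num)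

end Groth.Agent.S7342
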