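import Groth.Statements.S7344
import Groth.Agent.NumType.Apply

set_option autoImplicit false
open Finset
open Models Models.NumericalType

namespace Groth.Agent.S7344

/-- Let T be a numerical type on n > 8 indices. Then no eight (-2)-indices of T, pairwise distinct and
named e, f, g, h, i, j, k, l, have a_ef, a_fg, a_gh, a_hi, a_ij, a_jk and a_lh all nonzero (a chain
of seven, e to k, with l joined to its fourth vertex h). -/
theorem result {n : ℕ} (T : Models.NumericalType n) (hn : 8 < n)
    (v : Fin 8 ↪ Fin n) (hv : ∀ j, T.IsMinusTwo (v j))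
    (h01 : T.a (v 0) (v 1) ≠ 0) (h12 : T.a (v 1) (v 2) ≠ 0) (h23 : T.a (v 2) (v 3) ≠ 0)
    (h34 : T.a (v 3) (v 4) ≠ 0) (h45 : T.a (v 4) (v 5) ≠ 0) (h56 : T.a (v 5) (v 6) ≠ 0)
    (h73 : T.a (v 7) (v 3) ≠ 0) : False := by
  open Groth.Agent.NumType in
  refine null_contra_tree v (by omega) hv ![1,2,3,4,3,2,1,2] ![1,2,3,3,3,4,5,3] ⟨0, by decide⟩
    (by decide) fun j => ?_
  fin_cases j <;> first | exact Or.inl rfl | (right; first | exact h01 | exact h12 | exact h23 | exact h34 | exact h45 | exact h56 | exact h73 | exact sne h01 | exact sne h12 | exact sne h23 | exact sne h34 | exact sne h45 | exact sne h56 | exact sne h73)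

end Groth.Agent.S7344
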