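import Groth.Statements.S7346
import Groth.Agent.NumType.Apply

set_option autoImplicit false
open Finset
open Models Models.NumericalType

namespace Groth.Agent.S7346

/-- Classification of proper subgraphs of type D4 (one vertex joined to three others): let T be a
numerical type on n > 4 indices and i_1, …, i_4 distinct (-2)-indices with a_{12}, a_{13}, a_{14}
nonzero. Then for some integer w all w_{i_j} equal w, these intersection numbers equal w, all other
a_{i_j i_k} (j ≠ k) vanish, and 2 m_1 ≥ m_2 + m_3 + m_4, 2 m_2 ≥ m_1, 2 m_3 ≥ m_1, 2 m_4 ≥ m_1. -/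
theorem result {n : ℕ} (T : Models.NumericalType n) (hn : 4 < n)
    (v : Fin 4 ↪ Fin n) (hv : ∀ j, T.IsMinusTwo (v j)) (h01 : T.a (v 0) (v 1) ≠ 0) (h02 : T.a (v 0) (v 2) ≠ 0) (h03 : T.a (v 0) (v 3) ≠ 0) :
    ∃ w : ℤ, (∀ j : Fin 4, T.w (v j) = w) ∧
      T.a (v 0) (v 1) = w ∧
      T.a (v 0) (v 2) = w ∧
      T.a (v 0) (v 3) = w ∧
      T.a (v 1) (v 2) = 0 ∧
      T.a (v 1) (v 3) = 0 ∧
      T.a (v 2) (v 3) = 0 ∧
      T.m (v 1) + T.m (v 2) + T.m (v 3) ≤ 2 * T.m (v 0) ∧
      T.m (v 0) ≤ 2 * T.m (v 1) ∧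
      T.m (v 0) ≤ 2 * T.m (v 2) ∧
      T.m (v 0) ≤ 2 * T.m (v 3) := by
  open Groth.Agent.NumType in
  have f0 := fork_of v (by omega) hv 3 (by omega) ![1,0,2,3] (by decide)
    (by intro a ha; fin_cases a <;> first | exact absurd ha (by decide) | exact h01 | exact h02 | exact h03 | exact sne h01 | exact sne h02 | exact sne h03) (by first | exact h01 | exact h02 | exact h03 | exact sne h01 | exact sne h02 | exact sne h03)
  have s01 : Simple T (v 0) (v 1) := by
    exact (f0.edge_simple (k := 0) (by omega)).symm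
  have s02 : Simple T (v 0) (v 2) := by
    exact (f0.edge_simple (k := 1) (by omega))
  have s03 : Simple T (v 0) (v 3) := by
    exact (f0.branch_simple)
  have Z : ∀ x y : Fin 4, x ≠ y → (![0,0,0,0] : Fin 4 → Fin 4) x ≠ y → (![0,0,0,0] : Fin 4 → Fin 4) y ≠ x → T.a (v x) (v y) = 0 :=
    fun x y hxy hx hy => tree_zero v (by omega) hv ![0,0,0,0] 0 (by decide)
      (by intro j hj; fin_cases j <;> first | exact absurd rfl hj | (refine ⟨by decide, ?_⟩; first | exact h01 | exact h02 | exact h03 | exact sne h01 | exact sne h02 | exact sne h03)) (by decide) hxy hx hy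
  have W0 : T.w (v 0) = T.w (v 0) := rfl
  obtain ⟨W1, A01, -, -⟩ : T.w (v 1) = T.w (v 0) ∧ T.a (v 0) (v 1) = T.w (v 0) ∧ True ∧ True :=
    ⟨(simple_val s01 W0).1, (simple_val s01 W0).2.1, trivial, trivial⟩
  obtain ⟨W2, A02, -, -⟩ : T.w (v 2) = T.w (v 0) ∧ T.a (v 0) (v 2) = T.w (v 0) ∧ True ∧ True :=
    ⟨(simple_val s02 W0).1, (simple_val s02 W0).2.1, trivial, trivial⟩
  obtain ⟨W3, A03, -, -⟩ : T.w (v 3) = T.w (v 0) ∧ T.a (v 0) (v 3) = T.w (v 0) ∧ True ∧ True :=
    ⟨(simple_val s03 W0).1, (simple_val s03 W0).2.1, trivial, trivial⟩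
  refine ⟨T.w (v 0), fun j => by fin_cases j <;> assumption,
  A01,
  A02,
  A03,
  Z 1 2 (by decide) (by decide) (by decide),
  Z 1 3 (by decide) (by decide) (by decide),
  Z 2 3 (by decide) (by decide) (by decide),
  by simpa using le_three (k := v 1) (l := v 2) (o := v 3) (hv _) (v.injective.ne (by decide)) (v.injective.ne (by decide)) (v.injective.ne (by decide)) (v.injective.ne (by decide)) (v.injective.ne (by decide)) (v.injective.ne (by decide)) (simple_val s01 rfl).2.2.1 (simple_val s02 rfl).2.2.1 (simple_val s03 rfl).2.2.1,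
  by simpa using le_one (k := v 0) (hv _) (v.injective.ne (by decide)) (simple_val s01 rfl).2.2.2,
  by simpa using le_one (k := v 0) (hv _) (v.injective.ne (by decide)) (simple_val s02 rfl).2.2.2,
  by simpa using le_one (k := v 0) (hv _) (v.injective.ne (by decide)) (simple_val s03 rfl).2.2.2⟩

end Groth.Agent.S7346
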