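import Groth.Statements.S7349
import Groth.Agent.NumType.Apply

set_option autoImplicit false
open Finset
open Models Models.NumericalType

namespace Groth.Agent.S7349

/-- Classification of proper subgraphs of type E7 (a chain i_1 … i_6 with i_7 joined to i_4): let T be a
numerical type on n > 7 indices and i_1, …, i_7 distinct (-2)-indices with a_{12}, a_{23}, a_{34},
a_{45}, a_{56}, a_{47} nonzero. Then for some integer w all w_{i_j} equal w, these intersection
numbers equal w, all other a_{i_j i_k} (j ≠ k) vanish, and 2 m_1 ≥ m_2, 2 m_2 ≥ m_1 + m_3, 2 m_3 ≥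
m_2 + m_4, 2 m_4 ≥ m_3 + m_5 + m_7, 2 m_5 ≥ m_4 + m_6, 2 m_6 ≥ m_5, 2 m_7 ≥ m_4. -/
theorem result {n : ℕ} (T : Models.NumericalType n) (hn : 7 < n)
    (v : Fin 7 ↪ Fin n) (hv : ∀ j, T.IsMinusTwo (v j)) (h01 : T.a (v 0) (v 1) ≠ 0) (h12 : T.a (v 1) (v 2) ≠ 0) (h23 : T.a (v 2) (v 3) ≠ 0) (h34 : T.a (v 3) (v 4) ≠ 0) (h45 : T.a (v 4) (v 5) ≠ 0) (h36 : T.a (v 3) (v 6) ≠ 0) :
    ∃ w : ℤ, (∀ j : Fin 7, T.w (v j) = w) ∧
      T.a (v 0) (v 1) = w ∧
      T.a (v 1) (v 2) = w ∧
      T.a (v 2) (v 3) = w ∧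
      T.a (v 3) (v 4) = w ∧
      T.a (v 4) (v 5) = w ∧
      T.a (v 3) (v 6) = w ∧
      T.a (v 0) (v 2) = 0 ∧
      T.a (v 0) (v 3) = 0 ∧
      T.a (v 0) (v 4) = 0 ∧
      T.a (v 0) (v 5) = 0 ∧
      T.a (v 0) (v 6) = 0 ∧
      T.a (v 1) (v 3) = 0 ∧
      T.a (v 1) (v 4) = 0 ∧
      T.a (v 1) (v 5) = 0 ∧
      T.a (v 1) (v 6) = 0 ∧
      T.a (v 2) (v 4) = 0 ∧
      T.a (v 2) (v 5) = 0 ∧
      T.a (v 2) (v 6) = 0 ∧
      T.a (v 3) (v 5) = 0 ∧
      T.a (v 4) (v 6) = 0 ∧
      T.a (v 5) (v 6) = 0 ∧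
      T.m (v 1) ≤ 2 * T.m (v 0) ∧
      T.m (v 0) + T.m (v 2) ≤ 2 * T.m (v 1) ∧
      T.m (v 1) + T.m (v 3) ≤ 2 * T.m (v 2) ∧
      T.m (v 2) + T.m (v 4) + T.m (v 6) ≤ 2 * T.m (v 3) ∧
      T.m (v 3) + T.m (v 5) ≤ 2 * T.m (v 4) ∧
      T.m (v 4) ≤ 2 * T.m (v 5) ∧
      T.m (v 3) ≤ 2 * T.m (v 6) := by
  open Groth.Agent.NumType in
  have f0 := fork_of v (by omega) hv 5 (by omega) ![0,1,2,3,4,6] (by decide)
    (by intro a ha; fin_cases a <;> first | exact absurd ha (by decide) | exact h01 | exact h12 | exact h23 | exact h34 | exact h45 | exact h36 | exact sne h01 | exact sne h12 | exact sne h23 | exact sne h34 | exact sne h45 | exact sne h36) (by first | exact h01 | exact h12 | exact h23 | exact h34 | exact h45 | exact h36 | exact sne h01 | exact sne h12 | exact sne h23 | exact sne h34 | exact sne h45 | exact sne h36)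
  have f1 := fork_of v (by omega) hv 4 (by omega) ![5,4,3,2,6] (by decide)
    (by intro a ha; fin_cases a <;> first | exact absurd ha (by decide) | exact h01 | exact h12 | exact h23 | exact h34 | exact h45 | exact h36 | exact sne h01 | exact sne h12 | exact sne h23 | exact sne h34 | exact sne h45 | exact sne h36) (by first | exact h01 | exact h12 | exact h23 | exact h34 | exact h45 | exact h36 | exact sne h01 | exact sne h12 | exact sne h23 | exact sne h34 | exact sne h45 | exact sne h36)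
  have s01 : Simple T (v 0) (v 1) := by
    exact (f0.edge_simple (k := 0) (by omega))
  have s12 : Simple T (v 1) (v 2) := by
    exact (f0.edge_simple (k := 1) (by omega))
  have s23 : Simple T (v 2) (v 3) := by
    exact (f0.edge_simple (k := 2) (by omega))
  have s34 : Simple T (v 3) (v 4) := by
    exact (f0.edge_simple (k := 3) (by omega))
  have s45 : Simple T (v 4) (v 5) := by
    exact (f1.edge_simple (k := 0) (by omega)).symm
  have s36 : Simple T (v 3) (v 6) := by
    exact (f0.branch_simple)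
  have Z : ∀ x y : Fin 7, x ≠ y → (![0,0,1,2,3,4,3] : Fin 7 → Fin 7) x ≠ y → (![0,0,1,2,3,4,3] : Fin 7 → Fin 7) y ≠ x → T.a (v x) (v y) = 0 :=
    fun x y hxy hx hy => tree_zero v (by omega) hv ![0,0,1,2,3,4,3] 0 (by decide)
      (by intro j hj; fin_cases j <;> first | exact absurd rfl hj | (refine ⟨by decide, ?_⟩; first | exact h01 | exact h12 | exact h23 | exact h34 | exact h45 | exact h36 | exact sne h01 | exact sne h12 | exact sne h23 | exact sne h34 | exact sne h45 | exact sne h36)) (by decide) hxy hx hy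
  have W0 : T.w (v 0) = T.w (v 0) := rfl
  obtain ⟨W1, A01, -, -⟩ : T.w (v 1) = T.w (v 0) ∧ T.a (v 0) (v 1) = T.w (v 0) ∧ True ∧ True :=
    ⟨(simple_val s01 W0).1, (simple_val s01 W0).2.1, trivial, trivial⟩
  obtain ⟨W2, A12, -, -⟩ : T.w (v 2) = T.w (v 0) ∧ T.a (v 1) (v 2) = T.w (v 0) ∧ True ∧ True :=
    ⟨(simple_val s12 W1).1, (simple_val s12 W1).2.1, trivial, trivial⟩
  obtain ⟨W3, A23, -, -⟩ : T.w (v 3) = T.w (v 0) ∧ T.a (v 2) (v 3) = T.w (v 0) ∧ True ∧ True :=
    ⟨(simple_val s23 W2).1, (simple_val s23 W2).2.1, trivial, trivial⟩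
  obtain ⟨W4, A34, -, -⟩ : T.w (v 4) = T.w (v 0) ∧ T.a (v 3) (v 4) = T.w (v 0) ∧ True ∧ True :=
    ⟨(simple_val s34 W3).1, (simple_val s34 W3).2.1, trivial, trivial⟩
  obtain ⟨W5, A45, -, -⟩ : T.w (v 5) = T.w (v 0) ∧ T.a (v 4) (v 5) = T.w (v 0) ∧ True ∧ True :=
    ⟨(simple_val s45 W4).1, (simple_val s45 W4).2.1, trivial, trivial⟩
  obtain ⟨W6, A36, -, -⟩ : T.w (v 6) = T.w (v 0) ∧ T.a (v 3) (v 6) = T.w (v 0) ∧ True ∧ True :=
    ⟨(simple_val s36 W3).1, (simple_val s36 W3).2.1, trivial, trivial⟩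
  refine ⟨T.w (v 0), fun j => by fin_cases j <;> assumption,
  A01,
  A12,
  A23,
  A34,
  A45,
  A36,
  Z 0 2 (by decide) (by decide) (by decide),
  Z 0 3 (by decide) (by decide) (by decide),
  Z 0 4 (by decide) (by decide) (by decide),
  Z 0 5 (by decide) (by decide) (by decide),
  Z 0 6 (by decide) (by decide) (by decide),
  Z 1 3 (by decide) (by decide) (by decide),
  Z 1 4 (by decide) (by decide) (by decide),
  Z 1 5 (by decide) (by decide) (by decide),
  Z 1 6 (by decide) (by decide) (by decide),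
  Z 2 4 (by decide) (by decide) (by decide),
  Z 2 5 (by decide) (by decide) (by decide),
  Z 2 6 (by decide) (by decide) (by decide),
  Z 3 5 (by decide) (by decide) (by decide),
  Z 4 6 (by decide) (by decide) (by decide),
  Z 5 6 (by decide) (by decide) (by decide),
  by simpa using le_one (k := v 1) (hv _) (v.injective.ne (by decide)) (simple_val s01 rfl).2.2.1,
  by simpa using le_two (k := v 0) (l := v 2) (hv _) (v.injective.ne (by decide)) (v.injective.ne (by decide)) (v.injective.ne (by decide)) (simple_val s01 rfl).2.2.2 (simple_val s12 rfl).2.2.1,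
  by simpa using le_two (k := v 1) (l := v 3) (hv _) (v.injective.ne (by decide)) (v.injective.ne (by decide)) (v.injective.ne (by decide)) (simple_val s12 rfl).2.2.2 (simple_val s23 rfl).2.2.1,
  by simpa using le_three (k := v 2) (l := v 4) (o := v 6) (hv _) (v.injective.ne (by decide)) (v.injective.ne (by decide)) (v.injective.ne (by decide)) (v.injective.ne (by decide)) (v.injective.ne (by decide)) (v.injective.ne (by decide)) (simple_val s23 rfl).2.2.2 (simple_val s34 rfl).2.2.1 (simple_val s36 rfl).2.2.1,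
  by simpa using le_two (k := v 3) (l := v 5) (hv _) (v.injective.ne (by decide)) (v.injective.ne (by decide)) (v.injective.ne (by decide)) (simple_val s34 rfl).2.2.2 (simple_val s45 rfl).2.2.1,
  by simpa using le_one (k := v 4) (hv _) (v.injective.ne (by decide)) (simple_val s45 rfl).2.2.2,
  by simpa using le_one (k := v 3) (hv _) (v.injective.ne (by decide)) (simple_val s36 rfl).2.2.2⟩

end Groth.Agent.S7349
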