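import Groth.Statements.S7352
import Groth.Agent.NumType.Chain

set_option autoImplicit false
open Finset
open Models Models.NumericalType

namespace Groth.Agent.S7352

/-- Classification of proper subgraphs which are chains of four vertices: let T be a numerical type on n
> 4 indices and i_1, …, i_4 distinct (-2)-indices with a_{i_j i_{j+1}} nonzero for j < 4. Then
a_{i_j i_l} = 0 for |j - l| ≥ 2 and, after possibly reversing the order of the indices, for some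
integer w one of the following holds: (A4) w = (w, w, w, w), consecutive a = (w, w, w), with 2m_1 ≥
m_2, 2m_2 ≥ m_1 + m_3, 2m_3 ≥ m_2 + m_4, 2m_4 ≥ m_3; (C4) w = (w, w, w, 2w), consecutive a = (w, w,
2w), with 2m_1 ≥ m_2, 2m_2 ≥ m_1 + m_3, 2m_3 ≥ m_2 + 2m_4, 2m_4 ≥ m_3; (B4) w = (2w, 2w, 2w, w),
consecutive a = (2w, 2w, 2w), with 2m_1 ≥ m_2, 2m_2 ≥ m_1 + m_3, 2m_3 ≥ m_2 + m_4, m_4 ≥ m_3; (F4) w
= (w, w, 2w, 2w), consecutive a = (w, 2w, 2w), with 2m_1 ≥ m_2, 2m_2 ≥ m_1 + 2m_3, 2m_3 ≥ m_2 + m_4,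
2m_4 ≥ m_3. -/
theorem result {n : ℕ} (T : Models.NumericalType n) (hn : 4 < n)
    (v : Fin 4 ↪ Fin n) (hv : ∀ j, T.IsMinusTwo (v j)) (h01 : T.a (v 0) (v 1) ≠ 0) (h12 : T.a (v 1) (v 2) ≠ 0) (h23 : T.a (v 2) (v 3) ≠ 0) :
    (T.a (v 0) (v 2) = 0 ∧ T.a (v 0) (v 3) = 0 ∧ T.a (v 1) (v 3) = 0) ∧
    ∃ (u : Fin 4 → Fin n) (w : ℤ), ((∀ j, u j = v j) ∨ (∀ j, u j = v (Fin.rev j))) ∧
      ((T.w (u 0) = w ∧ T.w (u 1) = w ∧ T.w (u 2) = w ∧ T.w (u 3) = w ∧ T.a (u 0) (u 1) = w ∧ T.a (u 1) (u 2) = w ∧ T.a (u 2) (u 3) = w ∧ T.m (u 1) ≤ 2 * T.m (u 0) ∧ T.m (u 0) + T.m (u 2) ≤ 2 * T.m (u 1) ∧ T.m (u 1) + T.m (u 3) ≤ 2 * T.m (u 2) ∧ T.m (u 2) ≤ 2 * T.m (u 3)) ∨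
      (T.w (u 0) = w ∧ T.w (u 1) = w ∧ T.w (u 2) = w ∧ T.w (u 3) = 2 * w ∧ T.a (u 0) (u 1) = w ∧ T.a (u 1) (u 2) = w ∧ T.a (u 2) (u 3) = 2 * w ∧ T.m (u 1) ≤ 2 * T.m (u 0) ∧ T.m (u 0) + T.m (u 2) ≤ 2 * T.m (u 1) ∧ T.m (u 1) + 2 * T.m (u 3) ≤ 2 * T.m (u 2) ∧ T.m (u 2) ≤ 2 * T.m (u 3)) ∨
      (T.w (u 0) = 2 * w ∧ T.w (u 1) = 2 * w ∧ T.w (u 2) = 2 * w ∧ T.w (u 3) = w ∧ T.a (u 0) (u 1) = 2 * w ∧ T.a (u 1) (u 2) = 2 * w ∧ T.a (u 2) (u 3) = 2 * w ∧ T.m (u 1) ≤ 2 * T.m (u 0) ∧ T.m (u 0) + T.m (u 2) ≤ 2 * T.m (u 1) ∧ T.m (u 1) + T.m (u 3) ≤ 2 * T.m (u 2) ∧ T.m (u 2) ≤ T.m (u 3)) ∨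
      (T.w (u 0) = w ∧ T.w (u 1) = w ∧ T.w (u 2) = 2 * w ∧ T.w (u 3) = 2 * w ∧ T.a (u 0) (u 1) = w ∧ T.a (u 1) (u 2) = 2 * w ∧ T.a (u 2) (u 3) = 2 * w ∧ T.m (u 1) ≤ 2 * T.m (u 0) ∧ T.m (u 0) + 2 * T.m (u 2) ≤ 2 * T.m (u 1) ∧ T.m (u 1) + T.m (u 3) ≤ 2 * T.m (u 2) ∧ T.m (u 2) ≤ 2 * T.m (u 3))) := by
  open Groth.Agent.NumType in
  have hc := chain_of v (by omega) (by omega) hv (by
    intro j j' hj; fin_cases j <;> fin_cases j' <;> first | exact absurd hj (by decide) | exact h01 | exact h12 | exact h23)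
  refine ⟨⟨hc.zero (a := 0) (b := 2) (by omega) (by omega), hc.zero (a := 0) (b := 3) (by omega) (by omega), hc.zero (a := 1) (b := 3) (by omega) (by omega)⟩, ?_⟩
  obtain ⟨u', hu', hc', hcase⟩ := chain_normal hc (by omega)
  rcases hcase with h1 | ⟨hs, hd⟩ | ⟨hs, hd⟩ | ⟨h4, s0, hd, s2⟩
  · refine ⟨fun j => u' j, T.w (u' 0), ?_, ?_⟩
    · rcases hu' with rfl | rfl
      · exact Or.inl fun j => extFun_apply _ _ j
      · exact Or.inr fun j => chain_rev_apply _ _ j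
    · left
      have hs := h1
      obtain ⟨e0, a0⟩ : Simple T (u' 0) (u' 1) := h1 0 (by omega)
      obtain ⟨e1, a1⟩ : Simple T (u' 1) (u' 2) := h1 1 (by omega)
      obtain ⟨e2, a2⟩ : Simple T (u' 2) (u' 3) := h1 2 (by omega)
      have i0 := le_chain_start hc' (a := 0) (by omega) (c := 1) (by linarith)
      have i1 := le_chain_mid hc' (a := 0) (by omega) (c := 1) (e := 1) (by linarith) (by linarith)
      have i2 := le_chain_mid hc' (a := 1) (by omega) (c := 1) (e := 1) (by linarith) (by linarith)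
      have i3 := le_chain_end hc' (a := 2) (by omega) (c := 1) (by linarith)
      norm_num at i0 i1 i2 i3 ⊢
      (repeat' apply And.intro) <;> linarith
  · refine ⟨fun j => u' j, T.w (u' 0), ?_, ?_⟩
    · rcases hu' with rfl | rfl
      · exact Or.inl fun j => extFun_apply _ _ j
      · exact Or.inr fun j => chain_rev_apply _ _ j
    · right; left
      obtain ⟨e0, a0⟩ : Simple T (u' 0) (u' 1) := hs 0 (by omega)
      obtain ⟨e1, a1⟩ : Simple T (u' 1) (u' 2) := hs 1 (by omega)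
      obtain ⟨e2, a2⟩ : Double T (u' 2) (u' 3) := hd
      have i0 := le_chain_start hc' (a := 0) (by omega) (c := 1) (by linarith)
      have i1 := le_chain_mid hc' (a := 0) (by omega) (c := 1) (e := 1) (by linarith) (by linarith)
      have i2 := le_chain_mid hc' (a := 1) (by omega) (c := 1) (e := 2) (by linarith) (by linarith)
      have i3 := le_chain_end hc' (a := 2) (by omega) (c := 1) (by linarith)
      norm_num at i0 i1 i2 i3 ⊢
      (repeat' apply And.intro) <;> linarith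
  · refine ⟨fun j => u' j, T.w (u' 3), ?_, ?_⟩
    · rcases hu' with rfl | rfl
      · exact Or.inl fun j => extFun_apply _ _ j
      · exact Or.inr fun j => chain_rev_apply _ _ j
    · right; right; left
      obtain ⟨e0, a0⟩ : Simple T (u' 0) (u' 1) := hs 0 (by omega)
      obtain ⟨e1, a1⟩ : Simple T (u' 1) (u' 2) := hs 1 (by omega)
      obtain ⟨e2, b2⟩ : Double T (u' 3) (u' 2) := hd
      have a2 : T.a (u' 2) (u' 3) = T.w (u' 2) := by rw [T.symm.apply]; exact b2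
      have i0 := le_chain_start hc' (a := 0) (by omega) (c := 1) (by linarith)
      have i1 := le_chain_mid hc' (a := 0) (by omega) (c := 1) (e := 1) (by linarith) (by linarith)
      have i2 := le_chain_mid hc' (a := 1) (by omega) (c := 1) (e := 1) (by linarith) (by linarith)
      have i3 := le_chain_end hc' (a := 2) (by omega) (c := 2) (by linarith)
      norm_num at i0 i1 i2 i3 ⊢
      (repeat' apply And.intro) <;> linarith
  · refine ⟨fun j => u' j, T.w (u' 0), ?_, ?_⟩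
    · rcases hu' with rfl | rfl
      · exact Or.inl fun j => extFun_apply _ _ j
      · exact Or.inr fun j => chain_rev_apply _ _ j
    · right; right; right
      obtain ⟨e0, a0⟩ : Simple T (u' 0) (u' 1) := s0
      obtain ⟨e2, a2⟩ : Simple T (u' 2) (u' 3) := s2
      obtain ⟨e1, a1⟩ := hd
      have i0 := le_chain_start hc' (a := 0) (by omega) (c := 1) (by linarith)
      have i1 := le_chain_mid hc' (a := 0) (by omega) (c := 1) (e := 2) (by linarith) (by linarith)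
      have i2 := le_chain_mid hc' (a := 1) (by omega) (c := 1) (e := 1) (by linarith) (by linarith)
      have i3 := le_chain_end hc' (a := 2) (by omega) (c := 1) (by linarith)
      norm_num at i0 i1 i2 i3 ⊢
      (repeat' apply And.intro) <;> linarith

end Groth.Agent.S7352
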