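import Groth.Statements.S7354
import Groth.Agent.NumType.Chain

set_option autoImplicit false
open Finset
open Models Models.NumericalType

namespace Groth.Agent.S7354

/-- Let T be a numerical type on n indices, t > 5 with n > t, and i_1, …, i_t distinct (-2)-indices with
a_{i_j i_{j+1}} nonzero for j = 1, …, t - 1. Then, after possibly reversing the order of the
indices, for some integer w either (A) w_{i_1} = … = w_{i_t} = w and a_{i_j i_{j+1}} = w for all j;
or (C) w_{i_1} = … = w_{i_{t-1}} = w, w_{i_t} = 2w, a_{i_j i_{j+1}} = w for j < t - 1 and a_{i_{t-1}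
i_t} = 2w; or (B) w_{i_1} = … = w_{i_{t-1}} = 2w, w_{i_t} = w and a_{i_j i_{j+1}} = 2w for all j;
and in every case a_{i_j i_k} = 0 whenever k > j + 1. -/
theorem result {n : ℕ} (T : Models.NumericalType n) (t : ℕ) (ht : 5 < t) (hn : t < n)
    (v : Fin t ↪ Fin n) (hv : ∀ j, T.IsMinusTwo (v j))
    (hchain : ∀ j j' : Fin t, j'.val = j.val + 1 → T.a (v j) (v j') ≠ 0) :
    ∃ (u : Fin t → Fin n) (w : ℤ), ((∀ j, u j = v j) ∨ (∀ j, u j = v (Fin.rev j))) ∧
      (∀ j k : Fin t, j.val + 1 < k.val → T.a (u j) (u k) = 0) ∧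
      ((∀ j : Fin t, T.w (u j) = w) ∧ (∀ j j' : Fin t, j'.val = j.val + 1 → T.a (u j) (u j') = w) ∨
        ((∀ j : Fin t, j.val + 1 < t → T.w (u j) = w) ∧ (∀ j : Fin t, j.val + 1 = t → T.w (u j) = 2 * w) ∧
          (∀ j j' : Fin t, j'.val = j.val + 1 → j'.val + 1 < t → T.a (u j) (u j') = w) ∧
          (∀ j j' : Fin t, j'.val = j.val + 1 → j'.val + 1 = t → T.a (u j) (u j') = 2 * w)) ∨
        ((∀ j : Fin t, j.val + 1 < t → T.w (u j) = 2 * w) ∧ (∀ j : Fin t, j.val + 1 = t → T.w (u j) = w) ∧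
          (∀ j j' : Fin t, j'.val = j.val + 1 → T.a (u j) (u j') = 2 * w))) := by
  open Groth.Agent.NumType in
  have hp0 : 0 < t := by omega
  have hc := chain_of v hp0 hn hv hchain
  obtain ⟨u', hu', hc', hcase⟩ := chain_normal hc (by omega)
  have hz : ∀ j k : Fin t, j.val + 1 < k.val → T.a (u' j) (u' k) = 0 :=
    fun j k hjk => hc'.zero hjk k.2
  have hor : (∀ j : Fin t, u' j = v j) ∨ ∀ j : Fin t, u' j = v (Fin.rev j) := by
    rcases hu' with rfl | rfl
    · exact Or.inl fun j => extFun_apply _ _ j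
    · exact Or.inr fun j => chain_rev_apply _ _ j
  rcases hcase with h1 | ⟨hs, hd⟩ | ⟨hs, hd⟩ | ⟨h4, s0, hd, s2⟩
  · refine ⟨fun j => u' j, T.w (u' 0), hor, hz, Or.inl ⟨fun j => ?_, fun j j' hj => ?_⟩⟩
    · exact hc'.w_eq (l := 0) (s := t - 1) (by omega) (fun b _ hb => h1 b (by omega)) j
        (Nat.zero_le _) (by omega)
    · show T.a (u' j) (u' j') = _
      rw [hj, (h1 j (by omega)).2]
      exact hc'.w_eq (l := 0) (s := t - 1) (by omega) (fun b _ hb => h1 b (by omega)) j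
        (Nat.zero_le _) (by omega)
  · obtain ⟨hw, ha⟩ := chain_values hc' hs
    refine ⟨fun j => u' j, T.w (u' 0), hor, hz, Or.inr (Or.inl
      ⟨fun j hj => hw j hj, fun j hj => ?_, fun j j' hj hj' => ?_, fun j j' hj hj' => ?_⟩)⟩
    · show T.w (u' j) = _
      rw [show (j : ℕ) = t - 1 by omega, hd.1, hw _ (by omega)]
    · show T.a (u' j) (u' j') = _
      rw [hj, ha _ (by omega)]
    · show T.a (u' j) (u' j') = _
      rw [show (j : ℕ) = t - 2 by omega, show (j' : ℕ) = t - 1 by omega, hd.2, hd.1, hw _ (by omega)]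
  · obtain ⟨hw, ha⟩ := chain_values hc' hs
    have h0 : T.w (u' 0) = 2 * T.w (u' (t - 1)) := (hw (t - 2) (by omega)).symm.trans hd.1
    refine ⟨fun j => u' j, T.w (u' (t - 1)), hor, hz, Or.inr (Or.inr
      ⟨fun j hj => (hw j hj).trans h0, fun j hj => ?_, fun j j' hj => ?_⟩)⟩
    · show T.w (u' j) = _
      rw [show (j : ℕ) = t - 1 by omega]
    · show T.a (u' j) (u' j') = _
      rcases (show (j : ℕ) + 2 < t ∨ (j : ℕ) + 2 = t by omega) with h | h
      · rw [hj, ha _ h, h0]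
      · rw [show (j : ℕ) = t - 2 by omega, show (j' : ℕ) = t - 1 by omega, T.symm.apply, hd.2, hd.1]
  · omega

end Groth.Agent.S7354
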