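import Groth.Statements.S7355
import Groth.Agent.NumType.Chain

set_option autoImplicit false
open Finset
open Models Models.NumericalType

namespace Groth.Agent.S7355

/-- Classification of proper subgraphs of type D: let T be a numerical type on n indices, t > 4 with n >
t + 1, and i_1, …, i_{t+1} distinct (-2)-indices such that a_{i_j i_{j+1}} is nonzero for j = 1, …,
t - 1 and a_{i_{t-1} i_{t+1}} is nonzero. Then for some integer w one has w_{i_1} = … = w_{i_{t+1}}
= w, a_{i_j i_{j+1}} = w for j < t, a_{i_{t-1} i_{t+1}} = w, and a_{i_j i_k} = 0 for all other pairs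
j ≠ k. -/
theorem result {n : ℕ} (T : Models.NumericalType n) (t : ℕ) (ht : 4 < t) (hn : t + 1 < n)
    (v : Fin (t + 1) ↪ Fin n) (hv : ∀ j, T.IsMinusTwo (v j))
    (hchain : ∀ j j' : Fin (t + 1), j'.val = j.val + 1 → j'.val < t → T.a (v j) (v j') ≠ 0)
    (hbranch : ∀ j j' : Fin (t + 1), j.val + 2 = t → j'.val = t → T.a (v j) (v j') ≠ 0) :
    ∃ w : ℤ, (∀ j : Fin (t + 1), T.w (v j) = w) ∧
      (∀ j j' : Fin (t + 1), j'.val = j.val + 1 → j'.val < t → T.a (v j) (v j') = w) ∧
      (∀ j j' : Fin (t + 1), j.val + 2 = t → j'.val = t → T.a (v j) (v j') = w) ∧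
      (∀ j k : Fin (t + 1), j.val < k.val → ¬ (k.val = j.val + 1 ∧ k.val < t) → ¬ (j.val + 2 = t ∧ k.val = t) →
        T.a (v j) (v k) = 0) := by
  open Groth.Agent.NumType in
  have hp0 : 0 < t + 1 := by omega
  have hf : IsFork T (extFun v hp0) t :=
    { three := by omega
      inj := fun a b ha hb e => by
        rw [extFun_eq _ _ ha, extFun_eq _ _ hb] at e
        exact congrArg Fin.val (v.injective e)
      lt := hn
      two := fun a ha => by rw [extFun_eq _ _ ha]; exact hv _
      edge := fun a ha => by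
        rw [extFun_eq _ _ (show a < t + 1 by omega), extFun_eq _ _ (show a + 1 < t + 1 by omega)]
        exact hchain _ _ rfl ha
      branch := by
        rw [extFun_eq _ _ (show t - 2 < t + 1 by omega), extFun_eq _ _ (show t < t + 1 by omega)]
        exact hbranch _ _ (show t - 2 + 2 = t by omega) rfl }
  have hu : ∀ j : Fin (t + 1), v j = extFun v hp0 j := fun j => (extFun_apply _ _ j).symm
  refine ⟨T.w (extFun v hp0 0), fun j => ?_, fun j j' hj hj' => ?_, fun j j' hj hj' => ?_,
    fun j k hjk h1 h2 => ?_⟩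
  · rw [hu]; exact hf.w_eq j j.2
  · rw [hu, hu, hj, (hf.edge_simple (k := j) (by omega)).2]; exact hf.w_eq j j.2
  · rw [hu, hu, show (j : ℕ) = t - 2 by omega, hj', hf.branch_simple.2]
    exact hf.w_eq _ (by omega)
  · rw [hu, hu]; exact hf.zero hjk k.2 h1 h2

end Groth.Agent.S7355
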