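import Groth.Statements.S7357
import Mathlib

set_option autoImplicit false
universe u
open Polynomial
open Resolve

set_option backward.isDefEq.respectTransparency false
namespace Groth.Agent.S7357

open scoped TensorProduct

section Desc

variable {A : Type u} [CommRing A] {X Y Z : Type u} [AddCommGroup X] [Module A X] [AddCommGroup Y] [Module A Y]
  [AddCommGroup Z] [Module A Z] {n : ℕ}

theorem alt_eq_of_ker (f : X [⋀^Fin n]→ₗ[A] Z) (π : X →ₗ[A] Y) (hf : ∀ v i, π (v i) = 0 → f v = 0)
    {v w : Fin n → X} (h : ∀ i, π (v i) = π (w i)) : f v = f w := by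
  classical
  have e := f.toMultilinearMap.map_add_univ w (v - w)
  rw [add_sub_cancel] at e
  refine e.trans ?_
  rw [Finset.sum_eq_single Finset.univ]
  · rw [Finset.piecewise_univ]; rfl
  · intro s _ hs
    obtain ⟨i, hi⟩ : ∃ i, i ∉ s := by
      by_contra hc; push_neg at hc; exact hs (Finset.eq_univ_iff_forall.2 hc)
    refine hf _ i ?_
    rw [Finset.piecewise_eq_of_notMem _ _ _ hi, Pi.sub_apply, map_sub, h i, sub_self]
  · simp

theorem exists_desc (f : X [⋀^Fin n]→ₗ[A] Z) (π : X →ₗ[A] Y) (hπ : Function.Surjective π)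
    (hf : ∀ v i, π (v i) = 0 → f v = 0) : ∃ g : Y [⋀^Fin n]→ₗ[A] Z, ∀ v, g (fun i => π (v i)) = f v := by
  classical
  let σ := Function.surjInv hπ
  have hσ : ∀ y, π (σ y) = y := Function.surjInv_eq hπ
  refine ⟨{ toFun := fun v => f (σ ∘ v)
            map_update_add' := fun {hd} v i a b => ?_
            map_update_smul' := fun {hd} v i c a => ?_
            map_eq_zero_of_eq' := fun v i j h hij => f.map_eq_zero_of_eq _ (congrArg σ h) hij }, fun v => ?_⟩
  · obtain rfl : hd = instDecidableEqFin n := Subsingleton.elim _ _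
    simp only [Function.comp_update]
    rw [← f.map_update_add]
    refine alt_eq_of_ker f π hf fun j => ?_
    by_cases hj : j = i
    · subst hj; simp [hσ]
    · simp [Function.update_of_ne hj]
  · obtain rfl : hd = instDecidableEqFin n := Subsingleton.elim _ _
    simp only [Function.comp_update]
    rw [← f.map_update_smul]
    refine alt_eq_of_ker f π hf fun j => ?_
    by_cases hj : j = i
    · subst hj; simp [hσ]
    · simp [Function.update_of_ne hj]
  · exact alt_eq_of_ker f π hf fun i => hσ _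

theorem alt_add_mul_eq (f : X [⋀^Fin n]→ₗ[A] Z) (ω : X) (i : Fin n) (r : A) (v : Fin n → X) (hv : v i = r • ω)
    (c : Fin n → A) (hc : c i = 0) : f (v + fun j => c j • ω) = f v := by
  classical
  have e : f.toMultilinearMap (v + fun j => c j • ω) = _ := f.toMultilinearMap.map_add_univ v fun j => c j • ω
  refine e.trans ?_
  rw [Finset.sum_eq_single Finset.univ]
  · rw [Finset.piecewise_univ]; rfl
  · intro s _ hs
    obtain ⟨j, hj⟩ : ∃ j, j ∉ s := by
      by_contra hh; push_neg at hh; exact hs (Finset.eq_univ_iff_forall.2 hh)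
    by_cases his : i ∈ s
    · have hji : j ≠ i := fun h => hj (h ▸ his)
      set w := s.piecewise v fun j => c j • ω with hw
      show f w = 0
      have hwi : w i = r • ω := by rw [hw, Finset.piecewise_eq_of_mem _ _ _ his, hv]
      have hwj : w j = c j • ω := by rw [hw, Finset.piecewise_eq_of_notMem _ _ _ hj]
      rw [← Function.update_eq_self i w, hwi, f.map_update_smul, ← Function.update_eq_self j (Function.update w i ω),
        Function.update_of_ne hji, hwj, f.map_update_smul,
        f.map_eq_zero_of_eq _ (i := j) (j := i) (by rw [Function.update_self, Function.update_of_ne hji.symm, Function.update_self]) hji,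
        smul_zero, smul_zero]
    · refine f.map_coord_zero i ?_
      rw [Finset.piecewise_eq_of_notMem _ _ _ his, hc, zero_smul]
  · simp

end Desc

section Ext

variable {A S M : Type u} [CommRing A] [CommRing S] [Algebra A S] [AddCommGroup M] [Module A M]

theorem anticomm (u v : S ⊗[A] M) :
    (ExteriorAlgebra.ι A (M := M)).baseChange S u * (ExteriorAlgebra.ι A (M := M)).baseChange S v +
      (ExteriorAlgebra.ι A (M := M)).baseChange S v * (ExteriorAlgebra.ι A (M := M)).baseChange S u = 0 := by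
  induction u using TensorProduct.induction_on with
  | zero => simp
  | add a b ha hb =>
    rw [map_add, add_mul, mul_add, add_add_add_comm, ha, hb, add_zero]
  | tmul s m =>
    induction v using TensorProduct.induction_on with
    | zero => simp
    | add a b ha hb =>
      rw [map_add, mul_add, add_mul, add_add_add_comm, ha, hb, add_zero]
    | tmul s' m' =>
      simp only [LinearMap.baseChange_tmul, Algebra.TensorProduct.tmul_mul_tmul]
      rw [mul_comm s' s, ← TensorProduct.tmul_add, ExteriorAlgebra.ι_add_mul_swap, TensorProduct.tmul_zero]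

theorem sq_zero (u : S ⊗[A] M) :
    (ExteriorAlgebra.ι A (M := M)).baseChange S u * (ExteriorAlgebra.ι A (M := M)).baseChange S u = 0 := by
  induction u using TensorProduct.induction_on with
  | zero => simp
  | tmul s m => rw [LinearMap.baseChange_tmul, Algebra.TensorProduct.tmul_mul_tmul, ExteriorAlgebra.ι_sq_zero, TensorProduct.tmul_zero]
  | add a b ha hb =>
    rw [map_add, add_mul, mul_add, mul_add, ha, hb, zero_add, add_zero, anticomm]

theorem lift_ιMulti {Ω : Type u} [AddCommGroup Ω] [Module S Ω] (φ : Ω →ₗ[S] S ⊗[A] M) (h) :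
    ∀ (n : ℕ) (w : Fin n → Ω) (s : Fin n → S) (m : Fin n → M), (∀ j, φ (w j) = s j ⊗ₜ[A] m j) →
      ExteriorAlgebra.lift S ⟨(ExteriorAlgebra.ι A (M := M)).baseChange S ∘ₗ φ, h⟩ (ExteriorAlgebra.ιMulti S n w) =
        (∏ j, s j) ⊗ₜ[A] ExteriorAlgebra.ιMulti A n m := by
  intro n
  induction n with
  | zero =>
    intro w s m _
    simp [ExteriorAlgebra.ιMulti_apply, Algebra.TensorProduct.one_def]
  | succ n ih =>
    intro w s m hw
    rw [ExteriorAlgebra.ιMulti_apply, ExteriorAlgebra.ιMulti_apply, List.ofFn_succ, List.ofFn_succ, List.prod_cons,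
      List.prod_cons, map_mul, ExteriorAlgebra.lift_ι_apply, ← ExteriorAlgebra.ιMulti_apply, ← ExteriorAlgebra.ιMulti_apply,
      ih _ (fun j => s j.succ) (fun j => m j.succ) (fun j => hw j.succ), LinearMap.comp_apply, hw 0,
      LinearMap.baseChange_tmul, Algebra.TensorProduct.tmul_mul_tmul, Fin.prod_univ_succ]

end Ext


section Deriv

variable {p : ℕ} {Λ R : Type u} [CommRing Λ] [CommRing R] [Algebra Λ R] {M : Type u} [AddCommGroup M] [Module R M]
  [Module Λ M] [IsScalarTower Λ R M] (a : R)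

theorem exists_deriv [CharP (AdjoinRoot (X ^ p - C a : R[X])) p] (d : Derivation Λ R M) (hda : d a = 0) (m₀ : M) :
    ∃ δ : Derivation Λ (AdjoinRoot (X ^ p - C a : R[X])) (AdjoinRoot (X ^ p - C a : R[X]) ⊗[R] M),
      (∀ r, δ (AdjoinRoot.of _ r) = 1 ⊗ₜ[R] d r) ∧ δ (AdjoinRoot.root _) = 1 ⊗ₜ[R] m₀ := by
  let f : R[X] := X ^ p - C a
  let S := AdjoinRoot f
  let N := S ⊗[R] M
  let i0 : R →+* TrivSqZeroExt S N :=
    { toFun := fun r => TrivSqZeroExt.inl (algebraMap R S r) + TrivSqZeroExt.inr ((1 : S) ⊗ₜ[R] d r)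
      map_one' := TrivSqZeroExt.ext (by simp) (by simp)
      map_mul' := fun r r' => TrivSqZeroExt.ext (by simp) (by
        simp only [TrivSqZeroExt.snd_add, TrivSqZeroExt.snd_inl, TrivSqZeroExt.snd_inr, TrivSqZeroExt.snd_mul,
          TrivSqZeroExt.fst_add, TrivSqZeroExt.fst_inl, TrivSqZeroExt.fst_inr, zero_add, add_zero, op_smul_eq_smul,
          algebraMap_smul, Derivation.leibniz, TensorProduct.tmul_add, TensorProduct.tmul_smul])
      map_zero' := TrivSqZeroExt.ext (by simp) (by simp)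
      map_add' := fun r r' => TrivSqZeroExt.ext (by simp) (by simp [TensorProduct.tmul_add]) }
  let xe : TrivSqZeroExt S N := TrivSqZeroExt.inl (AdjoinRoot.root f) + TrivSqZeroExt.inr ((1 : S) ⊗ₜ[R] m₀)
  have hf0 : f.eval₂ i0 xe = 0 := by
    rw [eval₂_sub, eval₂_X_pow, eval₂_C, sub_eq_zero]
    refine TrivSqZeroExt.ext ?_ ?_
    · have h := AdjoinRoot.eval₂_root f
      rw [eval₂_sub, eval₂_X_pow, eval₂_C, sub_eq_zero] at h
      simp [xe, i0, h]
      rfl
    · rw [TrivSqZeroExt.snd_pow, ← Nat.cast_smul_eq_nsmul S, CharP.cast_eq_zero, zero_smul]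
      simp [i0, hda]
  let E := AdjoinRoot.lift i0 xe hf0
  have hfst : ∀ s, (E s).fst = s := by
    have : (TrivSqZeroExt.fstHom S S N).toRingHom.comp E = RingHom.id S := by
      refine Ideal.Quotient.ringHom_ext (Polynomial.ringHom_ext (fun r => ?_) ?_)
      · show (E (AdjoinRoot.of f r)).fst = _
        rw [AdjoinRoot.lift_of]; simp [i0]; rfl
      · show (E (AdjoinRoot.root f)).fst = _
        rw [AdjoinRoot.lift_root]; simp [xe]; rfl
    exact fun s => RingHom.congr_fun this s
  let δ₀ : S →ₗ[Λ] N :=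
    { toFun := fun s => (E s).snd
      map_add' := fun s s' => by rw [map_add, TrivSqZeroExt.snd_add]
      map_smul' := fun l s => by
        rw [Algebra.smul_def, map_mul, TrivSqZeroExt.snd_mul, hfst, hfst, RingHom.id_apply]
        have e : (E (algebraMap Λ S l)).snd = 0 := by
          rw [show algebraMap Λ S l = AdjoinRoot.of f (algebraMap Λ R l) from IsScalarTower.algebraMap_apply Λ R S l,
            AdjoinRoot.lift_of]
          simp [i0]
        rw [e, smul_zero, add_zero, algebraMap_smul] }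
  refine ⟨Derivation.mk' δ₀ fun s s' => ?_, fun r => ?_, ?_⟩
  · show (E (s * s')).snd = s • (E s').snd + s' • (E s).snd
    rw [map_mul, TrivSqZeroExt.snd_mul, hfst, hfst, op_smul_eq_smul]
  · show (E (AdjoinRoot.of f r)).snd = _
    rw [AdjoinRoot.lift_of]; simp [i0]
  · show (E (AdjoinRoot.root f)).snd = _
    rw [AdjoinRoot.lift_root]; simp [xe]

end Deriv

set_option maxHeartbeats 800000 in
/-- Let p be a prime number, Λ → R a ring map with R of characteristic p, a ∈ R and S = R[x]/(x^p - a).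
For every t ≥ 0 there is a canonical R-linear map Tr : Ω^{t+1}_{S/Λ} → Ω^{t+1}_{R/Λ} with η_1 ∧ … ∧
η_t ∧ x^i dx ↦ 0 for 0 ≤ i ≤ p - 2 and η_1 ∧ … ∧ η_t ∧ x^{p-1} dx ↦ η_1 ∧ … ∧ η_t ∧ da (η_j ∈
Ω_{R/Λ}, pulled back to Ω_{S/Λ}), and Tr annihilates the image of S ⊗_R Ω^{t+1}_{R/Λ} →
Ω^{t+1}_{S/Λ}. (Existence of such a map is asserted; R-linearity is written through the R-action on
S.) -/
theorem result (p : ℕ) [Fact p.Prime] (Λ R : Type u) [CommRing Λ] [CommRing R] [Algebra Λ R]
    [CharP Λ p] [CharP R p] (a : R) (t : ℕ) :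
    ∃ Tr : (⋀[AdjoinRoot (X ^ p - C a : R[X])]^(t + 1) (Ω[AdjoinRoot (X ^ p - C a : R[X])⁄Λ])) →+ (⋀[R]^(t + 1) (Ω[R⁄Λ])),
      (∀ (r : R) (ω : ⋀[AdjoinRoot (X ^ p - C a : R[X])]^(t + 1) (Ω[AdjoinRoot (X ^ p - C a : R[X])⁄Λ])),
        Tr (algebraMap R (AdjoinRoot (X ^ p - C a : R[X])) r • ω) = r • Tr ω) ∧
      (∀ (η : Fin t → Ω[R⁄Λ]) (i : ℕ), i + 2 ≤ p →
        Tr (exteriorPower.ιMulti _ (t + 1) (Fin.snoc (fun j => KaehlerDifferential.map Λ Λ R (AdjoinRoot (X ^ p - C a : R[X])) (η j))
          (AdjoinRoot.root (X ^ p - C a) ^ i • KaehlerDifferential.D Λ _ (AdjoinRoot.root (X ^ p - C a))))) = 0) ∧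
      (∀ (η : Fin t → Ω[R⁄Λ]),
        Tr (exteriorPower.ιMulti _ (t + 1) (Fin.snoc (fun j => KaehlerDifferential.map Λ Λ R (AdjoinRoot (X ^ p - C a : R[X])) (η j))
          (AdjoinRoot.root (X ^ p - C a) ^ (p - 1) • KaehlerDifferential.D Λ _ (AdjoinRoot.root (X ^ p - C a))))) =
          exteriorPower.ιMulti R (t + 1) (Fin.snoc η (KaehlerDifferential.D Λ R a))) ∧
      (∀ (s : AdjoinRoot (X ^ p - C a : R[X])) (η : Fin (t + 1) → Ω[R⁄Λ]),
        Tr (s • exteriorPower.ιMulti _ (t + 1) (fun j => KaehlerDifferential.map Λ Λ R (AdjoinRoot (X ^ p - C a : R[X])) (η j))) = 0) := by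
  classical
  have hp := (Fact.out : p.Prime)
  haveI : Nontrivial R := CharP.nontrivial_of_char_ne_one hp.ne_one
  let f : R[X] := X ^ p - C a
  let S := AdjoinRoot f
  let da : Ω[R⁄Λ] := KaehlerDifferential.D Λ R a
  let Q := Ω[R⁄Λ] ⧸ (Submodule.span R {da})
  let q : Ω[R⁄Λ] →ₗ[R] Q := (Submodule.span R {da}).mkQ
  let M := Q × R
  let N := S ⊗[R] M
  haveI : CharP S p := by
    refine charP_of_injective_algebraMap (R := R) ?_ p
    let pb := AdjoinRoot.powerBasis' (monic_X_pow_sub_C a hp.ne_zero)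
    have hd : pb.dim = p := natDegree_X_pow_sub_C
    let j : Fin pb.dim := ⟨0, by rw [hd]; exact hp.pos⟩
    intro r s h
    have e : ∀ r : R, pb.basis.repr (algebraMap R _ r) j = r := fun r => by
      have h1 : algebraMap R _ r = r • pb.basis j := by rw [pb.basis_eq_pow, pow_zero, Algebra.algebraMap_eq_smul_one]
      rw [h1, map_smul, pb.basis.repr_self, Finsupp.smul_single, smul_eq_mul, mul_one, Finsupp.single_eq_same]
    rw [← e r, ← e s]
    exact congrArg (fun z => pb.basis.repr z j) h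
  obtain ⟨δ, hδr, hδx⟩ := exists_deriv (p := p) a ((LinearMap.inl R Q R ∘ₗ q).compDer (KaehlerDifferential.D Λ R))
    (by
      show ((q da, (0 : R)) : M) = 0
      rw [show q da = 0 from (Submodule.Quotient.mk_eq_zero _).2 (Submodule.mem_span_singleton_self _), Prod.mk_zero_zero])
    (((0 : Q), (1 : R)) : M)
  let φ : Ω[S⁄Λ] →ₗ[S] N := δ.liftKaehlerDifferential
  have hφx : φ (KaehlerDifferential.D Λ S (AdjoinRoot.root f)) = (1 : S) ⊗ₜ[R] ((0 : Q), (1 : R)) := by
    show δ.liftKaehlerDifferential _ = _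
    rw [Derivation.liftKaehlerDifferential_comp_D]
    exact hδx
  have hφη : ∀ η, φ (KaehlerDifferential.map Λ Λ R S η) = (1 : S) ⊗ₜ[R] (q η, (0 : R)) := by
    intro η
    have hx : η ∈ Submodule.span R (Set.range (KaehlerDifferential.D Λ R)) := by
      rw [KaehlerDifferential.span_range_derivation]; trivial
    induction hx using Submodule.span_induction with
    | mem x hx =>
      obtain ⟨r, rfl⟩ := hx
      rw [KaehlerDifferential.map_D]
      show δ.liftKaehlerDifferential _ = _
      rw [Derivation.liftKaehlerDifferential_comp_D]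
      exact hδr r
    | zero => rw [map_zero, map_zero, map_zero, Prod.mk_zero_zero, TensorProduct.tmul_zero]
    | add x y _ _ hx hy => rw [map_add, map_add, hx, hy, ← TensorProduct.tmul_add, map_add, Prod.mk_add_mk, add_zero]
    | smul r x _ hx =>
      rw [map_smul, LinearMap.map_smul_of_tower φ r, hx, ← TensorProduct.tmul_smul, map_smul, Prod.smul_mk, smul_zero]
  -- the alternating form on `M`
  let ψ : R → (Ω[R⁄Λ] × R →ₗ[R] Ω[R⁄Λ]) := fun c =>
    LinearMap.fst R _ _ + (c • LinearMap.toSpanSingleton R _ da) ∘ₗ LinearMap.snd R _ _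
  let G : (Ω[R⁄Λ] × R) [⋀^Fin (t + 1)]→ₗ[R] ⋀[R]^(t + 1) (Ω[R⁄Λ]) :=
    (exteriorPower.ιMulti R (t + 1)).compLinearMap (ψ 1) - (exteriorPower.ιMulti R (t + 1)).compLinearMap (ψ 0)
  have hG : ∀ v, G v = exteriorPower.ιMulti R (t + 1) ((fun j => (v j).1) + fun j => (v j).2 • da) -
      exteriorPower.ιMulti R (t + 1) (fun j => (v j).1) := fun v => by
    simp [G, ψ]
    rfl
  let π : Ω[R⁄Λ] × R →ₗ[R] M := q.prodMap LinearMap.id
  obtain ⟨F, hF⟩ := exists_desc G π
    (Prod.map_surjective.2 ⟨Submodule.mkQ_surjective _, Function.surjective_id⟩) fun v i hvi => by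
      have h1 : q (v i).1 = 0 := congrArg Prod.fst hvi
      have h2 : (v i).2 = 0 := congrArg Prod.snd hvi
      obtain ⟨r, hr⟩ := Submodule.mem_span_singleton.1 ((Submodule.Quotient.mk_eq_zero _).1 h1)
      rw [hG, alt_add_mul_eq _ da i r (fun j => (v j).1) hr.symm (fun j => (v j).2) h2, sub_self]
  let L : ExteriorAlgebra R M →ₗ[R] ⋀[R]^(t + 1) (Ω[R⁄Λ]) :=
    ExteriorAlgebra.liftAlternating (Function.update (fun _ => 0) (t + 1) F)
  have hL : ∀ m, L (ExteriorAlgebra.ιMulti R (t + 1) m) = F m := fun m => by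
    rw [ExteriorAlgebra.liftAlternating_apply_ιMulti, Function.update_self]
  let pb := AdjoinRoot.powerBasis' (monic_X_pow_sub_C a hp.ne_zero)
  have hd : pb.dim = p := natDegree_X_pow_sub_C
  let top : Fin pb.dim := ⟨p - 1, by rw [hd]; have := hp.pos; omega⟩
  let coord : S →ₗ[R] R := (Finsupp.lapply top).comp pb.basis.repr.toLinearMap
  have hcoord : ∀ i : ℕ, i < p → coord (AdjoinRoot.root f ^ i) = if i = p - 1 then 1 else 0 := by
    intro i hi
    have hb : AdjoinRoot.root f ^ i = pb.basis ⟨i, hd.symm ▸ hi⟩ := by rw [pb.basis_eq_pow]; rfl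
    show pb.basis.repr (AdjoinRoot.root f ^ i) top = _
    rw [hb, pb.basis.repr_self, Finsupp.single_apply]
    exact if_congr Fin.ext_iff rfl rfl
  let red : S ⊗[R] ExteriorAlgebra R M →ₗ[R] ⋀[R]^(t + 1) (Ω[R⁄Λ]) :=
    (TensorProduct.lid R _).toLinearMap ∘ₗ TensorProduct.map coord L
  let Φ := ExteriorAlgebra.lift S ⟨(ExteriorAlgebra.ι R (M := M)).baseChange S ∘ₗ φ, fun w => sq_zero (φ w)⟩
  let emb := (⋀[S]^(t + 1) (Ω[S⁄Λ])).subtype
  have heval : ∀ (w : Fin (t + 1) → Ω[S⁄Λ]) (s : Fin (t + 1) → S) (m : Fin (t + 1) → M) (s₀ : S),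
      (∀ j, φ (w j) = s j ⊗ₜ[R] m j) →
      red (Φ (emb (s₀ • exteriorPower.ιMulti S (t + 1) w))) = coord (s₀ * ∏ j, s j) • F m := by
    intro w s m s₀ hw
    rw [map_smul, map_smul]
    show red (s₀ • Φ (ExteriorAlgebra.ιMulti S (t + 1) w)) = _
    rw [lift_ιMulti φ _ _ w s m hw, TensorProduct.smul_tmul', smul_eq_mul]
    show TensorProduct.lid R _ (TensorProduct.map coord L (_ ⊗ₜ[R] _)) = _
    rw [TensorProduct.map_tmul, TensorProduct.lid_tmul, hL]
  refine ⟨(red.toAddMonoidHom.comp Φ.toLinearMap.toAddMonoidHom).comp emb.toAddMonoidHom, fun r ω => ?_, fun η i hi => ?_,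
    fun η => ?_, fun s η => ?_⟩
  · show red (Φ (emb (algebraMap R S r • ω))) = r • red (Φ (emb ω))
    rw [map_smul, map_smul, algebraMap_smul, map_smul]
  all_goals simp only [AddMonoidHom.comp_apply, LinearMap.toAddMonoidHom_coe, AlgHom.toLinearMap_apply]
  · rw [← one_smul S (exteriorPower.ιMulti _ _ _), heval _ (Fin.snoc (fun _ => 1) (AdjoinRoot.root f ^ i))
      (Fin.snoc (fun j => (q (η j), (0 : R))) ((0 : Q), (1 : R)))]
    · rw [one_mul, Fin.prod_snoc, Finset.prod_const_one, one_mul, hcoord i (by omega), if_neg (by omega), zero_smul]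
    · intro j
      induction j using Fin.lastCases with
      | last => rw [Fin.snoc_last, Fin.snoc_last, Fin.snoc_last, map_smul, hφx, TensorProduct.smul_tmul', smul_eq_mul, mul_one]
      | cast j => rw [Fin.snoc_castSucc, Fin.snoc_castSucc, Fin.snoc_castSucc, hφη]
  · rw [← one_smul S (exteriorPower.ιMulti _ _ _), heval _ (Fin.snoc (fun _ => 1) (AdjoinRoot.root f ^ (p - 1)))
      (Fin.snoc (fun j => (q (η j), (0 : R))) ((0 : Q), (1 : R)))]
    · rw [one_mul, Fin.prod_snoc, Finset.prod_const_one, one_mul, hcoord (p - 1) (by have := hp.pos; omega), if_pos rfl,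
        one_smul]
      have e : (Fin.snoc (fun j => (q (η j), (0 : R))) ((0 : Q), (1 : R)) : Fin (t + 1) → M) =
          fun k => π ((Fin.snoc (fun j => (η j, (0 : R))) (0, 1) : Fin (t + 1) → Ω[R⁄Λ] × R) k) := by
        funext k
        induction k using Fin.lastCases with
        | last => rw [Fin.snoc_last, Fin.snoc_last]; exact Prod.ext (map_zero q).symm rfl
        | cast j => rw [Fin.snoc_castSucc, Fin.snoc_castSucc]; exact Prod.ext rfl rfl
      rw [e, hF, hG]
      have e1 : ((fun k => ((Fin.snoc (fun j => (η j, (0 : R))) (0, 1) : Fin (t + 1) → Ω[R⁄Λ] × R) k).1) +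
          fun k => ((Fin.snoc (fun j => (η j, (0 : R))) (0, 1) : Fin (t + 1) → Ω[R⁄Λ] × R) k).2 • da) =
          Fin.snoc η da := by
        funext k
        induction k using Fin.lastCases with
        | last => simp
        | cast j => simp
      rw [e1, sub_eq_self]
      exact AlternatingMap.map_coord_zero _ (Fin.last t) (by simp)
    · intro j
      induction j using Fin.lastCases with
      | last => rw [Fin.snoc_last, Fin.snoc_last, Fin.snoc_last, map_smul, hφx, TensorProduct.smul_tmul', smul_eq_mul, mul_one]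
      | cast j => rw [Fin.snoc_castSucc, Fin.snoc_castSucc, Fin.snoc_castSucc, hφη]
  · rw [heval _ (fun _ => 1) (fun j => π (η j, 0)) s fun j => hφη (η j), hF, hG]
    simp
    rw [show ((fun j => η j) + fun _ => (0 : Ω[R⁄Λ])) = fun j => η j from funext fun j => add_zero _, sub_self, smul_zero]

end Groth.Agent.S7357
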