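import Groth.Statements.S7362
import Groth.Agent.NumType.Genus

set_option autoImplicit false
open Finset
open Models Models.NumericalType

namespace Groth.Agent.S7362

/-- Genus one classification: case n = 2: let T be a minimal numerical type of genus 1 on two indices.
Then for some ordering i, j of the indices and some integers m, w, either m_i = m_j = m, a_ii = a_jj
= -2w, a_ij = 2w, w_i = w_j = w, g_i = g_j = 0; or m_i = 2m, m_j = m, a_ii = -2w, a_ij = 4w, a_jj =
-8w, w_i = w, w_j = 4w, g_i = g_j = 0. Only the classification direction is stated. -/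
theorem result (T : Models.NumericalType 2) (hmin : T.IsMinimal) (hg : T.genus = 1) :
    ∃ (i j : Fin 2) (m w : ℤ), i ≠ j ∧ T.g i = 0 ∧ T.g j = 0 ∧
      ((T.m i = m ∧ T.m j = m ∧ T.a i i = -2 * w ∧ T.a i j = 2 * w ∧ T.a j j = -2 * w ∧ T.w i = w ∧ T.w j = w) ∨
        (T.m i = 2 * m ∧ T.m j = m ∧ T.a i i = -2 * w ∧ T.a i j = 4 * w ∧ T.a j j = -8 * w ∧ T.w i = w ∧ T.w j = 4 * w)) := by
  open Groth.Agent.NumType in
  have h2 := all_minusTwo T hmin (by omega) hg
  have hw0 := T.w_pos 0; have hw1 := T.w_pos 1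
  have hm0 := T.m_pos 0; have hm1 := T.m_pos 1
  have hs : T.a 1 0 = T.a 0 1 := T.symm.apply 0 1
  have r0 := row_eq T 0
  have r1 := row_eq T 1
  rw [show (Finset.univ : Finset (Fin 2)).erase 0 = {1} from rfl, Finset.sum_singleton, (h2 0).2] at r0
  rw [show (Finset.univ : Finset (Fin 2)).erase 1 = {0} from rfl, Finset.sum_singleton, (h2 1).2, hs] at r1
  obtain ⟨p, hp⟩ := T.w_dvd 0 1
  obtain ⟨q, hq⟩ := T.w_dvd 1 0
  rw [hs] at hq
  have e0 : p * T.m 1 = 2 * T.m 0 := by
    apply mul_left_cancel₀ hw0.ne'; rw [hp] at r0; linarith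
  have e1 : q * T.m 0 = 2 * T.m 1 := by
    apply mul_left_cancel₀ hw1.ne'; rw [hq] at r1; linarith
  have hpq : p * q = 4 := by
    apply mul_right_cancel₀ hm0.ne'
    calc p * q * T.m 0 = p * (q * T.m 0) := by ring
      _ = 4 * T.m 0 := by rw [e1]; linarith
  have hp0 : 0 < p := by nlinarith
  have hq0 : 0 < q := by nlinarith
  have hp4 : p ≤ 4 := by nlinarith
  have hq4 : q ≤ 4 := by nlinarith
  have a0 := (h2 0).2; have a1 := (h2 1).2
  interval_cases p <;> interval_cases q <;> norm_num at hpq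
  · exact ⟨1, 0, T.m 0, T.w 1, by decide, (h2 1).1, (h2 0).1, Or.inr
      ⟨by linarith, rfl, a1, by linarith, by linarith, rfl, by linarith⟩⟩
  · exact ⟨0, 1, T.m 0, T.w 0, by decide, (h2 0).1, (h2 1).1, Or.inl
      ⟨rfl, by linarith, a0, by linarith, by linarith, rfl, by linarith⟩⟩
  · exact ⟨0, 1, T.m 1, T.w 0, by decide, (h2 0).1, (h2 1).1, Or.inr
      ⟨by linarith, rfl, a0, by linarith, by linarith, rfl, by linarith⟩⟩

end Groth.Agent.S7362
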