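import Groth.Statements.S7371
import Groth.Agent.NumAffine.Final

set_option autoImplicit false
open Finset
open Models Models.NumericalType

namespace Groth.Agent.S7371

/-- Genus one classification: cases n ≥ 10: let T be a minimal numerical type of genus 1 on n ≥ 10
indices. Then all g_i = 0, a_{ii} = -2 w_i, and for some permutation σ of the indices and integers
m, w the type is one of: the n-cycle (all m_i = m, all w_i = w, a_{i,i+1} = a_{1n} = w); the chain
with m = (2m,…,2m,m), w = (w,2w,…,2w,4w), a_{i,i+1} = 2w except a_{n-1,n} = 4w; the chain with all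
m_i = m, w = (w,2w,…,2w,w), a_{i,i+1} = 2w; the chain with m = (m,2m,…,2m,m), w = (2w,w,…,w,2w),
a_{12} = a_{n-1,n} = 2w and a_{i,i+1} = w otherwise; the D-type graph (chain 1 … n-1 with n attached
to n-2) with m = (m,2m,…,2m,m,m), w = (2w,w,…,w), a_{12} = 2w, other edges w; the same D-type graph
with m = (2m,…,2m,m,m), w = (w,2w,…,2w), all edges 2w; the double fork (1, 2 attached to 3; chain 3
… n-2; n-1, n attached to n-2) with m = (m,m,2m,…,2m,m,m), all w_i = w, all edges w; all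
intersection numbers not listed are zero. (Indices are written 0, …, n-1 in the formal statement.
For n ≥ 10 the exceptional completed E6, E7, E8 types do not occur, so only the infinite families
remain. In the family with weights (w,2w,…,2w,w) the consecutive intersection numbers are 2w, as
divisibility by the weights forces; the published list prints w there, and omits m_{n-2} = 2m in the
two D-type families.) Only the classification direction is stated. -/
theorem result {n : ℕ} (T : Models.NumericalType n) (hn : 10 ≤ n) (hmin : T.IsMinimal) (hg : T.genus = 1) :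
    (∀ i, T.g i = 0) ∧ (∀ i, T.a i i = -2 * T.w i) ∧ ∃ (σ : Equiv.Perm (Fin n)) (m w : ℤ),
      (((∀ i : Fin n, T.m (σ i) = m) ∧
        (∀ i : Fin n, T.w (σ i) = w) ∧
        (∀ i j : Fin n, i.val < j.val → j.val = i.val + 1 → T.a (σ i) (σ j) = w) ∧
        (∀ i j : Fin n, i.val < j.val → i.val = 0 ∧ j.val + 1 = n → T.a (σ i) (σ j) = w) ∧
        (∀ i j : Fin n, i.val < j.val → ¬ (j.val = i.val + 1) → ¬ (i.val = 0 ∧ j.val + 1 = n) → T.a (σ i) (σ j) = 0)) ∨
      ((∀ i : Fin n, i.val + 1 < n → T.m (σ i) = 2 * m) ∧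
        (∀ i : Fin n, i.val + 1 = n → T.m (σ i) = m) ∧
        (∀ i : Fin n, i.val = 0 → T.w (σ i) = w) ∧
        (∀ i : Fin n, 0 < i.val ∧ i.val + 1 < n → T.w (σ i) = 2 * w) ∧
        (∀ i : Fin n, i.val + 1 = n → T.w (σ i) = 4 * w) ∧
        (∀ i j : Fin n, i.val < j.val → j.val = i.val + 1 ∧ j.val + 1 < n → T.a (σ i) (σ j) = 2 * w) ∧
        (∀ i j : Fin n, i.val < j.val → j.val = i.val + 1 ∧ j.val + 1 = n → T.a (σ i) (σ j) = 4 * w) ∧
        (∀ i j : Fin n, i.val < j.val → ¬ (j.val = i.val + 1 ∧ j.val + 1 < n) → ¬ (j.val = i.val + 1 ∧ j.val + 1 = n) → T.a (σ i) (σ j) = 0)) ∨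
      ((∀ i : Fin n, T.m (σ i) = m) ∧
        (∀ i : Fin n, i.val = 0 → T.w (σ i) = w) ∧
        (∀ i : Fin n, 0 < i.val ∧ i.val + 1 < n → T.w (σ i) = 2 * w) ∧
        (∀ i : Fin n, i.val + 1 = n → T.w (σ i) = w) ∧
        (∀ i j : Fin n, i.val < j.val → j.val = i.val + 1 → T.a (σ i) (σ j) = 2 * w) ∧
        (∀ i j : Fin n, i.val < j.val → ¬ (j.val = i.val + 1) → T.a (σ i) (σ j) = 0)) ∨
      ((∀ i : Fin n, i.val = 0 → T.m (σ i) = m) ∧
        (∀ i : Fin n, 0 < i.val ∧ i.val + 1 < n → T.m (σ i) = 2 * m) ∧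
        (∀ i : Fin n, i.val + 1 = n → T.m (σ i) = m) ∧
        (∀ i : Fin n, i.val = 0 → T.w (σ i) = 2 * w) ∧
        (∀ i : Fin n, 0 < i.val ∧ i.val + 1 < n → T.w (σ i) = w) ∧
        (∀ i : Fin n, i.val + 1 = n → T.w (σ i) = 2 * w) ∧
        (∀ i j : Fin n, i.val < j.val → i.val = 0 ∧ j.val = 1 → T.a (σ i) (σ j) = 2 * w) ∧
        (∀ i j : Fin n, i.val < j.val → j.val = i.val + 1 ∧ 1 ≤ i.val ∧ j.val + 2 ≤ n → T.a (σ i) (σ j) = w) ∧
        (∀ i j : Fin n, i.val < j.val → j.val = i.val + 1 ∧ j.val + 1 = n → T.a (σ i) (σ j) = 2 * w) ∧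
        (∀ i j : Fin n, i.val < j.val → ¬ (i.val = 0 ∧ j.val = 1) → ¬ (j.val = i.val + 1 ∧ 1 ≤ i.val ∧ j.val + 2 ≤ n) → ¬ (j.val = i.val + 1 ∧ j.val + 1 = n) → T.a (σ i) (σ j) = 0)) ∨
      ((∀ i : Fin n, i.val = 0 → T.m (σ i) = m) ∧
        (∀ i : Fin n, 1 ≤ i.val ∧ i.val + 2 < n → T.m (σ i) = 2 * m) ∧
        (∀ i : Fin n, n ≤ i.val + 2 → T.m (σ i) = m) ∧
        (∀ i : Fin n, i.val = 0 → T.w (σ i) = 2 * w) ∧
        (∀ i : Fin n, 0 < i.val → T.w (σ i) = w) ∧
        (∀ i j : Fin n, i.val < j.val → i.val = 0 ∧ j.val = 1 → T.a (σ i) (σ j) = 2 * w) ∧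
        (∀ i j : Fin n, i.val < j.val → j.val = i.val + 1 ∧ 1 ≤ i.val ∧ j.val + 2 ≤ n → T.a (σ i) (σ j) = w) ∧
        (∀ i j : Fin n, i.val < j.val → i.val + 3 = n ∧ j.val + 1 = n → T.a (σ i) (σ j) = w) ∧
        (∀ i j : Fin n, i.val < j.val → ¬ (i.val = 0 ∧ j.val = 1) → ¬ (j.val = i.val + 1 ∧ 1 ≤ i.val ∧ j.val + 2 ≤ n) → ¬ (i.val + 3 = n ∧ j.val + 1 = n) → T.a (σ i) (σ j) = 0)) ∨
      ((∀ i : Fin n, i.val + 2 < n → T.m (σ i) = 2 * m) ∧
        (∀ i : Fin n, n ≤ i.val + 2 → T.m (σ i) = m) ∧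
        (∀ i : Fin n, i.val = 0 → T.w (σ i) = w) ∧
        (∀ i : Fin n, 0 < i.val → T.w (σ i) = 2 * w) ∧
        (∀ i j : Fin n, i.val < j.val → j.val = i.val + 1 ∧ j.val + 2 ≤ n → T.a (σ i) (σ j) = 2 * w) ∧
        (∀ i j : Fin n, i.val < j.val → i.val + 3 = n ∧ j.val + 1 = n → T.a (σ i) (σ j) = 2 * w) ∧
        (∀ i j : Fin n, i.val < j.val → ¬ (j.val = i.val + 1 ∧ j.val + 2 ≤ n) → ¬ (i.val + 3 = n ∧ j.val + 1 = n) → T.a (σ i) (σ j) = 0)) ∨
      ((∀ i : Fin n, i.val ≤ 1 → T.m (σ i) = m) ∧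
        (∀ i : Fin n, 2 ≤ i.val ∧ i.val + 2 < n → T.m (σ i) = 2 * m) ∧
        (∀ i : Fin n, n ≤ i.val + 2 → T.m (σ i) = m) ∧
        (∀ i : Fin n, T.w (σ i) = w) ∧
        (∀ i j : Fin n, i.val < j.val → i.val = 0 ∧ j.val = 2 → T.a (σ i) (σ j) = w) ∧
        (∀ i j : Fin n, i.val < j.val → i.val = 1 ∧ j.val = 2 → T.a (σ i) (σ j) = w) ∧
        (∀ i j : Fin n, i.val < j.val → j.val = i.val + 1 ∧ 2 ≤ i.val ∧ j.val + 2 ≤ n → T.a (σ i) (σ j) = w) ∧
        (∀ i j : Fin n, i.val < j.val → i.val + 3 = n ∧ j.val + 1 = n → T.a (σ i) (σ j) = w) ∧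
        (∀ i j : Fin n, i.val < j.val → ¬ (i.val = 0 ∧ j.val = 2) → ¬ (i.val = 1 ∧ j.val = 2) → ¬ (j.val = i.val + 1 ∧ 2 ≤ i.val ∧ j.val + 2 ≤ n) → ¬ (i.val + 3 = n ∧ j.val + 1 = n) → T.a (σ i) (σ j) = 0))) := by
  have h2 := Groth.Agent.NumType.all_minusTwo T hmin (by omega) hg
  refine ⟨fun i => (h2 i).1, fun i => (h2 i).2, ?_⟩
  cases Groth.Agent.NumAffine.classify T (by omega) hmin hg with
  | cyc h =>
    obtain ⟨σ, m, w, hm, hw, -, ha⟩ := Groth.Agent.NumAffine.Is.data h2 h (Equiv.refl _)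
    simp only [Equiv.refl_apply] at hm hw ha
    refine ⟨σ, m, w, ?_⟩
    refine Or.inl ?_
    refine ⟨?_, ?_, ?_, ?_, ?_⟩
    all_goals intro i
    all_goals first
      | (intro j hlt; intros; rw [ha i j (ne_of_lt hlt), Groth.Agent.NumAffine.sym_of_le _ hlt.le])
      | (intros; rw [hm i]) | (intros; rw [hw i]) | rw [hm i] | rw [hw i]
    all_goals (try simp only [Groth.Agent.NumAffine.fCyc])
    all_goals (try split_ifs)
    all_goals first | omega | contradiction | ring1 | (simp_all; done) | (exfalso; simp_all; omega)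
  | c1 h =>
    obtain ⟨σ, m, w, hm, hw, -, ha⟩ := Groth.Agent.NumAffine.Is.data h2 h (Equiv.refl _)
    simp only [Equiv.refl_apply] at hm hw ha
    refine ⟨σ, m, w, ?_⟩
    refine Or.inr ?_; refine Or.inl ?_
    refine ⟨?_, ?_, ?_, ?_, ?_, ?_, ?_, ?_⟩
    all_goals intro i
    all_goals first
      | (intro j hlt; intros; rw [ha i j (ne_of_lt hlt), Groth.Agent.NumAffine.sym_of_le _ hlt.le])
      | (intros; rw [hm i]) | (intros; rw [hw i]) | rw [hm i] | rw [hw i]
    all_goals (try simp only [Groth.Agent.NumAffine.mC1, Groth.Agent.NumAffine.wC1, Groth.Agent.NumAffine.fC1])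
    all_goals (try split_ifs)
    all_goals first | omega | contradiction | ring1 | (simp_all; done) | (exfalso; simp_all; omega)
  | c2 h =>
    obtain ⟨σ, m, w, hm, hw, -, ha⟩ := Groth.Agent.NumAffine.Is.data h2 h (Equiv.refl _)
    simp only [Equiv.refl_apply] at hm hw ha
    refine ⟨σ, m, w, ?_⟩
    refine Or.inr ?_; refine Or.inr ?_; refine Or.inl ?_
    refine ⟨?_, ?_, ?_, ?_, ?_, ?_⟩
    all_goals intro i
    all_goals first
      | (intro j hlt; intros; rw [ha i j (ne_of_lt hlt), Groth.Agent.NumAffine.sym_of_le _ hlt.le])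
      | (intros; rw [hm i]) | (intros; rw [hw i]) | rw [hm i] | rw [hw i]
    all_goals (try simp only [Groth.Agent.NumAffine.wC2, Groth.Agent.NumAffine.fC2])
    all_goals (try split_ifs)
    all_goals first | omega | contradiction | ring1 | (simp_all; done) | (exfalso; simp_all; omega)
  | c3 h =>
    obtain ⟨σ, m, w, hm, hw, -, ha⟩ := Groth.Agent.NumAffine.Is.data h2 h (Equiv.refl _)
    simp only [Equiv.refl_apply] at hm hw ha
    refine ⟨σ, m, w, ?_⟩
    refine Or.inr ?_; refine Or.inr ?_; refine Or.inr ?_; refine Or.inl ?_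
    refine ⟨?_, ?_, ?_, ?_, ?_, ?_, ?_, ?_, ?_, ?_⟩
    all_goals intro i
    all_goals first
      | (intro j hlt; intros; rw [ha i j (ne_of_lt hlt), Groth.Agent.NumAffine.sym_of_le _ hlt.le])
      | (intros; rw [hm i]) | (intros; rw [hw i]) | rw [hm i] | rw [hw i]
    all_goals (try simp only [Groth.Agent.NumAffine.mC3, Groth.Agent.NumAffine.wC3, Groth.Agent.NumAffine.fC3])
    all_goals (try split_ifs)
    all_goals first | omega | contradiction | ring1 | (simp_all; done) | (exfalso; simp_all; omega)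
  | b1 hn4 h =>
    obtain ⟨σ, m, w, hm, hw, -, ha⟩ := Groth.Agent.NumAffine.Is.data h2 h (Equiv.refl _)
    simp only [Equiv.refl_apply] at hm hw ha
    refine ⟨σ, m, w, ?_⟩
    refine Or.inr ?_; refine Or.inr ?_; refine Or.inr ?_; refine Or.inr ?_; refine Or.inl ?_
    refine ⟨?_, ?_, ?_, ?_, ?_, ?_, ?_, ?_, ?_⟩
    all_goals intro i
    all_goals first
      | (intro j hlt; intros; rw [ha i j (ne_of_lt hlt), Groth.Agent.NumAffine.sym_of_le _ hlt.le])
      | (intros; rw [hm i]) | (intros; rw [hw i]) | rw [hm i] | rw [hw i]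
    all_goals (try simp only [Groth.Agent.NumAffine.mB1, Groth.Agent.NumAffine.wB1, Groth.Agent.NumAffine.fB1, Groth.Agent.NumAffine.eB])
    all_goals (try split_ifs)
    all_goals first | omega | contradiction | ring1 | (simp_all; done) | (exfalso; simp_all; omega)
  | b2 hn4 h =>
    obtain ⟨σ, m, w, hm, hw, -, ha⟩ := Groth.Agent.NumAffine.Is.data h2 h (Equiv.refl _)
    simp only [Equiv.refl_apply] at hm hw ha
    refine ⟨σ, m, w, ?_⟩
    refine Or.inr ?_; refine Or.inr ?_; refine Or.inr ?_; refine Or.inr ?_; refine Or.inr ?_; refine Or.inl ?_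
    refine ⟨?_, ?_, ?_, ?_, ?_, ?_, ?_⟩
    all_goals intro i
    all_goals first
      | (intro j hlt; intros; rw [ha i j (ne_of_lt hlt), Groth.Agent.NumAffine.sym_of_le _ hlt.le])
      | (intros; rw [hm i]) | (intros; rw [hw i]) | rw [hm i] | rw [hw i]
    all_goals (try simp only [Groth.Agent.NumAffine.mB2, Groth.Agent.NumAffine.wB2, Groth.Agent.NumAffine.fB2, Groth.Agent.NumAffine.eB])
    all_goals (try split_ifs)
    all_goals first | omega | contradiction | ring1 | (simp_all; done) | (exfalso; simp_all; omega)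
  | d hn4 h =>
    obtain ⟨σ, m, w, hm, hw, -, ha⟩ := Groth.Agent.NumAffine.Is.data h2 h (Equiv.refl _)
    simp only [Equiv.refl_apply] at hm hw ha
    refine ⟨σ, m, w, ?_⟩
    refine Or.inr ?_; refine Or.inr ?_; refine Or.inr ?_; refine Or.inr ?_; refine Or.inr ?_; refine Or.inr ?_; skip
    refine ⟨?_, ?_, ?_, ?_, ?_, ?_, ?_, ?_, ?_⟩
    all_goals intro i
    all_goals first
      | (intro j hlt; intros; rw [ha i j (ne_of_lt hlt), Groth.Agent.NumAffine.sym_of_le _ hlt.le])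
      | (intros; rw [hm i]) | (intros; rw [hw i]) | rw [hm i] | rw [hw i]
    all_goals (try simp only [Groth.Agent.NumAffine.mD, Groth.Agent.NumAffine.fD, Groth.Agent.NumAffine.eD])
    all_goals (try split_ifs)
    all_goals first | omega | contradiction | ring1 | (simp_all; done) | (exfalso; simp_all; omega)
  | g1 hn4 h => omega
  | g2 hn4 h => omega
  | f1 hn4 h => omega
  | f2 hn4 h => omega
  | e6 hn4 h => omega
  | e7 hn4 h => omega
  | e8 hn4 h => omega

end Groth.Agent.S7371
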