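import Groth.Statements.S7379
import Groth.Agent.LimClosed.FTIdeals

set_option autoImplicit false
universe u
open CategoryTheory AlgebraicGeometry
open Lim

namespace Groth.Agent.S7379

/-- Let `ι : X → Y` be a closed immersion with `Y` quasi-compact and quasi-separated. Then, in the
category of schemes over `Y`, `X` is the limit of a nonempty directed inverse system whose objects
`X_i → Y` are closed immersions of finite presentation. -/
theorem result {X Y : Scheme.{u}} (ι : X ⟶ Y)
    [IsClosedImmersion ι] [CompactSpace Y] [QuasiSeparatedSpace Y] :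
    ∃ (I : Type u) (_ : Preorder I) (_ : IsDirected I (fun a b => a ≤ b)) (_ : Nonempty I)
      (D : Iᵒᵖ ⥤ Over Y) (c : Limits.Cone D) (_ : Limits.IsLimit c),
      (∀ i, IsClosedImmersion (D.obj i).hom ∧ LocallyOfFinitePresentation (D.obj i).hom) ∧
      Nonempty (c.pt ≅ Over.mk ι) := by
  exact ⟨Groth.Agent.LimClosed.FTBelow ι.ker, inferInstance, inferInstance, inferInstance,
    Groth.Agent.LimClosed.diagram ι.ker, Groth.Agent.LimClosed.cone ι.ker ι rfl,
    Groth.Agent.LimClosed.isLimitCone ι.ker ι rfl,
    fun L => ⟨inferInstance, Groth.Agent.LimClosed.lfp_diagram ι.ker L⟩, ⟨Iso.refl _⟩⟩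

end Groth.Agent.S7379
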