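import Groth.Statements.S7381
import Groth.Agent.AbsApprox.StageProps

set_option backward.isDefEq.respectTransparency false

set_option autoImplicit false
universe u
open CategoryTheory AlgebraicGeometry
open Lim

namespace Groth.Agent.S7381

/-- Let `f : X → S` be finite with `S` quasi-compact and quasi-separated. Then, in the category of
schemes over `S`, `X` is the limit of a nonempty directed inverse system of schemes `X_i → S` that
are finite and locally of finite presentation, with closed immersions as transition morphisms. -/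
theorem result {X S : Scheme.{u}} (f : X ⟶ S) [IsFinite f]
    [CompactSpace S] [QuasiSeparatedSpace S] :
    ∃ (I : Type u) (_ : Preorder I) (_ : IsDirected I (fun a b => a ≤ b)) (_ : Nonempty I)
      (D : Iᵒᵖ ⥤ Over S) (c : Limits.Cone D) (_ : Limits.IsLimit c),
      (∀ i, IsFinite (D.obj i).hom ∧ LocallyOfFinitePresentation (D.obj i).hom) ∧
      (∀ (i j : Iᵒᵖ) (a : i ⟶ j), IsClosedImmersion (D.map a).left) ∧
      Nonempty (c.pt ≅ Over.mk f) := by
  classical
  haveI : CompactSpace X := QuasiCompact.compactSpace_of_compactSpace f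
  haveI : QuasiSeparatedSpace X := quasiSeparatedSpace_of_quasiSeparated f
  obtain ⟨T, t, Ω, g, h1, h2, h3, hc, h4, h5⟩ := Groth.Agent.AbsApprox.exists_closedImmersion_opens f
  haveI : CompactSpace Ω.toScheme := isCompact_iff_compactSpace.mp hc
  haveI : QuasiSeparatedSpace Ω.toScheme := quasiSeparatedSpace_of_quasiSeparated (Ω.ι ≫ t)
  obtain ⟨L, hL⟩ := Groth.Agent.AbsApprox.exists_isFinite_closedDiagram f (Ω.ι ≫ t) g h5
  let D := Groth.Agent.AbsApprox.closedDiagram (Ω.ι ≫ t) g
  let c := Groth.Agent.AbsApprox.closedCone f (Ω.ι ≫ t) g h5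
  let I := {M : Groth.Agent.LimClosed.FTBelow g.ker // L.unop ≤ M}
  haveI : Nonempty I := ⟨⟨L.unop, le_rfl⟩⟩
  haveI : IsDirected I (fun a b => a ≤ b) := ⟨fun a b => by
    obtain ⟨c, hc, hc'⟩ := exists_ge_ge a.1 b.1
    exact ⟨⟨c, a.2.trans hc⟩, hc, hc'⟩⟩
  let F : I →o Groth.Agent.LimClosed.FTBelow g.ker := ⟨Subtype.val, fun _ _ h => h⟩
  haveI : F.monotone.functor.op.Initial := Groth.Agent.AbsApprox.final_of_cofinal F fun i => by
    obtain ⟨c, hc, hc'⟩ := exists_ge_ge i L.unop
    exact ⟨⟨c, hc'⟩, hc⟩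
  refine ⟨I, inferInstance, inferInstance, inferInstance, F.monotone.functor.op ⋙ D, c.whisker F.monotone.functor.op,
    (Functor.Initial.isLimitWhiskerEquiv F.monotone.functor.op c).symm
      (Groth.Agent.AbsApprox.isLimitClosedCone f (Ω.ι ≫ t) g h5), fun i => ⟨?_, ?_⟩, fun i j a => ?_, ⟨Iso.refl _⟩⟩
  · exact hL _ (homOfLE i.unop.2).op
  · exact Groth.Agent.AbsApprox.lfp_closedDiagram (Ω.ι ≫ t) g _
  · exact Groth.Agent.AbsApprox.isClosedImmersion_closedDiagram_map (Ω.ι ≫ t) g _

end Groth.Agent.S7381
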