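import Groth.Statements.S7384
import Groth.Agent.AbsApprox.ProdLim

set_option backward.isDefEq.respectTransparency false

set_option autoImplicit false
universe u
open CategoryTheory AlgebraicGeometry
open Lim

namespace Groth.Agent.S7384

/-- Let `f : X → S` be a morphism of quasi-compact quasi-separated schemes. Then `f` is a limit of
morphisms `f_i : X_i → S_i` indexed by a nonempty directed set: there are inverse systems `X_i`,
`S_i` of quasi-compact schemes locally of finite type over `ℤ` with affine transition morphisms, a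
compatible family of morphisms `f_i`, and limit cones identified with `X` and `S` compatibly with
`f`. -/
theorem result {X S : Scheme.{u}} (f : X ⟶ S) [CompactSpace X]
    [QuasiSeparatedSpace X] [CompactSpace S] [QuasiSeparatedSpace S] :
    ∃ (I : Type u) (_ : Preorder I) (_ : IsDirected I (fun a b => a ≤ b)) (_ : Nonempty I)
      (DX DS : Iᵒᵖ ⥤ Scheme.{u}) (φ : DX ⟶ DS)
      (cX : Limits.Cone DX) (cS : Limits.Cone DS) (_ : Limits.IsLimit cX) (_ : Limits.IsLimit cS)
      (eX : cX.pt ≅ X) (eS : cS.pt ≅ S),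
      (∀ (i j : Iᵒᵖ) (a : i ⟶ j), IsAffineHom (DX.map a) ∧ IsAffineHom (DS.map a)) ∧
      (∀ i, CompactSpace (DX.obj i) ∧ CompactSpace (DS.obj i) ∧
        LocallyOfFiniteType (Limits.IsTerminal.from specULiftZIsTerminal (DX.obj i)) ∧
        LocallyOfFiniteType (Limits.IsTerminal.from specULiftZIsTerminal (DS.obj i))) ∧
      (∀ i, cX.π.app i ≫ φ.app i = eX.hom ≫ f ≫ eS.inv ≫ cS.π.app i) := by
  classical
  obtain ⟨L, _, _, _, DS, π, hl, h1, h2, -⟩ := Groth.Agent.AbsApprox.hasApprox S
  haveI : ∀ l, CompactSpace (DS.obj l) := fun l => (h2 l).1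
  haveI : ∀ l, QuasiSeparatedSpace (DS.obj l) := fun l => Groth.Agent.AbsApprox.quasiSeparatedSpace_of_lft (h2 l).2
  obtain ⟨J, _, _, _, F, hF, DX, φ, cX, hcX, eX, a1, a2, a3⟩ :=
    Groth.Agent.AbsApprox.exists_limit_over_system f DS (Limits.Cone.mk S π) hl (Iso.refl S) h1
  haveI := Groth.Agent.AbsApprox.final_of_cofinal F hF
  refine ⟨J, inferInstance, inferInstance, inferInstance, DX, F.monotone.functor.op ⋙ DS, φ, cX,
    (Limits.Cone.mk S π).whisker F.monotone.functor.op, hcX,
    (Functor.Initial.isLimitWhiskerEquiv F.monotone.functor.op (Limits.Cone.mk S π)).symm hl, eX, Iso.refl S,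
    fun i j a => ⟨a1 i j a, h1 _ _ _⟩, fun i => ?_, fun i => a3 i⟩
  obtain ⟨_, _, _⟩ := a2 i
  haveI : CompactSpace ((F.monotone.functor.op ⋙ DS).obj i) := (h2 _).1
  haveI : LocallyOfFiniteType (Limits.IsTerminal.from specULiftZIsTerminal ((F.monotone.functor.op ⋙ DS).obj i)) := (h2 _).2
  refine ⟨QuasiCompact.compactSpace_of_compactSpace (φ.app i), inferInstance, ?_, inferInstance⟩
  rw [specULiftZIsTerminal.hom_ext (Limits.IsTerminal.from specULiftZIsTerminal (DX.obj i))
    (φ.app i ≫ Limits.IsTerminal.from specULiftZIsTerminal _)]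
  infer_instance

end Groth.Agent.S7384
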