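import Groth.Statements.S7387
import Mathlib.AlgebraicGeometry.Limits
import Mathlib.AlgebraicGeometry.Morphisms.Separated
import Mathlib.AlgebraicGeometry.QuasiAffine

set_option autoImplicit false
universe u
open CategoryTheory AlgebraicGeometry
open Mor

open CategoryTheory Limits AlgebraicGeometry
set_option backward.isDefEq.respectTransparency false
namespace Groth.Agent.S7387

/-- A quasi-compact scheme has a dense open subscheme which is separated. -/
theorem result (X : Scheme.{u}) [CompactSpace X] :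
    ∃ V : X.Opens, Dense (V : Set X) ∧ (V : Scheme.{u}).IsSeparated := by
  classical
  obtain ⟨t, htf, htfin, htcov⟩ := isCompact_univ.elim_finite_subcover_image (b := (Set.univ : Set X.affineOpens))
    (c := fun U => ((U.1 : X.Opens) : Set X)) (fun U _ => U.1.2) (fun x _ => by
      obtain ⟨U, hU, hxU, -⟩ := exists_isAffineOpen_mem_and_subset (X := X) (x := x) (U := ⊤) trivial
      exact Set.mem_biUnion (x := (⟨U, hU⟩ : X.affineOpens)) trivial hxU)
  haveI := htfin.fintype
  let e := Fintype.equivFin t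
  let n := Fintype.card t
  let U : ULift.{u} (Fin n) → X.Opens := fun k => (e.symm k.down).1.1
  have hUaff : ∀ k, IsAffineOpen (U k) := fun k => (e.symm k.down).1.2
  let T : ULift.{u} (Fin n) → Set X := fun k => ⋃ j ∈ {j : ULift.{u} (Fin n) | j.down < k.down}, closure (U j : Set X)
  have hT : ∀ k, IsClosed (T k) := fun k => Set.Finite.isClosed_biUnion (Set.toFinite _) fun _ _ => isClosed_closure
  let W : ULift.{u} (Fin n) → X.Opens := fun k => U k ⊓ ⟨(T k)ᶜ, (hT k).isOpen_compl⟩
  have hlt : ∀ j k, j.down < k.down → ∀ x, x ∈ W j → x ∈ W k → False := fun j k h x hj hk =>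
    hk.2 (Set.mem_biUnion (show j ∈ {j : ULift.{u} (Fin n) | j.down < k.down} from h) (subset_closure hj.1))
  let g : (∐ fun k => (W k : Scheme.{u})) ⟶ X := Sigma.desc fun k => (W k).ι
  haveI : IsOpenImmersion g := by
    refine isOpenImmersion_sigmaDesc _ _ fun i j hij => ?_
    rw [Function.onFun, Scheme.Opens.range_ι, Scheme.Opens.range_ι, Set.disjoint_left]
    intro x hi hj
    rcases lt_trichotomy i.down j.down with h | h | h
    · exact hlt i j h x hi hj
    · exact hij (ULift.ext _ _ h)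
    · exact hlt j i h x hj hi
  haveI : (∐ fun k => (W k : Scheme.{u})).IsSeparated := by
    haveI : ∀ k, IsAffine (U k : Scheme.{u}) := hUaff
    let m : (∐ fun k => (W k : Scheme.{u})) ⟶ ∐ fun k => (U k : Scheme.{u}) :=
      Limits.Sigma.map fun k => X.homOfLE (inf_le_left : W k ≤ U k)
    haveI : IsOpenImmersion m := by
      refine isOpenImmersion_sigmaDesc (fun k => (W k : Scheme.{u}))
        (fun k => X.homOfLE (inf_le_left : W k ≤ U k) ≫ Limits.Sigma.ι (fun k => (U k : Scheme.{u})) k) fun i j hij => ?_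
      rw [Function.onFun, Set.disjoint_left]
      intro x hi hj
      have h := disjoint_opensRange_sigmaι (fun k => (U k : Scheme.{u})) i j hij
      rw [disjoint_iff_inf_le] at h
      obtain ⟨a, rfl⟩ := hi
      obtain ⟨b, hb⟩ := hj
      exact h ⟨⟨_, rfl⟩, ⟨_, hb⟩⟩
    constructor
    rw [← terminal.comp_from m]
    infer_instance
  refine ⟨g.opensRange, ?_, ?_⟩
  · rw [dense_iff_inter_open]
    intro O hO hOne
    obtain ⟨x, hx⟩ := hOne
    obtain ⟨U₀, hU₀, hxU₀⟩ := Set.mem_iUnion₂.1 (htcov (Set.mem_univ x))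
    have hne : (Finset.univ.filter fun k : Fin n => (O ∩ (U ⟨k⟩ : Set X)).Nonempty).Nonempty :=
      ⟨e ⟨U₀, hU₀⟩, Finset.mem_filter.2 ⟨Finset.mem_univ _, x, hx, by simpa [U] using hxU₀⟩⟩
    obtain ⟨k, hk, hmin⟩ := Finset.exists_min_image _ id hne
    obtain ⟨y, hyO, hyU⟩ := (Finset.mem_filter.1 hk).2
    refine ⟨y, hyO, ?_⟩
    have hyW : y ∈ W ⟨k⟩ := ⟨hyU, fun h => by
      obtain ⟨j, hj, hyj⟩ := Set.mem_iUnion₂.1 h
      obtain ⟨z, hz⟩ := mem_closure_iff.1 hyj O hO hyO
      exact absurd (hmin j.down (Finset.mem_filter.2 ⟨Finset.mem_univ _, z, hz⟩)) (not_le.2 hj)⟩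
    refine ⟨(Limits.Sigma.ι (fun k => (W k : Scheme.{u})) ⟨k⟩) ⟨y, hyW⟩, ?_⟩
    rw [← Scheme.Hom.comp_apply]
    exact congr($(Limits.Sigma.ι_desc (fun k => (W k).ι) ⟨k⟩) ⟨y, hyW⟩)
  · constructor
    rw [← terminal.comp_from g.isoOpensRange.inv]
    infer_instance

end Groth.Agent.S7387
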