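import Groth.Statements.S7388
import Groth.Agent.GrAvoid.Basic
import Mathlib
-- import your own Groth.Agent.* helpers here

set_option autoImplicit false
universe u
open CategoryTheory AlgebraicGeometry
open Mor

namespace Groth.Agent.S7388

/-- Let `X` be a scheme admitting an immersion into `Proj S` for some graded ring `S`. Then any finite
set of points of `X` is contained in an affine open of `X`. -/
theorem result {R A : Type u} [CommRing R] [CommRing A] [Algebra R A]
    (𝒜 : ℕ → Submodule R A) [GradedAlgebra 𝒜] {X : Scheme.{u}} (ι : X ⟶ Proj 𝒜) [IsImmersion ι]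
    (E : Set X) (hE : E.Finite) :
    ∃ U : X.Opens, IsAffineOpen U ∧ E ⊆ U := by
  classical
  let C : Set (Proj 𝒜) := closure (Set.range ι) \ Set.range ι
  have hC : IsClosed C := by
    have h : IsOpen (coborder (Set.range ι)) := ι.isLocallyClosed_range.isOpen_coborder
    exact isOpen_compl_iff.1 h
  let J := ProjectiveSpectrum.vanishingIdeal (𝒜 := 𝒜) C
  have hJ : ProjectiveSpectrum.zeroLocus 𝒜 (J : Set A) = C :=
    (ProjectiveSpectrum.zeroLocus_vanishingIdeal_eq_closure 𝒜 C).trans hC.closure_eq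
  let pr : X → ProjectiveSpectrum 𝒜 := fun x => ι x
  obtain ⟨z, n, hn, hz, hzJ, hzP⟩ := Groth.Agent.GrAvoid.exists_notMem 𝒜 J.toIdeal J.isHomogeneous
    (hE.toFinset.image fun x => (pr x).asHomogeneousIdeal.toIdeal) (fun p hp => by
      obtain ⟨x, -, rfl⟩ := Finset.mem_image.1 hp
      refine ⟨(pr x).isPrime, (pr x).not_irrelevant_le, fun hle => ?_⟩
      have h2 : pr x ∈ C := by rw [← hJ]; exact hle
      exact h2.2 ⟨x, rfl⟩)
  let U : (Proj 𝒜).Opens := Proj.basicOpen 𝒜 z
  haveI : IsImmersion (ι ∣_ U) := IsZariskiLocalAtTarget.restrict ‹IsImmersion ι› U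
  haveI : IsClosedImmersion (ι ∣_ U) := by
    refine IsClosedImmersion.of_isPreimmersion (ι ∣_ U) ?_
    have heq : Set.range (ι ∣_ U) = Subtype.val ⁻¹' closure (Set.range ι) := by
      ext ⟨y, hy⟩
      constructor
      · rintro ⟨w, hw⟩
        refine subset_closure ⟨w.1, ?_⟩
        exact ((morphismRestrict_base_coe ι U w).symm.trans (congrArg Subtype.val hw) :)
      · intro hcl
        by_cases hr : y ∈ Set.range ι
        · obtain ⟨w, rfl⟩ := hr
          exact ⟨⟨w, hy⟩, Subtype.ext (morphismRestrict_base_coe ι U ⟨w, hy⟩)⟩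
        · exfalso
          have h2 : y ∈ C := ⟨hcl, hr⟩
          rw [← hJ] at h2
          exact (Proj.mem_basicOpen 𝒜 z y).1 hy (h2 hzJ)
    rw [heq]
    exact isClosed_closure.preimage continuous_subtype_val
  refine ⟨ι ⁻¹ᵁ U, ?_, fun x hx => ?_⟩
  · haveI : IsAffine U.toScheme := Proj.isAffineOpen_basicOpen 𝒜 z hz hn
    exact isAffine_of_isAffineHom (ι ∣_ U)
  · exact (Proj.mem_basicOpen 𝒜 z _).2 (hzP _ (Finset.mem_image.2 ⟨x, hE.mem_toFinset.2 hx, rfl⟩))

end Groth.Agent.S7388
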