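import Groth.Statements.S7389
import Mathlib

set_option autoImplicit false
universe u
open CategoryTheory AlgebraicGeometry
open Mor

namespace Groth.Agent.S7389

/-- Let `X` be a scheme admitting an immersion into an affine scheme. Then any finite set of points of
`X` is contained in an affine open of `X`. -/
theorem result {X Y : Scheme.{u}} [IsAffine Y] (ι : X ⟶ Y)
    [IsImmersion ι] (E : Set X) (hE : E.Finite) :
    ∃ U : X.Opens, IsAffineOpen U ∧ E ⊆ U := by
  set_option backward.isDefEq.respectTransparency false in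
  let C : Set Y := closure (Set.range ι) \ Set.range ι
  have hC : IsClosed C := by
    have h : IsOpen (coborder (Set.range ι)) := ι.isLocallyClosed_range.isOpen_coborder
    exact isOpen_compl_iff.1 h
  rcases E.eq_empty_or_nonempty with rfl | ⟨x₀, -⟩
  · exact ⟨⊥, isAffineOpen_bot X, Set.empty_subset _⟩
  let e := Y.isoSpec
  have hei : ∀ y : Y, e.inv (e.hom y) = y := fun y => by
    rw [← Scheme.Hom.comp_apply, e.hom_inv_id]; rfl
  have hC' : IsClosed (e.inv ⁻¹' C : Set (Spec Γ(Y, ⊤))) := hC.preimage e.inv.continuous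
  obtain ⟨I, hI⟩ := (PrimeSpectrum.isClosed_iff_zeroLocus_ideal _).1 hC'
  let p : X → PrimeSpectrum Γ(Y, ⊤) := fun x => e.hom (ι x)
  classical
  have hnot : ¬ ((I : Set Γ(Y, ⊤)) ⊆ ⋃ x ∈ (↑(hE.toFinset) : Set X), ((p x).asIdeal : Set Γ(Y, ⊤))) := by
    intro hsub
    obtain ⟨x, hxE, hx⟩ := (Ideal.subset_union_prime (f := fun x => (p x).asIdeal) x₀ x₀
      (fun i _ _ _ => (p i).2)).1 hsub
    have : p x ∈ (e.inv ⁻¹' C : Set (Spec Γ(Y, ⊤))) := by rw [hI]; exact hx
    have h2 : ι x ∈ C := by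
      have h3 : e.inv (p x) = ι x := hei _
      rw [← h3]; exact this
    exact h2.2 ⟨x, rfl⟩
  obtain ⟨a, haI, ha⟩ := Set.not_subset.1 hnot
  let U : Y.Opens := Y.basicOpen a
  have hUe : ∀ y : Y, y ∈ U ↔ a ∉ (show PrimeSpectrum Γ(Y, ⊤) from e.hom y).asIdeal := fun y => by
    have := Scheme.toSpecΓ_preimage_basicOpen Y a
    simp only [U, ← this]
    rfl
  haveI : IsImmersion (ι ∣_ U) := IsZariskiLocalAtTarget.restrict ‹IsImmersion ι› U
  haveI : IsClosedImmersion (ι ∣_ U) := by
    refine IsClosedImmersion.of_isPreimmersion (ι ∣_ U) ?_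
    have heq : Set.range (ι ∣_ U) = Subtype.val ⁻¹' closure (Set.range ι) := by
      ext ⟨y, hy⟩
      constructor
      · rintro ⟨z, hz⟩
        refine subset_closure ⟨z.1, ?_⟩
        exact ((morphismRestrict_base_coe ι U z).symm.trans (congrArg Subtype.val hz) :)
      · intro hcl
        by_cases hr : y ∈ Set.range ι
        · obtain ⟨z, rfl⟩ := hr
          exact ⟨⟨z, hy⟩, Subtype.ext (morphismRestrict_base_coe ι U ⟨z, hy⟩)⟩
        · exfalso
          have h1 : e.inv (e.hom y) = y := hei y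
          have h2 : e.hom y ∈ (e.inv ⁻¹' C : Set (Spec Γ(Y, ⊤))) := by
            rw [Set.mem_preimage, h1]; exact ⟨hcl, hr⟩
          rw [hI] at h2
          exact (hUe y).1 hy (h2 haI)
    rw [heq]
    exact isClosed_closure.preimage continuous_subtype_val
  refine ⟨ι ⁻¹ᵁ U, ?_, fun x hx => ?_⟩
  · exact (isAffineOpen_top Y).basicOpen a |> fun h => by
      haveI : IsAffine U.toScheme := h
      exact isAffine_of_isAffineHom (ι ∣_ U)
  · refine (hUe _).2 fun h => ha (Set.mem_iUnion₂.2 ⟨x, by simpa using hx, h⟩)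

end Groth.Agent.S7389
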