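import Groth.Statements.S7391
import Groth.Agent.ProjLocal.Basic

set_option autoImplicit false
universe u
open CategoryTheory AlgebraicGeometry
open Opposite
open Mor

namespace Groth.Agent.S7391

/-- Let `F` be a quasi-coherent `O_X`-module on a scheme `X`. Then `F(U)` is a projective
`O_X(U)`-module for every affine open `U` (that is, `F` is locally projective) if and only if `X`
has a covering by affine opens `U_i` with `F(U_i)` projective over `O_X(U_i)`. -/
theorem result (X : Scheme.{u}) (F : X.Modules) [Coh.IsQCoh F] :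
    (∀ U : X.Opens, IsAffineOpen U → Module.Projective (X.ringCatSheaf.obj.obj (op U)) (F.val.obj (op U))) ↔
      ∃ (I : Type u) (U : I → X.Opens), (⨆ i, U i) = ⊤ ∧ ∀ i, IsAffineOpen (U i) ∧
        Module.Projective (X.ringCatSheaf.obj.obj (op (U i))) (F.val.obj (op (U i))) := by
  constructor
  · intro h
    let ι : Type u := X
    have hc : ∀ x : X, ∃ U : X.Opens, IsAffineOpen U ∧ x ∈ U := fun x =>
      let ⟨U, hU, hx, _⟩ := exists_isAffineOpen_mem_and_subset (x := x) (U := ⊤) trivial
      ⟨U, hU, hx⟩
    choose U hU hx using hc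
    exact ⟨ι, U, top_unique fun x _ => TopologicalSpace.Opens.mem_iSup.2 ⟨x, hx x⟩, fun x => ⟨hU x, h _ (hU x)⟩⟩
  · rintro ⟨I, U, hcov, h⟩ V hV
    exact Groth.Agent.ProjLocal.projective_of_cover F U hcov (fun i => (h i).1) (fun i => (h i).2) hV

end Groth.Agent.S7391
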