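import Groth.Statements.S7392
import Groth.Agent.QC.FiniteType
import Groth.Agent.QC.PullbackTilde
import Mathlib

set_option linter.style.haveILetI false

set_option autoImplicit false
universe u
open CategoryTheory AlgebraicGeometry
open Opposite
open Mor CategoryTheory AlgebraicGeometry Opposite TensorProduct
open Groth.Agent

namespace Groth.Agent.ProjTilde

theorem fromSpec_eq (A : CommRingCat.{u}) {U : (Spec A).Opens} (hU : IsAffineOpen U) :
    hU.fromSpec = Spec.map ((Scheme.ΓSpecIso A).inv ≫ (Spec A).presheaf.map (homOfLE (le_top : U ≤ ⊤)).op) := by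
  rw [Spec.map_comp, ← Scheme.isoSpec_Spec_inv, ← IsAffineOpen.fromSpec_top]
  exact ((isAffineOpen_top (Spec A)).map_fromSpec hU (homOfLE le_top).op).symm

theorem iff (A : CommRingCat.{u}) (M : ModuleCat.{u} A) :
    (∀ U : (Spec A).Opens, IsAffineOpen U →
      Module.Projective ((Spec A).ringCatSheaf.obj.obj (op U)) ((tilde M).val.obj (op U))) ↔
      Module.Projective A M := by
  constructor
  · intro h
    have h' := h ⊤ (isAffineOpen_top _)
    haveI : Module.Projective Γ(Spec A, ⊤) Γ(tilde M, ⊤) := h'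
    let e : A ≃+* Γ(Spec A, ⊤) := (Scheme.ΓSpecIso A).symm.commRingCatIsoToRingEquiv
    let eM : Γ(tilde M, ⊤) ≃+ M := (tilde.isoTop M).symm.toLinearEquiv.toAddEquiv
    haveI : RingHomInvPair (e.symm : Γ(Spec A, ⊤) →+* A) (e : A →+* Γ(Spec A, ⊤)) := RingHomInvPair.of_ringEquiv_symm e
    haveI : RingHomInvPair (e : A →+* Γ(Spec A, ⊤)) (e.symm : Γ(Spec A, ⊤) →+* A) := RingHomInvPair.of_ringEquiv e
    refine Module.Projective.of_ringEquiv (σ := (e.symm : Γ(Spec A, ⊤) →+* A))
      { eM with
        map_smul' := fun r m => ?_ }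
    change (tilde.isoTop M).symm.toLinearEquiv (r • m) = e.symm r • (tilde.isoTop M).symm.toLinearEquiv m
    rw [← map_smul]
    congr 1
    show r • m = e.symm r • m
    rw [Scheme.Modules.smul_Spec_def]
    congr 1
    refine (Eq.trans ?_ (ConcreteCategory.congr_hom (Scheme.ΓSpecIso A).hom_inv_id r)).symm
    exact ConcreteCategory.congr_hom ((Spec A).presheaf.map_id _) _
  · intro hM U hU
    let φ : A ⟶ Γ(Spec A, U) := (Scheme.ΓSpecIso A).inv ≫ (Spec A).presheaf.map (homOfLE (le_top : U ≤ ⊤)).op
    let e : (tilde M).restrict hU.fromSpec ≅ tilde ((ModuleCat.extendScalars.{u, u, u} φ.hom).obj M) :=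
      (Scheme.Modules.restrictFunctorIsoPullback hU.fromSpec).app (tilde M) ≪≫
        (Scheme.Modules.pullbackCongr (fromSpec_eq A hU)).app (tilde M) ≪≫ (QC.pullbackTildeIso φ).app M
    let e' : Γ((tilde M).restrict hU.fromSpec, ⊤) ≃ₗ[Γ(Spec A, U)]
        (ModuleCat.extendScalars.{u, u, u} φ.hom).obj M :=
      (((moduleSpecΓFunctor (R := Γ(Spec A, U))).mapIso e ≪≫
        (tilde.isoTop ((ModuleCat.extendScalars.{u, u, u} φ.hom).obj M)).symm).toLinearEquiv :)
    haveI : Module.Projective Γ(Spec A, U) ((ModuleCat.extendScalars.{u, u, u} φ.hom).obj M) := by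
      letI := φ.hom.toAlgebra
      exact (inferInstance : Module.Projective Γ(Spec A, U) (Γ(Spec A, U) ⊗[A] M))
    have h := Module.Projective.of_equiv (R := Γ(Spec A, U)) (e'.symm ≪≫ₗ QC.topEquiv hU (tilde M))
    exact h

end Groth.Agent.ProjTilde

namespace Groth.Agent.S7392

/-- For a ring `A` and an `A`-module `M`, the module `M~` on `Spec A` is locally projective (projective
sections over every affine open) if and only if `M` is a projective `A`-module. -/
theorem result (A : CommRingCat.{u}) (M : ModuleCat.{u} A) :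
    (∀ U : (Spec A).Opens, IsAffineOpen U →
      Module.Projective ((Spec A).ringCatSheaf.obj.obj (op U)) ((tilde M).val.obj (op U))) ↔
      Module.Projective A M := by
  exact Groth.Agent.ProjTilde.iff A M

end Groth.Agent.S7392
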