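import Groth.Statements.S7393
import Groth.Agent.GRingCpl.HenselG
import Groth.Agent.Easy3.Excellent
import Groth.Agent.LocNoethTop.ClosedPoint

set_option autoImplicit false
set_option linter.style.haveILetI false
set_option backward.isDefEq.respectTransparency false
universe u
open CategoryTheory AlgebraicGeometry TopologicalSpace
open Mor

namespace Groth.Agent.S7393

/-- regular completion of a stalk in terms of an affine chart -/
theorem regular_stalk {X : Scheme.{u}} {U : X.Opens} (hU : IsAffineOpen U) {x : X} (hx : x ∈ U)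
    (h : CAlg.IsGRing Γ(X, U)) :
    CAlg.IsRegularHom (X.presheaf.stalk x)
      (AdicCompletion (IsLocalRing.maximalIdeal (X.presheaf.stalk x)) (X.presheaf.stalk x)) := by
  haveI := h.1
  let P := (hU.primeIdealOf ⟨x, hx⟩).asIdeal
  haveI : IsNoetherianRing (Localization.AtPrime P) := IsLocalization.isNoetherianRing P.primeCompl _ h.1
  letI : Algebra Γ(X, U) (X.presheaf.stalk x) := (X.presheaf.germ U x hx).hom.toAlgebra
  haveI : IsLocalization.AtPrime (X.presheaf.stalk x) P := hU.isLocalization_stalk ⟨x, hx⟩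
  exact Easy3.isRegularHom_completion_of_ringEquiv
    (IsLocalization.algEquiv P.primeCompl (Localization.AtPrime P) (X.presheaf.stalk x)).toRingEquiv (h.2 P)

/-- regularity passes to generisations -/
theorem regular_of_specializes {X : Scheme.{u}} [IsLocallyNoetherian X] {x z : X} (hzx : z ⤳ x)
    (h : CAlg.IsRegularHom (X.presheaf.stalk x)
      (AdicCompletion (IsLocalRing.maximalIdeal (X.presheaf.stalk x)) (X.presheaf.stalk x))) :
    CAlg.IsRegularHom (X.presheaf.stalk z)
      (AdicCompletion (IsLocalRing.maximalIdeal (X.presheaf.stalk z)) (X.presheaf.stalk z)) := by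
  obtain ⟨V, hV, hxV, -⟩ := exists_isAffineOpen_mem_and_subset (X := X) (U := ⊤) (trivial : x ∈ (⊤ : X.Opens))
  have hzV : z ∈ V := hzx.mem_open V.2 hxV
  have hG : CAlg.IsGRing (X.presheaf.stalk x) := GRingCpl.isGRing_of_local _ h
  let P := (hV.primeIdealOf ⟨x, hxV⟩).asIdeal
  let Q := (hV.primeIdealOf ⟨z, hzV⟩).asIdeal
  letI : Algebra Γ(X, V) (X.presheaf.stalk x) := (X.presheaf.germ V x hxV).hom.toAlgebra
  letI : Algebra Γ(X, V) (X.presheaf.stalk z) := (X.presheaf.germ V z hzV).hom.toAlgebra
  haveI : IsLocalization.AtPrime (X.presheaf.stalk x) P := hV.isLocalization_stalk ⟨x, hxV⟩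
  haveI : IsLocalization.AtPrime (X.presheaf.stalk z) Q := hV.isLocalization_stalk ⟨z, hzV⟩
  haveI : IsNoetherianRing Γ(X, V) := IsLocallyNoetherian.component_noetherian ⟨V, hV⟩
  have hQP : Q ≤ P := by
    have ex : hV.fromSpec.base (hV.primeIdealOf ⟨x, hxV⟩) = x := hV.fromSpec_primeIdealOf ⟨x, hxV⟩
    have ez : hV.fromSpec.base (hV.primeIdealOf ⟨z, hzV⟩) = z := hV.fromSpec_primeIdealOf ⟨z, hzV⟩
    rw [← ex, ← ez] at hzx
    exact (PrimeSpectrum.le_iff_specializes _ _).2
      (hV.fromSpec.isOpenEmbedding.isInducing.specializes_iff.1 hzx)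
  haveI : Q.IsPrime := (hV.primeIdealOf ⟨z, hzV⟩).isPrime
  haveI : P.IsPrime := (hV.primeIdealOf ⟨x, hxV⟩).isPrime
  have hdisj : Disjoint (P.primeCompl : Set Γ(X, V)) Q := by
    rw [Set.disjoint_left]
    exact fun a ha haQ => ha (hQP haQ)
  let Q' := Q.map (algebraMap Γ(X, V) (X.presheaf.stalk x))
  haveI : Q'.IsPrime := IsLocalization.isPrime_of_isPrime_disjoint P.primeCompl _ Q inferInstance hdisj
  haveI hloc := IsLocalization.isLocalization_isLocalization_atPrime_isLocalization P.primeCompl
    (Localization.AtPrime Q') Q'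
  have hQ : Ideal.comap (algebraMap Γ(X, V) (X.presheaf.stalk x)) Q' = Q :=
    IsLocalization.under_map_of_isPrime_disjoint P.primeCompl _ ‹Q.IsPrime› hdisj
  haveI : IsLocalization Q.primeCompl (Localization.AtPrime Q') := by
    have e : (Ideal.comap (algebraMap Γ(X, V) (X.presheaf.stalk x)) Q').primeCompl = Q.primeCompl := by
      ext a
      exact not_congr (SetLike.ext_iff.1 hQ a)
    rw [← e]
    exact hloc
  haveI : IsNoetherianRing (Localization.AtPrime Q') := IsLocalization.isNoetherianRing Q'.primeCompl _ hG.1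
  exact Easy3.isRegularHom_completion_of_ringEquiv
    (IsLocalization.algEquiv Q.primeCompl (Localization.AtPrime Q') (X.presheaf.stalk z)).toRingEquiv (hG.2 Q')

/-- A scheme `X` is a G-scheme (every point has an affine open neighbourhood whose coordinate ring is a
G-ring) if and only if `X` is locally Noetherian and, for every closed point `x`, the completion map
of the local ring `O_{X,x} → O_{X,x}^∧` is a regular ring map. -/
theorem result (X : Scheme.{u}) :
    (∀ x : X, ∃ U : X.Opens, x ∈ U ∧ IsAffineOpen U ∧ CAlg.IsGRing Γ(X, U)) ↔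
      IsLocallyNoetherian X ∧ ∀ x : X, IsClosed ({x} : Set X) →
        CAlg.IsRegularHom (X.presheaf.stalk x)
          (AdicCompletion (IsLocalRing.maximalIdeal (X.presheaf.stalk x)) (X.presheaf.stalk x)) := by
  constructor
  · intro h
    choose U hxU hU hG using h
    refine ⟨?_, fun x _ => regular_stalk (hU x) (hxU x) (hG x)⟩
    exact (isLocallyNoetherian_iff_of_iSup_eq_top (S := fun x => (⟨U x, hU x⟩ : X.affineOpens))
      (eq_top_iff.2 fun x _ => Opens.mem_iSup.2 ⟨x, hxU x⟩)).2 fun x => (hG x).1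
  · rintro ⟨hX, h⟩ x
    haveI := hX
    obtain ⟨V, hV, hxV, -⟩ := exists_isAffineOpen_mem_and_subset (X := X) (U := ⊤) (trivial : x ∈ (⊤ : X.Opens))
    haveI : IsNoetherianRing Γ(X, V) := IsLocallyNoetherian.component_noetherian ⟨V, hV⟩
    refine ⟨V, hxV, hV, GRingCpl.isGRing_of_maximal fun m _ => ?_⟩
    let pt : PrimeSpectrum Γ(X, V) := ⟨m, inferInstance⟩
    let z : X := hV.fromSpec.base pt
    have hzV : z ∈ V := by
      have : z ∈ Set.range hV.fromSpec.base := ⟨_, rfl⟩
      rwa [hV.range_fromSpec] at this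
    have hprime : hV.primeIdealOf ⟨z, hzV⟩ = pt :=
      hV.fromSpec.isOpenEmbedding.injective (hV.fromSpec_primeIdealOf ⟨z, hzV⟩)
    obtain ⟨w, hw, hwc⟩ := LocNoethTop.exists_isClosed_singleton (X := X)
      (isClosed_closure (s := ({z} : Set X))) ⟨z, subset_closure rfl⟩
    have hz := regular_of_specializes (specializes_iff_mem_closure.2 hw) (h w hwc)
    letI : Algebra Γ(X, V) (X.presheaf.stalk z) := (X.presheaf.germ V z hzV).hom.toAlgebra
    haveI : IsLocalization.AtPrime (X.presheaf.stalk z) m := by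
      have h1 := hV.isLocalization_stalk ⟨z, hzV⟩
      simp only [hprime] at h1
      exact h1
    exact Easy3.isRegularHom_completion_of_ringEquiv
      (IsLocalization.algEquiv m.primeCompl (X.presheaf.stalk z) (Localization.AtPrime m)).toRingEquiv hz

end Groth.Agent.S7393
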