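import Groth.Statements.S7394
import Groth.Agent.ThickSys.NearFibre

set_option autoImplicit false
universe u
open CategoryTheory AlgebraicGeometry
open Lim

open CategoryTheory Limits AlgebraicGeometry
namespace Groth.Agent.S7394

/-- Let `S` be a scheme and `T_i → S`, `i ∈ I`, surjective affine morphisms. Then any product of the
`T_i` in the category of schemes over `S` maps surjectively onto `S`. -/
theorem result {S : Scheme.{u}} {I : Type u} (T : I → Over S)
    (hT : ∀ i, IsAffineHom (T i).hom ∧ Surjective (T i).hom) (c : Limits.Fan T) (hc : Limits.IsLimit c) :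
    Surjective c.pt.hom := by
  refine ⟨fun s => ?_⟩
  choose x hx using fun i => (hT i).2.surj s
  have hr : ∀ i, ∃ r : Spec ((T i).left.residueField (x i)) ⟶ Spec (S.residueField s),
      r ≫ S.fromSpecResidueField s = (T i).left.fromSpecResidueField (x i) ≫ (T i).hom := fun i =>
    Groth.Agent.ThickSys.exists_lift_fromSpecResidueField (S := S) ((T i).left.residueField (x i)) _ (by
      rw [Scheme.Hom.comp_apply, Scheme.fromSpecResidueField_apply]; exact hx i)
  choose r hr using hr
  let k := S.residueField s
  let K : I → Type u := fun i => (T i).left.residueField (x i)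
  letI (i : I) : Field (K i) := inferInstanceAs (Field ((T i).left.residueField (x i)))
  letI (i : I) : Algebra k (K i) := (Spec.preimage (r i)).hom.toAlgebra
  let Ω := AlgebraicClosure (FractionRing (MvPolynomial (Σ i, K i) k))
  let v : (Σ i, K i) → Ω := fun p => algebraMap (MvPolynomial (Σ i, K i) k) Ω (MvPolynomial.X p)
  have hv : AlgebraicIndependent k v :=
    (MvPolynomial.algebraicIndependent_X (Σ i, K i) k).map' (f := IsScalarTower.toAlgHom k (MvPolynomial (Σ i, K i) k) Ω)
      (by
        rw [IsScalarTower.coe_toAlgHom', IsScalarTower.algebraMap_eq (MvPolynomial (Σ i, K i) k) (FractionRing (MvPolynomial (Σ i, K i) k)) Ω,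
          RingHom.coe_comp]
        exact (RingHom.injective _).comp (IsFractionRing.injective (MvPolynomial (Σ i, K i) k) (FractionRing (MvPolynomial (Σ i, K i) k))))
  have φ : ∀ i, Nonempty (K i →ₐ[k] Ω) := fun i => by
    obtain ⟨b, hb⟩ := exists_isTranscendenceBasis k (K i)
    have hw : AlgebraicIndependent k (fun a : b => v ⟨i, a.1⟩) :=
      hv.comp _ (fun a c h => Subtype.ext (eq_of_heq (Sigma.mk.inj h).2))
    let A := IntermediateField.adjoin k (Set.range (Subtype.val : b → K i))
    let ψ : A →ₐ[k] Ω := (IntermediateField.val _).comp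
      ((hb.1.aevalEquivField.symm.trans hw.aevalEquivField).toAlgHom)
    haveI : Algebra.IsAlgebraic A (K i) := hb.isAlgebraic_field
    letI : Algebra A Ω := ψ.toRingHom.toAlgebra
    haveI : IsScalarTower k A Ω := IsScalarTower.of_algebraMap_eq fun a => (ψ.commutes a).symm
    exact ⟨(IsAlgClosed.lift (M := Ω) (R := A) (S := K i)).restrictScalars k⟩
  let g (i : I) : Spec (CommRingCat.of Ω) ⟶ (T i).left :=
    Spec.map (CommRingCat.ofHom (φ i).some.toRingHom) ≫ (T i).left.fromSpecResidueField (x i)
  let q : Spec (CommRingCat.of Ω) ⟶ S :=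
    Spec.map (CommRingCat.ofHom (algebraMap k Ω)) ≫ S.fromSpecResidueField s
  let P : Over S := Over.mk q
  have hg : ∀ i, g i ≫ (T i).hom = q := fun i => by
    simp only [g, q, Category.assoc, ← hr i]
    rw [← Category.assoc]
    congr 1
    conv_lhs => rw [← Spec.map_preimage (r i), ← Spec.map_comp]
    congr 1
    ext a
    exact (φ i).some.commutes a
  let l : P ⟶ c.pt := hc.lift (Fan.mk P fun i => Over.homMk (g i) (hg i))
  refine ⟨l.left (IsLocalRing.closedPoint Ω), ?_⟩
  rw [← Scheme.Hom.comp_apply, Over.w l]
  show (Spec.map _ ≫ S.fromSpecResidueField s) _ = s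
  rw [Scheme.Hom.comp_apply, Scheme.fromSpecResidueField_apply]

end Groth.Agent.S7394
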