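import Groth.Statements.S7395
import Groth.Agent.AbsApprox.StageProps

set_option backward.isDefEq.respectTransparency false

set_option autoImplicit false
universe u
open CategoryTheory AlgebraicGeometry
open Lim

namespace Groth.Agent.S7395

/-- Let `f : X → S` be separated and of finite type with `S` quasi-compact and quasi-separated. Then
there are a separated morphism `f' : X' → S` of finite presentation and a closed immersion `X → X'`
over `S`. -/
theorem result {X S : Scheme.{u}} (f : X ⟶ S) [IsSeparated f]
    [LocallyOfFiniteType f] [QuasiCompact f] [CompactSpace S] [QuasiSeparatedSpace S] :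
    ∃ (X' : Scheme.{u}) (f' : X' ⟶ S) (j : X ⟶ X'), IsSeparated f' ∧ LocallyOfFinitePresentation f' ∧
      QuasiCompact f' ∧ IsClosedImmersion j ∧ j ≫ f' = f := by
  classical
  haveI : CompactSpace X := QuasiCompact.compactSpace_of_compactSpace f
  haveI : QuasiSeparatedSpace X := quasiSeparatedSpace_of_quasiSeparated f
  obtain ⟨T, t, Ω, g, h1, h2, h3, hc, h4, h5⟩ := Groth.Agent.AbsApprox.exists_closedImmersion_opens f
  haveI : CompactSpace Ω.toScheme := isCompact_iff_compactSpace.mp hc
  haveI : QuasiSeparatedSpace Ω.toScheme := quasiSeparatedSpace_of_quasiSeparated (Ω.ι ≫ t)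
  obtain ⟨L, hL⟩ := Groth.Agent.AbsApprox.exists_isSeparated_closedDiagram f (Ω.ι ≫ t) g h5
  let D := Groth.Agent.AbsApprox.closedDiagram (Ω.ι ≫ t) g
  let c := Groth.Agent.AbsApprox.closedCone f (Ω.ι ≫ t) g h5
  haveI := hL L (𝟙 _)
  haveI := Groth.Agent.AbsApprox.lfp_closedDiagram (Ω.ι ≫ t) g L
  exact ⟨(D.obj L).left, (D.obj L).hom, (c.π.app L).left, inferInstance, inferInstance, quasiCompact_of_compactSpace _,
    Groth.Agent.AbsApprox.isClosedImmersion_closedCone f (Ω.ι ≫ t) g h5 L, Over.w (c.π.app L)⟩

end Groth.Agent.S7395
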