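import Groth.Statements.S7397
import Mathlib

set_option autoImplicit false
universe u
open Mor

namespace Groth.Agent.S7397

/-- Let `A ⊆ B` be a ring extension and `b ∈ B`, `b ∉ A`, with `b^n, b^(n+1) ∈ A` for some `n ≥ 2`. Then
some `b' ∈ B` with `b' ∉ A` has `b'^2 ∈ A` and `b'^3 ∈ A`. -/
theorem result {B : Type u} [CommRing B] (A : Subring B) (b : B) (hb : b ∉ A)
    (n : ℕ) (hn : 2 ≤ n) (h1 : b ^ n ∈ A) (h2 : b ^ (n + 1) ∈ A) :
    ∃ b' : B, b' ∉ A ∧ b' ^ 2 ∈ A ∧ b' ^ 3 ∈ A := by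
  classical
  have hfin : ∀ m, n * n ≤ m → b ^ m ∈ A := fun m hm => by
    have hq : n ≤ m / n := (Nat.le_div_iff_mul_le (by omega)).2 hm
    have hr : m % n < n := Nat.mod_lt _ (by omega)
    have hm' : m = n * (m / n - m % n) + (n + 1) * (m % n) := by
      obtain ⟨c, hc⟩ : ∃ c, m / n = m % n + c := ⟨m / n - m % n, by omega⟩
      rw [hc, Nat.add_sub_cancel_left]
      conv_lhs => rw [← Nat.div_add_mod m n, hc]
      ring
    rw [hm', pow_add, pow_mul, pow_mul]
    exact mul_mem (pow_mem h1 _) (pow_mem h2 _)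
  let M := Nat.findGreatest (fun m => b ^ m ∉ A) (n * n)
  have h0 : b ^ 1 ∉ A := by rwa [pow_one]
  have hnn : 1 ≤ n * n := by nlinarith
  have hM : b ^ M ∉ A := Nat.findGreatest_spec (P := fun m => b ^ m ∉ A) hnn h0
  have hM1 : 1 ≤ M := Nat.le_findGreatest hnn h0
  have key : ∀ k, M < k → b ^ k ∈ A := fun k hk => by
    by_cases hkn : n * n ≤ k
    · exact hfin k hkn
    · by_contra hc
      exact absurd hc (Nat.findGreatest_is_greatest (P := fun m => b ^ m ∉ A) hk (by omega))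
  refine ⟨b ^ M, hM, ?_, ?_⟩
  · rw [← pow_mul]; exact key _ (by omega)
  · rw [← pow_mul]; exact key _ (by omega)

end Groth.Agent.S7397
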