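import Groth.Statements.S7402
import Groth.Agent.Tower.Elementary

set_option linter.style.haveILetI false

set_option autoImplicit false
universe u
open CategoryTheory AlgebraicGeometry
open Polynomial
open Mor

namespace Groth.Agent.S7402

/-- Let `A` be a ring and `x, y ∈ A` with `x^3 = y^2`. Then `A → B = A[t]/(t^2 - x, t^3 - y)` induces a
universal homeomorphism on spectra and isomorphisms on residue fields. -/
theorem result (A : Type u) [CommRing A] (x y : A) (h : x ^ 3 = y ^ 2) :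
    FlatMor.IsUnivHomeo (Spec.map (CommRingCat.ofHom (algebraMap A
      (A[X] ⧸ Ideal.span ({X ^ 2 - C x, X ^ 3 - C y} : Set A[X]))))) ∧
    ∀ q : Spec (CommRingCat.of (A[X] ⧸ Ideal.span ({X ^ 2 - C x, X ^ 3 - C y} : Set A[X]))),
      Function.Surjective ((Spec.map (CommRingCat.ofHom (algebraMap A
        (A[X] ⧸ Ideal.span ({X ^ 2 - C x, X ^ 3 - C y} : Set A[X]))))).residueFieldMap q) := by
  set J : Ideal A[X] := Ideal.span ({X ^ 2 - C x, X ^ 3 - C y} : Set A[X]) with hJ
  let r : A[X] ⧸ J := Ideal.Quotient.mk J X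
  have hr : Algebra.adjoin A {r} = (⊤ : Subalgebra A (A[X] ⧸ J)) := by
    rw [show ({r} : Set (A[X] ⧸ J)) = Ideal.Quotient.mkₐ A J '' {X} by simp [r], ← AlgHom.map_adjoin,
      Polynomial.adjoin_X, Algebra.map_top, AlgHom.range_eq_top]
    exact Ideal.Quotient.mkₐ_surjective A J
  have h1 : Ideal.Quotient.mk J (X ^ 2 - C x) = 0 := Ideal.Quotient.eq_zero_iff_mem.2 (Ideal.subset_span (by simp))
  have h2 : Ideal.Quotient.mk J (X ^ 3 - C y) = 0 := Ideal.Quotient.eq_zero_iff_mem.2 (Ideal.subset_span (by simp))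
  simp only [map_sub, map_mul, map_pow, sub_eq_zero] at h1 h2
  have e1 : r ^ 2 = algebraMap A (A[X] ⧸ J) x := h1
  have e2 : r ^ 3 = algebraMap A (A[X] ⧸ J) y := h2
  have hsurj : ∀ (K : Type u) [Field K] [IsAlgClosed K] (g : A →+* K),
      ∃ g' : (A[X] ⧸ J) →+* K, g'.comp (algebraMap A (A[X] ⧸ J)) = g := by
    intro K _ _ g
    obtain ⟨β, hβ1, hβ2⟩ : ∃ β : K, β ^ 2 = g x ∧ β ^ 3 = g y := by
      have hg : g x ^ 3 = g y ^ 2 := by simpa using congrArg g h
      by_cases hx : g x = 0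
      · rw [hx, zero_pow three_ne_zero, eq_comm, pow_eq_zero_iff two_ne_zero] at hg
        exact ⟨0, by rw [zero_pow two_ne_zero, hx], by rw [zero_pow three_ne_zero, hg]⟩
      · refine ⟨g y / g x, ?_, ?_⟩
        · rw [div_pow, ← hg]; field_simp
        · rw [div_pow, hg]; field_simp
    refine ⟨Ideal.Quotient.lift J (Polynomial.eval₂RingHom g β) ?_, ?_⟩
    · intro q hq
      refine Submodule.span_le (p := RingHom.ker (Polynomial.eval₂RingHom g β)) |>.2 ?_ hq
      rintro z (rfl | rfl) <;> simp [hβ1, hβ2]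
    · ext a
      exact Polynomial.eval₂_C g β
  have key := Tower.isUnivHomeo_of_root Tower.sqCube_mono r hr
    ⟨Algebra.mem_bot.2 ⟨x, e1.symm⟩, Algebra.mem_bot.2 ⟨y, e2.symm⟩⟩
    (fun b S hb => ⟨2, two_pos, hb.1⟩)
    (fun K _ g g' b S hS hb => Tower.eq_of_eq_on_sqCube g g' hS hb) hsurj
  exact ⟨key.1, Tower.residueFieldMap_surjective_of_towers key.2⟩

end Groth.Agent.S7402
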