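import Groth.Statements.S7403
import Groth.Agent.Tower.Elementary

set_option linter.style.haveILetI false

set_option autoImplicit false
universe u
open CategoryTheory AlgebraicGeometry
open Polynomial
open Mor

namespace Groth.Agent.S7403

/-- Let `A` be a ring, `p` a prime number and `x, y ∈ A` with `p^p x = y^p`. Then `A → B = A[t]/(t^p -
x, p t - y)` induces a universal homeomorphism on spectra. -/
theorem result (A : Type u) [CommRing A] (p : ℕ) (hp : p.Prime) (x y : A)
    (h : (p : A) ^ p * x = y ^ p) :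
    FlatMor.IsUnivHomeo (Spec.map (CommRingCat.ofHom (algebraMap A
      (A[X] ⧸ Ideal.span ({X ^ p - C x, C (p : A) * X - C y} : Set A[X]))))) := by
  set J : Ideal A[X] := Ideal.span ({X ^ p - C x, C (p : A) * X - C y} : Set A[X]) with hJ
  let r : A[X] ⧸ J := Ideal.Quotient.mk J X
  have hr : Algebra.adjoin A {r} = (⊤ : Subalgebra A (A[X] ⧸ J)) := by
    rw [show ({r} : Set (A[X] ⧸ J)) = Ideal.Quotient.mkₐ A J '' {X} by simp [r], ← AlgHom.map_adjoin,
      Polynomial.adjoin_X, Algebra.map_top, AlgHom.range_eq_top]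
    exact Ideal.Quotient.mkₐ_surjective A J
  have h1 : Ideal.Quotient.mk J (X ^ p - C x) = 0 := Ideal.Quotient.eq_zero_iff_mem.2 (Ideal.subset_span (by simp))
  have h2 : Ideal.Quotient.mk J (C (p : A) * X - C y) = 0 := Ideal.Quotient.eq_zero_iff_mem.2 (Ideal.subset_span (by simp))
  simp only [map_sub, map_mul, map_pow, sub_eq_zero] at h1 h2
  have e1 : r ^ p = algebraMap A (A[X] ⧸ J) x := h1
  have e2 : algebraMap A (A[X] ⧸ J) (p : A) * r = algebraMap A (A[X] ⧸ J) y := h2
  have hsurj : ∀ (K : Type u) [Field K] [IsAlgClosed K] (g : A →+* K),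
      ∃ g' : (A[X] ⧸ J) →+* K, g'.comp (algebraMap A (A[X] ⧸ J)) = g := by
    intro K _ _ g
    obtain ⟨β, hβ1, hβ2⟩ : ∃ β : K, β ^ p = g x ∧ (p : K) * β = g y := by
      have hg : (p : K) ^ p * g x = g y ^ p := by simpa using congrArg g h
      by_cases hpK : (p : K) = 0
      · obtain ⟨β, hβ⟩ := IsAlgClosed.exists_pow_nat_eq (g x) hp.pos
        refine ⟨β, hβ, ?_⟩
        rw [hpK, zero_pow hp.ne_zero, zero_mul, eq_comm, pow_eq_zero_iff hp.ne_zero] at hg
        rw [hpK, zero_mul, hg]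
      · refine ⟨g y / p, ?_, by field_simp⟩
        rw [div_pow, ← hg]; field_simp
    refine ⟨Ideal.Quotient.lift J (Polynomial.eval₂RingHom g β) ?_, ?_⟩
    · intro q hq
      refine Submodule.span_le (p := RingHom.ker (Polynomial.eval₂RingHom g β)) |>.2 ?_ hq
      rintro z (rfl | rfl) <;> simp [hβ1, hβ2]
    · ext a
      exact Polynomial.eval₂_C g β
  refine (Tower.isUnivHomeo_of_root Tower.sqCubeOrPrime_mono r hr (Or.inr ⟨p, hp, ?_, ?_⟩)
    (fun b S hb => hb.elim (fun hb => ⟨2, two_pos, hb.1⟩) (fun ⟨q, hq, _, hb⟩ => ⟨q, hq.pos, hb⟩))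
    (fun K _ g g' b S hS hb => Tower.eq_of_eq_on_sqCubeOrPrime g g' hS hb) hsurj).1
  · exact Algebra.mem_bot.2 ⟨y, e2.symm.trans (by rw [map_natCast])⟩
  · exact Algebra.mem_bot.2 ⟨x, e1.symm⟩

end Groth.Agent.S7403
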