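import Groth.Statements.S7406
import Mathlib.AlgebraicGeometry.Morphisms.Etale
import Mathlib.AlgebraicGeometry.Fiber
import Mathlib.RingTheory.Etale.Field
import Mathlib.RingTheory.Unramified.Finite
import Mathlib.AlgebraicGeometry.Morphisms.FormallyUnramified
import Mathlib.AlgebraicGeometry.Morphisms.QuasiFinite

set_option autoImplicit false
universe u
open CategoryTheory AlgebraicGeometry
open Desc

open CategoryTheory Limits AlgebraicGeometry
set_option backward.isDefEq.respectTransparency false
namespace Groth.Agent.S7406

/-- An étale morphism induces étale maps of residue fields. -/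
theorem etale_residueFieldMap {X Y : Scheme.{u}} (f : X ⟶ Y) [Etale f] (x : X) :
    Etale (Spec.map (f.residueFieldMap x)) := by
  rw [HasRingHomProperty.Spec_iff (P := @Etale), RingHom.etale_iff_formallyUnramified_and_smooth]
  have hs : (f.residueFieldMap x).hom.comp (Y.residue (f x)).hom = (X.residue x).hom.comp (f.stalkMap x).hom := by
    rw [← CommRingCat.hom_comp, ← CommRingCat.hom_comp, Scheme.residue_residueFieldMap]
  have hu : (f.residueFieldMap x).hom.FormallyUnramified := by
    refine RingHom.FormallyUnramified.of_comp (f := (Y.residue (f x)).hom) ?_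
    rw [hs]
    exact RingHom.FormallyUnramified.comp (FormallyUnramified.stalkMap (f := f) x)
      (RingHom.FormallyUnramified.of_surjective (X.residue_surjective x))
  refine ⟨hu, ?_⟩
  have he : (f.residueFieldMap x).hom.EssFiniteType := by
    refine RingHom.EssFiniteType.of_comp (Y.residue (f x)).hom ?_
    rw [hs]
    exact (LocallyOfFiniteType.stalkMap f x).comp
      (RingHom.FiniteType.of_surjective _ (X.residue_surjective x)).essFiniteType
  algebraize [(f.residueFieldMap x).hom]
  haveI : Algebra.EssFiniteType (Y.residueField (f x)) (X.residueField x) := he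
  haveI : Algebra.FormallyUnramified (Y.residueField (f x)) (X.residueField x) := hu
  haveI : Algebra.IsSeparable (Y.residueField (f x)) (X.residueField x) :=
    (Algebra.FormallyUnramified.iff_isSeparable _ _).1 inferInstance
  haveI : Module.Finite (Y.residueField (f x)) (X.residueField x) := Algebra.FormallyUnramified.finite_of_free _ _
  haveI : Algebra.FormallyEtale (Y.residueField (f x)) (X.residueField x) :=
    (Algebra.FormallyEtale.iff_isSeparable _ _).2 inferInstance
  haveI : Algebra.FinitePresentation (Y.residueField (f x)) (X.residueField x) :=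
    Algebra.FinitePresentation.of_finiteType.1 inferInstance
  show (algebraMap (Y.residueField (f x)) (X.residueField x)).Smooth
  rw [RingHom.smooth_algebraMap]
  exact ⟨inferInstance, inferInstance⟩


/-- Consider a commutative square of schemes with horizontal maps `h' : U' → V'`, `h : U → V` and étale
vertical maps `a : U' → U`, `b : V' → V`, and let `v' ∈ V'` with image `v = b(v')`. Then the induced
morphism of fibres `U'_{v'} → U_v` is étale. (The morphism of fibres is characterised by its
compatibility with `a` and with `Spec κ(v') → Spec κ(v)`.) -/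
theorem result {U U' V V' : Scheme.{u}} (h : U ⟶ V) (h' : U' ⟶ V') (a : U' ⟶ U)
    (b : V' ⟶ V) [Etale a] [Etale b] (comm : h' ≫ b = a ≫ h) (v' : V')
    (φ : h'.fiber v' ⟶ h.fiber (b v')) (hφ1 : φ ≫ h.fiberι (b v') = h'.fiberι v' ≫ a)
    (hφ2 : φ ≫ h.fiberToSpecResidueField (b v') = h'.fiberToSpecResidueField v' ≫ Spec.map (b.residueFieldMap v')) :
    Etale φ := by
  let j : U' ⟶ pullback h b := pullback.lift a h' comm.symm
  haveI : Etale (j ≫ pullback.fst h b) := by rw [pullback.lift_fst]; infer_instance
  haveI : Etale j := Etale.of_comp j (pullback.fst h b)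
  let sr := pullback.snd h b
  have hj : j ≫ sr = h' := pullback.lift_snd _ _ _
  let ψ : h'.fiber v' ⟶ sr.fiber v' := pullback.lift (h'.fiberι v' ≫ j) (h'.fiberToSpecResidueField v') (by
    rw [Category.assoc, hj]; exact pullback.condition)
  have hψ1 : ψ ≫ sr.fiberι v' = h'.fiberι v' ≫ j := pullback.lift_fst _ _ _
  have hψ2 : ψ ≫ sr.fiberToSpecResidueField v' = h'.fiberToSpecResidueField v' := pullback.lift_snd _ _ _
  haveI : Etale ψ := by
    have hq : IsPullback (h'.fiberι v') ψ j (sr.fiberι v') := by
      refine IsPullback.of_bot (v₂₁ := sr.fiberToSpecResidueField v') (h₃₁ := V'.fromSpecResidueField v') (v₂₂ := sr) ?_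
        hψ1.symm (IsPullback.of_hasPullback sr (V'.fromSpecResidueField v'))
      rw [hψ2, hj]
      exact IsPullback.of_hasPullback h' (V'.fromSpecResidueField v')
    exact MorphismProperty.of_isPullback hq ‹Etale j›
  let θ : sr.fiber v' ⟶ h.fiber (b v') :=
    pullback.map _ _ _ _ (pullback.fst h b) (Spec.map (b.residueFieldMap v')) b (pullback.condition).symm (by simp)
  haveI : Etale (Spec.map (b.residueFieldMap v')) := etale_residueFieldMap b v'
  haveI : Etale θ := MorphismProperty.of_isPullback
    (isPullback_fiberToSpecResidueField_of_isPullback (IsPullback.of_hasPullback h b) v').flip ‹_›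
  have : φ = ψ ≫ θ := by
    apply pullback.hom_ext
    · show φ ≫ h.fiberι _ = (ψ ≫ θ) ≫ pullback.fst _ _
      rw [hφ1, Category.assoc, pullback.lift_fst]
      show _ = ψ ≫ sr.fiberι v' ≫ pullback.fst h b
      rw [reassoc_of% hψ1, pullback.lift_fst]
    · show φ ≫ h.fiberToSpecResidueField _ = (ψ ≫ θ) ≫ pullback.snd _ _
      rw [hφ2, Category.assoc, pullback.lift_snd]
      show _ = ψ ≫ sr.fiberToSpecResidueField v' ≫ _
      rw [reassoc_of% hψ2]
  rw [this]
  infer_instance

end Groth.Agent.S7406
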