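import Groth.Statements.S7412
import Mathlib.Algebra.Module.CharacterModule
import Mathlib.RingTheory.Flat.Basic
-- import your own Groth.Agent.* helpers here

set_option autoImplicit false
universe u
open Desc

namespace Groth.Agent.S7412

noncomputable def swapChar {R : Type*} [CommRing R] {X Y : Type*} [AddCommGroup X] [Module R X]
    [AddCommGroup Y] [Module R Y] (φ : X →ₗ[R] CharacterModule Y) :
    Y →ₗ[R] CharacterModule X where
  toFun y :=
    { toFun := fun x => φ x y
      map_zero' := by rw [map_zero]; rfl
      map_add' := fun a b => by simp; rfl }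
  map_add' y y' := by
    refine DFunLike.ext _ _ fun x => ?_
    exact map_add (φ x) y y'
  map_smul' r y := by
    refine DFunLike.ext _ _ fun x => ?_
    show φ x (r • y) = φ (r • x) y
    rw [map_smul φ r x]
    rfl


/-- Let `R` be a ring and `f : M → N` a map of `R`-modules. Then `f` is universally injective (`f ⊗ 1_P`
is injective for every `R`-module `P`; here `P` ranges over modules in the same universe, which
suffices) if and only if the map of character modules `C(N) → C(M)`, `C(-) = Hom_ℤ(-, ℚ/ℤ)`, is a
split surjection of `R`-modules. -/
theorem result {R : Type u} [CommRing R] {M N : Type u}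
    [AddCommGroup M] [Module R M] [AddCommGroup N] [Module R N] (f : M →ₗ[R] N) :
    (∀ (P : Type u) [AddCommGroup P] [Module R P], Function.Injective (f.lTensor P)) ↔
      ∃ g : CharacterModule M →ₗ[R] CharacterModule N, (CharacterModule.dual f).comp g = LinearMap.id := by
  constructor
  · intro h
    let ev : M →ₗ[R] CharacterModule (CharacterModule M) :=
      { toFun := fun m => AddMonoidHom.eval m
        map_add' := fun m m' => by ext c; exact map_add c m m'
        map_smul' := fun r m => by ext c; rfl }
    obtain ⟨g, hg⟩ := rTensor_injective_iff_lcomp_surjective.1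
      ((f.lTensor_inj_iff_rTensor_inj (CharacterModule M)).1 (h (CharacterModule M))) ev
    refine ⟨swapChar g, ?_⟩
    refine LinearMap.ext fun c => DFunLike.ext _ _ fun m => ?_
    show g (f m) c = c m
    exact DFunLike.congr_fun (LinearMap.congr_fun hg m) c
  · rintro ⟨g, hg⟩ P _ _
    refine (f.lTensor_inj_iff_rTensor_inj P).2
      (rTensor_injective_iff_lcomp_surjective.2 fun φ => ⟨swapChar (g.comp (swapChar φ)), ?_⟩)
    refine LinearMap.ext fun m => DFunLike.ext _ _ fun p => ?_
    show g (swapChar φ p) (f m) = φ m p
    exact DFunLike.congr_fun (LinearMap.congr_fun hg (swapChar φ p)) m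

end Groth.Agent.S7412
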