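import Groth.Statements.S7413
import Groth.Agent.ProjLocal.Basic
import Groth.Agent.SymAlg.PullBC

set_option autoImplicit false
set_option linter.style.haveILetI false
universe u
open CategoryTheory AlgebraicGeometry
open Opposite
open Mor

namespace Groth.Agent.S7413

/-- Let `f : X → Y` be a morphism of schemes and `G` a quasi-coherent, locally projective `O_Y`-module
(projective sections over every affine open). Then `f^* G` is locally projective on `X`. -/
theorem result {X Y : Scheme.{u}} (f : X ⟶ Y) (G : Y.Modules) [Coh.IsQCoh G]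
    (hG : ∀ V : Y.Opens, IsAffineOpen V → Module.Projective (Y.ringCatSheaf.obj.obj (op V)) (G.val.obj (op V)))
    (U : X.Opens) (hU : IsAffineOpen U) :
    Module.Projective (X.ringCatSheaf.obj.obj (op U)) (((Scheme.Modules.pullback f).obj G).val.obj (op U)) := by
  haveI : Coh.IsQCoh ((Scheme.Modules.pullback f).obj G) := Groth.Agent.QC.isQCoh_pullback f ‹Coh.IsQCoh G›
  have hc : ∀ x : X, ∃ (W : X.Opens) (V : Y.Opens), IsAffineOpen W ∧ IsAffineOpen V ∧ W ≤ f ⁻¹ᵁ V ∧ x ∈ W := fun x => by
    obtain ⟨V, hV, hxV, -⟩ := exists_isAffineOpen_mem_and_subset (x := f.base x) (U := ⊤) trivial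
    obtain ⟨W, hW, hxW, hWV⟩ := exists_isAffineOpen_mem_and_subset (x := x) (U := f ⁻¹ᵁ V) hxV
    exact ⟨W, V, hW, hV, hWV, hxW⟩
  choose W V hW hV hWV hx using hc
  refine Groth.Agent.ProjLocal.projective_of_cover _ W
    (top_unique fun x _ => TopologicalSpace.Opens.mem_iSup.2 ⟨x, hx x⟩) hW (fun x => ?_) hU
  have hbc := Groth.Agent.RelTilde.isBC_unit f (L := G) ‹Coh.IsQCoh G› (hV x) (hW x) (hWV x)
  let φ := (f.appLE (V x) (W x) (hWV x)).hom
  let L' := (Scheme.Modules.pullback f).obj G
  let θ := (Scheme.Modules.pullbackPushforwardAdjunction f).unit.app G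
  letI := φ.toAlgebra
  letI := Module.compHom Γ(L', W x) φ
  haveI : IsScalarTower Γ(Y, V x) Γ(X, W x) Γ(L', W x) := IsScalarTower.of_algebraMap_smul fun _ _ => rfl
  let g : Γ(G, V x) →ₗ[Γ(Y, V x)] Γ(L', W x) :=
    { toFun := Groth.Agent.RelTilde.resθ f θ (hWV x)
      map_add' := map_add _
      map_smul' := fun r m => (Groth.Agent.RelTilde.resθ f θ (hWV x)).map_smulₛₗ r m }
  have hb : IsBaseChange Γ(X, W x) g := by
    refine IsBaseChange.of_lift_unique _ fun Q _ _ _ _ w => ?_
    letI : AddCommGroup Q := Module.addCommMonoidToAddCommGroup Γ(X, W x)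
    let w' : Γ(G, V x) →ₛₗ[φ] Q :=
      { toFun := w
        map_add' := map_add w
        map_smul' := fun r m => by rw [map_smul]; exact (IsScalarTower.algebraMap_smul Γ(X, W x) r (w m)).symm }
    obtain ⟨q, hq, huniq⟩ := hbc Q w'
    exact ⟨q, LinearMap.ext hq, fun q' hq' => huniq q' fun m => LinearMap.congr_fun hq' m⟩
  haveI : Module.Projective Γ(Y, V x) Γ(G, V x) := hG (V x) (hV x)
  exact Module.Projective.of_equiv hb.equiv

end Groth.Agent.S7413
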