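import Groth.Statements.S7414
-- import your own Groth.Agent.* helpers here
import Groth.Agent.Easy3.Excellent
import Groth.Agent.Catenary.Space

set_option autoImplicit false
universe u
open CategoryTheory AlgebraicGeometry
open Mor

namespace Groth.Agent.S7414

/-- A scheme `X` is a G-scheme (every point has an affine open neighbourhood with G-ring coordinate
ring) if and only if `O_X(U)` is a G-ring for every affine open `U ⊆ X`. -/
theorem result (X : Scheme.{u}) :
    (∀ x : X, ∃ U : X.Opens, x ∈ U ∧ IsAffineOpen U ∧ CAlg.IsGRing Γ(X, U)) ↔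
      ∀ U : X.Opens, IsAffineOpen U → CAlg.IsGRing Γ(X, U) := by
  refine ⟨fun h U hU => ?_, fun h x => ?_⟩
  · haveI : IsLocallyNoetherian X := by
      choose V hxV hV hG using h
      refine isLocallyNoetherian_of_affine_cover (S := fun x : X => (⟨V x, hV x⟩ : X.affineOpens)) ?_ fun x => (hG x).1
      exact eq_top_iff.mpr fun x _ => TopologicalSpace.Opens.mem_iSup.mpr ⟨x, hxV x⟩
    haveI : IsNoetherianRing Γ(X, U) := IsLocallyNoetherian.component_noetherian ⟨U, hU⟩
    refine ⟨inferInstance, fun q _ => ?_⟩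
    obtain ⟨x, -, ⟨e⟩⟩ := Catenary.stalk_equiv_atPrime hU ⟨q, inferInstance⟩
    obtain ⟨V, hxV, hV, hG⟩ := h x
    haveI := hG.1
    letI := X.presheaf.algebra_section_stalk (⟨x, hxV⟩ : V)
    haveI := hV.isLocalization_stalk ⟨x, hxV⟩
    let P := (hV.primeIdealOf ⟨x, hxV⟩).asIdeal
    let e' := (IsLocalization.algEquiv P.primeCompl (Localization.AtPrime P) (X.presheaf.stalk x)).toRingEquiv
    haveI : IsNoetherianRing (Localization.AtPrime P) := IsLocalization.isNoetherianRing P.primeCompl _ inferInstance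
    exact Easy3.isRegularHom_completion_of_ringEquiv (e'.trans e) (hG.2 P)
  · obtain ⟨U, hU, hxU, -⟩ := exists_isAffineOpen_mem_and_subset (U := (⊤ : X.Opens)) (x := x) trivial
    exact ⟨U, hxU, hU, h U hU⟩

end Groth.Agent.S7414
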