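import Groth.Statements.S7415
import Groth.Agent.DomLib.Basic

set_option autoImplicit false
universe u
open CategoryTheory AlgebraicGeometry
open Mor

namespace Groth.Agent.S7415

/-- Let `X` be a reduced scheme with finitely many irreducible components and `x ∈ X`. Then `x` has an
affine open neighbourhood `U` such that `O_X(U) → O_{X,x}` is injective. -/
theorem result (X : Scheme.{u}) [AlgebraicGeometry.IsReduced X]
    (hirr : (irreducibleComponents (X : Type u)).Finite) (x : X) : X.IsGermInjectiveAt x := by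
  set_option backward.isDefEq.respectTransparency false in
  let D := {C ∈ irreducibleComponents (X : Type u) | x ∉ C}
  have hcl : IsClosed (⋃ C ∈ D, C) :=
    (hirr.subset fun _ h => h.1).isClosed_biUnion fun C hC => isClosed_of_mem_irreducibleComponents C hC.1
  obtain ⟨U, hU, hxU, hUsub⟩ := exists_isAffineOpen_mem_and_subset
    (show x ∈ (⟨_, hcl.isOpen_compl⟩ : X.Opens) from fun h => by
      obtain ⟨C, hC, hxC⟩ := Set.mem_iUnion₂.1 h
      exact hC.2 hxC)
  refine ⟨⟨U, hxU, hU, ?_⟩⟩
  rw [injective_iff_map_eq_zero]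
  intro s hs
  rw [← basicOpen_eq_bot_iff, eq_bot_iff]
  intro z hz
  obtain ⟨η, hη, hηz⟩ := Groth.Agent.DomLib.exists_max z
  have hzU : z ∈ U := X.basicOpen_le s hz
  have hηU : η ∈ U := hηz.mem_open U.isOpen hzU
  have hηx : η ⤳ x := by
    refine specializes_iff_mem_closure.2 ?_
    by_contra h
    exact hUsub hηU (Set.mem_iUnion₂.2 ⟨closure {η}, ⟨hη, h⟩, subset_closure rfl⟩)
  have hηs : η ∈ X.basicOpen s := hηz.mem_open (X.basicOpen s).isOpen hz
  rw [Scheme.mem_basicOpen _ _ _ hηU, ← TopCat.Presheaf.germ_stalkSpecializes_apply _ hxU hηx, hs,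
    map_zero] at hηs
  exact (not_isUnit_zero hηs).elim

end Groth.Agent.S7415
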