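import Groth.Statements.S7416
import Mathlib

set_option autoImplicit false
universe u
open CategoryTheory AlgebraicGeometry
open Mor

namespace Groth.Agent.S7416

/-- Let `U`, `V` be affine schemes and `W → U`, `W → V` open immersions. Then every `w ∈ W` has an open
neighbourhood `W' ⊆ W` whose images in `U` and in `V` are standard opens `D(f) ⊆ U`, `D(g) ⊆ V` (in
particular `W'` is affine). -/
theorem result {U V W : Scheme.{u}} [IsAffine U]
    [IsAffine V] (i : W ⟶ U) (j : W ⟶ V) [IsOpenImmersion i] [IsOpenImmersion j] (w : W) :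
    ∃ (W' : W.Opens) (f : Γ(U, ⊤)) (g : Γ(V, ⊤)), w ∈ W' ∧ i ''ᵁ W' = U.basicOpen f ∧ j ''ᵁ W' = V.basicOpen g := by
  obtain ⟨_, ⟨_, ⟨f0, rfl⟩, rfl⟩, hwf, hf0⟩ := (isBasis_basicOpen U).exists_subset_of_mem_open (show i w ∈ (i.opensRange : Set U) from ⟨w, rfl⟩) i.opensRange.2
  obtain ⟨_, ⟨_, ⟨g0, rfl⟩, rfl⟩, hwg, hg0⟩ := (isBasis_basicOpen V).exists_subset_of_mem_open (show j w ∈ (j.opensRange : Set V) from ⟨w, rfl⟩) j.opensRange.2
  have hA : IsAffineOpen (i ⁻¹ᵁ U.basicOpen f0) := ((isAffineOpen_top U).basicOpen f0).preimage_of_isOpenImmersion i hf0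
  have hB : IsAffineOpen (j ⁻¹ᵁ V.basicOpen g0) := ((isAffineOpen_top V).basicOpen g0).preimage_of_isOpenImmersion j hg0
  obtain ⟨a, b, hab, hwa⟩ := exists_basicOpen_le_affine_inter hA hB w ⟨hwf, hwg⟩
  have key : ∀ {Z : Scheme.{u}} [IsAffine Z] (k : W ⟶ Z) [IsOpenImmersion k] (h : Γ(Z, ⊤))
      (_ : Z.basicOpen h ≤ k.opensRange) (r : Γ(W, k ⁻¹ᵁ Z.basicOpen h)), ∃ h' : Γ(Z, ⊤), k ''ᵁ W.basicOpen r = Z.basicOpen h' := by
    intro Z _ k _ h hh r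
    rw [Scheme.image_basicOpen]
    have he : k ''ᵁ k ⁻¹ᵁ Z.basicOpen h = Z.basicOpen h := by
      rw [Scheme.Hom.image_preimage_eq_opensRange_inf]; exact inf_eq_right.2 hh
    obtain ⟨h', hh'⟩ := (isAffineOpen_top Z).basicOpen_basicOpen_is_basicOpen h
      (Z.presheaf.map (CategoryTheory.eqToHom he.symm).op ((k.appIso (k ⁻¹ᵁ Z.basicOpen h)).inv r))
    refine ⟨h', ?_⟩
    rw [hh']
    exact (Scheme.basicOpen_res_eq _ _ _).symm
  obtain ⟨f, hf⟩ := key i f0 hf0 a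
  obtain ⟨g, hg⟩ := key j g0 hg0 b
  exact ⟨W.basicOpen a, f, g, hwa, hf, hab ▸ hg⟩

end Groth.Agent.S7416
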