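import Groth.Statements.S7431
import Mathlib.AlgebraicGeometry.Morphisms.OpenImmersion
import Mathlib.CategoryTheory.Limits.Types.Pullbacks
-- import your own Groth.Agent.* helpers here

set_option autoImplicit false
universe u
open CategoryTheory AlgebraicGeometry
open Lim

namespace Groth.Agent.S7431

/-- Let `B' = B ×_R R'` be a cartesian square of rings with maps `s : B → R`, `t : R' → R`, and let `W'
= D(f_1) ∪ … ∪ D(f_n) ⊆ Spec R'` with `t(f_i) = s(g_i)` for elements `g_i ∈ B` such that `B_{g_i} →
R_{s(g_i)}` is an isomorphism for each `i`. Then the composite `W' → Spec R' → Spec B'`, the second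
map coming from `B' → R'`, is an open immersion. -/
theorem result {B B' R R' : Type u} [CommRing B] [CommRing B']
    [CommRing R] [CommRing R'] (s : B →+* R) (t : R' →+* R) (p : B' →+* B) (q : B' →+* R')
    (hsq : IsPullback (CommRingCat.ofHom p) (CommRingCat.ofHom q) (CommRingCat.ofHom s) (CommRingCat.ofHom t))
    {n : ℕ} (f : Fin n → R') (g : Fin n → B) (hfg : ∀ i, t (f i) = s (g i))
    (hiso : ∀ i, Function.Bijective (Localization.awayMap s (g i))) :
    IsOpenImmersion (Scheme.Opens.ι (X := Spec (CommRingCat.of R')) (⨆ i, PrimeSpectrum.basicOpen (f i)) ≫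
      Spec.map (CommRingCat.ofHom q)) := by
  have h2 := hsq.map (forget CommRingCat)
  have hex : ∀ (b : B) (r' : R'), s b = t r' → ∃ x : B', p x = b ∧ q x = r' := fun b r' h =>
    Limits.Types.exists_of_isPullback h2 b r' h
  have hext : ∀ x y : B', p x = p y → q x = q y → x = y := fun x y h h' =>
    Limits.Types.ext_of_isPullback h2 h h'
  have hcomm : ∀ x : B', s (p x) = t (q x) := fun x => by
    simpa using RingHom.congr_fun (congrArg CommRingCat.Hom.hom hsq.w) x
  choose h hp hq using fun i => hex (g i) (f i) (hfg i).symm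
  have hbij : ∀ i, Function.Bijective (Localization.awayMap q (h i)) := by
    intro i
    refine ⟨Localization.awayMap_injective_iff.mpr fun x hx => ?_,
      Localization.awayMap_surjective_iff.mpr fun a => ?_⟩
    · obtain ⟨n, hn⟩ := Localization.awayMap_injective_iff.mp (hiso i).1 (p x)
        (by rw [hcomm, hx, map_zero])
      exact ⟨n, hext _ _ (by simp [hp, hn]) (by simp [hx])⟩
    · obtain ⟨b, m, hb⟩ := Localization.awayMap_surjective_iff.mp (hiso i).2 (t a)
      obtain ⟨x, -, hx⟩ := hex b (f i ^ m * a) (by rw [hb, map_mul, map_pow, hfg])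
      exact ⟨x, m, by rw [hx, hq]⟩
  let φ := Spec.map (CommRingCat.ofHom q)
  let D : Fin n → (Spec (CommRingCat.of B')).Opens := fun i => PrimeSpectrum.basicOpen (h i)
  let V : (Spec (CommRingCat.of B')).Opens := ⨆ i, D i
  have hW : φ ⁻¹ᵁ V = ⨆ i, PrimeSpectrum.basicOpen (f i) := by
    refine (φ.preimage_iSup D).trans (iSup_congr fun i => ?_)
    rw [show φ ⁻¹ᵁ D i = PrimeSpectrum.basicOpen (q (h i)) from
      PrimeSpectrum.comap_basicOpen _ _, hq]
  haveI : IsIso (φ ∣_ V) := by
    let U : Fin n → V.toScheme.Opens := fun i => V.ι ⁻¹ᵁ D i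
    have hU : ⨆ i, U i = ⊤ := (V.ι.preimage_iSup D).symm.trans V.ι_preimage_self
    refine (IsZariskiLocalAtTarget.iff_of_iSup_eq_top
      (P := MorphismProperty.isomorphisms Scheme) U hU).mpr fun i => ?_
    have e : V.ι ''ᵁ U i = PrimeSpectrum.basicOpen (h i) := by
      show V.ι ''ᵁ V.ι ⁻¹ᵁ D i = D i
      rw [Scheme.Hom.image_preimage_eq_opensRange_inf, Scheme.Opens.opensRange_ι]
      exact inf_eq_right.mpr (le_iSup D i)
    refine ((MorphismProperty.isomorphisms Scheme).arrow_mk_iso_iff
      (morphismRestrictRestrict φ V (U i) ≪≫ morphismRestrictEq φ e ≪≫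
        SpecMapRestrictBasicOpenIso (CommRingCat.ofHom q) (h i))).mpr ?_
    show IsIso _
    haveI : IsIso (CommRingCat.ofHom (Localization.awayMap q (h i))) :=
      (RingEquiv.ofBijective _ (hbij i)).toCommRingCatIso.isIso_hom
    exact inferInstanceAs (IsIso (Spec.map (CommRingCat.ofHom (Localization.awayMap q (h i)))))
  have key : IsOpenImmersion ((φ ⁻¹ᵁ V).ι ≫ φ) := by
    rw [← morphismRestrict_ι]
    infer_instance
  rw [hW] at key
  exact key

end Groth.Agent.S7431
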