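import Groth.Statements.S7439
import Mathlib

set_option autoImplicit false
universe u
open CategoryTheory AlgebraicGeometry
open BddFib

namespace Groth.Agent.S7439

/-- Every immersion has universally bounded fibres, with `1` as a bound for the degrees of its fibres. -/
theorem result {X Y : Scheme.{u}} (f : X ⟶ Y) [IsImmersion f] :
    BddFib.FibreDegLE f 1 := by
  intro y
  haveI : IsPreimmersion (f.fiberToSpecResidueField y) :=
    haveI : IsImmersion (f.fiberToSpecResidueField y) := MorphismProperty.pullback_snd _ _ inferInstance
    inferInstance
  haveI : DiscreteTopology ↥(Spec (Y.residueField y)) :=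
    inferInstanceAs (DiscreteTopology (PrimeSpectrum (Y.residueField y)))
  haveI hc : IsClosedImmersion (f.fiberToSpecResidueField y) := .of_isPreimmersion _ (isClosed_discrete _)
  have haff : IsAffine (f.fiber y) := isAffine_of_isAffineHom (f.fiberToSpecResidueField y)
  letI := BddFib.secAlgebra (Y.residueField y) (f.fiberToSpecResidueField y)
  have hs : Function.Surjective (algebraMap (Y.residueField y) Γ(f.fiber y, ⊤)) := by
    show Function.Surjective ((Scheme.ΓSpecIso (Y.residueField y)).inv ≫ (f.fiberToSpecResidueField y).appTop).hom
    rw [CommRingCat.hom_comp, RingHom.coe_comp]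
    refine Function.Surjective.comp ?_ (Scheme.ΓSpecIso (Y.residueField y)).symm.commRingCatIsoToRingEquiv.surjective
    exact (IsClosedImmersion.hasAffineProperty.iff_of_isAffine.mp hc).2
  have hfin : Module.Finite (Y.residueField y) Γ(f.fiber y, ⊤) :=
    Module.Finite.of_surjective (Algebra.linearMap (Y.residueField y) Γ(f.fiber y, ⊤)) hs
  refine ⟨haff, hfin, ?_⟩
  refine (LinearMap.finrank_le_finrank_of_surjective hs (f := Algebra.linearMap (Y.residueField y) Γ(f.fiber y, ⊤))).trans ?_
  exact (Module.finrank_self _).le

end Groth.Agent.S7439
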