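import Groth.Statements.S7441
import Groth.Agent.SpQS.BddFibBridge

set_option autoImplicit false
universe u
open CategoryTheory AlgebraicGeometry
open BddFib

set_option backward.isDefEq.respectTransparency false

namespace Groth.Agent.S7441

/-- Let `f : X → Y` be locally quasi-finite (locally of finite type with discrete fibres) with `X`
quasi-compact. Then the fibres of `f` are universally bounded. -/
theorem result {X Y : Scheme.{u}} (f : X ⟶ Y) [LocallyQuasiFinite f]
    [LocallyOfFiniteType f] [CompactSpace X] : BddFib.UnivBounded f := by
  obtain ⟨N, hN⟩ := Groth.Agent.SpQS.exists_bddAt_of_compact f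
  exact ⟨N, (Groth.Agent.SpQS.fibreDegLE_iff f N).2 hN⟩

end Groth.Agent.S7441
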