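import Groth.Statements.S7443
import Groth.Agent.Tower.PresentP

set_option autoImplicit false
universe u
open CategoryTheory AlgebraicGeometry
open Mor

namespace Groth.Agent.S7443

/-- Let `φ : A → B` be a ring map with `Spec B → Spec A` a universal homeomorphism. Then `B`, as an
`A`-algebra, is the colimit of a filtered diagram of finitely presented `A`-algebras `B_i`, and
every `Spec B_i → Spec A` is again a universal homeomorphism. (The colimit is taken in the category
of rings under `A`, over a small filtered index category.) -/
theorem result {A B : Type u} [CommRing A] [CommRing B] (φ : A →+* B)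
    (hφ : FlatMor.IsUnivHomeo (Spec.map (CommRingCat.ofHom φ))) :
    ∃ (J : Type u) (_ : SmallCategory J) (_ : IsFiltered J) (F : J ⥤ Under (CommRingCat.of A))
      (c : Limits.Cocone F) (_ : Limits.IsColimit c),
      (∀ j, (F.obj j).hom.hom.FinitePresentation ∧ FlatMor.IsUnivHomeo (Spec.map (F.obj j).hom)) ∧
      Nonempty (c.pt ≅ Under.mk (CommRingCat.ofHom φ)) := by
  letI := φ.toAlgebra
  have htow := fun E : Finset B => Tower.towers_of_isUnivHomeo (A := A) hφ E
  obtain ⟨hc⟩ := Tower.PresentP.nonempty_isColimit A B htow
  haveI := Tower.PresentP.isDirected htow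
  haveI : Nonempty (Tower.PresentP.Idx A B) :=
    ⟨(Tower.PresentP.exists_refine htow ∅ ∅ (by simp)).choose⟩
  refine ⟨Tower.PresentP.Idx A B, inferInstance, inferInstance, Tower.PresentP.diagram A B,
    Tower.PresentP.cocone A B, hc, fun j => ⟨Tower.PresentP.finitePresentation j, ?_⟩, ⟨Iso.refl _⟩⟩
  exact Tower.PresentP.isUnivHomeo j
    (Groth.Agent.EtaPtLib.isIntegral_of_isUnivHomeo φ hφ).2.2

end Groth.Agent.S7443
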