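import Groth.Statements.S7447
import Groth.Agent.RelApprox.Main
-- import your own Groth.Agent.* helpers here

set_option autoImplicit false
universe u
open CategoryTheory AlgebraicGeometry
open Opposite
open Lim

set_option backward.isDefEq.respectTransparency false
namespace Groth.Agent.S7447

/-- Noetherian approximation relative to a quasi-compact open: let `S` be quasi-compact and
quasi-separated, `V ⊆ S` a quasi-compact open, and `V = lim V_i` the limit of an inverse system,
over a nonempty directed set `I`, of schemes of finite type over `ℤ` with affine transition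
morphisms. Then there are a nonempty directed set `J`, an inverse system `(S_j)` of schemes of
finite type over `ℤ` with affine transition morphisms and `S = lim S_j`, an order preserving map `α
: J → I`, opens `V'_j ⊆ S_j` and isomorphisms `V'_j ≅ V_{α(j)}` such that: the transition maps
satisfy `g_{jj'}⁻¹(V'_{j'}) = V'_j`; `V` is the inverse image of each `V'_j` under `S → S_j` (which
identifies `V` with `lim V'_j`); the composite `V → V'_j → V_{α(j)}` is the projection; and the
squares `V'_j → V_{α(j)} → V_{α(j')}`, `V'_j → V'_{j'} → V_{α(j')}` commute. -/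
theorem result (S : Scheme.{u}) [CompactSpace S] [QuasiSeparatedSpace S]
    (V : S.Opens) (hV : IsCompact (V : Set S)) (I : Type u) [Preorder I] [IsDirected I (fun a b => a ≤ b)] [Nonempty I]
    (DV : Iᵒᵖ ⥤ Scheme.{u}) (haff : ∀ (i i' : Iᵒᵖ) (a : i ⟶ i'), IsAffineHom (DV.map a))
    (hft : ∀ i, CompactSpace (DV.obj i) ∧ LocallyOfFiniteType (Limits.IsTerminal.from specULiftZIsTerminal (DV.obj i)))
    (cV : Limits.Cone DV) (hcV : Limits.IsLimit cV) (eV : cV.pt ≅ (V : Scheme.{u})) :
    ∃ (J : Type u) (_ : Preorder J) (_ : IsDirected J (fun a b => a ≤ b)) (_ : Nonempty J)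
      (DS : Jᵒᵖ ⥤ Scheme.{u}) (cS : Limits.Cone DS) (_ : Limits.IsLimit cS) (eS : cS.pt ≅ S)
      (α : J →o I) (V' : ∀ j : J, (DS.obj (op j)).Opens)
      (φ : ∀ j : J, (V' j : Scheme.{u}) ≅ DV.obj (op (α j))),
      (∀ (j j' : Jᵒᵖ) (a : j ⟶ j'), IsAffineHom (DS.map a)) ∧
      (∀ j, CompactSpace (DS.obj j) ∧ LocallyOfFiniteType (Limits.IsTerminal.from specULiftZIsTerminal (DS.obj j))) ∧
      (∀ (j j' : J) (h : j' ≤ j), (DS.map (homOfLE h).op) ⁻¹ᵁ (V' j') = V' j) ∧
      (∀ j : J, (eS.inv ≫ cS.π.app (op j)) ⁻¹ᵁ (V' j) = V) ∧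
      (∀ j : J, ∃ ρ : (V : Scheme.{u}) ⟶ (V' j : Scheme.{u}),
        ρ ≫ (V' j).ι = V.ι ≫ eS.inv ≫ cS.π.app (op j) ∧ ρ ≫ (φ j).hom = eV.inv ≫ cV.π.app (op (α j))) ∧
      (∀ (j j' : J) (h : j' ≤ j), ∃ τ : (V' j : Scheme.{u}) ⟶ (V' j' : Scheme.{u}),
        τ ≫ (V' j').ι = (V' j).ι ≫ DS.map (homOfLE h).op ∧
        (φ j).hom ≫ DV.map (homOfLE (α.mono h)).op = τ ≫ (φ j').hom) := by
  haveI : CompactSpace V.toScheme := isCompact_iff_compactSpace.mp hV
  let πV : (Functor.const Iᵒᵖ).obj (V : Scheme.{u}) ⟶ DV := (Functor.const Iᵒᵖ).map eV.inv ≫ cV.π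
  have hl : Limits.IsLimit (Limits.Cone.mk (V : Scheme.{u}) πV) :=
    hcV.ofIsoLimit (Limits.Cone.ext eV (by intro k; simp [πV]))
  obtain ⟨J, _, _, _, DS, π, hlS, α, e, h1, h2, h3, h4, h5, h6⟩ :=
    Groth.Agent.RelApprox.exists_rel DV πV V hV (Iso.refl _) hl haff hft
  haveI := h3
  refine ⟨J, inferInstance, inferInstance, inferInstance, DS, Limits.Cone.mk S π, hlS, Iso.refl _, α,
    fun j => (e.app (op j)).opensRange, fun j => (e.app (op j)).isoOpensRange.symm, h1, h2, fun j j' h => ?_,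
    fun j => ?_, fun j => ?_, fun j j' h => ?_⟩
  · exact TopologicalSpace.Opens.ext (h4 (op j) (op j') (homOfLE h).op)
  · refine TopologicalSpace.Opens.ext ?_
    show (π.app (op j)) ⁻¹' Set.range (e.app (op j)) = (V : Set S)
    rw [h5 (op j)]
    simp
  · refine ⟨(eV.inv ≫ cV.π.app (op (α j))) ≫ (e.app (op j)).isoOpensRange.hom, ?_, ?_⟩
    · have := h6 (op j)
      simp only [Iso.refl_hom, Category.id_comp] at this
      simp only [Iso.refl_inv, Category.id_comp, Category.assoc, Scheme.Hom.isoOpensRange_hom_ι]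
      rw [this]
      exact (Category.assoc _ _ _).symm
    · show _ ≫ (e.app (op j)).isoOpensRange.inv = _
      rw [Category.assoc, Iso.hom_inv_id, Category.comp_id]
  · refine ⟨(e.app (op j)).isoOpensRange.inv ≫ DV.map (homOfLE (α.mono h)).op ≫ (e.app (op j')).isoOpensRange.hom, ?_, ?_⟩
    · simp only [Category.assoc, Scheme.Hom.isoOpensRange_hom_ι]
      have n : DV.map (homOfLE (α.mono h)).op ≫ e.app (op j') = e.app (op j) ≫ DS.map (homOfLE h).op :=
        (congrArg (fun t => DV.map t ≫ e.app (op j')) (Subsingleton.elim _ _)).trans (e.naturality (homOfLE h).op)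
      rw [n, ← Category.assoc, Scheme.Hom.isoOpensRange_inv_comp]
    · show _ = (_ ≫ _ ≫ _) ≫ (e.app (op j')).isoOpensRange.inv
      simp

end Groth.Agent.S7447
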