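import Groth.Statements.S7450
import Groth.Agent.NagCurve.Closed

set_option linter.style.haveILetI false

set_option autoImplicit false
set_option backward.isDefEq.respectTransparency false
universe u
open CategoryTheory AlgebraicGeometry
open Lim

namespace Groth.Agent.S7450

/-- Assume `S` is a Nagata scheme and `f : X → Y` is a morphism over `S` between schemes `X`, `Y` that
are locally of finite type over `S`. Then `f` is separated exactly when the following holds. Take
any normal integral scheme `C` of finite type over `S` and a closed point `c ∈ C` such that the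
local ring `A = O_{C,c}` is one-dimensional, put `U = C ∖ {c}`, and consider any commutative diagram
of `S`-schemes formed by `U → X` and `C → Y`. Then at most one morphism `Spec A → X` makes the
square with `Spec K → X` and `Spec A → Y` commute. -/
theorem result (S : Scheme.{u}) (hS : ∀ W : S.affineOpens, CAlg.IsNagata Γ(S, W))
    {X Y : Scheme.{u}} (p : X ⟶ S) (q : Y ⟶ S) [LocallyOfFiniteType p] [LocallyOfFiniteType q] (f : X ⟶ Y)
    (hf : f ≫ q = p) :
    IsSeparated f ↔
      ∀ (C : Scheme.{u}) (r : C ⟶ S) [IsIntegral C] [LocallyOfFiniteType r] [QuasiCompact r],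
        (∀ x : C, IsIntegrallyClosed (C.presheaf.stalk x)) →
        ∀ (c : C), IsClosed ({c} : Set C) → ringKrullDim (C.presheaf.stalk c) = 1 →
        ∀ (U : C.Opens), (U : Set C) = {c}ᶜ →
        ∀ (u : (U : Scheme.{u}) ⟶ X) (g : C ⟶ Y), g ≫ q = r → u ≫ f = U.ι ≫ g →
        ∀ (k : Spec (CommRingCat.of (FractionRing (C.presheaf.stalk c))) ⟶ (U : Scheme.{u})),
          k ≫ U.ι = Spec.map (CommRingCat.ofHom (algebraMap (C.presheaf.stalk c)
            (FractionRing (C.presheaf.stalk c)))) ≫ C.fromSpecStalk c →
        ∀ l l' : Spec (C.presheaf.stalk c) ⟶ X,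
          l ≫ f = C.fromSpecStalk c ≫ g →
          Spec.map (CommRingCat.ofHom (algebraMap (C.presheaf.stalk c) (FractionRing (C.presheaf.stalk c)))) ≫ l =
            k ≫ u →
          l' ≫ f = C.fromSpecStalk c ≫ g →
          Spec.map (CommRingCat.ofHom (algebraMap (C.presheaf.stalk c) (FractionRing (C.presheaf.stalk c)))) ≫ l' =
            k ≫ u → l = l' := by
  haveI : LocallyOfFiniteType (f ≫ q) := by rw [hf]; infer_instance
  haveI : LocallyOfFiniteType f := locallyOfFiniteType_of_comp f q
  haveI := Groth.Agent.NagCurve.isLocallyNoetherian_of_nagata hS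
  haveI : IsLocallyNoetherian X := LocallyOfFiniteType.isLocallyNoetherian p
  haveI : QuasiSeparated f := inferInstance
  constructor
  · intro hsep C r _ _ _ hn c hc hd U hU u g hg hu k hk l l' hl₁ hl₂ hl'₁ hl'₂
    haveI := Groth.Agent.NagCurve.valuationRing_stalk hS r hn c hd
    let T : ValuativeCommSq f := ⟨C.presheaf.stalk c, FractionRing (C.presheaf.stalk c), k ≫ u,
      C.fromSpecStalk c ≫ g, ⟨by rw [Category.assoc, hu, reassoc_of% hk]⟩⟩
    have huq : ValuativeCriterion.Uniqueness f :=
      ((IsSeparated.eq_valuativeCriterion ▸ hsep :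
        (ValuativeCriterion.Uniqueness ⊓ @QuasiSeparated : MorphismProperty Scheme) f)).1
    haveI := huq T
    exact congrArg CommSq.LiftStruct.l (Subsingleton.elim (α := T.commSq.LiftStruct) ⟨l, hl₂, hl₁⟩ ⟨l', hl'₂, hl'₁⟩)
  · intro H
    let Δ := Limits.pullback.diagonal f
    haveI : QuasiCompact Δ := QuasiSeparated.quasiCompact_diagonal
    have hc : Groth.Agent.NagCurve.CurveLift (Limits.pullback.fst f f ≫ p) Δ := by
      intro C r _ _ _ hn c hc hd U hU u g hg hu k hk
      have h1 : u = U.ι ≫ g ≫ Limits.pullback.fst f f := by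
        rw [← reassoc_of% hu, Limits.pullback.diagonal_fst, Category.comp_id]
      have h2 : u = U.ι ≫ g ≫ Limits.pullback.snd f f := by
        rw [← reassoc_of% hu, Limits.pullback.diagonal_snd, Category.comp_id]
      have heq : C.fromSpecStalk c ≫ g ≫ Limits.pullback.fst f f = C.fromSpecStalk c ≫ g ≫ Limits.pullback.snd f f :=
        H C r hn c hc hd U hU u (g ≫ Limits.pullback.fst f f ≫ f)
          (by rw [Category.assoc, Category.assoc, hf, hg])
          (by rw [h1]; simp) k hk _ _ (by simp)
          (by rw [h1, reassoc_of% hk])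
          (by rw [Limits.pullback.condition]; simp)
          (by rw [h2, reassoc_of% hk])
      refine ⟨C.fromSpecStalk c ≫ g ≫ Limits.pullback.fst f f, Limits.pullback.hom_ext ?_ ?_, ?_⟩
      · simp [Δ]
      · simpa [Δ] using heq
      · rw [h1, reassoc_of% hk]
    haveI : UniversallyClosed Δ :=
      Groth.Agent.NagCurve.universallyClosed_of_curveLift hS (Limits.pullback.fst f f ≫ p) Δ hc
    exact ⟨IsClosedImmersion.of_isPreimmersion Δ Δ.isClosedMap.isClosed_range⟩

end Groth.Agent.S7450
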