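import Groth.Statements.S7452
import Groth.Agent.Grpd.OverField

set_option autoImplicit false
universe u
open CategoryTheory CategoryTheory.Limits AlgebraicGeometry
open Grpd

namespace Groth.Agent.S7452

open Groth.Agent Groth.Agent.GrpdLib
set_option backward.isDefEq.respectTransparency false

/-- Let (U, R, s, t, c) be a groupoid scheme over S with U the spectrum of a field. Then the composition
c : R x_(s,U,t) R -> R is an open map of topological spaces. (A groupoid scheme carries U, R, s, t,
c, e, i over S with the groupoid axioms on T-points; c is defined on the fibre product of s and t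
and sends a pair (a, b) with s(a) = t(b) to a composed with b.) -/
theorem result (S : Scheme.{u}) (G : Grpd.GroupoidScheme S) (k : Type u) [Field k] (eU : G.U ≅ Spec (CommRingCat.of k)) : IsOpenMap ⇑G.c := by
  haveI : Subsingleton (Spec (CommRingCat.of k)) := inferInstanceAs (Subsingleton (PrimeSpectrum k))
  haveI : Subsingleton G.U := eU.hom.homeomorph.subsingleton
  haveI : IsIntegral G.U := IsIntegral.of_isIso eU.inv
  let φ : pullback G.s G.t ⟶ pullback G.t G.t :=
    pullback.lift G.c (pullback.fst _ _) (by
      have h := G.comp_t (pullback.fst G.s G.t) (pullback.snd G.s G.t) pullback.condition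
      rwa [show pullback.lift (pullback.fst G.s G.t) (pullback.snd G.s G.t) pullback.condition = 𝟙 _
        from pullback.hom_ext (by simp) (by simp), Category.id_comp] at h)
  have hwi : (pullback.snd G.t G.t ≫ G.i) ≫ G.s = pullback.fst G.t G.t ≫ G.t := by
    rw [Category.assoc, G.i_s, pullback.condition]
  let γ := gmul G (pullback.snd G.t G.t ≫ G.i) (pullback.fst G.t G.t) hwi
  have hγt : pullback.snd G.t G.t ≫ G.s = γ ≫ G.t := by
    rw [gmul_t, Category.assoc, G.i_t]
  let ψ : pullback G.t G.t ⟶ pullback G.s G.t := pullback.lift (pullback.snd _ _) γ hγt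
  have hψc : ψ ≫ G.c = pullback.fst G.t G.t := by
    show pullback.lift _ _ _ ≫ G.c = _
    simp only [γ, gmul_eq]
    have h1 := G.assoc (pullback.snd G.t G.t) (pullback.snd G.t G.t ≫ G.i) (pullback.fst G.t G.t)
      (by rw [Category.assoc, G.i_t]) hwi
    have h2 := G.comp_i (pullback.snd G.t G.t)
    refine h1.symm.trans ?_
    refine (comp_congr G (h2.trans ?_) rfl _ (by simp [G.e_s, pullback.condition])).trans (G.e_comp _)
    rw [← Category.assoc, ← pullback.condition, Category.assoc]
  have h1 : φ ≫ ψ = 𝟙 _ := by
    apply pullback.hom_ext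
    · simp [φ, ψ]
    · rw [Category.id_comp, Category.assoc, pullback.lift_snd, comp_gmul]
      set α := pullback.fst G.s G.t
      set β := pullback.snd G.s G.t
      have hab : pullback.lift α β pullback.condition ≫ G.c = G.c := by
        rw [show pullback.lift α β pullback.condition = 𝟙 _ from pullback.hom_ext (by simp [α]) (by simp [β]), Category.id_comp]
      refine (gmul_congr G (show φ ≫ pullback.snd G.t G.t ≫ G.i = α ≫ G.i from
        pullback.lift_snd_assoc _ _ _ _) ((pullback.lift_fst _ _ _).trans hab.symm) _).trans ?_
      rw [gmul_eq]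
      refine (G.assoc (α ≫ G.i) α β (by rw [Category.assoc, G.i_s]) pullback.condition).symm.trans ?_
      refine (comp_congr G ((G.i_comp α).trans ?_) rfl _ (by simp [G.e_s])).trans (G.e_comp β)
      rw [← Category.assoc, pullback.condition, Category.assoc]
  have h2 : ψ ≫ φ = 𝟙 _ := by
    apply pullback.hom_ext
    · rw [Category.assoc, pullback.lift_fst, Category.id_comp, hψc]
    · simp [φ, ψ]
  haveI : IsIso φ := ⟨ψ, h1, h2⟩
  have hc : G.c = φ ≫ pullback.fst G.t G.t := (pullback.lift_fst _ _ _).symm
  rw [hc]
  exact (φ ≫ pullback.fst G.t G.t).isOpenMap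

end Groth.Agent.S7452
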