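import Groth.Statements.S7453
import Groth.Agent.Grpd.OverField

set_option autoImplicit false
universe u
open CategoryTheory CategoryTheory.Limits AlgebraicGeometry
open Grpd

namespace Groth.Agent.S7453

open Groth.Agent Groth.Agent.GrpdLib
set_option backward.isDefEq.respectTransparency false

/-- Let (U, R, s, t, c) be a groupoid scheme over S with U the spectrum of a field. Then R is a
separated scheme. (A groupoid scheme carries U, R, s, t, c, e, i over S with the groupoid axioms on
T-points; c is defined on the fibre product of s and t and sends a pair (a, b) with s(a) = t(b) to a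
composed with b.) -/
theorem result (S : Scheme.{u}) (G : Grpd.GroupoidScheme S) (k : Type u) [Field k] (eU : G.U ≅ Spec (CommRingCat.of k)) : G.R.IsSeparated := by
  haveI : Subsingleton (Spec (CommRingCat.of k)) := inferInstanceAs (Subsingleton (PrimeSpectrum k))
  haveI : Subsingleton G.U := eU.hom.homeomorph.subsingleton
  haveI : IsIntegral G.U := IsIntegral.of_isIso eU.inv
  haveI : IsClosedImmersion G.e := by
    exact isClosedImmersion_of_comp_eq_id G.s G.e G.e_s
  let π₁ := pullback.fst G.s G.s
  let π₂ := pullback.snd G.s G.s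
  have hd : π₁ ≫ G.s = (π₂ ≫ G.i) ≫ G.t := by rw [Category.assoc, G.i_t]; exact pullback.condition
  let d := gmul G π₁ (π₂ ≫ G.i) hd
  have key : ∀ {T : Scheme.{u}} (z : T ⟶ pullback G.s G.s) (v : T ⟶ G.U), z ≫ d = v ≫ G.e →
      z ≫ π₁ = z ≫ π₂ := by
    intro T z v hz
    rw [comp_gmul] at hz
    have hz' : gmul G (z ≫ π₁) ((z ≫ π₂) ≫ G.i) (by
        simp only [Category.assoc, G.i_t]; rw [pullback.condition]) = v ≫ G.e :=
      (gmul_congr G rfl (Category.assoc _ _ _) _).trans hz
    have hv : v = (z ≫ π₂) ≫ G.t := by
      have := congrArg (· ≫ G.s) hz'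
      simp only [gmul_s, Category.assoc, G.i_s, G.e_s, Category.comp_id] at this
      rw [Category.assoc]; exact this.symm
    have ha := G.assoc (z ≫ π₁) ((z ≫ π₂) ≫ G.i) (z ≫ π₂)
      (by simp only [Category.assoc, G.i_t]; rw [pullback.condition]) (by simp [G.i_s])
    have hr := G.i_comp (z ≫ π₂)
    rw [gmul_eq] at hz'
    refine ((G.comp_e (z ≫ π₁)).symm.trans (comp_congr G rfl ?_ _ _)).trans
      (ha.symm.trans ((comp_congr G hz' rfl _ (by simp [G.e_s, hv])).trans ?_))
    · rw [hr]; simp only [Category.assoc]; rw [reassoc_of% (pullback.condition : π₁ ≫ G.s = π₂ ≫ G.s)]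
    · refine (comp_congr G ?_ rfl _ (by simp [G.e_s])).trans (G.e_comp (z ≫ π₂))
      rw [hv, Category.assoc]
  have hΔ : pullback.diagonal G.s ≫ d = G.t ≫ G.e := by
    rw [comp_gmul]
    refine (gmul_congr G (pullback.diagonal_fst G.s) (pullback.diagonal_snd_assoc G.s G.i) _).trans ?_
    rw [gmul_eq]
    refine (comp_congr G rfl (Category.id_comp G.i).symm _ (by simp [G.i_t])).trans
      ((G.comp_i (𝟙 G.R)).trans (Category.id_comp _))
  have hpb : IsPullback (pullback.diagonal G.s) G.t d G.e := by
    refine IsPullback.of_isLimit (PullbackCone.IsLimit.mk hΔ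
      (fun s => s.fst ≫ π₁) (fun s => ?_) (fun s => ?_) (fun s m hm _ => ?_))
    · apply pullback.hom_ext
      · simp [π₁]
      · simpa [π₂] using key s.fst s.snd s.condition
    · have hh := key s.fst s.snd s.condition
      have hc := s.condition
      have := congrArg (· ≫ G.t) hc
      simp only [d, Category.assoc, gmul_t, G.e_t, Category.comp_id] at this
      rw [Category.assoc]; exact this
    · rw [← hm, Category.assoc, pullback.diagonal_fst, Category.comp_id]
  haveI : IsSeparated G.s := ⟨MorphismProperty.of_isPullback hpb.flip inferInstance⟩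
  haveI : IsSeparated (eU.hom ≫ terminal.from (Spec (CommRingCat.of k))) := inferInstance
  refine ⟨?_⟩
  rw [terminal.hom_ext (terminal.from G.R) (G.s ≫ eU.hom ≫ terminal.from (Spec (CommRingCat.of k)))]
  infer_instance

end Groth.Agent.S7453
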