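import Groth.Statements.S7456
import Mathlib
import Groth.Agent.Grpd.OverField

set_option autoImplicit false
universe u
open CategoryTheory CategoryTheory.Limits AlgebraicGeometry
open Grpd

namespace Groth.Agent.S7456

/-- Let (U, R, s, t, c) be a groupoid scheme over S. For every subset W of U, the subset t(s^{-1}(W)) is
set-theoretically R-invariant: its preimages under s and t coincide. If moreover s and t are open
maps and quasi-compact, then U is covered by R-invariant quasi-compact open subsets. (The published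
statement also asserts that this set is open when W is open and s, t are open maps; this row omits
that clause.) (A groupoid scheme carries U, R, s, t, c, e, i over S with the groupoid axioms on
T-points; c is defined on the fibre product of s and t and sends a pair (a, b) with s(a) = t(b) to a
composed with b.) -/
theorem result (S : Scheme.{u}) (G : Grpd.GroupoidScheme S) : (∀ W : Set G.U, ⇑G.s ⁻¹' (⇑G.t '' (⇑G.s ⁻¹' W)) = ⇑G.t ⁻¹' (⇑G.t '' (⇑G.s ⁻¹' W))) ∧ (IsOpenMap ⇑G.s → IsOpenMap ⇑G.t → QuasiCompact G.s → QuasiCompact G.t → ∀ u : G.U, ∃ W : G.U.Opens, IsCompact (W : Set G.U) ∧ u ∈ W ∧ G.s ⁻¹ᵁ W = G.t ⁻¹ᵁ W) := by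
  have key : ∀ W : Set G.U, ⇑G.s ⁻¹' (⇑G.t '' (⇑G.s ⁻¹' W)) = ⇑G.t ⁻¹' (⇑G.t '' (⇑G.s ⁻¹' W)) := by
    intro W
    have h1 : ∀ r : G.R, G.s r ∈ ⇑G.t '' (⇑G.s ⁻¹' W) → G.t r ∈ ⇑G.t '' (⇑G.s ⁻¹' W) := by
      rintro r ⟨q, hq, hqr⟩
      obtain ⟨w, hw1, hw2⟩ := Scheme.Pullback.exists_preimage_pullback (f := G.s) (g := G.t) r q hqr.symm
      have hc := G.comp_s (pullback.fst G.s G.t) (pullback.snd G.s G.t) pullback.condition
      have hct := G.comp_t (pullback.fst G.s G.t) (pullback.snd G.s G.t) pullback.condition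
      rw [show pullback.lift (pullback.fst G.s G.t) (pullback.snd G.s G.t) pullback.condition = 𝟙 _ from
        pullback.hom_ext (by simp) (by simp), Category.id_comp] at hc hct
      refine ⟨G.c w, ?_, ?_⟩
      · show G.s (G.c w) ∈ W
        rw [show G.s (G.c w) = G.s (pullback.snd G.s G.t w) from congr($hc w), hw2]
        exact hq
      · rw [show G.t (G.c w) = G.t (pullback.fst G.s G.t w) from congr($hct w), hw1]
    ext r
    refine ⟨h1 r, fun h => ?_⟩
    have hs : G.s (G.i r) = G.t r := congr($(G.i_s) r)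
    have ht : G.t (G.i r) = G.s r := congr($(G.i_t) r)
    have := h1 (G.i r) (hs ▸ h)
    rwa [ht] at this
  refine ⟨key, fun hso hto _ _ u => ?_⟩
  obtain ⟨W₀, hW₀, hu, -⟩ := exists_isAffineOpen_mem_and_subset (U := (⊤ : G.U.Opens)) (x := u) trivial
  let V : G.U.Opens := ⟨⇑G.t '' (⇑G.s ⁻¹' W₀), hto _ (W₀.isOpen.preimage G.s.continuous)⟩
  refine ⟨V, ?_, ⟨G.e u, ?_, ?_⟩, ?_⟩
  · exact (QuasiCompact.isCompact_preimage (f := G.s) _ W₀.isOpen hW₀.isCompact).image G.t.continuous
  · show G.s (G.e u) ∈ W₀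
    rw [show G.s (G.e u) = u from congr($(G.e_s) u)]
    exact hu
  · exact congr($(G.e_t) u)
  · exact TopologicalSpace.Opens.ext (key W₀)

end Groth.Agent.S7456
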