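import Groth.Statements.S7460
import Groth.Agent.ProfinSpec.Basic

set_option autoImplicit false
universe u
open CategoryTheory CategoryTheory.Limits AlgebraicGeometry
open GrpSch

set_option backward.isDefEq.respectTransparency false
set_option linter.style.haveILetI false

namespace Groth.Agent.S7460

/-- Let k be a field and A a k-algebra such that every finite subset of A is contained in a k-subalgebra
isomorphic to a finite product of copies of k (that is, A is a directed colimit of finite products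
of copies of k). Let X be a scheme over k. Then the map from the underlying space of Spec A x_k X to
the product of the underlying spaces of Spec A and X, given by the two projections, is a
homeomorphism. -/
theorem result (k : Type u) [Field k] (A : Type u) [CommRing A] [Algebra k A] (hA : ∀ s : Finset A, ∃ (B : Subalgebra k A) (n : ℕ), (↑s : Set A) ⊆ (B : Set A) ∧ Nonempty (B ≃ₐ[k] (Fin n → k))) (X : Scheme.{u}) (f : X ⟶ Spec (CommRingCat.of k)) : IsHomeomorph (fun p : ↑(pullback (Spec.map (CommRingCat.ofHom (algebraMap k A))) f) => (pullback.fst (Spec.map (CommRingCat.ofHom (algebraMap k A))) f p, pullback.snd (Spec.map (CommRingCat.ofHom (algebraMap k A))) f p)) := by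
  classical
  haveI : Algebra.IsIntegral k A := ⟨fun a => by
    obtain ⟨B, n, hB, ⟨e⟩⟩ := hA {a}
    haveI : Module.Finite k B := Module.Finite.equiv e.symm.toLinearEquiv
    exact (IsIntegral.of_finite k (⟨a, hB (by simp)⟩ : B)).map B.val⟩
  have hmax : ∀ p : PrimeSpectrum A, p.asIdeal.IsMaximal := fun p =>
    Ideal.Quotient.maximal_of_isField _
      (isField_of_isIntegral_of_isField' (R := k) (S := A ⧸ p.asIdeal) (Field.toIsField k))
  obtain ⟨_, _, _⟩ := ProfinSpec.isProfinite_of_forall_isMaximal hmax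
  haveI : T2Space ↥(Spec (CommRingCat.of A)) := inferInstanceAs (T2Space (PrimeSpectrum A))
  haveI : TotallyDisconnectedSpace ↥(Spec (CommRingCat.of A)) := inferInstanceAs (TotallyDisconnectedSpace (PrimeSpectrum A))
  set g : Spec (CommRingCat.of A) ⟶ Spec (CommRingCat.of k) :=
    Spec.map (CommRingCat.ofHom (algebraMap k A)) with hg
  haveI : IsIntegralHom g := IsIntegralHom.SpecMap_iff.2 Algebra.IsIntegral.isIntegral
  have hsec : ∀ p : Spec (CommRingCat.of A), ∃ q : Spec (CommRingCat.of k) ⟶ Spec (CommRingCat.of A),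
      q ≫ g = 𝟙 _ ∧ Set.range q = {p} := by
    intro p
    let P : PrimeSpectrum A := p
    haveI := P.2
    have hsur : Function.Surjective (algebraMap k (A ⧸ P.asIdeal)) := by
      intro r
      obtain ⟨a, rfl⟩ := Ideal.Quotient.mk_surjective r
      obtain ⟨B, n, hB, ⟨e⟩⟩ := hA {a}
      let b : B := ⟨a, hB (by simp)⟩
      have h0 : ∏ i, (b - algebraMap k B (e b i)) = 0 := e.injective (by
        rw [map_prod, map_zero]
        ext j
        rw [Finset.prod_apply]
        refine Finset.prod_eq_zero (Finset.mem_univ j) ?_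
        simp)
      have h1 := congrArg ((Ideal.Quotient.mkₐ k P.asIdeal).comp B.val) h0
      rw [map_prod, map_zero, Finset.prod_eq_zero_iff] at h1
      obtain ⟨i, -, hi⟩ := h1
      rw [map_sub, AlgHom.commutes, sub_eq_zero] at hi
      exact ⟨e b i, hi.symm⟩
    let e : k ≃ₐ[k] A ⧸ P.asIdeal := AlgEquiv.ofBijective (Algebra.ofId k (A ⧸ P.asIdeal))
      ⟨(algebraMap k (A ⧸ P.asIdeal)).injective, hsur⟩
    let φ : A →ₐ[k] k := e.symm.toAlgHom.comp (Ideal.Quotient.mkₐ k P.asIdeal)
    have hφ : PrimeSpectrum.comap φ.toRingHom ⟨⊥, Ideal.isPrime_bot⟩ = P := by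
      refine PrimeSpectrum.ext ?_
      rw [PrimeSpectrum.comap_asIdeal, ← RingHom.ker_eq_comap_bot]
      ext a
      simp [φ, RingHom.mem_ker, Ideal.Quotient.eq_zero_iff_mem]
    refine ⟨Spec.map (CommRingCat.ofHom φ.toRingHom), ?_, ?_⟩
    · rw [hg, ← Spec.map_comp, ← CommRingCat.ofHom_comp,
        show φ.toRingHom.comp (algebraMap k A) = RingHom.id k from φ.comp_algebraMap]
      exact Spec.map_id _
    · refine Set.eq_singleton_iff_unique_mem.2 ⟨⟨⟨⊥, Ideal.isPrime_bot⟩, hφ⟩, ?_⟩
      rintro _ ⟨y, rfl⟩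
      rw [Subsingleton.elim y ⟨⊥, Ideal.isPrime_bot⟩]
      exact hφ
  choose q hqg hqr using hsec
  let ι : ∀ _p : Spec (CommRingCat.of A), X ⟶ pullback g f := fun p =>
    pullback.lift (f ≫ q p) (𝟙 X) (by rw [Category.assoc, hqg, Category.comp_id, Category.id_comp])
  have hι₁ : ∀ p x, pullback.fst g f (ι p x) = p := fun p x => by
    rw [← Scheme.Hom.comp_apply, pullback.lift_fst]
    show q p (f x) = p
    exact (hqr p).le ⟨f x, rfl⟩
  have hι₂ : ∀ p x, pullback.snd g f (ι p x) = x := fun p x => by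
    rw [← Scheme.Hom.comp_apply, pullback.lift_snd]
    rfl
  have hfib : ∀ z, ι (pullback.fst g f z) (pullback.snd g f z) = z := by
    intro z
    set p := pullback.fst g f z
    have hsq : IsPullback (ι p) f (pullback.fst g f) (q p) := by
      refine IsPullback.of_right ?_ (pullback.lift_fst _ _ _) (IsPullback.of_hasPullback g f).flip
      rw [pullback.lift_snd, hqg]
      exact IsPullback.of_horiz_isIso ⟨by simp⟩
    have hz : p ∈ Set.range (q p) := (hqr p).ge rfl
    obtain ⟨y, hy⟩ := hz
    obtain ⟨x, hx, -⟩ := Scheme.Pullback.exists_preimage_pullback (f := pullback.fst g f) (g := q p) z y hy.symm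
    have h3 : ι p (hsq.isoPullback.inv x) = z := by
      rw [← Scheme.Hom.comp_apply, IsPullback.isoPullback_inv_fst]
      exact hx
    conv_lhs => rw [← h3, hι₂]
    exact h3
  haveI : IsIntegralHom (pullback.snd g f) := MorphismProperty.pullback_snd _ _ inferInstance
  refine isHomeomorph_iff_continuous_isClosedMap_bijective.2
    ⟨(pullback.fst g f).continuous.prodMk (pullback.snd g f).continuous, fun C hC => ?_, ?_, ?_⟩
  · rw [← isOpen_compl_iff, isOpen_iff_mem_nhds]
    rintro ⟨p, x⟩ hpx
    have hF : IsCompact ((pullback.snd g f) ⁻¹' {x}) := by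
      have : (pullback.snd g f) ⁻¹' {x} = Set.range (pullback.fst (pullback.snd g f) (X.fromSpecResidueField x)) := by
        rw [Scheme.Pullback.range_fst, Scheme.range_fromSpecResidueField]
      rw [this]
      exact isCompact_range (Scheme.Hom.continuous _)
    have hD : IsClosed (pullback.fst g f '' (C ∩ (pullback.snd g f) ⁻¹' {x})) :=
      ((hF.inter_left hC).image (pullback.fst g f).continuous).isClosed
    obtain ⟨K, hK, hpK, hKD⟩ := compact_exists_isClopen_in_isOpen hD.isOpen_compl
      (show p ∈ (pullback.fst g f '' (C ∩ (pullback.snd g f) ⁻¹' {x}))ᶜ from fun ⟨z, ⟨hzC, hzx⟩, hzp⟩ =>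
        hpx ⟨z, hzC, Prod.ext hzp hzx⟩)
    have hcl : IsClosed (pullback.snd g f '' (C ∩ pullback.fst g f ⁻¹' K)) :=
      (pullback.snd g f).isClosedMap _ (hC.inter (hK.1.preimage (pullback.fst g f).continuous))
    refine Filter.mem_of_superset (prod_mem_nhds (hK.2.mem_nhds hpK) (hcl.isOpen_compl.mem_nhds ?_)) ?_
    · rintro ⟨z, ⟨hzC, hzK⟩, hzx⟩
      exact hKD hzK ⟨z, ⟨hzC, hzx⟩, rfl⟩
    · rintro ⟨p', x'⟩ ⟨hp', hx'⟩ ⟨z, hzC, hz⟩
      obtain ⟨e1, e2⟩ := Prod.mk.inj hz
      exact hx' ⟨z, ⟨hzC, show pullback.fst g f z ∈ K from e1 ▸ hp'⟩, e2⟩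
  · intro z z' h
    rw [← hfib z, ← hfib z', (Prod.mk.inj h).1, (Prod.mk.inj h).2]
  · rintro ⟨p, x⟩
    exact ⟨ι p x, Prod.ext (hι₁ p x) (hι₂ p x)⟩

end Groth.Agent.S7460
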