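import Groth.Statements.S7463
import Groth.Agent.Grpd.OverField

set_option autoImplicit false
universe u
open CategoryTheory CategoryTheory.Limits AlgebraicGeometry
open Grpd

namespace Groth.Agent.S7463

open Groth.Agent Groth.Agent.GrpdLib
set_option backward.isDefEq.respectTransparency false

/-- Consider a groupoid scheme (U, R, s, t, c) over S in which U is the spectrum of a field, and write Z
for the closure of the image of the morphism j = (t, s) : R -> U x_S U. Then, set-theoretically,
pr_02 carries Z x_(pr_1,U,pr_0) Z into Z: given the morphism pr_02 from (U x_S U) x_(pr_1,U,pr_0) (U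
x_S U) to U x_S U, whose components are pr_0 of the first factor and pr_1 of the second, any point
both of whose projections land in Z is mapped to a point of Z. (A groupoid scheme consists of U, R,
s, t, c, e, i over S satisfying the groupoid axioms on T-points; c is defined on the fibre product
of s and t and takes a pair (a, b) with s(a) = t(b) to the composite of a with b.) -/
theorem result (S : Scheme.{u}) (G : Grpd.GroupoidScheme S) (k : Type u) [Field k] (eU : G.U ≅ Spec (CommRingCat.of k)) (pr02 : pullback (pullback.snd G.pU G.pU) (pullback.fst G.pU G.pU) ⟶ pullback G.pU G.pU) (h0 : pr02 ≫ pullback.fst G.pU G.pU = pullback.fst (pullback.snd G.pU G.pU) (pullback.fst G.pU G.pU) ≫ pullback.fst G.pU G.pU) (h1 : pr02 ≫ pullback.snd G.pU G.pU = pullback.snd (pullback.snd G.pU G.pU) (pullback.fst G.pU G.pU) ≫ pullback.snd G.pU G.pU) (p : ↑(pullback (pullback.snd G.pU G.pU) (pullback.fst G.pU G.pU))) (h₁ : pullback.fst (pullback.snd G.pU G.pU) (pullback.fst G.pU G.pU) p ∈ closure (Set.range ⇑G.j)) (h₂ : pullback.snd (pullback.snd G.pU G.pU) (pullback.fst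 G.pU G.pU) p ∈ closure (Set.range ⇑G.j)) : pr02 p ∈ closure (Set.range ⇑G.j) := by
  haveI : Subsingleton (Spec (CommRingCat.of k)) := inferInstanceAs (Subsingleton (PrimeSpectrum k))
  haveI : Subsingleton G.U := eU.hom.homeomorph.subsingleton
  haveI : IsIntegral G.U := IsIntegral.of_isIso eU.inv
  have hA : ∀ z : ↑(pullback (pullback.snd G.pU G.pU) (pullback.fst G.pU G.pU)),
      pullback.fst (pullback.snd G.pU G.pU) (pullback.fst G.pU G.pU) z ∈ Set.range G.j →
      pullback.snd (pullback.snd G.pU G.pU) (pullback.fst G.pU G.pU) z ∈ Set.range G.j →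
      pr02 z ∈ Set.range G.j := by
    intro z hz₁ hz₂
    let J := pullback.map G.s G.t (pullback.snd G.pU G.pU) (pullback.fst G.pU G.pU) G.j G.j (𝟙 G.U)
      (by simp [GroupoidScheme.j]) (by simp [GroupoidScheme.j])
    obtain ⟨w, rfl⟩ : z ∈ Set.range J := by
      rw [Scheme.Pullback.range_map]
      exact ⟨hz₁, hz₂⟩
    refine ⟨G.c w, ?_⟩
    rw [← Scheme.Hom.comp_apply, ← Scheme.Hom.comp_apply]
    have hcc : pullback.lift (pullback.fst G.s G.t) (pullback.snd G.s G.t) pullback.condition = 𝟙 _ :=
      pullback.hom_ext (by simp) (by simp)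
    have ht := G.comp_t (pullback.fst G.s G.t) (pullback.snd G.s G.t) pullback.condition
    have hs := G.comp_s (pullback.fst G.s G.t) (pullback.snd G.s G.t) pullback.condition
    rw [hcc, Category.id_comp] at ht hs
    have : G.c ≫ G.j = J ≫ pr02 := by
      apply pullback.hom_ext
      · simp [GroupoidScheme.j, ht, h0, J]
      · simp [GroupoidScheme.j, hs, h1, J]
    rw [this]
  have step : ∀ {A B : Set ↑(pullback G.pU G.pU)} {C : Set ↑(pullback (pullback.snd G.pU G.pU) (pullback.fst G.pU G.pU))},
      IsClosed C →
      (∀ z, pullback.fst (pullback.snd G.pU G.pU) (pullback.fst G.pU G.pU) z ∈ A →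
        pullback.snd (pullback.snd G.pU G.pU) (pullback.fst G.pU G.pU) z ∈ B → z ∈ C) →
      ∀ z, pullback.fst (pullback.snd G.pU G.pU) (pullback.fst G.pU G.pU) z ∈ closure A →
        pullback.snd (pullback.snd G.pU G.pU) (pullback.fst G.pU G.pU) z ∈ B → z ∈ C := by
    intro A B C hC hAB z hz₁ hz₂
    let X := pullback (pullback.snd G.pU G.pU) (pullback.fst G.pU G.pU)
    let β := X.fromSpecResidueField z ≫ pullback.snd _ _
    let P := pullback (pullback.snd G.pU G.pU) (β ≫ pullback.fst G.pU G.pU)
    let q := pullback.fst (pullback.snd G.pU G.pU) (β ≫ pullback.fst G.pU G.pU)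
    let m : P ⟶ X := pullback.lift q (pullback.snd _ _ ≫ β) (by rw [Category.assoc]; exact pullback.condition)
    let y : Spec (X.residueField z) ⟶ P := pullback.lift (X.fromSpecResidueField z ≫ pullback.fst _ _) (𝟙 _)
      (by simp only [β, Category.id_comp, Category.assoc, pullback.condition])
    have hym : y ≫ m = X.fromSpecResidueField z := by
      apply pullback.hom_ext
      · rw [Category.assoc, pullback.lift_fst, pullback.lift_fst]
      · rw [Category.assoc, pullback.lift_snd, pullback.lift_snd_assoc, Category.id_comp]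
    have hsub : q ⁻¹' closure A ⊆ m ⁻¹' C := by
      rw [q.isOpenMap.preimage_closure_eq_closure_preimage q.continuous]
      refine (hC.preimage m.continuous).closure_subset_iff.2 fun w hw => hAB _ ?_ ?_
      · rw [← Scheme.Hom.comp_apply, pullback.lift_fst]; exact hw
      · rw [← Scheme.Hom.comp_apply, pullback.lift_snd, Scheme.Hom.comp_apply, Scheme.Hom.comp_apply]
        rwa [X.fromSpecResidueField_apply]
    let pt : Spec (X.residueField z) := IsLocalRing.closedPoint (X.residueField z)
    have h3 : m (y pt) = z := by
      rw [← Scheme.Hom.comp_apply, hym, X.fromSpecResidueField_apply]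
    rw [← h3]
    refine hsub ?_
    show q (y pt) ∈ closure A
    rwa [← Scheme.Hom.comp_apply, pullback.lift_fst, Scheme.Hom.comp_apply, X.fromSpecResidueField_apply]
  have step' : ∀ {A B : Set ↑(pullback G.pU G.pU)} {C : Set ↑(pullback (pullback.snd G.pU G.pU) (pullback.fst G.pU G.pU))},
      IsClosed C →
      (∀ z, pullback.fst (pullback.snd G.pU G.pU) (pullback.fst G.pU G.pU) z ∈ A →
        pullback.snd (pullback.snd G.pU G.pU) (pullback.fst G.pU G.pU) z ∈ B → z ∈ C) →
      ∀ z, pullback.fst (pullback.snd G.pU G.pU) (pullback.fst G.pU G.pU) z ∈ A →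
        pullback.snd (pullback.snd G.pU G.pU) (pullback.fst G.pU G.pU) z ∈ closure B → z ∈ C := by
    intro A B C hC hAB z hz₁ hz₂
    let X := pullback (pullback.snd G.pU G.pU) (pullback.fst G.pU G.pU)
    let α := X.fromSpecResidueField z ≫ pullback.fst _ _
    let P := pullback (α ≫ pullback.snd G.pU G.pU) (pullback.fst G.pU G.pU)
    let q := pullback.snd (α ≫ pullback.snd G.pU G.pU) (pullback.fst G.pU G.pU)
    let m : P ⟶ X := pullback.lift (pullback.fst _ _ ≫ α) q (by rw [Category.assoc]; exact pullback.condition)
    let y : Spec (X.residueField z) ⟶ P := pullback.lift (𝟙 _) (X.fromSpecResidueField z ≫ pullback.snd _ _)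
      (by simp only [α, Category.id_comp, Category.assoc, pullback.condition])
    have hym : y ≫ m = X.fromSpecResidueField z := by
      apply pullback.hom_ext
      · rw [Category.assoc, pullback.lift_fst, pullback.lift_fst_assoc, Category.id_comp]
      · rw [Category.assoc, pullback.lift_snd, pullback.lift_snd]
    have hsub : q ⁻¹' closure B ⊆ m ⁻¹' C := by
      rw [q.isOpenMap.preimage_closure_eq_closure_preimage q.continuous]
      refine (hC.preimage m.continuous).closure_subset_iff.2 fun w hw => hAB _ ?_ ?_
      · rw [← Scheme.Hom.comp_apply, pullback.lift_fst, Scheme.Hom.comp_apply, Scheme.Hom.comp_apply]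
        rwa [X.fromSpecResidueField_apply]
      · rw [← Scheme.Hom.comp_apply, pullback.lift_snd]; exact hw
    let pt : Spec (X.residueField z) := IsLocalRing.closedPoint (X.residueField z)
    have h3 : m (y pt) = z := by
      rw [← Scheme.Hom.comp_apply, hym, X.fromSpecResidueField_apply]
    rw [← h3]
    refine hsub ?_
    show q (y pt) ∈ closure B
    rwa [← Scheme.Hom.comp_apply, pullback.lift_snd, Scheme.Hom.comp_apply, X.fromSpecResidueField_apply]
  have hC : IsClosed (pr02 ⁻¹' closure (Set.range G.j)) := isClosed_closure.preimage pr02.continuous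
  exact step' hC (step hC fun z hz₁ hz₂ => subset_closure (hA z hz₁ hz₂)) p h₁ h₂

end Groth.Agent.S7463
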