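import Groth.Statements.S7464
-- import your own Groth.Agent.* helpers here
import Mathlib.AlgebraicGeometry.Morphisms.QuasiFinite

set_option autoImplicit false
universe u
open CategoryTheory CategoryTheory.Limits AlgebraicGeometry
open Grpd

namespace Groth.Agent.S7464

/-- Let (U, R, s, t, c) be a groupoid scheme over S with s and t finite, and let u, u' be distinct
points of U in the same orbit, say u = s(r) and u' = t(r). Then u' does not lie in the closure of u.
(The published statement calls u, u' points of R; this row takes them to be points of U, as the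
orbit condition and the proof require.) (A groupoid scheme carries U, R, s, t, c, e, i over S with
the groupoid axioms on T-points; c is defined on the fibre product of s and t and sends a pair (a,
b) with s(a) = t(b) to a composed with b.) -/
theorem result (S : Scheme.{u}) (G : Grpd.GroupoidScheme S) [IsFinite G.s] [IsFinite G.t] (r : G.R) (hne : G.s r ≠ G.t r) : ¬ (G.s r ⤳ G.t r) := by
  intro hsp
  let O : Set G.U := G.t '' (G.s ⁻¹' {G.s r})
  have hfin : O.Finite := (G.s.finite_preimage_singleton _).image _
  have hne' : O.Nonempty := ⟨_, r, rfl, rfl⟩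
  obtain ⟨v, hv⟩ := hfin.exists_minimalFor (fun v => closure ({v} : Set G.U)) O hne'
  obtain ⟨ρ, hρ, rfl⟩ := hv.1
  have hsp' : G.s ρ ⤳ G.t r := by
    rw [show G.s ρ = G.s r from hρ]; exact hsp
  obtain ⟨ρ1, h1, h2⟩ := G.s.isClosedMap.specializingMap hsp'
  obtain ⟨p, hp1, hp2⟩ := Scheme.Pullback.exists_preimage_pullback (f := G.s) (g := G.t) ρ1 r h2
  have hid : pullback.lift (pullback.fst G.s G.t) (pullback.snd G.s G.t) pullback.condition =
      𝟙 (pullback G.s G.t) := pullback.hom_ext (by simp) (by simp)
  have hs : G.s (G.c p) = G.s r := by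
    have := G.comp_s (pullback.fst G.s G.t) (pullback.snd G.s G.t) pullback.condition
    rw [hid, Category.id_comp] at this
    rw [← Scheme.Hom.comp_apply, this, Scheme.Hom.comp_apply, hp2]
  have ht : G.t (G.c p) = G.t ρ1 := by
    have := G.comp_t (pullback.fst G.s G.t) (pullback.snd G.s G.t) pullback.condition
    rw [hid, Category.id_comp] at this
    rw [← Scheme.Hom.comp_apply, this, Scheme.Hom.comp_apply, hp1]
  have hmem : G.t ρ1 ∈ O := ⟨G.c p, hs, ht⟩
  have hle : closure ({G.t ρ1} : Set G.U) ≤ closure {G.t ρ} := (h1.map G.t.continuous).closure_subset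
  have hge : closure ({G.t ρ} : Set G.U) ≤ closure {G.t ρ1} := hv.2 hmem hle
  have heq : G.t ρ1 = G.t ρ :=
    ((specializes_iff_closure_subset.2 hge).antisymm (h1.map G.t.continuous)).eq
  have hd := (G.t.isDiscrete_preimage_singleton (G.t ρ)).to_subtype
  have : ρ1 = ρ := by
    have h3 : (⟨ρ, rfl⟩ : G.t ⁻¹' {G.t ρ}) ⤳ ⟨ρ1, heq⟩ := (subtype_specializes_iff _ _).2 h1
    exact (congrArg Subtype.val h3.eq).symm
  exact hne (by rw [← h2, this]; exact hρ.symm)

end Groth.Agent.S7464
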