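import Groth.Statements.S7468
import Groth.Agent.HTopV.PhExtend

set_option autoImplicit false
universe w u
open HTop

namespace Groth.Agent.S7468

open CategoryTheory CategoryTheory.Limits AlgebraicGeometry in
/-- If T is affine and a finite family is obtained by restricting one proper surjective morphism U -> T
to the pieces of a finite affine open cover of U, then the family is a standard V covering. -/
theorem result {T : Scheme.{u}} (E : PreZeroHypercover.{w} T) (hE : HTop.IsStandardPh E) : HTop.IsStandardV E := by
  exact ⟨hE.isAffine, hE.finite_index, hE.isAffine_obj, Groth.Agent.HTopV.hasValLift_of_isStandardPh hE⟩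

end Groth.Agent.S7468
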