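import Groth.Statements.S7484
import Groth.Agent.SchDescent.FiniteFlat
import Mathlib.AlgebraicGeometry.Morphisms.QuasiFinite
import Mathlib.AlgebraicGeometry.AlgClosed.Basic
import Mathlib.FieldTheory.IsAlgClosed.AlgebraicClosure

set_option autoImplicit false
open CategoryTheory CategoryTheory.Limits AlgebraicGeometry
universe u
open Desc

namespace Groth.Agent.S7484

/-- Let p : X -> Y be a surjective finite locally free morphism and d a positive integer such that for
every algebraically closed field k and every k-point of Y there are at most d k-points of X over it.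
Let V be a scheme over X such that any d points of V (not necessarily distinct) lying over one point
of Y are contained in an affine open of V. Then every descent datum on V relative to p is effective.
(Descent data are taken in functor-of-points form.) -/
theorem result {X Y : Scheme.{u}} (p : X ⟶ Y) [Surjective p] [IsFinite p] [Flat p] [LocallyOfFinitePresentation p] (d : ℕ) (hd : 0 < d) (hfib : ∀ (k : Type u) [Field k] [IsAlgClosed k] (y : Spec (CommRingCat.of k) ⟶ Y), Set.encard {x : Spec (CommRingCat.of k) ⟶ X | x ≫ p = y} ≤ d) (D : Desc.SchDD p) (hV : ∀ (y : Y) (v : Fin d → ↑(D.obj.left)), (∀ i, p (D.obj.hom (v i)) = y) → ∃ U : D.obj.left.Opens, IsAffineOpen U ∧ ∀ i, v i ∈ U) : ∃ W : Over Y, Nonempty ((Desc.toDD p).obj W ≅ D) := by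
  classical
  refine SchDescent.effective_of_finite_flat fun e ↦ ?_
  let g := D.obj.hom ≫ p
  let fst := pullback.fst p g
  let snd := pullback.snd p g
  let σ := SchDescent.tr D fst snd (by rw [Category.assoc]; exact pullback.condition.symm)
  let k : Type u := AlgebraicClosure (D.obj.left.residueField e)
  let ε : Spec (CommRingCat.of k) ⟶ D.obj.left :=
    Spec.map (CommRingCat.ofHom (algebraMap (D.obj.left.residueField e) k)) ≫
      D.obj.left.fromSpecResidueField e
  have hεe : ∀ a, ε a = e := fun a ↦
    Set.mem_singleton_iff.mp ((Scheme.range_fromSpecResidueField (X := D.obj.left) e).subset ⟨_, rfl⟩)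
  let F : Set ↑(pullback p g) := snd ⁻¹' {e}
  have hF : F.Finite := snd.finite_preimage_singleton e
  have key : ∀ r ∈ F, ∃ t : Spec (CommRingCat.of k) ⟶ pullback p g,
      t ≫ snd = ε ∧ ∀ a, t a = r := by
    intro r hr
    obtain ⟨z, hz, -⟩ := Scheme.Pullback.exists_preimage_pullback (f := snd) (g := ε) r
      (IsLocalRing.closedPoint k) (hr.trans (hεe _).symm)
    have hd : _root_.IsDiscrete ((pullback.snd snd ε) ⁻¹' {IsLocalRing.closedPoint k}) :=
      (pullback.snd snd ε).isDiscrete_preimage_singleton _
    have : DiscreteTopology ↑(pullback snd ε) := by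
      have hu : (pullback.snd snd ε) ⁻¹' {IsLocalRing.closedPoint k} = Set.univ :=
        Set.eq_univ_of_forall fun _ ↦ Subsingleton.elim _ _
      rw [hu] at hd
      exact isDiscrete_univ_iff.mp hd
    refine ⟨pointOfClosedPoint (pullback.snd snd ε) z (isClosed_discrete _) ≫ pullback.fst snd ε,
      ?_, fun a ↦ ?_⟩
    · rw [Category.assoc, pullback.condition, pointOfClosedPoint_comp_assoc]
    · simp [hz]
  choose t ht₁ ht₂ using key
  let G := {x : Spec (CommRingCat.of k) ⟶ X | x ≫ p = ε ≫ g}
  let φ : F → G := fun r ↦ ⟨t r r.2 ≫ fst, by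
    show (t r r.2 ≫ fst) ≫ p = ε ≫ g
    rw [Category.assoc, pullback.condition, reassoc_of% ht₁ r r.2]⟩
  have hφ : Function.Injective φ := fun r r' h ↦ by
    have h1 : t r r.2 ≫ fst = t r' r'.2 ≫ fst := congrArg Subtype.val h
    have h2 : t r r.2 = t r' r'.2 := pullback.hom_ext h1 ((ht₁ r r.2).trans (ht₁ r' r'.2).symm)
    exact Subtype.ext ((ht₂ r r.2 (IsLocalRing.closedPoint k)).symm.trans
      ((congrArg (fun f : Spec (CommRingCat.of k) ⟶ _ ↦ f (IsLocalRing.closedPoint k)) h2).trans
        (ht₂ r' r'.2 _)))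
  have hcard : ENat.card F ≤ d :=
    (ENat.card_le_card_of_injective hφ).trans (hfib k (ε ≫ g))
  have := hF.to_subtype
  have := Fintype.ofFinite F
  have hn : Fintype.card F ≤ d := by
    rw [ENat.card_eq_coe_fintype_card] at hcard
    exact Nat.cast_le.mp hcard
  have hne : e ∈ Set.range snd := by
    obtain ⟨x, hx⟩ := p.surjective (g e)
    obtain ⟨r, -, hr⟩ := Scheme.Pullback.exists_preimage_pullback (f := p) (g := g) x e hx
    exact ⟨r, hr⟩
  obtain ⟨r₀, hr₀⟩ := hne
  let v : Fin d → D.obj.left := fun i ↦
    if h : (i : ℕ) < Fintype.card F then σ ((Fintype.equivFin F).symm ⟨i, h⟩).1 else σ r₀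
  obtain ⟨U, hU, hm⟩ := hV (p (D.obj.hom e)) v fun i ↦ by
    dsimp only [v]
    split
    · exact SchDescent.orbit_over D e _ ((Fintype.equivFin F).symm _).2
    · exact SchDescent.orbit_over D e _ hr₀
  refine ⟨U, hU, fun r hr ↦ ?_⟩
  let i : Fin d := ⟨Fintype.equivFin F ⟨r, hr⟩, lt_of_lt_of_le (Fin.is_lt _) hn⟩
  have := hm i
  simp only [v, i, Fin.is_lt, dite_true, Fin.eta, Equiv.symm_apply_apply] at this
  exact this

end Groth.Agent.S7484
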