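import Groth.Statements.S7490
import Groth.Prelude.Def_QuotSh
import Mathlib.CategoryTheory.Sites.RegularEpi
import Mathlib.CategoryTheory.Limits.Shapes.KernelPair
import Mathlib.CategoryTheory.Sites.LeftExact
import Mathlib.CategoryTheory.Limits.Constructions.Over.Connected

set_option autoImplicit false
open CategoryTheory CategoryTheory.Limits AlgebraicGeometry
universe u
open QuotSh

namespace Groth.Agent.S7490

/-- Let K be a precoverage on schemes (the topology τ), S a scheme, s, t : R -> U morphisms of schemes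
over S (a pre-relation) and q : U -> M a morphism over S such that (1) q coequalizes s and t, (2)
the induced map of τ-sheaves h_U -> h_M is an epimorphism, and (3) the map h_R -> h_(U x_M U)
induced by (t, s) is an epimorphism of τ-sheaves. Then M, through q, represents the quotient sheaf
U/R: the canonical map from the coequalizer of h_s, h_t to h_M is an isomorphism. (The published
statement takes τ to be the Zariski, étale, fppf, smooth or syntomic topology; this row allows the
topology generated by any precoverage K.) -/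
theorem result (K : Precoverage Scheme.{u}) {S : Scheme.{u}} {R U M : Over S} (s t : R ⟶ U) (q : U ⟶ M) (w : s ≫ q = t ≫ q) (w' : t.left ≫ q.left = s.left ≫ q.left) (h₂ : Epi (QuotSh.repMap K q)) (h₃ : Epi (QuotSh.repMap K (Over.homMk (pullback.lift t.left s.left w') (((Category.assoc _ _ _).symm.trans (congrArg (fun k => k ≫ U.hom) (pullback.lift_fst t.left s.left w'))).trans (Over.w t)) : R ⟶ Over.mk (pullback.fst q.left q.left ≫ U.hom)))) : QuotSh.IsQuotient K s t q := by
  let P : Over S := Over.mk (pullback.fst q.left q.left ≫ U.hom)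
  let p₁ : P ⟶ U := Over.homMk (pullback.fst q.left q.left) rfl
  let p₂ : P ⟶ U := Over.homMk (pullback.snd q.left q.left) (by
    show pullback.snd q.left q.left ≫ U.hom = pullback.fst q.left q.left ≫ U.hom
    rw [← Over.w q, pullback.condition_assoc])
  let ρ : R ⟶ P := Over.homMk (pullback.lift t.left s.left w')
    (((Category.assoc _ _ _).symm.trans (congrArg (fun k => k ≫ U.hom) (pullback.lift_fst t.left s.left w'))).trans (Over.w t))
  have hρ₁ : ρ ≫ p₁ = t := Over.OverMorphism.ext (pullback.lift_fst _ _ _)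
  have hρ₂ : ρ ≫ p₂ = s := Over.OverMorphism.ext (pullback.lift_snd _ _ _)
  have hk : IsPullback p₁ p₂ q q :=
    IsPullback.of_map (Over.forget S) (Over.OverMorphism.ext pullback.condition)
      (IsPullback.of_hasPullback q.left q.left)
  let F : Over S ⥤ QuotSh.Sh K S := yoneda ⋙ (Functor.whiskeringRight _ _ _).obj uliftFunctor.{u + 1, u} ⋙
    presheafToSheaf (QuotSh.J K S) (Type (u + 1))
  have hk' : IsKernelPair (QuotSh.repMap K q) (QuotSh.repMap K p₁) (QuotSh.repMap K p₂) := hk.map F
  have : Epi (QuotSh.repMap K q) := h₂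
  have : Epi (QuotSh.repMap K ρ) := h₃
  have : IsRegularEpi (QuotSh.repMap K q) := IsRegularEpiCategory.regularEpiOfEpi _
  have hc := hk'.toCoequalizer'
  have hs : QuotSh.repMap K ρ ≫ QuotSh.repMap K p₂ = QuotSh.repMap K s :=
    ((F.map_comp _ _).symm.trans (congrArg F.map hρ₂))
  have ht : QuotSh.repMap K ρ ≫ QuotSh.repMap K p₁ = QuotSh.repMap K t :=
    ((F.map_comp _ _).symm.trans (congrArg F.map hρ₁))
  refine ⟨w, ?_⟩
  have hπ : QuotSh.repMap K p₁ ≫ QuotSh.quotπ K s t = QuotSh.repMap K p₂ ≫ QuotSh.quotπ K s t := by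
    rw [← cancel_epi (QuotSh.repMap K ρ), reassoc_of% ht, reassoc_of% hs]
    exact (QuotSh.quot_condition K s t).symm
  let β := hc.desc (Cofork.ofπ (QuotSh.quotπ K s t) hπ)
  have hβ : QuotSh.repMap K q ≫ β = QuotSh.quotπ K s t := Cofork.IsColimit.π_desc hc
  have hd : QuotSh.quotπ K s t ≫ QuotSh.quotDesc K q w = QuotSh.repMap K q := coequalizer.π_desc _ _
  refine ⟨β, coequalizer.hom_ext ?_, ?_⟩
  · change QuotSh.quotπ K s t ≫ _ ≫ β = QuotSh.quotπ K s t ≫ 𝟙 _
    rw [reassoc_of% hd, hβ, Category.comp_id]
  · rw [← cancel_epi (QuotSh.repMap K q), reassoc_of% hβ, hd, Category.comp_id]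

end Groth.Agent.S7490
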