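import Groth.Statements.S7493
import Groth.Agent.AlgClosedAut.Basic

set_option autoImplicit false
universe u
open CategoryTheory CategoryTheory.Limits AlgebraicGeometry
open Grpd

set_option backward.isDefEq.respectTransparency false

namespace Groth.Agent.S7493

/-- Let (U, R, s, t, c) be a groupoid scheme over S with U = Spec k for a field k, and let r be a point
of R. Then there exist a field extension k -> k' with k' algebraically closed and a point r' of the
restriction R' of R along g : U' = Spec k' -> U, that is R' = (U' x_(g,U,t) R) x_(s pr, U, g) U'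
with t' the projection to the first factor U' and s' the projection to the last factor U', such that
r' maps to r under R' -> R and both s' and t' induce isomorphisms on residue fields at r' (k' ->
κ(r') bijective). (A groupoid scheme carries U, R, s, t, c, e, i over S with the groupoid axioms on
T-points; c is defined on the fibre product of s and t and sends a pair (a, b) with s(a) = t(b) to a
composed with b.) -/
theorem result (S : Scheme.{u}) (G : Grpd.GroupoidScheme S) (k : Type u) [Field k] (eU : G.U ≅ Spec (CommRingCat.of k)) (r : G.R) : ∃ (k' : Type u) (_ : Field k') (_ : IsAlgClosed k') (_ : Algebra k k'), ∃ r' : ↑(pullback (pullback.snd (Spec.map (CommRingCat.ofHom (algebraMap k k')) ≫ eU.inv) G.t ≫ G.s) (Spec.map (CommRingCat.ofHom (algebraMap k k')) ≫ eU.inv)), (pullback.fst (pullback.snd (Spec.map (CommRingCat.ofHom (algebraMap k k')) ≫ eU.inv) G.t ≫ G.s) (Spec.map (CommRingCat.ofHom (algebraMap k k')) ≫ eU.inv) ≫ pullback.snd (Spec.map (CommRingCat.ofHom (algebraMap k k')) ≫ eU.inv) G.t) r' = r ∧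 IsIso ((pullback.snd (pullback.snd (Spec.map (CommRingCat.ofHom (algebraMap k k')) ≫ eU.inv) G.t ≫ G.s) (Spec.map (CommRingCat.ofHom (algebraMap k k')) ≫ eU.inv)).residueFieldMap r') ∧ IsIso ((pullback.fst (pullback.snd (Spec.map (CommRingCat.ofHom (algebraMap k k')) ≫ eU.inv) G.t ≫ G.s) (Spec.map (CommRingCat.ofHom (algebraMap k k')) ≫ eU.inv) ≫ pullback.fst (Spec.map (CommRingCat.ofHom (algebraMap k k')) ≫ eU.inv) G.t).residueFieldMap r') := by
  let ρ := G.R.fromSpecResidueField r
  let φs : k →+* G.R.residueField r := (Spec.preimage (ρ ≫ G.s ≫ eU.hom)).hom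
  let φt : k →+* G.R.residueField r := (Spec.preimage (ρ ≫ G.t ≫ eU.hom)).hom
  obtain ⟨Ω, _, _, m, b, hb⟩ := AlgClosedAut.exists_conjugate φs φt
  letI : Algebra k Ω := (m.comp φs).toAlgebra
  let g := Spec.map (CommRingCat.ofHom (algebraMap k Ω)) ≫ eU.inv
  let x : Spec (CommRingCat.of Ω) ⟶ G.R := Spec.map (CommRingCat.ofHom m) ≫ ρ
  let A : Spec (CommRingCat.of Ω) ⟶ Spec (CommRingCat.of Ω) := Spec.map (CommRingCat.ofHom b.toRingHom)
  have hg : ∀ a : Ω →+* Ω, Spec.map (CommRingCat.ofHom a) ≫ g =
      Spec.map (CommRingCat.ofHom (a.comp (m.comp φs))) ≫ eU.inv := fun a => by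
    rw [← Category.assoc, ← Spec.map_comp]
    rfl
  have hx : ∀ (q : G.R ⟶ G.U), x ≫ q =
      Spec.map (CommRingCat.ofHom (m.comp (Spec.preimage (ρ ≫ q ≫ eU.hom)).hom)) ≫ eU.inv := fun q => by
    rw [CommRingCat.ofHom_comp, CommRingCat.ofHom_hom, Spec.map_comp, Spec.map_preimage]
    simp [x, Category.assoc]
  have hA : A ≫ g = x ≫ G.t := by
    rw [hg, hx]
    congr 3
    exact RingHom.ext hb
  have hB : 𝟙 _ ≫ g = x ≫ G.s := by
    rw [hx, ← Spec.map_id, ← CommRingCat.ofHom_id, hg]
    rfl
  let l : Spec (CommRingCat.of Ω) ⟶ pullback (pullback.snd g G.t ≫ G.s) g :=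
    pullback.lift (pullback.lift A x hA) (𝟙 _) (by rw [pullback.lift_snd_assoc, hB])
  let c := IsLocalRing.closedPoint Ω
  have key : ∀ (q : pullback (pullback.snd g G.t ≫ G.s) g ⟶ Spec (CommRingCat.of Ω)),
      IsOpenImmersion (l ≫ q) → IsIso (q.residueFieldMap (l c)) := by
    intro q hq
    have h1 : IsIso ((l ≫ q).residueFieldMap c) := inferInstance
    have h2 := ((ConcreteCategory.isIso_iff_bijective _).1 h1).2
    rw [Scheme.residueFieldMap_comp] at h2
    refine (ConcreteCategory.isIso_iff_bijective _).2 ⟨(q.residueFieldMap (l c)).hom.injective, fun t => ?_⟩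
    obtain ⟨v, hv⟩ := h2 ((l.residueFieldMap c).hom t)
    exact ⟨v, (l.residueFieldMap c).hom.injective hv⟩
  refine ⟨Ω, inferInstance, inferInstance, inferInstance, l c, ?_, key _ ?_, key _ ?_⟩
  · rw [← Scheme.Hom.comp_apply, pullback.lift_fst_assoc, pullback.lift_snd]
    exact Scheme.fromSpecResidueField_apply r _
  · rw [pullback.lift_snd]
    infer_instance
  · rw [pullback.lift_fst_assoc, pullback.lift_fst]
    haveI : IsIso (CommRingCat.ofHom b.toRingHom) := inferInstanceAs (IsIso b.toCommRingCatIso.hom)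
    infer_instance

end Groth.Agent.S7493
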