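import Groth.Statements.S7494
import Groth.Agent.GrpAct.Basic

set_option autoImplicit false
universe u
open CategoryTheory MonoidalCategory CartesianMonoidalCategory MonObj GrpObj AlgebraicGeometry
open AlgGrp

namespace Groth.Agent.S7494

/-- Let G be a group scheme over S acting on a scheme X over S by a. The action is free, meaning that
for every scheme T over S and all T-points g of G and x of X with g · x = x one has g = 1, if and
only if the morphism G x_S X -> X x_S X, (g, x) ↦ (a(g, x), x), is a monomorphism of schemes. -/
theorem result {S : Scheme.{u}} (G X : Over S) [GrpObj G] (a : AlgGrp.Action G X) : (∀ (T : Over S) (g : T ⟶ G) (x : T ⟶ X), lift g x ≫ a.act = x → g = toUnit T ≫ η[G]) ↔ Mono (lift a.act (snd G X)).left := by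
  rw [Groth.Agent.GrpAct.mono_graph_iff]
  exact ⟨fun _ ↦ inferInstanceAs (Mono ((Over.forget S).map (lift a.act (snd G X)))),
    fun h ↦ (Over.forget S).mono_of_mono_map h⟩

end Groth.Agent.S7494
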