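import Groth.Statements.S7498
import Mathlib
import Groth.Agent.Grpd.OverField

set_option autoImplicit false
universe u
open CategoryTheory CategoryTheory.Limits AlgebraicGeometry
open Grpd

namespace Groth.Agent.S7498

set_option backward.isDefEq.respectTransparency false

/-- Let (U, R, s, t, c) be a groupoid scheme over S and r, r' points of R with t(r) = t(r'); put u =
s(r), u' = s(r') and let F_u, F_u' be the scheme-theoretic fibres of s. Then there are a field k
which is a common extension of κ(u) and κ(u') (morphisms a, b : Spec k -> U with images u, u') and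
an isomorphism of the base changes (F_u)_k and (F_u')_k over Spec k, which moreover can be chosen to
send some point lying over r to a point lying over r'. (The published statement also compares the
germs of s at r and at r' when s and t are flat or flat of finite presentation; this row omits
that.) (A groupoid scheme carries U, R, s, t, c, e, i over S with the groupoid axioms on T-points; c
is defined on the fibre product of s and t and sends a pair (a, b) with s(a) = t(b) to a composed
with b.) -/
theorem result (S : Scheme.{u}) (G : Grpd.GroupoidScheme S) (r r' : G.R) (h : G.t r = G.t r') : ∃ (k : Type u) (_ : Field k) (a b : Spec (CommRingCat.of k) ⟶ G.U) (φ : pullback G.s a ≅ pullback G.s b) (p : ↑(pullback G.s a)), a (IsLocalRing.closedPoint k) = G.s r ∧ b (IsLocalRing.closedPoint k) = G.s r' ∧ φ.hom ≫ pullback.snd G.s b = pullback.snd G.s a ∧ pullback.fst G.s a p = r ∧ pullback.fst G.s b (φ.hom p) = r' := by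
  obtain ⟨w, hw1, hw2⟩ := Scheme.Pullback.exists_preimage_pullback (f := G.t) (g := G.t) r r' h
  let P := pullback G.t G.t
  let k : Type u := P.residueField w
  let z : Spec (CommRingCat.of k) ⟶ P := P.fromSpecResidueField w
  let x : Spec (CommRingCat.of k) ⟶ G.R := z ≫ pullback.fst _ _
  let x' : Spec (CommRingCat.of k) ⟶ G.R := z ≫ pullback.snd _ _
  have hxx : x ≫ G.t = x' ≫ G.t := by simp only [x, x', Category.assoc, pullback.condition]
  have hzpt : ∀ y, z y = w := fun y => Scheme.fromSpecResidueField_apply w y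
  have hxr : ∀ y, x y = r := fun y => by
    show pullback.fst G.t G.t (z y) = r
    rw [hzpt]; exact hw1
  have hxr' : ∀ y, x' y = r' := fun y => by
    show pullback.snd G.t G.t (z y) = r'
    rw [hzpt]; exact hw2
  let a := x ≫ G.s
  let b := x' ≫ G.s
  let δ := GrpdLib.gmul G (x ≫ G.i) x' (by rw [Category.assoc, G.i_s, hxx])
  let ε := GrpdLib.gmul G (x' ≫ G.i) x (by rw [Category.assoc, G.i_s, hxx])
  have hδs : δ ≫ G.s = b := GrpdLib.gmul_s ..
  have hεs : ε ≫ G.s = a := GrpdLib.gmul_s ..
  have hδt : δ ≫ G.t = a := by simp only [δ, GrpdLib.gmul_t, Category.assoc, G.i_t, a]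
  have hεt : ε ≫ G.t = b := by simp only [ε, GrpdLib.gmul_t, Category.assoc, G.i_t, b]
  let f : ∀ {c d : Spec (CommRingCat.of k) ⟶ G.U} (η : Spec (CommRingCat.of k) ⟶ G.R),
      η ≫ G.t = c → η ≫ G.s = d → (pullback G.s c ⟶ pullback G.s d) := fun {c d} η ht hs =>
    pullback.lift (GrpdLib.gmul G (pullback.fst G.s c) (pullback.snd G.s c ≫ η)
      (by rw [Category.assoc, ht, pullback.condition])) (pullback.snd G.s c)
      (by rw [GrpdLib.gmul_s, Category.assoc, hs])
  have hff : ∀ {c d : Spec (CommRingCat.of k) ⟶ G.U} (η ζ : Spec (CommRingCat.of k) ⟶ G.R)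
      (h1 : η ≫ G.t = c) (h2 : η ≫ G.s = d) (h3 : ζ ≫ G.t = d) (h4 : ζ ≫ G.s = c),
      GrpdLib.gmul G η ζ (h2.trans h3.symm) = c ≫ G.e → f η h1 h2 ≫ f ζ h3 h4 = 𝟙 _ := by
    intro c d η ζ h1 h2 h3 h4 he
    apply pullback.hom_ext
    · simp only [f, Category.assoc, pullback.lift_fst, Category.id_comp, GrpdLib.comp_gmul]
      simp only [GrpdLib.gmul_eq, pullback.lift_fst, pullback.lift_snd_assoc] at he ⊢
      refine (G.assoc (pullback.fst G.s c) (pullback.snd G.s c ≫ η) (pullback.snd G.s c ≫ ζ)
        (by rw [Category.assoc, h1, pullback.condition]) (by rw [Category.assoc, h2, Category.assoc, h3])).trans ?_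
      refine (GrpdLib.comp_congr G rfl (β' := pullback.fst G.s c ≫ G.s ≫ G.e) ?_ _
        (by simp [G.e_t])).trans (G.comp_e _)
      rw [pullback.condition_assoc, ← he]
      refine Eq.trans ?_ (Category.assoc _ _ _)
      refine congrArg (· ≫ G.c) ?_
      apply pullback.hom_ext <;> simp
    · simp [f]
  have e1 : GrpdLib.gmul G δ ε (hδs.trans hεt.symm) = a ≫ G.e := by
    have := GrpdLib.gmul_inv G x' x hxx.symm
    simp only [δ, ε, GrpdLib.gmul_eq] at this ⊢
    refine (G.assoc (x ≫ G.i) x' _ (by rw [Category.assoc, G.i_s, hxx])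
      (by rw [G.comp_t, Category.assoc x' G.i G.t, G.i_t])).trans ?_
    refine (GrpdLib.comp_congr G rfl this _ (by rw [Category.assoc, G.i_s])).trans ?_
    simpa [a] using G.i_comp x
  have e2 : GrpdLib.gmul G ε δ (hεs.trans hδt.symm) = b ≫ G.e := by
    have := GrpdLib.gmul_inv G x x' hxx
    simp only [δ, ε, GrpdLib.gmul_eq] at this ⊢
    refine (G.assoc (x' ≫ G.i) x _ (by rw [Category.assoc, G.i_s, hxx])
      (by rw [G.comp_t, Category.assoc x G.i G.t, G.i_t])).trans ?_
    refine (GrpdLib.comp_congr G rfl this _ (by rw [Category.assoc, G.i_s])).trans ?_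
    simpa [b] using G.i_comp x'
  let φ : pullback G.s a ≅ pullback G.s b :=
    ⟨f δ hδt hδs, f ε hεt hεs, hff δ ε hδt hδs hεt hεs e1, hff ε δ hεt hεs hδt hδs e2⟩
  let sec : Spec (CommRingCat.of k) ⟶ pullback G.s a := pullback.lift x (𝟙 _) (by simp [a])
  let y₀ := IsLocalRing.closedPoint k
  refine ⟨k, inferInstance, a, b, φ, sec y₀, ?_, ?_, ?_, ?_, ?_⟩
  · exact congrArg G.s (hxr y₀)
  · exact congrArg G.s (hxr' y₀)
  · exact pullback.lift_snd _ _ _
  · exact (congr($(pullback.lift_fst x (𝟙 _) _) y₀)).trans (hxr y₀)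
  · have : sec ≫ φ.hom ≫ pullback.fst G.s b = x' := by
      simp only [φ, f, pullback.lift_fst, GrpdLib.comp_gmul]
      refine (GrpdLib.gmul_congr G (pullback.lift_fst _ _ _)
        (show sec ≫ pullback.snd G.s a ≫ δ = δ by
          rw [pullback.lift_snd_assoc]; exact Category.id_comp δ) _).trans ?_
      exact GrpdLib.gmul_inv G x x' hxx
    exact (congr($this y₀)).trans (hxr' y₀)

end Groth.Agent.S7498
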