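import Groth.Statements.S7499
import Groth.Agent.S0593
-- import your own Groth.Agent.* helpers here

set_option autoImplicit false
set_option backward.isDefEq.respectTransparency false
set_option backward.isDefEq.respectTransparency.types false
universe u
open CategoryTheory CategoryTheory.Limits AlgebraicGeometry
open Grpd

namespace Groth.Agent.S7499

variable {S : Scheme.{u}} (G : Grpd.GroupoidScheme S)

/-- two points are related when some arrow joins them -/
def Rel (u v : G.U) : Prop := ∃ r : G.R, G.s r = u ∧ G.t r = v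

theorem rel_refl (u : G.U) : Rel G u u :=
  ⟨G.e u, congrArg (fun f : G.U ⟶ G.U => f u) G.e_s, congrArg (fun f : G.U ⟶ G.U => f u) G.e_t⟩

theorem rel_symm {u v : G.U} (h : Rel G u v) : Rel G v u := by
  obtain ⟨r, hs, ht⟩ := h
  exact ⟨G.i r, (congrArg (fun f : G.R ⟶ G.U => f r) G.i_s).trans ht,
    (congrArg (fun f : G.R ⟶ G.U => f r) G.i_t).trans hs⟩

theorem rel_trans {u v w : G.U} (h : Rel G u v) (h' : Rel G v w) : Rel G u w := by
  obtain ⟨b, hbs, hbt⟩ := h
  obtain ⟨a, has, hat⟩ := h'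
  obtain ⟨z, hz₁, hz₂⟩ := Scheme.Pullback.exists_preimage_pullback (f := G.s) (g := G.t) a b (has.trans hbt.symm)
  have e₁ : G.c ≫ G.s = pullback.snd G.s G.t ≫ G.s := by
    simpa [pullback.condition] using G.comp_s (pullback.fst G.s G.t) (pullback.snd G.s G.t) pullback.condition
  have e₂ : G.c ≫ G.t = pullback.fst G.s G.t ≫ G.t := by
    simpa [pullback.condition] using G.comp_t (pullback.fst G.s G.t) (pullback.snd G.s G.t) pullback.condition
  refine ⟨G.c z, ?_, ?_⟩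
  · rw [← Scheme.Hom.comp_apply, e₁, Scheme.Hom.comp_apply, hz₂, hbs]
  · rw [← Scheme.Hom.comp_apply, e₂, Scheme.Hom.comp_apply, hz₁, hat]

/-- Let (U, R, s, t, c) be a groupoid scheme over S with s and t integral, and g : U' -> U an integral
morphism such that every R-orbit of U meets the image of g. Let R' = (U' x_(g,U,t) R) x_(s pr, U, g)
U' be the restriction of R to U', with t' the projection to the first factor U' and s' the
projection to the last. If u' is a point of U' contained in an affine open W' of U' with t'^{-1}(W')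
= s'^{-1}(W'), then g(u') is contained in an affine open W of U with s^{-1}(W) = t^{-1}(W). (A
groupoid scheme carries U, R, s, t, c, e, i over S with the groupoid axioms on T-points; c is
defined on the fibre product of s and t and sends a pair (a, b) with s(a) = t(b) to a composed with
b.) -/
theorem result (S : Scheme.{u}) (G : Grpd.GroupoidScheme S) [IsIntegralHom G.s] [IsIntegralHom G.t] (U' : Scheme.{u}) (g : U' ⟶ G.U) [IsIntegralHom g] (horb : ∀ u : G.U, ∃ r : G.R, G.s r = u ∧ G.t r ∈ Set.range ⇑g) (u' : U') (W' : U'.Opens) (hW' : IsAffineOpen W') (hu' : u' ∈ W') (hinv : (pullback.fst (pullback.snd g G.t ≫ G.s) g ≫ pullback.fst g G.t) ⁻¹ᵁ W' = (pullback.snd (pullback.snd g G.t ≫ G.s) g) ⁻¹ᵁ W') : ∃ W : G.U.Opens, IsAffineOpen W ∧ g u' ∈ W ∧ G.s ⁻¹ᵁ W = G.t ⁻¹ᵁ W := by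
  let A : Set U' := (W' : Set U')ᶜ
  let Z : Set G.U := G.t '' (G.s ⁻¹' (g '' A))
  have hZc : IsClosed Z :=
    G.t.isClosedMap _ ((g.isClosedMap A W'.2.isClosed_compl).preimage G.s.continuous)
  have hmem : ∀ {v : G.U}, v ∈ Z ↔ ∃ a ∈ A, Rel G (g a) v := by
    intro v
    constructor
    · rintro ⟨r, ⟨a, ha, hr⟩, rfl⟩
      exact ⟨a, ha, r, hr.symm, rfl⟩
    · rintro ⟨a, ha, r, hs, ht⟩
      exact ⟨r, ⟨a, ha, hs.symm⟩, ht⟩
  let V : G.U.Opens := ⟨Zᶜ, hZc.isOpen_compl⟩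
  have hrel : ∀ {x y : G.U}, Rel G x y → (x ∈ V ↔ y ∈ V) := fun {x y} h => not_congr
    ⟨fun hx => by
      obtain ⟨a, ha, h'⟩ := hmem.1 hx
      exact hmem.2 ⟨a, ha, rel_trans G h' h⟩,
    fun hy => by
      obtain ⟨a, ha, h'⟩ := hmem.1 hy
      exact hmem.2 ⟨a, ha, rel_trans G h' (rel_symm G h)⟩⟩
  have hVinv : G.s ⁻¹ᵁ V = G.t ⁻¹ᵁ V :=
    TopologicalSpace.Opens.ext (Set.ext fun r => hrel ⟨r, rfl, rfl⟩)
  have hgV : g ⁻¹ᵁ V = W' := by
    refine TopologicalSpace.Opens.ext (Set.ext fun x => ⟨fun hx => ?_, fun hx hxZ => ?_⟩)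
    · by_contra hxW
      exact hx (hmem.2 ⟨x, hxW, rel_refl G _⟩)
    · obtain ⟨a, ha, r, hs, ht⟩ := hmem.1 hxZ
      obtain ⟨z, hz₁, hz₂⟩ := Scheme.Pullback.exists_preimage_pullback (f := g) (g := G.t) x r ht.symm
      obtain ⟨y, hy₁, hy₂⟩ := Scheme.Pullback.exists_preimage_pullback
        (f := pullback.snd g G.t ≫ G.s) (g := g) z a (by rw [Scheme.Hom.comp_apply, hz₂, hs])
      have hyW : (pullback.fst (pullback.snd g G.t ≫ G.s) g ≫ pullback.fst g G.t) y ∈ W' := by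
        rw [Scheme.Hom.comp_apply, hy₁, hz₁]; exact hx
      have h' : y ∈ (pullback.snd (pullback.snd g G.t ≫ G.s) g) ⁻¹ᵁ W' := by rw [← hinv]; exact hyW
      have h'' : (pullback.snd (pullback.snd g G.t ≫ G.s) g) y ∈ W' := h'
      rw [hy₂] at h''
      exact ha h''
  refine ⟨V, ?_, show u' ∈ g ⁻¹ᵁ V by rw [hgV]; exact hu', hVinv⟩
  haveI : IsAffine W'.toScheme := hW'
  let gV : W'.toScheme ⟶ V.toScheme := (U'.isoOfEq hgV).inv ≫ (g ∣_ V)
  let sV : (G.t ⁻¹ᵁ V).toScheme ⟶ V.toScheme := (G.R.isoOfEq hVinv).inv ≫ (G.s ∣_ V)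
  haveI : IsIntegralHom (g ∣_ V) := IsZariskiLocalAtTarget.restrict ‹_› V
  haveI : IsIntegralHom (G.s ∣_ V) := IsZariskiLocalAtTarget.restrict ‹_› V
  haveI : IsIntegralHom (G.t ∣_ V) := IsZariskiLocalAtTarget.restrict ‹_› V
  let f : pullback gV (G.t ∣_ V) ⟶ V.toScheme := pullback.snd gV (G.t ∣_ V) ≫ sV
  haveI : IsAffine (pullback gV (G.t ∣_ V)) := isAffine_of_isAffineHom (pullback.fst gV (G.t ∣_ V))
  haveI : Surjective f := ⟨fun v => by
    obtain ⟨r, hr, x, hx⟩ := horb v.1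
    have hrV : r ∈ G.t ⁻¹ᵁ V := (hrel ⟨r, hr, rfl⟩).1 v.2
    have hxW : x ∈ W' := by rw [← hgV]; show g x ∈ V; rw [hx]; exact hrV
    obtain ⟨z, -, hz⟩ := Scheme.Pullback.exists_preimage_pullback (f := gV) (g := G.t ∣_ V) ⟨x, hxW⟩ ⟨r, hrV⟩ (by
      apply V.ι.isOpenEmbedding.injective
      rw [← Scheme.Hom.comp_apply, ← Scheme.Hom.comp_apply, morphismRestrict_ι, Category.assoc, morphismRestrict_ι,
        Scheme.isoOfEq_inv_ι_assoc]
      exact hx)
    refine ⟨z, V.ι.isOpenEmbedding.injective ?_⟩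
    rw [Scheme.Hom.comp_apply, hz, ← Scheme.Hom.comp_apply, Category.assoc, morphismRestrict_ι,
      Scheme.isoOfEq_inv_ι_assoc]
    exact hr⟩
  exact Groth.Agent.S0593.result _ _ f

end Groth.Agent.S7499
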