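import Groth.Statements.S7500
import Mathlib
import Groth.Agent.Grpd.DiagStab

set_option autoImplicit false
universe u
open CategoryTheory CategoryTheory.Limits AlgebraicGeometry
open Grpd

namespace Groth.Agent.S7500

set_option backward.isDefEq.respectTransparency false

/-- Let (U, R, s, t, c) be a groupoid scheme over S and G -> U its stabilizer group scheme (the base
change of j = (t, s) along the diagonal). The action of G on R by composition, base changed to G_0 =
G x_(U, pr_0) (U x_S U), makes R a pseudo G_0-torsor over U x_S U. Concretely: let α : G x_(U, t) R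
-> R x_(s, U, t) R be the morphism with components (γ viewed in R, r) and β : G x_(U, t) R -> R
x_(j, U x_S U, j) R the morphism with components (c ∘ α, r); then β is an isomorphism. (A groupoid
scheme carries U, R, s, t, c, e, i over S with the groupoid axioms on T-points; c is defined on the
fibre product of s and t and sends a pair (a, b) with s(a) = t(b) to a composed with b.) -/
theorem result (S : Scheme.{u}) (G : Grpd.GroupoidScheme S) (α : pullback G.stabilizerToU G.t ⟶ pullback G.s G.t) (hα₁ : α ≫ pullback.fst G.s G.t = pullback.fst G.stabilizerToU G.t ≫ pullback.fst G.j G.diag) (hα₂ : α ≫ pullback.snd G.s G.t = pullback.snd G.stabilizerToU G.t) (β : pullback G.stabilizerToU G.t ⟶ pullback G.j G.j) (hβ₁ : β ≫ pullback.fst G.j G.j = α ≫ G.c) (hβ₂ : β ≫ pullback.snd G.j G.j = pullback.snd G.stabilizerToU G.t) : IsIso β := by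
  let inv : pullback G.j G.j ⟶ pullback G.stabilizerToU G.t :=
    pullback.lift (GrpdLib.toStab G) (pullback.snd G.j G.j) (by
      rw [Grpd.GroupoidScheme.stabilizerToU, GrpdLib.toStab, pullback.lift_snd, GrpdLib.fst_t_eq])
  let γ : pullback G.stabilizerToU G.t ⟶ G.R := pullback.fst _ _ ≫ pullback.fst G.j G.diag
  let ρ : pullback G.stabilizerToU G.t ⟶ G.R := pullback.snd _ _
  have hc : γ ≫ G.s = ρ ≫ G.t := by
    rw [show γ = α ≫ pullback.fst G.s G.t from hα₁.symm, show ρ = α ≫ pullback.snd G.s G.t from hα₂.symm,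
      Category.assoc, Category.assoc, pullback.condition]
  have hα : α ≫ G.c = GrpdLib.gmul G γ ρ hc := by
    rw [GrpdLib.gmul_eq]; congr 1; apply pullback.hom_ext <;> simp [hα₁, hα₂, γ, ρ]
  have hst : γ ≫ G.t = γ ≫ G.s ∧ γ ≫ G.t = pullback.fst _ _ ≫ G.stabilizerToU := by
    have e1 : pullback.fst G.j G.diag ≫ G.t = pullback.snd G.j G.diag := by
      simpa [Grpd.GroupoidScheme.j, Grpd.GroupoidScheme.diag] using
        congrArg (fun f => f ≫ pullback.fst G.pU G.pU) (pullback.condition (f := G.j) (g := G.diag))
    have e2 : pullback.fst G.j G.diag ≫ G.s = pullback.snd G.j G.diag := by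
      simpa [Grpd.GroupoidScheme.j, Grpd.GroupoidScheme.diag] using
        congrArg (fun f => f ≫ pullback.snd G.pU G.pU) (pullback.condition (f := G.j) (g := G.diag))
    refine ⟨?_, ?_⟩ <;> simp only [γ, Category.assoc, e1, e2, Grpd.GroupoidScheme.stabilizerToU]
  refine ⟨inv, ?_, ?_⟩
  · apply pullback.hom_ext
    · apply pullback.hom_ext
      · simp only [inv, Category.assoc, Category.id_comp, pullback.lift_fst_assoc, GrpdLib.toStab, pullback.lift_fst]
        rw [GrpdLib.quotArrow, GrpdLib.comp_gmul, GrpdLib.gmul_congr G (hβ₁.trans hα)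
          (by rw [reassoc_of% hβ₂] : β ≫ pullback.snd G.j G.j ≫ G.i = ρ ≫ G.i)]
        exact GrpdLib.gmul_gmul_inv G γ ρ hc
      · simp only [inv, Category.assoc, Category.id_comp, pullback.lift_fst_assoc, GrpdLib.toStab, pullback.lift_snd]
        rw [reassoc_of% hβ₁, reassoc_of% hα, GrpdLib.gmul_t, hst.2]
        rfl
    · simp [inv, hβ₂]
  · have hinv : inv ≫ α ≫ G.c = pullback.fst G.j G.j := by
      rw [hα, GrpdLib.comp_gmul, GrpdLib.gmul_congr G
        (show inv ≫ γ = GrpdLib.quotArrow G by simp [inv, γ, GrpdLib.toStab])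
        (show inv ≫ ρ = pullback.snd G.j G.j by simp [inv, ρ])]
      simp only [GrpdLib.quotArrow]
      have := GrpdLib.gmul_gmul_inv G (pullback.fst G.j G.j) (pullback.snd G.j G.j ≫ G.i)
        (by rw [GrpdLib.fst_s_eq, Category.assoc, G.i_t])
      rwa [GrpdLib.gmul_congr G rfl (GrpdLib.i_comp_i G (pullback.snd G.j G.j))] at this
    apply pullback.hom_ext
    · rw [Category.assoc, hβ₁, hinv, Category.id_comp]
    · simp [inv, hβ₂]

end Groth.Agent.S7500
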