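import Groth.Statements.S7502
import Groth.Agent.S2515
import Groth.Agent.FlatFunLib.ModCond
import Groth.Agent.CohQC.Affineness
import Groth.Agent.QC.Pullback
import Groth.Agent.QC.Localisation
import Groth.Agent.QC.Coherent

set_option autoImplicit false
universe u
open CategoryTheory CategoryTheory.Limits AlgebraicGeometry
open Coh

set_option backward.isDefEq.respectTransparency false
set_option backward.isDefEq.respectTransparency.types false

namespace Groth.Agent.S7502

/-- Let f : Y -> X be a morphism of schemes which is quasi-compact, quasi-separated, flat and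
surjective, with X and Y locally Noetherian. Let F be a quasi-coherent O_X-module, G a coherent
O_Y-module and φ : G -> f^*F an injective map of O_Y-modules. Then the O_X-module F ∩ f_*G, defined
as the fibre product of the adjunction unit F -> f_*f^*F with f_*φ : f_*G -> f_*f^*F, is coherent.
('Coherent' is quasi-coherent of finite type, the usual notion on locally Noetherian schemes.) -/
theorem result {X Y : Scheme.{u}} (f : Y ⟶ X) [QuasiCompact f] [QuasiSeparated f] [Flat f] [Surjective f] [IsLocallyNoetherian X] [IsLocallyNoetherian Y] (F : X.Modules) (hF : Coh.IsQCoh F) (G : Y.Modules) (hG : Coh.IsCoh G) (φ : G ⟶ (Scheme.Modules.pullback f).obj F) [Mono φ] : Coh.IsCoh (Limits.pullback ((Scheme.Modules.pullbackPushforwardAdjunction f).unit.app F) ((Scheme.Modules.pushforward f).map φ)) := by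
  haveI := hG.1
  let u := (Scheme.Modules.pullbackPushforwardAdjunction f).unit.app F
  let ψ := (Scheme.Modules.pushforward f).map φ
  have hf : Coh.IsQCoh ((Scheme.Modules.pullback f).obj F) := Groth.Agent.QC.isQCoh_pullback f hF
  haveI := hf
  have h1 : Coh.IsQCoh ((Scheme.Modules.pushforward f).obj G) := Groth.Agent.QC.isQCoh_pushforward f
  have h2 : Coh.IsQCoh ((Scheme.Modules.pushforward f).obj ((Scheme.Modules.pullback f).obj F)) :=
    Groth.Agent.QC.isQCoh_pushforward f
  have hP : Coh.IsQCoh (Limits.pullback u ψ) :=
    Groth.Agent.QC.isQCoh_of_iso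
      ((kernelIsKernel (biprod.desc u (-ψ))).conePointUniqueUpToIso
        (Abelian.PullbackToBiproductIsKernel.isLimitPullbackToBiproduct u ψ))
      (Groth.Agent.QC.isQCoh_kernel (Groth.Agent.CohQC.isQCoh_biprod hF h1) h2 _)
  haveI : (Scheme.Modules.pushforward f).PreservesMonomorphisms :=
    Functor.preservesMonomorphisms_of_adjunction (Scheme.Modules.pullbackPushforwardAdjunction f)
  haveI : Mono ψ := inferInstance
  haveI : Mono (pullback.fst u ψ) := inferInstance
  haveI : Mono ((Scheme.Modules.pullback f).map (pullback.fst u ψ)) :=
    Groth.Agent.FlatFunLib.mono_pullback_of_flat (q := f) _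
  let a := ((Scheme.Modules.pullbackPushforwardAdjunction f).homEquiv (Limits.pullback u ψ) G).symm (pullback.snd u ψ)
  have ha : a ≫ φ = (Scheme.Modules.pullback f).map (pullback.fst u ψ) := by
    rw [← Adjunction.homEquiv_naturality_right_symm, ← pullback.condition, Equiv.symm_apply_eq,
      Adjunction.homEquiv_unit]
    exact ((Scheme.Modules.pullbackPushforwardAdjunction f).unit.naturality (pullback.fst u ψ))
  haveI : Mono (a ≫ φ) := by rw [ha]; infer_instance
  haveI : Mono a := mono_of_mono a φ
  exact Groth.Agent.S2515.result f _ hP
    (Groth.Agent.QC.isCoh_of_mono a hG (Groth.Agent.QC.isQCoh_pullback f hP))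

end Groth.Agent.S7502
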