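import Groth.Statements.S7509
import Groth.Agent.GrpdImage.Main
-- import your own Groth.Agent.* helpers here

set_option autoImplicit false
set_option backward.isDefEq.respectTransparency false
set_option backward.isDefEq.respectTransparency.types false
universe u
open CategoryTheory CategoryTheory.Limits AlgebraicGeometry
open Grpd

namespace Groth.Agent.S7509

/-- Let (U, R, s, t, c) be a groupoid scheme over S with U the spectrum of a field and R quasi-compact
(equivalently s, t quasi-compact), and let Z be the scheme-theoretic image of j = (t, s) : R -> U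
x_S U. Then (U, Z, pr_0|_Z, pr_1|_Z, pr_02) is a groupoid scheme over S; stated as: there are a
groupoid scheme G' over S and a morphism of groupoid schemes φ : (U, R, s, t, c) -> G' which is an
isomorphism on object schemes, such that j' : G'.R -> G'.U x_S G'.U is a closed immersion whose
kernel ideal sheaf equals the kernel ideal sheaf of j followed by the induced isomorphism U x_S U ->
G'.U x_S G'.U (so G'.R is the scheme-theoretic image of j, transported). (A groupoid scheme carries
U, R, s, t, c, e, i over S with the groupoid axioms on T-points; c is defined on the fibre product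
of s and t and sends a pair (a, b) with s(a) = t(b) to a composed with b.) -/
theorem result (S : Scheme.{u}) (G : Grpd.GroupoidScheme S) (k : Type u) [Field k] (eU : G.U ≅ Spec (CommRingCat.of k)) [CompactSpace G.R] : ∃ (G' : Grpd.GroupoidScheme S) (φ : Grpd.GroupoidScheme.Hom G G'), IsIso φ.fU ∧ IsClosedImmersion G'.j ∧ G'.j.ker = (G.j ≫ pullback.map G.pU G.pU G'.pU G'.pU φ.fU φ.fU (𝟙 S) ((Category.comp_id _).trans φ.fU_over.symm) ((Category.comp_id _).trans φ.fU_over.symm)).ker := by
  haveI : QuasiCompact (GrpdImage.toPair G).fR := GrpdImage.quasiCompact_j G eU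
  haveI : IsIso (GrpdImage.toPair G).fU := inferInstanceAs (IsIso (𝟙 G.U))
  obtain ⟨D, hD, hk, l, hl⟩ := GrpdImage.exists_sub (GrpdImage.toPair G) (GrpdImage.flat_to_field eU)
  haveI := D.mono
  refine ⟨D.toGrpd, { fU := 𝟙 _, fR := l, fU_over := Category.id_comp _, comm_s := ?_, comm_t := ?_, comm_c := fun α β h => ?_ }, ?_, by rw [GrpdImage.toGrpd_j]; exact hD, ?_⟩
  · exact (Category.assoc l D.incl _).symm.trans
      ((congrArg (· ≫ (GrpdImage.pair G.pU).s) hl).trans (GrpdImage.toPair G).comm_s)
  · exact (Category.assoc l D.incl _).symm.trans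
      ((congrArg (· ≫ (GrpdImage.pair G.pU).t) hl).trans (GrpdImage.toPair G).comm_t)
  · refine (cancel_mono D.incl).1 ((Category.assoc _ _ _).trans ((congrArg (_ ≫ ·) hl).trans ?_))
    refine ((GrpdImage.toPair G).comm_c α β h).trans (Eq.trans ?_ (D.lift_c₀ _ _ _).symm)
    exact GrpdImage.lift_congr _ _ _ (by rw [Category.assoc, hl]) (by rw [Category.assoc, hl])
  · exact inferInstanceAs (IsIso (𝟙 G.U))
  · rw [GrpdImage.toGrpd_j]
    refine hk.trans ?_
    congr 1
    exact ((congrArg (G.j ≫ ·) (pullback.map_id (f := G.pU) (g := G.pU))).trans (Category.comp_id _)).symm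

end Groth.Agent.S7509
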