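import Groth.Statements.S7510
import Groth.Agent.GrpdInv.Basic

set_option autoImplicit false
universe u
open CategoryTheory CategoryTheory.Limits AlgebraicGeometry
open Grpd

namespace Groth.Agent.S7510

/-- Let (U, R, s, t, c, e, i) be a groupoid scheme over S and g : U' -> U a morphism; write h = s ∘ pr_1
: U' x_(g,U,t) R -> U. Let P, Q, R be properties of morphisms of schemes, with P invariant under
composition with isomorphisms, such that (1) R implies Q, (2) Q is stable under base change and
composition, (3) every morphism f : X -> Y with Q has a largest open W(P, f) of X on which the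
restriction of f has P (given here as a function W with these two properties), and (4) for f with Q
and a base change along Y' -> Y with R, the preimage of W(P, f) in X x_Y Y' is W(P, f') for the base
change f'. If s, t have R and g has Q, then there is an open W of U' whose preimage in U' x_(g,U,t)
R equals W(P, h). (The published statement speaks of arbitrary properties of morphisms; this row
asks P to be invariant under composition with isomorphisms, which the proof uses to identify the
largest opens on the two isomorphic fibre products of h with t and with s.) (A groupoid scheme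
carries U, R, s, t, c, e, i over S with the groupoid axioms on T-points; c is defined on the fibre
product of s and t and sends a pair (a, b) with s(a) = t(b) to a composed with b.) -/
theorem result (S : Scheme.{u}) (G : Grpd.GroupoidScheme S) {U' : Scheme.{u}} (g : U' ⟶ G.U) (P Q R : MorphismProperty Scheme.{u}) [P.RespectsIso] (hRQ : R ≤ Q) [Q.IsStableUnderBaseChange] [Q.IsStableUnderComposition] (W : ∀ {X Y : Scheme.{u}} (f : X ⟶ Y), Q f → X.Opens) (hWP : ∀ {X Y : Scheme.{u}} (f : X ⟶ Y) (hf : Q f), P ((W f hf).ι ≫ f)) (hWmax : ∀ {X Y : Scheme.{u}} (f : X ⟶ Y) (hf : Q f) (V : X.Opens), P (V.ι ≫ f) → V ≤ W f hf) (hWbc : ∀ {X Y Y' : Scheme.{u}} (f : X ⟶ Y) (hf : Q f) (b : Y' ⟶ Y), R b → ∀ hf' : Q (pullback.snd f b), pullback.fst f b ⁻¹ᵁ W f hf = W (pullback.snd f b) hf') (hs : R G.s) (ht : R G.t) (hg : Q g) (hh : Q (pullback.snd g G.t ≫ G.s)) : ∃ V : U'.Opens, pullback.fst g G.t ⁻¹ᵁ V = W (pullback.snd g G.t ≫ G.s) hh := by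
  set h := pullback.snd g G.t ≫ G.s with hh_def
  set Ω := W h hh with hΩ
  let r := pullback.snd g G.t
  let σ : U' ⟶ pullback g G.t := pullback.lift (𝟙 U') (g ≫ G.e) (by simp [G.e_t])
  refine ⟨σ ⁻¹ᵁ Ω, ?_⟩
  have hQs : Q (pullback.snd h G.s) := MorphismProperty.pullback_snd h G.s hh
  have hQt : Q (pullback.snd h G.t) := MorphismProperty.pullback_snd h G.t hh
  have e1 := hWbc h hh G.t ht hQt
  have e2 := hWbc h hh G.s hs hQs
  -- the shear isomorphism over `R`
  have cT : (pullback.fst h G.t ≫ r) ≫ G.s = pullback.snd h G.t ≫ G.t := by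
    rw [Category.assoc]; exact pullback.condition
  have cS : (pullback.fst h G.s ≫ r) ≫ G.s = pullback.snd h G.s ≫ G.s := by
    rw [Category.assoc]; exact pullback.condition
  let m : pullback h G.t ⟶ pullback g G.t :=
    pullback.lift (pullback.fst h G.t ≫ pullback.fst g G.t) (Groth.Agent.GrpdLib.gmul G _ _ cT)
      (by rw [Groth.Agent.GrpdLib.gmul_t, Category.assoc, Category.assoc, pullback.condition])
  let m' : pullback h G.s ⟶ pullback g G.t :=
    pullback.lift (pullback.fst h G.s ≫ pullback.fst g G.t)
      (Groth.Agent.GrpdLib.gmul G (pullback.fst h G.s ≫ r) (pullback.snd h G.s ≫ G.i)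
        (by rw [cS, Category.assoc, G.i_t]))
      (by rw [Groth.Agent.GrpdLib.gmul_t, Category.assoc, Category.assoc, pullback.condition])
  have hm : m ≫ h = pullback.snd h G.t ≫ G.s := by
    show pullback.lift _ _ _ ≫ (pullback.snd g G.t ≫ G.s) = _
    rw [pullback.lift_snd_assoc, Groth.Agent.GrpdLib.gmul_s]
  have hm' : m' ≫ h = pullback.snd h G.s ≫ G.t := by
    show pullback.lift _ _ _ ≫ (pullback.snd g G.t ≫ G.s) = _
    rw [pullback.lift_snd_assoc, Groth.Agent.GrpdLib.gmul_s, Category.assoc, G.i_s]
  let φ : pullback h G.t ≅ pullback h G.s :=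
    { hom := pullback.lift m (pullback.snd h G.t) hm
      inv := pullback.lift m' (pullback.snd h G.s) hm'
      hom_inv_id := by
        apply pullback.hom_ext
        · rw [Category.assoc, pullback.lift_fst, Category.id_comp]
          apply pullback.hom_ext
          · simp only [m', m, Category.assoc, pullback.lift_fst, pullback.lift_fst_assoc]
          · simp only [m', m, Category.assoc, pullback.lift_snd, pullback.lift_fst_assoc,
              Groth.Agent.GrpdLib.comp_gmul, pullback.lift_snd_assoc, r]
            exact Groth.Agent.GrpdLib.gmul_gmul_inv G _ _ cT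
        · rw [Category.assoc, pullback.lift_snd, pullback.lift_snd, Category.id_comp]
      inv_hom_id := by
        apply pullback.hom_ext
        · rw [Category.assoc, pullback.lift_fst, Category.id_comp]
          apply pullback.hom_ext
          · simp only [m', m, Category.assoc, pullback.lift_fst, pullback.lift_fst_assoc]
          · simp only [m', m, Category.assoc, pullback.lift_snd, pullback.lift_fst_assoc,
              Groth.Agent.GrpdLib.comp_gmul, r]
            exact Groth.Agent.GrpdInv.div_mul G _ _ cS
        · rw [Category.assoc, pullback.lift_snd, pullback.lift_snd, Category.id_comp] }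
  have hφ₂ : φ.hom ≫ pullback.snd h G.s = pullback.snd h G.t := pullback.lift_snd _ _ _
  -- largest opens are transported by isomorphisms
  have key : ∀ {A B : Scheme.{u}} (a : A ⟶ G.R) (b : B ⟶ G.R) (ψ : A ≅ B) (ha : Q a) (hb : Q b),
      ψ.hom ≫ b = a → ψ.hom ⁻¹ᵁ W b hb ≤ W a ha := by
    intro A B a b ψ ha hb hab
    refine hWmax a ha _ ?_
    rw [← hab, ← morphismRestrict_ι_assoc]
    exact (P.cancel_left_of_respectsIso _ _).mpr (hWP b hb)
  have eeq : m ⁻¹ᵁ Ω = pullback.fst h G.t ⁻¹ᵁ Ω := by
    rw [e1]
    have e2' : pullback.fst h G.s ⁻¹ᵁ Ω = W (pullback.snd h G.s) hQs := e2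
    have hmm : m = φ.hom ≫ pullback.fst h G.s := (pullback.lift_fst _ _ _).symm
    rw [hmm, Scheme.Hom.comp_preimage, e2']
    refine le_antisymm (key _ _ φ hQt hQs hφ₂) fun x hx => ?_
    have h3 := key (pullback.snd h G.s) (pullback.snd h G.t) φ.symm hQs hQt (pullback.lift_snd _ _ _)
    refine h3 (show φ.inv (φ.hom x) ∈ W (pullback.snd h G.t) hQt from ?_)
    rwa [← Scheme.Hom.comp_apply, φ.hom_inv_id]
  have hsec : pullback.fst g G.t ≫ σ =
      pullback.lift (𝟙 _) (r ≫ G.i) (by rw [Category.id_comp, Category.assoc, G.i_t]) ≫ m := by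
    apply pullback.hom_ext
    · simp only [σ, m, Category.assoc]
      rw [pullback.lift_fst, pullback.lift_fst, pullback.lift_fst_assoc, Category.comp_id, Category.id_comp]
    · simp only [σ, m, Category.assoc, pullback.lift_snd, Groth.Agent.GrpdLib.comp_gmul,
        pullback.lift_fst_assoc, Category.id_comp]
      rw [Groth.Agent.GrpdLib.gmul_eq, G.comp_i r, reassoc_of% (pullback.condition (f := g) (g := G.t))]
  rw [← Scheme.Hom.comp_preimage, hsec, Scheme.Hom.comp_preimage, eeq, ← Scheme.Hom.comp_preimage,
    pullback.lift_fst, Scheme.Hom.id_preimage]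

end Groth.Agent.S7510
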