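import Groth.Statements.S7522
import Mathlib

set_option autoImplicit false
universe u
open CategoryTheory CategoryTheory.Limits AlgebraicGeometry
open Grpd

namespace Groth.Agent.S7522

/-- Let S be a scheme, U a scheme over S and j : R -> U x_S U a pre-equivalence relation, that is a
morphism such that for every scheme T the image of the T-points of R in pairs of T-points of U is an
equivalence relation; write t = pr_0 ∘ j and s = pr_1 ∘ j. Then the relation on the points of U in
which x ∼ y when some point r of R has t(r) = x and s(r) = y is an equivalence relation. -/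
theorem result {S U R : Scheme.{u}} (pU : U ⟶ S) (j : R ⟶ pullback pU pU) (hj : ∀ T : Scheme.{u}, Equivalence (fun a b : T ⟶ U => ∃ r : T ⟶ R, r ≫ j ≫ pullback.fst pU pU = a ∧ r ≫ j ≫ pullback.snd pU pU = b)) : Equivalence (fun x y : ↥U => ∃ r : R, (j ≫ pullback.fst pU pU) r = x ∧ (j ≫ pullback.snd pU pU) r = y) := by
  refine ⟨fun x => ?_, fun {x y} h => ?_, fun {x y z} h1 h2 => ?_⟩
  · obtain ⟨r, hr1, hr2⟩ := (hj U).refl (𝟙 U)
    exact ⟨r x, congr($hr1 x), congr($hr2 x)⟩
  · obtain ⟨r, hrx, hry⟩ := h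
    obtain ⟨g, hg1, hg2⟩ := (hj R).symm (x := j ≫ pullback.fst pU pU) (y := j ≫ pullback.snd pU pU)
      ⟨𝟙 R, Category.id_comp _, Category.id_comp _⟩
    exact ⟨g r, (congr($hg1 r)).trans hry, (congr($hg2 r)).trans hrx⟩
  · obtain ⟨r, hrx, hry⟩ := h1
    obtain ⟨r', hry', hrz⟩ := h2
    obtain ⟨w, hw1, hw2⟩ := Scheme.Pullback.exists_preimage_pullback (f := j ≫ pullback.snd pU pU)
      (g := j ≫ pullback.fst pU pU) r r' (hry.trans hry'.symm)
    let P := pullback (j ≫ pullback.snd pU pU) (j ≫ pullback.fst pU pU)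
    let p₁ : P ⟶ R := pullback.fst _ _
    let p₂ : P ⟶ R := pullback.snd _ _
    obtain ⟨g, hg1, hg2⟩ := (hj P).trans (x := p₁ ≫ j ≫ pullback.fst pU pU)
      (y := p₁ ≫ j ≫ pullback.snd pU pU) (z := p₂ ≫ j ≫ pullback.snd pU pU)
      ⟨p₁, rfl, rfl⟩ ⟨p₂, pullback.condition.symm, rfl⟩
    refine ⟨g w, (congr($hg1 w)).trans ?_, (congr($hg2 w)).trans ?_⟩
    · rw [← hrx, ← hw1]; rfl
    · rw [← hrz, ← hw2]; rfl

end Groth.Agent.S7522
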