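import Groth.Statements.S7527
import Groth.Agent.SpecSpLib.Basic

set_option autoImplicit false
universe u
open SpecSp

namespace Groth.Agent.S7527

/-- Let X be a spectral space and x, y ∈ X. Then either there is a third point specializing to both x
and y, or there are disjoint open neighbourhoods of x and of y. -/
theorem result {X : Type u} [TopologicalSpace X] [SpectralSpace X] (x y : X) :
    (∃ z : X, z ⤳ x ∧ z ⤳ y) ∨
    (∃ U V : Set X, IsOpen U ∧ IsOpen V ∧ x ∈ U ∧ y ∈ V ∧ Disjoint U V) := by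
  classical
  by_cases hd : ∃ U V : Set X, IsOpen U ∧ IsOpen V ∧ x ∈ U ∧ y ∈ V ∧ Disjoint U V
  · exact Or.inr hd
  refine Or.inl ?_
  let ι := {U : Set X // (IsOpen U ∧ IsCompact U) ∧ (x ∈ U ∨ y ∈ U)}
  have hfip : ∀ u : Finset ι, ((Set.univ : Set X) ∩ ⋂ U ∈ u, (U.1 : Set X)).Nonempty := by
    intro u
    let P : Set X := ⋂ U ∈ (↑u : Set ι) ∩ {U | x ∈ U.1}, U.1
    let Q : Set X := ⋂ U ∈ (↑u : Set ι) ∩ {U | x ∉ U.1}, U.1
    have hP : IsOpen P := (u.finite_toSet.inter_of_left _).isOpen_biInter fun U _ => U.2.1.1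
    have hQ : IsOpen Q := (u.finite_toSet.inter_of_left _).isOpen_biInter fun U _ => U.2.1.1
    have hxP : x ∈ P := Set.mem_iInter₂.2 fun U hU => hU.2
    have hyQ : y ∈ Q := Set.mem_iInter₂.2 fun U hU => U.2.2.resolve_left hU.2
    obtain ⟨w, hwP, hwQ⟩ := Set.not_disjoint_iff.1 fun h => hd ⟨P, Q, hP, hQ, hxP, hyQ, h⟩
    refine ⟨w, trivial, Set.mem_iInter₂.2 fun U hU => ?_⟩
    by_cases hxU : x ∈ U.1
    · exact Set.mem_iInter₂.1 hwP U ⟨hU, hxU⟩
    · exact Set.mem_iInter₂.1 hwQ U ⟨hU, hxU⟩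
  have hz := SpecSpLib.exists_forall_mem (X := X) (ι := ι) (fun U => U.1) (E := Set.univ)
    (by rw [Set.compl_univ]; exact @isOpen_empty X (constructibleTopology X))
    (fun U => (SpecSpLib.isClopen_of_isCompact U.2.1.1 U.2.1.2).2) hfip
  obtain ⟨z, -, hz⟩ := hz
  refine ⟨z, specializes_iff_forall_open.2 fun s hs hxs => ?_, specializes_iff_forall_open.2 fun s hs hxs => ?_⟩
  · obtain ⟨U, hU, hxU, hUs⟩ := PrespectralSpace.isTopologicalBasis.exists_subset_of_mem_open hxs hs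
    exact hUs (Set.mem_iInter.1 hz ⟨U, hU, Or.inl hxU⟩)
  · obtain ⟨U, hU, hxU, hUs⟩ := PrespectralSpace.isTopologicalBasis.exists_subset_of_mem_open hxs hs
    exact hUs (Set.mem_iInter.1 hz ⟨U, hU, Or.inr hxU⟩)

end Groth.Agent.S7527
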