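import Groth.Statements.S7528
import Groth.Agent.SpecSpLib.Basic

set_option autoImplicit false
universe u
open SpecSp

namespace Groth.Agent.S7528

/-- For a spectral space X the following are equivalent: (1) X is profinite, i.e. quasi-compact,
Hausdorff and totally disconnected (quasi-compactness being automatic); (2) X is Hausdorff; (3) X is
totally disconnected; (4) every quasi-compact open subset is closed; (5) there are no nontrivial
specializations between points; (6) every point is closed; (7) every point is the generic point of
an irreducible component; (8) the constructible topology coincides with the topology of X. -/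
theorem result (X : Type u) [tX : TopologicalSpace X] [SpectralSpace X] :
    List.TFAE [
      T2Space X ∧ TotallyDisconnectedSpace X,
      T2Space X,
      TotallyDisconnectedSpace X,
      ∀ U : Set X, IsOpen U → IsCompact U → IsClosed U,
      ∀ x y : X, x ⤳ y → x = y,
      ∀ x : X, IsClosed ({x} : Set X),
      ∀ x : X, closure ({x} : Set X) ∈ irreducibleComponents X,
      constructibleTopology X = tX] := by
  tfae_have 1 → 2 := fun h => h.1
  tfae_have 2 → 4 := fun h U _ hc => hc.isClosed
  tfae_have 4 → 8 := fun h => by
    refine le_antisymm (fun s hs => ConsTop.isOpen_cons_of_isOpen hs) ?_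
    refine TopologicalSpace.le_generateFrom_iff_subset_isOpen.2 fun s hs => ?_
    rcases hs with ⟨hso, -⟩ | ⟨hsc, hsc'⟩
    · exact hso
    · simpa using (h sᶜ hsc.isOpen_compl hsc').isOpen_compl
  tfae_have 8 → 1 := fun h => by
    haveI h2 : T2Space X := h ▸ (ConsTop.t2Space_cons (X := X))
    have h3 : TotallySeparatedSpace X := h ▸ (ConsTop.totallySeparatedSpace_cons (X := X))
    exact ⟨h2, @TotallySeparatedSpace.totallyDisconnectedSpace X _ h3⟩
  tfae_have 1 → 3 := fun h => h.2
  tfae_have 3 → 6 := fun h x => by
    have : closure ({x} : Set X) = {x} :=
      (h.isTotallyDisconnected_univ _ (Set.subset_univ _) isPreconnected_singleton.closure).eq_singleton_of_mem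
        (subset_closure rfl)
    exact closure_eq_iff_isClosed.1 this
  tfae_have 6 → 5 := fun h x y hxy => ((h x).stableUnderSpecialization hxy rfl).symm
  tfae_have 5 → 7 := fun h x => by
    refine ⟨isIrreducible_singleton.closure, fun C hC hle => ?_⟩
    haveI : QuasiSober X := inferInstance
    obtain ⟨g, hg⟩ := QuasiSober.sober hC.closure isClosed_closure
    have hgx : g = x := h g x (hg.specializes (subset_closure (hle (subset_closure rfl))))
    exact fun c hc => hgx ▸ hg.symm ▸ subset_closure hc
  tfae_have 7 → 5 := fun h x y hxy => by
    refine (hxy.antisymm ?_).eq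
    have h2 := (h y).2 isIrreducible_singleton.closure
      (closure_minimal (Set.singleton_subset_iff.2 hxy.mem_closure) isClosed_closure)
    exact specializes_iff_mem_closure.2 (h2 (subset_closure rfl))
  tfae_have 5 → 4 := fun h U hU hc => by
    refine SpecSpLib.isClosed_of_stable (SpecSpLib.isClopen_of_isCompact hU hc).2 fun a b hab ha => ?_
    rwa [← h a b hab]
  tfae_finish

end Groth.Agent.S7528
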