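import Groth.Statements.S7530
import Groth.Agent.SpecSpLib.Basic

set_option autoImplicit false
universe u
open SpecSp

namespace Groth.Agent.S7530

/-- Let f : X → Y be a map of spectral spaces which is spectral and bijective, and assume that
generalizations lift along f or that specializations lift along f. Then f is a homeomorphism. -/
theorem result {X Y : Type u} [TopologicalSpace X] [TopologicalSpace Y]
    [SpectralSpace X] [SpectralSpace Y] (f : X → Y) (hf : IsSpectralMap f) (hb : Function.Bijective f)
    (hlift : GeneralizingMap f ∨ SpecializingMap f) :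
    IsHomeomorph f := by
  have hc := SpecSpLib.continuous_cons_of_isSpectralMap hf
  have him : ∀ E : Set X, @IsOpen X (constructibleTopology X) Eᶜ → @IsOpen Y (constructibleTopology Y) (f '' E)ᶜ :=
    fun E => SpecSpLib.isClosed_image_cons hc
  rcases hlift with hg | hs
  · refine ⟨hf.continuous, ?_, hb⟩
    refine PrespectralSpace.isTopologicalBasis.isOpenMap_iff.2 fun U hU => ?_
    refine SpecSpLib.isOpen_of_stable ?_ (hg.stableUnderGeneralization_image hU.1.stableUnderGeneralization)
    have h1 := him Uᶜ (by rw [compl_compl]; exact (SpecSpLib.isClopen_of_isCompact hU.1 hU.2).1)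
    rwa [Set.image_compl_eq hb, compl_compl] at h1
  · refine ⟨hf.continuous, fun V hV => ?_, hb⟩
    suffices h : IsClosed (f '' Vᶜ) by
      rw [Set.image_compl_eq hb] at h; exact isClosed_compl_iff.1 h
    have hC := hV.isClosed_compl
    exact SpecSpLib.isClosed_of_stable (him Vᶜ (ConsTop.isOpen_cons_of_isOpen hC.isOpen_compl))
      (hs.stableUnderSpecialization_image hC.stableUnderSpecialization)

end Groth.Agent.S7530
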