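import Groth.Statements.S7531
import Groth.Agent.SpecSpLib.Limit

set_option autoImplicit false
universe u
open CategoryTheory CategoryTheory.Limits
open SpecSp

namespace Groth.Agent.S7531

/-- Let J be a nonempty directed preordered set and let (X_j) be an inverse system of finite sober
topological spaces indexed by J (a functor from the opposite of J to topological spaces). Then any
limit of this system in the category of topological spaces is a spectral space. -/
theorem result {J : Type u} [Preorder J] [Nonempty J] [IsDirected J (· ≤ ·)]
    (F : Jᵒᵖ ⥤ TopCat.{u})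
    (hF : ∀ j : Jᵒᵖ, Finite (F.obj j) ∧ T0Space (F.obj j) ∧ QuasiSober (F.obj j))
    (c : Cone F) (hc : IsLimit c) :
    SpectralSpace c.pt := by
  haveI : ∀ j : Jᵒᵖ, SpectralSpace (F.obj j) := fun j => by
    haveI := (hF j).1; haveI := (hF j).2.1; exact SpecSpLib.finite_spectral
  refine (SpecSpLib.limit_spectral (J := Jᵒᵖ) this (fun {i j} a => ⟨(F.map a).hom.continuous, ?_⟩) hc).1
  intro U _ _
  haveI := (hF i).1
  exact Set.toFinite _ |>.isCompact

end Groth.Agent.S7531
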