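import Groth.Statements.S7532
import Groth.Agent.SpecSpLib.Limit

set_option autoImplicit false
universe u
open SpecSp

namespace Groth.Agent.S7532

/-- Let W be the two-point space with one closed and one non-closed point (here the Sierpiński topology
on Prop). A topological space X is spectral exactly when, for some index type I, X admits a
topological embedding into the power W^I whose image is a closed set for the constructible topology
on W^I. -/
theorem result (X : Type u) [TopologicalSpace X] :
    SpectralSpace X ↔ ∃ (I : Type u) (f : X → (I → Prop)),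
      Topology.IsEmbedding f ∧ @IsClosed (I → Prop) (constructibleTopology (I → Prop)) (Set.range f) := by
  constructor
  · intro hX
    refine ⟨{U : Set X // IsOpen U ∧ IsCompact U}, fun x U => x ∈ U.1, ?_, ?_⟩
    · have hind : Topology.IsInducing (fun (x : X) (U : {U : Set X // IsOpen U ∧ IsCompact U}) => x ∈ U.1) := by
        refine ⟨le_antisymm (continuous_iff_le_induced.1 (continuous_pi fun U => continuous_Prop.2 U.2.1)) ?_⟩
        intro s hs
        refine (@isOpen_iff_forall_mem_open X (TopologicalSpace.induced _ _) s).2 fun x hx => ?_
        obtain ⟨U, hU, hxU, hUs⟩ := PrespectralSpace.isTopologicalBasis.exists_subset_of_mem_open hx hs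
        exact ⟨U, hUs, ⟨{g | g ⟨U, hU⟩}, continuous_Prop.1 (continuous_apply _), rfl⟩, hxU⟩
      exact hind.isEmbedding
    · haveI : SpectralSpace Prop := SpecSpLib.finite_spectral
      haveI := (SpecSpLib.pi_spectral (fun _ : {U : Set X // IsOpen U ∧ IsCompact U} => Prop)).1
      have hc : @Continuous X ({U : Set X // IsOpen U ∧ IsCompact U} → Prop) (constructibleTopology X)
          (constructibleTopology _) (fun x U => x ∈ U.1) := by
        rw [(SpecSpLib.pi_spectral (fun _ : {U : Set X // IsOpen U ∧ IsCompact U} => Prop)).2]
        refine continuous_iInf_rng.2 fun U => continuous_induced_rng.2 ?_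
        refine continuous_generateFrom_iff.2 fun W _ => ?_
        have hU' := SpecSpLib.isClopen_of_isCompact U.2.1 U.2.2
        change @IsOpen X (constructibleTopology X) ((fun x : X => x ∈ U.1) ⁻¹' W)
        by_cases hT : True ∈ W <;> by_cases hFa : False ∈ W
        · have : (fun x : X => x ∈ U.1) ⁻¹' W = Set.univ := Set.eq_univ_of_forall fun x => by
            by_cases hx : x ∈ U.1 <;> simp [hx, hT, hFa]
          rw [this]; exact @isOpen_univ X (constructibleTopology X)
        · have : (fun x : X => x ∈ U.1) ⁻¹' W = U.1 := Set.ext fun x => by
            by_cases hx : x ∈ U.1 <;> simp [hx, hT, hFa]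
          rw [this]; exact hU'.1
        · have : (fun x : X => x ∈ U.1) ⁻¹' W = U.1ᶜ := Set.ext fun x => by
            by_cases hx : x ∈ U.1 <;> simp [hx, hT, hFa]
          rw [this]; exact hU'.2
        · have : (fun x : X => x ∈ U.1) ⁻¹' W = ∅ := Set.eq_empty_of_forall_notMem fun x => by
            by_cases hx : x ∈ U.1 <;> simp [hx, hT, hFa]
          rw [this]; exact @isOpen_empty X (constructibleTopology X)
      have h2 := SpecSpLib.isClosed_image_cons hc (E := Set.univ) (by simp [@isOpen_empty X (constructibleTopology X)])
      rw [Set.image_univ] at h2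
      exact @IsClosed.mk _ (constructibleTopology _) _ h2
  · rintro ⟨I, f, hf, hcl⟩
    haveI : SpectralSpace Prop := SpecSpLib.finite_spectral
    haveI := (SpecSpLib.pi_spectral (fun _ : I => Prop)).1
    haveI := (SpecSpLib.subset_spectral (@IsClosed.isOpen_compl _ (constructibleTopology _) _ hcl)).1
    haveI : CompactSpace X := hf.toHomeomorph.symm.compactSpace
    exact (hf.toHomeomorph.isOpenEmbedding).spectralSpace

end Groth.Agent.S7532
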