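import Groth.Statements.S7535
import Groth.Agent.SpecSpLib.Limit

set_option autoImplicit false
universe u
open CategoryTheory CategoryTheory.Limits
open SpecSp

namespace Groth.Agent.S7535

/-- Let j ↦ X_j be a cofiltered diagram of spectral spaces with spectral transition maps f_a, X its
limit with projections p_j, i an object, and E, F ⊆ X_i subsets, E constructibly closed and F
constructibly open in X_i. The inclusion p_i⁻¹(E) ⊆ p_i⁻¹(F) holds exactly when some morphism a : j
→ i already gives f_a⁻¹(E) ⊆ f_a⁻¹(F). -/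
theorem result {J : Type u} [SmallCategory J] [IsCofiltered J] (F : J ⥤ TopCat.{u})
    (hF : ∀ j, SpectralSpace (F.obj j))
    (hFm : ∀ {i j : J} (a : i ⟶ j), IsSpectralMap (F.map a : F.obj i → F.obj j))
    (c : Cone F) (hc : IsLimit c)
    (i : J) (E F' : Set (F.obj i)) (hE : @IsClosed (F.obj i) (constructibleTopology (F.obj i)) E)
    (hF' : @IsOpen (F.obj i) (constructibleTopology (F.obj i)) F') :
    (c.π.app i ⁻¹' E ⊆ c.π.app i ⁻¹' F') ↔ ∃ (j : J) (a : j ⟶ i), F.map a ⁻¹' E ⊆ F.map a ⁻¹' F' := by
  constructor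
  · intro h
    obtain ⟨j, a, ha⟩ := SpecSpLib.exists_preimage_empty hF hFm hc (i := i) (Z := E ∩ F'ᶜ)
      (by rw [Set.compl_inter, compl_compl]
          exact @IsOpen.union _ _ _ (constructibleTopology _) (@IsClosed.isOpen_compl _ (constructibleTopology _) _ hE) hF')
      (Set.eq_empty_of_forall_notMem fun x hx => hx.2 (h hx.1))
    refine ⟨j, a, fun z hz => by_contra fun hn => ?_⟩
    exact Set.eq_empty_iff_forall_notMem.1 ha z ⟨hz, hn⟩
  · rintro ⟨j, a, ha⟩ x hx
    have hw : c.π.app i x = F.map a (c.π.app j x) := by rw [← ConcreteCategory.comp_apply, c.w]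
    simp only [Set.mem_preimage] at hx ⊢
    rw [hw] at hx ⊢
    exact ha hx

end Groth.Agent.S7535
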