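import Groth.Statements.S7536
import Groth.Agent.SpecSpLib.Stage

set_option autoImplicit false
universe u
open CategoryTheory CategoryTheory.Limits
open SpecSp

namespace Groth.Agent.S7536

/-- Let j ↦ X_j be a cofiltered diagram of spectral spaces with spectral transition maps and X its limit
with projections p_j. For every constructible E ⊆ X there are an object i and a constructible E_i ⊆
X_i with p_i⁻¹(E_i) = E; if E is open, resp. closed, then E_i may be chosen open, resp. closed. -/
theorem result {J : Type u} [SmallCategory J] [IsCofiltered J] (F : J ⥤ TopCat.{u})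
    (hF : ∀ j, SpectralSpace (F.obj j))
    (hFm : ∀ {i j : J} (a : i ⟶ j), IsSpectralMap (F.map a : F.obj i → F.obj j))
    (c : Cone F) (hc : IsLimit c)
    (E : Set c.pt) (hE : Topology.IsConstructible E) :
    (∃ (i : J) (Ei : Set (F.obj i)), Topology.IsConstructible Ei ∧ c.π.app i ⁻¹' Ei = E) ∧
    (IsOpen E → ∃ (i : J) (Ei : Set (F.obj i)), Topology.IsConstructible Ei ∧ IsOpen Ei ∧ c.π.app i ⁻¹' Ei = E) ∧
    (IsClosed E → ∃ (i : J) (Ei : Set (F.obj i)), Topology.IsConstructible Ei ∧ IsClosed Ei ∧ c.π.app i ⁻¹' Ei = E) := by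
  have hs := (SpecSpLib.limit_spectral hF hFm hc).1
  haveI := hs
  haveI := hF
  have hEc := ConsTop.isClopen_of_isConstructible hE
  refine ⟨?_, fun ho => ?_, fun hcl => ?_⟩
  · obtain ⟨i, U, hU, he⟩ := SpecSpLib.exists_stage_clopen hF hFm hc hEc.1 hEc.2
    exact ⟨i, U, SpecSpLib.isConstructible_of_clopen hU.1 hU.2, he⟩
  · obtain ⟨i, U, ⟨hU, hUc⟩, he⟩ := SpecSpLib.exists_stage_compactOpen hF hFm hc ho hEc.2
    exact ⟨i, U, hUc.isConstructible hU, hU, he⟩
  · obtain ⟨i, U, ⟨hU, hUc⟩, he⟩ := SpecSpLib.exists_stage_compactOpen hF hFm hc hcl.isOpen_compl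
      (by rw [compl_compl]; exact hEc.1)
    exact ⟨i, Uᶜ, (hUc.isConstructible hU).compl, hU.isClosed_compl, by rw [Set.preimage_compl, he, compl_compl]⟩

end Groth.Agent.S7536
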