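import Groth.Statements.S7538
import Groth.Agent.SpecSpLib.Stage

set_option autoImplicit false
universe u
open CategoryTheory CategoryTheory.Limits
open SpecSp

namespace Groth.Agent.S7538

/-- Let j ↦ X_j be a cofiltered diagram of spectral spaces with spectral transition maps f_a and X its
limit with projections p_j. (1) Any quasi-compact open U ⊆ X is p_i⁻¹(U_i) for some i and some
quasi-compact open U_i ⊆ X_i. (2) If U_i ⊆ X_i and U_j ⊆ X_j are quasi-compact opens with p_i⁻¹(U_i)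
⊆ p_j⁻¹(U_j), there are k and a : k → i, b : k → j with f_a⁻¹(U_i) ⊆ f_b⁻¹(U_j). (3) If U_i and
finitely many U_{l,i} are quasi-compact opens of X_i with p_i⁻¹(U_i) = ⋃_l p_i⁻¹(U_{l,i}), then
f_a⁻¹(U_i) = ⋃_l f_a⁻¹(U_{l,i}) for some a : j → i. (4) The same with intersections. -/
theorem result {J : Type u} [SmallCategory J] [IsCofiltered J] (F : J ⥤ TopCat.{u})
    (hF : ∀ j, SpectralSpace (F.obj j))
    (hFm : ∀ {i j : J} (a : i ⟶ j), IsSpectralMap (F.map a : F.obj i → F.obj j))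
    (c : Cone F) (hc : IsLimit c) :
    (∀ U : Set c.pt, IsOpen U → IsCompact U →
      ∃ (i : J) (Ui : Set (F.obj i)), IsOpen Ui ∧ IsCompact Ui ∧ c.π.app i ⁻¹' Ui = U) ∧
    (∀ (i j : J) (Ui : Set (F.obj i)) (Uj : Set (F.obj j)),
      IsOpen Ui → IsCompact Ui → IsOpen Uj → IsCompact Uj →
      c.π.app i ⁻¹' Ui ⊆ c.π.app j ⁻¹' Uj →
      ∃ (k : J) (a : k ⟶ i) (b : k ⟶ j), F.map a ⁻¹' Ui ⊆ F.map b ⁻¹' Uj) ∧
    (∀ (i : J) (n : ℕ) (Ui : Set (F.obj i)) (V : Fin n → Set (F.obj i)),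
      IsOpen Ui → IsCompact Ui → (∀ l, IsOpen (V l) ∧ IsCompact (V l)) →
      (c.π.app i ⁻¹' Ui = ⋃ l, c.π.app i ⁻¹' V l →
        ∃ (j : J) (a : j ⟶ i), F.map a ⁻¹' Ui = ⋃ l, F.map a ⁻¹' V l) ∧
      (c.π.app i ⁻¹' Ui = ⋂ l, c.π.app i ⁻¹' V l →
        ∃ (j : J) (a : j ⟶ i), F.map a ⁻¹' Ui = ⋂ l, F.map a ⁻¹' V l)) := by
  haveI := hF
  haveI := (SpecSpLib.limit_spectral hF hFm hc).1
  refine ⟨fun U hU hUc => ?_, fun i j Ui Uj hUi hUi' hUj hUj' h => ?_,
    fun i n Ui V hUi hUi' hV => ⟨fun h => ?_, fun h => ?_⟩⟩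
  · obtain ⟨i, W, ⟨hW, hWc⟩, he⟩ := SpecSpLib.exists_stage_compactOpen hF hFm hc hU
      (SpecSpLib.isClopen_of_isCompact hU hUc).2
    exact ⟨i, W, hW, hWc, he⟩
  · let a := IsCofiltered.minToLeft i j
    let b := IsCofiltered.minToRight i j
    obtain ⟨k, g, hg⟩ := SpecSpLib.exists_stage_eq hF hFm hc
      (SpecSpLib.isClopen_of_isCompact (hUi.preimage (F.map a).hom.continuous)
        ((hFm a).isCompact_preimage_of_isOpen hUi hUi'))
      (SpecSpLib.isClopen_of_isCompact (hUj.preimage (F.map b).hom.continuous)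
        ((hFm b).isCompact_preimage_of_isOpen hUj hUj'))
      (by rw [SpecSpLib.preimage_map, SpecSpLib.preimage_map]; exact h)
    refine ⟨k, g ≫ a, g ≫ b, fun z hz => ?_⟩
    simp only [Set.mem_preimage, F.map_comp, ConcreteCategory.comp_apply] at hz ⊢
    exact hg hz
  · obtain ⟨j, a, ha⟩ := SpecSpLib.exists_stage_eq' hF hFm hc (SpecSpLib.isClopen_of_isCompact hUi hUi')
      (B := ⋃ l, V l) (SpecSpLib.isClopen_of_isCompact (isOpen_iUnion fun l => (hV l).1)
        (isCompact_iUnion fun l => (hV l).2)) (by rw [Set.preimage_iUnion]; exact h)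
    exact ⟨j, a, by rw [ha, Set.preimage_iUnion]⟩
  · obtain ⟨j, a, ha⟩ := SpecSpLib.exists_stage_eq' hF hFm hc (SpecSpLib.isClopen_of_isCompact hUi hUi')
      (B := ⋂ l, V l) ⟨@isOpen_iInter_of_finite _ _ (constructibleTopology _) _ _
          (fun l => (SpecSpLib.isClopen_of_isCompact (hV l).1 (hV l).2).1), by
        rw [Set.compl_iInter]
        exact @isOpen_iUnion _ _ (constructibleTopology _) _
          (fun l => (SpecSpLib.isClopen_of_isCompact (hV l).1 (hV l).2).2)⟩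
      (by rw [Set.preimage_iInter]; exact h)
    exact ⟨j, a, by rw [ha, Set.preimage_iInter]⟩

end Groth.Agent.S7538
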