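import Groth.Statements.S7539
import Groth.Agent.SpecSpLib.Basic

set_option autoImplicit false
universe u
open SpecSp

namespace Groth.Agent.S7539

/-- For a subset W of a spectral space X, these five conditions coincide: (1) W can be written as an
intersection of constructible subsets and is stable under generalization; (2) W is quasi-compact and
stable under generalization; (3) for some quasi-compact E ⊆ X, W consists exactly of the points that
specialize to a point of E; (4) W is the intersection of some family of quasi-compact opens; (5)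
there are a nonempty index set I and quasi-compact opens U_i with W = ⋂ U_i such that for all i, j
some U_k is contained in U_i ∩ U_j. -/
theorem result {X : Type u} [TopologicalSpace X] [SpectralSpace X] (W : Set X) :
    List.TFAE [
      (∃ S : Set (Set X), (∀ s ∈ S, Topology.IsConstructible s) ∧ W = ⋂₀ S) ∧ StableUnderGeneralization W,
      IsCompact W ∧ StableUnderGeneralization W,
      ∃ E : Set X, IsCompact E ∧ W = {x | ∃ e ∈ E, x ⤳ e},
      ∃ S : Set (Set X), (∀ s ∈ S, IsOpen s ∧ IsCompact s) ∧ W = ⋂₀ S,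
      ∃ (I : Type u) (_ : Nonempty I) (U : I → Set X), (∀ i, IsOpen (U i) ∧ IsCompact (U i)) ∧
        W = ⋂ i, U i ∧ ∀ i j, ∃ k, U k ⊆ U i ∩ U j] := by
  tfae_have 1 → 2 := fun ⟨⟨S, hS, he⟩, hg⟩ => by
    refine ⟨SpecSpLib.isCompact_of_isClosed_cons ?_, hg⟩
    rw [he, Set.compl_sInter]
    exact @isOpen_sUnion X (constructibleTopology X) _ fun s ⟨T, hT, hs⟩ =>
      hs ▸ (ConsTop.isClopen_of_isConstructible (hS T hT)).2
  tfae_have 2 → 3 := fun ⟨hc, hg⟩ =>
    ⟨W, hc, Set.ext fun x => ⟨fun hx => ⟨x, hx, specializes_rfl⟩, fun ⟨e, he, hxe⟩ => hg hxe he⟩⟩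
  tfae_have 3 → 4 := fun ⟨E, hE, he⟩ =>
    ⟨_, fun s hs => ⟨hs.1, hs.2.1⟩, he.trans (SpecSpLib.generalizations_eq_sInter hE)⟩
  tfae_have 4 → 5 := fun ⟨S, hS, he⟩ => by
    classical
    refine ⟨Finset S, ⟨∅⟩, fun u => ⋂ s ∈ u, s.1, fun u => ?_, ?_, fun u v => ⟨u ∪ v, ?_⟩⟩
    · induction u using Finset.induction_on with
      | empty => simp [isCompact_univ]
      | insert a u _ ih =>
        dsimp only
        rw [Finset.set_biInter_insert]
        exact ⟨(hS a a.2).1.inter ih.1,
          QuasiSeparatedSpace.inter_isCompact _ _ (hS a a.2).1 (hS a a.2).2 ih.1 ih.2⟩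
    · rw [he]
      ext x
      simp only [Set.mem_sInter, Set.mem_iInter]
      exact ⟨fun h u s _ => h s.1 s.2, fun h s hs => h {⟨s, hs⟩} ⟨s, hs⟩ (Finset.mem_singleton_self _)⟩
    · exact Set.subset_inter (Set.biInter_mono (fun s hs => Finset.mem_union_left v hs) fun _ _ => subset_rfl)
        (Set.biInter_mono (fun s hs => Finset.mem_union_right u hs) fun _ _ => subset_rfl)
  tfae_have 5 → 1 := fun ⟨I, _, U, hU, he, _⟩ => by
    refine ⟨⟨Set.range U, ?_, by rw [he, Set.sInter_range]⟩, ?_⟩
    · rintro _ ⟨i, rfl⟩; exact (hU i).2.isConstructible (hU i).1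
    · subst he
      intro a b hab ha
      exact Set.mem_iInter.2 fun i => hab.mem_open (hU i).1 (Set.mem_iInter.1 ha i)
  tfae_finish

end Groth.Agent.S7539
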