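import Groth.Statements.S7540
import Groth.Agent.SpecSpLib.Basic

set_option autoImplicit false
universe u
open SpecSp

namespace Groth.Agent.S7540

/-- Let X be a spectral space, I a nonempty index set and U_i ⊆ X quasi-compact opens such that for all
i, j some U_k lies in U_i ∩ U_j; put W = ⋂ U_i. Then every open subset of X containing W contains
some U_i. The published statement also asserts that W is spectral and is the limit of the U_i; this
row states the neighbourhood property. -/
theorem result {X : Type u} [TopologicalSpace X] [SpectralSpace X]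
    {I : Type u} [Nonempty I] (U : I → Set X) (hU : ∀ i, IsOpen (U i) ∧ IsCompact (U i))
    (hdir : ∀ i j, ∃ k, U k ⊆ U i ∩ U j) :
    ∀ V : Set X, IsOpen V → (⋂ i, U i) ⊆ V → ∃ i, U i ⊆ V := by
  intro V hV hsub
  by_contra hne
  push Not at hne
  haveI := ‹Nonempty I›
  obtain ⟨x, hx⟩ := @IsCompact.nonempty_iInter_of_directed_nonempty_isCompact_isClosed X (constructibleTopology X) I _
    (fun i => U i ∩ Vᶜ)
    (fun i j => (hdir i j).imp fun k hk => ⟨Set.inter_subset_inter_left _ (hk.trans Set.inter_subset_left),
      Set.inter_subset_inter_left _ (hk.trans Set.inter_subset_right)⟩)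
    (fun i => Set.not_subset.1 (hne i))
    (fun i => @IsClosed.isCompact X (constructibleTopology X) _ SpecSpLib.compactSpace_cons
      (@IsClosed.mk X (constructibleTopology X) _ (by
        rw [Set.compl_inter, compl_compl]
        exact @IsOpen.union X _ _ (constructibleTopology X) (SpecSpLib.isClopen_of_isCompact (hU i).1 (hU i).2).2
          (ConsTop.isOpen_cons_of_isOpen hV))))
    (fun i => @IsClosed.mk X (constructibleTopology X) _ (by
        rw [Set.compl_inter, compl_compl]
        exact @IsOpen.union X _ _ (constructibleTopology X) (SpecSpLib.isClopen_of_isCompact (hU i).1 (hU i).2).2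
          (ConsTop.isOpen_cons_of_isOpen hV)))
  obtain ⟨i⟩ := ‹Nonempty I›
  exact (Set.mem_iInter.1 hx i).2 (hsub (Set.mem_iInter.2 fun j => (Set.mem_iInter.1 hx j).1))

end Groth.Agent.S7540
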