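import Groth.Statements.S7541
import Groth.Agent.SpecSpLib.Basic

set_option autoImplicit false
universe u
open SpecSp

namespace Groth.Agent.S7541

/-- Let X be a spectral space, E ⊆ X a constructible subset and W the set of points of X that specialize
to a point of E. Then the subspace W minus E is a spectral space. (The description of W minus E as a
limit of the U_i minus E is not recorded here.) -/
theorem result {X : Type u} [TopologicalSpace X] [SpectralSpace X]
    (E : Set X) (hE : Topology.IsConstructible E) :
    SpectralSpace ↥({x : X | ∃ e ∈ E, x ⤳ e} \ E) := by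
  have hEc := ConsTop.isClopen_of_isConstructible hE
  have hcpt := SpecSpLib.isCompact_of_isClosed_cons hEc.2
  refine (SpecSpLib.subset_spectral ?_).1
  rw [Set.diff_eq, Set.compl_inter, compl_compl]
  refine @IsOpen.union X _ _ (constructibleTopology X) ?_ hEc.1
  rw [SpecSpLib.generalizations_eq_sInter hcpt, Set.compl_sInter]
  exact @isOpen_sUnion X (constructibleTopology X) _ fun s ⟨U, hU, hs⟩ =>
    hs ▸ (SpecSpLib.isClopen_of_isCompact hU.1 hU.2.1).2

end Groth.Agent.S7541
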