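import Groth.Statements.S7544


set_option autoImplicit false
universe u
open ConstrTop

namespace Groth.Agent.S7544

/-- Let X be a quasi-compact topological space whose quasi-compact opens form a basis and are closed
under pairwise intersection. Take T ⊆ X to be locally closed, quasi-compact, and with retrocompact
complement. Then T is constructible in X. -/
theorem result {X : Type u} [TopologicalSpace X]
    [CompactSpace X] [PrespectralSpace X] [QuasiSeparatedSpace X]
    (T : Set X) (hT : IsLocallyClosed T) (hTc : IsCompact T) (hTr : IsRetrocompact Tᶜ) :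
    Topology.IsConstructible T := by
  obtain ⟨O, C, hO, hC, hOC⟩ := hT
  choose W hW hxW hWO using fun a : T =>
    (PrespectralSpace.isTopologicalBasis (X := X)).exists_subset_of_mem_open (hOC.le a.2).1 hO
  obtain ⟨t, ht⟩ := hTc.elim_finite_subcover W (fun a => (hW a).1)
    fun a ha => Set.mem_iUnion.2 ⟨⟨a, ha⟩, hxW ⟨a, ha⟩⟩
  set O' : Set X := ⋃ a ∈ t, W a
  have ho : IsOpen O' := isOpen_biUnion fun a _ => (hW a).1
  have hc : IsCompact O' := t.finite_toSet.isCompact_biUnion fun a _ => (hW a).2
  have heq : O' ∩ Tᶜ = O' ∩ Cᶜ := by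
    ext y
    refine and_congr_right fun hy => ?_
    obtain ⟨a, -, hya⟩ := Set.mem_iUnion₂.1 hy
    rw [hOC]
    exact ⟨fun h hyC => h ⟨hWO a hya, hyC⟩, fun h h' => h h'.2⟩
  have h2 : IsCompact (O' ∩ Tᶜ) := by rw [Set.inter_comm]; exact hTr hc ho
  have h3 : IsOpen (O' ∩ Tᶜ) := heq ▸ ho.inter hC.isOpen_compl
  have hT' : T = O' \ (O' ∩ Tᶜ) := by
    ext y
    exact ⟨fun hy => ⟨ht hy, fun h => h.2 hy⟩, fun h => by_contra fun hy => h.2 ⟨h.1, hy⟩⟩
  rw [hT']
  exact (hc.isConstructible ho).sdiff (h2.isConstructible h3)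

end Groth.Agent.S7544
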