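import Groth.Statements.S7547
import Mathlib

set_option linter.style.haveILetI false

set_option autoImplicit false
universe u
open PtTop

namespace Groth.Agent.S7547

/-- Let X be a Kolmogorov topological space whose quasi-compact opens form a basis for the topology. If
X is not Jacobson, there is a point x ∈ X which is not closed but such that {x} is locally closed. -/
theorem result {X : Type u} [TopologicalSpace X]
    [T0Space X] [PrespectralSpace X] (hX : ¬ JacobsonSpace X) :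
    ∃ x : X, ¬ IsClosed ({x} : Set X) ∧ IsLocallyClosed ({x} : Set X) := by
  rw [jacobsonSpace_iff_locallyClosed] at hX
  push Not at hX
  obtain ⟨Z, ⟨z, hz⟩, hZ, hempty⟩ := hX
  obtain ⟨U, C, hU, hC, rfl⟩ := hZ
  obtain ⟨V, ⟨hVo, hVc⟩, hzV, hVU⟩ :=
    PrespectralSpace.isTopologicalBasis.exists_subset_of_mem_open hz.1 hU
  obtain ⟨K, ⟨hKc, hKq⟩, hK⟩ : ∃ K : Set X, (IsLocallyClosed K ∧ IsCompact K) ∧ K = V ∩ C :=
    ⟨_, ⟨⟨V, C, hVo, hC, rfl⟩, hVc.inter_right hC⟩, rfl⟩
  have : CompactSpace K := isCompact_iff_compactSpace.mp hKq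
  obtain ⟨a, -, ha⟩ := (isClosed_univ : IsClosed (Set.univ : Set K)).exists_closed_singleton
    ⟨⟨z, hK ▸ ⟨hzV, hz.2⟩⟩, Set.mem_univ _⟩
  refine ⟨(a : X), fun hcl => ?_, ?_⟩
  · have haK : (a : X) ∈ V ∩ C := hK ▸ a.2
    have hmem : (a : X) ∈ U ∩ C ∩ closedPoints X :=
      ⟨⟨hVU haK.1, haK.2⟩, mem_closedPoints_iff.mpr hcl⟩
    rw [hempty] at hmem
    exact hmem
  · simpa using ha.isLocallyClosed.image Topology.IsInducing.subtypeVal (by simpa using hKc)

end Groth.Agent.S7547
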