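import Groth.Statements.S7548
import Mathlib

set_option linter.style.haveILetI false

set_option autoImplicit false
universe u
open PtTop

namespace Groth.Agent.S7548

/-- A locally closed subset of a subspace is the trace of one of the ambient space. -/
lemma exists_preimage_locallyClosed {X : Type u} [TopologicalSpace X] {S : Set X} {Z : Set S}
    (h : IsLocallyClosed Z) : ∃ L : Set X, IsLocallyClosed L ∧ Subtype.val ⁻¹' L = Z := by
  obtain ⟨U, C, hU, hC, rfl⟩ := h
  obtain ⟨U', hU', rfl⟩ := isOpen_induced_iff.mp hU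
  obtain ⟨C', hC', rfl⟩ := isClosed_induced_iff.mp hC
  exact ⟨U' ∩ C', ⟨U', C', hU', hC', rfl⟩, rfl⟩


/-- Let X be a Jacobson space and let T = ⋃ T_i be a union of subsets T_i ⊆ X each locally closed in X
(open, closed, locally closed and constructible subsets are of this form). Then T is Jacobson and
every point of T closed in T is closed in X. -/
theorem result {X : Type u} [TopologicalSpace X] [JacobsonSpace X]
    {ι : Type u} (T : ι → Set X) (hT : ∀ i, IsLocallyClosed (T i)) :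
    JacobsonSpace ↥(⋃ i, T i) ∧
      closedPoints ↥(⋃ i, T i) ⊆ (Subtype.val : ↥(⋃ i, T i) → X) ⁻¹' closedPoints X := by
  set S := ⋃ i, T i
  have key : ∀ (i : ι) (L : Set X), IsLocallyClosed L → (L ∩ T i).Nonempty →
      ∃ x, x ∈ L ∧ x ∈ S ∧ IsClosed ({x} : Set X) := by
    intro i L hL hne
    obtain ⟨x, hx, hx'⟩ := jacobsonSpace_iff_locallyClosed.mp ‹JacobsonSpace X› _ hne (hL.inter (hT i))
    exact ⟨x, hx.1, Set.mem_iUnion.mpr ⟨i, hx.2⟩, mem_closedPoints_iff.mp hx'⟩
  constructor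
  · rw [jacobsonSpace_iff_locallyClosed]
    intro Z hne hZ
    obtain ⟨L, hL, rfl⟩ := exists_preimage_locallyClosed hZ
    obtain ⟨z, hz⟩ := hne
    obtain ⟨i, hi⟩ := Set.mem_iUnion.mp z.2
    obtain ⟨x, hxL, hxS, hxc⟩ := key i L hL ⟨z, hz, hi⟩
    refine ⟨⟨x, hxS⟩, hxL, mem_closedPoints_iff.mpr ?_⟩
    have := hxc.preimage (continuous_subtype_val (p := (· ∈ S)))
    convert this using 1
    ext y
    simp [Subtype.ext_iff]
  · intro t ht
    obtain ⟨i, hi⟩ := Set.mem_iUnion.mp t.2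
    obtain ⟨C, hC, hCe⟩ := isClosed_induced_iff.mp (mem_closedPoints_iff.mp ht)
    have htC : (t : X) ∈ C := (Set.ext_iff.mp hCe t).mpr rfl
    obtain ⟨x, hxL, -, hxc⟩ := key i (C ∩ T i) (hC.isLocallyClosed.inter (hT i)) ⟨t, ⟨htC, hi⟩, hi⟩
    obtain rfl : x = t := congrArg Subtype.val
      ((Set.ext_iff.mp hCe ⟨x, Set.mem_iUnion.mpr ⟨i, hxL.2⟩⟩).mp hxL.1)
    exact mem_closedPoints_iff.mpr hxc

end Groth.Agent.S7548
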