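import Groth.Statements.S7550
import Mathlib

set_option linter.style.haveILetI false

set_option autoImplicit false
universe u
open PtTop

namespace Groth.Agent.S7550

/-- Let f : X → Y be a continuous and open map of topological spaces, with X Noetherian, every
irreducible closed subset of X having a generic point, and Y Kolmogorov. Then generalizations lift
along f. (Part (1), closed maps are specializing, is a library fact.) -/
theorem result {X Y : Type u} [TopologicalSpace X] [TopologicalSpace Y]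
    [TopologicalSpace.NoetherianSpace X] [QuasiSober X] [T0Space Y]
    (f : X → Y) (hf : Continuous f) (hfo : IsOpenMap f) :
    GeneralizingMap f := by
  intro x y hy
  set A : Set X := f ⁻¹' {y}
  have hx : x ∈ closure A := by
    rw [mem_closure_iff]
    intro U hU hxU
    obtain ⟨a, ha, hay⟩ : y ∈ f '' U := hy.mem_open (hfo U hU) ⟨x, hxU, rfl⟩
    exact ⟨a, ha, hay⟩
  obtain ⟨S, hSf, hSi, hSe⟩ :=
    TopologicalSpace.NoetherianSpace.exists_finite_set_isClosed_irreducible
      (isClosed_closure : IsClosed (closure A))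
  obtain ⟨hSc, hSi, hSe⟩ : (∀ Z ∈ S, IsClosed Z) ∧ (∀ Z ∈ S, IsIrreducible Z) ∧ closure A = ⋃₀ S :=
    ⟨hSi, hSe.1, hSe.2⟩
  set S' := {Z ∈ S | (Z ∩ A).Nonempty}
  have hcl : closure A ⊆ ⋃₀ S' := by
    refine closure_minimal (fun a ha => ?_) ?_
    · obtain ⟨Z, hZ, haZ⟩ := hSe ▸ subset_closure ha
      exact ⟨Z, ⟨hZ, a, haZ, ha⟩, haZ⟩
    · rw [Set.sUnion_eq_biUnion]
      exact (hSf.subset fun Z hZ => hZ.1).isClosed_biUnion fun Z hZ => hSc Z hZ.1
  obtain ⟨Z, ⟨hZ, a, haZ, haA⟩, hxZ⟩ := hcl hx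
  obtain ⟨ξ, hξ⟩ := QuasiSober.sober (hSi Z hZ) (hSc Z hZ)
  refine ⟨ξ, hξ.specializes hxZ, ?_⟩
  have h1 : f ξ ⤳ y := (haA : f a = y) ▸ (hξ.specializes haZ).map hf
  have h2 : f ξ ∈ closure ({y} : Set Y) := by
    have hξA : ξ ∈ closure A := hSe ▸ ⟨Z, hZ, hξ.mem⟩
    refine closure_mono (Set.image_preimage_subset f {y}) ?_
    exact image_closure_subset_closure_image hf ⟨ξ, hξA, rfl⟩
  exact (h1.antisymm (specializes_iff_mem_closure.mpr h2)).eq

end Groth.Agent.S7550
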