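import Groth.Statements.S7551
import Mathlib

set_option linter.style.haveILetI false

set_option autoImplicit false
universe u
open PtTop

namespace Groth.Agent.S7551

/-- Let s, t : R → U and π : U → X be continuous maps between topological spaces satisfying: (1) π is an
open map, (2) U is a sober space, (3) s and t have finite fibres, (4) generalizations lift along s
and along t, and (5) the image of (t, s) : R → U × U is an equivalence relation on U and π
identifies X, as a set, with the quotient of U by it. Then X is Kolmogorov. -/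
theorem result {R U X : Type u}
    [TopologicalSpace R] [TopologicalSpace U] [TopologicalSpace X] [QuasiSober U] [T0Space U]
    (s t : R → U) (π : U → X) (hs : Continuous s) (ht : Continuous t) (hπ : Continuous π)
    (hπo : IsOpenMap π) (hsf : ∀ u, (s ⁻¹' {u}).Finite) (htf : ∀ u, (t ⁻¹' {u}).Finite)
    (hsg : GeneralizingMap s) (htg : GeneralizingMap t)
    (hE : Equivalence fun u u' : U => ∃ r, t r = u ∧ s r = u')
    (hπs : Function.Surjective π) (hπq : ∀ u u' : U, π u = π u' ↔ ∃ r, t r = u ∧ s r = u') :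
    T0Space X := by
  have hfin : ∀ x : X, (π ⁻¹' {x}).Finite := fun x => by
    obtain ⟨u, rfl⟩ := hπs x
    refine ((htf u).image s).subset fun u' hu' => ?_
    obtain ⟨r, h1, h2⟩ := (hπq u u').mp (Eq.symm hu')
    exact ⟨r, h1, h2⟩
  have hgen : ∀ x y : X, Inseparable x y → ∀ u, π u = x → ∃ w, π w = y ∧ w ⤳ u := by
    intro x y hxy u hu
    by_contra hne
    simp only [specializes_iff_forall_open, not_exists, not_and, not_forall, exists_prop] at hne
    choose! W hWo hWu hWw using hne
    have hWopen : IsOpen (⋂ w ∈ π ⁻¹' {y}, W w) := (hfin y).isOpen_biInter fun w hw => hWo w hw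
    have hx : x ∈ π '' (⋂ w ∈ π ⁻¹' {y}, W w) :=
      ⟨u, Set.mem_iInter₂.mpr fun w hw => hWu w hw, hu⟩
    obtain ⟨w, hw, hwy⟩ := (hxy.mem_open_iff (hπo _ hWopen)).mp hx
    exact hWw w hwy (Set.mem_iInter₂.mp hw w hwy)
  refine ⟨fun x y hxy => ?_⟩
  let g : U → ℕ := fun u => {w ∈ π ⁻¹' {x} | w ⤳ u}.ncard
  obtain ⟨u, hu, hmin⟩ := (hfin x).exists_minimalFor g _ (hπs x)
  obtain ⟨w, hw, hwu⟩ := hgen x y hxy u hu
  obtain ⟨v, hv, hvw⟩ := hgen y x hxy.symm w hw
  have hsub : {z ∈ π ⁻¹' {x} | z ⤳ v} ⊆ {z ∈ π ⁻¹' {x} | z ⤳ u} :=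
    fun z hz => ⟨hz.1, hz.2.trans (hvw.trans hwu)⟩
  have hufin : {z ∈ π ⁻¹' {x} | z ⤳ u}.Finite := (hfin x).subset fun z hz => hz.1
  have heq := Set.eq_of_subset_of_ncard_le hsub (hmin hv (Set.ncard_le_ncard hsub hufin)) hufin
  have huv : u ⤳ v := (heq.ge ⟨hu, specializes_rfl⟩).2
  have he : w = u := (hwu.antisymm (huv.trans hvw)).eq
  rw [← hu, ← hw, he]


end Groth.Agent.S7551
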