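import Groth.Statements.S7554


set_option autoImplicit false
universe u
open PtTop

namespace Groth.Agent.S7554

/-- Let X be a topological space with an open covering X = ⋃ U_i and let T ⊆ X. If T ∩ U_i is nowhere
dense in U_i (with the induced topology) for every i, then T is nowhere dense in X. -/
theorem result {X : Type u} [TopologicalSpace X] {ι : Type u}
    (U : ι → Set X) (hU : ∀ i, IsOpen (U i)) (hcov : ⋃ i, U i = Set.univ) (T : Set X)
    (hT : ∀ i, IsNowhereDense ((Subtype.val : U i → X) ⁻¹' T)) :
    IsNowhereDense T := by
  change interior (closure T) = ∅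
  rw [Set.eq_empty_iff_forall_notMem]
  intro x hx
  obtain ⟨i, hi⟩ := Set.mem_iUnion.1 (hcov.symm.subset (Set.mem_univ x))
  have ho := (hU i).isOpenEmbedding_subtypeVal
  have h : interior (closure ((Subtype.val : U i → X) ⁻¹' T)) = ∅ := hT i
  rw [← ho.isOpenMap.preimage_closure_eq_closure_preimage continuous_subtype_val,
    ← ho.isOpenMap.preimage_interior_eq_interior_preimage continuous_subtype_val] at h
  exact h.subset (show (⟨x, hi⟩ : U i) ∈ Subtype.val ⁻¹' interior (closure T) from hx)

end Groth.Agent.S7554
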