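import Groth.Statements.S7557
import Mathlib

set_option linter.style.haveILetI false
set_option backward.isDefEq.respectTransparency false
set_option backward.isDefEq.respectTransparency.types false

set_option autoImplicit false
universe u
open CategoryTheory CategoryTheory.Limits
open PtTop

namespace Groth.Agent.S7557

section Lim
open Topology
variable {J : Type u} [SmallCategory J] (F : J ⥤ TopCommRingCat.{u})

local notation "Φ" => forget₂ TopCommRingCat CommRingCat

/-- The limit ring. -/
noncomputable abbrev limRing : CommRingCat.{u} := limit (F ⋙ Φ)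

/-- The projections, as ring homomorphisms. -/
noncomputable def legRing (j : J) : (limRing F : Type u) →+* (F.obj j : Type u) :=
  (limit.π (F ⋙ Φ) j).hom

/-- The topology induced by all projections. -/
@[implicit_reducible]
noncomputable def limTop : TopologicalSpace (limRing F : Type u) :=
  ⨅ j, (F.obj j).isTopologicalSpace.induced (legRing F j)

theorem isTopRing_limTop : @IsTopologicalRing (limRing F : Type u) (limTop F) _ :=
  letI := limTop F
  { toContinuousAdd := continuousAdd_iInf fun j =>
      letI := (F.obj j).isTopologicalSpace.induced (legRing F j)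
      continuousAdd_induced (legRing F j)
    toContinuousMul := continuousMul_iInf fun j =>
      letI := (F.obj j).isTopologicalSpace.induced (legRing F j)
      continuousMul_induced (legRing F j)
    toContinuousNeg := continuousNeg_iInf fun j =>
      letI := (F.obj j).isTopologicalSpace.induced (legRing F j)
      (Topology.IsInducing.induced (legRing F j)).continuousNeg fun x => map_neg _ x }

/-- The limit topological ring. -/
noncomputable def limObj : TopCommRingCat.{u} :=
  @TopCommRingCat.of (limRing F : Type u) _ (limTop F) (isTopRing_limTop F)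

/-- The limit cone. -/
noncomputable def limCone : Cone F where
  pt := limObj F
  π :=
    { app := fun j => ⟨legRing F j, continuous_iInf_dom (i := j) continuous_induced_dom⟩
      naturality := fun i j f => Subtype.ext (RingHom.ext fun x =>
        (ConcreteCategory.congr_hom (limit.w (F ⋙ Φ) f) x).symm) }

/-- It is a limit. -/
noncomputable def limConeIsLimit : IsLimit (limCone F) where
  lift s := ⟨(limit.lift (F ⋙ Φ) ((Φ).mapCone s)).hom, continuous_iInf_rng.2 fun j =>
    continuous_induced_rng.2 (by
      have e : ⇑(legRing F j) ∘ ⇑(limit.lift (F ⋙ Φ) ((Φ).mapCone s)).hom = ⇑(s.π.app j).1 :=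
        funext fun x => ConcreteCategory.congr_hom (limit.lift_π ((Φ).mapCone s) j) x
      exact e ▸ (s.π.app j).2)⟩
  fac s j := Subtype.ext (RingHom.ext fun x =>
    ConcreteCategory.congr_hom (limit.lift_π ((Φ).mapCone s) j) x)
  uniq s m hm := by
    have h : ((Φ).map m : (Φ).obj s.pt ⟶ limRing F) = limit.lift (F ⋙ Φ) ((Φ).mapCone s) := by
      refine limit.hom_ext fun j => ?_
      rw [limit.lift_π]
      exact congrArg (fun g => (Φ).map g) (hm j)
    exact Subtype.ext (congrArg CommRingCat.Hom.hom h)

/-- The image in rings is a limit. -/
noncomputable def limConeRing : IsLimit ((Φ).mapCone (limCone F)) :=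
  IsLimit.ofIsoLimit (limit.isLimit (F ⋙ Φ)) (Cone.ext (Iso.refl _) fun j => (Category.id_comp _).symm)

theorem limConeTop : Nonempty (IsLimit ((forget₂ TopCommRingCat TopCat).mapCone (limCone F))) := by
  refine (TopCat.nonempty_isLimit_iff_eq_induced _ ?_).mpr rfl
  exact IsLimit.ofIsoLimit (isLimitOfPreserves (forget CommRingCat.{u}) (limit.isLimit (F ⋙ Φ)))
    (Cone.ext (Iso.refl _) fun j => rfl)
end Lim


/-- The category of topological rings (commutative, with continuous ring homomorphisms) has limits, and
limits commute with the forgetful functors to topological spaces and to rings. -/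
theorem result :
    HasLimits TopCommRingCat.{u} ∧
    PreservesLimits (forget₂ TopCommRingCat.{u} TopCat.{u}) ∧
    PreservesLimits (forget₂ TopCommRingCat.{u} CommRingCat.{u}) := by
  exact ⟨⟨fun _ _ => ⟨fun F => ⟨⟨⟨limCone F, limConeIsLimit F⟩⟩⟩⟩⟩,
    ⟨fun {_ _} => ⟨fun {F} => preservesLimit_of_preserves_limit_cone (limConeIsLimit F) (limConeTop F).some⟩⟩,
    ⟨fun {_ _} => ⟨fun {F} => preservesLimit_of_preserves_limit_cone (limConeIsLimit F) (limConeRing F)⟩⟩⟩

end Groth.Agent.S7557
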