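import Groth.Statements.S7559
import Mathlib

set_option linter.style.haveILetI false

set_option autoImplicit false
universe u
open PtTop

namespace Groth.Agent.S7559

/-- Let X be a topological space and X = ∐ P_k a finite partition into locally closed parts. Then there
is a finite stratification of X refining it: a finite partially ordered index set I and pairwise
disjoint locally closed strata S_i covering X with closure(S_j) ⊆ ⋃_{i ≤ j} S_i, such that every
part P_k is a union of strata. -/
theorem result {X : Type u} [TopologicalSpace X]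
    {n : ℕ} (P : Fin n → Set X) (hP : ∀ k, IsLocallyClosed (P k)) (hcov : ⋃ k, P k = Set.univ)
    (hdisj : ∀ k k', k ≠ k' → Disjoint (P k) (P k')) :
    ∃ (I : Type) (_ : Fintype I) (_ : PartialOrder I) (S : I → Set X),
      (∀ i, IsLocallyClosed (S i)) ∧ (⋃ i, S i = Set.univ) ∧ (∀ i j, i ≠ j → Disjoint (S i) (S j)) ∧
      (∀ j, closure (S j) ⊆ ⋃ i ∈ Set.Iic j, S i) ∧
      (∀ i k, (S i ∩ P k).Nonempty → S i ⊆ P k) := by
  classical
  let Z : Fin n ⊕ Fin n → Set X := Sum.elim (fun k => closure (P k)) (fun k => closure (P k) \ P k)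
  have hZ : ∀ j, IsClosed (Z j) := by
    rintro (k | k)
    · exact isClosed_closure
    · show IsClosed (closure (P k) \ P k)
      have := (hP k).isOpen_coborder
      rw [coborder, isOpen_compl_iff] at this
      exact this
  let S : (Finset (Fin n ⊕ Fin n))ᵒᵈ → Set X := fun σ => {x | ∀ j, j ∈ OrderDual.ofDual σ ↔ x ∈ Z j}
  have hS : ∀ x, x ∈ S (OrderDual.toDual (Finset.univ.filter fun j => x ∈ Z j)) := fun x j => by simp
  refine ⟨_, inferInstance, inferInstance, S, fun σ => ?_, ?_, fun σ τ hne => ?_, fun σ => ?_, fun σ k hne => ?_⟩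
  · refine ⟨⋂ j ∈ (Finset.univ \ OrderDual.ofDual σ : Finset _), (Z j)ᶜ, ⋂ j ∈ OrderDual.ofDual σ, Z j,
      isOpen_biInter_finset fun j _ => (hZ j).isOpen_compl, isClosed_biInter fun j _ => hZ j, ?_⟩
    ext x
    simp only [S, Set.mem_setOf_eq, Set.mem_inter_iff, Set.mem_iInter, Finset.mem_sdiff, Finset.mem_univ, true_and, Set.mem_compl_iff]
    exact ⟨fun h => ⟨fun j hj hx => hj ((h j).mpr hx), fun j hj => (h j).mp hj⟩,
      fun h j => ⟨h.2 j, fun hx => by_contra fun hj => h.1 j hj hx⟩⟩
  · exact Set.eq_univ_of_forall fun x => Set.mem_iUnion.mpr ⟨_, hS x⟩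
  · refine Set.disjoint_left.mpr fun x h1 h2 => hne ?_
    refine OrderDual.ofDual.injective (Finset.ext fun j => ?_)
    rw [h1 j, h2 j]
  · intro x hx
    refine Set.mem_iUnion₂.mpr ⟨_, fun j hj => ?_, hS x⟩
    exact Finset.mem_filter.mpr ⟨Finset.mem_univ _, (closure_minimal (fun y hy => (hy j).mp hj) (hZ j)) hx⟩
  · obtain ⟨x, hx, hxP⟩ := hne
    intro y hy
    have h1 : y ∈ closure (P k) := (hy (Sum.inl k)).mp ((hx (Sum.inl k)).mpr (subset_closure hxP))
    by_contra hyP
    exact ((hx (Sum.inr k)).mp ((hy (Sum.inr k)).mpr ⟨h1, hyP⟩)).2 hxP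


end Groth.Agent.S7559
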