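import Groth.Statements.S7561
import Mathlib

set_option linter.style.haveILetI false

set_option autoImplicit false
universe u
open PtTop

namespace Groth.Agent.S7561

/-- Let X be a Noetherian topological space and X = ∐ P_k a finite partition into locally closed parts.
Then it is refined by a finite good stratification: a finite partition X = ∐ S_i into locally closed
strata such that S_i ∩ closure(S_j) ≠ ∅ implies S_i ⊆ closure(S_j), with every P_k a union of
strata. -/
theorem result {X : Type u} [TopologicalSpace X]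
    [TopologicalSpace.NoetherianSpace X]
    {n : ℕ} (P : Fin n → Set X) (hP : ∀ k, IsLocallyClosed (P k)) (hcov : ⋃ k, P k = Set.univ)
    (hdisj : ∀ k k', k ≠ k' → Disjoint (P k) (P k')) :
    ∃ (m : ℕ) (S : Fin m → Set X),
      (∀ i, IsLocallyClosed (S i)) ∧ (⋃ i, S i = Set.univ) ∧ (∀ i j, i ≠ j → Disjoint (S i) (S j)) ∧
      (∀ i j, (S i ∩ closure (S j)).Nonempty → S i ⊆ closure (S j)) ∧
      (∀ i k, (S i ∩ P k).Nonempty → S i ⊆ P k) := by
  classical
  have key : ∀ C : TopologicalSpace.Closeds X, ∀ G : Set (Set X), G.Finite → (∀ g ∈ G, IsClosed g) →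
      ∃ T : Set (Set X), T.Finite ∧ (∀ a ∈ T, IsLocallyClosed a ∧ a ⊆ (C : Set X) ∧
        (∀ g ∈ G, (a ∩ g).Nonempty → a ⊆ g) ∧ ∀ b ∈ T, (a ∩ closure b).Nonempty → a ⊆ closure b) ∧
        (C : Set X) ⊆ ⋃₀ T ∧ T.Pairwise Disjoint := by
    intro C
    induction C using WellFoundedLT.induction with
    | _ C ih =>
    intro G hG hGc
    obtain ⟨F, hFf, hFc, hFi, hFu⟩ := TopologicalSpace.NoetherianSpace.exists_finite_set_isClosed_irreducible C.isClosed
    rcases F.eq_empty_or_nonempty with rfl | hFne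
    · refine ⟨∅, Set.finite_empty, fun a ha => ha.elim, ?_, Set.pairwise_empty _⟩
      rw [hFu]
    obtain ⟨C0, hC0⟩ := hFf.exists_maximal hFne
    let K : Set X := (⋃₀ {t ∈ F | ¬ C0 ⊆ t}) ∪ ⋃₀ {g ∈ G | ¬ C0 ⊆ g}
    have hKc : IsClosed K := by
      refine IsClosed.union ?_ ?_
      · rw [Set.sUnion_eq_biUnion]; exact (hFf.subset fun _ h => h.1).isClosed_biUnion fun t ht => hFc t ht.1
      · rw [Set.sUnion_eq_biUnion]; exact (hG.subset fun _ h => h.1).isClosed_biUnion fun t ht => hGc t ht.1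
    have hC0C : C0 ⊆ (C : Set X) := hFu ▸ Set.subset_sUnion_of_mem hC0.1
    have hUC0 : (C : Set X) \ K ⊆ C0 := by
      rintro x ⟨hxC, hxK⟩
      rw [hFu] at hxC
      obtain ⟨t, ht, hxt⟩ := hxC
      by_cases hle : C0 ⊆ t
      · exact hC0.2 ht hle hxt
      · exact absurd (Or.inl ⟨t, ⟨ht, hle⟩, hxt⟩) hxK
    have hne : (C0 ∩ Kᶜ).Nonempty := by
      by_contra h
      replace h : C0 ⊆ K := fun x hx => by_contra fun hk => h ⟨x, hx, hk⟩
      obtain ⟨z, hz, hzle⟩ := (isIrreducible_iff_sUnion_isClosed.mp (hFi C0 hC0.1))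
        ((hFf.subset (Set.sep_subset F fun t => ¬ C0 ⊆ t)).toFinset ∪ (hG.subset (Set.sep_subset G fun g => ¬ C0 ⊆ g)).toFinset)
        (fun z hz => by
          simp only [Finset.mem_union, Set.Finite.mem_toFinset] at hz
          rcases hz with hz | hz
          · exact hFc z hz.1
          · exact hGc z hz.1)
        (by rw [Finset.coe_union, Set.Finite.coe_toFinset, Set.Finite.coe_toFinset, Set.sUnion_union]; exact h)
      simp only [Finset.mem_union, Set.Finite.mem_toFinset] at hz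
      rcases hz with hz | hz <;> exact hz.2 hzle
    have hcl : closure ((C : Set X) \ K) = C0 := by
      refine le_antisymm (closure_minimal hUC0 (hFc C0 hC0.1)) ?_
      refine (subset_closure_inter_of_isPreirreducible_of_isOpen (hFi C0 hC0.1).2 hKc.isOpen_compl hne).trans ?_
      exact closure_mono fun x hx => ⟨hC0C hx.1, hx.2⟩
    let C' : TopologicalSpace.Closeds X := ⟨(C : Set X) ∩ K, C.isClosed.inter hKc⟩
    have hlt : C' < C := by
      refine lt_of_le_of_ne (fun x hx => hx.1) fun he => ?_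
      obtain ⟨x, hx, hxK⟩ := hne
      have h' : x ∈ (C' : Set X) := by rw [he]; exact hC0C hx
      exact hxK h'.2
    obtain ⟨T, hTf, hT, hTu, hTd⟩ := ih C' hlt (insert C0 G) (hG.insert _) (by
      rintro g (rfl | hg)
      · exact hFc _ hC0.1
      · exact hGc g hg)
    refine ⟨insert ((C : Set X) \ K) T, hTf.insert _, ?_, ?_, ?_⟩
    · rintro a (rfl | ha)
      · refine ⟨⟨Kᶜ, C, hKc.isOpen_compl, C.isClosed, by rw [Set.inter_comm]; rfl⟩, Set.diff_subset, fun g hg hne' => ?_, fun b hb hne' => ?_⟩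
        · refine hUC0.trans (by_contra fun hle => ?_)
          obtain ⟨x, hx, hxg⟩ := hne'
          exact hx.2 (Or.inr ⟨g, ⟨hg, hle⟩, hxg⟩)
        · rcases hb with rfl | hb
          · exact subset_closure
          · obtain ⟨x, hx, hxb⟩ := hne'
            exact absurd (closure_minimal (hT b hb).2.1 C'.isClosed hxb).2 hx.2
      · obtain ⟨h1, h2, h3, h4⟩ := hT a ha
        refine ⟨h1, h2.trans Set.inter_subset_left, fun g hg => h3 g (Set.mem_insert_of_mem _ hg), fun b hb hne' => ?_⟩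
        rcases hb with rfl | hb
        · rw [hcl] at hne' ⊢
          exact h3 C0 (Set.mem_insert _ _) hne'
        · exact h4 b hb hne'
    · intro x hx
      by_cases hxK : x ∈ K
      · obtain ⟨t, ht, hxt⟩ := hTu (show x ∈ (C' : Set X) from ⟨hx, hxK⟩)
        exact ⟨t, Set.mem_insert_of_mem _ ht, hxt⟩
      · exact ⟨_, Set.mem_insert _ _, hx, hxK⟩
    · refine Set.pairwise_insert_of_symmetric.mpr ⟨hTd, fun b hb _ => Set.disjoint_left.mpr fun x hx hxb => hx.2 ((hT b hb).2.1 hxb).2⟩
  let Z : Fin n ⊕ Fin n → Set X := Sum.elim (fun k => closure (P k)) (fun k => closure (P k) \ P k)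
  have hZ : ∀ j, IsClosed (Z j) := by
    rintro (k | k)
    · exact isClosed_closure
    · show IsClosed (closure (P k) \ P k)
      have := (hP k).isOpen_coborder
      rw [coborder, isOpen_compl_iff] at this
      exact this
  obtain ⟨T, hTf, hT, hTu, hTd⟩ := key ⊤ (Set.range Z) (Set.finite_range Z) (by rintro _ ⟨j, rfl⟩; exact hZ j)
  haveI := hTf.fintype
  let e := (Fintype.equivFin T).symm
  refine ⟨Fintype.card T, fun i => e i, fun i => (hT _ (e i).2).1, ?_, fun i j hne => ?_,
    fun i j => (hT _ (e i).2).2.2.2 _ (e j).2, fun i k hne => ?_⟩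
  · refine Set.eq_univ_of_forall fun x => ?_
    obtain ⟨t, ht, hxt⟩ := hTu (show x ∈ ((⊤ : TopologicalSpace.Closeds X) : Set X) from trivial)
    exact Set.mem_iUnion.mpr ⟨e.symm ⟨t, ht⟩, by simpa using hxt⟩
  · exact hTd (e i).2 (e j).2 fun h => hne (e.injective (Subtype.ext h))
  · obtain ⟨x, hx, hxP⟩ := hne
    intro y hy
    have h1 : y ∈ closure (P k) := (hT _ (e i).2).2.2.1 _ ⟨Sum.inl k, rfl⟩ ⟨x, hx, subset_closure hxP⟩ hy
    by_contra hyP
    exact ((hT _ (e i).2).2.2.1 _ ⟨Sum.inr k, rfl⟩ ⟨y, hy, h1, hyP⟩ hx).2 hxP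


end Groth.Agent.S7561
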