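import Groth.Statements.S7563


set_option autoImplicit false
universe u
open PtTop

namespace Groth.Agent.S7563

/-- Let X be a topological space and X = X_1 ∪ … ∪ X_n with each X_i irreducible and closed and no X_i
contained in the union of the others. Then the irreducible components of X are precisely the sets
X_1, …, X_n. -/
theorem result {X : Type u} [TopologicalSpace X]
    {n : ℕ} (Z : Fin n → Set X) (hZ : ∀ i, IsIrreducible (Z i) ∧ IsClosed (Z i))
    (hcov : ⋃ i, Z i = Set.univ) (hirr : ∀ i, ¬ Z i ⊆ ⋃ j ∈ ({i}ᶜ : Set (Fin n)), Z j) :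
    irreducibleComponents X = Set.range Z := by
  classical
  have hmem : ∀ S : Set X, IsIrreducible S → ∃ j, S ⊆ Z j := fun S hS => by
    obtain ⟨z, hz, hSz⟩ := (isIrreducible_iff_sUnion_isClosed.1 hS) (Finset.univ.image Z)
      (fun z hz => by obtain ⟨j, -, rfl⟩ := Finset.mem_image.1 hz; exact (hZ j).2)
      (by rw [Finset.coe_image, Finset.coe_univ, Set.image_univ, Set.sUnion_range, hcov]; exact Set.subset_univ _)
    obtain ⟨j, -, rfl⟩ := Finset.mem_image.1 hz
    exact ⟨j, hSz⟩
  have hmax : ∀ i, Z i ∈ irreducibleComponents X := fun i => ⟨(hZ i).1, fun S hS hle => by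
    obtain ⟨j, hj⟩ := hmem S hS
    by_cases hji : j = i
    · exact hji ▸ hj
    · exact absurd ((hle.trans hj).trans (Set.subset_biUnion_of_mem (u := Z) (Set.mem_compl_singleton_iff.2 hji))) (hirr i)⟩
  refine Set.Subset.antisymm (fun S hS => ?_) (Set.range_subset_iff.2 hmax)
  obtain ⟨j, hj⟩ := hmem S hS.1
  exact ⟨j, le_antisymm (hS.2 (hZ j).1 hj) hj⟩

end Groth.Agent.S7563
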