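import Groth.Statements.S7564
import Mathlib

set_option linter.style.haveILetI false

set_option autoImplicit false
universe u
open PtTop

namespace Groth.Agent.S7564

/-- For a continuous surjection f : X → Y, if X has finitely many irreducible components, say n of them,
then Y has at most n irreducible components. -/
theorem result {X Y : Type u} [TopologicalSpace X] [TopologicalSpace Y]
    (f : X → Y) (hf : Continuous f) (hs : Function.Surjective f) (hfin : (irreducibleComponents X).Finite) :
    (irreducibleComponents Y).Finite ∧ (irreducibleComponents Y).ncard ≤ (irreducibleComponents X).ncard := by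
  have hsub : irreducibleComponents Y ⊆ (fun C => closure (f '' C)) '' irreducibleComponents X := by
    intro Z hZ
    classical
    let s : Finset (Set Y) := hfin.toFinset.image fun C => closure (f '' C)
    obtain ⟨W, hW, hZW⟩ := isIrreducible_iff_sUnion_isClosed.mp hZ.1 s
      (fun z hz => by
        obtain ⟨C, -, rfl⟩ := Finset.mem_image.mp hz
        exact isClosed_closure)
      (fun y _ => by
        obtain ⟨x, rfl⟩ := hs y
        refine ⟨closure (f '' irreducibleComponent x), Finset.mem_coe.mpr (Finset.mem_image.mpr
          ⟨_, hfin.mem_toFinset.mpr (irreducibleComponent_mem_irreducibleComponents x), rfl⟩), ?_⟩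
        exact subset_closure ⟨x, mem_irreducibleComponent, rfl⟩)
    obtain ⟨C, hC, rfl⟩ := Finset.mem_image.mp hW
    have hC' := hfin.mem_toFinset.mp hC
    exact ⟨C, hC', le_antisymm (hZ.2 ((hC'.1.image f hf.continuousOn).closure) hZW) hZW⟩
  exact ⟨(hfin.image _).subset hsub,
    (Set.ncard_le_ncard hsub (hfin.image _)).trans (Set.ncard_image_le hfin)⟩

end Groth.Agent.S7564
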