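import Groth.Statements.S7565
import Mathlib

set_option linter.style.haveILetI false

set_option autoImplicit false
universe u
open PtTop

namespace Groth.Agent.S7565

/-- Let f : X → Y be a continuous open map of topological spaces and assume every point of X has a
Noetherian neighbourhood. Then every point of f(X) (with the induced topology) has a Noetherian
neighbourhood. The published statement also asserts that a continuous image of a Noetherian space is
Noetherian; this row states the part about open maps and locally Noetherian spaces. -/
theorem result {X Y : Type u} [TopologicalSpace X] [TopologicalSpace Y]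
    (f : X → Y) (hf : Continuous f) (hfo : IsOpenMap f)
    (hX : ∀ x : X, ∃ E ∈ nhds x, TopologicalSpace.NoetherianSpace E) :
    ∀ y : Set.range f, ∃ E : Set (Set.range f), E ∈ nhds y ∧ TopologicalSpace.NoetherianSpace E := by
  rintro ⟨_, x, rfl⟩
  obtain ⟨E, hE, hN⟩ := hX x
  obtain ⟨U, hUE, hU, hxU⟩ := mem_nhds_iff.mp hE
  let g : X → Set.range f := Set.rangeFactorization f
  have hg : Continuous g := hf.subtype_mk _
  have hgo : IsOpenMap g := fun V hV => by
    rw [isOpen_induced_iff]
    refine ⟨f '' V, hfo V hV, Set.ext fun y => ⟨?_, ?_⟩⟩
    · rintro ⟨z, hz, e⟩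
      exact ⟨z, hz, Subtype.ext e⟩
    · rintro ⟨z, hz, rfl⟩
      exact ⟨z, hz, rfl⟩
  have : TopologicalSpace.NoetherianSpace U :=
    (Topology.IsEmbedding.inclusion hUE).isInducing.noetherianSpace
  have h2 := TopologicalSpace.NoetherianSpace.range (fun u : U => g u) (hg.comp continuous_subtype_val)
  refine ⟨Set.range fun u : U => g u, ?_, h2⟩
  rw [show (fun u : U => g u) = g ∘ Subtype.val from rfl, Set.range_comp, Subtype.range_coe]
  exact (hgo U hU).mem_nhds ⟨x, hxU, rfl⟩

end Groth.Agent.S7565
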