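import Groth.Statements.S7567
import Mathlib
import Groth.Agent.S7566

set_option linter.style.haveILetI false

set_option autoImplicit false
universe u
open PtTop

namespace Groth.Agent.S7567

/-- Let X be a quasi-compact topological space whose quasi-compact opens form a basis, any two of them
meeting in a quasi-compact set. For a subset T ⊆ X these two conditions are equivalent: (a) T can be
written as an intersection of clopen subsets of X; (b) T is closed and is a union of connected
components of X. -/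
theorem result {X : Type u} [TopologicalSpace X]
    [CompactSpace X] [PrespectralSpace X] [QuasiSeparatedSpace X] (T : Set X) :
    (∃ S : Set (Set X), (∀ Z ∈ S, IsClopen Z) ∧ T = ⋂₀ S) ↔
      (IsClosed T ∧ ∀ x ∈ T, connectedComponent x ⊆ T) := by
  constructor
  · rintro ⟨S, hS, rfl⟩
    exact ⟨isClosed_sInter fun Z hZ => (hS Z hZ).1,
      fun x hx y hy Z hZ => (hS Z hZ).connectedComponent_subset (hx Z hZ) hy⟩
  · rintro ⟨hT, hTc⟩
    refine ⟨{Z | IsClopen Z ∧ T ⊆ Z}, fun Z hZ => hZ.1,
      le_antisymm (Set.subset_sInter fun Z hZ => hZ.2) fun x hx => ?_⟩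
    by_contra hxT
    have hsep : ∀ t : T, ∃ Z : Set X, IsClopen Z ∧ (t : X) ∈ Z ∧ x ∉ Z := fun t => by
      have hnx : x ∉ connectedComponent (t : X) := fun h => hxT (hTc _ t.2 h)
      rw [Groth.Agent.S7566.result (t : X)] at hnx
      simp only [Set.mem_sInter, Set.mem_setOf_eq, not_forall] at hnx
      obtain ⟨Z, ⟨hZ, htZ⟩, hxZ⟩ := hnx
      exact ⟨Z, hZ, htZ, hxZ⟩
    choose Z hZ htZ hxZ using hsep
    obtain ⟨s, hs⟩ := hT.isCompact.elim_finite_subcover Z (fun t => (hZ t).2)
      (fun t ht => Set.mem_iUnion.mpr ⟨⟨t, ht⟩, htZ ⟨t, ht⟩⟩)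
    obtain ⟨t, -, htx⟩ := Set.mem_iUnion₂.mp
      (hx _ ⟨s.finite_toSet.isClopen_biUnion fun t _ => hZ t, hs⟩)
    exact hxZ t htx

end Groth.Agent.S7567
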