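import Groth.Statements.S7568
import Mathlib

set_option autoImplicit false
universe u
open PtTop

namespace Groth.Agent.S7568

/-- Let X be a Hausdorff quasi-compact space, X = ⋃ U_i an open covering, p ≥ 0 an integer, and for
every (p+1)-tuple (i_0, …, i_p) an open covering of U_{i_0} ∩ … ∩ U_{i_p} by opens W_{i_0…i_p,k}.
Then there are an open covering X = ⋃_{j ∈ J} V_j and a map α : J → I with closure(V_j) ⊆ U_{α(j)}
such that each V_{j_0} ∩ … ∩ V_{j_p} is contained in W_{α(j_0)…α(j_p),k} for some k. The published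
statement allows a covering of an empty intersection to have no members; this row requires every
covering W_{i_0…i_p} to have at least one member (possibly empty), without which the conclusion
fails. -/
theorem result {X : Type u} [TopologicalSpace X] [CompactSpace X] [T2Space X]
    {ι : Type u} (U : ι → Set X) (hU : ∀ i, IsOpen (U i)) (hcov : ⋃ i, U i = Set.univ) (p : ℕ)
    (W : (Fin (p + 1) → ι) → Set (Set X)) (hWo : ∀ t, ∀ w ∈ W t, IsOpen w)
    (hWc : ∀ t, ⋃₀ W t = ⋂ l, U (t l)) (hWne : ∀ t, (W t).Nonempty) :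
    ∃ (J : Type u) (V : J → Set X) (α : J → ι), (∀ j, IsOpen (V j)) ∧ (⋃ j, V j = Set.univ) ∧
      (∀ j, closure (V j) ⊆ U (α j)) ∧
      (∀ t : Fin (p + 1) → J, ∃ w ∈ W (α ∘ t), (⋂ l, V (t l)) ⊆ w) := by
  classical
  have h1 : ∀ x : X, ∃ i, ∃ V : Set X, IsOpen V ∧ x ∈ V ∧ closure V ⊆ U i := fun x => by
    obtain ⟨i, hi⟩ := Set.mem_iUnion.1 (hcov.ge (Set.mem_univ x))
    obtain ⟨C, hC, hCc, hCU⟩ := exists_mem_nhds_isClosed_subset ((hU i).mem_nhds hi)
    exact ⟨i, interior C, isOpen_interior, mem_interior_iff_mem_nhds.2 hC,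
      (closure_minimal interior_subset hCc).trans hCU⟩
  choose a V hV hxV hVU using h1
  obtain ⟨s, hs⟩ := isCompact_univ.elim_finite_subcover V hV fun x _ => Set.mem_iUnion.2 ⟨x, hxV x⟩
  have h2 : ∀ y : X, ∃ x, x ∈ s ∧ y ∈ V x := fun y => by simpa using hs (Set.mem_univ y)
  choose b hbs hyb using h2
  have h3 : ∀ (y : X) (t : Fin (p + 1) → {x // x ∈ s}), ∃ N : Set X, IsOpen N ∧ y ∈ N ∧
      ((∃ w ∈ W (fun l => a (t l).1), N ⊆ w) ∨ ∃ l, Disjoint N (V (t l).1)) := by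
    intro y t
    by_cases h : ∀ l, y ∈ closure (V (t l).1)
    · obtain ⟨w, hw, hyw⟩ := (hWc fun l => a (t l).1).ge (Set.mem_iInter.2 fun l => hVU _ (h l))
      exact ⟨w, hWo _ w hw, hyw, Or.inl ⟨w, hw, subset_rfl⟩⟩
    · push Not at h
      obtain ⟨l, hl⟩ := h
      exact ⟨(closure (V (t l).1))ᶜ, isClosed_closure.isOpen_compl, hl,
        Or.inr ⟨l, disjoint_compl_left.mono_right subset_closure⟩⟩
  choose N hNo hyN hN using h3
  refine ⟨X, fun y => V (b y) ∩ ⋂ t, N y t, fun y => a (b y),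
    fun y => (hV _).inter (isOpen_iInter_of_finite fun t => hNo y t),
    Set.eq_univ_of_forall fun y => Set.mem_iUnion.2 ⟨y, hyb y, Set.mem_iInter.2 fun t => hyN y t⟩,
    fun y => (closure_mono Set.inter_subset_left).trans (hVU _), fun t => ?_⟩
  rcases hN (t 0) (fun l => ⟨b (t l), hbs _⟩) with ⟨w, hw, hsub⟩ | ⟨l, hd⟩
  · exact ⟨w, hw, fun q hq => hsub (Set.mem_iInter.1 (Set.mem_iInter.1 hq 0).2 _)⟩
  · obtain ⟨w, hw⟩ := hWne ((fun y => a (b y)) ∘ t)
    exact ⟨w, hw, fun q hq => absurd (Set.mem_iInter.1 hq l).1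
      (Set.disjoint_left.1 hd (Set.mem_iInter.1 (Set.mem_iInter.1 hq 0).2 _))⟩

end Groth.Agent.S7568
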