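import Groth.Statements.S7569
import Groth.Agent.PtTopLib.Shrink

set_option autoImplicit false
universe u
open PtTop

namespace Groth.Agent.S7569

/-- Let X be a Hausdorff, locally quasi-compact space and Z ⊆ X a quasi-compact subset. Let p ≥ 0, let
U_i ⊆ X be opens with Z ⊆ ⋃ U_i, and for every (p+1)-tuple (i_0, …, i_p) let W_{i_0…i_p} ⊆ U_{i_0} ∩
… ∩ U_{i_p} be an open with W_{i_0…i_p} ∩ Z = U_{i_0} ∩ … ∩ U_{i_p} ∩ Z. Then there are opens V_i ⊆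
X with Z ⊆ ⋃ V_i, closure(V_i) ⊆ U_i for all i, and V_{i_0} ∩ … ∩ V_{i_p} ⊆ W_{i_0…i_p} for all
(p+1)-tuples. -/
theorem result {X : Type u} [TopologicalSpace X]
    [T2Space X] [LocallyCompactSpace X] (Z : Set X) (hZ : IsCompact Z)
    {ι : Type u} (U : ι → Set X) (hU : ∀ i, IsOpen (U i)) (hcov : Z ⊆ ⋃ i, U i) (p : ℕ)
    (W : (Fin (p + 1) → ι) → Set X) (hWo : ∀ t, IsOpen (W t)) (hWU : ∀ t, W t ⊆ ⋂ l, U (t l))
    (hWZ : ∀ t, W t ∩ Z = (⋂ l, U (t l)) ∩ Z) :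
    ∃ V : ι → Set X, (∀ i, IsOpen (V i)) ∧ (Z ⊆ ⋃ i, V i) ∧ (∀ i, closure (V i) ⊆ U i) ∧
      (∀ t : Fin (p + 1) → ι, (⋂ l, V (t l)) ⊆ W t) := by
  classical
  have h1 : ∀ z : Z, ∃ i, ∃ A : Set X, IsOpen A ∧ z.1 ∈ A ∧ closure A ⊆ U i := fun z => by
    obtain ⟨i, hi⟩ := Set.mem_iUnion.1 (hcov z.2)
    obtain ⟨C, hC, hCU, hCc⟩ := LocallyCompactSpace.local_compact_nhds z.1 (U i) ((hU i).mem_nhds hi)
    exact ⟨i, interior C, isOpen_interior, mem_interior_iff_mem_nhds.2 hC,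
      (closure_minimal interior_subset hCc.isClosed).trans hCU⟩
  choose a A hA hzA hAU using h1
  obtain ⟨s, hs⟩ := hZ.elim_finite_subcover A hA fun z hz => Set.mem_iUnion.2 ⟨⟨z, hz⟩, hzA ⟨z, hz⟩⟩
  let V0 : ι → Set X := fun i => ⋃ z ∈ s.filter (fun z => a z = i), A z
  have hcl : ∀ i, closure (V0 i) ⊆ U i := fun i q hq => by
    rw [Finset.closure_biUnion] at hq
    obtain ⟨z, hz, hq⟩ := Set.mem_iUnion₂.1 hq
    exact (Finset.mem_filter.1 hz).2 ▸ hAU z hq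
  obtain ⟨V, hV, hc, hsub, hW⟩ := PtTopLib.refine_shrink hZ
    (fun z _ z' _ hne => (t2_separation hne).imp fun A ⟨B, hA, hB, h1, h2, h3⟩ => ⟨B, hA, hB, h1, h2, h3⟩)
    V0 (s.image a) (fun i => isOpen_biUnion fun z _ => hA z)
    (fun i hi => by
      simp only [V0, Set.iUnion_eq_empty]
      intro z hz
      exact absurd (Finset.mem_image.2 ⟨z, (Finset.mem_filter.1 hz).1, (Finset.mem_filter.1 hz).2⟩) hi)
    (fun z hz => by
      obtain ⟨w, hw, hzw⟩ := Set.mem_iUnion₂.1 (hs hz)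
      exact Set.mem_iUnion.2 ⟨a w, Set.mem_iUnion₂.2 ⟨w, Finset.mem_filter.2 ⟨hw, rfl⟩, hzw⟩⟩)
    p W hWo (fun t q hq => ((hWZ t).symm ▸ (⟨Set.mem_iInter.2 fun l =>
      hcl _ (Set.mem_iInter.1 hq.1 l), hq.2⟩ : q ∈ (⋂ l, U (t l)) ∩ Z) : q ∈ W t ∩ Z).1)
  exact ⟨V, hV, hc, fun i => (closure_mono (hsub i)).trans (hcl i), hW⟩

end Groth.Agent.S7569
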