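import Groth.Statements.S7570
import Groth.Agent.PtTopLib.Shrink

set_option autoImplicit false
universe u
open PtTop

namespace Groth.Agent.S7570

/-- Let X be a topological space and Z ⊆ X a quasi-compact subset such that any two distinct points of Z
have disjoint open neighbourhoods in X. Let p ≥ 0, let U_i ⊆ X be opens with Z ⊆ ⋃ U_i, and for
every (p+1)-tuple let W_{i_0…i_p} ⊆ U_{i_0} ∩ … ∩ U_{i_p} be an open with W_{i_0…i_p} ∩ Z = U_{i_0}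
∩ … ∩ U_{i_p} ∩ Z. Then there are opens V_i with (1) Z ⊆ ⋃ V_i, (2) V_i ⊆ U_i, (3) closure(V_i) ∩ Z
⊆ U_i, and (4) V_{i_0} ∩ … ∩ V_{i_p} ⊆ W_{i_0…i_p} for all (p+1)-tuples. -/
theorem result {X : Type u} [TopologicalSpace X]
    (Z : Set X) (hZ : IsCompact Z)
    (hZsep : ∀ z ∈ Z, ∀ z' ∈ Z, z ≠ z' → ∃ A B : Set X, IsOpen A ∧ IsOpen B ∧ z ∈ A ∧ z' ∈ B ∧ Disjoint A B)
    {ι : Type u} (U : ι → Set X) (hU : ∀ i, IsOpen (U i)) (hcov : Z ⊆ ⋃ i, U i) (p : ℕ)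
    (W : (Fin (p + 1) → ι) → Set X) (hWo : ∀ t, IsOpen (W t)) (hWU : ∀ t, W t ⊆ ⋂ l, U (t l))
    (hWZ : ∀ t, W t ∩ Z = (⋂ l, U (t l)) ∩ Z) :
    ∃ V : ι → Set X, (∀ i, IsOpen (V i)) ∧ (Z ⊆ ⋃ i, V i) ∧ (∀ i, V i ⊆ U i) ∧
      (∀ i, closure (V i) ∩ Z ⊆ U i) ∧ (∀ t : Fin (p + 1) → ι, (⋂ l, V (t l)) ⊆ W t) := by
  classical
  have h1 : ∀ z : Z, ∃ i, ∃ A : Set X, IsOpen A ∧ z.1 ∈ A ∧ A ⊆ U i ∧ closure A ∩ Z ⊆ U i := fun z => by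
    obtain ⟨i, hi⟩ := Set.mem_iUnion.1 (hcov z.2)
    obtain ⟨A, B, hA, hB, hzA, hLB, hd⟩ := PtTopLib.separate hZsep isCompact_singleton (IsCompact.diff hZ (hU i))
      (Set.singleton_subset_iff.2 z.2) Set.sdiff_subset (Set.disjoint_singleton_left.2 fun h => h.2 hi)
    refine ⟨i, A ∩ U i, hA.inter (hU i), ⟨hzA rfl, hi⟩, Set.inter_subset_right, fun q hq => ?_⟩
    by_contra hqU
    exact Set.disjoint_left.1 (hd.closure_left hB) (closure_mono Set.inter_subset_left hq.1) (hLB ⟨hq.2, hqU⟩)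
  choose a A hA hzA hAU hAZ using h1
  obtain ⟨s, hs⟩ := hZ.elim_finite_subcover A hA fun z hz => Set.mem_iUnion.2 ⟨⟨z, hz⟩, hzA ⟨z, hz⟩⟩
  let V0 : ι → Set X := fun i => ⋃ z ∈ s.filter (fun z => a z = i), A z
  have hcl : ∀ i, closure (V0 i) ∩ Z ⊆ U i := fun i q ⟨hq, hqZ⟩ => by
    rw [Finset.closure_biUnion] at hq
    obtain ⟨z, hz, hq⟩ := Set.mem_iUnion₂.1 hq
    exact (Finset.mem_filter.1 hz).2 ▸ hAZ z ⟨hq, hqZ⟩
  obtain ⟨V, hV, hc, hsub, hW⟩ := PtTopLib.refine_shrink hZ hZsep V0 (s.image a)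
    (fun i => isOpen_biUnion fun z _ => hA z)
    (fun i hi => by
      simp only [V0, Set.iUnion_eq_empty]
      intro z hz
      exact absurd (Finset.mem_image.2 ⟨z, (Finset.mem_filter.1 hz).1, (Finset.mem_filter.1 hz).2⟩) hi)
    (fun z hz => by
      obtain ⟨w, hw, hzw⟩ := Set.mem_iUnion₂.1 (hs hz)
      exact Set.mem_iUnion.2 ⟨a w, Set.mem_iUnion₂.2 ⟨w, Finset.mem_filter.2 ⟨hw, rfl⟩, hzw⟩⟩)
    p W hWo (fun t q hq => ((hWZ t).symm ▸ (⟨Set.mem_iInter.2 fun l =>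
      hcl _ ⟨Set.mem_iInter.1 hq.1 l, hq.2⟩, hq.2⟩ : q ∈ (⋂ l, U (t l)) ∩ Z) : q ∈ W t ∩ Z).1)
  refine ⟨V, hV, hc, fun i => (hsub i).trans (Set.iUnion₂_subset fun z hz => (Finset.mem_filter.1 hz).2 ▸ hAU z),
    fun i q hq => hcl i ⟨closure_mono (hsub i) hq.1, hq.2⟩, hW⟩

end Groth.Agent.S7570
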