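import Groth.Statements.S7574
import Groth.Agent.SheafEmb.Basic

set_option autoImplicit false
set_option backward.isDefEq.respectTransparency false
set_option backward.isDefEq.respectTransparency.types false
universe u
open CategoryTheory TopologicalSpace
open ShSp

namespace Groth.Agent.S7574

/-- Let X be a topological space, U ⊆ X open and j_! : Sh(U) → Sh(X) a left adjoint of restriction of
sheaves of sets to U. Then j_! is fully faithful, and a sheaf G on X lies in its essential image if
and only if G_x = ∅ for all x ∈ X not in U. -/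
theorem result {X : TopCat.{u}} (U : Opens X)
    (L : (TopCat.of U).Sheaf (Type u) ⥤ X.Sheaf (Type u)) (adj : L ⊣ U.sheafRestrict (C := Type u)) :
    L.Full ∧ L.Faithful ∧
    ∀ G : X.Sheaf (Type u), L.essImage G ↔ ∀ x : X, x ∉ U → IsEmpty (G.presheaf.stalk x) := by
  have hemb : Topology.IsOpenEmbedding (TopCat.Hom.hom (TopCat.ofHom ⟨((↑) : U → X), continuous_subtype_val⟩)) :=
    U.isOpenEmbedding
  let j : TopCat.of U ⟶ X := TopCat.ofHom ⟨((↑) : U → X), continuous_subtype_val⟩
  haveI : hemb.isOpenMap.functor.IsContinuous (Opens.grothendieckTopology (TopCat.of U)) (Opens.grothendieckTopology X) :=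
    hemb.functor_isContinuous
  haveI : (TopologicalSpace.Opens.map (TopCat.ofHom ⟨((↑) : U → X), continuous_subtype_val⟩)).IsContinuous
      (Opens.grothendieckTopology X) (Opens.grothendieckTopology U) :=
    (fun {Z : TopCat.{u}} (f : Z ⟶ X) => (inferInstance : (TopologicalSpace.Opens.map f).IsContinuous (Opens.grothendieckTopology X) (Opens.grothendieckTopology Z))) j
  let adj₂ : U.sheafRestrict (C := Type u) ⊣ TopCat.Sheaf.pushforward (Type u) j :=
    CategoryTheory.Adjunction.sheafPushforwardContinuous (E := Type u) hemb.isOpenMap.adjunction _ _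
  obtain ⟨h1, h2⟩ := SheafEmb.pushforward_full_faithful (A := Type u) j hemb.isInducing
  haveI := h1; haveI := h2
  let T : CategoryTheory.Adjunction.Triple L (U.sheafRestrict (C := Type u)) (TopCat.Sheaf.pushforward (Type u) j) :=
    { adj₁ := adj, adj₂ := adj₂ }
  haveI hu : IsIso adj.unit := T.isIso_unit_iff_isIso_counit.2 inferInstance
  let hff : L.FullyFaithful := adj.fullyFaithfulLOfIsIsoUnit
  refine ⟨hff.full, hff.faithful, fun G => ⟨?_, fun hG => ?_⟩⟩
  · rintro ⟨F, ⟨e⟩⟩ x hx
    have hsheaf : TopCat.Presheaf.IsSheaf (X := X)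
        ({ obj := fun V => ULift.{u} (PLift (V.unop ≤ U))
           map := fun {V W} f => TypeCat.ofHom fun h => ⟨⟨(leOfHom f.unop).trans h.down.down⟩⟩ } : TopCat.Presheaf (Type u) X) := by
      refine TopCat.Presheaf.isSheaf_of_isSheafUniqueGluing_types _ fun ι W sf _ => ?_
      exact ⟨⟨⟨iSup_le fun k => (sf k).down.down⟩⟩, fun k => rfl, fun y _ => rfl⟩
    let H : X.Sheaf (Type u) := ⟨_, hsheaf⟩
    let t : F ⟶ (U.sheafRestrict (C := Type u)).obj H :=
      ⟨{ app := fun V => TypeCat.ofHom fun _ => ⟨⟨by
          rintro _ ⟨z, _, rfl⟩; exact z.2⟩⟩ }⟩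
    let q : G ⟶ H := e.inv ≫ (adj.homEquiv F H).symm t
    refine ⟨fun s => ?_⟩
    obtain ⟨V, hxV, a, -⟩ := G.presheaf.exists_germ_eq s
    exact hx ((q.1.app (Opposite.op V) a).down.down hxV)
  · haveI : IsIso (adj.counit.app G) := by
      haveI : IsIso ((U.sheafRestrict (C := Type u)).map (adj.counit.app G)) := by
        exact IsIso.of_isIso_fac_left (adj.right_triangle_components G)
      haveI : ∀ x, IsIso ((TopCat.Presheaf.stalkFunctor (Type u) x).map (adj.counit.app G).1) := by
        intro x
        by_cases hx : x ∈ U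
        · haveI : IsIso (((U.sheafRestrict (C := Type u)).map (adj.counit.app G)).1) :=
            (TopCat.Sheaf.forget (Type u) (TopCat.of U)).map_isIso ((U.sheafRestrict (C := Type u)).map (adj.counit.app G))
          have hsec : ∀ V : TopologicalSpace.Opens X, V ≤ U →
              Function.Bijective ((adj.counit.app G).1.app (Opposite.op V)) := by
            intro V hV
            have h := (isIso_iff_bijective _).1 (inferInstance : IsIso
              (((U.sheafRestrict (C := Type u)).map (adj.counit.app G)).1.app
                (Opposite.op ((TopologicalSpace.Opens.map j).obj V))))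
            change Function.Bijective ((adj.counit.app G).1.app
              (Opposite.op (hemb.isOpenMap.functor.obj ((TopologicalSpace.Opens.map j).obj V)))) at h
            rwa [show hemb.isOpenMap.functor.obj ((TopologicalSpace.Opens.map j).obj V) = V from
              TopologicalSpace.Opens.ext (Set.image_preimage_eq_of_subset (fun y hy => ⟨⟨y, hV hy⟩, rfl⟩))] at h
          rw [isIso_iff_bijective]
          constructor
          · intro s t e
            obtain ⟨V, hxV, a, rfl⟩ := (L.obj ((U.sheafRestrict (C := Type u)).obj G)).presheaf.exists_germ_eq s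
            obtain ⟨W, hxW, b, rfl⟩ := (L.obj ((U.sheafRestrict (C := Type u)).obj G)).presheaf.exists_germ_eq t
            replace e := (TopCat.Presheaf.stalkFunctor_map_germ_apply V x hxV (adj.counit.app G).1 a).symm.trans
              (e.trans (TopCat.Presheaf.stalkFunctor_map_germ_apply W x hxW (adj.counit.app G).1 b))
            obtain ⟨Y, hxY, i₁, i₂, e'⟩ := TopCat.Presheaf.germ_eq _ x hxV hxW _ _ e
            rw [← NatTrans.naturality_apply, ← NatTrans.naturality_apply] at e'
            have e'' := congrArg (G.presheaf.map (homOfLE (inf_le_left : Y ⊓ U ≤ Y)).op) e'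
            have h3 := (hsec (Y ⊓ U) inf_le_right).1
              ((NatTrans.naturality_apply (adj.counit.app G).1 _ _).trans (e''.trans (NatTrans.naturality_apply (adj.counit.app G).1 _ _).symm))
            rw [← TopCat.Presheaf.germ_res_apply _ i₁ x hxY a, ← TopCat.Presheaf.germ_res_apply _ i₂ x hxY b,
              ← TopCat.Presheaf.germ_res_apply _ (homOfLE (inf_le_left : Y ⊓ U ≤ Y)) x ⟨hxY, hx⟩ _,
              ← TopCat.Presheaf.germ_res_apply _ (homOfLE (inf_le_left : Y ⊓ U ≤ Y)) x ⟨hxY, hx⟩ _]
            exact congrArg _ h3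
          · intro t
            obtain ⟨V, hxV, a, rfl⟩ := G.presheaf.exists_germ_eq t
            obtain ⟨b, hb⟩ := (hsec (V ⊓ U) inf_le_right).2 (G.presheaf.map (homOfLE inf_le_left).op a)
            refine ⟨(L.obj ((U.sheafRestrict (C := Type u)).obj G)).presheaf.germ (V ⊓ U) x ⟨hxV, hx⟩ b, ?_⟩
            refine (TopCat.Presheaf.stalkFunctor_map_germ_apply (V ⊓ U) x ⟨hxV, hx⟩ (adj.counit.app G).1 b).trans ?_
            exact (congrArg _ hb).trans (TopCat.Presheaf.germ_res_apply _ _ _ _ _)
        · rw [isIso_iff_bijective]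
          have hG' := hG x hx
          exact ⟨fun s _ _ => (hG'.false ((TopCat.Presheaf.stalkFunctor (Type u) x).map (adj.counit.app G).1 s)).elim,
            fun t => (hG'.false t).elim⟩
      exact TopCat.Presheaf.isIso_of_stalkFunctor_map_iso _
    exact ⟨_, ⟨asIso (adj.counit.app G)⟩⟩

end Groth.Agent.S7574
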