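import Groth.Statements.S7575
import Mathlib

set_option autoImplicit false
universe u
open CategoryTheory CategoryTheory.Limits TopologicalSpace Opposite
open ShSp

namespace Groth.Agent.S7575

/-- Let X be a topological space, I a directed set, (F_i) a system of sheaves of sets on X over I with
colimit F (in sheaves), U ⊆ X open, and Ψ : colim_i F_i(U) → F(U) the canonical map. (1) If all
transition maps F_i → F_{i'} are injective (on all sections) then Ψ is injective. (2)
Quasi-compactness of U alone already makes Ψ injective. (3) When U is quasi-compact and every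
transition map is injective, Ψ is bijective. (4) If every open covering of U can be refined by a
finite open covering U = U_1 ∪ … ∪ U_m with all U_j ∩ U_{j'} quasi-compact, then Ψ is bijective. -/
theorem result {X : TopCat.{u}} {J : Type u} [Preorder J] [Nonempty J] [IsDirected J (· ≤ ·)]
    (F : J ⥤ X.Sheaf (Type u)) (c : Cocone F) (hc : IsColimit c) (U : Opens X) :
    let ev := TopCat.Sheaf.forget (Type u) X ⋙ (evaluation (Opens X)ᵒᵖ (Type u)).obj (op U)
    let Ψ : colimit (F ⋙ ev) → ev.obj c.pt := colimit.desc (F ⋙ ev) (ev.mapCocone c)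
    ((∀ (i j : J) (h : i ⟶ j) (V : Opens X), Function.Injective ((F.map h).1.app (op V))) → Function.Injective Ψ) ∧
    (IsCompact (U : Set X) → Function.Injective Ψ) ∧
    (IsCompact (U : Set X) → (∀ (i j : J) (h : i ⟶ j) (V : Opens X), Function.Injective ((F.map h).1.app (op V))) →
      Function.Bijective Ψ) ∧
    ((∀ 𝒱 : Set (Opens X), (⨆ V ∈ 𝒱, V) = U →
        ∃ (m : ℕ) (W : Fin m → Opens X), (∀ j, ∃ V ∈ 𝒱, W j ≤ V) ∧ (⨆ j, W j) = U ∧
          ∀ j j', IsCompact ((W j ⊓ W j' : Opens X) : Set X)) →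
      Function.Bijective Ψ) := by
  intro ev Ψ
  classical
  haveI hfilt : IsFiltered J := inferInstance
  have hι : ∀ (i : J) (s : (F.obj i).presheaf.obj (Opposite.op U)),
      Ψ (colimit.ι (F ⋙ ev) i s) = (c.ι.app i).1.app (Opposite.op U) s := fun i s => by
    change (colimit.ι (F ⋙ ev) i ≫ colimit.desc (F ⋙ ev) (ev.mapCocone c)) s = _
    rw [colimit.ι_desc]
    rfl
  have hcw : ∀ {i k : J} (h : i ⟶ k) (V : TopologicalSpace.Opens X) (s : (F.obj i).presheaf.obj (Opposite.op V)),
      (c.ι.app k).1.app (Opposite.op V) ((F.map h).1.app (Opposite.op V) s) = (c.ι.app i).1.app (Opposite.op V) s :=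
    fun {i k} h V s => by
      change ((F.map h) ≫ c.ι.app k).1.app (Opposite.op V) s = _
      rw [c.w h]
  have hst : ∀ x : X, IsColimit ((TopCat.Sheaf.forget (Type u) X ⋙ TopCat.Presheaf.stalkFunctor (Type u) x).mapCocone c) :=
    fun x => isColimitOfPreserves _ hc
  -- local existence
  have hloc : ∀ (V : TopologicalSpace.Opens X) (t : c.pt.presheaf.obj (Opposite.op V)) (x : X), x ∈ V →
      ∃ (W : TopologicalSpace.Opens X) (hW : W ≤ V) (_ : x ∈ W) (i : J) (s : (F.obj i).presheaf.obj (Opposite.op W)),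
        (c.ι.app i).1.app (Opposite.op W) s = c.pt.presheaf.map (homOfLE hW).op t := by
    intro V t x hx
    obtain ⟨i, z, hz⟩ := Types.jointly_surjective _ (hst x) (c.pt.presheaf.germ V x hx t)
    obtain ⟨W, hxW, s, rfl⟩ := (F.obj i).presheaf.exists_germ_eq (x := x) z
    have e := (TopCat.Presheaf.stalkFunctor_map_germ_apply W x hxW (c.ι.app i).1 s).symm.trans hz
    obtain ⟨W', hxW', i₁, i₂, e'⟩ := c.pt.presheaf.germ_eq x hxW hx _ _ e
    exact ⟨W', leOfHom i₂, hxW', i, (F.obj i).presheaf.map i₁.op s,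
      (NatTrans.naturality_apply (c.ι.app i).1 i₁.op s).trans e'⟩
  -- local equality at a common stage
  have heq : ∀ (V : TopologicalSpace.Opens X) (i : J) (s t : (F.obj i).presheaf.obj (Opposite.op V)),
      (c.ι.app i).1.app (Opposite.op V) s = (c.ι.app i).1.app (Opposite.op V) t → ∀ x ∈ V,
      ∃ (W : TopologicalSpace.Opens X) (hW : W ≤ V) (_ : x ∈ W) (k : J) (h : i ⟶ k),
        (F.obj k).presheaf.map (homOfLE hW).op ((F.map h).1.app (Opposite.op V) s) =
          (F.obj k).presheaf.map (homOfLE hW).op ((F.map h).1.app (Opposite.op V) t) := by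
    intro V i s t e x hx
    have e2 : ((TopCat.Sheaf.forget (Type u) X ⋙ TopCat.Presheaf.stalkFunctor (Type u) x).mapCocone c).ι.app i
        ((F.obj i).presheaf.germ V x hx s) = ((TopCat.Sheaf.forget (Type u) X ⋙ TopCat.Presheaf.stalkFunctor (Type u) x).mapCocone c).ι.app i
        ((F.obj i).presheaf.germ V x hx t) :=
      (TopCat.Presheaf.stalkFunctor_map_germ_apply V x hx (c.ι.app i).1 s).trans
        ((congrArg (c.pt.presheaf.germ V x hx) e).trans
          (TopCat.Presheaf.stalkFunctor_map_germ_apply V x hx (c.ι.app i).1 t).symm)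
    obtain ⟨k, f, g, e3⟩ := (Types.FilteredColimit.isColimit_eq_iff _ (hst x)).1 e2
    obtain rfl : f = g := Subsingleton.elim _ _
    have e4 := (TopCat.Presheaf.stalkFunctor_map_germ_apply V x hx (F.map f).1 s).symm.trans
      (e3.trans (TopCat.Presheaf.stalkFunctor_map_germ_apply V x hx (F.map f).1 t))
    obtain ⟨W, hxW, i₁, i₂, e5⟩ := (F.obj k).presheaf.germ_eq x hx hx _ _ e4
    exact ⟨W, leOfHom i₁, hxW, k, f, e5⟩
  have hstep : ∀ {i k l : J} (h : i ⟶ k) (h' : k ⟶ l) (V : TopologicalSpace.Opens X) (s : (F.obj i).presheaf.obj (Opposite.op V)),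
      (F.map h').1.app (Opposite.op V) ((F.map h).1.app (Opposite.op V) s) = (F.map (h ≫ h')).1.app (Opposite.op V) s :=
    fun h h' V s => by rw [F.map_comp]; rfl
  let Inj := ∀ (i j : J) (h : i ⟶ j) (V : TopologicalSpace.Opens X), Function.Injective ((F.map h).1.app (Opposite.op V))
  let Agree := fun (V : TopologicalSpace.Opens X) => ∀ (i : J) (s t : (F.obj i).presheaf.obj (Opposite.op V)),
      (c.ι.app i).1.app (Opposite.op V) s = (c.ι.app i).1.app (Opposite.op V) t →
      ∃ (k : J) (h : i ⟶ k), (F.map h).1.app (Opposite.op V) s = (F.map h).1.app (Opposite.op V) t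
  have hbound : ∀ {α : Type u} (S : Finset α) (f : α → J) (i : J),
      ∃ (k : J) (_ : i ⟶ k), ∀ a ∈ S, Nonempty (f a ⟶ k) := by
    intro α S f i
    induction S using Finset.induction_on with
    | empty => exact ⟨i, 𝟙 i, by simp⟩
    | insert a S _ ih =>
      obtain ⟨k, h, hk⟩ := ih
      refine ⟨IsFiltered.max k (f a), h ≫ IsFiltered.leftToMax _ _, fun b hb => ?_⟩
      rcases Finset.mem_insert.1 hb with rfl | hb
      · exact ⟨IsFiltered.rightToMax _ _⟩
      · exact ⟨(hk b hb).some ≫ IsFiltered.leftToMax _ _⟩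
  have agreeInj : Inj → ∀ V, Agree V := by
    intro hinj V i s t e
    refine ⟨i, 𝟙 i, ?_⟩
    have : s = t := (F.obj i).eq_of_locally_eq' (fun x : V => (heq V i s t e x.1 x.2).choose) V
      (fun x => homOfLE (heq V i s t e x.1 x.2).choose_spec.choose)
      (fun x hx => TopologicalSpace.Opens.mem_iSup.2 ⟨⟨x, hx⟩, (heq V i s t e x hx).choose_spec.choose_spec.choose⟩) s t
      fun x => by
        obtain ⟨k, h, e'⟩ := (heq V i s t e x.1 x.2).choose_spec.choose_spec.choose_spec
        rw [← NatTrans.naturality_apply, ← NatTrans.naturality_apply] at e'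
        exact hinj _ _ h _ e'
    rw [this]
  have agreeCpt : ∀ V : TopologicalSpace.Opens X, IsCompact (V : Set X) → Agree V := by
    intro V hV i s t e
    choose W hW hxW k h e' using fun x : V => heq V i s t e x.1 x.2
    obtain ⟨S, hS⟩ := hV.elim_finite_subcover (fun x : V => (W x : Set X)) (fun x => (W x).2)
      (fun x hx => Set.mem_iUnion.2 ⟨⟨x, hx⟩, hxW ⟨x, hx⟩⟩)
    obtain ⟨l, hl, hkl⟩ := hbound S k i
    refine ⟨l, hl, (F.obj l).eq_of_locally_eq' (fun x : S => W x.1) V (fun x => homOfLE (hW x.1))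
      (fun x hx => by
        obtain ⟨y, hy, hxy⟩ := Set.mem_iUnion₂.1 (hS hx)
        exact TopologicalSpace.Opens.mem_iSup.2 ⟨⟨y, hy⟩, hxy⟩) _ _ fun x => ?_⟩
    obtain ⟨q⟩ := hkl x.1 x.2
    obtain rfl : hl = h x.1 ≫ q := Subsingleton.elim _ _
    have e2 := congrArg ((F.map q).1.app (Opposite.op (W x.1))) (e' x.1)
    rw [NatTrans.naturality_apply, NatTrans.naturality_apply, hstep, hstep] at e2
    exact e2
  have injΨ : Agree U → Function.Injective Ψ := by
    intro hA a b e
    obtain ⟨i, s, rfl⟩ := Types.jointly_surjective' a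
    obtain ⟨j, t, rfl⟩ := Types.jointly_surjective' b
    rw [hι, hι] at e
    have e' : (c.ι.app (IsFiltered.max i j)).1.app (Opposite.op U) ((F.map (IsFiltered.leftToMax i j)).1.app (Opposite.op U) s) =
        (c.ι.app (IsFiltered.max i j)).1.app (Opposite.op U) ((F.map (IsFiltered.rightToMax i j)).1.app (Opposite.op U) t) := by
      rw [hcw, hcw]; exact e
    obtain ⟨k, h, hk⟩ := hA _ _ _ e'
    rw [hstep, hstep] at hk
    exact (Types.FilteredColimit.colimit_eq_iff (F ⋙ ev)).2 ⟨k, _, _, hk⟩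
  have surjΨ : ∀ (t : c.pt.presheaf.obj (Opposite.op U)) (m : Type u) [Finite m] (W : m → TopologicalSpace.Opens X)
      (hWU : ∀ a, W a ≤ U) (i : m → J) (s : ∀ a, (F.obj (i a)).presheaf.obj (Opposite.op (W a))),
      (∀ a, (c.ι.app (i a)).1.app (Opposite.op (W a)) (s a) = c.pt.presheaf.map (homOfLE (hWU a)).op t) →
      (U ≤ ⨆ a, W a) → (∀ a b, Agree (W a ⊓ W b)) → ∃ z, Ψ z = t := by
    intro t m _ W hWU i s hs hcov hA
    haveI := Fintype.ofFinite m
    obtain ⟨i₀, -, hi₀⟩ := hbound (Finset.univ : Finset m) i (Classical.arbitrary J)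
    let r : ∀ a, i a ⟶ i₀ := fun a => (hi₀ a (Finset.mem_univ a)).some
    have hagree : ∀ p : m × m, ∃ (k : J) (h : i₀ ⟶ k),
        (F.map h).1.app (Opposite.op (W p.1 ⊓ W p.2)) ((F.obj i₀).presheaf.map (homOfLE inf_le_left).op ((F.map (r p.1)).1.app (Opposite.op (W p.1)) (s p.1))) =
        (F.map h).1.app (Opposite.op (W p.1 ⊓ W p.2)) ((F.obj i₀).presheaf.map (homOfLE inf_le_right).op ((F.map (r p.2)).1.app (Opposite.op (W p.2)) (s p.2))) := by
      intro p
      refine hA p.1 p.2 i₀ _ _ ?_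
      rw [NatTrans.naturality_apply, NatTrans.naturality_apply, hcw, hcw, hs, hs]
      change (c.pt.presheaf.map _ ≫ c.pt.presheaf.map _) t = (c.pt.presheaf.map _ ≫ c.pt.presheaf.map _) t
      rw [← c.pt.presheaf.map_comp, ← c.pt.presheaf.map_comp]
      rfl
    choose k hk hke using hagree
    obtain ⟨l, hl, hkl⟩ := hbound (Finset.univ : Finset (m × m)) k i₀
    let σ : ∀ a, (F.obj l).presheaf.obj (Opposite.op (W a)) := fun a =>
      (F.map hl).1.app (Opposite.op (W a)) ((F.map (r a)).1.app (Opposite.op (W a)) (s a))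
    obtain ⟨u, hu, -⟩ := (F.obj l).existsUnique_gluing' W U (fun a => homOfLE (hWU a)) hcov σ (fun a b => by
      obtain ⟨q⟩ := hkl (a, b) (Finset.mem_univ _)
      obtain rfl : hl = hk (a, b) ≫ q := Subsingleton.elim _ _
      have e2 := congrArg ((F.map q).1.app (Opposite.op (W a ⊓ W b))) (hke (a, b))
      rw [hstep, hstep, NatTrans.naturality_apply, NatTrans.naturality_apply] at e2
      exact e2)
    refine ⟨colimit.ι (F ⋙ ev) l u, (hι l u).trans ?_⟩
    refine c.pt.eq_of_locally_eq' W U (fun a => homOfLE (hWU a)) hcov _ _ fun a => ?_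
    rw [← NatTrans.naturality_apply, hu a, hcw, hcw, hs a]
  refine ⟨fun hinj => injΨ (agreeInj hinj U), fun hU => injΨ (agreeCpt U hU), fun hU hinj => ⟨injΨ (agreeCpt U hU), fun t => ?_⟩,
    fun hcov => ?_⟩
  · choose W hW hxW i s hs using fun x : U => hloc U t x.1 x.2
    obtain ⟨S, hS⟩ := hU.elim_finite_subcover (fun x : U => (W x : Set X)) (fun x => (W x).2)
      (fun x hx => Set.mem_iUnion.2 ⟨⟨x, hx⟩, hxW ⟨x, hx⟩⟩)
    exact surjΨ t S (fun a => W a.1) (fun a => hW a.1) (fun a => i a.1) (fun a => s a.1) (fun a => hs a.1)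
      (fun x hx => by
        obtain ⟨y, hy, hxy⟩ := Set.mem_iUnion₂.1 (hS hx)
        exact TopologicalSpace.Opens.mem_iSup.2 ⟨⟨y, hy⟩, hxy⟩)
      (fun a b => agreeInj hinj _)
  · have hUc : IsCompact (U : Set X) := by
      obtain ⟨m, W, -, hU', hc'⟩ := hcov {U} (by simp)
      rw [← hU', TopologicalSpace.Opens.coe_iSup]
      exact isCompact_iUnion fun j => by simpa using hc' j j
    refine ⟨injΨ (agreeCpt U hUc), fun t => ?_⟩
    obtain ⟨m, W, href, hU', hc'⟩ := hcov {V | ∃ (hV : V ≤ U) (i : J) (s : (F.obj i).presheaf.obj (Opposite.op V)),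
        (c.ι.app i).1.app (Opposite.op V) s = c.pt.presheaf.map (homOfLE hV).op t} (le_antisymm
      (iSup₂_le fun V hV => hV.1) (fun x hx => by
        obtain ⟨W, hW, hxW, i, s, hs⟩ := hloc U t x hx
        exact TopologicalSpace.Opens.mem_iSup.2 ⟨W, TopologicalSpace.Opens.mem_iSup.2 ⟨⟨hW, i, s, hs⟩, hxW⟩⟩))
    choose V hV hWV using href
    choose hVU i s hs using hV
    refine surjΨ t (ULift.{u} (Fin m)) (fun a => W a.down) (fun a => (hWV a.down).trans (hVU a.down)) (fun a => i a.down)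
      (fun a => (F.obj (i a.down)).presheaf.map (homOfLE (hWV a.down)).op (s a.down)) (fun a => ?_)
      (fun x hx => by
        rw [← hU'] at hx
        obtain ⟨j, hj⟩ := TopologicalSpace.Opens.mem_iSup.1 hx
        exact TopologicalSpace.Opens.mem_iSup.2 ⟨⟨j⟩, hj⟩)
      (fun a b => agreeCpt _ (hc' a.down b.down))
    rw [NatTrans.naturality_apply, hs]
    change (c.pt.presheaf.map _ ≫ c.pt.presheaf.map _) t = _
    rw [← c.pt.presheaf.map_comp]
    rfl

end Groth.Agent.S7575
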