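import Groth.Statements.S7577
import Groth.Agent.DimFun.Basic
import Mathlib

set_option autoImplicit false
universe u
open PtTop

namespace Groth.Agent.S7577

/-- Let X be a sober topological space and δ : X → ℤ a dimension function. Then X is catenary, and for
any specialization x ⤳ y the codimension of the closure of {y} in the closure of {x} equals δ(x) −
δ(y). -/
theorem result {X : Type u} [TopologicalSpace X] [QuasiSober X] [T0Space X]
    (δ : X → ℤ) (hδ : PtTop.IsDimensionFunction δ) :
    PtTop.IsCatenarySpace X ∧
    ∀ x y : X, x ⤳ y →
      PtTop.codim (⟨closure {y}, isIrreducible_singleton.closure, isClosed_closure⟩ : TopologicalSpace.IrreducibleCloseds X)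
        (closure {x}) = ((δ x - δ y).toNat : ℕ∞) := by
  have hcat := (Catenary.isCatenarySpace_iff _).mpr (DimFun.isCat_of_dimensionFunction hδ)
  refine ⟨hcat, fun x y hxy => ?_⟩
  let T : TopologicalSpace.IrreducibleCloseds X := DimFun.cl y
  let T' : TopologicalSpace.IrreducibleCloseds X := DimFun.cl x
  have hle : T ≤ T' := closure_minimal (Set.singleton_subset_iff.mpr hxy.mem_closure) isClosed_closure
  obtain ⟨s, hs1, hs2, hs, -⟩ := Catenary.exists_sat (DimFun.isCat_of_dimensionFunction hδ) hle
  show PtTop.codim T (T' : Set X) = _
  rw [← (hcat T T' hle).2 s hs1 hs2 hs]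
  have key : ∀ i : Fin (s.length + 1),
      δ (irreducibleSetEquivPoints (s i)) = δ (irreducibleSetEquivPoints s.head) + (i : ℕ) := by
    intro i
    induction i using Fin.induction with
    | zero => simp [RelSeries.head]
    | succ i ih =>
      rw [hδ.2 _ _ (DimFun.isImmediate_of_covBy (hs i)), ih]
      simp [add_assoc]
  have hpt : ∀ z : X, irreducibleSetEquivPoints (DimFun.cl z) = z := fun z =>
    letI : PartialOrder X := specializationOrder X
    (irreducibleSetEquivPoints (α := X)).apply_symm_apply z
  have := key (Fin.last _)
  rw [← RelSeries.last, hs1, hs2, hpt, hpt, Fin.val_last] at this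
  congr 1
  omega

end Groth.Agent.S7577
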