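import Groth.Statements.S7578
import Mathlib

set_option linter.style.haveILetI false

set_option autoImplicit false
universe u
open PtTop

namespace Groth.Agent.S7578

/-- Let X be a topological space which is locally Noetherian (every point has a Noetherian
neighbourhood) and sober, and let δ, δ' be two dimension functions on X. Then δ − δ' is locally
constant. -/
theorem result {X : Type u} [TopologicalSpace X] [QuasiSober X] [T0Space X]
    (hX : ∀ x : X, ∃ E ∈ nhds x, TopologicalSpace.NoetherianSpace E)
    (δ δ' : X → ℤ) (hδ : PtTop.IsDimensionFunction δ) (hδ' : PtTop.IsDimensionFunction δ') :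
    IsLocallyConstant (fun x => δ x - δ' x) := by
  have step : ∀ (N : ℕ) (a b : X), a ⤳ b → δ a - δ b ≤ N → δ a - δ' a = δ b - δ' b := by
    intro N
    induction N with
    | zero =>
      intro a b hab hN
      by_cases h : a = b
      · rw [h]
      · have := hδ.1 a b hab h
        omega
    | succ N ih =>
      intro a b hab hN
      by_cases h : a = b
      · rw [h]
      by_cases hz : ∃ z, a ⤳ z ∧ z ⤳ b ∧ z ≠ a ∧ z ≠ b
      · obtain ⟨z, haz, hzb, hza, hzb'⟩ := hz
        have h1 := hδ.1 a z haz hza.symm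
        have h2 := hδ.1 z b hzb hzb'
        rw [ih a z haz (by omega), ih z b hzb (by omega)]
      · have himm : PtTop.IsImmediateSpecialization a b := ⟨hab, h, fun z h1 h2 => by
          by_contra hc
          push Not at hc
          exact hz ⟨z, h1, h2, hc.1, hc.2⟩⟩
        rw [hδ.2 a b himm, hδ'.2 a b himm]
        ring
  have step' : ∀ a b : X, a ⤳ b → δ a - δ' a = δ b - δ' b := fun a b h =>
    step (δ a - δ b).toNat a b h (Int.self_le_toNat _)
  refine (IsLocallyConstant.iff_exists_open _).mpr fun x => ?_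
  obtain ⟨E, hE, hN⟩ := hX x
  obtain ⟨U, hUE, hU, hxU⟩ := mem_nhds_iff.mp hE
  haveI : TopologicalSpace.NoetherianSpace U := (Topology.IsEmbedding.inclusion hUE).isInducing.noetherianSpace
  haveI : QuasiSober U := hU.isOpenEmbedding_subtypeVal.quasiSober
  let bad : Set (Set U) := {Z | Z ∈ irreducibleComponents U ∧ (⟨x, hxU⟩ : U) ∉ Z}
  have hbad : IsClosed (⋃₀ bad) := by
    rw [Set.sUnion_eq_biUnion]
    exact (TopologicalSpace.NoetherianSpace.finite_irreducibleComponents.subset fun Z hZ => hZ.1).isClosed_biUnion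
      fun Z hZ => isClosed_of_mem_irreducibleComponents Z hZ.1
  refine ⟨Subtype.val '' (⋃₀ bad)ᶜ, hU.isOpenMap_subtype_val _ hbad.isOpen_compl,
    ⟨⟨x, hxU⟩, fun ⟨Z, hZ, hxZ⟩ => hZ.2 hxZ, rfl⟩, ?_⟩
  rintro _ ⟨y, hy, rfl⟩
  have hxC : (⟨x, hxU⟩ : U) ∈ irreducibleComponent y := by
    by_contra hc
    exact hy ⟨_, ⟨irreducibleComponent_mem_irreducibleComponents y, hc⟩, mem_irreducibleComponent⟩
  obtain ⟨ξ, hξ⟩ := QuasiSober.sober (isIrreducible_irreducibleComponent (x := y)) isClosed_irreducibleComponent
  have h1 := step' ξ y ((hξ.specializes mem_irreducibleComponent).map continuous_subtype_val)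
  have h2 := step' ξ x ((hξ.specializes hxC).map continuous_subtype_val)
  show δ y - δ' y = δ x - δ' x
  rw [← h1, ← h2]

end Groth.Agent.S7578
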