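import Groth.Statements.S7579
import Groth.Agent.SpecSpLib.Basic

set_option autoImplicit false
universe u
open SpecSp

namespace Groth.Agent.S7579

/-- Let X be a spectral space. Then X with its constructible topology is Hausdorff and totally
disconnected. The published statement also asserts that the constructible topology is quasi-compact;
this row states the Hausdorff and totally disconnected parts. -/
theorem result (X : Type u) [TopologicalSpace X] [SpectralSpace X] :
    T2Space (WithConstructibleTopology X) ∧ TotallyDisconnectedSpace (WithConstructibleTopology X) := by
  haveI h1 : @T2Space X (constructibleTopology X) := ConsTop.t2Space_cons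
  haveI h2 := ConsTop.totallySeparatedSpace_cons (X := X)
  have hc := WithTopology.continuous_ofTopology (constructibleTopology X)
  have hi := WithTopology.ofTopology_injective (constructibleTopology X)
  refine ⟨@T2Space.of_injective_continuous _ _ _ (constructibleTopology X) h1 _ hi hc,
    ⟨fun t _ ht a ha b hb => ?_⟩⟩
  have hsub : (WithTopology.ofTopology '' t).Subsingleton :=
    (@TotallySeparatedSpace.totallyDisconnectedSpace X (constructibleTopology X) h2).isTotallyDisconnected_univ _
      (Set.subset_univ _) (@IsPreconnected.image _ X _ (constructibleTopology X) t ht _
        (@Continuous.continuousOn _ X _ (constructibleTopology X) _ _ hc))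
  exact hi (hsub (Set.mem_image_of_mem _ ha) (Set.mem_image_of_mem _ hb))

end Groth.Agent.S7579
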