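import Groth.Statements.S7581
import Mathlib
import Groth.Agent.Catenary.Space

set_option linter.style.haveILetI false

set_option autoImplicit false
universe u
open PtTop

namespace Groth.Agent.S7581

open Groth.Agent.Catenary


/-- Let X be a topological space. Then X is catenary if and only if for every pair of irreducible closed
subsets Y ⊆ Y' the codimension codim(Y, Y') is finite and for every triple Y ⊆ Y' ⊆ Y'' of
irreducible closed subsets codim(Y, Y'') = codim(Y, Y') + codim(Y', Y''). -/
theorem result (X : Type u) [TopologicalSpace X] :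
    PtTop.IsCatenarySpace X ↔
      (∀ Y Y' : TopologicalSpace.IrreducibleCloseds X, Y ≤ Y' → PtTop.codim Y (Y' : Set X) ≠ ⊤) ∧
      (∀ Y Y' Y'' : TopologicalSpace.IrreducibleCloseds X, Y ≤ Y' → Y' ≤ Y'' →
        PtTop.codim Y (Y'' : Set X) = PtTop.codim Y (Y' : Set X) + PtTop.codim Y' (Y'' : Set X)) := by
  constructor
  · intro h
    have hc := (isCatenarySpace_iff X).mp h
    refine ⟨fun Y Y' hle => (h Y Y' hle).1, fun Y Y' Y'' h1 h2 => ?_⟩
    obtain ⟨s, hs1, hs2, hs, -⟩ := exists_sat hc h1
    obtain ⟨t, ht1, ht2, ht, -⟩ := exists_sat hc h2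
    have e := hs2.trans ht1.symm
    have h3 := (h Y Y'' (h1.trans h2)).2 (RelSeries.smash s t e) (by simp [hs1]) (by simp [ht2])
      (hs.smash ht e)
    rw [← (h Y Y' h1).2 s hs1 hs2 hs, ← (h Y' Y'' h2).2 t ht1 ht2 ht, ← h3, RelSeries.smash_length]
    push_cast
    rfl
  · rintro ⟨hfin, hadd⟩ T T' hle
    refine ⟨hfin T T' hle, fun s hs1 hs2 hs => ?_⟩
    have hzero : ∀ Y : TopologicalSpace.IrreducibleCloseds X, PtTop.codim Y (Y : Set X) = 0 := by
      intro Y
      obtain ⟨n, hn⟩ := ENat.ne_top_iff_exists.mp (hfin Y Y le_rfl)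
      have h := hadd Y Y Y le_rfl le_rfl
      rw [← hn] at h ⊢
      norm_cast at h ⊢
      omega
    have hone : ∀ Y Y' : TopologicalSpace.IrreducibleCloseds X, Y ⋖ Y' → PtTop.codim Y (Y' : Set X) = 1 := by
      intro Y Y' hc
      refine le_antisymm (iSup₂_le fun r hr => ?_) (le_iSup₂_of_le ((RelSeries.singleton _ Y).snoc Y' hc.1) ⟨by simp, by simp⟩ (by simp))
      by_contra hlt
      have h2 : 2 ≤ r.length := by
        by_contra h
        exact hlt (by exact_mod_cast (show r.length ≤ 1 by omega))
      have a : r 0 < r ⟨1, by omega⟩ := r.strictMono (by simp [Fin.lt_def])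
      have b : r ⟨1, by omega⟩ < r (Fin.last r.length) := r.strictMono (by simp [Fin.lt_def]; omega)
      exact hc.2 (hr.1 ▸ a) (b.trans_le hr.2)
    have key : ∀ i : Fin (s.length + 1), ((i : ℕ) : ℕ∞) = PtTop.codim (s 0) (s i : Set X) := by
      intro i
      induction i using Fin.induction with
      | zero => simp [hzero]
      | succ i ih =>
        rw [hadd (s 0) (s i.castSucc) (s i.succ) (Groth.Agent.Catenary.head_le s i.castSucc) (hs i).le, ← ih,
          hone _ _ (hs i)]
        simp
    have := key (Fin.last _)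
    rw [show s 0 = T from hs1, show s (Fin.last _) = T' from hs2, Fin.val_last] at this
    exact this


end Groth.Agent.S7581
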