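import Groth.Statements.S7582
import Mathlib

set_option autoImplicit false
universe u
open PtTop

namespace Groth.Agent.S7582

/-- Let X be a topological space and c : X → X′ the canonical map to its soberification (X′ =
irreducible closed subsets of X, with opens the sets of those meeting a given open of X; c(x) =
closure of {x}). Then X′ is sober, c is continuous, the rule U′ ↦ c⁻¹(U′) is a bijection from the
open subsets of X′ onto the open subsets of X (it automatically respects finite intersections and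
arbitrary unions), and every continuous map from X to a sober space Y is of the form g ∘ c for a
continuous g : X′ → Y. The published statement also asserts that g is unique and that c(X) is a
Kolmogorov space universal for maps to Kolmogorov spaces; this row omits those clauses and lets Y
range over the universe of X. -/
theorem result (X : Type u) [TopologicalSpace X] :
    QuasiSober (PtTop.Sob X) ∧ T0Space (PtTop.Sob X) ∧ Continuous (PtTop.toSob X) ∧
    Set.BijOn (fun U' : Set (PtTop.Sob X) => PtTop.toSob X ⁻¹' U') {U' | IsOpen U'} {U : Set X | IsOpen U} ∧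
    ∀ (Y : Type u) [TopologicalSpace Y] [QuasiSober Y] [T0Space Y] (f : X → Y), Continuous f →
      ∃ g : PtTop.Sob X → Y, Continuous g ∧ g ∘ PtTop.toSob X = f := by
  classical
  let box : TopologicalSpace.Opens X → Set (PtTop.Sob X) := fun U =>
    {Z : TopologicalSpace.IrreducibleCloseds X | ((Z : Set X) ∩ (U : Set X)).Nonempty}
  have hboxo : ∀ U, IsOpen (box U) := fun U => TopologicalSpace.isOpen_generateFrom_of_mem ⟨U, rfl⟩
  have hboxi : ∀ U V, box U ∩ box V = box (U ⊓ V) := by
    intro U V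
    refine Set.Subset.antisymm (fun Z hZ => ?_) fun Z hZ => ⟨?_, ?_⟩
    · exact (TopologicalSpace.IrreducibleCloseds.isIrreducible Z).2 U V U.isOpen V.isOpen hZ.1 hZ.2
    · exact hZ.mono fun x hx => ⟨hx.1, hx.2.1⟩
    · exact hZ.mono fun x hx => ⟨hx.1, hx.2.2⟩
  have hboxs : ∀ {ι : Type u} (U : ι → TopologicalSpace.Opens X), (⋃ i, box (U i)) = box (⨆ i, U i) := by
    intro ι U
    refine Set.Subset.antisymm (fun Z hZ => ?_) fun Z hZ => ?_
    · obtain ⟨i, x, hx, hxU⟩ := Set.mem_iUnion.mp hZ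
      exact ⟨x, hx, TopologicalSpace.Opens.mem_iSup.mpr ⟨i, hxU⟩⟩
    · obtain ⟨x, hx, hxU⟩ := hZ
      obtain ⟨i, hi⟩ := TopologicalSpace.Opens.mem_iSup.mp hxU
      exact Set.mem_iUnion.mpr ⟨i, x, hx, hi⟩
  have hopen : ∀ W : Set (PtTop.Sob X), IsOpen W → ∃ U, W = box U := by
    intro W hW
    induction hW with
    | basic s hs => obtain ⟨U, rfl⟩ := hs; exact ⟨U, rfl⟩
    | univ =>
      refine ⟨⊤, (Set.eq_univ_of_forall fun Z => ?_).symm⟩
      obtain ⟨x, hx⟩ := (TopologicalSpace.IrreducibleCloseds.isIrreducible Z).1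
      exact ⟨x, hx, trivial⟩
    | inter s t _ _ hs ht => obtain ⟨U, rfl⟩ := hs; obtain ⟨V, rfl⟩ := ht; exact ⟨U ⊓ V, hboxi U V⟩
    | sUnion S _ ih =>
      choose U hU using ih
      refine ⟨⨆ s : S, U s.1 s.2, ?_⟩
      rw [← hboxs, Set.sUnion_eq_iUnion]
      exact Set.iUnion_congr fun s => hU s.1 s.2
  let pt : X → PtTop.Sob X := fun x => PtTop.toSob X x
  have hpt : ∀ x U, pt x ∈ box U ↔ x ∈ U := fun x U => by
    refine ⟨fun ⟨y, hy, hyU⟩ => ?_, fun h => ⟨x, subset_closure rfl, h⟩⟩
    obtain ⟨z, hz, rfl⟩ := mem_closure_iff.mp hy U U.isOpen hyU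
    exact hz
  have hT0 : T0Space (PtTop.Sob X) := by
    refine ⟨fun Z W h => ?_⟩
    have key : ∀ A B : TopologicalSpace.IrreducibleCloseds X, (∀ U, A ∈ box U → B ∈ box U) → A ≤ B := by
      intro A B hAB x hx
      by_contra hxB
      obtain ⟨y, hy, hy'⟩ := hAB ⟨(B : Set X)ᶜ, B.isClosed.isOpen_compl⟩ ⟨x, hx, hxB⟩
      exact hy' hy
    have ho : ∀ U, Z ∈ box U ↔ W ∈ box U := fun U => h.mem_open_iff (hboxo U)
    exact @le_antisymm (TopologicalSpace.IrreducibleCloseds X) _ Z W (key Z W fun U => (ho U).mp) (key W Z fun U => (ho U).mpr)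
  have hsober : QuasiSober (PtTop.Sob X) := by
    refine ⟨fun {F} hF hFc => ?_⟩
    obtain ⟨U, hU⟩ := hopen Fᶜ hFc.isOpen_compl
    have hmem : ∀ Z : TopologicalSpace.IrreducibleCloseds X, Z ∈ F ↔ (Z : Set X) ⊆ (U : Set X)ᶜ := by
      intro Z
      rw [← compl_compl F, hU]
      exact ⟨fun hZ x hx hxU => hZ ⟨x, hx, hxU⟩, fun hZ ⟨x, hx, hxU⟩ => hZ hx hxU⟩
    have hirr : IsIrreducible (U : Set X)ᶜ := by
      refine ⟨?_, fun u v hu hv ⟨x, hx, hxu⟩ ⟨y, hy, hyv⟩ => ?_⟩
      · obtain ⟨Z, hZ⟩ := hF.1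
        exact (TopologicalSpace.IrreducibleCloseds.isIrreducible Z).1.mono ((hmem Z).mp hZ)
      · have hin : ∀ z, z ∈ (U : Set X)ᶜ → pt z ∈ F := fun z hz => (hmem _).mpr
          (closure_minimal (Set.singleton_subset_iff.mpr hz) U.isOpen.isClosed_compl)
        obtain ⟨Z, hZ, hZu, hZv⟩ := hF.2 (box ⟨u, hu⟩) (box ⟨v, hv⟩) (hboxo _) (hboxo _)
          ⟨pt x, hin x hx, (hpt x _).mpr hxu⟩ ⟨pt y, hin y hy, (hpt y _).mpr hyv⟩
        obtain ⟨z, hz, hzuv⟩ := (hboxi _ _).le ⟨hZu, hZv⟩
        exact ⟨z, (hmem Z).mp hZ hz, hzuv⟩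
    let C : PtTop.Sob X := (⟨(U : Set X)ᶜ, hirr, U.isOpen.isClosed_compl⟩ : TopologicalSpace.IrreducibleCloseds X)
    refine ⟨C, isGenericPoint_iff_specializes.mpr fun Z => ?_⟩
    refine Iff.trans ?_ (hmem Z).symm
    rw [specializes_iff_forall_open]
    constructor
    · intro h x hx hxU
      obtain ⟨y, hy, hyU⟩ := h (box U) (hboxo U) ⟨x, hx, hxU⟩
      exact hy hyU
    · intro h W hW hZW
      obtain ⟨V, rfl⟩ := hopen W hW
      exact hZW.mono (Set.inter_subset_inter_left _ h)
  have hpre : ∀ U, PtTop.toSob X ⁻¹' box U = (U : Set X) := fun U => Set.ext fun x => hpt x U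
  refine ⟨hsober, hT0, continuous_generateFrom_iff.mpr ?_, ⟨?_, ?_, ?_⟩, ?_⟩
  · rintro s ⟨U, rfl⟩
    show IsOpen (PtTop.toSob X ⁻¹' box U)
    rw [hpre]
    exact U.isOpen
  · intro W hW
    obtain ⟨U, rfl⟩ := hopen W hW
    show IsOpen (PtTop.toSob X ⁻¹' box U)
    rw [hpre]
    exact U.isOpen
  · intro W hW W' hW' h
    obtain ⟨U, rfl⟩ := hopen W hW
    obtain ⟨U', rfl⟩ := hopen W' hW'
    simp only [hpre] at h
    rw [TopologicalSpace.Opens.ext h]
  · intro U hU
    exact ⟨box ⟨U, hU⟩, hboxo _, hpre _⟩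
  · intro Y _ _ _ f hf
    have hirr : ∀ Z : TopologicalSpace.IrreducibleCloseds X, IsIrreducible (closure (f '' (Z : Set X))) :=
      fun Z => ((TopologicalSpace.IrreducibleCloseds.isIrreducible Z).image f hf.continuousOn).closure
    refine ⟨fun Z => (hirr Z).genericPoint, continuous_def.mpr fun V hV => ?_, funext fun x => ?_⟩
    · convert hboxo ⟨f ⁻¹' V, hV.preimage hf⟩ using 1
      ext Z
      have hg := (hirr Z).isGenericPoint_genericPoint_closure
      show (hirr Z).genericPoint ∈ V ↔ _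
      rw [hg.mem_open_set_iff hV, closure_closure]
      constructor
      · rintro ⟨y, hy, hyV⟩
        obtain ⟨_, hzV, z, hz, rfl⟩ := mem_closure_iff.mp hy V hV hyV
        exact ⟨z, hz, hzV⟩
      · rintro ⟨z, hz, hzV⟩
        exact ⟨f z, subset_closure ⟨z, hz, rfl⟩, hzV⟩
    · have hg := (hirr (PtTop.toSob X x)).isGenericPoint_genericPoint_closure
      have hc : closure (f '' closure {x}) = closure {f x} := by
        refine Set.Subset.antisymm (closure_minimal ((image_closure_subset_closure_image hf).trans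
          (by rw [Set.image_singleton])) isClosed_closure) (closure_mono ?_)
        rintro _ rfl
        exact ⟨x, subset_closure rfl, rfl⟩
      have hg' : IsGenericPoint (hirr (PtTop.toSob X x)).genericPoint (closure {f x}) := by
        have := hg
        rw [closure_closure] at this
        exact hc ▸ this
      exact hg'.eq isGenericPoint_closure

end Groth.Agent.S7582
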