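import Groth.Statements.S7583
import Mathlib

set_option linter.style.haveILetI false

set_option autoImplicit false
universe u
open PtTop

namespace Groth.Agent.S7583

/-- Let X be a topological space and c : X → X′ the canonical map to its soberification (X′ =
irreducible closed subsets of X, with opens the sets of those meeting a given open of X). (1)
Quasi-compactness of X passes to X′. (2) When X is quasi-compact, its quasi-compact opens form a
basis, and any two quasi-compact opens meet in a quasi-compact set, the soberification X′ is a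
spectral space. (3) When X is Noetherian, X′ is both spectral and Noetherian. -/
theorem result (X : Type u) [TopologicalSpace X] :
    (CompactSpace X → CompactSpace (PtTop.Sob X)) ∧
    (CompactSpace X → PrespectralSpace X → QuasiSeparatedSpace X → SpectralSpace (PtTop.Sob X)) ∧
    (TopologicalSpace.NoetherianSpace X →
      TopologicalSpace.NoetherianSpace (PtTop.Sob X) ∧ SpectralSpace (PtTop.Sob X)) := by
  classical
  let box : TopologicalSpace.Opens X → Set (PtTop.Sob X) := fun U =>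
    {Z : TopologicalSpace.IrreducibleCloseds X | ((Z : Set X) ∩ (U : Set X)).Nonempty}
  have hboxo : ∀ U, IsOpen (box U) := fun U => TopologicalSpace.isOpen_generateFrom_of_mem ⟨U, rfl⟩
  have hboxi : ∀ U V, box U ∩ box V = box (U ⊓ V) := by
    intro U V
    refine Set.Subset.antisymm (fun Z hZ => ?_) fun Z hZ => ⟨?_, ?_⟩
    · exact (TopologicalSpace.IrreducibleCloseds.isIrreducible Z).2 U V U.isOpen V.isOpen hZ.1 hZ.2
    · exact hZ.mono fun x hx => ⟨hx.1, hx.2.1⟩
    · exact hZ.mono fun x hx => ⟨hx.1, hx.2.2⟩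
  have hboxs : ∀ {ι : Type u} (U : ι → TopologicalSpace.Opens X), (⋃ i, box (U i)) = box (⨆ i, U i) := by
    intro ι U
    refine Set.Subset.antisymm (fun Z hZ => ?_) fun Z hZ => ?_
    · obtain ⟨i, x, hx, hxU⟩ := Set.mem_iUnion.mp hZ
      exact ⟨x, hx, TopologicalSpace.Opens.mem_iSup.mpr ⟨i, hxU⟩⟩
    · obtain ⟨x, hx, hxU⟩ := hZ
      obtain ⟨i, hi⟩ := TopologicalSpace.Opens.mem_iSup.mp hxU
      exact Set.mem_iUnion.mpr ⟨i, x, hx, hi⟩
  have hopen : ∀ W : Set (PtTop.Sob X), IsOpen W → ∃ U, W = box U := by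
    intro W hW
    induction hW with
    | basic s hs => obtain ⟨U, rfl⟩ := hs; exact ⟨U, rfl⟩
    | univ =>
      refine ⟨⊤, (Set.eq_univ_of_forall fun Z => ?_).symm⟩
      obtain ⟨x, hx⟩ := (TopologicalSpace.IrreducibleCloseds.isIrreducible Z).1
      exact ⟨x, hx, trivial⟩
    | inter s t _ _ hs ht => obtain ⟨U, rfl⟩ := hs; obtain ⟨V, rfl⟩ := ht; exact ⟨U ⊓ V, hboxi U V⟩
    | sUnion S _ ih =>
      choose U hU using ih
      refine ⟨⨆ s : S, U s.1 s.2, ?_⟩
      rw [← hboxs, Set.sUnion_eq_iUnion]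
      exact Set.iUnion_congr fun s => hU s.1 s.2
  let pt : X → PtTop.Sob X := fun x => PtTop.toSob X x
  have hpt : ∀ x U, pt x ∈ box U ↔ x ∈ U := fun x U => by
    refine ⟨fun ⟨y, hy, hyU⟩ => ?_, fun h => ⟨x, subset_closure rfl, h⟩⟩
    obtain ⟨z, hz, rfl⟩ := mem_closure_iff.mp hy U U.isOpen hyU
    exact hz
  have hcomp : ∀ U : TopologicalSpace.Opens X, IsCompact (box U) ↔ IsCompact (U : Set X) := by
    intro U
    rw [isCompact_iff_finite_subcover, isCompact_iff_finite_subcover]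
    constructor
    · intro h ι V hV hUV
      obtain ⟨t, ht⟩ := h (fun i => box ⟨V i, hV i⟩) (fun i => hboxo _) (by
        rw [hboxs]
        rintro Z ⟨x, hx, hxU⟩
        obtain ⟨i, hi⟩ := Set.mem_iUnion.mp (hUV hxU)
        exact ⟨x, hx, TopologicalSpace.Opens.mem_iSup.mpr ⟨i, hi⟩⟩)
      refine ⟨t, fun x hx => ?_⟩
      obtain ⟨i, hi, hi'⟩ := Set.mem_iUnion₂.mp (ht ((hpt x U).mpr hx))
      exact Set.mem_iUnion₂.mpr ⟨i, hi, (hpt x _).mp hi'⟩
    · intro h ι W hW hUW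
      choose V hV using fun i => hopen (W i) (hW i)
      obtain ⟨t, ht⟩ := h (fun i => (V i : Set X)) (fun i => (V i).isOpen) (fun x hx => by
        obtain ⟨i, hi⟩ := Set.mem_iUnion.mp (hUW ((hpt x U).mpr hx))
        rw [hV i, hpt] at hi
        exact Set.mem_iUnion.mpr ⟨i, hi⟩)
      refine ⟨t, ?_⟩
      rintro Z ⟨x, hx, hxU⟩
      obtain ⟨i, hi, hi'⟩ := Set.mem_iUnion₂.mp (ht hxU)
      exact Set.mem_iUnion₂.mpr ⟨i, hi, by rw [hV i]; exact ⟨x, hx, hi'⟩⟩
  have htop : box ⊤ = Set.univ := Set.eq_univ_of_forall fun Z =>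
    (TopologicalSpace.IrreducibleCloseds.isIrreducible Z).1.mono fun x hx => ⟨hx, trivial⟩
  have h1 : CompactSpace X → CompactSpace (PtTop.Sob X) := fun h =>
    ⟨htop ▸ (hcomp ⊤).mpr (by simpa using isCompact_univ)⟩
  have hT0 : T0Space (PtTop.Sob X) := by
    refine ⟨fun Z W h => ?_⟩
    have key : ∀ A B : TopologicalSpace.IrreducibleCloseds X, (∀ U, A ∈ box U → B ∈ box U) → A ≤ B := by
      intro A B hAB x hx
      by_contra hxB
      obtain ⟨y, hy, hy'⟩ := hAB ⟨(B : Set X)ᶜ, B.isClosed.isOpen_compl⟩ ⟨x, hx, hxB⟩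
      exact hy' hy
    have ho : ∀ U, Z ∈ box U ↔ W ∈ box U := fun U => h.mem_open_iff (hboxo U)
    exact @le_antisymm (TopologicalSpace.IrreducibleCloseds X) _ Z W (key Z W fun U => (ho U).mp) (key W Z fun U => (ho U).mpr)
  have hsober : QuasiSober (PtTop.Sob X) := by
    refine ⟨fun {F} hF hFc => ?_⟩
    obtain ⟨U, hU⟩ := hopen Fᶜ hFc.isOpen_compl
    have hmem : ∀ Z : TopologicalSpace.IrreducibleCloseds X, Z ∈ F ↔ (Z : Set X) ⊆ (U : Set X)ᶜ := by
      intro Z
      rw [← compl_compl F, hU]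
      exact ⟨fun hZ x hx hxU => hZ ⟨x, hx, hxU⟩, fun hZ ⟨x, hx, hxU⟩ => hZ hx hxU⟩
    have hirr : IsIrreducible (U : Set X)ᶜ := by
      refine ⟨?_, fun u v hu hv ⟨x, hx, hxu⟩ ⟨y, hy, hyv⟩ => ?_⟩
      · obtain ⟨Z, hZ⟩ := hF.1
        exact (TopologicalSpace.IrreducibleCloseds.isIrreducible Z).1.mono ((hmem Z).mp hZ)
      · have hin : ∀ z, z ∈ (U : Set X)ᶜ → pt z ∈ F := fun z hz => (hmem _).mpr
          (closure_minimal (Set.singleton_subset_iff.mpr hz) U.isOpen.isClosed_compl)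
        obtain ⟨Z, hZ, hZu, hZv⟩ := hF.2 (box ⟨u, hu⟩) (box ⟨v, hv⟩) (hboxo _) (hboxo _)
          ⟨pt x, hin x hx, (hpt x _).mpr hxu⟩ ⟨pt y, hin y hy, (hpt y _).mpr hyv⟩
        obtain ⟨z, hz, hzuv⟩ := (hboxi _ _).le ⟨hZu, hZv⟩
        exact ⟨z, (hmem Z).mp hZ hz, hzuv⟩
    let C : PtTop.Sob X := (⟨(U : Set X)ᶜ, hirr, U.isOpen.isClosed_compl⟩ : TopologicalSpace.IrreducibleCloseds X)
    refine ⟨C, isGenericPoint_iff_specializes.mpr fun Z => ?_⟩
    refine Iff.trans ?_ (hmem Z).symm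
    rw [specializes_iff_forall_open]
    constructor
    · intro h x hx hxU
      obtain ⟨y, hy, hyU⟩ := h (box U) (hboxo U) ⟨x, hx, hxU⟩
      exact hy hyU
    · intro h W hW hZW
      obtain ⟨V, rfl⟩ := hopen W hW
      exact hZW.mono (Set.inter_subset_inter_left _ h)
  have h2 : CompactSpace X → PrespectralSpace X → QuasiSeparatedSpace X → SpectralSpace (PtTop.Sob X) := by
    intro hc hp hq
    haveI := h1 hc
    haveI := hsober
    haveI := hT0
    haveI : QuasiSeparatedSpace (PtTop.Sob X) := by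
      refine ⟨fun A B hA hA' hB hB' => ?_⟩
      obtain ⟨U, rfl⟩ := hopen A hA
      obtain ⟨V, rfl⟩ := hopen B hB
      rw [hboxi, hcomp]
      exact hq.inter_isCompact _ _ U.isOpen ((hcomp U).mp hA') V.isOpen ((hcomp V).mp hB')
    haveI : PrespectralSpace (PtTop.Sob X) := by
      refine ⟨TopologicalSpace.isTopologicalBasis_of_isOpen_of_nhds (fun u hu => hu.1) fun Z W hZW hW => ?_⟩
      obtain ⟨U, rfl⟩ := hopen W hW
      obtain ⟨x, hx, hxU⟩ := hZW
      obtain ⟨V, ⟨hVo, hVc⟩, hxV, hVU⟩ := hp.isTopologicalBasis.exists_subset_of_mem_open hxU U.isOpen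
      exact ⟨box ⟨V, hVo⟩, ⟨hboxo _, (hcomp _).mpr hVc⟩, ⟨x, hx, hxV⟩,
        fun A hA => hA.mono (Set.inter_subset_inter_right _ hVU)⟩
    exact {}
  refine ⟨h1, h2, fun hN => ⟨(TopologicalSpace.noetherianSpace_iff_opens _).mpr fun W => ?_, ?_⟩⟩
  · obtain ⟨U, hU⟩ := hopen W W.isOpen
    rw [hU, hcomp]
    exact TopologicalSpace.NoetherianSpace.isCompact _
  · refine h2 inferInstance ⟨?_⟩ ⟨fun A B _ _ _ _ => TopologicalSpace.NoetherianSpace.isCompact _⟩
    exact TopologicalSpace.isTopologicalBasis_of_isOpen_of_nhds (fun u hu => hu.1)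
      fun x W hx hW => ⟨W, ⟨hW, TopologicalSpace.NoetherianSpace.isCompact _⟩, hx, le_rfl⟩


end Groth.Agent.S7583
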