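import Groth.Statements.S7584
import Mathlib

set_option linter.style.haveILetI false

set_option autoImplicit false
universe u
open PtTop

namespace Groth.Agent.S7584

/-- Let X be a quasi-compact topological space in which each connected component equals the intersection
of all clopen sets that contain it. Then π₀(X), the set of connected components with the quotient
topology, is Hausdorff. The published statement concludes that π₀(X) is profinite; this row records
the Hausdorff property, quasi-compactness and total disconnectedness of the quotient being
automatic. -/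
theorem result (X : Type u) [TopologicalSpace X] [CompactSpace X]
    (h : ∀ x : X, connectedComponent x = ⋂₀ {Z : Set X | IsClopen Z ∧ x ∈ Z}) :
    T2Space (ConnectedComponents X) := by
  refine ⟨fun a b hab => ?_⟩
  obtain ⟨x, rfl⟩ := ConnectedComponents.surjective_coe a
  obtain ⟨y, rfl⟩ := ConnectedComponents.surjective_coe b
  have hy : y ∉ connectedComponent x := fun hy =>
    hab ((ConnectedComponents.coe_eq_coe'.mpr hy).symm)
  rw [h x] at hy
  simp only [Set.mem_sInter, Set.mem_setOf_eq, not_forall] at hy
  obtain ⟨Z, ⟨hZ, hxZ⟩, hyZ⟩ := hy
  have hsat : ∀ W : Set X, IsClopen W →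
      ((↑) : X → ConnectedComponents X) ⁻¹' (((↑) : X → ConnectedComponents X) '' W) = W := by
    intro W hW
    rw [connectedComponents_preimage_image, hW.biUnion_connectedComponent_eq]
  have hop : ∀ W : Set X, IsClopen W → IsOpen (((↑) : X → ConnectedComponents X) '' W) :=
    fun W hW => ConnectedComponents.isQuotientMap_coe.isOpen_preimage.mp ((hsat W hW).symm ▸ hW.2)
  refine ⟨_, _, hop Z hZ, hop Zᶜ hZ.compl, Set.mem_image_of_mem _ hxZ, Set.mem_image_of_mem _ hyZ, ?_⟩
  rw [Set.disjoint_left]
  rintro _ hz ⟨w, hw, rfl⟩
  exact hw ((Set.ext_iff.mp (hsat Z hZ) w).mp hz)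

end Groth.Agent.S7584
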