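import Groth.Statements.S7587
import Groth.Agent.ShBLib.Basic

set_option autoImplicit false
universe u
open ShSp

namespace Groth.Agent.S7587

/-- Let X be a topological space, ℬ a basis for its topology, U ∈ ℬ and F a sheaf of sets on ℬ. Sending
a section over U to its germs at the points of U, a map from F(U) into the product of the stalks F_x
over x ∈ U, puts F(U) in bijection with those germ families (s_x)_{x ∈ U} that satisfy (*): each x ∈
U lies in some V ∈ ℬ contained in U carrying a section σ ∈ F(V) whose germ at every y ∈ V equals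
s_y. That is, the map is injective and its image is exactly the set of such families. -/
theorem result {X : Type u} [TopologicalSpace X] {B : Set (TopologicalSpace.Opens X)}
    (hB : TopologicalSpace.Opens.IsBasis B) (F : ShB.Pre B) (hF : ShB.IsSheaf F) (U : B) :
    Function.Injective (fun (s : F.obj U) (x : (U : TopologicalSpace.Opens X)) => ShB.germ F x.1 x.2 s) ∧
    ∀ f : ∀ x : (U : TopologicalSpace.Opens X), ShB.Stalk F x.1,
      (∃ s : F.obj U, ∀ x, ShB.germ F x.1 x.2 s = f x) ↔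
      ∀ x : (U : TopologicalSpace.Opens X), ∃ (V : B) (hxV : x.1 ∈ (V : TopologicalSpace.Opens X))
        (hVU : (V : TopologicalSpace.Opens X) ≤ (U : TopologicalSpace.Opens X)) (σ : F.obj V),
        ∀ (y : X) (hy : y ∈ (V : TopologicalSpace.Opens X)), ShB.germ F y hy σ = f ⟨y, hVU hy⟩ := by
  have hrel : ∀ {x : X} (a b : Σ V : {V : B // x ∈ (V : TopologicalSpace.Opens X)}, F.obj V.1),
      Relation.EqvGen (ShB.StalkRel F x) a b → ShB.StalkRel F x a b := by
    intro x a b h
    induction h with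
    | rel a b h => exact h
    | refl a => exact ⟨a.1.1, a.1.2, le_rfl, le_rfl, rfl⟩
    | symm a b _ ih => obtain ⟨W, hW, ha, hb, e⟩ := ih; exact ⟨W, hW, hb, ha, e.symm⟩
    | trans a b c _ _ i1 i2 =>
      obtain ⟨W, hW, ha, hb, e⟩ := i1
      obtain ⟨W', hW', hb', hc, e'⟩ := i2
      obtain ⟨T, hT, hxT, hTW⟩ := (TopologicalSpace.Opens.isBasis_iff_nbhd.1 hB)
        (show x ∈ (W : TopologicalSpace.Opens X) ⊓ W' from ⟨hW, hW'⟩)
      refine ⟨⟨T, hT⟩, hxT, (hTW.trans inf_le_left).trans ha, (hTW.trans inf_le_right).trans hc, ?_⟩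
      rw [← ShBLib.res_congr F (W := ⟨T, hT⟩) ha (hTW.trans inf_le_left), e, F.res_comp,
        ← ShBLib.res_congr F (W := ⟨T, hT⟩) hc (hTW.trans inf_le_right), ← e', F.res_comp]
  have hgerm : ∀ {x : X} {V W : B} (hV : x ∈ (V : TopologicalSpace.Opens X))
      (hW : x ∈ (W : TopologicalSpace.Opens X)) (h : (W : TopologicalSpace.Opens X) ≤ V) (s : F.obj V),
      ShB.germ F x hW (F.res h s) = ShB.germ F x hV s := fun {x V W} hV hW h s =>
    Quot.sound ⟨W, hW, le_rfl, h, F.res_id _ _⟩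
  have hsep : ∀ (V : B) (s t : F.obj V),
      (∀ (x : X) (hx : x ∈ (V : TopologicalSpace.Opens X)), ShB.germ F x hx s = ShB.germ F x hx t) → s = t := by
    intro V s t h
    have h' : ∀ x : (V : TopologicalSpace.Opens X), ∃ (W : B) (_ : x.1 ∈ (W : TopologicalSpace.Opens X))
        (hle : (W : TopologicalSpace.Opens X) ≤ V), F.res hle s = F.res hle t := fun x => by
      obtain ⟨W, hW, ha, hb, e⟩ := hrel _ _ (Quot.eqvGen_exact (h x.1 x.2))
      exact ⟨W, hW, ha, e⟩
    choose W hxW hle he using h'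
    exact ShBLib.sheaf_eq hB F hF W hle
      (fun x hx => TopologicalSpace.Opens.mem_iSup.2 ⟨⟨x, hx⟩, hxW ⟨x, hx⟩⟩) s t he
  refine ⟨fun s t h => hsep U s t fun x hx => congrFun h ⟨x, hx⟩, fun f => ⟨?_, fun h => ?_⟩⟩
  · rintro ⟨s, hs⟩ x
    exact ⟨U, x.2, le_rfl, s, fun y hy => hs ⟨y, hy⟩⟩
  · choose V hxV hVU σ hσ using h
    obtain ⟨t, ht, -⟩ := ShBLib.glue hB F hF U V hVU
      (fun x hx => TopologicalSpace.Opens.mem_iSup.2 ⟨⟨x, hx⟩, hxV ⟨x, hx⟩⟩) σ fun i j W hi hj =>
      hsep W _ _ fun y hy => by rw [hgerm (hi hy) hy hi, hgerm (hj hy) hy hj, hσ, hσ]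
    exact ⟨t, fun x => by rw [← hgerm x.2 (hxV x) (hVU x) t, ht x]; exact hσ x x.1 (hxV x)⟩

end Groth.Agent.S7587
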