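import Groth.Statements.S7588
import Groth.Agent.ShBLib.Basic

set_option autoImplicit false
universe u
open CategoryTheory
open ShSp

namespace Groth.Agent.S7588

/-- Let X be a topological space, ℬ a basis for its topology and F a sheaf of sets on ℬ. There is a
sheaf of sets F^ext on X together with an isomorphism of presheaves on ℬ between the restriction of
F^ext to ℬ and F; and it is unique: given two sheaves G, G′ on X with such isomorphisms e, e′, there
is a unique isomorphism G ≅ G′ whose restriction to the members of ℬ is compatible with e and e′. -/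
theorem result {X : Type u} [TopologicalSpace X] {B : Set (TopologicalSpace.Opens X)}
    (hB : TopologicalSpace.Opens.IsBasis B) (F : ShB.Pre B) (hF : ShB.IsSheaf F) :
    (∃ G : TopCat.Sheaf (Type u) (TopCat.of X), Nonempty (ShB.Iso (ShB.restrict B G.presheaf) F)) ∧
    ∀ (G G' : TopCat.Sheaf (Type u) (TopCat.of X)) (e : ShB.Iso (ShB.restrict B G.presheaf) F)
      (e' : ShB.Iso (ShB.restrict B G'.presheaf) F),
      ∃! φ : G ⟶ G', IsIso φ ∧ ∀ (U : B) (s : G.presheaf.obj (Opposite.op (U : TopologicalSpace.Opens X))),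
        e'.hom.app U (φ.1.app (Opposite.op (U : TopologicalSpace.Opens X)) s) = e.hom.app U s := by
  refine ⟨⟨⟨ShBLib.ext F, ShBLib.ext_isSheaf hB F hF⟩, ⟨ShBLib.extIso F⟩⟩, fun G G' e e' => ?_⟩
  obtain ⟨φ, hφ, hu⟩ := ShBLib.existsUnique_hom (Y := TopCat.of X) hB G G'
    (fun U s => e'.inv.app U (e.hom.app U s))
    (fun U V h s => (e'.inv.natural h _).trans (congrArg (e'.inv.app V) (e.hom.natural h s)))
  obtain ⟨φ', hφ', -⟩ := ShBLib.existsUnique_hom (Y := TopCat.of X) hB G' G
    (fun U s => e.inv.app U (e'.hom.app U s))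
    (fun U V h s => (e.inv.natural h _).trans (congrArg (e.inv.app V) (e'.hom.natural h s)))
  have hid : ∀ (K : TopCat.Sheaf (Type u) (TopCat.of X)) (a : K ⟶ K),
      (∀ (U : B) (s : K.presheaf.obj (Opposite.op (U : TopologicalSpace.Opens X))), a.1.app _ s = s) → a = 𝟙 K :=
    fun K a ha => (ShBLib.existsUnique_hom (Y := TopCat.of X) hB K K (fun U s => s) (fun U V h s => rfl)).unique ha
      fun U s => rfl
  haveI : IsIso φ := ⟨φ', hid _ _ fun U s => by
      change φ'.1.app _ (φ.1.app _ s) = s
      rw [hφ, hφ', e'.inv_hom, e.hom_inv], hid _ _ fun U s => by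
      change φ.1.app _ (φ'.1.app _ s) = s
      rw [hφ', hφ, e.inv_hom, e'.hom_inv]⟩
  refine ⟨φ, ⟨inferInstance, fun U s => by rw [hφ, e'.inv_hom]⟩, fun ψ hψ => hu ψ fun U s => ?_⟩
  rw [← hψ.2 U s, e'.hom_inv]

end Groth.Agent.S7588
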