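import Groth.Statements.S7590
import Groth.Agent.SepBC.Closed


set_option autoImplicit false
universe u
open CategoryTheory CategoryTheory.Limits AlgebraicGeometry
open Variety

set_option backward.isDefEq.respectTransparency false
namespace Groth.Agent.S7590

/-- Let k be a separably closed field, K any extension field of k and X a scheme over k. Then the
projection X_K → X induces a bijection between the sets of connected components. -/
theorem result (k : Type u) [Field k] [IsSepClosed k] (X : Scheme.{u}) [X.Over (Spec (CommRingCat.of k))]
    (K : Type u) [Field K] [Algebra k K] :
    Function.Bijective (Continuous.connectedComponentsMap (Curv2.bcFst k X K).continuous) := by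
  let π := Curv2.bcFst k X K
  haveI : Surjective (Spec.map (CommRingCat.ofHom (algebraMap k K))) := Groth.Agent.GeomConn.surjective_Spec_field
  have hs : Function.Surjective π := π.surjective
  refine ⟨fun a b h => ?_, Groth.Agent.GeomConn.connectedComponents_map_surjective π hs⟩
  obtain ⟨a, rfl⟩ := _root_.ConnectedComponents.surjective_coe a
  obtain ⟨b, rfl⟩ := _root_.ConnectedComponents.surjective_coe b
  have h' : connectedComponent (π a) = connectedComponent (π b) := _root_.ConnectedComponents.coe_eq_coe.1 h
  have hc := Groth.Agent.SepBC.isConnected_preimage (K := K) (X ↘ Spec (CommRingCat.of k))
    (C := connectedComponent (π a)) isConnected_connectedComponent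
  refine _root_.ConnectedComponents.coe_eq_coe.2 (connectedComponent_eq ?_)
  exact hc.isPreconnected.subset_connectedComponent (show π a ∈ connectedComponent (π a) from mem_connectedComponent)
    (show π b ∈ connectedComponent (π a) from h' ▸ mem_connectedComponent)

end Groth.Agent.S7590
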