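import Groth.Statements.S7592
import Mathlib

set_option autoImplicit false
universe u
open CategoryTheory CategoryTheory.Limits AlgebraicGeometry
open Variety

namespace Groth.Agent.S7592

/-- Let K be a (possibly infinite) Galois extension of a field k and f : T → X a morphism of schemes
over k. If the base change T_K is connected and X_K is not connected, then X is not connected. -/
theorem result (k : Type u) [Field k] (K : Type u) [Field K] [Algebra k K] [IsGalois k K]
    (T X : Scheme.{u}) [T.Over (Spec (CommRingCat.of k))] [X.Over (Spec (CommRingCat.of k))]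
    (f : T ⟶ X) [f.IsOver (Spec (CommRingCat.of k))]
    [ConnectedSpace ↥(Curv2.bc k T K)] (hX : ¬ ConnectedSpace ↥(Curv2.bc k X K)) :
    ¬ ConnectedSpace ↥X := by
  intro hc
  haveI := hc
  let g : Spec (CommRingCat.of K) ⟶ Spec (CommRingCat.of k) := Spec.map (CommRingCat.ofHom (algebraMap k K))
  haveI : Algebra.IsIntegral k K := Algebra.IsAlgebraic.isIntegral
  haveI : IsIntegralHom g := IsIntegralHom.SpecMap_iff.2 (algebraMap_isIntegral_iff.2 inferInstance)
  haveI : UniversallyOpen g := inferInstance
  let a := X ↘ Spec (CommRingCat.of k)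
  let b := T ↘ Spec (CommRingCat.of k)
  have hfb : f ≫ a = b := comp_over f _
  let P := Limits.pullback a g
  haveI : ConnectedSpace ↥(Limits.pullback b g) := ‹ConnectedSpace ↥(Curv2.bc k T K)›
  let φ : Limits.pullback b g ⟶ P := Limits.pullback.map b g a g f (𝟙 _) (𝟙 _) (by rw [Category.comp_id, hfb]) (by simp)
  obtain ⟨t₀⟩ := (inferInstance : Nonempty ↥(Limits.pullback b g))
  let π : P ⟶ X := Limits.pullback.fst a g
  have hop : IsOpenMap π.base := π.isOpenMap
  have hcl : IsClosedMap π.base := π.isClosedMap
  have hnd : ¬ PreconnectedSpace ↥P := fun h => hX { toPreconnectedSpace := h, toNonempty := ⟨φ.base t₀⟩ }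
  rw [preconnectedSpace_iff_clopen] at hnd
  push_neg at hnd
  obtain ⟨A, hA, hA1, hA2⟩ := hnd
  have hpre : _root_.IsPreconnected (Set.range φ.base) := isPreconnected_range φ.base.hom.continuous
  have key : ∀ B : Set ↥P, IsClopen B → B.Nonempty → (Set.range φ.base ∩ B).Nonempty := by
    intro B hB hne
    have himg : π.base '' B = Set.univ :=
      IsClopen.eq_univ ⟨hcl _ hB.1, hop _ hB.2⟩ (hne.image _)
    obtain ⟨t, -⟩ : ∃ t : T, True := ⟨(Limits.pullback.fst b g).base t₀, trivial⟩
    have hm : f.base t ∈ π.base '' B := by rw [himg]; trivial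
    obtain ⟨y, hy, hyt⟩ := hm
    obtain ⟨w, hw1, hw2⟩ := Scheme.Pullback.exists_preimage_pullback (f := f) (g := π) t y hyt.symm
    let L : Limits.pullback f π ⟶ Limits.pullback b g :=
      Limits.pullback.lift (Limits.pullback.fst f π) (Limits.pullback.snd f π ≫ Limits.pullback.snd a g) (by
        rw [← hfb, Limits.pullback.condition_assoc, Category.assoc, ← Limits.pullback.condition])
    refine ⟨y, ⟨L.base w, ?_⟩, hy⟩
    have e : L ≫ φ = Limits.pullback.snd f π := by
      apply Limits.pullback.hom_ext
      · show (L ≫ φ) ≫ Limits.pullback.fst a g = Limits.pullback.snd f π ≫ π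
        simp only [L, φ, π, Category.assoc, Limits.pullback.map, Limits.pullback.lift_fst, Limits.pullback.lift_fst_assoc]
        rw [Limits.pullback.condition]
      · show (L ≫ φ) ≫ Limits.pullback.snd a g = Limits.pullback.snd f π ≫ Limits.pullback.snd a g
        simp only [L, φ, π, Category.assoc, Limits.pullback.map, Limits.pullback.lift_snd, Category.comp_id]
    rw [← Scheme.Hom.comp_apply, e]
    exact hw2
  obtain ⟨z₁, hz₁, hz₁A⟩ := key A hA hA1
  obtain ⟨z₂, hz₂, hz₂A⟩ := key Aᶜ hA.compl (Set.nonempty_compl.2 hA2)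
  exact hz₂A (hpre.subset_isClopen hA ⟨z₁, hz₁, hz₁A⟩ hz₂)

end Groth.Agent.S7592
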