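import Groth.Statements.S7594
import Groth.Agent.SepBC.Square

set_option autoImplicit false
universe u
open CategoryTheory CategoryTheory.Limits AlgebraicGeometry
open Variety

set_option backward.isDefEq.respectTransparency false
set_option backward.isDefEq.respectTransparency.types false

open Groth.Agent

namespace Groth.Agent.S7594

/-- A scheme X over a field k is geometrically irreducible over k precisely when the fibre product X ×_k
X of X with itself is an irreducible scheme. -/
theorem result (k : Type u) [Field k] (X : Scheme.{u}) [X.Over (Spec (CommRingCat.of k))] :
    GeometricallyIrreducible (X ↘ (Spec (CommRingCat.of k))) ↔ IrreducibleSpace ↥(pullback (X ↘ (Spec (CommRingCat.of k))) (X ↘ (Spec (CommRingCat.of k)))) := by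
  let f := X ↘ Spec (CommRingCat.of k)
  constructor
  · intro h
    haveI : GeometricallyIrreducible f := h
    haveI : Nonempty X := ⟨(f.surjective (Classical.arbitrary _)).choose⟩
    haveI := GeometricallyIrreducible.irreducibleSpace_of_subsingleton f
    exact inferInstanceAs (IrreducibleSpace ↥(pullback f f))
  · intro h
    haveI : IrreducibleSpace ↥(pullback f f) := h
    haveI : IrreducibleSpace X := by
      obtain ⟨z⟩ := (inferInstance : Nonempty ↥(pullback f f))
      haveI : Surjective f := ⟨fun y => ⟨pullback.fst f f z, Subsingleton.elim _ _⟩⟩
      exact Function.Surjective.irreducibleSpace (pullback.fst f f).continuous (pullback.fst f f).surjective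
    letI := (WeilLib.kStr f (genericPoint X)).toAlgebra
    exact SepBC.geometricallyIrreducible_of_generic f (eq_bot_iff.2 fun a ha =>
      IntermediateField.mem_bot.2 (SepBC.mem_range_of_square f a (mem_separableClosure_iff.1 ha)))

end Groth.Agent.S7594
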