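import Groth.Statements.S7600
import Groth.Agent.FlatDepth.Fibre
import Mathlib

set_option autoImplicit false
universe u
open CategoryTheory CategoryTheory.Limits AlgebraicGeometry
open Variety

namespace Groth.Agent.S7600

/-- Normality descends along flat morphisms. -/
theorem descend {Z W : Scheme.{u}} (π : Z ⟶ W) [Flat π] (z : Z) (y : W) (hy : π z = y)
    (h : IsDomain (Z.presheaf.stalk z) ∧ IsIntegrallyClosed (Z.presheaf.stalk z)) :
    IsDomain (W.presheaf.stalk y) ∧ IsIntegrallyClosed (W.presheaf.stalk y) := by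
  subst hy
  obtain ⟨_, _⟩ := h
  letI := (π.stalkMap z).hom.toAlgebra
  haveI : IsLocalHom (algebraMap (W.presheaf.stalk (π z)) (Z.presheaf.stalk z)) :=
    inferInstanceAs (IsLocalHom (π.stalkMap z).hom)
  haveI : Module.Flat (W.presheaf.stalk (π z)) (Z.presheaf.stalk z) := Flat.stalkMap π z
  haveI : Module.FaithfullyFlat (W.presheaf.stalk (π z)) (Z.presheaf.stalk z) :=
    Module.FaithfullyFlat.of_flat_of_isLocalHom
  exact FlatDepth.isIntegrallyClosed_descent (S := Z.presheaf.stalk z)

/-- (2) ⇒ (1): let X be a scheme over a field k, k' an extension field of k and x' a point of X_{k'}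
with image x in X. If X_{k'} is geometrically normal at x' over k' (for every extension field k'' of
k' and every point x'' of (X_{k'})_{k''} over x' the local ring at x'' is an integrally closed
domain), then X is geometrically normal at x over k. -/
theorem result (k : Type u) [Field k] (X : Scheme.{u}) [X.Over (Spec (CommRingCat.of k))] (k' : Type u) [Field k'] [Algebra k k'] (x' : ↥(Curv2.bc k X k'))
    (h : letI : (Curv2.bc k X k').Over (Spec (CommRingCat.of k')) := ⟨Curv2.bcSnd k X k'⟩
      ∀ (k'' : Type u) [Field k''] [Algebra k' k''] (x'' : ↥(Curv2.bc k' (Curv2.bc k X k') k'')), Curv2.bcFst k' (Curv2.bc k X k') k'' x'' = x' →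
          IsDomain ↥((Curv2.bc k' (Curv2.bc k X k') k'').presheaf.stalk x'') ∧ IsIntegrallyClosed ↥((Curv2.bc k' (Curv2.bc k X k') k'').presheaf.stalk x'')) :
    ∀ (K : Type u) [Field K] [Algebra k K] (y : ↥(Curv2.bc k X K)), Curv2.bcFst k X K y = (Curv2.bcFst k X k' x') →
          IsDomain ↥((Curv2.bc k X K).presheaf.stalk y) ∧ IsIntegrallyClosed ↥((Curv2.bc k X K).presheaf.stalk y) := by
  intro K _ _ y hy
  obtain ⟨w, hw1, hw2⟩ := Scheme.Pullback.exists_preimage_pullback (f := Curv2.bcFst k X k')
    (g := Curv2.bcFst k X K) x' y hy.symm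
  let P := pullback (Curv2.bcFst k X k') (Curv2.bcFst k X K)
  let Ω : Type u := P.residueField w
  let φ : CommRingCat.of k' ⟶ P.residueField w :=
    Spec.preimage (P.fromSpecResidueField w ≫ pullback.fst _ _ ≫ Curv2.bcSnd k X k')
  let ψ : CommRingCat.of K ⟶ P.residueField w :=
    Spec.preimage (P.fromSpecResidueField w ≫ pullback.snd _ _ ≫ Curv2.bcSnd k X K)
  have hφψ : Spec.map φ ≫ Spec.map (CommRingCat.ofHom (algebraMap k k')) =
      Spec.map ψ ≫ Spec.map (CommRingCat.ofHom (algebraMap k K)) := by
    simp only [φ, ψ, Spec.map_preimage, Category.assoc, Curv2.bcSnd]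
    rw [← pullback.condition, ← pullback.condition, pullback.condition_assoc]
  letI : Algebra k' Ω := φ.hom.toAlgebra
  letI : (Curv2.bc k X k').Over (Spec (CommRingCat.of k')) := ⟨Curv2.bcSnd k X k'⟩
  have hφ : Spec.map (CommRingCat.ofHom (algebraMap k' Ω)) = Spec.map φ := rfl
  let Z := Curv2.bc k' (Curv2.bc k X k') Ω
  let s : Spec (P.residueField w) ⟶ Z :=
    pullback.lift (P.fromSpecResidueField w ≫ pullback.fst _ _) (𝟙 _) (by
      rw [Category.id_comp, Category.assoc]
      exact (Spec.map_preimage _).symm.trans hφ.symm)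
  let π : Z ⟶ Curv2.bc k X K :=
    pullback.lift (Curv2.bcFst k' (Curv2.bc k X k') Ω ≫ Curv2.bcFst k X k')
      (Curv2.bcSnd k' (Curv2.bc k X k') Ω ≫ Spec.map ψ) (by
        rw [Category.assoc, Category.assoc, ← hφψ, pullback.condition, ← hφ,
          ← pullback.condition_assoc (f := (Curv2.bc k X k') ↘ Spec (CommRingCat.of k'))]
        rfl)
  have hbig := (IsPullback.of_hasPullback ((Curv2.bc k X k') ↘ Spec (CommRingCat.of k'))
      (Spec.map (CommRingCat.ofHom (algebraMap k' Ω)))).paste_horiz
      (IsPullback.of_hasPullback (X ↘ Spec (CommRingCat.of k)) (Spec.map (CommRingCat.ofHom (algebraMap k k'))))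
  have hsq : IsPullback π (Curv2.bcSnd k' (Curv2.bc k X k') Ω) (Curv2.bcSnd k X K) (Spec.map ψ) :=
    IsPullback.of_right
      (by rw [pullback.lift_fst, ← hφψ]; exact hbig)
      (pullback.lift_snd _ _ _)
      (IsPullback.of_hasPullback (X ↘ Spec (CommRingCat.of k)) (Spec.map (CommRingCat.ofHom (algebraMap k K))))
  haveI : Flat (Spec.map ψ) := by
    rw [HasRingHomProperty.Spec_iff (P := @Flat)]
    letI : Algebra K Ω := ψ.hom.toAlgebra
    exact inferInstanceAs (Module.Flat K Ω)
  haveI : Flat π := MorphismProperty.of_isPullback hsq.flip ‹_›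
  have hs : s ≫ π = P.fromSpecResidueField w ≫ pullback.snd _ _ := by
    refine pullback.hom_ext ?_ ?_
    · simp only [s, π, Category.assoc, pullback.lift_fst, pullback.lift_fst_assoc]
      rw [← pullback.condition]
    · simp only [s, π, Category.assoc, pullback.lift_snd, pullback.lift_snd_assoc]
      rw [Category.id_comp]
      exact Spec.map_preimage _
  let pt : Spec (P.residueField w) := IsLocalRing.closedPoint _
  refine descend π (s pt) y ?_ (h Ω (s pt) ?_)
  · show (s ≫ π) pt = y
    rw [hs]
    show pullback.snd (Curv2.bcFst k X k') (Curv2.bcFst k X K) (P.fromSpecResidueField w pt) = y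
    rw [Scheme.fromSpecResidueField_apply, hw2]
  · show (s ≫ pullback.fst _ _) pt = x'
    rw [pullback.lift_fst]
    show pullback.fst (Curv2.bcFst k X k') (Curv2.bcFst k X K) (P.fromSpecResidueField w pt) = x'
    rw [Scheme.fromSpecResidueField_apply, hw1]

end Groth.Agent.S7600
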