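import Groth.Statements.S7601
import Groth.Agent.GeomProp.SchemeGeom
import Groth.Agent.NormalBC.Apps
import Mathlib

set_option autoImplicit false
universe u
open CategoryTheory CategoryTheory.Limits AlgebraicGeometry
open Variety

namespace Groth.Agent.S7601

attribute [local instance] Curv2.stalkAlgebra

open scoped TensorProduct

/-- Let X be a geometrically normal scheme over a field k (X_K is a normal scheme for every extension
field K of k) and Y a normal scheme over k. Then X ×_k Y is a normal scheme. -/
theorem result (k : Type u) [Field k] (X : Scheme.{u}) [X.Over (Spec (CommRingCat.of k))] (Y : Scheme.{u}) [Y.Over (Spec (CommRingCat.of k))]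
    (hX : ∀ (K : Type u) [Field K] [Algebra k K], Pi1.IsNormalScheme (Curv2.bc k X K)) (hY : Pi1.IsNormalScheme Y) :
    Pi1.IsNormalScheme (pullback (X ↘ (Spec (CommRingCat.of k))) (Y ↘ (Spec (CommRingCat.of k)))) := by
  intro z
  let p := X ↘ Spec (CommRingCat.of k)
  let q := Y ↘ Spec (CommRingCat.of k)
  let x := pullback.fst p q z
  let y := pullback.snd p q z
  let A := X.presheaf.stalk x
  let B := Y.presheaf.stalk y
  haveI := GrpField.flat_fromSpecStalk x
  haveI := GrpField.flat_fromSpecStalk y
  let m := pullback.map (X.fromSpecStalk x ≫ p) (Y.fromSpecStalk y ≫ q) p q (X.fromSpecStalk x) (Y.fromSpecStalk y)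
    (𝟙 _) (Category.comp_id _) (Category.comp_id _)
  haveI : Flat m := MorphismProperty.pullbackMap (P := @Flat) inferInstance inferInstance rfl rfl
  haveI : IsPreimmersion m := MorphismProperty.pullbackMap (P := @IsPreimmersion) inferInstance inferInstance rfl rfl
  let e : pullback (X.fromSpecStalk x ≫ p) (Y.fromSpecStalk y ≫ q) ≅ Spec (CommRingCat.of (A ⊗[k] B)) :=
    pullback.congrHom (GeomProp.fromSpecStalk_over k X x) (GeomProp.fromSpecStalk_over k Y y) ≪≫
      pullbackSpecIso k A B
  let g : Spec (CommRingCat.of (A ⊗[k] B)) ⟶ pullback p q := e.inv ≫ m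
  haveI : Flat g := inferInstanceAs (Flat (e.inv ≫ m))
  haveI : IsPreimmersion g := inferInstanceAs (IsPreimmersion (e.inv ≫ m))
  obtain ⟨w, hw⟩ : z ∈ Set.range m := by
    rw [Scheme.Pullback.range_map]
    exact ⟨⟨IsLocalRing.closedPoint A, Scheme.fromSpecStalk_closedPoint⟩,
      ⟨IsLocalRing.closedPoint B, Scheme.fromSpecStalk_closedPoint⟩⟩
  have hz : g (e.hom w) = z := by
    show (e.hom ≫ e.inv ≫ m) w = z
    rw [Iso.hom_inv_id_assoc, hw]
  let Q := e.hom w
  have hAB : EGA4.IsNormalRing (A ⊗[k] B) := by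
    refine NormalBC.isNormalRing_tensor_geomNormal k A B (fun k' _ _ hfin => ?_) ?_
    · haveI := hfin
      exact GeomProp.normal_tensor_of_stalks k X x k' fun x' _ => hX k' x'
    · obtain ⟨_, _⟩ := hY y
      exact GeomProp.isNormalRing_of_domain B
  obtain ⟨_, _⟩ := hAB Q.asIdeal
  let E : Localization.AtPrime Q.asIdeal ≃+* (pullback p q).presheaf.stalk (g Q) :=
    ((StructureSheaf.stalkIso _ Q).toRingEquiv).trans
      (RingEquiv.ofBijective (g.stalkMap Q).hom (GeomProp.bijective_stalkMap g Q)).symm
  rw [← hz]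
  exact ⟨E.symm.toMulEquiv.isDomain (Localization.AtPrime Q.asIdeal),
    IsIntegrallyClosed.of_equiv (R := Localization.AtPrime Q.asIdeal) E⟩

end Groth.Agent.S7601
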