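import Groth.Statements.S7602
import Mathlib
import Groth.Agent.GeomProp.SchemeReduced
import Groth.Agent.SmLocalST.SmoothField
-- import your own Groth.Agent.* helpers here

set_option autoImplicit false
universe u
open CategoryTheory CategoryTheory.Limits AlgebraicGeometry
open Variety

namespace Groth.Agent.S7602

/-- Let X be a normal scheme over a field k and K an extension field of k which is separable over k in
the sense that Spec K → Spec k is geometrically reduced (K ⊗_k k' reduced for every field k' over
k). Then X_K is a normal scheme. -/
theorem result (k : Type u) [Field k] (X : Scheme.{u}) [X.Over (Spec (CommRingCat.of k))] (hX : Pi1.IsNormalScheme X)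
    (K : Type u) [Field K] [Algebra k K] [GeometricallyReduced (Spec.map (CommRingCat.ofHom (algebraMap k K)))] :
    Pi1.IsNormalScheme (Curv2.bc k X K) := by
  have hK : Algebra.IsGeometricallyReduced k K := by
    refine (Algebra.isGeometricallyReduced_field_iff k K).2 ?_
    let g := Spec.map (CommRingCat.ofHom (algebraMap k (AlgebraicClosure k)))
    haveI : IsReduced (pullback g (Spec.map (CommRingCat.ofHom (algebraMap k K)))) :=
      pullback_of_geometrically' (GeometricallyReduced.geometrically_isReduced
        (f := Spec.map (CommRingCat.ofHom (algebraMap k K)))) (AlgebraicClosure k) g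
    haveI := isReduced_of_isOpenImmersion (pullbackSpecIso k (AlgebraicClosure k) K).inv
    exact (affine_isReduced_iff _).1 this
  intro x'
  letI : ∀ y : X, Algebra k (X.presheaf.stalk y) := fun y => Curv2.stalkAlgebra k X y
  exact Groth.Agent.GeomProp.normal_stalk_of_tensor k X _ K (Groth.Agent.GeomProp.normal_tensor_geomReduced k _ K
    (by obtain ⟨_, _⟩ := hX (Curv2.bcFst k X K x'); exact Groth.Agent.GeomProp.isNormalRing_of_domain _)) x' rfl

end Groth.Agent.S7602
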