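import Groth.Statements.S7605
import Mathlib

set_option autoImplicit false
universe u
open CategoryTheory CategoryTheory.Limits AlgebraicGeometry
open Variety

set_option backward.isDefEq.respectTransparency false
namespace Groth.Agent.S7605

section
open CategoryTheory CategoryTheory.Limits AlgebraicGeometry TensorProduct

theorem isNoetherianRing_of_faithfullyFlat (A B : Type u) [CommRing A] [CommRing B] [Algebra A B]
    [Module.FaithfullyFlat A B] [IsNoetherianRing B] : IsNoetherianRing A :=
  isNoetherianRing_iff.2 (isNoetherian_mk (StrictMono.wellFoundedGT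
    (OrderEmbedding.ofMapLEIff (fun I : Ideal A => I.map (algebraMap A B)) (fun I J => ⟨fun h => by
      rw [← Ideal.comap_map_eq_self_of_faithfullyFlat (B := B) I, ← Ideal.comap_map_eq_self_of_faithfullyFlat (B := B) J]
      exact Ideal.comap_mono h, fun h => Ideal.map_mono h⟩)).strictMono))

theorem isLocallyNoetherian_bc (k k' : Type u) [Field k] [Field k'] [Algebra k k'] [Algebra.EssFiniteType k k']
    {X : Scheme.{u}} (f : X ⟶ Spec (CommRingCat.of k)) :
    IsLocallyNoetherian X ↔ IsLocallyNoetherian (pullback f (Spec.map (CommRingCat.ofHom (algebraMap k k')))) := by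
  let w := Spec.map (CommRingCat.ofHom (algebraMap k k'))
  rw [isLocallyNoetherian_iff_openCover X.affineCover,
    isLocallyNoetherian_iff_openCover (Scheme.Pullback.openCoverOfLeft X.affineCover f w)]
  refine forall_congr' fun i => ?_
  have key : ∀ {R : CommRingCat.{u}} (g : Spec R ⟶ Spec (CommRingCat.of k)),
      IsLocallyNoetherian (Spec R) ↔ IsLocallyNoetherian (pullback g w) := by
    intro R g
    obtain ⟨φ, rfl⟩ := Spec.map_surjective g
    letI : Algebra k R := φ.hom.toAlgebra
    have e : pullback (Spec.map φ) w ≅ Spec (CommRingCat.of ((R : Type u) ⊗[k] k')) := pullbackSpecIso k R k'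
    constructor
    · intro h
      haveI : IsNoetherianRing R := isLocallyNoetherian_Spec.1 h
      haveI : IsNoetherianRing ((R : Type u) ⊗[k] k') := Algebra.EssFiniteType.isNoetherianRing (R : Type u) _
      exact isLocallyNoetherian_of_isOpenImmersion e.hom
    · intro h
      haveI : IsLocallyNoetherian (Spec (CommRingCat.of ((R : Type u) ⊗[k] k'))) := isLocallyNoetherian_of_isOpenImmersion e.inv
      haveI : IsNoetherianRing ((R : Type u) ⊗[k] k') := isLocallyNoetherian_Spec.1 this
      haveI : IsNoetherianRing R := isNoetherianRing_of_faithfullyFlat (R : Type u) ((R : Type u) ⊗[k] k')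
      infer_instance
  exact key (X.affineCover.f i ≫ f)

end


/-- For a scheme X over a field k and a finitely generated field extension k' of k, local Noetherianity
of X is equivalent to local Noetherianity of its base change X_{k'}. -/
theorem result (k : Type u) [Field k] (X : Scheme.{u}) [X.Over (Spec (CommRingCat.of k))] (k' : Type u) [Field k'] [Algebra k k']
    (hfg : (⊤ : IntermediateField k k').FG) :
    IsLocallyNoetherian X ↔ IsLocallyNoetherian (Curv2.bc k X k') := by
  haveI : Algebra.EssFiniteType k k' := IntermediateField.fg_top_iff.1 hfg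
  exact isLocallyNoetherian_bc k k' (X ↘ Spec (CommRingCat.of k))

end Groth.Agent.S7605
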