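import Groth.Statements.S7609
import Groth.Agent.CMFlat.BaseField

set_option autoImplicit false
universe u
open CategoryTheory CategoryTheory.Limits AlgebraicGeometry
open Variety

namespace Groth.Agent.S7609

/-- Let X be a scheme locally of finite type over a field k, k' any extension field of k and x' a point
of X_{k'} with image x in X. Then the local ring O_{X, x} is Cohen-Macaulay if and only if
O_{X_{k'}, x'} is Cohen-Macaulay. -/
theorem result (k : Type u) [Field k] (X : Scheme.{u}) [X.Over (Spec (CommRingCat.of k))] [LocallyOfFiniteType (X ↘ (Spec (CommRingCat.of k)))]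
    (k' : Type u) [Field k'] [Algebra k k'] (x' : ↥(Curv2.bc k X k')) :
    LocCoh.IsCohenMacaulayLocalRing ↥(X.presheaf.stalk (Curv2.bcFst k X k' x')) ↔
      LocCoh.IsCohenMacaulayLocalRing ↥((Curv2.bc k X k').presheaf.stalk x') := by
  haveI : IsLocallyNoetherian X := LocallyOfFiniteType.isLocallyNoetherian (X ↘ (Spec (CommRingCat.of k)))
  haveI : LocallyOfFiniteType (pullback.snd (X ↘ (Spec (CommRingCat.of k))) (Spec.map (CommRingCat.ofHom (algebraMap k k')))) :=
    MorphismProperty.pullback_snd (P := @LocallyOfFiniteType) _ _ inferInstance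
  haveI : IsLocallyNoetherian (Curv2.bc k X k') := LocallyOfFiniteType.isLocallyNoetherian
    (pullback.snd (X ↘ (Spec (CommRingCat.of k))) (Spec.map (CommRingCat.ofHom (algebraMap k k'))))
  letI := (CMFlat.resHom k X (Curv2.bcFst k X k' x')).hom.toAlgebra
  haveI : Algebra.EssFiniteType k (X.residueField (Curv2.bcFst k X k' x')) := CMFlat.essFiniteType_resHom k X _
  exact CMFlat.isCohenMacaulay_bc_iff k X k' x' fun q _ =>
    CMFlat.isCohenMacaulay_localization_of_ringEquiv (Algebra.TensorProduct.comm k k' _).toRingEquiv
      (CMFlat.isCohenMacaulay_tensor_field k (X.residueField (Curv2.bcFst k X k' x')) k').2 q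

end Groth.Agent.S7609
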