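import Groth.Statements.S7611
import Groth.Agent.AmitsurJac.Basic
import Groth.Agent.SepBC.Closed

set_option autoImplicit false
universe u
open CategoryTheory CategoryTheory.Limits AlgebraicGeometry
attribute [local instance] Curv2.resAlgebra
open Variety

set_option backward.isDefEq.respectTransparency false
set_option backward.isDefEq.respectTransparency.types false

namespace Groth.Agent.S7611

/-- Let X be a scheme over a field k. There is a cardinal κ such that for every extension field K of k
of cardinality at least κ, the base change X_K is a Jacobson scheme and for every closed point x of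
X_K the residue field κ(x) is algebraic over K. -/
theorem result (k : Type u) [Field k] (X : Scheme.{u}) [X.Over (Spec (CommRingCat.of k))] :
    ∃ κ : Cardinal.{u}, ∀ (K : Type u) [Field K] [Algebra k K], κ ≤ Cardinal.mk K →
      JacobsonSpace ↥(Curv2.bc k X K) ∧
        ∀ x : ↥(Curv2.bc k X K), IsClosed ({x} : Set ↥(Curv2.bc k X K)) →
          letI : (Curv2.bc k X K).Over (Spec (CommRingCat.of K)) := ⟨Curv2.bcSnd k X K⟩
          Algebra.IsAlgebraic K ((Curv2.bc k X K).residueField x) := by
  refine ⟨Order.succ (max Cardinal.aleph0 (Cardinal.mk (Σ U : X.affineOpens, Γ(X, U.1)))), fun K _ _ hK => ?_⟩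
  have hlt : max Cardinal.aleph0 (Cardinal.mk (Σ U : X.affineOpens, Γ(X, U.1))) < Cardinal.mk K :=
    lt_of_lt_of_le (Order.lt_succ _) hK
  let f := X ↘ Spec (CommRingCat.of k)
  let w := Spec.map (CommRingCat.ofHom (algebraMap k K))
  -- affine charts of the base change
  have hchart : ∀ U : X.affineOpens, ∃ (R : CommRingCat.{u}) (_ : Algebra K R) (j : Spec R ⟶ pullback f w),
      IsOpenImmersion j ∧ Set.range j = (pullback.fst f w) ⁻¹' (U.1 : Set X) ∧
      j ≫ pullback.snd f w = Spec.map (CommRingCat.ofHom (algebraMap K R)) ∧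
      IsJacobsonRing R ∧ ∀ (L : Type u) [Field L] [Algebra K L] (g : R →ₐ[K] L),
        Function.Surjective g → Algebra.IsAlgebraic K L := by
    intro U
    obtain ⟨φ, hφ⟩ := Spec.map_surjective (U.2.fromSpec ≫ f)
    letI : Algebra k Γ(X, U.1) := φ.hom.toAlgebra
    letI : Algebra K (TensorProduct k Γ(X, U.1) K) := Algebra.TensorProduct.includeRight.toRingHom.toAlgebra
    let e₁ : pullback (U.2.fromSpec ≫ f) w ≅ Spec (CommRingCat.of (TensorProduct k Γ(X, U.1) K)) :=
      pullback.congrHom (hφ.symm : U.2.fromSpec ≫ f = Spec.map (CommRingCat.ofHom (algebraMap k Γ(X, U.1)))) rfl ≪≫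
        pullbackSpecIso k Γ(X, U.1) K
    let j : Spec (CommRingCat.of (TensorProduct k Γ(X, U.1) K)) ⟶ pullback f w :=
      e₁.inv ≫ (pullbackRightPullbackFstIso f w U.2.fromSpec).inv ≫ pullback.snd U.2.fromSpec (pullback.fst f w)
    have hS : Algebra.adjoin K (Set.range fun a : Γ(X, U.1) => (a ⊗ₜ[k] (1 : K))) = ⊤ := by
      refine top_unique fun z _ => ?_
      induction z using TensorProduct.induction_on with
      | zero => exact zero_mem _
      | tmul a t =>
        have h : a ⊗ₜ[k] t = algebraMap K (TensorProduct k Γ(X, U.1) K) t * (a ⊗ₜ[k] (1 : K)) := by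
          rw [RingHom.algebraMap_toAlgebra]
          simp
        rw [h]
        exact mul_mem (Subalgebra.algebraMap_mem _ t) (Algebra.subset_adjoin ⟨a, rfl⟩)
      | add a b ha hb => exact add_mem (ha trivial) (hb trivial)
    have hcard : Cardinal.mk (Set.range fun a : Γ(X, U.1) => (a ⊗ₜ[k] (1 : K))) < Cardinal.mk K := by
      refine lt_of_le_of_lt (Cardinal.mk_range_le.trans ?_) hlt
      exact le_trans (Cardinal.mk_le_of_injective (f := fun a : Γ(X, U.1) => (⟨U, a⟩ : Σ V : X.affineOpens, Γ(X, V.1)))
        (fun a b h => eq_of_heq (Sigma.mk.inj h).2)) (le_max_right _ _)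
    refine ⟨CommRingCat.of (TensorProduct k Γ(X, U.1) K), inferInstance, j, inferInstance, ?_, ?_, ?_, ?_⟩
    · have hr : ∀ {A B C : Scheme.{u}} (a : A ⟶ B) (b : B ⟶ C) [IsIso a], Set.range (a ≫ b) = Set.range b :=
        fun a b _ => by
          ext x
          exact ⟨fun ⟨y, hy⟩ => ⟨a y, hy⟩, fun ⟨y, hy⟩ => by
            obtain ⟨z, rfl⟩ := a.homeomorph.surjective y
            exact ⟨z, hy⟩⟩
      rw [show j = (e₁.inv ≫ (pullbackRightPullbackFstIso f w U.2.fromSpec).inv) ≫
          pullback.snd U.2.fromSpec (pullback.fst f w) from (Category.assoc _ _ _).symm, hr,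
        Scheme.Pullback.range_snd, U.2.range_fromSpec]
    · simp only [j, e₁, Category.assoc, Iso.trans_inv, pullback.congrHom_inv]
      simp
      exact pullbackSpecIso_inv_snd k Γ(X, U.1) K
    · exact Groth.Agent.AmitsurJac.isJacobsonRing _ hS (lt_of_le_of_lt (le_max_left _ _) hlt) hcard
    · exact fun L _ _ g hg =>
        Groth.Agent.AmitsurJac.isAlgebraic_of_surjective _ hS (lt_of_le_of_lt (le_max_left _ _) hlt) hcard g hg
  choose R algR j hj hrange hsnd hjac halg using hchart
  have hcov : ∀ x : ↥(pullback f w), ∃ U : X.affineOpens, x ∈ Set.range (j U) := fun x => by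
    obtain ⟨V, hV, hxV, -⟩ := exists_isAffineOpen_mem_and_subset (U := (⊤ : X.Opens)) (x := pullback.fst f w x) trivial
    exact ⟨⟨V, hV⟩, by rw [hrange]; exact hxV⟩
  haveI : ∀ U, IsOpenImmersion (j U) := hj
  refine ⟨?_, fun x hx => ?_⟩
  · have hc : TopologicalSpace.IsOpenCover (fun U => (j U).opensRange) :=
      TopologicalSpace.IsOpenCover.mk (top_unique fun x _ => TopologicalSpace.Opens.mem_iSup.mpr (hcov x))
    rw [hc.jacobsonSpace_iff]
    intro U
    haveI : JacobsonSpace (PrimeSpectrum (R U)) := PrimeSpectrum.isJacobsonRing_iff_jacobsonSpace.mp (hjac U)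
    exact JacobsonSpace.of_isClosedEmbedding (Scheme.homeoOfIso (j U).isoOpensRange).symm.isClosedEmbedding
  · obtain ⟨U, p, rfl⟩ := hcov x
    have hp : IsClosed ({p} : Set (Spec (R U))) := by
      have h := hx.preimage (j U).continuous
      rwa [← Set.image_singleton, Set.preimage_image_eq _ (j U).isOpenEmbedding.injective] at h
    haveI : p.asIdeal.IsMaximal := (PrimeSpectrum.isClosed_singleton_iff_isMaximal p).mp hp
    letI : (pullback f w).Over (Spec (CommRingCat.of K)) := ⟨pullback.snd f w⟩
    let L := p.asIdeal.ResidueField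
    letI : Algebra K L := ((algebraMap (R U) L).comp (algebraMap K (R U))).toAlgebra
    let g : (R U) →ₐ[K] L := { toRingHom := algebraMap (R U) L, commutes' := fun _ => rfl }
    have hLalg : Algebra.IsAlgebraic K L := halg U L g (Ideal.algebraMap_residueField_surjective p.asIdeal)
    let r := (j U).residueFieldMap p
    have hkey : CommRingCat.ofHom (Curv2.resMap K (pullback f w) (j U p)) ≫ r ≫ (Scheme.Spec.residueFieldIso (R U) p).hom =
        CommRingCat.ofHom (algebraMap K L) := by
      rw [← Category.assoc, ← Iso.eq_comp_inv]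
      apply Spec.map_injective
      rw [Spec.map_comp, Spec.map_comp, ← Groth.Agent.SepBC.kStr_eq_resMap (X := pullback f w),
        ← Groth.Agent.WeilLib.fromSpecResidueField_comp]
      rw [Scheme.Hom.SpecMap_residueFieldMap_fromSpecResidueField_assoc]
      show _ = Spec.map _ ≫ Spec.map (CommRingCat.ofHom (algebraMap K (R U)) ≫ CommRingCat.ofHom (algebraMap (R U) L))
      rw [Spec.map_comp, ← hsnd U, ← Category.assoc, ← Category.assoc,
        Scheme.Spec.map_residueFieldIso_inv_eq_fromSpecResidueField, Category.assoc]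
      rfl
    let ψ : (pullback f w).residueField (j U p) →+* L := (r ≫ (Scheme.Spec.residueFieldIso (R U) p).hom).hom
    have hψ : ψ.comp (Curv2.resMap K (pullback f w) (j U p)) = algebraMap K L := congrArg CommRingCat.Hom.hom hkey
    let ψ' : (pullback f w).residueField (j U p) →ₐ[K] L :=
      { ψ with commutes' := fun c => RingHom.congr_fun hψ c }
    have hinj : Function.Injective ψ := RingHom.injective ψ
    exact @Algebra.IsAlgebraic.of_injective _ _ _ _ _ _ _ _ ψ' hinj hLalg

end Groth.Agent.S7611
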