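import Groth.Statements.S7612
import Mathlib
open CategoryTheory CategoryTheory.Limits AlgebraicGeometry

set_option autoImplicit false
universe u
open CategoryTheory CategoryTheory.Limits AlgebraicGeometry
open Variety

set_option backward.isDefEq.respectTransparency false
namespace Groth.Agent.S7612


/-- In a product over a field, the projection from a fibre of the other projection is open. -/
theorem fibre_open {k : Type u} [Field k] {X Y : Scheme.{u}} (a : X ⟶ Spec (CommRingCat.of k)) (b : Y ⟶ Spec (CommRingCat.of k))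
    (W : Set ↥(pullback a b)) (hW : IsOpen W) (y : ↥Y) :
    IsOpen ((pullback.fst a b).base '' (W ∩ (pullback.snd a b).base ⁻¹' {y})) := by
  let j := Y.fromSpecResidueField y
  let g : pullback a (j ≫ b) ⟶ pullback a b := pullback.map a (j ≫ b) a b (𝟙 X) j (𝟙 _) (by simp) (by simp)
  have hr : Set.range g.base = (pullback.snd a b).base ⁻¹' {y} := by
    rw [Scheme.Pullback.range_map, Scheme.range_fromSpecResidueField]
    simp
  have hg : g ≫ pullback.fst a b = pullback.fst a (j ≫ b) := by simp [g, pullback.map]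
  have e : (pullback.fst a b).base '' (W ∩ (pullback.snd a b).base ⁻¹' {y}) = (pullback.fst a (j ≫ b)).base '' (g.base ⁻¹' W) := by
    rw [← hr, ← Set.image_preimage_eq_inter_range, Set.image_image]
    refine Set.image_congr fun z _ => ?_
    rw [← hg]; rfl
  rw [e]
  exact (pullback.fst a (j ≫ b)).isOpenMap _ (hW.preimage g.continuous)

theorem fibre_open' {k : Type u} [Field k] {X Y : Scheme.{u}} (a : X ⟶ Spec (CommRingCat.of k)) (b : Y ⟶ Spec (CommRingCat.of k))
    (W : Set ↥(pullback a b)) (hW : IsOpen W) (x : ↥X) :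
    IsOpen ((pullback.snd a b).base '' (W ∩ (pullback.fst a b).base ⁻¹' {x})) := by
  let j := X.fromSpecResidueField x
  let g : pullback (j ≫ a) b ⟶ pullback a b := pullback.map (j ≫ a) b a b j (𝟙 Y) (𝟙 _) (by simp) (by simp)
  have hr : Set.range g.base = (pullback.fst a b).base ⁻¹' {x} := by
    rw [Scheme.Pullback.range_map, Scheme.range_fromSpecResidueField]
    simp
  have hg : g ≫ pullback.snd a b = pullback.snd (j ≫ a) b := by simp [g, pullback.map]
  have e : (pullback.snd a b).base '' (W ∩ (pullback.fst a b).base ⁻¹' {x}) = (pullback.snd (j ≫ a) b).base '' (g.base ⁻¹' W) := by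
    rw [← hr, ← Set.image_preimage_eq_inter_range, Set.image_image]
    refine Set.image_congr fun z _ => ?_
    rw [← hg]; rfl
  rw [e]
  exact (pullback.snd (j ≫ a) b).isOpenMap _ (hW.preimage g.continuous)

/-- Let X and Y be schemes over a field k and A ⊆ X, B ⊆ Y subsets. Inside X ×_k Y, the closure of the
set of points projecting into A and into B equals the set of points projecting into the closure of A
and into the closure of B. -/
theorem result (k : Type u) [Field k] (X : Scheme.{u}) [X.Over (Spec (CommRingCat.of k))] (Y : Scheme.{u}) [Y.Over (Spec (CommRingCat.of k))] (A : Set ↥X) (B : Set ↥Y) :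
    closure ((pullback.fst (X ↘ (Spec (CommRingCat.of k))) (Y ↘ (Spec (CommRingCat.of k)))).base ⁻¹' A ∩ (pullback.snd (X ↘ (Spec (CommRingCat.of k))) (Y ↘ (Spec (CommRingCat.of k)))).base ⁻¹' B) =
      (pullback.fst (X ↘ (Spec (CommRingCat.of k))) (Y ↘ (Spec (CommRingCat.of k)))).base ⁻¹' closure A ∩ (pullback.snd (X ↘ (Spec (CommRingCat.of k))) (Y ↘ (Spec (CommRingCat.of k)))).base ⁻¹' closure B := by
  refine subset_antisymm (closure_minimal ?_ ?_) ?_
  · exact Set.inter_subset_inter (Set.preimage_mono subset_closure) (Set.preimage_mono subset_closure)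
  · exact (isClosed_closure.preimage (Scheme.Hom.continuous _)).inter (isClosed_closure.preimage (Scheme.Hom.continuous _))
  · rintro z ⟨hzA, hzB⟩
    refine mem_closure_iff.2 fun W hW hzW => ?_
    obtain ⟨a, ⟨z1, ⟨hz1W, hz1y⟩, rfl⟩, ha⟩ := mem_closure_iff.1 hzA _ (fibre_open (X ↘ (Spec (CommRingCat.of k))) (Y ↘ (Spec (CommRingCat.of k))) W hW _) ⟨z, ⟨hzW, rfl⟩, rfl⟩
    rw [Set.mem_preimage, Set.mem_singleton_iff] at hz1y
    obtain ⟨b, ⟨z2, ⟨hz2W, hz2x⟩, rfl⟩, hb⟩ := mem_closure_iff.1 hzB _ (fibre_open' (X ↘ (Spec (CommRingCat.of k))) (Y ↘ (Spec (CommRingCat.of k))) W hW _) ⟨z1, ⟨hz1W, rfl⟩, hz1y⟩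
    rw [Set.mem_preimage, Set.mem_singleton_iff] at hz2x
    exact ⟨z2, hz2W, show _ ∈ A from hz2x ▸ ha, hb⟩

end Groth.Agent.S7612
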