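import Groth.Statements.S7613
import Groth.Agent.SepBC.Closed
import Groth.Agent.Rigid.FibreTranslate
import Groth.Agent.ClosedRep.GeomIntegral
import Groth.Agent.GeomProp.SchemeReduced

set_option autoImplicit false
universe u
open CategoryTheory CategoryTheory.Limits AlgebraicGeometry
open Variety

set_option backward.isDefEq.respectTransparency false
set_option backward.isDefEq.respectTransparency.types false

namespace Groth.Agent.S7613

/-- Let X be a variety over a field k (integral, separated and of finite type over k) with a k-rational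
point x (k → κ(x) onto) such that X → Spec k is smooth at x. Then every base change of X to an
extension field of k is an integral scheme (X is geometrically integral over k). -/
theorem result (k : Type u) [Field k] (X : Scheme.{u}) [X.Over (Spec (CommRingCat.of k))] [IsIntegral X] [IsSeparated (X ↘ (Spec (CommRingCat.of k)))]
    [LocallyOfFiniteType (X ↘ (Spec (CommRingCat.of k)))] [QuasiCompact (X ↘ (Spec (CommRingCat.of k)))]
    (x : ↥X) (hx : Function.Surjective (Curv2.resMap k X x)) (hsm : x ∈ (X ↘ (Spec (CommRingCat.of k))).smoothLocus) :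
    GeometricallyIntegral (X ↘ (Spec (CommRingCat.of k))) := by
  let f := X ↘ Spec (CommRingCat.of k)
  let U : X.Opens := f.smoothLocus
  haveI : Smooth (U.ι ≫ f) := by
    rw [← Scheme.Hom.smoothLocus_eq_top_iff, ← Scheme.Hom.preimage_smoothLocus_eq]
    exact top_unique fun y _ => y.2
  haveI : Nonempty U := ⟨⟨x, hsm⟩⟩
  haveI : Nonempty (U : Scheme.{u}) := ‹Nonempty U›
  haveI : AlgebraicGeometry.IsIntegral (U : Scheme.{u}) := isIntegral_of_isOpenImmersion U.ι
  haveI : ConnectedSpace (U : Scheme.{u}) := inferInstance
  have hxk : Function.Surjective (Groth.Agent.WeilLib.kStr f x) := by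
    rw [Groth.Agent.SepBC.kStr_eq_resMap]
    exact hx
  let e := CommRingCat.ofHom (Groth.Agent.WeilLib.kStr f x)
  haveI : IsIso e := (ConcreteCategory.isIso_iff_bijective e).2 ⟨(Groth.Agent.WeilLib.kStr f x).injective,
    hxk⟩
  let p₀ : Spec (CommRingCat.of k) ⟶ X := Spec.map (inv e) ≫ X.fromSpecResidueField x
  have hp₀ : p₀ ≫ f = 𝟙 _ := by
    rw [Category.assoc, Groth.Agent.WeilLib.fromSpecResidueField_comp, ← Spec.map_comp, IsIso.hom_inv_id, Spec.map_id]
  have hsub : Set.range p₀ ⊆ Set.range U.ι := by
    rintro _ ⟨t, rfl⟩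
    rw [Scheme.Opens.range_ι]
    have h1 : p₀ t ∈ Set.range (X.fromSpecResidueField x) := ⟨Spec.map (inv e) t, rfl⟩
    rw [Scheme.range_fromSpecResidueField] at h1
    rw [Set.mem_singleton_iff.mp h1]
    exact hsm
  haveI : GeometricallyConnected (U.ι ≫ f) := Groth.Agent.Rigid.geometricallyConnected_of_section _
    (IsOpenImmersion.lift U.ι p₀ hsub) (by rw [IsOpenImmersion.lift_fac_assoc]; exact hp₀)
  haveI hUgi : GeometricallyIntegral (U.ι ≫ f) :=
    Groth.Agent.ClosedRep.GeomIntegral.geometricallyIntegral_of_smooth _
  have hdense : Dense (U : Set X) := U.2.dense ⟨x, hsm⟩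
  -- the base change of U is an open piece of the base change of X
  have hopen : ∀ (K : Type u) [Field K] [Algebra k K],
      ∃ (V : Scheme.{u}) (j : V ⟶ pullback f (Spec.map (CommRingCat.ofHom (algebraMap k K)))),
        IsOpenImmersion j ∧ AlgebraicGeometry.IsIntegral V ∧
          Set.range j = (pullback.fst f (Spec.map (CommRingCat.ofHom (algebraMap k K)))) ⁻¹' (U : Set X) := by
    intro K _ _
    let w := Spec.map (CommRingCat.ofHom (algebraMap k K))
    refine ⟨pullback U.ι (pullback.fst f w), pullback.snd _ _, inferInstance, ?_, ?_⟩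
    · haveI : AlgebraicGeometry.IsIntegral (pullback (U.ι ≫ f) w) :=
        (GeometricallyIntegral.eq_geometrically ▸ hUgi : geometrically _ (U.ι ≫ f)) _ _ _ (IsPullback.of_hasPullback _ w)
      haveI : Nonempty ↥(pullback U.ι (pullback.fst f w)) :=
        (Scheme.homeoOfIso (pullbackRightPullbackFstIso f w U.ι).symm).toEquiv.nonempty_congr.mp inferInstance
      exact isIntegral_of_isOpenImmersion (pullbackRightPullbackFstIso f w U.ι).hom
    · rw [Scheme.Pullback.range_snd, Scheme.Opens.range_ι]
  have hirr : GeometricallyIrreducible f := by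
    refine ⟨geometrically_iff_of_commRing_of_isClosedUnderIsomorphisms.mpr fun K _ _ => ?_⟩
    let w := Spec.map (CommRingCat.ofHom (algebraMap k K))
    haveI : UniversallyOpen w := Groth.Agent.GrpField.PointBase.uopen K w
    obtain ⟨V, j, _, _, hj⟩ := hopen K
    have hd : DenseRange j := by
      rw [DenseRange, hj]
      exact hdense.preimage (pullback.fst f w).isOpenMap
    refine (irreducibleSpace_def _).mpr ?_
    rw [Set.top_eq_univ, ← hd.closure_range, ← Set.image_univ]
    exact ((IrreducibleSpace.isIrreducible_univ V).image j j.continuous.continuousOn).closure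
  haveI : GeometricallyReduced f := by
    refine Groth.Agent.GeomProp.geometricallyReduced_of_genericPoints k X fun η hη K _ _ x' hx' => ?_
    obtain ⟨V, j, _, _, hj⟩ := hopen K
    have hηU : η ∈ U := by
      have h1 : η = genericPoint X := by
        rw [genericPoints_eq_singleton] at hη
        exact hη
      exact h1 ▸ ((genericPoint_spec X).mem_open_set_iff U.2).mpr (by simpa using ⟨x, hsm⟩)
    have hx'r : x' ∈ Set.range j := by
      rw [hj]
      show Curv2.bcFst k X K x' ∈ U
      rwa [hx']
    obtain ⟨v, rfl⟩ := hx'r
    exact isReduced_of_injective (asIso (j.stalkMap v)).hom.hom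
      (asIso (j.stalkMap v)).commRingCatIsoToRingEquiv.injective
  exact GeometricallyIntegral.of_geometricallyReduced_of_geometricallyIrreducible f

end Groth.Agent.S7613
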