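import Groth.Statements.S7614
import Mathlib
import Groth.Agent.QA.Props

set_option autoImplicit false
universe u
open CategoryTheory CategoryTheory.Limits AlgebraicGeometry
open Variety

namespace Groth.Agent.S7614

/-- Let X be a scheme over a field k and K an extension field of k. If X_K is quasi-affine, then X is
quasi-affine. -/
theorem result (k : Type u) [Field k] (X : Scheme.{u}) [X.Over (Spec (CommRingCat.of k))] (K : Type u) [Field K] [Algebra k K]
    [(Curv2.bc k X K).IsQuasiAffine] : X.IsQuasiAffine := by
  let SB := Spec.map (CommRingCat.ofHom (algebraMap k K))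
  let sX := X ↘ Spec (CommRingCat.of k)
  have : Flat SB := (HasRingHomProperty.Spec_iff (P := @Flat)).mpr
    (RingHom.flat_algebraMap_iff.mpr inferInstance)
  have hs : Surjective SB := ⟨fun y ↦ ⟨⟨⊥, Ideal.isPrime_bot⟩, Subsingleton.elim _ _⟩⟩
  have : CompactSpace X := ⟨by
    rw [← (pullback.fst sX SB).surjective.range_eq]
    exact isCompact_range (pullback.fst sX SB).continuous⟩
  have : QuasiSeparated (pullback.snd sX SB) := (quasiSeparated_iff_quasiSeparatedSpace _).mpr
    (inferInstanceAs (QuasiSeparatedSpace (Curv2.bc k X K)))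
  have hq : (@Surjective ⊓ @Flat ⊓ @QuasiCompact : MorphismProperty Scheme.{u}) SB :=
    ⟨⟨hs, ‹_›⟩, inferInstance⟩
  have : QuasiSeparated sX := MorphismProperty.of_isPullback_of_descendsAlong
    (IsPullback.of_hasPullback sX SB).flip hq ‹QuasiSeparated (pullback.snd sX SB)›
  have : QuasiSeparatedSpace X := quasiSeparatedSpace_of_quasiSeparated sX
  have : Scheme.IsQuasiAffine (pullback SB sX) :=
    have : Scheme.IsQuasiAffine (pullback sX SB) := ‹(Curv2.bc k X K).IsQuasiAffine›
    .of_isAffineHom (pullbackSymmetry SB sX).hom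
  exact Groth.Agent.QA.isQuasiAffine_of_flat_cover (A := k) (B := K) sX

end Groth.Agent.S7614
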