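import Groth.Statements.S7615
import Mathlib
import Groth.Agent.SteinGen.OverField
open CategoryTheory CategoryTheory.Limits AlgebraicGeometry
open scoped TensorProduct

set_option autoImplicit false
universe u
open CategoryTheory CategoryTheory.Limits AlgebraicGeometry
open Variety

set_option maxHeartbeats 1000000
namespace Groth.Agent.S7615


/-- A finite field extension which is geometrically reduced is separable. -/
theorem isSeparable_of_reduced (k A : Type u) [Field k] [Field A] [Algebra k A] [Module.Finite k A]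
    [IsReduced (AlgebraicClosure k ⊗[k] A)] : Algebra.IsSeparable k A := by
  classical
  refine ⟨fun a => ?_⟩
  have hint : IsIntegral k a := .of_finite k a
  have hm := minpoly.ne_zero hint
  have hm' : (minpoly k a).map (algebraMap k (AlgebraicClosure k)) ≠ 0 :=
    (Polynomial.map_ne_zero_iff (algebraMap k (AlgebraicClosure k)).injective).2 hm
  show (minpoly k a).Separable
  rw [← Polynomial.separable_map (algebraMap k (AlgebraicClosure k)), PerfectField.separable_iff_squarefree]
  intro g hg
  by_contra hgu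
  have hg0 : g ≠ 0 := by
    rintro rfl
    rw [zero_mul] at hg
    exact hm' (zero_dvd_iff.1 hg)
  obtain ⟨h, hh⟩ := hg
  have hgdeg : 0 < g.natDegree := Nat.pos_of_ne_zero fun h0 => hgu (by
    rw [Polynomial.eq_C_of_natDegree_eq_zero h0, Polynomial.isUnit_C, isUnit_iff_ne_zero]
    intro hc
    exact hg0 (by rw [Polynomial.eq_C_of_natDegree_eq_zero h0, hc, map_zero]))
  have hh0 : h ≠ 0 := by
    rintro rfl
    rw [mul_zero] at hh
    exact hm' hh
  generalize hn : (minpoly k a).natDegree = n
  have hdeg : (g * h).natDegree < n := by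
    have h1 := congrArg Polynomial.natDegree hh
    rw [Polynomial.natDegree_map, mul_assoc, Polynomial.natDegree_mul hg0 (mul_ne_zero hg0 hh0), hn] at h1
    omega
  let z := Polynomial.aeval ((1 : AlgebraicClosure k) ⊗ₜ[k] a) (g * h)
  have hz0 : Polynomial.aeval ((1 : AlgebraicClosure k) ⊗ₜ[k] a) ((minpoly k a).map (algebraMap k (AlgebraicClosure k))) = 0 := by
    rw [Polynomial.aeval_map_algebraMap,
      show (1 : AlgebraicClosure k) ⊗ₜ[k] a = (Algebra.TensorProduct.includeRight : A →ₐ[k] AlgebraicClosure k ⊗[k] A) a from rfl,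
      Polynomial.aeval_algHom_apply, minpoly.aeval, map_zero]
  have hz : z = 0 := by
    refine IsReduced.eq_zero z ⟨2, ?_⟩
    show Polynomial.aeval _ (g * h) ^ 2 = 0
    rw [← map_pow, show (g * h) ^ 2 = (g * g * h) * h by ring, ← hh, map_mul, hz0, zero_mul]
  let Lm : (Fin n → k) →ₗ[k] A := Fintype.linearCombination k fun i : Fin n => a ^ (i : ℕ)
  have hL : Function.Injective Lm := by
    have hli : LinearIndependent k fun i : Fin n => a ^ (i : ℕ) := by
      subst hn
      exact linearIndependent_pow a
    exact hli.fintypeLinearCombination_injective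
  have hLB := Module.Flat.lTensor_preserves_injective_linearMap (M := AlgebraicClosure k) Lm hL
  let v : AlgebraicClosure k ⊗[k] (Fin n → k) := ∑ i : Fin n, (g * h).coeff i ⊗ₜ[k] Pi.single i 1
  have hv : Lm.lTensor (AlgebraicClosure k) v = 0 := by
    rw [← hz]
    show Lm.lTensor _ v = Polynomial.aeval _ (g * h)
    rw [Polynomial.aeval_eq_sum_range' hdeg, ← Fin.sum_univ_eq_sum_range (fun i => (g * h).coeff i • ((1 : AlgebraicClosure k) ⊗ₜ[k] a) ^ i) n,
      map_sum]
    refine Finset.sum_congr rfl fun i _ => ?_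
    rw [LinearMap.lTensor_tmul, Algebra.TensorProduct.tmul_pow, one_pow, TensorProduct.smul_tmul', smul_eq_mul, mul_one]
    show (g * h).coeff i ⊗ₜ[k] Lm (Pi.single i 1) = _
    rw [Fintype.linearCombination_apply_single, one_smul]
  have hv0 : v = 0 := hLB (hv.trans (map_zero _).symm)
  have hc : ∀ i : Fin n, (g * h).coeff i = 0 := fun i => by
    have h2 := congrFun (congrArg (TensorProduct.piScalarRight k (AlgebraicClosure k) (AlgebraicClosure k) (Fin n)) hv0) i
    rw [map_zero, map_sum, Finset.sum_apply, Finset.sum_eq_single i] at h2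
    · simpa using h2
    · intro j _ hj
      simp [Pi.single_eq_of_ne (Ne.symm hj)]
    · intro h
      exact absurd (Finset.mem_univ i) h
  refine mul_ne_zero hg0 hh0 (Polynomial.ext fun i => ?_)
  rw [Polynomial.coeff_zero]
  rcases lt_or_ge i n with hi | hi
  · exact hc ⟨i, hi⟩
  · exact Polynomial.coeff_eq_zero_of_natDegree_lt (lt_of_lt_of_le hdeg hi)

/-- Let X be a proper variety over a field k (integral, separated, of finite type and proper over k) and
K = H^0(X, O_X), a k-algebra via the structure morphism. Then K is a field, finite over k; K/k is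
separable when X is geometrically reduced over k, and purely inseparable when X is geometrically
irreducible over k. -/
theorem result (k : Type u) [Field k] (X : Scheme.{u}) [X.Over (Spec (CommRingCat.of k))] [IsIntegral X] [IsProper (X ↘ (Spec (CommRingCat.of k)))] :
    letI := ((X ↘ (Spec (CommRingCat.of k))).appTop.hom.comp (Scheme.ΓSpecIso (CommRingCat.of k)).inv.hom : k →+* Γ(X, ⊤)).toAlgebra
    IsField ↑Γ(X, ⊤) ∧ Module.Finite k ↑Γ(X, ⊤) ∧
      (GeometricallyReduced (X ↘ (Spec (CommRingCat.of k))) → Algebra.IsSeparable k ↑Γ(X, ⊤)) ∧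
      (GeometricallyIrreducible (X ↘ (Spec (CommRingCat.of k))) → IsPurelyInseparable k ↑Γ(X, ⊤)) := by
  generalize hf : (X ↘ (Spec (CommRingCat.of k))) = f
  haveI : IsProper f := hf ▸ ‹IsProper _›
  letI := (f.appTop.hom.comp (Scheme.ΓSpecIso (CommRingCat.of k)).inv.hom : k →+* Γ(X, ⊤)).toAlgebra
  show IsField ↑Γ(X, ⊤) ∧ Module.Finite k ↑Γ(X, ⊤) ∧ (GeometricallyReduced f → Algebra.IsSeparable k ↑Γ(X, ⊤)) ∧
    (GeometricallyIrreducible f → IsPurelyInseparable k ↑Γ(X, ⊤))
  have hfld := isField_of_universallyClosed k f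
  have hfin : Module.Finite k ↑Γ(X, ⊤) :=
    RingHom.Finite.comp (finite_appTop_of_universallyClosed k f)
      (RingHom.Finite.of_surjective _ (Scheme.ΓSpecIso (CommRingCat.of k)).symm.commRingCatIsoToRingEquiv.surjective)
  refine ⟨hfld, hfin, fun hred => ?_, fun hirr => ?_⟩
  · obtain ⟨x⟩ := (inferInstance : Nonempty X)
    obtain ⟨_, ⟨U, hU, rfl⟩, hxU, -⟩ :=
      X.isBasis_affineOpens.exists_subset_of_mem_open (Set.mem_univ x) isOpen_univ
    let res : Γ(X, ⊤) ⟶ Γ(X, U) := X.presheaf.map (homOfLE le_top).op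
    letI := (res.hom.comp (algebraMap k Γ(X, ⊤))).toAlgebra
    let rA : Γ(X, ⊤) →ₐ[k] Γ(X, U) := { res.hom with commutes' := fun _ => rfl }
    have hc : hU.fromSpec ≫ f = Spec.map (CommRingCat.ofHom (algebraMap k Γ(X, U))) := by
      have hf' : X.toSpecΓ ≫ Spec.map ((Scheme.ΓSpecIso (CommRingCat.of k)).inv ≫ f.appTop) = f := by
        rw [Spec.map_comp, ← Scheme.toSpecΓ_naturality_assoc, toSpecΓ_SpecMap_ΓSpecIso_inv, Category.comp_id]
      conv_lhs => rw [← hf']
      rw [IsAffineOpen.fromSpec_toSpecΓ_assoc, ← Spec.map_comp]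
      rfl
    let c := Spec.map (CommRingCat.ofHom (algebraMap k Γ(X, U)))
    let i := Spec.map (CommRingCat.ofHom (algebraMap k (AlgebraicClosure k)))
    haveI : IsReduced (pullback f i) := GeometricallyReduced.geometrically_isReduced _ _ _ (.of_hasPullback _ _)
    let j : pullback c i ⟶ pullback f i := pullback.map c i f i hU.fromSpec (𝟙 _) (𝟙 _)
      (by rw [Category.comp_id, hc]) (by simp)
    haveI : IsOpenImmersion j := inferInstance
    haveI : IsReduced (pullback c i) := isReduced_of_isOpenImmersion j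
    haveI : IsReduced (Spec (CommRingCat.of (Γ(X, U) ⊗[k] AlgebraicClosure k))) :=
      isReduced_of_isOpenImmersion (pullbackSpecIso k Γ(X, U) (AlgebraicClosure k)).inv
    haveI : _root_.IsReduced (Γ(X, U) ⊗[k] AlgebraicClosure k) :=
      (affine_isReduced_iff (CommRingCat.of (Γ(X, U) ⊗[k] AlgebraicClosure k))).1 inferInstance
    haveI : _root_.IsReduced (AlgebraicClosure k ⊗[k] Γ(X, U)) :=
      isReduced_of_injective (Algebra.TensorProduct.comm k (AlgebraicClosure k) Γ(X, U)) (AlgEquiv.injective _)
    haveI : Nonempty U := ⟨⟨x, hxU⟩⟩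
    letI := hfld.toField
    haveI : _root_.IsReduced (AlgebraicClosure k ⊗[k] Γ(X, ⊤)) :=
      isReduced_of_injective (Algebra.TensorProduct.map (AlgHom.id k _) rA)
        (Module.Flat.lTensor_preserves_injective_linearMap rA.toLinearMap rA.toRingHom.injective)
    exact isSeparable_of_reduced k Γ(X, ⊤)
  · haveI := hirr
    haveI : GeometricallyConnected f := ⟨fun {K} _ y Y fst snd hpb => by
      haveI : IrreducibleSpace Y := GeometricallyIrreducible.geometrically_irreducibleSpace _ _ _ hpb
      infer_instance⟩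
    obtain ⟨-, -, hpow⟩ := (Groth.Agent.SteinGen.geometricallyConnected_iff_globalSections k f).1 inferInstance
    letI := hfld.toField
    rw [isPurelyInseparable_iff_pow_mem k (ringExpChar k)]
    intro a
    obtain ⟨n, c, hn⟩ := hpow a
    exact ⟨n, c, (sub_eq_zero.1 hn.eq_zero).symm⟩

end Groth.Agent.S7615
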