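import Groth.Statements.S7616
import Groth.Agent.NagataNorm.Basic
import Groth.Agent.N2Field.Basic

set_option autoImplicit false
set_option linter.style.haveILetI false
universe u
open CategoryTheory CategoryTheory.Limits AlgebraicGeometry
open Variety

namespace Groth.Agent.S7616

/-- Let f : Y → X be a quasi-compact morphism of schemes locally of finite type over a field k, with Y
reduced; f is automatically quasi-separated. Then the normalization of X in Y is finite over X. -/
theorem result (k : Type u) [Field k] (X : Scheme.{u}) [X.Over (Spec (CommRingCat.of k))] [LocallyOfFiniteType (X ↘ (Spec (CommRingCat.of k)))]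
    (Y : Scheme.{u}) [Y.Over (Spec (CommRingCat.of k))] [LocallyOfFiniteType (Y ↘ (Spec (CommRingCat.of k)))] [IsReduced Y]
    (f : Y ⟶ X) [f.IsOver (Spec (CommRingCat.of k))] [QuasiCompact f] [QuasiSeparated f] :
    IsFinite f.fromNormalization := by
  let S := Spec (CommRingCat.of k)
  haveI : LocallyOfFiniteType f := by
    haveI : LocallyOfFiniteType (f ≫ (X ↘ S)) := by rw [comp_over]; infer_instance
    exact locallyOfFiniteType_of_comp f (X ↘ S)
  haveI : IsLocallyNoetherian X := LocallyOfFiniteType.isLocallyNoetherian (X ↘ S)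
  haveI : IsLocallyNoetherian Y := LocallyOfFiniteType.isLocallyNoetherian f
  refine NagataNorm.isFinite_fromNormalization f (fun U => ⟨IsLocallyNoetherian.component_noetherian U, fun p _ => ?_⟩)
    (fun U => NagataNorm.finite_components_of_isCompact _ (f.isCompact_preimage U.2.isCompact))
    (fun x _ => NagataNorm.residueFieldMap_essFiniteType f x)
  let σ := (X ↘ S).appLE ⊤ U.1 (by simp)
  letI : Algebra k Γ(X, U.1) := (σ.hom.comp (Scheme.ΓSpecIso (CommRingCat.of k)).inv.hom).toAlgebra
  haveI : Algebra.FiniteType k Γ(X, U.1) := by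
    rw [← RingHom.finiteType_algebraMap, RingHom.algebraMap_toAlgebra]
    exact ((X ↘ S).finiteType_appLE (isAffineOpen_top S) U.2 _).comp
      (RingHom.FiniteType.of_surjective _ (Scheme.ΓSpecIso (CommRingCat.of k)).symm.commRingCatIsoToRingEquiv.surjective)
  intro L _ _ _ _ hfd
  haveI : FiniteDimensional (FractionRing (Γ(X, U.1) ⧸ p)) L := hfd
  exact N2Field.finite_integralClosure k (Γ(X, U.1) ⧸ p) (FractionRing (Γ(X, U.1) ⧸ p)) L

end Groth.Agent.S7616
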