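import Groth.Statements.S7619
import Mathlib

set_option autoImplicit false
universe u
open CategoryTheory CategoryTheory.Limits AlgebraicGeometry
open scoped TensorProduct
open Variety

set_option backward.isDefEq.respectTransparency false
namespace Groth.Agent.S7619

/-- Let A → B be a finite type ring map (a finite type morphism of affine schemes), q a prime of B and r
= dim_{κ(q)} Ω_{B/A} ⊗_B κ(q). Then there is an A-algebra homomorphism A[x_1, …, x_r] → B for which
B is unramified over A[x_1, …, x_r] at q. -/
theorem result (A B : Type u) [CommRing A] [CommRing B] [Algebra A B] [Algebra.FiniteType A B]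
    (q : Ideal B) [q.IsPrime] (r : ℕ) (hr : Module.finrank q.ResidueField (q.ResidueField ⊗[B] Ω[B⁄A]) = r) :
    ∃ φ : MvPolynomial (Fin r) A →ₐ[A] B,
      letI := φ.toRingHom.toAlgebra
      Algebra.IsUnramifiedAt (MvPolynomial (Fin r) A) q := by
  let K := q.ResidueField
  let f : Ω[B⁄A] → K ⊗[B] Ω[B⁄A] := fun w => (1 : K) ⊗ₜ[B] w
  have hspan : Submodule.span K (Set.range fun b : B => f (KaehlerDifferential.D A B b)) = ⊤ := by
    rw [Submodule.eq_top_iff']
    intro x
    induction x using TensorProduct.induction_on with
    | zero => exact Submodule.zero_mem _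
    | add x y hx hy => exact Submodule.add_mem _ hx hy
    | tmul c w =>
      rw [show c ⊗ₜ[B] w = c • ((1 : K) ⊗ₜ[B] w) by rw [TensorProduct.smul_tmul', smul_eq_mul, mul_one]]
      refine Submodule.smul_mem _ c ?_
      have hw : w ∈ Submodule.span B (Set.range (KaehlerDifferential.D A B)) := by
        rw [KaehlerDifferential.span_range_derivation]; trivial
      induction hw using Submodule.span_induction with
      | mem y hy => obtain ⟨b, rfl⟩ := hy; exact Submodule.subset_span ⟨b, rfl⟩
      | zero => rw [TensorProduct.tmul_zero]; exact Submodule.zero_mem _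
      | add y z _ _ hy hz => rw [TensorProduct.tmul_add]; exact Submodule.add_mem _ hy hz
      | smul a y _ hy =>
        rw [TensorProduct.tmul_smul, ← algebraMap_smul K a]
        exact Submodule.smul_mem _ _ hy
  obtain ⟨t, hts, htspan, htind⟩ := exists_linearIndependent K (Set.range fun b : B => f (KaehlerDifferential.D A B b))
  rw [hspan] at htspan
  let bt := Module.Basis.mk htind (by rw [Subtype.range_coe_subtype, Set.setOf_mem_eq, htspan])
  haveI : Module.Finite B (Ω[B⁄A]) := inferInstance
  haveI : Module.Finite K (K ⊗[B] Ω[B⁄A]) := Module.Finite.base_change _ _ _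
  haveI : Fintype t := FiniteDimensional.fintypeBasisIndex bt
  have hcard : Fintype.card t = r := (Module.finrank_eq_card_basis bt).symm.trans hr
  choose β hβ using fun v : t => hts v.2
  let e : Fin r ≃ t := (Fintype.equivFinOfCardEq hcard).symm
  let φ : MvPolynomial (Fin r) A →ₐ[A] B := MvPolynomial.aeval fun i => β (e i)
  refine ⟨φ, ?_⟩
  letI := φ.toRingHom.toAlgebra
  haveI : IsScalarTower A (MvPolynomial (Fin r) A) B := IsScalarTower.of_algebraMap_eq fun a => (φ.commutes a).symm
  haveI : Algebra.FiniteType (MvPolynomial (Fin r) A) B := Algebra.FiniteType.of_restrictScalars_finiteType A _ B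
  haveI : Subsingleton (K ⊗[B] Ω[B⁄MvPolynomial (Fin r) A]) := by
    let π := LinearMap.baseChange K (KaehlerDifferential.map A (MvPolynomial (Fin r) A) B B)
    have hsurj : Function.Surjective π := LinearMap.lTensor_surjective K (KaehlerDifferential.map_surjective A (MvPolynomial (Fin r) A) B)
    have hzero : π = 0 := by
      refine bt.ext fun v => ?_
      rw [Module.Basis.mk_apply, LinearMap.zero_apply, ← hβ v]
      show π ((1 : K) ⊗ₜ[B] KaehlerDifferential.D A B (β v)) = 0
      rw [show π ((1 : K) ⊗ₜ[B] KaehlerDifferential.D A B (β v)) = (1 : K) ⊗ₜ[B] KaehlerDifferential.map A (MvPolynomial (Fin r) A) B B (KaehlerDifferential.D A B (β v)) from rfl,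
        KaehlerDifferential.map_D, Algebra.algebraMap_self, RingHom.id_apply,
        show β v = algebraMap (MvPolynomial (Fin r) A) B (MvPolynomial.X (e.symm v)) from
          (by show _ = φ _; rw [MvPolynomial.aeval_X, Equiv.apply_symm_apply]),
        Derivation.map_algebraMap, TensorProduct.tmul_zero]
    exact ⟨fun x y => by
      obtain ⟨x, rfl⟩ := hsurj x; obtain ⟨y, rfl⟩ := hsurj y; rw [hzero]; rfl⟩
  have hsupp : (⟨q, inferInstance⟩ : PrimeSpectrum B) ∉ Module.support B (Ω[B⁄MvPolynomial (Fin r) A]) := fun h => by
    rw [Module.mem_support_iff_nontrivial_residueField_tensorProduct] at h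
    exact not_subsingleton (K ⊗[B] Ω[B⁄MvPolynomial (Fin r) A]) inferInstance
  have : (⟨q, inferInstance⟩ : PrimeSpectrum B) ∈ Algebra.unramifiedLocus (MvPolynomial (Fin r) A) B := by
    rw [Algebra.unramifiedLocus_eq_compl_support]; exact hsupp
  exact this

end Groth.Agent.S7619
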