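import Groth.Statements.S7620
import Mathlib
import Groth.Agent.Unibranch.Noether

set_option autoImplicit false
universe u
open CategoryTheory CategoryTheory.Limits AlgebraicGeometry
open scoped TensorProduct
open Variety

set_option backward.isDefEq.respectTransparency false
namespace Groth.Agent.S7620

/-- Let A → B be a finite type ring map (a finite type morphism of affine schemes X → S), p a prime of A
and suppose the fibre ring κ(p) ⊗_A B has Krull dimension d. Then there is an A-algebra homomorphism
π : A[t_1, …, t_d] → B such that the induced map of fibres κ(p) ⊗_A A[t_1, …, t_d] → κ(p) ⊗_A B is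
finite. -/
theorem result (A B : Type u) [CommRing A] [CommRing B] [Algebra A B] [Algebra.FiniteType A B]
    (p : Ideal A) [p.IsPrime] (d : ℕ) (hd : ringKrullDim (p.ResidueField ⊗[A] B) = d) :
    ∃ π : MvPolynomial (Fin d) A →ₐ[A] B,
      (Algebra.TensorProduct.map (AlgHom.id p.ResidueField p.ResidueField) π).toRingHom.Finite := by
  let K := p.ResidueField
  haveI : Algebra.FiniteType K (K ⊗[A] B) := Algebra.FiniteType.baseChange K
  haveI : Nontrivial (K ⊗[A] B) := by
    rw [← not_subsingleton_iff_nontrivial]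
    intro h
    rw [ringKrullDim_eq_bot_of_subsingleton] at hd
    exact WithBot.bot_ne_coe hd
  obtain ⟨s, g, hgi, hgf⟩ := exists_finite_inj_algHom_of_fg K (K ⊗[A] B)
  have hs : s = d := by
    have := (Groth.Agent.Unibranch.ringKrullDim_eq_of_finite_inj g hgi hgf).symm.trans hd
    exact_mod_cast this
  subst hs
  have hrep : ∀ x : K ⊗[A] B, ∃ (c : K) (b : B), c ≠ 0 ∧ c • x = (1 : K) ⊗ₜ[A] b := by
    intro x
    induction x using TensorProduct.induction_on with
    | zero => exact ⟨1, 0, one_ne_zero, by simp⟩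
    | tmul c b =>
      obtain ⟨⟨a, t⟩, hat⟩ := IsLocalization.surj (nonZeroDivisors (A ⧸ p)) c
      obtain ⟨a, rfl⟩ := Ideal.Quotient.mk_surjective a
      obtain ⟨u, hu⟩ := Ideal.Quotient.mk_surjective t.1
      refine ⟨algebraMap A K u, a • b, ?_, ?_⟩
      · show algebraMap (A ⧸ p) K (Ideal.Quotient.mk p u) ≠ 0
        rw [hu]
        exact IsLocalization.map_units K t |>.ne_zero
      · rw [TensorProduct.smul_tmul', ← TensorProduct.smul_tmul a (1 : K) b]
        congr 1
        rw [smul_eq_mul, Algebra.smul_def, mul_one, IsScalarTower.algebraMap_apply A (A ⧸ p) K u,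
          IsScalarTower.algebraMap_apply A (A ⧸ p) K a]
        show algebraMap (A ⧸ p) K (Ideal.Quotient.mk p u) * c = algebraMap (A ⧸ p) K (Ideal.Quotient.mk p a)
        rw [hu, mul_comm, hat]
    | add x y hx hy =>
      obtain ⟨c, b, hc, e⟩ := hx
      obtain ⟨c', b', hc', e'⟩ := hy
      obtain ⟨⟨a, t⟩, hat⟩ := IsLocalization.surj (nonZeroDivisors (A ⧸ p)) c
      obtain ⟨a, rfl⟩ := Ideal.Quotient.mk_surjective a
      obtain ⟨⟨a', t'⟩, hat'⟩ := IsLocalization.surj (nonZeroDivisors (A ⧸ p)) c'
      obtain ⟨a', rfl⟩ := Ideal.Quotient.mk_surjective a'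
      refine ⟨algebraMap A K a * algebraMap A K a', ?_⟩
      have m1 : algebraMap A K a = c * algebraMap (A ⧸ p) K t := by
        rw [IsScalarTower.algebraMap_apply A (A ⧸ p) K]; exact hat.symm
      have m2 : algebraMap A K a' = c' * algebraMap (A ⧸ p) K t' := by
        rw [IsScalarTower.algebraMap_apply A (A ⧸ p) K]; exact hat'.symm
      obtain ⟨u, hu⟩ := Ideal.Quotient.mk_surjective t.1
      obtain ⟨u', hu'⟩ := Ideal.Quotient.mk_surjective t'.1
      refine ⟨(a' * u) • b + (a * u') • b', ?_, ?_⟩
      · rw [m1, m2]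
        exact mul_ne_zero (mul_ne_zero hc (IsLocalization.map_units K t).ne_zero) (mul_ne_zero hc' (IsLocalization.map_units K t').ne_zero)
      · have l1 : algebraMap A K u = algebraMap (A ⧸ p) K t := by
          rw [IsScalarTower.algebraMap_apply A (A ⧸ p) K]; exact congrArg _ hu
        have l2 : algebraMap A K u' = algebraMap (A ⧸ p) K t' := by
          rw [IsScalarTower.algebraMap_apply A (A ⧸ p) K]; exact congrArg _ hu'
        rw [smul_add, TensorProduct.tmul_add, TensorProduct.tmul_smul, TensorProduct.tmul_smul, ← e, ← e',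
          ← algebraMap_smul K (a' * u), ← algebraMap_smul K (a * u'), smul_smul, smul_smul, map_mul, map_mul, l1, l2, m1, m2]
        congr 2 <;> ring
  choose c b hc hb using fun i : Fin s => hrep (g (MvPolynomial.X i))
  refine ⟨MvPolynomial.aeval b, ?_⟩
  let h : MvPolynomial (Fin s) K →ₐ[K] MvPolynomial (Fin s) K :=
    MvPolynomial.aeval fun i => MvPolynomial.C (c i) * MvPolynomial.X i
  have hsurj : Function.Surjective h := by
    rw [← AlgHom.range_eq_top, eq_top_iff, ← MvPolynomial.adjoin_range_X]
    refine Algebra.adjoin_le (Set.range_subset_iff.2 fun i => ?_)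
    refine ⟨MvPolynomial.C (c i)⁻¹ * MvPolynomial.X i, ?_⟩
    show h _ = _
    simp only [h, map_mul, MvPolynomial.aeval_C, MvPolynomial.aeval_X, MvPolynomial.algebraMap_eq]
    rw [← mul_assoc, ← map_mul, inv_mul_cancel₀ (hc i), map_one, one_mul]
  have hfin : ((g.comp h).toRingHom).Finite := hgf.comp (RingHom.Finite.of_surjective h.toRingHom hsurj)
  let e := MvPolynomial.scalarRTensorAlgEquiv (R := A) (N := K) (σ := Fin s)
  let ι : K ⊗[A] MvPolynomial (Fin s) A →ₐ[K] MvPolynomial (Fin s) K := (MvPolynomial.algebraTensorAlgEquiv A K).toAlgHom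
  have key : Algebra.TensorProduct.map (AlgHom.id K K) (MvPolynomial.aeval b) = (g.comp h).comp ι := by
    refine Algebra.TensorProduct.ext (by ext) (MvPolynomial.algHom_ext fun i => ?_)
    show (1 : K) ⊗ₜ[A] MvPolynomial.aeval b (MvPolynomial.X i) = g (h (ι ((1 : K) ⊗ₜ[A] MvPolynomial.X i)))
    rw [MvPolynomial.aeval_X, ← hb, show ι ((1 : K) ⊗ₜ[A] MvPolynomial.X i) = MvPolynomial.X i by simp [ι]]
    show _ = g (MvPolynomial.aeval _ (MvPolynomial.X i))
    rw [MvPolynomial.aeval_X, map_mul, ← MvPolynomial.algebraMap_eq, AlgHom.commutes, ← Algebra.smul_def]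
  rw [key]
  exact hfin.comp (RingHom.Finite.of_surjective ι.toRingHom (MvPolynomial.algebraTensorAlgEquiv A K).surjective)

end Groth.Agent.S7620
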