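import Groth.Statements.S7624
import Groth.Agent.FlatDim.DimSets

set_option autoImplicit false
set_option linter.style.haveILetI false
set_option backward.isDefEq.respectTransparency false
open Groth.Agent
universe u
open CategoryTheory CategoryTheory.Limits AlgebraicGeometry
open Variety

namespace Groth.Agent.S7624

/-- Let R be a valuation ring, X an irreducible scheme and f : X → Spec R a surjective morphism locally
of finite type. Then each irreducible component of the fibre of f over the closed point of Spec R
has Krull dimension equal to that of the fibre of f over the generic point. -/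
theorem result (R : Type u) [CommRing R] [IsDomain R] [ValuationRing R]
    (X : Scheme.{u}) [IrreducibleSpace ↥X] (f : X ⟶ Spec (CommRingCat.of R)) [LocallyOfFiniteType f] [Surjective f]
    (Z : Set ↥(f.fiber (IsLocalRing.closedPoint R))) (hZ : Z ∈ irreducibleComponents ↥(f.fiber (IsLocalRing.closedPoint R))) :
    topologicalKrullDim ↥Z = topologicalKrullDim ↥(f.fiber (⟨⊥, Ideal.bot_prime⟩ : PrimeSpectrum R)) := by
  obtain ⟨v, hv, rfl⟩ := Unibranch.exists_isMaxPt hZ
  let z := f.fiberι (IsLocalRing.closedPoint R) v
  have hz : FlatDim.IsFibMax f z := (FlatDim.isFibMax_iff f _ v).1 hv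
  have hfz : f z = IsLocalRing.closedPoint R := (f.range_fiberι _).le ⟨v, rfl⟩
  let ξ := genericPoint ↥X
  let b : PrimeSpectrum R := ⟨⊥, Ideal.bot_prime⟩
  have hξz : ξ ⤳ z := genericPoint_specializes z
  have hξ : f ξ = b := by
    obtain ⟨x, hx⟩ := f.surjective b
    have h1 : f ξ ⤳ b := hx ▸ (genericPoint_specializes x).map f.continuous
    exact (h1.antisymm ((PrimeSpectrum.le_iff_specializes b (f ξ)).1 (bot_le (a := (f ξ).asIdeal)))).eq
  obtain ⟨e, he1, he2, -⟩ := Unibranch.exists_dim_closure_eq f ξ
  obtain ⟨e', h1, h2, -⟩ := Unibranch.exists_dim_closure_eq f z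
  obtain rfl : e = e' := le_antisymm (FlatDim.le_of_isFibMax f hz hξz he2 h1)
    ((ValFibre.hasChain_of_specializes f hξz h2).le he1)
  rw [hfz] at h1 h2
  rw [hξ] at he1 he2
  rw [FlatDim.fibre_closure_dim f _ v h1 h2]
  refine le_antisymm ((FlatDim.natCast_le_fibre_iff f b).2 ⟨ξ, hξ, he2⟩)
    (Unibranch.natCast_le_iff_of_le_iff.2 fun j hj => ?_)
  obtain ⟨x, -, hx⟩ := (FlatDim.natCast_le_fibre_iff f b).1 hj
  exact (hx.mono (closure_minimal (Set.singleton_subset_iff.2 (genericPoint_specializes x).mem_closure)
    isClosed_closure)).le he1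

end Groth.Agent.S7624
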