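import Groth.Statements.S7625
import Groth.Agent.EquidimPt.FlatChart

set_option autoImplicit false
universe u
open CategoryTheory CategoryTheory.Limits AlgebraicGeometry
open Variety

namespace Groth.Agent.S7625
open Groth.Agent.Unibranch Groth.Agent.EquidimPt TopologicalSpace CategoryTheory.Limits

/-- Let f : X → S be locally of finite type, x a point of X with image s, V an affine open neighbourhood
of s in S, and suppose dim_x(X_s) = d. Then there is an affine open neighbourhood U of x with f(U) ⊆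
V and a factorisation of f|_U as U → 𝔸^d_V → V with U → 𝔸^d_V locally quasi-finite and locally of
finite type (hence quasi-finite, U being affine). -/
theorem result {X S : Scheme.{u}} (f : X ⟶ S) [LocallyOfFiniteType f] (x : ↥X)
    (V : S.Opens) (hV : IsAffineOpen V) (hxV : f x ∈ V) (d : ℕ) (hd : FlatMor.fibreDimAt f x = d) :
    ∃ (U : X.Opens), IsAffineOpen U ∧ x ∈ U ∧
      ∃ (g : (U : Scheme.{u}) ⟶ (V : Scheme.{u})) (π : (U : Scheme.{u}) ⟶ 𝔸(ULift.{u} (Fin d); (V : Scheme.{u}))),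
        g ≫ V.ι = U.ι ≫ f ∧ π ≫ (𝔸(ULift.{u} (Fin d); (V : Scheme.{u})) ↘ (V : Scheme.{u})) = g ∧
          LocallyQuasiFinite π ∧ LocallyOfFiniteType π := by
  obtain ⟨U₀, hxU₀, hU₀⟩ := (fibreDimAt_le_iff f x).mp hd.le
  obtain ⟨U, g, hxU, hUle, hg, hqf, hlft⟩ := exists_quasiFinite_of_chainsLE f
    (U₀ := U₀ ⊓ f ⁻¹ᵁ V) ⟨hxU₀, hxV⟩ (hU₀.mono fun z hz => hz.1)
  obtain ⟨W, hW, hxW, hWU⟩ := exists_isAffineOpen_mem_and_subset (x := x) (U := U) hxU
  let σ := ULift.{u} (Fin d)
  let r : (W : Scheme.{u}) ⟶ (V : Scheme.{u}) :=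
    f.resLE V W fun z hz => (hUle (hWU hz)).2
  let k : (W : Scheme.{u}) ⟶ AffineSpace σ S := X.homOfLE hWU ≫ g
  have hk : k ≫ (AffineSpace σ S ↘ S) = r ≫ V.ι := by
    rw [Category.assoc, hg, Scheme.homOfLE_ι_assoc, Scheme.Hom.resLE_comp_ι]
  refine ⟨W, hW, hxW, r, (AffineSpace.isPullback_map (n := σ) V.ι).lift k r hk,
    Scheme.Hom.resLE_comp_ι _ _, IsPullback.lift_snd _ _ _ _, ?_, ?_⟩
  · haveI : LocallyQuasiFinite ((AffineSpace.isPullback_map (n := σ) V.ι).lift k r hk ≫ AffineSpace.map σ V.ι) := by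
      rw [IsPullback.lift_fst]; infer_instance
    exact LocallyQuasiFinite.of_comp _ (AffineSpace.map σ V.ι)
  · haveI : LocallyOfFiniteType ((AffineSpace.isPullback_map (n := σ) V.ι).lift k r hk ≫ AffineSpace.map σ V.ι) := by
      rw [IsPullback.lift_fst]; infer_instance
    exact locallyOfFiniteType_of_comp _ (AffineSpace.map σ V.ι)

end Groth.Agent.S7625
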