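import Groth.Statements.S7627
import Mathlib
import Groth.Agent.GeomProp.BCStalk
attribute [local instance] Curv2.stalkAlgebra

set_option autoImplicit false
universe u
open CategoryTheory CategoryTheory.Limits AlgebraicGeometry
attribute [local instance] Curv2.resAlgebra
open scoped TensorProduct
open Variety

set_option backward.isDefEq.respectTransparency false
namespace Groth.Agent.S7627


theorem radical_map_maximal {k K O : Type u} [Field k] [Field K] [Algebra k K] [CommRing O] [Algebra k O] [IsLocalRing O]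
    (h : _root_.IsReduced (IsLocalRing.ResidueField O ⊗[k] K)) :
    ((IsLocalRing.maximalIdeal O).map (algebraMap O (O ⊗[k] K))).IsRadical := by
  let r : O →ₐ[k] IsLocalRing.ResidueField O := { IsLocalRing.residue O with commutes' := fun _ => rfl }
  have hr : Function.Surjective r := IsLocalRing.residue_surjective
  have hker := Algebra.TensorProduct.rTensor_ker (R := k) (S := k) (C := K) r hr
  have he : RingHom.ker (Algebra.TensorProduct.map r (AlgHom.id k K)) = (IsLocalRing.maximalIdeal O).map (algebraMap O (O ⊗[k] K)) := by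
    rw [hker]
    show (RingHom.ker r.toRingHom).map Algebra.TensorProduct.includeLeftRingHom = _
    rw [show RingHom.ker r.toRingHom = IsLocalRing.maximalIdeal O from IsLocalRing.ker_residue]
    rfl
  rw [← he]
  intro a ha
  obtain ⟨n, hn⟩ := ha
  rw [RingHom.mem_ker, map_pow] at hn
  rw [RingHom.mem_ker]
  exact IsNilpotent.eq_zero ⟨n, hn⟩

theorem map_eq_maximal {O A S : Type u} [CommRing O] [IsLocalRing O] [IsNoetherianRing O] [CommRing A] [Algebra O A] [CommRing S] [IsLocalRing S]
    [IsNoetherianRing S] [Algebra A S] [Algebra O S] [IsScalarTower O A S] (Q : Ideal A) [Q.IsPrime] [IsLocalization.AtPrime S Q]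
    [Module.Flat O A] (hQ : Q.comap (algebraMap O A) = IsLocalRing.maximalIdeal O)
    (hdim : ringKrullDim O = ringKrullDim S) (hfin : ringKrullDim O < ⊤)
    (hrad : ((IsLocalRing.maximalIdeal O).map (algebraMap O A)).IsRadical) :
    (IsLocalRing.maximalIdeal O).map (algebraMap O S) = IsLocalRing.maximalIdeal S := by
  haveI : Module.Flat A S := IsLocalization.flat S Q.primeCompl
  haveI : Module.Flat O S := Module.Flat.trans O A S
  haveI hlo : (IsLocalRing.maximalIdeal S).LiesOver (IsLocalRing.maximalIdeal O) := ⟨by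
    have hu : (IsLocalRing.maximalIdeal S).comap (algebraMap A S) = Q := IsLocalization.AtPrime.under_maximalIdeal S Q
    rw [Ideal.under_def, IsScalarTower.algebraMap_eq O A S, ← Ideal.comap_comap, hu, hQ]⟩
  have h := Ideal.height_eq_height_add_of_liesOver_of_hasGoingDown (IsLocalRing.maximalIdeal O) (IsLocalRing.maximalIdeal S)
  set J := (IsLocalRing.maximalIdeal O).map (algebraMap O S) with hJ
  have hle : J ≤ IsLocalRing.maximalIdeal S := Ideal.map_le_iff_le_comap.2 (hlo.over (p := IsLocalRing.maximalIdeal O)).le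
  have hJrad : J.IsRadical := by
    rw [← Ideal.radical_eq_iff, hJ, IsScalarTower.algebraMap_eq O A S, ← Ideal.map_map,
      ← IsLocalization.map_radical Q.primeCompl S, hrad.radical]
  refine le_antisymm hle ?_
  rw [← hJrad.radical, Ideal.radical_eq_sInf]
  refine le_sInf fun P ⟨hJP, hP⟩ => ?_
  have := hP
  by_contra hc
  have hlt : P < IsLocalRing.maximalIdeal S := lt_of_le_not_ge (IsLocalRing.le_maximalIdeal hP.ne_top) hc
  haveI hPq : (P.map (Ideal.Quotient.mk J)).IsPrime :=
    Ideal.map_isPrime_of_surjective Ideal.Quotient.mk_surjective (by rw [Ideal.mk_ker]; exact hJP)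
  haveI hmq : ((IsLocalRing.maximalIdeal S).map (Ideal.Quotient.mk J)).IsPrime :=
    Ideal.map_isPrime_of_surjective Ideal.Quotient.mk_surjective (by rw [Ideal.mk_ker]; exact hle)
  have hlt' : P.map (Ideal.Quotient.mk J) < (IsLocalRing.maximalIdeal S).map (Ideal.Quotient.mk J) := by
    refine lt_of_le_of_ne (Ideal.map_mono hlt.le) fun e => hc ?_
    have := congrArg (Ideal.comap (Ideal.Quotient.mk J)) e
    rw [Ideal.comap_map_mk hJP, Ideal.comap_map_mk hle] at this
    exact this.ge
  have hpos : (1 : ℕ∞) ≤ ((IsLocalRing.maximalIdeal S).map (Ideal.Quotient.mk J)).height := by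
    have h3 := lt_of_le_of_lt (zero_le : (0 : ℕ∞) ≤ _) (Ideal.height_strict_mono_of_isPrime_of_isPrime hlt')
    exact Order.one_le_iff_pos.2 h3
  have e1 := IsLocalRing.maximalIdeal_height_eq_ringKrullDim (R := O)
  have e2 := IsLocalRing.maximalIdeal_height_eq_ringKrullDim (R := S)
  rw [← e1, ← e2] at hdim
  have e3 : (IsLocalRing.maximalIdeal O).height = (IsLocalRing.maximalIdeal S).height := by exact_mod_cast hdim
  have e4 : (IsLocalRing.maximalIdeal O).height ≠ ⊤ := fun e => by rw [← e1, e] at hfin; exact lt_irrefl _ hfin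
  rw [← e3] at h
  obtain ⟨a, ha⟩ := ENat.ne_top_iff_exists.1 e4
  rw [← ha] at h
  have h2 : (a : ℕ∞) + 1 ≤ a := le_of_le_of_eq (add_le_add le_rfl hpos) h.symm
  exact absurd h2 (not_le.2 (ENat.lt_add_one_iff (by simp) |>.2 le_rfl))

/-- Let X be locally of finite type over a field k, K an extension field of k, y a point of X_K with
image x in X. Assume dim O_{X, x} = dim O_{X_K, y} and that κ(x) ⊗_k K is reduced (for instance
κ(x)/k separable or K/k separable). Then m_x O_{X_K, y} = m_y. -/
theorem result (k : Type u) [Field k] (X : Scheme.{u}) [X.Over (Spec (CommRingCat.of k))] [LocallyOfFiniteType (X ↘ (Spec (CommRingCat.of k)))]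
    (K : Type u) [Field K] [Algebra k K] (y : ↥(Curv2.bc k X K))
    (hdim : ringKrullDim ↥(X.presheaf.stalk (Curv2.bcFst k X K y)) = ringKrullDim ↥((Curv2.bc k X K).presheaf.stalk y))
    (hred : _root_.IsReduced (X.residueField (Curv2.bcFst k X K y) ⊗[k] K)) :
    Ideal.map ((Curv2.bcFst k X K).stalkMap y).hom (IsLocalRing.maximalIdeal ↥(X.presheaf.stalk (Curv2.bcFst k X K y))) =
      IsLocalRing.maximalIdeal ↥((Curv2.bc k X K).presheaf.stalk y) := by
  let π := Curv2.bcFst k X K
  haveI : IsLocallyNoetherian X := LocallyOfFiniteType.isLocallyNoetherian (X ↘ (Spec (CommRingCat.of k)))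
  haveI : LocallyOfFiniteType (pullback.snd (X ↘ (Spec (CommRingCat.of k))) (Spec.map (CommRingCat.ofHom (algebraMap k K)))) :=
    MorphismProperty.pullback_snd (P := @LocallyOfFiniteType) _ _ inferInstance
  haveI : IsLocallyNoetherian (Curv2.bc k X K) := LocallyOfFiniteType.isLocallyNoetherian
    (pullback.snd (X ↘ (Spec (CommRingCat.of k))) (Spec.map (CommRingCat.ofHom (algebraMap k K))))
  obtain ⟨x, hx⟩ : ∃ x, Curv2.bcFst k X K y = x := ⟨_, rfl⟩
  have hrad : ((IsLocalRing.maximalIdeal (X.presheaf.stalk x)).map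
      (algebraMap (X.presheaf.stalk x) (X.presheaf.stalk x ⊗[k] K))).IsRadical := by
    subst hx
    exact radical_map_maximal (k := k) (K := K) (O := X.presheaf.stalk _) hred
  have hxd : ringKrullDim ↥(X.presheaf.stalk x) < ⊤ := ringKrullDim_lt_top
  let O := X.presheaf.stalk x
  let j := X.fromSpecStalk x
  haveI : Flat j := GrpField.flat_fromSpecStalk x
  haveI : Flat (pullback.fst (Curv2.bcFst k X K) j) := inferInstance
  haveI : IsPreimmersion (pullback.fst (Curv2.bcFst k X K) j) := inferInstance
  have h1 : IsPullback (pullback.snd (Curv2.bcFst k X K) j)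
      (pullback.fst (Curv2.bcFst k X K) j ≫ pullback.snd (X ↘ Spec (CommRingCat.of k)) (Spec.map (CommRingCat.ofHom (algebraMap k K))))
      (j ≫ (X ↘ Spec (CommRingCat.of k))) (Spec.map (CommRingCat.ofHom (algebraMap k K))) :=
    (IsPullback.of_hasPullback (Curv2.bcFst k X K) j).flip.paste_vert (IsPullback.of_hasPullback _ _)
  rw [Groth.Agent.GeomProp.fromSpecStalk_over k X x] at h1
  let e : pullback (Curv2.bcFst k X K) j ≅ Spec (CommRingCat.of (O ⊗[k] K)) :=
    h1.isoPullback ≪≫ pullbackSpecIso k O K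
  let h : Spec (CommRingCat.of (O ⊗[k] K)) ⟶ Curv2.bc k X K := e.inv ≫ pullback.fst (Curv2.bcFst k X K) j
  haveI : Flat h := inferInstanceAs (Flat (e.inv ≫ _))
  haveI : IsPreimmersion h := inferInstanceAs (IsPreimmersion (e.inv ≫ _))
  have he : e.inv ≫ pullback.snd (Curv2.bcFst k X K) j = Spec.map (CommRingCat.ofHom (algebraMap O (O ⊗[k] K))) := by
    show (pullbackSpecIso k O K).inv ≫ h1.isoPullback.inv ≫ pullback.snd (Curv2.bcFst k X K) j = _
    rw [h1.isoPullback_inv_fst]
    exact pullbackSpecIso_inv_fst k O K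
  have hh : h ≫ Curv2.bcFst k X K = Spec.map (CommRingCat.ofHom (algebraMap O (O ⊗[k] K))) ≫ j := by
    rw [← he, Category.assoc, Category.assoc, pullback.condition]
  obtain ⟨w, hw1, hw2⟩ := Scheme.Pullback.exists_preimage_pullback (f := Curv2.bcFst k X K) (g := j) y
    (IsLocalRing.closedPoint O) (hx.trans (Scheme.fromSpecStalk_closedPoint).symm)
  let z := e.hom w
  have hz : h z = y := by
    show (e.hom ≫ e.inv ≫ pullback.fst (Curv2.bcFst k X K) j) w = y
    rw [Iso.hom_inv_id_assoc, hw1]
  have hQ : z.asIdeal.comap (algebraMap O (O ⊗[k] K)) = IsLocalRing.maximalIdeal O := by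
    have h4 : Spec.map (CommRingCat.ofHom (algebraMap O (O ⊗[k] K))) z = IsLocalRing.closedPoint O := by
      rw [← he]
      show (e.hom ≫ e.inv ≫ pullback.snd (Curv2.bcFst k X K) j) w = _
      rw [Iso.hom_inv_id_assoc, hw2]
    exact congrArg PrimeSpectrum.asIdeal h4
  rw [← hz] at hdim hx ⊢
  let L := (Spec (CommRingCat.of (O ⊗[k] K))).presheaf.stalk z
  let t : CommRingCat.of (O ⊗[k] K) ⟶ L := StructureSheaf.toStalk _ z
  letI : Algebra (O ⊗[k] K) L := t.hom.toAlgebra
  haveI : IsLocalization.AtPrime L z.asIdeal := StructureSheaf.IsLocalization.to_stalk _ z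
  let b : O ⟶ L := CommRingCat.ofHom (algebraMap O (O ⊗[k] K)) ≫ t
  letI : Algebra O L := b.hom.toAlgebra
  haveI : IsScalarTower O (O ⊗[k] K) L := IsScalarTower.of_algebraMap_eq fun _ => rfl
  let a : X.presheaf.stalk ((Curv2.bcFst k X K) (h z)) ⟶ L := (Curv2.bcFst k X K).stalkMap (h z) ≫ h.stalkMap z
  have hs : (Curv2.bcFst k X K) (h z) ⤳ x := (Inseparable.of_eq hx).specializes
  let σ := X.presheaf.stalkSpecializes hs
  have hσ : σ ≫ a = b := by
    refine Spec.map_injective ((cancel_mono j).1 ?_)
    rw [Spec.map_comp, Category.assoc, Scheme.SpecMap_stalkSpecializes_fromSpecStalk, Spec.map_comp, Category.assoc,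
      Scheme.SpecMap_stalkMap_fromSpecStalk, ← Category.assoc, Scheme.SpecMap_stalkMap_fromSpecStalk,
      Category.assoc, hh, Spec.map_comp, Category.assoc, Spec.fromSpecStalk_eq']
  have hbij := Groth.Agent.GeomProp.bijective_stalkMap h z
  haveI : IsNoetherianRing L := isNoetherianRing_of_ringEquiv _ (RingEquiv.ofBijective _ hbij)
  have hdimL : ringKrullDim O = ringKrullDim L := by
    rw [← ringKrullDim_eq_of_ringEquiv (RingEquiv.ofBijective _ hbij), ← hdim]
    exact ringKrullDim_eq_of_ringEquiv (X.presheaf.stalkCongr (Inseparable.of_eq hx)).commRingCatIsoToRingEquiv.symm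
  have key := map_eq_maximal (O := O) (A := O ⊗[k] K) (S := L) z.asIdeal hQ hdimL hxd hrad
  rw [show algebraMap O L = a.hom.comp σ.hom from (congrArg CommRingCat.Hom.hom hσ).symm, ← Ideal.map_map] at key
  have hσm : Ideal.map σ.hom (IsLocalRing.maximalIdeal O) = IsLocalRing.maximalIdeal _ := by
    have hb : Function.Bijective σ.hom := (X.presheaf.stalkCongr (Inseparable.of_eq hx)).commRingCatIsoToRingEquiv.symm.bijective
    exact IsLocalRing.map_maximalIdeal_of_surjective σ.hom hb.2
  rw [hσm, show a.hom = (h.stalkMap z).hom.comp ((Curv2.bcFst k X K).stalkMap (h z)).hom from rfl, ← Ideal.map_map] at key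
  rw [← Ideal.comap_map_of_bijective _ hbij (I := Ideal.map _ _), key]
  exact ((IsLocalRing.maximalIdeal_comap (h.stalkMap z).hom)).trans rfl

end Groth.Agent.S7627
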