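import Groth.Statements.S7628
import Mathlib

set_option autoImplicit false
universe u
open CategoryTheory CategoryTheory.Limits AlgebraicGeometry
open Variety

set_option backward.isDefEq.respectTransparency false
set_option backward.isDefEq.respectTransparency.types false

namespace Groth.Agent.S7628

/-- Let X be a scheme over a field k, A a k-algebra and V ⊆ X_A = X ×_k Spec A a quasi-compact open
subset. Then there are a finitely generated k-subalgebra A' ⊆ A and a quasi-compact open subset V' ⊆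
X_{A'} such that V is the inverse image of V' under the transition morphism X_A → X_{A'} (any
morphism compatible with the projections to X and with Spec A → Spec A'; it is unique). -/
theorem result (k : Type u) [Field k] (X : Scheme.{u}) [X.Over (Spec (CommRingCat.of k))] (A : Type u) [CommRing A] [Algebra k A]
    (V : Set ↥(pullback (X ↘ (Spec (CommRingCat.of k))) (Spec.map (CommRingCat.ofHom (algebraMap k A))))) (hV : IsOpen V) (hVc : IsCompact V) :
    ∃ (A' : Subalgebra k A), A'.FG ∧
      ∃ (V' : Set ↥(pullback (X ↘ (Spec (CommRingCat.of k))) (Spec.map (CommRingCat.ofHom (algebraMap k ↥A'))))), IsOpen V' ∧ IsCompact V' ∧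
        ∀ π : pullback (X ↘ (Spec (CommRingCat.of k))) (Spec.map (CommRingCat.ofHom (algebraMap k A))) ⟶
            pullback (X ↘ (Spec (CommRingCat.of k))) (Spec.map (CommRingCat.ofHom (algebraMap k ↥A'))),
          π ≫ pullback.fst _ _ = pullback.fst _ _ →
          π ≫ pullback.snd _ _ = pullback.snd _ _ ≫ Spec.map (CommRingCat.ofHom A'.val.toRingHom) →
            π.base ⁻¹' V' = V := by
  classical
  let x : X ⟶ Spec (CommRingCat.of k) := X ↘ Spec (CommRingCat.of k)
  -- local data at each point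
  have key : ∀ p ∈ V, ∃ (O : Set ↥(pullback x (Spec.map (CommRingCat.ofHom (algebraMap k A))))),
      IsOpen O ∧ p ∈ O ∧ O ⊆ V ∧ ∃ (T : Finset A) (W : ∀ A' : Subalgebra k A, (↑T : Set A) ⊆ A' →
      Set ↥(pullback x (Spec.map (CommRingCat.ofHom (algebraMap k ↥A'))))),
      ∀ (A' : Subalgebra k A) (h : (↑T : Set A) ⊆ A'), IsOpen (W A' h) ∧ IsCompact (W A' h) ∧
        ∀ π : pullback x (Spec.map (CommRingCat.ofHom (algebraMap k A))) ⟶
            pullback x (Spec.map (CommRingCat.ofHom (algebraMap k ↥A'))),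
          π ≫ pullback.fst _ _ = pullback.fst _ _ →
          π ≫ pullback.snd _ _ = pullback.snd _ _ ≫ Spec.map (CommRingCat.ofHom A'.val.toRingHom) →
          π.base ⁻¹' W A' h = O := by
    intro p hp
    obtain ⟨U, hU, hpU, -⟩ := exists_isAffineOpen_mem_and_subset
      (show pullback.fst x (Spec.map (CommRingCat.ofHom (algebraMap k A))) p ∈ (⊤ : X.Opens) from trivial)
    let φ := Spec.preimage (hU.fromSpec ≫ x)
    have hφ : Spec.map φ = hU.fromSpec ≫ x := Spec.map_preimage _
    letI : Algebra k Γ(X, U) := φ.hom.toAlgebra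
    let B : Type u := Γ(X, U)
    have hB : Spec.map (CommRingCat.ofHom (algebraMap k B)) = hU.fromSpec ≫ x := hφ
    let j : ∀ (C : Type u) [CommRing C] [Algebra k C],
        Spec (CommRingCat.of (TensorProduct k B C)) ⟶ pullback x (Spec.map (CommRingCat.ofHom (algebraMap k C))) :=
      fun C _ _ => (pullbackSpecIso k B C).inv ≫
        pullback.map _ _ _ _ hU.fromSpec (𝟙 _) (𝟙 _) (by rw [Category.comp_id, hB]) (by simp)
    have hjr : ∀ (C : Type u) [CommRing C] [Algebra k C],
        Set.range (j C) = pullback.fst x (Spec.map (CommRingCat.ofHom (algebraMap k C))) ⁻¹' (U : Set X) := by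
      intro C _ _
      simp only [j, Scheme.Hom.comp_base, TopCat.coe_comp]
      rw [Set.range_comp, Set.range_eq_univ.mpr (pullbackSpecIso k B C).inv.surjective, Set.image_univ,
        Scheme.Pullback.range_map]
      erw [hU.range_fromSpec]
      simp
    have hjo : ∀ (C : Type u) [CommRing C] [Algebra k C], IsOpenImmersion (j C) := fun C _ _ => by
      simp only [j]; infer_instance
    have hpr : p ∈ Set.range (j A) := by rw [hjr]; exact hpU
    obtain ⟨q, hq⟩ := hpr
    have hVq : q ∈ (j A).base ⁻¹' V := by show j A q ∈ V; rw [hq]; exact hp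
    obtain ⟨_, ⟨f, rfl⟩, hqf, hfV⟩ :=
      PrimeSpectrum.isTopologicalBasis_basic_opens.exists_subset_of_mem_open hVq
        (hV.preimage (j A).continuous)
    obtain ⟨s, hs⟩ := TensorProduct.exists_finset (f : TensorProduct k B A)
    haveI := hjo A
    refine ⟨j A '' (PrimeSpectrum.basicOpen f : Set (PrimeSpectrum (TensorProduct k B A))), (j A).isOpenEmbedding.isOpenMap _ (PrimeSpectrum.basicOpen f).2,
      ⟨q, hqf, hq⟩, fun _ ⟨t, ht, e⟩ => e ▸ hfV ht, s.image Prod.snd, fun A' h => ?_, fun A' h => ?_⟩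
    · exact j A' '' (PrimeSpectrum.basicOpen
        (∑ i ∈ s.attach, (i.1.1 : B) ⊗ₜ[k] (⟨i.1.2, h (Finset.mem_coe.mpr (Finset.mem_image_of_mem _ i.2))⟩ : A')) :
          Set (PrimeSpectrum (TensorProduct k B A')))
    haveI := hjo A'
    haveI := hjo A
    refine ⟨(j A').isOpenEmbedding.isOpenMap _ (PrimeSpectrum.basicOpen _).2,
      (PrimeSpectrum.isCompact_basicOpen _).image (j A').continuous, fun π h1 h2 => ?_⟩
    set f' := ∑ i ∈ s.attach, (i.1.1 : B) ⊗ₜ[k] (⟨i.1.2, h (Finset.mem_coe.mpr (Finset.mem_image_of_mem _ i.2))⟩ : A')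
    let m : TensorProduct k B A' →ₐ[k] TensorProduct k B A :=
      Algebra.TensorProduct.map (AlgHom.id k B) A'.val
    have hm : m f' = f := by
      rw [map_sum, hs, ← Finset.sum_attach s (fun i => (i.1 : B) ⊗ₜ[k] i.2)]
      rfl
    have hcomm : j A ≫ π = Spec.map (CommRingCat.ofHom m.toRingHom) ≫ j A' := by
      apply pullback.hom_ext
      · rw [Category.assoc, h1]
        simp only [j, Category.assoc, pullback.lift_fst, pullbackSpecIso_inv_fst_assoc]
        rw [← Spec.map_comp_assoc]
        congr 2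
      · rw [Category.assoc, h2]
        simp only [j, Category.assoc, pullback.lift_snd, pullback.lift_snd_assoc, Category.comp_id,
          Category.id_comp, pullbackSpecIso_inv_snd_assoc, pullbackSpecIso_inv_snd]
        rw [← Spec.map_comp, ← Spec.map_comp]
        congr 1
    have hpt : ∀ t, π (j A t) = j A' (PrimeSpectrum.comap m.toRingHom t) := fun t => by
      rw [← Scheme.Hom.comp_apply, hcomm]
      rfl
    refine Set.Subset.antisymm ?_ ?_
    · rintro z ⟨t', ht', hz⟩
      have hzr : z ∈ Set.range (j A) := by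
        rw [hjr, Set.mem_preimage, ← h1, Scheme.Hom.comp_apply, ← hz]
        have : j A' t' ∈ Set.range (j A') := ⟨t', rfl⟩
        rwa [hjr] at this
      obtain ⟨t, rfl⟩ := hzr
      rw [hpt] at hz
      have e : PrimeSpectrum.comap m.toRingHom t = t' := ((j A').isOpenEmbedding.injective hz).symm
      refine ⟨t, fun hmem => ?_, rfl⟩
      have hmem' : m f' ∈ t.asIdeal := hm.symm ▸ hmem
      exact (show f' ∉ t'.asIdeal from ht') (e ▸ hmem')
    · rintro _ ⟨t, ht, rfl⟩
      refine ⟨PrimeSpectrum.comap m.toRingHom t, fun hmem => ?_, (hpt t).symm⟩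
      exact (show f ∉ t.asIdeal from ht) (hm ▸ hmem)
  choose! O hOo hpO hOV T W hW using key
  -- finitely many points suffice
  obtain ⟨S, hS⟩ := hVc.elim_finite_subcover (fun p : V => O p.1) (fun p => hOo p.1 p.2)
    (fun p hp => Set.mem_iUnion.mpr ⟨⟨p, hp⟩, hpO p hp⟩)
  let T' : Finset A := S.biUnion fun p => T p
  let A' := Algebra.adjoin k (T' : Set A)
  have hsub : ∀ p ∈ S, (T p : Set A) ⊆ A' := fun p hp a ha =>
    Algebra.subset_adjoin (Finset.mem_coe.mpr (Finset.mem_biUnion.mpr ⟨p, hp, ha⟩))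
  refine ⟨A', ⟨T', rfl⟩, ⋃ p : S, W p.1 A' (hsub p.1 p.2),
    isOpen_iUnion fun p => (hW p.1 p.1.2 _ _).1, isCompact_iUnion fun p => (hW p.1 p.1.2 _ _).2.1,
    fun π h1 h2 => ?_⟩
  rw [Set.preimage_iUnion]
  refine Set.Subset.antisymm (Set.iUnion_subset fun p => ?_) fun z hz => ?_
  · rw [(hW p.1 p.1.2 _ (hsub p.1 p.2)).2.2 π h1 h2]
    exact hOV p.1 p.1.2
  · obtain ⟨p, hpS, hp⟩ := Set.mem_iUnion₂.mp (hS hz)
    refine Set.mem_iUnion.mpr ⟨⟨p, hpS⟩, ?_⟩
    rw [(hW p.1 p.2 _ (hsub p hpS)).2.2 π h1 h2]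
    exact hp

end Groth.Agent.S7628
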