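import Groth.Statements.S7630
import Groth.Agent.FieldAmple.Basic
import Mathlib.AlgebraicGeometry.Morphisms.LocalFlatDescent

set_option autoImplicit false
universe u
open CategoryTheory CategoryTheory.Limits AlgebraicGeometry
open Variety

namespace Groth.Agent.S7630

/-- Let X be a scheme over a field k and K an extension field of k. If X_K → Spec K is quasi-projective
(of finite type and admitting a relatively ample invertible module), then so is X → Spec k. -/
theorem result (k : Type u) [Field k] (X : Scheme.{u}) [X.Over (Spec (CommRingCat.of k))] (K : Type u) [Field K] [Algebra k K]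
    (h : RelProj.IsQuasiProjective (Curv2.bcSnd k X K)) : RelProj.IsQuasiProjective (X ↘ (Spec (CommRingCat.of k))) := by
  obtain ⟨hlft, hqc, L, hL⟩ := h
  haveI := hlft
  haveI := hqc
  obtain ⟨M, hM⟩ := Groth.Agent.FieldAmple.exists_isAmple k K X L ((TMul.isRelAmple_iff_isAmple (f := Curv2.bcSnd k X K)).1 hL)
  haveI : CompactSpace X := hM.2.1
  haveI : QuasiCompact (X ↘ Spec (CommRingCat.of k)) := quasiCompact_of_compactSpace _
  haveI : Module.FaithfullyFlat k K := inferInstance
  haveI : Flat (Spec.map (CommRingCat.ofHom (algebraMap k K))) :=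
    (HasRingHomProperty.Spec_iff (P := @Flat)).2 (RingHom.flat_algebraMap_iff.2 inferInstance)
  haveI : Surjective (Spec.map (CommRingCat.ofHom (algebraMap k K))) :=
    ⟨fun y => PrimeSpectrum.comap_surjective_of_faithfullyFlat (B := K) y⟩
  refine ⟨?_, inferInstance, M, (TMul.isRelAmple_iff_isAmple (f := X ↘ Spec (CommRingCat.of k))).2 hM⟩
  exact MorphismProperty.of_isPullback_of_descendsAlong (P := @LocallyOfFiniteType)
    (Q := @Surjective ⊓ @Flat ⊓ @QuasiCompact) (CategoryTheory.IsPullback.of_hasPullback _ _).flip
    ⟨⟨inferInstance, inferInstance⟩, inferInstance⟩ hlft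

end Groth.Agent.S7630
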