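import Groth.Statements.S7631
import Mathlib
import Groth.Agent.S4667

set_option autoImplicit false
universe u
open CategoryTheory CategoryTheory.Limits AlgebraicGeometry
open Variety

namespace Groth.Agent.S7631

set_option linter.style.haveILetI false

theorem ker_snd {W X Y Z : Scheme.{u}} {a : W ⟶ X} {b : W ⟶ Y} {f : X ⟶ Z} {g : Y ⟶ Z}
    (h : IsPullback a b f g) [QuasiCompact f] [Flat g] : b.ker = f.ker.comap g := by
  rw [← Groth.Agent.S4667.result f g, ← h.isoPullback_hom_snd]
  exact Scheme.Hom.ker_comp_of_isIso _ _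

theorem map_comap_closedImmersion {Z P : Scheme.{u}} (ι : Z ⟶ P) [IsClosedImmersion ι] (J : P.IdealSheafData) :
    (J.comap ι).map ι = ι.ker ⊔ J := by
  apply le_antisymm
  · set L := ι.ker ⊔ J with hL
    let jL := L.subschemeι
    let jI : L.subscheme ⟶ Z := Scheme.IdealSheafData.inclusion (le_sup_left : ι.ker ≤ L) ≫ inv ι.toImage
    have hjI : jI ≫ ι = jL := by
      have h : inv ι.toImage ≫ ι = ι.ker.subschemeι := (IsIso.inv_comp_eq _).2 ι.toImage_imageι.symm
      show (_ ≫ inv ι.toImage) ≫ ι = _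
      rw [Category.assoc, h]
      simp [jL]
    let jJ : L.subscheme ⟶ J.subscheme := Scheme.IdealSheafData.inclusion (le_sup_right : J ≤ L)
    let t : L.subscheme ⟶ pullback ι J.subschemeι := pullback.lift jI jJ (by rw [hjI]; simp [jJ, jL])
    have : J.comap ι = (pullback.fst ι J.subschemeι).ker := rfl
    rw [this, Scheme.IdealSheafData.map_ker]
    refine (Scheme.Hom.le_ker_comp t _).trans (le_of_eq ?_)
    rw [pullback.lift_fst_assoc, hjI, Scheme.IdealSheafData.ker_subschemeι]
  · refine sup_le ?_ (Scheme.IdealSheafData.le_map_comap J ι)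
    rw [← Scheme.IdealSheafData.map_bot ι]
    exact Scheme.IdealSheafData.map_mono ι bot_le

theorem main {S A B X Y : Scheme.{u}} [Subsingleton S] [IsIntegral S] (sA : A ⟶ S) (sB : B ⟶ S) (sX : X ⟶ S)
    (sY : Y ⟶ S) (f : A ⟶ X) [QuasiCompact f] (g : B ⟶ Y) [QuasiCompact g]
    (hf : f ≫ sX = sA) (hg : g ≫ sY = sB) (F : pullback sA sB ⟶ pullback sX sY)
    (hF₁ : F ≫ pullback.fst sX sY = pullback.fst sA sB ≫ f)
    (hF₂ : F ≫ pullback.snd sX sY = pullback.snd sA sB ≫ g) :
    F.ker = f.ker.comap (pullback.fst sX sY) ⊔ g.ker.comap (pullback.snd sX sY) := by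
  subst hf hg
  let p₁ := pullback.fst sX sY
  let p₂ := pullback.snd sX sY
  let f₁ : pullback (f ≫ sX) (g ≫ sY) ⟶ pullback sX (g ≫ sY) :=
    pullback.lift (pullback.fst _ _ ≫ f) (pullback.snd _ _) (by rw [Category.assoc]; exact pullback.condition)
  let g₁ : pullback sX (g ≫ sY) ⟶ pullback sX sY :=
    pullback.lift (pullback.fst _ _) (pullback.snd _ _ ≫ g) (by rw [Category.assoc]; exact pullback.condition)
  have hFfac : F = f₁ ≫ g₁ := by
    apply pullback.hom_ext
    · rw [hF₁, Category.assoc]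
      exact ((congrArg (fun t => f₁ ≫ t) (pullback.lift_fst _ _ _)).trans (pullback.lift_fst _ _ _)).symm
    · rw [hF₂, Category.assoc]
      exact ((congrArg (fun t => f₁ ≫ t) (pullback.lift_snd _ _ _)).trans (pullback.lift_snd_assoc _ _ _ _)).symm
  have h₁ : IsPullback (pullback.fst (f ≫ sX) (g ≫ sY)) f₁ f (pullback.fst sX (g ≫ sY)) := by
    refine (IsPullback.of_right ?_ ?_ (IsPullback.of_hasPullback sX (g ≫ sY)).flip).flip
    · have : f₁ ≫ pullback.snd sX (g ≫ sY) = pullback.snd _ _ := pullback.lift_snd _ _ _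
      rw [this]
      exact (IsPullback.of_hasPullback (f ≫ sX) (g ≫ sY)).flip
    · exact pullback.lift_fst _ _ _
  have h₂ : IsPullback (pullback.snd sX (g ≫ sY)) g₁ g p₂ := by
    refine (IsPullback.of_right ?_ ?_ (IsPullback.of_hasPullback sX sY)).flip
    · have : g₁ ≫ pullback.fst sX sY = pullback.fst _ _ := pullback.lift_fst _ _ _
      rw [this]
      exact IsPullback.of_hasPullback sX (g ≫ sY)
    · exact pullback.lift_snd _ _ _
  let ι := pullback.fst p₁ f.ker.subschemeι
  have hι : ι.ker = f.ker.comap p₁ := rfl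
  have hfl : Flat (ι ≫ p₂) :=
    MorphismProperty.of_isPullback (P := @Flat)
      (((IsPullback.of_hasPullback p₁ f.ker.subschemeι).flip.paste_vert (IsPullback.of_hasPullback sX sY)))
      (inferInstance : Flat (f.ker.subschemeι ≫ sX))
  have hsnd : (pullback.snd g₁ ι).ker = (g.ker.comap p₂).comap ι := by
    rw [← Scheme.IdealSheafData.comap_comp]
    exact ker_snd ((IsPullback.of_hasPullback g₁ ι).paste_horiz h₂)
  have hcomap : (f.ker.comap p₁).comap g₁ = (pullback.fst g₁ ι).ker := by
    rw [Scheme.IdealSheafData.ker_fst_of_isClosedImmersion, hι]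
  have hp : g₁ ≫ p₁ = pullback.fst sX (g ≫ sY) := pullback.lift_fst _ _ _
  rw [hFfac, ← Scheme.IdealSheafData.map_ker, ker_snd h₁, ← hp, Scheme.IdealSheafData.comap_comp, hcomap,
    Scheme.IdealSheafData.map_ker, pullback.condition, ← Scheme.IdealSheafData.map_ker, hsnd,
    map_comap_closedImmersion, hι]

/-- Let f : A → X and g : B → Y be quasi-compact morphisms of schemes over a field k and F = f × g : A
×_k B → X ×_k Y. Then the scheme-theoretic image of F is Z ×_k Z', where Z ⊆ X and Z' ⊆ Y are the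
scheme-theoretic images of f and g: in terms of kernel ideal sheaves, ker F is the sum of the
pullback of ker f along the first projection and of ker g along the second. -/
theorem result (k : Type u) [Field k] (X : Scheme.{u}) [X.Over (Spec (CommRingCat.of k))] (Y : Scheme.{u}) [Y.Over (Spec (CommRingCat.of k))]
    (A B : Scheme.{u}) [A.Over (Spec (CommRingCat.of k))] [B.Over (Spec (CommRingCat.of k))]
    (f : A ⟶ X) [f.IsOver (Spec (CommRingCat.of k))] [QuasiCompact f] (g : B ⟶ Y) [g.IsOver (Spec (CommRingCat.of k))] [QuasiCompact g]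
    (F : pullback (A ↘ (Spec (CommRingCat.of k))) (B ↘ (Spec (CommRingCat.of k))) ⟶ pullback (X ↘ (Spec (CommRingCat.of k))) (Y ↘ (Spec (CommRingCat.of k))))
    (hF₁ : F ≫ pullback.fst (X ↘ (Spec (CommRingCat.of k))) (Y ↘ (Spec (CommRingCat.of k))) = pullback.fst (A ↘ (Spec (CommRingCat.of k))) (B ↘ (Spec (CommRingCat.of k))) ≫ f)
    (hF₂ : F ≫ pullback.snd (X ↘ (Spec (CommRingCat.of k))) (Y ↘ (Spec (CommRingCat.of k))) = pullback.snd (A ↘ (Spec (CommRingCat.of k))) (B ↘ (Spec (CommRingCat.of k))) ≫ g) :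
    F.ker = f.ker.comap (pullback.fst (X ↘ (Spec (CommRingCat.of k))) (Y ↘ (Spec (CommRingCat.of k)))) ⊔ g.ker.comap (pullback.snd (X ↘ (Spec (CommRingCat.of k))) (Y ↘ (Spec (CommRingCat.of k)))) := by
  exact main (A ↘ (Spec (CommRingCat.of k))) (B ↘ (Spec (CommRingCat.of k))) (X ↘ (Spec (CommRingCat.of k)))
    (Y ↘ (Spec (CommRingCat.of k))) f g (by simp) (by simp) F hF₁ hF₂

end Groth.Agent.S7631
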