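import Groth.Statements.S7635
import Groth.Agent.KunnAD.HHMain

set_option autoImplicit false
universe u
open CategoryTheory CategoryTheory.Limits AlgebraicGeometry
open scoped TensorProduct
open Variety

set_option backward.isDefEq.respectTransparency false
set_option backward.isDefEq.respectTransparency.types false

namespace Groth.Agent.S7635

/-- Let X and Y be quasi-compact schemes over a field k whose diagonal morphisms over k are affine (for
instance X and Y separated over k), F a quasi-coherent O_X-module and G a quasi-coherent O_Y-module.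
Then for every n ≥ 0 the k-vector space H^n(X ×_k Y, pr_1^*F ⊗ pr_2^*G) is isomorphic to ⊕_{p+q=n}
H^p(X, F) ⊗_k H^q(Y, G). (The published statement asserts that the canonical map built from
pullbacks and cup products is an isomorphism; this row asserts only that some k-linear isomorphism
exists.) -/
theorem result (k : Type u) [Field k] (X : Scheme.{u}) [X.Over (Spec (CommRingCat.of k))] [CompactSpace ↥X] [IsAffineHom (pullback.diagonal (X ↘ (Spec (CommRingCat.of k))))]
    (Y : Scheme.{u}) [Y.Over (Spec (CommRingCat.of k))] [CompactSpace ↥Y] [IsAffineHom (pullback.diagonal (Y ↘ (Spec (CommRingCat.of k))))]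
    (F : X.Modules) (hF : Coh.IsQCoh F) (G : Y.Modules) (hG : Coh.IsQCoh G) (n : ℕ) :
    letI : (pullback (X ↘ (Spec (CommRingCat.of k))) (Y ↘ (Spec (CommRingCat.of k)))).Over (Spec (CommRingCat.of k)) := ⟨pullback.fst (X ↘ (Spec (CommRingCat.of k))) (Y ↘ (Spec (CommRingCat.of k))) ≫ (X ↘ (Spec (CommRingCat.of k)))⟩
    Nonempty ((Π p : Fin (n + 1), Coh.HH X F (p : ℕ) ⊗[k] Coh.HH Y G (n - (p : ℕ))) ≃ₗ[k]
      Coh.HH (pullback (X ↘ (Spec (CommRingCat.of k))) (Y ↘ (Spec (CommRingCat.of k)))) (CohB1.tensorMod ((Scheme.Modules.pullback (pullback.fst (X ↘ (Spec (CommRingCat.of k))) (Y ↘ (Spec (CommRingCat.of k))))).obj F)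
        ((Scheme.Modules.pullback (pullback.snd (X ↘ (Spec (CommRingCat.of k))) (Y ↘ (Spec (CommRingCat.of k))))).obj G)) n) := by
  classical
  haveI : QuasiCompact (X ↘ Spec (CommRingCat.of k)) := (quasiCompact_iff_compactSpace _).mpr inferInstance
  haveI : QuasiCompact (Y ↘ Spec (CommRingCat.of k)) := (quasiCompact_iff_compactSpace _).mpr inferInstance
  obtain ⟨e⟩ := Groth.Agent.KunnAD.HH.nonempty_kunneth (A := k) X Y F hF G hG
    (Groth.Agent.Nakai.isFlatOver_field k F) (fun p => inferInstance) n
  let σ : Fin (n + 1) ≃ (Finset.HasAntidiagonal.antidiagonal n) :=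
    { toFun := fun p => ⟨((p : ℕ), n - (p : ℕ)), Finset.HasAntidiagonal.mem_antidiagonal.2 (by omega)⟩
      invFun := fun q => ⟨q.1.1, by have := Finset.HasAntidiagonal.mem_antidiagonal.1 q.2; omega⟩
      left_inv := fun p => rfl
      right_inv := fun q => by
        obtain ⟨⟨a, b⟩, hq⟩ := q
        have := Finset.HasAntidiagonal.mem_antidiagonal.1 hq
        exact Subtype.ext (Prod.ext rfl (show n - a = b by omega)) }
  let d := DirectSum.linearEquivFunOnFintype k (Finset.HasAntidiagonal.antidiagonal n)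
    (fun pq => Coh.HH X F pq.1.1 ⊗[k] Coh.HH Y G pq.1.2)
  exact ⟨LinearEquiv.piCongrLeft k (fun pq : (Finset.HasAntidiagonal.antidiagonal n) =>
    Coh.HH X F pq.1.1 ⊗[k] Coh.HH Y G pq.1.2) σ ≪≫ₗ d.symm ≪≫ₗ e⟩

end Groth.Agent.S7635
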