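import Groth.Statements.S7639
import Groth.Agent.DualGeneric.PointDeg
import Groth.Agent.DualGeneric.GlobalField
-- import your own Groth.Agent.* helpers here

set_option autoImplicit false
set_option backward.isDefEq.respectTransparency false
set_option backward.isDefEq.respectTransparency.types false
set_option maxHeartbeats 1000000
universe u
open CategoryTheory CategoryTheory.Limits AlgebraicGeometry
attribute [local instance] Curv2.resAlgebra
open Variety

namespace Groth.Agent.S7639

/-- Let X be a proper scheme over a field k which is reduced and connected, and let κ = Γ(X, O_X). Then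
κ is a field, finite over k, and w = [κ : k] divides (1) the degree of every finite locally free
module of constant rank, (2) the degree [κ(x) : k] of every closed point x, and (3) the degree dim_k
H^0(X, O_D) of every closed subscheme D of dimension zero (or empty). (The published statement uses
the degree of E, which it defines only for X of dimension at most one; this row states (1) for the
integer χ(E) − n·χ(O_X) with no bound on the dimension of X.) -/
theorem result (k : Type u) [Field k] (X : Scheme.{u}) [X.Over (Spec (CommRingCat.of k))] [IsProper (X ↘ (Spec (CommRingCat.of k)))] [IsReduced X] [ConnectedSpace X] :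
    letI : Algebra k Γ(X, ⊤) := ((X ↘ (Spec (CommRingCat.of k))).appTop.hom.comp
      (Scheme.ΓSpecIso (CommRingCat.of k)).inv.hom).toAlgebra
    IsField Γ(X, ⊤) ∧ Module.Finite k Γ(X, ⊤) ∧
      (∀ (n : ℕ) (E : X.Modules), FlatMod.IsFinLocFreeOfRank n E →
        (Module.finrank k Γ(X, ⊤) : ℤ) ∣ Curv2.deg k X E n) ∧
      (∀ x : X, IsClosed ({x} : Set X) →
        Module.finrank k Γ(X, ⊤) ∣ Module.finrank k (X.residueField x)) ∧
      (∀ D : X.IdealSheafData, topologicalKrullDim D.subscheme ≤ 0 →
        Module.finrank k Γ(X, ⊤) ∣ Module.finrank k (Coh.HH X (ClSub.quotMod D) 0)) := by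
  letI : Algebra k Γ(X, ⊤) := ((X ↘ (Spec (CommRingCat.of k))).appTop.hom.comp
      (Scheme.ΓSpecIso (CommRingCat.of k)).inv.hom).toAlgebra
  haveI := CurveRR.isNoetherian_of_proper k X
  have hK : IsField Γ(X, ⊤) := DualGeneric.isField_gamma k
  letI secM := CurveRR.secMod k (Coh.structureModule X) ⊤
  haveI := CohFinite.finite_proper k X (Coh.structureModule X) RefStalk.isCoh_structureModule 0
  haveI : Module.Finite k Γ(Coh.structureModule X, ⊤) :=
    Module.Finite.equiv (CurveRR.secH0 (k := k) (Coh.structureModule X)).symm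
  let e : Γ(Coh.structureModule X, ⊤) →ₗ[k] Γ(X, ⊤) :=
      { toFun := fun a => a
        map_add' := fun _ _ => rfl
        map_smul' := fun a b => by
          show HMul.hMul (α := Γ(X, ⊤)) (β := Γ(X, ⊤)) (CurveRR.cst k X ⊤ a) b =
            HMul.hMul (α := Γ(X, ⊤)) (β := Γ(X, ⊤)) (Coh.toGlobal (X ↘ Spec (CommRingCat.of k)) a) b
          rw [show CurveRR.cst k X ⊤ a = Coh.toGlobal (X ↘ Spec (CommRingCat.of k)) a from Groth.Agent.QC.resO_self _ _] }
  let e' : Γ(Coh.structureModule X, ⊤) ≃ₗ[k] Γ(X, ⊤) := LinearEquiv.ofBijective e Function.bijective_id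
  haveI hfin : Module.Finite k Γ(X, ⊤) := Module.Finite.equiv e'
  letI : Algebra k (Coh.Γtop X) := RingHom.toAlgebra' (Coh.toGlobal (X ↘ Spec (CommRingCat.of k))) (fun c x =>
    mul_comm (G := Γ(X, ⊤)) _ _)
  let e'' : Γ(X, ⊤) ≃ₗ[k] Coh.Γtop X :=
    { toFun := fun a => a, invFun := fun a => a, map_add' := fun _ _ => rfl, map_smul' := fun _ _ => rfl
      left_inv := fun _ => rfl, right_inv := fun _ => rfl }
  have key : ∀ (G : X.Modules) (q : ℕ), Module.finrank k Γ(X, ⊤) ∣ Module.finrank k (Coh.HH X G q) := fun G q => by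
    haveI : IsScalarTower k (Coh.Γtop X) (Coh.HH X G q) := IsScalarTower.of_algebraMap_smul fun _ _ => rfl
    letI : DivisionRing (Coh.Γtop X) := hK.toField.toDivisionRing
    haveI : Module.Free (Coh.Γtop X) (Coh.HH X G q) := Module.Free.of_divisionRing _ _
    haveI : Module.Free k (Coh.Γtop X) := Module.Free.of_divisionRing _ _
    refine ⟨Module.finrank (Coh.Γtop X) (Coh.HH X G q), ?_⟩
    rw [e''.finrank_eq]
    exact (Module.finrank_mul_finrank k (Coh.Γtop X) (Coh.HH X G q)).symm
  have hd : ∀ G : X.Modules, Coh.IsQCoh G → (Module.finrank k Γ(X, ⊤) : ℤ) ∣ Curv2.euler k X G := fun G hG => by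
    obtain ⟨N, -, hN⟩ := CurveRR.exists_bound k X
    rw [CurveRR.euler_eq_sum G N (hN G hG)]
    exact Finset.dvd_sum fun i _ => dvd_mul_of_dvd_right (Int.natCast_dvd_natCast.2 (key G i)) _
  refine ⟨hK, hfin, fun n E hE => dvd_sub (hd E (CurveRR.isCoh_of_rank hE).1)
    (dvd_mul_of_dvd_right (hd _ RefStalk.isCoh_structureModule.1) _), fun x hx => ?_, fun D _ => key _ 0⟩
  letI := Curv2.resAlgebra k X x
  have := key (ClSub.quotMod (Scheme.IdealSheafData.vanishingIdeal ⟨{x}, hx⟩)) 0
  rw [show Module.finrank k (Coh.HH X (ClSub.quotMod (Scheme.IdealSheafData.vanishingIdeal ⟨{x}, hx⟩)) 0) = _ from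
    DualGeneric.h0_quotMod_residue k hx] at this
  exact this


end Groth.Agent.S7639
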