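import Groth.Statements.S7641
import Groth.Agent.DualGeneric.NegDeg
-- import your own Groth.Agent.* helpers here

set_option autoImplicit false
set_option backward.isDefEq.respectTransparency false
set_option backward.isDefEq.respectTransparency.types false
set_option maxHeartbeats 1000000
universe u
open CategoryTheory CategoryTheory.Limits AlgebraicGeometry
open Variety

namespace Groth.Agent.S7641

/-- Let X be proper over a field k, reduced and connected, with every irreducible component of dimension
one, and let L be an invertible module whose restriction to each irreducible component C, with its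
reduced induced structure, has degree at most zero. Then H^0(X, L) = 0 or L is isomorphic to O_X. -/
theorem result (k : Type u) [Field k] (X : Scheme.{u}) [X.Over (Spec (CommRingCat.of k))] [IsProper (X ↘ (Spec (CommRingCat.of k)))]
    [IsReduced X] [ConnectedSpace X] [IsNoetherian X]
    (hdim : ∀ (C : Set X), C ∈ irreducibleComponents (X : Type u) → topologicalKrullDim C = 1)
    (L : X.Modules) (hL : PicF.IsInvertible L)
    (hdeg : ∀ (C : Set X) (hC : C ∈ irreducibleComponents (X : Type u)), @Curv2.deg k _ (X.irreducibleComponentIdeal C hC).radical.subscheme ⟨(X.irreducibleComponentIdeal C hC).radical.subschemeι ≫ (X ↘ (Spec (CommRingCat.of k)))⟩ ((Scheme.Modules.pullback (X.irreducibleComponentIdeal C hC).radical.subschemeι).obj L) 1 ≤ 0) :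
    Subsingleton (Coh.HH X L 0) ∨ Nonempty (L ≅ Coh.structureModule X) := by
  classical
  rw [or_iff_not_imp_left]
  intro hne
  have hdim' : topologicalKrullDim X ≤ 1 := by
    refine le_of_le_of_eq (Groth.Agent.Unibranch.topologicalKrullDim_le_natCast fun l c hc => ?_) (Nat.cast_one (R := WithBot ℕ∞))
    obtain ⟨C, hC, hsub⟩ := exists_mem_irreducibleComponents_subset_of_isIrreducible _ (isIrreducible_singleton (x := c 0))
    have hcl : IsClosed C := isClosed_of_mem_irreducibleComponents _ hC
    haveI : QuasiSober C := hcl.isClosedEmbedding_subtypeVal.quasiSober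
    have hmem : ∀ i, c i ∈ C := fun i => by
      induction i using Fin.induction with
      | zero => exact hsub rfl
      | succ j hj => exact (hc j).1.mem_closed hcl hj
    have h1 := Groth.Agent.Unibranch.natCast_le_topologicalKrullDim (α := C) (fun i => (⟨c i, hmem i⟩ : C)) fun i =>
      ⟨Topology.IsInducing.subtypeVal.specializes_iff.mp (hc i).1, fun h => (hc i).2 (congrArg Subtype.val h)⟩
    rw [hdim C hC] at h1
    exact_mod_cast CartierDim.natCast_le_withBot.mp (h1.trans_eq Nat.cast_one.symm)
  obtain ⟨s, hs⟩ : ∃ s : Coh.structureModule X ⟶ L, s ≠ 0 := by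
    refine CurveRR.exists_section (k := k) fun h0 => hne ?_
    haveI := CohFinite.finite_proper k X _ (CurveRR.isCoh_of_inv hL) 0
    exact Module.finrank_zero_iff.1 h0
  have key : ∀ C ∈ irreducibleComponents (X : Type u), (∀ x ∈ C, x ∈ CohB1.genLocus L s) ∨ (∀ x ∈ C, x ∉ CohB1.genLocus L s) := by
    intro C hC
    let J := (X.irreducibleComponentIdeal C hC).radical
    let Z : irreducibleComponents (X : Type u) := ⟨C, hC⟩
    have hJ : J = Scheme.IdealSheafData.vanishingIdeal (Devissage.Zc Z.2.1.genericPoint) :=
      CurveRR.Multi.radical_component Z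
    haveI hint : IsIntegral J.subscheme := by
      rw [hJ]
      exact Devissage.Zi_isIntegral _
    letI : J.subscheme.Over (Spec (CommRingCat.of k)) := ⟨J.subschemeι ≫ (X ↘ Spec (CommRingCat.of k))⟩
    haveI : IsProper (J.subscheme ↘ Spec (CommRingCat.of k)) :=
      inferInstanceAs (IsProper (J.subschemeι ≫ (X ↘ Spec (CommRingCat.of k))))
    have hdimJ : topologicalKrullDim J.subscheme ≤ 1 :=
      (J.subschemeι.isClosedEmbedding.isInducing.topologicalKrullDim_le).trans hdim'
    let i := J.subschemeι
    have hr : Set.range i.base = C := by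
      rw [Scheme.IdealSheafData.range_subschemeι, show J = _ from rfl, Scheme.IdealSheafData.support_radical]
      rfl
    let e := (PicLoc.pullbackStructureIso i).symm
    have hg := TMul.genLocus_pullback i hL s e
    by_cases h0 : e.hom ≫ (Scheme.Modules.pullback i).map s = 0
    · refine Or.inr fun x hx hxs => ?_
      obtain ⟨y, rfl⟩ := hr.ge hx
      rw [h0] at hg
      exact DualGeneric.notMem_genLocus_zero _ y (hg.ge hxs)
    · refine Or.inl fun x hx => ?_
      obtain ⟨y, rfl⟩ := hr.ge hx
      obtain ⟨h1, h2⟩ := CurveRR.deg_le_and_isIso (k := k) hdimJ TMul.isInvertible_structureModule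
        (PicLoc.isInvertible_pullback i hL) _ h0
      rw [CurveRR.deg_structure] at h1 h2
      haveI := h2 (le_antisymm h1 (hdeg C hC))
      have htop : y ∈ CohB1.genLocus ((Scheme.Modules.pullback i).obj L) (e.hom ≫ (Scheme.Modules.pullback i).map s) := by
        have h3 := TMul.genLocus_comp (𝟙 (Coh.structureModule J.subscheme)) (e.hom ≫ (Scheme.Modules.pullback i).map s)
        rw [Category.id_comp] at h3
        rw [h3]
        exact TMul.le_genLocus (U := ⊤) _ ((TMul.isIso_restrict_iff _ ⊤).mp (by
          rw [CategoryTheory.Functor.map_id]; infer_instance)) trivial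
      exact hg.le htop
  let U := CohB1.genLocus L s
  haveI := CohFinite.finite_proper k X _ (CurveRR.isCoh_of_inv hL) 0
  have hUne : (U : Set X).Nonempty := by
    by_contra h
    exact hs (DualGeneric.eq_zero_of_genLocus_empty hL s fun x hx => h ⟨x, hx⟩)
  have hUcl : IsClosed (U : Set X) := by
    have hfin := TopologicalSpace.NoetherianSpace.finite_irreducibleComponents (α := X)
    have : (U : Set X) = ⋃ C ∈ {C ∈ irreducibleComponents (X : Type u) | ∀ x ∈ C, x ∈ U}, C := by
      ext x
      simp only [Set.mem_iUnion, Set.mem_setOf_eq, exists_prop, SetLike.mem_coe]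
      refine ⟨fun hx => ?_, fun ⟨C, ⟨_, hC⟩, hxC⟩ => hC x hxC⟩
      obtain ⟨C, hC, hxC⟩ := exists_mem_irreducibleComponents_subset_of_isIrreducible _ (isIrreducible_singleton (x := x))
      rcases key C hC with h | h
      · exact ⟨C, ⟨hC, h⟩, hxC rfl⟩
      · exact absurd hx (h x (hxC rfl))
    rw [this]
    exact (hfin.subset fun C hC => hC.1).isClosed_biUnion fun C hC => isClosed_of_mem_irreducibleComponents C hC.1
  have hUtop : (U : Set X) = Set.univ := IsClopen.eq_univ ⟨hUcl, U.2⟩ hUne
  haveI : IsIso s := by
    have hgen := TMul.isGen_genLocus s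
    haveI : Mono s := (Groth.Agent.QC.mono_iff_app_injective _).2 fun V c d hcd => by
      have hV : V ≤ U := fun x _ => hUtop.ge trivial
      refine (hgen V hV).1 ?_
      show HSMul.hSMul (α := Γ(X, V)) c _ = HSMul.hSMul (α := Γ(X, V)) d _
      rw [TMul.res_val, ← TMul.app_eq_smul, ← TMul.app_eq_smul]
      exact hcd
    haveI : Epi s := InvGen.epi_of_locally _ fun V t x hx => by
      have hV : V ≤ U := fun x _ => hUtop.ge trivial
      obtain ⟨c, hc⟩ := (hgen V hV).2 t
      refine ⟨V, le_rfl, hx, c, ?_⟩
      change c • _ = t at hc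
      rw [TMul.res_val, ← TMul.app_eq_smul] at hc
      rw [Groth.Agent.QC.res_self]
      exact hc
    exact isIso_of_mono_of_epi s
  exact ⟨(asIso s).symm⟩

end Groth.Agent.S7641
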