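import Groth.Statements.S7643
import Groth.Agent.CurveRR.Easy

set_option autoImplicit false
universe u
open CategoryTheory CategoryTheory.Limits AlgebraicGeometry
open Variety

namespace Groth.Agent.S7643

/-- Let X be proper of dimension at most one over a field k and let 0 → E₁ → E₂ → E₃ → 0 be a short
exact sequence of finite locally free modules of constant ranks n₁, n₂, n₃. Then deg(E₂) = deg(E₁) +
deg(E₃). -/
theorem result (k : Type u) [Field k] (X : Scheme.{u}) [X.Over (Spec (CommRingCat.of k))] [IsProper (X ↘ (Spec (CommRingCat.of k)))]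
    (hdim : topologicalKrullDim X ≤ 1) (S : ShortComplex X.Modules) (hS : S.ShortExact)
    (n₁ n₂ n₃ : ℕ) (h₁ : FlatMod.IsFinLocFreeOfRank n₁ S.X₁) (h₂ : FlatMod.IsFinLocFreeOfRank n₂ S.X₂)
    (h₃ : FlatMod.IsFinLocFreeOfRank n₃ S.X₃) :
    Curv2.deg k X S.X₂ n₂ = Curv2.deg k X S.X₁ n₁ + Curv2.deg k X S.X₃ n₃ := by
  haveI := Groth.Agent.CurveRR.isNoetherian_of_proper k X
  rcases isEmpty_or_nonempty X with hX | hX
  · have hz : ∀ F : X.Modules, Curv2.euler k X F = 0 := fun F => by
      have hd : topologicalKrullDim (∅ : Set X) ≤ 0 := by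
        simp only [topologicalKrullDim, Order.krullDim, iSup_le_iff]
        exact fun p => by obtain ⟨⟨x, hx⟩, -⟩ := p.head.isIrreducible.nonempty; exact hx.elim
      have hv : ∀ i, 1 ≤ i → Subsingleton (Coh.HH X F i) := fun i hi =>
        Groth.Agent.SuppZero.subsingleton_hh_of_supported isClosed_empty hd F (fun x => isEmptyElim x) i hi
      rw [Groth.Agent.CurveRR.euler_eq_h0 hv, ← Groth.Agent.CurveRR.finrank_sec]
      haveI : Subsingleton Γ(F, ⊤) := ⟨fun a b => Groth.Agent.QC.section_eq_of_locally fun y => isEmptyElim y⟩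
      simp [Module.finrank_zero_of_subsingleton]
    simp [Curv2.deg, hz]
  exact Groth.Agent.CurveRR.Easy.deg_add S hS h₁ h₂ h₃ (Groth.Agent.CurveRR.Easy.rank_add hS h₁ h₂ h₃)

end Groth.Agent.S7643
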