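import Groth.Statements.S7644
import Mathlib


set_option autoImplicit false
universe u
open CategoryTheory CategoryTheory.Limits AlgebraicGeometry
open Variety

set_option backward.isDefEq.respectTransparency false
namespace Groth.Agent.S7644

/-- If X is an irreducible scheme of positive dimension, separated over a field k, and x is a closed
point of X, then the open subscheme obtained by removing x is not proper over k. -/
theorem result (k : Type u) [Field k] (X : Scheme.{u}) [X.Over (Spec (CommRingCat.of k))]
    [IsSeparated (X ↘ (Spec (CommRingCat.of k)))] [IrreducibleSpace X] (hdim : 0 < topologicalKrullDim X)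
    (x : X) (hx : IsClosed ({x} : Set X)) :
    ¬ IsProper (Scheme.Opens.ι (⟨({x} : Set X)ᶜ, hx.isOpen_compl⟩ : X.Opens) ≫ (X ↘ (Spec (CommRingCat.of k)))) := by
  intro hp
  let U : X.Opens := ⟨({x} : Set X)ᶜ, hx.isOpen_compl⟩
  haveI : IsProper (U.ι ≫ X ↘ Spec (CommRingCat.of k)) := hp
  haveI : IsProper U.ι := IsProper.of_comp U.ι (X ↘ Spec (CommRingCat.of k))
  have hcl : IsClosed (U : Set X) := by
    have h := (Scheme.Hom.isClosedMap U.ι).isClosed_range
    rwa [U.range_ι] at h
  rcases (U : Set X).eq_empty_or_nonempty with he | hne
  · haveI : Subsingleton X := ⟨fun a b => by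
      have h : ∀ c : X, c = x := fun c => not_not.1 fun hc => Set.eq_empty_iff_forall_notMem.1 he c hc
      rw [h a, h b]⟩
    haveI : DiscreteTopology X := Subsingleton.discreteTopology
    exact absurd (topologicalKrullDim_zero_of_discreteTopology X) (not_le.2 hdim)
  · have hd : closure (U : Set X) = Set.univ := (U.2.dense hne).closure_eq
    rw [hcl.closure_eq] at hd
    exact (Set.eq_univ_iff_forall.1 hd x) rfl

end Groth.Agent.S7644
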