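import Groth.Statements.S7651
import Groth.Agent.DimOneLoc

set_option autoImplicit false
universe u
open CategoryTheory CategoryTheory.Limits AlgebraicGeometry
open Variety

namespace Groth.Agent.S7651

/-- Let (A, m) be a Noetherian local ring of dimension one and f ∈ m. Then (1) m = √(f), (2) f lies in
no minimal prime of A, and (3) A_f ≅ ∏_{p minimal} A_p as A-algebras, are equivalent; such an f
exists; if A has depth one, for instance if A is reduced, they are also equivalent to (4) f is a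
nonzerodivisor and to (5) A → A_f is the localization of A at all its nonzerodivisors; and if A is
reduced they are also equivalent to (6) A_f ≅ ∏_{p minimal} κ(p) as A-algebras. -/
theorem result (A : Type u) [CommRing A] [IsLocalRing A]
    [IsNoetherianRing A] (hdim : ringKrullDim A = 1) :
    (∃ f ∈ IsLocalRing.maximalIdeal A, ∀ p ∈ minimalPrimes A, f ∉ p) ∧
    ∀ f ∈ IsLocalRing.maximalIdeal A,
      ((IsLocalRing.maximalIdeal A = (Ideal.span {f}).radical) ↔ (∀ p ∈ minimalPrimes A, f ∉ p)) ∧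
      ((∀ p ∈ minimalPrimes A, f ∉ p) ↔
        Nonempty (Localization.Away f ≃ₐ[A] (∀ p : {p : PrimeSpectrum A // p.asIdeal ∈ minimalPrimes A}, Localization.AtPrime p.1.asIdeal))) ∧
      ((LocCoh.depth A A = 1 ∨ IsReduced A) →
        ((∀ p ∈ minimalPrimes A, f ∉ p) ↔ f ∈ nonZeroDivisors A) ∧
        ((∀ p ∈ minimalPrimes A, f ∉ p) ↔ IsLocalization (nonZeroDivisors A) (Localization.Away f))) ∧
      (IsReduced A →
        ((∀ p ∈ minimalPrimes A, f ∉ p) ↔
          Nonempty (Localization.Away f ≃ₐ[A] (∀ p : {p : PrimeSpectrum A // p.asIdeal ∈ minimalPrimes A}, p.1.asIdeal.ResidueField)))) := by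
  open Groth.Agent.DimOneLoc in
  refine ⟨exists_avoid A hdim, fun f hf => ⟨radical_eq_iff hdim hf,
    ⟨nonempty_algEquiv hdim hf, fun ⟨e⟩ p hp hfp => ?_⟩,
    fun hA => ⟨(mem_nonZeroDivisors_iff hdim hA).symm, isLocalization_iff hdim hA hf⟩,
    fun hA => ⟨fun h => ?_, fun ⟨e⟩ p hp hfp => ?_⟩⟩⟩
  · haveI := Ideal.minimalPrimes_isPrime hp
    exact Groth.Agent.DimOneLoc.notMem_of_algEquiv _ e ⟨⟨p, inferInstance⟩, hp⟩
      (IsLocalRing.maximalIdeal.isMaximal (Localization.AtPrime p)).ne_top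
      ((IsLocalization.AtPrime.to_map_mem_maximal_iff (Localization.AtPrime p) p f).2 hfp)
  · obtain ⟨e⟩ := Groth.Agent.DimOneLoc.nonempty_algEquiv hdim hf h
    exact ⟨e.trans (AlgEquiv.piCongrRight fun p =>
      AlgEquiv.ofBijective _ (Groth.Agent.DimOneLoc.bijective_residueField p.2))⟩
  · haveI := Ideal.minimalPrimes_isPrime hp
    refine Groth.Agent.DimOneLoc.notMem_of_algEquiv _ e ⟨⟨p, inferInstance⟩, hp⟩
      (M := (⊥ : Ideal p.ResidueField)) bot_ne_top ?_
    rw [Ideal.mem_bot]
    exact Ideal.algebraMap_residueField_eq_zero.2 hfp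

end Groth.Agent.S7651
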