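import Groth.Statements.S7653
import Groth.Agent.NagataOne.Branch

set_option autoImplicit false
universe u
open CategoryTheory CategoryTheory.Limits AlgebraicGeometry
open Variety

namespace Groth.Agent.S7653

/-- For a reduced local Nagata ring A of Krull dimension one, the δ-invariant of A is zero exactly when
A is a DVR (in particular a domain). -/
theorem result (A : Type u) [CommRing A] [IsLocalRing A]
    [IsReduced A] (hN : CAlg.IsNagata A) (hdim : ringKrullDim A = 1) :
    Curv2.deltaInv A = 0 ↔ ∃ _ : IsDomain A, IsDiscreteValuationRing A := by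
  have := hN.1
  refine ⟨Groth.Agent.NagataOne.isDomain_isDVR_of_deltaInv_eq_zero A hdim, fun ⟨_, _⟩ => ?_⟩
  exact Groth.Agent.NagataOne.deltaInv_eq_zero_of_isDVR A

end Groth.Agent.S7653
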