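import Groth.Statements.S7658
-- import your own Groth.Agent.* helpers here

set_option autoImplicit false
universe u
open CategoryTheory CategoryTheory.Limits AlgebraicGeometry
open Variety

namespace Groth.Agent.S7658

/-- A separated morphism of schemes f : X → Y such that X has an open covering on whose members f
restricts to open immersions, and such that no two distinct generic points of irreducible components
of X have the same image under f, is an open immersion. -/
theorem result {X Y : Scheme.{u}}
    (f : X ⟶ Y) [IsSeparated f]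
    (hloc : ∀ x : X, ∃ U : X.Opens, x ∈ U ∧ IsOpenImmersion (U.ι ≫ f))
    (hinj : ∀ ξ ξ' : X, closure ({ξ} : Set X) ∈ irreducibleComponents (X : Type u) → closure ({ξ'} : Set X) ∈ irreducibleComponents (X : Type u) →
      f.base ξ = f.base ξ' → ξ = ξ') :
    IsOpenImmersion f := by
  have hgen : ∀ {P : Scheme.{u}} (a : P ⟶ X) [IsOpenImmersion a] (η : P),
      closure ({η} : Set P) ∈ irreducibleComponents (P : Type u) →
      closure ({a.base η} : Set X) ∈ irreducibleComponents (X : Type u) := by
    intro P a _ η hη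
    have hj := a.isOpenEmbedding
    obtain ⟨Z, hZ, hCZ⟩ := exists_mem_irreducibleComponents_subset_of_isIrreducible
      (a.base '' closure {η}) (hη.1.image _ hj.continuous.continuousOn)
    have hne : (a.base ⁻¹' Z).Nonempty := ⟨η, hCZ ⟨η, subset_closure rfl, rfl⟩⟩
    have h2 : a.base ⁻¹' Z ∈ irreducibleComponents (P : Type u) :=
      preimage_mem_irreducibleComponents hZ hj ⟨a.base η, hne.choose_spec |> fun _ =>
        hCZ ⟨η, subset_closure rfl, rfl⟩, η, rfl⟩
    have h3 : a.base ⁻¹' Z = closure {η} :=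
      (Set.image_subset_iff.mp hCZ).antisymm' (hη.2 h2.1 (Set.image_subset_iff.mp hCZ))
    have h4 : closure (a.base '' (a.base ⁻¹' Z)) = Z :=
      closure_image_preimage_of_isPreirreducible a.base hj.isOpenMap Z hne hZ.1.2
        (isClosed_of_mem_irreducibleComponents Z hZ)
    rw [h3, closure_image_closure hj.continuous, Set.image_singleton] at h4
    exact h4 ▸ hZ
  have hinjf : Function.Injective f.base := by
    intro x x' hxx'
    obtain ⟨U, hxU, hU⟩ := hloc x
    obtain ⟨U', hxU', hU'⟩ := hloc x'
    obtain ⟨p, hp1, hp2⟩ := Scheme.Pullback.exists_preimage_pullback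
      (f := U.ι ≫ f) (g := U'.ι ≫ f) (⟨x, hxU⟩ : U) (⟨x', hxU'⟩ : U')
      (by rw [Scheme.Hom.comp_apply, Scheme.Hom.comp_apply]; exact hxx')
    let P := pullback (U.ι ≫ f) (U'.ι ≫ f)
    let a : P ⟶ X := pullback.fst _ _ ≫ U.ι
    let b : P ⟶ X := pullback.snd _ _ ≫ U'.ι
    have hab : a ≫ f = b ≫ f := by
      simp only [a, b, Category.assoc]
      exact pullback.condition
    have hia : IsOpenImmersion a := by dsimp [a]; infer_instance
    have hib : IsOpenImmersion b := by dsimp [b]; infer_instance
    have hC := irreducibleComponent_mem_irreducibleComponents (p : P)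
    let η := hC.1.genericPoint
    have hη : closure ({η} : Set P) = irreducibleComponent (p : P) :=
      hC.1.isGenericPoint_genericPoint isClosed_irreducibleComponent
    have he : a.base η = b.base η := hinj _ _ (hgen a η (hη ▸ hC)) (hgen b η (hη ▸ hC))
      (by simpa only [Scheme.Hom.comp_apply] using congrArg (fun g : P ⟶ Y => g.base η) hab)
    have haU : ∀ q, a.base q ∈ U := fun q => (pullback.fst (U.ι ≫ f) (U'.ι ≫ f) q).2
    have hbU : b.base η ∈ U := he ▸ haU η
    let W : P.Opens := b ⁻¹ᵁ U
    have hWa : Set.range (W.ι ≫ a) ⊆ Set.range U.ι := by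
      rintro _ ⟨w, rfl⟩
      rw [Scheme.Opens.range_ι]
      exact haU _
    have hWb : Set.range (W.ι ≫ b) ⊆ Set.range U.ι := by
      rintro _ ⟨w, rfl⟩
      rw [Scheme.Opens.range_ι, Scheme.Hom.comp_apply]
      exact w.2
    have hWab : W.ι ≫ a = W.ι ≫ b := by
      rw [← IsOpenImmersion.lift_fac U.ι _ hWa, ← IsOpenImmersion.lift_fac U.ι _ hWb]
      congr 1
      rw [← cancel_mono (U.ι ≫ f), IsOpenImmersion.lift_fac_assoc, IsOpenImmersion.lift_fac_assoc,
        Category.assoc (W.ι) a f, hab]
      exact (Category.assoc _ _ _).symm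
    let L : P ⟶ pullback f f := pullback.lift a b hab
    have hL : W.ι ≫ L = (W.ι ≫ a) ≫ pullback.diagonal f :=
      pullback.hom_ext
        ((Category.assoc _ _ _).trans ((congrArg (W.ι ≫ ·) (pullback.lift_fst a b hab)).trans
          (by rw [Category.assoc _ (pullback.diagonal f), pullback.diagonal_fst, Category.comp_id])))
        ((Category.assoc _ _ _).trans ((congrArg (W.ι ≫ ·) (pullback.lift_snd a b hab)).trans
          (by rw [Category.assoc _ (pullback.diagonal f), pullback.diagonal_snd, Category.comp_id, hWab])))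
    have hcl : IsClosed (L.base ⁻¹' Set.range (pullback.diagonal f).base) :=
      (pullback.diagonal f).isClosedEmbedding.isClosed_range.preimage L.continuous
    have hmem : η ∈ L.base ⁻¹' Set.range (pullback.diagonal f).base := by
      refine ⟨(W.ι ≫ a) ⟨η, hbU⟩, ?_⟩
      rw [← Scheme.Hom.comp_apply, ← hL, Scheme.Hom.comp_apply]
      rfl
    obtain ⟨z, hz⟩ := hcl.closure_subset_iff.mpr (Set.singleton_subset_iff.mpr hmem)
      (hη ▸ mem_irreducibleComponent : (p : P) ∈ closure ({η} : Set P))
    have h1 := congrArg (pullback.fst f f).base hz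
    have h2 := congrArg (pullback.snd f f).base hz
    rw [← Scheme.Hom.comp_apply, ← Scheme.Hom.comp_apply, pullback.lift_fst] at h1
    rw [← Scheme.Hom.comp_apply, ← Scheme.Hom.comp_apply, pullback.lift_snd] at h2
    simp only [pullback.diagonal_fst, pullback.diagonal_snd] at h1 h2
    have h3 : a.base p = b.base p := h1.symm.trans h2
    simp only [a, b, Scheme.Hom.comp_apply] at h3
    rw [hp1, hp2] at h3
    exact h3
  have hopen : IsOpenMap f.base := by
    intro s hs
    rw [isOpen_iff_forall_mem_open]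
    rintro _ ⟨x, hxs, rfl⟩
    obtain ⟨U, hxU, hU⟩ := hloc x
    refine ⟨(U.ι ≫ f).base '' (U.ι.base ⁻¹' s), ?_,
      (U.ι ≫ f).isOpenEmbedding.isOpenMap _ (hs.preimage U.ι.continuous), ⟨⟨x, hxU⟩, hxs, ?_⟩⟩
    · rintro _ ⟨w, hw, rfl⟩
      exact ⟨U.ι.base w, hw, (Scheme.Hom.comp_apply _ _ _).symm⟩
    · rw [Scheme.Hom.comp_apply]; rfl
  have hst : ∀ x, IsIso (f.stalkMap x) := fun x => by
    obtain ⟨U, hxU, hU⟩ := hloc x
    have h1 : IsIso ((U.ι ≫ f).stalkMap ⟨x, hxU⟩) := inferInstance
    rw [Scheme.Hom.stalkMap_comp] at h1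
    have h2 : ∀ z : (U : Scheme.{u}), IsIso (U.ι.stalkMap z) := fun z => inferInstance
    exact @IsIso.of_isIso_comp_right _ _ _ _ _ (f.stalkMap x) (U.ι.stalkMap ⟨x, hxU⟩) (h2 _) h1
  exact IsOpenImmersion.of_isIso_stalkMap f
    (Topology.IsOpenEmbedding.of_continuous_injective_isOpenMap f.continuous hinjf hopen)

end Groth.Agent.S7658
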