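import Groth.Statements.S7661
-- import your own Groth.Agent.* helpers here

set_option autoImplicit false
universe u
open CategoryTheory CategoryTheory.Limits AlgebraicGeometry
open Variety

namespace Groth.Agent.S7661

/-- Let A be a ring, I an ideal, p_1, …, p_r prime ideals with I ⊄ p_i for all i, and let f̄ ∈ A/I. Then
f̄ lifts to an element f ∈ A with f ∉ p_i for all i. -/
theorem result (A : Type u) [CommRing A] (I : Ideal A)
    (s : Finset (Ideal A)) (hs : ∀ p ∈ s, p.IsPrime) (hI : ∀ p ∈ s, ¬ I ≤ p) (fbar : A ⧸ I) :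
    ∃ f : A, Ideal.Quotient.mk I f = fbar ∧ ∀ p ∈ s, f ∉ p := by
  classical
  obtain ⟨f₀, rfl⟩ := Ideal.Quotient.mk_surjective fbar
  -- maximal elements with `f₀` inside
  let t := (s.filter fun p => ∀ q ∈ s, p ≤ q → p = q)
  let J := I ⊓ (t.filter fun p => f₀ ∉ p).inf id
  have hts : ∀ {p}, p ∈ t → p ∈ s := fun hp => (Finset.mem_filter.mp hp).1
  have hJ : ¬ ((J : Set A) ⊆ ⋃ p ∈ (↑(t.filter fun p => f₀ ∈ p) : Set (Ideal A)), (p : Set A)) := by
    intro h
    rcases (t.filter fun p => f₀ ∈ p).eq_empty_or_nonempty with he | ⟨a, ha⟩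
    · rw [he] at h
      simpa using h J.zero_mem
    obtain ⟨p, hp, hle⟩ := (Ideal.subset_union_prime (f := id) a a
      (fun q hq _ _ => hs q (hts (Finset.mem_filter.mp hq).1))).mp h
    have hp' := Finset.mem_filter.mp hp
    rcases (Ideal.IsPrime.inf_le (hs p (hts hp'.1))).mp hle with h1 | h1
    · exact hI p (hts hp'.1) h1
    · obtain ⟨q, hq, hqp⟩ := (Ideal.IsPrime.inf_le' (hs p (hts hp'.1))).mp h1
      have hq' := Finset.mem_filter.mp hq
      exact hq'.2 ((Finset.mem_filter.mp hq'.1).2 p (hts hp'.1) hqp ▸ hp'.2)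
  obtain ⟨g, hgJ, hg⟩ := Set.not_subset.mp hJ
  refine ⟨f₀ + g, ?_, fun p hp hmem => ?_⟩
  · rw [map_add, Ideal.Quotient.eq_zero_iff_mem.mpr hgJ.1, add_zero]
  obtain ⟨q, hpq, hq⟩ := s.exists_le_maximal hp
  have hqt : q ∈ t := Finset.mem_filter.mpr ⟨hq.1, fun r hr hle => le_antisymm hle (hq.2 hr hle)⟩
  have hfg : f₀ + g ∈ q := hpq hmem
  by_cases hf : f₀ ∈ q
  · exact hg (Set.mem_iUnion₂.mpr ⟨q, Finset.mem_coe.mpr (Finset.mem_filter.mpr ⟨hqt, hf⟩),
      (Submodule.add_mem_iff_right q hf).mp hfg⟩)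
  · exact hf ((Submodule.add_mem_iff_left q
      ((Finset.inf_le (f := id) (s := t.filter fun p => f₀ ∉ p) (Finset.mem_filter.mpr ⟨hqt, hf⟩) :) hgJ.2)).mp hfg)

end Groth.Agent.S7661
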