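import Groth.Statements.S7662
import Groth.Agent.CompAffine.Main
-- import your own Groth.Agent.* helpers here

set_option autoImplicit false
set_option backward.isDefEq.respectTransparency false
set_option maxHeartbeats 1000000
universe u
open CategoryTheory CategoryTheory.Limits AlgebraicGeometry
open Variety

namespace Groth.Agent.S7662

/-- Let X be a scheme with finitely many irreducible components Z_1, …, Z_t and T ⊆ X a finite set of
points such that, for each i, some affine open of Z_i with its reduced closed subscheme structure
contains the points of T on Z_i. Then some affine open of X contains every point of T. -/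
theorem result (X : Scheme.{u})
    (hX : (irreducibleComponents (X : Type u)).Finite) (T : Finset X)
    (h : ∀ (Z : Set X) (hZ : Z ∈ irreducibleComponents (X : Type u)),
      ∃ V : (Scheme.IdealSheafData.vanishingIdeal
          (⟨Z, isClosed_of_mem_irreducibleComponents Z hZ⟩ : TopologicalSpace.Closeds X)).subscheme.Opens,
        IsAffineOpen V ∧ ∀ t ∈ T, t ∈ Z → t ∈ (Scheme.IdealSheafData.vanishingIdeal
          (⟨Z, isClosed_of_mem_irreducibleComponents Z hZ⟩ : TopologicalSpace.Closeds X)).subschemeι.base '' (V : Set _)) :
    ∃ U : X.Opens, IsAffineOpen U ∧ ∀ t ∈ T, t ∈ U := by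
  classical
  let Z : hX.toFinset → TopologicalSpace.Closeds X := fun k =>
    ⟨k.1, isClosed_of_mem_irreducibleComponents k.1 (hX.mem_toFinset.1 k.2)⟩
  obtain ⟨U, hU, hTU⟩ := Groth.Agent.CompAffine.exists_affine (T := (T : Set X)) T.finite_toSet Finset.univ Z
    (fun x => by
      obtain ⟨C, hC, hxC⟩ : ∃ C ∈ irreducibleComponents (X : Type u), x ∈ C :=
        ⟨irreducibleComponent x, irreducibleComponent_mem_irreducibleComponents x, mem_irreducibleComponent⟩
      exact ⟨⟨C, hX.mem_toFinset.2 hC⟩, Finset.mem_univ _, hxC⟩)
    (fun k _ => by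
      obtain ⟨V, hV, hVT⟩ := h k.1 (hX.mem_toFinset.1 k.2)
      exact Groth.Agent.CompAffine.good_of_isAffineOpen _ V hV hVT)
  exact ⟨U, hU, fun t ht => hTU ht⟩

end Groth.Agent.S7662
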