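import Groth.Statements.S7664
import Groth.Agent.GlueSL.Two

set_option autoImplicit false
universe u
open CategoryTheory CategoryTheory.Limits AlgebraicGeometry
open Variety

namespace Groth.Agent.S7664

/-- Let K be a field, A ⊆ K a Noetherian semi-local domain of dimension one and B ⊆ K a discrete
valuation ring, both with fraction field K, and R = A ∩ B. (a) If some unit of A does not lie in R,
then Spec A and Spec B each map to Spec R by an open immersion, Spec R is the union of the two
images, and the natural map A ⊗_R B → K is an isomorphism. (b) If every unit of A lies in R, then B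
dominates the local ring of A at one of its maximal ideals (A ⊆ B and the maximal ideal of B
contracts to a maximal ideal of A) and A ⊗ B → K is not surjective. -/
theorem result (K : Type u) [Field K]
    (A : Subring K) [IsFractionRing A K] [IsNoetherianRing A] (hdim : ringKrullDim A = 1) (hsl : Finite (MaximalSpectrum A))
    (B : ValuationSubring K) [IsDiscreteValuationRing B] :
    ((∃ u : A, IsUnit u ∧ (u : K) ∉ B) →
      IsOpenImmersion (Spec.map (CommRingCat.ofHom (Subring.inclusion (inf_le_left : A ⊓ B.toSubring ≤ A)))) ∧
      IsOpenImmersion (Spec.map (CommRingCat.ofHom (Subring.inclusion (inf_le_right : A ⊓ B.toSubring ≤ B.toSubring)))) ∧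
      Set.range (Spec.map (CommRingCat.ofHom (Subring.inclusion (inf_le_left : A ⊓ B.toSubring ≤ A)))).base ∪
        Set.range (Spec.map (CommRingCat.ofHom (Subring.inclusion (inf_le_right : A ⊓ B.toSubring ≤ B.toSubring)))).base = Set.univ ∧
      IsPushout (CommRingCat.ofHom (Subring.inclusion (inf_le_left : A ⊓ B.toSubring ≤ A)))
        (CommRingCat.ofHom (Subring.inclusion (inf_le_right : A ⊓ B.toSubring ≤ B.toSubring)))
        (CommRingCat.ofHom A.subtype) (CommRingCat.ofHom B.toSubring.subtype)) ∧
    ((∀ u : A, IsUnit u → (u : K) ∈ B) →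
      (∃ h : A ≤ B.toSubring,
        (Ideal.comap (Subring.inclusion h) (IsLocalRing.maximalIdeal B)).IsMaximal) ∧ A ⊔ B.toSubring ≠ ⊤) := by
  refine ⟨fun ⟨u, _, huB⟩ => ?_, fun hunits => ?_⟩
  · have hgen := Groth.Agent.GlueSL.sup_eq_top_of_exists_notMem A B u.2 huB
    have : IsFractionRing B.toSubring K := inferInstanceAs (IsFractionRing B K)
    have : IsNoetherianRing B.toSubring := inferInstanceAs (IsNoetherianRing B)
    have hdimB : ringKrullDim B.toSubring = 1 :=
      IsPrincipalIdealRing.ringKrullDim_eq_one B (IsDiscreteValuationRing.not_isField B)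
    have hslB : Finite (MaximalSpectrum B.toSubring) := inferInstanceAs (Finite (MaximalSpectrum B))
    exact Groth.Agent.GlueSL.glue_two A B.toSubring hdim hdimB hsl hslB hgen _ rfl _ _
  · obtain ⟨h, hmax⟩ := Groth.Agent.GlueSL.le_and_isMaximal_comap A hdim hsl B hunits
    refine ⟨⟨h, hmax⟩, fun htop => ?_⟩
    exact Groth.Agent.GlueSL.valuationSubring_ne_top B (top_le_iff.mp (htop ▸ sup_le h le_rfl))

end Groth.Agent.S7664
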