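import Groth.Statements.S7668
-- import your own Groth.Agent.* helpers here

set_option autoImplicit false
universe u
open CategoryTheory CategoryTheory.Limits AlgebraicGeometry
open Variety

namespace Groth.Agent.S7668

/-- Let A be a ring, p_1, …, p_r primes of A and S = A ∖ ⋃ p_i. Then S is a multiplicative subset, S⁻¹A
is semi-local, and contraction to A is a bijection from the maximal ideals of S⁻¹A onto the maximal
elements of {p_1, …, p_r}. -/
theorem result (A : Type u) [CommRing A]
    (r : ℕ) (p : Fin r → PrimeSpectrum A) :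
    Finite (MaximalSpectrum (Localization (⨅ i, (p i).asIdeal.primeCompl))) ∧
      Set.BijOn (fun m : Ideal (Localization (⨅ i, (p i).asIdeal.primeCompl)) =>
          m.comap (algebraMap A (Localization (⨅ i, (p i).asIdeal.primeCompl))))
        {m | m.IsMaximal}
        {q | q ∈ Set.range (fun i => (p i).asIdeal) ∧
          ∀ j, q ≤ (p j).asIdeal → q = (p j).asIdeal} := by
  classical
  let S : Submonoid A := ⨅ i, (p i).asIdeal.primeCompl
  have hdisj : ∀ {I : Ideal A}, Disjoint (S : Set A) I ↔ (I : Set A) ⊆ ⋃ i ∈ (↑(Finset.univ : Finset (Fin r)) : Set (Fin r)), ((p i).asIdeal : Set A) := by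
    intro I
    simp [Set.disjoint_right, Set.subset_def, S, Submonoid.mem_iInf, Ideal.primeCompl]
  have hmax : ∀ m : Ideal (Localization S), m.IsMaximal →
      m.comap (algebraMap A (Localization S)) ∈ Set.range (fun i => (p i).asIdeal) ∧
        ∀ j, m.comap (algebraMap A (Localization S)) ≤ (p j).asIdeal →
          m.comap (algebraMap A (Localization S)) = (p j).asIdeal := by
    intro m hm
    obtain ⟨hmp, hd⟩ := (IsLocalization.isPrime_iff_isPrime_disjoint S (Localization S) m).mp hm.isPrime
    have hall : ∀ j, m.comap (algebraMap A (Localization S)) ≤ (p j).asIdeal →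
        m.comap (algebraMap A (Localization S)) = (p j).asIdeal := by
      intro j hj
      have hdj : Disjoint (S : Set A) (p j).asIdeal := hdisj.mpr fun x hx =>
        Set.mem_iUnion₂.mpr ⟨j, by simp, hx⟩
      have hq := IsLocalization.isPrime_of_isPrime_disjoint S (Localization S) _ (p j).isPrime hdj
      have heq := hm.eq_of_le hq.ne_top (by
        rw [← IsLocalization.map_under S (Localization S) m]
        exact Ideal.map_mono hj)
      rw [heq]
      exact IsLocalization.under_map_of_isPrime_disjoint S (Localization S) (p j).isPrime hdj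
    rcases Nat.eq_zero_or_pos r with h0 | hr
    · subst h0
      have : m.comap (algebraMap A (Localization S)) ≤ ⊥ := fun x hx => by
        have := hdisj.mp hd hx
        simp at this
      exact absurd (Set.disjoint_left.mp hd (show (0 : A) ∈ (S : Set A) by simp [S]) (zero_mem _)) id
    obtain ⟨i, -, hi⟩ := (Ideal.subset_union_prime (⟨0, hr⟩ : Fin r) ⟨0, hr⟩ (fun i _ _ _ => (p i).isPrime)).mp
      (hdisj.mp hd)
    exact ⟨⟨i, (hall i hi).symm⟩, hall⟩
  have hinj : Set.InjOn (fun m : Ideal (Localization S) => m.comap (algebraMap A (Localization S)))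
      {m | m.IsMaximal} := fun m _ m' _ h => by
    rw [← IsLocalization.map_under S (Localization S) m, ← IsLocalization.map_under S (Localization S) m']
    exact congrArg (Ideal.map _) h
  refine ⟨?_, hmax, hinj, ?_⟩
  · have hex : ∀ m : MaximalSpectrum (Localization S), ∃ i, (p i).asIdeal = m.asIdeal.comap (algebraMap A (Localization S)) :=
      fun m => (hmax _ m.isMaximal).1
    choose i hi using hex
    exact Finite.of_injective i fun m m' h => MaximalSpectrum.ext (hinj m.isMaximal m'.isMaximal
      ((hi m).symm.trans (h ▸ hi m')))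
  · rintro _ ⟨⟨j, rfl⟩, hj⟩
    have hdj : Disjoint (S : Set A) (p j).asIdeal := hdisj.mpr fun x hx =>
      Set.mem_iUnion₂.mpr ⟨j, by simp, hx⟩
    have hq := IsLocalization.isPrime_of_isPrime_disjoint S (Localization S) _ (p j).isPrime hdj
    obtain ⟨M, hM, hle⟩ := Ideal.exists_le_maximal _ hq.ne_top
    refine ⟨M, hM, ?_⟩
    have h1 : (p j).asIdeal ≤ M.comap (algebraMap A (Localization S)) := Ideal.map_le_iff_le_comap.mp hle
    obtain ⟨⟨l, hl⟩, -⟩ := hmax M hM
    have h2 := hj l (hl.symm ▸ h1 :)
    show M.comap (algebraMap A (Localization S)) = (p j).asIdeal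
    exact hl.symm.trans h2.symm

end Groth.Agent.S7668
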