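import Groth.Statements.S7669
import Groth.Agent.InvExt.Main

set_option autoImplicit false
universe u
open CategoryTheory CategoryTheory.Limits AlgebraicGeometry
open Variety

set_option backward.isDefEq.respectTransparency false

namespace Groth.Agent.S7669

open Groth.Agent.InvExt
open Groth.Agent.QC (res resO res_res res_smul)
open TMul (IsGen)

/-- Let X be a scheme and U ⊆ X a retrocompact open such that X ∖ U is discrete and O_{X,x} is
Noetherian of dimension ≤ 1 for every x ∈ X ∖ U. Then (1) there are an invertible module L and a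
global section s with U = X_s, and (2) Pic(X) → Pic(U) is surjective. -/
theorem result (X : Scheme.{u}) (U : X.Opens)
    [QuasiCompact U.ι] (hdisc : DiscreteTopology ↥((U : Set X)ᶜ))
    (hloc : ∀ x : X, x ∉ U → IsNoetherianRing (X.presheaf.stalk x) ∧ ringKrullDim (X.presheaf.stalk x) ≤ 1) :
    (∃ (L : X.Modules) (s : Coh.structureModule X ⟶ L), PicF.IsInvertible L ∧ CohB1.genLocus L s = U) ∧
      ∀ N : (↑U : Scheme.{u}).Modules, PicF.IsInvertible N →
        ∃ L : X.Modules, PicF.IsInvertible L ∧ Nonempty (L.restrict U.ι ≅ N) := by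
  have hN : ∀ z : {x : X // x ∉ U}, ∃ (W : X.Opens) (f : Γ(X, W)), IsAffineOpen W ∧ z.1 ∈ W ∧
      (∀ y ∈ W, y ∉ U → y = z.1) ∧ W ⊓ U = X.basicOpen f ∧ {y | y ∈ W ⊓ U ∧ y ⤳ z.1}.Finite := fun z => by
    haveI := (hloc z.1 z.2).1
    exact exists_principal_nbhd U hdisc z.2 (hloc z.1 z.2).2
  choose W f hW hzW hone hWf hfin using hN
  have hdisj : ∀ z z', z ≠ z' → W z ⊓ W z' ≤ U := fun z z' hne y hy => by
    by_contra hyU
    exact hne (Subtype.ext ((hone z y hy.1 hyU).symm.trans (hone z' y hy.2 hyU)))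
  constructor
  · let O : (U : Scheme.{u}).Modules := Coh.structureModule U
    have hOi : PicF.IsInvertible O := fun y => ⟨⊤, trivial, InvGen.nonempty_iso (⊤ : (U : Scheme.{u}).Opens).ι O
      (U := ⊤) (Scheme.Opens.opensRange_ι _).le (1 : Γ(U, ⊤)) fun V hV => by
        refine (funext fun c => ?_ : (fun c : Γ(U, V) => c • res O hV (1 : Γ(U, ⊤))) = id) ▸ Function.bijective_id
        change HMul.hMul (α := Γ(U, V)) (β := Γ(U, V)) (γ := Γ(U, V)) c (resO (U : Scheme.{u}) hV 1) = c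
        rw [map_one, mul_one]⟩
    let F := (Scheme.Modules.pushforward U.ι).obj O
    have hF : UfdExtend.RankOne U F := S0234.rankOne_pushforward U hOi
    let c := (Scheme.Modules.restrictFunctorAdjCounitIso U.ι).app O
    have h1 := (TMul.isIso_restrict_iff c.inv ⊤).1 inferInstance
    have h2 := (TMul.isGen_restrict_iff U.ι c.inv ⊤).1 h1
    obtain ⟨σ, hσ⟩ : ∃ σ : Γ(F, ⊤), IsGen (res F (le_top : U ≤ ⊤) σ) := by
      have hle : U ≤ U.ι ''ᵁ ⊤ := fun y hy => ⟨⟨y, hy⟩, trivial, rfl⟩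
      have h3 := h2.res hle
      obtain ⟨σ, hσ⟩ := (hF.bij ⊤).2 (res F (inf_le_right : ⊤ ⊓ U ≤ U) (res F hle (res F _
        (TMul.val c.inv ⊤ : Γ(F, U.ι ''ᵁ ⊤)))))
      refine ⟨σ, ?_⟩
      have h4 := congrArg (res F (le_inf le_top le_rfl : U ≤ ⊤ ⊓ U)) hσ
      rw [res_res, res_res, QC.res_self] at h4
      rw [h4]
      exact h3
    have hu : ∀ z, IsUnit (resO X (inf_le_left : W z ⊓ U ≤ W z) (f z)) := fun z => by
      have := (QC.isUnit_resO_basicOpen (hW z) (f z)).map (resO X (hWf z).le)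
      rwa [QC.resO_resO] at this
    let g : ∀ z, Γ(F, W z ⊓ U) := fun z => (hu z).unit⁻¹.val • res F le_top σ
    have hg : ∀ z, IsGen (g z) := fun z => by
      refine TMul.isGen_smul ?_ (Units.isUnit _)
      have := hσ.res (inf_le_right : W z ⊓ U ≤ U)
      rwa [res_res] at this
    obtain ⟨L, hL, -, hs⟩ := exists_extension hF g hg hdisj fun x hx => ⟨⟨x, hx⟩, hzW _⟩
    obtain ⟨s, hs⟩ := hs σ f hσ (fun z => by
        rw [smul_smul, IsUnit.mul_val_inv, one_smul])
      (fun z => (hWf z).ge.trans inf_le_right)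
    exact ⟨L, s, hL, hs⟩
  · intro N hNi
    have hF := S0234.rankOne_pushforward U hNi
    choose W' hzW' hW'W g hg using fun z : {x : X // x ∉ U} =>
      exists_gen_nbhd U hF z.2 (hW z) (hzW z) (hone z) (f z) (hWf z) (hfin z)
    obtain ⟨L, hL, ⟨i⟩, -⟩ := exists_extension hF g hg
      (fun z z' h => (inf_le_inf (hW'W z) (hW'W z')).trans (hdisj z z' h))
      fun x hx => ⟨⟨x, hx⟩, hzW' _⟩
    exact ⟨L, hL, ⟨i ≪≫ (Scheme.Modules.restrictFunctorAdjCounitIso U.ι).app N⟩⟩

end Groth.Agent.S7669
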