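import Groth.Statements.S7675
import Groth.Agent.ProjInter.Main

set_option autoImplicit false
universe u
open CategoryTheory CategoryTheory.Limits AlgebraicGeometry
open Variety

namespace Groth.Agent.S7675

/-- Let k be a field, n ≥ 0 and X, Y ⊆ P^n_k nonempty closed subsets of dimensions r and s with r + s ≥
n. Then X ∩ Y is nonempty and dim(X ∩ Y) ≥ r + s − n. -/
theorem result (k : Type u) [Field k] (n r s : ℕ)
    (X Y : Set ↥(CohB1.ProjSpace n k)) (hX : IsClosed X) (hY : IsClosed Y)
    (hXne : X.Nonempty) (hYne : Y.Nonempty)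
    (hXr : topologicalKrullDim X = r) (hYs : topologicalKrullDim Y = s) (hrs : n ≤ r + s) :
    (X ∩ Y).Nonempty ∧ ((r + s : ℕ) : WithBot ℕ∞) ≤ topologicalKrullDim ↥(X ∩ Y) + (n : WithBot ℕ∞) := by
  haveI : QuasiSober (ProjectiveSpectrum (CohB1.polyGrading n k)) :=
    (inferInstance : QuasiSober ↥(CohB1.ProjSpace n k))
  haveI : T0Space (ProjectiveSpectrum (CohB1.polyGrading n k)) :=
    (inferInstance : T0Space ↥(CohB1.ProjSpace n k))
  exact Groth.Agent.ProjInter.main (k := k) (n := n) r s X Y hX hY hXr hYs hrs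

end Groth.Agent.S7675
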