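import Groth.Statements.S7677
import Groth.Agent.CohFinite.Serre

set_option autoImplicit false
universe u
open CategoryTheory CategoryTheory.Limits AlgebraicGeometry
open Variety

set_option backward.isDefEq.respectTransparency false
set_option backward.isDefEq.respectTransparency.types false

namespace Groth.Agent.S7677

/-- Let k be a field, n ≥ 0 and F a coherent module on P^n_k with Hilbert polynomial P, i.e. χ(P^n_k,
F(d)) = P(d) for all d. Then P(d) = dim_k H^0(P^n_k, F(d)) for all d ≫ 0. -/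
theorem result (k : Type u) [Field k] (n : ℕ)
    (F : (CohB1.ProjSpace n k).Modules) (hF : Coh.IsCoh F) (P : Polynomial ℚ)
    (hP : ∀ d : ℤ, (Curv2.euler k (CohB1.ProjSpace n k)
      (CohB1.tensorMod F (Twist.twistProjSpace n k d)) : ℚ) = P.eval (d : ℚ)) :
    ∃ d₀ : ℤ, ∀ d : ℤ, d₀ ≤ d →
      P.eval (d : ℚ) = (Module.finrank k (Coh.HH (CohB1.ProjSpace n k)
        (CohB1.tensorMod F (Twist.twistProjSpace n k d)) 0) : ℚ) := by
  obtain ⟨m₀, h⟩ := CohFinite.vanish_projSpace n k (CohB1.tensorMod F (Twist.twistProjSpace n k 0))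
    (CohFinite.isCoh_tensor hF (CohFinite.isInvertible_twist n k 0))
  refine ⟨m₀, fun d hd => ?_⟩
  obtain ⟨m, rfl⟩ := Int.eq_ofNat_of_zero_le ((Int.natCast_nonneg m₀).trans hd)
  obtain ⟨e⟩ := CohFinite.nonempty_twist_tensorPow n k 0 m
  have E : CohB1.tensorMod (CohB1.tensorMod F (Twist.twistProjSpace n k 0))
      (CohB1.tensorPow (Twist.twistProjSpace n k 1) m) ≅ CohB1.tensorMod F (Twist.twistProjSpace n k (m : ℤ)) :=
    TMul.assocIso _ _ _ ≪≫ PicGrp.tensorModIso (Iso.refl F) (e ≪≫ eqToIso (by rw [zero_add]))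
  rw [← hP, Curv2.euler, finsum_eq_single _ 0]
  · simp
  · intro p hp
    obtain ⟨q, rfl⟩ := Nat.exists_eq_succ_of_ne_zero hp
    haveI : Subsingleton (Coh.HH (CohB1.ProjSpace n k) (CohB1.tensorMod F (Twist.twistProjSpace n k (m : ℤ))) (q + 1)) := by
      have h' := h m (by exact_mod_cast hd) q
      exact CohQC.hh_subsingleton_of_iso E _ h'
    rw [Nat.succ_eq_add_one, Module.finrank_zero_of_subsingleton]
    simp

end Groth.Agent.S7677
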