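import Groth.Statements.S7678
import Mathlib
import Groth.Agent.GeomProp.SchemeReduced
import Groth.Agent.SmLocalST.SmoothField
-- import your own Groth.Agent.* helpers here

set_option autoImplicit false
universe u
open CategoryTheory CategoryTheory.Limits AlgebraicGeometry
open Variety

namespace Groth.Agent.S7678

/-- For a field k of positive characteristic p and a k-scheme X, the base change of X along the p-th
power map of k is a reduced scheme exactly when X is geometrically reduced over k. -/
theorem result (k : Type u) [Field k] (X : Scheme.{u}) [X.Over (Spec (CommRingCat.of k))]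
    (p : ℕ) [Fact p.Prime] [CharP k p] :
    GeometricallyReduced (X ↘ (Spec (CommRingCat.of k))) ↔
      IsReduced ↑(pullback (X ↘ (Spec (CommRingCat.of k))) (Spec.map (CommRingCat.ofHom (frobenius k p)))) := by
  refine ⟨fun h => pullback_of_geometrically h.1 k _, fun h => ?_⟩
  letI : Algebra k k := (frobenius k p).toAlgebra
  haveI : Algebra.IsIntegral k k := ⟨fun y => ⟨Polynomial.X ^ p - Polynomial.C y,
    Polynomial.monic_X_pow_sub_C y (Fact.out : p.Prime).ne_zero, by
      rw [Polynomial.eval₂_sub, Polynomial.eval₂_pow, Polynomial.eval₂_X, Polynomial.eval₂_C]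
      exact sub_self _⟩⟩
  exact @Groth.Agent.GeomProp.geometricallyReduced_of_root k _ X _ p _ _ k _ (frobenius k p).toAlgebra _
    (RingHom.id k) (fun c => rfl) h

end Groth.Agent.S7678
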