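import Groth.Statements.S7682
import Groth.Agent.Intersect.Deg

set_option autoImplicit false
universe u
open CategoryTheory CategoryTheory.Limits AlgebraicGeometry
open Variety Groth.Agent

namespace Groth.Agent.S7682

/-- Let f : Y → X be a morphism of proper schemes over a field k, Z ⊆ Y an integral closed subscheme of
dimension d and L_1, …, L_d invertible modules on X. Then (f^*L_1 ⋯ f^*L_d · Z) = deg(Z → f(Z)) ·
(L_1 ⋯ L_d · f(Z)), f(Z) being the scheme-theoretic image and deg the degree of the function field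
extension, read as 0 when dim f(Z) < d (equivalently when that extension is infinite). Both
intersection numbers are the n_1⋯n_d-coefficients of the polynomials computing the corresponding
Euler characteristics. -/
theorem result (k : Type u) [Field k] (X Y : Scheme.{u})
    [X.Over (Spec (CommRingCat.of k))] [Y.Over (Spec (CommRingCat.of k))]
    [IsProper (X ↘ (Spec (CommRingCat.of k)))] [IsProper (Y ↘ (Spec (CommRingCat.of k)))]
    (f : Y ⟶ X) (hf : f ≫ (X ↘ (Spec (CommRingCat.of k))) = Y ↘ (Spec (CommRingCat.of k)))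
    (Z : Y.IdealSheafData) [IsIntegral Z.subscheme] (d : ℕ)
    (hZ : topologicalKrullDim (Z.support : Set Y) = d)
    (L : Fin d → X.Modules) (hL : ∀ i, PicF.IsInvertible (L i))
    (PY PX : MvPolynomial (Fin d) ℚ)
    (hPY : ∀ n : Fin d → ℕ, (Curv2.euler k Y (Curv2.tensorPows (ClSub.quotMod Z) d (fun i => (Scheme.Modules.pullback f).obj (L i)) n) : ℚ) = MvPolynomial.eval (fun i => (n i : ℚ)) PY)
    (hPX : ∀ n : Fin d → ℕ, (Curv2.euler k X (Curv2.tensorPows (ClSub.quotMod (Z.subschemeι ≫ f).ker) d L n) : ℚ) = MvPolynomial.eval (fun i => (n i : ℚ)) PX) :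
    MvPolynomial.coeff (Finsupp.equivFunOnFinite.symm fun _ : Fin d => 1) PY =
      ((Z.subschemeι ≫ f).residueDegree (genericPoint Z.subscheme) : ℚ) *
        MvPolynomial.coeff (Finsupp.equivFunOnFinite.symm fun _ : Fin d => 1) PX := by
  haveI : IsProper (f ≫ (X ↘ (Spec (CommRingCat.of k)))) := by rw [hf]; infer_instance
  haveI : IsProper f := IsProper.of_comp f (X ↘ (Spec (CommRingCat.of k)))
  haveI := CurveRR.isNoetherian_of_proper k Y
  haveI := CurveRR.isNoetherian_of_proper k X
  letI : Z.subscheme.Over (Spec (CommRingCat.of k)) := ⟨Z.subschemeι ≫ (Y ↘ (Spec (CommRingCat.of k)))⟩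
  haveI : IsProper (Z.subscheme ↘ (Spec (CommRingCat.of k))) := inferInstanceAs (IsProper (Z.subschemeι ≫ _))
  let ι := Z.subschemeι
  haveI := CurveRR.isNoetherian_of_proper k Z.subscheme
  have hι : ι ≫ (Y ↘ (Spec (CommRingCat.of k))) = Z.subscheme ↘ (Spec (CommRingCat.of k)) := rfl
  have hh : (ι ≫ f) ≫ (X ↘ (Spec (CommRingCat.of k))) = Z.subscheme ↘ (Spec (CommRingCat.of k)) := by
    rw [CategoryTheory.Category.assoc, hf]; rfl
  have hL' : ∀ i, PicF.IsInvertible ((Scheme.Modules.pullback f).obj (L i)) := fun i =>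
    PicLoc.isInvertible_pullback f (hL i)
  have hdY : topologicalKrullDim (CohB1.support (ClSub.quotMod Z)) ≤ (d : WithBot ℕ∞) :=
    (Groth.Agent.Intersect.dim_mono (CurveRR.support_quotMod Z)).trans hZ.le
  have hdZ : topologicalKrullDim Z.subscheme ≤ (d : WithBot ℕ∞) := by
    refine le_trans (le_of_eq ?_) hZ.le
    rw [← Z.range_subschemeι]
    exact IsHomeomorph.topologicalKrullDim_eq _ ι.isClosedEmbedding.isEmbedding.toHomeomorph.isHomeomorph
  have hdX : topologicalKrullDim (CohB1.support (ClSub.quotMod (ι ≫ f).ker)) ≤ (d : WithBot ℕ∞) := by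
    refine (Groth.Agent.Intersect.dim_mono ((CurveRR.support_quotMod (ι ≫ f).ker).trans ?_)).trans
      ((Groth.Agent.Intersect.dim_image_le (ι ≫ f) (T := Set.univ) isClosed_univ).trans
        ((topologicalKrullDim_subspace_le _ _).trans hdZ))
    rw [Scheme.Hom.support_ker, Set.image_univ]
    exact ((ι ≫ f).isClosedMap.isClosed_range.closure_eq).le
  rw [Groth.Agent.Intersect.exists_coeff_eq k (ClSub.quotMod Z) (CurveRR.isCoh_idealMod Z).2 hL' hdY PY hPY,
    Groth.Agent.Intersect.exists_coeff_eq k (ClSub.quotMod (ι ≫ f).ker) (CurveRR.isCoh_idealMod (ι ≫ f).ker).2 hL hdX PX hPX]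
  have hO : Coh.IsCoh (Coh.structureModule Z.subscheme) := Groth.Agent.RefStalk.isCoh_structureModule
  have e1 := Groth.Agent.Intersect.alt_push k ι hι d _ hL' (Coh.structureModule Z.subscheme) hO
    ((topologicalKrullDim_subspace_le _ _).trans hdZ)
  have e2 := Groth.Agent.Intersect.χt_congr k (Coh.structureModule Z.subscheme)
    (L := fun i => (Scheme.Modules.pullback ι).obj ((Scheme.Modules.pullback f).obj (L i)))
    (L' := fun i => (Scheme.Modules.pullback (ι ≫ f)).obj (L i))
    (fun i => ⟨(Scheme.Modules.pullbackComp ι f).app (L i)⟩)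
  have e3 := Groth.Agent.Intersect.alt_integral k (ι ≫ f) hh hdZ hL
  rw [show ClSub.quotMod Z = (Scheme.Modules.pushforward ι).obj (Coh.structureModule Z.subscheme) from rfl, ← e1, e2, e3]
  ring

end Groth.Agent.S7682
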