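import Groth.Statements.S7684
import Mathlib
import Groth.Agent.DvrDom.KrullAkizuki
import Groth.Agent.AssLib.Push

set_option autoImplicit false
universe u
open CategoryTheory CategoryTheory.Limits AlgebraicGeometry
open Variety

set_option backward.isDefEq.respectTransparency false
set_option linter.style.haveILetI false

namespace Groth.Agent.S7684

open Groth.Agent.DvrDom

/-- The facts about the coordinate ring `C` of a chart of the normalisation over `A`. -/
structure Chart {A C : Type u} [CommRing A] [CommRing C] (φ : A →+* C) : Prop where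
  inj : Function.Injective φ
  noeth : IsNoetherianRing C
  closed : IsIntegrallyClosed C
  dimOne : Ring.DimensionLEOne C
  birat : ∀ c : C, ∃ a b : A, b ≠ 0 ∧ φ b * c = φ a
  finite_quot : ∀ Q : Ideal C, Q.IsPrime → Q ≠ ⊥ → ∃ s : Finset C, ∀ c : C, ∃ l : C → A,
    c - ∑ d ∈ s, φ (l d) * d ∈ Q

theorem chart_integralClosure (A K : Type u) [CommRing A] [IsDomain A] [IsNoetherianRing A]
    [Ring.KrullDimLE 1 A] [Field K] [Algebra A K] [IsFractionRing A K] :
    Chart (algebraMap A (integralClosure A K)) := by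
  let D := integralClosure A K
  have hinj : Function.Injective (algebraMap A D) := fun a b h =>
    IsFractionRing.injective A K (congrArg Subtype.val h)
  have hbir : ∀ c : D, ∃ a b : A, b ≠ 0 ∧ algebraMap A D b * c = algebraMap A D a := fun c => by
    obtain ⟨⟨a, b⟩, h⟩ := IsLocalization.surj (nonZeroDivisors A) (c : K)
    exact ⟨a, b, nonZeroDivisors.ne_zero b.2, Subtype.ext ((mul_comm _ _).trans h)⟩
  have hclosed : IsIntegrallyClosed D := by
    haveI : Algebra.IsAlgebraic A K := IsLocalization.isAlgebraic K (nonZeroDivisors A)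
    haveI : IsFractionRing D K := integralClosure.isFractionRing_of_algebraic (A := A)
      (fun x hx => (map_eq_zero_iff _ (IsFractionRing.injective A K)).1 hx)
    refine (isIntegrallyClosed_iff K).2 fun {z} hz => ⟨⟨z, ?_⟩, rfl⟩
    haveI : Algebra.IsIntegral A D := inferInstance
    exact isIntegral_trans z hz
  have hmeet : ∀ Q : Ideal D, Q.IsPrime → Q ≠ ⊥ → ∃ p : A, p ≠ 0 ∧ algebraMap A D p ∈ Q := by
    intro Q hQ hQ0
    obtain ⟨x, hx, hx0⟩ := Submodule.exists_mem_ne_zero_of_ne_bot hQ0
    obtain ⟨a, b, hb, h⟩ := hbir x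
    refine ⟨a, fun ha => hx0 ?_, h ▸ Q.mul_mem_left _ hx⟩
    rw [ha, map_zero, mul_eq_zero] at h
    exact h.resolve_left fun h' => hb (hinj (h'.trans (map_zero _).symm))
  refine ⟨hinj, isNoetherianRing_subalgebra D, hclosed, ⟨fun {Q} hQ0 hQ => ?_⟩, hbir, fun Q hQ hQ0 => ?_⟩
  · obtain ⟨p, hp, hpQ⟩ := hmeet Q hQ hQ0
    haveI : (Q.comap (algebraMap A D)).IsMaximal :=
      (Ring.krullDimLE_one_iff_of_isPrime_bot.1 inferInstance) _
        (fun e => hp ((Submodule.mem_bot A).1 (e ▸ (Ideal.mem_comap.2 hpQ)))) inferInstance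
    exact Ideal.isMaximal_of_isIntegral_of_isMaximal_comap Q this
  · obtain ⟨p, hp, hpQ⟩ := hmeet Q hQ hQ0
    let W : Submodule A D := LinearMap.range (LinearMap.lsmul A D p)
    have hfin : Module.Finite A (D ⧸ W) := by
      obtain ⟨n, hn⟩ := ENat.ne_top_iff_exists.mp
        (Ring.ord_ne_top (R := A) (mem_nonZeroDivisors_of_ne_zero hp))
      refine finite_of_forall_fg_length_le n fun N hN ↦ ?_
      obtain ⟨s, hs⟩ := hN
      classical
      choose l hl using fun z : D ⧸ W ↦ W.mkQ_surjective z
      have : N = (Submodule.span A (s.image l : Set D)).map W.mkQ := by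
        rw [Submodule.map_span, Finset.coe_image, ← Set.image_comp, ← hs]
        simp [Function.comp_def, hl]
      rw [this, hn]
      exact length_map_mkQ_le D hp _ ⟨_, rfl⟩
    classical
    obtain ⟨t, ht⟩ := hfin.fg_top
    choose l hl using fun z : D ⧸ W ↦ W.mkQ_surjective z
    refine ⟨t.image l, fun c => ?_⟩
    have hc : W.mkQ c ∈ Submodule.span A (W.mkQ '' (t.image l : Set D)) := by
      rw [Finset.coe_image, ← Set.image_comp]
      simp [Function.comp_def, hl, ht]
    rw [← Submodule.map_span] at hc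
    obtain ⟨c', hc', he⟩ := hc
    obtain ⟨g, -, hg⟩ := Submodule.mem_span_finset.1 hc'
    refine ⟨g, ?_⟩
    obtain ⟨d, hd⟩ : c - c' ∈ W := (Submodule.Quotient.eq W).1 he.symm
    have hd' : algebraMap A D p * d = c - c' := by rw [← hd, LinearMap.lsmul_apply, Algebra.smul_def]
    have hs : (∑ e ∈ t.image l, algebraMap A D (g e) * e) = c' := by
      rw [← hg]; exact Finset.sum_congr rfl fun e _ => (Algebra.smul_def _ _).symm
    rw [hs, ← hd']
    exact Q.mul_mem_right d hpQ

theorem Chart.of_equiv {A C C' : Type u} [CommRing A] [CommRing C] [CommRing C'] [IsDomain C] [IsDomain C']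
    {φ : A →+* C} {φ' : A →+* C'} (e : C ≃+* C') (he : ∀ a, e (φ a) = φ' a) (h : Chart φ) : Chart φ' := by
  have hφ : ∀ a, φ' a = e (φ a) := fun a => (he a).symm
  haveI := h.noeth
  haveI := h.closed
  refine ⟨fun a b hab => h.inj (e.injective (by rw [he, he, hab])), isNoetherianRing_of_ringEquiv C e,
    IsIntegrallyClosed.of_equiv e, ⟨fun {Q} hQ0 hQ => ?_⟩, fun c => ?_, fun Q hQ hQ0 => ?_⟩
  · haveI : (Q.comap (e : C →+* C')).IsMaximal := h.dimOne.maximalOfPrime (fun e0 => hQ0 ?_) inferInstance
    · rw [← Ideal.map_comap_of_surjective (e : C →+* C') e.surjective Q]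
      exact Ideal.IsMaximal.map_bijective (e : C →+* C') e.bijective ‹_›
    · rw [← Ideal.map_comap_of_surjective (e : C →+* C') e.surjective Q, e0, Ideal.map_bot]
  · obtain ⟨a, b, hb, hc⟩ := h.birat (e.symm c)
    exact ⟨a, b, hb, by rw [hφ, hφ, ← hc, map_mul, e.apply_symm_apply]⟩
  · classical
    haveI := hQ
    obtain ⟨s, hs⟩ := h.finite_quot (Q.comap (e : C →+* C')) inferInstance (fun e0 => hQ0 (by
      rw [← Ideal.map_comap_of_surjective (e : C →+* C') e.surjective Q, e0, Ideal.map_bot]))
    refine ⟨s.image e, fun c => ?_⟩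
    obtain ⟨l, hl⟩ := hs (e.symm c)
    refine ⟨fun d => l (e.symm d), ?_⟩
    rw [Finset.sum_image fun x _ y _ hxy => e.injective hxy]
    have := Ideal.mem_comap.1 hl
    simpa [map_sub, map_sum, hφ] using this

variable (X : Scheme.{u}) [IsIntegral X] [IsLocallyNoetherian X]
  [QuasiCompact (X.fromSpecStalk (genericPoint X))] [QuasiSeparated (X.fromSpecStalk (genericPoint X))]


theorem chart (hdim : topologicalKrullDim X = 1) {U : X.Opens} (hU : IsAffineOpen U) [Nonempty U]
    [Nonempty (((X.fromSpecStalk (genericPoint X)).fromNormalization ⁻¹ᵁ U : (X.fromSpecStalk (genericPoint X)).normalization.Opens))] :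
    Chart (((X.fromSpecStalk (genericPoint X)).fromNormalization).app U).hom := by
  let g := X.fromSpecStalk (genericPoint X)
  haveI := functionField_isFractionRing_of_isAffineOpen X U hU
  haveI : IsNoetherianRing Γ(X, U) := IsLocallyNoetherian.component_noetherian ⟨U, hU⟩
  haveI : Ring.KrullDimLE 1 Γ(X, U) := Ring.krullDimLE_iff.2 (by
    rw [← PrimeSpectrum.topologicalKrullDim_eq_ringKrullDim]
    exact (hU.fromSpec.isOpenEmbedding.isInducing.topologicalKrullDim_le).trans hdim.le)
  letI : Algebra Γ(X, U) Γ(Spec (X.presheaf.stalk (genericPoint X)), g ⁻¹ᵁ U) := (g.app U).hom.toAlgebra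
  have hη : genericPoint X ∈ U :=
    ((genericPoint_spec X).mem_open_set_iff U.isOpen).mpr (by simpa using Set.nonempty_coe_sort.1 ‹Nonempty U›)
  have hmem : g (IsLocalRing.closedPoint (X.presheaf.stalk (genericPoint X))) ∈ U := by
    show X.fromSpecStalk (genericPoint X) _ ∈ U
    rw [Scheme.fromSpecStalk_closedPoint]; exact hη
  have e1 : g.app U ≫ ((Spec (X.presheaf.stalk (genericPoint X))).presheaf.mapIso
        (eqToIso (Scheme.preimage_eq_top_of_closedPoint_mem g hmem).symm).op ≪≫
          Scheme.ΓSpecIso (X.presheaf.stalk (genericPoint X))).hom = X.germToFunctionField U := by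
    rw [← Scheme.germ_stalkClosedPointTo g U hmem]
    show _ ≫ Scheme.stalkClosedPointTo (X.fromSpecStalk (genericPoint X)) = _
    rw [Scheme.stalkClosedPointTo_fromSpecStalk, TopCat.Presheaf.stalkCongr_hom]
    exact TopCat.Presheaf.germ_stalkSpecializes _ _ _
  let ψ : Γ(Spec (X.presheaf.stalk (genericPoint X)), g ⁻¹ᵁ U) ≃ₐ[Γ(X, U)] X.functionField :=
    AlgEquiv.ofRingEquiv (f := Iso.commRingCatIsoToRingEquiv ((Spec (X.presheaf.stalk (genericPoint X))).presheaf.mapIso
        (eqToIso (Scheme.preimage_eq_top_of_closedPoint_mem g hmem).symm).op ≪≫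
          Scheme.ΓSpecIso (X.presheaf.stalk (genericPoint X))))
      fun a => congrArg (fun m => m.hom a) e1
  let E := ψ.mapIntegralClosure.toRingEquiv.symm.trans (g.normalizationObjIso hU).commRingCatIsoToRingEquiv.symm
  refine Chart.of_equiv E (fun a => ?_) (chart_integralClosure Γ(X, U) X.functionField)
  show (g.normalizationObjIso hU).inv (ψ.mapIntegralClosure.symm (algebraMap Γ(X, U) _ a)) = _
  rw [AlgEquiv.commutes]
  exact (congrArg (fun m => m.hom a) (g.fromNormalization_app hU)).symm

variable {X} in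
theorem germ_isUnit_iff {U : X.Opens} (hU : IsAffineOpen U) {x : X} (hx : x ∈ U) (s : Γ(X, U)) :
    IsUnit (X.presheaf.germ U x hx s) ↔ s ∉ (hU.primeIdealOf ⟨x, hx⟩).asIdeal := by
  let := TopCat.Presheaf.algebra_section_stalk X.presheaf ⟨x, hx⟩
  haveI := hU.isLocalization_stalk ⟨x, hx⟩
  exact IsLocalization.AtPrime.isUnit_to_map_iff (X.presheaf.stalk x) _ s

/-- For an integral scheme: let X be an integral locally Noetherian scheme of dimension one and ν : X^ν
→ X its normalization. Then ν has finite fibres and finite residue field extensions, and X^ν is a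
locally Noetherian scheme whose nonempty affine opens are spectra of Dedekind domains. (The
published statement is for any locally Noetherian X of dimension one, with X^ν → X_red, and also
says that ν is integral, surjective and birational, that X^ν is normal and that its stalks are the
integral closures of those of X; here X is integral, and those clauses, which hold for the
normalization of every integral scheme, are not restated.) -/
theorem result (X : Scheme.{u}) [IsIntegral X] [IsLocallyNoetherian X]
    [QuasiCompact (X.fromSpecStalk (genericPoint X))] [QuasiSeparated (X.fromSpecStalk (genericPoint X))]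
    (hdim : topologicalKrullDim X = 1) :
    (∀ x : X, Finite {x' : ↥(Curv2.normalization X) // (Curv2.normalizationι X).base x' = x}) ∧
      (∀ x' : ↥(Curv2.normalization X),
        letI := ((Curv2.normalizationι X).residueFieldMap x').hom.toAlgebra
        Module.Finite (X.residueField ((Curv2.normalizationι X).base x')) ((Curv2.normalization X).residueField x')) ∧
      IsLocallyNoetherian (Curv2.normalization X) ∧
      (∀ U : (Curv2.normalization X).affineOpens, ((U : (Curv2.normalization X).Opens) : Set ↥(Curv2.normalization X)).Nonempty →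
        IsDedekindDomain Γ(Curv2.normalization X, (U : (Curv2.normalization X).Opens))) := by
  haveI hNint : IsIntegral (X.fromSpecStalk (genericPoint X)).normalization := by
    haveI : IsIntegral (Spec (X.presheaf.stalk (genericPoint X))) := inferInstance
    infer_instance
  unfold Curv2.normalizationι Curv2.normalization
  set N := (X.fromSpecStalk (genericPoint X)).normalization
  have haff : ∀ x : X, ∃ U : X.Opens, IsAffineOpen U ∧ x ∈ U := fun x => by
    obtain ⟨U, hU, hx, -⟩ := exists_isAffineOpen_mem_and_subset (show x ∈ (⊤ : X.Opens) from trivial)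
    exact ⟨U, hU, hx⟩
  have hch : ∀ {U : X.Opens} (hU : IsAffineOpen U) (y : N), y ∈ ((X.fromSpecStalk (genericPoint X)).fromNormalization ⁻¹ᵁ U : N.Opens) →
      Chart (((X.fromSpecStalk (genericPoint X)).fromNormalization).app U).hom := fun {U} hU y hy => by
    haveI : Nonempty U := ⟨⟨(X.fromSpecStalk (genericPoint X)).fromNormalization y, hy⟩⟩
    haveI : Nonempty ((X.fromSpecStalk (genericPoint X)).fromNormalization ⁻¹ᵁ U : N.Opens) := ⟨⟨y, hy⟩⟩
    exact chart X hdim hU
  have hcomap : ∀ {U : X.Opens} (hU : IsAffineOpen U) (y : N) (hy : y ∈ ((X.fromSpecStalk (genericPoint X)).fromNormalization ⁻¹ᵁ U : N.Opens)),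
      ((hU.preimage ((X.fromSpecStalk (genericPoint X)).fromNormalization)).primeIdealOf ⟨y, hy⟩).asIdeal.comap (((X.fromSpecStalk (genericPoint X)).fromNormalization).app U).hom =
        (hU.primeIdealOf ⟨(X.fromSpecStalk (genericPoint X)).fromNormalization y, hy⟩).asIdeal := fun {U} hU y hy => by
    rw [Scheme.Hom.app_eq_appLE]
    exact AssLib.comap_primeIdealOf ((X.fromSpecStalk (genericPoint X)).fromNormalization) hU (hU.preimage ((X.fromSpecStalk (genericPoint X)).fromNormalization)) le_rfl hy
  have hnoe : IsLocallyNoetherian N := by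
    refine isLocallyNoetherian_of_affine_cover (S := fun U : X.affineOpens => ⟨(X.fromSpecStalk (genericPoint X)).fromNormalization ⁻¹ᵁ U.1, U.2.preimage ((X.fromSpecStalk (genericPoint X)).fromNormalization)⟩) ?_ ?_
    · refine eq_top_iff.2 fun y _ => ?_
      obtain ⟨U, hU, hy⟩ := haff ((X.fromSpecStalk (genericPoint X)).fromNormalization y)
      exact TopologicalSpace.Opens.mem_iSup.2 ⟨⟨U, hU⟩, hy⟩
    · intro U
      rcases isEmpty_or_nonempty ((X.fromSpecStalk (genericPoint X)).fromNormalization ⁻¹ᵁ U.1 : N.Opens) with he | ⟨⟨y, hy⟩⟩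
      · have : (X.fromSpecStalk (genericPoint X)).fromNormalization ⁻¹ᵁ U.1 = ⊥ := TopologicalSpace.Opens.ext (Set.eq_empty_iff_forall_notMem.2 fun y hy => he.elim ⟨y, hy⟩)
        show IsNoetherianRing Γ(N, (X.fromSpecStalk (genericPoint X)).fromNormalization ⁻¹ᵁ U.1)
        rw [this]; infer_instance
      · exact (hch U.2 y hy).noeth
  refine ⟨fun x => ?_, fun y => ?_, hnoe, fun V hV => ?_⟩
  · -- finite fibres
    obtain ⟨U, hU, hx⟩ := haff x
    rcases isEmpty_or_nonempty {x' : N // ((X.fromSpecStalk (genericPoint X)).fromNormalization).base x' = x} with he | ⟨⟨y₀, hy₀⟩⟩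
    · infer_instance
    have hy₀U : y₀ ∈ ((X.fromSpecStalk (genericPoint X)).fromNormalization ⁻¹ᵁ U : N.Opens) := by show (X.fromSpecStalk (genericPoint X)).fromNormalization y₀ ∈ U; rw [hy₀]; exact hx
    haveI : Nonempty ((X.fromSpecStalk (genericPoint X)).fromNormalization ⁻¹ᵁ U : N.Opens) := ⟨⟨y₀, hy₀U⟩⟩
    have hC := hch hU y₀ hy₀U
    haveI := hC.noeth
    let P := (hU.primeIdealOf ⟨x, hx⟩).asIdeal
    let F := {Q : Ideal Γ(N, (X.fromSpecStalk (genericPoint X)).fromNormalization ⁻¹ᵁ U) | Q.IsPrime ∧ Q.comap (((X.fromSpecStalk (genericPoint X)).fromNormalization).app U).hom = P}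
    have hF : F.Finite := by
      by_cases hP : P = ⊥
      · refine (Set.finite_singleton ⊥).subset fun Q hQ => ?_
        by_contra hQ0
        obtain ⟨c, hc, hc0⟩ := Submodule.exists_mem_ne_zero_of_ne_bot hQ0
        obtain ⟨a, b, hb, hab⟩ := hC.birat c
        have ha : a ∈ P := hQ.2 ▸ Ideal.mem_comap.2 (hab ▸ Q.mul_mem_left _ hc)
        rw [hP, Submodule.mem_bot] at ha
        rw [ha, map_zero, mul_eq_zero] at hab
        exact hc0 (hab.resolve_left fun h => hb (hC.inj (h.trans (map_zero _).symm)))
      · obtain ⟨a, ha, ha0⟩ := Submodule.exists_mem_ne_zero_of_ne_bot hP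
        refine (Ideal.finite_minimalPrimes_of_isNoetherianRing _ (Ideal.span {(((X.fromSpecStalk (genericPoint X)).fromNormalization).app U).hom a})).subset fun Q hQ => ?_
        haveI := hQ.1
        have haQ : (((X.fromSpecStalk (genericPoint X)).fromNormalization).app U).hom a ∈ Q := Ideal.mem_comap.1 (hQ.2.symm ▸ ha)
        obtain ⟨q, hq, hqQ⟩ := Ideal.exists_minimalPrimes_le ((Ideal.span_singleton_le_iff_mem Q).2 haQ)
        have hq0 : q ≠ ⊥ := fun e => ha0 (hC.inj (by
          rw [map_zero]
          exact (Submodule.mem_bot _).1 (e ▸ hq.1.2 (Ideal.mem_span_singleton_self _))))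
        rwa [← (hC.dimOne.maximalOfPrime hq0 hq.1.1).eq_of_le hQ.1.ne_top hqQ]
    haveI := hF.to_subtype
    have hmem : ∀ z : {x' : N // ((X.fromSpecStalk (genericPoint X)).fromNormalization).base x' = x}, z.1 ∈ ((X.fromSpecStalk (genericPoint X)).fromNormalization ⁻¹ᵁ U : N.Opens) := fun z => by
      show (X.fromSpecStalk (genericPoint X)).fromNormalization z.1 ∈ U; rw [z.2]; exact hx
    refine Finite.of_injective (fun z => (⟨((hU.preimage ((X.fromSpecStalk (genericPoint X)).fromNormalization)).primeIdealOf ⟨z.1, hmem z⟩).asIdeal,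
      ((hU.preimage ((X.fromSpecStalk (genericPoint X)).fromNormalization)).primeIdealOf ⟨z.1, hmem z⟩).isPrime, by
        rw [hcomap hU z.1 (hmem z)]
        exact congrArg (fun w => (hU.primeIdealOf w).asIdeal) (Subtype.ext z.2)⟩ : F)) fun z w h => Subtype.ext ?_
    have h' := congrArg (fun q => (hU.preimage ((X.fromSpecStalk (genericPoint X)).fromNormalization)).fromSpec q)
      (PrimeSpectrum.ext (congrArg Subtype.val h) :
        (hU.preimage ((X.fromSpecStalk (genericPoint X)).fromNormalization)).primeIdealOf ⟨z.1, hmem z⟩ = (hU.preimage ((X.fromSpecStalk (genericPoint X)).fromNormalization)).primeIdealOf ⟨w.1, hmem w⟩)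
    simpa [IsAffineOpen.fromSpec_primeIdealOf] using h'
  · -- finite residue extensions
    obtain ⟨U, hU, hy⟩ := haff ((X.fromSpecStalk (genericPoint X)).fromNormalization y)
    letI := (((X.fromSpecStalk (genericPoint X)).fromNormalization).residueFieldMap y).hom.toAlgebra
    haveI : Nonempty ((X.fromSpecStalk (genericPoint X)).fromNormalization ⁻¹ᵁ U : N.Opens) := ⟨⟨y, hy⟩⟩
    have hC := hch hU y hy
    let ev : Γ(N, (X.fromSpecStalk (genericPoint X)).fromNormalization ⁻¹ᵁ U) →+* N.residueField y := (N.evaluation ((X.fromSpecStalk (genericPoint X)).fromNormalization ⁻¹ᵁ U) y hy).hom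
    let Q := ((hU.preimage ((X.fromSpecStalk (genericPoint X)).fromNormalization)).primeIdealOf ⟨y, hy⟩).asIdeal
    have hev : ∀ c, ev c = 0 ↔ c ∈ Q := fun c => by
      show IsLocalRing.residue _ (N.presheaf.germ ((X.fromSpecStalk (genericPoint X)).fromNormalization ⁻¹ᵁ U) y hy c) = 0 ↔ _
      rw [IsLocalRing.residue_eq_zero_iff, IsLocalRing.mem_maximalIdeal, mem_nonunits_iff,
        germ_isUnit_iff (hU.preimage ((X.fromSpecStalk (genericPoint X)).fromNormalization)) hy, not_not]
    have hbase : ∀ a : Γ(X, U), algebraMap (X.residueField ((X.fromSpecStalk (genericPoint X)).fromNormalization y)) (N.residueField y) (X.evaluation U ((X.fromSpecStalk (genericPoint X)).fromNormalization y) hy a) =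
        ev ((((X.fromSpecStalk (genericPoint X)).fromNormalization).app U).hom a) := fun a => Scheme.evaluation_naturality_apply ((X.fromSpecStalk (genericPoint X)).fromNormalization) y hy a
    have hfrac : ∀ z : N.residueField y, ∃ c t, t ∉ Q ∧ z * ev t = ev c := fun z => by
      obtain ⟨σ, rfl⟩ := Scheme.residue_surjective N y z
      let := TopCat.Presheaf.algebra_section_stalk N.presheaf (⟨y, hy⟩ : ((X.fromSpecStalk (genericPoint X)).fromNormalization ⁻¹ᵁ U : N.Opens))
      haveI := (hU.preimage ((X.fromSpecStalk (genericPoint X)).fromNormalization)).isLocalization_stalk ⟨y, hy⟩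
      obtain ⟨⟨c, t⟩, h⟩ := IsLocalization.surj Q.primeCompl σ
      exact ⟨c, t, t.2, by
        show N.residue y σ * N.residue y _ = N.residue y _
        rw [← map_mul]; exact congrArg _ h⟩
    by_cases hQ : Q = ⊥
    · have hc : ∀ c, ev c ∈ (⊥ : Subalgebra (X.residueField ((X.fromSpecStalk (genericPoint X)).fromNormalization y)) (N.residueField y)) := fun c => by
        obtain ⟨a, b, hb, h⟩ := hC.birat c
        have hb' : ev ((((X.fromSpecStalk (genericPoint X)).fromNormalization).app U).hom b) ≠ 0 := fun h0 => hb (hC.inj (by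
          rw [map_zero]; have h1 := (hev _).1 h0; rw [hQ] at h1; exact (Submodule.mem_bot _).1 h1))
        refine Algebra.mem_bot.2 ⟨X.evaluation U ((X.fromSpecStalk (genericPoint X)).fromNormalization y) hy a / X.evaluation U ((X.fromSpecStalk (genericPoint X)).fromNormalization y) hy b, ?_⟩
        rw [map_div₀, hbase, hbase, div_eq_iff hb', ← h, map_mul, mul_comm]
      refine Module.Finite.of_surjective (Algebra.linearMap (X.residueField ((X.fromSpecStalk (genericPoint X)).fromNormalization y)) (N.residueField y)) fun z => ?_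
      obtain ⟨c, t, ht, h⟩ := hfrac z
      obtain ⟨a, ha⟩ := Algebra.mem_bot.1 (hc c)
      obtain ⟨b, hb⟩ := Algebra.mem_bot.1 (hc t)
      refine ⟨a / b, ?_⟩
      rw [Algebra.linearMap_apply, map_div₀, ha, hb, ← h, mul_div_cancel_right₀ _ (mt (hev t).1 ht)]
    · classical
      obtain ⟨s, hs⟩ := hC.finite_quot Q ((hU.preimage ((X.fromSpecStalk (genericPoint X)).fromNormalization)).primeIdealOf ⟨y, hy⟩).isPrime hQ
      refine ⟨⟨s.image ev, eq_top_iff.2 fun z _ => ?_⟩⟩
      obtain ⟨c, t, ht, h⟩ := hfrac z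
      have hmax : Q.IsMaximal := hC.dimOne.maximalOfPrime hQ ((hU.preimage ((X.fromSpecStalk (genericPoint X)).fromNormalization)).primeIdealOf ⟨y, hy⟩).isPrime
      obtain ⟨v, i, hi, hv⟩ := hmax.exists_inv ht
      obtain ⟨l, hl⟩ := hs (c * v)
      have hz : z = ev (c * v) := by
        have h1 : ev v * ev t = 1 := by
          rw [← map_mul, ← map_one ev, ← hv, map_add, (hev i).2 hi, add_zero]
        rw [map_mul, ← h, mul_assoc, mul_comm (ev t), h1, mul_one]
      rw [hz, ← sub_eq_zero.1 ((map_sub ev _ _).symm.trans ((hev _).2 hl)) |>.symm, map_sum]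
      refine Submodule.sum_mem _ fun d hd => ?_
      rw [map_mul, ← hbase, ← Algebra.smul_def]
      exact Submodule.smul_mem _ _ (Submodule.subset_span (Finset.mem_image_of_mem ev hd))
  · -- Dedekind
    haveI := hnoe
    haveI : Nonempty (V.1 : N.Opens) := hV.to_subtype
    haveI : IsNoetherianRing Γ(N, V.1) := IsLocallyNoetherian.component_noetherian V
    have hst : ∀ y : N, IsIntegrallyClosed (N.presheaf.stalk y) ∧ ringKrullDim (N.presheaf.stalk y) ≤ 1 := fun y => by
      obtain ⟨U, hU, hy⟩ := haff ((X.fromSpecStalk (genericPoint X)).fromNormalization y)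
      haveI : Nonempty ((X.fromSpecStalk (genericPoint X)).fromNormalization ⁻¹ᵁ U : N.Opens) := ⟨⟨y, hy⟩⟩
      have hC := hch hU y hy
      let := TopCat.Presheaf.algebra_section_stalk N.presheaf (⟨y, hy⟩ : ((X.fromSpecStalk (genericPoint X)).fromNormalization ⁻¹ᵁ U : N.Opens))
      haveI := (hU.preimage ((X.fromSpecStalk (genericPoint X)).fromNormalization)).isLocalization_stalk ⟨y, hy⟩
      haveI := hC.closed
      haveI := hC.dimOne
      refine ⟨isIntegrallyClosed_of_isLocalization (N.presheaf.stalk y) _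
        (Ideal.primeCompl_le_nonZeroDivisors ((hU.preimage ((X.fromSpecStalk (genericPoint X)).fromNormalization)).primeIdealOf ⟨y, hy⟩).asIdeal), ?_⟩
      rw [IsLocalization.AtPrime.ringKrullDim_eq_height ((hU.preimage ((X.fromSpecStalk (genericPoint X)).fromNormalization)).primeIdealOf ⟨y, hy⟩).asIdeal
        (N.presheaf.stalk y)]
      refine (Ideal.height_le_ringKrullDim_of_ne_top (Ideal.IsPrime.ne_top inferInstance)).trans ?_
      exact Ring.krullDimLE_iff.1 (Ring.krullDimLE_one_iff_of_isPrime_bot.2 fun I hI hp => hC.dimOne.maximalOfPrime hI hp)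
    have hloc : ∀ (p : Ideal Γ(N, V.1)) [p.IsPrime], IsIntegrallyClosed (Localization.AtPrime p) ∧ p.height ≤ 1 := fun p hp' => by
      have hy : V.2.fromSpec ⟨p, hp'⟩ ∈ V.1 := by rw [← SetLike.mem_coe, ← V.2.range_fromSpec]; exact ⟨_, rfl⟩
      let := TopCat.Presheaf.algebra_section_stalk N.presheaf ⟨V.2.fromSpec ⟨p, hp'⟩, hy⟩
      haveI : IsLocalization.AtPrime (N.presheaf.stalk (V.2.fromSpec ⟨p, hp'⟩)) p :=
        V.2.isLocalization_stalk' ⟨p, hp'⟩ hy
      obtain ⟨h1, h2⟩ := hst (V.2.fromSpec ⟨p, hp'⟩)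
      haveI := h1
      refine ⟨IsIntegrallyClosed.of_equiv (IsLocalization.algEquiv p.primeCompl
        (N.presheaf.stalk (V.2.fromSpec ⟨p, hp'⟩)) (Localization.AtPrime p)).toRingEquiv, ?_⟩
      rw [IsLocalization.AtPrime.ringKrullDim_eq_height p] at h2
      exact WithBot.coe_le_coe.1 h2
    haveI : IsIntegrallyClosed Γ(N, V.1) :=
      IsIntegrallyClosed.of_localization_maximal fun p _ _ => (hloc p).1
    haveI : Ring.DimensionLEOne Γ(N, V.1) := ⟨fun {p} hp hprime => by
      obtain ⟨m, hm, hle⟩ := Ideal.exists_le_maximal p hprime.ne_top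
      rcases eq_or_lt_of_le hle with e | hlt
      · exact e ▸ hm
      · haveI := hm.isPrime
        have h1 := Ideal.height_strict_mono_of_isPrime hlt
        have h2 := (hloc m).2
        have h3 : p.height ≠ 0 := fun h0 => hp (by
          have h' := (Ideal.height_le_iff (n := 0)).1 (le_of_eq h0)
          by_contra hne
          exact absurd (h' ⊥ Ideal.isPrime_bot (bot_lt_iff_ne_bot.2 hne)) not_lt_zero)
        exact absurd (h1.trans_le h2) (not_lt.2 (Order.one_le_iff_ne_zero.2 h3))⟩
    haveI : IsDedekindRing Γ(N, V.1) := { }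
    exact { }

end Groth.Agent.S7684
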