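import Groth.Statements.S7690
import Groth.Agent.W7Cech.FlatBCSep
import Groth.Agent.ProjMor.ProjSpaceBase
import Groth.Agent.CohFinite.Serre
import Mathlib.RingTheory.Flat.FaithfullyFlat.Basic

set_option autoImplicit false
universe u
open CategoryTheory CategoryTheory.Limits AlgebraicGeometry
open Variety

namespace Groth.Agent.S7690

/-- Let k'/k be a field extension (k' in the universe of k), n ≥ 0, F a coherent module on P^n_k with
pullback F' to P^n_{k'}. For every integer m, F is m-regular exactly when F' is. Here P^n_{k'} is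
taken as the base change P^n_k ×_k Spec k' and the m-regularity of F' is spelled out as the
vanishing of H^i(P^n_{k'}, (F(m − i))') for 1 ≤ i ≤ n, (F(m − i))' being the pullback of F ⊗ O(m −
i). -/
theorem result (k : Type u) [Field k] (n : ℕ)
    (k' : Type u) [Field k'] [Algebra k k'] (F : (CohB1.ProjSpace n k).Modules) (hF : Coh.IsCoh F) (m : ℤ) :
    Curv2.IsMRegular k n F m ↔
      ∀ i : ℕ, 1 ≤ i → i ≤ n →
        Subsingleton (Coh.HH (Curv2.bc k (CohB1.ProjSpace n k) k')
          ((Scheme.Modules.pullback (Curv2.bcFst k (CohB1.ProjSpace n k) k')).obj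
            (CohB1.tensorMod F (Twist.twistProjSpace n k (m - i)))) i) := by
  let P := CohB1.ProjSpace n k
  haveI : IsProper (CohB1.ProjSpace.toSpec n k) := ProjMor.isProper_toSpec n k
  haveI : CompactSpace P := QuasiCompact.compactSpace_of_compactSpace (CohB1.ProjSpace.toSpec n k)
  haveI : P.IsSeparated := by
    constructor
    rw [← CategoryTheory.Limits.terminal.comp_from (CohB1.ProjSpace.toSpec n k)]
    infer_instance
  letI : (Curv2.bc k P k').Over (Spec (CommRingCat.of k')) := ⟨Curv2.bcSnd k P k'⟩
  refine forall₂_congr fun i _ => imp_congr_right fun _ => ?_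
  obtain ⟨e⟩ := Groth.Agent.W7Cech.nonempty_hh_flatBC k k' (Curv2.bcFst k P k')
    (IsPullback.of_hasPullback _ _) (CohB1.tensorMod F (Twist.twistProjSpace n k (m - i)))
    (Groth.Agent.CohFinite.isCoh_tensor hF (Groth.Agent.CohFinite.isInvertible_twist _ _ _)).1 i
  rw [← e.toEquiv.subsingleton_congr]
  exact (Module.FaithfullyFlat.subsingleton_tensorProduct_iff_right (R := k) (M := k')).symm

end Groth.Agent.S7690
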