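import Groth.Statements.S8256
import Groth.Agent.RelSpecUP.Basic


set_option linter.style.haveILetI false
set_option backward.isDefEq.respectTransparency false

set_option autoImplicit false
universe u
open CategoryTheory CategoryTheory.Limits AlgebraicGeometry Opposite TopologicalSpace
open EGA2

namespace Groth.Agent.S8256

/-- Let Y be affine over S (g : Y → S affine) and X, X' affine over Y (f, f' affine), and let Z = X ×_Y
X' with projections p : Z → X, p' : Z → X'. Then Z is affine over Y and over S, and its direct-image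
algebra on S is the tensor product: the square of quasi-coherent O_S-algebras A(Y) → A(X), A(Y) →
A(X'), A(X) → A(Z), A(X') → A(Z), whose maps are induced by f, f', p, p', is a pushout square in the
category of quasi-coherent O_S-algebras. -/
theorem result {X X' Y Z S : Scheme.{u}} (g : Y ⟶ S) [IsAffineHom g]
    (f : X ⟶ Y) [IsAffineHom f] (f' : X' ⟶ Y) [IsAffineHom f'] (p : Z ⟶ X) (p' : Z ⟶ X') [IsAffineHom p]
    (hZ : IsPullback p p' f f') :
    IsPushout
      (C := RelSpec.QCAlg S)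
      (⟨AffAlg.algHom g (f ≫ g) f rfl, AffAlg.algHom_comm g (f ≫ g) f rfl⟩ :
        RelSpec.QCAlg.directImage g ⟶ RelSpec.QCAlg.directImage (f ≫ g))
      (⟨AffAlg.algHom g (f' ≫ g) f' rfl, AffAlg.algHom_comm g (f' ≫ g) f' rfl⟩ :
        RelSpec.QCAlg.directImage g ⟶ RelSpec.QCAlg.directImage (f' ≫ g))
      (⟨AffAlg.algHom (f ≫ g) (p ≫ f ≫ g) p rfl, AffAlg.algHom_comm (f ≫ g) (p ≫ f ≫ g) p rfl⟩ :
        RelSpec.QCAlg.directImage (f ≫ g) ⟶ RelSpec.QCAlg.directImage (p ≫ f ≫ g))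
      (⟨AffAlg.algHom (f' ≫ g) (p ≫ f ≫ g) p'
          ((Category.assoc p' f' g).symm.trans ((congrArg (· ≫ g) hZ.w.symm).trans (Category.assoc p f g))),
        AffAlg.algHom_comm (f' ≫ g) (p ≫ f ≫ g) p'
          ((Category.assoc p' f' g).symm.trans ((congrArg (· ≫ g) hZ.w.symm).trans (Category.assoc p f g)))⟩ :
        RelSpec.QCAlg.directImage (f' ≫ g) ⟶ RelSpec.QCAlg.directImage (p ≫ f ≫ g)) := by
  have wp' : p' ≫ f' ≫ g = p ≫ f ≫ g :=
    (Category.assoc p' f' g).symm.trans ((congrArg (· ≫ g) hZ.w.symm).trans (Category.assoc p f g))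
  refine ⟨⟨?_⟩, ⟨?_⟩⟩
  · apply RelSpec.QCAlg.hom_ext
    change AffAlg.algHom g (f ≫ g) f rfl ≫ AffAlg.algHom (f ≫ g) (p ≫ f ≫ g) p rfl =
      AffAlg.algHom g (f' ≫ g) f' rfl ≫ AffAlg.algHom (f' ≫ g) (p ≫ f ≫ g) p' wp'
    rw [← Groth.Agent.RelSpecUP.algHom_comp, ← Groth.Agent.RelSpecUP.algHom_comp]
    simp only [hZ.w]
  have key : ∀ (B : RelSpec.QCAlg S) (α : RelSpec.QCAlg.directImage (f ≫ g) ⟶ B)
      (β : RelSpec.QCAlg.directImage (f' ≫ g) ⟶ B),
      AffAlg.algHom g (f ≫ g) f rfl ≫ α.hom = AffAlg.algHom g (f' ≫ g) f' rfl ≫ β.hom →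
      ∃ m : RelSpec.QCAlg.directImage (p ≫ f ≫ g) ⟶ B,
        (AffAlg.algHom (f ≫ g) (p ≫ f ≫ g) p rfl ≫ m.hom = α.hom ∧
          AffAlg.algHom (f' ≫ g) (p ≫ f ≫ g) p' wp' ≫ m.hom = β.hom) ∧
        ∀ m' : RelSpec.QCAlg.directImage (p ≫ f ≫ g) ⟶ B,
          AffAlg.algHom (f ≫ g) (p ≫ f ≫ g) p rfl ≫ m'.hom = α.hom →
          AffAlg.algHom (f' ≫ g) (p ≫ f ≫ g) p' wp' ≫ m'.hom = β.hom → m' = m := by
    intro B α β hαβ
    have hB : B.str ≫ inv B.gammaMap = B.π.c := by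
      rw [IsIso.comp_inv_eq]; exact B.π_c_gammaMap.symm
    obtain ⟨⟨a, ha'⟩, ha⟩ := (Groth.Agent.S3569.result (f ≫ g) B.π).2 ⟨α.hom ≫ inv B.gammaMap, by
      rw [← Category.assoc]; exact (congrArg (· ≫ inv B.gammaMap) α.comm).trans hB⟩
    obtain ⟨⟨b, hb'⟩, hb⟩ := (Groth.Agent.S3569.result (f' ≫ g) B.π).2 ⟨β.hom ≫ inv B.gammaMap, by
      rw [← Category.assoc]; exact (congrArg (· ≫ inv B.gammaMap) β.comm).trans hB⟩
    replace ha : AffAlg.algHom (f ≫ g) B.π a ha' = α.hom ≫ inv B.gammaMap := congrArg Subtype.val ha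
    replace hb : AffAlg.algHom (f' ≫ g) B.π b hb' = β.hom ≫ inv B.gammaMap := congrArg Subtype.val hb
    have hab : a ≫ f = b ≫ f' := by
      have h1 := (Groth.Agent.S3569.result g B.π).1
        (a₁ := ⟨a ≫ f, by rw [Category.assoc]; exact ha'⟩)
        (a₂ := ⟨b ≫ f', by rw [Category.assoc]; exact hb'⟩) ?_
      · exact congrArg Subtype.val h1
      · apply Subtype.ext
        change AffAlg.algHom g B.π (a ≫ f) (by rw [Category.assoc]; exact ha') =
          AffAlg.algHom g B.π (b ≫ f') (by rw [Category.assoc]; exact hb')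
        rw [Groth.Agent.RelSpecUP.algHom_comp g (f ≫ g) B.π f rfl a ha',
          Groth.Agent.RelSpecUP.algHom_comp g (f' ≫ g) B.π f' rfl b hb', ha, hb,
          ← Category.assoc, hαβ, Category.assoc]
    have hl : hZ.lift a b hab ≫ p ≫ f ≫ g = B.π := by rw [hZ.lift_fst_assoc]; exact ha'
    refine ⟨⟨AffAlg.algHom (p ≫ f ≫ g) B.π (hZ.lift a b hab) hl ≫ B.gammaMap, by
      change (p ≫ f ≫ g).c ≫ _ = _
      rw [← Category.assoc, AffAlg.algHom_comm, B.π_c_gammaMap]⟩, ⟨?_, ?_⟩, ?_⟩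
    · rw [← Category.assoc, ← Groth.Agent.RelSpecUP.algHom_comp]
      simp only [IsPullback.lift_fst]
      rw [ha, Category.assoc, IsIso.inv_hom_id, Category.comp_id]
    · rw [← Category.assoc, ← Groth.Agent.RelSpecUP.algHom_comp]
      simp only [IsPullback.lift_snd]
      rw [hb, Category.assoc, IsIso.inv_hom_id, Category.comp_id]
    · intro m hm₁ hm₂
      obtain ⟨⟨k, hk⟩, hk'⟩ := (Groth.Agent.S3569.result (p ≫ f ≫ g) B.π).2
        ⟨m.hom ≫ inv B.gammaMap, by
          rw [← Category.assoc]; exact (congrArg (· ≫ inv B.gammaMap) m.comm).trans hB⟩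
      replace hk' : AffAlg.algHom (p ≫ f ≫ g) B.π k hk = m.hom ≫ inv B.gammaMap :=
        congrArg Subtype.val hk'
      apply RelSpec.QCAlg.hom_ext
      change m.hom = AffAlg.algHom (p ≫ f ≫ g) B.π (hZ.lift a b hab) hl ≫ B.gammaMap
      rw [← IsIso.comp_inv_eq, ← hk']
      suffices hkk : k = hZ.lift a b hab by subst hkk; rfl
      apply hZ.hom_ext
      · rw [hZ.lift_fst]
        have h4 := (Groth.Agent.S3569.result (f ≫ g) B.π).1
          (a₁ := ⟨k ≫ p, by rw [Category.assoc]; exact hk⟩) (a₂ := ⟨a, ha'⟩) ?_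
        · exact congrArg Subtype.val h4
        · apply Subtype.ext
          change AffAlg.algHom (f ≫ g) B.π (k ≫ p) (by rw [Category.assoc]; exact hk) =
            AffAlg.algHom (f ≫ g) B.π a ha'
          rw [Groth.Agent.RelSpecUP.algHom_comp (f ≫ g) (p ≫ f ≫ g) B.π p rfl k hk, hk', ha,
            ← Category.assoc, hm₁]
      · rw [hZ.lift_snd]
        have h4 := (Groth.Agent.S3569.result (f' ≫ g) B.π).1
          (a₁ := ⟨k ≫ p', by rw [Category.assoc, wp']; exact hk⟩) (a₂ := ⟨b, hb'⟩) ?_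
        · exact congrArg Subtype.val h4
        · apply Subtype.ext
          change AffAlg.algHom (f' ≫ g) B.π (k ≫ p') (by rw [Category.assoc, wp']; exact hk) =
            AffAlg.algHom (f' ≫ g) B.π b hb'
          rw [Groth.Agent.RelSpecUP.algHom_comp (f' ≫ g) (p ≫ f ≫ g) B.π p' wp' k hk, hk', hb,
            ← Category.assoc, hm₂]
  refine PushoutCocone.IsColimit.mk _
    (fun s => (key s.pt s.inl s.inr (congrArg RelSpec.QCAlg.Hom.hom s.condition)).choose) ?_ ?_ ?_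
  · exact fun s => RelSpec.QCAlg.hom_ext
      (key s.pt s.inl s.inr (congrArg RelSpec.QCAlg.Hom.hom s.condition)).choose_spec.1.1
  · exact fun s => RelSpec.QCAlg.hom_ext
      (key s.pt s.inl s.inr (congrArg RelSpec.QCAlg.Hom.hom s.condition)).choose_spec.1.2
  · exact fun s m h1 h2 => (key s.pt s.inl s.inr (congrArg RelSpec.QCAlg.Hom.hom s.condition)).choose_spec.2
      m (congrArg RelSpec.QCAlg.Hom.hom h1) (congrArg RelSpec.QCAlg.Hom.hom h2)


end Groth.Agent.S8256
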