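import Groth.Statements.S8260
import Groth.Agent.RelProjLib.Map

set_option linter.style.haveILetI false
set_option backward.isDefEq.respectTransparency false

set_option autoImplicit false
universe u
open CategoryTheory CategoryTheory.Limits AlgebraicGeometry Opposite TopologicalSpace
open scoped HomogeneousIdeal
open EGA2

namespace Groth.Agent.S8260

/-- If the quasi-coherent positively graded O_Y-algebra 𝒮 is of finite type (over every affine open U of
Y the ring 𝒮(U) is a finitely generated O_Y(U)-algebra), then its relative homogeneous spectrum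
Proj(𝒮) is of finite type over Y. -/
theorem result {Y P : Scheme.{u}} (𝒮 : RelProj.QCGrAlg Y)
    (hft : ∀ (U : Y.Opens) (hU : IsAffineOpen U), (𝒮.str.app (op U)).hom.FiniteType)
    (p : P ⟶ Y)
    (chart : ∀ (U : Y.Opens) (hU : IsAffineOpen U), (((p ⁻¹ᵁ U : P.Opens) : Scheme.{u}) ≅ Proj (𝒮.deg U hU)))
    (hP : RelProj.IsRelProj 𝒮 p chart) : LocallyOfFiniteType p ∧ QuasiCompact p := by
  have H : ∀ (U : Y.Opens) (hU : IsAffineOpen U),
      Algebra.FiniteType ↥(𝒮.deg U hU 0) (𝒮.presheaf.obj (op U)) ∧
        (𝒮.strZero U hU).hom.FiniteType := fun U hU => by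
    have hproj : (GradedRing.projZeroRingHom' (𝒮.deg U hU)).comp (𝒮.str.app (op U)).hom =
        (𝒮.strZero U hU).hom := RingHom.ext fun r => by
      refine Subtype.ext ?_
      rw [RingHom.comp_apply, GradedRing.coe_projZeroRingHom'_apply, GradedRing.projZeroRingHom_apply,
        DirectSum.decompose_of_mem_same _ (𝒮.str_mem U hU r)]
      rfl
    refine ⟨?_, ?_⟩
    · letI := (𝒮.strZero U hU).hom.toAlgebra
      letI := (𝒮.str.app (op U)).hom.toAlgebra
      haveI : IsScalarTower Γ(Y, U) ↥(𝒮.deg U hU 0) (𝒮.presheaf.obj (op U)) :=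
        IsScalarTower.of_algebraMap_eq fun r => rfl
      haveI : Algebra.FiniteType Γ(Y, U) (𝒮.presheaf.obj (op U)) := hft U hU
      exact Algebra.FiniteType.of_restrictScalars_finiteType Γ(Y, U) _ _
    · rw [← hproj]
      exact (RingHom.FiniteType.of_surjective _
        (GradedRing.projZeroRingHom'_surjective _)).comp (hft U hU)
  constructor
  · refine Groth.Agent.RelProjLib.prop_of_affBase hP @LocallyOfFiniteType fun U hU => ?_
    haveI := (H U hU).1
    haveI : LocallyOfFiniteType (Spec.map (𝒮.strZero U hU)) :=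
      HasRingHomProperty.Spec_iff.mpr (H U hU).2
    rw [Groth.Agent.RelProjLib.affBase_eq]
    infer_instance
  · refine Groth.Agent.RelProjLib.prop_of_affBase hP @QuasiCompact fun U hU => ?_
    haveI := (H U hU).1
    rw [Groth.Agent.RelProjLib.affBase_eq]
    infer_instance

end Groth.Agent.S8260
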