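import Groth.Statements.S8264
import Groth.Agent.RelProjLib.Chart

set_option linter.style.haveILetI false
set_option backward.isDefEq.respectTransparency false

set_option autoImplicit false
universe u
open CategoryTheory CategoryTheory.Limits AlgebraicGeometry Opposite TopologicalSpace
open scoped HomogeneousIdeal
open EGA2

namespace Groth.Agent.S8264

/-- Let Y be an integral scheme and 𝒮 a quasi-coherent positively graded O_Y-algebra with 𝒮_0 = O_Y
which is integral, stated here affine-locally: over every nonempty affine open U the ring 𝒮(U) is an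
integral domain whose irrelevant ideal is nonzero (for Y integral this is equivalent to the
stalkwise condition of the published text: every stalk 𝒮_y an integral domain with (𝒮_y)_+ ≠ 0).
Then Proj(𝒮) is integral and its structure morphism to Y is dominant. -/
theorem result {Y P : Scheme.{u}} [IsIntegral Y] (𝒮 : RelProj.QCGrAlg Y)
    (h0 : ∀ (U : Y.Opens) (hU : IsAffineOpen U), Function.Bijective (𝒮.strZero U hU).hom)
    (hint : ∀ (U : Y.Opens) (hU : IsAffineOpen U), (U : Set Y).Nonempty →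
      IsDomain (𝒮.presheaf.obj (op U)) ∧ ((𝒮.deg U hU)₊).toIdeal ≠ ⊥)
    (p : P ⟶ Y)
    (chart : ∀ (U : Y.Opens) (hU : IsAffineOpen U), (((p ⁻¹ᵁ U : P.Opens) : Scheme.{u}) ≅ Proj (𝒮.deg U hU)))
    (hP : RelProj.IsRelProj 𝒮 p chart) : IsIntegral P ∧ DenseRange p.base := by
  classical
  have hred : ∀ (U : Y.Opens) (hU : IsAffineOpen U), ∀ x ∈ (𝒮.deg U hU)₊, IsNilpotent x → x = 0 := by
    intro U hU x _ hx
    by_cases hne : (U : Set Y).Nonempty
    · haveI := (hint U hU hne).1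
      exact hx.eq_zero
    · obtain rfl : U = ⊥ := TopologicalSpace.Opens.ext (Set.not_nonempty_iff_eq_empty.mp hne)
      have h10 : (1 : Γ(Y, ⊥)) = 0 := Subsingleton.elim _ _
      have := congrArg (𝒮.str.app (op ⊥)).hom h10
      rw [map_one, map_zero] at this
      rw [← mul_one x, this, mul_zero]
  have hgen : ∀ (U : Y.Opens) (hU : IsAffineOpen U), (U : Set Y).Nonempty →
      ∃ η : Proj (𝒮.deg U hU), ∀ y : Proj (𝒮.deg U hU), η ⤳ y := by
    intro U hU hne
    obtain ⟨hdom, hne'⟩ := hint U hU hne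
    let η : ProjectiveSpectrum (𝒮.deg U hU) :=
      ⟨⊥, by simpa using Ideal.isPrime_bot, fun h => hne' (by simpa using h)⟩
    refine ⟨η, fun y => specializes_iff_mem_closure.mpr ?_⟩
    exact (ProjectiveSpectrum.le_iff_mem_closure (𝒜 := 𝒮.deg U hU) η y).mp
      ((ProjectiveSpectrum.as_ideal_le_as_ideal (𝒜 := 𝒮.deg U hU) η y).mp bot_le)
  have hnonempty : ∀ (U : Y.Opens) (hU : IsAffineOpen U), (U : Set Y).Nonempty →
      ((p ⁻¹ᵁ U : P.Opens) : Set P).Nonempty := fun U hU hne => by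
    obtain ⟨η, -⟩ := hgen U hU hne
    refine ⟨RelProj.emb p chart U hU η, ?_⟩
    have : RelProj.emb p chart U hU η ∈ (RelProj.emb p chart U hU).opensRange := ⟨η, rfl⟩
    rwa [Groth.Agent.RelProjLib.opensRange_emb] at this
  have hsub : ∀ W : Y.Opens, (W : Set Y).Nonempty →
      ∃ (U : Y.Opens) (_ : IsAffineOpen U), U ≤ W ∧ (U : Set Y).Nonempty := by
    rintro W ⟨y, hy⟩
    obtain ⟨_, ⟨U, hU, rfl⟩, hyU, hUW⟩ :=
      Y.isBasis_affineOpens.exists_subset_of_mem_open hy W.2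
    exact ⟨U, hU, hUW, ⟨y, hyU⟩⟩
  have hdense : DenseRange p.base := by
    refine dense_iff_inter_open.mpr fun W hW hne => ?_
    obtain ⟨U, hU, hUW, hU'⟩ := hsub ⟨W, hW⟩ hne
    obtain ⟨x, hx⟩ := hnonempty U hU hU'
    exact ⟨p x, hUW hx, ⟨x, rfl⟩⟩
  haveI : IsReduced P := by
    haveI : ∀ i, IsReduced ((Groth.Agent.RelProjLib.embCover (𝒮 := 𝒮) (q := p) (ch := chart)).X i) := fun i =>
      Groth.Agent.RelProjLib.isReduced_proj _ (hred i.1 i.2)
    exact IsReduced.of_openCover P (Groth.Agent.RelProjLib.embCover (𝒮 := 𝒮) (q := p) (ch := chart))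
  have hpre : IsPreirreducible (Set.univ : Set P) := by
    rintro O₁ O₂ hO₁ hO₂ ⟨x₁, -, hx₁⟩ ⟨x₂, -, hx₂⟩
    have key : ∀ (U : Y.Opens) (hU : IsAffineOpen U) (O : Set P), IsOpen O →
        ∀ x ∈ O, p x ∈ U → ∀ O' : Set P, IsOpen O' → ∀ x' ∈ O', p x' ∈ U → (O ∩ O' ∩ p.base ⁻¹' U).Nonempty := by
      intro U hU O hO x hx hxU O' hO' x' hx' hx'U
      obtain ⟨η, hη⟩ := hgen U hU ⟨p x, hxU⟩
      have hr : ∀ z : P, p z ∈ U → ∃ w, RelProj.emb p chart U hU w = z := fun z hz => by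
        have : z ∈ (RelProj.emb p chart U hU).opensRange := by rw [Groth.Agent.RelProjLib.opensRange_emb]; exact hz
        exact this
      obtain ⟨w, rfl⟩ := hr x hxU
      obtain ⟨w', rfl⟩ := hr x' hx'U
      refine ⟨RelProj.emb p chart U hU η, ⟨?_, ?_⟩, ?_⟩
      · exact ((hη w).map (RelProj.emb p chart U hU).continuous).mem_open hO hx
      · exact ((hη w').map (RelProj.emb p chart U hU).continuous).mem_open hO' hx'
      · have : RelProj.emb p chart U hU η ∈ (RelProj.emb p chart U hU).opensRange := ⟨η, rfl⟩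
        rwa [Groth.Agent.RelProjLib.opensRange_emb] at this
    obtain ⟨_, ⟨U₁, hU₁, rfl⟩, hy₁, -⟩ :=
      Y.isBasis_affineOpens.exists_subset_of_mem_open (Set.mem_univ (p x₁)) isOpen_univ
    obtain ⟨_, ⟨U₂, hU₂, rfl⟩, hy₂, -⟩ :=
      Y.isBasis_affineOpens.exists_subset_of_mem_open (Set.mem_univ (p x₂)) isOpen_univ
    obtain ⟨z, hz⟩ := (PreirreducibleSpace.isPreirreducible_univ (X := Y)) U₁ U₂ U₁.2 U₂.2
      ⟨p x₁, Set.mem_univ _, hy₁⟩ ⟨p x₂, Set.mem_univ _, hy₂⟩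
    obtain ⟨U, hU, hUle, hne⟩ := hsub (U₁ ⊓ U₂) ⟨z, hz.2⟩
    obtain ⟨w, hw⟩ := hnonempty U hU hne
    obtain ⟨a, ⟨ha₁, ha₂⟩, -⟩ := key U₁ hU₁ O₁ hO₁ x₁ hx₁ hy₁ (p.base ⁻¹' (U : Set Y))
      (U.2.preimage p.base.hom.2) w hw (hUle hw).1
    obtain ⟨b, ⟨hb₁, hb₂⟩, -⟩ := key U₂ hU₂ (O₁ ∩ p.base ⁻¹' (U : Set Y))
      (hO₁.inter (U.2.preimage p.base.hom.2)) a ⟨ha₁, ha₂⟩ (hUle ha₂).2 O₂ hO₂ x₂ hx₂ hy₂
    exact ⟨b, Set.mem_univ _, hb₁.1, hb₂⟩
  haveI : IrreducibleSpace P :=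
    { isPreirreducible_univ := hpre
      toNonempty := by
        obtain ⟨U, hU, -, hne⟩ := hsub ⊤ ⟨Classical.arbitrary Y, trivial⟩
        obtain ⟨x, -⟩ := hnonempty U hU hne
        exact ⟨x⟩ }
  exact ⟨isIntegral_of_irreducibleSpace_of_isReduced P, hdense⟩

end Groth.Agent.S8264
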