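import Groth.Statements.S8265
import Groth.Agent.RelProjLib.Basic
import Mathlib

set_option backward.isDefEq.respectTransparency false
set_option linter.style.haveILetI false

set_option autoImplicit false
universe u
open CategoryTheory CategoryTheory.Limits AlgebraicGeometry Opposite TopologicalSpace
open scoped HomogeneousIdeal
open EGA2

namespace Groth.Agent.S8265

open HomogeneousLocalization in
theorem toSpecZero_mem_iff {A σ : Type u} [CommRing A] [SetLike σ A] [AddSubgroupClass σ A] (𝒜 : ℕ → σ) [GradedRing 𝒜]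
    (y : Proj 𝒜) {b : A} {n : ℕ} (hn : 0 < n) (hb : b ∈ 𝒜 n) (hy : y ∈ Proj.basicOpen 𝒜 b) (a : 𝒜 0) :
    a ∈ (Proj.toSpecZero 𝒜 y).asIdeal ↔ (a : A) ∈ y.asHomogeneousIdeal := by
  have hy' : y ∈ (Proj.awayι 𝒜 b hb hn).opensRange := by rwa [Proj.opensRange_awayι]
  obtain ⟨q, rfl⟩ := hy'
  have hab : (a : A) * b ∈ 𝒜 n := by simpa using SetLike.mul_mem_graded a.2 hb
  have h1 : (a : A) ∈ (Proj.awayι 𝒜 b hb hn q).asHomogeneousIdeal ↔
      Proj.awayι 𝒜 b hb hn q ∉ Proj.basicOpen 𝒜 ((a : A) * b) := by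
    rw [Proj.basicOpen_mul, TopologicalSpace.Opens.mem_inf, Proj.mem_basicOpen, and_iff_left hy, not_not]
  rw [h1, ← Scheme.Hom.comp_apply, Proj.awayι_toSpecZero,
    show (Proj.awayι 𝒜 b hb hn q ∈ Proj.basicOpen 𝒜 ((a : A) * b)) =
      (q ∈ Proj.awayι 𝒜 b hb hn ⁻¹ᵁ Proj.basicOpen 𝒜 ((a : A) * b)) from rfl,
    Proj.awayι_preimage_basicOpen 𝒜 hb hn hab hn]
  change (fromZeroRingHom 𝒜 _ a) ∈ q.asIdeal ↔ ¬ (Away.isLocalizationElem hb hab ∉ q.asIdeal)
  rw [not_not, show Away.isLocalizationElem hb hab = (fromZeroRingHom 𝒜 _ a) ^ n from ?_]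
  · exact ⟨fun h => Ideal.pow_mem_of_mem _ h n hn, fun h => q.2.mem_of_pow_mem n h⟩
  · apply val_injective
    simp only [val_pow, Away.val_mk, fromZeroRingHom, RingHom.coe_mk, MonoidHom.coe_mk, OneHom.coe_mk,
      HomogeneousLocalization.val_mk, Localization.mk_pow, Localization.mk_eq_mk_iff, Localization.r_iff_exists]
    exact ⟨1, by simp [mul_pow]; ring⟩

/-- Let Y be an integral scheme and 𝒮 a quasi-coherent positively graded O_Y-algebra with 𝒮_0 = O_Y
which is essentially reduced (affine-locally, every nilpotent element of the irrelevant ideal of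
𝒮(U) vanishes). If Proj(𝒮) is integral and dominant over Y, then 𝒮 is integral: over every nonempty
affine open U, 𝒮(U) is an integral domain with nonzero irrelevant ideal (for Y integral, the
affine-local form of the stalkwise condition of the text). -/
theorem result {Y P : Scheme.{u}} [IsIntegral Y] (𝒮 : RelProj.QCGrAlg Y)
    (h0 : ∀ (U : Y.Opens) (hU : IsAffineOpen U), Function.Bijective (𝒮.strZero U hU).hom)
    (hred : ∀ (U : Y.Opens) (hU : IsAffineOpen U) (x : 𝒮.presheaf.obj (op U)),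
      x ∈ (𝒮.deg U hU)₊ → IsNilpotent x → x = 0)
    (p : P ⟶ Y)
    (chart : ∀ (U : Y.Opens) (hU : IsAffineOpen U), (((p ⁻¹ᵁ U : P.Opens) : Scheme.{u}) ≅ Proj (𝒮.deg U hU)))
    (hP : RelProj.IsRelProj 𝒮 p chart) [IsIntegral P] (hdom : DenseRange p.base)
    (U : Y.Opens) (hU : IsAffineOpen U) (hne : (U : Set Y).Nonempty) :
    IsDomain (𝒮.presheaf.obj (op U)) ∧ ((𝒮.deg U hU)₊).toIdeal ≠ ⊥ := by
  classical
  set R := 𝒮.presheaf.obj (op U)
  set 𝒜 := 𝒮.deg U hU
  let e := RelProj.emb p chart U hU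
  have hrange : e.opensRange = p ⁻¹ᵁ U := Groth.Agent.RelProjLib.opensRange_emb U hU
  obtain ⟨y₁, hy₁⟩ := hne
  obtain ⟨x₁, hx₁⟩ := hdom.exists_mem_open U.2 ⟨y₁, hy₁⟩
  haveI : Nonempty (Proj 𝒜) := by
    have : x₁ ∈ e.opensRange := by rw [hrange]; exact hx₁
    exact ⟨this.choose⟩
  haveI : IsIntegral (Proj 𝒜) := isIntegral_of_isOpenImmersion e
  haveI : Nonempty U := ⟨⟨y₁, hy₁⟩⟩
  let η : Proj 𝒜 := genericPoint (Proj 𝒜)
  -- positive degree elements of the generic point vanish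
  have hnil : ∀ (a : R), a ∈ (𝒮.deg U hU)₊ → a ∈ η.asHomogeneousIdeal → a = 0 := by
    intro a ha haη
    refine hred U hU a ha ?_
    rw [← mem_nilradical, nilradical_eq_sInf, Ideal.mem_sInf]
    intro P hP
    by_contra haP
    obtain ⟨i, hi⟩ : ∃ i, GradedRing.proj 𝒜 i a ∉ P := by
      by_contra hc
      push Not at hc
      refine haP ?_
      rw [← DirectSum.sum_support_decompose 𝒜 a]
      exact P.sum_mem fun i _ => hc i
    have hP' : (P.homogeneousCore 𝒜).toIdeal.IsPrime := hP.homogeneousCore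
    have hmem : (GradedRing.proj 𝒜 i a) ∈ (𝒮.deg U hU)₊ := ((𝒮.deg U hU)₊).2 i ha
    have hrel : ¬ (𝒮.deg U hU)₊ ≤ P.homogeneousCore 𝒜 := fun h =>
      hi (Ideal.toIdeal_homogeneousCore_le 𝒜 P (h hmem))
    let y : Proj 𝒜 := ⟨P.homogeneousCore 𝒜, hP', hrel⟩
    have hsp : η ⤳ y := genericPoint_specializes y
    rw [specializes_iff_mem_closure] at hsp
    have hle := (ProjectiveSpectrum.as_ideal_le_as_ideal (𝒜 := 𝒜) η y).mpr
      ((ProjectiveSpectrum.le_iff_mem_closure (𝒜 := 𝒜) η y).mpr hsp)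
    exact hi (Ideal.toIdeal_homogeneousCore_le 𝒜 P (hle (η.asHomogeneousIdeal.2 i haη)))
  have hirr : ∃ (n : ℕ) (b : R), 0 < n ∧ b ∈ 𝒜 n ∧ b ∉ η.asHomogeneousIdeal := by
    by_contra hc
    push Not at hc
    refine η.not_irrelevant_le fun a ha => ?_
    rw [← DirectSum.sum_support_decompose 𝒜 a]
    refine Submodule.sum_mem _ fun i _ => ?_
    rcases Nat.eq_zero_or_pos i with rfl | hi
    · rw [HomogeneousIdeal.mem_irrelevant_iff, GradedRing.proj_apply] at ha
      rw [ha]; exact zero_mem _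
    · exact hc i _ hi (DirectSum.decompose 𝒜 a i).2
  obtain ⟨n, b, hn, hb, hbη⟩ := hirr
  -- degree zero elements of the generic point vanish
  have hzero : ∀ a : 𝒜 0, (a : R) ∈ η.asHomogeneousIdeal → a = 0 := by
    intro a ha
    obtain ⟨r, rfl⟩ := (h0 U hU).2 a
    have hm := (toSpecZero_mem_iff 𝒜 η hn hb hbη _).2 ha
    have hover : p (e η) = hU.fromSpec (Groth.Agent.RelProjLib.affBase 𝒮 U hU η) := by
      rw [← Scheme.Hom.comp_apply, Groth.Agent.RelProjLib.emb_p hP U hU]; rfl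
    have hη : p (e η) = genericPoint Y := by
      rw [show e η = genericPoint P from genericPoint_eq_of_isOpenImmersion e]
      refine ((genericPoint_spec Y).eq ?_).symm
      have h1 := (genericPoint_spec P).image p.continuous
      rw [show closure (⇑p '' (Set.univ : Set P)) = Set.univ by rw [Set.image_univ]; exact hdom.closure_range] at h1
      exact h1
    have hpt : Groth.Agent.RelProjLib.affBase 𝒮 U hU η = hU.primeIdealOf ⟨genericPoint Y, (genericPoint_specializes y₁).mem_open U.2 hy₁⟩ := by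
      apply hU.fromSpec.isOpenEmbedding.injective
      rw [← hover, hη, hU.fromSpec_primeIdealOf]
    have h2 : r ∈ (Groth.Agent.RelProjLib.affBase 𝒮 U hU η).asIdeal := hm
    rw [hpt, hU.primeIdealOf_genericPoint, genericPoint_eq_bot_of_affine] at h2
    rw [show r = 0 from h2, map_zero]
  have hinj0 : ∀ (i : ℕ) (a : R), a ∈ 𝒜 i → a ∈ η.asHomogeneousIdeal → a = 0 := by
    intro i a ha haη
    rcases Nat.eq_zero_or_pos i with rfl | hi
    · exact congrArg Subtype.val (hzero ⟨a, ha⟩ haη)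
    · exact hnil a (HomogeneousIdeal.mem_irrelevant_of_mem _ hi ha) haη
  have hη0 : ∀ a : R, a ∈ η.asHomogeneousIdeal → a = 0 := by
    intro a ha
    rw [← DirectSum.sum_support_decompose 𝒜 a]
    exact Finset.sum_eq_zero fun i _ =>
      hinj0 i _ (DirectSum.decompose 𝒜 a i).2 (η.asHomogeneousIdeal.2 i ha)
  have hbot : η.asHomogeneousIdeal.toIdeal = ⊥ := eq_bot_iff.2 fun a ha => hη0 a ha
  refine ⟨?_, fun h => hbη ?_⟩
  · haveI : (⊥ : Ideal R).IsPrime := hbot ▸ η.isPrime
    exact IsDomain.of_bot_isPrime R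
  · have : b ∈ ((𝒮.deg U hU)₊).toIdeal := HomogeneousIdeal.mem_irrelevant_of_mem _ hn hb
    rw [h, Submodule.mem_bot] at this
    rw [this]; exact zero_mem _

end Groth.Agent.S8265
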