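import Groth.Statements.S8267
import Groth.Agent.SymAlgGen.Basic
import Groth.Agent.QC.Coherent


set_option linter.style.haveILetI false
set_option backward.isDefEq.respectTransparency false

set_option autoImplicit false
universe u
open CategoryTheory CategoryTheory.Limits AlgebraicGeometry Opposite TopologicalSpace
open EGA2

namespace Groth.Agent.S8267

/-- Let E be a quasi-coherent O_S-module of finite type and A (through j : E → A) its symmetric algebra.
Then the vector bundle V(E) = Spec(A) is of finite type over S, i.e. its (affine) structure morphism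
is locally of finite type. -/
theorem result {S : Scheme.{u}} (E : S.Modules) (hE : Coh.IsCoh E)
    (A : RelSpec.QCAlg S) (j : E ⟶ A.toModule) (hA : RelSpec.IsSymAlg E A j) :
    LocallyOfFiniteType A.π := by
  haveI : E.IsQuasicoherent := hE.1
  rw [IsZariskiLocalAtSource.iff_of_openCover (P := @LocallyOfFiniteType) A.glueData.cover]
  intro U
  change LocallyOfFiniteType (A.ι U.1 U.2 ≫ A.π)
  rw [A.ι_π]
  haveI : LocallyOfFiniteType (Spec.map (A.str.app (Opposite.op U.1))) := by
    rw [HasRingHomProperty.Spec_iff (P := @LocallyOfFiniteType)]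
    obtain ⟨T, hT⟩ := ((Groth.Agent.QC.isCoh_iff_finite_sections (M := E)).1 hE).2 ⟨U.1, U.2⟩
    letI := (A.str.app (Opposite.op U.1)).hom.toAlgebra
    classical
    refine ⟨⟨T.image (Groth.Agent.SymAlgGen.jsec j U.1), ?_⟩⟩
    rw [eq_top_iff]
    let R' := Algebra.adjoin Γ(S, U.1) ((T.image (Groth.Agent.SymAlgGen.jsec j U.1) : Finset _) :
      Set (A.presheaf.obj (Opposite.op U.1)))
    change ⊤ ≤ R'
    have hle : Groth.Agent.SymAlgGen.gen j U.1 ≤ R'.toSubring := by
      refine Subring.closure_le.2 ?_
      rintro _ (⟨r, rfl⟩ | ⟨e, rfl⟩)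
      · exact R'.algebraMap_mem r
      · have he : e ∈ Submodule.span Γ(S, U.1) (T : Set Γ(E, U.1)) := by rw [hT]; trivial
        induction he using Submodule.span_induction with
        | mem y hy => exact Algebra.subset_adjoin (by
            simp only [Finset.coe_image, Set.mem_image, Finset.mem_coe]; exact ⟨y, hy, rfl⟩)
        | zero =>
            change (j.app U.1) 0 ∈ R'
            rw [map_zero]; exact R'.zero_mem
        | add y z _ _ hy hz =>
            change (j.app U.1) (y + z) ∈ R'
            rw [map_add]; exact R'.add_mem hy hz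
        | smul r y _ hy =>
            rw [Groth.Agent.SymAlgGen.jsec_smul]
            exact R'.mul_mem (R'.algebraMap_mem r) hy
    intro a _
    exact hle (by rw [Groth.Agent.SymAlgGen.gen_eq_top hA U.2]; trivial)
  infer_instance


end Groth.Agent.S8267
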