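import Groth.Statements.S8271
import Groth.Agent.RelSpecUP.Basic
import Groth.Agent.S8268


set_option linter.style.haveILetI false
set_option backward.isDefEq.respectTransparency false

set_option autoImplicit false
universe u
open CategoryTheory CategoryTheory.Limits AlgebraicGeometry Opposite TopologicalSpace
open EGA2

namespace Groth.Agent.S8271

/-- For quasi-coherent O_S-modules E and F, the vector bundle V(E ⊕ F) is identified with V(E) ×_S V(F):
with A_E, A_F, A the symmetric algebras of E, F, E ⊕ F and ψ_E : A_E → A, ψ_F : A_F → A the algebra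
maps extending the inclusions of the two summands, the square formed by Spec(A) → Spec(A_E), Spec(A)
→ Spec(A_F) and the two structure morphisms to S is a pullback square. -/
theorem result {S : Scheme.{u}} (E F : S.Modules) (hE : Coh.IsQCoh E) (hF : Coh.IsQCoh F)
    (AE AF A : RelSpec.QCAlg S) (jE : E ⟶ AE.toModule) (jF : F ⟶ AF.toModule) (j : E ⊞ F ⟶ A.toModule)
    (hAE : RelSpec.IsSymAlg E AE jE) (hAF : RelSpec.IsSymAlg F AF jF) (hA : RelSpec.IsSymAlg (E ⊞ F) A j)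
    (ψE : AE ⟶ A) (ψF : AF ⟶ A)
    (hψE : jE ≫ RelSpec.QCAlg.Hom.toModuleMap ψE = biprod.inl ≫ j)
    (hψF : jF ≫ RelSpec.QCAlg.Hom.toModuleMap ψF = biprod.inr ≫ j) :
    IsPullback (RelSpec.QCAlg.specMap ψE) (RelSpec.QCAlg.specMap ψF) AE.π AF.π := by
  haveI : IsAffineHom (pullback.fst AE.π AF.π) := MorphismProperty.pullback_fst _ _ inferInstance
  let πP : pullback AE.π AF.π ⟶ S := pullback.fst AE.π AF.π ≫ AE.π
  let C := RelSpec.QCAlg.directImage πP
  let qE : AffAlg.over AE.π πP := ⟨pullback.fst AE.π AF.π, rfl⟩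
  let qF : AffAlg.over AF.π πP := ⟨pullback.snd AE.π AF.π, pullback.condition.symm⟩
  let αE : AE ⟶ C := ⟨(Groth.Agent.RelSpecUP.toAlg AE πP qE).1, (Groth.Agent.RelSpecUP.toAlg AE πP qE).2⟩
  let αF : AF ⟶ C := ⟨(Groth.Agent.RelSpecUP.toAlg AF πP qF).1, (Groth.Agent.RelSpecUP.toAlg AF πP qF).2⟩
  let φ : E ⊞ F ⟶ C.toModule := biprod.desc (jE ≫ RelSpec.QCAlg.Hom.toModuleMap αE)
    (jF ≫ RelSpec.QCAlg.Hom.toModuleMap αF)
  obtain ⟨θ, hθ, -⟩ := hA C φ
  have hE' : ψE ≫ θ = αE := by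
    refine (hAE C (jE ≫ RelSpec.QCAlg.Hom.toModuleMap αE)).unique ?_ rfl
    rw [Groth.Agent.S8268.toModuleMap_comp, ← Category.assoc, hψE, Category.assoc, hθ, biprod.inl_desc]
  have hF' : ψF ≫ θ = αF := by
    refine (hAF C (jF ≫ RelSpec.QCAlg.Hom.toModuleMap αF)).unique ?_ rfl
    rw [Groth.Agent.S8268.toModuleMap_comp, ← Category.assoc, hψF, Category.assoc, hθ, biprod.inr_desc]
  have w : RelSpec.QCAlg.specMap ψE ≫ AE.π = RelSpec.QCAlg.specMap ψF ≫ AF.π := by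
    rw [RelSpec.QCAlg.specMap_π, RelSpec.QCAlg.specMap_π]
  let c : A.spec ⟶ pullback AE.π AF.π :=
    pullback.lift (RelSpec.QCAlg.specMap ψE) (RelSpec.QCAlg.specMap ψF) w
  have hcE : c ≫ pullback.fst AE.π AF.π = RelSpec.QCAlg.specMap ψE := pullback.lift_fst _ _ _
  have hcF : c ≫ pullback.snd AE.π AF.π = RelSpec.QCAlg.specMap ψF := pullback.lift_snd _ _ _
  have hcπ : c ≫ πP = A.π := by
    change c ≫ pullback.fst AE.π AF.π ≫ AE.π = _
    rw [← Category.assoc, hcE, RelSpec.QCAlg.specMap_π]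
  obtain ⟨⟨r, hr⟩, hr'⟩ := (Groth.Agent.RelSpecUP.toAlg_bijective A πP).2 ⟨θ.hom, θ.comm⟩
  have hr'' : (Groth.Agent.RelSpecUP.toAlg A πP ⟨r, hr⟩).1 = θ.hom := congrArg Subtype.val hr'
  have hrE : r ≫ RelSpec.QCAlg.specMap ψE = pullback.fst AE.π AF.π := by
    have h1 := (Groth.Agent.RelSpecUP.toAlg_bijective AE πP).1
      (a₁ := ⟨r ≫ RelSpec.QCAlg.specMap ψE, by rw [Category.assoc, RelSpec.QCAlg.specMap_π, hr]⟩)
      (a₂ := qE) ?_
    · exact congrArg Subtype.val h1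
    · apply Subtype.ext
      rw [Groth.Agent.RelSpecUP.toAlg_specMap ψE πP ⟨r, hr⟩, hr'']
      exact congrArg RelSpec.QCAlg.Hom.hom hE'
  have hrF : r ≫ RelSpec.QCAlg.specMap ψF = pullback.snd AE.π AF.π := by
    have h1 := (Groth.Agent.RelSpecUP.toAlg_bijective AF πP).1
      (a₁ := ⟨r ≫ RelSpec.QCAlg.specMap ψF, by rw [Category.assoc, RelSpec.QCAlg.specMap_π, hr]⟩)
      (a₂ := qF) ?_
    · exact congrArg Subtype.val h1
    · apply Subtype.ext
      rw [Groth.Agent.RelSpecUP.toAlg_specMap ψF πP ⟨r, hr⟩, hr'']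
      exact congrArg RelSpec.QCAlg.Hom.hom hF'
  have hrc : r ≫ c = 𝟙 _ := by
    apply pullback.hom_ext
    · rw [Category.assoc, hcE, hrE, Category.id_comp]
    · rw [Category.assoc, hcF, hrF, Category.id_comp]
  let χ : C ⟶ A := ⟨AffAlg.algHom πP A.π c hcπ ≫ A.gammaMap, by
    change πP.c ≫ _ = _
    rw [← Category.assoc, AffAlg.algHom_comm, A.π_c_gammaMap]⟩
  have hαE : αE ≫ χ = ψE := by
    apply RelSpec.QCAlg.hom_ext
    change (inv AE.gammaMap ≫ AffAlg.algHom AE.π πP (pullback.fst AE.π AF.π) rfl) ≫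
      AffAlg.algHom πP A.π c hcπ ≫ A.gammaMap = ψE.hom
    rw [Category.assoc, ← Category.assoc (AffAlg.algHom _ _ _ _),
      ← Groth.Agent.RelSpecUP.algHom_comp]
    simp only [hcE]
    rw [Groth.Agent.RelSpecUP.gammaMap_naturality, IsIso.inv_hom_id_assoc]
  have hαF : αF ≫ χ = ψF := by
    apply RelSpec.QCAlg.hom_ext
    change (inv AF.gammaMap ≫ AffAlg.algHom AF.π πP (pullback.snd AE.π AF.π) qF.2) ≫
      AffAlg.algHom πP A.π c hcπ ≫ A.gammaMap = ψF.hom
    rw [Category.assoc, ← Category.assoc (AffAlg.algHom _ _ _ _),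
      ← Groth.Agent.RelSpecUP.algHom_comp]
    simp only [hcF]
    rw [Groth.Agent.RelSpecUP.gammaMap_naturality, IsIso.inv_hom_id_assoc]
  have hθχ : θ ≫ χ = 𝟙 A := by
    refine (hA A j).unique ?_ (by rw [Groth.Agent.S8268.toModuleMap_id, Category.comp_id])
    rw [Groth.Agent.S8268.toModuleMap_comp, ← Category.assoc, hθ]
    apply biprod.hom_ext'
    · rw [biprod.inl_desc_assoc, Category.assoc, ← Groth.Agent.S8268.toModuleMap_comp, hαE, hψE]
    · rw [biprod.inr_desc_assoc, Category.assoc, ← Groth.Agent.S8268.toModuleMap_comp, hαF, hψF]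
  have hcr : c ≫ r = 𝟙 _ := by
    have h1 := (Groth.Agent.RelSpecUP.toAlg_bijective A A.π).1
      (a₁ := ⟨c ≫ r, by rw [Category.assoc, hr, hcπ]⟩) (a₂ := ⟨𝟙 _, Category.id_comp _⟩) ?_
    · exact congrArg Subtype.val h1
    · apply Subtype.ext
      rw [Groth.Agent.RelSpecUP.toAlg_id]
      change inv A.gammaMap ≫ AffAlg.algHom A.π A.π (c ≫ r) (by rw [Category.assoc, hr, hcπ]) = _
      rw [Groth.Agent.RelSpecUP.algHom_comp A.π πP A.π r hr c hcπ, ← Category.assoc]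
      change (Groth.Agent.RelSpecUP.toAlg A πP ⟨r, hr⟩).1 ≫ _ = _
      rw [hr'', ← cancel_mono A.gammaMap, Category.assoc, IsIso.inv_hom_id]
      exact congrArg RelSpec.QCAlg.Hom.hom hθχ
  exact IsPullback.of_iso_pullback ⟨w⟩ ⟨c, r, hcr, hrc⟩ hcE hcF


end Groth.Agent.S8271
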