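import Groth.Statements.S8272
import Mathlib

set_option autoImplicit false
universe u
open CategoryTheory CategoryTheory.Limits AlgebraicGeometry Opposite TopologicalSpace
open EGA2

namespace Groth.Agent.S8272

/-- Let T be a positively graded ring, Z = Proj T and g ∈ T_d (d > 0) a homogeneous element that is not
a zero divisor in T. Then Z is the smallest closed subscheme of Z containing the open D_+(g);
equivalently the kernel (ideal sheaf) of the open immersion D_+(g) → Z vanishes. -/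
theorem result {R A : Type u} [CommRing R] [CommRing A] [Algebra R A]
    (𝒜 : ℕ → Submodule R A) [GradedAlgebra 𝒜] {d : ℕ} (hd : 0 < d) (g : A) (hg : g ∈ 𝒜 d)
    (hnz : g ∈ nonZeroDivisors A) :
    (Proj.basicOpen 𝒜 g).ι.ker = ⊥ := by
  classical
  refine Scheme.IdealSheafData.ext_of_iSup_eq_top
    (U := fun i : Σ i : PNat, 𝒜 i => ⟨Proj.basicOpen 𝒜 i.2.1, Proj.isAffineOpen_basicOpen 𝒜 i.2.1 i.2.2 i.1.2⟩) ?_ ?_
  · refine Proj.iSup_basicOpen_eq_top 𝒜 (fun i : Σ i : PNat, 𝒜 i => i.2.1) ?_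
    intro z hz
    rw [← DirectSum.sum_support_decompose 𝒜 z]
    refine Ideal.sum_mem _ fun c hc => ?_
    rcases Nat.eq_zero_or_pos c with rfl | hc0
    · rw [show (DirectSum.decompose 𝒜 z 0 : A) = 0 from hz]; exact zero_mem _
    · exact Ideal.subset_span ⟨⟨⟨c, hc0⟩, DirectSum.decompose 𝒜 z c⟩, rfl⟩
  · rintro ⟨⟨m, hm⟩, ⟨f, hfm⟩⟩
    rw [Scheme.IdealSheafData.ideal_bot]
    refine eq_bot_iff.2 fun r hr => ?_
    have hr0 := (Scheme.Hom.ideal_ker_le _ _) hr
    rw [RingHom.mem_ker] at hr0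
    let U := Proj.basicOpen 𝒜 f
    have hx : f * g ∈ 𝒜 (m + d) := SetLike.mul_mem_graded hfm hg
    have hle : Proj.basicOpen 𝒜 (f * g) ≤ (Proj.basicOpen 𝒜 g).ι ''ᵁ (Proj.basicOpen 𝒜 g).ι ⁻¹ᵁ U := by
      rw [Scheme.Hom.image_preimage_eq_opensRange_inf, Scheme.Opens.opensRange_ι, Proj.basicOpen_mul, inf_comm]
    have hres : (Proj 𝒜).presheaf.map (CategoryTheory.homOfLE (Proj.basicOpen_mono 𝒜 f (f * g) ⟨g, rfl⟩)).op r = 0 := by
      have h2 := (congrArg (fun z => ((Proj 𝒜).presheaf.map (CategoryTheory.homOfLE hle).op).hom z) hr0).trans (map_zero _)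
      rw [Scheme.Opens.ι_app] at h2
      refine Eq.trans ?_ h2
      erw [← CategoryTheory.ConcreteCategory.comp_apply, ← CategoryTheory.Functor.map_comp]
      rfl
    obtain ⟨a, rfl⟩ := (CategoryTheory.ConcreteCategory.bijective_of_isIso (Proj.basicOpenIsoAway 𝒜 f hfm hm).hom).2 r
    have hmap : HomogeneousLocalization.awayMap 𝒜 hg (rfl : f * g = f * g) a = 0 := by
      apply (CategoryTheory.ConcreteCategory.bijective_of_isIso (Proj.basicOpenIsoAway 𝒜 (f * g) hx (Nat.add_pos_left hm d)).hom).1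
      rw [map_zero]
      exact (CategoryTheory.ConcreteCategory.congr_hom (Proj.awayMap_awayToSection 𝒜 hg (rfl : f * g = f * g)) a).trans hres
    suffices a = 0 by subst this; exact (Submodule.mem_bot _).2 (map_zero _)
    apply HomogeneousLocalization.val_injective
    rw [HomogeneousLocalization.val_zero]
    have h3 := congrArg HomogeneousLocalization.val hmap
    rw [HomogeneousLocalization.val_awayMap, HomogeneousLocalization.val_zero] at h3
    obtain ⟨b, ⟨_, k, rfl⟩, hb⟩ := IsLocalization.exists_mk'_eq (Submonoid.powers f) a.val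
    rw [← hb] at h3 ⊢
    have h4 : algebraMap A (Localization.Away (f * g)) b = 0 := by
      rw [Localization.awayLift, IsLocalization.Away.lift, IsLocalization.lift_mk'_spec] at h3
      simpa using h3
    obtain ⟨⟨_, l, rfl⟩, hl⟩ := (IsLocalization.map_eq_zero_iff (Submonoid.powers (f * g)) _ _).1 h4
    rw [IsLocalization.mk'_eq_zero_iff]
    refine ⟨⟨_, l, rfl⟩, ?_⟩
    change (f * g) ^ l * b = 0 at hl
    rw [mul_pow, mul_comm (f ^ l), mul_assoc] at hl
    exact (pow_mem hnz l).1 _ hl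

end Groth.Agent.S8272
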