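import Groth.Statements.S8273
import Groth.Agent.RelProjLib.Map

set_option linter.style.haveILetI false
set_option backward.isDefEq.respectTransparency false

set_option autoImplicit false
universe u
open CategoryTheory CategoryTheory.Limits AlgebraicGeometry Opposite TopologicalSpace
open scoped HomogeneousIdeal
open EGA2

namespace Groth.Agent.S8273

/-- Uniqueness of the relative homogeneous spectrum: two schemes over Y equipped with the chart data of
Proj(𝒮) are related by a unique morphism compatible with the charts (chartwise the identity of Proj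
𝒮(U)), and that morphism is a Y-isomorphism. -/
theorem result {Y P P' : Scheme.{u}} (𝒮 : RelProj.QCGrAlg Y) (p : P ⟶ Y)
    (chart : ∀ (U : Y.Opens) (hU : IsAffineOpen U), (((p ⁻¹ᵁ U : P.Opens) : Scheme.{u}) ≅ Proj (𝒮.deg U hU)))
    (hP : RelProj.IsRelProj 𝒮 p chart) (p' : P' ⟶ Y)
    (chart' : ∀ (U : Y.Opens) (hU : IsAffineOpen U), (((p' ⁻¹ᵁ U : P'.Opens) : Scheme.{u}) ≅ Proj (𝒮.deg U hU)))
    (hP' : RelProj.IsRelProj 𝒮 p' chart') :
    (∃! e : P ⟶ P', ∀ (U : Y.Opens) (hU : IsAffineOpen U),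
        (p ⁻¹ᵁ U).ι ≫ e = (chart U hU).hom ≫ (chart' U hU).inv ≫ (p' ⁻¹ᵁ U).ι) ∧
      ∀ e : P ⟶ P', (∀ (U : Y.Opens) (hU : IsAffineOpen U),
        (p ⁻¹ᵁ U).ι ≫ e = (chart U hU).hom ≫ (chart' U hU).inv ≫ (p' ⁻¹ᵁ U).ι) → IsIso e ∧ e ≫ p' = p := by
  obtain ⟨e, he, heu⟩ := Groth.Agent.RelProjLib.existsUnique_desc hP (fun U hU => RelProj.emb p' chart' U hU)
    (fun U hU r => RelProj.map_res_emb hP' U hU r)
  obtain ⟨e', he', -⟩ := Groth.Agent.RelProjLib.existsUnique_desc hP' (fun U hU => RelProj.emb p chart U hU)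
    (fun U hU r => RelProj.map_res_emb hP U hU r)
  have key : ∀ f : P ⟶ P', (∀ (U : Y.Opens) (hU : IsAffineOpen U),
      (p ⁻¹ᵁ U).ι ≫ f = (chart U hU).hom ≫ (chart' U hU).inv ≫ (p' ⁻¹ᵁ U).ι) ↔
      ∀ (U : Y.Opens) (hU : IsAffineOpen U),
        RelProj.emb p chart U hU ≫ f = RelProj.emb p' chart' U hU := fun f => by
    refine forall₂_congr fun U hU => ?_
    rw [← cancel_epi (chart U hU).inv, Iso.inv_hom_id_assoc, ← Category.assoc]
    rfl
  simp only [key]
  refine ⟨⟨e, he, heu⟩, fun f hf => ?_⟩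
  obtain rfl : f = e := heu f hf
  refine ⟨⟨e', Groth.Agent.RelProjLib.hom_ext (𝒮 := 𝒮) (q := p) (ch := chart) fun U hU => ?_,
    Groth.Agent.RelProjLib.hom_ext (𝒮 := 𝒮) (q := p') (ch := chart') fun U hU => ?_⟩,
    Groth.Agent.RelProjLib.hom_ext (𝒮 := 𝒮) (q := p) (ch := chart) fun U hU => ?_⟩
  · rw [← Category.assoc, hf U hU, he' U hU, Category.comp_id]
  · rw [← Category.assoc, he' U hU, hf U hU, Category.comp_id]
  · rw [← Category.assoc, hf U hU, Groth.Agent.RelProjLib.emb_p hP', Groth.Agent.RelProjLib.emb_p hP]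

end Groth.Agent.S8273
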