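import Groth.Statements.S8281
import Groth.Agent.RelSpecUP.Basic


set_option linter.style.haveILetI false
set_option backward.isDefEq.respectTransparency false

set_option autoImplicit false
universe u
open CategoryTheory CategoryTheory.Limits AlgebraicGeometry Opposite TopologicalSpace
open EGA2

namespace Groth.Agent.S8281

/-- Let q : S' → S be a morphism, B and B' quasi-coherent algebras over O_S and O_{S'}, and u : B →
q_*B' a q-morphism (compatible with the structure maps). Then u induces a unique morphism v =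
Spec(u) : Spec(B') → Spec(B) which on the charts over affine opens U ⊆ S, U' ⊆ q⁻¹(U) is Spec of the
ring map B(U) → B'(U') given by u and restriction; it lies over q. -/
theorem result {S S' : Scheme.{u}} (q : S' ⟶ S) (B : RelSpec.QCAlg S)
    (B' : RelSpec.QCAlg S') (u : B.presheaf ⟶ q.base _* B'.presheaf)
    (hu : B.str ≫ u = q.c ≫ (TopCat.Presheaf.pushforward CommRingCat.{u} q.base).map B'.str) :
    (∃! v : B'.spec ⟶ B.spec,
        ∀ (U : S.Opens) (hU : IsAffineOpen U) (U' : S'.Opens) (hU' : IsAffineOpen U') (hle : U' ≤ q ⁻¹ᵁ U),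
          B'.ι U' hU' ≫ v =
            Spec.map ((u.app (op U) : B.presheaf.obj (op U) ⟶ B'.presheaf.obj (op (q ⁻¹ᵁ U))) ≫
              B'.presheaf.map (homOfLE hle).op) ≫ B.ι U hU) ∧
      ∀ v : B'.spec ⟶ B.spec,
        (∀ (U : S.Opens) (hU : IsAffineOpen U) (U' : S'.Opens) (hU' : IsAffineOpen U') (hle : U' ≤ q ⁻¹ᵁ U),
          B'.ι U' hU' ≫ v =
            Spec.map ((u.app (op U) : B.presheaf.obj (op U) ⟶ B'.presheaf.obj (op (q ⁻¹ᵁ U))) ≫
              B'.presheaf.map (homOfLE hle).op) ≫ B.ι U hU) →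
        v ≫ B.π = B'.π ≫ q := by
  have hcov : ∀ x : B'.spec, ∃ (U : S.Opens) (hU : IsAffineOpen U) (U' : S'.Opens) (hU' : IsAffineOpen U'),
      U' ≤ q ⁻¹ᵁ U ∧ x ∈ (B'.ι U' hU').opensRange := by
    intro x
    obtain ⟨U, hU, hxU, -⟩ := exists_isAffineOpen_mem_and_subset (U := (⊤ : S.Opens))
      (x := q (B'.π x)) trivial
    obtain ⟨U', hU', hxU', hle⟩ := exists_isAffineOpen_mem_and_subset (U := q ⁻¹ᵁ U)
      (x := B'.π x) hxU
    exact ⟨U, hU, U', hU', hle, by rw [← B'.π_preimage U' hU']; exact hxU'⟩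
  let Q := TopCat.Presheaf.pushforward CommRingCat.{u} q.base
  let g : B'.spec ⟶ S := B'.π ≫ q
  let ω : B.presheaf ⟶ AffAlg.alg g := u ≫ Q.map (inv B'.gammaMap)
  have hω : B.str ≫ ω = g.c := by
    have h1 : B'.str ≫ inv B'.gammaMap = B'.π.c := by
      rw [IsIso.comp_inv_eq]; exact B'.π_c_gammaMap.symm
    change B.str ≫ u ≫ Q.map (inv B'.gammaMap) = _
    rw [reassoc_of% hu, ← Functor.map_comp, h1]
    rfl
  obtain ⟨h, hh⟩ := (Groth.Agent.RelSpecUP.toAlg_bijective B g).2 ⟨ω, hω⟩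
  have key : ∀ (U : S.Opens) (hU : IsAffineOpen U) (U' : S'.Opens) (hU' : IsAffineOpen U')
      (hle : U' ≤ q ⁻¹ᵁ U), B'.ι U' hU' ≫ h.1 =
        Spec.map ((u.app (Opposite.op U) : B.presheaf.obj (Opposite.op U) ⟶
          B'.presheaf.obj (Opposite.op (q ⁻¹ᵁ U))) ≫
          B'.presheaf.map (homOfLE hle).op) ≫ B.ι U hU := by
    intro U hU U' hU' hle
    have hle' : B'.π ⁻¹ᵁ U' ≤ g ⁻¹ᵁ U := B'.π.preimage_mono hle
    rw [Groth.Agent.RelSpecUP.comp_eq_chart B g h U hU (B'.ι U' hU')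
      ((B'.top_le_preimage U' hU').trans ((B'.ι U' hU').preimage_mono hle'))]
    congr 2
    rw [congrArg Subtype.val hh]
    have hnat : B'.spec.presheaf.map (homOfLE hle').op ≫ B'.gammaMap.app (Opposite.op U') =
        B'.gammaMap.app (Opposite.op (q ⁻¹ᵁ U)) ≫ B'.presheaf.map (homOfLE hle).op :=
      B'.gammaMap.naturality (homOfLE hle).op
    rw [B'.gammaMap_app U' hU', RelSpec.QCAlg.gammaAff, Scheme.Hom.map_appLE_assoc] at hnat
    change ((u.app (Opposite.op U) : B.presheaf.obj (Opposite.op U) ⟶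
      B'.presheaf.obj (Opposite.op (q ⁻¹ᵁ U))) ≫ (inv B'.gammaMap).app (Opposite.op (q ⁻¹ᵁ U))) ≫ _ = _
    rw [Category.assoc]
    congr 1
    rw [NatIso.isIso_inv_app, IsIso.inv_comp_eq]
    exact hnat
  have huniq : ∀ v : B'.spec ⟶ B.spec,
      (∀ (U : S.Opens) (hU : IsAffineOpen U) (U' : S'.Opens) (hU' : IsAffineOpen U') (hle : U' ≤ q ⁻¹ᵁ U),
        B'.ι U' hU' ≫ v =
          Spec.map ((u.app (Opposite.op U) : B.presheaf.obj (Opposite.op U) ⟶
            B'.presheaf.obj (Opposite.op (q ⁻¹ᵁ U))) ≫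
            B'.presheaf.map (homOfLE hle).op) ≫ B.ι U hU) → v = h.1 := by
    intro v hv
    refine Groth.Agent.RelSpecUP.hom_ext_cover B' fun x => ?_
    obtain ⟨U, hU, U', hU', hle, hx⟩ := hcov x
    exact ⟨U', hU', hx, (hv U hU U' hU' hle).trans (key U hU U' hU' hle).symm⟩
  exact ⟨⟨h.1, key, huniq⟩, fun v hv => by rw [huniq v hv]; exact h.2⟩


end Groth.Agent.S8281
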