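import Groth.Prelude.Def_RelProj2
import Mathlib.AlgebraicGeometry.IdealSheaf.Basic
import Mathlib.Algebra.Polynomial.Eval.Defs
import Mathlib.RingTheory.Localization.Away.Basic
import Groth.Agent.ConeLib.Imm

set_option backward.isDefEq.respectTransparency false
set_option backward.isDefEq.respectTransparency.types false
-- import your own Groth.Agent.* helpers here

set_option autoImplicit false
universe u
open CategoryTheory CategoryTheory.Limits AlgebraicGeometry Opposite TopologicalSpace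
open scoped HomogeneousIdeal
noncomputable section
open EGA2

namespace Groth.Agent.S8289

/-- The canonical morphism i from the affine cone to the projective cone: let 𝒮 be a quasi-coherent
positively graded O_Y-algebra with 𝒮_0 = O_Y, Ŝ = 𝒮[z] (z of degree one; presented through a graded
homomorphism ι : 𝒮 → Ŝ and a degree-one global section z with 𝒮(U)[X] → Ŝ(U), X ↦ z, bijective on
affine opens), C = Spec(𝒮) and Ĉ = Proj(Ŝ). There is a unique morphism i : C → Ĉ which, on the chart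
Spec 𝒮(U) of C over an affine open U, is Spec of the ring isomorphism Ŝ(U)_(z) ≅ 𝒮(U) (sending x/z^k
to x for x homogeneous of degree k) followed by the inclusion of D_+(z|U) into Proj Ŝ(U) and the
chart of Ĉ; this i is an open immersion, affine, lies over Y, Ĉ is the smallest closed subscheme of
Ĉ containing its image (its kernel ideal sheaf is zero), and its image is the open Ĉ_z where the
section z does not vanish (characterised chartwise by D_+(z|U)). -/
theorem result {Y PC : Scheme.{u}} (𝒮 Sh : RelProj.QCGrAlg Y)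
    (h0 : ∀ (U : Y.Opens) (hU : IsAffineOpen U), Function.Bijective (𝒮.strZero U hU).hom)
    (ι : 𝒮.toQCAlg ⟶ Sh.toQCAlg) (hι : RelProj.IsGradedHom ι) (z : Sh.presheaf.obj (op ⊤))
    (hz : ∀ (U : Y.Opens) (hU : IsAffineOpen U), (Sh.presheaf.map (homOfLE le_top).op).hom z ∈ Sh.deg U hU 1)
    (hpoly : ∀ (U : Y.Opens) (hU : IsAffineOpen U),
      Function.Bijective (Polynomial.eval₂RingHom (ι.hom.app (op U)).hom ((Sh.presheaf.map (homOfLE le_top).op).hom z)))
    (pC : PC ⟶ Y)
    (chartC : ∀ (U : Y.Opens) (hU : IsAffineOpen U), (((pC ⁻¹ᵁ U : PC.Opens) : Scheme.{u}) ≅ Proj (Sh.deg U hU)))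
    (hPC : RelProj.IsRelProj Sh pC chartC)
    (θ : ∀ (U : Y.Opens) (hU : IsAffineOpen U),
      CommRingCat.of (HomogeneousLocalization.Away (Sh.deg U hU) ((Sh.presheaf.map (homOfLE le_top).op).hom z)) ⟶
        𝒮.presheaf.obj (op U))
    (hθ : ∀ (U : Y.Opens) (hU : IsAffineOpen U)
      (q : HomogeneousLocalization.Away (Sh.deg U hU) ((Sh.presheaf.map (homOfLE le_top).op).hom z))
      (k : ℕ) (x : 𝒮.presheaf.obj (op U)), x ∈ 𝒮.deg U hU k →
        q.val = Localization.mk ((ι.hom.app (op U)).hom x)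
          ⟨(Sh.presheaf.map (homOfLE le_top).op).hom z ^ k,
            pow_mem (Submonoid.mem_powers ((Sh.presheaf.map (homOfLE le_top).op).hom z)) k⟩ →
        (θ U hU).hom q = x) :
    (∃! i : 𝒮.toQCAlg.spec ⟶ PC, ∀ (U : Y.Opens) (hU : IsAffineOpen U),
        𝒮.toQCAlg.ι U hU ≫ i =
          Spec.map (θ U hU) ≫
            Proj.awayι (Sh.deg U hU) ((Sh.presheaf.map (homOfLE le_top).op).hom z) (hz U hU) one_pos ≫
              RelProj.emb pC chartC U hU) ∧
      ∀ i : 𝒮.toQCAlg.spec ⟶ PC, (∀ (U : Y.Opens) (hU : IsAffineOpen U),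
        𝒮.toQCAlg.ι U hU ≫ i =
          Spec.map (θ U hU) ≫
            Proj.awayι (Sh.deg U hU) ((Sh.presheaf.map (homOfLE le_top).op).hom z) (hz U hU) one_pos ≫
              RelProj.emb pC chartC U hU) →
        IsOpenImmersion i ∧ IsAffineHom i ∧ i ≫ pC = 𝒮.toQCAlg.π ∧ i.ker = ⊥ ∧
          ∀ Xz : PC.Opens, (∀ (U : Y.Opens) (hU : IsAffineOpen U),
            Xz ⊓ pC ⁻¹ᵁ U =
              (pC ⁻¹ᵁ U).ι ''ᵁ ((chartC U hU).hom ⁻¹ᵁ
                Proj.basicOpen (Sh.deg U hU) ((Sh.presheaf.map (homOfLE le_top).op).hom z))) →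
            Set.range i.base = (Xz : Set PC) := by
  have hp : RelCone.IsPolyOver 𝒮 Sh ι z := ⟨hι, hz, hpoly⟩
  have hθ' : ∀ U hU, θ U hU = CommRingCat.ofHom (hp.awayZToBase U hU) := fun U hU => by
    refine CommRingCat.hom_ext ?_
    refine ((ConeLib.isPoly hp U hU).eq_awayTo _ (hθ U hU)).trans ?_
    exact ConeLib.awayTo_eq hp U hU
  simp only [hθ']
  refine ⟨ConeLib.existsUnique_coneImm hp hPC, fun i hi => ⟨ConeLib.isOpenImmersion_coneImm hp hPC hi,
    ConeLib.isAffineHom_coneImm hp hPC hi, ConeLib.coneImm_over hp hPC hi, ConeLib.ker_coneImm hp hPC hi,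
    fun Xz hXz => ?_⟩⟩
  have hemb : ∀ (U : Y.Opens) (hU : IsAffineOpen U) (D : (Proj (Sh.deg U hU)).Opens),
      ((RelProj.emb pC chartC U hU).base '' (D : Set _)) =
        (((pC ⁻¹ᵁ U).ι ''ᵁ ((chartC U hU).hom ⁻¹ᵁ D) : PC.Opens) : Set PC) := fun U hU D => by
    ext x
    constructor
    · rintro ⟨y, hy, rfl⟩
      refine ⟨(chartC U hU).inv y, ?_, rfl⟩
      show (chartC U hU).hom ((chartC U hU).inv y) ∈ D
      rw [← Scheme.Hom.comp_apply, (chartC U hU).inv_hom_id]
      exact hy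
    · rintro ⟨w, hw, rfl⟩
      refine ⟨(chartC U hU).hom w, hw, ?_⟩
      show (RelProj.emb pC chartC U hU) ((chartC U hU).hom w) = (pC ⁻¹ᵁ U).ι w
      rw [← Scheme.Hom.comp_apply, RelProj.emb, Iso.hom_inv_id_assoc]
  ext x
  obtain ⟨U, hU, hxU, -⟩ := exists_isAffineOpen_mem_and_subset (x := pC x) (U := (⊤ : Y.Opens)) trivial
  have e := ConeLib.range_coneImm_inter hp hPC hi U hU
  rw [hemb] at e
  have e' : ((Xz ⊓ pC ⁻¹ᵁ U : PC.Opens) : Set PC) = Set.range i.base ∩ (pC ⁻¹ᵁ U : Set PC) := by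
    rw [e, hXz U hU]
  exact ⟨fun h => (e'.ge ⟨h, hxU⟩).1, fun h => (e'.le ⟨h, hxU⟩).1⟩

end Groth.Agent.S8289
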