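import Groth.Statements.S8290
import Groth.Agent.RelTilde.Local

set_option linter.style.haveILetI false
set_option backward.isDefEq.respectTransparency false

set_option autoImplicit false
universe u
open CategoryTheory CategoryTheory.Limits AlgebraicGeometry Opposite TopologicalSpace
open scoped HomogeneousIdeal
noncomputable section
open EGA2

namespace Groth.Agent.S8290

/-- Let 𝒮 be a quasi-coherent positively graded O_Y-algebra, X = Proj(𝒮), and U a quasi-compact open
subset of X. There is an integer d > 0 such that for every n divisible by d the twisting sheaf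
O_X(n) restricted to U is invertible. (The published statement adds that its inverse is O_X(-n)|U.) -/
theorem result {Y X : Scheme.{u}} (𝒮 : RelProj.QCGrAlg Y) (q : X ⟶ Y)
    (chart : ∀ (U : Y.Opens) (hU : IsAffineOpen U), (((q ⁻¹ᵁ U : X.Opens) : Scheme.{u}) ≅ Proj (𝒮.deg U hU)))
    (hX : RelProj.IsRelProj 𝒮 q chart) (U : X.Opens) (hU : IsCompact (U : Set X)) :
    ∃ d : ℕ, 0 < d ∧ ∀ (n : ℤ), (d : ℤ) ∣ n →
      ∀ (L : X.Modules)
        (lam : ∀ (V : Y.Opens) (hV : IsAffineOpen V),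
          L ⟶ (Scheme.Modules.pushforward (RelProj.emb q chart V hV)).obj (GrTwist.twist (𝒮.deg V hV) n)),
        RelProj.IsRelTwist 𝒮 q chart n L lam → PicF.IsInvertible (L.restrict U.ι) := by
  classical
  have hpt : ∀ x : X, ∃ (V : Y.Opens) (hV : IsAffineOpen V) (d : ℕ) (f : 𝒮.presheaf.obj (op V)),
      0 < d ∧ f ∈ 𝒮.deg V hV d ∧
        x ∈ RelProj.emb q chart V hV ''ᵁ Proj.basicOpen (𝒮.deg V hV) f := fun x => by
    obtain ⟨V, hV, y, hy⟩ := RelTilde.exists_affine_point (𝒮 := 𝒮) (q := q) (ch := chart) x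
    obtain ⟨d, f, hd, hf, hfy⟩ := RelTilde.exists_pos_homog (𝒮.deg V hV) y
    exact ⟨V, hV, d, f, hd, hf, y, (ProjectiveSpectrum.mem_basicOpen _ _ _).mpr hfy, hy⟩
  choose V hV d f hd hf hx using hpt
  obtain ⟨T, hT⟩ := hU.elim_finite_subcover
    (fun x => (RelProj.emb q chart (V x) (hV x) ''ᵁ Proj.basicOpen (𝒮.deg (V x) (hV x)) (f x) : Set X))
    (fun x => (RelProj.emb q chart (V x) (hV x) ''ᵁ Proj.basicOpen (𝒮.deg (V x) (hV x)) (f x)).2)
    (fun x _ => Set.mem_iUnion.mpr ⟨x, hx x⟩)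
  refine ⟨∏ x ∈ T, d x, Finset.prod_pos fun x _ => hd x, fun n hn L lam hL => ?_⟩
  refine InvGen.isInvertible_restrict U.ι fun y => ?_
  obtain ⟨x, hxT, hyx⟩ := Set.mem_iUnion₂.mp (hT y.2)
  obtain ⟨e, he⟩ := RelTilde.exists_gen_basicOpen ((RelTilde.isRelTwist_iff 𝒮 n L lam).mp hL) (hV x) (hf x)
    ((Int.natCast_dvd_natCast.mpr (Finset.dvd_prod_of_mem d hxT)).trans hn)
  exact ⟨_, e, hyx, he⟩

end Groth.Agent.S8290
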