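import Groth.Prelude.Def_RelSpec2
import Mathlib.AlgebraicGeometry.Morphisms.ClosedImmersion
import Groth.Agent.RelSpecUP.Basic

set_option backward.isDefEq.respectTransparency false
set_option backward.isDefEq.respectTransparency.types false
-- import your own Groth.Agent.* helpers here

set_option autoImplicit false
universe u
open CategoryTheory CategoryTheory.Limits AlgebraicGeometry Opposite TopologicalSpace
open scoped HomogeneousIdeal
noncomputable section
open EGA2

namespace Groth.Agent.S8295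

/-- The vertex section of the affine cone: let 𝒮 be a quasi-coherent positively graded O_Y-algebra with
𝒮_0 = O_Y, aug : 𝒮 → O_Y its augmentation (the algebra homomorphism over O_Y that vanishes on
sections of positive degree) and C = Spec(𝒮) the affine cone. There is exactly one morphism ε : Y →
C which is a section of the structure morphism and which over every affine open U of Y is, on Spec
O_Y(U), the morphism Spec of aug(U) followed by the chart Spec 𝒮(U) → C; moreover every such ε is a
closed immersion. -/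
theorem result {Y : Scheme.{u}} (𝒮 : RelProj.QCGrAlg Y)
    (h0 : RelCone.StrZeroBij 𝒮) (aug : 𝒮.toQCAlg ⟶ RelSpec.QCAlg.unit Y) (haug : RelCone.IsAugmentation 𝒮 aug) :
    (∃! ε : Y ⟶ 𝒮.toQCAlg.spec, RelCone.IsVertex 𝒮 aug ε) ∧
      ∀ ε : Y ⟶ 𝒮.toQCAlg.spec, RelCone.IsVertex 𝒮 aug ε → IsClosedImmersion ε := by
  let u := RelSpec.QCAlg.unit Y
  have hι : ∀ (U : Y.Opens) (hU : IsAffineOpen U), u.ι U hU ≫ u.π = hU.fromSpec := fun U hU => by
    rw [u.ι_π]
    change Spec.map (𝟙 _) ≫ _ = _
    rw [Spec.map_id, Category.id_comp]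
  haveI : IsIso u.π := RelSpecUP.isIso_of_charts u.π fun y => by
    obtain ⟨U, hU, hyU, -⟩ := exists_isAffineOpen_mem_and_subset (x := y) (U := (⊤ : Y.Opens)) trivial
    refine ⟨_, u.ι U hU, inferInstance, by rw [hι]; infer_instance, ?_⟩
    rw [Scheme.Hom.opensRange, Scheme.Hom.opensRange]
    simp only [hι]
    refine ⟨hU.range_fromSpec.ge hyU, fun x hx => ?_⟩
    have : x ∈ u.π ⁻¹ᵁ U := hU.range_fromSpec.le hx
    rwa [u.π_preimage U hU] at this
  have hchart : ∀ (U : Y.Opens) (hU : IsAffineOpen U), hU.fromSpec ≫ inv u.π = u.ι U hU := fun U hU => by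
    rw [IsIso.comp_inv_eq, hι]
  refine ⟨⟨inv u.π ≫ RelSpec.QCAlg.specMap aug, ⟨?_, fun U hU => ?_⟩, fun ε hε => ?_⟩, fun ε hε => ?_⟩
  · rw [Category.assoc, RelSpec.QCAlg.specMap_π, IsIso.inv_hom_id]
  · rw [reassoc_of% (hchart U hU), RelSpec.QCAlg.ι_specMap]
  · rw [← cancel_epi u.π, IsIso.hom_inv_id_assoc]
    refine RelSpecUP.hom_ext_charts u fun U hU => ?_
    rw [reassoc_of% (hι U hU), hε.chart U hU, RelSpec.QCAlg.ι_specMap]
  · haveI : IsClosedImmersion (ε ≫ 𝒮.toQCAlg.π) := by rw [hε.comp_π]; infer_instance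
    exact IsClosedImmersion.of_comp ε 𝒮.toQCAlg.π

end Groth.Agent.S8295
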