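import Groth.Statements.S8305
import Groth.Agent.DirImgLib.Basic
import Mathlib.AlgebraicGeometry.Morphisms.IsIso
import Groth.Agent.RelSpecUP.Basic
import Groth.Agent.QC.Localisation


set_option linter.style.haveILetI false
set_option backward.isDefEq.respectTransparency false

set_option autoImplicit false
universe u
open CategoryTheory CategoryTheory.Limits AlgebraicGeometry Opposite TopologicalSpace
noncomputable section
open EGA2

namespace Groth.Agent.S8305

/-- Let X and Y be schemes affine over S with structure morphisms gX and gY, h : Y → X a morphism over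
S, F a quasi-coherent O_X-module, G a quasi-coherent O_Y-module and v : F → h_*G a homomorphism of
O_X-modules, so that (h, v) is a morphism of pairs (Y, G) → (X, F). Then h and v are isomorphisms if
and only if the direct-image algebra homomorphism A(h) : gX_*O_X → gY_*O_Y and the direct image A(v)
= gX_*(v) : gX_*F → gX_*h_*G are isomorphisms (the pair (A(h), A(v)) is a di-isomorphism). -/
theorem result {X Y S : Scheme.{u}} (gX : X ⟶ S) [IsAffineHom gX]
    (gY : Y ⟶ S) [IsAffineHom gY] (h : Y ⟶ X) (hh : h ≫ gX = gY)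
    (F : X.Modules) (G : Y.Modules) (hF : Coh.IsQCoh F) (hG : Coh.IsQCoh G)
    (v : F ⟶ (Scheme.Modules.pushforward h).obj G) :
    (IsIso h ∧ IsIso v) ↔
      (IsIso (AffAlg.algHom gX gY h hh) ∧ IsIso ((Scheme.Modules.pushforward gX).map v)) := by
  subst hh
  constructor
  · rintro ⟨hI, hv⟩
    refine ⟨?_, inferInstance⟩
    haveI : ∀ U, IsIso ((AffAlg.algHom gX (h ≫ gX) h rfl).app U) := by
      intro U
      rw [← Opposite.op_unop U, Groth.Agent.RelSpecUP.algHom_app]
      change IsIso (h.appLE (gX ⁻¹ᵁ U.unop) (h ⁻¹ᵁ (gX ⁻¹ᵁ U.unop)) le_rfl)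
      rw [← Scheme.Hom.app_eq_appLE]
      infer_instance
    exact NatIso.isIso_of_isIso_app _
  · rintro ⟨hA, hv⟩
    haveI : IsAffineHom h := IsAffineHom.of_comp h gX
    haveI hh : IsIso h := by
      change (MorphismProperty.isomorphisms Scheme.{u}) h
      rw [HasAffineProperty.iff_of_iSup_eq_top (P := MorphismProperty.isomorphisms Scheme.{u})
        (fun U : S.affineOpens => (⟨gX ⁻¹ᵁ U.1, U.2.preimage gX⟩ : X.affineOpens))
        (by rw [← gX.preimage_iSup, iSup_affineOpens_eq_top, gX.preimage_top])]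
      intro U
      refine ⟨(U.2.preimage gX).preimage h, ?_⟩
      rw [morphismRestrict_appTop]
      haveI : IsIso (h.app (gX ⁻¹ᵁ U.1)) := by
        have e := Groth.Agent.RelSpecUP.algHom_app gX (h ≫ gX) h rfl U.1
        rw [Scheme.Hom.app_eq_appLE]
        change IsIso (h.appLE (gX ⁻¹ᵁ U.1) ((h ≫ gX) ⁻¹ᵁ U.1) _)
        rw [← e]
        infer_instance
      haveI : IsIso (h.app ((gX ⁻¹ᵁ U.1).ι ''ᵁ ⊤)) := by
        rw [Scheme.Opens.ι_image_top]
        infer_instance
      infer_instance
    refine ⟨hh, ?_⟩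
    let G' := (Scheme.Modules.pushforward h).obj G
    have hG' : Coh.IsQCoh G' := Groth.Agent.QC.isQCoh_pushforward h (hM := hG)
    have hb : ∀ U : S.Opens, Function.Bijective (v.app (gX ⁻¹ᵁ U)) := fun U =>
      ConcreteCategory.bijective_of_isIso (((Scheme.Modules.pushforward gX).map v).app U)
    let e : ∀ U : S.Opens, Γ(F, gX ⁻¹ᵁ U) ≃+ Γ(G', gX ⁻¹ᵁ U) := fun U =>
      AddEquiv.ofBijective (v.app (gX ⁻¹ᵁ U)).hom (hb U)
    let w : Groth.Agent.DirImgLib.Lin gX G' F :=
      { app := fun U => (e U).symm.toAddMonoidHom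
        smul := fun U r n => (hb U).1 (by
          change e U ((e U).symm (r • n)) = v.app (gX ⁻¹ᵁ U) (r • (e U).symm n)
          rw [AddEquiv.apply_symm_apply, Scheme.Modules.Hom.app_smul]
          exact congrArg (r • ·) ((e U).apply_symm_apply n).symm)
        nat := fun {V U} hVU n => (hb V).1 (by
          change v.app (gX ⁻¹ᵁ V) (Groth.Agent.QC.res F _ ((e U).symm n)) = e V ((e V).symm _)
          rw [AddEquiv.apply_symm_apply, ← Groth.Agent.QC.app_res]
          exact congrArg (Groth.Agent.QC.res G' _) ((e U).apply_symm_apply n)) }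
    refine ⟨Groth.Agent.DirImgLib.toHom w hG', ?_, ?_⟩
    · refine Groth.Agent.DirImgLib.hom_ext gX hF fun U _ n => ?_
      refine (Groth.Agent.DirImgLib.toHom_app w hG' U _).trans ?_
      exact (e U).symm_apply_apply n
    · refine Groth.Agent.DirImgLib.hom_ext gX hG' fun U _ n => ?_
      refine (congrArg (v.app (gX ⁻¹ᵁ U)) (Groth.Agent.DirImgLib.toHom_app w hG' U n)).trans ?_
      exact (e U).apply_symm_apply n


end Groth.Agent.S8305
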