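import Groth.Statements.S8310
import Groth.Agent.ProjLib.ClosedSub
-- import your own Groth.Agent.* helpers here

set_option autoImplicit false
universe u
open CategoryTheory AlgebraicGeometry
open scoped HomogeneousIdeal
open EGA2

namespace Groth.Agent.S8310

set_option backward.isDefEq.respectTransparency false in
open Groth.Agent in
/-- A surjective graded map with nilpotent kernel in positive degrees gives a bijection on `Proj`. -/
theorem bijective_map_of_nil {R A : Type u} [CommRing R] [CommRing A] [Algebra R A] (𝒜 : ℕ → Submodule R A) [GradedAlgebra 𝒜]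
    {B : Type u} [CommRing B] [Algebra R B] (ℬ : ℕ → Submodule R B) [GradedAlgebra ℬ]
    (φ : ℬ →+*ᵍ 𝒜) (hsurj : Function.Surjective φ)
    (hnil : ∀ (n : ℕ), 0 < n → ∀ b ∈ ℬ n, φ b = 0 → IsNilpotent b)
    (hφ : HomogeneousIdeal.irrelevant 𝒜 ≤ (HomogeneousIdeal.irrelevant ℬ).map φ) :
    Function.Bijective (Proj.map φ hφ).base := by
  haveI hci : IsClosedImmersion (Proj.map φ hφ) := ProjLib.isClosedImmersion_map ℬ φ hφ hsurj
  suffices hs : Surjective (Proj.map φ hφ) from
    ⟨hci.isClosedEmbedding.injective, hs.surj⟩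
  refine (IsZariskiLocalAtTarget.iff_of_openCover (P := @Surjective)
    (Proj.affineOpenCover ℬ).openCover).mpr fun s => ?_
  have hb : Surjective (Spec.map (CommRingCat.ofHom
      (HomogeneousLocalization.Away.map φ (s.2 : B)))) := by
    refine ⟨fun p => ?_⟩
    have hr : p ∈ Set.range (PrimeSpectrum.comap (HomogeneousLocalization.Away.map φ (s.2 : B))) := by
      rw [range_comap_of_surjective _ _
        (ProjLib.away_map_surjective ℬ φ hsurj s.2.2)]
      rw [PrimeSpectrum.mem_zeroLocus]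
      intro z hz
      obtain ⟨n, a, ha, rfl⟩ := HomogeneousLocalization.Away.mk_surjective ℬ s.2.2 z
      obtain ⟨k, hk⟩ := (ProjLib.away_map_mk_eq_zero_iff ℬ φ s.2.2 n a ha).mp hz
      obtain ⟨m, hm⟩ := hnil ((k + 1) • (s.1 : ℕ) + n • (s.1 : ℕ))
        (Nat.lt_of_lt_of_le (Nat.mul_pos (Nat.succ_pos k) s.1.2) (Nat.le_add_right _ _))
        ((s.2 : B) ^ (k + 1) * a) (SetLike.mul_mem_graded (SetLike.pow_mem_graded _ s.2.2) ha)
        (by rw [pow_succ', mul_assoc, map_mul, hk, mul_zero])
      refine p.2.mem_of_pow_mem m ?_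
      convert p.asIdeal.zero_mem using 1
      refine HomogeneousLocalization.val_injective _ ?_
      rw [HomogeneousLocalization.val_pow, HomogeneousLocalization.Away.val_mk,
        HomogeneousLocalization.val_zero, Localization.mk_pow, Localization.mk_eq_mk',
        IsLocalization.mk'_eq_zero_iff]
      refine ⟨⟨_, (k + 1) * m, rfl⟩, ?_⟩
      change (s.2 : B) ^ ((k + 1) * m) * a ^ m = 0
      rw [pow_mul, ← mul_pow, hm]
    exact hr
  have H := ProjLib.isPullback_awayι ℬ φ hφ s.2.2 s.1.2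
  show Surjective (CategoryTheory.Limits.pullback.snd _ _)
  erw [← H.flip.isoPullback_inv_snd]
  exact MorphismProperty.RespectsIso.precomp @Surjective _ _ hb

/-- Let S be a positively graded ring (an ℕ-graded R-algebra), S♮ the graded ring with S♮_n = S_[n] =
⊕_{m ≥ n} S_m (presented as a graded ring S' with an injective algebra homomorphism φ : S' → S[X]
carrying S'_n onto S_[n]·X^n), and T = S♮ ⊗_S S_0 = ⊕_n S_[n]/S_+S_[n] (presented as a graded ring
with a surjective graded homomorphism π : S' → T whose kernel is the ideal generated by the elements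
of S' corresponding to the constants in S_+); let ρ : T → S be the surjective graded homomorphism
sending the class of a ∈ S_[n] (in degree n) to the degree-n component of a, and Proj S → Proj T the
morphism it induces (a closed immersion, ρ being surjective). Then this morphism Proj S → Proj T is
bijective. -/
theorem result {R A B C : Type u} [CommRing R] [CommRing A] [Algebra R A]
    (𝒜 : ℕ → Submodule R A) [GradedAlgebra 𝒜] [CommRing B] [Algebra R B] (ℬ : ℕ → Submodule R B) [GradedAlgebra ℬ]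
    (φ : B →ₐ[R] Polynomial A) (hφ : Function.Injective φ)
    (hdeg : ∀ n : ℕ, Submodule.map φ.toLinearMap (ℬ n) =
      Submodule.map ((Polynomial.monomial n : A →ₗ[A] Polynomial A).restrictScalars R) (⨆ (m : ℕ) (_ : n ≤ m), 𝒜 m))
    [CommRing C] [Algebra R C] (𝒞 : ℕ → Submodule R C) [GradedAlgebra 𝒞]
    (π : ℬ →+*ᵍ 𝒞) (hπ : Function.Surjective π)
    (hker : RingHom.ker π.toRingHom =
      Ideal.span (⇑φ ⁻¹' (⇑(Polynomial.C : A →+* Polynomial A) '' ((HomogeneousIdeal.irrelevant 𝒜).toIdeal : Set A))))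
    (ρ : 𝒞 →+*ᵍ 𝒜) (hρ : ∀ (n : ℕ) (b : B), b ∈ ℬ n → ρ (π b) = GradedRing.proj 𝒜 n ((φ b).coeff n))
    (hirr : HomogeneousIdeal.irrelevant 𝒜 ≤ (HomogeneousIdeal.irrelevant 𝒞).map ρ) :
    Function.Bijective (Proj.map ρ hirr).base := by
  have hlift : ∀ (n m : ℕ) (s : A), n ≤ m → s ∈ 𝒜 m → ∃ b ∈ ℬ n, φ b = Polynomial.monomial n s := by
    intro n m s hm hs
    have : Polynomial.monomial n s ∈ Submodule.map φ.toLinearMap (ℬ n) := by
      rw [hdeg n]
      exact Submodule.mem_map_of_mem (Submodule.mem_iSup_of_mem m (Submodule.mem_iSup_of_mem hm hs))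
    exact this
  refine bijective_map_of_nil 𝒜 𝒞 ρ (fun a => ?_) (fun n hn c hc hc0 => ?_) hirr
  · classical
    rw [← DirectSum.sum_support_decompose 𝒜 a]
    have h : ∀ i, ∃ c, ρ c = (DirectSum.decompose 𝒜 a i : A) := fun i => by
      obtain ⟨b, hb, e⟩ := hlift i i _ le_rfl (DirectSum.decompose 𝒜 a i).2
      refine ⟨π b, ?_⟩
      rw [hρ i b hb, e, Polynomial.coeff_monomial, if_pos rfl, GradedRing.proj_apply,
        DirectSum.decompose_of_mem_same 𝒜 (DirectSum.decompose 𝒜 a i).2]
    choose c hc using h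
    exact ⟨∑ i ∈ (DirectSum.decompose 𝒜 a).support, c i, by
      rw [map_sum]; exact Finset.sum_congr rfl fun i _ => hc i⟩
  obtain ⟨b', hb'⟩ := hπ c
  let b : B := DirectSum.decompose ℬ b' n
  have hb : b ∈ ℬ n := SetLike.coe_mem _
  have hπb : π b = c := by
    simp only [b]
    rw [map_directSumDecompose, hb', DirectSum.decompose_of_mem_same 𝒞 hc]
  obtain ⟨s, hs, hφb⟩ : φ.toLinearMap b ∈ Submodule.map ((Polynomial.monomial n : A →ₗ[A] Polynomial A).restrictScalars R)
      (⨆ (m : ℕ) (_ : n ≤ m), 𝒜 m) := hdeg n ▸ Submodule.mem_map_of_mem hb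
  replace hφb : Polynomial.monomial n s = φ b := hφb
  have h0 : GradedRing.proj 𝒜 n s = 0 := by
    have := hρ n b hb
    rw [hπb, hc0, ← hφb, Polynomial.coeff_monomial, if_pos rfl] at this
    exact this.symm
  have hmain : ∀ t ∈ (⨆ (m : ℕ) (_ : n ≤ m), 𝒜 m), ∃ β : B, IsNilpotent (π β) ∧
      φ β = Polynomial.monomial n (t - GradedRing.proj 𝒜 n t) := by
    intro t ht
    induction ht using Submodule.iSup_induction' with
    | zero => exact ⟨0, by simp, by simp⟩
    | add x y _ _ hx hy =>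
      obtain ⟨β, hβ, eβ⟩ := hx
      obtain ⟨γ, hγ, eγ⟩ := hy
      refine ⟨β + γ, by rw [map_add]; exact (Commute.all _ _).isNilpotent_add hβ hγ, ?_⟩
      simp only [map_add, map_sub, eβ, eγ]
      abel
    | mem m x hx =>
      by_cases hm : n ≤ m
      swap
      · rw [iSup_neg hm, Submodule.mem_bot] at hx
        exact ⟨0, by simp, by simp [hx]⟩
      rw [iSup_pos hm] at hx
      rcases hm.lt_or_eq with hlt | rfl
      swap
      · exact ⟨0, by simp, by rw [GradedRing.proj_apply, DirectSum.decompose_of_mem_same 𝒜 hx]; simp⟩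
      rw [GradedRing.proj_apply, DirectSum.decompose_of_mem_ne 𝒜 hx hlt.ne', sub_zero]
      obtain ⟨β, hβ, eβ⟩ := hlift n m x hm hx
      obtain ⟨j, rfl⟩ : ∃ j, m = j + 1 := ⟨m - 1, by omega⟩
      obtain ⟨b₀, hb₀, e₀⟩ := hlift 0 (j + 1) x (Nat.zero_le _) hx
      obtain ⟨b₁, hb₁, e₁⟩ := hlift ((j + 1) * n) (j * (j + 1)) (x ^ j) (by nlinarith)
        (by simpa [smul_eq_mul] using SetLike.pow_mem_graded j hx)
      refine ⟨β, ⟨j + 1, ?_⟩, eβ⟩
      have he : β ^ (j + 1) = b₀ * b₁ := hφ (by
        rw [map_pow, map_mul, eβ, e₀, e₁, Polynomial.monomial_pow, Polynomial.monomial_mul_monomial,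
          zero_add, pow_succ', mul_comm n (j + 1)])
      have hk : b₀ ∈ RingHom.ker π.toRingHom := by
        rw [hker]
        refine Ideal.subset_span ⟨x, ?_, ?_⟩
        · exact HomogeneousIdeal.mem_irrelevant_of_mem 𝒜 (Nat.succ_pos _) hx
        · rw [e₀, Polynomial.monomial_zero_left]
      have : π b₀ = 0 := hk
      rw [← map_pow, he, map_mul, this, zero_mul]
  obtain ⟨β, hβ, eβ⟩ := hmain s hs
  rw [h0, sub_zero, hφb] at eβ
  rwa [← hπb, ← hφ eβ]


end Groth.Agent.S8310
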