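import Groth.Statements.S8311
import Groth.Agent.ProjLib.ClosedSub

set_option autoImplicit false
universe u
open CategoryTheory AlgebraicGeometry
open scoped HomogeneousIdeal
open EGA2

namespace Groth.Agent.S8311

set_option backward.isDefEq.respectTransparency false in
open Groth.Agent in
/-- Bijectivity in all large degrees suffices. -/
theorem isIso_map_of_bijOn_ge {R A : Type u} [CommRing R] [CommRing A] [Algebra R A] (𝒜 : ℕ → Submodule R A) [GradedAlgebra 𝒜]
    {B : Type u} [CommRing B] [Algebra R B] (ℬ : ℕ → Submodule R B) [GradedAlgebra ℬ]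
    (φ : ℬ →+*ᵍ 𝒜) (N : ℕ) (hbij : ∀ n : ℕ, N ≤ n → Set.BijOn φ (ℬ n) (𝒜 n))
    (hφ : HomogeneousIdeal.irrelevant 𝒜 ≤ (HomogeneousIdeal.irrelevant ℬ).map φ) :
    CategoryTheory.IsIso (Proj.map φ hφ) := by
  refine (IsZariskiLocalAtTarget.iff_of_openCover (P := CategoryTheory.MorphismProperty.isomorphisms _)
    (Proj.affineOpenCover ℬ).openCover).mpr fun s => ?_
  have hb : Function.Bijective (HomogeneousLocalization.Away.map φ (s.2 : B) :
      HomogeneousLocalization.Away ℬ (s.2 : B) → HomogeneousLocalization.Away 𝒜 (φ (s.2 : B))) := by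
    constructor
    · rw [injective_iff_map_eq_zero]
      intro z hz
      obtain ⟨n, a, ha, rfl⟩ := HomogeneousLocalization.Away.mk_surjective ℬ s.2.2 z
      obtain ⟨k, hk⟩ := (ProjLib.away_map_mk_eq_zero_iff ℬ φ s.2.2 n a ha).mp hz
      have hge : N ≤ ((N + k) • (s.1 : ℕ) + n • (s.1 : ℕ)) := by
        rw [smul_eq_mul, smul_eq_mul]
        exact ((Nat.le_add_right N k).trans (Nat.le_mul_of_pos_right (N + k) s.1.2)).trans (Nat.le_add_right _ _)
      have hmem : (s.2 : B) ^ (N + k) * a ∈ ℬ ((N + k) • (s.1 : ℕ) + n • (s.1 : ℕ)) :=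
        SetLike.mul_mem_graded (SetLike.pow_mem_graded _ s.2.2) ha
      have h0 : (s.2 : B) ^ (N + k) * a = 0 := (hbij _ hge).injOn hmem (zero_mem _) (by
        rw [map_zero, pow_add, mul_assoc, map_mul, hk, mul_zero])
      refine HomogeneousLocalization.val_injective _ ?_
      rw [HomogeneousLocalization.Away.val_mk, HomogeneousLocalization.val_zero,
        Localization.mk_eq_mk', IsLocalization.mk'_eq_zero_iff]
      exact ⟨⟨_, N + k, rfl⟩, h0⟩
    · intro z
      obtain ⟨n, b, hb, rfl⟩ := HomogeneousLocalization.Away.mk_surjective 𝒜 (Graded.map_mem φ s.2.2) z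
      have hge : N ≤ (n + N) • (s.1 : ℕ) := by
        rw [smul_eq_mul]
        exact (Nat.le_add_left N n).trans (Nat.le_mul_of_pos_right (n + N) s.1.2)
      have hmem : φ (s.2 : B) ^ N * b ∈ 𝒜 ((n + N) • (s.1 : ℕ)) := by
        rw [add_smul, add_comm]
        exact SetLike.mul_mem_graded (SetLike.pow_mem_graded _ (Graded.map_mem φ s.2.2)) hb
      obtain ⟨a, ha, hab⟩ := (hbij _ hge).surjOn hmem
      refine ⟨HomogeneousLocalization.Away.mk ℬ s.2.2 (n + N) a ha, ?_⟩
      rw [HomogeneousLocalization.Away.map_mk]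
      refine HomogeneousLocalization.val_injective _ ?_
      simp only [HomogeneousLocalization.Away.val_mk, Localization.mk_eq_mk', IsLocalization.mk'_eq_iff_eq]
      congr 1
      rw [hab]
      ring
  haveI : CategoryTheory.IsIso (CommRingCat.ofHom (HomogeneousLocalization.Away.map φ (s.2 : B))) :=
    (CategoryTheory.ConcreteCategory.isIso_iff_bijective _).mpr hb
  have H := ProjLib.isPullback_awayι ℬ φ hφ s.2.2 s.1.2
  show CategoryTheory.IsIso (CategoryTheory.Limits.pullback.snd _ _)
  erw [← H.flip.isoPullback_inv_snd]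
  infer_instance


/-- Let S be a positively graded ring (an ℕ-graded R-algebra), S♮ the graded ring with S♮_n = S_[n] =
⊕_{m ≥ n} S_m (presented as a graded ring S' with an injective algebra homomorphism φ : S' → S[X]
carrying S'_n onto S_[n]·X^n), and T = S♮ ⊗_S S_0 = ⊕_n S_[n]/S_+S_[n] (presented as a graded ring
with a surjective graded homomorphism π : S' → T whose kernel is the ideal generated by the elements
of S' corresponding to the constants in S_+); let ρ : T → S be the surjective graded homomorphism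
sending the class of a ∈ S_[n] (in degree n) to the degree-n component of a, and Proj S → Proj T the
morphism it induces (a closed immersion, ρ being surjective). If there is n₀ such that S_{n+1} = S_1
S_n for every n ≥ n₀ (products of graded pieces as submodules), then the morphism Proj S → Proj T is
an isomorphism. (The published statement also asserts the converse when S is Noetherian; that
converse is not correct as published: for S = k[y] with y of degree 2 the morphism is an isomorphism
of one-point schemes Spec k while S_{2m} ≠ S_1 S_{2m−1} = 0 for all m, so only the direct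
implication is stated here.) -/
theorem result {R A B C : Type u} [CommRing R] [CommRing A] [Algebra R A]
    (𝒜 : ℕ → Submodule R A) [GradedAlgebra 𝒜] [CommRing B] [Algebra R B] (ℬ : ℕ → Submodule R B) [GradedAlgebra ℬ]
    (φ : B →ₐ[R] Polynomial A) (hφ : Function.Injective φ)
    (hdeg : ∀ n : ℕ, Submodule.map φ.toLinearMap (ℬ n) =
      Submodule.map ((Polynomial.monomial n : A →ₗ[A] Polynomial A).restrictScalars R) (⨆ (m : ℕ) (_ : n ≤ m), 𝒜 m))
    [CommRing C] [Algebra R C] (𝒞 : ℕ → Submodule R C) [GradedAlgebra 𝒞]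
    (π : ℬ →+*ᵍ 𝒞) (hπ : Function.Surjective π)
    (hker : RingHom.ker π.toRingHom =
      Ideal.span (⇑φ ⁻¹' (⇑(Polynomial.C : A →+* Polynomial A) '' ((HomogeneousIdeal.irrelevant 𝒜).toIdeal : Set A))))
    (ρ : 𝒞 →+*ᵍ 𝒜) (hρ : ∀ (n : ℕ) (b : B), b ∈ ℬ n → ρ (π b) = GradedRing.proj 𝒜 n ((φ b).coeff n))
    (hirr : HomogeneousIdeal.irrelevant 𝒜 ≤ (HomogeneousIdeal.irrelevant 𝒞).map ρ)
    (hgen : ∃ n₀ : ℕ, ∀ n : ℕ, n₀ ≤ n → 𝒜 (n + 1) = 𝒜 1 * 𝒜 n) :
    IsIso (Proj.map ρ hirr) := by
  obtain ⟨n₀, hn₀⟩ := hgen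
  refine isIso_map_of_bijOn_ge 𝒜 𝒞 ρ n₀ (fun n hn => ?_) hirr
  have hlift : ∀ (m : ℕ) (s : A), n ≤ m → s ∈ 𝒜 m → ∃ b ∈ ℬ n, φ b = Polynomial.monomial n s := by
    intro m s hm hs
    have : Polynomial.monomial n s ∈ Submodule.map φ.toLinearMap (ℬ n) := by
      rw [hdeg n]
      exact Submodule.mem_map_of_mem (Submodule.mem_iSup_of_mem m (Submodule.mem_iSup_of_mem hm hs))
    exact this
  refine ⟨fun c hc => Graded.map_mem ρ hc, ?_, fun a ha => ?_⟩
  · -- injectivity
    intro c₁ h₁ c₂ h₂ he
    have hd : c₁ - c₂ ∈ 𝒞 n := sub_mem h₁ h₂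
    obtain ⟨b', hb'⟩ := hπ (c₁ - c₂)
    let b : B := DirectSum.decompose ℬ b' n
    have hb : b ∈ ℬ n := SetLike.coe_mem _
    have hπb : π b = c₁ - c₂ := by
      simp only [b]
      rw [map_directSumDecompose, hb', DirectSum.decompose_of_mem_same 𝒞 hd]
    obtain ⟨s, hs, hφb⟩ : φ.toLinearMap b ∈ Submodule.map ((Polynomial.monomial n : A →ₗ[A] Polynomial A).restrictScalars R)
        (⨆ (m : ℕ) (_ : n ≤ m), 𝒜 m) := hdeg n ▸ Submodule.mem_map_of_mem hb
    replace hφb : Polynomial.monomial n s = φ b := hφb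
    have h0 : GradedRing.proj 𝒜 n s = 0 := by
      have := hρ n b hb
      rw [hπb, map_sub, he, sub_self, ← hφb, Polynomial.coeff_monomial, if_pos rfl] at this
      exact this.symm
    have hmain : ∀ t ∈ (⨆ (m : ℕ) (_ : n ≤ m), 𝒜 m), ∃ β : B, π β = 0 ∧
        φ β = Polynomial.monomial n (t - GradedRing.proj 𝒜 n t) := by
      intro t ht
      induction ht using Submodule.iSup_induction' with
      | zero => exact ⟨0, map_zero _, by simp⟩
      | add x y _ _ hx hy =>
        obtain ⟨β, hβ, eβ⟩ := hx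
        obtain ⟨γ, hγ, eγ⟩ := hy
        refine ⟨β + γ, by rw [map_add, hβ, hγ, add_zero], ?_⟩
        simp only [map_add, map_sub, eβ, eγ]
        abel
      | mem m x hx =>
        by_cases hm : n ≤ m
        swap
        · rw [iSup_neg hm, Submodule.mem_bot] at hx
          exact ⟨0, map_zero _, by simp [hx]⟩
        rw [iSup_pos hm] at hx
        rcases hm.lt_or_eq with hlt | rfl
        swap
        · exact ⟨0, map_zero _, by rw [GradedRing.proj_apply, DirectSum.decompose_of_mem_same 𝒜 hx]; simp⟩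
        rw [GradedRing.proj_apply, DirectSum.decompose_of_mem_ne 𝒜 hx hlt.ne', sub_zero]
        obtain ⟨m, rfl⟩ : ∃ m', m = m' + 1 := ⟨m - 1, by omega⟩
        rw [hn₀ m (by omega)] at hx
        induction hx using Submodule.mul_induction_on' with
        | mem_mul_mem t ht u hu =>
          obtain ⟨b₁, hb₁, e₁⟩ := hlift m u (by omega) hu
          have : Polynomial.monomial 0 t ∈ Submodule.map φ.toLinearMap (ℬ 0) := by
            rw [hdeg 0]
            exact Submodule.mem_map_of_mem (Submodule.mem_iSup_of_mem 1 (Submodule.mem_iSup_of_mem (Nat.zero_le _) ht))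
          obtain ⟨b₀, hb₀, e₀⟩ := this
          replace e₀ : φ b₀ = Polynomial.monomial 0 t := e₀
          refine ⟨b₀ * b₁, ?_, by rw [map_mul, e₀, e₁, Polynomial.monomial_mul_monomial, zero_add]⟩
          have hk : b₀ ∈ RingHom.ker π.toRingHom := by
            rw [hker]
            refine Ideal.subset_span ⟨t, ?_, ?_⟩
            · exact HomogeneousIdeal.mem_irrelevant_of_mem 𝒜 one_pos ht
            · rw [e₀, Polynomial.monomial_zero_left]
          have : π b₀ = 0 := hk
          rw [map_mul, this, zero_mul]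
        | add x _ y _ hx hy =>
          obtain ⟨β, hβ, eβ⟩ := hx
          obtain ⟨γ, hγ, eγ⟩ := hy
          exact ⟨β + γ, by rw [map_add, hβ, hγ, add_zero], by rw [map_add, eβ, eγ, map_add]⟩
    obtain ⟨β, hβ, eβ⟩ := hmain s hs
    rw [h0, sub_zero, hφb] at eβ
    rw [← sub_eq_zero, ← hπb, ← hφ eβ, hβ]
  · obtain ⟨b, hb, e⟩ := hlift n a le_rfl ha
    refine ⟨π b, Graded.map_mem π hb, ?_⟩
    rw [hρ n b hb, e, Polynomial.coeff_monomial, if_pos rfl, GradedRing.proj_apply,
      DirectSum.decompose_of_mem_same 𝒜 ha]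

end Groth.Agent.S8311
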