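import Groth.Statements.S8312
import Groth.Agent.NatGr.Basic


set_option autoImplicit false
set_option linter.style.haveILetI false

universe u
open scoped HomogeneousIdeal
open EGA2

namespace Groth.Agent.S8312

/-- Let S be a positively graded ring (an ℕ-graded R-algebra) and S♮ the graded ring with S♮_n = S_[n] =
⊕_{m ≥ n} S_m, presented as a graded ring S' with an injective algebra homomorphism φ : S' → S[X]
carrying S'_n onto S_[n]·X^n; for a homogeneous f ∈ S_d write f♮ for the element of S' with φ(f♮) =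
f·X^d (f placed in degree d of S♮). If (f_α) is a family of homogeneous elements of S of positive
degrees such that every element of the irrelevant ideal S_+ has a positive power in the ideal
generated by the f_α (that is, S_+ is the radical in S_+ of that ideal), then every element of the
irrelevant ideal S'_+ has a positive power in the ideal of S' generated by the f_α♮. -/
theorem result {R A B : Type u} [CommRing R] [CommRing A] [Algebra R A]
    (𝒜 : ℕ → Submodule R A) [GradedAlgebra 𝒜] [CommRing B] [Algebra R B] (ℬ : ℕ → Submodule R B) [GradedAlgebra ℬ]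
    (φ : B →ₐ[R] Polynomial A) (hφ : Function.Injective φ)
    (hdeg : ∀ n : ℕ, Submodule.map φ.toLinearMap (ℬ n) =
      Submodule.map ((Polynomial.monomial n : A →ₗ[A] Polynomial A).restrictScalars R) (⨆ (m : ℕ) (_ : n ≤ m), 𝒜 m))
    {ι : Type u} (d : ι → ℕ) (hd : ∀ a, 0 < d a) (f : ι → A) (hf : ∀ a, f a ∈ 𝒜 (d a))
    (hrad : ∀ g ∈ (HomogeneousIdeal.irrelevant 𝒜).toIdeal, ∃ n : ℕ, 0 < n ∧ g ^ n ∈ Ideal.span (Set.range f))
    (fn : ι → B) (hfn : ∀ a, φ (fn a) = Polynomial.monomial (d a) (f a)) :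
    ∀ g ∈ (HomogeneousIdeal.irrelevant ℬ).toIdeal, ∃ n : ℕ, 0 < n ∧ g ^ n ∈ Ideal.span (Set.range fn) := by
  classical
  suffices h : (HomogeneousIdeal.irrelevant ℬ).toIdeal ≤ (Ideal.span (Set.range fn)).radical by
    intro g hg
    obtain ⟨n, hn⟩ := h hg
    exact ⟨n + 1, n.succ_pos, by rw [pow_succ]; exact Ideal.mul_mem_right _ _ hn⟩
  intro b hb
  rw [← DirectSum.sum_support_decompose ℬ b]
  refine Ideal.sum_mem _ fun n hn => ?_
  rcases Nat.eq_zero_or_pos n with rfl | hnpos
  · have h0 : DirectSum.decompose ℬ b 0 = 0 := Subtype.ext (by simpa using hb)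
    exact absurd h0 (DFinsupp.mem_support_iff.1 hn)
  obtain ⟨a, ha, hba⟩ := Groth.Agent.NatGr.exists_of_mem 𝒜 ℬ φ hdeg (SetLike.coe_mem (DirectSum.decompose ℬ b n))
  obtain ⟨b', hb', e⟩ : ∃ b' ∈ (Ideal.span (Set.range fn)).radical, φ b' = Polynomial.monomial n a := by
    refine Groth.Agent.NatGr.T_induction 𝒜
      (motive := fun a => ∃ b' ∈ (Ideal.span (Set.range fn)).radical, φ b' = Polynomial.monomial n a) ha
      ⟨0, zero_mem _, by simp⟩ ?_ ?_
    · rintro x y ⟨bx, hx, ex⟩ ⟨bY, hy, ey⟩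
      exact ⟨bx + bY, add_mem hx hy, by simp [ex, ey]⟩
    intro m hm x hx
    obtain ⟨bx, -, ex⟩ := Groth.Agent.NatGr.exists_lift 𝒜 ℬ φ hdeg (Groth.Agent.NatGr.le_T 𝒜 hm hx)
    refine ⟨bx, ?_, ex⟩
    obtain ⟨N, -, hN⟩ := hrad x (HomogeneousIdeal.mem_irrelevant_of_mem 𝒜 (by omega) hx)
    obtain ⟨c, hc⟩ := (Finsupp.mem_span_range_iff_exists_finsupp).1 hN
    let K := ∑ i ∈ c.support, d i
    refine ⟨N + K, ?_⟩
    have hxN : x ^ N ∈ 𝒜 (N * m) := by simpa using SetLike.pow_mem_graded N hx
    have hxK : x ^ K ∈ 𝒜 (K * m) := by simpa using SetLike.pow_mem_graded K hx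
    have hsum : x ^ N = ∑ i ∈ c.support,
        if d i ≤ N * m then (DirectSum.decompose 𝒜 (c i) (N * m - d i) : A) * f i else 0 := by
      conv_lhs => rw [← DirectSum.decompose_of_mem_same 𝒜 hxN, ← hc, Finsupp.sum]
      rw [DirectSum.decompose_sum, DFinsupp.finset_sum_apply, AddSubmonoidClass.coe_finset_sum]
      exact Finset.sum_congr rfl fun i _ => DirectSum.coe_decompose_mul_of_right_mem 𝒜 (N * m) (hf i)
    obtain ⟨s, hs, hsa⟩ : ∃ s ∈ Ideal.span (Set.range fn), φ s = Polynomial.monomial (n * (N + K)) (x ^ K * x ^ N) := by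
      rw [hsum, Finset.mul_sum, map_sum]
      suffices ∀ i ∈ c.support, ∃ s ∈ Ideal.span (Set.range fn), φ s = Polynomial.monomial (n * (N + K))
          (x ^ K * if d i ≤ N * m then (DirectSum.decompose 𝒜 (c i) (N * m - d i) : A) * f i else 0) by
        choose! s hs hsa using this
        exact ⟨∑ i ∈ c.support, s i, Ideal.sum_mem _ hs, by rw [map_sum]; exact Finset.sum_congr rfl hsa⟩
      intro i hi
      split_ifs with hdi
      · have hK : d i ≤ K := Finset.single_le_sum (fun j _ => Nat.zero_le (d j)) hi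
        have hKn : K ≤ n * (N + K) := le_trans (Nat.le_add_left K N) (Nat.le_mul_of_pos_left _ hnpos)
        have hle : n * (N + K) ≤ (N + K) * m := by rw [mul_comm]; exact Nat.mul_le_mul_left _ hm
        rw [add_mul] at hle
        obtain ⟨s, -, hsa⟩ := Groth.Agent.NatGr.exists_lift 𝒜 ℬ φ hdeg (n := n * (N + K) - d i)
          (Groth.Agent.NatGr.le_T 𝒜 (n := n * (N + K) - d i) (m := K * m + (N * m - d i)) (by omega)
            (SetLike.mul_mem_graded hxK (SetLike.coe_mem (DirectSum.decompose 𝒜 (c i) (N * m - d i)))))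
        refine ⟨s * fn i, Ideal.mul_mem_left _ _ (Ideal.subset_span ⟨i, rfl⟩), ?_⟩
        rw [map_mul, hsa, hfn, Polynomial.monomial_mul_monomial, mul_assoc, Nat.sub_add_cancel (by omega)]
      · exact ⟨0, zero_mem _, by simp⟩
    have : bx ^ (N + K) = s := hφ (by
      rw [map_pow, ex, Polynomial.monomial_pow, hsa, ← pow_add, add_comm K N])
    rw [this]
    exact hs
  rwa [hφ (e.trans hba.symm)] at hb'

end Groth.Agent.S8312
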