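import Groth.Prelude.Def_RelSpec2
import Groth.Prelude.Def_Pic
import Groth.Prelude.Def_Pi1
import Mathlib.AlgebraicGeometry.Morphisms.Separated
import Groth.Agent.EGA2Cone.Integral

set_option backward.isDefEq.respectTransparency false
set_option backward.isDefEq.respectTransparency.types false
-- import your own Groth.Agent.* helpers here

set_option autoImplicit false
universe u
open CategoryTheory CategoryTheory.Limits AlgebraicGeometry Opposite TopologicalSpace
open scoped HomogeneousIdeal
noncomputable section
open EGA2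

namespace Groth.Agent.S8317

/-- Let f : X → Y be a separated quasi-compact morphism such that f^♯ : O_Y → f_*O_X is an isomorphism,
L an invertible O_X-module, V = V(L) = Spec(Sym L) its line bundle with projection π : V → X, and C
= Spec((f∘π)_*O_V) the relative spectrum over Y of the direct-image algebra of f∘π. (The published
statement takes C to be the affine cone Spec(O_Y ⊕ ⊕_{n≥1} f_*(L^{⊗n})); when f^♯ is an isomorphism
that cone is this relative spectrum.) Then: if X is integral, C is integral; and if X is locally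
integral (every point has an integral open neighbourhood) and normal (all local rings integrally
closed domains), then C is normal. -/
theorem result {X Y : Scheme.{u}} (f : X ⟶ Y) [IsSeparated f] [QuasiCompact f]
    (hlam : IsIso f.c) (L : X.Modules) (hL : PicF.IsInvertible L) (hLq : Coh.IsQCoh L)
    (𝒜 : RelSpec.QCAlg X) (jL : L ⟶ 𝒜.toModule) (hA : RelSpec.IsSymAlg L 𝒜 jL) :
    (IsIntegral X → IsIntegral (RelSpec.QCAlg.directImage (𝒜.π ≫ f)).spec) ∧
      ((∀ x : X, ∃ U : X.Opens, x ∈ U ∧ IsIntegral (U : Scheme.{u})) → Pi1.IsNormalScheme X →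
        Pi1.IsNormalScheme (RelSpec.QCAlg.directImage (𝒜.π ≫ f)).spec) := by
  refine ⟨fun hX => ?_, fun hint hn => ?_⟩
  · haveI := hX
    haveI := Groth.Agent.EGA2Cone.irreducibleSpace_of_isIso_c f hlam
    haveI := Groth.Agent.EGA2Cone.isIntegral_spec hL hLq hA
    refine Groth.Agent.EGA2Cone.isIntegral_dirIm (𝒜.π ≫ f) fun U hU => ?_
    obtain ⟨x, hx⟩ := Groth.Agent.EGA2Cone.exists_mem_of_isIso_c f hlam U hU
    obtain ⟨v, hv⟩ := Groth.Agent.EGA2Cone.exists_mem_spec hL hLq hA (f ⁻¹ᵁ U) ⟨x, hx⟩
    exact ⟨v, hv⟩
  · obtain ⟨h1, h2⟩ := Groth.Agent.EGA2Cone.locallyIntegral_normal_spec hL hLq hA hint hn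
    exact Groth.Agent.EGA2Cone.normal_dirIm (𝒜.π ≫ f) h2 h1

end Groth.Agent.S8317
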