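import Groth.Prelude.Def_RelSpec2
import Groth.Prelude.Def_LCI2
import Groth.Prelude.Def_Pic
import Groth.Prelude.Def_AffAlg
import Groth.Prelude.Def_Pi1
import Mathlib.AlgebraicGeometry.Morphisms.Proper
import Groth.Agent.EGA2Cone.IsoDesc

set_option backward.isDefEq.respectTransparency false
set_option backward.isDefEq.respectTransparency.types false
-- import your own Groth.Agent.* helpers here

set_option autoImplicit false
universe u
open CategoryTheory CategoryTheory.Limits AlgebraicGeometry Opposite TopologicalSpace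
open scoped HomogeneousIdeal
noncomputable section
open EGA2

namespace Groth.Agent.S8320

/-- Let p : X → Y be a proper morphism with p^♯ : O_Y → p_*O_X an isomorphism, L an invertible
O_X-module ample relative to p, V = V(L) = Spec(Sym L) with projection π and zero section j0 (the
vertex section), C a scheme over Y (structure morphism g) with a section ε and a Y-morphism q : V →
C with j0 ≫ q = p ≫ ε; let C' = Spec(𝒮') with 𝒮' = ⊕_{n≥0} p_*(L^{⊗n}) = (p∘π)_*O_V (the relative
spectrum over Y of the direct-image algebra of p∘π) and q' : V → C' the canonical Y-morphism (the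
one corresponding to the identity of (p∘π)_*O_V under the universal property of the relative
spectrum); suppose moreover that X is integral, that C is normal (all its local rings are integrally
closed domains), that q is proper and that the restriction of q to V0 = V − j0(X) is an open
immersion with image exactly C − ε(Y). Then every morphism u : C' → C over Y with q = q' ≫ u is an
isomorphism. (The published statement assumes only the commutativity j0 ≫ q = p ≫ ε; this row also
assumes q proper and q restricted to V − j0(X) an open immersion onto C − ε(Y), without which the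
conclusion fails: for C = Y, ε the identity and q the structure morphism of V, the morphism u is the
structure morphism C' → Y, which is not an isomorphism in general (X the projective line over a
field k, Y = C = Spec k, L of degree one: C' is the affine plane).) -/
theorem result {X Y C : Scheme.{u}} (p : X ⟶ Y) [IsProper p] (hθ : IsIso p.c)
    (L : X.Modules) (hL : PicF.IsInvertible L) (hLq : Coh.IsQCoh L) (hamp : RelAmple.IsRelAmple p L)
    (𝒜 : RelProj.QCGrAlg X) (jL : L ⟶ 𝒜.toModule) (hA : RelProj.IsGrSymAlg L 𝒜 jL) (h0 : RelCone.StrZeroBij 𝒜)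
    (aug : 𝒜.toQCAlg ⟶ RelSpec.QCAlg.unit X) (haug : RelCone.IsAugmentation 𝒜 aug)
    (j0 : X ⟶ 𝒜.toQCAlg.spec) (hj0 : RelCone.IsVertex 𝒜 aug j0)
    (g : C ⟶ Y) (ε : Y ⟶ C) (hε : ε ≫ g = 𝟙 Y) (q : 𝒜.toQCAlg.spec ⟶ C)
    (hqg : q ≫ g = 𝒜.toQCAlg.π ≫ p) (hjq : j0 ≫ q = p ≫ ε)
    (q' : 𝒜.toQCAlg.spec ⟶ (RelSpec.QCAlg.directImage (𝒜.toQCAlg.π ≫ p)).spec)
    (hq'π : q' ≫ (RelSpec.QCAlg.directImage (𝒜.toQCAlg.π ≫ p)).π = 𝒜.toQCAlg.π ≫ p)
    (hq' : AffAlg.algHom (RelSpec.QCAlg.directImage (𝒜.toQCAlg.π ≫ p)).π (𝒜.toQCAlg.π ≫ p) q' hq'π = (RelSpec.QCAlg.directImage (𝒜.toQCAlg.π ≫ p)).gammaMap)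
    [IsIntegral X] (hC : Pi1.IsNormalScheme C)
    [IsProper q] (V0 : 𝒜.toQCAlg.spec.Opens) (hV0 : (V0 : Set 𝒜.toQCAlg.spec) = (Set.range j0.base)ᶜ)
    (hqo : IsOpenImmersion (V0.ι ≫ q)) (hqr : Set.range (V0.ι ≫ q).base = (Set.range ε.base)ᶜ)
    (u : (RelSpec.QCAlg.directImage (𝒜.toQCAlg.π ≫ p)).spec ⟶ C) (hug : u ≫ g = (RelSpec.QCAlg.directImage (𝒜.toQCAlg.π ≫ p)).π) (hu : q' ≫ u = q) :
    IsIso u := by
  haveI : IsIntegral 𝒜.toQCAlg.spec := Groth.Agent.EGA2Cone.isIntegral_spec hL hLq hA.1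
  obtain ⟨ε', hε', hjq', hprop', hs', hb', hoi', hr'⟩ :=
    Groth.Agent.EGA2Cone.exists_props hL hLq hA hj0 haug p hθ hamp V0 hV0 q' hq'π hq'
  haveI := hqo
  haveI := hoi'
  have hps := Groth.Agent.EGA2Cone.surjective_of_isIso_c p hθ
  have hqs := Groth.Agent.EGA2Cone.surjective_of_contracts hV0 hps hjq hqr
  have hV0ne : (V0 : Set 𝒜.toQCAlg.spec).Nonempty := by
    obtain ⟨x⟩ := (inferInstance : Nonempty X)
    obtain ⟨U₁, e₁, hx₁, he₁⟩ := TMul.exists_isGen hL x
    obtain ⟨_, ⟨U, hU, rfl⟩, hxU, hle⟩ := X.isBasis_affineOpens.exists_subset_of_mem_open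
      (show x ∈ U₁ from hx₁) U₁.2
    have he := Groth.Agent.SymAlg.isGen_res (show U ≤ U₁ from hle) he₁
    obtain ⟨v, hv, hvp⟩ := Groth.Agent.EGA2Cone.exists_line_point jL hLq hA hU he hxU
    refine ⟨v, hV0.ge ((Groth.Agent.EGA2Cone.not_mem_range_j0_iff jL hLq hA hU he haug hj0
      (show v ∈ 𝒜.toQCAlg.π ⁻¹ᵁ U from (show 𝒜.toQCAlg.π v ∈ U from hv.symm ▸ hxU))).2 ((hvp _).2 ⟨1, ?_⟩))⟩
    rw [Polynomial.coeff_X_one]
    exact fun h1 => (hU.primeIdealOf ⟨x, hxU⟩).2.ne_top ((Ideal.eq_top_iff_one _).2 h1)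
  have hqb : ∀ U : C.Opens, Function.Bijective (q.app U).hom :=
    Groth.Agent.EGA2Cone.bijective_app_of_normal_proper q hqs hC V0 hV0ne hqo
  have hcontr := Groth.Agent.EGA2Cone.contracts_of (j0 := j0) hqr
  obtain ⟨w, hw, -⟩ := Groth.Agent.EGA2Cone.existsUnique_factor q hqs q.isClosedMap hqb q'
    (fun a b e => Groth.Agent.EGA2Cone.fibre_eq hV0 hjq' hcontr hjq
      (Groth.Agent.EGA2Cone.injective_of_section hε) e)
  refine ⟨w, Groth.Agent.EGA2Cone.hom_ext_of_app_injective q' hs' (fun U => (hb' U).1) ?_,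
    Groth.Agent.EGA2Cone.hom_ext_of_app_injective q hqs (fun U => (hqb U).1) ?_⟩
  · rw [← Category.assoc, hu, hw, Category.comp_id]
  · rw [← Category.assoc, hw, hu, Category.comp_id]

end Groth.Agent.S8320
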