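import Groth.Statements.S8323
import Groth.Agent.RelTilde.Exists
import Groth.Agent.RelTilde.Cast

set_option linter.style.haveILetI false
set_option backward.isDefEq.respectTransparency false

set_option autoImplicit false
universe u
open CategoryTheory CategoryTheory.Limits AlgebraicGeometry Opposite TopologicalSpace
open scoped HomogeneousIdeal
noncomputable section
open EGA2

namespace Groth.Agent.S8323

/-- Two O_P-modules on P = Proj(𝒮), each identified chartwise with the modules (ℳ(U)(n))~ on the Proj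
𝒮(U) (bijectively on sections, compatibly along restrictions to basic opens), are related by exactly
one O_P-module map commuting with the identifications, and that map is an isomorphism. -/
theorem result {Y P : Scheme.{u}} (𝒮 : RelProj.QCGrAlg Y) (p : P ⟶ Y)
    (chart : ∀ (U : Y.Opens) (hU : IsAffineOpen U), (((p ⁻¹ᵁ U : P.Opens) : Scheme.{u}) ≅ Proj (𝒮.deg U hU)))
    (hP : RelProj.IsRelProj 𝒮 p chart) (ℳ : RelProj.GrModule 𝒮)
    (hℳ : Coh.IsQCoh ((AMod.toOS 𝒮.toQCAlg).obj ℳ.mod)) (n : ℤ) (F : P.Modules)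
    (lam : ∀ (U : Y.Opens) (hU : IsAffineOpen U),
      F ⟶ (Scheme.Modules.pushforward (RelProj.emb p chart U hU)).obj (GrMod.tilde (𝒮.deg U hU) (ℳ.deg U hU) n))
    (hF : RelProj.IsRelTilde 𝒮 p chart ℳ n F lam) (F' : P.Modules)
    (lam' : ∀ (U : Y.Opens) (hU : IsAffineOpen U),
      F' ⟶ (Scheme.Modules.pushforward (RelProj.emb p chart U hU)).obj (GrMod.tilde (𝒮.deg U hU) (ℳ.deg U hU) n))
    (hF' : RelProj.IsRelTilde 𝒮 p chart ℳ n F' lam') :
    (∃! φ : F ⟶ F', ∀ (U : Y.Opens) (hU : IsAffineOpen U), φ ≫ lam' U hU = lam U hU) ∧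
      ∀ φ : F ⟶ F', (∀ (U : Y.Opens) (hU : IsAffineOpen U), φ ≫ lam' U hU = lam U hU) → IsIso φ := by
  have h := (RelTilde.isRelTilde_iff ℳ hℳ n F lam).mp hF
  have h' := (RelTilde.isRelTilde_iff ℳ hℳ n F' lam').mp hF'
  refine ⟨h'.existsUnique_hom hP lam h.compat, fun φ hφ => ?_⟩
  obtain ⟨ψ, hψ, -⟩ := h.existsUnique_hom hP lam' h'.compat
  refine ⟨ψ, (h.existsUnique_hom hP lam h.compat).unique ?_ ?_,
    (h'.existsUnique_hom hP lam' h'.compat).unique ?_ ?_⟩
  · intro U hU; rw [Category.assoc, hψ, hφ]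
  · intro U hU; exact Category.id_comp _
  · intro U hU; rw [Category.assoc, hφ, hψ]
  · intro U hU; exact Category.id_comp _

end Groth.Agent.S8323
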