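import Groth.Statements.S8324
import Groth.Agent.RelTilde.Func

set_option linter.style.haveILetI false
set_option backward.isDefEq.respectTransparency false

set_option autoImplicit false
universe u
open CategoryTheory CategoryTheory.Limits AlgebraicGeometry Opposite TopologicalSpace
open scoped HomogeneousIdeal
noncomputable section
open EGA2

namespace Groth.Agent.S8324

/-- If the quasi-coherent graded 𝒮-module ℳ satisfies (TN) — its pieces of all large degrees vanish —
then the module (ℳ(n))~ on P = Proj(𝒮) (given through its chartwise identifications) is zero, for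
every integer n. -/
theorem result {Y P : Scheme.{u}} (𝒮 : RelProj.QCGrAlg Y) (p : P ⟶ Y)
    (chart : ∀ (U : Y.Opens) (hU : IsAffineOpen U), (((p ⁻¹ᵁ U : P.Opens) : Scheme.{u}) ≅ Proj (𝒮.deg U hU)))
    (hP : RelProj.IsRelProj 𝒮 p chart) (ℳ : RelProj.GrModule 𝒮)
    (hℳ : Coh.IsQCoh ((AMod.toOS 𝒮.toQCAlg).obj ℳ.mod)) (hTN : ℳ.IsTN) (n : ℤ) (F : P.Modules)
    (lam : ∀ (U : Y.Opens) (hU : IsAffineOpen U),
      F ⟶ (Scheme.Modules.pushforward (RelProj.emb p chart U hU)).obj (GrMod.tilde (𝒮.deg U hU) (ℳ.deg U hU) n))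
    (hF : RelProj.IsRelTilde 𝒮 p chart ℳ n F lam) : IsZero F := by
  have h := (RelTilde.isRelTilde_iff ℳ hℳ n F lam).mp hF
  obtain ⟨N₀, hN⟩ := hTN
  rw [IsZero.iff_id_eq_zero]
  ext W s
  refine h.section_ext hP fun U hU => RelTilde.til_ext fun y => ?_
  have key : ∀ x ∈ GrMod.tildeAt (𝒮.deg U hU) (ℳ.deg U hU) n y.1, x = 0 := fun x hx =>
    RelTilde.eq_zero_of_locMap_eq_zero (𝒩 := ℳ.deg U hU) (0 : _ →ₗ[_] _)
      (fun i m _ => by rw [LinearMap.zero_apply]; exact zero_mem _) n
      (fun k hk m hm _ => hN U hU k hk m hm) hx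
      (by
        induction x using LocalizedModule.induction_on with
        | h m s => rw [GrMod.locMap_mk, LinearMap.zero_apply, LocalizedModule.zero_mk])
  refine (key _ ((show GrMod.sect _ _ n _ from (lam U hU).app W s).1 y).2).trans ?_
  rw [show (0 : F ⟶ F).app W s = 0 from rfl, map_zero]
  rfl

end Groth.Agent.S8324
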