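import Groth.Statements.S8326
import Groth.Agent.RelTilde.TF

set_option linter.style.haveILetI false
set_option backward.isDefEq.respectTransparency false

set_option autoImplicit false
universe u
open CategoryTheory CategoryTheory.Limits AlgebraicGeometry Opposite TopologicalSpace
open scoped HomogeneousIdeal
noncomputable section
open EGA2

namespace Groth.Agent.S8326

/-- Let Y be a scheme with quasi-compact underlying space, 𝒮 a quasi-coherent positively graded
O_Y-algebra generated by 𝒮_1 with 𝒮_1 of finite type, and ℳ a quasi-coherent graded 𝒮-module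
satisfying (TF). If ℳ~ = 0 on P = Proj(𝒮), then ℳ satisfies (TN). (With (TN) asking for one degree
bound over the whole base, the implication needs the base quasi-compact: over an infinite disjoint
union of points carrying the polynomial algebra in one variable, the module equal on the i-th point
to the residue field placed in degree i and killed by the variable satisfies (TF), has zero attached
module, and fails (TN). The published statement has no quasi-compactness hypothesis; its proof gives
a bound on each affine open. The converse direction holds for any base and any graded module.) -/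
theorem result {Y P : Scheme.{u}} (𝒮 : RelProj.QCGrAlg Y) (p : P ⟶ Y)
    (chart : ∀ (U : Y.Opens) (hU : IsAffineOpen U), (((p ⁻¹ᵁ U : P.Opens) : Scheme.{u}) ≅ Proj (𝒮.deg U hU)))
    (hP : RelProj.IsRelProj 𝒮 p chart) [CompactSpace Y] (hgen : 𝒮.IsGenDegOne)
    (hft : 𝒮.IsFTDeg 1) (ℳ : RelProj.GrModule 𝒮) (hℳ : Coh.IsQCoh ((AMod.toOS 𝒮.toQCAlg).obj ℳ.mod)) (hTF : ℳ.IsTF)
    (F : P.Modules)
    (lam : ∀ (U : Y.Opens) (hU : IsAffineOpen U),
      F ⟶ (Scheme.Modules.pushforward (RelProj.emb p chart U hU)).obj (GrMod.tilde (𝒮.deg U hU) (ℳ.deg U hU) 0))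
    (hF : RelProj.IsRelTilde 𝒮 p chart ℳ 0 F lam) (h0 : IsZero F) : ℳ.IsTN := by
  classical
  have hF' := (Groth.Agent.RelTilde.isRelTilde_iff ℳ hℳ 0 F lam).mp hF
  choose J hJ using fun U : Y.affineOpens =>
    Groth.Agent.RelTilde.exists_bound_of_isZero hF' hgen hTF hft h0 U.1 U.2
  obtain ⟨T, hT⟩ := isCompact_univ.elim_finite_subcover (fun U : Y.affineOpens => (U.1 : Set Y))
    (fun U => U.1.2) (fun x _ => by
      obtain ⟨U, hU, hxU, -⟩ := exists_isAffineOpen_mem_and_subset (x := x) (U := ⊤) trivial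
      exact Set.mem_iUnion.mpr ⟨⟨U, hU⟩, hxU⟩)
  refine ⟨T.sup J, fun U hU k hk m hm => ?_⟩
  refine Groth.Agent.QC.section_eq_of_locally (M := (AMod.toOS 𝒮.toQCAlg).obj ℳ.mod) fun x hx => ?_
  obtain ⟨V, hVT, hxV⟩ := Set.mem_iUnion₂.mp (hT (Set.mem_univ x))
  obtain ⟨r, r', hrr', hxr⟩ := exists_basicOpen_le_affine_inter hU V.2 x ⟨hx, hxV⟩
  refine ⟨Y.basicOpen r, Y.basicOpen_le r, hxr, ?_⟩
  rw [map_zero]
  exact Groth.Agent.RelTilde.deg_eq_zero_of_isB (Groth.Agent.RelTilde.Datum.ofGrModule ℳ hℳ) V.2
    (hU.basicOpen r) ⟨r', hrr'.symm⟩ (hJ V k ((Finset.le_sup hVT).trans hk)) _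
    (ℳ.map_mem hU (hU.basicOpen r) (Y.basicOpen_le r) hm)

end Groth.Agent.S8326
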