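import Groth.Statements.S8338
import Groth.Agent.RelTilde.Func
import Groth.Agent.RelTilde.Affine

set_option linter.style.haveILetI false
set_option backward.isDefEq.respectTransparency false

set_option autoImplicit false
universe u
open CategoryTheory CategoryTheory.Limits AlgebraicGeometry Opposite TopologicalSpace
noncomputable section
open EGA2

namespace Groth.Agent.S8338

/-- For an exact sequence M₁ → M₂ → M₃ of graded S-modules with degree-preserving maps u, v and every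
integer n, the induced morphisms M₁(n)~ → M₂(n)~ → M₃(n)~ of modules on X = Proj S give an exact
sequence of sections over every basic open D_+(f), f homogeneous of positive degree (these opens are
affine and cover X, so the sequence of modules is exact). Gradings by additive subgroups, modules
graded in non-negative degrees. -/
theorem result {A σ : Type u} [CommRing A] [SetLike σ A] [AddSubgroupClass σ A] (𝒜 : ℕ → σ)
    [GradedRing 𝒜] {M₁ τ₁ : Type u} [AddCommGroup M₁] [Module A M₁] [SetLike τ₁ M₁] [AddSubgroupClass τ₁ M₁]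
    (ℳ₁ : ℕ → τ₁) [SetLike.GradedSMul 𝒜 ℳ₁] [DirectSum.Decomposition ℳ₁]
    {M₂ τ₂ : Type u} [AddCommGroup M₂] [Module A M₂] [SetLike τ₂ M₂] [AddSubgroupClass τ₂ M₂]
    (ℳ₂ : ℕ → τ₂) [SetLike.GradedSMul 𝒜 ℳ₂] [DirectSum.Decomposition ℳ₂]
    {M₃ τ₃ : Type u} [AddCommGroup M₃] [Module A M₃] [SetLike τ₃ M₃] [AddSubgroupClass τ₃ M₃]
    (ℳ₃ : ℕ → τ₃) [SetLike.GradedSMul 𝒜 ℳ₃] [DirectSum.Decomposition ℳ₃]
    (u : M₁ →ₗ[A] M₂) (hu : ∀ (i : ℕ) (m : M₁), m ∈ ℳ₁ i → u m ∈ ℳ₂ i)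
    (v : M₂ →ₗ[A] M₃) (hv : ∀ (i : ℕ) (m : M₂), m ∈ ℳ₂ i → v m ∈ ℳ₃ i)
    (hex : Function.Exact u v) (n : ℤ) {d : ℕ} (hd : 0 < d) (f : A) (hf : f ∈ 𝒜 d) :
    Function.Exact ((GrMod.map 𝒜 u hu n).app (Proj.basicOpen 𝒜 f))
      ((GrMod.map 𝒜 v hv n).app (Proj.basicOpen 𝒜 f)) := by
  have hval : ∀ (s : GrMod.sect 𝒜 ℳ₂ n (op (Proj.basicOpen 𝒜 f))) (x : Proj.basicOpen 𝒜 f),
      GrMod.val (V := Proj.basicOpen 𝒜 f) ((GrMod.map 𝒜 v hv n).app (Proj.basicOpen 𝒜 f) s) x =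
        GrMod.locMap v x.1 (GrMod.val (V := Proj.basicOpen 𝒜 f) s x) := fun s x => rfl
  intro s
  constructor
  · intro hs
    obtain ⟨k, i, a, hi, ha, hsa⟩ := RelTilde.exists_frac_basicOpen 𝒜 ℳ₂ n hd hf s
    obtain ⟨N, hN⟩ := RelTilde.exists_pow_smul_eq_zero 𝒜 ℳ₃ (hv i a ha) hd hf fun x hx => by
      have hxk := RelTilde.not_mem_pow 𝒜 hx k
      let xm : Proj.basicOpen 𝒜 f := ⟨x, (ProjectiveSpectrum.mem_basicOpen _ _ _).mpr hx⟩
      refine (RelTilde.fr_eq_zero_iff 𝒜 x (a := v a) hxk).mp ?_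
      refine (GrMod.locMap_mk v x a ⟨f ^ k, hxk⟩).symm.trans ?_
      refine ((congrArg (GrMod.locMap v x) (hsa xm hxk).symm).trans (hval s xm).symm).trans ?_
      rw [hs]
      rfl
    obtain ⟨m, hm⟩ := (hex (f ^ N • a)).mp (by rw [map_smul, hN])
    have hfN : f ^ N • a ∈ ℳ₂ (N * d + i) :=
      RelTilde.smul_mem_graded 𝒜 ℳ₂ (SetLike.pow_mem_graded N hf) ha
    refine ⟨RelTilde.fracSect 𝒜 ℳ₁ n (i := N * d + i) (j := (N + k) * d)
      (a := (DirectSum.decompose ℳ₁ m (N * d + i) : M₁)) (g := f ^ (N + k)) (SetLike.coe_mem _)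
      (SetLike.pow_mem_graded _ hf) (by push_cast; linarith) (Proj.basicOpen 𝒜 f)
      (fun x => RelTilde.not_mem_pow 𝒜 ((ProjectiveSpectrum.mem_basicOpen _ _ _).mp x.2) _),
      RelTilde.sect_ext 𝒜 ℳ₂ fun x => ?_⟩
    have hxk := RelTilde.not_mem_pow 𝒜 ((ProjectiveSpectrum.mem_basicOpen _ _ _).mp x.2) k
    refine (GrMod.locMap_mk u x.1 _ _).trans ?_
    refine Eq.trans ?_ (hsa x hxk).symm
    rw [RelTilde.map_decompose_of_hom u hu, hm, DirectSum.decompose_of_mem_same ℳ₂ hfN]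
    exact RelTilde.fr_congr 𝒜 x.1 _ _ (by rw [smul_smul, pow_add, mul_comm])
  · rintro ⟨t, rfl⟩
    refine RelTilde.sect_ext 𝒜 ℳ₃ fun x => ?_
    refine (hval _ x).trans ?_
    refine (congrArg (GrMod.locMap v x.1) (GrMod.map_app_val u hu n _ t x)).trans ?_
    generalize GrMod.val (V := Proj.basicOpen 𝒜 f) t x = z
    induction z using LocalizedModule.induction_on with
    | h m g =>
      rw [GrMod.locMap_mk, GrMod.locMap_mk, hex.apply_apply_eq_zero, LocalizedModule.zero_mk]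
      rfl

end Groth.Agent.S8338
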