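import Groth.Statements.S8340
import Groth.Agent.RelTilde.Tensor
import Groth.Agent.RelTilde.Exists
import Groth.Agent.TMul.RelAmple

set_option linter.style.haveILetI false
set_option backward.isDefEq.respectTransparency false

set_option autoImplicit false
universe u
open CategoryTheory CategoryTheory.Limits AlgebraicGeometry Opposite TopologicalSpace
open scoped HomogeneousIdeal
noncomputable section
open EGA2

namespace Groth.Agent.S8340

/-- For a quasi-compact open U of X = Proj(𝒮), 𝒮 any quasi-coherent positively graded O_Y-algebra, there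
is d > 0 such that for every n divisible by d the module O_X(−n)|U is an inverse of O_X(n)|U: the
tensor product O_X(n)|U ⊗ O_X(−n)|U is isomorphic to O_U (existence of an isomorphism; the twisting
sheaves are given through their chartwise identifications). -/
theorem result {Y X : Scheme.{u}} (𝒮 : RelProj.QCGrAlg Y) (q : X ⟶ Y)
    (chart : ∀ (U : Y.Opens) (hU : IsAffineOpen U), (((q ⁻¹ᵁ U : X.Opens) : Scheme.{u}) ≅ Proj (𝒮.deg U hU)))
    (hX : RelProj.IsRelProj 𝒮 q chart) (U : X.Opens) (hU : IsCompact (U : Set X)) :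
    ∃ d : ℕ, 0 < d ∧ ∀ (n : ℤ), (d : ℤ) ∣ n →
      ∀ (L : X.Modules)
        (lam : ∀ (V : Y.Opens) (hV : IsAffineOpen V),
          L ⟶ (Scheme.Modules.pushforward (RelProj.emb q chart V hV)).obj (GrTwist.twist (𝒮.deg V hV) n)),
        RelProj.IsRelTwist 𝒮 q chart n L lam →
      ∀ (L' : X.Modules)
        (lam' : ∀ (V : Y.Opens) (hV : IsAffineOpen V),
          L' ⟶ (Scheme.Modules.pushforward (RelProj.emb q chart V hV)).obj (GrTwist.twist (𝒮.deg V hV) (-n))),
        RelProj.IsRelTwist 𝒮 q chart (-n) L' lam' →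
          Nonempty (CohB1.tensorMod (L.restrict U.ι) (L'.restrict U.ι) ≅ Coh.structureModule (U : Scheme.{u})) := by
  classical
  obtain ⟨L₀, lam₀, hL₀⟩ := (RelTilde.Datum.self 𝒮).exists_isTilde hX (0 : ℤ)
  have hpt : ∀ x : X, ∃ (V : Y.Opens) (hV : IsAffineOpen V) (d : ℕ) (f : 𝒮.presheaf.obj (op V))
      (y : ProjectiveSpectrum (𝒮.deg V hV)),
      0 < d ∧ f ∈ 𝒮.deg V hV d ∧ f ∉ y.asHomogeneousIdeal ∧ (RelProj.emb q chart V hV).base y = x :=
    fun x => by
    obtain ⟨V, hV, y, hy⟩ := RelTilde.exists_affine_point (𝒮 := 𝒮) (q := q) (ch := chart) x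
    obtain ⟨d, f, hd, hf, hfy⟩ := RelTilde.exists_pos_homog (𝒮.deg V hV) y
    exact ⟨V, hV, d, f, y, hd, hf, hfy, hy⟩
  choose V hV d f y hd hf hfy hy using hpt
  have hx : ∀ x, x ∈ RelProj.emb q chart (V x) (hV x) ''ᵁ Proj.basicOpen (𝒮.deg (V x) (hV x)) (f x) :=
    fun x => ⟨y x, (ProjectiveSpectrum.mem_basicOpen _ _ _).mpr (hfy x), hy x⟩
  obtain ⟨T, hT⟩ := hU.elim_finite_subcover
    (fun x => (RelProj.emb q chart (V x) (hV x) ''ᵁ Proj.basicOpen (𝒮.deg (V x) (hV x)) (f x) : Set X))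
    (fun x => (RelProj.emb q chart (V x) (hV x) ''ᵁ Proj.basicOpen (𝒮.deg (V x) (hV x)) (f x)).2)
    (fun x _ => Set.mem_iUnion.mpr ⟨x, hx x⟩)
  refine ⟨∏ x ∈ T, d x, Finset.prod_pos fun x _ => hd x, fun n hn L lam hL L' lam' hL' => ?_⟩
  have h := (RelTilde.isRelTwist_iff 𝒮 n L lam).mp hL
  have h' := (RelTilde.isRelTwist_iff 𝒮 (-n) L' lam').mp hL'
  obtain ⟨φ, hφ⟩ := RelTilde.exists_tensorHom hX (add_neg_cancel n) h h' hL₀
  haveI : IsIso ((Scheme.Modules.restrictFunctor U.ι).map φ) := by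
    refine RelTilde.isIso_restrict_map_of_bijective U.ι φ fun z => ?_
    obtain ⟨x, hxT, w, hw, hwz⟩ := Set.mem_iUnion₂.mp (hT z.2)
    have hfw : f x ∉ w.asHomogeneousIdeal := (ProjectiveSpectrum.mem_basicOpen _ _ _).mp hw
    obtain ⟨m, hm⟩ : (d x : ℤ) ∣ n :=
      (Int.natCast_dvd_natCast.mpr (Finset.dvd_prod_of_mem d hxT)).trans hn
    refine RelTilde.exists_bijective_tensorHom (add_neg_cancel n) h hL₀ φ hφ h' (hV x)
      (SetLike.pow_mem_graded (-m).toNat (hf x)) (SetLike.pow_mem_graded m.toNat (hf x)) ?_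
      z.1 hwz (RelTilde.not_mem_pow _ hfw _) (RelTilde.not_mem_pow _ hfw _)
    simp only [smul_eq_mul, Nat.cast_mul, hm]
    conv_rhs => rw [show (m.toNat : ℤ) = (-m).toNat + m by omega]
    ring
  obtain ⟨e₀, he₀⟩ := RelTilde.exists_gen_Xf hL₀ hX (d := 0) (f := 1) (Xf := ⊤) (m := 0)
    (fun W hW => by rw [map_one]; exact SetLike.one_mem_graded _)
    (fun W hW => by
      rw [top_inf_eq, map_one, Proj.basicOpen_one, Scheme.Hom.preimage_top,
        Scheme.Hom.image_top_eq_opensRange, Scheme.Opens.opensRange_ι])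
    (by simp)
  obtain ⟨i₀⟩ := InvGen.nonempty_iso U.ι L₀ le_top e₀ he₀
  obtain ⟨t⟩ := TMul.nonempty_restrictTensorIso U.ι L L'
  exact ⟨t ≪≫ asIso ((Scheme.Modules.restrictFunctor U.ι).map φ) ≪≫ i₀⟩

end Groth.Agent.S8340
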