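import Groth.Statements.S8346
import Groth.Agent.ConsSet.Basic

set_option autoImplicit false
universe u
open ConstrTop

namespace Groth.Agent.S8346

open TopologicalSpace in
/-- Let X be a topological space admitting a basis of open subsets which are retrocompact in X. Then
every locally constructible subset T of X is retrocompact in X. -/
theorem result {X : Type u} [TopologicalSpace X]
    {B : Set (Set X)} (hB : IsTopologicalBasis B) (hBr : ∀ U ∈ B, IsRetrocompact U) {T : Set X}
    (hT : Topology.IsLocallyConstructible T) : IsRetrocompact T := by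
  intro U hUc hUo
  have key : ∀ a : U, ∃ V : Set X, IsOpen V ∧ a.1 ∈ V ∧ V ⊆ U ∧ IsCompact (T ∩ V) := by
    intro a
    obtain ⟨W, hW, hWo, hWT⟩ := hT a.1
    obtain ⟨V, hV, haV, hVWU⟩ := hB.exists_subset_of_mem_open
      (show a.1 ∈ W ∩ U from ⟨mem_of_mem_nhds hW, a.2⟩) (hWo.inter hUo)
    refine ⟨V, hB.isOpen hV, haV, fun y hy => (hVWU hy).2, ?_⟩
    have hVc : IsCompact V := by
      rw [← Set.inter_eq_left.2 (fun y hy => (hVWU hy).2 : V ⊆ U)]
      exact hBr V hV hUc hUo
    have h1 : IsCompact ((Subtype.val : W → X) ⁻¹' V) := by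
      rw [Topology.IsInducing.subtypeVal.isCompact_iff, Subtype.image_preimage_coe,
        Set.inter_eq_right.2 (fun y hy => (hVWU hy).1 : V ⊆ W)]
      exact hVc
    have h2 := (Groth.Agent.ConsSet.isRetrocompact hWT h1 ((hB.isOpen hV).preimage continuous_subtype_val)).image
      continuous_subtype_val
    rwa [← Set.preimage_inter, Subtype.image_preimage_coe,
      Set.inter_eq_right.2 (fun y hy => (hVWU hy.2).1 : T ∩ V ⊆ W)] at h2
  choose V hVo haV hVU hTV using key
  obtain ⟨t, ht⟩ := hUc.elim_finite_subcover V hVo fun a ha => Set.mem_iUnion.2 ⟨⟨a, ha⟩, haV ⟨a, ha⟩⟩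
  have heq : T ∩ U = ⋃ a ∈ t, T ∩ V a := Set.Subset.antisymm
    (fun y hy => by
      obtain ⟨a, ha, hya⟩ := Set.mem_iUnion₂.1 (ht hy.2)
      exact Set.mem_iUnion₂.2 ⟨a, ha, hy.1, hya⟩)
    (Set.iUnion₂_subset fun a _ => Set.inter_subset_inter_right T (hVU a))
  rw [heq]
  exact t.finite_toSet.isCompact_biUnion fun a _ => hTV a

end Groth.Agent.S8346
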