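import Groth.Statements.S8349
import Mathlib

set_option autoImplicit false
universe v u
open CategoryTheory CategoryTheory.Limits
open HomAlg3

namespace Groth.Agent.S8349

/-- Let C be an abelian category in which every object embeds in an injective object, and let A be a
cochain complex of objects of C in degrees 0, 1, 2, .... Then there are a cochain complex Q, with
every Q^i injective, H^i(Q) = 0 for every i ≥ 1 and every cycle inclusion Z^i(Q) ⟶ Q^i (i ≥ 0) a
split monomorphism, and a monomorphism of complexes A ⟶ Q. (The published statement asks Z^i(Q) =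
B^i(Q) for every i ≥ 0; in degree 0, where there is no incoming differential, this makes Z^0(Q) = 0,
and then no complex with nonzero degree-0 cycles, for instance a nonzero object placed in degree 0,
embeds in such a Q, because the degree-0 component of a chain map into Q factors through Z^0(Q).
This row asks vanishing homology in positive degrees only; the published construction, which embeds
each A^i in an injective I^i and takes Q^i = I^i ⊕ I^{i+1}, proves that version once an injective
I^0 containing A^0 is used in degree 0 as well.) -/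
theorem result {C : Type u} [Category.{v} C] [Abelian C]
    [EnoughInjectives C] (A : CochainComplex C ℕ) :
    ∃ (Q : CochainComplex C ℕ) (f : A ⟶ Q), Mono f ∧ (∀ i : ℕ, Injective (Q.X i)) ∧
      (∀ i : ℕ, IsZero (Q.homology (i + 1))) ∧ ∀ i : ℕ, IsSplitMono (Q.iCycles i) := by
  let I : ℕ → C := fun n => Injective.under (A.X n)
  let D : ∀ n, (I n ⊞ I (n + 1)) ⟶ (I (n + 1) ⊞ I (n + 2)) := fun n => biprod.snd ≫ biprod.inl
  have sq : ∀ n, D n ≫ D (n + 1) = 0 := fun n => by simp [D]
  let Q : CochainComplex C ℕ := CochainComplex.of (fun n => I n ⊞ I (n + 1)) D sq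
  have hd : ∀ n, Q.d n (n + 1) = D n := fun n => CochainComplex.of_d (fun n => I n ⊞ I (n + 1)) D n
  let f : A ⟶ Q :=
    { f := fun n => biprod.lift (Injective.ι (A.X n)) (A.d n (n + 1) ≫ Injective.ι (A.X (n + 1)))
      comm' := by
        rintro i _ rfl
        rw [hd]
        apply biprod.hom_ext
        · simp [D]
        · simp [D] }
  have hfst : ∀ i, Q.iCycles i ≫ biprod.snd = 0 := fun i => by
    have h := Q.iCycles_d i (i + 1)
    rw [hd] at h
    simpa [D] using congrArg (fun t => t ≫ (biprod.fst : I (i + 1) ⊞ I (i + 2) ⟶ I (i + 1))) h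
  refine ⟨Q, f, ?_, fun i => ?_, fun i => ?_, fun i => ?_⟩
  · have : ∀ i, Mono (f.f i) := fun i => by
      have : Mono (f.f i ≫ (biprod.fst : I i ⊞ I (i + 1) ⟶ I i)) := by
        simp [f]; infer_instance
      exact mono_of_mono (f.f i) (biprod.fst : I i ⊞ I (i + 1) ⟶ I i)
    exact HomologicalComplex.mono_of_mono_f f this
  · change Injective (I i ⊞ I (i + 1))
    infer_instance
  · rw [← HomologicalComplex.exactAt_iff_isZero_homology,
      HomologicalComplex.exactAt_iff' Q i (i + 1) (i + 1 + 1) (by simp) (by simp),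
      ShortComplex.exact_iff_exact_up_to_refinements]
    intro T x hx
    have key : ∀ (y : T ⟶ I (i + 1) ⊞ I (i + 1 + 1)), y ≫ D (i + 1) = 0 →
        y = (y ≫ biprod.fst ≫ (biprod.inr : I (i + 1) ⟶ I i ⊞ I (i + 1))) ≫ D i := by
      intro y hy
      have h2 : y ≫ biprod.snd = 0 := by
        simpa only [D, Category.assoc, biprod.inl_fst, Category.comp_id, zero_comp] using
          congrArg (fun t => t ≫ (biprod.fst : I (i + 1 + 1) ⊞ I (i + 1 + 2) ⟶ I (i + 1 + 1))) hy
      apply biprod.hom_ext
      · simp [D]
      · simp [D, h2]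
    refine ⟨T, 𝟙 T, inferInstance,
      x ≫ (biprod.fst : I (i + 1) ⊞ I (i + 1 + 1) ⟶ I (i + 1)) ≫ (biprod.inr : _ ⟶ I i ⊞ I (i + 1)), ?_⟩
    change 𝟙 T ≫ x = _ ≫ Q.d i (i + 1)
    rw [Category.id_comp, hd]
    exact key x (by rw [← hd]; exact hx)
  · have hd' : biprod.inl ≫ Q.d i (i + 1) = (0 : I i ⟶ _) := by
      rw [hd]; simp [D]
    refine IsSplitMono.mk' ⟨Q.liftCycles ((biprod.fst : I i ⊞ I (i + 1) ⟶ I i) ≫ biprod.inl) (i + 1)
      (by simp) (by rw [Category.assoc, hd', comp_zero]), ?_⟩
    rw [← cancel_mono (Q.iCycles i), Category.assoc, HomologicalComplex.liftCycles_i, Category.id_comp]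
    apply biprod.hom_ext
    · simp
    · simpa using (hfst i).symm

end Groth.Agent.S8349
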