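import Groth.Statements.S8353
import Mathlib.RingTheory.AdicCompletion.Basic
import Mathlib.RingTheory.Noetherian.Basic
import Mathlib.RingTheory.Finiteness.Basic

set_option autoImplicit false
universe u
open HomAlg3

namespace Groth.Agent.S8353

variable {S : Type u} [CommRing S] (J : Ideal S) [IsAdicComplete J S] {M : Type u} [AddCommGroup M] [Module S M]
  (F : ℕ → Submodule S M)

lemma eq_pow_smul_span {r : ℕ} (t : Fin r → M) (hF : Antitone F) (hJ : ∀ n, J • F n ≤ F (n + 1))
    (hsep : ∀ x, (∀ n, x ∈ F n) → x = 0) (h0 : F 0 = Submodule.span S (Set.range t) ⊔ F 1)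
    (hs : ∀ n, F (n + 1) = J • F n ⊔ F (n + 2)) (n : ℕ) :
    F n = J ^ n • Submodule.span S (Set.range t) := by
  let T := Submodule.span S (Set.range t)
  have hle : ∀ n, J ^ n • T ≤ F n := fun n => by
    induction n with
    | zero => simpa [T, h0] using le_sup_left
    | succ n ih => rw [pow_succ', Submodule.mul_smul]; exact (Submodule.smul_mono le_rfl ih).trans (hJ n)
  have hmod : ∀ n, F n = J ^ n • T ⊔ F (n + 1) := fun n => by
    induction n with
    | zero => simpa [T] using h0
    | succ n ih =>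
      conv_lhs => rw [hs n, ih, Submodule.smul_sup, ← Submodule.mul_smul, ← pow_succ', sup_assoc]
      rw [sup_eq_right.2 (hJ (n + 1))]
  refine le_antisymm (fun x hx => ?_) (hle n)
  -- successive approximation
  have step : ∀ i, ∀ y : F (n + i), ∃ c : Fin r → S, (∀ k, c k ∈ J ^ (n + i)) ∧ (y : M) - ∑ k, c k • t k ∈ F (n + (i + 1)) := by
    intro i y
    obtain ⟨a, ha, b, hb, hab⟩ := Submodule.mem_sup.1 ((hmod (n + i)).le y.2)
    obtain ⟨c, hc, hca⟩ := (Submodule.mem_ideal_smul_span_iff_exists_sum _ t a).1 ha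
    refine ⟨c, hc, ?_⟩
    rw [Finsupp.sum_fintype _ _ (fun k => zero_smul S (t k))] at hca
    rw [hca, ← hab, add_sub_cancel_left]
    exact hb
  choose c hc hrem using step
  let y : (i : ℕ) → F (n + i) := fun i => Nat.rec ⟨x, hx⟩ (fun j yj => ⟨_, hrem j yj⟩) i
  let P : Fin r → ℕ → S := fun k i => ∑ j ∈ Finset.range i, c j (y j) k
  have hy : ∀ i, Subtype.val (y i) = x - ∑ k, P k i • t k := fun i => by
    induction i with
    | zero => change x = _; simp [P]
    | succ i ih =>
      change (y i : M) - ∑ k, c i (y i) k • t k = _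
      simp only [P, Finset.sum_range_succ, add_smul, Finset.sum_add_distrib]
      rw [ih]; simp only [P]; abel
  have hcauchy : ∀ k {a b : ℕ}, a ≤ b → P k a ≡ P k b [SMOD (J ^ a • ⊤ : Submodule S S)] := by
    intro k a b hab
    rw [SModEq.sub_mem, smul_eq_mul, Ideal.mul_top, ← neg_mem_iff, neg_sub]
    simp only [P]
    rw [← Finset.sum_Ico_eq_sub _ hab]
    exact sum_mem fun j hj => Ideal.pow_le_pow_right (by have := (Finset.mem_Ico.1 hj).1; omega) (hc j (y j) k)
  choose C hC using fun k => IsPrecomplete.prec' (P k) (hcauchy k)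
  have hCm : ∀ k i, P k i - C k ∈ J ^ i := fun k i => by
    simpa [SModEq.sub_mem, smul_eq_mul, Ideal.mul_top] using hC k i
  have hCn : ∀ k, C k ∈ J ^ n := fun k => by
    have h1 : P k n ∈ J ^ n := sum_mem fun j _ => Ideal.pow_le_pow_right (Nat.le_add_right n j) (hc j (y j) k)
    simpa using sub_mem h1 (hCm k n)
  have hzero : x - ∑ k, C k • t k = 0 := by
    refine hsep _ fun i => hF (Nat.le_add_left i n) ?_
    have : x - ∑ k, C k • t k = Subtype.val (y (n + i)) + ∑ k, (P k (n + i) - C k) • t k := by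
      rw [hy]; simp only [sub_smul, Finset.sum_sub_distrib]; abel
    rw [this]
    exact add_mem (hF (by omega) (y (n + i)).2) (Submodule.sum_mem _ fun k _ =>
      hle (n + i) (Submodule.smul_mem_smul (hCm k _) (Submodule.subset_span ⟨k, rfl⟩)))
  rw [sub_eq_zero.1 hzero]
  exact Submodule.sum_mem _ fun k _ => Submodule.smul_mem_smul (hCn k) (Submodule.subset_span ⟨k, rfl⟩)

lemma exists_fg_sup {p : Submodule S M} {q : Submodule S M} (h : (Submodule.map q.mkQ p).FG) (hqp : q ≤ p) :
    ∃ (r : ℕ) (t : Fin r → M), p = Submodule.span S (Set.range t) ⊔ q := by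
  obtain ⟨r, g, hg⟩ := Submodule.fg_iff_exists_fin_generating_family.1 h
  have hmem : ∀ k, ∃ a ∈ p, q.mkQ a = g k := fun k => by
    have : g k ∈ Submodule.map q.mkQ p := hg ▸ Submodule.subset_span ⟨k, rfl⟩
    exact Submodule.mem_map.1 this
  choose t ht htg using hmem
  refine ⟨r, t, le_antisymm ?_ (sup_le (Submodule.span_le.2 (Set.range_subset_iff.2 ht)) hqp)⟩
  have h2 : Submodule.map q.mkQ p ≤ Submodule.map q.mkQ (Submodule.span S (Set.range t)) := by
    rw [← hg, Submodule.map_span, ← Set.range_comp]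
    exact le_of_eq (congrArg _ (congrArg _ (funext fun k => (htg k).symm)))
  have h3 := Submodule.map_le_iff_le_comap.1 h2
  rwa [Submodule.comap_map_eq, Submodule.ker_mkQ] at h3

/-- Let S be a Noetherian ring which is separated and complete for the adic topology of an ideal J, and
let M be an S-module with a decreasing filtration (F^p M)_{p ∈ ℤ} by submodules such that F^p M = M
for some p, J·F^p M ⊆ F^{p+1} M for all p, and ⋂_p F^p M = 0. Then the following are equivalent: (a)
M is a finitely generated S-module and J·F^p M = F^{p+1} M for all large p; (c) every F^p M /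
F^{p+1} M is a finitely generated S-module and, for all large p, the map J ⊗ (F^p M/F^{p+1} M) ⟶
F^{p+1} M/F^{p+2} M is surjective, that is F^{p+1} M = J·F^p M + F^{p+2} M. (The published statement
also lists a third equivalent condition, finite generation of the associated graded module over the
associated graded ring; this row states the equivalence of the other two.) -/
theorem result {S : Type u} [CommRing S] [IsNoetherianRing S]
    (J : Ideal S) [IsAdicComplete J S] {M : Type u} [AddCommGroup M] [Module S M]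
    (F : ℤ → Submodule S M) (hF : Antitone F) (hcod : ∃ p₀ : ℤ, F p₀ = ⊤)
    (hJ : ∀ p : ℤ, J • F p ≤ F (p + 1)) (hsep : ⨅ p : ℤ, F p = ⊥) :
    (Module.Finite S M ∧ ∃ p₁ : ℤ, ∀ p : ℤ, p₁ ≤ p → J • F p = F (p + 1)) ↔
      ((∀ p : ℤ, (Submodule.map (F (p + 1)).mkQ (F p)).FG) ∧
        ∃ p₁ : ℤ, ∀ p : ℤ, p₁ ≤ p → F (p + 1) = J • F p ⊔ F (p + 2)) := by
  constructor
  · rintro ⟨hfin, p₁, hp₁⟩
    exact ⟨fun p => (IsNoetherian.noetherian (F p)).map _,
      p₁, fun p hp => by rw [hp₁ p hp, sup_eq_left.2 (hF (by omega))]⟩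
  · rintro ⟨hfg, p₁, hp₁⟩
    obtain ⟨p₀, hp₀⟩ := hcod
    let a : ℤ := max p₀ p₁
    have hsep' : ∀ x, (∀ n : ℕ, x ∈ F (a + n)) → x = 0 := fun x hx => by
      rw [← Submodule.mem_bot S, ← hsep, Submodule.mem_iInf]
      exact fun p => hF (by omega) (hx (p - a).toNat)
    obtain ⟨r, t, ht⟩ := exists_fg_sup (hfg a) (hF (by omega))
    have key := eq_pow_smul_span J (fun n : ℕ => F (a + n)) t (fun i j h => hF (by omega))
      (fun n => by have := hJ (a + n); rwa [add_assoc] at this) hsep' (by simpa using ht)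
      (fun n => by
        have := hp₁ (a + n) (by omega)
        rwa [show a + (n : ℤ) + 1 = a + ((n + 1 : ℕ) : ℤ) by push_cast; ring,
          show a + (n : ℤ) + 2 = a + ((n + 2 : ℕ) : ℤ) by push_cast; ring] at this)
    have hdown : ∀ i : ℕ, (F (a - i)).FG := fun i => by
      induction i with
      | zero =>
        have := key 0
        simp only [Nat.cast_zero, add_zero, pow_zero, Ideal.one_eq_top, Submodule.top_smul] at this
        rw [Nat.cast_zero, sub_zero, this]
        exact Submodule.fg_span (Set.finite_range t)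
      | succ i ih =>
        obtain ⟨r', t', ht'⟩ := exists_fg_sup (hfg (a - (i + 1 : ℕ))) (hF (by omega))
        rw [ht', show a - ((i + 1 : ℕ) : ℤ) + 1 = a - i by push_cast; ring]
        exact (Submodule.fg_span (Set.finite_range t')).sup ih
    refine ⟨⟨?_⟩, a, fun p hp => ?_⟩
    · have h1 := hdown (a - p₀).toNat
      rwa [show a - ((a - p₀).toNat : ℤ) = p₀ by omega, hp₀] at h1
    · obtain ⟨n, rfl⟩ : ∃ n : ℕ, p = a + n := ⟨(p - a).toNat, by omega⟩
      rw [key n, show a + (n : ℤ) + 1 = a + ((n + 1 : ℕ) : ℤ) by push_cast; ring, key (n + 1), ← Submodule.mul_smul, ← pow_succ']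

end Groth.Agent.S8353
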