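import Groth.Statements.S8357
import Mathlib
import Groth.Agent.TanAdd.Basic

set_option autoImplicit false
universe u
open CategoryTheory MonObj AlgebraicGeometry
open LieS

namespace Groth.Agent.S8357

/-- For a group scheme G over a scheme S and an affine S-scheme T = Spec B, the map induced on
Lie(G/S)(T) by the n-th power map of G is multiplication by n; that is, for v in Lie(G/S)(T) and an
integer n, the n-th power of v in the group law inherited from G is the rescaling of v by the image
of n in B. -/
theorem result (S : Scheme.{u}) (G : Over S) [GrpObj G] (B : Type u) [CommRing B]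
    (f : Spec (CommRingCat.of B) ⟶ S) (v : LieS.Lie G B f) (n : ℤ) :
    v ^ n = ((n : B) • v : LieS.Lie G B f) := by
  apply Subtype.ext
  have hv : LieS.zeroSec B f ≫ v.1 = 1 := v.2
  have h1 : LieS.scale B f 1 ≫ v.1 = v.1 := by
    rw [Groth.Agent.TanAdd.scale_eq, one_smul, Groth.Agent.TanAdd.thMap_id]
    exact Category.id_comp _
  have h0 : LieS.scale B f 0 ≫ v.1 = 1 := by
    rw [Groth.Agent.TanAdd.scale_zero, Category.assoc, hv, MonObj.comp_one]
  have hmul := Groth.Agent.TanAdd.mul_scale v.1 hv
  rw [LieS.smul_val, SubgroupClass.coe_zpow]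
  induction n using Int.induction_on with
  | zero => rw [Int.cast_zero, zpow_zero, h0]
  | succ n ih => rw [zpow_add_one, ih, Int.cast_add, Int.cast_one, ← hmul, h1]
  | pred n ih =>
    rw [zpow_sub_one, ih, mul_inv_eq_iff_eq_mul]
    conv_rhs => arg 2; rw [← h1]
    rw [hmul, Int.cast_sub, Int.cast_one, sub_add_cancel]

end Groth.Agent.S8357
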