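import Groth.Statements.S8359
import Groth.Agent.MTBridge.SubEqNil
-- import your own Groth.Agent.* helpers here

set_option autoImplicit false
universe u
open CategoryTheory MonObj AlgebraicGeometry
open Red

namespace Groth.Agent.S8359

/-- Over an affine base S = Spec R with S₀ = Spec (R/I) for a nilpotent ideal I: for a commutative group
M, the diagonalisable group D(M) = Spec R[M] over S, a group scheme X locally of finite presentation
over S and a homomorphism f from D(M) to X, if the base change of f to S₀ is the unit homomorphism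
then f is the unit homomorphism. (The published statement is over an arbitrary base scheme with S₀
defined by a nilpotent quasi-coherent ideal; this row is its case of an affine base.) -/
theorem result (R : Type u) [CommRing R] (I : Ideal R) (hI : IsNilpotent I)
    (M : Type) [AddCommGroup M] (X : Over (Spec (CommRingCat.of R))) [GrpObj X]
    [LocallyOfFinitePresentation X.hom] (f : Red.diag R M ⟶ X) [IsMonHom f]
    (h : (Over.pullback (Spec.map (CommRingCat.ofHom (Ideal.Quotient.mk I)))).map f = 1) :
    f = 1 := by
  obtain ⟨e⟩ := Groth.Agent.MTBridge.nonempty_DS_iso R M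
  have hloc : TwC.Locally (Spec (CommRingCat.of R)) TwC.Topology.fpqc (fun S' g => ∃ (N : Type) (_ : AddCommGroup N),
      Nonempty (Grp.mk (Red.bc g (Red.diag R M)) ≅ Grp.mk (Red.DS S' N))) := by
    refine ⟨_, 𝟙 _, inferInstance, inferInstance, fun V hV => ⟨V, hV.isCompact, by simp⟩, fun s => ⟨⊤, trivial, M, inferInstance, ?_⟩⟩
    exact ⟨Groth.Agent.MTBridge.bcMapIso _ (show Grp.mk (Red.diag R M) ≅ Grp.mk (Red.DS (Spec (CommRingCat.of R)) M) from e.symm) ≪≫
      Groth.Agent.MTBridge.bcDS _ M⟩
  refine Groth.Agent.MTBridge.hom_eq_one I hI hloc f fun Y p a => ?_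
  obtain ⟨ε⟩ : Nonempty ((Over.map (Groth.Agent.MTBridge.qJ I)).obj (Over.mk p.left) ≅ Y) :=
    ⟨Over.isoMk (Iso.refl _) (by simpa using (Over.w p).symm)⟩
  refine (cancel_epi ε.hom).1 (((Over.mapPullbackAdj (Groth.Agent.MTBridge.qJ I)).homEquiv _ X).injective ?_)
  show Groth.Agent.MTBridge.toBC _ _ = Groth.Agent.MTBridge.toBC _ _
  rw [← Category.assoc, Groth.Agent.MTBridge.toBC_comp, h, MonObj.comp_one, MonObj.comp_one]
  rw [← Groth.Agent.MTBridge.fromBC_one (G := X) (X := Over.mk p.left) (Groth.Agent.MTBridge.qJ I),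
    Groth.Agent.MTBridge.toBC_fromBC]

end Groth.Agent.S8359
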