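import Groth.Statements.S8361
import Mathlib
import Groth.Agent.InjEpi.Basic

set_option autoImplicit false
universe u
open CategoryTheory MonObj AlgebraicGeometry
open LieS

set_option backward.isDefEq.respectTransparency false
namespace Groth.Agent.S8361

/-- Uniqueness of the bracket: for a group scheme G over a scheme S and an affine S-scheme T = Spec B:
an element of Lie(G/S)(T) is determined by its pull-back along the coordinate-multiplying map from
the iterated dual numbers over T to the dual numbers over T; in particular the bracket of x and y,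
the element whose pull-back is the commutator of x read in the second dual coordinate with y read in
the first, is unique when it exists. -/
theorem result (S : Scheme.{u}) (G : Over S) [GrpObj G] (B : Type u) [CommRing B]
    (f : Spec (CommRingCat.of B) ⟶ S) (x y z z' : LieS.Lie G B f)
    (h : LieS.IsBracket G B f x y z) (h' : LieS.IsBracket G B f x y z') : z = z' := by
  apply Subtype.ext
  apply Over.OverMorphism.ext
  have e : (LieS.mulMap B f ≫ z.1).left = (LieS.mulMap B f ≫ z'.1).left := by rw [h, h']
  rw [Over.comp_left, Over.comp_left] at e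
  refine Groth.Agent.InjEpi.eq_of_specMap_comp_eq' (CommRingCat.ofHom (R := DualNumber B) (S := LieS.D2 B) (LieS.mulHom B)) ?_ ?_ z.1.left z'.1.left e
  · show Function.Injective (LieS.mulHom B)
    intro w w' hw
    have h1 := congrArg (fun v : LieS.D2 B ↦ v.fst.fst) hw
    have h2 := congrArg (fun v : LieS.D2 B ↦ v.snd.snd) hw
    simp [LieS.mulHom, LieS.dualHom, LieS.toD2, TrivSqZeroExt.algebraMap_eq_inl'] at h1 h2
    exact TrivSqZeroExt.ext h1 h2
  · intro p
    let π : LieS.D2 B →+* B := ((TrivSqZeroExt.fstHom B B B).toRingHom).comp
      (TrivSqZeroExt.fstHom (DualNumber B) (DualNumber B) (DualNumber B)).toRingHom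
    refine ⟨PrimeSpectrum.comap π (PrimeSpectrum.comap (algebraMap B (DualNumber B)) p), ?_⟩
    apply PrimeSpectrum.ext
    ext w
    have h1 : π (LieS.mulHom B w) = w.fst := by
      simp [π, LieS.mulHom, LieS.dualHom, LieS.toD2, TrivSqZeroExt.algebraMap_eq_inl']
    show algebraMap B (DualNumber B) (π (LieS.mulHom B w)) ∈ p.asIdeal ↔ w ∈ p.asIdeal
    rw [h1]
    have hnil : IsNilpotent (w - algebraMap B (DualNumber B) w.fst) := ⟨2, by
      ext <;> simp [pow_two, TrivSqZeroExt.algebraMap_eq_inl']⟩
    have hmem := nilpotent_iff_mem_prime.mp hnil p.asIdeal p.isPrime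
    exact ⟨fun hm ↦ by simpa using p.asIdeal.add_mem hmem hm, fun hm ↦ by simpa using p.asIdeal.sub_mem hm hmem⟩

end Groth.Agent.S8361
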