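import Groth.Statements.S8362
import Mathlib
-- import your own Groth.Agent.* helpers here

set_option autoImplicit false
universe u
open CategoryTheory CategoryTheory.Limits AlgebraicGeometry
open SGA3

namespace Groth.Agent.S8362

theorem bijective_of_sub_mem {R A : Type*} [CommRing R] [CommRing A] (J : Ideal R) (hJ : J * J = ⊥)
    (f : R →+* A) (φ : A →+* A) (hf : φ.comp f = f)
    (h : ∀ a, φ a - a ∈ J.map f) : Function.Bijective φ := by
  have hfix : ∀ z ∈ J.map f, φ z = z := by
    intro z hz
    induction hz using Submodule.span_induction with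
    | mem x hx =>
      obtain ⟨j, _, rfl⟩ := hx
      exact RingHom.congr_fun hf j
    | zero => simp
    | add x y _ _ hx hy => simp [hx, hy]
    | smul c x hx' hx =>
      have h0 : (φ c - c) * x = 0 := by
        have : (φ c - c) * x ∈ J.map f * J.map f := Ideal.mul_mem_mul (h c) hx'
        rwa [← Ideal.map_mul, hJ, Ideal.map_bot, Ideal.mem_bot] at this
      rw [smul_eq_mul, map_mul, hx]
      linear_combination h0
  refine ⟨(injective_iff_map_eq_zero φ).mpr fun a ha => ?_, fun a => ⟨a - (φ a - a), ?_⟩⟩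
  · have := h a
    rw [ha, zero_sub, neg_mem_iff] at this
    rw [← hfix a this, ha]
  · rw [map_sub, hfix _ (h a)]
    ring

theorem isIso_left {R : Type u} [CommRing R] (J : Ideal R) (hJ : J * J = ⊥)
    {X : Scheme.{u}} (p : X ⟶ Spec (CommRingCat.of R)) (v : X ⟶ X) (hv : v ≫ p = p)
    (h : pullback.fst p (Spec.map (CommRingCat.ofHom (Ideal.Quotient.mk J))) ≫ v =
      pullback.fst p (Spec.map (CommRingCat.ofHom (Ideal.Quotient.mk J)))) : IsIso v := by
  let i := Spec.map (CommRingCat.ofHom (Ideal.Quotient.mk J))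
  have : AlgebraicGeometry.Surjective i := ⟨fun x => by
    have hle : J ≤ x.asIdeal := fun j hj => by
      have h0 : j * j = 0 := by
        have := Ideal.mul_mem_mul hj hj
        rwa [hJ, Ideal.mem_bot] at this
      exact (Ideal.IsPrime.mem_or_mem x.2 (show j * j ∈ x.asIdeal by rw [h0]; exact zero_mem _)).elim id id
    have hx : x ∈ Set.range (PrimeSpectrum.comap (Ideal.Quotient.mk J)) := by
      rw [_root_.range_comap_of_surjective _ _ Ideal.Quotient.mk_surjective]
      rw [Ideal.mk_ker]
      exact hle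
    exact hx⟩
  have hid : ∀ x, v x = x := by
    intro x
    obtain ⟨z, rfl⟩ := (pullback.fst p i).surjective x
    rw [← Scheme.Hom.comp_apply, h]
  refine (isIso_iff_isIso_stalkMap v).mpr ⟨?_, fun x => ?_⟩
  · have : v.base = 𝟙 _ := TopCat.hom_ext (ContinuousMap.ext hid)
    rw [this]; infer_instance
  obtain ⟨_, ⟨U, hU, rfl⟩, hxU, -⟩ :=
    X.isBasis_affineOpens.exists_subset_of_mem_open (Set.mem_univ x) isOpen_univ
  have hrange : Set.range ⇑(hU.fromSpec ≫ v) ⊆ Set.range ⇑hU.fromSpec := by
    rintro _ ⟨z, rfl⟩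
    exact ⟨z, by rw [Scheme.Hom.comp_apply, hid]⟩
  obtain ⟨φ, hφ⟩ := Spec.map_surjective (IsOpenImmersion.lift hU.fromSpec (hU.fromSpec ≫ v) hrange)
  have hφv : Spec.map φ ≫ hU.fromSpec = hU.fromSpec ≫ v := by
    rw [hφ, IsOpenImmersion.lift_fac]
  obtain ⟨f, hf⟩ := Spec.map_surjective (hU.fromSpec ≫ p)
  have hfφ : f ≫ φ = f := Spec.map_injective (by
    rw [Spec.map_comp, hf, ← Category.assoc, hφv, Category.assoc, hv])
  let q : Γ(X, U) ⟶ CommRingCat.of (Γ(X, U) ⧸ J.map f.hom) := CommRingCat.ofHom (Ideal.Quotient.mk _)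
  let f0 : CommRingCat.of (R ⧸ J) ⟶ CommRingCat.of (Γ(X, U) ⧸ J.map f.hom) :=
    CommRingCat.ofHom (Ideal.quotientMap _ f.hom Ideal.le_comap_map)
  have hsq : (Spec.map q ≫ hU.fromSpec) ≫ p = Spec.map f0 ≫ i := by
    rw [Category.assoc, ← hf, ← Spec.map_comp, ← Spec.map_comp]
    rfl
  have hq : φ ≫ q = q := Spec.map_injective (by
    rw [← cancel_mono hU.fromSpec, Spec.map_comp, Category.assoc, hφv,
      ← Category.assoc]
    calc (Spec.map q ≫ hU.fromSpec) ≫ v
        = pullback.lift _ _ hsq ≫ pullback.fst p i ≫ v := by rw [pullback.lift_fst_assoc]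
      _ = pullback.lift _ _ hsq ≫ pullback.fst p i := by rw [h]
      _ = Spec.map q ≫ hU.fromSpec := pullback.lift_fst _ _ _)
  have hb : Function.Bijective φ.hom := bijective_of_sub_mem J hJ f.hom φ.hom
    (congr($(hfφ).hom)) fun a => Ideal.Quotient.eq.mp (RingHom.congr_fun (congr($(hq).hom)) a)
  have : IsIso φ := (ConcreteCategory.isIso_iff_bijective φ).mpr hb
  have : IsOpenImmersion (hU.fromSpec ≫ v) := hφv ▸ inferInstance
  obtain ⟨z, hz⟩ : x ∈ Set.range hU.fromSpec := by rw [hU.range_fromSpec]; exact hxU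
  subst hz
  have : IsIso ((hU.fromSpec ≫ v).stalkMap z) := inferInstance
  rw [Scheme.Hom.stalkMap_comp] at this
  have : IsIso (v.stalkMap (hU.fromSpec z) ≫ hU.fromSpec.stalkMap z) := this
  exact IsIso.of_isIso_comp_right (v.stalkMap (hU.fromSpec z)) (hU.fromSpec.stalkMap z)

/-- Over an affine base S = Spec R with S₀ = Spec (R/J) for an ideal J of square zero: for an arbitrary
S-scheme X, every S-endomorphism of X inducing the identity on X ×_S S₀ is an automorphism. (The
published statement is over an arbitrary base scheme with a quasi-coherent ideal of square zero;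
this row is its case of an affine base, to which it reduces since being an isomorphism is local on
the base.) -/
theorem result (R : Type u) [CommRing R] (J : Ideal R) (hJ : J * J = ⊥)
    (X : Over (Spec (CommRingCat.of R))) (u : X ⟶ X)
    (h : (Over.pullback (Spec.map (CommRingCat.ofHom (Ideal.Quotient.mk J)))).map u = 𝟙 _) :
    IsIso u := by
  have h' := congr($(h).left ≫ pullback.fst X.hom (Spec.map (CommRingCat.ofHom (Ideal.Quotient.mk J))))
  simp only [Over.pullback_map_left, Over.id_left, pullback.lift_fst, Category.id_comp] at h'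
  have : IsIso u.left := isIso_left J hJ X.hom u.left (Over.w u) (by
    exact h')
  have : IsIso ((Over.forget _).map u) := this
  exact isIso_of_reflects_iso u (Over.forget _)

end Groth.Agent.S8362
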