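import Groth.Statements.S8364
import Mathlib

set_option autoImplicit false
universe u
open SGA3

namespace Groth.Agent.S8364

/-- For a commutative ring R, an ideal J of R of square zero, a smooth R-algebra A and the extended
ideal I = J·A, every R-algebra automorphism of A/I lifts to an R-algebra automorphism of A. (The
published statement concerns the automorphism functor of a smooth affine S-scheme E and affine test
schemes Y; this row is the case Y = S = Spec R, E = Spec A, which gives the general one after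
replacing R by the ring of Y.) -/
theorem result (R A : Type u) [CommRing R] [CommRing A] [Algebra R A]
    [Algebra.Smooth R A] (J : Ideal R) (hJ : J * J = ⊥)
    (φ₀ : (A ⧸ Ideal.map (algebraMap R A) J) ≃ₐ[R] (A ⧸ Ideal.map (algebraMap R A) J)) :
    ∃ φ : A ≃ₐ[R] A,
      (Ideal.Quotient.mkₐ R (Ideal.map (algebraMap R A) J)).comp φ.toAlgHom =
        φ₀.toAlgHom.comp (Ideal.Quotient.mkₐ R (Ideal.map (algebraMap R A) J)) := by
  let I := Ideal.map (algebraMap R A) J
  have hI : I = Ideal.map (algebraMap R A) J := rfl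
  have hI2 : I ^ 2 = ⊥ := by rw [hI, ← Ideal.map_pow, pow_two, hJ, Ideal.map_bot]
  obtain ⟨φ, hφ⟩ := Algebra.FormallySmooth.exists_lift I ⟨2, hI2⟩
    (φ₀.toAlgHom.comp (Ideal.Quotient.mkₐ R I))
  obtain ⟨ψ, hψ⟩ := Algebra.FormallySmooth.exists_lift I ⟨2, hI2⟩
    (φ₀.symm.toAlgHom.comp (Ideal.Quotient.mkₐ R I))
  have hφ' : ∀ x, Ideal.Quotient.mk I (φ x) = φ₀ (Ideal.Quotient.mk I x) := fun x => AlgHom.congr_fun hφ x
  have hψ' : ∀ x, Ideal.Quotient.mk I (ψ x) = φ₀.symm (Ideal.Quotient.mk I x) := fun x => AlgHom.congr_fun hψ x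
  have hbij : ∀ g : A →ₐ[R] A, (∀ x, Ideal.Quotient.mk I (g x) = Ideal.Quotient.mk I x) → Function.Bijective g := by
    intro g hg
    have hmem : ∀ x, g x - x ∈ I := fun x => Ideal.Quotient.eq.1 (hg x)
    have hfix : ∀ x ∈ I, g x = x := by
      intro x hx
      rw [hI, ← Submodule.restrictScalars_mem R, ← Ideal.smul_top_eq_map] at hx
      refine Submodule.smul_induction_on hx (fun r hr a _ => ?_) fun a b ha hb => by rw [map_add, ha, hb]
      rw [← sub_eq_zero, map_smul, ← smul_sub]
      have : r • (g a - a) ∈ I ^ 2 := by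
        rw [Algebra.smul_def, pow_two]
        exact Ideal.mul_mem_mul (Ideal.mem_map_of_mem _ hr) (hmem a)
      rw [hI2] at this
      exact this
    refine ⟨fun x y hxy => ?_, fun y => ⟨y - (g y - y), ?_⟩⟩
    · have hd : x - y ∈ I := Ideal.Quotient.eq.1 (by rw [← hg x, ← hg y, hxy])
      have := hfix _ hd
      rw [map_sub, hxy, sub_self] at this
      exact sub_eq_zero.1 this.symm
    · rw [map_sub, hfix _ (hmem y), sub_sub_cancel]
  have h1 := hbij (φ.comp ψ) fun x => by simp [hφ', hψ']
  have h2 := hbij (ψ.comp φ) fun x => by simp [hφ', hψ']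
  have hb : Function.Bijective φ :=
    ⟨fun x y hxy => h2.1 (congrArg ψ hxy), fun y => ⟨ψ (h1.2 y).choose, (h1.2 y).choose_spec⟩⟩
  exact ⟨AlgEquiv.ofBijective φ hb, AlgHom.ext fun x => hφ' x⟩

end Groth.Agent.S8364
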