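import Groth.Statements.S8365
import Mathlib
import Groth.Agent.TanAdd.Basic

set_option autoImplicit false
universe u
open CategoryTheory MonObj AlgebraicGeometry
open LieS

namespace Groth.Agent.S8365

/-- For a monoid scheme X over a scheme S (an associative unital monoid object in S-schemes) and an
affine S-scheme T = Spec B, a point of X with values in the dual numbers over T is invertible if and
only if its restriction along the zero section ε = 0 is invertible in X(T); in particular every such
point restricting to the unit section is invertible. (The published statement is for monoid-valued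
functors satisfying a tangent-space exactness condition, which every representable functor
satisfies, and its special case where the restriction is the unit section allows unital composition
laws that need not be associative; this row treats monoid schemes only.) -/
theorem result (S : Scheme.{u}) (X : Over S) [MonObj X] (B : Type u) [CommRing B]
    (f : Spec (CommRingCat.of B) ⟶ S) (v : LieS.dpt B f ⟶ X) :
    IsUnit v ↔ IsUnit (LieS.zeroSec B f ≫ v) := by
  constructor
  · rintro ⟨⟨a, b, hab, hba⟩, rfl⟩
    exact ⟨⟨LieS.zeroSec B f ≫ a, LieS.zeroSec B f ≫ b, by rw [← MonObj.comp_mul, hab, MonObj.comp_one],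
      by rw [← MonObj.comp_mul, hba, MonObj.comp_one]⟩, rfl⟩
  · intro h
    obtain ⟨w, hw⟩ := h
    let p := LieS.proj B f
    have hp : IsUnit (p ≫ LieS.zeroSec B f ≫ v) := by
      refine ⟨⟨p ≫ (w : _ ⟶ X), p ≫ ((w⁻¹ : Units _) : _ ⟶ X), ?_, ?_⟩, by rw [← hw]⟩
      · rw [← MonObj.comp_mul, Units.mul_inv, MonObj.comp_one]
      · rw [← MonObj.comp_mul, Units.inv_mul, MonObj.comp_one]
    let v' := v * (p ≫ ((w⁻¹ : Units _) : _ ⟶ X))
    have hv' : LieS.zeroSec B f ≫ v' = 1 := by
      rw [MonObj.comp_mul, ← Category.assoc _ p, LieS.zeroSec_proj, Category.id_comp, ← hw, Units.mul_inv]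
    have h1 : LieS.scale B f 1 = 𝟙 _ := by
      rw [Groth.Agent.TanAdd.scale_eq, one_smul, Groth.Agent.TanAdd.thMap_id]; rfl
    have h0 : LieS.scale B f 0 ≫ v' = 1 := by
      rw [Groth.Agent.TanAdd.scale_zero, Category.assoc, hv', MonObj.comp_one]
    have m1 := Groth.Agent.TanAdd.mul_scale v' hv' 1 (-1)
    have m2 := Groth.Agent.TanAdd.mul_scale v' hv' (-1) 1
    rw [h1, Category.id_comp, add_neg_cancel, h0] at m1
    rw [h1, Category.id_comp, neg_add_cancel, h0] at m2
    have hv : v = v' * (p ≫ LieS.zeroSec B f ≫ v) := by
      rw [_root_.mul_assoc, ← MonObj.comp_mul, ← hw, Units.inv_mul, MonObj.comp_one, _root_.mul_one]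
    rw [hv]
    exact (IsUnit.mul ⟨⟨v', _, m1, m2⟩, rfl⟩ hp)

end Groth.Agent.S8365
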