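import Groth.Statements.S8368
import Groth.Agent.KoszulLib.Iff
import Groth.Agent.LocalCrit.Basic
import Groth.Agent.FlatLift.Torsor
import Mathlib

set_option autoImplicit false
universe u
open SGA3

namespace Groth.Agent.S8368


open Groth.Agent.Wiebe Groth.Agent.KoszulLib Groth.Agent.LocalCrit
open scoped TensorProduct

section Deg

variable {R : Type u} [CommRing R]

/-- the number of chosen generators -/
def deg {n : ℕ} (s : Fin n → Bool) : ℕ := ∑ i, bif s i then 1 else 0

/-- the homogeneous component -/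
def pr (k : ℕ) {n : ℕ} (z : X R n) : X R n := fun s => if deg s = k then z s else 0

lemma pr_add (k : ℕ) {n : ℕ} (a b : X R n) : pr k (a + b) = pr k a + pr k b := by
  funext s; by_cases h : deg s = k <;> simp [pr, h]

lemma pr_smul {S : Type u} [CommRing S] [Algebra S R] (k : ℕ) {n : ℕ} (c : S) (a : X R n) :
    pr k (c • a) = c • pr k a := by
  funext s; by_cases h : deg s = k <;> simp [pr, h]

lemma pr_sum (k : ℕ) {n : ℕ} {ι : Type*} (t : Finset ι) (a : ι → X R n) :
    pr k (∑ i ∈ t, a i) = ∑ i ∈ t, pr k (a i) :=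
  map_sum (AddMonoidHom.mk' (pr (R := R) k (n := n)) (pr_add k)) a t

lemma pr_pr (k : ℕ) {n : ℕ} (a : X R n) : pr k (pr k a) = pr k a := by
  funext s; by_cases h : deg s = k <;> simp [pr, h]

lemma pr_zero (k : ℕ) {n : ℕ} : pr k (0 : X R n) = 0 := by
  funext s; simp [pr]

lemma sum_pr {n : ℕ} (z : X R n) : ∑ k ∈ Finset.range (n + 1), pr k z = z := by
  funext s
  rw [Finset.sum_apply]
  have hs : deg s ≤ n := by
    refine (Finset.sum_le_sum (fun i _ => ?_)).trans_eq (by simp : (∑ _i : Fin n, 1) = n)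
    cases s i <;> simp
  simp [pr, Finset.mem_range, Nat.lt_succ_iff, hs]

lemma p0_pr (k : ℕ) {n : ℕ} (z : X R (n + 1)) : p0 (pr k z) = pr k (p0 z) := by
  funext s; simp [p0, pr, deg, LinearMap.funLeft_apply, Fin.sum_univ_succ]
  all_goals congr

lemma p1_pr_succ (k : ℕ) {n : ℕ} (z : X R (n + 1)) : p1 (pr (k + 1) z) = pr k (p1 z) := by
  funext s; simp [p1, pr, deg, LinearMap.funLeft_apply, Fin.sum_univ_succ, add_comm 1]
  all_goals congr

lemma p1_pr_zero {n : ℕ} (z : X R (n + 1)) : p1 (pr 0 z) = 0 := by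
  funext s; simp [p1, pr, deg, LinearMap.funLeft_apply, Fin.sum_univ_succ]

lemma d_pr_aux : ∀ {n : ℕ} (f : Fin n → R) (z : X R n),
    d f (pr 0 z) = 0 ∧ ∀ k, d f (pr (k + 1) z) = pr k (d f z) := by
  intro n
  induction n with
  | zero => intro f z; exact ⟨by simp [d], fun k => by simp [d, pr_zero]⟩
  | succ n ih =>
    intro f z
    refine ⟨Wiebe.ext' ?_ ?_, fun k => Wiebe.ext' ?_ ?_⟩
    · simp [p0_d, p0_pr, p1_pr_zero, (ih _ _).1]
    · simp [p1_d, p1_pr_zero]
    · rw [p0_d, p0_pr, p1_pr_succ, (ih _ _).2, p0_pr, p0_d, pr_add, pr_smul]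
    · cases k with
      | zero => rw [p1_d, p1_pr_succ, (ih _ _).1, neg_zero, p1_pr_zero]
      | succ k =>
        rw [p1_d, p1_pr_succ, (ih _ _).2, p1_pr_succ, p1_d,
          show (-d (Fin.tail f) (p1 z)) = (-1 : R) • d (Fin.tail f) (p1 z) by simp, pr_smul]
        simp

lemma d_pr_zero {n : ℕ} (f : Fin n → R) (z : X R n) : d f (pr 0 z) = 0 := (d_pr_aux f z).1
lemma d_pr_succ {n : ℕ} (f : Fin n → R) (z : X R n) (k : ℕ) : d f (pr (k + 1) z) = pr k (d f z) :=
  (d_pr_aux f z).2 k

lemma pr_succ_bot (k : ℕ) : ∀ n : ℕ, pr (k + 1) (bot R n) = 0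
  | 0 => by funext s; simp [pr, deg]
  | n + 1 => by
    apply Wiebe.ext'
    · simp [bot, p0_pr, pr_succ_bot k n]
    · simp [bot, p1_pr_succ, pr_zero]

lemma pr_zero_eq : ∀ {n : ℕ} (z : X R n), pr 0 z = eps z • bot R n := by
  intro n
  induction n with
  | zero => intro z; funext s; simp [pr, deg, eps, bot, Subsingleton.elim s Fin.elim0]
  | succ n ih =>
    intro z
    apply Wiebe.ext'
    · simp [bot, p0_pr, ih, eps]
    · simp [bot, p1_pr_zero]

lemma mapX_pr {S : Type u} [CommRing S] (φ : R →+* S) (k : ℕ) {n : ℕ} (z : X R n) :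
    mapX φ (pr k z) = pr k (mapX φ z) := by
  funext s; by_cases h : deg s = k <;> simp [mapX, pr, h]

end Deg

/-- equational flatness for finitely many relations -/
lemma exists_factor {R M : Type u} [CommRing R] [AddCommGroup M] [Module R M] [Module.Flat R M]
    {L P : ℕ} (a : Fin L → Fin P → R) (c : Fin P → M) (h : ∀ l, ∑ m, a l m • c m = 0) :
    ∃ (N : ℕ) (b : Fin P → Fin N → R) (g : Fin N → M),
      (∀ m, c m = ∑ q, b m q • g q) ∧ ∀ l q, ∑ m, a l m * b m q = 0 := by
  classical
  let f := Fintype.linearCombination R a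
  let x := Fintype.linearCombination R c
  have hxf : x ∘ₗ f = 0 := by
    apply LinearMap.pi_ext'
    intro l
    apply LinearMap.ext_ring
    simpa [f, x, Fintype.linearCombination_apply_single, Fintype.linearCombination_apply] using h l
  obtain ⟨N, α, y, hy, hα⟩ := Module.Flat.exists_factorization_of_comp_eq_zero_of_free hxf
  refine ⟨N, fun m q => α (Pi.single m 1) q, fun q => y (Finsupp.single q 1), fun m => ?_, fun l q => ?_⟩
  · have : c m = y (α (Pi.single m 1)) := by
      rw [← LinearMap.comp_apply, ← hy]; simp [x, Fintype.linearCombination_apply_single]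
    rw [this]
    conv_lhs => rw [← Finsupp.univ_sum_single (α (Pi.single m 1))]
    rw [map_sum]
    refine Finset.sum_congr rfl fun q _ => ?_
    rw [← map_smul, Finsupp.smul_single, smul_eq_mul, mul_one]
  · have h1 : α (a l) = 0 := by
      have := LinearMap.congr_fun hα (Pi.single l 1)
      simpa [f, Fintype.linearCombination_apply_single] using this
    rw [pi_eq_sum_univ' (a l), map_sum] at h1
    simpa using congrArg (fun v : Fin N →₀ R => v q) h1

section Pure

variable {R₀ B₀ : Type u} [CommRing R₀] [CommRing B₀] [Algebra R₀ B₀] {n : ℕ} (f : Fin n → B₀)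

lemma d_sum_smul {N : ℕ} (b : Fin N → R₀) (z : Fin N → X B₀ n) :
    d f (∑ q, b q • z q) = ∑ q, b q • d f (z q) := by
  simp [map_sum, LinearMap.map_smul_of_tower]

/-- relations among boundaries come from relations among chains -/
lemma pure_bdry [Module.Flat R₀ B₀] [Module.Flat R₀ (B₀ ⧸ Ideal.span (Set.range f))] (hf : Acyclic f) :
    ∀ (k L P : ℕ) (a : Fin L → Fin P → R₀) (c : Fin P → X B₀ n), (∀ m, pr k (c m) = c m) →
      (∀ l, ∃ v, ∑ m, a l m • c m = d f v) →
      ∃ w : Fin P → X B₀ n, ∀ l, ∑ m, a l m • c m = ∑ m, a l m • d f (w m) := by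
  classical
  intro k
  have : Module.Flat R₀ (X B₀ n) :=
    Module.Flat.of_linearEquiv (DFinsupp.linearEquivFunOnFintype (R := R₀) (M := fun _ : Fin n → Bool => B₀)).symm
  induction k with
  | zero =>
    intro L P a c hc hv
    let I := Ideal.span (Set.range f)
    have hI : ∀ l, ∑ m, a l m • Ideal.Quotient.mk I (eps (c m)) = 0 := by
      intro l
      obtain ⟨v, hv⟩ := hv l
      have h := congrArg eps hv
      rw [map_sum] at h
      simp only [LinearMap.map_smul_of_tower] at h
      have h2 : Ideal.Quotient.mk I (eps (d f v)) = 0 :=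
        Ideal.Quotient.eq_zero_iff_mem.2 (eps_mem _ _ (d_mem f v))
      rw [← h, ← Ideal.Quotient.mkₐ_eq_mk R₀, map_sum] at h2
      simpa using h2
    obtain ⟨N, b, g, hg, hab⟩ := exists_factor a (fun m => Ideal.Quotient.mk I (eps (c m))) hI
    choose g' hg' using fun q => Ideal.Quotient.mk_surjective (g q)
    have hmem : ∀ m, eps (c m) - ∑ q, b m q • g' q ∈ I := by
      intro m
      rw [← Ideal.Quotient.eq_zero_iff_mem, ← Ideal.Quotient.mkₐ_eq_mk R₀, map_sub, map_sum]
      simp only [map_smul, Ideal.Quotient.mkₐ_eq_mk, hg', hg m, sub_self]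
    choose e he using fun m => Ideal.mem_span_range_iff_exists_fun.1 (hmem m)
    refine ⟨fun m => w (e m) (bot B₀ n), fun l => ?_⟩
    have hd : ∀ m, d f (w (e m) (bot B₀ n)) = (eps (c m) - ∑ q, b m q • g' q) • bot B₀ n := by
      intro m
      have := d_w f (e m) (bot B₀ n)
      rw [d_bot, map_zero, add_zero, he] at this
      exact this
    have h0 : ∑ m, a l m • ∑ q, b m q • g' q = 0 := by
      simp only [Finset.smul_sum, smul_smul]
      rw [Finset.sum_comm]
      simp only [← Finset.sum_smul, hab, zero_smul, Finset.sum_const_zero]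
    simp only [hd, sub_smul, smul_sub, Finset.sum_sub_distrib]
    have : ∑ m, a l m • (∑ q, b m q • g' q) • bot B₀ n = 0 := by
      simp only [← smul_assoc, ← Finset.sum_smul, h0, zero_smul]
    rw [this, sub_zero]
    refine Finset.sum_congr rfl fun m _ => ?_
    rw [← pr_zero_eq, hc]
  | succ k ih =>
    intro L P a c hc hv
    have h0 : ∀ l, ∑ m, a l m • d f (c m) = 0 := by
      intro l
      obtain ⟨v, hv⟩ := hv l
      rw [← d_sum_smul, hv, d_d]
    obtain ⟨N, b, g, hg, hab⟩ := exists_factor a (fun m => d f (c m)) h0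
    have hg' : ∀ m, d f (c m) = ∑ q, b m q • pr k (g q) := by
      intro m
      rw [← hc m, d_pr_succ, hg, pr_sum]
      simp [pr_smul]
    obtain ⟨w, hw⟩ := ih P N b (fun q => pr k (g q)) (fun q => pr_pr k _) (fun m => ⟨c m, (hg' m).symm⟩)
    have hcyc : ∀ m, d f (c m - ∑ q, b m q • pr (k + 1) (w q)) = 0 := by
      intro m
      rw [map_sub, d_sum_smul, hg', hw]
      have hpr : ∑ q, b m q • d f (w q) = ∑ q, b m q • d f (pr (k + 1) (w q)) := by
        have h1 := congrArg (pr k) (hw m)
        simp only [pr_sum, pr_smul, pr_pr] at h1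
        simp only [d_pr_succ, ← h1, hw]
      rw [hpr, sub_self]
    choose v r hvr using fun m => hf _ (hcyc m)
    refine ⟨fun m => pr (k + 2) (v m), fun l => ?_⟩
    have hd : ∀ m, d f (pr (k + 2) (v m)) = c m - ∑ q, b m q • pr (k + 1) (w q) := by
      intro m
      have h1 := congrArg (pr (k + 1)) (hvr m)
      rw [pr_add, pr_smul, pr_succ_bot, smul_zero, add_zero,
        show c m - ∑ q, b m q • pr (k + 1) (w q) = c m + (-1 : R₀) • ∑ q, b m q • pr (k + 1) (w q) by
          simp [sub_eq_add_neg], pr_add, pr_smul, pr_sum, hc] at h1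
      simp only [pr_smul, pr_pr] at h1
      rw [d_pr_succ, ← h1]
      simp [sub_eq_add_neg]
    simp only [hd, smul_sub, Finset.sum_sub_distrib]
    suffices ∑ m, a l m • ∑ q, b m q • pr (k + 1) (w q) = 0 by rw [this, sub_zero]
    simp only [Finset.smul_sum, smul_smul]
    rw [Finset.sum_comm]
    simp only [← Finset.sum_smul, hab, zero_smul, Finset.sum_const_zero]

end Pure

lemma exists_sum_of_mem_smul {A M : Type u} [CommRing A] [AddCommGroup M] [Module A M] (J : Ideal A)
    {x : M} (hx : x ∈ J • (⊤ : Submodule A M)) :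
    ∃ (L : ℕ) (j : Fin L → A) (y : Fin L → M), (∀ l, j l ∈ J) ∧ x = ∑ l, j l • y l := by
  refine Submodule.smul_induction_on hx (fun r hr m _ => ⟨1, fun _ => r, fun _ => m, fun _ => hr, by simp⟩) ?_
  rintro _ _ ⟨L, j, y, hj, rfl⟩ ⟨L', j', y', hj', rfl⟩
  refine ⟨L + L', Fin.append j j', Fin.append y y', ?_, by rw [Fin.sum_univ_add]; simp⟩
  intro l
  refine Fin.addCases (fun i => ?_) (fun i => ?_) l <;> simp [hj, hj']

lemma flat_baseChange_quot {A : Type u} [CommRing A] (J : Ideal A) {N N' : Type u} [AddCommGroup N]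
    [Module A N] [AddCommGroup N'] [Module A N'] [Module (A ⧸ J) N'] [IsScalarTower A (A ⧸ J) N']
    (π : N →ₗ[A] N') (hπ : Function.Surjective π) (hker : LinearMap.ker π = J • ⊤) :
    Nonempty (((A ⧸ J) ⊗[A] N) ≃ₗ[A ⧸ J] N') := by
  have h : ∀ x, π.liftBaseChange (A ⧸ J) ((1 : A ⧸ J) ⊗ₜ x) = π x := fun x => by simp
  refine ⟨LinearEquiv.ofBijective (π.liftBaseChange (A ⧸ J)) ⟨?_, fun y => ?_⟩⟩
  · refine (injective_iff_map_eq_zero _).2 fun z hz => ?_
    obtain ⟨x, rfl⟩ := exists_one_tmul J z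
    rw [h, ← LinearMap.mem_ker, hker] at hz
    exact (one_tmul_eq_zero_iff J x).2 hz
  · obtain ⟨x, rfl⟩ := hπ y
    exact ⟨_, h x⟩

set_option maxHeartbeats 800000 in
theorem main (A B : Type u) [CommRing A] [CommRing B] [Algebra A B]
    [Module.Flat A B] (J : Ideal A) (hJ : J * J = ⊥) {n : ℕ} (f : Fin n → B)
    (hreg : Acyclic (Ideal.Quotient.mk (Ideal.map (algebraMap A B) J) ∘ f))
    (hflat : Module.Flat (A ⧸ J) ((B ⧸ Ideal.map (algebraMap A B) J) ⧸
      Ideal.span (Set.range (Ideal.Quotient.mk (Ideal.map (algebraMap A B) J) ∘ f)))) :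
    Acyclic f ∧ Module.Flat A (B ⧸ Ideal.span (Set.range f)) := by
  classical
  let 𝔧 : Ideal B := Ideal.map (algebraMap A B) J
  let π : B →ₐ[A] B ⧸ 𝔧 := Ideal.Quotient.mkₐ A 𝔧
  let fb : Fin n → B ⧸ 𝔧 := Ideal.Quotient.mk 𝔧 ∘ f
  let I : Ideal B := Ideal.span (Set.range f)
  let Ib : Ideal (B ⧸ 𝔧) := Ideal.span (Set.range fb)
  have hj : ∀ {x : B}, x ∈ 𝔧 ↔ x ∈ J • (⊤ : Submodule A B) := fun {x} => by
    rw [Ideal.smul_top_eq_map]; rfl
  have hπ : Function.Surjective π := Ideal.Quotient.mk_surjective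
  have hπker : LinearMap.ker π.toLinearMap = J • (⊤ : Submodule A B) := by
    ext x; rw [← hj, LinearMap.mem_ker]; exact Ideal.Quotient.eq_zero_iff_mem
  have : Module.Flat (A ⧸ J) (B ⧸ 𝔧) :=
    let ⟨e⟩ := flat_baseChange_quot J π.toLinearMap hπ hπker
    Module.Flat.of_linearEquiv e.symm
  -- the quotient is flat
  have hQ : Module.Flat A (B ⧸ I) := by
    let ρ : (B ⧸ I) →ₐ[A] (B ⧸ 𝔧) ⧸ Ib := Ideal.Quotient.liftₐ I ((Ideal.Quotient.mkₐ A Ib).comp π) (by
      have hle : I ≤ Ib.comap (Ideal.Quotient.mk 𝔧) := by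
        rw [Ideal.span_le]; rintro _ ⟨i, rfl⟩; exact Ideal.subset_span ⟨i, rfl⟩
      exact fun a ha => Ideal.Quotient.eq_zero_iff_mem.2 (hle ha))
    have hρ : Function.Surjective ρ := fun y => by
      obtain ⟨y, rfl⟩ := Ideal.Quotient.mk_surjective y
      obtain ⟨x, rfl⟩ := hπ y
      exact ⟨Ideal.Quotient.mk I x, rfl⟩
    have hρker : LinearMap.ker ρ.toLinearMap = J • (⊤ : Submodule A (B ⧸ I)) := by
      apply le_antisymm
      · intro q hq
        obtain ⟨x, rfl⟩ := Ideal.Quotient.mk_surjective q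
        have h0 : π x ∈ Ib := Ideal.Quotient.eq_zero_iff_mem.1 hq
        rw [show Ib = I.map (Ideal.Quotient.mk 𝔧) by
          rw [Ideal.map_span, ← Set.range_comp]] at h0
        obtain ⟨i, hi, hxi⟩ := (Ideal.mem_map_iff_of_surjective _ Ideal.Quotient.mk_surjective).1 h0
        have h1 : x - i ∈ J • (⊤ : Submodule A B) := hj.1 (Ideal.Quotient.eq.1 hxi.symm)
        have h2 := Submodule.mem_map_of_mem (f := (Ideal.Quotient.mkₐ A I).toLinearMap) h1
        rw [Submodule.map_smul''] at h2
        have h3 : Ideal.Quotient.mk I (x - i) = Ideal.Quotient.mk I x := by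
          rw [map_sub, Ideal.Quotient.eq_zero_iff_mem.2 hi, sub_zero]
        rw [← h3]
        exact Submodule.smul_mono le_rfl le_top h2
      · refine Submodule.smul_le.2 fun j hj' q _ => ?_
        obtain ⟨x, rfl⟩ := Ideal.Quotient.mk_surjective q
        rw [LinearMap.mem_ker, map_smul]
        change j • Ideal.Quotient.mk Ib (π x) = 0
        rw [← Ideal.Quotient.mkₐ_eq_mk A, ← map_smul, ← map_smul]
        rw [show π (j • x) = 0 from Ideal.Quotient.eq_zero_iff_mem.2
          (hj.2 (Submodule.smul_mem_smul hj' trivial)), map_zero]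
    obtain ⟨e⟩ := flat_baseChange_quot J ρ.toLinearMap hρ hρker
    refine FlatLift.flat_of_sq_zero J hJ ?_ (Module.Flat.of_linearEquiv e)
    suffices Function.Injective (mulMap J (B ⧸ I)) from fun a b hab =>
      this (congrArg (TensorProduct.lid A (B ⧸ I)) hab)
    refine (injective_iff_map_eq_zero _).2 fun z hz => ?_
    let q : B →ₗ[A] B ⧸ I := (Ideal.Quotient.mkₐ A I).toLinearMap
    obtain ⟨y, rfl⟩ := LinearMap.lTensor_surjective J (g := q) Ideal.Quotient.mk_surjective z
    rw [mulMap_lTensor] at hz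
    have hxI : mulMap J B y ∈ I := Ideal.Quotient.eq_zero_iff_mem.1 hz
    have hx𝔧 := mulMap_mem (N := B) J y
    obtain ⟨g, hg⟩ := Ideal.mem_span_range_iff_exists_fun.1 hxI
    -- relations modulo `J` are trivial
    have hrel : ∑ i, Ideal.Quotient.mk 𝔧 (g i) * fb i = 0 := by
      simp only [fb, Function.comp, ← map_mul, ← map_sum, hg]
      exact Ideal.Quotient.eq_zero_iff_mem.2 (hj.2 hx𝔧)
    have htriv := isH1Regular_of_acyclic hreg _ hrel
    let Φ : (Fin n → B) →+ (Fin n → B ⧸ 𝔧) :=
      { toFun := fun v i => Ideal.Quotient.mk 𝔧 (v i)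
        map_zero' := by funext i; simp
        map_add' := fun a b => by funext i; simp }
    obtain ⟨t, ht, htg⟩ : ∃ t : Fin n → B, ∑ i, t i * f i = 0 ∧ Φ t = Φ g := by
      suffices ∀ v ∈ trivRel fb, ∃ t : Fin n → B, ∑ i, t i * f i = 0 ∧ Φ t = v from this _ htriv
      intro v hv
      induction hv using Submodule.span_induction with
      | mem v hv =>
        obtain ⟨i, j, rfl⟩ := hv
        refine ⟨Pi.single i (f j) - Pi.single j (f i), ?_, ?_⟩
        · simp only [Pi.sub_apply, sub_mul, Finset.sum_sub_distrib]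
          simp [Pi.single_apply, mul_comm]
        · funext l
          simp [Φ, fb, Pi.single_apply, apply_ite (Ideal.Quotient.mk 𝔧)]
      | zero => exact ⟨0, by simp, map_zero Φ⟩
      | add a b _ _ ha hb =>
        obtain ⟨ta, hta, rfl⟩ := ha
        obtain ⟨tb, htb, rfl⟩ := hb
        exact ⟨ta + tb, by simp [add_mul, Finset.sum_add_distrib, hta, htb], map_add Φ _ _⟩
      | smul r a _ ha =>
        obtain ⟨ta, hta, rfl⟩ := ha
        obtain ⟨r, rfl⟩ := Ideal.Quotient.mk_surjective r
        refine ⟨r • ta, by simp [mul_assoc, ← Finset.mul_sum, hta], ?_⟩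
        funext l; simp [Φ]
    let ι : I.restrictScalars A →ₗ[A] B := (I.restrictScalars A).subtype
    have hxs : mulMap J B y ∈ Submodule.map ι (J • (⊤ : Submodule A (I.restrictScalars A))) := by
      have : mulMap J B y = ∑ i, (g i - t i) * f i := by
        simp [sub_mul, Finset.sum_sub_distrib, hg, ht]
      rw [this]
      refine Submodule.sum_mem _ fun i _ => ?_
      have hi : g i - t i ∈ J • (⊤ : Submodule A B) := hj.1 (Ideal.Quotient.eq.1 (congrFun htg i).symm)
      refine Submodule.smul_induction_on hi (fun r hr b _ => ?_) (fun a b ha hb => by rw [add_mul]; exact add_mem ha hb)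
      exact ⟨r • (⟨b * f i, Ideal.mul_mem_left I b (Ideal.subset_span ⟨i, rfl⟩)⟩ : I.restrictScalars A),
        Submodule.smul_mem_smul hr trivial, by simp [ι]⟩
    obtain ⟨x', hx', hx'e⟩ := hxs
    obtain ⟨y', rfl⟩ := exists_mulMap_eq hx'
    rw [← mulMap_lTensor] at hx'e
    rw [← mulMap_injective J hx'e, ← LinearMap.comp_apply, ← LinearMap.lTensor_comp,
      show q ∘ₗ ι = 0 from LinearMap.ext fun w => Ideal.Quotient.eq_zero_iff_mem.2 w.2,
      LinearMap.lTensor_zero, LinearMap.zero_apply]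
  refine ⟨?_, hQ⟩
  -- acyclicity
  have : Module.Flat A (X B n) :=
    Module.Flat.of_linearEquiv (DFinsupp.linearEquivFunOnFintype (R := A) (M := fun _ : Fin n → Bool => B)).symm
  intro z hz
  have hzb : d fb (mapX (Ideal.Quotient.mk 𝔧) z) = 0 := by
    rw [← mapX_d, hz]; funext s; simp [mapX]
  obtain ⟨vb, rb, hvb⟩ := hreg _ hzb
  choose v hv using fun s => Ideal.Quotient.mk_surjective (vb s)
  obtain ⟨r, rfl⟩ := Ideal.Quotient.mk_surjective rb
  have hvv : mapX (Ideal.Quotient.mk 𝔧) v = vb := funext hv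
  let z' := z - (d f v + r • bot B n)
  have hz' : ∀ s, z' s ∈ 𝔧 := fun s => by
    rw [← Ideal.Quotient.eq_zero_iff_mem]
    simp only [z', Pi.sub_apply, Pi.add_apply, map_sub, map_add, Pi.smul_apply, smul_eq_mul, map_mul]
    rw [sub_eq_zero]
    have h1 := congrFun hvb s
    rw [← hvv, ← mapX_d, ← mapX_bot (Ideal.Quotient.mk 𝔧) n] at h1
    simpa [mapX] using h1
  have hdz' : d f z' = 0 := by simp [z', hz, d_d, d_bot]
  suffices ∀ k, ∃ (v : X B n) (r : B), pr k z' = d f v + r • bot B n by
    choose vk rk hk using this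
    refine ⟨v + ∑ k ∈ Finset.range (n + 1), vk k, r + ∑ k ∈ Finset.range (n + 1), rk k, ?_⟩
    have := sum_pr z'
    simp only [hk, Finset.sum_add_distrib, ← map_sum, ← Finset.sum_smul] at this
    rw [map_add, add_smul, ← sub_eq_zero]
    rw [← sub_eq_zero] at this
    rw [← neg_eq_zero, ← this]
    simp only [z']
    abel
  intro k
  cases k with
  | zero => exact ⟨0, eps z', by rw [map_zero, zero_add, pr_zero_eq]⟩
  | succ k =>
    have hcyc : d f (pr (k + 1) z') = 0 := by rw [d_pr_succ, hdz', pr_zero]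
    have hmem : z' ∈ J • (⊤ : Submodule A (X B n)) := by
      rw [pi_eq_sum_univ' z']
      refine Submodule.sum_mem _ fun s _ => ?_
      have h2 := Submodule.mem_map_of_mem (f := LinearMap.single A (fun _ => B) s) (hj.1 (hz' s))
      rw [Submodule.map_smul''] at h2
      have h3 : z' s • (Pi.single s (1 : B) : X B n) = LinearMap.single A (fun _ => B) s (z' s) := by
        funext t; simp [Pi.single_apply]
      rw [h3]
      exact Submodule.smul_mono le_rfl le_top h2
    obtain ⟨L, j, y, hjJ, hzy⟩ := exists_sum_of_mem_smul J hmem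
    have hrel : ∀ _l : Fin 1, ∑ l, j l • d f (pr (k + 1) (y l)) = 0 := fun _ => by
      rw [← d_sum_smul, ← hcyc, hzy, pr_sum]
      simp [pr_smul]
    obtain ⟨N, a, g, hg, hja⟩ := exists_factor (fun _ : Fin 1 => j) (fun l => d f (pr (k + 1) (y l))) hrel
    have hg' : ∀ l, d f (pr (k + 1) (y l)) = ∑ q, a l q • pr k (g q) := fun l => by
      have := congrArg (pr k) (hg l)
      rw [d_pr_succ, pr_pr, pr_sum] at this
      rw [d_pr_succ, this]
      simp [pr_smul]
    let μ := mapX (Ideal.Quotient.mk 𝔧) (n := n)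
    have μsum : ∀ {N : ℕ} (c : Fin N → A) (x : Fin N → X B n),
        μ (∑ q, c q • x q) = ∑ q, Ideal.Quotient.mk J (c q) • μ (x q) := by
      intro N c x
      funext s
      simp only [μ, mapX, Finset.sum_apply, Pi.smul_apply, ← Ideal.Quotient.mkₐ_eq_mk A, map_sum, map_smul]
      exact Finset.sum_congr rfl fun q _ => (IsScalarTower.algebraMap_smul (A ⧸ J) (c q) _).symm
    obtain ⟨w, hw⟩ := pure_bdry (R₀ := A ⧸ J) fb hreg k L N (fun l q => Ideal.Quotient.mk J (a l q))
      (fun q => μ (pr k (g q))) (fun q => by simp only [μ]; rw [← mapX_pr, pr_pr])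
      (fun l => ⟨μ (pr (k + 1) (y l)), by rw [← μsum, ← hg']; exact mapX_d _ f _⟩)
    choose w' hw' using fun q s => Ideal.Quotient.mk_surjective (w q s)
    have hw'' : ∀ q, μ (w' q) = w q := fun q => funext (hw' q)
    have hcyc' : ∀ l, d fb (μ (pr (k + 1) (y l) - ∑ q, a l q • w' q)) = 0 := fun l => by
      simp only [μ, fb, ← mapX_d]
      rw [map_sub, d_sum_smul, hg']
      have h1 : μ (∑ q, a l q • pr k (g q)) = μ (∑ q, a l q • d f (w' q)) := by
        rw [μsum, μsum, hw l]
        refine Finset.sum_congr rfl fun q _ => ?_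
        rw [← hw'', show μ (d f (w' q)) = d fb (μ (w' q)) from mapX_d _ f _]
      funext s
      have h2 := congrFun h1 s
      simp only [μ, mapX] at h2
      simpa [mapX, map_sub, Finset.sum_apply, sub_eq_zero] using h2
    choose u ρ hu using fun l => hreg _ (hcyc' l)
    choose u' hu' using fun l s => Ideal.Quotient.mk_surjective (u l s)
    choose ρ' hρ' using fun l => Ideal.Quotient.mk_surjective (ρ l)
    have hdiff : ∀ l s, (pr (k + 1) (y l) - ∑ q, a l q • w' q - (d f (u' l) + ρ' l • bot B n)) s ∈ 𝔧 := by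
      intro l s
      rw [← Ideal.Quotient.eq_zero_iff_mem, Pi.sub_apply, map_sub, sub_eq_zero]
      have h1 := congrFun (hu l) s
      rw [← funext (hu' l), ← hρ' l, ← mapX_bot (Ideal.Quotient.mk 𝔧) n] at h1
      have h2 : mapX (Ideal.Quotient.mk 𝔧) (d f (u' l)) = d fb (mapX (Ideal.Quotient.mk 𝔧) (u' l)) := mapX_d _ f _
      have h3 := congrFun h2 s
      simp only [mapX] at h1 h3
      simp only [μ, mapX, Pi.add_apply, Pi.smul_apply, smul_eq_mul, map_add, map_mul] at h1 ⊢
      rw [h1, h3]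
      rfl
    have hkill : ∀ {c : A}, c ∈ J → ∀ x : B, x ∈ 𝔧 → c • x = 0 := by
      intro c hc x hx
      refine Submodule.smul_induction_on (hj.1 hx) (fun r hr b _ => ?_) (fun a b ha hb => by rw [smul_add, ha, hb, add_zero])
      have h0 : c * r = 0 := by
        have := Ideal.mul_mem_mul hc hr
        rwa [hJ, Submodule.mem_bot] at this
      rw [smul_smul, h0, zero_smul]
    refine ⟨∑ l, j l • u' l, ∑ l, j l • ρ' l, ?_⟩
    have hsum : ∑ l, j l • ∑ q, a l q • w' q = 0 := by
      simp only [Finset.smul_sum, smul_smul]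
      rw [Finset.sum_comm]
      simp only [← Finset.sum_smul, hja 0, zero_smul, Finset.sum_const_zero]
    rw [hzy, pr_sum, d_sum_smul, Finset.sum_smul, ← Finset.sum_add_distrib, ← sub_eq_zero,
      ← Finset.sum_sub_distrib]
    calc ∑ l, (pr (k + 1) (j l • y l) - (j l • d f (u' l) + (j l • ρ' l) • bot B n))
        = ∑ l, j l • ∑ q, a l q • w' q := by
          refine Finset.sum_congr rfl fun l _ => ?_
          rw [pr_smul, smul_assoc]
          funext s
          have h := hkill (hjJ l) _ (hdiff l s)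
          simp only [Pi.sub_apply, Pi.add_apply, Pi.smul_apply, smul_sub, smul_add] at h ⊢
          linear_combination h
      _ = 0 := hsum

/-- Let A be a commutative ring, J an ideal of A of square zero, B a flat A-algebra and f₁, …, f_d
elements of B (a linear map from a free B-module of rank d to B). If the reductions of the f_i to
B/JB form a Koszul-regular sequence and the quotient of B/JB by them is flat over A/J, then f₁, …,
f_d is a Koszul-regular sequence in B and B/(f₁, …, f_d) is flat over A. -/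
theorem result (A B : Type u) [CommRing A] [CommRing B] [Algebra A B]
    [Module.Flat A B] (J : Ideal A) (hJ : J * J = ⊥) (rs : List B)
    (hreg : LCI.IsKoszulRegularSeq (B ⧸ Ideal.map (algebraMap A B) J)
      (rs.map (Ideal.Quotient.mk (Ideal.map (algebraMap A B) J))))
    (hflat : Module.Flat (A ⧸ J) ((B ⧸ Ideal.map (algebraMap A B) J) ⧸
      Ideal.ofList (rs.map (Ideal.Quotient.mk (Ideal.map (algebraMap A B) J))))) :
    LCI.IsKoszulRegularSeq B rs ∧ Module.Flat A (B ⧸ Ideal.ofList rs) := by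
  classical
  obtain ⟨n, f, rfl⟩ : ∃ (n : ℕ) (f : Fin n → B), rs = List.ofFn f := ⟨rs.length, rs.get, (List.ofFn_get rs).symm⟩
  have hl : ∀ {S : Type u} [CommRing S] (g : Fin n → S), Ideal.ofList (List.ofFn g) = Ideal.span (Set.range g) := by
    intro S _ g
    unfold Ideal.ofList
    congr 1
    ext; simp [List.mem_ofFn]
  rw [List.map_ofFn] at hreg hflat
  rw [hl] at hflat
  rw [hl]
  have h := main A B J hJ f (isKoszulRegularSeq_iff_acyclic.1 hreg) hflat
  exact ⟨isKoszulRegularSeq_of_acyclic h.1, h.2⟩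

end Groth.Agent.S8368
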