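import Groth.Statements.S8369
import Mathlib

set_option autoImplicit false
universe u v
open SGA3

namespace Groth.Agent.S8369

open TensorProduct

/-- Let A be a commutative ring, J a nilpotent ideal, N ⊆ M A-modules with M/N flat over A. If elements
of N have images generating the image of N in M/JM, then they generate N. (The published statement
takes finitely many elements; this row allows an arbitrary set, which the same argument permits.) -/
theorem result (A : Type u) [CommRing A] (J : Ideal A) (hJ : IsNilpotent J)
    (M : Type v) [AddCommGroup M] [Module A M] (N : Submodule A M) [Module.Flat A (M ⧸ N)] (s : Set M)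
    (hs : s ⊆ N)
    (hgen : (Submodule.span A s).map (J • (⊤ : Submodule A M)).mkQ = N.map (J • (⊤ : Submodule A M)).mkQ) :
    Submodule.span A s = N := by
  set L := Submodule.span A s
  have hL : L ≤ N := Submodule.span_le.2 hs
  have hJN : ∀ x ∈ N, x ∈ J • (⊤ : Submodule A M) → x ∈ J • N := by
    intro x hx hxJ
    obtain ⟨w, rfl⟩ : ∃ w : J ⊗[A] M, TensorProduct.lift ((LinearMap.lsmul A M).comp J.subtype) w = x := by
      refine Submodule.smul_induction_on hxJ (fun r hr c _ => ⟨⟨r, hr⟩ ⊗ₜ c, rfl⟩) fun a b ha hb => ?_
      obtain ⟨u, rfl⟩ := ha; obtain ⟨v, rfl⟩ := hb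
      exact ⟨u + v, map_add _ _ _⟩
    have hz : N.mkQ.lTensor J w = 0 := by
      refine (Module.Flat.rTensor_preserves_injective_linearMap (M := M ⧸ N) J.subtype Subtype.val_injective) ?_
      apply (TensorProduct.lid A (M ⧸ N)).injective
      rw [map_zero, map_zero]
      have hx' : N.mkQ (TensorProduct.lift ((LinearMap.lsmul A M).comp J.subtype) w) = 0 :=
        (Submodule.Quotient.mk_eq_zero N).2 hx
      refine Eq.trans ?_ hx'
      clear hx hxJ hx'
      induction w using TensorProduct.induction_on with
      | zero => simp
      | add a b ha hb => simp only [map_add, ha, hb]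
      | tmul r c => simp
    obtain ⟨v, rfl⟩ := ((lTensor_exact J (LinearMap.exact_subtype_mkQ N) N.mkQ_surjective) w).1 hz
    clear hx hxJ hz
    induction v using TensorProduct.induction_on with
    | zero => simp
    | add a b ha hb => simp only [map_add]; exact add_mem ha hb
    | tmul r k => simp only [LinearMap.lTensor_tmul, TensorProduct.lift.tmul]; exact Submodule.smul_mem_smul r.2 k.2
  have hstep : N ≤ L ⊔ J • N := by
    intro x hx
    obtain ⟨y, hy, hyx⟩ : (J • (⊤ : Submodule A M)).mkQ x ∈ L.map (J • (⊤ : Submodule A M)).mkQ := by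
      rw [hgen]; exact Submodule.mem_map_of_mem hx
    refine Submodule.mem_sup.2 ⟨y, hy, x - y, hJN _ (sub_mem hx (hL hy)) ?_, add_sub_cancel y x⟩
    exact (Submodule.Quotient.eq _).1 hyx.symm
  have hall : ∀ k : ℕ, N ≤ L ⊔ J ^ k • N := by
    intro k
    induction k with
    | zero => rw [pow_zero, Ideal.one_eq_top, Submodule.top_smul]; exact le_sup_right
    | succ k ih =>
      refine ih.trans (sup_le le_sup_left ?_)
      refine (Submodule.smul_mono le_rfl hstep).trans ?_
      rw [Submodule.smul_sup, ← Submodule.smul_assoc, smul_eq_mul, ← pow_succ]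
      exact sup_le_sup Submodule.smul_le_right le_rfl
  obtain ⟨k, hk⟩ := hJ
  refine le_antisymm hL ((hall k).trans ?_)
  rw [hk, Ideal.zero_eq_bot, Submodule.bot_smul, sup_bot_eq]

end Groth.Agent.S8369
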