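import Groth.Statements.S8370


set_option autoImplicit false
set_option backward.isDefEq.respectTransparency false
set_option linter.style.haveILetI false
universe u
open CategoryTheory MonObj AlgebraicGeometry
open LieS

namespace Groth.Agent.S8370

open Groth.Agent CategoryTheory MonObj AlgebraicGeometry

theorem dual_factor {B C : Type u} [CommRing B] [CommRing C] (φ : DualNumber B →+* C)
    (hc : φ DualNumber.eps * φ DualNumber.eps = 0) :
    (LieS.dualHom (RingHom.id C) (φ DualNumber.eps) hc).comp
      (LieS.bcHom (φ.comp (algebraMap B (DualNumber B)))) = φ := by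
  refine RingHom.ext fun z => ?_
  have hz : z = algebraMap B (DualNumber B) z.fst + algebraMap B (DualNumber B) z.snd * DualNumber.eps := by
    refine TrivSqZeroExt.ext ?_ ?_ <;> simp [TrivSqZeroExt.algebraMap_eq_inl']
  conv_rhs => rw [hz, map_add, map_mul]
  simp [LieS.bcHom, TrivSqZeroExt.algebraMap_eq_inl']

theorem commute_on_affine (S : Scheme.{u}) (G K : Over S) [GrpObj G] [GrpObj K] (i : K ⟶ G) [IsMonHom i]
    (B : Type u) [CommRing B] (f : Spec (CommRingCat.of B) ⟶ S) (x : LieS.Lie G B f)
    (H : ∀ (B' : Type u) [CommRing B'] (h : B →+* B') (k : LieS.pt B' (Spec.map (CommRingCat.ofHom h) ≫ f) ⟶ K),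
      LieS.Ad G B' (Spec.map (CommRingCat.ofHom h) ≫ f) (k ≫ i) (LieS.pull G f h x) = LieS.pull G f h x)
    (X' : Over S) (y : X' ⟶ LieS.dpt B f) (h : X' ⟶ K) (C : Type u) [CommRing C]
    (j : Spec (CommRingCat.of C) ⟶ X'.left) :
    j ≫ ((y ≫ x.1) * (h ≫ i)).left = j ≫ ((h ≫ i) * (y ≫ x.1)).left := by
  let φ : DualNumber B →+* C := (Spec.preimage (R := CommRingCat.of (DualNumber B)) (j ≫ y.left)).hom
  have hφ : Spec.map (CommRingCat.ofHom φ) = j ≫ y.left :=
    Spec.map_preimage (R := CommRingCat.of (DualNumber B)) (S := CommRingCat.of C) _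
  clear_value φ
  let h' : B →+* C := φ.comp (algebraMap B (DualNumber B))
  let f' := Spec.map (CommRingCat.ofHom h') ≫ f
  have e0 : f' = j ≫ X'.hom := by
    have := Over.w y
    show Spec.map _ ≫ f = _
    rw [← LieS.specMap_comp, hφ, Category.assoc]
    exact (Category.assoc _ _ _).trans (congr(j ≫ $this))
  let T : Over S := Over.mk (j ≫ X'.hom)
  let t : T ⟶ X' := Over.homMk j rfl
  let kk : LieS.pt C f' ⟶ K := Over.homMk (j ≫ h.left) (by
    show (j ≫ h.left) ≫ K.hom = f'
    rw [Category.assoc, Over.w h, e0])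
  have hc : φ DualNumber.eps * φ DualNumber.eps = 0 := by rw [← map_mul, DualNumber.eps_mul_eps, map_zero]
  have hψ := LieS.dualHom_comp_algebraMap (RingHom.id C) (φ DualNumber.eps) hc
  let σ : T ⟶ LieS.dpt C f' := Over.homMk (Spec.map (CommRingCat.ofHom (LieS.dualHom _ _ hc))) (by
    show Spec.map _ ≫ Spec.map _ ≫ f' = j ≫ X'.hom
    rw [← Category.assoc, LieS.specMap_comp, hψ, ← e0]
    erw [Spec.map_id]
    exact Category.id_comp _)
  have hy : σ ≫ LieS.dptMap f h' = t ≫ y := by
    refine Over.OverMorphism.ext ?_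
    show Spec.map _ ≫ Spec.map _ = j ≫ y.left
    rw [LieS.specMap_comp, ← hφ, dual_factor]
  have hk : σ ≫ LieS.proj C f' ≫ kk = t ≫ h := by
    refine Over.OverMorphism.ext ?_
    show Spec.map _ ≫ Spec.map _ ≫ j ≫ h.left = j ≫ h.left
    rw [← Category.assoc, LieS.specMap_comp, hψ]
    erw [Spec.map_id]
    exact Category.id_comp _
  have e := congrArg Subtype.val (H C h' kk)
  change (LieS.proj C f' ≫ kk ≫ i) * (LieS.dptMap f h' ≫ x.1) * (LieS.proj C f' ≫ kk ≫ i)⁻¹ =
    LieS.dptMap f h' ≫ x.1 at e
  rw [mul_inv_eq_iff_eq_mul] at e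
  have key : t ≫ ((y ≫ x.1) * (h ≫ i)) = t ≫ ((h ≫ i) * (y ≫ x.1)) := by
    rw [MonObj.comp_mul, MonObj.comp_mul, ← Category.assoc t y, ← hy, ← Category.assoc t h, ← hk]
    simp only [Category.assoc]
    rw [← MonObj.comp_mul, ← MonObj.comp_mul, e]
  exact congrArg CommaMorphism.left key
/-- For a group scheme G over a scheme S (the group law of the Lie algebra functor of a group scheme is
commutative, which the published statement assumes), a sub-group-scheme K of G given by a
monomorphic homomorphism i, and an affine S-scheme T = Spec B: an element x of Lie(G/S)(T) belongs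
to the Lie algebra of the centraliser of K, i.e. the point x of G with values in the dual numbers
I_T commutes with every point of K with values in any scheme over I_T, if and only if x is fixed by
the adjoint action of every point of K with values in an affine scheme T' = Spec B' over T (acting
on the restriction of x to T'). -/
theorem result (S : Scheme.{u}) (G K : Over S) [GrpObj G] [GrpObj K] (i : K ⟶ G)
    [IsMonHom i] [Mono i] (B : Type u) [CommRing B] (f : Spec (CommRingCat.of B) ⟶ S) (x : LieS.Lie G B f) :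
    (∀ (X' : Over S) (y : X' ⟶ LieS.dpt B f) (h : X' ⟶ K), (y ≫ x.1) * (h ≫ i) = (h ≫ i) * (y ≫ x.1)) ↔
    (∀ (B' : Type u) [CommRing B'] (h : B →+* B')
      (k : LieS.pt B' (Spec.map (CommRingCat.ofHom h) ≫ f) ⟶ K),
      LieS.Ad G B' (Spec.map (CommRingCat.ofHom h) ≫ f) (k ≫ i) (LieS.pull G f h x) = LieS.pull G f h x) := by
  constructor
  · intro H B' _ h k
    have e := H (LieS.dpt B' _) (LieS.dptMap f h) (LieS.proj B' _ ≫ k)
    apply Subtype.ext
    show (LieS.proj B' (Spec.map (CommRingCat.ofHom h) ≫ f) ≫ k ≫ i) * (LieS.dptMap f h ≫ x.1) *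
      (LieS.proj B' (Spec.map (CommRingCat.ofHom h) ≫ f) ≫ k ≫ i)⁻¹ = LieS.dptMap f h ≫ x.1
    rw [Category.assoc] at e
    rw [← e, _root_.mul_assoc, _root_.mul_inv_cancel, _root_.mul_one]
  · intro H X' y h
    refine Over.OverMorphism.ext (X'.left.affineCover.hom_ext _ _ fun a => ?_)
    have := commute_on_affine S G K i B f x H X' y h Γ(X'.left.affineCover.X a, ⊤)
      ((X'.left.affineCover.X a).isoSpec.inv ≫ X'.left.affineCover.f a)
    simp only [Category.assoc] at this
    exact (cancel_epi _).mp this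

end Groth.Agent.S8370
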