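import Groth.Statements.S8373
import Groth.Agent.LieNilFib.Basic
import Mathlib

set_option autoImplicit false
universe u
open scoped TensorProduct
open SGA3t2b

namespace Groth.Agent.S8373

attribute [local instance 100] LieRing.ofAssociativeRing

/-- Over an affine base Spec A: let L be a Lie algebra over A which is a finitely generated projective
A-module, H a Cartan subalgebra of L relative to A, a an element of H which is quasi-regular in L,
and u an automorphism of the Lie algebra L over A. Then u(H) = H if and only if u(a) ∈ H. -/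
theorem result {A : Type u} [CommRing A] {L : Type u} [LieRing L]
    [LieAlgebra A L] [Module.Finite A L] [Module.Projective A L]
    (H : LieSubalgebra A L) (hH : SGA3t2b.IsCartanRel H) (a : L) (haH : a ∈ H)
    (ha : SGA3t2b.IsQuasiRegular A L a) (u : L ≃ₗ⁅A⁆ L) :
    H.map u.toLieHom = H ↔ u a ∈ H := by
  classical
  have hul : ∀ x y : L, u ⁅x, y⁆ = ⁅u x, u y⁆ := fun x y => u.toLieHom.map_lie x y
  obtain ⟨hQ, hfib⟩ := hH
  haveI := hQ
  set N := H.toSubmodule with hN
  obtain ⟨σ, hσ⟩ := Module.projective_lifting_property N.mkQ LinearMap.id N.mkQ_surjective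
  have hσ' : ∀ q, N.mkQ (σ q) = q := fun q => LinearMap.congr_fun hσ q
  haveI : Module.Finite A H := by
    have hfin : Module.Finite A N := Module.Finite.of_surjective
      ((LinearMap.id - σ ∘ₗ N.mkQ).codRestrict N fun x => (Submodule.Quotient.mk_eq_zero N).mp (by
        rw [← Submodule.mkQ_apply]; simp [map_sub, hσ']))
      (fun y => ⟨(y : L), Subtype.ext (by
        simp [show N.mkQ (y : L) = 0 from (Submodule.Quotient.mk_eq_zero N).mpr y.2])⟩)
    exact hfin
  have hnil : LieRing.IsNilpotent H :=
    Groth.Agent.LieNilFib.isNilpotent_of_fibres (A := A) fun p hp => (hfib ⟨p, hp⟩).1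
  have key : ∀ b ∈ H, SGA3t2b.IsQuasiRegular A L b →
      ∀ y : L, y ∈ H ↔ ∃ n : ℕ, ((LieAlgebra.ad A L b) ^ n) y = 0 := by
    intro b hb hreg
    obtain ⟨N0, hN0⟩ : IsNilpotent (LieAlgebra.ad A H ⟨b, hb⟩) :=
      LieModule.isNilpotent_toEnd_of_isNilpotent A H H ⟨b, hb⟩
    have hcoe : ∀ (n : ℕ) (y : H),
        (((LieAlgebra.ad A H ⟨b, hb⟩) ^ n) y : L) = ((LieAlgebra.ad A L b) ^ n) (y : L) := by
      intro n
      induction n with
      | zero => intro y; rfl
      | succ n ih =>
        intro y
        rw [pow_succ', pow_succ', Module.End.mul_apply, Module.End.mul_apply, ← ih]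
        rfl
    have hle : ∀ y ∈ H, ((LieAlgebra.ad A L b) ^ N0) y = 0 := fun y hy => by
      rw [← hcoe N0 ⟨y, hy⟩, hN0]; rfl
    refine fun y => ⟨fun hy => ⟨N0, hle y hy⟩, ?_⟩
    let f : (L ⧸ N) →ₗ[A] L ⧸ N :=
      N.mapQ N (LieAlgebra.ad A L b) fun z hz => H.lie_mem hb hz
    have hfpow : ∀ (n : ℕ) (z : L), (f ^ n) (N.mkQ z) = N.mkQ (((LieAlgebra.ad A L b) ^ n) z) := by
      intro n
      induction n with
      | zero => intro z; rfl
      | succ n ih =>
        intro z
        rw [pow_succ', pow_succ', Module.End.mul_apply, Module.End.mul_apply, ih]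
        rfl
    have hfbij : Function.Bijective f := by
      refine OrzechProperty.bijective_of_surjective_endomorphism f ?_
      rw [← LinearMap.range_eq_top]
      refine Submodule.Quotient.subsingleton_iff.mp ?_
      rw [← Module.support_eq_empty_iff (R := A), Set.eq_empty_iff_forall_notMem]
      intro p
      rw [Module.mem_support_iff_nontrivial_residueField_tensorProduct, not_nontrivial_iff_subsingleton]
      set K := p.asIdeal.ResidueField
      have hfK : Function.Surjective (f.baseChange K) := by
        refine LinearMap.surjective_of_injective ?_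
        rw [← LinearMap.ker_eq_bot, eq_bot_iff]
        intro v hv
        obtain ⟨z, rfl⟩ := LinearMap.lTensor_surjective K N.mkQ_surjective v
        set F := LieAlgebra.ad K (K ⊗[A] L) ((1 : K) ⊗ₜ[A] b) with hF
        have hFb : ∀ w, F w = (LieAlgebra.ad A L b).baseChange K w := by
          intro w
          induction w using TensorProduct.induction_on with
          | zero => simp
          | tmul r x => simp [hF]
          | add u v hu hv => rw [map_add, map_add, hu, hv]
        have hexact : Function.Exact (N.subtype.baseChange K) (N.mkQ.baseChange K) :=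
          lTensor_exact K (LinearMap.exact_subtype_mkQ N) N.mkQ_surjective
        have hfz : N.mkQ.baseChange K ((LieAlgebra.ad A L b).baseChange K z) = 0 := by
          have hc : f ∘ₗ N.mkQ = N.mkQ ∘ₗ (LieAlgebra.ad A L b : Module.End A L) :=
            Submodule.mapQ_mkQ _ _ _
          have := congrArg (fun g => LinearMap.baseChange K g z) hc
          simp only [LinearMap.baseChange_comp, LinearMap.coe_comp, Function.comp_apply] at this
          rw [← this]
          exact hv
        -- the fibre of `H` is the Engel subalgebra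
        have hE : SGA3t2b.fibreSubmodule p H =
            (LieSubalgebra.engel K ((1 : K) ⊗ₜ[A] b)).toSubmodule := by
          refine Submodule.eq_of_le_of_finrank_eq ?_ ?_
          · rw [SGA3t2b.fibreSubmodule, Submodule.baseChange_eq_span, Submodule.span_le]
            rintro _ ⟨y, hy, rfl⟩
            refine (LieSubalgebra.mem_engel_iff K _ _).mpr ⟨N0, ?_⟩
            have : ∀ n, (F ^ n) ((1 : K) ⊗ₜ[A] y) = (1 : K) ⊗ₜ[A] (((LieAlgebra.ad A L b) ^ n) y) := by
              intro n
              induction n with
              | zero => rfl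
              | succ n ih =>
                rw [pow_succ', pow_succ', Module.End.mul_apply, Module.End.mul_apply, ih, hFb]
                rfl
            rw [← hF, show (TensorProduct.mk A K L 1) y = (1 : K) ⊗ₜ[A] y from rfl, this, hle y hy,
              TensorProduct.tmul_zero]
          · rw [(hfib p).2.2]
            exact ((LieAlgebra.isRegular_iff_finrank_engel_eq_rank K _).mp (hreg p)).symm
        have hmem : F z ∈ (LieSubalgebra.engel K ((1 : K) ⊗ₜ[A] b)).toSubmodule := by
          rw [← hE, hFb, SGA3t2b.fibreSubmodule, Submodule.baseChange]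
          exact (hexact _).mp hfz
        obtain ⟨n, hn⟩ := (LieSubalgebra.mem_engel_iff K _ _).mp hmem
        have hz : z ∈ SGA3t2b.fibreSubmodule p H := by
          rw [hE]
          refine (LieSubalgebra.mem_engel_iff K _ _).mpr ⟨n + 1, ?_⟩
          rw [pow_succ, Module.End.mul_apply, ← hF]
          exact hn
        rw [SGA3t2b.fibreSubmodule, Submodule.baseChange] at hz
        rw [Submodule.mem_bot]
        exact (hexact z).mpr hz
      refine subsingleton_of_forall_eq 0 fun w => ?_
      obtain ⟨w, rfl⟩ := LinearMap.lTensor_surjective K (LinearMap.range f).mkQ_surjective w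
      obtain ⟨w, rfl⟩ := hfK w
      show (LinearMap.range f).mkQ.lTensor K (f.lTensor K w) = 0
      rw [← LinearMap.lTensor_comp_apply,
        show (LinearMap.range f).mkQ ∘ₗ f = 0 from LinearMap.ext fun z =>
          (Submodule.Quotient.mk_eq_zero _).mpr (LinearMap.mem_range_self f z),
        LinearMap.lTensor_zero, LinearMap.zero_apply]
    rintro ⟨n, hn⟩
    have h0 : (f ^ n) (N.mkQ y) = 0 := by rw [hfpow, hn, map_zero]
    have hb' : Function.Bijective (f ^ n) := by rw [Module.End.coe_pow]; exact hfbij.iterate n
    exact (Submodule.Quotient.mk_eq_zero N).mp (hb'.1 (h0.trans (map_zero _).symm))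
  constructor
  · intro h
    rw [← h]
    exact ⟨a, haH, rfl⟩
  intro hua
  have hreg' : SGA3t2b.IsQuasiRegular A L (u a) := by
    intro p
    set K := p.asIdeal.ResidueField
    rw [LieAlgebra.isRegular_def]
    let eK : (K ⊗[A] L) ≃ₗ[K] K ⊗[A] L := LinearEquiv.baseChange A K L L u.toLinearEquiv
    have hconj : LieAlgebra.ad K (K ⊗[A] L) ((1 : K) ⊗ₜ[A] u a) =
        eK.conj (LieAlgebra.ad K (K ⊗[A] L) ((1 : K) ⊗ₜ[A] a)) := by
      refine TensorProduct.AlgebraTensorModule.ext fun r y => ?_
      simp [eK, LinearEquiv.conj_apply, LinearEquiv.baseChange, hul]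
      congr 2
      exact (u.toLinearEquiv.apply_symm_apply y).symm
    rw [hconj, LinearEquiv.charpoly_conj]
    exact (LieAlgebra.isRegular_def K _).mp (ha p)
  have hpow : ∀ (n : ℕ) (x : L),
      ((LieAlgebra.ad A L (u a)) ^ n) (u x) = u (((LieAlgebra.ad A L a) ^ n) x) := by
    intro n
    induction n with
    | zero => intro x; rfl
    | succ n ih =>
      intro x
      rw [pow_succ', pow_succ', Module.End.mul_apply, Module.End.mul_apply, ih]
      exact (hul _ _).symm
  apply le_antisymm
  · rintro _ ⟨x, hx, rfl⟩
    obtain ⟨n, hn⟩ := (key a haH ha x).mp hx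
    exact (key (u a) hua hreg' (u x)).mpr ⟨n, by rw [hpow, hn, map_zero]⟩
  · intro y hy
    obtain ⟨n, hn⟩ := (key (u a) hua hreg' y).mp hy
    refine ⟨u.symm y, (key a haH ha _).mpr ⟨n, u.injective ?_⟩, u.apply_symm_apply y⟩
    show u (((LieAlgebra.ad A L a) ^ n) (u.symm y)) = u 0
    rw [← hpow, u.apply_symm_apply, hn]
    exact (map_zero u.toLieHom).symm

end Groth.Agent.S8373
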