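import Groth.Statements.S8374
import Groth.Agent.LieCartan.Univ
-- import your own Groth.Agent.* helpers here

set_option autoImplicit false
set_option backward.isDefEq.respectTransparency false
universe u
open scoped TensorProduct
open SGA3t2b

namespace Groth.Agent.S8374

/-- Over an affine base Spec A: let L be a Lie algebra over A which is a finitely generated projective
A-module, H a Cartan subalgebra of L relative to A, and p a prime of A whose residue field is
infinite. Then there are f ∈ A with f ∉ p and an element a ∈ H such that a is a regular element of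
every fibre κ(q) ⊗ L with f ∉ q, H is contained in the Engel subalgebra Nil(a, L), and every element
of Nil(a, L) is carried into H by some power of f; that is, over the basic open set D(f) the section
a is regular and H coincides with Nil(a, L). (The published statement gives a regular section of H
over some open neighbourhood of p; this row takes a global element of H and a basic open
neighbourhood D(f), which is equivalent over an affine base because multiplying by a function
invertible on D(f) does not change regularity.) -/
theorem result {A : Type u} [CommRing A] {L : Type u} [LieRing L]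
    [LieAlgebra A L] [Module.Finite A L] [Module.Projective A L]
    (H : LieSubalgebra A L) (hH : SGA3t2b.IsCartanRel H) (p : PrimeSpectrum A)
    (hp : Infinite p.asIdeal.ResidueField) :
    ∃ f : A, f ∉ p.asIdeal ∧ ∃ a : L, a ∈ H ∧
      (∀ q : PrimeSpectrum A, f ∉ q.asIdeal →
        LieAlgebra.IsRegular q.asIdeal.ResidueField ((1 : q.asIdeal.ResidueField) ⊗ₜ[A] a)) ∧
      H ≤ LieSubalgebra.engel A a ∧
      ∀ y : L, y ∈ LieSubalgebra.engel A a → ∃ n : ℕ, f ^ n • y ∈ H := by
  haveI : (LieCartan.fibreLie p H).IsCartanSubalgebra := LieCartan.isCartanSubalgebra_fibreLie hH p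
  haveI := hH.1
  obtain ⟨x, hxH, hx⟩ := LieCartan.exists_engel_eq (LieCartan.fibreLie p H)
  have hreg : LieAlgebra.IsRegular p.asIdeal.ResidueField x := by
    rw [LieAlgebra.isRegular_iff_finrank_engel_eq_rank, hx]
    exact LieCartan.finrank_fibreLie hH p
  obtain ⟨u, rfl⟩ := (LieCartan.mem_fibreLie_iff p H x).mp hxH
  obtain ⟨s, hs, a, ha⟩ := LieCartan.exists_smul_eq_one_tmul p.asIdeal u
  have hra : LieAlgebra.IsRegular p.asIdeal.ResidueField ((1 : p.asIdeal.ResidueField) ⊗ₜ[A] (a : L)) := by
    have e : LieCartan.incl p.asIdeal.ResidueField H ((1 : p.asIdeal.ResidueField) ⊗ₜ[A] a) =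
        s • LieCartan.incl p.asIdeal.ResidueField H u := by
      rw [← ha, LinearMap.map_smul_of_tower]
    rw [show (1 : p.asIdeal.ResidueField) ⊗ₜ[A] (a : L) =
      LieCartan.incl p.asIdeal.ResidueField H ((1 : p.asIdeal.ResidueField) ⊗ₜ[A] a) from rfl, e]
    exact (LieCartan.isRegular_of_smul hs).mpr hreg
  obtain ⟨δ, h1, h2, -⟩ := LieCartan.exists_det (LieCartan.quotAd H a.2)
  have h1' : ∀ q : PrimeSpectrum A, δ ∉ q.asIdeal ↔
      LieAlgebra.IsRegular q.asIdeal.ResidueField ((1 : q.asIdeal.ResidueField) ⊗ₜ[A] (a : L)) := fun q => by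
    rw [LieCartan.isRegular_iff_bijective_quotAd hH a.2 q, ← h1 q.asIdeal.ResidueField]
    exact not_congr Ideal.algebraMap_residueField_eq_zero.symm
  refine ⟨δ, (h1' p).mpr hra, a, a.2, fun q hq => (h1' q).mp hq, LieCartan.le_engel_of_mem hH a.2, fun y hy => ?_⟩
  obtain ⟨n, hn⟩ := (LieSubalgebra.mem_engel_iff A _ y).mp hy
  refine ⟨n, ?_⟩
  have h0 := LieCartan.quotAd_pow H a.2 n y
  rw [hn, map_zero] at h0
  have h3 := h2 n _ h0
  rw [← map_smul] at h3
  exact (Submodule.Quotient.mk_eq_zero _).mp h3

end Groth.Agent.S8374
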