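import Groth.Statements.S8377
import Groth.Agent.LieCartan.Univ
-- import your own Groth.Agent.* helpers here

set_option autoImplicit false
set_option backward.isDefEq.respectTransparency false
universe u
open scoped TensorProduct
open SGA3t2b

namespace Groth.Agent.S8377

/-- Let L be a Lie algebra over the commutative ring A which is a finitely generated projective
A-module. Suppose that the nilpotent rank of the fibres κ(p) ⊗ L is locally constant on Spec A, that
for every A-algebra A' every quasi-regular element of A' ⊗ L is regular (condition (C₂)), and that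
every fibre κ(p) ⊗ L has a regular element (automatic when every residue field of A is infinite).
Then L acquires a relative Cartan subalgebra after a faithfully flat etale base change A → A'
(condition (C′₁)). (The published implication (C₂) ⇒ (C′₁) is over an arbitrary base and has no
hypothesis on regular elements of the fibres; this row is over an affine base and assumes every
fibre has a regular element, the case in which the published argument, through the existence of a
Cartan subalgebra Zariski-locally near each such point, is complete.) -/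
theorem result {A : Type u} [CommRing A] {L : Type u} [LieRing L]
    [LieAlgebra A L] [Module.Finite A L] [Module.Projective A L]
    (hC2 : ((∀ p : PrimeSpectrum A, ∃ f : A, f ∉ p.asIdeal ∧ ∀ q : PrimeSpectrum A, f ∉ q.asIdeal →
        LieAlgebra.rank q.asIdeal.ResidueField (q.asIdeal.ResidueField ⊗[A] L) =
          LieAlgebra.rank p.asIdeal.ResidueField (p.asIdeal.ResidueField ⊗[A] L)) ∧
      ∀ (A' : Type u) [CommRing A'] [Algebra A A'] (a' : A' ⊗[A] L),
        SGA3t2b.IsQuasiRegular A' (A' ⊗[A] L) a' → SGA3t2b.IsRegularRel A' (A' ⊗[A] L) a'))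
    (hreg : ∀ p : PrimeSpectrum A, ∃ x : p.asIdeal.ResidueField ⊗[A] L, LieAlgebra.IsRegular p.asIdeal.ResidueField x) :
    ∃ (A' : Type u) (_ : CommRing A') (_ : Algebra A A'), Algebra.Etale A A' ∧ Module.FaithfullyFlat A A' ∧
        ∃ H : LieSubalgebra A' (A' ⊗[A] L), SGA3t2b.IsCartanRel H := by
  classical
  have hloc : ∀ p : PrimeSpectrum A, ∃ (f : A) (a : L), f ∉ p.asIdeal ∧ ∀ q : PrimeSpectrum A, f ∉ q.asIdeal →
      LieAlgebra.IsRegular q.asIdeal.ResidueField ((1 : q.asIdeal.ResidueField) ⊗ₜ[A] a) := by
    intro p
    obtain ⟨x, hx⟩ := hreg p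
    obtain ⟨a, ha⟩ := LieCartan.exists_lift_regular hx
    obtain ⟨f, hf, hconst⟩ := hC2.1 p
    obtain ⟨c, hc⟩ := LieCartan.exists_regular_coeff (A := A) a
      (LieAlgebra.rank p.asIdeal.ResidueField (p.asIdeal.ResidueField ⊗[A] L))
    exact ⟨f * c, a, fun h => (p.isPrime.mem_or_mem h).elim hf ((hc p rfl).mpr ha), fun q hq =>
      (hc q (hconst q fun h => hq (Ideal.mul_mem_right _ _ h))).mp fun h => hq (Ideal.mul_mem_left _ _ h)⟩
  choose f a hf hfa using hloc
  obtain ⟨t, ht⟩ := isCompact_univ.elim_finite_subcover
    (fun p : PrimeSpectrum A => (PrimeSpectrum.basicOpen (f p) : Set (PrimeSpectrum A)))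
    (fun p => (PrimeSpectrum.basicOpen (f p)).isOpen) (fun p _ => Set.mem_iUnion.mpr ⟨p, hf p⟩)
  let A' := ∀ i : t, Localization.Away (f i)
  haveI : Algebra.Etale A A' := inferInstance
  haveI : Module.FaithfullyFlat A A' := by
    haveI : Module.Flat A A' := inferInstance
    refine Module.FaithfullyFlat.of_comap_surjective fun q => ?_
    obtain ⟨p, hp, hpq⟩ := Set.mem_iUnion₂.mp (ht (Set.mem_univ q))
    obtain ⟨Q, hQ⟩ := (PrimeSpectrum.localization_away_comap_range (Localization.Away (f p)) (f p)).ge hpq
    refine ⟨PrimeSpectrum.comap (Pi.evalRingHom (fun i : t => Localization.Away (f i)) ⟨p, hp⟩) Q, ?_⟩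
    rw [← hQ]
    rfl
  let e : t → A' := fun i => Pi.single i 1
  let a' : A' ⊗[A] L := ∑ i, e i ⊗ₜ[A] a i
  refine ⟨A', inferInstance, inferInstance, inferInstance, inferInstance, ?_⟩
  obtain ⟨-, H, hH, -⟩ := hC2.2 A' a' fun q => by
    obtain ⟨i, hi⟩ : ∃ i, e i ∉ q.asIdeal := by
      by_contra hcon
      push Not at hcon
      refine q.isPrime.ne_top ((Ideal.eq_top_iff_one _).mpr ?_)
      rw [show (1 : A') = ∑ i, e i by
        funext j
        exact ((Finset.sum_apply j Finset.univ e).trans ((Finset.sum_eq_single j (fun i _ hij =>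
          Pi.single_eq_of_ne (Ne.symm hij) 1) fun h => absurd (Finset.mem_univ j) h).trans (Pi.single_eq_same j 1))).symm]
      exact Ideal.sum_mem _ fun i _ => hcon i
    have he : ∀ j, j ≠ i → e j ∈ q.asIdeal := fun j hj =>
      (q.isPrime.mem_or_mem (show e j * e i ∈ q.asIdeal by
        rw [show e j * e i = 0 by
          funext k
          by_cases hk : k = i
          · subst hk
            show e j k * e k k = 0
            rw [show e j k = 0 from Pi.single_eq_of_ne (Ne.symm hj) _, zero_mul]
          · show e j k * e i k = 0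
            rw [show e i k = 0 from Pi.single_eq_of_ne hk _, mul_zero]]
        exact zero_mem _)).resolve_right hi
    have hu : algebraMap A' q.asIdeal.ResidueField (e i) ≠ 0 := fun h =>
      hi (Ideal.algebraMap_residueField_eq_zero.mp h)
    have him : (1 : q.asIdeal.ResidueField) ⊗ₜ[A'] a' =
        algebraMap A' q.asIdeal.ResidueField (e i) • ((1 : q.asIdeal.ResidueField) ⊗ₜ[A'] ((1 : A') ⊗ₜ[A] a i)) := by
      have h1 : ∀ j, (1 : q.asIdeal.ResidueField) ⊗ₜ[A'] (e j ⊗ₜ[A] a j) =
          algebraMap A' q.asIdeal.ResidueField (e j) • ((1 : q.asIdeal.ResidueField) ⊗ₜ[A'] ((1 : A') ⊗ₜ[A] a j)) := by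
        intro j
        rw [algebraMap_smul, ← TensorProduct.tmul_smul, TensorProduct.smul_tmul' (e j) (1 : A') (a j), smul_eq_mul, mul_one]
      rw [TensorProduct.tmul_sum, Finset.sum_eq_single i, h1]
      · intro j _ hj
        rw [h1, Ideal.algebraMap_residueField_eq_zero.mpr (he j hj), zero_smul]
      · exact fun h => absurd (Finset.mem_univ i) h
    rw [him, LieCartan.isRegular_smul hu, LieCartan.isRegular_fibre]
    refine hfa _ _ fun hmem => hi ?_
    have h2 : algebraMap A A' (f i) * Pi.single i (IsLocalization.Away.invSelf (S := Localization.Away (f i)) (f i : A)) = e i := by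
      funext k
      by_cases hk : k = i
      · subst hk
        show algebraMap A (Localization.Away (f k)) (f k) * Pi.single (M := fun i : t => Localization.Away (f i)) k _ k =
          Pi.single (M := fun i : t => Localization.Away (f i)) k 1 k
        rw [Pi.single_eq_same, Pi.single_eq_same, IsLocalization.Away.mul_invSelf]
      · show algebraMap A (Localization.Away (f k)) (f i) * Pi.single (M := fun i : t => Localization.Away (f i)) i _ k =
          Pi.single (M := fun i : t => Localization.Away (f i)) i 1 k
        rw [Pi.single_eq_of_ne hk, Pi.single_eq_of_ne hk, mul_zero]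
    rw [← h2]
    exact Ideal.mul_mem_right _ _ hmem
  exact ⟨H, hH⟩

end Groth.Agent.S8377
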