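import Groth.Statements.S8378
import Groth.Agent.LieCartan.Univ
-- import your own Groth.Agent.* helpers here

set_option autoImplicit false
set_option backward.isDefEq.respectTransparency false
universe u
open scoped TensorProduct
open SGA3t2b

namespace Groth.Agent.S8378

/-- Over an affine base Spec A: let L be a Lie algebra over A which is a finitely generated projective
A-module. If for some faithfully flat A-algebra A' the Lie algebra A' ⊗ L has a Cartan subalgebra
relative to A' (condition (C₁)), then the nilpotent rank of the fibres κ(p) ⊗ L is a locally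
constant function of p ∈ Spec A (condition (C₀)). -/
theorem result {A : Type u} [CommRing A] {L : Type u} [LieRing L]
    [LieAlgebra A L] [Module.Finite A L] [Module.Projective A L]
    (hC1 : ∃ (A' : Type u) (_ : CommRing A') (_ : Algebra A A'), Module.FaithfullyFlat A A' ∧
        ∃ H : LieSubalgebra A' (A' ⊗[A] L), SGA3t2b.IsCartanRel H) :
    ∀ p : PrimeSpectrum A, ∃ f : A, f ∉ p.asIdeal ∧ ∀ q : PrimeSpectrum A, f ∉ q.asIdeal →
        LieAlgebra.rank q.asIdeal.ResidueField (q.asIdeal.ResidueField ⊗[A] L) =
          LieAlgebra.rank p.asIdeal.ResidueField (p.asIdeal.ResidueField ⊗[A] L) := by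
  obtain ⟨A', _, _, hff, H, hH⟩ := hC1
  haveI := hH.1
  haveI := LieCartan.finite_of_projective_quotient H
  haveI : Module.Projective A' H := by
    obtain ⟨σ, hσ⟩ := Module.projective_lifting_property H.toSubmodule.mkQ LinearMap.id H.toSubmodule.mkQ_surjective
    have hmem : ∀ x : A' ⊗[A] L, (LinearMap.id - σ ∘ₗ H.toSubmodule.mkQ : A' ⊗[A] L →ₗ[A'] A' ⊗[A] L) x ∈ H.toSubmodule := fun x => by
      refine (Submodule.Quotient.mk_eq_zero _).mp ?_
      have := LinearMap.congr_fun hσ (H.toSubmodule.mkQ x)
      simp only [LinearMap.comp_apply, LinearMap.id_apply, Submodule.mkQ_apply] at this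
      simp [this]
    refine Module.Projective.of_split ((H.incl : H →ₗ⁅A'⁆ A' ⊗[A] L) : H →ₗ[A'] A' ⊗[A] L)
      ((LinearMap.id - σ ∘ₗ H.toSubmodule.mkQ).codRestrict H.toSubmodule hmem) (LinearMap.ext fun y => Subtype.ext ?_)
    show (y : A' ⊗[A] L) - σ (H.toSubmodule.mkQ (y : A' ⊗[A] L)) = (y : A' ⊗[A] L)
    simp [(Submodule.Quotient.mk_eq_zero H.toSubmodule).mpr y.2]
  haveI : Module.FinitePresentation A' H := Module.finitePresentation_of_projective A' H
  let r : PrimeSpectrum A → ℕ := fun q => LieAlgebra.rank q.asIdeal.ResidueField (q.asIdeal.ResidueField ⊗[A] L)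
  have hr : ∀ q' : PrimeSpectrum A', r (PrimeSpectrum.comap (algebraMap A A') q') = Module.rankAtStalk H q' := by
    intro q'
    show LieAlgebra.rank _ _ = _
    rw [← LieCartan.rank_fibre q', ← LieCartan.finrank_fibreLie hH q', Module.rankAtStalk_eq]
    exact (LinearEquiv.ofInjective _ (LieCartan.injective_incl q'.asIdeal.ResidueField H)).finrank_eq.symm
  have hq : Topology.IsQuotientMap (PrimeSpectrum.comap (algebraMap A A')) :=
    PrimeSpectrum.isQuotientMap_of_generalizingMap PrimeSpectrum.comap_surjective_of_faithfullyFlat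
      (Algebra.HasGoingDown.iff_generalizingMap_primeSpectrumComap.mp inferInstance)
  intro p
  have hopen : IsOpen {q | r q = r p} := by
    rw [← hq.isOpen_preimage]
    have : PrimeSpectrum.comap (algebraMap A A') ⁻¹' {q | r q = r p} = Module.rankAtStalk (R := A') H ⁻¹' {r p} := by
      ext q'
      show r (PrimeSpectrum.comap (algebraMap A A') q') = r p ↔ Module.rankAtStalk (R := A') H q' = r p
      rw [hr]
    rw [this]
    exact Module.isLocallyConstant_rankAtStalk (R := A') (M := H) {r p}
  obtain ⟨_, ⟨f, rfl⟩, hpf, hsub⟩ :=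
    PrimeSpectrum.isTopologicalBasis_basic_opens.exists_subset_of_mem_open (show p ∈ {q | r q = r p} from rfl) hopen
  exact ⟨f, hpf, fun q hqf => hsub hqf⟩

end Groth.Agent.S8378
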