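import Groth.Statements.S8381
import Groth.Agent.GrMax.Regular
import Mathlib

set_option autoImplicit false
universe u
open CategoryTheory MonoidalCategory CartesianMonoidalCategory MonObj GrpObj AlgebraicGeometry
open SGA3t2b

namespace Groth.Agent.S8381

/-- Let G be a smooth affine algebraic group (smooth, affine and of finite type) over an infinite field
k, T a maximal torus of G, and L a Lie algebra over k modelling Lie(G)(k) (an identification
carrying sum, scalars and bracket to the group law, rescaling and bracket relation on dual-number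
points). Then the Lie algebra of T contains a regular element of the Lie algebra of G: some element
of Lie(T)(k) maps to an element of Lie(G)(k) whose counterpart in L is regular. (This row takes G
affine; without that hypothesis the statement fails for suitable non-affine groups in positive
characteristic, where a maximal torus can have central Lie algebra inside a non-nilpotent Lie(G).) -/
theorem result (k : Type u) [Field k] [Infinite k]
    (G : Over (Spec (CommRingCat.of k))) [GrpObj G] [Smooth G.hom] [QuasiCompact G.hom] [IsAffine G.left]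
    (T : Over (Spec (CommRingCat.of k))) [GrpObj T] (i : T ⟶ G) [IsMonHom i] (hT : Red.IsMaximalTorus i)
    (L : Type u) [LieRing L] [LieAlgebra k L] [Module.Finite k L] (m : LieS.Model G k (Spec.map (CommRingCat.ofHom (algebraMap k k))) L) :
    ∃ w : ↥(LieS.LieR T k),
      LieAlgebra.IsRegular k (Multiplicative.toAdd (m.e.symm (LieS.map k (Spec.map (CommRingCat.ofHom (algebraMap k k))) i w))) := by
  classical
  obtain ⟨A, _, e, he⟩ := FinHopf.exists_hopf (R := CommRingCat.of k) G
  haveI := he
  haveI : Algebra.FiniteType k A := by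
    have h0 : LocallyOfFiniteType (e.hom.left ≫ G.hom) := by
      haveI : IsIso e.hom.left := inferInstanceAs (IsIso ((Over.forget _).map e.hom))
      infer_instance
    rw [Over.w e.hom] at h0
    exact RingHom.finiteType_algebraMap.1 ((HasRingHomProperty.Spec_iff (P := @LocallyOfFiniteType)).1 h0)
  obtain ⟨n, ⟨C⟩⟩ := GrMax.exists_matGen (k := k) (A := A)
  let ρ : L →ₗ[k] Matrix (Fin n) (Fin n) k :=
    { toFun := fun x => GrMax.lieMat e C (m.e (Multiplicative.ofAdd x))
      map_add' := fun x y => by rw [ofAdd_add, map_mul, GrMax.lieMat_mul]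
      map_smul' := fun c x => by rw [m.e_smul, GrMax.lieMat_smul]; rfl }
  have hρinj : Function.Injective ρ := fun x y h =>
    Multiplicative.ofAdd.injective (m.e.injective (GrMax.lieMat_injective e C h))
  have hρlie : ∀ x y : L, ρ ⁅x, y⁆ = GrMax.adM (ρ x) (ρ y) := fun x y => by
    rw [GrMax.adM_apply]
    exact GrMax.lieMat_bracket e C (m.e_lie x y)
  have hrange : LinearMap.range ρ = GrMax.tanSpace C := by
    refine le_antisymm ?_ ?_
    · rintro _ ⟨x, rfl⟩
      exact ⟨_, GrMax.isTan_lieVec e _, rfl⟩
    · rintro _ ⟨d, hd, rfl⟩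
      obtain ⟨v, hv⟩ := GrMax.exists_lieVec e hd
      refine ⟨Multiplicative.toAdd (m.e.symm v), ?_⟩
      show GrMax.lieMat e C (m.e (Multiplicative.ofAdd (Multiplicative.toAdd (m.e.symm v)))) = _
      rw [ofAdd_toAdd, MulEquiv.apply_symm_apply, GrMax.lieMat, hv]
  have hpow : ∀ (x : L) (j : ℕ) (y : L), ρ (((LieAlgebra.ad k L x) ^ j) y) = ((GrMax.adM (ρ x)) ^ j) (ρ y) := by
    intro x j
    induction j with
    | zero => intro y; simp
    | succ j ih =>
      intro y
      rw [pow_succ', Module.End.mul_apply, LieAlgebra.ad_apply, hρlie, ih, pow_succ', Module.End.mul_apply]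
  have hnil : ∀ x : L, (LieAlgebra.ad k L x).charpoly.natTrailingDegree =
      Module.finrank k ↥(GrMax.tanSpace C ⊓ LinearMap.ker ((GrMax.adM (ρ x)) ^ (n * n))) := by
    intro x
    rw [← LinearMap.finrank_maxGenEigenspace_zero_eq]
    have hmap : Submodule.map ρ (Module.End.maxGenEigenspace (LieAlgebra.ad k L x) 0) =
        GrMax.tanSpace C ⊓ LinearMap.ker ((GrMax.adM (ρ x)) ^ (n * n)) := by
      refine le_antisymm ?_ ?_
      · rintro _ ⟨y, hy, rfl⟩
        obtain ⟨j, hj⟩ := (Module.End.mem_maxGenEigenspace _ _ _).1 hy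
        rw [zero_smul, sub_zero] at hj
        exact ⟨hrange ▸ LinearMap.mem_range_self ρ y, GrMax.adM_pow_eq_zero (N := j) (by rw [← hpow, hj, map_zero])⟩
      · rintro V ⟨hV, hVk⟩
        obtain ⟨y, rfl⟩ : V ∈ LinearMap.range ρ := hrange ▸ hV
        refine ⟨y, (Module.End.mem_maxGenEigenspace _ _ _).2 ⟨n * n, ?_⟩, rfl⟩
        rw [zero_smul, sub_zero]
        apply hρinj
        rw [hpow, map_zero]
        exact hVk
    rw [← hmap]
    exact (Submodule.equivMapOfInjective ρ hρinj _).finrank_eq
  obtain ⟨x₀, hx₀⟩ := LieAlgebra.exists_isRegular (R := k) (L := L)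
  have hd₀ : GrMax.IsTan (GrMax.lieVec e (m.e (Multiplicative.ofAdd x₀))) := GrMax.isTan_lieVec e _
  obtain ⟨P⟩ := GrMax.exists_ssPoly (AlgebraicClosure k) (C.c.map (GrMax.lieVec e (m.e (Multiplicative.ofAdd x₀))))
  obtain ⟨w, hw⟩ := GrMax.exists_regular_element C e i hT hd₀ P
  refine ⟨w, ?_⟩
  set y := Multiplicative.toAdd (m.e.symm (LieS.map k (Spec.map (CommRingCat.ofHom (algebraMap k k))) i w)) with hy
  rw [LieAlgebra.isRegular_iff_natTrailingDegree_charpoly_eq_rank]
  refine le_antisymm ?_ (LieAlgebra.rank_le_natTrailingDegree_charpoly_ad k y)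
  rw [← (LieAlgebra.isRegular_iff_natTrailingDegree_charpoly_eq_rank k x₀).1 hx₀, hnil, hnil]
  have hρy : ρ y = GrMax.lieMat e C (LieS.map k (Spec.map (CommRingCat.ofHom (algebraMap k k))) i w) := by
    show GrMax.lieMat e C (m.e (Multiplicative.ofAdd y)) = _
    rw [hy, ofAdd_toAdd, MulEquiv.apply_symm_apply]
  rw [hρy]
  refine hw.trans (Submodule.finrank_mono ?_)
  rintro V ⟨hV, hVk⟩
  obtain ⟨j, hj⟩ := P.ad_zero V hVk
  exact ⟨hV, GrMax.adM_pow_eq_zero hj⟩

end Groth.Agent.S8381
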