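import Groth.Statements.S8383
import Mathlib.Combinatorics.Nullstellensatz
import Mathlib.RingTheory.MvPolynomial.Ideal
import Mathlib.FieldTheory.Finite.Basic

set_option autoImplicit false
universe u
open scoped TensorProduct
open SGA3t2b

namespace Groth.Agent.S8383

/-- Let k be a finite field with algebraic closure K, V a finite-dimensional vector space over k, and
θ₁, …, θₙ a basis of the dual of the K-vector space K ⊗ V. Then there is x ∈ V with θᵢ(1 ⊗ x) ≠ 0
for every i. -/
theorem result (k : Type u) [Field k] [Finite k]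
    (V : Type u) [AddCommGroup V] [Module k V] [Module.Finite k V] {ι : Type} [Fintype ι]
    (θ : Module.Basis ι (AlgebraicClosure k) (Module.Dual (AlgebraicClosure k) (AlgebraicClosure k ⊗[k] V))) :
    ∃ x : V, ∀ i : ι, θ i ((1 : AlgebraicClosure k) ⊗ₜ[k] x) ≠ 0 := by
  classical
  have : Fintype k := Fintype.ofFinite k
  let K := AlgebraicClosure k
  let b := Module.Free.chooseBasis k V
  let σ := Module.Free.ChooseBasisIndex k V
  let bK : Module.Basis σ K (K ⊗[k] V) := b.baseChange K
  let w : ι → K ⊗[k] V := fun l => (Module.evalEquiv K (K ⊗[k] V)).symm (θ.coord l)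
  have hw : ∀ i l, θ i (w l) = if i = l then (1 : K) else 0 := fun i l => by
    refine (Module.apply_evalEquiv_symm_apply K _ (θ i) (θ.coord l)).trans ?_
    rw [Module.Basis.coord_apply, Module.Basis.repr_self, Finsupp.single_apply]
  let L : ι → MvPolynomial σ K := fun i => ∑ j, MvPolynomial.C (θ i (bK j)) * MvPolynomial.X j
  let P : MvPolynomial σ K := ∏ i, L i
  let φ : MvPolynomial σ K →ₐ[K] MvPolynomial ι K :=
    MvPolynomial.aeval fun j => ∑ l, MvPolynomial.C (bK.repr (w l) j) * MvPolynomial.X l
  have hL : ∀ i, φ (L i) = MvPolynomial.X i := by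
    intro i
    simp only [L, φ, map_sum, map_mul, MvPolynomial.aeval_X, MvPolynomial.aeval_C,
      MvPolynomial.algebraMap_eq]
    simp_rw [Finset.mul_sum]
    rw [Finset.sum_comm]
    have : ∀ l, ∑ j, MvPolynomial.C (θ i (bK j)) * (MvPolynomial.C (bK.repr (w l) j) * MvPolynomial.X l)
        = MvPolynomial.C (θ i (w l)) * MvPolynomial.X l := by
      intro l
      conv_rhs => rw [← bK.sum_repr (w l), map_sum, map_sum, Finset.sum_mul]
      refine Finset.sum_congr rfl fun j _ => ?_
      rw [map_smul, smul_eq_mul, map_mul]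
      ring
    simp only [this, hw, apply_ite MvPolynomial.C, map_one, map_zero, ite_mul, one_mul, zero_mul,
      Finset.sum_ite_eq, Finset.mem_univ, if_true]
  have hLhom : ∀ i, (L i).IsHomogeneous 1 := fun i =>
    MvPolynomial.IsHomogeneous.sum _ _ _ fun j _ =>
      MvPolynomial.IsHomogeneous.C_mul (MvPolynomial.isHomogeneous_X K j) _
  have hPhom : P.IsHomogeneous (∑ _i : ι, 1) :=
    MvPolynomial.IsHomogeneous.prod _ _ _ fun i _ => hLhom i
  have hq : 2 ≤ Fintype.card k := Fintype.one_lt_card
  obtain ⟨t, htP, htq⟩ : ∃ t ∈ P.support, ∀ j, t j < Fintype.card k := by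
    by_contra hcon
    push Not at hcon
    have hmem : P ∈ Ideal.span ((fun s => MvPolynomial.monomial s (1 : K)) ''
        Set.range (fun j : σ => Finsupp.single j (Fintype.card k))) := by
      rw [MvPolynomial.mem_ideal_span_monomial_image]
      intro m hm
      obtain ⟨j, hj⟩ := hcon m hm
      exact ⟨_, ⟨j, rfl⟩, Finsupp.single_le_iff.mpr hj⟩
    have hle : (Ideal.span ((fun s => MvPolynomial.monomial s (1 : K)) ''
        Set.range (fun j : σ => Finsupp.single j (Fintype.card k)))).map φ ≤
        Ideal.span ((fun s => MvPolynomial.monomial s (1 : K)) ''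
          Set.range (fun l : ι => Finsupp.single l (Fintype.card k))) := by
      rw [Ideal.map_span, Ideal.span_le]
      rintro _ ⟨_, ⟨_, ⟨j, rfl⟩, rfl⟩, rfl⟩
      obtain ⟨p, e, hp, hcard⟩ : ∃ p e : ℕ, ExpChar (MvPolynomial ι K) p ∧ Fintype.card k = p ^ e := by
        obtain ⟨e, hpr, hcard⟩ := FiniteField.card k (ringChar k)
        have : Fact (ringChar k).Prime := ⟨hpr⟩
        have : CharP K (ringChar k) := charP_of_injective_algebraMap (algebraMap k K).injective _
        exact ⟨_, e, ExpChar.prime hpr, hcard⟩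
      have hX : MvPolynomial.monomial (Finsupp.single j (Fintype.card k)) (1 : K)
          = MvPolynomial.X j ^ Fintype.card k := by
        rw [MvPolynomial.X_pow_eq_monomial]
      show φ (MvPolynomial.monomial (Finsupp.single j (Fintype.card k)) (1 : K)) ∈ _
      rw [hX, map_pow, hcard]
      simp only [φ, MvPolynomial.aeval_X]
      rw [sum_pow_char_pow]
      refine Ideal.sum_mem _ fun l _ => ?_
      rw [mul_pow, MvPolynomial.X_pow_eq_monomial, ← hcard]
      exact Ideal.mul_mem_left _ _ (Ideal.subset_span ⟨_, ⟨l, rfl⟩, rfl⟩)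
    have h1 := hle (Ideal.mem_map_of_mem φ hmem)
    have hφP : φ P = MvPolynomial.monomial (∑ l : ι, Finsupp.single l 1) (1 : K) := by
      simp only [P, map_prod, hL]
      rw [MvPolynomial.monomial_sum_one]
      rfl
    rw [hφP, MvPolynomial.mem_ideal_span_monomial_image] at h1
    obtain ⟨_, ⟨l, rfl⟩, hl⟩ := h1 _ (by
      rw [MvPolynomial.support_monomial, if_neg one_ne_zero]
      exact Finset.mem_singleton_self _)
    rw [Finsupp.single_le_iff, Finsupp.finsetSum_apply] at hl
    simp only [Finsupp.single_apply, Finset.sum_ite_eq', Finset.mem_univ, if_true] at hl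
    omega
  have hP0 : P ≠ 0 := fun h => by simp [h] at htP
  have ht : P.totalDegree = t.degree := by
    rw [hPhom.totalDegree hP0]
    have := hPhom (MvPolynomial.mem_support_iff.mp htP)
    rw [← this, Finsupp.weight_apply]
    simp [Finsupp.degree, Finsupp.sum]
  obtain ⟨s, hs, hne⟩ := MvPolynomial.combinatorial_nullstellensatz_exists_eval_nonzero P t
    (MvPolynomial.mem_support_iff.mp htP) ht
    (fun _ => Finset.univ.image (algebraMap k K)) (fun j => by
      rw [Finset.card_image_of_injective _ (algebraMap k K).injective, Finset.card_univ]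
      exact htq j)
  choose c _ hc using fun j => Finset.mem_image.mp (hs j)
  refine ⟨∑ j, c j • b j, fun i h => hne ?_⟩
  simp only [P, map_prod]
  refine Finset.prod_eq_zero (Finset.mem_univ i) ?_
  rw [← h]
  simp only [L, map_sum, map_mul, MvPolynomial.eval_C, MvPolynomial.eval_X, TensorProduct.tmul_sum]
  refine Finset.sum_congr rfl fun j _ => ?_
  rw [TensorProduct.tmul_smul, ← algebraMap_smul K (c j), map_smul, smul_eq_mul, hc j]
  simp [bK, mul_comm]

end Groth.Agent.S8383
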