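import Groth.Statements.S8384
import Mathlib

set_option autoImplicit false
universe u
open CategoryTheory MonoidalCategory CartesianMonoidalCategory MonObj GrpObj AlgebraicGeometry
open SGA3x

namespace Groth.Agent.S8384

/-- Let A be a local ring, separated and complete for the topology defined by its maximal ideal m, S =
Spec A and Sₙ = Spec(A/mⁿ). Then for every scheme X the canonical map Hom(S, X) → lim Hom(Sₙ, X) is
bijective: two morphisms S → X that agree on every Sₙ are equal, and every family of morphisms Sₙ →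
X compatible with the closed immersions Sₙ → Sₙ₊₁ is induced by a morphism S → X. -/
theorem result (A : Type u) [CommRing A] [IsLocalRing A]
    [IsAdicComplete (IsLocalRing.maximalIdeal A) A] (X : Scheme.{u}) :
    (∀ f g : (Spec (CommRingCat.of A)) ⟶ X,
      (∀ n : ℕ, (Spec.map (CommRingCat.ofHom (Ideal.Quotient.mk ((IsLocalRing.maximalIdeal A) ^ n)))) ≫ f = (Spec.map (CommRingCat.ofHom (Ideal.Quotient.mk ((IsLocalRing.maximalIdeal A) ^ n)))) ≫ g) → f = g) ∧
    (∀ u : (n : ℕ) → (Spec (CommRingCat.of (A ⧸ (IsLocalRing.maximalIdeal A) ^ n)) ⟶ X),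
      (∀ n : ℕ, (Spec.map (CommRingCat.ofHom (Ideal.Quotient.factor
          (Ideal.pow_le_pow_right (I := (IsLocalRing.maximalIdeal A)) (Nat.le_succ n))))) ≫ u (n + 1) = u n) →
      ∃ f : (Spec (CommRingCat.of A)) ⟶ X, ∀ n : ℕ, (Spec.map (CommRingCat.ofHom (Ideal.Quotient.mk ((IsLocalRing.maximalIdeal A) ^ n)))) ≫ f = u n) := by
  let m := IsLocalRing.maximalIdeal A
  let π : ∀ n : ℕ, A →+* A ⧸ m ^ n := fun n => Ideal.Quotient.mk _
  -- a morphism out of `Spec A` sending the closed point into an affine open factors through it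
  have fac : ∀ (U : X.Opens) (hU : IsAffineOpen U) (f : Spec (CommRingCat.of A) ⟶ X),
      f (IsLocalRing.closedPoint A) ∈ U → ∃ φ : Γ(X, U) ⟶ CommRingCat.of A, Spec.map φ ≫ hU.fromSpec = f := by
    intro U hU f hf
    have hr : Set.range f ⊆ Set.range hU.fromSpec := by
      rw [hU.range_fromSpec]
      rintro _ ⟨y, rfl⟩
      exact ((IsLocalRing.specializes_closedPoint (y : PrimeSpectrum A)).map f.continuous).mem_open U.2 hf
    refine ⟨Spec.preimage (IsOpenImmersion.lift hU.fromSpec f hr), ?_⟩
    rw [Spec.map_preimage, IsOpenImmersion.lift_fac]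
  have hcp : (Spec.map (CommRingCat.ofHom (π 1))) ≫ 𝟙 _ = Spec.map (CommRingCat.ofHom (π 1)) := Category.comp_id _
  haveI hsub : ∀ n : ℕ, Subsingleton (PrimeSpectrum (A ⧸ m ^ (n + 1))) := fun n => ⟨fun P Q => by
    have key : ∀ P : PrimeSpectrum (A ⧸ m ^ (n + 1)), P.asIdeal.comap (π (n + 1)) = m := fun P =>
      ((IsLocalRing.maximalIdeal.isMaximal A).eq_of_le (Ideal.IsPrime.ne_top inferInstance) fun a ha => by
        refine P.isPrime.mem_of_pow_mem (n + 1) ?_
        rw [← map_pow, show π (n + 1) (a ^ (n + 1)) = 0 from Ideal.Quotient.eq_zero_iff_mem.mpr (Ideal.pow_mem_pow ha _)]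
        exact P.asIdeal.zero_mem).symm
    exact PrimeSpectrum.ext (Ideal.comap_injective_of_surjective _ Ideal.Quotient.mk_surjective ((key P).trans (key Q).symm))⟩
  haveI hnt : ∀ n : ℕ, Nontrivial (A ⧸ m ^ (n + 1)) := fun n => Ideal.Quotient.nontrivial_iff.mpr fun h =>
    (IsLocalRing.maximalIdeal.isMaximal A).ne_top (top_unique (h.ge.trans (Ideal.pow_le_self n.succ_ne_zero)))
  let pt : ∀ n : ℕ, PrimeSpectrum (A ⧸ m ^ (n + 1)) := fun n => Classical.arbitrary _
  have hpt : ∀ n, Spec.map (CommRingCat.ofHom (π (n + 1))) (pt n) = IsLocalRing.closedPoint A := fun n => by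
    refine PrimeSpectrum.ext ((IsLocalRing.maximalIdeal.isMaximal A).eq_of_le (Spec.map (CommRingCat.ofHom (π (n + 1))) (pt n)).isPrime.ne_top (fun a ha => ?_)).symm
    refine (pt n).isPrime.mem_of_pow_mem (n + 1) ?_
    rw [← map_pow, show (CommRingCat.ofHom (π (n + 1))).hom (a ^ (n + 1)) = 0 from
      Ideal.Quotient.eq_zero_iff_mem.mpr (Ideal.pow_mem_pow ha _)]
    exact (pt n).asIdeal.zero_mem
  constructor
  · intro f g h
    obtain ⟨U, hU, hxU, -⟩ := exists_isAffineOpen_mem_and_subset (X := X) (x := f (IsLocalRing.closedPoint A)) (U := ⊤) trivial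
    have hg : g (IsLocalRing.closedPoint A) ∈ U := by
      have h0 := congrArg (fun k => k (pt 0)) (h (0 + 1))
      change f (Spec.map (CommRingCat.ofHom (π (0 + 1))) (pt 0)) = g (Spec.map (CommRingCat.ofHom (π (0 + 1))) (pt 0)) at h0
      rw [hpt 0] at h0
      rwa [← h0]
    obtain ⟨φ, rfl⟩ := fac U hU f hxU
    obtain ⟨ψ, rfl⟩ := fac U hU g hg
    suffices φ = ψ by rw [this]
    ext a
    refine (IsHausdorff.eq_iff_smodEq (I := m)).mpr fun n => ?_
    have h2 := h n
    rw [← Category.assoc, ← Category.assoc, cancel_mono, ← Spec.map_comp, ← Spec.map_comp] at h2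
    rw [SModEq.sub_mem, smul_eq_mul, Ideal.mul_top, ← Ideal.Quotient.eq]
    exact congrArg (fun k => k.hom a) (Spec.map_injective h2)
  · intro u hu
    let x := u 1 (pt 0)
    obtain ⟨U, hU, hxU, -⟩ := exists_isAffineOpen_mem_and_subset (X := X) (x := x) (U := ⊤) trivial
    have hx : ∀ n, u (n + 1) (pt n) = x := by
      intro n
      induction n with
      | zero => rfl
      | succ n ih =>
        rw [← ih, ← hu (n + 1)]
        change _ = u (n + 1 + 1) _
        congr 1
        exact (hsub (n + 1)).elim _ _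
    have hn : ∀ n, ∃ φ : Γ(X, U) ⟶ CommRingCat.of (A ⧸ m ^ n), Spec.map φ ≫ hU.fromSpec = u n := by
      intro n
      have hr : Set.range (u n) ⊆ Set.range hU.fromSpec := by
        rw [hU.range_fromSpec]
        rintro _ ⟨y, rfl⟩
        cases n with
        | zero =>
          haveI : Subsingleton (A ⧸ m ^ 0) := Ideal.Quotient.subsingleton_iff.mpr (by simp)
          exact absurd ((Ideal.eq_top_iff_one _).mpr (by rw [Subsingleton.elim (1 : A ⧸ m ^ 0) 0]; exact y.asIdeal.zero_mem)) y.isPrime.ne_top
        | succ n =>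
          rw [show y = pt n from (hsub n).elim _ _, hx n]
          exact hxU
      exact ⟨Spec.preimage (IsOpenImmersion.lift hU.fromSpec (u n) hr), by
        rw [Spec.map_preimage, IsOpenImmersion.lift_fac]⟩
    choose φ hφ using hn
    have hstep : ∀ n, (Ideal.Quotient.factor (Ideal.pow_le_pow_right (I := m) (Nat.le_succ n))).comp (φ (n + 1)).hom = (φ n).hom := by
      intro n
      have h2 := hu n
      rw [← hφ n, ← hφ (n + 1), ← Category.assoc, cancel_mono, ← Spec.map_comp] at h2
      exact congrArg CommRingCat.Hom.hom (Spec.map_injective h2)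
    have hle : ∀ {a b : ℕ} (hab : a ≤ b), (Ideal.Quotient.factorPow m hab).comp (φ b).hom = (φ a).hom := by
      intro a b hab
      induction b, hab using Nat.le_induction with
      | base => ext; simp
      | succ b hab ih =>
        rw [← ih, ← hstep b, ← RingHom.comp_assoc]
        congr 1
        ext; simp
    let Φ := IsAdicComplete.liftRingHom m (fun n => (φ n).hom) hle
    refine ⟨Spec.map (CommRingCat.ofHom Φ) ≫ hU.fromSpec, fun n => ?_⟩
    rw [← hφ n, ← Category.assoc, ← Spec.map_comp]
    congr 2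
    ext a
    exact IsAdicComplete.mk_liftRingHom m (fun n => (φ n).hom) hle n a

end Groth.Agent.S8384
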