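import Groth.Statements.S8393
import Groth.Agent.Chev.RedCentre
import Groth.Agent.MTSplit.Basic
-- import your own Groth.Agent.* helpers here

set_option autoImplicit false
set_option backward.isDefEq.respectTransparency false
universe u
open CategoryTheory MonoidalCategory CartesianMonoidalCategory MonObj GrpObj AlgebraicGeometry
open SGA3x

open CategoryTheory.Limits
open Groth.Agent.MTBridge (toBC toBC_mul toBC_comp toBC_inj toBC_naturality exists_toBC')
open Groth.Agent.Chev.RedCentre

namespace Groth.Agent.S8393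

/-- A homomorphism central after base change is a central family downstairs. -/
theorem central_fromBC {S T : Scheme.{u}} (φ : T ⟶ S) {G : Over S} [GrpObj G] {H : Over T}
    (a : (Over.map φ).obj H ⟶ G)
    (hc : ∀ (X : Over T) (x : X ⟶ H) (g : X ⟶ Red.bc φ G), (x ≫ toBC φ a) * g = g * (x ≫ toBC φ a))
    (X : Over S) (x : X ⟶ (Over.map φ).obj H) (y : X ⟶ G) : y * (x ≫ a) = (x ≫ a) * y := by
  let Y : Over T := Over.mk (x.left ≫ H.hom)
  let x' : Y ⟶ H := Over.homMk x.left
  let e : (Over.map φ).obj Y ≅ X := Over.isoMk (Iso.refl _) (by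
    show 𝟙 _ ≫ X.hom = (x.left ≫ H.hom) ≫ φ
    rw [Category.id_comp, Category.assoc]
    exact (Over.w x).symm)
  have hex : e.hom ≫ x = (Over.map φ).map x' := Over.OverMorphism.ext (by
    show 𝟙 _ ≫ x.left = x.left
    exact Category.id_comp _)
  have h := hc Y x' (toBC φ (e.hom ≫ y))
  rw [← toBC_naturality, ← toBC_mul, ← toBC_mul, ← hex] at h
  refine (cancel_epi e.hom).1 ?_
  rw [MonObj.comp_mul, MonObj.comp_mul]
  simpa only [Category.assoc] using (toBC_inj φ h).symm


/-- Let G be an affine algebraic group over a field k (an affine k-group scheme of finite type). Then G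
admits a reductive centre: a subgroup scheme Z of G which is central and of multiplicative type, and
such that for every k-scheme S′ and every central homomorphism v : H → G ×_k S′ from an S′-group H
of multiplicative type and of finite type, v factors through Z ×_k S′. -/
theorem result (k : Type u) [Field k]
    (G : Over (Spec (CommRingCat.of k))) [GrpObj G] [IsAffine G.left] [QuasiCompact G.hom] [LocallyOfFiniteType G.hom] :
    ∃ (Z : Over (Spec (CommRingCat.of k))) (_ : GrpObj Z) (z : Z ⟶ G), IsMonHom z ∧ Mono z ∧ SGA3x.IsMultTypeFT Z ∧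
      (∀ (X : Over (Spec (CommRingCat.of k))) (x : X ⟶ Z) (g : X ⟶ G), (x ≫ z) * g = g * (x ≫ z)) ∧
      ∀ (S' : Scheme.{u}) (f : S' ⟶ (Spec (CommRingCat.of k))) (H : Over S') [GrpObj H] (v : H ⟶ Red.bc f G) [IsMonHom v],
        SGA3x.IsMultTypeFT H →
        (∀ (X : Over S') (x : X ⟶ H) (g : X ⟶ Red.bc f G), (x ≫ v) * g = g * (x ≫ v)) →
        ∃ w : H ⟶ Red.bc f Z, w ≫ (Over.pullback f).map z = v := by
  obtain ⟨C, hCg, c, hcm, hcc, hC⟩ := exists_centre G
  haveI := hcm; haveI := hcc
  haveI : Mono c := (Over.forget _).mono_of_mono_map (inferInstanceAs (Mono c.left))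
  haveI : IsAffine C.left := isAffine_of_isAffineHom c.left
  haveI : LocallyOfFiniteType C.hom := by rw [← Over.w c]; infer_instance
  have hcent : ∀ (X : Over (Spec (CommRingCat.of k))) (x : X ⟶ C) (g : X ⟶ G), (x ≫ c) * g = g * (x ≫ c) :=
    fun X x g => by
      have h := (hC X (x ≫ c)).1 ⟨x, rfl⟩ X (𝟙 X) g
      rw [Category.id_comp] at h
      exact h.symm
  obtain ⟨M, hMg, m, hmm, hmc, hMt, huniv⟩ := exists_multType_part C fun X x y => (cancel_mono c).1 (by
    rw [MonObj.mul_comp, MonObj.mul_comp, hcent X x (y ≫ c)])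
  haveI := hmm; haveI := hmc
  haveI : Mono m := (Over.forget _).mono_of_mono_map (inferInstanceAs (Mono m.left))
  refine ⟨M, hMg, m ≫ c, inferInstance, inferInstance, hMt, fun X x g => ?_, fun S' f H _ v _ hH hv => ?_⟩
  · rw [← Category.assoc]; exact hcent X (x ≫ m) g
  haveI : PreservesLimitsOfShape WalkingCospan (Over.pullback f) :=
    (Adjunction.rightAdjoint_preservesLimits (Over.mapPullbackAdj f)).preservesLimitsOfShape
  obtain ⟨a, ha⟩ := exists_toBC' f v
  obtain ⟨w₀, hw₀⟩ := (hC _ a).2 fun X' x y => central_fromBC f a (fun X x g => by rw [ha]; exact hv X x g) X' x y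
  have hv' : toBC f w₀ ≫ (Over.pullback f).map c = v := by rw [← toBC_comp, hw₀, ha]
  haveI : IsMonHom (toBC f w₀) := MTSplit.isMonHom_of_comp_mono _ ((Over.pullback f).map c) v hv'
  obtain ⟨w, hw⟩ := huniv S' f H (toBC f w₀) hH
  exact ⟨w, by rw [Functor.map_comp, reassoc_of% hw, hv']⟩

end Groth.Agent.S8393
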