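import Groth.Statements.S8394
import Groth.Agent.GrMax.RootLie
import Groth.Agent.S8381
import Groth.Agent.RedR1.Gen
import Groth.Agent.Chev.TorusExt
import Groth.Agent.Chev.RedCentre
import Groth.Agent.RedCartan.Field

set_option autoImplicit false
set_option backward.isDefEq.respectTransparency false
set_option maxHeartbeats 1000000
set_option synthInstance.maxHeartbeats 400000
universe u
open CategoryTheory MonoidalCategory CartesianMonoidalCategory MonObj GrpObj AlgebraicGeometry
open SGA3t2b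

namespace Groth.Agent.S8394

/-- Let G be a semisimple group over an algebraically closed field k which is adjoint (its centre is the
trivial subgroup scheme), T a maximal torus of G, and L a Lie algebra over k modelling Lie(G)(k).
Then the Lie algebra of T is a Cartan subalgebra of the Lie algebra of G: the image of Lie(T)(k) in
L is a Lie subalgebra which is nilpotent and self-normalizing and whose dimension equals the
nilpotent rank of L. (The published statement, over any base and for a smooth group with adjoint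
semisimple geometric fibres, identifies the subgroups of type (C) with the maximal tori, which are
also the Cartan subgroups; this row states the case of an algebraically closed field in the form
that the Lie algebra of a maximal torus is a Cartan subalgebra of dimension equal to the nilpotent
rank.) -/
theorem result (k : Type u) [Field k] [IsAlgClosed k]
    (G : Over (Spec (CommRingCat.of k))) [GrpObj G] (hG : Red.IsSemisimple G)
    (hadj : ∀ (Z : Over (Spec (CommRingCat.of k))) [GrpObj Z] (j : Z ⟶ G), Red.IsCentre j → Red.IsTrivialGrp Z)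
    (T : Over (Spec (CommRingCat.of k))) [GrpObj T] (i : T ⟶ G) [IsMonHom i] (hT : Red.IsMaximalTorus i)
    (L : Type u) [LieRing L] [LieAlgebra k L] [Module.Finite k L] (m : LieS.Model G k (Spec.map (CommRingCat.ofHom (algebraMap k k))) L) :
    ∃ H : LieSubalgebra k L,
      (H : Set L) = {x | ∃ w : ↥(LieS.LieR T k), m.e (Multiplicative.ofAdd x) = LieS.map k (Spec.map (CommRingCat.ofHom (algebraMap k k))) i w} ∧
      H.IsCartanSubalgebra ∧ Module.finrank k H = LieAlgebra.rank k L := by
  classical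
  obtain ⟨r, ⟨E⟩⟩ := Chev.exists_split_algClosed hT.2.2.1
  have hred : Red.IsReductive G := ⟨hG.1, hG.2.1, fun s => (hG.2.2 s).1⟩
  obtain ⟨i1, i2, i3⟩ := RootSys.red_inst hred
  haveI := i1; haveI := i2; haveI := i3; haveI := hT.2.1
  let c := E.inv.hom.hom ≫ i
  haveI : IsMonHom c := RootSys.isMonHom_split hT.1 E
  have hc : Red.IsMaximalTorus c := RootBase.isMaximalTorus_DS hT E
  have hadj' : ∀ (X : Over (Spec (CommRingCat.of k))) (g : X ⟶ G),
      (∀ (X' : Over (Spec (CommRingCat.of k))) (x : X' ⟶ X) (h : X' ⟶ G), (x ≫ g) * h = h * (x ≫ g)) → g = 1 := by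
    obtain ⟨Z, _, z, hzm, hzc, hZ⟩ := Chev.RedCentre.exists_centre G
    haveI := hzm; haveI := hzc
    haveI : Mono z := (Over.forget _).mono_of_mono_map (inferInstanceAs (Mono z.left))
    have hzcentre : Red.IsCentre z := ⟨hzm, inferInstance, fun X g => (hZ X g).trans
      ⟨fun h X' x y => by rw [Category.comp_id]; exact (h X' x y).symm,
        fun h X' x y => by simpa only [Category.comp_id] using (h X' x y).symm⟩⟩
    haveI : IsIso Z.hom := hadj Z z hzcentre
    intro X g hg
    obtain ⟨y, rfl⟩ := (hZ X g).2 fun X' x h => (hg X' x h).symm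
    rw [show y = 1 from Over.OverMorphism.ext ((cancel_mono Z.hom).1 ((Over.w y).trans (Over.w (1 : X ⟶ Z)).symm)),
      MonObj.one_comp]
  obtain ⟨ν, hν⟩ := GrMax.exists_functional_root (M := Fin r → ℤ) c hred hc hadj'
  obtain ⟨w₀, hw₀⟩ := GrMax.exists_torusVec ν
  let f := RootSys.fk k
  let wT : ↥(LieS.LieR T k) := LieS.map k f E.inv.hom.hom w₀
  have hET : E.hom.hom.hom ≫ E.inv.hom.hom = 𝟙 T := congrArg (fun z => z.hom.hom) E.hom_inv_id
  let xv : L → LieS.Lie G k f := fun x => m.e (Multiplicative.ofAdd x)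
  let h : L := Multiplicative.toAdd (m.e.symm (LieS.map k f i wT))
  have hxh : xv h = LieS.map k f c w₀ := by
    show m.e (Multiplicative.ofAdd h) = _
    simp only [h, ofAdd_toAdd, MulEquiv.apply_symm_apply]
    exact Subtype.ext (show ((w₀.1 : LieS.dpt k f ⟶ _) ≫ E.inv.hom.hom) ≫ i = w₀.1 ≫ c from Category.assoc _ _ _)
  -- the bracket with `h` on components
  have hcomp : ∀ (x : L) (d : Fin r → ℤ) (a : Γ(G.left, ⊤)),
      DynPar.Der.dv (xv ⁅x, h⁆) (DynPar.wc c a d) = -ν d * DynPar.Der.dv (xv x) (DynPar.wc c a d) := by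
    intro x d a
    obtain ⟨F, u, -, hu, hx⟩ := RootSys.exists_wt_decomp c (xv x)
    let y : (Fin r → ℤ) → L := fun q => Multiplicative.toAdd (m.e.symm (u q))
    have hy : ∀ q, xv (y q) = u q := fun q => by simp [xv, y]
    have hxs : x = ∑ q ∈ F, y q := by
      refine Multiplicative.ofAdd.injective (m.e.injective ?_)
      rw [ofAdd_sum, map_prod]
      exact hx.trans (Finset.prod_congr rfl fun q _ => (hy q).symm)
    have hb : ∀ q, ⁅y q, h⁆ = (-ν q) • y q := fun q => by
      refine Multiplicative.ofAdd.injective (m.e.injective ?_)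
      rw [m.e_smul]
      refine GrMax.isBracket_unique (m.e_lie (y q) h) ?_
      show LieS.IsBracket G k f (xv (y q)) (xv h) ((-ν q) • xv (y q))
      rw [hy, hxh]
      exact GrMax.isBracket_wt c (hu q) ν w₀ hw₀
    have hlin : ∀ (s : Finset (Fin r → ℤ)) (z : (Fin r → ℤ) → L) (b : Γ(G.left, ⊤)),
        DynPar.Der.dv (xv (∑ q ∈ s, z q)) b = ∑ q ∈ s, DynPar.Der.dv (xv (z q)) b := fun s z b => by
      show DynPar.Der.dv (m.e (Multiplicative.ofAdd (∑ q ∈ s, z q))) b = _
      rw [ofAdd_sum, map_prod, DynPar.Der.dv_prod]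
    rw [hxs, sum_lie, hlin, hlin, Finset.mul_sum]
    refine Finset.sum_congr rfl fun q _ => ?_
    rw [hb]
    show DynPar.Der.dv (m.e (Multiplicative.ofAdd ((-ν q) • y q))) _ = _
    rw [m.e_smul, DynPar.Der.dv_smul]
    show -ν q * DynPar.Der.dv (xv (y q)) _ = _
    rw [hy]
    by_cases hqd : q = d
    · rw [hqd]
    · rw [hu q a d (Ne.symm hqd), mul_zero, mul_zero]
  have hroot : ∀ (x : L) (d : Fin r → ℤ) (a : Γ(G.left, ⊤)), d ≠ 0 →
      DynPar.Der.dv (xv x) (DynPar.wc c a d) ≠ 0 → ν d ≠ 0 := by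
    intro x d a hd hne
    obtain ⟨F, u, hu', hu, -⟩ := RootSys.exists_wt_decomp c (xv x)
    refine hν d ⟨hd, u d, hu d, fun h1 => hne ?_⟩
    rw [← hu', h1, DynPar.Der.dv_one]
  -- vectors of weight zero form the Lie algebra of the torus
  let Hs : Set L := {x | ∀ (d : Fin r → ℤ) (a : Γ(G.left, ⊤)), d ≠ 0 → DynPar.Der.dv (xv x) (DynPar.wc c a d) = 0}
  have hzt : ∀ x, x ∈ Hs ↔ ∃ w : ↥(LieS.LieR T k), m.e (Multiplicative.ofAdd x) = LieS.map k f i w := by
    have hz := RedCartan.isCentralizerOf_self hred c hc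
    intro x
    constructor
    · intro hx
      obtain ⟨y, hy⟩ := DynPar.exists_centralizer_lift hz
        ((RootSys.mem_ZSub_iff_isWt_zero c (xv x)).2 fun a d hd => hx d a hd)
      let y' : LieS.dpt k f ⟶ T := y ≫ E.inv.hom.hom
      have hy' : y' ≫ i = (xv x).1 := (Category.assoc _ _ _).trans hy
      refine ⟨⟨y', (LieS.mem_Lie_iff T k f _).2 ?_⟩, Subtype.ext hy'.symm⟩
      rw [← cancel_mono i, Category.assoc, hy', (LieS.mem_Lie_iff G k f _).1 (xv x).2, MonObj.one_comp]
    · rintro ⟨w, hw⟩ d a hd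
      have hwt : RootSys.IsWt c (xv x) 0 := by
        rw [← RootSys.mem_ZSub_iff_isWt_zero]
        refine (DynPar.mem_ZSub_iff_commute _ c).2 fun B' _ f' q v => ?_
        have h1 : (xv x).1 = (w.1 : LieS.pt (DualNumber k) (DynPar.fd f) ⟶ T) ≫ i := by
          rw [show (xv x) = _ from hw]; rfl
        rw [h1, ← Category.assoc, show v ≫ c = (v ≫ E.inv.hom.hom) ≫ i from (Category.assoc _ _ _).symm,
          ← MonObj.mul_comp, ← MonObj.mul_comp, RedR1.mul_comm_torus hT.2.2.1]
      exact hwt a d hd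
  have hsmulxv : ∀ (b : k) (x : L), xv (b • x) = b • xv x := fun b x => m.e_smul b x
  let H0 : Submodule k L :=
    { carrier := Hs
      add_mem' := fun {x y} hx hy d a hd => by
        show DynPar.Der.dv (m.e (Multiplicative.ofAdd (x + y))) _ = 0
        rw [ofAdd_add, map_mul, DynPar.Der.dv_mul]
        show DynPar.Der.dv (xv x) _ + DynPar.Der.dv (xv y) _ = 0
        rw [hx d a hd, hy d a hd, add_zero]
      zero_mem' := fun d a _ => by
        show DynPar.Der.dv (m.e (Multiplicative.ofAdd 0)) _ = 0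
        rw [ofAdd_zero, map_one, DynPar.Der.dv_one]
      smul_mem' := fun b x hx d a hd => by rw [hsmulxv, DynPar.Der.dv_smul, hx d a hd, mul_zero] }
  have habel : ∀ x ∈ Hs, ∀ y ∈ Hs, ⁅x, y⁆ = 0 := by
    intro x hx y hy
    obtain ⟨wy, hwy⟩ := (hzt y).1 hy
    obtain ⟨wx, hwx⟩ := (hzt x).1 hx
    refine Multiplicative.ofAdd.injective (m.e.injective (GrMax.isBracket_unique (m.e_lie x y) ?_))
    rw [ofAdd_zero, map_one, hwx, hwy]
    show LieS.mulMap k f ≫ ((1 : LieS.Lie G k f).1) =
      (LieS.dptMap f (algebraMap k (DualNumber k)) ≫ wx.1 ≫ i : LieS.d2pt k f ⟶ G) * (LieS.proj (DualNumber k) (LieS.dpt k f).hom ≫ wy.1 ≫ i : LieS.d2pt k f ⟶ G) *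
        (LieS.dptMap f (algebraMap k (DualNumber k)) ≫ wx.1 ≫ i : LieS.d2pt k f ⟶ G)⁻¹ * (LieS.proj (DualNumber k) (LieS.dpt k f).hom ≫ wy.1 ≫ i : LieS.d2pt k f ⟶ G)⁻¹
    rw [OneMemClass.coe_one, MonObj.comp_one]
    simp only [← Category.assoc, ← GrpObj.inv_comp, ← MonObj.mul_comp]
    rw [RedR1.mul_comm_torus hT.2.2.1 (LieS.dptMap f (algebraMap k (DualNumber k)) ≫ wx.1)]
    simp only [mul_inv_cancel_right, mul_inv_cancel, MonObj.one_comp]
  let H : LieSubalgebra k L := { H0 with lie_mem' := fun {x y} hx hy => by rw [habel x hx y hy]; exact H0.zero_mem }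
  have hhH : h ∈ Hs := (hzt h).2 ⟨wT, by simp [h, f]⟩
  have hgen : ∀ (x : L) (N : ℕ), ((LieAlgebra.ad k L h) ^ N) x = 0 → x ∈ Hs := by
    intro x N hN d a hd
    have hiter : ∀ (N : ℕ), DynPar.Der.dv (xv (((LieAlgebra.ad k L h) ^ N) x)) (DynPar.wc c a d) =
        ν d ^ N * DynPar.Der.dv (xv x) (DynPar.wc c a d) := by
      intro N
      induction N with
      | zero => simp
      | succ N ih =>
        rw [pow_succ', Module.End.mul_apply, LieAlgebra.ad_apply, ← lie_skew, show
          -⁅((LieAlgebra.ad k L h) ^ N) x, h⁆ = (-1 : k) • ⁅((LieAlgebra.ad k L h) ^ N) x, h⁆ by simp,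
          hsmulxv, DynPar.Der.dv_smul, hcomp, ih, pow_succ']
        ring
    have h0 := hiter N
    rw [hN, show DynPar.Der.dv (xv (0 : L)) (DynPar.wc c a d) = 0 from H0.zero_mem d a hd] at h0
    by_contra hne
    exact pow_ne_zero N (hroot x d a hd hne) ((mul_eq_zero.1 h0.symm).resolve_right hne)
  have hgen' : ∀ y ∈ Hs, ∀ x ∈ Hs, x ∈ Module.End.maxGenEigenspace (LieAlgebra.ad k L y) 0 := by
    intro y hy x hx
    refine (Module.End.mem_maxGenEigenspace _ _ _).2 ⟨1, ?_⟩
    rw [zero_smul, sub_zero, pow_one, LieAlgebra.ad_apply, habel y hy x hx]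
  have hmax : Module.End.maxGenEigenspace (LieAlgebra.ad k L h) 0 = H0 := by
    refine le_antisymm (fun x hx => ?_) fun x hx => hgen' h hhH x hx
    obtain ⟨N, hN⟩ := (Module.End.mem_maxGenEigenspace _ _ _).1 hx
    rw [zero_smul, sub_zero] at hN
    exact hgen x N hN
  refine ⟨H, Set.ext fun x => hzt x, ?_, ?_⟩
  · haveI : IsLieAbelian H := ⟨fun x y => Subtype.ext (habel x.1 x.2 y.1 y.2)⟩
    refine ⟨inferInstance, le_antisymm (fun x hx => hgen x 2 ?_) H.le_normalizer⟩
    have h1 := (LieSubalgebra.mem_normalizer_iff' H x).1 hx h hhH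
    rw [pow_two, Module.End.mul_apply, LieAlgebra.ad_apply, LieAlgebra.ad_apply]
    exact habel h hhH _ h1
  · refine le_antisymm ?_ ?_
    · obtain ⟨w, hw⟩ := S8381.result k G T i hT L m
      set y := Multiplicative.toAdd (m.e.symm (LieS.map k (Spec.map (CommRingCat.ofHom (algebraMap k k))) i w)) with hy
      have hyH : y ∈ Hs := (hzt y).2 ⟨w, by rw [hy, ofAdd_toAdd, MulEquiv.apply_symm_apply]⟩
      rw [← (LieAlgebra.isRegular_iff_natTrailingDegree_charpoly_eq_rank k y).1 hw,
        ← LinearMap.finrank_maxGenEigenspace_zero_eq]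
      exact Submodule.finrank_mono (s := H0) fun x hx => hgen' y hyH x hx
    · refine (LieAlgebra.rank_le_natTrailingDegree_charpoly_ad k h).trans (le_of_eq ?_)
      rw [← LinearMap.finrank_maxGenEigenspace_zero_eq, hmax]
      rfl

end Groth.Agent.S8394
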