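import Groth.Statements.S8395
import Groth.Agent.FieldPow.Main
import Groth.Agent.CentralLift.EtalePoint
-- import your own Groth.Agent.* helpers here

set_option autoImplicit false
universe u
open CategoryTheory MonoidalCategory CartesianMonoidalCategory MonObj GrpObj AlgebraicGeometry
open SGA3x

namespace Groth.Agent.S8395

set_option backward.isDefEq.respectTransparency false

/-- Let k be a field, G a k-group scheme locally of finite type, n an integer invertible in k, and u : G
→ G the n-th power morphism. Then u is etale at every point of G lying in the centre of G; here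
stated at a k-rational point g of G which is central (commutes with all points of G): u is etale on
some open neighbourhood of g. (The published statement is for any point of the centre; its proof
reduces to rational points by extending the base field.) -/
theorem result (k : Type u) [Field k]
    (G : Over (Spec (CommRingCat.of k))) [GrpObj G] [LocallyOfFiniteType G.hom] (n : ℕ) (hn : (n : k) ≠ 0)
    (g : 𝟙_ (Over (Spec (CommRingCat.of k))) ⟶ G)
    (hg : ∀ (X : Over (Spec (CommRingCat.of k))) (x : X ⟶ G), (toUnit X ≫ g) * x = x * (toUnit X ≫ g)) :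
    ∃ U : G.left.Opens, Set.range g.left.base ⊆ (U : Set ↥G.left) ∧
      Etale (U.ι ≫ ((𝟙 G : G ⟶ G) ^ n).left) := by
  obtain ⟨U, hU, het⟩ := Groth.Agent.FieldPow.exists_etale_nhd_unit G (n := (n : ℤ)) (by exact_mod_cast hn)
  rw [zpow_natCast] at het
  let c : G ⟶ G := toUnit G ≫ g
  have hc : Commute (𝟙 G) c := (hg G (𝟙 G)).symm
  let T : G ⟶ G := 𝟙 G * c⁻¹
  let T' : G ⟶ G := 𝟙 G * c
  have hT : T ≫ T' = 𝟙 G := by
    simp only [T', c, MonObj.comp_mul, Category.comp_id, ← Category.assoc, comp_toUnit]
    simp [T, c]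
  have hT' : T' ≫ T = 𝟙 G := by
    simp only [T, c, MonObj.comp_mul, GrpObj.comp_inv, Category.comp_id, ← Category.assoc, comp_toUnit]
    simp [T', c]
  haveI : IsIso T := ⟨T', hT, hT'⟩
  haveI : IsIso T.left := inferInstanceAs (IsIso ((Over.forget _).map T))
  let d : G ⟶ G := toUnit G ≫ g ^ n
  let D : G ⟶ G := 𝟙 G * d
  let D' : G ⟶ G := 𝟙 G * d⁻¹
  have hD : D ≫ D' = 𝟙 G := by
    simp only [D', d, MonObj.comp_mul, GrpObj.comp_inv, Category.comp_id, ← Category.assoc, comp_toUnit]
    simp [D, d]
  have hD' : D' ≫ D = 𝟙 G := by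
    simp only [D, d, MonObj.comp_mul, Category.comp_id, ← Category.assoc, comp_toUnit]
    simp [D', d]
  haveI : IsIso D := ⟨D', hD, hD'⟩
  haveI : IsIso D.left := inferInstanceAs (IsIso ((Over.forget _).map D))
  have hkey : T ≫ ((𝟙 G) ^ n) ≫ D = (𝟙 G) ^ n := by
    simp only [D, d, MonObj.comp_mul, Category.comp_id, MonObj.comp_pow, ← Category.assoc, comp_toUnit]
    rw [show T ^ n = (𝟙 G) ^ n * (c⁻¹) ^ n from hc.inv_right.mul_pow n, inv_pow, inv_mul_cancel_right]
  have hgT : g ≫ T = η[G] := by
    simp only [T, c, MonObj.comp_mul, GrpObj.comp_inv, Category.comp_id, ← Category.assoc]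
    rw [comp_toUnit, toUnit_unique (toUnit (𝟙_ _)) (𝟙 _), Category.id_comp, mul_inv_cancel, Hom.one_def]
    rw [toUnit_unique (toUnit (𝟙_ _)) (𝟙 _), Category.id_comp]
  refine ⟨T.left ⁻¹ᵁ U, ?_, ?_⟩
  · rintro _ ⟨p, rfl⟩
    show T.left (g.left p) ∈ U
    rw [← Scheme.Hom.comp_apply, ← Over.comp_left, hgT]
    exact hU p
  · rw [← hkey, Over.comp_left, ← Category.assoc, ← morphismRestrict_ι, Category.assoc, Over.comp_left,
      ← Category.assoc (U.ι)]
    haveI := het
    infer_instance

end Groth.Agent.S8395
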