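import Groth.Statements.S8399
import Groth.Agent.MTCentre.Main
-- import your own Groth.Agent.* helpers here

set_option autoImplicit false
universe u
open CategoryTheory MonoidalCategory CartesianMonoidalCategory MonObj GrpObj AlgebraicGeometry
open SGA3x

set_option backward.isDefEq.respectTransparency false

namespace Groth.Agent.S8399

/-- Let G be an S-group scheme, smooth and affine over S with connected fibres, whose reductive rank is
locally constant on S. Then G admits a reductive centre, that is, a subgroup scheme Z which is
central and of multiplicative type, such that for every S′ → S, every central homomorphism H → G ×_S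
S′ from an S′-group H of multiplicative type and of finite type factors through Z ×_S S′. (The
published item c) also asserts that the quotient G/Z has unipotent rank zero; this row states only
the existence of the reductive centre.) -/
theorem result (S : Scheme.{u}) (G : Over S) [GrpObj G]
    [Smooth G.hom] [IsAffineHom G.hom] (hconn : ∀ s : S, _root_.IsConnected (G.hom.base ⁻¹' {s})) (hr : SGA3x.RedRankLocallyConstant G) :
    ∃ (Z : Over S) (_ : GrpObj Z) (z : Z ⟶ G), (IsMonHom z ∧ Mono z ∧ SGA3x.IsMultTypeFT Z ∧
      (∀ (X : Over S) (x : X ⟶ Z) (g : X ⟶ G), (x ≫ z) * g = g * (x ≫ z)) ∧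
      ∀ (S' : Scheme.{u}) (f : S' ⟶ S) (H : Over S') [GrpObj H] (v : H ⟶ Red.bc f G) [IsMonHom v],
        SGA3x.IsMultTypeFT H →
        (∀ (X : Over S') (x : X ⟶ H) (g : X ⟶ Red.bc f G), (x ≫ v) * g = g * (x ≫ v)) →
        ∃ w : H ⟶ Red.bc f Z, w ≫ (Over.pullback f).map z = v) := by
  exact Groth.Agent.MTCentre.exists_reductiveCentre hconn hr

end Groth.Agent.S8399
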