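import Groth.Statements.S8400
import Groth.Agent.LieWeight.Central
-- import your own Groth.Agent.* helpers here

set_option autoImplicit false
set_option backward.isDefEq.respectTransparency false
universe u
open CategoryTheory MonoidalCategory CartesianMonoidalCategory MonObj GrpObj AlgebraicGeometry
open SGA3x

set_option backward.isDefEq.respectTransparency false

namespace Groth.Agent.S8400
open Groth.Agent

/-- Let G be a smooth, connected, affine algebraic group over an algebraically closed field k whose
reductive centre is trivial (every central subgroup scheme of multiplicative type is trivial), and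
suppose the Lie algebra of G is nilpotent. Then the maximal tori of G are trivial: G contains no
non-trivial subtorus. (The published statement concludes that G is unipotent, i.e. has a composition
series with quotients isomorphic to 𝔾_a; this row concludes only that G contains no non-trivial
subtorus.) -/
theorem result (k : Type u) [Field k] [IsAlgClosed k]
    (G : Over (Spec (CommRingCat.of k))) [GrpObj G] [Smooth G.hom] [QuasiCompact G.hom] [IsAffine G.left] [ConnectedSpace ↥G.left]
    (hZ : ∀ (Z : Over (Spec (CommRingCat.of k))) [GrpObj Z] (z : Z ⟶ G) [IsMonHom z] [Mono z], SGA3x.IsMultTypeFT Z →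
      (∀ (X : Over (Spec (CommRingCat.of k))) (x : X ⟶ Z) (g : X ⟶ G), (x ≫ z) * g = g * (x ≫ z)) → Red.IsTrivialGrp Z)
    (L : Type u) [LieRing L] [LieAlgebra k L] (m : LieS.Model G k (Spec.map (CommRingCat.ofHom (algebraMap k k))) L) (hL : LieRing.IsNilpotent L) :
    Red.HasNoSubtorus k G := by
  intro T _ j _ _ hT
  haveI : LocallyOfFiniteType G.hom := inferInstance
  obtain ⟨r, ⟨e⟩⟩ := Chev.exists_split_algClosed hT
  haveI : IsMonHom e.inv.hom.hom := e.inv.hom.isMonHom_hom
  haveI : IsIso e.inv.hom.hom := inferInstanceAs (IsIso ((Grp.forget _).map e.inv))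
  rcases r with _ | r
  · have hid : 𝟙 T = toUnit T ≫ η[T] := by
      rw [← cancel_mono ((Grp.forget _).mapIso e).hom]
      exact HomDiag.ch_ext fun m => by rw [show m = 1 from Subsingleton.elim _ _, map_one, map_one]
    refine ⟨η[T].left, ?_, Over.w η[T]⟩
    have h := congrArg CommaMorphism.left hid
    simp only [Over.comp_left, Over.toUnit_left] at h
    exact h.symm
  · exfalso
    let π : (Fin (r + 1) → ℤ) →+ ℤ := Pi.evalAddMonoidHom _ 0
    haveI : Mono (Red.DSmap (Spec (CommRingCat.of k)) π) :=
      LieWeight.mono_DSmap π (fun n => ⟨fun _ => n, rfl⟩)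
    haveI : Mono (e.inv.hom.hom ≫ j) := mono_comp _ _
    haveI : IsMonHom (e.inv.hom.hom ≫ j) := inferInstance
    haveI : Mono (Red.DSmap (Spec (CommRingCat.of k)) π ≫ e.inv.hom.hom ≫ j) := mono_comp _ _
    exact LieWeight.false_of_cocharacter hZ m hL (Red.DSmap (Spec (CommRingCat.of k)) π ≫ e.inv.hom.hom ≫ j)

end Groth.Agent.S8400
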