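import Groth.Statements.S8403
import Groth.Agent.MTImage.RankSemicont
-- import your own Groth.Agent.* helpers here

set_option autoImplicit false
universe u
open CategoryTheory MonoidalCategory CartesianMonoidalCategory MonObj GrpObj AlgebraicGeometry
open SGA3x

set_option backward.isDefEq.respectTransparency false

namespace Groth.Agent.S8403

/-- Let G be an affine smooth algebraic group over a field k, T a torus in G and C its centralizer. Then
the nilpotent rank of G (the dimension of the Cartan subgroups of G over an algebraic closure of k)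
is at most dim C. -/
theorem result (k : Type u) [Field k]
    (G : Over (Spec (CommRingCat.of k))) [GrpObj G] [Smooth G.hom] [QuasiCompact G.hom] [IsAffine G.left]
    (T : Over (Spec (CommRingCat.of k))) [GrpObj T] (j : T ⟶ G) [IsMonHom j] [Mono j] (hT : Red.IsTorus T)
    (C : Over (Spec (CommRingCat.of k))) [GrpObj C] (c : C ⟶ G) (hC : Red.IsCentralizerOf j c)
    (s : ↥(Spec (CommRingCat.of k))) (C' : Over (Spec (CommRingCat.of (AlgebraicClosure ((Spec (CommRingCat.of k)).residueField s))))) [GrpObj C']
    (c' : C' ⟶ Red.geomFibre s G) (hC' : SGA3x.IsCartanOver (AlgebraicClosure ((Spec (CommRingCat.of k)).residueField s)) c') :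
    topologicalKrullDim ↥C'.left ≤ topologicalKrullDim ↥C.left := by
  let x := Red.geomPt s
  let K := AlgebraicClosure ((Spec (CommRingCat.of k)).residueField s)
  haveI : IsAffineHom G.hom := isAffineHom_of_isAffine _
  haveI : Smooth (Red.geomFibre s G).hom := inferInstanceAs (Smooth (Limits.pullback.snd G.hom x))
  haveI : QuasiCompact (Red.geomFibre s G).hom := inferInstanceAs (QuasiCompact (Limits.pullback.snd G.hom x))
  haveI : Limits.PreservesLimitsOfShape Limits.WalkingCospan (Over.pullback x) :=
    (Adjunction.rightAdjoint_preservesLimits (Over.mapPullbackAdj x)).preservesLimitsOfShape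
  have hTx := Chev.Borel.isTorus_bc_scheme T x hT
  have hCx := Chev.CentBC.isCentralizerOf_bc x j c hC
  obtain ⟨U, hxU, hU⟩ := MTImage.exists_nhd_rank x ((Over.pullback x).map j) hTx ((Over.pullback x).map c) hCx
  obtain ⟨T', hT'g, i', C'', hC''g, c'', -, hc'', -, hle⟩ := hU K x hxU
  obtain ⟨g, φ, -⟩ := MTImage.exists_conj_cartan c' hC' c'' hc''
  have hφ : topologicalKrullDim ↥C'.left = topologicalKrullDim ↥C''.left :=
    IsHomeomorph.topologicalKrullDim_eq _ (Scheme.homeoOfIso ((Over.forget _).mapIso φ)).isHomeomorph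
  rw [hφ]
  refine hle.trans (le_of_eq ?_)
  haveI : Subsingleton ↥(Spec (CommRingCat.of k)) := inferInstanceAs (Subsingleton (PrimeSpectrum k))
  haveI : LocallyOfFiniteType C.hom := by
    obtain ⟨C₁, hC₁g, c₁, hC₁, hc₁c, hC₁s⟩ := MTBridge.exists_centralizer T G
      (MTBridge.locally_of_isMultTypeFT' T (MTBridge.isMultTypeFT_of_isTorus T hT)) inferInstance inferInstance j
    haveI := hC.2.1; haveI := hC₁.2.1
    obtain ⟨f, hf⟩ := (hC₁.2.2 C c).2 ((hC.2.2 C c).1 ⟨𝟙 C, Category.id_comp c⟩)
    obtain ⟨g', hg'⟩ := (hC.2.2 C₁ c₁).2 ((hC₁.2.2 C₁ c₁).1 ⟨𝟙 C₁, Category.id_comp c₁⟩)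
    haveI : IsIso f := ⟨g', (cancel_mono c).1 (by rw [Category.assoc, hg', hf, Category.id_comp]),
      (cancel_mono c₁).1 (by rw [Category.assoc, hf, hg', Category.id_comp])⟩
    haveI : IsIso f.left := inferInstanceAs (IsIso ((Over.forget _).map f))
    haveI := hC₁s
    rw [← Over.w f]
    infer_instance
  rw [MTImage.dim_bc_point x C]
  exact IsHomeomorph.topologicalKrullDim_eq _ ((Homeomorph.setCongr (Set.eq_univ_of_forall fun z =>
    Subsingleton.elim _ _)).trans (Homeomorph.Set.univ _)).isHomeomorph

end Groth.Agent.S8403
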