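import Groth.Statements.S8405
import Groth.Agent.AdjRep.CentreQuot

set_option autoImplicit false
universe u
open CategoryTheory MonoidalCategory CartesianMonoidalCategory MonObj GrpObj AlgebraicGeometry
open SGA3x

namespace Groth.Agent.S8405

/-- Let G be a connected algebraic group (a group scheme of finite type) over a field k, z : Z → G the
centre of G and q : G → Q a morphism representing the fppf quotient G/Z. Then Q is an affine scheme.
(The published statement allows any subgroup of finite index in the centre; this row takes Z to be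
the centre itself.) -/
theorem result (k : Type u) [Field k]
    (G : Over (Spec (CommRingCat.of k))) [GrpObj G] [QuasiCompact G.hom] [LocallyOfFiniteType G.hom] [ConnectedSpace ↥G.left]
    (Z : Over (Spec (CommRingCat.of k))) [GrpObj Z] (z : Z ⟶ G) (hZ : Red.IsCentre z)
    (Q : Over (Spec (CommRingCat.of k))) (q : G ⟶ Q) (hq : RedSub.IsQuotient z q) : IsAffine Q.left := by
  obtain ⟨Z₀, _, i, hi, hic, hZ₀, C, _, p, hp, hCa, hlft, hflat, hsurj, hk⟩ :=
    AdjRep.exists_centre_affine_quotient G
  obtain ⟨-, hzmono, hzc⟩ := hZ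
  obtain ⟨hqs, hqf, hql, hpb⟩ := hq
  haveI : QuasiCompact p.left := by
    have : QuasiCompact (p.left ≫ C.hom) := by rw [Over.w p]; infer_instance
    haveI : IsAffineHom C.hom := isAffineHom_of_isAffine C.hom
    exact QuasiCompact.of_comp p.left C.hom
  haveI : EffectiveEpi q.left := inferInstance
  haveI : EffectiveEpi p.left := inferInstance
  have hiff : ∀ (T : Over (Spec (CommRingCat.of k))) (a b : T ⟶ G), a ≫ q = b ≫ q ↔ a ≫ p = b ≫ p := by
    intro T a b
    have e : ∀ h : T ⟶ Z, lift a h ≫ (G ◁ z) ≫ μ[G] = a * (h ≫ z) := fun h => by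
      rw [lift_whiskerLeft_assoc, Hom.mul_def]
    have e2 : a ≫ p = b ≫ p ↔ (a⁻¹ * b) ≫ p = 1 := by
      rw [MonObj.mul_comp, GrpObj.inv_comp, inv_mul_eq_one]
    have e3 : (a⁻¹ * b) ≫ p = 1 ↔ ∃ h : T ⟶ Z, h ≫ z = a⁻¹ * b := by
      have e4 : (∃ h : T ⟶ Z, h ≫ z = a⁻¹ * b) ↔ ∃ h : T ⟶ Z₀, h ≫ i = a⁻¹ * b := by
        rw [hzc, hZ₀]; simp only [Category.comp_id]
      rw [e4]
      constructor
      · intro h
        obtain ⟨l, hl, -⟩ := hk.exists_lift (a⁻¹ * b) (toUnit _) h
        exact ⟨l, hl⟩
      · rintro ⟨l, hl⟩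
        rw [← hl, Category.assoc, hk.w, ← Category.assoc, toUnit_unique (l ≫ toUnit _) (toUnit _)]
        rfl
    rw [e2, e3]
    constructor
    · intro h
      obtain ⟨l, hl1, hl2⟩ := hpb.exists_lift a b h
      have hl : lift a (l ≫ snd G Z) = l := by
        ext1
        · rw [lift_fst, hl1]
        · rw [lift_snd]
      refine ⟨l ≫ snd G Z, ?_⟩
      rw [eq_inv_mul_iff_mul_eq, ← e, hl]
      exact hl2
    · rintro ⟨h, hh⟩
      have h1 := congrArg (lift a h ≫ ·) hpb.w
      simp only [lift_fst_assoc] at h1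
      rw [h1, ← Category.assoc, e, hh, mul_inv_cancel_left]
  have key : ∀ {T : Scheme.{u}} (a b : T ⟶ G.left) (A B : Over.mk (a ≫ G.hom) ⟶ G), A.left = a → B.left = b →
      (a ≫ q.left = b ≫ q.left ↔ a ≫ p.left = b ≫ p.left) := fun a b A B hA hB => by
    have := hiff _ A B
    rw [← hA, ← hB]
    exact ⟨fun h => congrArg CommaMorphism.left (this.1 (Over.OverMorphism.ext h)),
      fun h => congrArg CommaMorphism.left (this.2 (Over.OverMorphism.ext h))⟩
  let d := EffectiveEpi.desc q.left p.left fun {T} a b h => by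
    have hb : b ≫ G.hom = a ≫ G.hom := by rw [← Over.w q, reassoc_of% h]
    exact (key a b (Over.homMk a) (Over.homMk b hb) rfl rfl).1 h
  let d' := EffectiveEpi.desc p.left q.left fun {T} a b h => by
    have hb : b ≫ G.hom = a ≫ G.hom := by rw [← Over.w p, reassoc_of% h]
    exact (key a b (Over.homMk a) (Over.homMk b hb) rfl rfl).2 h
  have hd : q.left ≫ d = p.left := EffectiveEpi.fac _ _ _
  have hd' : p.left ≫ d' = q.left := EffectiveEpi.fac _ _ _
  haveI : IsIso d := ⟨d', by rw [← cancel_epi q.left, reassoc_of% hd, hd', Category.comp_id],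
    by rw [← cancel_epi p.left, reassoc_of% hd', hd, Category.comp_id]⟩
  exact IsAffine.of_isIso d

end Groth.Agent.S8405
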