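import Groth.Statements.S8408
import Groth.Agent.Chev.MaxTorusBC
import Groth.Agent.Chev.CentBC
import Groth.Agent.RedR1.Gen
-- import your own Groth.Agent.* helpers here

set_option autoImplicit false
universe u
open CategoryTheory MonoidalCategory CartesianMonoidalCategory MonObj GrpObj AlgebraicGeometry
open SGA3x

set_option backward.isDefEq.respectTransparency false

namespace Groth.Agent.S8408
open Limits Groth.Agent.MTBridge in
/-- The conjugates of a maximal torus lying in its centralizer lie in the torus. -/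
theorem conj_mem {S : Scheme.{u}} {G T C : Over S} [GrpObj G] [GrpObj T] [GrpObj C] [LocallyOfFiniteType G.hom]
    [QuasiCompact G.hom] (i : T ⟶ G) (hT : Red.IsMaximalTorus i) (c : C ⟶ G) (hC : Red.IsCentralizerOf i c)
    (g : 𝟙_ (Over S) ⟶ G)
    (hg : ∀ (X : Over S) (z : X ⟶ C), ∃ z' : X ⟶ C, (toUnit X ≫ g) * (z ≫ c) * (toUnit X ≫ g)⁻¹ = z' ≫ c) :
    ∀ (X : Over S) (h : X ⟶ T), ∃ h' : X ⟶ T, (toUnit X ≫ g) * (h ≫ i) * (toUnit X ≫ g)⁻¹ = h' ≫ i := by
  haveI := hT.1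
  let j : T ⟶ G := AGF.conjBy g i
  have hj : ∀ {X : Over S} (h : X ⟶ T), h ≫ j = (toUnit X ≫ g) * (h ≫ i) * (toUnit X ≫ g)⁻¹ := fun h => by
    simp only [j, AGF.conjBy, MonObj.comp_mul, GrpObj.comp_inv, comp_toUnit_assoc]
  haveI : IsMonHom j := MTTorus.isMonHom_of_mul j fun u v => by
    rw [hj, hj, hj, MonObj.mul_comp]; group
  obtain ⟨y, hy⟩ := MTTorus.exists_factor_maximalTorus i hT hT.2.2.1 j fun X t x => by
    obtain ⟨z, hz⟩ := (hC.2.2 X (x ≫ i)).2 fun X' a h => by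
      rw [← Category.assoc, ← MonObj.mul_comp, ← MonObj.mul_comp, RedR1.mul_comm_torus hT.2.2.1]
    obtain ⟨z', hz'⟩ := hg X z
    have h := ((hC.2.2 X (z' ≫ c)).1 ⟨z', rfl⟩) X (𝟙 X) t
    rw [Category.id_comp] at h
    rw [hj, ← hz, hz', h]
  exact fun X h => ⟨h ≫ y, by rw [← hj, Category.assoc, hy]⟩

open Limits Groth.Agent.MTBridge in
/-- A point normalising the centralizer normalises the maximal torus. -/
theorem normalise {S : Scheme.{u}} {G T C : Over S} [GrpObj G] [GrpObj T] [GrpObj C] [LocallyOfFiniteType G.hom]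
    [QuasiCompact G.hom] (i : T ⟶ G) (hT : Red.IsMaximalTorus i) (c : C ⟶ G) (hC : Red.IsCentralizerOf i c)
    {X : Over S} (g : X ⟶ G)
    (hg : ∀ (X' : Over S) (x : X' ⟶ X) (z : X' ⟶ C), ∃ z' : X' ⟶ C, (x ≫ g) * (z ≫ c) * (x ≫ g)⁻¹ = z' ≫ c) :
    ∀ (X' : Over S) (x : X' ⟶ X) (h : X' ⟶ T), ∃ h' : X' ⟶ T, (x ≫ g) * (h ≫ i) * (x ≫ g)⁻¹ = h' ≫ i := by
  haveI := hT.1; haveI := hT.2.1; haveI := hC.1; haveI := hC.2.1
  let φ := X.hom
  haveI : LocallyOfFiniteType (Red.bc φ G).hom := inferInstanceAs (LocallyOfFiniteType (pullback.snd G.hom φ))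
  haveI : QuasiCompact (Red.bc φ G).hom := inferInstanceAs (QuasiCompact (pullback.snd G.hom φ))
  let x₀ : (Over.map φ).obj (𝟙_ (Over X.left)) ⟶ X := Over.homMk (𝟙 _) rfl
  have hx₀ : ∀ {Y : Over X.left}, (Over.map φ).map (toUnit Y) ≫ x₀ = Over.homMk Y.hom rfl := fun {Y} =>
    Over.OverMorphism.ext (by
      show (toUnit Y).left ≫ 𝟙 _ = Y.hom
      exact Over.w (toUnit Y))
  let gX := toBC φ (x₀ ≫ g)
  have key := conj_mem ((Over.pullback φ).map i) (Chev.MaxTorusBC.isMaximalTorus_bc i hT φ) ((Over.pullback φ).map c)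
    (Chev.CentBC.isCentralizerOf_bc φ i c hC) gX fun Y z => by
      obtain ⟨z₀, rfl⟩ := exists_toBC' φ z
      obtain ⟨z', hz'⟩ := hg _ (Over.homMk Y.hom rfl) z₀
      refine ⟨toBC φ z', ?_⟩
      rw [← toBC_comp, ← toBC_comp, ← toBC_naturality, ← Category.assoc, hx₀, ← toBC_inv, ← toBC_mul, ← toBC_mul,
        hz']
  intro X' x h
  let Y : Over X.left := Over.mk x.left
  let e : (Over.map φ).obj Y ≅ X' := Over.isoMk (Iso.refl _) (by
    show 𝟙 _ ≫ X'.hom = x.left ≫ φ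
    rw [Category.id_comp]
    exact (Over.w x).symm)
  obtain ⟨h', hh⟩ := key Y (toBC φ (e.hom ≫ h))
  obtain ⟨a, rfl⟩ := exists_toBC' φ h'
  have hxe : (Over.homMk Y.hom rfl : (Over.map φ).obj Y ⟶ X) = e.hom ≫ x := Over.OverMorphism.ext (by
    show x.left = 𝟙 _ ≫ x.left
    rw [Category.id_comp])
  rw [← toBC_comp, ← toBC_comp, ← toBC_naturality, ← Category.assoc ((Over.map φ).map (toUnit Y)), hx₀, hxe, ← toBC_inv,
    ← toBC_mul, ← toBC_mul] at hh
  refine ⟨e.inv ≫ a, ?_⟩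
  rw [← cancel_epi e.hom, Category.assoc, e.hom_inv_id_assoc, ← MTBridge.toBC_inj φ hh, MonObj.comp_mul,
    MonObj.comp_mul, GrpObj.comp_inv, Category.assoc, Category.assoc]

/-- A point normalising a subgroup normalises its centralizer. -/
theorem normalise_centralizer {S : Scheme.{u}} {G T C : Over S} [GrpObj G]
    (i : T ⟶ G) [GrpObj T] [GrpObj C] (c : C ⟶ G) (hC : Red.IsCentralizerOf i c) {X : Over S} (g : X ⟶ G)
    (hg : ∀ (X' : Over S) (x : X' ⟶ X) (h : X' ⟶ T), ∃ h' : X' ⟶ T, (x ≫ g)⁻¹ * (h ≫ i) * (x ≫ g) = h' ≫ i)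
    (X' : Over S) (x : X' ⟶ X) (z : X' ⟶ C) : ∃ z' : X' ⟶ C, (x ≫ g) * (z ≫ c) * (x ≫ g)⁻¹ = z' ≫ c := by
  obtain ⟨z', hz'⟩ := (hC.2.2 X' ((x ≫ g) * (z ≫ c) * (x ≫ g)⁻¹)).2 fun X'' y h => by
    obtain ⟨h', hh⟩ := hg X'' (y ≫ x) h
    have hc := ((hC.2.2 X' (z ≫ c)).1 ⟨z, rfl⟩) X'' y h'
    rw [MonObj.comp_mul, MonObj.comp_mul, GrpObj.comp_inv]
    rw [Category.assoc] at hh
    generalize y ≫ x ≫ g = a at *
    generalize y ≫ z ≫ c = b at *
    generalize h ≫ i = t at *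
    generalize h' ≫ i = t' at *
    subst hh
    calc a * b * a⁻¹ * t = a * (b * (a⁻¹ * t * a)) * a⁻¹ := by group
      _ = a * ((a⁻¹ * t * a) * b) * a⁻¹ := by rw [hc]
      _ = t * (a * b * a⁻¹) := by group
  exact ⟨z', hz'.symm⟩


/-- Let G be a smooth connected algebraic group (not necessarily affine) over an algebraically closed
field k, T a maximal torus of G and C = Centr_G(T) the corresponding Cartan subgroup. Then Norm_G(C)
= Norm_G(T): a subgroup scheme n : N → G represents the normalizer of C if and only if it represents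
the normalizer of T. (The published item c) says more about the Cartan subgroup C; this row states
only its last assertion, the equality of the two normalizers.) -/
theorem result (k : Type u) [Field k] [IsAlgClosed k]
    (G : Over (Spec (CommRingCat.of k))) [GrpObj G] [Smooth G.hom] [QuasiCompact G.hom] [ConnectedSpace ↥G.left]
    (T : Over (Spec (CommRingCat.of k))) [GrpObj T] (i : T ⟶ G) (hT : Red.IsMaximalTorus i)
    (C : Over (Spec (CommRingCat.of k))) [GrpObj C] (c : C ⟶ G) (hC : Red.IsCentralizerOf i c)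
    (N : Over (Spec (CommRingCat.of k))) [GrpObj N] (n : N ⟶ G) :
    Red.IsNormalizerOf c n ↔ Red.IsNormalizerOf i n := by
  haveI : LocallyOfFiniteType G.hom := inferInstance
  have key : ∀ (X : Over (Spec (CommRingCat.of k))) (g : X ⟶ G),
      (∀ (X' : Over _) (x : X' ⟶ X) (h : X' ⟶ C),
        (∃ h' : X' ⟶ C, (x ≫ g) * (h ≫ c) * (x ≫ g)⁻¹ = h' ≫ c) ∧
        (∃ h' : X' ⟶ C, (x ≫ g)⁻¹ * (h ≫ c) * (x ≫ g) = h' ≫ c)) ↔
      (∀ (X' : Over _) (x : X' ⟶ X) (h : X' ⟶ T),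
        (∃ h' : X' ⟶ T, (x ≫ g) * (h ≫ i) * (x ≫ g)⁻¹ = h' ≫ i) ∧
        (∃ h' : X' ⟶ T, (x ≫ g)⁻¹ * (h ≫ i) * (x ≫ g) = h' ≫ i)) := by
    intro X g
    constructor
    · intro H X' x h
      refine ⟨normalise i hT c hC g (fun X'' y z => (H X'' y z).1) X' x h, ?_⟩
      obtain ⟨h', hh⟩ := normalise i hT c hC g⁻¹ (fun X'' y z => by
        obtain ⟨z', hz⟩ := (H X'' y z).2
        exact ⟨z', by rw [GrpObj.comp_inv, _root_.inv_inv, hz]⟩) X' x h
      rw [GrpObj.comp_inv, _root_.inv_inv] at hh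
      exact ⟨h', hh⟩
    · intro H X' x z
      refine ⟨normalise_centralizer i c hC g (fun X'' y h => (H X'' y h).2) X' x z, ?_⟩
      obtain ⟨z', hz⟩ := normalise_centralizer i c hC g⁻¹ (fun X'' y h => by
        obtain ⟨h', hh⟩ := (H X'' y h).1
        exact ⟨h', by rw [GrpObj.comp_inv, _root_.inv_inv, hh]⟩) X' x z
      rw [GrpObj.comp_inv, _root_.inv_inv] at hz
      exact ⟨z', hz⟩
  exact and_congr_right fun _ => and_congr_right fun _ => forall_congr' fun X => forall_congr' fun g => by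
    rw [key X g]

end Groth.Agent.S8408
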