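import Groth.Statements.S8409
import Groth.Agent.MTImage.NilpotentTori
-- import your own Groth.Agent.* helpers here

set_option autoImplicit false
universe u
open CategoryTheory MonoidalCategory CartesianMonoidalCategory MonObj GrpObj AlgebraicGeometry
open SGA3x

set_option backward.isDefEq.respectTransparency false

namespace Groth.Agent.S8409

/-- Let G be a smooth connected algebraic group (not necessarily affine) over an algebraically closed
field k. Then G is nilpotent (the group G(k) is nilpotent) if and only if every torus in G is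
central, if and only if G has only one maximal torus. (The published statement adds that the unique
maximal torus is then the largest subtorus of G; this row omits that clause.) -/
theorem result (k : Type u) [Field k] [IsAlgClosed k]
    (G : Over (Spec (CommRingCat.of k))) [GrpObj G] [Smooth G.hom] [QuasiCompact G.hom] [ConnectedSpace ↥G.left] :
    (Group.IsNilpotent (𝟙_ (Over (Spec (CommRingCat.of k))) ⟶ G) ↔
      ∀ (T : Over (Spec (CommRingCat.of k))) [GrpObj T] (j : T ⟶ G) [IsMonHom j] [Mono j], Red.IsTorus T →
        ∀ (X : Over (Spec (CommRingCat.of k))) (t : X ⟶ T) (g : X ⟶ G), (t ≫ j) * g = g * (t ≫ j)) ∧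
    (Group.IsNilpotent (𝟙_ (Over (Spec (CommRingCat.of k))) ⟶ G) ↔
      ∀ (T₁ T₂ : Over (Spec (CommRingCat.of k))) [GrpObj T₁] [GrpObj T₂] (i₁ : T₁ ⟶ G) (i₂ : T₂ ⟶ G),
        Red.IsMaximalTorus i₁ → Red.IsMaximalTorus i₂ → ∃ φ : T₁ ≅ T₂, φ.hom ≫ i₂ = i₁) := by
  refine ⟨⟨fun h T _ j _ _ hT => MTImage.torus_central_general h j hT, fun h =>
    MTImage.isNilpotent_of_unique fun T₁ T₂ _ _ i₁ i₂ => MTImage.unique_maxTorus_of_central h i₁ i₂⟩,
    ⟨fun hn T₁ T₂ _ _ i₁ i₂ => MTImage.unique_maxTorus_of_central
      (fun T _ j _ _ hT => MTImage.torus_central_general hn j hT) i₁ i₂, MTImage.isNilpotent_of_unique⟩⟩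

end Groth.Agent.S8409
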