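import Groth.Statements.S8410
import Groth.Agent.MTExt.Preimage
import Groth.Agent.MTImage.CartanTransporterMain

set_option autoImplicit false
universe u
open CategoryTheory MonoidalCategory CartesianMonoidalCategory MonObj GrpObj AlgebraicGeometry
open SGA3x

open CategoryTheory.Limits
set_option backward.isDefEq.respectTransparency false
set_option synthInstance.maxHeartbeats 400000
set_option maxHeartbeats 1000000

namespace Groth.Agent.S8410

/-- Let G be an S-group scheme, smooth and affine over S with connected fibres, Z a reductive centre of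
G (central, of multiplicative type, and universal after every base change for central homomorphisms
from groups of multiplicative type and finite type), and q : G → G′ a homomorphism representing the
quotient G/Z. Then the unit subgroup is a reductive centre of G′: for every S′ → S, every central
homomorphism H → G′ ×_S S′ from an S′-group H of multiplicative type and of finite type is trivial.
(The published item b) first asserts that G/Z is representable; this row takes a representing
homomorphism q as given and states its second assertion.) -/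
theorem result (S : Scheme.{u}) (G : Over S) [GrpObj G]
    [Smooth G.hom] [IsAffineHom G.hom] (hconn : ∀ s : S, _root_.IsConnected (G.hom.base ⁻¹' {s}))
    (Z : Over S) [GrpObj Z] (z : Z ⟶ G) (hZ : (IsMonHom z ∧ Mono z ∧ SGA3x.IsMultTypeFT Z ∧
      (∀ (X : Over S) (x : X ⟶ Z) (g : X ⟶ G), (x ≫ z) * g = g * (x ≫ z)) ∧
      ∀ (S' : Scheme.{u}) (f : S' ⟶ S) (H : Over S') [GrpObj H] (v : H ⟶ Red.bc f G) [IsMonHom v],
        SGA3x.IsMultTypeFT H →
        (∀ (X : Over S') (x : X ⟶ H) (g : X ⟶ Red.bc f G), (x ≫ v) * g = g * (x ≫ v)) →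
        ∃ w : H ⟶ Red.bc f Z, w ≫ (Over.pullback f).map z = v))
    (G' : Over S) [GrpObj G'] (q : G ⟶ G') [IsMonHom q] (hq : RedSub.IsQuotient z q)
    (S' : Scheme.{u}) (f : S' ⟶ S) (H : Over S') [GrpObj H] (v : H ⟶ Red.bc f G') [IsMonHom v]
    (hH : SGA3x.IsMultTypeFT H)
    (hv : ∀ (X : Over S') (x : X ⟶ H) (g : X ⟶ Red.bc f G'), (x ≫ v) * g = g * (x ≫ v)) :
    v = 1 := by
  obtain ⟨hzm, hzmono, hZm, hZc, hZu⟩ := hZ
  haveI := hzm; haveI := hzmono
  obtain ⟨hqs, hqf, hqp, hqsq⟩ := id hq
  haveI := hqs; haveI := hqf; haveI := hqp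
  haveI := MTBridge.isAffineHom Z hZm
  haveI : QuasiCompact q.left :=
    MorphismProperty.of_isPullback_of_descendsAlong (P := @QuasiCompact)
      (Q := @Surjective ⊓ @Flat ⊓ @LocallyOfFinitePresentation) (hqsq.map (Over.forget S)) ⟨⟨hqs, hqf⟩, hqp⟩
      (MorphismProperty.pullback_fst G.hom Z.hom (inferInstanceAs (QuasiCompact Z.hom)))
  have hker := MTExt.isKernel_of_isQuotient z q hq
  -- base change
  let F := Over.pullback f
  haveI : IsMonHom (F.map q) := inferInstance
  haveI : IsMonHom (F.map z) := inferInstance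
  haveI : PreservesLimitsOfShape WalkingCospan F :=
    (Adjunction.rightAdjoint_preservesLimits (Over.mapPullbackAdj f)).preservesLimitsOfShape
  haveI : Mono (F.map z) := inferInstance
  have hsq := MTExt.isPullback_bc f q
  haveI : Flat (F.map q).left := MorphismProperty.of_isPullback hsq hqf
  haveI : Surjective (F.map q).left := MorphismProperty.of_isPullback hsq hqs
  haveI : QuasiCompact (F.map q).left := MorphismProperty.of_isPullback hsq ‹QuasiCompact q.left›
  haveI : Smooth (Red.bc f G).hom := MorphismProperty.pullback_snd _ _ ‹Smooth G.hom›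
  haveI : LocallyOfFiniteType G.hom := inferInstance
  have hcf : ∀ (Y : Over S') (g : Y ⟶ Red.bc f G) (h : Y ⟶ Red.bc f Z),
      g * (h ≫ F.map z) = (h ≫ F.map z) * g := by
    intro Y g h
    obtain ⟨g, rfl⟩ := MTBridge.exists_toBC' f g
    obtain ⟨h, rfl⟩ := MTBridge.exists_toBC' f h
    rw [← MTBridge.toBC_comp, ← MTBridge.toBC_mul, ← MTBridge.toBC_mul, hZc]
  obtain ⟨P, _, i, p, _, _, hP, hpf, hps, hpq, hPm, hPc⟩ := MTExt.exists_preimage
    (MTImage.isConnected_fibre_bc G hconn f) (F.map z) (MTBridge.isMultTypeFT_bc Z f hZm)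
    (fun Y g h => ⟨h, by rw [hcf, mul_inv_cancel_right]⟩) (F.map q) (Chev.isKernel_bc f z q hker) v hH hv
  haveI := hpf; haveI := hps; haveI := hpq
  obtain ⟨w, hw⟩ := hZu S' f P i hPm hPc
  have hiq : i ≫ F.map q = 1 := by
    rw [← hw, Category.assoc,
      (MTKernel.exists_lift_iff (Chev.isKernel_bc f z q hker) (F.map z)).1 ⟨𝟙 _, Category.id_comp _⟩,
      MonObj.comp_one]
  haveI : Epi p.left := Flat.epi_of_flat_of_surjective _
  haveI : Epi p := (Over.forget _).epi_of_epi_map ‹Epi p.left›
  rw [← cancel_epi p, ← hP.w, hiq, MonObj.comp_one]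

end Groth.Agent.S8410
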