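import Groth.Statements.S8411
import Groth.Agent.MTImage.CartanFamily
import Groth.Agent.MTImage.EtaleLocal
-- import your own Groth.Agent.* helpers here

set_option autoImplicit false
universe u
open CategoryTheory MonoidalCategory CartesianMonoidalCategory MonObj GrpObj AlgebraicGeometry
open SGA3x CategoryTheory.Limits

set_option backward.isDefEq.respectTransparency false

namespace Groth.Agent.S8411

/-- Let G be an S-group scheme, smooth, separated and of finite type over S with connected fibres,
admitting a maximal torus locally for the fpqc topology; let C be a closed subgroup scheme of G,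
smooth over S with connected fibres, and s ∈ S such that the geometric fibre C_s̄ is a Cartan
subgroup of G_s̄. Then C restricted to some open neighbourhood U of s is a Cartan subgroup of G
restricted to U. (The published statement allows any closed smooth subgroup scheme C and concludes
for its neutral component C⁰; this row assumes that C has connected fibres, so that C⁰ = C.) -/
theorem result (S : Scheme.{u}) (G : Over S) [GrpObj G]
    [Smooth G.hom] [IsSeparated G.hom] [QuasiCompact G.hom] (hconn : ∀ s : S, _root_.IsConnected (G.hom.base ⁻¹' {s}))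
    (hG : SGA3x.HasMaxTorusFpqcLocally G)
    (C : Over S) [GrpObj C] (c : C ⟶ G) [IsMonHom c] (hc : IsClosedImmersion c.left) [Smooth C.hom]
    (hCconn : ∀ s : S, _root_.IsConnected (C.hom.base ⁻¹' {s})) (s : S)
    (hs : SGA3x.IsCartanOver (AlgebraicClosure (S.residueField s)) ((Over.pullback (Red.geomPt s)).map c)) :
    ∃ U : S.Opens, s ∈ U ∧ SGA3x.IsCartan ((Over.pullback U.ι).map c) := by
  haveI := hc
  haveI : Mono c.left := inferInstance
  haveI : Mono c := Over.mono_of_mono_left c
  obtain ⟨S', f, hf, hfs, T, hTg, t, ht⟩ := MTImage.etaleLocally_of_fpqcLocally hG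
  haveI := hf; haveI := hfs
  haveI : PreservesLimitsOfShape WalkingCospan (Over.pullback f) :=
    (Adjunction.rightAdjoint_preservesLimits (Over.mapPullbackAdj f)).preservesLimitsOfShape
  haveI : Smooth (Red.bc f G).hom := inferInstanceAs (Smooth (pullback.snd G.hom f))
  haveI : IsSeparated (Red.bc f G).hom := inferInstanceAs (IsSeparated (pullback.snd G.hom f))
  haveI : QuasiCompact (Red.bc f G).hom := inferInstanceAs (QuasiCompact (pullback.snd G.hom f))
  haveI : Smooth (Red.bc f C).hom := inferInstanceAs (Smooth (pullback.snd C.hom f))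
  haveI : QuasiCompact C.hom := by rw [← Over.w c]; infer_instance
  haveI : QuasiCompact (Red.bc f C).hom := inferInstanceAs (QuasiCompact (pullback.snd C.hom f))
  have hG' := MTImage.isConnected_fibre_bc G hconn f
  obtain ⟨C₁, hC₁g, c₁, -, -, hc₁, -⟩ := Groth.Agent.S4118.result S' (Red.bc f G) T t ht
  obtain ⟨s', hs'⟩ := hfs.surj s
  have hpt : ∀ u : S', SGA3x.IsCartanOver _ ((Over.pullback (Red.geomPt u)).map ((Over.pullback f).map c)) ↔
      SGA3x.IsCartanOver _ ((Over.pullback (Red.geomPt (f u))).map c) := fun u => by
    rw [MTImage.isCartanOver_map_map_iff]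
    refine (MTImage.isCartanOver_geomPt_iff hconn c (Red.geomPt u ≫ f) ?_).symm
    rw [Scheme.Hom.comp_apply]
    refine congrArg f ?_
    show (Spec.map _ ≫ S'.fromSpecResidueField u) _ = u
    rw [Scheme.Hom.comp_apply]
    exact S'.fromSpecResidueField_apply _ _
  obtain ⟨U', hsU, hU'⟩ := MTImage.exists_nhd_cartan hG' c₁ hc₁ (MTImage.isConnected_fibre_bc C hCconn f)
    ((Over.pullback f).map c) s' ((hpt s').2 (by subst hs'; exact hs))
  let U : S.Opens := ⟨f '' U', f.isOpenMap _ U'.2⟩
  refine ⟨U, ⟨s', hsU, hs'⟩, MTImage.isCartan_of_pts c U.ι fun u => ?_⟩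
  obtain ⟨v, hvU, hv⟩ := u.2
  have h := (hpt v).1 (hU' v hvU)
  rw [hv] at h
  exact h

end Groth.Agent.S8411
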