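import Groth.Statements.S8413
import Groth.Agent.MTImage.TupleInSub
-- import your own Groth.Agent.* helpers here

set_option autoImplicit false
universe u
open CategoryTheory MonoidalCategory CartesianMonoidalCategory MonObj GrpObj AlgebraicGeometry
open SGA3x CategoryTheory.Limits

set_option backward.isDefEq.respectTransparency false

namespace Groth.Agent.S8413

/-- Let G be an S-group scheme, smooth and of finite presentation over S with connected fibres, and i :
H → G a monomorphism of S-groups with H smooth over S whose geometric fibres are connected and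
contain a Cartan subgroup of the corresponding geometric fibre of G. Then H contains every subgroup
scheme Z of G which is central in G and flat and of finite presentation over S. -/
theorem result (S : Scheme.{u}) (G : Over S) [GrpObj G]
    [Smooth G.hom] [QuasiCompact G.hom] [QuasiSeparated G.hom] (hconn : ∀ s : S, _root_.IsConnected (G.hom.base ⁻¹' {s}))
    (H : Over S) [GrpObj H] [Smooth H.hom] (i : H ⟶ G) [IsMonHom i] [Mono i]
    (hHconn : ∀ s : S, ConnectedSpace ↥(Red.geomFibre s H).left)
    (hHC : ∀ s : S, ∃ (C' : Over (Spec (CommRingCat.of (AlgebraicClosure (S.residueField s))))) (_ : GrpObj C')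
      (c' : C' ⟶ Red.geomFibre s H), SGA3x.IsCartanOver _ (c' ≫ (Over.pullback (Red.geomPt s)).map i))
    (Z : Over S) [GrpObj Z] (z : Z ⟶ G) [IsMonHom z] [Mono z] [Flat Z.hom] [QuasiCompact Z.hom]
    [QuasiSeparated Z.hom] [LocallyOfFinitePresentation Z.hom]
    (hc : ∀ (X : Over S) (x : X ⟶ Z) (g : X ⟶ G), (x ≫ z) * g = g * (x ≫ z)) :
    ∃ f : Z ⟶ H, f ≫ i = z := by
  haveI := (Groth.Agent.S3025.result S G hconn).1
  have hHf := MTImage.isConnected_fibre_of_geom hHconn
  haveI : QuasiCompact H.hom := Groth.Agent.S5324.result S H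
    (fun s => inferInstanceAs (LocallyOfFiniteType (pullback.snd H.hom (S.fromSpecResidueField s)))) hHf
  haveI : Mono i.left := inferInstance
  haveI : IsSeparated H.hom := by rw [← Over.w i]; infer_instance
  let j : pullback i.left z.left ⟶ Z.left := pullback.snd i.left z.left
  haveI : Mono j := inferInstanceAs (Mono (pullback.snd i.left z.left))
  have hloc : ∀ z₀ : Z.left, ∃ A : Z.left.Opens, z₀ ∈ A ∧ IsIso (j ∣_ A) := fun z₀ => by
    obtain ⟨N, r, P, p₀, τ, -, -, hP, hp₀, -, -, hU⟩ := MTImage.exists_tuple_in_sub hconn i hHC (Z.hom z₀)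
    haveI := hP
    obtain ⟨x, hx₁, hx₂⟩ :=
      Scheme.Pullback.exists_preimage_pullback (f := Z.hom) (g := P.hom) z₀ p₀ hp₀.symm
    obtain ⟨U, hxU, h, hh⟩ := hU (Z ⊗ P) (snd Z P) (fst Z P ≫ z)
      (fun k => (hc _ (fst Z P) (snd Z P ≫ τ k ≫ i)).symm) x hx₂
    let π : (U : Scheme.{u}) ⟶ Z.left := U.ι ≫ (fst Z P).left
    haveI : Smooth (fst Z P).left := inferInstanceAs (Smooth (pullback.fst Z.hom P.hom))
    haveI : Flat π := inferInstanceAs (Flat (U.ι ≫ (fst Z P).left))
    have hπ : IsOpenMap π.base := (U.ι ≫ (fst Z P).left).isOpenMap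
    obtain ⟨A, hA, hiso⟩ := MTImage.exists_iso_nhd_of_section j π hπ
      (pullback.lift h π (by rw [hh, Over.comp_left, Category.assoc])) (pullback.lift_snd _ _ _) ⟨x, hxU⟩
    refine ⟨A, ?_, hiso⟩
    have h' : π ⟨x, hxU⟩ = z₀ := by
      show (U.ι ≫ (fst Z P).left) ⟨x, hxU⟩ = z₀
      rw [Scheme.Hom.comp_apply]
      exact hx₁
    rwa [h'] at hA
  choose A hA hiso using hloc
  haveI : IsIso j := IsZariskiLocalAtTarget.of_iSup_eq_top (P := MorphismProperty.isomorphisms Scheme.{u}) A
    (top_le_iff.1 fun z₀ _ => TopologicalSpace.Opens.mem_iSup.2 ⟨z₀, hA z₀⟩) hiso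
  have e : CategoryTheory.inv j ≫ pullback.fst i.left z.left ≫ i.left = z.left := by
    rw [pullback.condition, IsIso.inv_hom_id_assoc]
  refine ⟨Over.homMk (CategoryTheory.inv j ≫ pullback.fst i.left z.left) ?_, Over.OverMorphism.ext ?_⟩
  · rw [← Over.w i, Category.assoc, reassoc_of% e, Over.w z]
  · show (CategoryTheory.inv j ≫ pullback.fst i.left z.left) ≫ i.left = z.left
    rw [Category.assoc, e]

end Groth.Agent.S8413
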