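import Groth.Statements.S8417
import Groth.Agent.MTImage.RankSemicont
-- import your own Groth.Agent.* helpers here

set_option autoImplicit false
universe u
open CategoryTheory MonoidalCategory CartesianMonoidalCategory MonObj GrpObj AlgebraicGeometry
open SGA3x

set_option backward.isDefEq.respectTransparency false

namespace Groth.Agent.S8417

/-- Let G be an S-group scheme, affine and smooth over S. Then the nilpotent rank of the geometric
fibres of G (the common dimension of their Cartan subgroups) is an upper semicontinuous function on
S: for every n, the set of s ∈ S such that G_s̄ has a Cartan subgroup of dimension ≤ n is open. (The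
published item a) asserts the same upper semicontinuity for the reductive rank as well; this row
states it for the nilpotent rank.) -/
theorem result (S : Scheme.{u}) (G : Over S) [GrpObj G] [IsAffineHom G.hom] [Smooth G.hom] (n : ℕ) :
    IsOpen {s : S | ∃ (C' : Over (Spec (CommRingCat.of (AlgebraicClosure (S.residueField s))))) (_ : GrpObj C') (c' : C' ⟶ Red.geomFibre s G),
      SGA3x.IsCartanOver (AlgebraicClosure (S.residueField s)) c' ∧ topologicalKrullDim ↥C'.left ≤ (n : WithBot ℕ∞)} := by
  refine isOpen_iff_forall_mem_open.2 fun s hs => ?_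
  obtain ⟨C', hC'g, c', ⟨-, -, T, hTg, i, hi, hC⟩, hd⟩ := hs
  haveI := hi.1; haveI := hi.2.1
  obtain ⟨U, hsU, hU⟩ := MTImage.exists_nhd_rank (Red.geomPt s) i hi.2.2.1 c' hC
  refine ⟨U, fun t ht => ?_, U.2, by rwa [MTImage.geomPt_closedPoint] at hsU⟩
  obtain ⟨T', hT'g, i', C'', hC''g, c'', -, hc'', -, hle⟩ := hU _ (Red.geomPt t) (by
    rwa [MTImage.geomPt_closedPoint])
  exact ⟨C'', hC''g, c'', hc'', hle.trans hd⟩

end Groth.Agent.S8417
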