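import Groth.Statements.S8421
import Groth.Agent.MTImage.TupleInSub
import Groth.Agent.S5260
-- import your own Groth.Agent.* helpers here

set_option autoImplicit false
universe u
open CategoryTheory MonoidalCategory CartesianMonoidalCategory MonObj GrpObj AlgebraicGeometry
open SGA3x CategoryTheory.Limits

set_option backward.isDefEq.respectTransparency false

namespace Groth.Agent.S8421

/-- Let G be an S-group scheme, smooth and of finite presentation over S with connected fibres, and i :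
H → G a monomorphism of S-groups with H smooth over S, such that each geometric fibre H_s̄ is
connected and contains a Cartan subgroup of G_s̄. Then Norm_G(H) is represented by a closed subgroup
scheme N of G of finite presentation over S, the canonical monomorphism H → N is an open immersion
(H = N⁰), and consequently i is an immersion. -/
theorem result (S : Scheme.{u}) (G : Over S) [GrpObj G]
    [Smooth G.hom] [QuasiCompact G.hom] [QuasiSeparated G.hom] (hconn : ∀ s : S, _root_.IsConnected (G.hom.base ⁻¹' {s}))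
    (H : Over S) [GrpObj H] [Smooth H.hom] (i : H ⟶ G) [IsMonHom i] [Mono i]
    (hHconn : ∀ s : S, ConnectedSpace ↥(Red.geomFibre s H).left)
    (hHC : ∀ s : S, ∃ (C' : Over (Spec (CommRingCat.of (AlgebraicClosure (S.residueField s))))) (_ : GrpObj C')
      (c' : C' ⟶ Red.geomFibre s H), SGA3x.IsCartanOver _ (c' ≫ (Over.pullback (Red.geomPt s)).map i)) :
    (∃ (N : Over S) (_ : GrpObj N) (n : N ⟶ G) (f : H ⟶ N), Red.IsNormalizerOf i n ∧ IsClosedImmersion n.left ∧
      QuasiCompact N.hom ∧ LocallyOfFinitePresentation N.hom ∧ f ≫ n = i ∧ IsOpenImmersion f.left) ∧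
    IsImmersion i.left := by
  haveI := (Groth.Agent.S3025.result S G hconn).1
  have hHf := MTImage.isConnected_fibre_of_geom hHconn
  haveI : QuasiCompact H.hom := Groth.Agent.S5324.result S H
    (fun s => inferInstanceAs (LocallyOfFiniteType (pullback.snd H.hom (S.fromSpecResidueField s)))) hHf
  haveI : Mono i.left := inferInstance
  haveI : IsSeparated H.hom := by rw [← Over.w i]; infer_instance
  obtain ⟨N, hNg, n, hN, hnc, hnf⟩ := Groth.Agent.S5260.result G H (fun s => by
    haveI : ConnectedSpace ↥(H.hom ⁻¹' {s}) := isConnected_iff_connectedSpace.1 (hHf s)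
    exact (H.hom.fiberHomeo s).symm.surjective.connectedSpace (H.hom.fiberHomeo s).symm.continuous) i
  haveI := hnc; haveI := hnf; haveI := hN.1; haveI := hN.2.1
  haveI : QuasiCompact N.hom := by rw [← Over.w n]; infer_instance
  haveI : LocallyOfFinitePresentation N.hom := by rw [← Over.w n]; infer_instance
  obtain ⟨f, hf⟩ := (hN.2.2 H i).2 fun X x h =>
    ⟨⟨x * h * x⁻¹, by simp only [MonObj.mul_comp, GrpObj.inv_comp]⟩,
      ⟨x⁻¹ * h * x, by simp only [MonObj.mul_comp, GrpObj.inv_comp]⟩⟩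
  haveI : IsMonHom f := MTSplit.isMonHom_of_comp_mono f n i hf
  haveI : Mono (f ≫ n) := by rw [hf]; infer_instance
  haveI : Mono f := mono_of_mono f n
  haveI : Mono f.left := inferInstance
  have hloc : ∀ h₀ : H.left, ∃ A : N.left.Opens, f.left h₀ ∈ A ∧ IsIso (f.left ∣_ A) := fun h₀ => by
    obtain ⟨M, r, P, p₀, τ, hM, huM, hP, hp₀, hτ, hτc, hU⟩ := MTImage.exists_tuple_in_sub hconn i hHC (H.hom h₀)
    haveI := hP
    let X := N ⊗ P
    let g : X ⟶ G := fst N P ≫ n
    have hconj : ∀ j, ∃ c : X ⟶ H, g * ((snd N P ≫ τ j) ≫ i) * g⁻¹ = c ≫ i := fun j => by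
      obtain ⟨c, hc⟩ := ((hN.2.2 _ g).1 ⟨fst N P, rfl⟩ X (𝟙 X) (snd N P ≫ τ j)).1
      exact ⟨c, by rw [Category.id_comp] at hc; exact hc⟩
    choose τ' hτ' using hconj
    have hτ'N : ∀ j, τ' j ^ M = 1 := fun j => by
      rw [← cancel_mono i, MTTorus.comp_pow_hom, ← hτ', conj_pow, ← MTTorus.comp_pow_hom, ← MonObj.comp_pow, hτ,
        MonObj.comp_one, MonObj.one_comp, _root_.mul_one, mul_inv_cancel]
    have hτ'c : ∀ a b, τ' a * τ' b = τ' b * τ' a := fun a b => by
      rw [← cancel_mono i, MonObj.mul_comp, MonObj.mul_comp, ← hτ', ← hτ']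
      have h := congrArg (fun m => (snd N P ≫ m) ≫ i) (hτc a b)
      simp only [MonObj.comp_mul, MonObj.mul_comp] at h
      calc _ = g * (((snd N P ≫ τ a) ≫ i) * ((snd N P ≫ τ b) ≫ i)) * g⁻¹ := by group
        _ = _ := by rw [h]; group
    let HX := Red.bc X.hom H
    haveI : Smooth HX.hom := inferInstanceAs (Smooth (pullback.snd H.hom X.hom))
    haveI : IsSeparated HX.hom := inferInstanceAs (IsSeparated (pullback.snd H.hom X.hom))
    haveI : QuasiCompact HX.hom := inferInstanceAs (QuasiCompact (pullback.snd H.hom X.hom))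
    obtain ⟨E, iE, -, hEs, -, -, hE⟩ := MTImage.exists_tuple_transporter M hM (G := HX)
      (MTImage.isUnit_natCast (snd N P).left M huM) r (fun j => MTImage.sec (snd N P ≫ τ j))
      (fun j => MTImage.sec (τ' j))
      (fun j => by rw [← MTImage.sec_pow, ← MonObj.comp_pow, hτ, MonObj.comp_one, MTImage.sec_one])
      (fun j => by rw [← MTImage.sec_pow, hτ'N, MTImage.sec_one])
      (fun a b => by
        show MTBridge.toBC X.hom _ * MTBridge.toBC X.hom _ = MTBridge.toBC X.hom _ * MTBridge.toBC X.hom _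
        rw [← MTBridge.toBC_mul, ← MTBridge.toBC_mul, ← MonObj.comp_mul, ← MonObj.comp_mul, ← MonObj.comp_mul,
          ← MonObj.comp_mul, hτc])
      (fun a b => by
        show MTBridge.toBC X.hom _ * MTBridge.toBC X.hom _ = MTBridge.toBC X.hom _ * MTBridge.toBC X.hom _
        rw [← MTBridge.toBC_mul, ← MTBridge.toBC_mul, ← MonObj.comp_mul, ← MonObj.comp_mul, hτ'c])
    haveI := hEs
    let E' : Over S := (Over.map X.hom).obj E
    obtain ⟨eh, heh⟩ := MTBridge.exists_toBC' X.hom iE
    let pE : E' ⟶ X := Over.homMk E.hom rfl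
    have hpE : (Over.map X.hom).map (toUnit E) ≫ (MTImage.secIso X).hom = pE := by
      apply Over.OverMorphism.ext
      show E.hom ≫ 𝟙 _ = E.hom
      simp
    have hEq : ∀ j, eh * (pE ≫ snd N P ≫ τ j) = (pE ≫ τ' j) * eh := fun j => by
      have h := (hE E iE).1 ⟨𝟙 _, Category.id_comp _⟩ j
      rw [MTImage.sec, MTImage.sec, ← MTBridge.toBC_naturality, ← MTBridge.toBC_naturality, ← heh,
        ← MTBridge.toBC_mul, ← MTBridge.toBC_mul, ← Category.assoc ((Over.map X.hom).map (toUnit E)),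
        ← Category.assoc ((Over.map X.hom).map (toUnit E)), hpE] at h
      exact MTBridge.toBC_inj X.hom h
    let t : E' ⟶ G := (pE ≫ g)⁻¹ * (eh ≫ i)
    have hcomm : ∀ j, ((pE ≫ snd N P) ≫ τ j ≫ i) * t = t * ((pE ≫ snd N P) ≫ τ j ≫ i) := fun j => by
      have h1 := congrArg (fun m => m ≫ i) (hEq j)
      have h2 := congrArg (fun m => pE ≫ m) (hτ' j)
      simp only [MonObj.mul_comp, MonObj.comp_mul, GrpObj.comp_inv, Category.assoc] at h1 h2 ⊢
      rw [← h2] at h1
      simp only [t]
      rw [_root_.mul_assoc (pE ≫ g)⁻¹ (eh ≫ i), h1]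
      group
    -- the point given by `h₀`
    obtain ⟨w₀, hw₁, hw₂⟩ := Scheme.Pullback.exists_preimage_pullback (f := H.hom) (g := P.hom) h₀ p₀ hp₀.symm
    let X₀ := H ⊗ P
    let u : X₀ ⟶ X := f ▷ P
    let Y : Over X.left := Over.mk u.left
    let εY : (Over.map X.hom).obj Y ≅ X₀ := Over.isoMk (Iso.refl _) (by
      show 𝟙 _ ≫ X₀.hom = u.left ≫ X.hom
      rw [Category.id_comp, Over.w u])
    have hu : (Over.map X.hom).map (toUnit Y) ≫ (MTImage.secIso X).hom = εY.hom ≫ u := by
      apply Over.OverMorphism.ext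
      show u.left ≫ 𝟙 _ = 𝟙 _ ≫ u.left
      simp
    obtain ⟨φ₀, hφ₀⟩ := (hE Y (MTBridge.toBC X.hom (εY.hom ≫ fst H P))).2 fun j => by
      rw [MTImage.sec, MTImage.sec, ← MTBridge.toBC_naturality, ← MTBridge.toBC_naturality,
        ← MTBridge.toBC_mul, ← MTBridge.toBC_mul, ← Category.assoc ((Over.map X.hom).map (toUnit Y)),
        ← Category.assoc ((Over.map X.hom).map (toUnit Y)), hu, Category.assoc, Category.assoc,
        ← MonObj.comp_mul, ← MonObj.comp_mul]
      refine congrArg (fun m => MTBridge.toBC X.hom (εY.hom ≫ m)) ((cancel_mono i).1 ?_)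
      have h2 := congrArg (fun m => u ≫ m) (hτ' j)
      simp only [MonObj.mul_comp, MonObj.comp_mul, GrpObj.comp_inv, Category.assoc] at h2 ⊢
      rw [← h2, show u ≫ g = fst H P ≫ i by simp [u, g, hf]]
      group
    let φ : X₀ ⟶ E' := εY.inv ≫ (Over.map X.hom).map φ₀
    have hφ₁ : φ ≫ pE = u := by
      apply Over.OverMorphism.ext
      show (𝟙 _ ≫ φ₀.left) ≫ E.hom = u.left
      rw [Category.id_comp]
      exact Over.w φ₀
    have hy : (pE ≫ snd N P).left (φ.left w₀) = p₀ := by
      rw [← Scheme.Hom.comp_apply, ← Over.comp_left, reassoc_of% hφ₁, show u ≫ snd N P = snd H P by simp [u]]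
      exact hw₂
    obtain ⟨U, hyU, h, hh⟩ := hU E' (pE ≫ snd N P) t hcomm (φ.left w₀) hy
    let U' : Over S := Over.mk (U.ι ≫ E'.hom)
    let ι' : U' ⟶ E' := Over.homMk U.ι rfl
    let hU' : U' ⟶ H := Over.homMk h (by
      show h ≫ H.hom = U.ι ≫ E'.hom
      rw [← Over.w i, reassoc_of% hh, Over.w t])
    have hh' : hU' ≫ i = ι' ≫ t := Over.OverMorphism.ext hh
    let hb : U' ⟶ H := (ι' ≫ eh) * hU'⁻¹
    have hb' : hb ≫ f = ι' ≫ pE ≫ fst N P := by
      rw [← cancel_mono n, Category.assoc, hf, MonObj.mul_comp, GrpObj.inv_comp, hh']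
      simp only [t, g, MonObj.comp_mul, GrpObj.comp_inv, Category.assoc]
      group
    let π : (U : Scheme.{u}) ⟶ N.left := U.ι ≫ E.hom ≫ (fst N P).left
    haveI : Smooth (fst N P).left := inferInstanceAs (Smooth (pullback.fst N.hom P.hom))
    haveI : Flat π := inferInstanceAs (Flat (U.ι ≫ E.hom ≫ (fst N P).left))
    have hπ : IsOpenMap π.base := (U.ι ≫ E.hom ≫ (fst N P).left).isOpenMap
    obtain ⟨A, hA, hiso⟩ := MTImage.exists_iso_nhd_of_section f.left π hπ hb.left
      (congrArg (fun m => m.left) hb') ⟨φ.left w₀, hyU⟩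
    refine ⟨A, ?_, hiso⟩
    have h' : π ⟨φ.left w₀, hyU⟩ = f.left h₀ := by
      show (U.ι ≫ pE.left ≫ (fst N P).left) ⟨φ.left w₀, hyU⟩ = _
      rw [Scheme.Hom.comp_apply]
      show (pE.left ≫ (fst N P).left) (φ.left w₀) = _
      rw [← Scheme.Hom.comp_apply, ← Over.comp_left, ← Over.comp_left, reassoc_of% hφ₁,
        show u ≫ fst N P = fst H P ≫ f by simp [u], Over.comp_left, Scheme.Hom.comp_apply]
      exact congrArg f.left hw₁
    rwa [h'] at hA
  choose A hA hiso using hloc
  haveI : IsOpenImmersion f.left := by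
    let O : N.left.Opens := ⨆ h₀, A h₀
    have hr : ∀ h₀ : H.left, f.left h₀ ∈ O := fun h₀ => TopologicalSpace.Opens.mem_iSup.2 ⟨h₀, hA h₀⟩
    let U : H.left → ((O : Scheme.{u})).Opens := fun h₀ => O.ι ⁻¹ᵁ A h₀
    have hop : IsOpenImmersion (f.left ∣_ O) := by
      refine IsZariskiLocalAtTarget.of_iSup_eq_top (P := @IsOpenImmersion) U ?_ fun h₀ => ?_
      · refine top_le_iff.1 fun y _ => ?_
        obtain ⟨h₀, hh₀⟩ := TopologicalSpace.Opens.mem_iSup.1 y.2
        exact TopologicalSpace.Opens.mem_iSup.2 ⟨h₀, hh₀⟩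
      · refine ((MorphismProperty.arrow_mk_iso_iff @IsOpenImmersion
          (morphismRestrictRestrict f.left O (U h₀))).2 ?_)
        have e : O.ι ''ᵁ U h₀ = A h₀ := by
          rw [Scheme.Hom.image_preimage_eq_opensRange_inf, Scheme.Opens.opensRange_ι, inf_eq_right]
          exact le_iSup A h₀
        rw [e]
        haveI := hiso h₀
        infer_instance
    have hfac : (Scheme.topIso H.left).inv ≫ H.left.homOfLE (show ⊤ ≤ f.left ⁻¹ᵁ O from fun x _ => hr x) ≫
        (f.left ∣_ O) ≫ O.ι = f.left := by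
      rw [morphismRestrict_ι, Scheme.homOfLE_ι_assoc, ← Scheme.topIso_hom, Iso.inv_hom_id_assoc]
    rw [← hfac]
    infer_instance
  exact ⟨⟨N, hNg, n, f, hN, hnc, inferInstance, inferInstance, hf, inferInstance⟩, by
    rw [← hf, Over.comp_left]; infer_instance⟩

end Groth.Agent.S8421
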