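import Groth.Statements.S8422
import Groth.Agent.Chev.Component
import Groth.Agent.S3006
import Groth.Agent.S3036
-- import your own Groth.Agent.* helpers here

set_option autoImplicit false
set_option backward.isDefEq.respectTransparency false
universe u
open CategoryTheory MonoidalCategory CartesianMonoidalCategory MonObj GrpObj AlgebraicGeometry
open SGA3x

open Groth.Agent.Chev Groth.Agent.Chev.Borel

namespace Groth.Agent.S8422

/-- Let G be a smooth algebraic group (not necessarily affine) over an algebraically closed field k.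
Then the Borel subgroups of G are conjugate; the maximal tori of a Borel subgroup B are maximal tori
of G; and if G is connected, the Cartan subgroups of B are Cartan subgroups of G. (The published
statement also asserts that G/B is projective; this row omits that assertion.) -/
theorem result (k : Type u) [Field k] [IsAlgClosed k]
    (G : Over (Spec (CommRingCat.of k))) [GrpObj G] [Smooth G.hom] [QuasiCompact G.hom] :
    (∀ (B₁ B₂ : Over (Spec (CommRingCat.of k))) [GrpObj B₁] [GrpObj B₂] (b₁ : B₁ ⟶ G) (b₂ : B₂ ⟶ G),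
      Red.IsBorelOver k b₁ → Red.IsBorelOver k b₂ → ∃ g : 𝟙_ (Over (Spec (CommRingCat.of k))) ⟶ G, SGA3x.ConjBy b₁ b₂ g) ∧
    (∀ (B : Over (Spec (CommRingCat.of k))) [GrpObj B] (b : B ⟶ G), Red.IsBorelOver k b →
      ∀ (T : Over (Spec (CommRingCat.of k))) [GrpObj T] (t : T ⟶ B), Red.IsMaximalTorus t → Red.IsMaximalTorus (t ≫ b)) ∧
    (ConnectedSpace ↥G.left → ∀ (B : Over (Spec (CommRingCat.of k))) [GrpObj B] (b : B ⟶ G), Red.IsBorelOver k b →
      ∀ (C : Over (Spec (CommRingCat.of k))) [GrpObj C] (c : C ⟶ B), SGA3x.IsCartanOver k c → SGA3x.IsCartanOver k (c ≫ b)) := by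
  obtain ⟨G₀, hG₀, c, hcm, hcc, hcs, hirr, hcr⟩ := Groth.Agent.Chev.exists_component G
  haveI := hcm; haveI := hcc; haveI := hcs; haveI := hirr
  haveI : QuasiCompact G₀.hom := by rw [← Over.w c]; infer_instance
  haveI : Mono c := Groth.Agent.GrpField.SchImg.mono_of_isClosedImmersion c
  haveI : ConnectedSpace G₀.left := inferInstance
  have h2 : ∀ (B : Over (Spec (CommRingCat.of k))) [GrpObj B] (b : B ⟶ G), Red.IsBorelOver k b →
      ∀ (T : Over (Spec (CommRingCat.of k))) [GrpObj T] (t : T ⟶ B), Red.IsMaximalTorus t →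
        Red.IsMaximalTorus (t ≫ b) := by
    intro B _ b hB T _ t ht
    obtain ⟨b', hb', hB'⟩ := exists_borel_component hcr b hB
    obtain ⟨L, D, Q, hL, hD, hQ, l, d, q, R⟩ := exists_affReduction G₀
    have h := isMaxTorus_comp_borel_nonaff R b' hB' t (isMaxTorus_of_isMaximalTorus t ht)
    rw [← hb', ← Category.assoc]
    exact isMaximalTorus_of_isMaxTorus _ (isMaxTorus_comp_component hcr _ h)
  refine ⟨fun B₁ B₂ _ _ b₁ b₂ h₁ h₂ => ?_, h2, fun hconn B _ b hB C _ cB hC => ?_⟩
  · obtain ⟨b₁', hb₁, hB₁⟩ := exists_borel_component hcr b₁ h₁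
    obtain ⟨b₂', hb₂, hB₂⟩ := exists_borel_component hcr b₂ h₂
    obtain ⟨g, f, hf⟩ := borel_conj_nonaff b₁' b₂' hB₁ hB₂
    refine ⟨g ≫ c, f, ?_⟩
    show AGF.conjBy (g ≫ c) b₁ = f.hom ≫ b₂
    rw [← hb₂, ← Category.assoc, hf, conjBy_comp, hb₁]
  · haveI := hconn
    obtain ⟨hcBm, hcBmono, T, hTg, i, hi, hcen⟩ := hC
    haveI := hB.1; haveI := hB.2.1; haveI := hi.1; haveI := hi.2.1; haveI := hcBm; haveI := hcBmono
    haveI : Mono b := Groth.Agent.GrpField.SchImg.mono_of_isClosedImmersion b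
    haveI : Mono (i ≫ b) := inferInstance
    obtain ⟨L, D, Q, hL, hD, hQ, l, d, q, R⟩ := exists_affReduction G
    haveI := R.l_affine; haveI := R.l_smooth; haveI := R.l_closed
    obtain ⟨t, ht, htm, htmono⟩ := exists_factor_torus R (i ≫ b) hi.2.2.1
    haveI := htm; haveI := htmono
    haveI := isAffine_of_isTorus hi.2.2.1
    haveI := locallyOfFiniteType_of_isTorus hi.2.2.1
    haveI : IsClosedImmersion t.left := Groth.Agent.S3036.result k T L t
    haveI : IsClosedImmersion (i ≫ b).left := by rw [← ht]; exact inferInstanceAs (IsClosedImmersion (t.left ≫ l.left))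
    haveI : IsSeparated G.hom := Groth.Agent.GrpField.isSeparated_hom G
    obtain ⟨⟨C', hC'g, c', hc', -, hC's⟩, -⟩ := Groth.Agent.S3006.result _ G T (i ≫ b) inferInstance hi.2.2.1
    haveI := hC's
    haveI : IsReduced C'.left := Groth.Agent.SmoothRed.isReduced_of_smooth_scheme C'.hom
    obtain ⟨w, hw⟩ := Groth.Agent.Chev.BorelFixed.exists_lift_rp c' b fun p => by
      obtain ⟨y, hy⟩ := centralizer_mem_borel_nonaff R b hB i (isMaxTorus_of_isMaximalTorus i hi) (p ≫ c')
        fun X x h => (hc'.2.2 _ (p ≫ c')).1 ⟨p, rfl⟩ X x h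
      exact ⟨Groth.Agent.SubGen.rpt y, by rw [Groth.Agent.SubGen.map_rpt, hy]⟩
    refine ⟨inferInstance, inferInstance, T, hTg, i ≫ b, h2 B b hB T i hi, inferInstance, inferInstance,
      fun X g => ⟨?_, fun hg => ?_⟩⟩
    · rintro ⟨z, rfl⟩ X' x h
      have h1 := congrArg (fun m => m ≫ b) ((hcen.2.2 X (z ≫ cB)).1 ⟨z, rfl⟩ X' x h)
      simpa only [MonObj.mul_comp, Category.assoc] using h1
    · obtain ⟨u, hu⟩ := (hc'.2.2 X g).2 hg
      obtain ⟨z, hz⟩ := (hcen.2.2 X (u ≫ w)).2 fun X' x h => (cancel_mono b).1 (by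
        have h1 := hg X' x h
        rw [← hu, ← hw] at h1
        simpa only [MonObj.mul_comp, Category.assoc] using h1)
      exact ⟨z, by rw [← Category.assoc, hz, Category.assoc, hw, hu]⟩

end Groth.Agent.S8422
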