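import Groth.Statements.S8423
import Groth.Agent.Chev.NonAffine
-- import your own Groth.Agent.* helpers here

set_option autoImplicit false
set_option backward.isDefEq.respectTransparency false
universe u
open CategoryTheory MonoidalCategory CartesianMonoidalCategory MonObj GrpObj AlgebraicGeometry
open SGA3x

open Groth.Agent.Chev Groth.Agent.Chev.Borel Groth.Agent.Chev.BorelFixed

namespace Groth.Agent.S8423

/-- Let G be a smooth connected algebraic group (not necessarily affine) over an algebraically closed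
field k. Then every element of G(k) is contained in a Borel subgroup of G. -/
theorem result (k : Type u) [Field k] [IsAlgClosed k]
    (G : Over (Spec (CommRingCat.of k))) [GrpObj G] [Smooth G.hom] [QuasiCompact G.hom] [ConnectedSpace ↥G.left]
    (g : 𝟙_ (Over (Spec (CommRingCat.of k))) ⟶ G) :
    ∃ (B : Over (Spec (CommRingCat.of k))) (_ : GrpObj B) (b : B ⟶ G), Red.IsBorelOver k b ∧ ∃ g' : 𝟙_ (Over (Spec (CommRingCat.of k))) ⟶ B, g' ≫ b = g := by
  obtain ⟨L, D, Q, hL, hD, hQ, l, d, q, R⟩ := exists_affReduction G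
  haveI := R.l_affine; haveI := R.l_smooth; haveI := R.l_connected; haveI := R.l_hom
  obtain ⟨a, z, haz⟩ := R.decomp g
  obtain ⟨B₀, hB₀g, b₀, hb₀, -⟩ := exists_borel_proper L
  obtain ⟨x, b, hb⟩ := exists_conj_mem_borel b₀ hb₀ a
  obtain ⟨P, hPg, iP, hP, hrp⟩ := exists_borel_of_affReduction R (AGF.conjBy x b₀) (isBorelOver_conjBy x b₀ hb₀)
  refine ⟨P, hPg, iP, hP, (hrp g).2 ⟨b, z, ?_⟩⟩
  rw [← Category.assoc b (AGF.conjBy x b₀), comp_conjBy, toUnit_one, Category.id_comp, hb, haz]

end Groth.Agent.S8423
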