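import Groth.Statements.S8424
import Groth.Agent.Chev.CartanPre
import Groth.Agent.S3006
import Groth.Agent.S3036
-- import your own Groth.Agent.* helpers here

set_option autoImplicit false
set_option backward.isDefEq.respectTransparency false
universe u
open CategoryTheory MonoidalCategory CartesianMonoidalCategory MonObj GrpObj AlgebraicGeometry
open SGA3x

open Groth.Agent.Chev Groth.Agent.Chev.Borel

namespace Groth.Agent.S8424

/-- Let G be a smooth algebraic group (not necessarily affine) over an algebraically closed field k, B a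
Borel subgroup of G, C a Cartan subgroup of B and N the normalizer of C in G. Then N ∩ B = C: a
point of G with values in a k-scheme factors through N and through B if and only if it factors
through C. -/
theorem result (k : Type u) [Field k] [IsAlgClosed k]
    (G : Over (Spec (CommRingCat.of k))) [GrpObj G] [Smooth G.hom] [QuasiCompact G.hom]
    (B : Over (Spec (CommRingCat.of k))) [GrpObj B] (b : B ⟶ G) (hB : Red.IsBorelOver k b)
    (C : Over (Spec (CommRingCat.of k))) [GrpObj C] (c : C ⟶ B) (hC : SGA3x.IsCartanOver k c)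
    (N : Over (Spec (CommRingCat.of k))) [GrpObj N] (n : N ⟶ G) (hN : Red.IsNormalizerOf (c ≫ b) n)
    (X : Over (Spec (CommRingCat.of k))) (g : X ⟶ G) :
    ((∃ x : X ⟶ N, x ≫ n = g) ∧ (∃ y : X ⟶ B, y ≫ b = g)) ↔ ∃ z : X ⟶ C, z ≫ c ≫ b = g := by
  obtain ⟨hbm, hbc, hbs, hbconn, hbsol, -⟩ := hB
  haveI := hbm; haveI := hbc; haveI := hbs; haveI := hbconn
  haveI := isSolvable_rp hbsol
  haveI : QuasiCompact B.hom := by rw [← Over.w b]; infer_instance
  haveI : Mono b := Groth.Agent.GrpField.SchImg.mono_of_isClosedImmersion b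
  obtain ⟨hcm, hcmono, T, hTg, i, hi, hcen⟩ := hC
  haveI := hcm; haveI := hcmono; haveI := hi.1; haveI := hi.2.1
  constructor
  · rintro ⟨⟨xn, hxn⟩, ⟨y, hy⟩⟩
    obtain ⟨L, D, Q, hL, hD, hQ, l, d, q, R⟩ := exists_affReduction B
    haveI := R.l_affine; haveI := R.l_smooth; haveI := R.l_closed
    obtain ⟨t, ht, htm, htmono⟩ := exists_factor_torus R i hi.2.2.1
    haveI := htm; haveI := htmono
    haveI := isAffine_of_isTorus hi.2.2.1
    haveI := locallyOfFiniteType_of_isTorus hi.2.2.1
    haveI : IsClosedImmersion t.left := Groth.Agent.S3036.result k T L t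
    haveI : IsClosedImmersion i.left := by rw [← ht]; exact inferInstanceAs (IsClosedImmersion (t.left ≫ l.left))
    haveI : IsSeparated B.hom := Groth.Agent.GrpField.isSeparated_hom B
    obtain ⟨⟨C', hC'g, c', hc', hC'c, hC's⟩, -⟩ := Groth.Agent.S3006.result _ B T i inferInstance hi.2.2.1
    obtain ⟨hcm', hcmono', hcu'⟩ := hc'
    haveI := hcmono'; haveI := hC'c
    obtain ⟨u, hu⟩ := (hcu' C c).2 ((hcen.2.2 C c).1 ⟨𝟙 C, Category.id_comp c⟩)
    obtain ⟨v, hv⟩ := (hcen.2.2 C' c').2 ((hcu' C' c').1 ⟨𝟙 C', Category.id_comp c'⟩)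
    haveI : IsIso u := ⟨v, (cancel_mono c).1 (by rw [Category.assoc, hv, hu, Category.id_comp]),
      (cancel_mono c').1 (by rw [Category.assoc, hu, hv, Category.id_comp])⟩
    haveI : IsIso u.left := inferInstanceAs (IsIso ((Over.forget _).map u))
    haveI : Smooth C.hom := by
      rw [← Over.w u]
      haveI := hC's
      infer_instance
    haveI : IsClosedImmersion c.left := by rw [← hu, Over.comp_left]; infer_instance
    obtain ⟨z, hz⟩ := exists_factor_of_normalizes_cartan' i (isMaxTorus_of_isMaximalTorus i hi) c hcen y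
      fun X' x h => by
        obtain ⟨⟨h₁, hh₁⟩, ⟨h₂, hh₂⟩⟩ := (hN.2.2 X g).1 ⟨xn, hxn⟩ X' x h
        refine ⟨⟨h₁, (cancel_mono b).1 ?_⟩, ⟨h₂, (cancel_mono b).1 ?_⟩⟩
        · simpa only [MonObj.mul_comp, GrpObj.inv_comp, Category.assoc, hy] using hh₁
        · simpa only [MonObj.mul_comp, GrpObj.inv_comp, Category.assoc, hy] using hh₂
    exact ⟨z, by rw [← Category.assoc, hz, hy]⟩
  · rintro ⟨z, rfl⟩
    refine ⟨(hN.2.2 X _).2 fun X' x h => ⟨⟨(x ≫ z) * h * (x ≫ z)⁻¹, ?_⟩, ⟨(x ≫ z)⁻¹ * h * (x ≫ z), ?_⟩⟩, z ≫ c,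
      Category.assoc _ _ _⟩
    · simp only [MonObj.mul_comp, GrpObj.inv_comp, Category.assoc]
    · simp only [MonObj.mul_comp, GrpObj.inv_comp, Category.assoc]

end Groth.Agent.S8424
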