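import Groth.Statements.S8426
import Groth.Agent.CentralLift.SqLift
-- import your own Groth.Agent.* helpers here

set_option autoImplicit false
universe u
open CategoryTheory MonoidalCategory CartesianMonoidalCategory MonObj GrpObj AlgebraicGeometry
open SGA3x

namespace Groth.Agent.S8426

/-- Let S = Spec A be affine, S₀ = Spec(A/J) the closed subscheme defined by an ideal J of square zero,
G an S-group scheme and H₀ a subgroup scheme of G₀ = G ×_S S₀ (a monomorphic homomorphism H₀ → G₀
which is an immersion) which is smooth and of finite type over S₀ and of multiplicative type. Then G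
has a subgroup scheme of multiplicative type (again an immersion) lifting H₀ if and only if G has a
subscheme H′, flat over S, lifting H₀ (H′ ×_S S₀ = H₀ as subschemes of G₀). -/
theorem result (A : Type u) [CommRing A] (J : Ideal A) (hJ : J ^ 2 = ⊥)
    (G : Over (Spec (CommRingCat.of A))) [GrpObj G]
    (H₀ : Over (Spec (CommRingCat.of (A ⧸ J)))) [GrpObj H₀] (j₀ : H₀ ⟶ Red.bc (Spec.map (CommRingCat.ofHom (Ideal.Quotient.mk J))) G) [IsMonHom j₀] [Mono j₀]
    (hj₀ : IsImmersion j₀.left) [Smooth H₀.hom] [QuasiCompact H₀.hom] (hm₀ : SGA3x.IsMultTypeFT H₀) :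
    (∃ (H : Over (Spec (CommRingCat.of A))) (_ : GrpObj H) (j : H ⟶ G), IsMonHom j ∧ Mono j ∧ IsImmersion j.left ∧ SGA3x.IsMultTypeFT H ∧
      ∃ e : Red.bc (Spec.map (CommRingCat.ofHom (Ideal.Quotient.mk J))) H ≅ H₀, e.hom ≫ j₀ = (Over.pullback (Spec.map (CommRingCat.ofHom (Ideal.Quotient.mk J)))).map j) ↔
    (∃ (H' : Scheme.{u}) (h' : H' ⟶ G.left), IsImmersion h' ∧ Flat (h' ≫ G.hom) ∧
      ∃ e : Limits.pullback h' (Limits.pullback.fst G.hom (Spec.map (CommRingCat.ofHom (Ideal.Quotient.mk J)))) ≅ H₀.left,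
        e.hom ≫ j₀.left = Limits.pullback.snd h' (Limits.pullback.fst G.hom (Spec.map (CommRingCat.ofHom (Ideal.Quotient.mk J))))) := by
  constructor
  · rintro ⟨H, _, j, _, _, hji, hH, e, he⟩
    have hs := Groth.Agent.GrpLoc.isPullback_bc (Spec.map (CommRingCat.ofHom (Ideal.Quotient.mk J))) j
    refine ⟨H.left, j.left, hji, ?_, hs.isoPullback.symm ≪≫ (Over.forget _).mapIso e, ?_⟩
    · rw [Over.w j]
      exact Groth.Agent.MTBridge.flat_of_isMultTypeFT H hH
    · show (hs.isoPullback.inv ≫ e.hom.left) ≫ j₀.left = _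
      rw [Category.assoc, ← Over.comp_left, he]
      exact hs.isoPullback_inv_snd
  · rintro ⟨H', h', -, hfl, e, he⟩
    haveI := hfl
    haveI := hj₀
    exact Groth.Agent.CentralLift.exists_subgroup_of_flat hJ H₀ j₀ hm₀ H' h' e he

end Groth.Agent.S8426
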