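import Groth.Statements.S8430
import Groth.Agent.MTExt.PreimageSub
import Groth.Agent.MTExt.PowFinite
import Groth.Agent.MTImage.SubTorus
import Groth.Agent.MTImage.CartanImage
import Groth.Agent.S8434
import Groth.Agent.S8437
import Groth.Agent.S4121
import Groth.Agent.S3025

set_option autoImplicit false
universe u
open CategoryTheory MonoidalCategory CartesianMonoidalCategory MonObj GrpObj AlgebraicGeometry
open SGA3x

set_option backward.isDefEq.respectTransparency false
set_option linter.style.haveILetI false
set_option maxHeartbeats 1000000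
set_option synthInstance.maxHeartbeats 400000
open CategoryTheory.Limits
open Groth.Agent.MTBridge (toBC toBC_mul toBC_comp toBC_inj exists_toBC')

namespace Groth.Agent.S8430

/-- Let G, G′ be S-group schemes, smooth and of finite presentation over S, u : G → G′ a homomorphism
which is faithfully flat on every fibre, with Ker u central and G with connected fibres. Then for
every subgroup scheme H′ of G′, smooth and of finite presentation over S and having the same
reductive and nilpotent ranks as G′ at every point (each geometric fibre contains a Cartan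
subgroup), the inverse image H = u⁻¹(H′) is a subgroup scheme of G, smooth and of finite
presentation over S, with the same property relative to G; and H has connected fibres if and only if
H′ does. (The published statement also asserts that H′ ↦ u⁻¹(H′) is a bijection onto the subgroup
schemes of G that are smooth, of finite presentation and have the ranks of G everywhere; this row
states only that u⁻¹(H′) is one of them.) -/
theorem result (S : Scheme.{u}) (G G' : Over S)
    [GrpObj G] [GrpObj G'] [Smooth G.hom] [QuasiCompact G.hom] [QuasiSeparated G.hom]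
    [Smooth G'.hom] [QuasiCompact G'.hom] [QuasiSeparated G'.hom]
    (hconn : ∀ s : S, _root_.IsConnected (G.hom.base ⁻¹' {s}))
    (u : G ⟶ G') [IsMonHom u] (hu : ∀ s : S, Surjective ((Over.pullback (S.fromSpecResidueField s)).map u).left ∧
      Flat ((Over.pullback (S.fromSpecResidueField s)).map u).left)
    (hker : ∀ (X : Over S) (z : X ⟶ G), z ≫ u = 1 → ∀ (X' : Over S) (x : X' ⟶ X) (g : X' ⟶ G),
      (x ≫ z) * g = g * (x ≫ z))
    (H' : Over S) [GrpObj H'] (h' : H' ⟶ G') [IsMonHom h'] [Mono h'] [Smooth H'.hom] [QuasiCompact H'.hom]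
    (hH' : ∀ s : S, ∃ (C' : Over (Spec (CommRingCat.of (AlgebraicClosure (S.residueField s))))) (_ : GrpObj C')
      (c' : C' ⟶ Red.geomFibre s H'), SGA3x.IsCartanOver _ (c' ≫ (Over.pullback (Red.geomPt s)).map h')) :
    Smooth (Limits.pullback h' u).hom ∧ QuasiCompact (Limits.pullback h' u).hom ∧
    (∀ s : S, ∃ (C : Over (Spec (CommRingCat.of (AlgebraicClosure (S.residueField s))))) (_ : GrpObj C)
      (c : C ⟶ Red.geomFibre s (Limits.pullback h' u)),
      SGA3x.IsCartanOver _ (c ≫ (Over.pullback (Red.geomPt s)).map (Limits.pullback.snd h' u))) ∧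
    ((∀ s : S, _root_.IsConnected ((Limits.pullback h' u).hom.base ⁻¹' {s})) ↔
      ∀ s : S, _root_.IsConnected (H'.hom.base ⁻¹' {s})) := by
  -- surjectivity, connected fibres of the target, flatness
  haveI hus : Surjective u.left := by
    refine ⟨fun y => ?_⟩
    let s := G'.hom y
    have hgp : S.fromSpecResidueField s (IsLocalRing.closedPoint (S.residueField s)) = s :=
      S.fromSpecResidueField_apply _ _
    obtain ⟨z, hz, -⟩ := Scheme.Pullback.exists_preimage_pullback (f := G'.hom) (g := S.fromSpecResidueField s)
      y _ hgp.symm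
    obtain ⟨a, ha⟩ := (hu s).1.surj z
    refine ⟨pullback.fst G.hom (S.fromSpecResidueField s) a, ?_⟩
    have h2 : ((Over.pullback (S.fromSpecResidueField s)).map u).left ≫ pullback.fst G'.hom (S.fromSpecResidueField s) =
        pullback.fst G.hom (S.fromSpecResidueField s) ≫ u.left := pullback.lift_fst _ _ _
    rw [← Scheme.Hom.comp_apply, ← h2, Scheme.Hom.comp_apply]
    rw [← hz]
    exact congrArg _ ha
  have hconn' : ∀ s : S, _root_.IsConnected (G'.hom.base ⁻¹' {s}) := fun s => by
    have h : u.left.base '' (G.hom.base ⁻¹' {s}) = G'.hom.base ⁻¹' {s} := by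
      ext y
      constructor
      · rintro ⟨x, hx, rfl⟩
        show G'.hom (u.left x) = s
        rw [← Scheme.Hom.comp_apply, Over.w u]
        exact hx
      · intro hy
        obtain ⟨x, rfl⟩ := u.left.surjective y
        exact ⟨x, by show G.hom x = s; rw [← Over.w u, Scheme.Hom.comp_apply]; exact hy, rfl⟩
    exact h ▸ (hconn s).image _ u.left.continuous.continuousOn
  haveI : IsSeparated G'.hom := (Groth.Agent.S3025.result S G' hconn').1
  haveI : Flat u.left := MTImage.flat_hom u
  obtain ⟨hHg, hsm, hfm⟩ := MTExt.exists_grpObj_pullback h' u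
  haveI := hsm; haveI := hfm
  let H := Limits.pullback h' u
  let w : H ⟶ H' := pullback.fst h' u
  haveI : LocallyOfFinitePresentation u.left := by
    haveI : LocallyOfFinitePresentation (u.left ≫ G'.hom) := by rw [Over.w u]; infer_instance
    exact LimDesc.lfp_of_comp u.left G'.hom
  haveI : QuasiCompact u.left := by
    haveI : QuasiCompact (u.left ≫ G'.hom) := by rw [Over.w u]; infer_instance
    exact QuasiCompact.of_comp u.left G'.hom
  have hsq : IsPullback w.left (pullback.snd h' u).left h'.left u.left :=
    (IsPullback.of_hasPullback h' u).map (Over.forget S)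
  haveI : Flat w.left := MorphismProperty.of_isPullback (P := @Flat) hsq.flip ‹Flat u.left›
  haveI : Surjective w.left := MorphismProperty.of_isPullback (P := @Surjective) hsq.flip ‹Surjective u.left›
  haveI : QuasiCompact w.left := MorphismProperty.of_isPullback (P := @QuasiCompact) hsq.flip ‹QuasiCompact u.left›
  haveI : LocallyOfFinitePresentation w.left :=
    MorphismProperty.of_isPullback (P := @LocallyOfFinitePresentation) hsq.flip ‹LocallyOfFinitePresentation u.left›
  haveI : LocallyOfFinitePresentation H.hom := by rw [← Over.w w]; infer_instance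
  haveI : QuasiCompact H.hom := by rw [← Over.w w]; infer_instance
  haveI : Flat H.hom := by rw [← Over.w w]; infer_instance
  -- the geometric fibres
  have key : ∀ s : S, Smooth (Red.bc (Red.geomPt s) H).hom ∧
      (∃ (C : Over (Spec (CommRingCat.of (AlgebraicClosure (S.residueField s))))) (_ : GrpObj C)
        (c : C ⟶ Red.geomFibre s H),
        SGA3x.IsCartanOver _ (c ≫ (Over.pullback (Red.geomPt s)).map (pullback.snd h' u))) ∧
      (ConnectedSpace (Red.bc (Red.geomPt s) H').left → ConnectedSpace (Red.bc (Red.geomPt s) H).left) := by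
    intro s
    let φ := Red.geomPt s
    let F := Over.pullback φ
    haveI : PreservesLimitsOfShape WalkingCospan F :=
      (Adjunction.rightAdjoint_preservesLimits (Over.mapPullbackAdj φ)).preservesLimitsOfShape
    haveI : Smooth (Red.bc φ G).hom := inferInstanceAs (Smooth (pullback.snd G.hom φ))
    haveI : QuasiCompact (Red.bc φ G).hom := inferInstanceAs (QuasiCompact (pullback.snd G.hom φ))
    haveI : IsSeparated (Red.bc φ G).hom := GrpField.isSeparated_hom _
    haveI : Smooth (Red.bc φ G').hom := inferInstanceAs (Smooth (pullback.snd G'.hom φ))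
    haveI : QuasiCompact (Red.bc φ G').hom := inferInstanceAs (QuasiCompact (pullback.snd G'.hom φ))
    haveI : IsSeparated (Red.bc φ G').hom := GrpField.isSeparated_hom _
    haveI : Smooth (Red.bc φ H').hom := inferInstanceAs (Smooth (pullback.snd H'.hom φ))
    haveI : LocallyOfFiniteType (Red.bc φ H).hom := inferInstanceAs (LocallyOfFiniteType (pullback.snd H.hom φ))
    haveI : QuasiCompact (Red.bc φ H).hom := inferInstanceAs (QuasiCompact (pullback.snd H.hom φ))
    haveI : ConnectedSpace (Red.bc φ G).left := S8425.connectedSpace_geomFibre G s (hconn s)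
    haveI : ConnectedSpace (Red.bc φ G').left := S8425.connectedSpace_geomFibre G' s (hconn' s)
    haveI : Surjective (F.map u).left := S8434.surjective_map φ u
    haveI : Surjective (F.map w).left := S8434.surjective_map φ w
    obtain ⟨C', hC'g, c', hc'⟩ := hH' s
    haveI := hc'.1; haveI := hc'.2.1
    have hG : SGA3x.HasMaxTorusFpqcLocally (Red.bc φ G) := by
      obtain ⟨T, hTg, i, hi⟩ := Groth.Agent.S4121.result _ (Red.bc φ G)
      exact ⟨_, 𝟙 _, inferInstance, inferInstance, MTImage.hcov_of_quasiCompact (𝟙 _),
        Red.bc (𝟙 _) T, inferInstance, (Over.pullback (𝟙 _)).map i, Chev.MaxTorusBC.isMaximalTorus_bc i hi (𝟙 _)⟩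
    have hu' : ∀ t : ↥(Spec (CommRingCat.of (AlgebraicClosure (S.residueField s)))),
        Surjective ((Over.pullback (Red.geomPt t)).map (F.map u)).left := fun t =>
      S8434.surjective_map (Red.geomPt t) (F.map u)
    have hconnF : ∀ t : ↥(Spec (CommRingCat.of (AlgebraicClosure (S.residueField s)))),
        _root_.IsConnected ((Red.bc φ G').hom.base ⁻¹' {t}) := fun t => by
      haveI : Subsingleton ↥(Spec (CommRingCat.of (AlgebraicClosure (S.residueField s)))) :=
        inferInstanceAs (Subsingleton (PrimeSpectrum _))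
      rw [Set.eq_univ_of_forall (s := (Red.bc φ G').hom.base ⁻¹' {t}) fun x => Subsingleton.elim _ _]
      exact isConnected_univ
    -- the given Cartan subgroup as a Cartan subgroup over the field
    have hcC : SGA3x.IsCartan (c' ≫ F.map h') := by
      obtain ⟨-, -, Q, hQg, q, hq, hD⟩ := hc'
      obtain ⟨D, hDg, d, hD', -, hd, -⟩ := Groth.Agent.S4118.result _ (Red.bc φ G') Q q hq
      obtain ⟨a, ha⟩ := (hD.2.2 D d).2 ((hD'.2.2 D d).1 ⟨𝟙 D, Category.id_comp _⟩)
      obtain ⟨b, hb⟩ := (hD'.2.2 C' (c' ≫ F.map h')).2 ((hD.2.2 C' (c' ≫ F.map h')).1 ⟨𝟙 C', Category.id_comp _⟩)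
      haveI := hd.1; haveI := hd.2.1
      let e : D ≅ C' := ⟨a, b, (cancel_mono d).1 (by rw [Category.assoc, hb, ha, Category.id_comp]),
        (cancel_mono (c' ≫ F.map h')).1 (by rw [Category.assoc, ha, hb, Category.id_comp])⟩
      haveI : IsMonHom e.hom := MTSplit.isMonHom_of_comp_mono a (c' ≫ F.map h') d ha
      haveI : IsMonHom (Iso.refl (Red.bc φ G')).hom := inferInstanceAs (IsMonHom (𝟙 _))
      exact MTImage.isCartan_iso e (Iso.refl _) d (c' ≫ F.map h') (by
        show d ≫ 𝟙 _ = a ≫ _
        rw [Category.comp_id]; exact ha.symm) hd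
    obtain ⟨C, hCg, c, v, hc, hvm, hvs, hvf, hCsq⟩ :=
      (Groth.Agent.S8437.result _ (Red.bc φ G) (Red.bc φ G') hG (F.map u) hu' hconnF
        (S8434.central_kernel_bc φ u hker)).2 C' (c' ≫ F.map h') hcC
    obtain ⟨T, hTg, i, hi, hC⟩ := MTImage.exists_torus_of_cartan hG c hc
    haveI := hc.1; haveI := hc.2.1; haveI : Smooth C.hom := hc.2.2.1; haveI := hvm
    haveI := hi.1; haveI := hi.2.1
    haveI : ConnectedSpace C.left := (Groth.Agent.S8407.result _ (Red.bc φ G) T i hi.2.2.1 C c hC).2
    have hHsq : IsPullback (F.map (pullback.fst h' u)) (F.map (pullback.snd h' u)) (F.map h') (F.map u) :=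
      (IsPullback.of_hasPullback h' u).map F
    haveI : Mono (F.map h') := inferInstance
    haveI : Mono (F.map (pullback.snd h' u)) := inferInstance
    let e : C ⟶ Red.bc φ H := hHsq.lift (v ≫ c') c (by rw [Category.assoc]; exact hCsq.w.symm)
    have he : e ≫ F.map (pullback.snd h' u) = c := hHsq.lift_snd _ _ _
    haveI : IsMonHom e := MTSplit.isMonHom_of_comp_mono e (F.map (pullback.snd h' u)) c he
    have hK : ∀ (X : Over (Spec (CommRingCat.of (AlgebraicClosure (S.residueField s))))) (δ : X ⟶ Red.bc φ H),
        δ ≫ F.map w = 1 → ∃ p : X ⟶ C, p ≫ e = δ := by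
      intro X δ hδ
      refine ⟨hCsq.lift (δ ≫ F.map (pullback.snd h' u)) 1 (by
        rw [Category.assoc, ← hHsq.w, ← Category.assoc]
        show (δ ≫ F.map w) ≫ _ = _
        rw [hδ, MonObj.one_comp, MonObj.one_comp]), (cancel_mono (F.map (pullback.snd h' u))).1 ?_⟩
      rw [Category.assoc, he]
      exact hCsq.lift_fst _ _ _
    refine ⟨MTExt.smooth_of_ker_le (F.map w) e hK,
      ⟨C, hCg, e, by
        rw [show e ≫ (Over.pullback φ).map (pullback.snd h' u) = c from he]
        exact ⟨hc.1, hc.2.1, T, hTg, i, hi, hC⟩⟩, fun hconnH' => ?_⟩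
    haveI := hconnH'
    have hmap := MTExt.isPullback_bc φ w
    haveI : Flat (F.map w).left := MorphismProperty.of_isPullback (P := @Flat) hmap ‹Flat w.left›
    haveI : LocallyOfFinitePresentation (F.map w).left :=
      MorphismProperty.of_isPullback (P := @LocallyOfFinitePresentation) hmap ‹LocallyOfFinitePresentation w.left›
    exact MTExt.connected_of_ker_le (F.map w) (F.map w).left.isOpenMap e (hK _)
  refine ⟨S8434.smooth_of_geomFibres H fun s => (key s).1, inferInstance, fun s => (key s).2.1,
    fun hH s => ?_, fun hH' s => ?_⟩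
  · have h : w.left.base '' (H.hom.base ⁻¹' {s}) = H'.hom.base ⁻¹' {s} := by
      ext y
      constructor
      · rintro ⟨x, hx, rfl⟩
        show H'.hom (w.left x) = s
        rw [← Scheme.Hom.comp_apply, Over.w w]
        exact hx
      · intro hy
        obtain ⟨x, rfl⟩ := w.left.surjective y
        exact ⟨x, by show H.hom x = s; rw [← Over.w w, Scheme.Hom.comp_apply]; exact hy, rfl⟩
    exact h ▸ (hH s).image _ w.left.continuous.continuousOn
  exact MTImage.isConnected_fibre_of_geom (H := H)
    (fun t => (key t).2.2 (S8425.connectedSpace_geomFibre H' t (hH' t))) s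

end Groth.Agent.S8430
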