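import Groth.Statements.S8431
import Groth.Agent.SolvDerived.CentExt
import Groth.Agent.LimGrp.Quot

set_option autoImplicit false
universe u
open CategoryTheory MonoidalCategory CartesianMonoidalCategory MonObj GrpObj AlgebraicGeometry
open SGA3x

open CategoryTheory.Limits
open scoped commutatorElement
attribute [local instance] Functor.grpObjObj
set_option backward.isDefEq.respectTransparency false
set_option linter.style.haveILetI false
set_option synthInstance.maxHeartbeats 200000
set_option maxHeartbeats 1000000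

namespace Groth.Agent.S8431

/-- Let G be an algebraic group over a field k and Z a central algebraic subgroup such that G′ = G/Z is
a torus. Then G is commutative. Here q : G → G′ is a homomorphism representing the fppf quotient of
G by Z, and G′ is a k-torus. -/
theorem result (k : Type u) [Field k]
    (G : Over (Spec (CommRingCat.of k))) [GrpObj G] [QuasiCompact G.hom] [LocallyOfFiniteType G.hom]
    (Z : Over (Spec (CommRingCat.of k))) [GrpObj Z] (z : Z ⟶ G) [IsMonHom z] [Mono z]
    (hz : ∀ (X : Over (Spec (CommRingCat.of k))) (x : X ⟶ Z) (g : X ⟶ G), (x ≫ z) * g = g * (x ≫ z))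
    (G' : Over (Spec (CommRingCat.of k))) [GrpObj G'] (q : G ⟶ G') [IsMonHom q] (hq : RedSub.IsQuotient z q) (hT : Red.IsTorus G') :
    ∀ (X : Over (Spec (CommRingCat.of k))) (g h : X ⟶ G), g * h = h * g := by
  intro X g h
  obtain ⟨hqs, hqf, -, hpb⟩ := hq
  haveI := hqs; haveI := hqf
  have hcentral : ∀ (Y : Over (Spec (CommRingCat.of k))) (y : Y ⟶ G), y ≫ q = 1 → ∀ g : Y ⟶ G, y * g = g * y := by
    intro Y y hy g
    obtain ⟨w, hw1, hw2⟩ : ∃ w : Y ⟶ G ⊗ Z, w ≫ fst G Z = 1 ∧ w ≫ ((G ◁ z) ≫ μ[G]) = y :=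
      ⟨hpb.lift (1 : Y ⟶ G) y (by rw [MonObj.one_comp, hy]), hpb.lift_fst _ _ _, hpb.lift_snd _ _ _⟩
    have e : (G ◁ z) ≫ μ[G] = fst G Z * (snd G Z ≫ z) := by
      rw [Hom.mul_def]
      congr 1

    rw [e, MonObj.comp_mul, hw1, _root_.one_mul, ← Category.assoc] at hw2
    rw [← hw2]
    exact hz Y _ g
  let kb := AlgebraicClosure k
  let φ : Spec (CommRingCat.of kb) ⟶ Spec (CommRingCat.of k) := Spec.map (CommRingCat.ofHom (algebraMap k kb))
  let P := Over.pullback φ
  haveI : QuasiCompact (P.obj G).hom := MorphismProperty.pullback_snd _ _ ‹QuasiCompact G.hom›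
  haveI : LocallyOfFiniteType (P.obj G).hom := MorphismProperty.pullback_snd _ _ ‹LocallyOfFiniteType G.hom›
  have hsq := LimGrp.isPullback_map_left q φ
  haveI : Flat (P.map q).left := MorphismProperty.of_isPullback (P := @Flat) hsq ‹_›
  haveI : Surjective (P.map q).left := MorphismProperty.of_isPullback (P := @Surjective) hsq ‹_›
  have hSb : Red.IsTorus (P.obj G') := Chev.isTorus_bc hT φ
  have hcb : ∀ (Y : Over (Spec (CommRingCat.of kb))) (z : Y ⟶ P.obj G), z ≫ P.map q = 1 →
      ∀ g : Y ⟶ P.obj G, z * g = g * z := by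
    intro Y z hz g
    let eE := SubGen.Locus.baseEquiv φ G Y
    let eS := SubGen.Locus.baseEquiv φ G' Y
    obtain ⟨z', rfl⟩ := eE.surjective z
    obtain ⟨g', rfl⟩ := eE.surjective g
    have hnat : eS (z' ≫ q) = eE z' ≫ P.map q := (Over.mapPullbackAdj φ).homEquiv_naturality_right z' q
    have hz' : z' ≫ q = 1 := eS.injective (by rw [hnat, hz, map_one])
    have h := hcentral _ z' hz' g'
    rw [← map_mul, ← map_mul, h]
  have hcore := SolvDerived.comm_of_central_algClosed hSb (P.map q) hcb
  have hmap : P.map (⁅fst G G, snd G G⁆ : G ⊗ G ⟶ G) = 1 := by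
    have h := congrArg (lift (P.map (fst G G)) (P.map (snd G G)) ≫ ·) hcore
    simp only [SubGen.Locus.comp_comm, lift_fst, lift_snd, MonObj.comp_one] at h
    rw [← h, commutatorElement_def, commutatorElement_def, Functor.map_mul, Functor.map_mul, Functor.map_mul,
      Functor.map_inv', Functor.map_inv']
  have hc : (⁅fst G G, snd G G⁆ : G ⊗ G ⟶ G) = 1 :=
    Chev.bcMap_injective kb (hmap.trans (Functor.map_one P).symm)
  have h2 := congrArg (lift g h ≫ ·) hc
  simp only [SubGen.Locus.comp_comm, lift_fst, lift_snd, MonObj.comp_one] at h2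
  exact commutatorElement_eq_one_iff_mul_comm.1 h2

end Groth.Agent.S8431
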