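import Groth.Statements.S8441


set_option autoImplicit false
universe u v w
open SGA3t2b

namespace Groth.Agent.S8441

/-- Let R be a root system with a system of simple roots a₁, …, aₙ and simple reflections rᵢ, and put θᵢ
= rₙ ⋯ rᵢ₊₁(aᵢ). Then the θᵢ form a basis of the group generated by the roots. Stated for a root
pairing over ℤ (Mathlib) with a base whose support is enumerated by Fin n: the θᵢ are ℤ-linearly
independent and their ℤ-span is the ℤ-span of all roots. -/
theorem result {ι : Type u} {M : Type v} {N : Type w} [AddCommGroup M] [Module ℤ M]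
    [AddCommGroup N] [Module ℤ N] (P : RootPairing ι ℤ M N) (b : P.Base) (n : ℕ) (e : Fin n ≃ ↥b.support) :
    LinearIndependent ℤ (fun i : Fin n =>
      ((List.finRange n).filter (fun j => i < j)).foldl (fun x j => P.reflection (e j : ι) x) (P.root (e i : ι))) ∧
    Submodule.span ℤ (Set.range (fun i : Fin n =>
      ((List.finRange n).filter (fun j => i < j)).foldl (fun x j => P.reflection (e j : ι) x) (P.root (e i : ι)))) =
      Submodule.span ℤ (Set.range P.root) := by
  classical
  rename_i iA iM iB iN
  obtain rfl : iM = AddCommGroup.toIntModule M := Subsingleton.elim _ _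
  set a : Fin n → M := fun i => P.root (e i : ι) with ha
  set θ : Fin n → M := fun i =>
      ((List.finRange n).filter (fun j => i < j)).foldl (fun x j => P.reflection (e j : ι) x)
        (P.root (e i : ι)) with hθ
  have key : ∀ i, θ i - a i ∈ Submodule.span ℤ (a '' {j | i < j}) := by
    intro i
    have aux : ∀ (l : List (Fin n)), (∀ j ∈ l, i < j) → ∀ x : M,
        l.foldl (fun x j => P.reflection (e j : ι) x) x - x ∈
          Submodule.span ℤ (a '' {j | i < j}) := by
      intro l
      induction l with
      | nil => intro _ x; simp
      | cons j l ih =>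
        intro hl x
        rw [List.foldl_cons]
        have h1 := ih (fun m hm => hl m (List.mem_cons_of_mem _ hm)) (P.reflection (e j : ι) x)
        have h2 : P.reflection (e j : ι) x - x ∈ Submodule.span ℤ (a '' {j | i < j}) := by
          rw [P.reflection_apply, sub_sub_cancel_left]
          exact Submodule.neg_mem _ (Submodule.smul_mem _ _
            (Submodule.subset_span ⟨j, hl j List.mem_cons_self, rfl⟩))
        simpa using Submodule.add_mem _ h1 h2
    exact aux _ (fun j hj => by simpa using (List.mem_filter.mp hj).2) _
  have hspan : Submodule.span ℤ (Set.range θ) = Submodule.span ℤ (Set.range a) := by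
    refine le_antisymm (Submodule.span_le.mpr ?_) (Submodule.span_le.mpr ?_)
    · rintro _ ⟨i, rfl⟩
      have h1 : θ i - a i ∈ Submodule.span ℤ (Set.range a) :=
        Submodule.span_mono (Set.image_subset_range _ _) (key i)
      simpa using Submodule.add_mem _ h1 (Submodule.subset_span (Set.mem_range_self i))
    · rintro _ ⟨i, rfl⟩
      suffices ∀ m : ℕ, ∀ i : Fin n, n - (i : ℕ) ≤ m → a i ∈ Submodule.span ℤ (Set.range θ) from
        this _ i le_rfl
      intro m
      induction m with
      | zero => intro i hi; omega
      | succ m ih =>
        intro i hi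
        have h1 : θ i - a i ∈ Submodule.span ℤ (Set.range θ) := by
          refine Submodule.span_le.mpr ?_ (key i)
          rintro _ ⟨j, hj, rfl⟩
          exact ih j (by have : (i : ℕ) < j := hj; omega)
        simpa using Submodule.sub_mem _ (Submodule.subset_span (Set.mem_range_self i)) h1
  have hra : Set.range a = P.root '' b.support := by
    ext x
    constructor
    · rintro ⟨i, rfl⟩; exact ⟨_, (e i).2, rfl⟩
    · rintro ⟨m, hm, rfl⟩; exact ⟨e.symm ⟨m, hm⟩, by simp [ha]⟩
  refine ⟨?_, by rw [hspan, hra, b.span_int_root_support]⟩
  have hli : LinearIndependent ℤ a := b.linearIndepOn_root.comp e e.injective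
  let B := (Module.Basis.span hli).equivFun
  let f : (Fin n → ℤ) →ₗ[ℤ] Submodule.span ℤ (Set.range a) :=
    (Fintype.linearCombination ℤ θ).codRestrict _ fun c => by
      rw [← hspan]
      exact (Fintype.range_linearCombination ℤ θ).le (LinearMap.mem_range_self _ c)
  have hf : Function.Surjective f := by
    rintro ⟨x, hx⟩
    rw [← hspan, ← Fintype.range_linearCombination ℤ θ] at hx
    obtain ⟨c, hc⟩ := hx
    exact ⟨c, Subtype.ext hc⟩
  have hinj : Function.Injective (B.toLinearMap ∘ₗ f) :=
    OrzechProperty.injective_of_surjective_endomorphism _ (B.surjective.comp hf)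
  rw [Fintype.linearIndependent_iff]
  intro c hc
  have h0 : f c = 0 := Subtype.ext (by simpa [f, Fintype.linearCombination_apply] using hc)
  have := hinj (a₁ := c) (a₂ := 0) (by simp [h0])
  exact congrFun this

end Groth.Agent.S8441
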