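import Groth.Statements.S8443
import Groth.Agent.MTImage.SubTorus
import Groth.Agent.MTImage.CartanImage
import Groth.Agent.S3025
import Groth.Agent.S5324
-- import your own Groth.Agent.* helpers here

set_option autoImplicit false
universe u
open CategoryTheory MonoidalCategory CartesianMonoidalCategory MonObj GrpObj AlgebraicGeometry
open SGA3x CategoryTheory.Limits

set_option backward.isDefEq.respectTransparency false

namespace Groth.Agent.S8443

/-- Let G be an S-group scheme, smooth and of finite presentation over S with connected fibres, and i :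
H → G a monomorphism of S-groups with H smooth over S whose geometric fibres are connected and
contain a Cartan subgroup of the corresponding geometric fibre of G. If G admits a maximal torus
locally for the etale topology (resp. for the fpqc topology), then so does H. (The published item
also covers Cartan subgroups; this row states only the maximal-torus halves.) -/
theorem result (S : Scheme.{u}) (G : Over S) [GrpObj G]
    [Smooth G.hom] [QuasiCompact G.hom] [QuasiSeparated G.hom] (hconn : ∀ s : S, _root_.IsConnected (G.hom.base ⁻¹' {s}))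
    (H : Over S) [GrpObj H] [Smooth H.hom] (i : H ⟶ G) [IsMonHom i] [Mono i]
    (hHconn : ∀ s : S, ConnectedSpace ↥(Red.geomFibre s H).left)
    (hHC : ∀ s : S, ∃ (C' : Over (Spec (CommRingCat.of (AlgebraicClosure (S.residueField s))))) (_ : GrpObj C')
      (c' : C' ⟶ Red.geomFibre s H), SGA3x.IsCartanOver _ (c' ≫ (Over.pullback (Red.geomPt s)).map i)) :
    (SGA3x.HasMaxTorusEtaleLocally G → SGA3x.HasMaxTorusEtaleLocally H) ∧
    (SGA3x.HasMaxTorusFpqcLocally G → SGA3x.HasMaxTorusFpqcLocally H) := by
  obtain ⟨hsep, -⟩ := Groth.Agent.S3025.result S G hconn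
  haveI := hsep
  have hHf := MTImage.isConnected_fibre_of_geom hHconn
  haveI : QuasiCompact H.hom := Groth.Agent.S5324.result S H
    (fun s => inferInstanceAs (LocallyOfFiniteType (pullback.snd H.hom (S.fromSpecResidueField s)))) hHf
  haveI : IsSeparated H.hom := (Groth.Agent.S3025.result S H hHf).1
  have hgeo := MTImage.geomTorusIn_of_cartan i hHC
  have key : SGA3x.HasMaxTorusEtaleLocally G → SGA3x.HasMaxTorusEtaleLocally H := by
    rintro ⟨S', f, hf, hfs, T, hTg, t, ht⟩
    haveI := hf; haveI := hfs; haveI := ht.1; haveI := ht.2.1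
    haveI : PreservesLimitsOfShape WalkingCospan (Over.pullback f) :=
      (Adjunction.rightAdjoint_preservesLimits (Over.mapPullbackAdj f)).preservesLimitsOfShape
    haveI : Smooth (Red.bc f G).hom := inferInstanceAs (Smooth (pullback.snd G.hom f))
    haveI : IsSeparated (Red.bc f G).hom := inferInstanceAs (IsSeparated (pullback.snd G.hom f))
    haveI : QuasiCompact (Red.bc f G).hom := inferInstanceAs (QuasiCompact (pullback.snd G.hom f))
    haveI : Smooth (Red.bc f H).hom := inferInstanceAs (Smooth (pullback.snd H.hom f))
    haveI : QuasiCompact (Red.bc f H).hom := inferInstanceAs (QuasiCompact (pullback.snd H.hom f))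
    obtain ⟨V, g, hg, hgs, z, hz⟩ := MTImage.exists_subTorus_etale ((Over.pullback f).map i)
      (MTImage.geomTorusIn_bc i hgeo f) t ht
    haveI := hg; haveI := hgs
    haveI : PreservesLimitsOfShape WalkingCospan (Over.pullback g) :=
      (Adjunction.rightAdjoint_preservesLimits (Over.mapPullbackAdj g)).preservesLimitsOfShape
    haveI : LocallyOfFiniteType (Red.bc g (Red.bc f H)).hom :=
      inferInstanceAs (LocallyOfFiniteType (pullback.snd (Red.bc f H).hom g))
    haveI : QuasiCompact (Red.bc g (Red.bc f H)).hom :=
      inferInstanceAs (QuasiCompact (pullback.snd (Red.bc f H).hom g))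
    haveI : Mono ((Over.pullback g).map ((Over.pullback f).map i)) := inferInstance
    haveI := hz.1
    haveI : IsMonHom z := MTSplit.isMonHom_of_comp_mono z ((Over.pullback g).map ((Over.pullback f).map i)) _ rfl
    haveI : Mono z := by haveI := hz.2.1; exact mono_of_mono z ((Over.pullback g).map ((Over.pullback f).map i))
    have hz' := MTImage.isMaximalTorus_of_comp z _ hz
    obtain ⟨e, -, he⟩ := Chev.MaxTorusBC.exists_trIso (show g ≫ f = g ≫ f from rfl) H
    haveI : IsMonHom e.hom := he
    haveI : IsMonHom e.symm.hom := inferInstanceAs (IsMonHom e.inv)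
    haveI : IsMonHom (Iso.refl (Red.bc g T)).hom := inferInstanceAs (IsMonHom (𝟙 (Red.bc g T)))
    exact ⟨V, g ≫ f, inferInstance, inferInstance, _, inferInstance, z ≫ e.inv,
      MTImage.isMaximalTorus_iso (Iso.refl _) e.symm z _ (by rw [Iso.refl_hom, Category.id_comp]; rfl)
        (Chev.Borel.isTorus_bc_scheme T g ht.2.2.1) hz'⟩
  exact ⟨key, fun h => MTImage.fpqcLocally_of_etaleLocally (key (MTImage.etaleLocally_of_fpqcLocally h))⟩

end Groth.Agent.S8443
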