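import Groth.Statements.S8445
import Groth.Agent.RedR1.RootHom
import Groth.Agent.RedR1.TorusCover

set_option autoImplicit false
universe u
open CategoryTheory MonoidalCategory CartesianMonoidalCategory MonObj GrpObj AlgebraicGeometry CategoryTheory.Limits
open Red

namespace Groth.Agent.S8445

/-- Let G be an S-group scheme, i : T ⟶ G a torus of G, j : Q ⟶ T a subtorus, α a character of T whose
restriction to Q is non-trivial on every geometric fibre, and p₊, p₋ : 𝔾_a ⟶ G homomorphisms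
normalised by T with multipliers α and α⁻¹ (i(t) p₊(x) i(t)⁻¹ = p₊(α(t) x), i(t) p₋(y) i(t)⁻¹ =
p₋(α(t)⁻¹ y)) such that the morphism 𝔾_a ×_S T ×_S 𝔾_a ⟶ G, (y, t, x) ↦ p₋(y) i(t) p₊(x), is an open
immersion. Let q ≥ 0 and let p : 𝔾_a ⟶ G be a homomorphism such that conjugating p(x) q times by
i(j(t)) gives p(α(t) x), for all points t of Q and x of 𝔾_a. Then there is exactly one S-point ν of
𝔾_a such that p(x) = p₊(ν x^q) for every point x of 𝔾_a with values in any S-scheme. -/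
theorem result (S : Scheme.{u}) (G T : Over S) [GrpObj G] [GrpObj T] (i : T ⟶ G) [IsMonHom i] [Mono i] (hT : Red.IsTorus T)
    (Q : Over S) [GrpObj Q] (j : Q ⟶ T) [IsMonHom j] [Mono j] (hQ : Red.IsTorus Q)
    (α : T ⟶ Red.Gm S) [IsMonHom α] (hα : ∀ s : S, (Over.pullback (Red.geomPt s)).map (j ≫ α) ≠ 1)
    (pp pm : Red.Ga S ⟶ G) [IsMonHom pp] [IsMonHom pm]
    (hpp : ∀ (X : Over S) (t : X ⟶ T) (x : X ⟶ Red.Ga S), ∃ x' : X ⟶ Red.Ga S,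
      x' ≫ pp = (t ≫ i) * (x ≫ pp) * (t ≫ i)⁻¹ ∧ Red.gaFn x' = Red.gmFn (t ≫ α) * Red.gaFn x)
    (hpm : ∀ (X : Over S) (t : X ⟶ T) (y : X ⟶ Red.Ga S), ∃ y' : X ⟶ Red.Ga S,
      y' ≫ pm = (t ≫ i) * (y ≫ pm) * (t ≫ i)⁻¹ ∧ Red.gaFn y' * Red.gmFn (t ≫ α) = Red.gaFn y)
    (hΩ : IsOpenImmersion (((pm ⊗ₘ i) ⊗ₘ pp) ≫ (μ[G] ▷ G) ≫ μ[G]).left) (q : ℕ) (p : Red.Ga S ⟶ G) [IsMonHom p]
    (hp : ∀ (X : Over S) (t : X ⟶ Q) (x x' : X ⟶ Red.Ga S), Red.gaFn x' = Red.gmFn (t ≫ j ≫ α) * Red.gaFn x →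
      x' ≫ p = ((t ≫ j ≫ i) ^ q) * (x ≫ p) * ((t ≫ j ≫ i) ^ q)⁻¹) :
    ∃! ν : 𝟙_ (Over S) ⟶ Red.Ga S, ∀ (X : Over S) (x y : X ⟶ Red.Ga S),
      Red.gaFn y = Red.gaFn (toUnit X ≫ ν) * Red.gaFn x ^ q → x ≫ p = y ≫ pp := by
  haveI : IsOpenImmersion (RedR1.cellMap i pp pm).left := hΩ
  have hP : RedR1.NormP i α pp := hpp
  have hM : RedR1.NormM i α pm := hpm
  have hw : RedR1.WeightCover i α p q := fun X m hm => by
    obtain ⟨X', f, t, hf, hs, hu⟩ := RedR1.exists_torus_char_cover Q hQ (j ≫ α) hα X hm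
    refine ⟨X', f, GmPts.unitOfPt (t ≫ j ≫ α), (t ≫ j) ^ q, hf, hs, hu, ?_, fun X'' g a => ?_⟩
    · have e : ((t ≫ j) ^ q) ≫ α = (t ≫ j ≫ α) ^ q := by
        rw [← Category.assoc t j α]; exact MonObj.pow_comp _ _ α
      change GmPts.unitOfPt (((t ≫ j) ^ q) ≫ α) = _
      rw [e]
      exact map_pow (GmPts.equiv X') _ q
    · have e : (g ≫ (t ≫ j) ^ q) ≫ i = ((g ≫ t) ≫ j ≫ i) ^ q := by
        rw [MonObj.comp_pow, MonObj.pow_comp]; simp only [Category.assoc]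
      rw [e, ← hp X'' (g ≫ t) (BGaNotS.gaPt a) (BGaNotS.gaPt (g.left.appTop (Red.gmFn (t ≫ j ≫ α)) * a)) (by
        rw [BGaNotS.gaFn_gaPt, BGaNotS.gaFn_gaPt, Category.assoc, GmPts.gmFn_comp g])]
      rfl
  obtain ⟨c, hc⟩ := RedR1.eq_power hP hM hT hw
  refine ⟨BGaNotS.gaPt c, fun X x y hy => ?_, fun ν hν => ?_⟩
  · rw [← RedR1.gaPt_gaFn x, hc, ← BGaNotS.gaFn_gaPt (W := 𝟙_ (Over S)) c, ← BGaNotS.gaFn_comp, ← hy,
      RedR1.gaPt_gaFn]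
  · have hid : toUnit (𝟙_ (Over S)) = 𝟙 _ := toUnit_unique _ _
    have h1 := hν (𝟙_ (Over S)) (BGaNotS.gaPt 1) ν
      (by rw [BGaNotS.gaFn_gaPt, one_pow, _root_.mul_one, hid, Category.id_comp])
    rw [hc, one_pow, _root_.mul_one, hid] at h1
    simp only [Over.id_left, Scheme.Hom.id_appTop, CommRingCat.id_apply] at h1
    have h2 : ((1 : 𝟙_ (Over S) ⟶ Red.Ga S) ≫ pm) * ((1 : 𝟙_ (Over S) ⟶ T) ≫ i) * (ν ≫ pp) =
        ((1 : 𝟙_ (Over S) ⟶ Red.Ga S) ≫ pm) * ((1 : 𝟙_ (Over S) ⟶ T) ≫ i) * (BGaNotS.gaPt c ≫ pp) := by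
      rw [h1]
    exact (RedR1.cell_inj h2).2.2

end Groth.Agent.S8445
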