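import Groth.Statements.S8447
import Groth.Agent.RedR1.Gen

set_option autoImplicit false
universe u
open CategoryTheory MonoidalCategory CartesianMonoidalCategory MonObj GrpObj AlgebraicGeometry CategoryTheory.Limits
open Red

namespace Groth.Agent.S8447

/-- Let G be a reductive S-group, i : T ⟶ G a maximal torus, α a character of T non-trivial on every
geometric fibre, and p₊, p₋ : 𝔾_a ⟶ G monomorphisms of groups normalised by T with multipliers α and
α⁻¹ such that 𝔾_a ×_S T ×_S 𝔾_a ⟶ G, (y, t, x) ↦ p₋(y) i(t) p₊(x), is an open immersion (a rank-one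
system: G has semisimple rank 1 and p₊, p₋ trivialise the root groups of α and -α). Then the centre
of G is Ker α: a point g of G with values in an S-scheme X commutes with all points of G after every
base change X' ⟶ X if and only if g = i(t) for some X-point t of T with α(t) = 1. (In particular the
centre is a closed subgroup of multiplicative type; only the equality of points is stated.) -/
theorem result (S : Scheme.{u}) (G T : Over S) [GrpObj G] [GrpObj T] (i : T ⟶ G) [IsMonHom i] [Mono i] (hG : Red.IsReductive G) (hTm : Red.IsMaximalTorus i)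
    (α : T ⟶ Red.Gm S) [IsMonHom α] (hα : ∀ s : S, (Over.pullback (Red.geomPt s)).map α ≠ 1)
    (pp pm : Red.Ga S ⟶ G) [IsMonHom pp] [Mono pp] [IsMonHom pm] [Mono pm]
    (hpp : ∀ (X : Over S) (t : X ⟶ T) (x : X ⟶ Red.Ga S), ∃ x' : X ⟶ Red.Ga S,
      x' ≫ pp = (t ≫ i) * (x ≫ pp) * (t ≫ i)⁻¹ ∧ Red.gaFn x' = Red.gmFn (t ≫ α) * Red.gaFn x)
    (hpm : ∀ (X : Over S) (t : X ⟶ T) (y : X ⟶ Red.Ga S), ∃ y' : X ⟶ Red.Ga S,
      y' ≫ pm = (t ≫ i) * (y ≫ pm) * (t ≫ i)⁻¹ ∧ Red.gaFn y' * Red.gmFn (t ≫ α) = Red.gaFn y)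
    (hΩ : IsOpenImmersion (((pm ⊗ₘ i) ⊗ₘ pp) ≫ (μ[G] ▷ G) ≫ μ[G]).left) (X : Over S) (g : X ⟶ G) :
    (∀ (X' : Over S) (x : X' ⟶ X) (k : X' ⟶ G), (x ≫ g) * k = k * (x ≫ g)) ↔
      ∃ t : X ⟶ T, t ≫ i = g ∧ t ≫ α = 1 := by
  haveI : IsOpenImmersion (RedR1.cellMap i pp pm).left := hΩ
  have hT : Red.IsTorus T := hTm.2.2.1
  have hP : RedR1.NormP i α pp := hpp
  have hM : RedR1.NormM i α pm := hpm
  constructor
  · intro hg
    have hg' : ∀ (X' : Over S) (f : X' ⟶ X) (k : X' ⟶ G), Commute (f ≫ g) k := hg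
    obtain ⟨X₁, f, c, hf, hs, -, hc, hd⟩ := RedR1.exists_translate (i := i) (pp := pp) (pm := pm) hG ![g]
    obtain ⟨y, t, x, hc⟩ := hc
    obtain ⟨y', t', x', hd⟩ := hd 0
    have hcell : RedR1.InCell i pp pm g := by
      apply RedR1.InCell.of_comp f
      have e : f ≫ g = (t⁻¹ ≫ i) * ((y⁻¹ * y') ≫ pm) * (t' ≫ i) * ((x' * x⁻¹) ≫ pp) := by
        have h1 : (x ≫ pp) * (f ≫ g) * (x ≫ pp)⁻¹ = f ≫ g := by
          rw [← (hg' X₁ f (x ≫ pp)).eq, mul_inv_cancel_right]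
        have h2 : (![g] : Fin 1 → (X ⟶ G)) 0 = g := rfl
        rw [h2] at hd
        rw [← h1, show f ≫ g = c⁻¹ * (c * (f ≫ g)) by group, hd, hc, GrpObj.inv_comp, MonObj.mul_comp,
          MonObj.mul_comp, GrpObj.inv_comp, GrpObj.inv_comp]
        group
      have e2 := hM.apply t⁻¹ (Red.gaFn (y⁻¹ * y'))
      rw [RedR1.gaPt_gaFn] at e2
      refine ⟨BGaNotS.gaPt ((↑(RedR1.Sys.rt α t⁻¹)⁻¹ : Γ(X₁.left, ⊤)) * Red.gaFn (y⁻¹ * y')), t⁻¹ * t', x' * x⁻¹, ?_⟩
      rw [e, MonObj.mul_comp t⁻¹ t' i, ← e2]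
      group
    obtain ⟨y, t, x, hgc⟩ := hcell
    obtain ⟨X', f, s, hf, hs, -, hu⟩ := RedR1.exists_char_cover (i := i) (pp := pp) (pm := pm) hG hα X Nat.one_pos
    haveI := RedR1.epi_of_flat_surjective f
    rw [pow_one] at hu
    have hfix : (s ≫ i) * (f ≫ g) = (f ≫ g) * (s ≫ i) := (hg' X' f _).eq.symm
    rw [hgc, MonObj.comp_mul, MonObj.comp_mul, ← Category.assoc, ← Category.assoc, ← Category.assoc] at hfix
    obtain ⟨h1, h2⟩ := RedR1.torus_of_fixed hP hM hT s (f ≫ t) (f ≫ y) (f ≫ x) hu hfix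
    rw [← MonObj.comp_one f, cancel_epi] at h1 h2
    have hgt : t ≫ i = g := by rw [hgc, h1, h2, MonObj.one_comp, MonObj.one_comp, _root_.one_mul, _root_.mul_one]
    refine ⟨t, hgt, GmPts.gmFn_injective ?_⟩
    have h3 := hP.apply t 1
    rw [_root_.mul_one, hgt, ← Category.id_comp g, (hg' X (𝟙 X) _).eq, mul_inv_cancel_right] at h3
    have h4 := congrArg Red.gaFn ((cancel_mono pp).1 h3)
    rw [BGaNotS.gaFn_gaPt, BGaNotS.gaFn_gaPt] at h4
    exact h4.symm.trans (GmPts.gmFn_one).symm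
  · rintro ⟨t, rfl, ht⟩ X' f k
    refine RedR1.commute_of_cell (i := i) (pp := pp) (pm := pm) hG _ k fun X'' f' c hc => ?_
    obtain ⟨y, s, x, rfl⟩ := hc
    have hrt : RedR1.Sys.rt α (f' ≫ f ≫ t) = 1 := by
      change GmPts.unitOfPt ((f' ≫ f ≫ t) ≫ α) = 1
      rw [Category.assoc, Category.assoc, ht, MonObj.comp_one, MonObj.comp_one, GmPts.unitOfPt_one]
    have h5 := RedR1.conj_cell hP hM hT (f' ≫ f ≫ t) s (Red.gaFn y) (Red.gaFn x)
    rw [hrt, inv_one, Units.val_one, _root_.one_mul, _root_.one_mul, RedR1.gaPt_gaFn, RedR1.gaPt_gaFn] at h5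
    rw [Category.assoc, Category.assoc] at h5
    exact mul_inv_eq_iff_eq_mul.1 h5

end Groth.Agent.S8447
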