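import Groth.Statements.S8452
import Groth.Agent.RedR1.Recover
import Groth.Agent.RedR1.Weyl
import Groth.Agent.S8478

set_option autoImplicit false
universe u
open CategoryTheory MonoidalCategory CartesianMonoidalCategory MonObj GrpObj AlgebraicGeometry CategoryTheory.Limits
open Red

namespace Groth.Agent.S8452

/-- Let (G, T, α, p₊, p₋, α^*) and (G', T', α', p'₊, p'₋, α'^*) be two rank-one systems over S: G
reductive, i : T ⟶ G a maximal torus, α a character of T non-trivial on every geometric fibre, p₊,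
p₋ : 𝔾_a ⟶ G monomorphisms normalised by T with multipliers α, α⁻¹ whose cell map (y, t, x) ↦ p₋(y)
i(t) p₊(x) is an open immersion, α^* : 𝔾_m ⟶ T with α ∘ α^* the squaring map and p₊(x) p₋(y) =
p₋(y/(1+xy)) · i(α^*(1+xy)) · p₊(x/(1+xy)) whenever 1 + xy is invertible; likewise for the primed
data. Let q > 0 be an integer such that x ↦ x^q is additive on all functions of S-schemes. For a
homomorphism f : G ⟶ G' the following are equivalent: (i) f restricted to T factors through a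
homomorphism f_T : T ⟶ T' with α' ∘ f_T = α^q and f_T ∘ α^* = (α'^*)^q; (ii) there is an S-point c
of 𝔾_m (it is then unique) with f(p₊(x)) = p'₊(c x^q) and f(p₋(y)) = p'₋(c⁻¹ y^q) for all points x,
y of 𝔾_a. -/
theorem result (S : Scheme.{u}) (G T : Over S) [GrpObj G] [GrpObj T] (i : T ⟶ G) [IsMonHom i] [Mono i] (hG : Red.IsReductive G) (hTm : Red.IsMaximalTorus i)
    (α : T ⟶ Red.Gm S) [IsMonHom α] (hα : ∀ s : S, (Over.pullback (Red.geomPt s)).map α ≠ 1)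
    (pp pm : Red.Ga S ⟶ G) [IsMonHom pp] [Mono pp] [IsMonHom pm] [Mono pm]
    (hpp : ∀ (X : Over S) (t : X ⟶ T) (x : X ⟶ Red.Ga S), ∃ x' : X ⟶ Red.Ga S,
      x' ≫ pp = (t ≫ i) * (x ≫ pp) * (t ≫ i)⁻¹ ∧ Red.gaFn x' = Red.gmFn (t ≫ α) * Red.gaFn x)
    (hpm : ∀ (X : Over S) (t : X ⟶ T) (y : X ⟶ Red.Ga S), ∃ y' : X ⟶ Red.Ga S,
      y' ≫ pm = (t ≫ i) * (y ≫ pm) * (t ≫ i)⁻¹ ∧ Red.gaFn y' * Red.gmFn (t ≫ α) = Red.gaFn y)
    (hΩ : IsOpenImmersion (((pm ⊗ₘ i) ⊗ₘ pp) ≫ (μ[G] ▷ G) ≫ μ[G]).left)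
    (av : Red.Gm S ⟶ T) [IsMonHom av] (h2 : av ≫ α = (𝟙 (Red.Gm S)) ^ 2)
    (hF : ∀ (X : Over S) (x y : X ⟶ Red.Ga S), IsUnit (1 + Red.gaFn x * Red.gaFn y) →
      ∃ (x' y' : X ⟶ Red.Ga S) (z : X ⟶ Red.Gm S), Red.gmFn z = 1 + Red.gaFn x * Red.gaFn y ∧
        Red.gaFn x' * Red.gmFn z = Red.gaFn x ∧ Red.gaFn y' * Red.gmFn z = Red.gaFn y ∧
        (x ≫ pp) * (y ≫ pm) = (y' ≫ pm) * (z ≫ av ≫ i) * (x' ≫ pp))
    (G' T' : Over S) [GrpObj G'] [GrpObj T'] (i' : T' ⟶ G') [IsMonHom i'] [Mono i'] (hG' : Red.IsReductive G') (hTm' : Red.IsMaximalTorus i')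
    (α' : T' ⟶ Red.Gm S) [IsMonHom α'] (hα' : ∀ s : S, (Over.pullback (Red.geomPt s)).map α' ≠ 1)
    (pp' pm' : Red.Ga S ⟶ G') [IsMonHom pp'] [Mono pp'] [IsMonHom pm'] [Mono pm']
    (hpp' : ∀ (X : Over S) (t : X ⟶ T') (x : X ⟶ Red.Ga S), ∃ x' : X ⟶ Red.Ga S,
      x' ≫ pp' = (t ≫ i') * (x ≫ pp') * (t ≫ i')⁻¹ ∧ Red.gaFn x' = Red.gmFn (t ≫ α') * Red.gaFn x)
    (hpm' : ∀ (X : Over S) (t : X ⟶ T') (y : X ⟶ Red.Ga S), ∃ y' : X ⟶ Red.Ga S,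
      y' ≫ pm' = (t ≫ i') * (y ≫ pm') * (t ≫ i')⁻¹ ∧ Red.gaFn y' * Red.gmFn (t ≫ α') = Red.gaFn y)
    (hΩ' : IsOpenImmersion (((pm' ⊗ₘ i') ⊗ₘ pp') ≫ (μ[G'] ▷ G') ≫ μ[G']).left)
    (av' : Red.Gm S ⟶ T') [IsMonHom av'] (h2' : av' ≫ α' = (𝟙 (Red.Gm S)) ^ 2)
    (hF' : ∀ (X : Over S) (x y : X ⟶ Red.Ga S), IsUnit (1 + Red.gaFn x * Red.gaFn y) →
      ∃ (x' y' : X ⟶ Red.Ga S) (z : X ⟶ Red.Gm S), Red.gmFn z = 1 + Red.gaFn x * Red.gaFn y ∧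
        Red.gaFn x' * Red.gmFn z = Red.gaFn x ∧ Red.gaFn y' * Red.gmFn z = Red.gaFn y ∧
        (x ≫ pp') * (y ≫ pm') = (y' ≫ pm') * (z ≫ av' ≫ i') * (x' ≫ pp'))
    (q : ℕ) (hq0 : 0 < q) (hq : ∀ (X : Over S) (a b : Γ(X.left, ⊤)), (a + b) ^ q = a ^ q + b ^ q) (f : G ⟶ G') [IsMonHom f] :
    (∃ fT : T ⟶ T', IsMonHom fT ∧ i ≫ f = fT ≫ i' ∧ fT ≫ α' = α ^ q ∧ av ≫ fT = av' ^ q) ↔
      ∃! c : 𝟙_ (Over S) ⟶ Red.Gm S,
        (∀ (X : Over S) (x y : X ⟶ Red.Ga S), Red.gaFn y = Red.gmFn (toUnit X ≫ c) * Red.gaFn x ^ q →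
          (x ≫ pp) ≫ f = y ≫ pp') ∧
        (∀ (X : Over S) (x y : X ⟶ Red.Ga S), Red.gaFn y * Red.gmFn (toUnit X ≫ c) = Red.gaFn x ^ q →
          (x ≫ pm) ≫ f = y ≫ pm') := by
  let s : RedR1.Sys i α pp pm av :=
    ⟨inferInstance, inferInstance, inferInstance, inferInstance, inferInstance, h2, hpp, hpm, hF⟩
  let s' : RedR1.Sys i' α' pp' pm' av' :=
    ⟨inferInstance, inferInstance, inferInstance, inferInstance, inferInstance, h2', hpp', hpm', hF'⟩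
  haveI : IsOpenImmersion (RedR1.cellMap i' pp' pm').left := hΩ'
  have hinj : ∀ (X : Over S) (a b : Γ(X.left, ⊤)), (s'.calc' X).P a = (s'.calc' X).P b → a = b := fun X a b h => by
    have h' := congrArg Red.gaFn ((cancel_mono pp').1 h)
    rwa [BGaNotS.gaFn_gaPt, BGaNotS.gaFn_gaPt] at h'
  constructor
  · rintro ⟨fT, hfT, hi, -, hav⟩
    have hH : ∀ (X : Over S) (v : (Γ(X.left, ⊤))ˣ), (s.calc' X).H v ≫ f = (s'.calc' X).H (v ^ q) := fun X v => by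
      have h1 : (((GmPts.ptOfUnit v : X ⟶ Red.Gm S) ≫ av') ^ (q : ℤ)) ≫ i' = (s'.calc' X).H (v ^ q) := by
        rw [s'.zpow_eq_H, GmPts.unitOfPt_ptOfUnit, zpow_natCast]
      rw [← h1, zpow_natCast, ← MonObj.comp_pow, ← hav]
      change (((GmPts.ptOfUnit v : X ⟶ Red.Gm S) ≫ av) ≫ i) ≫ f = _
      simp only [Category.assoc, hi]
    obtain ⟨c₀, ⟨u, hu⟩, hc⟩ := RedR1.Sys.image_P s s' f hq0 hq hH hG' hTm'.2.2.1 (𝟙_ (Over S))
    let c : 𝟙_ (Over S) ⟶ Red.Gm S := GmPts.ptOfUnit u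
    have hP : ∀ (X : Over S) (a : Γ(X.left, ⊤)),
        (s.calc' X).P a ≫ f = (s'.calc' X).P (Red.gmFn (toUnit X ≫ c) * a ^ q) := fun X a => by
      obtain ⟨c', -, hc'⟩ := RedR1.Sys.image_P s s' f hq0 hq hH hG' hTm'.2.2.1 X
      rw [hc']
      congr 2
      refine hinj X _ _ ?_
      have h1 := congrArg (toUnit X ≫ ·) (hc 1)
      rw [one_pow, _root_.mul_one, s'.comp_P, ← Category.assoc, s.comp_P, map_one, hc', one_pow,
        _root_.mul_one] at h1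
      rw [h1, GmPts.gmFn_comp, GmPts.gmFn_ptOfUnit, hu]
    have hP' : ∀ (X : Over S) (x y : X ⟶ Red.Ga S), Red.gaFn y = Red.gmFn (toUnit X ≫ c) * Red.gaFn x ^ q →
        (x ≫ pp) ≫ f = y ≫ pp' := fun X x y h => by
      rw [s.calc'_P x rfl, s'.calc'_P y h, hP]
    refine ⟨c, ⟨hP', ((S8478.result S G T i hG hTm α hα pp pm hpp hpm hΩ av h2 hF G' T' i' hG' hTm' α' hα' pp' pm'
      hpp' hpm' hΩ' av' h2' hF' q hq0 hq c f hP').out 0 2).1 fun X z => ?_⟩, ?_⟩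
    · rw [Category.assoc, Category.assoc, hi, reassoc_of% hav, ← Category.assoc, MonObj.comp_pow]
    · rintro c' ⟨h1, -⟩
      refine GmPts.gmFn_injective (hinj _ _ _ ?_)
      have e : ∀ d : 𝟙_ (Over S) ⟶ Red.Gm S, Red.gmFn d = Red.gmFn (toUnit (𝟙_ (Over S)) ≫ d) :=
        fun d => by rw [toUnit_unique (toUnit _) (𝟙 _), Category.id_comp]
      have h2 := h1 _ (BGaNotS.gaPt 1) (BGaNotS.gaPt (Red.gmFn c'))
        (by rw [BGaNotS.gaFn_gaPt, BGaNotS.gaFn_gaPt, one_pow, _root_.mul_one, ← e])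
      have h3 := hP (𝟙_ (Over S)) 1
      rw [one_pow, _root_.mul_one, ← e] at h3
      exact h2.symm.trans h3
  · rintro ⟨c, ⟨hp, hm⟩, -⟩
    let cX : ∀ X : Over S, (Γ(X.left, ⊤))ˣ := fun X => GmPts.unitOfPt (toUnit X ≫ c)
    have hP : ∀ (X : Over S) b, (s.calc' X).P b ≫ f = (s'.calc' X).P ((cX X : Γ(X.left, ⊤)) * b ^ q) := fun X b =>
      hp X (BGaNotS.gaPt b) (BGaNotS.gaPt _) (by rw [BGaNotS.gaFn_gaPt, BGaNotS.gaFn_gaPt]; rfl)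
    have hM : ∀ (X : Over S) b, (s.calc' X).M b ≫ f = (s'.calc' X).M ((↑(cX X)⁻¹ : Γ(X.left, ⊤)) * b ^ q) :=
      fun X b => hm X (BGaNotS.gaPt b) (BGaNotS.gaPt _) (by
        rw [BGaNotS.gaFn_gaPt, BGaNotS.gaFn_gaPt, ← GmPts.val_unitOfPt]
        linear_combination b ^ q * Units.inv_mul (cX X))
    have hH : ∀ (X : Over S) (v : (Γ(X.left, ⊤))ˣ), (s.calc' X).H v ≫ f = (s'.calc' X).H (v ^ q) :=
      fun X v => RedR1.Sys.hom_H_of_M s s' f (cX X) hq0 (hq X) (hP X) (hM X) v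
    obtain ⟨fT, hfT⟩ := s'.torus_of_commute hG' hTm'.2.2.1 hα' (n := (q : ℤ)) (by exact_mod_cast hq0.ne') (i ≫ f)
      fun X' g v => by
        rw [zpow_natCast, ← hH, ← Category.assoc, Commute, SemiconjBy, ← MonObj.mul_comp, ← MonObj.mul_comp]
        change ((g ≫ i) * ((GmPts.ptOfUnit v ≫ av) ≫ i)) ≫ f = (((GmPts.ptOfUnit v ≫ av) ≫ i) * (g ≫ i)) ≫ f
        rw [← MonObj.mul_comp, ← MonObj.mul_comp, RedR1.mul_comm_torus hTm.2.2.1]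
    haveI : IsMonHom fT := MTBridge.isMonHom_of_points _ fun X x y => by
      rw [← cancel_mono i', MonObj.mul_comp _ _ i']
      simp only [Category.assoc, hfT, MonObj.mul_comp]
    refine ⟨fT, inferInstance, hfT.symm, ?_, ?_⟩
    · refine GmPts.gmFn_injective ?_
      beta_reduce
      rw [RedR1.gmFn_pow, ← (cX T).isUnit.mul_left_inj]
      refine hinj _ _ _ ?_
      have h := congrArg (· ≫ f) (s.conj_P (𝟙 T) 1)
      change ((𝟙 T ≫ i) * (s.calc' T).P 1 * (𝟙 T ≫ i)⁻¹) ≫ f = (s.calc' T).P _ ≫ f at h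
      rw [Category.id_comp, MonObj.mul_comp, MonObj.mul_comp, GrpObj.inv_comp, ← hfT, hP, hP, one_pow,
        _root_.mul_one, _root_.mul_one] at h
      have h' := s'.conj_P fT (cX T : Γ(T.left, ⊤))
      change (fT ≫ i') * (s'.calc' T).P _ * (fT ≫ i')⁻¹ = (s'.calc' T).P _ at h'
      rw [h'] at h
      change (s'.calc' T).P ((Red.gmFn (fT ≫ α')) * _) = (s'.calc' T).P (_ * Red.gmFn (𝟙 T ≫ α) ^ q) at h
      rw [Category.id_comp] at h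
      rw [h, mul_comm]
    · rw [← cancel_mono i', Category.assoc, hfT]
      have h1 := hH (Red.Gm S) (GmPts.unitOfPt (𝟙 (Red.Gm S)))
      rw [← zpow_natCast (n := q), ← s'.zpow_eq_H, zpow_natCast, Category.id_comp] at h1
      change (((GmPts.ptOfUnit (GmPts.unitOfPt (𝟙 (Red.Gm S)))) ≫ av) ≫ i) ≫ f = _ at h1
      rw [GmPts.ptOfUnit_unitOfPt, Category.id_comp, Category.assoc] at h1
      exact h1

end Groth.Agent.S8452
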