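import Groth.Statements.S8455
import Groth.Agent.RedR1.Surj
import Groth.Agent.S8453

set_option autoImplicit false
universe u
open CategoryTheory MonoidalCategory CartesianMonoidalCategory MonObj GrpObj AlgebraicGeometry CategoryTheory.Limits
open Red

namespace Groth.Agent.S8455

/-- Let (G, T, α, p₊, p₋, α^*) and (G', T', α', p'₊, p'₋, α'^*) be two rank-one systems over S: G
reductive, i : T ⟶ G a maximal torus, α a character of T non-trivial on every geometric fibre, p₊,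
p₋ : 𝔾_a ⟶ G monomorphisms normalised by T with multipliers α, α⁻¹ whose cell map (y, t, x) ↦ p₋(y)
i(t) p₊(x) is an open immersion, α^* : 𝔾_m ⟶ T with α ∘ α^* the squaring map and p₊(x) p₋(y) =
p₋(y/(1+xy)) · i(α^*(1+xy)) · p₊(x/(1+xy)) whenever 1 + xy is invertible; likewise for the primed
data. Let q > 0 be an integer such that x ↦ x^q is additive on all functions of S-schemes. Assume q
= 1: let c be an S-point of 𝔾_m and f_T : T ⟶ T' a homomorphism with α' ∘ f_T = α and f_T ∘ α^* =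
α'^* which is faithfully flat (flat and surjective) with kernel k : Q ⟶ T. Then a homomorphism f : G
⟶ G' extending f_T with f(p₊(x)) = p'₊(c x) for all points x is faithfully flat and quasi-compact,
with kernel Q (through k and i); so G' is the quotient G/Q. -/
theorem result (S : Scheme.{u}) (G T : Over S) [GrpObj G] [GrpObj T] (i : T ⟶ G) [IsMonHom i] [Mono i] (hG : Red.IsReductive G) (hTm : Red.IsMaximalTorus i)
    (α : T ⟶ Red.Gm S) [IsMonHom α] (hα : ∀ s : S, (Over.pullback (Red.geomPt s)).map α ≠ 1)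
    (pp pm : Red.Ga S ⟶ G) [IsMonHom pp] [Mono pp] [IsMonHom pm] [Mono pm]
    (hpp : ∀ (X : Over S) (t : X ⟶ T) (x : X ⟶ Red.Ga S), ∃ x' : X ⟶ Red.Ga S,
      x' ≫ pp = (t ≫ i) * (x ≫ pp) * (t ≫ i)⁻¹ ∧ Red.gaFn x' = Red.gmFn (t ≫ α) * Red.gaFn x)
    (hpm : ∀ (X : Over S) (t : X ⟶ T) (y : X ⟶ Red.Ga S), ∃ y' : X ⟶ Red.Ga S,
      y' ≫ pm = (t ≫ i) * (y ≫ pm) * (t ≫ i)⁻¹ ∧ Red.gaFn y' * Red.gmFn (t ≫ α) = Red.gaFn y)
    (hΩ : IsOpenImmersion (((pm ⊗ₘ i) ⊗ₘ pp) ≫ (μ[G] ▷ G) ≫ μ[G]).left)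
    (av : Red.Gm S ⟶ T) [IsMonHom av] (h2 : av ≫ α = (𝟙 (Red.Gm S)) ^ 2)
    (hF : ∀ (X : Over S) (x y : X ⟶ Red.Ga S), IsUnit (1 + Red.gaFn x * Red.gaFn y) →
      ∃ (x' y' : X ⟶ Red.Ga S) (z : X ⟶ Red.Gm S), Red.gmFn z = 1 + Red.gaFn x * Red.gaFn y ∧
        Red.gaFn x' * Red.gmFn z = Red.gaFn x ∧ Red.gaFn y' * Red.gmFn z = Red.gaFn y ∧
        (x ≫ pp) * (y ≫ pm) = (y' ≫ pm) * (z ≫ av ≫ i) * (x' ≫ pp))
    (G' T' : Over S) [GrpObj G'] [GrpObj T'] (i' : T' ⟶ G') [IsMonHom i'] [Mono i'] (hG' : Red.IsReductive G') (hTm' : Red.IsMaximalTorus i')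
    (α' : T' ⟶ Red.Gm S) [IsMonHom α'] (hα' : ∀ s : S, (Over.pullback (Red.geomPt s)).map α' ≠ 1)
    (pp' pm' : Red.Ga S ⟶ G') [IsMonHom pp'] [Mono pp'] [IsMonHom pm'] [Mono pm']
    (hpp' : ∀ (X : Over S) (t : X ⟶ T') (x : X ⟶ Red.Ga S), ∃ x' : X ⟶ Red.Ga S,
      x' ≫ pp' = (t ≫ i') * (x ≫ pp') * (t ≫ i')⁻¹ ∧ Red.gaFn x' = Red.gmFn (t ≫ α') * Red.gaFn x)
    (hpm' : ∀ (X : Over S) (t : X ⟶ T') (y : X ⟶ Red.Ga S), ∃ y' : X ⟶ Red.Ga S,
      y' ≫ pm' = (t ≫ i') * (y ≫ pm') * (t ≫ i')⁻¹ ∧ Red.gaFn y' * Red.gmFn (t ≫ α') = Red.gaFn y)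
    (hΩ' : IsOpenImmersion (((pm' ⊗ₘ i') ⊗ₘ pp') ≫ (μ[G'] ▷ G') ≫ μ[G']).left)
    (av' : Red.Gm S ⟶ T') [IsMonHom av'] (h2' : av' ≫ α' = (𝟙 (Red.Gm S)) ^ 2)
    (hF' : ∀ (X : Over S) (x y : X ⟶ Red.Ga S), IsUnit (1 + Red.gaFn x * Red.gaFn y) →
      ∃ (x' y' : X ⟶ Red.Ga S) (z : X ⟶ Red.Gm S), Red.gmFn z = 1 + Red.gaFn x * Red.gaFn y ∧
        Red.gaFn x' * Red.gmFn z = Red.gaFn x ∧ Red.gaFn y' * Red.gmFn z = Red.gaFn y ∧
        (x ≫ pp') * (y ≫ pm') = (y' ≫ pm') * (z ≫ av' ≫ i') * (x' ≫ pp'))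
    (c : 𝟙_ (Over S) ⟶ Red.Gm S) (fT : T ⟶ T') [IsMonHom fT] (hfl : Flat fT.left) (hsu : Surjective fT.left)
    (Q : Over S) (k : Q ⟶ T) (hk : AlgGrp.IsKernel k fT)
    (hfTα : fT ≫ α' = α) (hfTav : av ≫ fT = av') (f : G ⟶ G') [IsMonHom f] (hfT : i ≫ f = fT ≫ i')
    (hf : ∀ (X : Over S) (x y : X ⟶ Red.Ga S), Red.gaFn y = Red.gmFn (toUnit X ≫ c) * Red.gaFn x →
      (x ≫ pp) ≫ f = y ≫ pp') :
    Flat f.left ∧ Surjective f.left ∧ QuasiCompact f.left ∧ AlgGrp.IsKernel (k ≫ i) f := by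
  let s : RedR1.Sys i α pp pm av :=
    ⟨inferInstance, inferInstance, inferInstance, inferInstance, inferInstance, h2, hpp, hpm, hF⟩
  let s' : RedR1.Sys i' α' pp' pm' av' :=
    ⟨inferInstance, inferInstance, inferInstance, inferInstance, inferInstance, h2', hpp', hpm', hF'⟩
  haveI : IsOpenImmersion (RedR1.cellMap i pp pm).left := hΩ
  haveI : IsOpenImmersion (RedR1.cellMap i' pp' pm').left := hΩ'
  have hq : ∀ (X : Over S) (a b : Γ(X.left, ⊤)), (a + b) ^ 1 = a ^ 1 + b ^ 1 := fun X a b => by simp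
  have hscale : ∀ d : 𝟙_ (Over S) ⟶ Red.Gm S, RedR1.scale d 1 ≫ RedR1.scale d⁻¹ 1 = 𝟙 _ := fun d =>
    BGaNotS.gaPt_ext (by
      rw [← Category.id_comp (RedR1.scale d 1), RedR1.gaFn_comp_scale, RedR1.gaFn_comp_scale,
        GrpObj.comp_inv, ← GmPts.val_unitOfPt, ← GmPts.val_unitOfPt, GmPts.unitOfPt_inv, pow_one, pow_one,
        Units.inv_mul_cancel_left])
  haveI hiso : ∀ d : 𝟙_ (Over S) ⟶ Red.Gm S, IsIso (RedR1.scale d 1) := fun d =>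
    ⟨RedR1.scale d⁻¹ 1, hscale d, by
      have h := hscale d⁻¹
      rwa [show (d⁻¹)⁻¹ = d from _root_.inv_inv d] at h⟩
  haveI : ∀ d : 𝟙_ (Over S) ⟶ Red.Gm S, IsMonHom (RedR1.scale d 1) := fun d => RedR1.isMonHom_scale d hq
  have hP : pp ≫ f = RedR1.scale c 1 ≫ pp' := by
    have h := hf _ (𝟙 (Red.Ga S)) (RedR1.scale c 1)
      (by rw [← Category.id_comp (RedR1.scale c 1), RedR1.gaFn_comp_scale, pow_one])
    rwa [Category.id_comp] at h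
  have hM : pm ≫ f = RedR1.scale c⁻¹ 1 ≫ pm' := by
    have h := (S8453.result S G T i hG hTm α hα pp pm hpp hpm hΩ av h2 hF G' T' i' hG' hTm' α' hα' pp' pm'
      hpp' hpm' hΩ' av' h2' hF' 1 Nat.one_pos hq c fT (by rw [pow_one, hfTα]) (by rw [pow_one, hfTav])).2 f
      inferInstance hfT (fun X x y h => hf X x y (by rw [h, pow_one])) _ (𝟙 (Red.Ga S)) (RedR1.scale c⁻¹ 1) (by
        rw [← Category.id_comp (RedR1.scale c⁻¹ 1), RedR1.gaFn_comp_scale, GrpObj.comp_inv,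
          ← GmPts.val_unitOfPt, ← GmPts.val_unitOfPt, GmPts.unitOfPt_inv, pow_one,
          mul_comm (Units.val _) (Red.gaFn _), _root_.mul_assoc, Units.inv_mul, _root_.mul_one])
    rwa [Category.id_comp] at h
  haveI := hfl
  haveI := hsu
  obtain ⟨hf1, hf2⟩ := RedR1.flat_surjective_of_cell hG hG' f fT _ _ hfT hP hM
  refine ⟨hf1, hf2, ?_, ?_⟩
  · haveI := hG.1; haveI := hG'.1
    haveI : IsAffineHom (f.left ≫ G'.hom) := by rw [Over.w f]; infer_instance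
    haveI : IsAffineHom f.left := IsAffineHom.of_comp f.left G'.hom
    infer_instance
  have hw : ∀ X : Over S, ∃ a : (Γ(X.left, ⊤))ˣ, (s.calc' X).w 1 ≫ f = (s'.calc' X).w a := fun X => by
    refine ⟨GmPts.unitOfPt (toUnit X ≫ c), ?_⟩
    have hP1 : ∀ a, (s.calc' X).P a ≫ f =
        (s'.calc' X).P ((GmPts.unitOfPt (toUnit X ≫ c) : Γ(X.left, ⊤)) * a) := fun a => by
      change (BGaNotS.gaPt a ≫ pp) ≫ f = BGaNotS.gaPt _ ≫ pp'
      rw [Category.assoc, hP, ← Category.assoc, RedR1.gaPt_comp_scale, pow_one]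
    have hM1 : (s.calc' X).M (-↑(1 : (Γ(X.left, ⊤))ˣ)⁻¹) ≫ f =
        (s'.calc' X).M (-↑(GmPts.unitOfPt (toUnit X ≫ c))⁻¹) := by
      change (BGaNotS.gaPt _ ≫ pm) ≫ f = BGaNotS.gaPt _ ≫ pm'
      rw [Category.assoc, hM, ← Category.assoc, RedR1.gaPt_comp_scale, pow_one, GrpObj.comp_inv,
        GmPts.unitOfPt_inv, inv_one, Units.val_one, mul_neg, _root_.mul_one]
    rw [RedR1.Calc.w, RedR1.Calc.w, MonObj.mul_comp, MonObj.mul_comp, hP1, hM1, Units.val_one, _root_.mul_one]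
  have hker : ∀ (X : Over S) (g : X ⟶ G), g ≫ f = 1 → ∃ r : X ⟶ Q, r ≫ k ≫ i = g := fun X g hg => by
    obtain ⟨t, rfl, ht⟩ := RedR1.Sys.kernel_mem_torus s s' hG hTm'.2.2.1 f fT _ _ hfT hP hM hw g hg
    have hk' : IsPullback k (toUnit Q) fT η[T'] := hk
    exact ⟨hk'.lift t (toUnit X) (ht.trans Hom.one_def), hk'.lift_fst_assoc _ _ _ _⟩
  have hk0 : k ≫ fT = 1 := hk.w.trans Hom.one_def.symm
  have hsq : (k ≫ i) ≫ f = toUnit Q ≫ η[G'] := by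
    rw [Category.assoc, hfT, reassoc_of% hk0, MonObj.one_comp, Hom.one_def]
  refine ⟨⟨hsq⟩, ⟨PullbackCone.IsLimit.mk _
    (fun c => (hker _ c.fst (c.condition.trans (by rw [Hom.one_def, toUnit_unique c.snd]))).choose)
    (fun c => (hker _ c.fst (c.condition.trans (by rw [Hom.one_def, toUnit_unique c.snd]))).choose_spec)
    (fun c => toUnit_unique _ _) fun c m hm _ => ?_⟩⟩
  refine hk.hom_ext ?_ (toUnit_unique _ _)
  have h := (hker _ c.fst (c.condition.trans (by rw [Hom.one_def, toUnit_unique c.snd]))).choose_spec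
  rw [← cancel_mono i, Category.assoc, Category.assoc, hm, h]

end Groth.Agent.S8455
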