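import Groth.Statements.S8457
import Groth.Agent.RedR1.Present

set_option autoImplicit false
universe u
open CategoryTheory MonoidalCategory CartesianMonoidalCategory MonObj GrpObj AlgebraicGeometry CategoryTheory.Limits
open Red

namespace Groth.Agent.S8457

open RedR1 in
open Groth.Agent.BGaNotS (gaPt gaFn_gaPt gaFn_comp gaFn_mul) in
/-- The relations define a rank-one system in `H`. -/
theorem sys_of_relations {S : Scheme.{u}} {G T H : Over S} [GrpObj G] [GrpObj T] [GrpObj H] {i : T ⟶ G}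
    {α : T ⟶ Red.Gm S} {pp pm : Red.Ga S ⟶ G} {av : Red.Gm S ⟶ T} (s : Sys i α pp pm av)
    (fT : T ⟶ H) [IsMonHom fT] (fα : Red.Ga S ⟶ H) [IsMonHom fα] (h : 𝟙_ (Over S) ⟶ H)
    (e₁ : 𝟙_ (Over S) ⟶ Red.Ga S) (he₁ : Red.gaFn e₁ = 1) (m : 𝟙_ (Over S) ⟶ Red.Gm S) (hm : Red.gmFn m = -1)
    (R1 : ∀ (X : Over S) (t : X ⟶ T) (x x' : X ⟶ Red.Ga S), Red.gaFn x' = Red.gmFn (t ≫ α) * Red.gaFn x →
          (t ≫ fT) * (x ≫ fα) * (t ≫ fT)⁻¹ = x' ≫ fα)
    (R2 : ∀ (X : Over S) (t : X ⟶ T), (toUnit X ≫ h) * (t ≫ fT) * (toUnit X ≫ h)⁻¹ = (t * (t ≫ α ≫ av)⁻¹) ≫ fT)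
    (R3 : h ^ 2 = m ≫ av ≫ fT) (R4 : (h * (e₁ ≫ fα)) ^ 3 = 1) :
    ∃ fM : Red.Ga S ⟶ H, Sys fT α fα fM av ∧
      (∀ (X : Over S) (x : X ⟶ Red.Ga S), x ≫ fM =
        (toUnit X ≫ h) * (gaPt (-Red.gaFn x) ≫ fα) * (toUnit X ≫ h)⁻¹) ∧
      (e₁ ≫ fα) * ((gaPt (-1) : 𝟙_ (Over S) ⟶ Red.Ga S) ≫ fM) * (e₁ ≫ fα) = h := by
  let fM : Red.Ga S ⟶ H := (toUnit (Red.Ga S) ≫ h) * (gaPt (-Red.gaFn (𝟙 (Red.Ga S))) ≫ fα) *
    (toUnit (Red.Ga S) ≫ h)⁻¹
  have hfM : ∀ (X : Over S) (x : X ⟶ Red.Ga S), x ≫ fM =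
      (toUnit X ≫ h) * (gaPt (-Red.gaFn x) ≫ fα) * (toUnit X ≫ h)⁻¹ := fun X x => by
    simp only [fM, MonObj.comp_mul, GrpObj.comp_inv]
    rw [← Category.assoc, toUnit_unique (x ≫ toUnit _) (toUnit X), ← Category.assoc, gaPt_comp, map_neg,
      ← gaFn_comp, Category.comp_id]
  let P : ∀ X : Over S, Γ(X.left, ⊤) → (X ⟶ H) := fun X a => gaPt a ≫ fα
  let HH : ∀ X : Over S, (Γ(X.left, ⊤))ˣ → (X ⟶ H) := fun X v => ((GmPts.ptOfUnit v : X ⟶ Red.Gm S) ≫ av) ≫ fT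
  let n : ∀ X : Over S, X ⟶ H := fun X => toUnit X ≫ h
  haveI := s.havh
  have P_add : ∀ (X : Over S) a b, P X (a + b) = P X a * P X b := fun X a b => by
    simp only [P, gaPt_add, MonObj.mul_comp]
  have H_mul : ∀ (X : Over S) u v, HH X (u * v) = HH X u * HH X v := fun X u v => by
    simp only [HH, GmPts.ptOfUnit_mul, MonObj.mul_comp]
  have conj_P : ∀ (X : Over S) (v : (Γ(X.left, ⊤))ˣ) (a : Γ(X.left, ⊤)),
      HH X v * P X a * (HH X v)⁻¹ = P X ((v : Γ(X.left, ⊤)) * v * a) := fun X v a => by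
    refine R1 X _ _ _ ?_
    rw [gaFn_gaPt, gaFn_gaPt]
    change _ = (Sys.rt α ((GmPts.ptOfUnit v : X ⟶ Red.Gm S) ≫ av) : Γ(X.left, ⊤)) * a
    rw [s.rt_av, Units.val_mul]
  have hnH : ∀ (X : Over S) v, n X * HH X v * (n X)⁻¹ = (HH X v)⁻¹ := fun X v => by
    refine (R2 X _).trans ?_
    have e : ((GmPts.ptOfUnit v : X ⟶ Red.Gm S) ≫ av) ≫ α = GmPts.ptOfUnit v * GmPts.ptOfUnit v := by
      rw [Category.assoc, s.h2, pow_two, MonObj.comp_mul, Category.comp_id]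
    rw [← Category.assoc ((GmPts.ptOfUnit v : X ⟶ Red.Gm S) ≫ av) α av, e, MonObj.mul_comp _ _ av,
      MonObj.mul_comp _ _ fT, GrpObj.inv_comp, MonObj.mul_comp _ _ fT]
    simp only [HH]
    group
  have hn2 : ∀ X : Over S, n X * n X = HH X (-1) := fun X => by
    rw [← MonObj.comp_mul, ← pow_two, R3, ← Category.assoc, ← Category.assoc]
    congr 2
    refine GmPts.gmFn_injective ?_
    beta_reduce
    rw [GmPts.gmFn_comp, hm, GmPts.gmFn_ptOfUnit, map_neg, map_one, Units.val_neg, Units.val_one]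
  have h3 : ∀ X : Over S, (n X * P X 1) ^ 3 = 1 := fun X => by
    have e : gaPt (1 : Γ(X.left, ⊤)) = toUnit X ≫ e₁ := by
      rw [← gaPt_gaFn (toUnit X ≫ e₁), gaFn_comp, he₁, map_one]
    simp only [P, n, e, Category.assoc]
    rw [← MonObj.comp_mul, ← MonObj.comp_pow, R4, MonObj.comp_one]
  have compP : ∀ {X X' : Over S} (g : X' ⟶ X) a, g ≫ P X a = P X' (g.left.appTop a) := fun g a => by
    simp only [P, ← Category.assoc, gaPt_comp]
  have compH : ∀ {X X' : Over S} (g : X' ⟶ X) v,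
      g ≫ HH X v = HH X' (Units.map g.left.appTop.hom.toMonoidHom v) := fun g v => by
    simp only [HH, ← Category.assoc, GmPts.ptOfUnit_comp]
  have compn : ∀ {X X' : Over S} (g : X' ⟶ X), g ≫ n X = n X' := fun g => by
    simp only [n, ← Category.assoc, toUnit_unique (g ≫ toUnit _) (toUnit _)]
  have braid : ∀ (X : Over S) (a : (Γ(X.left, ⊤))ˣ), Braid (P X) (HH X) (n X) a := fun X a => by
    obtain ⟨X', g, v, hg, -, -, hv⟩ := exists_sqrt_cover X a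
    have hb := braid_sq (P_add X') (H_mul X') (conj_P X') (hn2 X') (hnH X') (h3 X') v
    have e : Units.map g.left.appTop.hom.toMonoidHom a = v * v := Units.ext hv.symm
    unfold Braid at hb ⊢
    rw [← e] at hb
    rw [← cancel_epi g]
    simp only [MonObj.comp_mul, GrpObj.comp_inv, compP, compH, compn]
    rw [← map_inv] at hb
    exact hb
  have rule : ∀ (X : Over S) (x y : Γ(X.left, ⊤)) (u : (Γ(X.left, ⊤))ˣ), (u : Γ(X.left, ⊤)) = 1 + x * y →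
      Rule (P X) (HH X) (n X) x y u := by
    intro X x y u hu
    obtain ⟨X', g, r, hg, hr⟩ := exists_value_cover X
      (Polynomial.X * (Polynomial.X - Polynomial.C y) * (1 + Polynomial.C x * Polynomial.X)) (fun Q hQ => by
        haveI := hQ
        haveI : IsDomain (Γ(X.left, ⊤) ⧸ Q) := Ideal.Quotient.isDomain _
        rw [Polynomial.map_mul, Polynomial.map_mul, Polynomial.map_sub, Polynomial.map_add, Polynomial.map_mul,
          Polynomial.map_X, Polynomial.map_C, Polynomial.map_C, Polynomial.map_one]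
        refine mul_ne_zero (mul_ne_zero Polynomial.X_ne_zero (Polynomial.X_sub_C_ne_zero _)) fun h0 => ?_
        have h1 := congrArg (Polynomial.eval 0) h0
        simp at h1)
    simp only [Polynomial.eval₂_mul, Polynomial.eval₂_sub, Polynomial.eval₂_add, Polynomial.eval₂_X,
      Polynomial.eval₂_C, Polynomial.eval₂_one] at hr
    obtain ⟨⟨hr1, hr2⟩, hr3⟩ := (IsUnit.mul_iff.1 hr).imp_left IsUnit.mul_iff.1
    set x' := g.left.appTop x
    set y' := g.left.appTop y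
    set u' := Units.map g.left.appTop.hom.toMonoidHom u
    have hu' : (u' : Γ(X'.left, ⊤)) = 1 + x' * y' := by
      change g.left.appTop (u : Γ(X.left, ⊤)) = _
      rw [hu, map_add, map_one, map_mul]
    have hy2 : IsUnit (y' - r) := by rw [← neg_sub]; exact hr2.neg
    obtain ⟨w, hw⟩ := hr3
    change (w : Γ(X'.left, ⊤)) = 1 + x' * r at hw
    have hd := fun (x : Γ(X'.left, ⊤)) (y u : (Γ(X'.left, ⊤))ˣ) (hu : (u : Γ(X'.left, ⊤)) = 1 + x * y) =>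
      rule_of_braid (P_add X') (H_mul X') (conj_P X') (hnH X') x y u hu (braid X' _) (braid X' _)
    have h1 := hd x' hr1.unit w hw
    have h2 := hd (x' * ↑w⁻¹) hy2.unit (w⁻¹ * u') (by
      rw [Units.val_mul, hu', IsUnit.unit_spec]
      linear_combination Units.inv_mul w - (↑w⁻¹ : Γ(X'.left, ⊤)) * hw)
    rw [IsUnit.unit_spec] at h1 h2
    have h12 := rule_add (P_add X') (H_mul X') (conj_P X') (hnH X') x' r (y' - r) w (w⁻¹ * u') u' hw
      (by rw [hu', add_sub_cancel]) (by rw [mul_inv_cancel_left]) h1 h2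
    rw [add_sub_cancel] at h12
    unfold Rule at h12 ⊢
    rw [← cancel_epi g]
    simp only [MonObj.comp_mul, GrpObj.comp_inv, compP, compH, compn, map_neg, map_mul]
    exact h12
  haveI : IsMonHom fM := MTBridge.isMonHom_of_points _ fun X x y => by
    rw [hfM, hfM, hfM, gaFn_mul, neg_add, gaPt_add, MonObj.mul_comp]
    group
  refine ⟨fM, ⟨inferInstance, s.hα, inferInstance, inferInstance, inferInstance, s.h2, ?_, ?_, ?_⟩, hfM, ?_⟩
  · exact fun X t x => ⟨gaPt (Red.gmFn (t ≫ α) * Red.gaFn x), (R1 X t x _ (gaFn_gaPt _)).symm, gaFn_gaPt _⟩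
  · intro X t y
    refine ⟨gaPt ((↑(Sys.rt α t)⁻¹ : Γ(X.left, ⊤)) * Red.gaFn y), ?_, ?_⟩
    · haveI : IsMonHom α := s.hα
      set τ := t * (t ≫ α ≫ av)⁻¹ with hτ
      have hρ : Sys.rt α τ = (Sys.rt α t)⁻¹ := by
        have e : (t ≫ α ≫ av) ≫ α = (t ≫ α) * (t ≫ α) := by
          rw [Category.assoc, Category.assoc, s.h2, pow_two, MonObj.comp_mul, MonObj.comp_mul, Category.comp_id]
        have e' : τ ≫ α = (t ≫ α) * ((t ≫ α) * (t ≫ α))⁻¹ := by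
          rw [← e, ← GrpObj.inv_comp, hτ]
          exact MonObj.mul_comp _ _ α
        change GmPts.unitOfPt (τ ≫ α) = _
        rw [e', GmPts.unitOfPt_mul, GmPts.unitOfPt_inv, GmPts.unitOfPt_mul, _root_.mul_inv_rev, ← _root_.mul_assoc]
        simp
      have hτ2 : τ * (τ ≫ α ≫ av)⁻¹ = t := by
        have e : τ ≫ α = (t ≫ α)⁻¹ := by
          rw [← GmPts.ptOfUnit_unitOfPt (τ ≫ α), show GmPts.unitOfPt (τ ≫ α) = _ from hρ, GmPts.ptOfUnit_inv,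
            GmPts.ptOfUnit_unitOfPt]
        rw [← Category.assoc, e, GrpObj.inv_comp, _root_.inv_inv, hτ, Category.assoc, inv_mul_cancel_right]
      have h2 := R2 X τ
      rw [hτ2] at h2
      have h1 : (τ ≫ fT) * (gaPt (-Red.gaFn y) ≫ fα) * (τ ≫ fT)⁻¹ =
          gaPt (-((↑(Sys.rt α t)⁻¹ : Γ(X.left, ⊤)) * Red.gaFn y)) ≫ fα :=
        R1 X τ _ _ (by
          rw [gaFn_gaPt, gaFn_gaPt, ← mul_neg]
          congr 1
          rw [← hρ]; rfl)
      rw [hfM, hfM, gaFn_gaPt, ← h1, ← h2]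
      group
    · rw [gaFn_gaPt, ← GmPts.val_unitOfPt (t ≫ α)]
      linear_combination Red.gaFn y * Units.inv_mul (Sys.rt α t)
  · intro X x y hu
    obtain ⟨u, hu⟩ := hu
    refine ⟨gaPt (Red.gaFn x * ↑u⁻¹), gaPt (Red.gaFn y * ↑u⁻¹), GmPts.ptOfUnit u, ?_, ?_, ?_, ?_⟩
    · rw [GmPts.gmFn_ptOfUnit, hu]
    · rw [gaFn_gaPt, GmPts.gmFn_ptOfUnit, _root_.mul_assoc, Units.inv_mul, _root_.mul_one]
    · rw [gaFn_gaPt, GmPts.gmFn_ptOfUnit, _root_.mul_assoc, Units.inv_mul, _root_.mul_one]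
    have h := rule X (Red.gaFn x) (Red.gaFn y) u hu
    rw [hfM, hfM, gaFn_gaPt, ← Category.assoc]
    simp only [Rule, P, HH, n, gaPt_gaFn] at h
    exact h
  · have hb := braid (𝟙_ (Over S)) 1
    simp only [Braid, P, HH, n, inv_one, Units.val_one] at hb
    have e : gaPt (1 : Γ((𝟙_ (Over S)).left, ⊤)) = e₁ := by rw [← gaPt_gaFn e₁, he₁]
    rw [hfM, gaFn_gaPt, neg_neg]
    rw [e] at hb ⊢
    have h1 : HH (𝟙_ (Over S)) 1 = 1 := by
      have h := H_mul (𝟙_ (Over S)) 1 1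
      rw [_root_.mul_one] at h
      exact left_eq_mul.1 h
    rw [hb]
    change HH (𝟙_ (Over S)) 1 * _ = h
    rw [h1, _root_.one_mul, toUnit_unique (toUnit _) (𝟙 _), Category.id_comp]


/-- Generators and relations for a group of semisimple rank 1: for H an S-group scheme. Let G be a
reductive S-group, i : T ⟶ G a maximal torus, α a character of T non-trivial on every geometric
fibre, p₊, p₋ : 𝔾_a ⟶ G monomorphisms of groups normalised by T with multipliers α and α⁻¹ whose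
cell map (y, t, x) ↦ p₋(y) i(t) p₊(x) is an open immersion 𝔾_a ×_S T ×_S 𝔾_a ⟶ G, and α^* : 𝔾_m ⟶ T
the coroot: α ∘ α^* is the squaring map and p₊(x) p₋(y) = p₋(y/(1+xy)) · i(α^*(1+xy)) · p₊(x/(1+xy))
whenever 1 + xy is invertible (so p₊ and p₋ are dual to each other). Let e₁, em be the S-points of
𝔾_a with coordinates 1, -1 and m the S-point of 𝔾_m with coordinate -1; put u = p₊(e₁) and w =
p₊(e₁) p₋(em) p₊(e₁). Let H be an S-group scheme, f_T : T ⟶ H and f_α : 𝔾_a ⟶ H homomorphisms and h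
an S-point of H. Then there is exactly one homomorphism f : G ⟶ H with f ∘ i = f_T, f ∘ p₊ = f_α and
f(w) = h if and only if: (1) f_T(t) f_α(x) f_T(t)⁻¹ = f_α(α(t) x) for all points t of T and x of
𝔾_a; (2) h f_T(t) h⁻¹ = f_T(t · α^*(α(t))⁻¹) for all points t of T; (3) h² = f_T(α^*(m)); (4) (h ·
f_α(e₁))³ = e. (The published statement allows H to be any fppf sheaf of groups.) -/
theorem result (S : Scheme.{u}) (G T : Over S) [GrpObj G] [GrpObj T] (i : T ⟶ G) [IsMonHom i] [Mono i] (hG : Red.IsReductive G) (hTm : Red.IsMaximalTorus i)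
    (α : T ⟶ Red.Gm S) [IsMonHom α] (hα : ∀ s : S, (Over.pullback (Red.geomPt s)).map α ≠ 1)
    (pp pm : Red.Ga S ⟶ G) [IsMonHom pp] [Mono pp] [IsMonHom pm] [Mono pm]
    (hpp : ∀ (X : Over S) (t : X ⟶ T) (x : X ⟶ Red.Ga S), ∃ x' : X ⟶ Red.Ga S,
      x' ≫ pp = (t ≫ i) * (x ≫ pp) * (t ≫ i)⁻¹ ∧ Red.gaFn x' = Red.gmFn (t ≫ α) * Red.gaFn x)
    (hpm : ∀ (X : Over S) (t : X ⟶ T) (y : X ⟶ Red.Ga S), ∃ y' : X ⟶ Red.Ga S,
      y' ≫ pm = (t ≫ i) * (y ≫ pm) * (t ≫ i)⁻¹ ∧ Red.gaFn y' * Red.gmFn (t ≫ α) = Red.gaFn y)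
    (hΩ : IsOpenImmersion (((pm ⊗ₘ i) ⊗ₘ pp) ≫ (μ[G] ▷ G) ≫ μ[G]).left)
    (av : Red.Gm S ⟶ T) [IsMonHom av] (h2 : av ≫ α = (𝟙 (Red.Gm S)) ^ 2)
    (hF : ∀ (X : Over S) (x y : X ⟶ Red.Ga S), IsUnit (1 + Red.gaFn x * Red.gaFn y) →
      ∃ (x' y' : X ⟶ Red.Ga S) (z : X ⟶ Red.Gm S), Red.gmFn z = 1 + Red.gaFn x * Red.gaFn y ∧
        Red.gaFn x' * Red.gmFn z = Red.gaFn x ∧ Red.gaFn y' * Red.gmFn z = Red.gaFn y ∧
        (x ≫ pp) * (y ≫ pm) = (y' ≫ pm) * (z ≫ av ≫ i) * (x' ≫ pp))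
    (e₁ em : 𝟙_ (Over S) ⟶ Red.Ga S) (he₁ : Red.gaFn e₁ = 1) (hem : Red.gaFn em = -1)
    (m : 𝟙_ (Over S) ⟶ Red.Gm S) (hm : Red.gmFn m = -1)
    (H : Over S) [GrpObj H] (fT : T ⟶ H) [IsMonHom fT] (fα : Red.Ga S ⟶ H) [IsMonHom fα] (h : 𝟙_ (Over S) ⟶ H) :
    (∃! f : G ⟶ H, IsMonHom f ∧ i ≫ f = fT ∧ pp ≫ f = fα ∧ ((e₁ ≫ pp) * (em ≫ pm) * (e₁ ≫ pp)) ≫ f = h) ↔
      ((∀ (X : Over S) (t : X ⟶ T) (x x' : X ⟶ Red.Ga S), Red.gaFn x' = Red.gmFn (t ≫ α) * Red.gaFn x →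
          (t ≫ fT) * (x ≫ fα) * (t ≫ fT)⁻¹ = x' ≫ fα) ∧
        (∀ (X : Over S) (t : X ⟶ T), (toUnit X ≫ h) * (t ≫ fT) * (toUnit X ≫ h)⁻¹ = (t * (t ≫ α ≫ av)⁻¹) ≫ fT) ∧
        h ^ 2 = m ≫ av ≫ fT ∧ (h * (e₁ ≫ fα)) ^ 3 = 1) := by
  let s : RedR1.Sys i α pp pm av :=
    ⟨inferInstance, inferInstance, inferInstance, inferInstance, inferInstance, h2, hpp, hpm, hF⟩
  haveI : IsOpenImmersion (RedR1.cellMap i pp pm).left := hΩ
  let C := fun X : Over S => s.calc' X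
  have e1 : ∀ X : Over S, toUnit X ≫ (e₁ ≫ pp) = (C X).P 1 := fun X => by
    rw [s.calc'_P e₁ he₁, s.comp_P, map_one]
  have ew : ∀ X : Over S, toUnit X ≫ ((e₁ ≫ pp) * (em ≫ pm) * (e₁ ≫ pp)) = (C X).w 1 := fun X => by
    rw [s.calc'_w e₁ em 1 (by rw [he₁, Units.val_one]) (by rw [hem, inv_one, Units.val_one]), s.comp_w, map_one]
  have ew0 : (e₁ ≫ pp) * (em ≫ pm) * (e₁ ≫ pp) = (C (𝟙_ (Over S))).w 1 := by
    rw [← ew, toUnit_unique (toUnit _) (𝟙 _), Category.id_comp]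
  constructor
  · rintro ⟨f, ⟨hf, hi, hp, hw⟩, -⟩
    have hw' : ∀ X : Over S, toUnit X ≫ h = (C X).w 1 ≫ f := fun X => by rw [← ew, Category.assoc, hw]
    refine ⟨fun X t x x' hx => ?_, fun X t => ?_, ?_, ?_⟩
    · obtain ⟨x₂, h1, h2⟩ := hpp X t x
      obtain rfl : x₂ = x' := BGaNotS.gaPt_ext (h2.trans hx.symm)
      rw [← hp, ← hi, ← Category.assoc, ← Category.assoc, ← Category.assoc, h1, MonObj.mul_comp,
        MonObj.mul_comp, GrpObj.inv_comp]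
    · rw [hw', ← hi, ← Category.assoc, ← Category.assoc, ← GrpObj.inv_comp, ← MonObj.mul_comp, ← MonObj.mul_comp]
      congr 1
      rw [(C X).w_conj (g := t ≫ i) (a := RedR1.Sys.rt α t) (fun b => s.conj_P t b) (fun b => s.conj_M t b) 1,
        RedR1.mul_comm_torus hTm.2.2.1 t, MonObj.mul_comp, GrpObj.inv_comp]
      congr 2
      change ((GmPts.ptOfUnit (GmPts.unitOfPt (t ≫ α))) ≫ av) ≫ i = _
      rw [GmPts.ptOfUnit_unitOfPt]
      simp only [Category.assoc]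
    · rw [← hw, ew0, pow_two, ← MonObj.mul_comp, RedR1.Calc.w_sq, ← hi]
      rw [← s.calc'_H m (v := -1) (by rw [hm, Units.val_neg, Units.val_one])]
      simp only [Category.assoc]
    · rw [← hw, ← hp, ← Category.assoc, ← MonObj.mul_comp, ← MonObj.pow_comp, ew0,
        s.calc'_P e₁ (a := ((1 : (Γ((𝟙_ (Over S)).left, ⊤))ˣ) : Γ((𝟙_ (Over S)).left, ⊤))) (by rw [he₁, Units.val_one]),
        RedR1.Calc.cube _ (s.w_conj_P _), MonObj.one_comp]
  · rintro ⟨R1, R2, R3, R4⟩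
    obtain ⟨fM, sH, hfM, hw⟩ := sys_of_relations s fT fα h e₁ he₁ m hm R1 R2 R3 R4
    obtain ⟨f, hf, hi, hp, hm'⟩ := s.exists_hom sH hG hTm.2.2.1
    refine ⟨f, ⟨hf, hi, hp, ?_⟩, ?_⟩
    · rw [MonObj.mul_comp, MonObj.mul_comp]
      simp only [Category.assoc, hp, hm']
      rwa [show em = BGaNotS.gaPt (-1) from BGaNotS.gaPt_ext (by rw [hem, BGaNotS.gaFn_gaPt])]
    · rintro f' ⟨hf', hi', hp', hw'⟩
      refine RedR1.hom_ext_cell (i := i) (pp := pp) (pm := pm) hG f' f (hi'.trans hi.symm) (hp'.trans hp.symm) ?_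
      rw [hm', ← Category.id_comp fM, hfM]
      have h1 := s.w_conj_P (Red.Ga S) 1 (-Red.gaFn (𝟙 (Red.Ga S)))
      rw [inv_one, Units.val_one, _root_.mul_one, _root_.mul_one, neg_neg, ← s.calc'_M (𝟙 (Red.Ga S)) rfl,
        Category.id_comp] at h1
      conv_lhs => rw [← h1]
      rw [MonObj.mul_comp, MonObj.mul_comp, GrpObj.inv_comp, ← ew, Category.assoc, hw']
      change _ * ((BGaNotS.gaPt _ ≫ pp) ≫ f') * _ = _
      rw [Category.assoc, hp']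

end Groth.Agent.S8457
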