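import Groth.Statements.S8458
import Groth.Agent.RootBase.Comm
-- import your own Groth.Agent.* helpers here

set_option autoImplicit false
universe u
open CategoryTheory MonoidalCategory CartesianMonoidalCategory MonObj GrpObj AlgebraicGeometry CategoryTheory.Limits
open Red

set_option backward.isDefEq.respectTransparency false

namespace Groth.Agent.S8458

/-- Let G be a split reductive S-group with splitting D (root homomorphisms u_c : 𝔾_a ⟶ G for all roots
c) and let a, b be two roots with a + b ≠ 0 such that a + b is not a root. Then u_a(x) u_b(y) =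
u_b(y) u_a(x) for all points x, y of 𝔾_a with values in any S-scheme. -/
theorem result (S : Scheme.{u}) (G : Over S) [GrpObj G] (D : Red.SplitRed G)
    (a b : D.idx) (h0 : D.P.root a + D.P.root b ≠ 0) (hab : D.P.root a + D.P.root b ∉ Set.range D.P.root)
    (X : Over S) (x y : X ⟶ Red.Ga S) :
    (x ≫ D.u a) * (y ≫ D.u b) = (y ≫ D.u b) * (x ≫ D.u a) := by
  letI := D.grpT
  letI := D.acgM
  letI := D.fintypeIdx
  letI := D.finiteM
  letI := D.freeM
  rcases isEmpty_or_nonempty S with hS | hS
  · haveI : IsEmpty X.left := Function.isEmpty X.hom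
    exact Over.OverMorphism.ext (isInitialOfIsEmpty.hom_ext _ _)
  have F := RootBase.frame_of_splitRed D
  haveI := RootBase.isReduced_of_splitRed D
  by_cases hab' : a = b
  · subst hab'
    haveI := (D.rootHom a).1
    rw [← MonObj.mul_comp, ← MonObj.mul_comp,
      show x * y = y * x from BGaNotS.gaPt_ext (by rw [BGaNotS.gaFn_mul, BGaNotS.gaFn_mul, add_comm])]
  have hli : ∀ p q : ℤ, p • D.P.root a + q • D.P.root b = 0 → p = 0 ∧ q = 0 := by
    intro p q hpq
    by_contra hne
    have hq : q ≠ 0 := fun h => by
      rw [h, zero_smul, add_zero] at hpq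
      exact hne ⟨(smul_eq_zero.1 hpq).resolve_right (D.P.ne_zero a), h⟩
    rcases F.dep (a := a) (b := b) (-p) q hq
      (show q • D.P.root b = (-p) • D.P.root a by rw [neg_smul]; exact eq_neg_of_add_eq_zero_right hpq) with h | h
    · exact hab' (D.P.root.injective h).symm
    · exact h0 (by rw [h, add_neg_cancel])
  obtain ⟨mu, -, ha, hb⟩ := RootBase.exists_pos_pair D.P h0 hab
  have hno := RootBase.not_root_of_add_notMem D.P hli hab
  obtain ⟨C, hC, -⟩ := F.exists_comm_global mu ha hb hli (n := 0) finZeroElim finZeroElim finZeroElim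
    (fun k => k.elim0) (fun k => k.elim0) fun d p q hp hq h => absurd h (hno p q d hp hq)
  have h := hC X x y finZeroElim fun k => k.elim0
  rw [List.ofFn_zero, List.prod_nil, _root_.mul_one] at h
  exact mul_inv_eq_iff_eq_mul.1 h

end Groth.Agent.S8458
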