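import Groth.Statements.S8461
import Groth.Agent.RootBase.Rank2
-- import your own Groth.Agent.* helpers here

set_option autoImplicit false
universe u
open CategoryTheory MonoidalCategory CartesianMonoidalCategory MonObj GrpObj AlgebraicGeometry CategoryTheory.Limits
open Red

set_option backward.isDefEq.respectTransparency false

namespace Groth.Agent.S8461

/-- Let G be a pinned reductive S-group: a splitting D (maximal torus T ≅ D_S(M), root datum with root
homomorphisms u_c : 𝔾_a ⟶ G for all roots c, system of simple roots Δ) such that for every simple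
root a the root homomorphisms of a and -a are dual to each other: u_a(x) u_{-a}(y) =
u_{-a}(y/(1+xy)) · a^∨(1+xy) · u_a(x/(1+xy)) whenever 1 + xy is invertible, where a^∨ : 𝔾_m ⟶ T is
the coroot of a read through the splitting. For a root a put w_a = u_a(1) u_{-a}(-1) u_a(1) (an
S-point of G). Let a ≠ b be simple roots with ⟨b, a^∨⟩ = -2 and ⟨a, b^∨⟩ = -1 (the pair spans a
system of type B₂). Then t_{ab} = (w_a w_b)^4 = a^∨(-1) = (w_b w_a)^4. (The published statement is
for a pinned group whose simple roots are exactly a and b; this row states it for two simple roots a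
≠ b of any pinned group.) -/
theorem result (S : Scheme.{u}) (e₁ : 𝟙_ (Over S) ⟶ Red.Ga S) (he₁ : Red.gaFn e₁ = 1)
    (G : Over S) [GrpObj G] (D : Red.Pinning G)
    (avc : D.idx → (Red.Gm S ⟶ D.T))
    (havc : ∀ a, avc a = Red.DSmap S (D.P.coroot a).toAddMonoidHom ≫ D.split.inv.hom.hom)
    (hpair : ∀ a ∈ D.base.support, ∀ (X : Over S) (x y : X ⟶ Red.Ga S), IsUnit (1 + Red.gaFn x * Red.gaFn y) →
        ∃ (x' y' : X ⟶ Red.Ga S) (z : X ⟶ Red.Gm S), Red.gmFn z = 1 + Red.gaFn x * Red.gaFn y ∧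
          Red.gaFn x' * Red.gmFn z = Red.gaFn x ∧ Red.gaFn y' * Red.gmFn z = Red.gaFn y ∧
          (x ≫ D.u a) * (y ≫ D.u (D.P.reflectionPerm a a)) = (y' ≫ D.u (D.P.reflectionPerm a a)) * (z ≫ avc a ≫ D.i) * (x' ≫ D.u a))
    (w : D.idx → (𝟙_ (Over S) ⟶ G))
    (hw : ∀ a, w a = (e₁ ≫ D.u a) * (e₁ ≫ D.u (D.P.reflectionPerm a a))⁻¹ * (e₁ ≫ D.u a))
    (m₁ : 𝟙_ (Over S) ⟶ Red.Gm S) (hm₁ : Red.gmFn m₁ = -1)
    (a b : D.idx) (ha : a ∈ D.base.support) (hb : b ∈ D.base.support) (hne : a ≠ b)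
    (hba : D.P.pairing b a = -2) (hab : D.P.pairing a b = -1) :
    (w a * w b) ^ 4 = m₁ ≫ avc a ≫ D.i ∧ (w b * w a) ^ 4 = m₁ ≫ avc a ≫ D.i := by
  letI := D.grpT
  letI := D.acgM
  letI := D.fintypeIdx
  letI := D.finiteM
  letI := D.freeM
  rcases isEmpty_or_nonempty S with hS | hS
  · have hU : ∀ (Y : Over S) (p q : Y ⟶ G), p = q := fun Y p q => by
      haveI : IsEmpty Y.left := Function.isEmpty Y.hom
      exact Over.OverMorphism.ext (isInitialOfIsEmpty.hom_ext _ _)
    and_intros <;> exact hU _ _ _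
  haveI := RootBase.isReduced_of_splitRed D.toSplitRed
  obtain ⟨F, hcor, Wa, Wb, hli, hbot, hbot', hm⟩ :=
    RootBase.pinned_pair D e₁ he₁ avc havc hpair w hw a b ha hb hne
  obtain ⟨h1, h2, h3, h4, h5⟩ := Wa.sq_facts Wb
  rw [hcor, hba, if_pos (by decide)] at h4
  rw [hcor, hab, if_neg (by decide)] at h5
  rw [hm m₁ hm₁ a ha]
  exact RootBase.braid_four h1 h2 h3 h4 h5 (RootBase.b2_orth hcor F Wa Wb hli hba hab)

end Groth.Agent.S8461
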