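import Groth.Statements.S8465
import Groth.Agent.RootBase.G2
-- import your own Groth.Agent.* helpers here

set_option autoImplicit false
universe u
open CategoryTheory MonoidalCategory CartesianMonoidalCategory MonObj GrpObj AlgebraicGeometry CategoryTheory.Limits
open Red

set_option backward.isDefEq.respectTransparency false

namespace Groth.Agent.S8465

/-- Let G be a pinned reductive S-group: a splitting D (maximal torus T ≅ D_S(M), root datum with root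
homomorphisms u_c : 𝔾_a ⟶ G for all roots c, system of simple roots Δ) such that for every simple
root a the root homomorphisms of a and -a are dual to each other: u_a(x) u_{-a}(y) =
u_{-a}(y/(1+xy)) · a^∨(1+xy) · u_a(x/(1+xy)) whenever 1 + xy is invertible, where a^∨ : 𝔾_m ⟶ T is
the coroot of a read through the splitting. For a root a put w_a = u_a(1) u_{-a}(-1) u_a(1) (an
S-point of G). Let a ≠ b be simple roots with ⟨b, a^∨⟩ = -3 and ⟨a, b^∨⟩ = -1 (type G₂, a the short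
root); put u_{a+b}(x) = w_b u_a(x) w_b⁻¹, u_{2a+b}(x) = (w_a w_b) u_a(x) (w_a w_b)⁻¹, u_{3a+b}(x) =
w_a u_b(-x) w_a⁻¹ and u_{3a+2b}(x) = (w_b w_a) u_b(-x) (w_b w_a)⁻¹. Then for all points x, y of 𝔾_a:
u_b(y) u_a(x) = u_a(x) u_b(y) u_{a+b}(xy) u_{2a+b}(x²y) u_{3a+b}(x³y) u_{3a+2b}(x³y²); u_{a+b}(y)
u_a(x) = u_a(x) u_{a+b}(y) u_{2a+b}(2xy) u_{3a+b}(3x²y) u_{3a+2b}(3xy²); u_{2a+b}(y) u_a(x) = u_a(x)
u_{2a+b}(y) u_{3a+b}(3xy); u_{3a+b}(y) u_b(x) = u_b(x) u_{3a+b}(y) u_{3a+2b}(-xy); u_{2a+b}(y)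
u_{a+b}(x) = u_{a+b}(x) u_{2a+b}(y) u_{3a+2b}(3xy). (The published statement is for a pinned group
whose simple roots are exactly a and b; this row states it for two simple roots a ≠ b of any pinned
group.) -/
theorem result (S : Scheme.{u}) (e₁ : 𝟙_ (Over S) ⟶ Red.Ga S) (he₁ : Red.gaFn e₁ = 1)
    (G : Over S) [GrpObj G] (D : Red.Pinning G)
    (avc : D.idx → (Red.Gm S ⟶ D.T))
    (havc : ∀ a, avc a = Red.DSmap S (D.P.coroot a).toAddMonoidHom ≫ D.split.inv.hom.hom)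
    (hpair : ∀ a ∈ D.base.support, ∀ (X : Over S) (x y : X ⟶ Red.Ga S), IsUnit (1 + Red.gaFn x * Red.gaFn y) →
        ∃ (x' y' : X ⟶ Red.Ga S) (z : X ⟶ Red.Gm S), Red.gmFn z = 1 + Red.gaFn x * Red.gaFn y ∧
          Red.gaFn x' * Red.gmFn z = Red.gaFn x ∧ Red.gaFn y' * Red.gmFn z = Red.gaFn y ∧
          (x ≫ D.u a) * (y ≫ D.u (D.P.reflectionPerm a a)) = (y' ≫ D.u (D.P.reflectionPerm a a)) * (z ≫ avc a ≫ D.i) * (x' ≫ D.u a))
    (w : D.idx → (𝟙_ (Over S) ⟶ G))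
    (hw : ∀ a, w a = (e₁ ≫ D.u a) * (e₁ ≫ D.u (D.P.reflectionPerm a a))⁻¹ * (e₁ ≫ D.u a))
    (a b : D.idx) (ha : a ∈ D.base.support) (hb : b ∈ D.base.support) (hne : a ≠ b)
    (hba : D.P.pairing b a = -3) (hab : D.P.pairing a b = -1)
    (u11 : ∀ X : Over S, (X ⟶ Red.Ga S) → (X ⟶ G))
    (hu11 : ∀ (X : Over S) (x : X ⟶ Red.Ga S), u11 X x = (toUnit X ≫ w b) * (x ≫ D.u a) * (toUnit X ≫ w b)⁻¹)
    (u21 : ∀ X : Over S, (X ⟶ Red.Ga S) → (X ⟶ G))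
    (hu21 : ∀ (X : Over S) (x : X ⟶ Red.Ga S), u21 X x = (toUnit X ≫ (w a * w b)) * (x ≫ D.u a) * (toUnit X ≫ (w a * w b))⁻¹)
    (u31 : ∀ X : Over S, (X ⟶ Red.Ga S) → (X ⟶ G))
    (hu31 : ∀ (X : Over S) (x : X ⟶ Red.Ga S), u31 X x = (toUnit X ≫ w a) * (x ≫ D.u b)⁻¹ * (toUnit X ≫ w a)⁻¹)
    (u32 : ∀ X : Over S, (X ⟶ Red.Ga S) → (X ⟶ G))
    (hu32 : ∀ (X : Over S) (x : X ⟶ Red.Ga S), u32 X x = (toUnit X ≫ (w b * w a)) * (x ≫ D.u b)⁻¹ * (toUnit X ≫ (w b * w a))⁻¹)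
    (X : Over S) (x y c11 c21 c31 c32 d21 d31 d32 f31 g32 k32 : X ⟶ Red.Ga S)
    (h11 : Red.gaFn c11 = Red.gaFn x * Red.gaFn y) (h21 : Red.gaFn c21 = Red.gaFn x ^ 2 * Red.gaFn y)
    (h31 : Red.gaFn c31 = Red.gaFn x ^ 3 * Red.gaFn y) (h32 : Red.gaFn c32 = Red.gaFn x ^ 3 * Red.gaFn y ^ 2)
    (hd21 : Red.gaFn d21 = 2 * Red.gaFn x * Red.gaFn y) (hd31 : Red.gaFn d31 = 3 * Red.gaFn x ^ 2 * Red.gaFn y)
    (hd32 : Red.gaFn d32 = 3 * Red.gaFn x * Red.gaFn y ^ 2) (hf31 : Red.gaFn f31 = 3 * Red.gaFn x * Red.gaFn y)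
    (hg32 : Red.gaFn g32 = - (Red.gaFn x * Red.gaFn y)) (hk32 : Red.gaFn k32 = 3 * Red.gaFn x * Red.gaFn y) :
    (y ≫ D.u b) * (x ≫ D.u a) = (x ≫ D.u a) * (y ≫ D.u b) * u11 X c11 * u21 X c21 * u31 X c31 * u32 X c32 ∧
      u11 X y * (x ≫ D.u a) = (x ≫ D.u a) * u11 X y * u21 X d21 * u31 X d31 * u32 X d32 ∧
      u21 X y * (x ≫ D.u a) = (x ≫ D.u a) * u21 X y * u31 X f31 ∧
      u31 X y * (x ≫ D.u b) = (x ≫ D.u b) * u31 X y * u32 X g32 ∧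
      u21 X y * u11 X x = u11 X x * u21 X y * u32 X k32 := by
  letI := D.grpT
  letI := D.acgM
  letI := D.fintypeIdx
  letI := D.finiteM
  letI := D.freeM
  rcases isEmpty_or_nonempty S with hS | hS
  · have hU : ∀ (Y : Over S) (p q : Y ⟶ G), p = q := fun Y p q => by
      haveI : IsEmpty Y.left := Function.isEmpty Y.hom
      exact Over.OverMorphism.ext (isInitialOfIsEmpty.hom_ext _ _)
    and_intros <;> exact hU _ _ _
  haveI := RootBase.isReduced_of_splitRed D.toSplitRed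
  obtain ⟨F, hcor, Wa, Wb, hli, hbot, hbot', hm⟩ :=
    RootBase.pinned_pair D e₁ he₁ avc havc hpair w hw a b ha hb hne
  obtain ⟨v, r₁, r₂, r₃, r₄, H, va, vb, v1, v2, v3, v4⟩ := RootBase.exists_g2 F hcor Wa Wb hli hbot hba hab
  obtain ⟨⟨C, hf, rfl⟩, ⟨C₁, hf₁, rfl⟩, ⟨C₂, hf₂, rfl⟩, ⟨C₃, hf₃, rfl⟩, ⟨C₄, hf₄, rfl⟩⟩ := H.formulas
  haveI := (F.hu a).1
  haveI := (F.hu b).1
  haveI := (H.frame.hu r₁).1
  haveI := (H.frame.hu r₃).1
  haveI := (H.frame.hu r₄).1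
  haveI : IsMonHom (v a) := (H.frame.hu a).1
  haveI : IsMonHom (v b) := (H.frame.hu b).1
  have q11 : ∀ z : X ⟶ Red.Ga S, u11 X z = z ≫ v r₁ := fun z => by rw [hu11, v1, RootBase.comp_cj]; rfl
  have q21 : ∀ z : X ⟶ Red.Ga S, u21 X z = z ≫ v r₂ := fun z => by
    rw [hu21, v2, RootBase.comp_cj, RootBase.comp_cj, RootBase.cj_cj]; rfl
  have q31 : ∀ z : X ⟶ Red.Ga S, u31 X z = z⁻¹ ≫ v r₃ := fun z => by
    rw [hu31, v3, RootBase.comp_cj, GrpObj.inv_comp]; rfl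
  have q32 : ∀ z : X ⟶ Red.Ga S, u32 X z = z⁻¹ ≫ v r₄ := fun z => by
    rw [hu32, v4, RootBase.comp_cj, RootBase.comp_cj, RootBase.cj_cj, GrpObj.inv_comp]; rfl
  simp only [q11, q21, q31, q32]
  rw [← va, ← vb]
  refine ⟨?_, ?_, ?_, ?_, ?_⟩
  · have h := hf.eq X x⁻¹ y ![c11, c21, c31⁻¹, c32⁻¹] fun k => by
      fin_cases k <;> simp [RootBase.gaFn_inv, h11, h21, h31, h32] <;> ring
    rw [RootBase.exchange, h]
    simp [List.ofFn_succ, _root_.mul_assoc]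
  · have h := hf₁.eq X x⁻¹ y ![d21, d31⁻¹, d32⁻¹] fun k => by
      fin_cases k <;> simp [RootBase.gaFn_inv, hd21, hd31, hd32, map_ofNat] <;> ring
    rw [RootBase.exchange, h]
    simp [List.ofFn_succ, _root_.mul_assoc]
  · have h := hf₂.eq X x⁻¹ y ![f31⁻¹] fun k => by
      fin_cases k; simp [RootBase.gaFn_inv, hf31, map_ofNat]
    rw [RootBase.exchange, h]
    simp [List.ofFn_succ, _root_.mul_assoc]
  · have h := hf₃.eq X x⁻¹ y⁻¹ ![g32⁻¹] fun k => by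
      fin_cases k; simp [RootBase.gaFn_inv, hg32]
    rw [RootBase.exchange, h]
    simp [List.ofFn_succ, _root_.mul_assoc]
  · have h := hf₄.eq X x⁻¹ y ![k32⁻¹] fun k => by
      fin_cases k; simp [RootBase.gaFn_inv, hk32, map_ofNat]
    rw [RootBase.exchange, h]
    simp [List.ofFn_succ, _root_.mul_assoc]

end Groth.Agent.S8465
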