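import Groth.Statements.S8468
import Groth.Agent.RootBase.MorphHom
-- import your own Groth.Agent.* helpers here

set_option autoImplicit false
universe u
open CategoryTheory MonoidalCategory CartesianMonoidalCategory MonObj GrpObj AlgebraicGeometry CategoryTheory.Limits
open Red

set_option backward.isDefEq.respectTransparency false
set_option maxHeartbeats 1000000
set_option synthInstance.maxHeartbeats 400000

namespace Groth.Agent.S8468

/-- Full faithfulness of the pinned-root-datum functor: p-morphisms: Let S be a non-empty scheme and G,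
G' two pinned reductive S-groups: splittings D, D' (tori T ≅ D_S(M), T' ≅ D_S(M'), root
homomorphisms for all roots, simple roots) in which for each simple root a the root homomorphisms of
a and -a are dual (u_a(x) u_{-a}(y) = u_{-a}(y/(1+xy)) a^∨(1+xy) u_a(x/(1+xy)) for 1 + xy
invertible, a^∨ the coroot read through the splitting). Let p > 0 be an integer such that x ↦ x^p is
additive on functions of S-schemes, and let (h, d, q) be a p-morphism of pinned root data from that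
of G' to that of G: h : M' → M linear, d a bijection from the roots of G to those of G' carrying
simple roots onto simple roots, q(a) a power of p, with h(d(a)) = q(a) a and ᵗh(a^∨) = q(a) d(a)^∨
for every root a. Then there is exactly one homomorphism f : G ⟶ G' which induces D_S(h) : T ⟶ T' on
the tori and satisfies f(u_a(x)) = u'_{d(a)}(x^{q(a)}) and f(u_{-a}(x)) = u'_{-d(a)}(x^{q(a)}) for
every simple root a and every point x of 𝔾_a. -/
theorem result (S : Scheme.{u}) [Nonempty S] (e₁ : 𝟙_ (Over S) ⟶ Red.Ga S) (he₁ : Red.gaFn e₁ = 1)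
    (G : Over S) [GrpObj G] (D : Red.Pinning G)
    (avc : D.idx → (Red.Gm S ⟶ D.T))
    (havc : ∀ a, avc a = Red.DSmap S (D.P.coroot a).toAddMonoidHom ≫ D.split.inv.hom.hom)
    (hpair : ∀ a ∈ D.base.support, ∀ (X : Over S) (x y : X ⟶ Red.Ga S), IsUnit (1 + Red.gaFn x * Red.gaFn y) →
        ∃ (x' y' : X ⟶ Red.Ga S) (z : X ⟶ Red.Gm S), Red.gmFn z = 1 + Red.gaFn x * Red.gaFn y ∧
          Red.gaFn x' * Red.gmFn z = Red.gaFn x ∧ Red.gaFn y' * Red.gmFn z = Red.gaFn y ∧
          (x ≫ D.u a) * (y ≫ D.u (D.P.reflectionPerm a a)) = (y' ≫ D.u (D.P.reflectionPerm a a)) * (z ≫ avc a ≫ D.i) * (x' ≫ D.u a))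
    (G' : Over S) [GrpObj G'] (D' : Red.Pinning G')
    (avc' : D'.idx → (Red.Gm S ⟶ D'.T))
    (havc' : ∀ a, avc' a = Red.DSmap S (D'.P.coroot a).toAddMonoidHom ≫ D'.split.inv.hom.hom)
    (hpair' : ∀ a ∈ D'.base.support, ∀ (X : Over S) (x y : X ⟶ Red.Ga S), IsUnit (1 + Red.gaFn x * Red.gaFn y) →
        ∃ (x' y' : X ⟶ Red.Ga S) (z : X ⟶ Red.Gm S), Red.gmFn z = 1 + Red.gaFn x * Red.gaFn y ∧
          Red.gaFn x' * Red.gmFn z = Red.gaFn x ∧ Red.gaFn y' * Red.gmFn z = Red.gaFn y ∧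
          (x ≫ D'.u a) * (y ≫ D'.u (D'.P.reflectionPerm a a)) = (y' ≫ D'.u (D'.P.reflectionPerm a a)) * (z ≫ avc' a ≫ D'.i) * (x' ≫ D'.u a))
    (p : ℕ) (hp0 : 0 < p) (hp : ∀ (X : Over S) (a b : Γ(X.left, ⊤)), (a + b) ^ p = a ^ p + b ^ p)
    (hM : D'.M →ₗ[ℤ] D.M) (d : D.idx ≃ D'.idx) (q : D.idx → ℕ) (hq : ∀ a, ∃ n : ℕ, q a = p ^ n)
    (hroot : ∀ a, hM (D'.P.root (d a)) = (q a : ℤ) • D.P.root a)
    (hcoroot : ∀ a, hM.dualMap (D.P.coroot a) = (q a : ℤ) • D'.P.coroot (d a))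
    (hΔ : ∀ a, a ∈ D.base.support ↔ d a ∈ D'.base.support) :
    ∃! f : G ⟶ G', IsMonHom f ∧
      D.i ≫ f = D.split.hom.hom.hom ≫ Red.DSmap S hM.toAddMonoidHom ≫ D'.split.inv.hom.hom ≫ D'.i ∧
      ∀ a ∈ D.base.support, ∀ (X : Over S) (x y : X ⟶ Red.Ga S), Red.gaFn y = Red.gaFn x ^ q a →
        (x ≫ D.u a) ≫ f = y ≫ D'.u (d a) ∧
          (x ≫ D.u (D.P.reflectionPerm a a)) ≫ f = y ≫ D'.u (D'.P.reflectionPerm (d a) (d a)) := by
  letI := D.grpT; letI := D.acgM; letI := D.fintypeIdx; letI := D.finiteM; letI := D.freeM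
  letI := D'.grpT; letI := D'.acgM; letI := D'.fintypeIdx; letI := D'.finiteM; letI := D'.freeM
  haveI := RootBase.isReduced_of_splitRed D.toSplitRed
  haveI := RootBase.isReduced_of_splitRed D'.toSplitRed
  have Φ : RootBase.PData S D.P D'.P hM d q :=
    RootBase.PData.of_pMorphism D.pairing_eq D'.pairing_eq p hp0 hp hq hroot hcoroot
  have H := RootBase.pinned_weylSys D e₁ he₁ avc havc hpair _ (fun _ => rfl)
  have H' := RootBase.pinned_weylSys D' e₁ he₁ avc' havc' hpair' _ (fun _ => rfl)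
  have h1 : D.split.inv.hom.hom ≫ D.split.hom.hom.hom = 𝟙 _ := congrArg (fun z => z.hom.hom) D.split.inv_hom_id
  have h2 : D.split.hom.hom.hom ≫ D.split.inv.hom.hom = 𝟙 _ := congrArg (fun z => z.hom.hom) D.split.hom_inv_id
  have hiff : ∀ k : G ⟶ G',
      (D.split.inv.hom.hom ≫ D.i) ≫ k = Red.DSmap S hM.toAddMonoidHom ≫ D'.split.inv.hom.hom ≫ D'.i ↔
      D.i ≫ k = D.split.hom.hom.hom ≫ Red.DSmap S hM.toAddMonoidHom ≫ D'.split.inv.hom.hom ≫ D'.i := fun k => by
    constructor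
    · intro hk
      rw [← hk]
      simp only [Category.assoc, reassoc_of% h2]
    · intro hk
      rw [Category.assoc, hk, reassoc_of% h1]
  have rr : ∀ {K : Over S} [GrpObj K] (E : Red.Pinning K) (av : E.idx → (Red.Gm S ⟶ E.T)),
      letI := E.acgM
      letI := E.grpT
      (∀ a, av a = Red.DSmap S (E.P.coroot a).toAddMonoidHom ≫ E.split.inv.hom.hom) →
      (∀ a ∈ E.base.support, ∀ (X : Over S) (x y : X ⟶ Red.Ga S), IsUnit (1 + Red.gaFn x * Red.gaFn y) →
        ∃ (x' y' : X ⟶ Red.Ga S) (z : X ⟶ Red.Gm S), Red.gmFn z = 1 + Red.gaFn x * Red.gaFn y ∧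
          Red.gaFn x' * Red.gmFn z = Red.gaFn x ∧ Red.gaFn y' * Red.gmFn z = Red.gaFn y ∧
          (x ≫ E.u a) * (y ≫ E.u (E.P.reflectionPerm a a)) =
            (y' ≫ E.u (E.P.reflectionPerm a a)) * (z ≫ av a ≫ E.i) * (x' ≫ E.u a)) →
      ∀ a ∈ E.base.support, RootBase.RankRel (E.split.inv.hom.hom ≫ E.i) (E.P.coroot a).toAddMonoidHom
        (E.u a) (E.u (E.P.reflectionPerm a a)) := fun E av hav hpe a ha X x y hxy => by
    obtain ⟨x', y', z, g1, g2, g3, g4⟩ := hpe a ha X x y hxy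
    exact ⟨x', y', z, g1, g2, g3, by rw [g4, hav]; simp only [Category.assoc]⟩
  refine (existsUnique_congr fun f => ?_).1
    (Φ.existsUnique_hom hΔ D.pairing_eq H H' (rr D avc havc hpair) (rr D' avc' havc' hpair'))
  exact and_congr_right fun _ => and_congr (hiff f) Iff.rfl

end Groth.Agent.S8468
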