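import Groth.Statements.S8469
import Groth.Agent.RootBase.IsoSplit
import Groth.Agent.RootBase.SplitBC
-- import your own Groth.Agent.* helpers here

set_option autoImplicit false
universe u
open CategoryTheory MonoidalCategory CartesianMonoidalCategory MonObj GrpObj AlgebraicGeometry CategoryTheory.Limits
open Red

set_option backward.isDefEq.respectTransparency false

namespace Groth.Agent.S8469

/-- Let G and G' be reductive S-groups each admitting a splitting, and let s be a point of S such that
the geometric fibres G_{s̄} and G'_{s̄} have the same type: both are split of type Q for one root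
datum Q. Then G and G' are isomorphic as S-group schemes. -/
theorem result (S : Scheme.{u}) (G G' : Over S) [GrpObj G] [GrpObj G']
    (D : Red.SplitRed G) (D' : Red.SplitRed G') (s : S)
    {ι' M' N' : Type} [AddCommGroup M'] [Module ℤ M'] [AddCommGroup N'] [Module ℤ N'] (Q : RootPairing ι' ℤ M' N')
    (hs : Red.IsSplitOfType Q (Red.geomFibre s G)) (hs' : Red.IsSplitOfType Q (Red.geomFibre s G')) :
    Nonempty (Grp.mk G ≅ Grp.mk G') := by
  obtain ⟨Ds, ⟨e⟩⟩ := RootBase.exists_bc D (Red.geomPt s)
  obtain ⟨Ds', ⟨e'⟩⟩ := RootBase.exists_bc D' (Red.geomPt s)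
  obtain ⟨Q₁, ⟨q₁⟩⟩ := hs
  obtain ⟨Q₂, ⟨q₂⟩⟩ := hs'
  obtain ⟨c₁⟩ := RootBase.nonempty_equiv_of_algClosed Q₁ Ds
  obtain ⟨c₂⟩ := RootBase.nonempty_equiv_of_algClosed Ds' Q₂
  refine RootBase.nonempty_iso_of_equiv D D' (RootPairing.Equiv.comp e ?_)
  exact RootPairing.Equiv.comp c₁ (RootPairing.Equiv.comp (RootPairing.Equiv.symm _ _ q₁)
    (RootPairing.Equiv.comp q₂ (RootPairing.Equiv.comp c₂ (RootPairing.Equiv.symm _ _ e'))))

end Groth.Agent.S8469
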