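import Groth.Statements.S8471
import Mathlib

set_option autoImplicit false
open Red

namespace Groth.Agent.S8471

/-- Let k be a field and F ∈ k(X) a rational function whose denominator does not vanish at 0 and with
F(0) = 1. Suppose that in the field of fractions L of k[X₀, X₁] one has F(X₀ + X₁ · F(X₀)) = F(X₀) ·
F(X₁) (the functional equation F(x + y F(x)) = F(x) F(y)). Then there is a ∈ k with F = 1 + a X.
(The published statement takes the identity on an open neighbourhood of the origin of 𝔾_a × 𝔾_a on
which all terms are defined; this row takes it as an identity of rational functions in two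
variables.) -/
theorem result (k : Type) [Field k] (F : RatFunc k)
    (h0 : F.denom.eval 0 ≠ 0) (h1 : F.num.eval 0 = F.denom.eval 0)
    (hFE : RatFunc.eval (algebraMap k (FractionRing (MvPolynomial (Fin 2) k)))
        (algebraMap (MvPolynomial (Fin 2) k) (FractionRing (MvPolynomial (Fin 2) k)) (MvPolynomial.X 0) +
          algebraMap (MvPolynomial (Fin 2) k) (FractionRing (MvPolynomial (Fin 2) k)) (MvPolynomial.X 1) *
            RatFunc.eval (algebraMap k (FractionRing (MvPolynomial (Fin 2) k)))
              (algebraMap (MvPolynomial (Fin 2) k) (FractionRing (MvPolynomial (Fin 2) k)) (MvPolynomial.X 0)) F) F =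
      RatFunc.eval (algebraMap k (FractionRing (MvPolynomial (Fin 2) k)))
          (algebraMap (MvPolynomial (Fin 2) k) (FractionRing (MvPolynomial (Fin 2) k)) (MvPolynomial.X 0)) F *
        RatFunc.eval (algebraMap k (FractionRing (MvPolynomial (Fin 2) k)))
          (algebraMap (MvPolynomial (Fin 2) k) (FractionRing (MvPolynomial (Fin 2) k)) (MvPolynomial.X 1)) F) :
    ∃ a : k, F = 1 + RatFunc.C a * RatFunc.X := by
  classical
  let L := FractionRing (MvPolynomial (Fin 2) k)
  let ι₂ := algebraMap (MvPolynomial (Fin 2) k) L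
  let x : L := ι₂ (MvPolynomial.X 0)
  let y : L := ι₂ (MvPolynomial.X 1)
  have hιinj : Function.Injective ι₂ := IsFractionRing.injective _ L
  have htr : ∀ (i : Fin 2) (p : Polynomial k), Polynomial.eval₂ (algebraMap k L) (ι₂ (MvPolynomial.X i)) p =
      ι₂ (Polynomial.aeval (MvPolynomial.X i) p) := fun i p => by
    rw [Polynomial.aeval_def, Polynomial.hom_eval₂, ← IsScalarTower.algebraMap_eq]
  have htr0 : ∀ (i : Fin 2) (p : Polynomial k), p ≠ 0 →
      Polynomial.eval₂ (algebraMap k L) (ι₂ (MvPolynomial.X i)) p ≠ 0 := fun i p hp h => by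
    rw [htr, map_eq_zero_iff _ hιinj] at h
    have h2 := congrArg (MvPolynomial.aeval fun _ : Fin 2 => (Polynomial.X : Polynomial k)) h
    rw [← Polynomial.aeval_algHom_apply, MvPolynomial.aeval_X, map_zero, Polynomial.aeval_X_left_apply] at h2
    exact hp h2
  let P := F.num
  let Q := F.denom
  have hQ0 : Q ≠ 0 := F.denom_ne_zero
  have hP0 : P ≠ 0 := fun h => h0 (by rw [← h1, show F.num = 0 from h, Polynomial.eval_zero])
  let ev : L → Polynomial k → L := fun a p => Polynomial.eval₂ (algebraMap k L) a p
  let c : L := ev x P / ev x Q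
  let Z : L := x + y * c
  have hFE' : ev Z P / ev Z Q = ev x P / ev x Q * (ev y P / ev y Q) := hFE
  have hZ : ev Z Q ≠ 0 := by
    intro h
    rw [h, div_zero] at hFE'
    exact mul_ne_zero (div_ne_zero (htr0 0 P hP0) (htr0 0 Q hQ0)) (div_ne_zero (htr0 1 P hP0) (htr0 1 Q hQ0)) hFE'.symm
  have hid : ev Z P * (ev x Q * ev y Q) = ev x P * ev y P * ev Z Q := by
    rw [div_mul_div_comm, div_eq_div_iff hZ (mul_ne_zero (htr0 0 Q hQ0) (htr0 1 Q hQ0))] at hFE'
    exact hFE'
  let ψ : Polynomial k →ₐ[k] L := Polynomial.aeval x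
  have hψ : nonZeroDivisors (Polynomial k) ≤ (nonZeroDivisors L).comap ψ := fun p hp =>
    mem_nonZeroDivisors_iff_ne_zero.2 (htr0 0 p (nonZeroDivisors.ne_zero hp))
  let φ : RatFunc k →ₐ[k] L := RatFunc.liftAlgHom ψ hψ
  have hφp : ∀ p : Polynomial k, φ (algebraMap (Polynomial k) (RatFunc k) p) = ev x p := fun p => by
    simp [φ, ψ, ev, Polynomial.aeval_def, RatFunc.liftAlgHom_apply]
  let Ψ : Polynomial (RatFunc k) →+* L := Polynomial.eval₂RingHom φ.toRingHom y
  have hΨinj : Function.Injective Ψ := by
    refine (injective_iff_map_eq_zero Ψ).2 fun f hf => ?_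
    obtain ⟨⟨d, hd⟩, hdf⟩ := IsLocalization.integerNormalization_map_to_map (nonZeroDivisors (Polynomial k)) f
    set q := IsLocalization.integerNormalization (nonZeroDivisors (Polynomial k)) f
    let χ : Polynomial (Polynomial k) →+* MvPolynomial (Fin 2) k :=
      Polynomial.eval₂RingHom (Polynomial.aeval (MvPolynomial.X 0)).toRingHom (MvPolynomial.X 1)
    let χ' : MvPolynomial (Fin 2) k →ₐ[k] Polynomial (Polynomial k) :=
      MvPolynomial.aeval ![Polynomial.C Polynomial.X, Polynomial.X]
    have hχ : Function.Injective χ := by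
      refine Function.LeftInverse.injective (g := χ') fun g => ?_
      have : χ'.toRingHom.comp χ = RingHom.id _ := by
        refine Polynomial.ringHom_ext (fun a => ?_) ?_
        · have h1 : (χ'.comp (Polynomial.aeval (MvPolynomial.X 0))) =
              (Polynomial.CAlgHom (R := k) (A := Polynomial k)) :=
            Polynomial.algHom_ext (by simp [χ'])
          simpa [χ] using AlgHom.congr_fun h1 a
        · simp [χ, χ']
      exact RingHom.congr_fun this g
    have h2 : Ψ (q.map (algebraMap (Polynomial k) (RatFunc k))) = ι₂ (χ q) := by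
      show Polynomial.eval₂ φ.toRingHom y (q.map _) = ι₂ (Polynomial.eval₂ _ _ q)
      rw [Polynomial.eval₂_map, Polynomial.hom_eval₂]
      congr 1
      refine RingHom.ext fun a => ?_
      show φ (algebraMap _ _ a) = ι₂ (Polynomial.aeval (MvPolynomial.X 0) a)
      rw [hφp, ← htr]
    rw [hdf, Algebra.smul_def, map_mul, hf, mul_zero, eq_comm, map_eq_zero_iff _ hιinj, map_eq_zero_iff _ hχ] at h2
    rw [h2, Polynomial.map_zero, Algebra.smul_def, eq_comm, mul_eq_zero] at hdf
    refine hdf.resolve_left fun h => ?_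
    rw [Polynomial.algebraMap_apply, Polynomial.C_eq_zero, map_eq_zero_iff _ (IsFractionRing.injective (Polynomial k) (RatFunc k))] at h
    exact nonZeroDivisors.ne_zero hd h
  let pR := algebraMap (Polynomial k) (RatFunc k)
  let cR : RatFunc k := pR P / pR Q
  let ZR : Polynomial (RatFunc k) := Polynomial.C (RatFunc.X) + Polynomial.X * Polynomial.C cR
  let evR : Polynomial (RatFunc k) → Polynomial k → Polynomial (RatFunc k) := fun a p => Polynomial.aeval a p
  have hevΨ : ∀ (a : Polynomial (RatFunc k)) (p : Polynomial k), Ψ (evR a p) = ev (Ψ a) p := by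
    intro a p
    simp only [evR, ev, Polynomial.aeval_def, Polynomial.hom_eval₂]
    congr 1
    refine RingHom.ext fun z => ?_
    show Polynomial.eval₂ φ.toRingHom y (algebraMap k (Polynomial (RatFunc k)) z) = _
    rw [Polynomial.algebraMap_apply, Polynomial.eval₂_C]
    exact φ.commutes z
  have hΨC : ∀ z, Ψ (Polynomial.C z) = φ z := fun z => Polynomial.eval₂_C _ _
  have hφX : φ RatFunc.X = x := by
    rw [← RatFunc.algebraMap_X, hφp]; exact Polynomial.eval₂_X _ _
  have hΨX : Ψ Polynomial.X = y := Polynomial.eval₂_X _ _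
  have hidR : evR ZR P * (Polynomial.C (pR Q) * evR Polynomial.X Q) =
      Polynomial.C (pR P) * evR Polynomial.X P * evR ZR Q := by
    apply hΨinj
    have hZR : Ψ ZR = Z := by
      simp only [ZR, map_add, map_mul, hΨC, hΨX, hφX, cR, map_div₀, pR, hφp, Z, c]
    simp only [map_mul, hevΨ, hΨC, pR, hφp, hZR, hΨX]
    exact hid
  let Ω := AlgebraicClosure (RatFunc k)
  let xΩ : Ω := algebraMap (RatFunc k) Ω RatFunc.X
  have hxtr : Transcendental k xΩ := by
    rw [transcendental_algebraMap_iff (algebraMap (RatFunc k) Ω).injective, ← RatFunc.algebraMap_X,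
      transcendental_algebraMap_iff (IsFractionRing.injective (Polynomial k) (RatFunc k))]
    exact Polynomial.transcendental_X k
  have hpR : ∀ p, algebraMap (RatFunc k) Ω (pR p) = Polynomial.aeval xΩ p := by
    intro p
    rw [← Polynomial.aeval_X_left_apply p, ← Polynomial.aeval_algebraMap_apply, RatFunc.algebraMap_X,
      ← Polynomial.aeval_algebraMap_apply, Polynomial.aeval_X_left_apply]
  have key : ∀ z : Ω, Polynomial.aeval (xΩ + z * algebraMap (RatFunc k) Ω cR) P * (Polynomial.aeval xΩ Q * Polynomial.aeval z Q) =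
      Polynomial.aeval xΩ P * Polynomial.aeval z P * Polynomial.aeval (xΩ + z * algebraMap (RatFunc k) Ω cR) Q := by
    intro z
    let E : Polynomial (RatFunc k) →ₐ[k] Ω := (Polynomial.aeval z : Polynomial (RatFunc k) →ₐ[RatFunc k] Ω).restrictScalars k
    have h := congrArg E hidR
    have hEC : ∀ a, E (Polynomial.C a) = algebraMap (RatFunc k) Ω a := fun a => Polynomial.aeval_C z a
    have hEX : E Polynomial.X = z := Polynomial.aeval_X z
    simp only [evR, map_mul, ← Polynomial.aeval_algHom_apply, ZR, map_add, hEC, hEX, hpR] at h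
    exact h
  have hlin : ∀ z : Ω, (Polynomial.aeval z P = 0 ∨ Polynomial.aeval z Q = 0) → Q.natDegree = 0 ∧ P.natDegree ≤ 1 := by
    intro z hz
    set w := xΩ + z * algebraMap (RatFunc k) Ω cR with hwdef
    have hcop : ∀ u : Ω, ¬ (Polynomial.aeval u P = 0 ∧ Polynomial.aeval u Q = 0) := fun u ⟨hu1, hu2⟩ => by
      obtain ⟨α, β, hαβ⟩ := F.isCoprime_num_denom
      have := congrArg (Polynomial.aeval u) hαβ
      rw [map_add, map_mul, map_mul, show Polynomial.aeval u F.num = 0 from hu1,
        show Polynomial.aeval u F.denom = 0 from hu2, map_one, mul_zero, mul_zero, add_zero] at this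
      exact zero_ne_one this
    have hxP : Polynomial.aeval xΩ P ≠ 0 := fun h => hxtr ⟨P, hP0, h⟩
    have hxQ : Polynomial.aeval xΩ Q ≠ 0 := fun h => hxtr ⟨Q, hQ0, h⟩
    have hw : IsAlgebraic k w := by
      have h := key z
      rw [← hwdef] at h
      rcases hz with hz | hz
      · have hzQ : Polynomial.aeval z Q ≠ 0 := fun hq => hcop z ⟨hz, hq⟩
        rw [hz, mul_zero, zero_mul, mul_eq_zero] at h
        exact ⟨P, hP0, h.resolve_right (mul_ne_zero hxQ hzQ)⟩
      · have hzP : Polynomial.aeval z P ≠ 0 := fun hp => hcop z ⟨hp, hz⟩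
        rw [hz, mul_zero, mul_zero, eq_comm, mul_eq_zero] at h
        exact ⟨Q, hQ0, h.resolve_left (mul_ne_zero hxP hzP)⟩
    have hza : IsAlgebraic k z := hz.elim (fun h => ⟨P, hP0, h⟩) (fun h => ⟨Q, hQ0, h⟩)
    have hz0 : z ≠ 0 := by
      rintro rfl
      have e : ∀ p : Polynomial k, Polynomial.aeval (0 : Ω) p = algebraMap k Ω (p.eval 0) := fun p => by
        rw [← map_zero (algebraMap k Ω), Polynomial.aeval_algebraMap_apply, Polynomial.coe_aeval_eq_eval]
      rw [e, e, map_eq_zero, map_eq_zero, show P.eval 0 = F.num.eval 0 from rfl, h1, or_self] at hz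
      exact h0 hz
    let k' := algebraicClosure k Ω
    haveI : Algebra.IsAlgebraic k k' := inferInstance
    have hx' : Transcendental k' xΩ := hxtr.extendScalars k'
    let z' : k' := ⟨z, mem_algebraicClosure_iff.2 hza⟩
    let w' : k' := ⟨w, mem_algebraicClosure_iff.2 hw⟩
    let P' := P.map (algebraMap k k')
    let Q' := Q.map (algebraMap k k')
    have heq : P' * Polynomial.C z' = (Polynomial.C w' - Polynomial.X) * Q' := by
      refine sub_eq_zero.1 ?_
      by_contra hne
      refine hx' ⟨_, hne, ?_⟩
      simp only [map_sub, map_mul, P', Q', Polynomial.aeval_map_algebraMap, Polynomial.aeval_C, Polynomial.aeval_X]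
      show Polynomial.aeval xΩ P * z - (w - xΩ) * Polynomial.aeval xΩ Q = 0
      simp only [hwdef, cR, map_div₀, hpR, add_sub_cancel_left]
      rw [mul_assoc, div_mul_cancel₀ _ hxQ, mul_comm z, sub_self]
    have hdvd : Q' ∣ Polynomial.C z' := by
      have hc' : IsCoprime Q' P' := (F.isCoprime_num_denom.symm).map (Polynomial.mapRingHom (algebraMap k k'))
      exact hc'.dvd_of_dvd_mul_left (heq ▸ dvd_mul_left _ _)
    have hz'0 : z' ≠ 0 := fun h => hz0 (congrArg Subtype.val h)
    have hQd : Q.natDegree = 0 := by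
      have := Polynomial.natDegree_le_of_dvd hdvd (Polynomial.C_ne_zero.2 hz'0)
      rw [Polynomial.natDegree_C, Polynomial.natDegree_map] at this
      omega
    refine ⟨hQd, ?_⟩
    have h2 := congrArg Polynomial.natDegree heq
    rw [Polynomial.natDegree_mul_C hz'0, Polynomial.natDegree_map] at h2
    rw [h2]
    refine Polynomial.natDegree_mul_le.trans ?_
    rw [Polynomial.natDegree_map, hQd, add_zero]
    exact (Polynomial.natDegree_sub_le _ _).trans (by simp)
  have hdeg : Q.natDegree = 0 ∧ P.natDegree ≤ 1 := by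
    by_cases hP : P.degree = 0
    · by_cases hQ : Q.degree = 0
      · exact ⟨Polynomial.natDegree_eq_of_degree_eq_some hQ, by
          rw [Polynomial.natDegree_eq_of_degree_eq_some hP]; exact zero_le_one⟩
      · obtain ⟨z, hz⟩ := IsAlgClosed.exists_root (Q.map (algebraMap k Ω)) (by rwa [Polynomial.degree_map])
        exact hlin z (Or.inr (by rwa [Polynomial.IsRoot, Polynomial.eval_map, ← Polynomial.aeval_def] at hz))
    · obtain ⟨z, hz⟩ := IsAlgClosed.exists_root (P.map (algebraMap k Ω)) (by rwa [Polynomial.degree_map])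
      exact hlin z (Or.inl (by rwa [Polynomial.IsRoot, Polynomial.eval_map, ← Polynomial.aeval_def] at hz))
  have hQ1 : Q = 1 := F.monic_denom.natDegree_eq_zero.1 hdeg.1
  refine ⟨P.coeff 1, ?_⟩
  conv_lhs => rw [← F.num_div_denom]
  rw [show F.denom = 1 from hQ1, map_one, div_one]
  rw [show F.denom = 1 from hQ1, Polynomial.eval_one, ← Polynomial.coeff_zero_eq_eval_zero] at h1
  rw [Polynomial.eq_X_add_C_of_natDegree_le_one (show F.num.natDegree ≤ 1 from hdeg.2), h1]
  simp [add_comm]
  exact Or.inl rfl

end Groth.Agent.S8471
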