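import Groth.Statements.S8473
import Groth.Agent.RedR1.TorusCover
import Mathlib.AlgebraicGeometry.AlgClosed.Basic
import Mathlib.AlgebraicGeometry.Morphisms.FlatMono
import Groth.Agent.FpqcDescent.Sep
import Groth.Agent.SpQS.DegRank

set_option autoImplicit false
universe u
open CategoryTheory MonoidalCategory CartesianMonoidalCategory MonObj GrpObj AlgebraicGeometry CategoryTheory.Limits
open Red

namespace Groth.Agent.S8473

/-- Let k be an algebraically closed field, T a k-torus, α : T ⟶ 𝔾_m a non-trivial character and P the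
semi-direct product T ⋉_α 𝔾_a, given as a k-group P with homomorphisms j_T : T ⟶ P and j_U : 𝔾_a ⟶ P
such that (t, x) ↦ j_T(t) j_U(x) is an isomorphism of schemes T × 𝔾_a ≅ P and j_T(t) j_U(x) j_T(t)⁻¹
= j_U(α(t) x). Let n : N ⟶ P be a normal subgroup scheme which is étale over k and such that N ∩ T
is trivial (a point of N whose image is in j_T(T) is the unit). Then N is the trivial group. -/
theorem result (K : Type u) [Field K] [IsAlgClosed K]
    (T P N : Over (Spec (CommRingCat.of K))) [GrpObj T] [GrpObj P] [GrpObj N] (hT : Red.IsTorus T)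
    (α : T ⟶ Red.Gm (Spec (CommRingCat.of K))) [IsMonHom α] (hα : α ≠ 1)
    (jT : T ⟶ P) [IsMonHom jT] (jU : Red.Ga (Spec (CommRingCat.of K)) ⟶ P) [IsMonHom jU] (hiso : IsIso ((jT ⊗ₘ jU) ≫ μ[P]))
    (hconj : ∀ (X : Over (Spec (CommRingCat.of K))) (t : X ⟶ T) (x x' : X ⟶ Red.Ga (Spec (CommRingCat.of K))), Red.gaFn x' = Red.gmFn (t ≫ α) * Red.gaFn x →
      (t ≫ jT) * (x ≫ jU) * (t ≫ jT)⁻¹ = x' ≫ jU)
    (n : N ⟶ P) [IsMonHom n] [Mono n] (hn : AlgGrp.IsNormalHom n) (het : Etale N.hom)
    (hNT : ∀ (X : Over (Spec (CommRingCat.of K))) (t : X ⟶ T) (m : X ⟶ N), t ≫ jT = m ≫ n → m = 1) :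
    Red.IsTrivialGrp N := by
  haveI := het
  haveI : Etale N.hom := het
  -- the torus is connected
  have hconn : ConnectedSpace T.left := by
    obtain ⟨S', g, -, hgs, -, hloc⟩ := hT
    obtain ⟨s', -⟩ := hgs.surj (Classical.arbitrary _)
    obtain ⟨U, hU, r, hr⟩ := hloc s'
    let US : Scheme.{u} := U.toScheme
    let u₀ : US := ⟨s', hU⟩
    let L := AlgebraicClosure (US.residueField u₀)
    let gu : Spec (CommRingCat.of L) ⟶ (U : Scheme.{u}) := Red.geomPt u₀
    obtain ⟨e⟩ := MTBridge.nonempty_bc_split hr gu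
    haveI : IsIntegral (Red.DS (Spec (CommRingCat.of L)) (Fin r → ℤ)).left := RedR1.isIntegral_DS L r
    haveI : IsIso e.hom.hom.hom.left :=
      inferInstanceAs (IsIso ((Over.forget _).map ((Grp.forget _).map e.hom)))
    let q := (CategoryTheory.inv e.hom.hom.hom.left) ≫ Limits.pullback.fst T.hom (gu ≫ U.ι ≫ g)
    haveI : Surjective (gu ≫ U.ι ≫ g) := ⟨fun y => ⟨Classical.arbitrary _, Subsingleton.elim _ _⟩⟩
    haveI : Surjective (Limits.pullback.fst T.hom (gu ≫ U.ι ≫ g)) := inferInstance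
    haveI : Surjective (CategoryTheory.inv e.hom.hom.hom.left) := inferInstance
    haveI : Surjective q := inferInstance
    exact Function.Surjective.connectedSpace (f := q) q.surjective (Scheme.Hom.continuous _)
  haveI := hconn
  -- the character is nontrivial on geometric fibres
  have hχ : ∀ s, (Over.pullback (Red.geomPt s)).map α ≠ 1 := fun s h => hα (by
    haveI : Surjective (Red.geomPt s) := ⟨fun y => ⟨Classical.arbitrary _, Subsingleton.elim _ _⟩⟩
    haveI : Flat (Red.geomPt s) := inferInstance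
    have h1 := MTBridge.map_eq_one_of_ff α (𝟙 _) (c := Red.geomPt s) (by rw [Category.comp_id]; exact h)
    rw [MTBridge.map_eq_one_iff α (q := 𝟙 T.left) (b := T.hom) (IsPullback.of_horiz_isIso ⟨by simp⟩),
      Category.id_comp, Category.id_comp] at h1
    exact Over.OverMorphism.ext h1)
  -- the points are discrete
  have hdisc : DiscreteTopology N.left := by
    haveI : LocallyQuasiFinite N.hom := FpqcDescent.locallyQuasiFinite_of_etale _
    exact SpQS.discreteTopology_of_lqf N.hom
  haveI := hdisc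
  haveI : LocallyOfFiniteType N.hom := inferInstance
  have hcl : ∀ p : N.left, IsClosed ({p} : Set N.left) := fun p => isClosed_discrete _
  let pt : N.left → (𝟙_ (Over (Spec (CommRingCat.of K))) ⟶ N) := fun p =>
    Over.homMk (pointOfClosedPoint N.hom p (hcl p)) (pointOfClosedPoint_comp N.hom p (hcl p))
  have hpt : ∀ p z, (pt p).left z = p := fun p z => pointOfClosedPoint_apply N.hom p (hcl p) z
  -- every point centralises the torus
  have hcentral : ∀ (x : 𝟙_ (Over (Spec (CommRingCat.of K))) ⟶ N) (X : Over (Spec (CommRingCat.of K))) (t : X ⟶ T),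
      (t ≫ jT) * ((toUnit X ≫ x) ≫ n) * (t ≫ jT)⁻¹ = (toUnit X ≫ x) ≫ n := by
    intro x X t
    obtain ⟨c, hc⟩ := hn T jT (toUnit T ≫ x)
    haveI : Etale (x.left ≫ N.hom) := by
      rw [Over.w x]; exact (inferInstanceAs (Etale (𝟙 _)))
    haveI : Etale x.left := Etale.of_comp x.left N.hom
    haveI : Mono x.left := mono_of_mono_fac (show x.left ≫ N.hom = 𝟙 _ from Over.w x)
    haveI : IsOpenImmersion x.left := IsOpenImmersion.of_flat_of_mono _
    have hrange : Set.range c.left ⊆ Set.range x.left := by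
      have h1 : (1 : 𝟙_ (Over (Spec (CommRingCat.of K))) ⟶ T) ≫ c = x := by
        rw [← cancel_mono n, Category.assoc, ← hc, MonObj.comp_mul, MonObj.comp_mul, GrpObj.comp_inv,
          MonObj.one_comp, ← Category.assoc, ← Category.assoc, toUnit_unique (1 ≫ toUnit T) (𝟙 _),
          Category.id_comp, _root_.one_mul, inv_one, _root_.mul_one]
      have hs : (Set.range c.left).Subsingleton := by
        rintro _ ⟨a, rfl⟩ _ ⟨b, rfl⟩
        exact PreconnectedSpace.constant inferInstance (Scheme.Hom.continuous c.left)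
      rintro _ ⟨a, rfl⟩
      let z : (𝟙_ (Over (Spec (CommRingCat.of K)))).left := Classical.arbitrary (Spec (CommRingCat.of K))
      refine ⟨z, ?_⟩
      have h2 := congrArg (fun m => m.left z) h1
      simp only [Over.comp_left, Scheme.Hom.comp_apply] at h2
      rw [← h2]
      exact hs ⟨_, rfl⟩ ⟨_, rfl⟩
    have hc2 : c = toUnit T ≫ x := by
      apply Over.OverMorphism.ext
      rw [← IsOpenImmersion.lift_fac x.left c.left hrange, Over.comp_left]
      congr 1
      rw [Over.toUnit_left]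
      have h3 := congrArg (· ≫ N.hom) (IsOpenImmersion.lift_fac x.left c.left hrange)
      simp only [Category.assoc, Over.w] at h3
      exact (Category.comp_id _).symm.trans h3
    have h4 := congrArg (t ≫ ·) hc
    rw [hc2, MonObj.comp_mul, MonObj.comp_mul, GrpObj.comp_inv, ← Category.assoc, ← Category.assoc,
      toUnit_unique (t ≫ toUnit T) (toUnit X)] at h4
    exact h4
  -- hence is trivial
  have htriv : ∀ x : 𝟙_ (Over (Spec (CommRingCat.of K))) ⟶ N, x = 1 := by
    intro x
    haveI := hiso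
    let φ := (jT ⊗ₘ jU) ≫ μ[P]
    obtain ⟨t₀, x₀, hd⟩ : ∃ t₀ x₀, x ≫ n = (t₀ ≫ jT) * (x₀ ≫ jU) := by
      let d := (x ≫ n) ≫ CategoryTheory.inv φ
      refine ⟨d ≫ fst _ _, d ≫ snd _ _, ?_⟩
      have h1 : x ≫ n = d ≫ φ := by simp only [d, Category.assoc, IsIso.inv_hom_id, Category.comp_id]
      rw [h1]
      conv_lhs => rw [show d = lift (d ≫ fst _ _) (d ≫ snd _ _) by ext <;> simp]
      rw [lift_map_assoc, Hom.mul_def]
    obtain ⟨X', f, t, hf, hs, hu⟩ := RedR1.exists_torus_char_cover T hT α hχ (𝟙_ _) one_pos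
    haveI := hf; haveI := hs; haveI := RedR1.epi_of_flat_surjective f
    rw [pow_one] at hu
    have h1 := hcentral x X' t
    rw [toUnit_unique (toUnit X') f, Category.assoc, hd, MonObj.comp_mul] at h1
    simp only [← Category.assoc] at h1
    have hcj := hconj X' t (f ≫ x₀) (BGaNotS.gaPt (Red.gmFn (t ≫ α) * Red.gaFn (f ≫ x₀)))
      (BGaNotS.gaFn_gaPt _)
    have hcomm : (t ≫ jT) * ((f ≫ t₀) ≫ jT) = ((f ≫ t₀) ≫ jT) * (t ≫ jT) := by
      rw [← MonObj.mul_comp, ← MonObj.mul_comp, RedR1.mul_comm_torus hT]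
    have h2 : BGaNotS.gaPt (Red.gmFn (t ≫ α) * Red.gaFn (f ≫ x₀)) ≫ jU = (f ≫ x₀) ≫ jU := by
      rw [← hcj, ← mul_right_inj ((f ≫ t₀) ≫ jT)]
      refine Eq.trans ?_ h1
      calc _ = ((f ≫ t₀) ≫ jT * t ≫ jT) * (f ≫ x₀) ≫ jU * (t ≫ jT)⁻¹ := by group
        _ = _ := by rw [← hcomm]; group
    have hmono : ∀ {a b : X' ⟶ Red.Ga (Spec (CommRingCat.of K))}, a ≫ jU = b ≫ jU → a = b := by
      intro a b hab
      have h3 : lift (1 : X' ⟶ T) a ≫ φ = lift (1 : X' ⟶ T) b ≫ φ := by
        simp only [φ, lift_map_assoc]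
        rw [← Hom.mul_def, ← Hom.mul_def, hab]
      simpa using congrArg (· ≫ snd _ _) ((cancel_mono φ).1 h3)
    have h3 := congrArg Red.gaFn (hmono h2)
    rw [BGaNotS.gaFn_gaPt] at h3
    have h4 : Red.gaFn (f ≫ x₀) = 0 := hu.mul_right_eq_zero.1 (by linear_combination h3)
    have h5 : x₀ = 1 := by
      rw [← cancel_epi f, MonObj.comp_one]
      exact BGaNotS.gaPt_ext (h4.trans BGaNotS.gaFn_one.symm)
    rw [h5, MonObj.one_comp, _root_.mul_one] at hd
    exact hNT _ t₀ x hd.symm
  have hsub : ∀ p : N.left, ∃ z, (1 : 𝟙_ (Over (Spec (CommRingCat.of K))) ⟶ N).left z = p := fun p =>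
    ⟨Classical.arbitrary (Spec (CommRingCat.of K)), by rw [← htriv (pt p), hpt]⟩
  set e := (1 : 𝟙_ (Over (Spec (CommRingCat.of K))) ⟶ N)
  haveI : Etale (e.left ≫ N.hom) := by rw [Over.w e]; exact (inferInstanceAs (Etale (𝟙 _)))
  haveI : Etale e.left := Etale.of_comp e.left N.hom
  haveI : Mono e.left := mono_of_mono_fac (show e.left ≫ N.hom = 𝟙 _ from Over.w e)
  haveI : IsOpenImmersion e.left := IsOpenImmersion.of_flat_of_mono _
  haveI : Surjective e.left := ⟨hsub⟩
  haveI : IsIso e.left := (isIso_iff_isOpenImmersion_and_epi_base e.left).2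
    ⟨inferInstance, (TopCat.epi_iff_surjective _).2 e.left.surjective⟩
  refine ⟨e.left, ?_, Over.w e⟩
  rw [← cancel_epi e.left, ← Category.assoc, Over.w e]
  exact (Category.id_comp _).trans (Category.comp_id _).symm

end Groth.Agent.S8473
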