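import Groth.Statements.S8479
import Groth.Agent.RootBase.Chev
-- import your own Groth.Agent.* helpers here

set_option autoImplicit false
universe u
open CategoryTheory MonoidalCategory CartesianMonoidalCategory MonObj GrpObj AlgebraicGeometry CategoryTheory.Limits
open Red

set_option backward.isDefEq.respectTransparency false

namespace Groth.Agent.S8479

/-- The cases (p, q) = (1,1), (2,1), (3,1) of the table. Let G be a split reductive S-group with
splitting D (torus T ≅ D_S(M), root datum) and a Chevalley system at the level of root groups: for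
every root c a root homomorphism v_c : 𝔾_a ⟶ G (normalised by T through the character of c) with a
dual root homomorphism v_c⁻ (v_c(x) v_c⁻(y) = v_c⁻(y/(1+xy)) c^∨(1+xy) v_c(x/(1+xy)) for 1 + xy
invertible), such that with n_c = v_c(1) v_c⁻(1)⁻¹ v_c(1) one has, for all roots c, b, n_c v_b(x)
n_c⁻¹ = v_{s_c(b)}(± x) for a sign depending on (c, b). Let a, b be two linearly independent roots
with |⟨a, b^∨⟩| ≤ |⟨b, a^∨⟩| (a is not longer than b). Suppose a + b is a root, with index c, and b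
+ 2a is not a root (q = 1); let p ≥ 1 be such that b - k a is a root for k < p and b - p a is not a
root. Then there is a sign ε ∈ {1, -1} with v_b(y) v_a(x) v_b(y)⁻¹ v_a(x)⁻¹ = v_c(ε p x y) for all
points x, y of 𝔾_a. -/
theorem result (S : Scheme.{u}) (e₁ : 𝟙_ (Over S) ⟶ Red.Ga S) (he₁ : Red.gaFn e₁ = 1)
    (G : Over S) [GrpObj G] (D : Red.SplitRed G)
    (avc : D.idx → (Red.Gm S ⟶ D.T))
    (havc : ∀ a, avc a = Red.DSmap S (D.P.coroot a).toAddMonoidHom ≫ D.split.inv.hom.hom)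
    (v vd : D.idx → (Red.Ga S ⟶ G)) (hv : ∀ c, Red.IsRootHom D.i (D.split.hom.hom.hom ≫ Red.chi S (D.P.root c)) (v c))
    (hvd : ∀ c, IsMonHom (vd c) ∧ ∀ (X : Over S) (x y : X ⟶ Red.Ga S), IsUnit (1 + Red.gaFn x * Red.gaFn y) →
        ∃ (x' y' : X ⟶ Red.Ga S) (z : X ⟶ Red.Gm S), Red.gmFn z = 1 + Red.gaFn x * Red.gaFn y ∧
          Red.gaFn x' * Red.gmFn z = Red.gaFn x ∧ Red.gaFn y' * Red.gmFn z = Red.gaFn y ∧
          (x ≫ v c) * (y ≫ vd c) = (y' ≫ vd c) * (z ≫ avc c ≫ D.i) * (x' ≫ v c))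
    (n : D.idx → (𝟙_ (Over S) ⟶ G)) (hn : ∀ c, n c = (e₁ ≫ v c) * (e₁ ≫ vd c)⁻¹ * (e₁ ≫ v c))
    (hSC : ∀ c b, ∃ ε : ℤ, (ε = 1 ∨ ε = -1) ∧ ∀ (X : Over S) (x y : X ⟶ Red.Ga S),
      Red.gaFn y = (ε : Γ(X.left, ⊤)) * Red.gaFn x →
        (toUnit X ≫ n c) * (x ≫ v b) * (toUnit X ≫ n c)⁻¹ = y ≫ v (D.P.reflectionPerm c b))
    (a b : D.idx) (hind : ∀ r s : ℤ, r • D.P.root a + s • D.P.root b = 0 → r = 0 ∧ s = 0)
    (hlen : |D.P.pairing a b| ≤ |D.P.pairing b a|)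
    (c : D.idx) (hc : D.P.root c = D.P.root a + D.P.root b) (hq : D.P.root b + (2 : ℤ) • D.P.root a ∉ Set.range D.P.root)
    (p : ℕ) (hp1 : 1 ≤ p) (hpk : ∀ k : ℕ, k < p → D.P.root b - (k : ℤ) • D.P.root a ∈ Set.range D.P.root)
    (hp : D.P.root b - (p : ℤ) • D.P.root a ∉ Set.range D.P.root) :
    ∃ ε : ℤ, (ε = 1 ∨ ε = -1) ∧ ∀ (X : Over S) (x y z : X ⟶ Red.Ga S),
      Red.gaFn z = (ε : Γ(X.left, ⊤)) * (p : Γ(X.left, ⊤)) * Red.gaFn x * Red.gaFn y → (y ≫ v b) * (x ≫ v a) * (y ≫ v b)⁻¹ * (x ≫ v a)⁻¹ = z ≫ v c := by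
  letI := D.grpT
  letI := D.acgM
  letI := D.fintypeIdx
  letI := D.finiteM
  letI := D.freeM
  rcases isEmpty_or_nonempty S with hS | hS
  · refine ⟨1, Or.inl rfl, fun X x y z _ => ?_⟩
    haveI : IsEmpty X.left := Function.isEmpty X.hom
    exact Over.OverMorphism.ext (isInitialOfIsEmpty.hom_ext _ _)
  haveI := RootBase.isReduced_of_splitRed D
  obtain ⟨F, hC⟩ := RootBase.chevalley_setup D e₁ he₁ avc havc v vd hv hvd n hn hSC
  obtain ⟨P0, Q0, hPQ, hle, htop, hbot⟩ := RootBase.exists_chain D.P hind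
  obtain rfl : Q0 = 1 := by
    have h1 := (htop 1).1 ⟨c, by rw [hc, Nat.cast_one, one_smul]⟩
    by_contra h
    obtain ⟨d, hd⟩ := (htop 2).2 (by omega)
    exact hq ⟨d, by rw [hd, add_comm]; rfl⟩
  obtain rfl : P0 = p - 1 := by
    obtain ⟨d, hd⟩ := hpk (p - 1) (by omega)
    have h1 := (hbot (p - 1)).1 ⟨d, by rw [hd, neg_smul, add_comm, sub_eq_add_neg]⟩
    by_contra h
    obtain ⟨d, hd⟩ := (hbot p).2 (by omega)
    exact hp ⟨d, by rw [hd, neg_smul, add_comm, sub_eq_add_neg]⟩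
  have hl : D.P.pairing a b = D.P.pairing b a := by
    have h1 := D.P.pairingIn_pairingIn_mem_set_of_isCrystal_of_isRed' (i := a) (j := b)
      (fun h => by obtain ⟨h2, -⟩ := hind 1 (-1) (by rw [h]; module); omega)
      (fun h => by obtain ⟨h2, -⟩ := hind 1 1 (by rw [h]; module); omega)
    simp only [RootBase.pairingIn_int, Set.mem_insert_iff, Set.mem_singleton_iff, Prod.mk.injEq] at h1
    have h2 := abs_le.1 (hlen.trans_eq rfl)
    rcases abs_cases (D.P.pairing b a) with h3 | h3 <;> omega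
  -- the only root is a + b
  have hall : ∀ (d : D.idx) (i j : ℕ), 1 ≤ i → 1 ≤ j →
      D.P.root d = (i : ℤ) • D.P.root a + (j : ℤ) • D.P.root b → d ∈ Set.range (![c] : Fin 1 → D.idx) := by
    intro d i j hi hj hd
    obtain ⟨h1, h2, h3, h4⟩ := RootBase.plane_bound D.P hd
    rw [hl] at h2 h3 h4
    rw [abs_le] at h1 h2 h3 h4
    obtain ⟨rfl, rfl⟩ | ⟨rfl, rfl, hp'⟩ | ⟨rfl, rfl⟩ :
        (i = 1 ∧ j = 1) ∨ (i = 1 ∧ j = 2 ∧ p = 1) ∨ (i = 2 ∧ j = 1) := by
      rcases (show p = 1 ∨ p = 2 ∨ p = 3 by omega) with h | h | h <;>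
        rw [show D.P.pairing b a = (p : ℤ) - 2 by omega, h] at h1 h2 h3 h4 <;> omega
    · exact ⟨0, D.P.root.injective (by simp [hd, hc])⟩
    · exfalso
      obtain ⟨P1, Q1, hPQ1, -, htop1, hbot1⟩ := RootBase.exists_chain D.P (RootBase.li_symm D.P hind)
      have h5 := (htop1 2).1 ⟨d, by rw [hd]; push_cast; module⟩
      obtain ⟨e, he⟩ := (hbot1 1).2 (by omega)
      obtain ⟨e', he'⟩ := D.P.neg_mem_range_root_iff.2 ⟨e, he⟩
      refine hp ⟨e', ?_⟩
      rw [he', hp']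
      push_cast
      module
    · exact absurd ⟨d, by rw [hd]; push_cast; module⟩ hq
  obtain ⟨C, hf⟩ := F.exists_formula' hind ![c] ![1] ![1] (Function.injective_of_subsingleton _)
    (fun k => ⟨le_of_eq (by fin_cases k; rfl), le_of_eq (by fin_cases k; rfl), by fin_cases k; simp [hc]⟩) hall
  -- the coefficient
  obtain ⟨w, hw, hCw⟩ : ∃ w : Γ(S, ⊤), RootBase.Sgn w ∧ C 0 = (p : Γ(S, ⊤)) * w := by
    have hcd : D.P.root c = ((1 : ℕ) : ℤ) • D.P.root a + D.P.root b := by rw [hc, Nat.cast_one, one_smul]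
    have hC0 : RootBase.IsCoef D.P v a b c 1 (C 0) := hf.isCoef 0 rfl
    obtain ⟨b₀, hb₀⟩ := hpk (p - 1) (by omega)
    have hb₀' : D.P.root b₀ - D.P.root a ∉ Set.range D.P.root := fun h => hp (by
      convert h using 1
      rw [hb₀, Nat.cast_sub hp1]; module)
    have hli₀ : ∀ x y : ℤ, x • D.P.root a + y • D.P.root b₀ = 0 → x = 0 ∧ y = 0 :=
      RootBase.li_add (i := -((p - 1 : ℕ) : ℤ)) hind one_ne_zero (by rw [hb₀]; module)
    rcases (show p = 1 ∨ p = 2 ∨ p = 3 by omega) with h | h | h <;> subst h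
    · obtain ⟨κ, hκ, hκc⟩ := F.coef_one hC hind (by simpa using hp) hc
      exact ⟨κ, hκ, by rw [F.coef_eq hind hcd hC0 hκc, Nat.cast_one, _root_.one_mul]⟩
    · obtain ⟨κ, hκ, hκc⟩ := F.coef_two hC hli₀ hb₀' (r := b) (d := c) (by rw [hb₀]; push_cast; module)
        (by rw [hc, hb₀]; push_cast; module)
      exact ⟨κ, hκ, by rw [F.coef_eq hind hcd hC0 hκc]; rfl⟩
    · obtain ⟨r₁, hr₁⟩ := hpk 1 (by omega)
      obtain ⟨⟨κ, hκ, hκc⟩, -⟩ := F.coef_three hC hli₀ hb₀' (r₁ := r₁) (r₂ := b) (d := c)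
        (by rw [hr₁, hb₀]; push_cast; module) (by rw [hb₀]; push_cast; module) (by rw [hc, hb₀]; push_cast; module)
      exact ⟨κ, hκ, by rw [F.coef_eq hind hcd hC0 hκc]; rfl⟩
  obtain ⟨k, hk, rfl⟩ := hw
  refine ⟨-k, by omega, fun X x y z hz => ?_⟩
  haveI := (hv b).1
  have h := hf.eq X x y⁻¹ ![z] fun l => by
    fin_cases l
    show Red.gaFn z = X.hom.appTop (C 0) * Red.gaFn x ^ 1 * Red.gaFn y⁻¹ ^ 1
    rw [hz, hCw, RootBase.gaFn_inv, map_mul, map_natCast, map_intCast]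
    push_cast
    ring
  rw [RootBase.word, GrpObj.inv_comp, _root_.inv_inv, List.ofFn_succ, List.ofFn_zero, List.prod_cons, List.prod_nil,
    _root_.mul_one] at h
  simpa [_root_.mul_assoc] using h

end Groth.Agent.S8479
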