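import Groth.Statements.S8481
import Groth.Agent.RootBase.Chev
-- import your own Groth.Agent.* helpers here

set_option autoImplicit false
universe u
open CategoryTheory MonoidalCategory CartesianMonoidalCategory MonObj GrpObj AlgebraicGeometry CategoryTheory.Limits
open Red

set_option backward.isDefEq.respectTransparency false

namespace Groth.Agent.S8481

/-- The case (p, q) = (1,3) of the table. Let G be a split reductive S-group with splitting D (torus T ≅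
D_S(M), root datum) and a Chevalley system at the level of root groups: for every root c a root
homomorphism v_c : 𝔾_a ⟶ G (normalised by T through the character of c) with a dual root
homomorphism v_c⁻ (v_c(x) v_c⁻(y) = v_c⁻(y/(1+xy)) c^∨(1+xy) v_c(x/(1+xy)) for 1 + xy invertible),
such that with n_c = v_c(1) v_c⁻(1)⁻¹ v_c(1) one has, for all roots c, b, n_c v_b(x) n_c⁻¹ =
v_{s_c(b)}(± x) for a sign depending on (c, b). Let a, b be two linearly independent roots with |⟨a,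
b^∨⟩| ≤ |⟨b, a^∨⟩| (a is not longer than b). Suppose b - a is not a root and a + b, 2a + b, 3a + b,
3a + 2b are roots with indices c₁, c₂, c₃, c₄. Then there are signs ε₁, …, ε₄ ∈ {1, -1} with v_b(y)
v_a(x) v_b(y)⁻¹ v_a(x)⁻¹ = v_{c₁}(ε₁ x y) v_{c₂}(ε₂ x² y) v_{c₃}(ε₃ x³ y) v_{c₄}(ε₄ x³ y²) for all
points x, y of 𝔾_a. -/
theorem result (S : Scheme.{u}) (e₁ : 𝟙_ (Over S) ⟶ Red.Ga S) (he₁ : Red.gaFn e₁ = 1)
    (G : Over S) [GrpObj G] (D : Red.SplitRed G)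
    (avc : D.idx → (Red.Gm S ⟶ D.T))
    (havc : ∀ a, avc a = Red.DSmap S (D.P.coroot a).toAddMonoidHom ≫ D.split.inv.hom.hom)
    (v vd : D.idx → (Red.Ga S ⟶ G)) (hv : ∀ c, Red.IsRootHom D.i (D.split.hom.hom.hom ≫ Red.chi S (D.P.root c)) (v c))
    (hvd : ∀ c, IsMonHom (vd c) ∧ ∀ (X : Over S) (x y : X ⟶ Red.Ga S), IsUnit (1 + Red.gaFn x * Red.gaFn y) →
        ∃ (x' y' : X ⟶ Red.Ga S) (z : X ⟶ Red.Gm S), Red.gmFn z = 1 + Red.gaFn x * Red.gaFn y ∧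
          Red.gaFn x' * Red.gmFn z = Red.gaFn x ∧ Red.gaFn y' * Red.gmFn z = Red.gaFn y ∧
          (x ≫ v c) * (y ≫ vd c) = (y' ≫ vd c) * (z ≫ avc c ≫ D.i) * (x' ≫ v c))
    (n : D.idx → (𝟙_ (Over S) ⟶ G)) (hn : ∀ c, n c = (e₁ ≫ v c) * (e₁ ≫ vd c)⁻¹ * (e₁ ≫ v c))
    (hSC : ∀ c b, ∃ ε : ℤ, (ε = 1 ∨ ε = -1) ∧ ∀ (X : Over S) (x y : X ⟶ Red.Ga S),
      Red.gaFn y = (ε : Γ(X.left, ⊤)) * Red.gaFn x →
        (toUnit X ≫ n c) * (x ≫ v b) * (toUnit X ≫ n c)⁻¹ = y ≫ v (D.P.reflectionPerm c b))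
    (a b : D.idx) (hind : ∀ r s : ℤ, r • D.P.root a + s • D.P.root b = 0 → r = 0 ∧ s = 0)
    (hlen : |D.P.pairing a b| ≤ |D.P.pairing b a|)
    (hm : D.P.root b - D.P.root a ∉ Set.range D.P.root) (c₁ c₂ c₃ c₄ : D.idx) (hc₁ : D.P.root c₁ = D.P.root a + D.P.root b)
    (hc₂ : D.P.root c₂ = (2 : ℤ) • D.P.root a + D.P.root b) (hc₃ : D.P.root c₃ = (3 : ℤ) • D.P.root a + D.P.root b)
    (hc₄ : D.P.root c₄ = (3 : ℤ) • D.P.root a + (2 : ℤ) • D.P.root b) :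
    ∃ ε : Fin 4 → ℤ, (∀ j, ε j = 1 ∨ ε j = -1) ∧ ∀ (X : Over S) (x y z₁ z₂ z₃ z₄ : X ⟶ Red.Ga S),
      Red.gaFn z₁ = (ε 0 : Γ(X.left, ⊤)) * Red.gaFn x * Red.gaFn y →
      Red.gaFn z₂ = (ε 1 : Γ(X.left, ⊤)) * Red.gaFn x ^ 2 * Red.gaFn y →
      Red.gaFn z₃ = (ε 2 : Γ(X.left, ⊤)) * Red.gaFn x ^ 3 * Red.gaFn y →
      Red.gaFn z₄ = (ε 3 : Γ(X.left, ⊤)) * Red.gaFn x ^ 3 * Red.gaFn y ^ 2 →
        (y ≫ v b) * (x ≫ v a) * (y ≫ v b)⁻¹ * (x ≫ v a)⁻¹ = (z₁ ≫ v c₁) * (z₂ ≫ v c₂) * (z₃ ≫ v c₃) * (z₄ ≫ v c₄) := by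
  letI := D.grpT
  letI := D.acgM
  letI := D.fintypeIdx
  letI := D.finiteM
  letI := D.freeM
  rcases isEmpty_or_nonempty S with hS | hS
  · refine ⟨fun _ => 1, fun _ => Or.inl rfl, fun X x y z₁ z₂ z₃ z₄ _ _ _ _ => ?_⟩
    haveI : IsEmpty X.left := Function.isEmpty X.hom
    exact Over.OverMorphism.ext (isInitialOfIsEmpty.hom_ext _ _)
  haveI := RootBase.isReduced_of_splitRed D
  obtain ⟨F, hC⟩ := RootBase.chevalley_setup D e₁ he₁ avc havc v vd hv hvd n hn hSC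
  let R := fun x : D.idx => D.P.root x
  obtain ⟨P0, Q0, hPQ, hle, htop, hbot⟩ := RootBase.exists_chain D.P hind
  obtain rfl : P0 = 0 := by
    by_contra h
    obtain ⟨d, hd⟩ := (hbot 1).2 (by omega)
    exact hm ⟨d, by rw [hd]; module⟩
  have h3top := (htop 3).1 ⟨c₃, by rw [hc₃]; rfl⟩
  have hk : D.P.pairing b a = -3 := by omega
  have hl : D.P.pairing a b = -1 := by
    have h1 := D.P.pairingIn_pairingIn_mem_set_of_isCrystal_of_isRed' (i := a) (j := b)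
      (fun h => by obtain ⟨h2, -⟩ := hind 1 (-1) (by rw [h]; module); omega)
      (fun h => by obtain ⟨h2, -⟩ := hind 1 1 (by rw [h]; module); omega)
    simp only [RootBase.pairingIn_int, Set.mem_insert_iff, Set.mem_singleton_iff, Prod.mk.injEq] at h1
    omega
  -- the roots of a plane of this type
  have combos : ∀ A B : D.idx, D.P.pairing B A = -3 → D.P.pairing A B = -1 → ∀ (d : D.idx) (i j : ℕ), 1 ≤ i →
      1 ≤ j → D.P.root d = (i : ℤ) • D.P.root A + (j : ℤ) • D.P.root B →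
      (i = 1 ∧ j = 1) ∨ (i = 2 ∧ j = 1) ∨ (i = 3 ∧ j = 1) ∨ (i = 3 ∧ j = 2) := by
    intro A B hBA hAB d i j hi hj hd
    obtain ⟨h1, h2, h3, h4⟩ := RootBase.plane_bound D.P hd
    simp only [hBA, hAB] at h1 h2 h3 h4
    rw [abs_le] at h1 h2 h3 h4
    have hA2 : ∃ e, D.P.root e = (2 : ℤ) • D.P.root A + D.P.root B := by
      have hli : ∀ x y : ℤ, x • D.P.root A + y • D.P.root B = 0 → x = 0 ∧ y = 0 := fun x y h => by
        have e1 := congrArg (fun m => D.P.toLinearMap m (D.P.coroot A)) h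
        have e2 := congrArg (fun m => D.P.toLinearMap m (D.P.coroot B)) h
        simp [RootPairing.root_coroot_eq_pairing, hBA, hAB, D.P.pairing_same] at e1 e2
        omega
      obtain ⟨p, q, hpq, hle', htop', -⟩ := RootBase.exists_chain D.P hli
      obtain ⟨e, he⟩ := (htop' 2).2 (by omega)
      exact ⟨e, by rw [he]; rfl⟩
    obtain ⟨e, he⟩ := hA2
    obtain h | h | h | h | ⟨rfl, rfl⟩ | ⟨rfl, rfl⟩ : (i = 1 ∧ j = 1) ∨ (i = 2 ∧ j = 1) ∨ (i = 3 ∧ j = 1) ∨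
        (i = 3 ∧ j = 2) ∨ (i = 4 ∧ j = 2) ∨ (i = 6 ∧ j = 3) := by omega
    · exact Or.inl h
    · exact Or.inr (Or.inl h)
    · exact Or.inr (Or.inr (Or.inl h))
    · exact Or.inr (Or.inr (Or.inr h))
    · exact absurd (show D.P.root d = (2 : ℤ) • D.P.root e by rw [hd, he]; push_cast; module)
        (RootBase.not_multiple D.P le_rfl)
    · exact absurd (show D.P.root d = (3 : ℤ) • D.P.root e by rw [hd, he]; push_cast; module)
        (RootBase.not_multiple D.P (by omega))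
  have hex : ∀ p q p' q' : ℤ, p • D.P.root a + q • D.P.root b = p' • D.P.root a + q' • D.P.root b → p = p' ∧ q = q' :=
    fun p q p' q' h => by
      obtain ⟨h1, h2⟩ := hind (p - p') (q - q') (by linear_combination (norm := module) h)
      omega
  have hnot : ∀ i j : ℕ, 1 ≤ i → 1 ≤ j →
      ¬ ((i = 1 ∧ j = 1) ∨ (i = 2 ∧ j = 1) ∨ (i = 3 ∧ j = 1) ∨ (i = 3 ∧ j = 2)) →
      ∀ d, D.P.root d ≠ (i : ℤ) • D.P.root a + (j : ℤ) • D.P.root b :=
    fun i j hi hj h d hd => h (combos a b hk hl d i j hi hj hd)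
  have hne5 : Function.Injective (![c₁, c₂, c₃, c₄, a] : Fin 5 → D.idx) := by
    have hr : ∀ p, D.P.root (![c₁, c₂, c₃, c₄, a] p) =
        (![1, 2, 3, 3, 1] p : ℤ) • D.P.root a + (![1, 1, 1, 2, 0] p : ℤ) • D.P.root b := fun p => by
      fin_cases p <;> simp [hc₁, hc₂, hc₃, hc₄]
    intro p q h
    have h1 := congrArg R h
    simp only [R, hr] at h1
    obtain ⟨h2, h3⟩ := hex _ _ _ _ h1
    have h5 : ∀ p q : Fin 5, (![1, 2, 3, 3, 1] p : ℤ) = ![1, 2, 3, 3, 1] q →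
        (![1, 1, 1, 2, 0] p : ℤ) = ![1, 1, 1, 2, 0] q → p = q := by decide
    exact h5 p q h2 h3
  have hne : Function.Injective (![c₁, c₂, c₃, c₄] : Fin 4 → D.idx) := fun p q h => by
    have := hne5 (a₁ := p.castSucc) (a₂ := q.castSucc) (by fin_cases p <;> fin_cases q <;> simpa using h)
    exact Fin.castSucc_injective _ this
  have hall : ∀ (d : D.idx) (i j : ℕ), 1 ≤ i → 1 ≤ j → D.P.root d = (i : ℤ) • D.P.root a + (j : ℤ) • D.P.root b →
      d ∈ Set.range (![c₁, c₂, c₃, c₄] : Fin 4 → D.idx) := by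
    intro d i j hi hj hd
    obtain ⟨rfl, rfl⟩ | ⟨rfl, rfl⟩ | ⟨rfl, rfl⟩ | ⟨rfl, rfl⟩ := combos a b hk hl d i j hi hj hd
    · exact ⟨0, D.P.root.injective (by simp [hd, hc₁])⟩
    · exact ⟨1, D.P.root.injective (by simp [hd, hc₂])⟩
    · exact ⟨2, D.P.root.injective (by simp [hd, hc₃])⟩
    · exact ⟨3, D.P.root.injective (by simp [hd, hc₄])⟩
  obtain ⟨C, hf⟩ := F.exists_formula' hind ![c₁, c₂, c₃, c₄] ![1, 2, 3, 3] ![1, 1, 1, 2] hne
    (fun k => ⟨by fin_cases k <;> simp, by fin_cases k <;> simp, by fin_cases k <;> simp [hc₁, hc₂, hc₃, hc₄]⟩) hall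
  obtain ⟨κ₁, hκ₁, hκ₁c⟩ := F.coef_one hC hind hm hc₁
  obtain ⟨κ₂, hκ₂, hκ₂c⟩ := F.coef_bottom hC hind hm (i := 2) one_le_two (by rw [hc₂]; rfl)
  obtain ⟨κ₃, hκ₃, hκ₃c⟩ := F.coef_bottom hC hind hm (i := 3) (by omega) (by rw [hc₃]; rfl)
  have hC₁ : C 0 = κ₁ := F.coef_eq hind (by simp [hc₁]) (hf.isCoef 0 rfl) hκ₁c
  have hC₂ : C 1 = κ₂ := F.coef_eq hind (by simp [hc₂]) (hf.isCoef 1 rfl) hκ₂c
  have hC₃ : C 2 = κ₃ := F.coef_eq hind (by simp [hc₃]) (hf.isCoef 2 rfl) hκ₃c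
  -- the last coefficient
  obtain ⟨κ₄, hκ₄, hC₄⟩ : ∃ κ, RootBase.Sgn κ ∧ C 3 = κ := by
    obtain ⟨s, hs, hsb⟩ := hC b
    obtain ⟨t, ht, hN⟩ := hsb a
    let b' := D.P.reflectionPerm b b
    have hb' : D.P.root b' = -D.P.root b := RootBase.root_opp D.P b
    have hrc : D.P.reflectionPerm b a = c₁ := D.P.root.injective (by
      rw [RootBase.root_refl, hl, hc₁]; module)
    rw [hrc] at hN
    have hp1 : D.P.pairing c₁ b' = -1 := by
      rw [RootPairing.pairing_reflectionPerm_self_right, ← D.P.root_coroot_eq_pairing, hc₁]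
      simp [RootPairing.root_coroot_eq_pairing, hl, D.P.pairing_same]
    have hp2 : D.P.pairing b' c₁ = -3 := by
      rw [← hrc, RootPairing.pairing_reflectionPerm, D.P.reflectionPerm_self, hk]
    have hex' : ∀ p q : ℤ, p • D.P.root b' + q • D.P.root c₁ = q • D.P.root a + (q - p) • D.P.root b := fun p q => by
      rw [hb', hc₁]; module
    have hlib : ∀ x y : ℤ, x • D.P.root b' + y • D.P.root c₁ = 0 → x = 0 ∧ y = 0 := fun x y h => by
      rw [hex'] at h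
      obtain ⟨h1, h2⟩ := hind y (y - x) h
      omega
    have hne' : Function.Injective (![a, c₂, c₃, c₄] : Fin 4 → D.idx) := fun p q h => by
      have := hne5 (a₁ := ![4, 1, 2, 3] p) (a₂ := ![4, 1, 2, 3] q) (by
        fin_cases p <;> fin_cases q <;> simpa using h)
      have h5 : ∀ p q : Fin 4, (![4, 1, 2, 3] p : Fin 5) = ![4, 1, 2, 3] q → p = q := by decide
      exact h5 p q this
    have hall' : ∀ (d : D.idx) (i j : ℕ), 1 ≤ i → 1 ≤ j →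
        D.P.root d = (i : ℤ) • D.P.root b' + (j : ℤ) • D.P.root c₁ →
        d ∈ Set.range (![a, c₂, c₃, c₄] : Fin 4 → D.idx) := by
      intro d i j hi hj hd
      have h := combos c₁ b' hp2 hp1 d j i hj hi (by rw [hd, add_comm])
      rw [hex'] at hd
      obtain ⟨rfl, rfl⟩ | ⟨rfl, rfl⟩ | ⟨rfl, rfl⟩ | ⟨rfl, rfl⟩ := h
      · exact ⟨0, D.P.root.injective (by simp [hd])⟩
      · exact ⟨1, D.P.root.injective (by simp [hd, hc₂])⟩
      · exact ⟨3, D.P.root.injective (by simp [hd, hc₄])⟩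
      · exact ⟨2, D.P.root.injective (by simp [hd, hc₃])⟩
    obtain ⟨C', hf'⟩ := F.exists_formula' hlib ![a, c₂, c₃, c₄] ![1, 1, 2, 1] ![1, 2, 3, 3] hne'
      (fun k => ⟨by fin_cases k <;> simp, by fin_cases k <;> simp, by
        rw [hex']; fin_cases k <;> simp [hc₂, hc₃, hc₄]⟩) hall'
    obtain ⟨κ, hκ, hκc⟩ := F.coef_bottom hC (RootBase.li_symm D.P hlib) (d := c₄) (i := 3) (fun ⟨d, hd⟩ => by
      obtain ⟨d', hd'⟩ := D.P.neg_mem_range_root_iff.2 ⟨d, hd⟩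
      refine hnot 1 2 le_rfl one_le_two (by omega) d' ?_
      rw [hd', hb', hc₁]; push_cast; module) (by omega) (by rw [hb', hc₁, hc₄]; push_cast; module)
    have hC' : C' 3 = (-1) ^ 3 * κ := RootBase.Formula.coef_swap F hlib hf' 3 rfl hκc
    -- commute the last factor
    have hlia : ∀ (d : D.idx) (p q : ℤ), q ≠ 0 → D.P.root d = p • D.P.root a + q • D.P.root b →
        ∀ x y : ℤ, x • D.P.root a + y • D.P.root d = 0 → x = 0 ∧ y = 0 :=
      fun d p q hq hd => RootBase.li_add hind hq hd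
    have hla2 := hlia c₂ 2 1 one_ne_zero (by rw [hc₂, one_smul])
    obtain ⟨C₂, hf₂⟩ := F.exists_formula' hla2 ![c₃] ![1] ![1] (Function.injective_of_subsingleton _)
      (fun k => ⟨by fin_cases k; simp, by fin_cases k; simp, by fin_cases k; simp [hc₂, hc₃]; module⟩)
      (fun d p q hp hq hd => by
        obtain h | h | h | h := combos a b hk hl d (p + 2 * q) q (by omega) hq
          (by rw [hd, hc₂]; push_cast; module)
        all_goals first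
          | omega
          | exact ⟨0, D.P.root.injective (by
              rw [hd, hc₂, show p = 1 by omega, show q = 1 by omega]; simp [hc₃]; module)⟩)
    let U := 𝟙_ (Over S)
    have hcomm : ∀ (d : D.idx) (p q : ℕ), 1 ≤ q → p = 3 → D.P.root d = (p : ℤ) • D.P.root a + (q : ℤ) • D.P.root b →
        ∀ x y : U ⟶ Red.Ga S, (x ≫ v a) * (y ≫ v d) = (y ≫ v d) * (x ≫ v a) := fun d p q hq hp hd x y => by
      have h := F.word_eq_one (hlia d p q (by omega) hd) (fun ⟨e, he⟩ => hnot (p + 1) q (by omega) hq (by omega) e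
        (by rw [he, hd]; push_cast; module)) x y
      rw [RootBase.word] at h
      exact mul_inv_eq_iff_eq_mul.1 (inv_mul_eq_one.1 h).symm
    haveI := (hv b).1; haveI := (hv b').1; haveI := (hv a).1; haveI := (hv c₃).1
    let o := RootBase.eOne U
    let A : Fin 4 → (U ⟶ Red.Ga S) := fun k => BGaNotS.gaPt
      (U.hom.appTop (C k) * Red.gaFn o ^ (![1, 2, 3, 3] k : ℕ) * Red.gaFn o⁻¹ ^ (![1, 1, 1, 2] k : ℕ))
    let w := RootBase.eC U (-s)
    let y := RootBase.eC U t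
    let B : Fin 4 → (U ⟶ Red.Ga S) := fun k => BGaNotS.gaPt
      (U.hom.appTop (C' k) * Red.gaFn w ^ (![1, 1, 2, 1] k : ℕ) * Red.gaFn y ^ (![1, 2, 3, 3] k : ℕ))
    let m₂ : Fin 1 → (U ⟶ Red.Ga S) := fun k => BGaNotS.gaPt
      (U.hom.appTop (C₂ k) * Red.gaFn (B 0) ^ (![1] k : ℕ) * Red.gaFn (B 1) ^ (![1] k : ℕ))
    have e1 := hf.eq U o o⁻¹ A fun k => BGaNotS.gaFn_gaPt _
    have e2 := hf'.eq U w y B fun k => BGaNotS.gaFn_gaPt _
    have e3 := hf₂.eq U (B 0) (B 1) m₂ fun k => BGaNotS.gaFn_gaPt _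
    simp only [RootBase.word, List.ofFn_succ, List.ofFn_zero, List.prod_cons, List.prod_nil, _root_.mul_one,
      Matrix.cons_val_zero, Matrix.cons_val_succ] at e1 e2 e3
    rw [GrpObj.inv_comp, _root_.inv_inv] at e1
    have hwinv : (RootBase.eC U s ≫ v b') = (w ≫ v b')⁻¹ := by
      rw [← @GrpObj.inv_comp _ _ _ _ _ _ _ _ w (v b') (hv b').1]
      congr 1
      exact BGaNotS.gaPt_ext (by
        rw [RootBase.gaFn_inv]; simp [w, RootBase.eC, BGaNotS.gaFn_gaPt])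
    have hbc : (o ≫ v b) * (y ≫ v c₁) = (y ≫ v c₁) * (o ≫ v b) := by
      have h := F.word_eq_one (a := b) (b := c₁) (RootBase.li_add (i := 1) (RootBase.li_symm D.P hind) one_ne_zero
        (by rw [hc₁, one_smul, one_smul, add_comm])) (fun ⟨e, he⟩ => hnot 1 2 le_rfl one_le_two (by omega) e
        (by rw [he, hc₁]; push_cast; module)) o y
      rw [RootBase.word] at h
      exact mul_inv_eq_iff_eq_mul.1 (inv_mul_eq_one.1 h).symm
    have key : (o ≫ v b) * (o ≫ v a) * (o ≫ v b)⁻¹ = (w ≫ v b') * (y ≫ v c₁) * (w ≫ v b')⁻¹ := by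
      change ((o ≫ v b) * (RootBase.eC U s ≫ v b') * (o ≫ v b)) * (o ≫ v a) *
        ((o ≫ v b) * (RootBase.eC U s ≫ v b') * (o ≫ v b))⁻¹ = y ≫ v c₁ at hN
      rw [hwinv] at hN
      calc (o ≫ v b) * (o ≫ v a) * (o ≫ v b)⁻¹
          = (w ≫ v b') * ((o ≫ v b)⁻¹ * (((o ≫ v b) * (w ≫ v b')⁻¹ * (o ≫ v b)) * (o ≫ v a) *
              ((o ≫ v b) * (w ≫ v b')⁻¹ * (o ≫ v b))⁻¹) * (o ≫ v b)) * (w ≫ v b')⁻¹ := by group
        _ = _ := by rw [hN, _root_.mul_assoc (o ≫ v b)⁻¹, ← hbc, inv_mul_cancel_left]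
    have hfin : (List.ofFn fun k : Fin 5 => ![A 0, A 1, A 2, A 3, o] k ≫ v (![c₁, c₂, c₃, c₄, a] k)).prod =
        (List.ofFn fun k : Fin 5 => ![y, B 1, m₂ 0 * B 2, B 3, B 0] k ≫ v (![c₁, c₂, c₃, c₄, a] k)).prod := by
      simp only [List.ofFn_succ, List.ofFn_zero, List.prod_cons, List.prod_nil, _root_.mul_one,
        Matrix.cons_val_zero, Matrix.cons_val_succ, MonObj.mul_comp]
      calc (A 0 ≫ v c₁) * ((A 1 ≫ v c₂) * ((A 2 ≫ v c₃) * ((A 3 ≫ v c₄) * (o ≫ v a))))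
          = (A 0 ≫ v c₁) * ((A 1 ≫ v c₂) * ((A 2 ≫ v c₃) * (A 3 ≫ v c₄))) * (o ≫ v a) := by group
        _ = (o ≫ v b) * (o ≫ v a) * (o ≫ v b)⁻¹ := by
            rw [show (A 0 ≫ v c₁) * ((A 1 ≫ v c₂) * ((A 2 ≫ v c₃) * (A 3 ≫ v c₄))) =
              (o ≫ v b) * ((o ≫ v a) * (o ≫ v b)⁻¹ * (o ≫ v a)⁻¹) from e1.symm]
            group
        _ = (y ≫ v c₁) * ((y ≫ v c₁)⁻¹ * ((w ≫ v b') * (y ≫ v c₁) * (w ≫ v b')⁻¹)) := by
            rw [key, mul_inv_cancel_left]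
        _ = (y ≫ v c₁) * ((B 0 ≫ v a) * ((B 1 ≫ v c₂) * ((B 2 ≫ v c₃) * (B 3 ≫ v c₄)))) := by
            rw [e2]; rfl
        _ = (y ≫ v c₁) * ((B 1 ≫ v c₂) * (((B 1 ≫ v c₂)⁻¹ * ((B 0 ≫ v a) * (B 1 ≫ v c₂) * (B 0 ≫ v a)⁻¹)) *
              ((B 0 ≫ v a) * (B 2 ≫ v c₃) * (B 3 ≫ v c₄)))) := by group
        _ = (y ≫ v c₁) * ((B 1 ≫ v c₂) * ((m₂ 0 ≫ v c₃) * ((B 0 ≫ v a) * (B 2 ≫ v c₃) * (B 3 ≫ v c₄)))) := by
            rw [e3]
        _ = _ := by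
            rw [hcomm c₃ 3 1 le_rfl rfl (by rw [hc₃, Nat.cast_one, one_smul]; rfl), _root_.mul_assoc (B 2 ≫ v c₃),
              hcomm c₄ 3 2 one_le_two rfl (by rw [hc₄]; rfl)]
            simp only [_root_.mul_assoc]
    obtain ⟨mu, hma, hmb⟩ := RootBase.exists_pos_indep D.P hind
    have hinj := F.prod_inj mu (![c₁, c₂, c₃, c₄, a] : Fin 5 → D.idx) hne5 (fun k => by
      fin_cases k <;> simp [hc₁, hc₂, hc₃, hc₄] <;> omega) _ _ hfin
    have h4 := congrArg Red.gaFn (congrFun hinj 3)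
    simp [A, B, o, w, y, RootBase.eC, RootBase.eOne, RootBase.gaFn_inv, BGaNotS.gaFn_gaPt, U,
      RootBase.appTop_unit] at h4
    refine ⟨(-1) ^ 3 * κ * (-s) * t ^ 3, (((RootBase.Sgn.one.neg).pow 3).mul hκ).mul hs.neg |>.mul (ht.pow 3), ?_⟩
    rw [h4, hC']
    ring
  obtain ⟨k₁, hk₁, rfl⟩ := hκ₁
  obtain ⟨k₂, hk₂, rfl⟩ := hκ₂
  obtain ⟨k₃, hk₃, rfl⟩ := hκ₃
  obtain ⟨k₄, hk₄, rfl⟩ := hκ₄
  refine ⟨![-k₁, -k₂, -k₃, k₄], fun j => by fin_cases j <;> simp <;> omega,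
    fun X x y z₁ z₂ z₃ z₄ hz₁ hz₂ hz₃ hz₄ => ?_⟩
  haveI := (hv b).1
  have h := hf.eq X x y⁻¹ ![z₁, z₂, z₃, z₄] fun l => by
    fin_cases l
    · show Red.gaFn z₁ = X.hom.appTop (C 0) * Red.gaFn x ^ 1 * Red.gaFn y⁻¹ ^ 1
      rw [hz₁, hC₁, RootBase.gaFn_inv, map_intCast]
      simp
    · show Red.gaFn z₂ = X.hom.appTop (C 1) * Red.gaFn x ^ 2 * Red.gaFn y⁻¹ ^ 1
      rw [hz₂, hC₂, RootBase.gaFn_inv, map_intCast]
      simp
    · show Red.gaFn z₃ = X.hom.appTop (C 2) * Red.gaFn x ^ 3 * Red.gaFn y⁻¹ ^ 1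
      rw [hz₃, hC₃, RootBase.gaFn_inv, map_intCast]
      simp
    · show Red.gaFn z₄ = X.hom.appTop (C 3) * Red.gaFn x ^ 3 * Red.gaFn y⁻¹ ^ 2
      rw [hz₄, hC₄, RootBase.gaFn_inv, map_intCast]
      simp
  rw [RootBase.word, GrpObj.inv_comp, _root_.inv_inv] at h
  simpa [_root_.mul_assoc, List.ofFn_succ] using h

end Groth.Agent.S8481
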