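import Groth.Statements.S8482
import Groth.Agent.RootBase.Chev
-- import your own Groth.Agent.* helpers here

set_option autoImplicit false
universe u
open CategoryTheory MonoidalCategory CartesianMonoidalCategory MonObj GrpObj AlgebraicGeometry CategoryTheory.Limits
open Red

set_option backward.isDefEq.respectTransparency false

namespace Groth.Agent.S8482

/-- The case (p, q) = (2,2) of the table. Let G be a split reductive S-group with splitting D (torus T ≅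
D_S(M), root datum) and a Chevalley system at the level of root groups: for every root c a root
homomorphism v_c : 𝔾_a ⟶ G (normalised by T through the character of c) with a dual root
homomorphism v_c⁻ (v_c(x) v_c⁻(y) = v_c⁻(y/(1+xy)) c^∨(1+xy) v_c(x/(1+xy)) for 1 + xy invertible),
such that with n_c = v_c(1) v_c⁻(1)⁻¹ v_c(1) one has, for all roots c, b, n_c v_b(x) n_c⁻¹ =
v_{s_c(b)}(± x) for a sign depending on (c, b). Let a, b be two linearly independent roots with |⟨a,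
b^∨⟩| ≤ |⟨b, a^∨⟩| (a is not longer than b). Suppose b - a is a root and b - 2a is not, a + b and 2a
+ b are roots with indices c₁, c₂, 3a + b is not a root, and a + 2b is a root with index c₃. Then
there are signs ε₁, ε₂, ε₃ ∈ {1, -1} with v_b(y) v_a(x) v_b(y)⁻¹ v_a(x)⁻¹ = v_{c₁}(2 ε₁ x y)
v_{c₂}(3 ε₂ x² y) v_{c₃}(3 ε₃ x y²) for all points x, y of 𝔾_a. -/
theorem result (S : Scheme.{u}) (e₁ : 𝟙_ (Over S) ⟶ Red.Ga S) (he₁ : Red.gaFn e₁ = 1)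
    (G : Over S) [GrpObj G] (D : Red.SplitRed G)
    (avc : D.idx → (Red.Gm S ⟶ D.T))
    (havc : ∀ a, avc a = Red.DSmap S (D.P.coroot a).toAddMonoidHom ≫ D.split.inv.hom.hom)
    (v vd : D.idx → (Red.Ga S ⟶ G)) (hv : ∀ c, Red.IsRootHom D.i (D.split.hom.hom.hom ≫ Red.chi S (D.P.root c)) (v c))
    (hvd : ∀ c, IsMonHom (vd c) ∧ ∀ (X : Over S) (x y : X ⟶ Red.Ga S), IsUnit (1 + Red.gaFn x * Red.gaFn y) →
        ∃ (x' y' : X ⟶ Red.Ga S) (z : X ⟶ Red.Gm S), Red.gmFn z = 1 + Red.gaFn x * Red.gaFn y ∧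
          Red.gaFn x' * Red.gmFn z = Red.gaFn x ∧ Red.gaFn y' * Red.gmFn z = Red.gaFn y ∧
          (x ≫ v c) * (y ≫ vd c) = (y' ≫ vd c) * (z ≫ avc c ≫ D.i) * (x' ≫ v c))
    (n : D.idx → (𝟙_ (Over S) ⟶ G)) (hn : ∀ c, n c = (e₁ ≫ v c) * (e₁ ≫ vd c)⁻¹ * (e₁ ≫ v c))
    (hSC : ∀ c b, ∃ ε : ℤ, (ε = 1 ∨ ε = -1) ∧ ∀ (X : Over S) (x y : X ⟶ Red.Ga S),
      Red.gaFn y = (ε : Γ(X.left, ⊤)) * Red.gaFn x →
        (toUnit X ≫ n c) * (x ≫ v b) * (toUnit X ≫ n c)⁻¹ = y ≫ v (D.P.reflectionPerm c b))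
    (a b : D.idx) (hind : ∀ r s : ℤ, r • D.P.root a + s • D.P.root b = 0 → r = 0 ∧ s = 0)
    (hlen : |D.P.pairing a b| ≤ |D.P.pairing b a|)
    (hm1 : D.P.root b - D.P.root a ∈ Set.range D.P.root) (hm2 : D.P.root b - (2 : ℤ) • D.P.root a ∉ Set.range D.P.root)
    (c₁ c₂ c₃ : D.idx) (hc₁ : D.P.root c₁ = D.P.root a + D.P.root b)
    (hc₂ : D.P.root c₂ = (2 : ℤ) • D.P.root a + D.P.root b) (hq : D.P.root b + (3 : ℤ) • D.P.root a ∉ Set.range D.P.root)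
    (hc₃ : D.P.root c₃ = D.P.root a + (2 : ℤ) • D.P.root b) :
    ∃ ε₁ ε₂ ε₃ : ℤ, (ε₁ = 1 ∨ ε₁ = -1) ∧ (ε₂ = 1 ∨ ε₂ = -1) ∧ (ε₃ = 1 ∨ ε₃ = -1) ∧
      ∀ (X : Over S) (x y z₁ z₂ z₃ : X ⟶ Red.Ga S),
      Red.gaFn z₁ = 2 * (ε₁ : Γ(X.left, ⊤)) * Red.gaFn x * Red.gaFn y →
      Red.gaFn z₂ = 3 * (ε₂ : Γ(X.left, ⊤)) * Red.gaFn x ^ 2 * Red.gaFn y →
      Red.gaFn z₃ = 3 * (ε₃ : Γ(X.left, ⊤)) * Red.gaFn x * Red.gaFn y ^ 2 →
        (y ≫ v b) * (x ≫ v a) * (y ≫ v b)⁻¹ * (x ≫ v a)⁻¹ = (z₁ ≫ v c₁) * (z₂ ≫ v c₂) * (z₃ ≫ v c₃) := by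
  letI := D.grpT
  letI := D.acgM
  letI := D.fintypeIdx
  letI := D.finiteM
  letI := D.freeM
  rcases isEmpty_or_nonempty S with hS | hS
  · refine ⟨1, 1, 1, Or.inl rfl, Or.inl rfl, Or.inl rfl, fun X x y z₁ z₂ z₃ _ _ _ => ?_⟩
    haveI : IsEmpty X.left := Function.isEmpty X.hom
    exact Over.OverMorphism.ext (isInitialOfIsEmpty.hom_ext _ _)
  haveI := RootBase.isReduced_of_splitRed D
  obtain ⟨F, hC⟩ := RootBase.chevalley_setup D e₁ he₁ avc havc v vd hv hvd n hn hSC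
  obtain ⟨P0, Q0, hPQ, hle, htop, hbot⟩ := RootBase.exists_chain D.P hind
  obtain rfl : P0 = 1 := by
    obtain ⟨d, hd⟩ := hm1
    have h1 := (hbot 1).1 ⟨d, by rw [hd]; module⟩
    by_contra h
    obtain ⟨d, hd⟩ := (hbot 2).2 (by omega)
    exact hm2 ⟨d, by rw [hd]; module⟩
  obtain rfl : Q0 = 2 := by
    have h1 := (htop 2).1 ⟨c₂, by rw [hc₂]; rfl⟩
    omega
  have hl : D.P.pairing a b = -1 := by
    have h1 := D.P.pairingIn_pairingIn_mem_set_of_isCrystal_of_isRed' (i := a) (j := b)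
      (fun h => by obtain ⟨h2, -⟩ := hind 1 (-1) (by rw [h]; module); omega)
      (fun h => by obtain ⟨h2, -⟩ := hind 1 1 (by rw [h]; module); omega)
    simp only [RootBase.pairingIn_int, Set.mem_insert_iff, Set.mem_singleton_iff, Prod.mk.injEq] at h1
    have h2 := abs_le.1 hlen
    rcases abs_cases (D.P.pairing b a) with h3 | h3 <;> omega
  have hk : D.P.pairing b a = -1 := by omega
  have hall : ∀ (d : D.idx) (i j : ℕ), 1 ≤ i → 1 ≤ j →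
      D.P.root d = (i : ℤ) • D.P.root a + (j : ℤ) • D.P.root b → d ∈ Set.range (![c₁, c₂, c₃] : Fin 3 → D.idx) := by
    intro d i j hi hj hd
    obtain ⟨h1, h2, h3, h4⟩ := RootBase.plane_bound D.P hd
    simp only [hl, hk] at h1 h2 h3 h4
    rw [abs_le] at h1 h2 h3 h4
    obtain ⟨rfl, rfl⟩ | ⟨rfl, rfl⟩ | ⟨rfl, rfl⟩ : (i = 1 ∧ j = 1) ∨ (i = 2 ∧ j = 1) ∨ (i = 1 ∧ j = 2) := by omega
    · exact ⟨0, D.P.root.injective (by simp [hd, hc₁])⟩
    · exact ⟨1, D.P.root.injective (by simp [hd, hc₂])⟩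
    · exact ⟨2, D.P.root.injective (by simp [hd, hc₃])⟩
  have hex : ∀ p q p' q' : ℤ, p • D.P.root a + q • D.P.root b = p' • D.P.root a + q' • D.P.root b → p = p' ∧ q = q' :=
    fun p q p' q' h => by
      obtain ⟨h1, h2⟩ := hind (p - p') (q - q') (by linear_combination (norm := module) h)
      omega
  have hne : Function.Injective (![c₁, c₂, c₃] : Fin 3 → D.idx) := by
    have h12 : c₁ ≠ c₂ := fun h => by
      rw [h, hc₂] at hc₁
      obtain ⟨h1, -⟩ := hex 2 1 1 1 (by linear_combination (norm := module) hc₁)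
      omega
    have h13 : c₁ ≠ c₃ := fun h => by
      rw [h, hc₃] at hc₁
      obtain ⟨-, h1⟩ := hex 1 2 1 1 (by linear_combination (norm := module) hc₁)
      omega
    have h23 : c₂ ≠ c₃ := fun h => by
      rw [h, hc₃] at hc₂
      obtain ⟨-, h1⟩ := hex 1 2 2 1 (by linear_combination (norm := module) hc₂)
      omega
    intro p q; fin_cases p <;> fin_cases q <;> simp [h12, h12.symm, h13, h13.symm, h23, h23.symm]
  obtain ⟨C, hf⟩ := F.exists_formula' hind ![c₁, c₂, c₃] ![1, 2, 1] ![1, 1, 2] hne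
    (fun k => ⟨by fin_cases k <;> simp, by fin_cases k <;> simp, by fin_cases k <;> simp [hc₁, hc₂, hc₃]⟩) hall
  -- the string of b
  obtain ⟨b₀, hb₀⟩ := hm1
  have hli₀ : ∀ x y : ℤ, x • D.P.root a + y • D.P.root b₀ = 0 → x = 0 ∧ y = 0 :=
    RootBase.li_add (i := -1) hind one_ne_zero (by rw [hb₀]; module)
  have hbot₀ : D.P.root b₀ - D.P.root a ∉ Set.range D.P.root := fun h => hm2 (by
    convert h using 1
    rw [hb₀]; module)
  obtain ⟨κ₁, hκ₁, hκ₁c⟩ := F.coef_two hC hli₀ hbot₀ (r := b) (d := c₁) (by rw [hb₀]; module)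
    (by rw [hc₁, hb₀]; module)
  obtain ⟨-, κ₂, hκ₂, hκ₂c⟩ := F.coef_three hC hli₀ hbot₀ (r₁ := b) (r₂ := c₁) (d := c₂)
    (by rw [hb₀]; module) (by rw [hc₁, hb₀]; module) (by rw [hc₂, hb₀]; module)
  -- the string of a
  have hind' := RootBase.li_symm D.P hind
  obtain ⟨P1, Q1, hPQ1, hle1, htop1, hbot1⟩ := RootBase.exists_chain D.P hind'
  have h5 := (htop1 2).1 ⟨c₃, by rw [hc₃]; push_cast; module⟩
  obtain ⟨a₀, ha₀⟩ := (hbot1 1).2 (by omega)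
  have hli₁ : ∀ x y : ℤ, x • D.P.root b + y • D.P.root a₀ = 0 → x = 0 ∧ y = 0 :=
    RootBase.li_add (i := -1) hind' one_ne_zero (by rw [ha₀]; module)
  have hbot₁ : D.P.root a₀ - D.P.root b ∉ Set.range D.P.root := fun ⟨d, hd⟩ => by
    have := (hbot1 2).1 ⟨d, by rw [hd, ha₀]; push_cast; module⟩
    omega
  obtain ⟨-, κ₃, hκ₃, hκ₃c⟩ := F.coef_three hC hli₁ hbot₁ (r₁ := a) (r₂ := c₁) (d := c₃)
    (by rw [ha₀]; module) (by rw [hc₁, ha₀]; module) (by rw [hc₃, ha₀]; module)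
  have hC₁ : C 0 = 2 * κ₁ := F.coef_eq hind (by simp [hc₁]) (hf.isCoef 0 rfl) hκ₁c
  have hC₂ : C 1 = 3 * κ₂ := F.coef_eq hind (by simp [hc₂]) (hf.isCoef 1 rfl) hκ₂c
  have hC₃ : C 2 = 3 * κ₃ := (RootBase.Formula.coef_swap F hind hf 2 rfl hκ₃c).trans (by
    show (-1) ^ 2 * (3 * κ₃) = _
    ring)
  obtain ⟨k₁, hk₁, rfl⟩ := hκ₁
  obtain ⟨k₂, hk₂, rfl⟩ := hκ₂
  obtain ⟨k₃, hk₃, rfl⟩ := hκ₃
  refine ⟨-k₁, -k₂, k₃, by omega, by omega, hk₃, fun X x y z₁ z₂ z₃ hz₁ hz₂ hz₃ => ?_⟩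
  haveI := (hv b).1
  have h := hf.eq X x y⁻¹ ![z₁, z₂, z₃] fun l => by
    fin_cases l
    · show Red.gaFn z₁ = X.hom.appTop (C 0) * Red.gaFn x ^ 1 * Red.gaFn y⁻¹ ^ 1
      rw [hz₁, hC₁, RootBase.gaFn_inv, map_mul, map_ofNat, map_intCast]
      push_cast
      ring
    · show Red.gaFn z₂ = X.hom.appTop (C 1) * Red.gaFn x ^ 2 * Red.gaFn y⁻¹ ^ 1
      rw [hz₂, hC₂, RootBase.gaFn_inv, map_mul, map_ofNat, map_intCast]
      push_cast
      ring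
    · show Red.gaFn z₃ = X.hom.appTop (C 2) * Red.gaFn x ^ 1 * Red.gaFn y⁻¹ ^ 2
      rw [hz₃, hC₃, RootBase.gaFn_inv, map_mul, map_ofNat, map_intCast]
      ring
  rw [RootBase.word, GrpObj.inv_comp, _root_.inv_inv] at h
  simpa [_root_.mul_assoc, List.ofFn_succ] using h

end Groth.Agent.S8482
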