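import Groth.Statements.S8486
import Groth.Agent.RootBase.G2
-- import your own Groth.Agent.* helpers here

set_option autoImplicit false
universe u
open CategoryTheory MonoidalCategory CartesianMonoidalCategory MonObj GrpObj AlgebraicGeometry CategoryTheory.Limits
open Red

set_option backward.isDefEq.respectTransparency false

namespace Groth.Agent.S8486

/-- At the level of root groups. Let G be a pinned reductive S-group: a splitting D (maximal torus T ≅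
D_S(M), root datum with root homomorphisms u_c : 𝔾_a ⟶ G for all roots c, system of simple roots Δ)
such that for every simple root a the root homomorphisms of a and -a are dual to each other: u_a(x)
u_{-a}(y) = u_{-a}(y/(1+xy)) · a^∨(1+xy) · u_a(x/(1+xy)) whenever 1 + xy is invertible, where a^∨ :
𝔾_m ⟶ T is the coroot of a read through the splitting. For a root a put w_a = u_a(1) u_{-a}(-1)
u_a(1) (an S-point of G). Let a ≠ b be simple roots with ⟨b, a^∨⟩ = -3 and ⟨a, b^∨⟩ = -1 (type G₂);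
put u_{a+b}(x) = w_b u_a(x) w_b⁻¹, u_{2a+b}(x) = (w_a w_b) u_a(x) (w_a w_b)⁻¹, u_{3a+b}(x) = w_a
u_b(-x) w_a⁻¹, u_{3a+2b}(x) = (w_b w_a) u_b(-x) (w_b w_a)⁻¹. Then for all points x of 𝔾_a: w_a
u_{2a+b}(x) w_a⁻¹ = u_{a+b}(-x), w_a u_{3a+b}(x) w_a⁻¹ = u_b(x), w_a u_{3a+2b}(x) w_a⁻¹ =
u_{3a+2b}(x), w_b u_{a+b}(x) w_b⁻¹ = u_a(-x), w_b u_{2a+b}(x) w_b⁻¹ = u_{2a+b}(x) and w_b
u_{3a+2b}(x) w_b⁻¹ = u_{3a+b}(-x). (The published statement is for a pinned group whose simple roots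
are exactly a and b; this row states it for two simple roots a ≠ b of any pinned group.) -/
theorem result (S : Scheme.{u}) (e₁ : 𝟙_ (Over S) ⟶ Red.Ga S) (he₁ : Red.gaFn e₁ = 1)
    (G : Over S) [GrpObj G] (D : Red.Pinning G)
    (avc : D.idx → (Red.Gm S ⟶ D.T))
    (havc : ∀ a, avc a = Red.DSmap S (D.P.coroot a).toAddMonoidHom ≫ D.split.inv.hom.hom)
    (hpair : ∀ a ∈ D.base.support, ∀ (X : Over S) (x y : X ⟶ Red.Ga S), IsUnit (1 + Red.gaFn x * Red.gaFn y) →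
        ∃ (x' y' : X ⟶ Red.Ga S) (z : X ⟶ Red.Gm S), Red.gmFn z = 1 + Red.gaFn x * Red.gaFn y ∧
          Red.gaFn x' * Red.gmFn z = Red.gaFn x ∧ Red.gaFn y' * Red.gmFn z = Red.gaFn y ∧
          (x ≫ D.u a) * (y ≫ D.u (D.P.reflectionPerm a a)) = (y' ≫ D.u (D.P.reflectionPerm a a)) * (z ≫ avc a ≫ D.i) * (x' ≫ D.u a))
    (w : D.idx → (𝟙_ (Over S) ⟶ G))
    (hw : ∀ a, w a = (e₁ ≫ D.u a) * (e₁ ≫ D.u (D.P.reflectionPerm a a))⁻¹ * (e₁ ≫ D.u a))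
    (a b : D.idx) (ha : a ∈ D.base.support) (hb : b ∈ D.base.support) (hne : a ≠ b)
    (hba : D.P.pairing b a = -3) (hab : D.P.pairing a b = -1)
    (u11 : ∀ X : Over S, (X ⟶ Red.Ga S) → (X ⟶ G))
    (hu11 : ∀ (X : Over S) (x : X ⟶ Red.Ga S), u11 X x = (toUnit X ≫ w b) * (x ≫ D.u a) * (toUnit X ≫ w b)⁻¹)
    (u21 : ∀ X : Over S, (X ⟶ Red.Ga S) → (X ⟶ G))
    (hu21 : ∀ (X : Over S) (x : X ⟶ Red.Ga S), u21 X x = (toUnit X ≫ (w a * w b)) * (x ≫ D.u a) * (toUnit X ≫ (w a * w b))⁻¹)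
    (u31 : ∀ X : Over S, (X ⟶ Red.Ga S) → (X ⟶ G))
    (hu31 : ∀ (X : Over S) (x : X ⟶ Red.Ga S), u31 X x = (toUnit X ≫ w a) * (x ≫ D.u b)⁻¹ * (toUnit X ≫ w a)⁻¹)
    (u32 : ∀ X : Over S, (X ⟶ Red.Ga S) → (X ⟶ G))
    (hu32 : ∀ (X : Over S) (x : X ⟶ Red.Ga S), u32 X x = (toUnit X ≫ (w b * w a)) * (x ≫ D.u b)⁻¹ * (toUnit X ≫ (w b * w a))⁻¹)
    (X : Over S) (x nx : X ⟶ Red.Ga S) (hnx : Red.gaFn nx = - Red.gaFn x) :
    (toUnit X ≫ w a) * u21 X x * (toUnit X ≫ w a)⁻¹ = u11 X nx ∧ (toUnit X ≫ w a) * u31 X x * (toUnit X ≫ w a)⁻¹ = x ≫ D.u b ∧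
      (toUnit X ≫ w a) * u32 X x * (toUnit X ≫ w a)⁻¹ = u32 X x ∧ (toUnit X ≫ w b) * u11 X x * (toUnit X ≫ w b)⁻¹ = nx ≫ D.u a ∧
      (toUnit X ≫ w b) * u21 X x * (toUnit X ≫ w b)⁻¹ = u21 X x ∧ (toUnit X ≫ w b) * u32 X x * (toUnit X ≫ w b)⁻¹ = u31 X nx := by
  letI := D.grpT
  letI := D.acgM
  letI := D.fintypeIdx
  letI := D.finiteM
  letI := D.freeM
  rcases isEmpty_or_nonempty S with hS | hS
  · have hU : ∀ (Y : Over S) (p q : Y ⟶ G), p = q := fun Y p q => by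
      haveI : IsEmpty Y.left := Function.isEmpty Y.hom
      exact Over.OverMorphism.ext (isInitialOfIsEmpty.hom_ext _ _)
    and_intros <;> exact hU _ _ _
  haveI := RootBase.isReduced_of_splitRed D.toSplitRed
  obtain ⟨F, hcor, Wa, Wb, hli, hbot, hbot', hm⟩ :=
    RootBase.pinned_pair D e₁ he₁ avc havc hpair w hw a b ha hb hne
  obtain ⟨v, r₁, r₂, r₃, r₄, H, va, vb, v1, v2, v3, v4⟩ := RootBase.exists_g2 F hcor Wa Wb hli hbot hba hab
  haveI := (F.hu a).1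
  haveI := (F.hu b).1
  haveI := (H.frame.hu r₃).1
  haveI := (H.frame.hu r₄).1
  haveI : IsMonHom (v b) := (H.frame.hu b).1
  have q11 : ∀ z : X ⟶ Red.Ga S, u11 X z = z ≫ v r₁ := fun z => by rw [hu11, v1, RootBase.comp_cj]; rfl
  have q21 : ∀ z : X ⟶ Red.Ga S, u21 X z = z ≫ v r₂ := fun z => by
    rw [hu21, v2, RootBase.comp_cj, RootBase.comp_cj, RootBase.cj_cj]; rfl
  have q31 : ∀ z : X ⟶ Red.Ga S, u31 X z = z⁻¹ ≫ v r₃ := fun z => by
    rw [hu31, v3, RootBase.comp_cj, GrpObj.inv_comp]; rfl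
  have q32 : ∀ z : X ⟶ Red.Ga S, u32 X z = z⁻¹ ≫ v r₄ := fun z => by
    rw [hu32, v4, RootBase.comp_cj, RootBase.comp_cj, RootBase.cj_cj, GrpObj.inv_comp]; rfl
  have hnx' : nx = x⁻¹ := BGaNotS.gaPt_ext (by rw [hnx, RootBase.gaFn_inv])
  simp only [q11, q21, q31, q32, hnx']
  rw [← va, ← vb]
  refine ⟨?_, ?_, ?_, ?_, ?_, ?_⟩
  · exact (H.a2 X x).trans (by rw [RootBase.scl_neg_one])
  · exact (H.a3 X x⁻¹).trans (by rw [RootBase.scl_neg_one, RootBase.ga_inv_inv])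
  · exact (H.a4 X x⁻¹).trans (by rw [RootBase.scl_one])
  · exact (H.b1 X x).trans (by rw [RootBase.scl_neg_one])
  · exact (H.b2 X x).trans (by rw [RootBase.scl_one])
  · exact (H.b4 X x⁻¹).trans (by rw [RootBase.scl_neg_one])

end Groth.Agent.S8486
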