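import Groth.Statements.S8487
import Groth.Agent.RedR1.Invert

set_option autoImplicit false
universe u
open CategoryTheory MonoidalCategory CartesianMonoidalCategory MonObj GrpObj AlgebraicGeometry CategoryTheory.Limits
open Red

namespace Groth.Agent.S8487

/-- Let G be a reductive S-group, i : T ⟶ G a maximal torus, α a character of T non-trivial on every
geometric fibre, p₊, p₋ : 𝔾_a ⟶ G monomorphisms of groups normalised by T with multipliers α and α⁻¹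
whose cell map (y, t, x) ↦ p₋(y) i(t) p₊(x) is an open immersion 𝔾_a ×_S T ×_S 𝔾_a ⟶ G, and α^* :
𝔾_m ⟶ T the coroot: α ∘ α^* is the squaring map and p₊(x) p₋(y) = p₋(y/(1+xy)) · i(α^*(1+xy)) ·
p₊(x/(1+xy)) whenever 1 + xy is invertible (so p₊ and p₋ are dual to each other). Let n be a
non-zero integer and w an S-point of G such that w · i(α^*(z))^n · w⁻¹ = i(α^*(z))^{-n} for all
points z of 𝔾_m (after base change). Then w is a point of N^× = Norm_G(T) − T: it normalises T, with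
w i(t) w⁻¹ = i(α^*(α(t)))⁻¹ i(t) for all points t of T, and for no geometric point s̄ of S does
w(s̄) lie in T. (The published statement is an equivalence; this row states only this implication.) -/
theorem result (S : Scheme.{u}) (G T : Over S) [GrpObj G] [GrpObj T] (i : T ⟶ G) [IsMonHom i] [Mono i] (hG : Red.IsReductive G) (hTm : Red.IsMaximalTorus i)
    (α : T ⟶ Red.Gm S) [IsMonHom α] (hα : ∀ s : S, (Over.pullback (Red.geomPt s)).map α ≠ 1)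
    (pp pm : Red.Ga S ⟶ G) [IsMonHom pp] [Mono pp] [IsMonHom pm] [Mono pm]
    (hpp : ∀ (X : Over S) (t : X ⟶ T) (x : X ⟶ Red.Ga S), ∃ x' : X ⟶ Red.Ga S,
      x' ≫ pp = (t ≫ i) * (x ≫ pp) * (t ≫ i)⁻¹ ∧ Red.gaFn x' = Red.gmFn (t ≫ α) * Red.gaFn x)
    (hpm : ∀ (X : Over S) (t : X ⟶ T) (y : X ⟶ Red.Ga S), ∃ y' : X ⟶ Red.Ga S,
      y' ≫ pm = (t ≫ i) * (y ≫ pm) * (t ≫ i)⁻¹ ∧ Red.gaFn y' * Red.gmFn (t ≫ α) = Red.gaFn y)
    (hΩ : IsOpenImmersion (((pm ⊗ₘ i) ⊗ₘ pp) ≫ (μ[G] ▷ G) ≫ μ[G]).left)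
    (av : Red.Gm S ⟶ T) [IsMonHom av] (h2 : av ≫ α = (𝟙 (Red.Gm S)) ^ 2)
    (hF : ∀ (X : Over S) (x y : X ⟶ Red.Ga S), IsUnit (1 + Red.gaFn x * Red.gaFn y) →
      ∃ (x' y' : X ⟶ Red.Ga S) (z : X ⟶ Red.Gm S), Red.gmFn z = 1 + Red.gaFn x * Red.gaFn y ∧
        Red.gaFn x' * Red.gmFn z = Red.gaFn x ∧ Red.gaFn y' * Red.gmFn z = Red.gaFn y ∧
        (x ≫ pp) * (y ≫ pm) = (y' ≫ pm) * (z ≫ av ≫ i) * (x' ≫ pp))
    (n : ℤ) (hn : n ≠ 0) (w : 𝟙_ (Over S) ⟶ G)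
    (hw : ∀ (X : Over S) (z : X ⟶ Red.Gm S),
      (toUnit X ≫ w) * (((z ≫ av) ^ n) ≫ i) * (toUnit X ≫ w)⁻¹ = ((((z ≫ av) ^ n) ≫ i))⁻¹) :
    (∀ (X : Over S) (t : X ⟶ T), (toUnit X ≫ w) * (t ≫ i) * (toUnit X ≫ w)⁻¹ = (t ≫ α ≫ av ≫ i)⁻¹ * (t ≫ i)) ∧
      ∀ s : S, ¬ ∃ t : Over.mk (Red.geomPt s) ⟶ T, t ≫ i = toUnit (Over.mk (Red.geomPt s)) ≫ w := by
  haveI : IsOpenImmersion (RedR1.cellMap i pp pm).left := hΩ
  have s : RedR1.Sys i α pp pm av := ⟨‹_›, ‹_›, ‹_›, ‹_›, ‹_›, h2, hpp, hpm, hF⟩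
  have hT : Red.IsTorus T := hTm.2.2.1
  have hw' : ∀ (X' : Over S) (f : X' ⟶ 𝟙_ (Over S)) (v : (Γ(X'.left, ⊤))ˣ),
      (f ≫ w) * (s.calc' X').H (v ^ n) * (f ≫ w)⁻¹ = ((s.calc' X').H (v ^ n))⁻¹ := fun X' f v => by
    have h1 := hw X' (GmPts.ptOfUnit v)
    rw [s.zpow_eq_H, GmPts.unitOfPt_ptOfUnit, toUnit_unique (toUnit X') f] at h1
    exact h1
  obtain ⟨t, ht⟩ := s.eq_torus_mul_w hG hT hα hn w hw' 1
  refine ⟨fun X t' => ?_, fun s₀ => ?_⟩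
  · have e : toUnit X ≫ w = ((toUnit X ≫ t) ≫ i) * (s.calc' X).w 1 := by
      rw [ht, MonObj.comp_mul, s.comp_w, map_one, Category.assoc]
    rw [e]
    exact s.torus_mul_w_conj hT _ t' 1
  · rintro ⟨t', ht'⟩
    obtain ⟨X', f, -, hne, -, hv⟩ := RedR1.exists_geom_point (Over.mk (Red.geomPt s₀))
      (Classical.choice (show Nonempty ↥(Spec (CommRingCat.of (AlgebraicClosure (S.residueField s₀)))) from inferInstance))
    obtain ⟨v, hv⟩ := hv (4 * n.natAbs) (by omega)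
    refine s.not_torus hT (n := n) v ?_ (f ≫ t') ?_
    · intro h
      refine hv ?_
      rw [← Units.val_pow_eq_pow_val]
      rcases Int.natAbs_eq n with hh | hh
      · rw [show v ^ (4 * n.natAbs) = v ^ (4 * n) by rw [← zpow_natCast]; congr 1; omega, h, Units.val_one]
      · rw [show v ^ (4 * n.natAbs) = (v ^ (4 * n))⁻¹ by rw [← zpow_neg, ← zpow_natCast]; congr 1; omega, h, inv_one,
          Units.val_one]
    · have h1 := hw' X' (toUnit X') v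
      rwa [show toUnit X' ≫ w = (f ≫ t') ≫ i by
        rw [Category.assoc, ht', ← Category.assoc, toUnit_unique (f ≫ toUnit _) (toUnit X')]] at h1

end Groth.Agent.S8487
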