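import Groth.Statements.S8489
import Groth.Agent.RedR1.RootHom

set_option autoImplicit false
universe u
open CategoryTheory MonoidalCategory CartesianMonoidalCategory MonObj GrpObj AlgebraicGeometry CategoryTheory.Limits
open Red

namespace Groth.Agent.S8489

/-- At the level of root homomorphisms. Let G be a reductive S-group, i : T ⟶ G a maximal torus, α a
character of T non-trivial on every geometric fibre, and p₊, p₋ : 𝔾_a ⟶ G monomorphisms of groups
normalised by T with multipliers α and α⁻¹ such that 𝔾_a ×_S T ×_S 𝔾_a ⟶ G, (y, t, x) ↦ p₋(y) i(t)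
p₊(x), is an open immersion (a rank-one system: G has semisimple rank 1 and p₊, p₋ trivialise the
root groups of α and -α). Then every monomorphism of groups p : 𝔾_a ⟶ G normalised by T with
multiplier α is a rescaling of p₊ by a unit: there is exactly one S-point c of 𝔾_m with p(x) = p₊(c
x) for all points x of 𝔾_a. (The published statement is a bijection between the nowhere-vanishing
sections of the root line bundle and such monomorphisms; this row states it after fixing p₊.) -/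
theorem result (S : Scheme.{u}) (G T : Over S) [GrpObj G] [GrpObj T] (i : T ⟶ G) [IsMonHom i] [Mono i] (hG : Red.IsReductive G) (hTm : Red.IsMaximalTorus i)
    (α : T ⟶ Red.Gm S) [IsMonHom α] (hα : ∀ s : S, (Over.pullback (Red.geomPt s)).map α ≠ 1)
    (pp pm : Red.Ga S ⟶ G) [IsMonHom pp] [Mono pp] [IsMonHom pm] [Mono pm]
    (hpp : ∀ (X : Over S) (t : X ⟶ T) (x : X ⟶ Red.Ga S), ∃ x' : X ⟶ Red.Ga S,
      x' ≫ pp = (t ≫ i) * (x ≫ pp) * (t ≫ i)⁻¹ ∧ Red.gaFn x' = Red.gmFn (t ≫ α) * Red.gaFn x)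
    (hpm : ∀ (X : Over S) (t : X ⟶ T) (y : X ⟶ Red.Ga S), ∃ y' : X ⟶ Red.Ga S,
      y' ≫ pm = (t ≫ i) * (y ≫ pm) * (t ≫ i)⁻¹ ∧ Red.gaFn y' * Red.gmFn (t ≫ α) = Red.gaFn y)
    (hΩ : IsOpenImmersion (((pm ⊗ₘ i) ⊗ₘ pp) ≫ (μ[G] ▷ G) ≫ μ[G]).left)
    (p : Red.Ga S ⟶ G) [IsMonHom p] [Mono p]
    (hp : ∀ (X : Over S) (t : X ⟶ T) (x : X ⟶ Red.Ga S), ∃ x' : X ⟶ Red.Ga S,
      x' ≫ p = (t ≫ i) * (x ≫ p) * (t ≫ i)⁻¹ ∧ Red.gaFn x' = Red.gmFn (t ≫ α) * Red.gaFn x) :
    ∃! c : 𝟙_ (Over S) ⟶ Red.Gm S, ∀ (X : Over S) (x y : X ⟶ Red.Ga S),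
      Red.gaFn y = Red.gmFn (toUnit X ≫ c) * Red.gaFn x → x ≫ p = y ≫ pp := by
  haveI : IsOpenImmersion (RedR1.cellMap i pp pm).left := hΩ
  have hP : RedR1.NormP i α pp := hpp
  have hM : RedR1.NormM i α pm := hpm
  have hP' : RedR1.NormP i α p := hp
  have hw : RedR1.WeightCover i α p 1 := fun X m hm => by
    obtain ⟨X', f, t, hf, hs, -, hu⟩ := RedR1.exists_char_cover (i := i) (pp := pp) (pm := pm) hG hα X hm
    refine ⟨X', f, RedR1.Sys.rt α t, t, hf, hs, hu, (pow_one _).symm, fun X'' g a => ?_⟩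
    rw [hP'.apply (g ≫ t) a]
    congr 3
  obtain ⟨c, hc⟩ := RedR1.eq_power hP hM hTm.2.2.1 hw
  have hu : IsUnit c := by
    refine (𝟙_ (Over S)).left.toRingedSpace.isUnit_of_isUnit_germ ⊤ _ fun z hz => ?_
    refine (Scheme.mem_basicOpen (𝟙_ (Over S)).left _ z hz).1 ?_
    by_contra hmem
    obtain ⟨X', e, -, hne, hF, he⟩ := RedR1.exists_field_point (𝟙_ (Over S)) z
    obtain ⟨w⟩ := hne
    have hX := hc X' 1
    rw [show toUnit X' = e from toUnit_unique _ _, one_pow, _root_.mul_one] at hX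
    letI := hF.toField
    rcases eq_or_ne (e.left.appTop c) 0 with h0 | h0
    · have hz0 : (BGaNotS.gaPt (0 : Γ(X'.left, ⊤)) : X' ⟶ Red.Ga S) = 1 :=
        BGaNotS.gaPt_ext (by rw [BGaNotS.gaFn_gaPt, BGaNotS.gaFn_one])
      rw [h0, hz0, MonObj.one_comp] at hX
      have h1 := congrArg Red.gaFn ((cancel_mono p).1 (hX.trans (MonObj.one_comp p).symm))
      rw [BGaNotS.gaFn_gaPt, BGaNotS.gaFn_one] at h1
      exact one_ne_zero h1
    · have hw : w ∈ X'.left.basicOpen (e.left.appTop c) := by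
        rw [X'.left.basicOpen_of_isUnit (isUnit_iff_ne_zero.2 h0)]; trivial
      rw [← Scheme.preimage_basicOpen_top] at hw
      exact hmem (he w ▸ hw)
  let d : 𝟙_ (Over S) ⟶ Red.Gm S := GmPts.ptOfUnit hu.unit
  have hd : ∀ X : Over S, Red.gmFn (toUnit X ≫ d) = (toUnit X).left.appTop c := fun X => by
    rw [GmPts.gmFn_comp, GmPts.gmFn_ptOfUnit, IsUnit.unit_spec]
  refine ⟨d, fun X x y hy => ?_, fun d' hd' => ?_⟩
  · rw [← RedR1.gaPt_gaFn x, hc, pow_one, ← hd, ← hy, RedR1.gaPt_gaFn]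
  · have hid : toUnit (𝟙_ (Over S)) = 𝟙 _ := toUnit_unique _ _
    have h1 := hd' (𝟙_ (Over S)) (BGaNotS.gaPt 1) (BGaNotS.gaPt (Red.gmFn d'))
      (by rw [BGaNotS.gaFn_gaPt, BGaNotS.gaFn_gaPt, _root_.mul_one, hid, Category.id_comp])
    rw [hc, one_pow, _root_.mul_one, ← hd, hid, Category.id_comp] at h1
    have h2 := congrArg Red.gaFn ((cancel_mono pp).1 h1)
    rw [BGaNotS.gaFn_gaPt, BGaNotS.gaFn_gaPt] at h2
    exact (GmPts.gmFn_injective h2).symm

end Groth.Agent.S8489
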