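import Groth.Statements.S8495
import Groth.Agent.HensPar.Inter

set_option autoImplicit false
open CategoryTheory MonoidalCategory CartesianMonoidalCategory MonObj GrpObj AlgebraicGeometry
universe u
set_option backward.isDefEq.respectTransparency false
open Par

namespace Groth.Agent.S8495

/-- Let k be a field, G a reductive k-group and P, P' two parabolic subgroups of G, with intersection I
= P ∩ P' (I ⟶ P and I ⟶ P' forming a cartesian square over G, I carrying the induced group
structure). Then I is smooth over k and contains a maximal torus of G (so it has the same reductive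
rank as G). -/
theorem result (k : Type u) [Field k]
    {G P P' I : Over (Spec (CommRingCat.of k))} [GrpObj G] [GrpObj P] [GrpObj P'] [GrpObj I]
    (hG : Red.IsReductive G) (p : P ⟶ G) (p' : P' ⟶ G) (hP : Red.IsParabolic p) (hP' : Red.IsParabolic p')
    (m : I ⟶ P) (m' : I ⟶ P') [IsMonHom m] (hI : IsPullback m m' p p') :
    Smooth I.hom ∧ ∃ (T : Over (Spec (CommRingCat.of k))) (_ : GrpObj T) (t : T ⟶ I),
      IsMonHom t ∧ Red.IsMaximalTorus (t ≫ m ≫ p) := by
  exact Groth.Agent.HensPar.inter_field hG p p' hP hP' m m' hI

end Groth.Agent.S8495
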