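import Groth.Statements.S8496
import Groth.Agent.RootBase.Cell
import Groth.Agent.MTImage.CartanGeom
import Groth.Agent.ParStd.GlueImage

set_option backward.isDefEq.respectTransparency false
set_option synthInstance.maxHeartbeats 400000
set_option maxHeartbeats 1000000
set_option linter.style.haveILetI false

set_option autoImplicit false
open CategoryTheory MonoidalCategory CartesianMonoidalCategory MonObj GrpObj AlgebraicGeometry
universe u
open Par

namespace Groth.Agent.S8496

open Limits

variable {S U V : Scheme.{u}} {A B : Over S} (h : A ⟶ B)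

/-- Smoothness along a composite change of base. -/
theorem smooth_pullback_comp {a : V ⟶ U} {f : U ⟶ S} {ψ : V ⟶ S} (e : a ≫ f = ψ) :
    Smooth ((Over.pullback a).map ((Over.pullback f).map h)).left ↔ Smooth ((Over.pullback ψ).map h).left := by
  obtain ⟨eA, heA, -⟩ := Chev.MaxTorusBC.exists_trIso e A
  obtain ⟨eB, heB, -⟩ := Chev.MaxTorusBC.exists_trIso e B
  have h0 : (Over.pullback ψ).map h ≫ eB.hom = eA.hom ≫ (Over.pullback a).map ((Over.pullback f).map h) := by
    rw [heA, heB, MTImage.trIso_natural]
  haveI : IsIso eA.hom.left := inferInstanceAs (IsIso ((Over.forget _).map eA.hom))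
  haveI : IsIso eB.hom.left := inferInstanceAs (IsIso ((Over.forget _).map eB.hom))
  have h1 := congrArg CommaMorphism.left h0
  simp only [Over.comp_left] at h1
  rw [← MorphismProperty.cancel_left_of_respectsIso (P := @Smooth) eA.hom.left, ← h1,
    MorphismProperty.cancel_right_of_respectsIso (P := @Smooth)]

/-- Smoothness descends along a faithfully flat quasi-compact change of base. -/
theorem smooth_descend (τ : U ⟶ S) [Surjective τ] [Flat τ] [QuasiCompact τ]
    (hs : Smooth ((Over.pullback τ).map h).left) : Smooth h.left := by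
  have sq : IsPullback ((Over.pullback τ).map h).left (pullback.fst A.hom τ) (pullback.fst B.hom τ) h.left := by
    refine IsPullback.of_right ?_ (MTBridge.map_left_fst τ h) (IsPullback.of_hasPullback B.hom τ).flip
    rw [show ((Over.pullback τ).map h).left ≫ pullback.snd B.hom τ = pullback.snd A.hom τ from
      Over.w ((Over.pullback τ).map h), show h.left ≫ B.hom = A.hom from Over.w h]
    exact (IsPullback.of_hasPullback A.hom τ).flip
  exact MorphismProperty.of_isPullback_of_descendsAlong (P := @Smooth)
    (Q := (@Surjective ⊓ @Flat ⊓ @QuasiCompact : MorphismProperty Scheme.{u})) sq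
    ⟨⟨inferInstance, inferInstance⟩, inferInstance⟩ hs

end Groth.Agent.S8496

namespace Groth.Agent.S8496

/-- Transversal position of a pair of parabolic subgroups is read here as smoothness of the
multiplication morphism P ×_S Q ⟶ G (one of its equivalent characterisations). Let G be a reductive
S-group and P, Q parabolic subgroups. Then (P, Q) is in transversal position if and only if (P_s,
Q_s) is for every point s of S; and if (P_{S'}, Q_{S'}) is in transversal position for some
surjective S' ⟶ S then so is (P, Q). -/
theorem result {S : Scheme.{u}} {G P Q : Over S} [GrpObj G] [GrpObj P]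
    [GrpObj Q] (hG : Red.IsReductive G) (p : P ⟶ G) (q : Q ⟶ G) (hP : Red.IsParabolic p) (hQ : Red.IsParabolic q) :
    (Smooth ((p ⊗ₘ q) ≫ μ[G]).left ↔
      ∀ s : S, Smooth ((Over.pullback (S.fromSpecResidueField s)).map ((p ⊗ₘ q) ≫ μ[G])).left) ∧
    ∀ (S' : Scheme.{u}) (g : S' ⟶ S), Surjective g →
      Smooth ((Over.pullback g).map ((p ⊗ₘ q) ≫ μ[G])).left → Smooth ((p ⊗ₘ q) ≫ μ[G]).left := by
  haveI := hG.2.1; haveI := hP.2.2.1; haveI := hQ.2.2.1
  haveI : Smooth (P ⊗ Q).hom := by
    rw [← Over.w (fst P Q)]
    haveI : Smooth (fst P Q).left := inferInstanceAs (Smooth (Limits.pullback.fst P.hom Q.hom))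
    infer_instance
  obtain ⟨f, hf⟩ : ∃ f : P ⊗ Q ⟶ G, f = (p ⊗ₘ q) ≫ μ[G] := ⟨_, rfl⟩
  rw [← hf]
  refine ⟨⟨fun h s => MorphismProperty.overPullbackMap (P := @Smooth) _ f h, fun h => ?_⟩, fun S' g hg h => ?_⟩
  · refine RootBase.smooth_of_geomPts f fun s => ?_
    exact (smooth_pullback_comp f (rfl : Spec.map (CommRingCat.ofHom (algebraMap (S.residueField s)
      (AlgebraicClosure (S.residueField s)))) ≫ S.fromSpecResidueField s = Red.geomPt s)).1
      (MorphismProperty.overPullbackMap (P := @Smooth) _ _ (h s))
  · refine RootBase.smooth_of_geomPts f fun s => ?_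
    haveI := hg
    obtain ⟨x, rfl⟩ := g.surjective s
    obtain ⟨τ, hτ⟩ := MTImage.exists_lift_geomPt (Red.geomPt x ≫ g)
    have h1 := (smooth_pullback_comp f (rfl : Red.geomPt x ≫ g = _)).1
      (MorphismProperty.overPullbackMap (P := @Smooth) (Red.geomPt x) _ h)
    have h2 := (smooth_pullback_comp f hτ).2 h1
    have h3 := smooth_descend _ _ h2
    rwa [Scheme.Hom.comp_apply, MTImage.geomPt_closedPoint] at h3

end Groth.Agent.S8496
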