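import Groth.Statements.S8503
import Groth.Agent.ParStd.ConjParabolic
import Groth.Agent.ParNorm.Global

set_option backward.isDefEq.respectTransparency false
set_option linter.style.haveILetI false
set_option synthInstance.maxHeartbeats 400000
set_option maxHeartbeats 1000000

set_option autoImplicit false
open CategoryTheory MonoidalCategory CartesianMonoidalCategory MonObj GrpObj AlgebraicGeometry
universe u
open Par

namespace Groth.Agent.S8503

/-- Let G be a reductive S-group, Q a parabolic subgroup of G, P and P' parabolic subgroups of G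
contained in Q, and g ∈ G(S) such that int(g)P and P' are in osculating position: their intersection
(a fibre product over G of the conjugate of P by g and of P', with its induced group structure) is a
parabolic subgroup of G. Then g ∈ Q(S). -/
theorem result {S : Scheme.{u}} {G Q P P' I : Over S} [GrpObj G] [GrpObj Q] [GrpObj P]
    [GrpObj P'] [GrpObj I] (hG : Red.IsReductive G) (q : Q ⟶ G) (hQ : Red.IsParabolic q)
    (pq : P ⟶ Q) (pq' : P' ⟶ Q) (hP : Red.IsParabolic (pq ≫ q)) (hP' : Red.IsParabolic (pq' ≫ q))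
    (g : 𝟙_ (Over S) ⟶ G) (m : I ⟶ P) (m' : I ⟶ P') [IsMonHom m']
    (hI : IsPullback m m' (AGF.conjBy g (pq ≫ q)) (pq' ≫ q)) (hosc : Red.IsParabolic (m' ≫ pq' ≫ q)) :
    ∃ x : 𝟙_ (Over S) ⟶ Q, x ≫ q = g := by
  haveI := hQ.1; haveI := hG.1; haveI := hG.2.1
  have hw : (m' ≫ pq') ≫ q = AGF.conjBy g ((m ≫ pq) ≫ q) := by
    rw [Category.assoc, ← hI.w, Groth.Agent.ParStd.comp_conjBy_sec, AGF.conjBy]
    simp only [Category.assoc]
  obtain ⟨φ, hφ, hφq⟩ := Groth.Agent.ParStd.exists_conjAut g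
  haveI := hφ
  have hQ' := Groth.Agent.ParStd.isParabolic_comp_iso hQ φ
  rw [hφq] at hQ'
  have hpts : Groth.Agent.ParStd.SamePts q (AGF.conjBy g q) := by
    intro K _ _ ψ y
    obtain ⟨z, hz⟩ := Groth.Agent.ParStd.mem_of_conj_parabolic hG q hQ g (m ≫ pq) (m' ≫ pq')
      (by rwa [Category.assoc]) hw ψ
    constructor
    · rintro ⟨h, rfl⟩
      refine ⟨z⁻¹ * h * z, ?_⟩
      rw [Groth.Agent.ParStd.comp_conjBy_sec, MonObj.mul_comp, MonObj.mul_comp, GrpObj.inv_comp, hz]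
      group
    · rintro ⟨h, rfl⟩
      refine ⟨z * h * z⁻¹, ?_⟩
      rw [Groth.Agent.ParStd.comp_conjBy_sec, MonObj.mul_comp, MonObj.mul_comp, GrpObj.inv_comp, hz]
  haveI := hQ'.1
  obtain ⟨e, he⟩ := Groth.Agent.ParStd.exists_iso_of_samePts hG q hQ _ hQ' ((m' ≫ pq') ≫ q)
    (by rwa [Category.assoc]) ⟨m' ≫ pq', rfl⟩ ⟨m ≫ pq, by
      rw [hw, Groth.Agent.ParStd.comp_conjBy_sec, AGF.conjBy]⟩ hpts
  have hN := Groth.Agent.ParNorm.isNormalizerOf_self (fun s => (hG.2.2 s).2.2.1) q hQ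
  refine (hN.2.2 _ g).2 fun X x h => ⟨⟨h ≫ e.inv, ?_⟩, ⟨h ≫ e.hom, ?_⟩⟩
  · have h1 : h ≫ AGF.conjBy g q = (h ≫ e.inv) ≫ q := by rw [Category.assoc, (Iso.inv_comp_eq e).2 he.symm]
    rw [← h1, Groth.Agent.ParStd.comp_conjBy_sec, toUnit_unique (toUnit X) x]
  · have h2 : (h ≫ e.hom) ≫ AGF.conjBy g q = h ≫ q := by rw [Category.assoc, he]
    rw [← h2, Groth.Agent.ParStd.comp_conjBy_sec, toUnit_unique (toUnit X) x]
    group

end Groth.Agent.S8503
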