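import Groth.Statements.S8504
import Groth.Agent.ParStd.Roots

set_option autoImplicit false
open CategoryTheory MonoidalCategory CartesianMonoidalCategory MonObj GrpObj AlgebraicGeometry
universe u
open Par

namespace Groth.Agent.S8504

/-- (i) ⟹ (iii): Let S be a connected scheme, G a split reductive S-group with splitting D (maximal
torus T, roots indexed by D.idx, root homomorphisms u_a) and R' a set of roots. Suppose there is a
parabolic subgroup P of G containing T such that, for every root a, the root homomorphism u_a
factors through P exactly when a ∈ R'. Then R' is a closed set of roots and every root lies in R' or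
in −R'. (The published statement assumes S non-empty and phrases the hypothesis through the Lie
algebra of P; here S is taken connected and the hypothesis is phrased through the root subgroups
contained in P.) -/
theorem result {S : Scheme.{u}} [ConnectedSpace S]
    {G P : Over S} [GrpObj G] [GrpObj P] (D : Red.SplitRed G) (R' : Set D.idx) (p : P ⟶ G)
    (hP : Red.IsParabolic p) (tP : D.T ⟶ P) (htP : tP ≫ p = D.i)
    (hR' : ∀ a : D.idx, (∃ v : Red.Ga S ⟶ P, v ≫ p = D.u a) ↔ a ∈ R') :
    (∀ a b c : D.idx, a ∈ R' → b ∈ R' → D.P.root a + D.P.root b = D.P.root c → c ∈ R') ∧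
    (∀ a b : D.idx, D.P.root b = -D.P.root a → a ∈ R' ∨ b ∈ R') := by
  obtain ⟨lam, hlam, -⟩ := Groth.Agent.ParStd.exists_hom_roots D p hP tP htP
  have h : ∀ a, a ∈ R' ↔ 0 ≤ lam (D.P.root a) := fun a => (hR' a).symm.trans (hlam a)
  refine ⟨fun a b c ha hb habc => ?_, fun a b hab => ?_⟩
  · rw [h] at ha hb ⊢
    rw [← habc, map_add]
    omega
  · rw [h, h, hab, map_neg]
    omega

end Groth.Agent.S8504
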