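import Groth.Statements.S8508
import Groth.Agent.RootBase.SimpleGenPos
-- import your own Groth.Agent.* helpers here

set_option autoImplicit false
open CategoryTheory MonoidalCategory CartesianMonoidalCategory MonObj GrpObj AlgebraicGeometry
universe u
open RedSub

set_option backward.isDefEq.respectTransparency false

namespace Groth.Agent.S8508

/-- The unipotent part of the Borel subgroup of a pinned group is generated by the simple root
subgroups. Let G be a split reductive S-group with a pinning D (root homomorphisms u_a, base of
simple roots D.base) and H a subgroup scheme of G. If the root homomorphism u_a factors through H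
for every simple root a, then u_b factors through H for every root b which is positive for the base.
(The published statement is about the sub-sheaf of groups generated for the fppf topology; this row
is its consequence for subgroup schemes.) -/
theorem result {S : Scheme.{u}} {G H : Over S} [GrpObj G] [GrpObj H]
    (D : Red.Pinning G) (h : H ⟶ G) [IsMonHom h] [Mono h]
    (hsimple : ∀ a ∈ D.base.support, ∃ v : Red.Ga S ⟶ H, v ≫ h = D.u a) :
    ∀ b ∈ RedSub.posRoots D.P D.base, ∃ v : Red.Ga S ⟶ H, v ≫ h = D.u b := by
  intro b hb
  rcases isEmpty_or_nonempty S with hS | hS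
  · haveI : IsEmpty (Red.Ga S).left := Function.isEmpty (Red.Ga S).hom
    exact ⟨Over.homMk (isInitialOfIsEmpty.to _) (isInitialOfIsEmpty.hom_ext _ _),
      Over.OverMorphism.ext (isInitialOfIsEmpty.hom_ext _ _)⟩
  have hQ : ∀ a ∈ D.base.support, (RootBase.PtsGroup.ofMono h).Has (D.u a) := fun a ha X r => by
    obtain ⟨v, hv⟩ := hsimple a ha
    exact ⟨BGaNotS.gaPt r ≫ v, by rw [Category.assoc, hv]; rfl⟩
  obtain ⟨v, hv⟩ := (RootBase.pos_has D _ hQ b hb).comp' (𝟙 (Red.Ga S))
  exact ⟨v, by rw [hv, Category.id_comp]⟩

end Groth.Agent.S8508
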