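import Groth.Statements.S8509
import Groth.Agent.HenselSec.Basic

set_option linter.style.haveILetI false
set_option backward.isDefEq.respectTransparency false
set_option synthInstance.maxHeartbeats 400000
set_option maxHeartbeats 1000000

set_option autoImplicit false
open CategoryTheory MonoidalCategory CartesianMonoidalCategory MonObj GrpObj AlgebraicGeometry
universe u
open RedSub

namespace Groth.Agent.S8509

/-- Let A be a henselian local ring, S = Spec A, and G an S-group scheme which is smooth and affine over
S. Then every torsor P under G (a representable principal homogeneous bundle) is isotrivial: there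
is a finite etale surjective morphism S' ⟶ S such that P_{S'} has a section. (The published
statement asks only that every finite set of points of G lie in an affine open; this row takes G
affine over S.) -/
theorem result (A : Type u) [CommRing A] [HenselianLocalRing A]
    {G P : Over (Spec (CommRingCat.of A))} [GrpObj G] [Smooth G.hom] [IsAffineHom G.hom] (a : AlgGrp.Action G P)
    (ha : RedSub.IsTorsor a) :
    ∃ (S' : Scheme.{u}) (f : S' ⟶ Spec (CommRingCat.of A)), IsFinite f ∧ Etale f ∧ Surjective f ∧
      RedSub.HasSection (Red.bc f P) := by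
  obtain ⟨hsurj, hflat, hfp, hiso⟩ := ha
  haveI := hsurj; haveI := hflat; haveI := hfp; haveI := hiso
  haveI hsm : Smooth P.hom := by
    haveI : IsIso (lift a.act (snd G P)).left := inferInstanceAs (IsIso ((Over.forget _).map (lift a.act (snd G P))))
    haveI : Smooth (snd G P).left := inferInstanceAs (Smooth (Limits.pullback.snd G.hom P.hom))
    have h : (inv (lift a.act (snd G P)).left) ≫ (snd G P).left = (snd P P).left := by
      rw [IsIso.inv_comp_eq, ← Over.comp_left, lift_snd]
    haveI h2 : Smooth (snd P P).left := h ▸ inferInstance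
    exact MorphismProperty.of_pullback_snd_of_descendsAlong (P := @Smooth)
      (Q := @Surjective ⊓ @Flat ⊓ @LocallyOfFinitePresentation) (f := P.hom) (g := P.hom)
      ⟨⟨hsurj, hflat⟩, hfp⟩ h2
  obtain ⟨x, hx⟩ := P.hom.surjective (IsLocalRing.closedPoint A)
  obtain ⟨U, hU, V, hV, hxV, e, hstd⟩ := Smooth.exists_isStandardSmooth P.hom x
  have hcl : IsLocalRing.closedPoint A ∈ U := by
    rw [← hx]
    exact e hxV
  obtain rfl : U = ⊤ := TopologicalSpace.Opens.ext
    ((IsLocalRing.closed_point_mem_iff (U := (⟨U.1, U.2⟩ : TopologicalSpace.Opens (PrimeSpectrum A)))).1 hcl ▸ rfl)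
  let ψ : CommRingCat.of A ⟶ Γ(P.left, V) := (Scheme.ΓSpecIso (CommRingCat.of A)).inv ≫ P.hom.appLE ⊤ V e
  have hψs : ψ.hom.IsStandardSmooth :=
    RingHom.isStandardSmooth_respectsIso.2 _ (Scheme.ΓSpecIso (CommRingCat.of A)).symm.commRingCatIsoToRingEquiv hstd
  have hψ : hV.fromSpec ≫ P.hom = Spec.map ψ := by
    rw [← IsAffineOpen.SpecMap_appLE_fromSpec P.hom hU hV e,
      show hU.fromSpec = (Spec (CommRingCat.of A)).isoSpec.inv from IsAffineOpen.fromSpec_top,
      Scheme.isoSpec_Spec_inv, ← Spec.map_comp]
  letI : Algebra A Γ(P.left, V) := ψ.hom.toAlgebra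
  haveI : Algebra.IsStandardSmooth A Γ(P.left, V) := hψs
  have hq : (hV.primeIdealOf ⟨x, hxV⟩).asIdeal.comap (algebraMap A Γ(P.left, V)) = IsLocalRing.maximalIdeal A := by
    have h1 : Spec.map ψ (hV.primeIdealOf ⟨x, hxV⟩) = IsLocalRing.closedPoint A := by
      rw [← hψ, Scheme.Hom.comp_apply, hV.fromSpec_primeIdealOf]
      exact hx
    exact congrArg PrimeSpectrum.asIdeal h1
  obtain ⟨A', _, _, hfin, het, hnt, ⟨τ⟩⟩ :=
    Groth.Agent.HenselSec.exists_finite_etale_algHom A Γ(P.left, V) (hV.primeIdealOf ⟨x, hxV⟩).asIdeal hq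
  haveI := hfin; haveI := het; haveI := hnt
  refine ⟨Spec (CommRingCat.of A'), Spec.map (CommRingCat.ofHom (algebraMap A A')),
    (IsFinite.SpecMap_iff _).2 (RingHom.finite_algebraMap.2 hfin),
    (HasRingHomProperty.Spec_iff (P := @Etale)).2 (RingHom.etale_algebraMap.2 het), ?_, ⟨?_⟩⟩
  · haveI : Module.FinitePresentation A A' := Module.FinitePresentation.of_finite_of_finitePresentation A A'
    haveI : Module.Free A A' := Module.free_of_flat_of_isLocalRing
    exact ⟨PrimeSpectrum.comap_surjective_of_faithfullyFlat (A := A) (B := A')⟩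
  · refine Over.homMk (Limits.pullback.lift (Spec.map (CommRingCat.ofHom τ.toRingHom) ≫ hV.fromSpec) (𝟙 _) ?_)
      (Limits.pullback.lift_snd _ _ _)
    rw [Category.assoc, hψ, ← Spec.map_comp, Category.id_comp]
    congr 1
    ext1
    exact τ.comp_algebraMap

end Groth.Agent.S8509
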