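import Groth.Statements.S8513
import Mathlib

set_option autoImplicit false
open CategoryTheory MonoidalCategory CartesianMonoidalCategory MonObj GrpObj AlgebraicGeometry
universe u
open Par

set_option backward.isDefEq.respectTransparency false

namespace Groth.Agent.S8513

/-- Let G be a reductive S-group and P, Q two parabolic subgroups of G in transversal position (the
multiplication morphism P ×_S Q ⟶ G is smooth). Then P ∩ Q (a fibre product of P and Q over G) is
smooth over S. -/
theorem result {S : Scheme.{u}} {G P Q I : Over S} [GrpObj G] [GrpObj P] [GrpObj Q]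
    (hG : Red.IsReductive G) (p : P ⟶ G) (q : Q ⟶ G) (hP : Red.IsParabolic p) (hQ : Red.IsParabolic q)
    (htr : Smooth ((p ⊗ₘ q) ≫ μ[G]).left) (m : I ⟶ P) (m' : I ⟶ Q) (hI : IsPullback m m' p q) :
    Smooth I.hom := by
  haveI := hP.1; haveI := hQ.1; haveI := hP.2.1; haveI := hQ.2.1
  let μ' : P ⊗ Q ⟶ G := (p ⊗ₘ q) ≫ μ[G]
  have hμ : μ' = (fst P Q ≫ p) * (snd P Q ≫ q) := by
    rw [Hom.mul_def]
    simp only [μ']
    congr 1
  have w : lift m m'⁻¹ ≫ μ' = toUnit I ≫ η[G] := by
    rw [hμ, MonObj.comp_mul, lift_fst_assoc, lift_snd_assoc, GrpObj.inv_comp, hI.w, mul_inv_cancel, Hom.one_def]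
  have key : ∀ s : Limits.PullbackCone μ' η[G], (s.fst ≫ fst P Q) ≫ p = (s.fst ≫ snd P Q)⁻¹ ≫ q := fun s => by
    have h := (congrArg (s.fst ≫ ·) hμ).symm.trans s.condition
    simp only [MonObj.comp_mul, toUnit_unique s.snd (toUnit _), ← Hom.one_def, ← Category.assoc] at h
    rw [GrpObj.inv_comp]
    exact eq_inv_of_mul_eq_one_left h
  have hpb : IsPullback (lift m m'⁻¹) (toUnit I) μ' η[G] := by
    refine IsPullback.of_isLimit (Limits.PullbackCone.IsLimit.mk w (fun s => hI.lift _ _ (key s)) (fun s => ?_)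
      (fun s => toUnit_unique _ _) fun s k hk₁ hk₂ => ?_)
    · apply CartesianMonoidalCategory.hom_ext
      · simp
      · simp [GrpObj.comp_inv]
    · apply hI.hom_ext
      · rw [hI.lift_fst, ← hk₁, Category.assoc, lift_fst]
      · rw [hI.lift_snd, ← hk₁, Category.assoc, lift_snd, GrpObj.comp_inv, _root_.inv_inv]
  have h' : IsPullback (lift m m'⁻¹).left (toUnit I).left μ'.left η[G].left := hpb.map (Over.forget S)
  haveI : Smooth μ'.left := htr
  have h2 : Smooth (toUnit I).left := MorphismProperty.of_isPullback h' htr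
  rw [← Over.w (toUnit I)]
  exact MorphismProperty.comp_mem @Smooth _ _ h2 (inferInstanceAs (Smooth (𝟙 S)))

end Groth.Agent.S8513
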