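import Groth.Statements.S8517
import Groth.Agent.RootSys.PosRoots

set_option autoImplicit false
open CategoryTheory MonoidalCategory CartesianMonoidalCategory MonObj GrpObj AlgebraicGeometry
universe u
open RedSub

namespace Groth.Agent.S8517

/-- Let R be the set of roots of a root pairing over ℤ with finitely many roots, and R₁, R₂ two closed
subsets of R (if a, b ∈ Rᵢ and root a + root b is a root c then c ∈ Rᵢ), each containing a system of
positive roots (the positive roots of some base). If R₁ ∪ R₂ = R, then R₁ ∩ (−R₂) (the roots of R₁
whose negative is a root in R₂) contains a system of positive roots. -/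
theorem result {idx M N : Type} [Finite idx] [AddCommGroup M] [AddCommGroup N] (P : RootPairing idx ℤ M N) (R₁ R₂ : Set idx)
    (h₁ : ∀ a b c : idx, a ∈ R₁ → b ∈ R₁ → P.root a + P.root b = P.root c → c ∈ R₁)
    (h₂ : ∀ a b c : idx, a ∈ R₂ → b ∈ R₂ → P.root a + P.root b = P.root c → c ∈ R₂)
    (hb₁ : ∃ b : P.Base, RedSub.posRoots P b ⊆ R₁) (hb₂ : ∃ b : P.Base, RedSub.posRoots P b ⊆ R₂)
    (hunion : R₁ ∪ R₂ = Set.univ) :
    ∃ b : P.Base, RedSub.posRoots P b ⊆ {a | a ∈ R₁ ∧ ∃ c ∈ R₂, P.root a = -P.root c} := by
  classical
  obtain ⟨b₁, hb₁⟩ := hb₁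
  obtain ⟨b₂, hb₂⟩ := hb₂
  haveI : P.IsCrystallographic := ⟨fun i j => ⟨P.pairing i j, rfl⟩⟩
  let opp : idx → idx := fun a => P.reflectionPerm a a
  have hopp : ∀ a, P.root (opp a) = -P.root a := fun a => RootSys.groot_opp a
  have hoo : ∀ a, opp (opp a) = a := fun a => P.root.injective (by rw [hopp, hopp, neg_neg])
  let S : Set idx := {a | a ∈ R₁ ∧ ∃ c ∈ R₂, P.root a = -P.root c}
  have hS : ∀ a, a ∈ S ↔ a ∈ R₁ ∧ opp a ∈ R₂ := fun a => by
    refine and_congr_right fun _ => ⟨?_, fun h => ⟨opp a, h, by rw [hopp, neg_neg]⟩⟩
    rintro ⟨c, hc, e⟩
    have hc' : opp a = c := P.root.injective (by rw [hopp, e, neg_neg])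
    rwa [hc']
  have hpar : ∀ (b : P.Base) (R : Set idx), RedSub.posRoots P b ⊆ R → ∀ a, a ∈ R ∨ opp a ∈ R := by
    intro b R hbR a
    rcases b.root_mem_or_neg_mem a with h | h
    · exact Or.inl (hbR h)
    · exact Or.inr (hbR (show P.root (opp a) ∈ _ by rw [hopp]; exact h))
  have hclosed : ∀ a c d, a ∈ S → c ∈ S → P.root a + P.root c = P.root d → d ∈ S := by
    intro a c d ha hc e
    rw [hS] at ha hc ⊢
    exact ⟨h₁ a c d ha.1 hc.1 e, h₂ _ _ _ ha.2 hc.2 (by rw [hopp, hopp, hopp, ← e]; abel)⟩
  have hcover : ∀ a, a ∈ S ∨ opp a ∈ S := by
    intro a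
    rw [hS, hS, hoo]
    have hu : ∀ z, z ∈ R₁ ∨ z ∈ R₂ := fun z => by
      have : z ∈ R₁ ∪ R₂ := hunion.symm ▸ Set.mem_univ z
      exact this
    rcases hu a with h | h
    · by_cases h' : opp a ∈ R₂
      · exact Or.inl ⟨h, h'⟩
      · refine Or.inr ⟨(hu _).resolve_right h', ?_⟩
        exact ((hpar b₂ R₂ hb₂ a).resolve_right h')
    · by_cases h' : opp a ∈ R₁
      · exact Or.inr ⟨h', h⟩
      · exact Or.inl ⟨(hpar b₁ R₁ hb₁ a).resolve_right h', (hu _).resolve_left h'⟩
  have hex : ∃ n, ∃ b : P.Base, (RedSub.posRoots P b \ S).ncard = n := ⟨_, b₁, rfl⟩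
  obtain ⟨b, hb⟩ := Nat.find_spec hex
  have hsimple : ∀ α ∈ b.support, α ∈ S := by
    by_contra hne
    push Not at hne
    obtain ⟨α, hα, hαS⟩ := hne
    let s := P.reflectionPerm α
    let b' : P.Base :=
      { support := b.support.image s
        linearIndepOn_root := by
          rw [Finset.coe_image]
          refine LinearIndepOn.image_of_comp s P.root ?_
          have := b.linearIndepOn_root.map_injOn (P.reflection α).toLinearMap
            ((P.reflection α).injective.injOn)
          exact this.congr fun i _ => (P.root_reflectionPerm α i).symm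
        linearIndepOn_coroot := by
          rw [Finset.coe_image]
          refine LinearIndepOn.image_of_comp s P.coroot ?_
          have := b.linearIndepOn_coroot.map_injOn (P.coreflection α).toLinearMap
            ((P.coreflection α).injective.injOn)
          exact this.congr fun i _ => (P.coroot_reflectionPerm α i).symm
        root_mem_or_neg_mem := fun i => by
          have e : P.root '' ↑(b.support.image s) = P.reflection α '' (P.root '' (b.support : Set idx)) := by
            rw [Finset.coe_image, Set.image_image, Set.image_image]
            exact Set.image_congr fun j _ => P.root_reflectionPerm α j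
          have hm : ∀ z ∈ AddSubmonoid.closure (P.root '' (b.support : Set idx)),
              P.reflection α z ∈ AddSubmonoid.closure (P.root '' ↑(b.support.image s)) := fun z hz => by
            rw [e]
            exact (AddMonoidHom.map_mclosure (P.reflection α).toLinearMap.toAddMonoidHom _).le ⟨z, hz, rfl⟩
          have hi : P.reflection α (P.root (s i)) = P.root i := by
            rw [← P.root_reflectionPerm, P.reflectionPerm_self]
          rcases b.root_mem_or_neg_mem (s i) with h | h
          · exact Or.inl (hi ▸ hm _ h)
          · exact Or.inr (by have := hm _ h; rwa [map_neg, hi] at this)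
        coroot_mem_or_neg_mem := fun i => by
          have e : P.coroot '' ↑(b.support.image s) = P.coreflection α '' (P.coroot '' (b.support : Set idx)) := by
            rw [Finset.coe_image, Set.image_image, Set.image_image]
            exact Set.image_congr fun j _ => P.coroot_reflectionPerm α j
          have hm : ∀ z ∈ AddSubmonoid.closure (P.coroot '' (b.support : Set idx)),
              P.coreflection α z ∈ AddSubmonoid.closure (P.coroot '' ↑(b.support.image s)) := fun z hz => by
            rw [e]
            exact (AddMonoidHom.map_mclosure (P.coreflection α).toLinearMap.toAddMonoidHom _).le ⟨z, hz, rfl⟩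
          have hi : P.coreflection α (P.coroot (s i)) = P.coroot i := by
            rw [← P.coroot_reflectionPerm, P.reflectionPerm_self]
          rcases b.coroot_mem_or_neg_mem (s i) with h | h
          · exact Or.inl (hi ▸ hm _ h)
          · exact Or.inr (by have := hm _ h; rwa [map_neg, hi] at this) }
    have hpos' : ∀ k, b.IsPos k → b'.IsPos (s k) := by
      intro k hk
      rw [← RootSys.mem_posRoots_iff] at hk ⊢
      simp only [RedSub.posRoots, Set.mem_setOf_eq] at hk ⊢
      rw [P.root_reflectionPerm]
      have e : P.root '' ↑(b.support.image s) = P.reflection α '' (P.root '' (b.support : Set idx)) := by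
        rw [Finset.coe_image, Set.image_image, Set.image_image]
        exact Set.image_congr fun j _ => P.root_reflectionPerm α j
      show P.reflection α (P.root k) ∈ AddSubmonoid.closure (P.root '' ↑(b.support.image s))
      rw [e]
      exact (AddMonoidHom.map_mclosure (P.reflection α).toLinearMap.toAddMonoidHom _).le ⟨_, hk, rfl⟩
    have hsopp : ∀ k, s (opp k) = opp (s k) := fun k => P.root.injective (by
      rw [P.root_reflectionPerm, hopp, hopp, map_neg, ← P.root_reflectionPerm])
    have hneg : ∀ (B : P.Base) k, B.IsPos k → ¬ B.IsPos (opp k) := fun B k hk h => by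
      rw [RootPairing.Base.isPos_iff] at hk h
      have e := RootPairing.Base.height_add_zsmul (b := B) (i := k) (j := k) (z := -2) (k := opp k)
        (by rw [hopp]; module)
      rw [e] at h
      simp only [smul_eq_mul] at h
      omega
    have hback : ∀ k, b'.IsPos k → b.IsPos (s k) := by
      intro k hk
      by_contra hn
      have h1 : b.IsPos (opp (s k)) := by
        rw [← RootSys.mem_posRoots_iff]
        simp only [RedSub.posRoots, Set.mem_setOf_eq]
        rw [hopp]
        exact (RootSys.mem_negRoots_iff b _).mpr hn
      have h2 := hpos' _ h1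
      rw [hsopp, P.reflectionPerm_self] at h2
      exact hneg b' k hk h2
    have hαopp : opp α ∈ S := (hcover α).resolve_left hαS
    have hsub : RedSub.posRoots P b' \ S ⊆ (RedSub.posRoots P b \ S) \ {α} := by
      rintro k ⟨hk, hkS⟩
      rw [RootSys.mem_posRoots_iff] at hk
      have hj := hback k hk
      have hjα : s k ≠ α := by
        intro e
        have e' : k = opp α := by
          have := congrArg s e
          rwa [P.reflectionPerm_self] at this
        exact hkS (e' ▸ hαopp)
      have hnred : b.IsPos k ∨ k = opp α := by
        by_cases hr : b.IsPos k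
        · exact Or.inl hr
        · exfalso
          -- a positive root other than the multiples of `α` stays positive
          rw [RootPairing.Base.isPos_iff] at hr
          obtain ⟨f, hf⟩ := RootSys.exists_nat_coeff b ((RootSys.mem_posRoots_iff b _).mpr hj)
          obtain ⟨g, hg⟩ := RootSys.exists_nat_coeff b ((RootSys.mem_negRoots_iff b _).mpr hr)
          have h3 : P.root k = P.root (s k) + (-P.pairing (s k) α) • P.root α := by
            conv_lhs => rw [← P.reflectionPerm_self α k]
            rw [P.root_reflectionPerm, P.reflection_apply_root, neg_smul, sub_eq_add_neg]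
          set z : ℤ := -P.pairing (s k) α
          have h4 : ∑ j ∈ b.support,
              ((f j : ℤ) + (if j = α then z else 0) + (g j : ℤ)) • P.root j = 0 := by
            simp only [add_smul, Finset.sum_add_distrib, ite_smul, zero_smul, Finset.sum_ite_eq',
              if_pos hα]
            rw [← hf, ← hg, ← h3, add_neg_cancel]
          have h5 := linearIndepOn_finset_iff.mp (b.linearIndepOn_root.restrict_scalars' ℤ) _ h4
          have hfz : ∀ j ∈ b.support, j ≠ α → f j = 0 := fun j hj hne => by
            have := h5 j hj
            rw [if_neg hne] at this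
            omega
          have h6 : P.root (s k) = (f α : ℤ) • P.root α := by
            rw [hf, Finset.sum_eq_single α]
            · exact fun j hj hne => by rw [hfz j hj hne]; simp
            · exact fun h => absurd hα h
          have h7 : P.root k = -((f α : ℤ) • P.root α) := by
            conv_lhs => rw [← P.reflectionPerm_self α k]
            rw [P.root_reflectionPerm, show P.root (P.reflectionPerm α k) = P.root (s k) from rfl, h6,
              map_zsmul, P.reflection_apply_self, smul_neg]
          -- `root (s k)` is a positive multiple of `α`; closedness puts `k` in `S`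
          have hrk : P.root k = -P.root (s k) := by rw [h7, h6]
          have h8 : P.root k = (f α : ℤ) • P.root (opp α) := by rw [h7, hopp, smul_neg]
          have h9 : (f α : ℤ) * P.pairing (opp α) k = 2 := by
            rw [← P.pairing_same k, ← P.root_coroot'_eq_pairing, ← P.root_coroot'_eq_pairing,
              ← smul_eq_mul, ← map_zsmul, ← h8]
          have hdvd : f α ∣ 2 := Int.natCast_dvd_natCast.mp ⟨_, h9.symm⟩
          rcases (Nat.dvd_prime Nat.prime_two).mp hdvd with hf1 | hf2
          · have e1 : k = opp α := P.root.injective (by rw [h8, hf1, Nat.cast_one, one_smul])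
            exact hkS (e1 ▸ hαopp)
          · refine hkS (hclosed (opp α) (opp α) k hαopp hαopp ?_)
            rw [h8, hf2, Nat.cast_ofNat, two_smul]
      rcases hnred with hr | rfl
      · refine ⟨⟨(RootSys.mem_posRoots_iff b k).mpr hr, hkS⟩, fun e => ?_⟩
        rw [Set.mem_singleton_iff] at e
        subst e
        have := hneg b _ (RootPairing.Base.isPos_of_mem_support hα)
        exact this hj
      · exact absurd hαopp hkS
    have hlt : (RedSub.posRoots P b' \ S).ncard < (RedSub.posRoots P b \ S).ncard :=
      lt_of_le_of_lt (Set.ncard_le_ncard hsub (Set.toFinite _))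
        (Set.ncard_sdiff_singleton_lt_of_mem
          ⟨(RootSys.mem_posRoots_iff b α).mpr (RootPairing.Base.isPos_of_mem_support hα), hαS⟩ (Set.toFinite _))
    have := Nat.find_min' hex ⟨b', rfl⟩
    omega
  refine ⟨b, fun k hk => ?_⟩
  rw [RootSys.mem_posRoots_iff] at hk
  exact hk.induction_on_add (p := fun k => k ∈ S) (fun i hi => hsimple i hi)
    (fun i j l e hi hj => hclosed i j l hi (hsimple j hj) e.symm)

end Groth.Agent.S8517
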