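import Groth.Agent.EtSect.Locus
import Mathlib
import Groth.Prelude.Def_EtAcyc
set_option autoImplicit false
set_option backward.isDefEq.respectTransparency false
universe u
open CategoryTheory CategoryTheory.Limits AlgebraicGeometry Opposite
namespace EtAcyc
end EtAcyc
open EtAcyc
open CategoryTheory AlgebraicGeometry Opposite

namespace Groth.Agent.S8524

/-- For the small etale site of a scheme and abelian sheaves: let L be a set of primes, F an abelian
L-torsion sheaf on the small etale site of a scheme X, and U an etale X-scheme with quasi-compact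
underlying space. Then every section of F over U is killed by some positive integer all of whose
prime factors lie in L. -/
theorem result {X : Scheme.{u}} (L : Set ℕ) (F : EtCoh.Ab X)
    (hF : EtAcyc.IsLTorsion L F) (U : X.Etale) [CompactSpace U.left] (s : EtCoh.sect F U) :
    ∃ m : ℕ, EtAcyc.PrimesIn L m ∧ m • s = 0 := by
  classical
  choose V g m hx hm hs using fun x => hF U s x
  have hopen : ∀ x, IsOpen (Set.range (g x).left) := fun x => by
    haveI : Etale (g x).left := Groth.Agent.EtSect.etale_left (g x)
    exact (g x).left.isOpenMap.isOpen_range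
  obtain ⟨t, ht⟩ := isCompact_univ.elim_finite_subcover (fun x => Set.range (g x).left) hopen
    (fun x _ => Set.mem_iUnion.mpr ⟨x, hx x⟩)
  refine ⟨∏ x ∈ t, m x, ⟨Finset.prod_pos fun x _ => (hm x).1, fun p hp hdvd => ?_⟩, ?_⟩
  · obtain ⟨x, hxt, hpx⟩ := (Prime.dvd_finset_prod_iff hp.prime _).mp hdvd
    exact (hm x).2 p hp hpx
  · refine Groth.Agent.EtSect.eq_zero_of_cover F _ fun v => ?_
    obtain ⟨x, hxt, hv⟩ := Set.mem_iUnion₂.mp (ht (Set.mem_univ v))
    refine ⟨V x, g x, hv, ?_⟩
    obtain ⟨k, hk⟩ := Finset.dvd_prod_of_mem m hxt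
    rw [map_nsmul, hk, mul_comm, mul_smul, hs, smul_zero]

end Groth.Agent.S8524
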