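import Groth.Statements.S8529
import Groth.Agent.EtPBC.AllBC
-- import your own Groth.Agent.* helpers here

set_option autoImplicit false
universe u
open CategoryTheory CategoryTheory.Limits AlgebraicGeometry
open EtBC

namespace Groth.Agent.S8529

/-- Let f : X → S be proper, ξ : Spec Ω → S a geometric point with Ω separably closed, X_ξ = X ×_S Spec
Ω the geometric fibre with projections g' : X_ξ → X and f' : X_ξ → Spec Ω, and F a torsion abelian
sheaf on the small etale site of X. Then for every q the degree-q base change morphism ξ⁻¹ R^q f_* F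
→ R^q f'_* g'⁻¹ F is an isomorphism. Since a sheaf on a separably closed point is given by its
global sections, this is the statement that the base change map from the stalk (R^q f_* F)_ξ to
H^q(X_ξ, F restricted) is bijective. -/
theorem result {X S : Scheme.{u}} (f : X ⟶ S) [IsProper f]
    {Ω : Type u} [Field Ω] [IsSepClosed Ω] (ξ : Spec (CommRingCat.of Ω) ⟶ S)
    [PreservesFiniteLimits (EtCoh.pull (pullback.fst f ξ))] (F : EtCoh.Ab X) (hF : EtCoh.IsTorsion F) (q : ℕ) :
    IsIso (EtBC.bcQ f ξ (pullback.snd f ξ) (pullback.fst f ξ) pullback.condition q F) := by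
  exact Groth.Agent.EtPBC.isIso_bcQ_proper f ξ (pullback.snd f ξ) (pullback.fst f ξ) (IsPullback.of_hasPullback f ξ)
    F (Groth.Agent.EtPBC.isLTorsion_univ_of_isTorsion hF) q

end Groth.Agent.S8529
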