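import Groth.Statements.S8531
import Groth.Agent.EtPicLib.Local
import Groth.Agent.EtMV.Main

set_option autoImplicit false
universe u
open CategoryTheory CategoryTheory.Limits AlgebraicGeometry Opposite
open EtPBC

set_option backward.isDefEq.respectTransparency false
set_option backward.isDefEq.respectTransparency.types false

namespace Groth.Agent.S8531

/-- In the form R^1 ε_* G_m = 0 for the morphism ε from the etale site to the Zariski site (equivalently
H^1(X_Zar, O_X^*) → H^1(X_et, G_m) is bijective, so H^1(X_et, G_m) is the Picard group): let X be a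
scheme, c a class in H^1(X_et, G_m) and x a point of X. Then there is an open neighbourhood U of x
such that the pullback of c to H^1(U_et, G_m restricted to U) is zero. -/
theorem result (X : Scheme.{u}) (c : EtCoh.H X (EtCoh.Gm X) 1) (x : X) :
    ∃ U : X.Opens, x ∈ U ∧ ∀ [PreservesFiniteLimits (EtCoh.pull U.ι)], EtCore.Hpull U.ι (EtCoh.Gm X) 1 c = 0 := by
  obtain ⟨q, rfl⟩ := EtPicLib.δ_surjective _ c
  obtain ⟨V, y, hxV, hy⟩ := EtPicLib.exists_lift_nhd q x
  refine ⟨V, hxV, fun {_} => ?_⟩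
  change EtCore.Hpull V.ι (EtCoh.Gm X) 1 (EtMV.eX X (EtCoh.Gm X) 1 _) = 0
  rw [EtMV.Hpull_eX]
  have h : (EtMV.P X).map (EtMV.toTop (EtMV.oo V)) ≫ (EtPicLib.sigmaAdd (EtCoh.top X) (EtMV.injSeq (EtCoh.Gm X)).X₃).symm q =
      EtMV.σ.symm y ≫ (EtMV.injSeq (EtCoh.Gm X)).g := EtMV.σ.injective (by
    rw [EtMV.σ_map, EtMV.σ_comp, Equiv.apply_symm_apply]
    refine Eq.trans ?_ hy.symm
    exact congrArg _ ((EtPicLib.sigmaAdd _ _).apply_symm_apply q))
  rw [CategoryTheory.Abelian.Ext.mk₀_comp_mk₀_assoc, h, ← CategoryTheory.Abelian.Ext.mk₀_comp_mk₀_assoc,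
    (EtMV.injSeq_shortExact (EtCoh.Gm X)).comp_extClass, CategoryTheory.Abelian.Ext.comp_zero, map_zero]

end Groth.Agent.S8531
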