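import Groth.Statements.S8536
import Groth.Agent.EtAcycX.Tors

set_option autoImplicit false
universe u
open CategoryTheory CategoryTheory.Limits AlgebraicGeometry Opposite
open EtAcyc CategoryTheory.Abelian

set_option backward.isDefEq.respectTransparency false

namespace Groth.Agent.S8536

/-- Let h : Y → X be a morphism of quasi-compact quasi-separated schemes, L a set of primes and n a
natural number, and suppose that for every abelian L-torsion sheaf on X the pullback map on etale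
cohomology along h is bijective in degrees ≤ n and injective in degree n + 1. Let u : F → G be a
monomorphism of abelian L-torsion sheaves on X and ξ a class in H^{n+1}(Y, h⁻¹F) whose image in
H^{n+1}(Y, h⁻¹G) comes from H^{n+1}(X, G). Then ξ comes from H^{n+1}(X, F). -/
theorem result {X Y : Scheme.{u}} [CompactSpace X] [QuasiSeparatedSpace X]
    [CompactSpace Y] [QuasiSeparatedSpace Y] (h : Y ⟶ X) (L : Set ℕ) (n : ℕ) (hc : EtAcyc.CompN h L n)
    [PreservesFiniteLimits (EtCoh.pull h)] {F G : EtCoh.Ab X} (u : F ⟶ G) [Mono u]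
    (hF : EtAcyc.IsLTorsion L F) (hG : EtAcyc.IsLTorsion L G)
    (ξ : EtCoh.H Y ((EtCoh.pull h).obj F) (n + 1))
    (hξ : (EtCoh.HF Y (n + 1)).map ((EtCoh.pull h).map u) ξ ∈ Set.range (EtCore.Hpull h G (n + 1))) :
    ξ ∈ Set.range (EtCore.Hpull h F (n + 1)) := by
  set S : ShortComplex (EtCoh.Ab X) := ShortComplex.mk u (cokernel.π u) (cokernel.condition u) with hSdef
  have hS : S.ShortExact := ShortComplex.ShortExact.mk' (S.exact_of_g_is_cokernel (cokernelIsCokernel u))
    inferInstance inferInstance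
  have hQ : EtAcyc.IsLTorsion L S.X₃ := Groth.Agent.EtAcycX.isLTorsion_of_epi L (cokernel.π u) hG
  obtain ⟨α, hα⟩ := hξ
  have hα' : EtCore.Hpull h G (n + 1) α =
      Ext.comp ξ (Ext.mk₀ ((EtCoh.pull h).map u)) (add_zero _) := hα
  have h1 : Ext.comp α (Ext.mk₀ S.g) (add_zero _) = 0 := by
    apply (hc S.X₃ hQ).2
    rw [map_zero, Groth.Agent.EtAcycX.Hpull_comp_mk₀, hα', Ext.comp_assoc_of_third_deg_zero,
      Ext.mk₀_comp_mk₀, ← Functor.map_comp, S.zero, Functor.map_zero, Ext.mk₀_zero, Ext.comp_zero]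
  obtain ⟨β, hβ⟩ := Ext.covariant_sequence_exact₂ _ hS α h1
  have h2 : Ext.comp (ξ - EtCore.Hpull h F (n + 1) β) (Ext.mk₀ ((S.map (EtCoh.pull h)).f)) (add_zero _) = 0 := by
    rw [sub_eq_add_neg, Ext.add_comp, Ext.neg_comp, ← sub_eq_add_neg, sub_eq_zero]
    refine hα'.symm.trans ?_
    rw [← hβ, Groth.Agent.EtAcycX.Hpull_comp_mk₀]
    rfl
  obtain ⟨γ, hγ⟩ := Ext.covariant_sequence_exact₁ _ (hS.map_of_exact (EtCoh.pull h)) _ h2 rfl
  obtain ⟨γ', hγ'⟩ := ((hc S.X₃ hQ).1 n le_rfl).2 γ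
  refine ⟨β + Ext.comp γ' hS.extClass rfl, ?_⟩
  rw [map_add, Groth.Agent.EtAcycX.Hpull_comp_extClass h hS γ' rfl, hγ']
  exact (congrArg _ hγ).trans (add_sub_cancel _ _)

end Groth.Agent.S8536
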