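import Groth.Statements.S8538
import Groth.Agent.S9684
import Groth.Agent.DeltaZ.Scheme
import Groth.Agent.Catenary.Space
import Groth.Agent.DimFormula.Scheme
import Groth.Agent.DimFormula.ResTrdeg
import Groth.Agent.Unibranch.Chains
import Groth.Agent.LocNoethTop.ClosedPoint
import Groth.Agent.ConsEngine.Core
import Groth.Prelude.Def_Dual3

set_option autoImplicit false
set_option backward.isDefEq.respectTransparency false
set_option linter.style.haveILetI false
universe u
open CategoryTheory CategoryTheory.Limits AlgebraicGeometry Opposite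
open EtCd

namespace Groth.Agent.S8538

/-- A closed point of a scheme of finite type over a Noetherian scheme maps to a locally closed point. -/
theorem isLocallyClosed_image_of_isClosed {X Y : Scheme.{u}} [IsLocallyNoetherian Y] (f : X ⟶ Y)
    [LocallyOfFiniteType f] [QuasiCompact f] {z : X} (hz : IsClosed ({z} : Set X)) :
    IsLocallyClosed ({f z} : Set Y) := by
  haveI := ConsEngine.lfp_of_lft f
  haveI : IsLocallyNoetherian X := LocallyOfFiniteType.isLocallyNoetherian f
  have h1 : Topology.IsLocallyConstructible ({z} : Set X) := ConsEngine.isLocallyConstructible_of_isClosed hz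
  obtain ⟨w, hw, hwc⟩ := LocNoethTop.exists_isLocallyClosed_singleton_of_isLocallyConstructible Y _
    (f.isLocallyConstructible_image h1) ⟨f z, z, rfl, rfl⟩
  rw [Set.image_singleton, Set.mem_singleton_iff] at hw
  exact hw ▸ hwc

/-- Let A be a Noetherian universally catenary local ring, f : X → Spec A a morphism of finite type, x a
point of X with image y, and X₀ the closed fibre of f. Put δ(x) = dim closure(y) + trdeg(κ(x)/κ(y))
= dim(A/p_y) + trdeg(κ(x)/κ(y)) and d(x) = dim closure(x) (topological Krull dimension of the
closure of x in X). Then d(x) = δ(x) when the closure of x meets X₀, and d(x) + 1 = δ(x) when it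
does not. -/
theorem result (A : Type u) [CommRing A] [IsNoetherianRing A] [IsLocalRing A]
    (hA : CAlg.IsUniversallyCatenary A) {X : Scheme.{u}} (f : X ⟶ Spec (CommRingCat.of A)) [LocallyOfFiniteType f]
    [QuasiCompact f] (x : X) (a b d : ℕ) (ha : ringKrullDim (A ⧸ (f.base x).asIdeal) = a)
    (hb : letI := (f.residueFieldMap x).hom.toAlgebra;
      Algebra.trdeg ((Spec (CommRingCat.of A)).residueField (f.base x)) (X.residueField x) = b)
    (hd : topologicalKrullDim ↥(closure ({x} : Set X)) = d) :
    ((closure ({x} : Set X) ∩ f.base ⁻¹' {((IsLocalRing.closedPoint A : PrimeSpectrum A) : ↥(Spec (CommRingCat.of A)))}).Nonempty →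
        d = a + b) ∧
    (closure ({x} : Set X) ∩ f.base ⁻¹' {((IsLocalRing.closedPoint A : PrimeSpectrum A) : ↥(Spec (CommRingCat.of A)))} = ∅ →
        d + 1 = a + b) := by
  let S := Spec (CommRingCat.of A)
  let m : S := (IsLocalRing.closedPoint A : PrimeSpectrum A)
  let δ : S → ℤ := fun p => ((Order.coheight (α := PrimeSpectrum A) p).toNat : ℤ)
  have hcat : CAlg.IsCatenary A := Catenary.isCatenary_of_isUniversallyCatenary hA
  haveI : IsLocallyNoetherian S := inferInstance
  have hset : Cyc.IsSetup S δ := by
    refine ⟨inferInstance, fun p => ?_, DeltaZ.dimFun_coheight hcat⟩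
    exact Catenary.isUniversallyCatenary_stalk (isAffineOpen_top S) p trivial
      (Catenary.isUniversallyCatenary_of_ringEquiv
        (Scheme.ΓSpecIso (CommRingCat.of A)).symm.commRingCatIsoToRingEquiv hA)
  haveI : IsLocallyNoetherian X := LocallyOfFiniteType.isLocallyNoetherian f
  haveI : CompactSpace X := QuasiCompact.compactSpace_of_compactSpace f
  let δX : X → ℤ := fun p => δ (f p) + (Dual3.resTrdeg f p).toNat
  have hcompat : Cyc.DeltaCompat f δX δ := fun p => by
    obtain ⟨n, hn, -⟩ := DimFormula.exists_trdeg_eq f p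
    refine ⟨n, hn, ?_⟩
    show δ (f p) + _ = _
    rw [show Dual3.resTrdeg f p = n from hn, Cardinal.toNat_natCast]
  have hdim := S9684.result f δ hset δX hcompat
  -- the value at x
  have hx : δX x = (a + b : ℕ) := by
    rw [DeltaZ.ringKrullDim_quotient_eq_coheight, ← WithBot.coe_natCast, WithBot.coe_inj] at ha
    show ((Order.coheight (α := PrimeSpectrum A) (f.base x)).toNat : ℤ) + _ = _
    rw [show Dual3.resTrdeg f x = b from hb, Cardinal.toNat_natCast, ha, ENat.toNat_natCast]
    push_cast
    rfl
  -- the value at closed points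
  have hclosed : ∀ z : X, IsClosed ({z} : Set X) → δX z = δ (f z) := fun z hz => by
    obtain ⟨n, hn, -, c, hc, hc'⟩ := DimFormula.exists_trdeg_eq f z
    show δ (f z) + _ = _
    rw [show Dual3.resTrdeg f z = n from hn, Cardinal.toNat_natCast]
    cases n with
    | zero => simp
    | succ k =>
      have e : ∀ i, c i = z := fun i => by simpa [hz.closure_eq] using (hc i).1
      exact absurd ((e _).trans (e _).symm) (hc' 0).2
  have hm : δ m = 0 := by
    show ((Order.coheight (α := PrimeSpectrum A) (IsLocalRing.closedPoint A)).toNat : ℤ) = 0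
    rw [(Order.coheight_eq_zero (α := PrimeSpectrum A)).mpr
      fun q _ => IsLocalRing.le_maximalIdeal q.isPrime.ne_top]
    rfl
  have hspec : ∀ p : PrimeSpectrum A, p ⤳ IsLocalRing.closedPoint A := fun p =>
    (PrimeSpectrum.le_iff_specializes _ _).mp (IsLocalRing.le_maximalIdeal p.isPrime.ne_top)
  have hpos : ∀ p : S, p ≠ m → 1 ≤ δ p := fun p hp => by
    have h := (hset.2.2 p m (hspec p) hp).1
    omega
  haveI : QuasiSober ↥(closure ({x} : Set X)) := isClosed_closure.isClosedEmbedding_subtypeVal.quasiSober
  -- chains are short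
  have hupper : ∀ e : ℤ, (∀ p : X, x ⤳ p → e ≤ δX p) → (d : ℤ) + e ≤ δX x := fun e he => by
    obtain ⟨c, hc⟩ := Unibranch.exists_chain_of_le_topologicalKrullDim hd.ge
    have hle : ∀ i : Fin (d + 1), δX (c i).1 + (i : ℕ) ≤ δX x := fun i => by
      induction i using Fin.induction with
      | zero =>
        have h : x ⤳ (c 0).1 := specializes_iff_mem_closure.mpr (c 0).2
        by_cases hne : x = (c 0).1
        · simp [← hne]
        · simpa using (hdim _ _ h hne).1.le
      | succ i ih =>
        have h := (hdim _ _ ((hc i).1.map continuous_subtype_val) (fun e' => (hc i).2 (Subtype.ext e'))).1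
        simp only [Fin.val_succ, Fin.val_castSucc] at ih ⊢
        omega
    have h1 := hle (Fin.last d)
    have h2 := he _ (specializes_iff_mem_closure.mpr (c (Fin.last d)).2)
    simp only [Fin.val_last] at h1
    omega
  -- saturated chains
  have hsat : ∀ (n : ℕ) (z : X), x ⤳ z → δX x = δX z + n → ∃ c : Fin (n + 1) → X,
      c (Fin.last n) = z ∧ (∀ i, x ⤳ c i) ∧ ∀ i : Fin n, c i.castSucc ⤳ c i.succ ∧ c i.castSucc ≠ c i.succ := by
    intro n
    induction n with
    | zero => exact fun z hz _ => ⟨fun _ => z, rfl, fun _ => hz, fun i => i.elim0⟩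
    | succ n ih =>
      intro z hz hn
      have hne : x ≠ z := fun e => by subst e; omega
      obtain ⟨w, hxw, hwz, hwne, hcov⟩ := DimFormula.exists_covered_between hz hne
      have hw := (hdim _ _ hwz hwne).2 hcov
      obtain ⟨c, hcl, hcx, hcs⟩ := ih w hxw (by omega)
      refine ⟨Fin.snoc c z, Fin.snoc_last .., fun i => ?_, fun i => ?_⟩
      · induction i using Fin.lastCases with
        | last => rw [Fin.snoc_last]; exact hz
        | cast j => rw [Fin.snoc_castSucc]; exact hcx j
      · induction i using Fin.lastCases with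
        | last => simp only [Fin.succ_last, Fin.snoc_last, Fin.snoc_castSucc, hcl]; exact ⟨hwz, hwne⟩
        | cast j => simp only [← Fin.castSucc_succ, Fin.snoc_castSucc]; exact hcs j
  have hlower : ∀ z : X, x ⤳ z → δX x ≤ δX z + d := fun z hz => by
    have hle : δX z ≤ δX x := by
      by_cases hne : x = z
      · rw [hne]
      · exact (hdim _ _ hz hne).1.le
    obtain ⟨n, hn⟩ := Int.eq_ofNat_of_zero_le (sub_nonneg.mpr hle)
    obtain ⟨c, -, hcx, hcs⟩ := hsat n z hz (by omega)
    have h := Unibranch.natCast_le_topologicalKrullDim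
      (α := ↥(closure ({x} : Set X))) (fun i => ⟨c i, specializes_iff_mem_closure.mp (hcx i)⟩)
      (fun i => ⟨subtype_specializes_iff _ _ |>.mpr (hcs i).1,
        fun e => (hcs i).2 (congrArg Subtype.val e)⟩)
    rw [hd] at h
    have : n ≤ d := by exact_mod_cast h
    omega
  refine ⟨fun hne => ?_, fun hemp => ?_⟩
  · obtain ⟨z, hz, hzc⟩ := LocNoethTop.exists_isClosed_singleton X (isClosed_closure.inter
      ((((IsLocalRing.isClosed_singleton_closedPoint A) : IsClosed ({m} : Set S))).preimage f.continuous)) hne
    have h1 := hlower z (specializes_iff_mem_closure.mpr hz.1)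
    rw [hclosed z hzc, show f z = m from hz.2, hm, zero_add] at h1
    have h2 := hupper 0 fun p _ => by positivity
    omega
  · have h2 := hupper 1 fun p hp => by
      have hp' : f p ≠ m := fun e =>
        (Set.eq_empty_iff_forall_notMem.mp hemp) p ⟨specializes_iff_mem_closure.mp hp, e⟩
      have := hpos _ hp'
      show 1 ≤ δ (f p) + _
      omega
    obtain ⟨z, hz, hzc⟩ := LocNoethTop.exists_isClosed_singleton X (isClosed_closure (s := ({x} : Set X)))
      ⟨x, subset_closure rfl⟩
    have h1 := hlower z (specializes_iff_mem_closure.mpr hz)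
    have hzm : f z ≠ m := fun e => (Set.eq_empty_iff_forall_notMem.mp hemp) z ⟨hz, e⟩
    -- the image of a closed point is locally closed, so covered by m
    have hlc := isLocallyClosed_image_of_isClosed f hzc
    have h3 := (hset.2.2 (f z) m (hspec (f z)) hzm).2
      fun q hq1 hq2 => by
        by_cases hq : q = f z
        · exact Or.inl hq
        · exact Or.inr (LocNoethTop.eq_of_isLocallyClosed_prime (A := A) (f z) hlc hq1 hq hq2)
    rw [hclosed z hzc, h3, hm, zero_add] at h1
    omega

end Groth.Agent.S8538
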