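import Groth.Statements.S8541
import Groth.Agent.FlatCI.Main
import Groth.Agent.PnSpec.Basic

set_option backward.isDefEq.respectTransparency false

set_option autoImplicit false
universe u
open CategoryTheory CategoryTheory.Limits AlgebraicGeometry Opposite
open EtCd

namespace Groth.Agent.S8541

/-- Let A be a Noetherian local ring, S = Spec A, and X a closed subscheme of the projective space P^N_S
(closed immersion i) whose fibres over S all have dimension at most n. Then there is a closed
subscheme Z of P^N_S which is flat over S with all fibres of dimension at most n and which contains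
X: a closed immersion j : Z → P^N_S with Z → S flat of relative dimension ≤ n and a closed immersion
g : X → Z with g ≫ j = i. -/
theorem result (A : Type u) [CommRing A] [IsNoetherianRing A] [IsLocalRing A]
    (N n : ℕ) {X : Scheme.{u}} (i : X ⟶ CohB1.ProjSpaceOver N (Spec (CommRingCat.of A))) [IsClosedImmersion i]
    (hdim : ∀ s : ↥(Spec (CommRingCat.of A)),
      topologicalKrullDim ↥((i ≫ CohB1.ProjSpaceOver.toBase N (Spec (CommRingCat.of A))).fiber s) ≤ n) :
    ∃ (Z : Scheme.{u}) (j : Z ⟶ CohB1.ProjSpaceOver N (Spec (CommRingCat.of A))) (g : X ⟶ Z),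
      IsClosedImmersion j ∧ IsClosedImmersion g ∧ g ≫ j = i ∧
      Flat (j ≫ CohB1.ProjSpaceOver.toBase N (Spec (CommRingCat.of A))) ∧
      ∀ s : ↥(Spec (CommRingCat.of A)),
        topologicalKrullDim ↥((j ≫ CohB1.ProjSpaceOver.toBase N (Spec (CommRingCat.of A))).fiber s) ≤ n := by
  obtain ⟨e, he⟩ := PnSpec.exists_iso N A
  let ι : X ⟶ Proj (CohB1.polyGrading N A) := i ≫ e.inv
  haveI : IsClosedImmersion ι := inferInstanceAs (IsClosedImmersion (i ≫ e.inv))
  have hι : ι ≫ CohB1.ProjSpace.toSpec N A = i ≫ CohB1.ProjSpaceOver.toBase N (Spec (CommRingCat.of A)) := by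
    rw [← he]
    change (i ≫ e.inv) ≫ e.hom ≫ _ = _
    rw [Category.assoc, Iso.inv_hom_id_assoc]
  rw [← hι] at hdim
  obtain ⟨Z, j, g, hj, hg, hgj, hflat, hZ⟩ := FlatCI.exists_thickening ι hdim
  let j' : Z ⟶ CohB1.ProjSpaceOver N (Spec (CommRingCat.of A)) := j ≫ e.hom
  have hj' : j' ≫ CohB1.ProjSpaceOver.toBase N (Spec (CommRingCat.of A)) = j ≫ CohB1.ProjSpace.toSpec N A := by
    change (j ≫ e.hom) ≫ _ = _
    rw [Category.assoc, he]
  refine ⟨Z, j', g, inferInstanceAs (IsClosedImmersion (j ≫ e.hom)), hg, ?_, hj' ▸ hflat, ?_⟩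
  · change g ≫ j ≫ e.hom = i
    rw [← Category.assoc, hgj]
    change (i ≫ e.inv) ≫ e.hom = i
    rw [Category.assoc, Iso.inv_hom_id, Category.comp_id]
  · rw [hj']
    exact hZ

end Groth.Agent.S8541
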