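import Groth.Agent.EtStalk.Applications
import Groth.Agent.EtStalk.Conservative
import Groth.Prelude.Def_SGA4b
import Mathlib

set_option autoImplicit false
universe u
open CategoryTheory CategoryTheory.Limits AlgebraicGeometry Opposite


set_option backward.isDefEq.respectTransparency false
set_option backward.isDefEq.respectTransparency.types false
set_option maxHeartbeats 1000000

namespace Groth.Agent.S8542

theorem secPull_natural {X Y : Scheme.{u}} (h : Y ⟶ X) {F G : EtDesc.Sh X} (φ : F ⟶ G)
    (s : EtDesc.sect F (EtCoh.top X)) :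
    ((EtDesc.pullSh h).map φ).hom.app (op (EtCoh.top Y)) (EtDesc.secPull h F s) =
      EtDesc.secPull h G (φ.hom.app (op (EtCoh.top X)) s) := by
  have h1 := congrArg (fun m : F ⟶ (EtDesc.pushSh h).obj ((EtDesc.pullSh h).obj G) =>
    m.hom.app (op (EtCoh.top X)) s) ((EtDesc.adjSh h).unit.naturality φ)
  simp only [EtDesc.secPull]
  rw [NatTrans.naturality_apply]
  exact congrArg _ h1.symm

theorem injective_fiber_map {X : Scheme.{u}} {Ω : Type u} [Field Ω] [IsSepClosed Ω] (η : Spec (CommRingCat.of Ω) ⟶ X)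
    {P Q : X.Etaleᵒᵖ ⥤ Type (u + 1)} (φ : P ⟶ Q) (hφ : ∀ U, Function.Injective (φ.app U)) :
    Function.Injective ((Scheme.pointSmallEtale η).presheafFiber.map φ) := by
  intro p q hpq
  let Φ := Scheme.pointSmallEtale η
  obtain ⟨U, x, s, rfl⟩ := Φ.toPresheafFiber_jointly_surjective (P := P) p
  obtain ⟨U', x', s', rfl⟩ := Φ.toPresheafFiber_jointly_surjective (P := P) q
  obtain ⟨W, a, b, -⟩ := IsCofilteredOrEmpty.cone_objs
    (Functor.elementsMk Φ.fiber U x) (Functor.elementsMk Φ.fiber U' x')
  have h1 := GrothendieckTopology.Point.toPresheafFiber_w_apply Φ a.1 W.2 P s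
  have h2 := GrothendieckTopology.Point.toPresheafFiber_w_apply Φ b.1 W.2 P s'
  have ha : Φ.fiber.map a.1 W.2 = x := a.2
  have hb : Φ.fiber.map b.1 W.2 = x' := b.2
  rw [ha] at h1; rw [hb] at h2
  rw [← h1, ← h2] at hpq ⊢
  rw [GrothendieckTopology.Point.toPresheafFiber_naturality_apply,
    GrothendieckTopology.Point.toPresheafFiber_naturality_apply] at hpq
  obtain ⟨V, g, y, hy, hg⟩ := (Φ.toPresheafFiber_eq_iff' (P := Q) W.1 W.2 _ _).mp hpq
  refine (Φ.toPresheafFiber_eq_iff' (P := P) W.1 W.2 _ _).mpr ⟨V, g, y, hy, hφ _ ?_⟩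
  exact (NatTrans.naturality_apply φ g.op _).trans (hg.trans (NatTrans.naturality_apply φ g.op _).symm)

theorem mono_map_pullSh {X Y : Scheme.{u}} (h : Y ⟶ X) {F G : EtDesc.Sh X} (u : F ⟶ G) [Mono u] :
    Mono ((EtDesc.pullSh h).map u) := by
  have : Presheaf.IsLocallyInjective Y.smallEtaleTopology ((EtDesc.pullSh h).map u).hom :=
    Groth.Agent.EtStalk.isLocallyInjective_of_stalk _ fun Ω _ _ ξ => by
      let e := Groth.Agent.EtStalk.stalkPullShIso h ξ
      have hm : Mono ((Scheme.pointSmallEtale (ξ ≫ h)).sheafFiber.map u) := by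
        refine (mono_iff_injective _).2 (injective_fiber_map (ξ ≫ h) u.hom fun U => ?_)
        haveI : Mono u.hom := (sheafToPresheaf _ _).map_mono u
        exact (mono_iff_injective _).1 inferInstance
      have hc : Mono ((EtDesc.pullSh h ⋙ (Scheme.pointSmallEtale ξ).sheafFiber).map u) := by
        rw [← NatIso.naturality_1 e u]
        infer_instance
      exact (mono_iff_injective ((Scheme.pointSmallEtale ξ).presheafFiber.map ((EtDesc.pullSh h).map u).hom)).1 hc
  exact Sheaf.mono_of_isLocallyInjective _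


/-- Let h : Y → X be a morphism of quasi-compact quasi-separated schemes such that for every sheaf of
sets F on the small etale site of X the pullback map Γ(X, F) → Γ(Y, h^*F) is injective. Let u : F →
G be a monomorphism of sheaves of sets on X and ξ ∈ Γ(Y, h^*F) a section whose image in Γ(Y, h^*G)
lies in the image of Γ(X, G). Then ξ lies in the image of Γ(X, F). -/
theorem result {X Y : Scheme.{u}} [CompactSpace X] [QuasiSeparatedSpace X]
    [CompactSpace Y] [QuasiSeparatedSpace Y] (h : Y ⟶ X)
    (hinj : ∀ F : EtDesc.Sh X, Function.Injective (EtDesc.secPull h F))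
    {F G : EtDesc.Sh X} (u : F ⟶ G) [Mono u] (ξ : EtDesc.sect ((EtDesc.pullSh h).obj F) (EtCoh.top Y))
    (hξ : ((EtDesc.pullSh h).map u).hom.app (op (EtCoh.top Y)) ξ ∈ Set.range (EtDesc.secPull h G)) :
    ξ ∈ Set.range (EtDesc.secPull h F) := by
  obtain ⟨s, hs⟩ := hξ
  let R := regularMonoOfMono u
  have key : R.left.hom.app (op (EtCoh.top X)) s = R.right.hom.app (op (EtCoh.top X)) s := by
    apply hinj R.Z
    rw [← secPull_natural, ← secPull_natural, hs]
    exact congrArg (fun m => m.hom.app (op (EtCoh.top Y)) ξ) (show (EtDesc.pullSh h).map u ≫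
      (EtDesc.pullSh h).map R.left = (EtDesc.pullSh h).map u ≫ (EtDesc.pullSh h).map R.right by
        rw [← Functor.map_comp, ← Functor.map_comp, R.w])
  let E := (sheafSections X.smallEtaleTopology (Type (u + 1))).obj (op (EtCoh.top X))
  haveI : PreservesLimit (parallelPair R.left R.right) E :=
    inferInstanceAs (PreservesLimit (parallelPair R.left R.right)
      (sheafToPresheaf X.smallEtaleTopology (Type (u + 1)) ⋙ (evaluation _ _).obj (op (EtCoh.top X))))
  have hl : IsLimit (Fork.ofι (E.map u) (by rw [← E.map_comp, ← E.map_comp, R.w]) : Fork (E.map R.left) (E.map R.right)) :=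
    isLimitForkMapOfIsLimit E R.w R.isLimit
  obtain ⟨a, ha, -⟩ := Types.unique_of_type_equalizer _ _ hl s key
  haveI := mono_map_pullSh h u
  haveI : Mono ((EtDesc.pullSh h).map u).hom := (sheafToPresheaf _ _).map_mono _
  refine ⟨a, (mono_iff_injective (((EtDesc.pullSh h).map u).hom.app (op (EtCoh.top Y)))).1 inferInstance ?_⟩
  rw [secPull_natural]
  exact (congrArg _ ha).trans hs

end Groth.Agent.S8542
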