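import Groth.Statements.S8544
import Groth.Agent.EtRadFin.Main

set_option autoImplicit false
universe u
open CategoryTheory CategoryTheory.Limits AlgebraicGeometry Opposite
open EtPBC

namespace Groth.Agent.S8544

/-- Let f : X → Y be a surjective morphism locally of finite presentation, with Y quasi-compact and
quasi-separated. Then there are a finite partition of Y by subschemes Y_i of finite presentation
over Y (immersions e_i of finite presentation with pairwise disjoint images covering Y) and, for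
each i, finite surjective morphisms g_i : Y_i'' → Y_i' and h_i : Y_i' → Y_i with h_i etale and g_i
flat, of finite presentation and radicial (universally injective), together with a Y-morphism s_i :
Y_i'' → X, i.e. s_i followed by f equals g_i, h_i, e_i composed. -/
theorem result {X Y : Scheme.{u}} (f : X ⟶ Y) [Surjective f]
    [LocallyOfFinitePresentation f] [CompactSpace Y] [QuasiSeparatedSpace Y] :
    ∃ (m : ℕ) (T T' T'' : Fin m → Scheme.{u}) (e : ∀ i, T i ⟶ Y) (hh : ∀ i, T' i ⟶ T i) (gg : ∀ i, T'' i ⟶ T' i)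
      (s : ∀ i, T'' i ⟶ X),
      (∀ i, IsImmersion (e i) ∧ LocallyOfFinitePresentation (e i) ∧ QuasiCompact (e i)) ∧
      Pairwise (fun i j => Disjoint (Set.range (e i).base) (Set.range (e j).base)) ∧
      (⋃ i, Set.range (e i).base) = Set.univ ∧
      (∀ i, IsFinite (hh i) ∧ Surjective (hh i) ∧ Etale (hh i)) ∧
      (∀ i, IsFinite (gg i) ∧ Surjective (gg i) ∧ Flat (gg i) ∧ LocallyOfFinitePresentation (gg i) ∧
        UniversallyInjective (gg i)) ∧
      ∀ i, s i ≫ f = gg i ≫ hh i ≫ e i := by
  obtain ⟨P, p, h1, h2, h3, h4⟩ := Groth.Agent.EtRad.exists_affine_surjective f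
  haveI := h1
  haveI := h2
  haveI := h3
  haveI := h4
  obtain ⟨ι, hι, T, T', T'', e, h, g, σ, a1, a2, a3, a4, a5, a6⟩ := Groth.Agent.EtRadFin.exists_stratification (p ≫ f)
  obtain ⟨m, ⟨c⟩⟩ := Finite.exists_equiv_fin ι
  refine ⟨m, fun i => T (c.symm i), fun i => T' (c.symm i), fun i => T'' (c.symm i), fun i => e _, fun i => h _,
    fun i => g _, fun i => σ _ ≫ p, fun i => ⟨(a1 _).2.1, (a1 _).2.2.2, (a1 _).2.2.1⟩,
    fun i j hij => a2 _ _ (c.symm.injective.ne hij), ?_, fun i => ?_, fun i => ?_,
    fun i => (Category.assoc _ _ _).trans (a6 _)⟩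
  · rw [← a3]
    exact c.symm.surjective.iUnion_comp fun i => Set.range (e i).base
  · obtain ⟨x1, -, x3, x4, -⟩ := a4 (c.symm i)
    exact ⟨x1, x4, x3⟩
  · obtain ⟨-, x2, -⟩ := a4 (c.symm i)
    obtain ⟨y1, y2, y3, y4, -⟩ := a5 (c.symm i)
    exact ⟨x2, y3, y1, y4, y2⟩

end Groth.Agent.S8544
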