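import Groth.Statements.S8545
import Groth.Agent.EtPBC.ShPoints

set_option autoImplicit false
universe u
open CategoryTheory CategoryTheory.Limits AlgebraicGeometry Opposite
open EtCd

namespace Groth.Agent.S8545

/-- Let f : X → Y be a morphism of schemes of finite type over a field k, x a point of X with image y,
y₀ a specialization of y in Y, R a strict henselization of the local ring of Y at y₀ with Y' = Spec
R → Y the strict localization and X' = X ×_Y Y' with projection f' : X' → Y', and let x' be a point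
of X' lying over x, with image y' in Y'. Writing δ(x') = dim closure(y') + trdeg(κ(x')/κ(y'))
(closure in Y' = Spec R, so dim closure(y') = dim R/p_{y'}) and d for the dimension of the closure
of a point in X or Y, one has δ(x') = d(x) - d(y₀); stated as δ(x') + d(y₀) = d(x). -/
theorem result (k : Type u) [Field k] {X Y : Scheme.{u}}
    (aX : X ⟶ Spec (CommRingCat.of k)) (aY : Y ⟶ Spec (CommRingCat.of k)) [LocallyOfFiniteType aX] [QuasiCompact aX]
    [LocallyOfFiniteType aY] [QuasiCompact aY] (f : X ⟶ Y) (w : f ≫ aY = aX) (x : X) (y₀ : Y) (hsp : f.base x ⤳ y₀)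
    (R : Type u) [CommRing R] [IsLocalRing R] [Algebra (Y.presheaf.stalk y₀) R]
    [IsLocalHom (algebraMap (Y.presheaf.stalk y₀) R)] [Hensel.IsStrictHenselization (Y.presheaf.stalk y₀) R]
    (x' : ↥(pullback f (Hens2.specOf Y y₀ R))) (hx' : (pullback.fst f (Hens2.specOf Y y₀ R)).base x' = x)
    (a b dx dy : ℕ)
    (ha : ringKrullDim (R ⧸ ((pullback.snd f (Hens2.specOf Y y₀ R)).base x').asIdeal) = a)
    (hb : letI := ((pullback.snd f (Hens2.specOf Y y₀ R)).residueFieldMap x').hom.toAlgebra;
      Algebra.trdeg ((Spec (CommRingCat.of R)).residueField ((pullback.snd f (Hens2.specOf Y y₀ R)).base x'))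
        ((pullback f (Hens2.specOf Y y₀ R)).residueField x') = b)
    (hdx : topologicalKrullDim ↥(closure ({x} : Set X)) = dx)
    (hdy : topologicalKrullDim ↥(closure ({y₀} : Set Y)) = dy) :
    a + b + dy = dx := by
  subst hx'
  have hr := Groth.Agent.EtPBC.dim_closure_eq aY y₀ hdy
  have hx := Groth.Agent.EtPBC.dim_closure_eq aX _ hdx
  have h1 := Groth.Agent.EtPBC.trdg_over_sh_scheme aY y₀ R (pullback.snd f (Hens2.specOf Y y₀ R)) x' hr ha hb
  have h2 : Groth.Agent.EtPBC.trdg (Groth.Agent.EtPBC.kStr (pullback.fst f (Hens2.specOf Y y₀ R) ≫ aX) x') = (dx : Cardinal.{u}) := by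
    rw [Groth.Agent.EtPBC.kStr_comp_eq, Groth.Agent.EtPBC.trdg_comp_integral_right _ _
      (Groth.Agent.EtPBC.isIntegral_residueFieldMap_fst f (Hens2.specOf Y y₀ R) x'
        (Groth.Agent.EtPBC.isIntegral_residueFieldMap_specOf aY y₀ R _))]
    exact hx
  rw [← pullback.condition_assoc, w, h2, Nat.cast_inj] at h1
  omega

end Groth.Agent.S8545
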