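import Groth.Prelude.Def_EtBCD
import Mathlib.AlgebraicGeometry.Morphisms.QuasiSeparated

set_option backward.isDefEq.respectTransparency false
set_option backward.isDefEq.respectTransparency.types false
-- import your own Groth.Agent.* helpers here

set_option autoImplicit false
universe u
open CategoryTheory CategoryTheory.Limits AlgebraicGeometry Opposite
open EtBC

namespace Groth.Agent.S8547

/-- Let h : Y → X and p : X̄ → X be morphisms of schemes with X, Y, X̄ quasi-compact and quasi-separated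
(p need not be surjective), and Ȳ = Y ×_X X̄ with projections h̄ : Ȳ → X̄ and p_Y : Ȳ → Y. If the
pullback map on global sections Γ(X, F) → Γ(Y, h^*F) is injective for every sheaf of sets F on X and
the base change morphism h^* p_* F̄ → p_{Y*} h̄^* F̄ is a monomorphism for every sheaf of sets F̄ on
X̄, then Γ(X̄, F̄) → Γ(Ȳ, h̄^*F̄) is injective for every F̄. If the maps for h are bijective and the
base change morphisms are isomorphisms, then the maps for h̄ are bijective. -/
theorem result {X Y Xb Yb : Scheme.{u}} [CompactSpace X]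
    [QuasiSeparatedSpace X] [CompactSpace Y] [QuasiSeparatedSpace Y] [CompactSpace Xb] [QuasiSeparatedSpace Xb]
    (h : Y ⟶ X) (p : Xb ⟶ X) (hb : Yb ⟶ Xb) (pY : Yb ⟶ Y) (sq : IsPullback hb pY p h) :
    ((∀ F : EtDesc.Sh X, Function.Injective (EtDesc.secPull h F)) →
      (∀ Fb : EtDesc.Sh Xb, Mono (EtBC.baseChange0Sh p h pY hb sq.w Fb)) →
      ∀ Fb : EtDesc.Sh Xb, Function.Injective (EtDesc.secPull hb Fb)) ∧
    ((∀ F : EtDesc.Sh X, Function.Bijective (EtDesc.secPull h F)) →
      (∀ Fb : EtDesc.Sh Xb, IsIso (EtBC.baseChange0Sh p h pY hb sq.w Fb)) →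
      ∀ Fb : EtDesc.Sh Xb, Function.Bijective (EtDesc.secPull hb Fb)) := by
  have key : ∀ (Fb : EtDesc.Sh Xb) (s : EtDesc.sect Fb (EtCoh.top Xb)),
      EtDesc.secPull hb Fb s =
        ((EtDesc.pullSh hb).obj Fb).obj.map (EtCore.bcTopIso pY).inv.op
          ((EtBC.baseChange0Sh p h pY hb sq.w Fb).hom.app (op (EtCoh.top Y))
            (EtDesc.secPull h ((EtDesc.pushSh p).obj Fb) (Fb.obj.map (EtCore.bcTopIso p).hom.op s))) := by
    intro Fb s
    set P := (EtDesc.pushSh p).obj Fb with hP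
    set G := (EtDesc.pullSh hb).obj Fb with hG
    set b := EtBC.baseChange0Sh p h pY hb sq.w Fb with hb0
    have hα : (EtDesc.adjSh h).unit.app P ≫ (EtDesc.pushSh h).map b =
        (EtDesc.pushSh p).map ((EtDesc.adjSh hb).unit.app Fb) ≫ (EtDesc.pushCompSh p hb).hom.app G ≫
          (EtBC.pushCongrSh sq.w).hom.app G ≫ (EtDesc.pushCompSh h pY).inv.app G := by
      refine (Adjunction.homEquiv_unit (EtDesc.adjSh h) _ _ b).symm.trans ?_
      exact Equiv.apply_symm_apply _ _
    have happ := congrArg (fun φ => φ.hom.app (op (EtCoh.top X))) hα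
    have hs := congrArg (fun φ => φ (Fb.obj.map (EtCore.bcTopIso p).hom.op s)) happ
    simp only [EtDesc.pushCompSh, EtBC.pushCongrSh] at hs
    dsimp at hs
    simp only [EtDesc.secPull]
    erw [b.hom.naturality_apply]
    erw [hs]
    have hn := (((EtDesc.adjSh hb).unit.app Fb).hom.naturality_apply (EtCore.bcTopIso p).hom.op s)
    erw [hn]
    dsimp
    simp only [Functor.sheafPushforwardContinuousComp'_hom_app_hom_app, Functor.sheafPushforwardContinuousComp'_inv_app_hom_app, Functor.sheafPushforwardContinuousIso_hom, Functor.sheafPushforwardContinuousNatTrans_app_hom]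
    have T : ∀ {A B C D E E' F : Yb.Etale} (_ : Limits.IsTerminal A) (a : F ⟶ A) (a1 : B ⟶ A) (a2 : C ⟶ B) (a3 : D ⟶ C)
        (a4 : E ⟶ D) (a5 : E' ⟶ E) (a6 : F ⟶ E') (t : G.obj.obj (op A)),
        G.obj.map a.op t = G.obj.map a6.op (G.obj.map a5.op (G.obj.map a4.op (G.obj.map a3.op
          (G.obj.map a2.op (G.obj.map a1.op t))))) := by
      intro A B C D E E' F hA a a1 a2 a3 a4 a5 a6 t
      simp only [← Functor.map_comp_apply, ← op_comp]
      rw [hA.hom_ext a (a6 ≫ a5 ≫ a4 ≫ a3 ≫ a2 ≫ a1)]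
    exact T (EtCore.bcTopIsTerminal hb) (EtCore.bcTopIso hb).inv
      ((EtCoh.bc hb).map (EtCore.bcTopIso p).hom)
      ((MorphismProperty.Over.pullbackComp hb p (hb ≫ p) rfl).symm.inv.app (EtCoh.top X))
      ((MorphismProperty.Over.pullbackCongr (P := EtCoh.etaleMP) (Q := ⊤) sq.w).inv.app (EtCoh.top X))
      ((MorphismProperty.Over.pullbackComp pY h (pY ≫ h) rfl).symm.hom.app (EtCoh.top X))
      ((EtCoh.bc pY).map (EtCore.bcTopIso h).inv)
      (EtCore.bcTopIso pY).inv _
  have bij : ∀ (Fb : EtDesc.Sh Xb), Function.Bijective (fun s : EtDesc.sect Fb (EtCoh.top Xb) => Fb.obj.map (EtCore.bcTopIso p).hom.op s) :=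
    fun Fb => ConcreteCategory.bijective_of_isIso (Fb.obj.map (EtCore.bcTopIso p).hom.op)
  have bij' : ∀ (Fb : EtDesc.Sh Xb), Function.Bijective (((EtDesc.pullSh hb).obj Fb).obj.map (EtCore.bcTopIso pY).inv.op) :=
    fun Fb => ConcreteCategory.bijective_of_isIso (((EtDesc.pullSh hb).obj Fb).obj.map (EtCore.bcTopIso pY).inv.op)
  refine ⟨fun hF hM Fb => ?_, fun hF hI Fb => ?_⟩
  · rw [funext (key Fb)]
    have := hM Fb
    have : Mono ((EtBC.baseChange0Sh p h pY hb sq.w Fb).hom) :=
      inferInstanceAs (Mono ((sheafToPresheaf _ _).map (EtBC.baseChange0Sh p h pY hb sq.w Fb)))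
    exact (bij' Fb).1.comp (((mono_iff_injective _).1 inferInstance).comp ((hF _).comp (bij Fb).1))
  · rw [funext (key Fb)]
    have := hI Fb
    have : IsIso ((EtBC.baseChange0Sh p h pY hb sq.w Fb).hom) :=
      inferInstanceAs (IsIso ((sheafToPresheaf _ _).map (EtBC.baseChange0Sh p h pY hb sq.w Fb)))
    exact (bij' Fb).comp ((ConcreteCategory.bijective_of_isIso _).comp ((hF _).comp (bij Fb)))

end Groth.Agent.S8547
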