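import Groth.Statements.S8550
import Groth.Agent.PicSurjDimOne.Basic

set_option autoImplicit false
universe u
open CategoryTheory CategoryTheory.Limits AlgebraicGeometry Opposite
open EtCd

namespace Groth.Agent.S8550

/-- In the case where X₀ admits an ample invertible sheaf (so that every finite set of points of X₀ lies
in an affine open of X₀): let X be a Noetherian scheme and i : X₀ → X a closed immersion such that
(a) dim X₀ ≤ 1 and (b) for every nonempty connected closed subset Y of X, Y ∩ i(X₀) is nonempty and
connected. If X₀ carries an ample invertible module, then Pic(X) → Pic(X₀) is surjective: every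
invertible module class on X₀ is the pullback of an invertible module class on X. -/
theorem result (X X₀ : Scheme.{u}) [IsNoetherian X]
    (i : X₀ ⟶ X) [IsClosedImmersion i] (ha : topologicalKrullDim X₀ ≤ 1)
    (hb : ∀ Y : Set X, IsClosed Y → Y.Nonempty → _root_.IsConnected Y →
      (Y ∩ Set.range i.base).Nonempty ∧ _root_.IsConnected (Y ∩ Set.range i.base))
    (hamp : ∃ L : X₀.Modules, CohB1.IsAmple L)
    (c : PicF.Cl X₀) (hc : PicF.IsInvertibleCl c) :
    ∃ d : PicF.Cl X, PicF.IsInvertibleCl d ∧ PicF.pullCl i d = c := by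
  obtain ⟨L, rfl, hL⟩ := hc
  obtain ⟨N, hN, ⟨e⟩⟩ := Groth.Agent.PicSurjDimOne.exists_pullback_iso i ha
    (Groth.Agent.PicSurjDimOne.isolates_of_connected i hb) L hL
  exact ⟨PicF.cl N, ⟨N, rfl, hN⟩, Quot.sound ⟨e⟩⟩

end Groth.Agent.S8550
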