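import Groth.Statements.S8554
import Groth.Agent.GrpGodement.Flasque

set_option autoImplicit false
universe u
open CategoryTheory CategoryTheory.Limits AlgebraicGeometry Opposite
open NonAbH1

namespace Groth.Agent.S8554

/-- Every sheaf of groups F on the small etale site of a scheme X embeds into a sheaf of groups G with
vanishing first non-abelian cohomology on every etale X-scheme: there are G and a morphism u : F ⟶
G, injective on sections over every object of the site, such that for every etale X-scheme U every
torsor under the restriction of G to the induced site over U is trivial, i.e. H¹(U, G) is reduced to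
its base point. (The published statement adds that the first higher direct images of G along any
morphism of schemes then vanish as pointed sheaves; that clause follows from this one and is not
stated here.) -/
theorem result {X : Scheme.{u}}
    (F : Sheaf X.smallEtaleTopology GrpCat.{u + 1}) :
    ∃ (G : Sheaf X.smallEtaleTopology GrpCat.{u + 1}) (φ : F ⟶ G),
      (∀ U : X.Etaleᵒᵖ, Function.Injective (φ.hom.app U)) ∧
      ∀ (U : X.Etale) (P : NonAbH1.Torsor (G.over U)), P.IsTrivial := by
  refine ⟨GrpGodement.god F.obj, GrpGodement.toGod F, GrpGodement.toGod_injective F, fun U P => ?_⟩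
  obtain ⟨σ, hσ⟩ := GrpGodement.exists_sections F.obj U P
  let G := (GrpGodement.god F.obj).over U
  let e : (NonAbH1.GSheaf.trivial G).P.obj ≅ P.P.obj := NatIso.ofComponents (fun V => Equiv.toIso
      (Equiv.ofBijective (fun g => P.smul (NonAbH1.GSheaf.toGrp (G := G) g) (σ V))
        ⟨fun g g' h => (P.isTorsor.1 V (σ V) _).unique (rfl : P.smul (NonAbH1.GSheaf.toGrp (G := G) g) (σ V) = _) h.symm,
          fun q => ⟨(P.isTorsor.1 V (σ V) q).exists.choose, (P.isTorsor.1 V (σ V) q).exists.choose_spec⟩⟩))
    (fun {V W} f => by
      ext g
      exact (congrArg (P.smul _) (hσ f).symm).trans (P.map_smul f (NonAbH1.GSheaf.toGrp (G := G) g) (σ V)).symm)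
  exact ⟨{
    hom := ⟨⟨e.hom⟩, fun {V} g p => P.mul_smul g (NonAbH1.GSheaf.toGrp (G := G) p) (σ V)⟩
    inv := ⟨⟨e.inv⟩, fun {V} g p => by
      apply (e.app V).toEquiv.injective
      refine ((e.app V).toEquiv.apply_symm_apply _).trans ?_
      have := P.mul_smul g (NonAbH1.GSheaf.toGrp (G := G) (e.inv.app V p)) (σ V)
      exact ((this).trans (congrArg (P.smul g) ((e.app V).toEquiv.apply_symm_apply p))).symm⟩
    hom_inv_id := NonAbH1.GSheaf.hom_ext (Sheaf.hom_ext e.hom_inv_id)
    inv_hom_id := NonAbH1.GSheaf.hom_ext (Sheaf.hom_ext e.inv_hom_id) }⟩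

end Groth.Agent.S8554
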