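import Groth.Statements.S8564
import Groth.Agent.SiteCoh.TotAcyclicPush

set_option autoImplicit false
open CategoryTheory CategoryTheory.Limits
universe u
open CohCx

namespace Groth.Agent.S8564

open Abelian in
section
variable {C : Type u} [SmallCategory C] {J : GrothendieckTopology C} {T : Type u}

/-- The injective embedding with its cokernel. -/
noncomputable abbrev embSC (G : Sheaf J AddCommGrpCat.{u}) : ShortComplex (Sheaf J AddCommGrpCat.{u}) :=
  ShortComplex.mk (Injective.ι G) (cokernel.π (Injective.ι G)) (cokernel.condition _)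

/-- The cokernel of an injective embedding. -/
noncomputable abbrev coker (G : Sheaf J AddCommGrpCat.{u}) : Sheaf J AddCommGrpCat.{u} := (embSC G).X₃

theorem shortExact_embSC (G : Sheaf J AddCommGrpCat.{u}) : (embSC G).ShortExact where
  exact := ShortComplex.exact_of_g_is_cokernel _ (cokernelIsCokernel _)

/-- The product of the injective embeddings. -/
noncomputable abbrev prodSC (F : T → Sheaf J AddCommGrpCat.{u}) :
    ShortComplex (Sheaf J AddCommGrpCat.{u}) :=
  ShortComplex.mk (Limits.Pi.map fun t => (embSC (F t)).f) (Limits.Pi.map fun t => (embSC (F t)).g)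
    (Limits.Pi.hom_ext _ _ fun t => by simp)

theorem shortExact_prod (F : T → Sheaf J AddCommGrpCat.{u}) (hF : ∀ t, CohCx.IsTotallyAcyclic (F t)) :
    (prodSC F).ShortExact ∧ Injective (prodSC F).X₂ ∧ (∀ t, CohCx.IsTotallyAcyclic (coker (F t))) ∧
      ∀ (K : Sheaf J (Type u))
        (φ : (presheafToSheaf J AddCommGrpCat.{u}).obj (K.obj ⋙ AddCommGrpCat.free.{u}) ⟶ (prodSC F).X₃),
        ∃ l, l ≫ (prodSC F).g = φ := by
  have hlift : ∀ (K : Sheaf J (Type u))
      (φ : (presheafToSheaf J AddCommGrpCat.{u}).obj (K.obj ⋙ AddCommGrpCat.free.{u}) ⟶ (prodSC F).X₃),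
      ∃ l, l ≫ (prodSC F).g = φ := by
    intro K φ
    have h : ∀ t, ∃ l, l ≫ (embSC (F t)).g = φ ≫ Limits.Pi.π (fun t => coker (F t)) t := by
      intro t
      obtain ⟨x₂, hx⟩ := Ext.covariant_sequence_exact₃ _ (shortExact_embSC (F t))
        (Ext.mk₀ (φ ≫ Limits.Pi.π (fun t => coker (F t)) t)) (zero_add 1)
        ((hF t K 0).elim _ _)
      refine ⟨Ext.addEquiv₀ x₂, ?_⟩
      have := congrArg Ext.addEquiv₀ hx
      rw [← Ext.mk₀_addEquiv₀_apply x₂, Ext.mk₀_comp_mk₀] at this
      simpa [Ext.addEquiv₀, Ext.homEquiv₀] using this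
    choose l hl using h
    exact ⟨Limits.Pi.lift l, Limits.Pi.hom_ext _ _ fun t => by simp [hl]⟩
  have hepi : Epi (prodSC F).g := by
    let G := (prodSC F).X₃
    let e := (Groth.Agent.SiteCoh.frHom ((Groth.Agent.SiteCoh.uSet J).obj G) G).symm (𝟙 _)
    have he : Epi e := ⟨fun a b hab => by
      have := congrArg (Groth.Agent.SiteCoh.frHom ((Groth.Agent.SiteCoh.uSet J).obj G) _) hab
      rw [Groth.Agent.SiteCoh.frHom_comp, Groth.Agent.SiteCoh.frHom_comp, Equiv.apply_symm_apply,
        Category.id_comp, Category.id_comp] at this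
      exact (Groth.Agent.SiteCoh.uSet J).map_injective this⟩
    obtain ⟨l, hl⟩ := hlift _ e
    exact epi_of_epi_fac hl
  have hmono : Mono (prodSC F).f := ⟨fun a b hab => Limits.Pi.hom_ext _ _ fun t => by
    have := congrArg (· ≫ Limits.Pi.π (fun t => (embSC (F t)).X₂) t) hab
    rw [← cancel_mono (Injective.ι (F t))]
    simpa using this⟩
  have hex : (prodSC F).Exact := by
    refine ShortComplex.exact_of_f_is_kernel _ (KernelFork.IsLimit.ofι' _ _ fun {W} k hk => ?_)
    have h : ∀ t, (k ≫ Limits.Pi.π (fun t => (embSC (F t)).X₂) t) ≫ (embSC (F t)).g = 0 := fun t => by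
      have := congrArg (· ≫ Limits.Pi.π (fun t => (embSC (F t)).X₃) t) hk
      simpa using this
    refine ⟨Limits.Pi.lift fun t => ((shortExact_embSC (F t)).fIsKernel.lift
      (KernelFork.ofι _ (h t))), Limits.Pi.hom_ext _ _ fun t => ?_⟩
    simpa using (shortExact_embSC (F t)).fIsKernel.fac (KernelFork.ofι _ (h t)) WalkingParallelPair.zero
  refine ⟨{ exact := hex, mono_f := hmono, epi_g := hepi }, inferInstance, fun t K p => ?_, hlift⟩
  refine ⟨fun a b => ?_⟩
  suffices h : ∀ x : CohCx.HK K (coker (F t)) (p + 1), x = 0 by rw [h a, h b]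
  intro x
  obtain ⟨x₂, hx⟩ := Ext.covariant_sequence_exact₃ _ (shortExact_embSC (F t)) x rfl
    ((hF t K (p + 1)).elim _ _)
  rw [← hx, Ext.eq_zero_of_injective x₂, Ext.zero_comp]

end

/-- Let (F_t) be a family of abelian sheaves on a small site, indexed by a small set, such that each F_t
is totally acyclic, i.e. H^p(K, F_t) = 0 for every sheaf of sets K and every p > 0. Then the product
sheaf of the family is totally acyclic. (The published statement is for modules over a ringed topos;
this row is the case of abelian sheaves.) -/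
theorem result {C : Type u} [SmallCategory C] (J : GrothendieckTopology C)
    {T : Type u} (F : T → Sheaf J AddCommGrpCat.{u}) (hF : ∀ t, CohCx.IsTotallyAcyclic (F t)) :
    CohCx.IsTotallyAcyclic (∏ᶜ F) := by
  suffices h : ∀ (p : ℕ) (F : T → Sheaf J AddCommGrpCat.{u}), (∀ t, CohCx.IsTotallyAcyclic (F t)) →
      ∀ K : Sheaf J (Type u), Subsingleton (CohCx.HK K (∏ᶜ F) (p + 1)) from
    fun K p => h p F hF K
  intro p
  induction p with
  | zero =>
    intro F hF K
    obtain ⟨hS, hinj, -, hepi⟩ := shortExact_prod F hF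
    refine ⟨fun a b => ?_⟩
    suffices h : ∀ x : CohCx.HK K (∏ᶜ F) 1, x = 0 by rw [h a, h b]
    intro x
    haveI := hinj
    obtain ⟨x₃, hx₃⟩ := Abelian.Ext.covariant_sequence_exact₁ _ hS x
      (Abelian.Ext.eq_zero_of_injective _) (zero_add 1)
    obtain ⟨l, hl⟩ := hepi K (Abelian.Ext.addEquiv₀ x₃)
    have : x₃ = (Abelian.Ext.mk₀ l).comp (Abelian.Ext.mk₀ (prodSC F).g) (zero_add 0) := by
      rw [Abelian.Ext.mk₀_comp_mk₀, hl, Abelian.Ext.mk₀_addEquiv₀_apply]
    rw [← hx₃, this, Abelian.Ext.comp_assoc_of_second_deg_zero, hS.comp_extClass,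
      Abelian.Ext.comp_zero]
  | succ p ih =>
    intro F hF K
    obtain ⟨hS, hinj, hQ, -⟩ := shortExact_prod F hF
    refine ⟨fun a b => ?_⟩
    suffices h : ∀ x : CohCx.HK K (∏ᶜ F) (p + 1 + 1), x = 0 by rw [h a, h b]
    intro x
    haveI := hinj
    obtain ⟨x₃, hx₃⟩ := Abelian.Ext.covariant_sequence_exact₁ _ hS x
      (Abelian.Ext.eq_zero_of_injective _) rfl
    have h0 : Subsingleton (Abelian.Ext
        ((presheafToSheaf J AddCommGrpCat.{u}).obj (K.obj ⋙ AddCommGrpCat.free.{u}))
        (prodSC F).X₃ (p + 1)) := ih (fun t => coker (F t)) hQ K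
    rw [← hx₃, Subsingleton.elim x₃ 0, Abelian.Ext.zero_comp]

end Groth.Agent.S8564
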