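import Groth.Statements.S8565
import Mathlib.AlgebraicTopology.SimplicialObject.Homotopy
import Mathlib.Data.Finite.Sigma

set_option autoImplicit false
open CategoryTheory CategoryTheory.Limits Opposite
universe v u
open Hyper

set_option backward.isDefEq.respectTransparency false
namespace Groth.Agent.S8565

section helpers
open Simplicial SimplexCategory Functor
variable {E : Type u} [Category.{v} E] {X X' : SimplicialObject E} (f g : X ⟶ X') (n : ℕ)

noncomputable def phi {p : SimplexCategory} (t : p ⟶ ⦋1⦌) : X.obj (op p) ⟶ X'.obj (op p) := by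
  classical exact if ∀ j, t.toOrderHom j = 0 then f.app (op p) else g.app (op p)

lemma phi_eq_or {p : SimplexCategory} (t : p ⟶ ⦋1⦌) :
    phi f g t = f.app (op p) ∨ phi f g t = g.app (op p) := by
  unfold phi; split_ifs <;> simp

lemma app_eq_of_lt (hfg : ∀ p : ℕ, p < n → f.app (op ⦋p⦌) = g.app (op ⦋p⦌))
    (p : SimplexCategory) (hp : p.len < n) : f.app (op p) = g.app (op p) := hfg p.len hp

lemma map_comp_eq (hfg : ∀ p : ℕ, p < n → f.app (op ⦋p⦌) = g.app (op ⦋p⦌))
    {p q : SimplexCategory} (θ : q ⟶ p) (hp : p.len ≤ n)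
    (h : q.len < n ∨ p.len < n ∨ ¬ Function.Surjective θ.toOrderHom) :
    X.map θ.op ≫ f.app (op q) = X.map θ.op ≫ g.app (op q) := by
  rcases h with h | h | h
  · rw [app_eq_of_lt f g n hfg q h]
  · rw [f.naturality, g.naturality, app_eq_of_lt f g n hfg p h]
  · induction p using SimplexCategory.rec with
    | _ k =>
      cases k with
      | zero =>
        exfalso; apply h; intro y
        exact ⟨0, Subsingleton.elim (α := Fin 1) _ _⟩
      | succ k =>
        obtain ⟨i, θ', rfl⟩ := eq_comp_δ_of_not_surjective θ h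
        rw [op_comp, Functor.map_comp, Category.assoc, Category.assoc,
          f.naturality, g.naturality, app_eq_of_lt f g n hfg ⦋k⦌]
        simp only [SimplexCategory.len_mk] at hp ⊢
        omega

lemma phi_naturality (hfg : ∀ p : ℕ, p < n → f.app (op ⦋p⦌) = g.app (op ⦋p⦌))
    {p q : SimplexCategory} (θ : q ⟶ p) (hp : p.len ≤ n) (hq : q.len ≤ n) (t : p ⟶ ⦋1⦌) :
    X.map θ.op ≫ phi f g (θ ≫ t) = phi f g t ≫ X'.map θ.op := by
  by_cases h : q.len < n ∨ p.len < n ∨ ¬ Function.Surjective θ.toOrderHom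
  · have e := map_comp_eq f g n hfg θ hp h
    rcases phi_eq_or f g (θ ≫ t) with a | a <;> rcases phi_eq_or f g t with b | b <;>
      rw [a, b] <;> simp only [← NatTrans.naturality, e]
  · push Not at h
    obtain rfl : q = p := SimplexCategory.ext (by omega)
    haveI : Epi θ := SimplexCategory.epi_iff_surjective.mpr h.2.2
    obtain rfl : θ = 𝟙 q := eq_id_of_epi θ
    simp

instance finite_trunc : Finite (SimplexCategory.Truncated n) :=
  Finite.of_injective (fun x => (⟨x.obj.len, Nat.lt_succ_of_le x.property⟩ : Fin (n + 1)))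
    (fun x y h => by
      obtain ⟨x, hx⟩ := x; obtain ⟨y, hy⟩ := y
      simp only [Fin.mk.injEq] at h
      obtain rfl : x = y := SimplexCategory.ext h
      rfl)

instance finite_homs (x y : (SimplexCategory.Truncated n)ᵒᵖ) : Finite (x ⟶ y) :=
  Finite.of_injective (fun φ : x ⟶ y => φ.unop.hom) (fun a b h =>
    Quiver.Hom.unop_inj (ObjectProperty.hom_ext _ h))

instance finite_arrows (Y : SimplexCategoryᵒᵖ) :
    Finite (StructuredArrow Y (SimplexCategory.Truncated.inclusion n).op) :=
  haveI := finite_trunc n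
  haveI (x : SimplexCategory.Truncated n) : Finite (x.obj ⟶ Y.unop) :=
    Finite.of_injective (fun f => f.toOrderHom.toFun)
      (fun a b h => SimplexCategory.Hom.ext _ _ (OrderHom.ext _ _ h))
  Finite.of_injective (β := Σ x : SimplexCategory.Truncated n, (x.obj ⟶ Y.unop))
    (fun a => ⟨a.right.unop, a.hom.unop⟩) (fun a b h => by
      obtain ⟨xa, ra, ha⟩ := a; obtain ⟨xb, rb, hb⟩ := b
      obtain ⟨ra⟩ := ra; obtain ⟨rb⟩ := rb; obtain ⟨⟨⟩⟩ := xa; obtain ⟨⟨⟩⟩ := xb
      simp only [Sigma.mk.injEq] at h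
      obtain ⟨h1, h2⟩ := h
      subst h1
      obtain rfl : ha = hb := Quiver.Hom.unop_inj (eq_of_heq h2)
      rfl)

noncomputable instance fin_arrows (Y : SimplexCategoryᵒᵖ) :
    FinCategory (StructuredArrow Y (SimplexCategory.Truncated.inclusion n).op) :=
  haveI : ∀ a b : StructuredArrow Y (SimplexCategory.Truncated.inclusion n).op, Finite (a ⟶ b) :=
    fun a b => Finite.of_injective (fun φ => φ.right) (fun p q h => StructuredArrow.hom_ext _ _ h)
  { fintypeObj := Fintype.ofFinite _
    fintypeHom := fun _ _ => Fintype.ofFinite _ }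

instance pointwise [HasFiniteLimits E] (F : (SimplexCategory.Truncated n)ᵒᵖ ⥤ E) :
    (SimplexCategory.Truncated.inclusion n).op.HasPointwiseRightKanExtension F :=
  fun _ => inferInstance

variable [HasFiniteLimits E]
  [∀ (F : (SimplexCategory.Truncated n)ᵒᵖ ⥤ E),
    (SimplexCategory.Truncated.inclusion n).op.HasRightKanExtension F]

local notation "ck" => SimplicialObject.cosk (C := E) n

/-- Projection of the coskeleton onto its component of degree `p`. -/
noncomputable def pr (X : SimplicialObject E) {m : SimplexCategory}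
    (x : SimplexCategory.Truncated n) (φ : x.obj ⟶ m) :
    ((ck).obj X).obj (op m) ⟶ X.obj (op x.obj) :=
  ((ck).obj X).map φ.op ≫
    ((SimplexCategory.Truncated.inclusion n).op.ranCounit.app
      ((SimplicialObject.truncation n).obj X)).app (op x)

lemma map_pr (X : SimplicialObject E) {m m' : SimplexCategory} (θ : m' ⟶ m)
    (x : SimplexCategory.Truncated n) (φ : x.obj ⟶ m') :
    ((ck).obj X).map θ.op ≫ pr n X x φ = pr n X x (φ ≫ θ) := by
  unfold pr
  rw [← Category.assoc, ← Functor.map_comp, ← op_comp]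

lemma pr_map (X : SimplicialObject E) {m : SimplexCategory}
    {x y : SimplexCategory.Truncated n} (α : y ⟶ x) (φ : x.obj ⟶ m) :
    pr n X x φ ≫ X.map α.hom.op = pr n X y (α.hom ≫ φ) := by
  unfold pr
  rw [Category.assoc]
  erw [← ((SimplexCategory.Truncated.inclusion n).op.ranCounit.app
    ((SimplicialObject.truncation n).obj X)).naturality α.op]
  rw [← Category.assoc, op_comp, Functor.map_comp]
  rfl

noncomputable def isLim (X : SimplicialObject E) (m : SimplexCategory) :
    IsLimit ((RightExtension.mk ((ck).obj X)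
      ((SimplexCategory.Truncated.inclusion n).op.ranCounit.app
        ((SimplicialObject.truncation n).obj X))).coneAt (op m)) :=
  isPointwiseRightKanExtensionRanCounit _ _ (op m)

lemma pr_ext (X : SimplicialObject E) {m : SimplexCategory} {T : E}
    {a b : T ⟶ ((ck).obj X).obj (op m)}
    (h : ∀ x φ, a ≫ pr n X x φ = b ≫ pr n X x φ) : a = b :=
  (isLim n X m).hom_ext (fun j => h j.right.unop j.hom.unop)

lemma coskMap_pr (X X' : SimplicialObject E) (k : X ⟶ X') {m : SimplexCategory}
    (x : SimplexCategory.Truncated n) (φ : x.obj ⟶ m) :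
    ((ck).map k).app (op m) ≫ pr n X' x φ = pr n X x φ ≫ k.app (op x.obj) := by
  unfold pr
  rw [← Category.assoc, ← ((ck).map k).naturality, Category.assoc, Category.assoc]
  exact congrArg (fun z => ((ck).obj X).map φ.op ≫ z) (NatTrans.congr_app
    ((SimplexCategory.Truncated.inclusion n).op.ranCounit.naturality
      ((SimplicialObject.truncation n).map k)) (op x))

variable (hfg : ∀ p : ℕ, p < n → f.app (op ⦋p⦌) = g.app (op ⦋p⦌))

noncomputable def cone {m : SimplexCategory} (t : m ⟶ ⦋1⦌) :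
    Cone (StructuredArrow.proj (op m) (SimplexCategory.Truncated.inclusion n).op ⋙
      (SimplicialObject.truncation n).obj X') where
  pt := ((ck).obj X).obj (op m)
  π :=
    { app := fun j => pr n X j.right.unop j.hom.unop ≫ phi f g (j.hom.unop ≫ t)
      naturality := fun j₁ j₂ α => by
        erw [Category.id_comp]
        have hw : j₂.hom.unop = α.right.unop.hom ≫ j₁.hom.unop :=
          congrArg Quiver.Hom.unop (StructuredArrow.w α).symm
        change _ = (_ ≫ _) ≫ X'.map α.right.unop.hom.op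
        rw [Category.assoc, ← phi_naturality f g n hfg α.right.unop.hom j₁.right.unop.property
          j₂.right.unop.property, ← Category.assoc, pr_map, hw, Category.assoc] }

noncomputable def K {m : SimplexCategory} (t : m ⟶ ⦋1⦌) :
    ((ck).obj X).obj (op m) ⟶ ((ck).obj X').obj (op m) :=
  (isLim n X' m).lift (cone f g n hfg t)

lemma K_pr {m : SimplexCategory} (t : m ⟶ ⦋1⦌) (x : SimplexCategory.Truncated n)
    (φ : x.obj ⟶ m) :
    K f g n hfg t ≫ pr n X' x φ = pr n X x φ ≫ phi f g (φ ≫ t) :=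
  (isLim n X' m).fac (cone f g n hfg t) (StructuredArrow.mk (Y := op x) φ.op)

lemma K_nat {m m' : SimplexCategory} (θ : m' ⟶ m) (t : m ⟶ ⦋1⦌) :
    K f g n hfg t ≫ ((ck).obj X').map θ.op =
      ((ck).obj X).map θ.op ≫ K f g n hfg (θ ≫ t) := by
  apply pr_ext
  intro x φ
  rw [Category.assoc, Category.assoc, map_pr, K_pr, K_pr, ← Category.assoc, ← Category.assoc,
    map_pr, Category.assoc]

lemma K_zero {m : SimplexCategory} (t : m ⟶ ⦋1⦌) (ht : ∀ j, t.toOrderHom j = 0) :
    K f g n hfg t = ((ck).map f).app (op m) := by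
  apply pr_ext
  intro x φ
  rw [K_pr, coskMap_pr]
  congr 1
  exact if_pos (fun j => ht _)

lemma K_one {m : SimplexCategory} (t : m ⟶ ⦋1⦌) (ht : ∀ j, t.toOrderHom j = 1) :
    K f g n hfg t = ((ck).map g).app (op m) := by
  apply pr_ext
  intro x φ
  rw [K_pr, coskMap_pr]
  congr 1
  exact if_neg (fun h => absurd ((ht _).symm.trans (h 0)) (by simp))

def thr {m : ℕ} (i : Fin (m + 1)) : ⦋m + 1⦌ ⟶ ⦋1⦌ :=
  SimplexCategory.Hom.mk
    { toFun := fun j => if (j : ℕ) ≤ (i : ℕ) then (0 : Fin 2) else 1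
      monotone' := fun a b hab => by
        have : (a : ℕ) ≤ (b : ℕ) := hab
        dsimp only
        split_ifs <;> first | omega | exact le_rfl | decide }

lemma thr_apply {m : ℕ} (i : Fin (m + 1)) (j : Fin (m + 2)) :
    (thr i).toOrderHom j = if (j : ℕ) ≤ (i : ℕ) then (0 : Fin 2) else 1 := rfl

lemma thr_congr {m : ℕ} {m' : SimplexCategory} {k : ℕ} (θ : m' ⟶ ⦋m + 1⦌) (θ' : m' ⟶ ⦋k + 1⦌)
    (i : Fin (m + 1)) (i' : Fin (k + 1))
    (h : ∀ x, ((θ.toOrderHom x : Fin (m + 2)) : ℕ) ≤ (i : ℕ) ↔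
      ((θ'.toOrderHom x : Fin (k + 2)) : ℕ) ≤ (i' : ℕ)) : θ ≫ thr i = θ' ≫ thr i' := by
  ext x : 3
  change (thr i).toOrderHom _ = (thr i').toOrderHom _
  rw [thr_apply, thr_apply]
  exact if_congr (h x) rfl rfl

lemma thr_congr' {m : ℕ} {k : ℕ} (θ : ⦋k + 1⦌ ⟶ ⦋m + 1⦌)
    (i : Fin (m + 1)) (i' : Fin (k + 1))
    (h : ∀ x : Fin (k + 2), ((θ.toOrderHom x : Fin (m + 2)) : ℕ) ≤ (i : ℕ) ↔
      (x : ℕ) ≤ (i' : ℕ)) : θ ≫ thr i = thr i' := by
  rw [← Category.id_comp (thr i')]
  exact thr_congr θ (𝟙 _) i i' h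

noncomputable def hmap {m : ℕ} (i : Fin (m + 1)) :
    ((ck).obj X).obj (op ⦋m⦌) ⟶ ((ck).obj X').obj (op ⦋m + 1⦌) :=
  ((ck).obj X).σ i ≫ K f g n hfg (thr i)

lemma hmap_δ {m : ℕ} (i : Fin (m + 1)) (j : Fin (m + 2)) :
    hmap f g n hfg i ≫ ((ck).obj X').δ j =
      (((ck).obj X).σ i ≫ ((ck).obj X).δ j) ≫ K f g n hfg (SimplexCategory.δ j ≫ thr i) := by
  rw [hmap, Category.assoc, Category.assoc]
  exact congrArg (fun z => ((ck).obj X).σ i ≫ z) (K_nat f g n hfg (SimplexCategory.δ j) (thr i))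

lemma hmap_σ {m : ℕ} (i : Fin (m + 1)) (j : Fin (m + 2)) :
    hmap f g n hfg i ≫ ((ck).obj X').σ j =
      (((ck).obj X).σ i ≫ ((ck).obj X).σ j) ≫ K f g n hfg (SimplexCategory.σ j ≫ thr i) := by
  rw [hmap, Category.assoc, Category.assoc]
  exact congrArg (fun z => ((ck).obj X).σ i ≫ z) (K_nat f g n hfg (SimplexCategory.σ j) (thr i))

noncomputable def htpy : SimplicialObject.Homotopy ((ck).map f) ((ck).map g) where
  h i := hmap f g n hfg i
  h_zero_comp_δ_zero m := by
    rw [hmap_δ, show ((ck).obj X).σ (0 : Fin (m + 1)) ≫ ((ck).obj X).δ 0 = 𝟙 _ from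
      ((ck).obj X).δ_comp_σ_self (i := (0 : Fin (m + 1))), Category.id_comp]
    apply K_one
    intro j
    change (thr 0).toOrderHom (Fin.succAbove 0 j) = 1
    rw [thr_apply, if_neg]
    simp
  h_last_comp_δ_last m := by
    have e := ((ck).obj X).δ_comp_σ_succ (i := Fin.last m)
    rw [Fin.succ_last] at e
    rw [hmap_δ, e, Category.id_comp]
    apply K_zero
    intro j
    change (thr (Fin.last m)).toOrderHom (Fin.succAbove (Fin.last (m + 1)) j) = 0
    rw [thr_apply, if_pos]
    rw [Fin.succAbove_last]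
    exact Nat.le_of_lt_succ j.isLt
  h_succ_comp_δ_castSucc_of_lt {m} i j hij := by
    rw [hmap_δ, ((ck).obj X).δ_comp_σ_of_le hij, thr_congr' _ j.succ j ?_]
    · exact Category.assoc _ _ _
    intro x
    change ((Fin.succAbove i.castSucc x : Fin (m + 3)) : ℕ) ≤ _ ↔ _
    have : (i : ℕ) ≤ (j : ℕ) := hij
    simp only [Fin.succAbove, Fin.lt_def, Fin.val_castSucc, Fin.val_succ]
    split_ifs <;> simp <;> omega
  h_succ_comp_δ_castSucc_succ {m} j := by
    have e : ((ck).obj X).σ j.succ ≫ ((ck).obj X).δ j.castSucc.succ = 𝟙 _ :=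
      ((ck).obj X).δ_comp_σ_self' (Fin.castSucc_succ j).symm
    rw [hmap_δ, hmap_δ, e, ((ck).obj X).δ_comp_σ_succ (i := j.castSucc),
      thr_congr (SimplexCategory.δ j.castSucc.succ) (SimplexCategory.δ j.castSucc.succ) j.succ
        j.castSucc ?_]
    intro x
    change ((Fin.succAbove j.castSucc.succ x : Fin (m + 3)) : ℕ) ≤ _ ↔
      ((Fin.succAbove j.castSucc.succ x : Fin (m + 3)) : ℕ) ≤ _
    simp only [Fin.succAbove, Fin.lt_def, Fin.val_castSucc, Fin.val_succ]
    split_ifs <;> simp <;> omega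
  h_castSucc_comp_δ_succ_of_lt {m} i j hji := by
    rw [hmap_δ, ((ck).obj X).δ_comp_σ_of_gt hji, thr_congr' _ j.castSucc j ?_]
    · exact Category.assoc _ _ _
    intro x
    change ((Fin.succAbove i.succ x : Fin (m + 3)) : ℕ) ≤ _ ↔ _
    have : (j : ℕ) < (i : ℕ) := hji
    simp only [Fin.succAbove, Fin.lt_def, Fin.val_castSucc, Fin.val_succ]
    split_ifs <;> simp <;> omega
  h_comp_σ_castSucc_of_le {m} i j hij := by
    rw [hmap_σ, ((ck).obj X).σ_comp_σ hij, thr_congr' _ j j.succ ?_]
    · exact Category.assoc _ _ _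
    intro x
    change ((Fin.predAbove i.castSucc x : Fin (m + 2)) : ℕ) ≤ _ ↔ _
    have : (i : ℕ) ≤ (j : ℕ) := hij
    simp only [Fin.predAbove, Fin.lt_def, Fin.val_castSucc, Fin.val_succ]
    split_ifs <;> simp <;> omega
  h_comp_σ_succ_of_lt {m} i j hji := by
    rw [hmap_σ, ← ((ck).obj X).σ_comp_σ hji, thr_congr' _ j j.castSucc ?_]
    · exact Category.assoc _ _ _
    intro x
    change ((Fin.predAbove i.succ x : Fin (m + 2)) : ℕ) ≤ _ ↔ _
    have : (j : ℕ) ≤ (i : ℕ) := hji
    simp only [Fin.predAbove, Fin.lt_def, Fin.val_castSucc, Fin.val_succ]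
    split_ifs <;> simp <;> omega

end helpers


/-- Let E be a category with finite limits, n a natural number and f, g : X ⟶ X' two morphisms of
simplicial objects of E whose components agree in every degree p < n. Then there is a simplicial
homotopy between the morphisms cosk_n(f) and cosk_n(g) of n-coskeleta (cosk_n = right Kan extension
of the n-truncation; Mathlib's combinatorial simplicial homotopies). For n = 0 the hypothesis is
empty. -/
theorem result {E : Type u} [Category.{v} E] [HasFiniteLimits E] (n : ℕ)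
    [∀ (F : (SimplexCategory.Truncated n)ᵒᵖ ⥤ E), (SimplexCategory.Truncated.inclusion n).op.HasRightKanExtension F]
    {X X' : SimplicialObject E} (f g : X ⟶ X')
    (hfg : ∀ p : ℕ, p < n → f.app (op (SimplexCategory.mk p)) = g.app (op (SimplexCategory.mk p))) :
    Nonempty (SimplicialObject.Homotopy ((SimplicialObject.cosk n).map f) ((SimplicialObject.cosk n).map g)) := by
  exact ⟨htpy f g n hfg⟩

end Groth.Agent.S8565
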