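import Groth.Statements.S8567
import Groth.Agent.TopCompact.Unit

set_option autoImplicit false
open CategoryTheory TopologicalSpace Opposite
universe u
open CohTop

namespace Groth.Agent.S8567

/-- Let X be a topological space, K ⊆ X a compact subset such that any two distinct points of K have
disjoint neighbourhoods in X, and F a flasque abelian sheaf on X. Then the inverse image F|K of F on
the subspace K is a soft sheaf: for every closed subset A of K, every section of (F|K)|A over A is
the restriction of a section of F|K over K (the restriction map is the unit of the inverse image /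
direct image adjunction for the inclusion A → K, taken on global sections). -/
theorem result {X : TopCat.{u}} {K : Set X} (hK : IsCompact K)
    (hsep : ∀ x ∈ K, ∀ y ∈ K, x ≠ y → ∃ U V : Set X, IsOpen U ∧ IsOpen V ∧ x ∈ U ∧ y ∈ V ∧ Disjoint U V)
    (F : CohTop.Ab X) [TopCat.Sheaf.IsFlasque F] {A : Set K} (hA : IsClosed A) :
    Function.Surjective
      ((((TopCat.Sheaf.pullbackPushforwardAdjunction AddCommGrpCat.{u}
        (TopCat.ofHom ⟨((↑) : A → K), continuous_subtype_val⟩ : TopCat.of A ⟶ TopCat.of K)).unit.app
        ((CohTop.pull (TopCat.ofHom ⟨((↑) : K → X), continuous_subtype_val⟩ : TopCat.of K ⟶ X)).obj F)).hom.app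
        (op ⊤)).hom) := by
  haveI : CompactSpace K := isCompact_iff_compactSpace.1 hK
  haveI : T2Space K := ⟨fun z z' h => by
    obtain ⟨U, V, hU, hV, hzU, hzV, hUV⟩ := hsep z.1 z.2 z'.1 z'.2 fun e => h (Subtype.ext e)
    exact ⟨_, _, hU.preimage continuous_subtype_val, hV.preimage continuous_subtype_val, hzU, hzV,
      hUV.preimage _⟩⟩
  refine Groth.Agent.TopCompact.surjective_unit
    ⟨Topology.IsEmbedding.subtypeVal, ?_, Groth.Agent.TopCompact.RelT2.of_t2 _⟩ ?_ _ ?_
  · change IsCompact (Set.range (Subtype.val : A → K))
    rw [Subtype.range_coe]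
    exact hA.isCompact
  · change IsClosed (Set.range (Subtype.val : A → K))
    rw [Subtype.range_coe]
    exact hA
  · refine Groth.Agent.TopCompact.GoodEmb.isSoft_pull ⟨Topology.IsEmbedding.subtypeVal, ?_, ?_⟩ F
    · change IsCompact (Set.range (Subtype.val : K → X))
      rw [Subtype.range_coe]
      exact hK
    · change Groth.Agent.TopCompact.RelT2 (Set.range (Subtype.val : K → X))
      rw [Subtype.range_coe]
      exact hsep

end Groth.Agent.S8567
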