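import Groth.Statements.S8586
import Mathlib.RingTheory.Ideal.MinimalPrime.Noetherian
import Mathlib.Logic.Relation

set_option autoImplicit false
universe u
open CAlg

namespace Groth.Agent.S8586

variable {A : Type u} [CommRing A] [IsLocalRing A]

/-- `w` is a system of parameters modulo `J`. -/
def Sop (J : Ideal A) {k : ℕ} (w : Fin k → A) : Prop :=
  (∀ i, w i ∈ IsLocalRing.maximalIdeal A) ∧
    IsLocalRing.maximalIdeal A ≤ (J ⊔ Ideal.span (Set.range w)).radical

/-- one coordinate is changed -/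
def Step (J : Ideal A) {k : ℕ} (w w' : Fin k → A) : Prop :=
  Sop J w' ∧ ∃ i, ∀ i', i' ≠ i → w i' = w' i'

theorem span_cons {k : ℕ} (J : Ideal A) (z : A) (w : Fin k → A) :
    J ⊔ Ideal.span (Set.range (Fin.cons z w : Fin (k + 1) → A)) =
      (J ⊔ Ideal.span {z}) ⊔ Ideal.span (Set.range w) := by
  rw [Fin.range_cons, Ideal.span_insert, sup_assoc]

theorem step_symm {J : Ideal A} {k : ℕ} {w w' : Fin k → A} (hw : Sop J w) (h : Step J w w') :
    Step J w' w :=
  ⟨hw, h.2.imp fun _ hi i' hne => (hi i' hne).symm⟩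

theorem chain_symm {J : Ideal A} {k : ℕ} {w w' : Fin k → A} (hw : Sop J w)
    (h : Relation.ReflTransGen (Step J) w w') :
    Sop J w' ∧ Relation.ReflTransGen (Step J) w' w := by
  induction h with
  | refl => exact ⟨hw, .refl⟩
  | tail _ hbc ih => exact ⟨hbc.1, .head (step_symm ih.1 hbc) ih.2⟩

/-- If `m` is minimal over `q + (x)`, nothing lies strictly between `q` and `m`. -/
theorem two_step [IsNoetherianRing A] {q Q : Ideal A} [q.IsPrime] [Q.IsPrime] {x : A} (hlt : q < Q)
    (hQm : Q ≤ IsLocalRing.maximalIdeal A)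
    (hmin : ∀ Q' : Ideal A, Q'.IsPrime → q ≤ Q' → x ∈ Q' → IsLocalRing.maximalIdeal A ≤ Q')
    (hx : x ∈ IsLocalRing.maximalIdeal A) : IsLocalRing.maximalIdeal A ≤ Q := by
  by_contra hne
  set m := IsLocalRing.maximalIdeal A
  have hqm : q ≤ m := hlt.le.trans hQm
  have hmem : m ∈ (q ⊔ Ideal.span {x}).minimalPrimes :=
    ⟨⟨inferInstance, sup_le hqm ((Ideal.span_singleton_le_iff_mem _).2 hx)⟩, fun Q' hQ' _ =>
      hmin Q' hQ'.1 (le_sup_left.trans hQ'.2) (hQ'.2 (Ideal.mem_sup_right (Ideal.mem_span_singleton_self x)))⟩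
  have hh := Ideal.map_height_le_one_of_mem_minimalPrimes hmem
  have h1 : (q.map (Ideal.Quotient.mk q)).IsPrime := Ideal.isPrime_map_quotientMk_of_isPrime le_rfl
  have h2 : (Q.map (Ideal.Quotient.mk q)).IsPrime := Ideal.isPrime_map_quotientMk_of_isPrime hlt.le
  have h3 : (m.map (Ideal.Quotient.mk q)).IsPrime := Ideal.isPrime_map_quotientMk_of_isPrime hqm
  have hmono : ∀ a b : Ideal A, q ≤ a → q ≤ b → a < b →
      a.map (Ideal.Quotient.mk q) < b.map (Ideal.Quotient.mk q) := fun a b ha hb hab => by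
    refine lt_of_le_of_ne (Ideal.map_mono hab.le) fun h => hab.ne ?_
    have h' := congrArg (Ideal.comap (Ideal.Quotient.mk q)) h
    rwa [Ideal.comap_map_mk ha, Ideal.comap_map_mk hb] at h'
  have hA := Ideal.height_strict_mono_of_isPrime (hmono q Q le_rfl hlt.le hlt)
  have hB := Ideal.height_strict_mono_of_isPrime (hmono Q m hlt.le hqm (lt_of_le_of_ne hQm fun h => hne h.ge))
  have hC := lt_of_lt_of_le hB hh
  rw [Order.lt_one_iff] at hC
  rw [hC] at hA
  exact not_lt_bot hA

theorem connected [IsNoetherianRing A] : ∀ (k : ℕ) (J : Ideal A) (u v : Fin k → A), Sop J u → Sop J v →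
    Relation.ReflTransGen (Step J) u v
  | 0, J, u, v, _, _ => by rw [Subsingleton.elim u v]
  | k + 1, J, u, v, hu, hv => by
    classical
    let Iu := J ⊔ Ideal.span (Set.range (Fin.tail u))
    let Iv := J ⊔ Ideal.span (Set.range (Fin.tail v))
    let P : Finset (Ideal A) :=
      (((Ideal.finite_minimalPrimes_of_isNoetherianRing A Iu).union
        (Ideal.finite_minimalPrimes_of_isNoetherianRing A Iv)).toFinset).erase (IsLocalRing.maximalIdeal A)
    have hP : ∀ q ∈ P, q.IsPrime ∧ q ≠ IsLocalRing.maximalIdeal A := fun q hq => by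
      obtain ⟨hne, hq'⟩ := Finset.mem_erase.1 hq
      rw [Set.Finite.mem_toFinset] at hq'
      rcases hq' with hq' | hq'
      · exact ⟨hq'.1.1, hne⟩
      · exact ⟨hq'.1.1, hne⟩
    obtain ⟨z, hzm, hz⟩ : ∃ z ∈ IsLocalRing.maximalIdeal A, ∀ q ∈ P, z ∉ q := by
      by_contra hcon
      push Not at hcon
      have hsub : (IsLocalRing.maximalIdeal A : Set A) ⊆ ⋃ q ∈ (↑P : Set (Ideal A)), (id q : Ideal A) :=
        fun z hz => by
          obtain ⟨q, hq, hzq⟩ := hcon z hz
          exact Set.mem_biUnion hq hzq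
      obtain ⟨q, hq, hle⟩ := (Ideal.subset_union_prime (⊥ : Ideal A) ⊥ fun q hq _ _ => (hP q hq).1).1 hsub
      exact (hP q hq).2 (le_antisymm (IsLocalRing.le_maximalIdeal (hP q hq).1.ne_top) hle)
    have key : ∀ w : Fin (k + 1) → A, Sop J w →
        (∀ q ∈ (J ⊔ Ideal.span (Set.range (Fin.tail w))).minimalPrimes,
          q ≠ IsLocalRing.maximalIdeal A → q ∈ P) →
        Sop (J ⊔ Ideal.span {z}) (Fin.tail w) ∧ Step J w (Fin.cons z (Fin.tail w)) := by
      intro w hw hmin
      have hrad : IsLocalRing.maximalIdeal A ≤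
          ((J ⊔ Ideal.span {z}) ⊔ Ideal.span (Set.range (Fin.tail w))).radical := by
        rw [Ideal.radical_eq_sInf]
        refine le_sInf fun Q hQ => ?_
        obtain ⟨hQle, hQp⟩ := hQ
        obtain ⟨q, hq, hqQ⟩ := Ideal.exists_minimalPrimes_le
          (show J ⊔ Ideal.span (Set.range (Fin.tail w)) ≤ Q from
            le_trans (sup_le (le_sup_of_le_left le_sup_left) le_sup_right) hQle)
        by_cases hqm : q = IsLocalRing.maximalIdeal A
        · exact hqm ▸ hqQ
        have hzQ : z ∈ Q := hQle (Ideal.mem_sup_left (Ideal.mem_sup_right (Ideal.mem_span_singleton_self z)))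
        have hqp : q.IsPrime := hq.1.1
        have hQm : Q ≤ IsLocalRing.maximalIdeal A := IsLocalRing.le_maximalIdeal hQp.ne_top
        have hzq : z ∉ q := hz q (hmin q hq hqm)
        have hlt : q < Q := lt_of_le_of_ne hqQ fun h => hzq (h ▸ hzQ)
        exact two_step hlt hQm (fun Q' hQ' hqQ' hw0 => hw.2.trans (hQ'.radical_le_iff.2 (sup_le
          (le_sup_left.trans (hq.1.2.trans hqQ')) (Ideal.span_le.2 (by
            rintro _ ⟨i, rfl⟩
            refine Fin.cases hw0 (fun j => ?_) i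
            exact hqQ' (hq.1.2 (Ideal.mem_sup_right (Ideal.subset_span ⟨j, rfl⟩)))))))) (hw.1 0)
      exact ⟨⟨fun i => hw.1 i.succ, hrad⟩, ⟨⟨fun i => Fin.cases hzm (fun j => hw.1 j.succ) i,
        by rw [span_cons]; exact hrad⟩, 0, fun i' hi' => by
          obtain ⟨j, rfl⟩ := Fin.exists_succ_eq.2 hi'
          simp [Fin.tail]⟩⟩
    have hu' := key u hu fun q hq hne => Finset.mem_erase.2 ⟨hne, (Set.Finite.mem_toFinset _).2 (Or.inl hq)⟩
    have hv' := key v hv fun q hq hne => Finset.mem_erase.2 ⟨hne, (Set.Finite.mem_toFinset _).2 (Or.inr hq)⟩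
    have hmid : Relation.ReflTransGen (Step J) (Fin.cons z (Fin.tail u) : Fin (k + 1) → A)
        (Fin.cons z (Fin.tail v)) := by
      refine Relation.ReflTransGen.lift (fun w : Fin k → A => (Fin.cons z w : Fin (k + 1) → A)) ?_ _ _ (connected k (J ⊔ Ideal.span {z}) _ _ hu'.1 hv'.1)
      rintro a b ⟨hb, i, hi⟩
      refine ⟨⟨fun j => Fin.cases hzm hb.1 j, by rw [span_cons]; exact hb.2⟩, i.succ, fun j => ?_⟩
      refine Fin.cases (fun _ => rfl) (fun j hj => ?_) j
      simpa using hi j fun h => hj (h ▸ rfl)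
    exact Relation.ReflTransGen.trans (.head hu'.2 hmid) (chain_symm hv (.single hv'.2)).2

/-- Suppose A is a Cohen–Macaulay local ring whose Krull dimension is d, and consider two systems of
parameters u = (u_1, ..., u_d) and v = (v_1, ..., v_d) of A (that is, d-tuples of elements of the
maximal ideal m such that the ideal they generate has radical m). Then one can find a finite
sequence w_0 = u, w_1, ..., w_m = v, each term a system of parameters of A, where w_{k+1} arises
from w_k by altering just one coordinate. -/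
theorem result (A : Type u) [CommRing A] [LocCoh.IsCohenMacaulayLocalRing A]
    (d : ℕ) (hd : ringKrullDim A = d) (u v : Fin d → A)
    (hu : ∀ i, u i ∈ IsLocalRing.maximalIdeal A) (hu' : IsLocalRing.maximalIdeal A ≤ (Ideal.span (Set.range u)).radical)
    (hv : ∀ i, v i ∈ IsLocalRing.maximalIdeal A) (hv' : IsLocalRing.maximalIdeal A ≤ (Ideal.span (Set.range v)).radical) :
    ∃ (m : ℕ) (w : Fin (m + 1) → Fin d → A), w 0 = u ∧ w (Fin.last m) = v ∧
      (∀ k : Fin (m + 1), (∀ i, w k i ∈ IsLocalRing.maximalIdeal A) ∧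
        IsLocalRing.maximalIdeal A ≤ (Ideal.span (Set.range (w k))).radical) ∧
      (∀ k : Fin m, ∃ i : Fin d, ∀ i' : Fin d, i' ≠ i → w k.castSucc i' = w k.succ i') := by
  have hu2 : Sop ⊥ u := ⟨hu, by rwa [bot_sup_eq]⟩
  have hv2 : Sop ⊥ v := ⟨hv, by rwa [bot_sup_eq]⟩
  have key : ∀ w : Fin d → A, Sop ⊥ w → Relation.ReflTransGen (Step ⊥) w v →
      ∃ (m : ℕ) (f : Fin (m + 1) → Fin d → A), f 0 = w ∧ f (Fin.last m) = v ∧
        (∀ k, Sop ⊥ (f k)) ∧ ∀ k : Fin m, ∃ i : Fin d, ∀ i' : Fin d, i' ≠ i → f k.castSucc i' = f k.succ i' := by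
    intro w hw h
    induction h using Relation.ReflTransGen.head_induction_on with
    | refl => exact ⟨0, fun _ => v, rfl, rfl, fun _ => hw, fun k => k.elim0⟩
    | head hab _ ih =>
      obtain ⟨m, f, h0, hlast, hsop, hstep⟩ := ih hab.1
      refine ⟨m + 1, Fin.cons _ f, rfl, ?_, fun k => Fin.cases hw hsop k, fun k => ?_⟩
      · rw [← Fin.succ_last, Fin.cons_succ, hlast]
      · refine Fin.cases ?_ (fun j => ?_) k
        · obtain ⟨i, hi⟩ := hab.2
          exact ⟨i, fun i' hne => by simpa [h0] using hi i' hne⟩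
        · simpa [← Fin.succ_castSucc] using hstep j
  obtain ⟨m, f, h0, hlast, hsop, hstep⟩ := key u hu2 (connected d ⊥ u v hu2 hv2)
  exact ⟨m, f, h0, hlast, fun k => ⟨(hsop k).1, by simpa using (hsop k).2⟩, hstep⟩

end Groth.Agent.S8586
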