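import Groth.Statements.S8590
import Groth.Agent.EtConsPush.Shriek
-- import your own Groth.Agent.* helpers here

set_option autoImplicit false
set_option backward.isDefEq.respectTransparency false
set_option backward.isDefEq.respectTransparency.types false
universe u
open CategoryTheory CategoryTheory.Limits AlgebraicGeometry Opposite
open EtDl

namespace Groth.Agent.S8590

/-- Constructibility of direct images with proper support: degreewise form for a single sheaf: let f : X
-> S be a morphism of finite presentation between quasi-compact quasi-separated schemes, given with
a compactification c (f = j followed by fbar, j an open immersion, fbar proper), and F a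
constructible abelian sheaf on X_et killed by some integer n ≥ 1. Then R^q f_! F, computed through c
as R^q fbar_* (j_! F), is constructible for every q. (The published statement says that Rf_!
preserves complexes with constructible cohomology, for sheaves of modules over a left Noetherian
torsion ring; this is the case of a single sheaf of Z/n-modules.) -/
theorem result {X S : Scheme.{u}} [CompactSpace ↥X] [QuasiSeparatedSpace ↥X]
    [CompactSpace ↥S] [QuasiSeparatedSpace ↥S]
    {f : X ⟶ S} [LocallyOfFinitePresentation f] (c : DEt.Compactification f)
    (F : EtCoh.Ab X) (hF : EtPBC.IsConstructible F) (n : ℕ) (hn : 0 < n) (hFn : EtCoh.KilledBy n F) (q : ℕ) :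
    EtPBC.IsConstructible ((EtCoh.Rpush c.fbar q).obj ((EtShriek.extZero c.j).obj F)) := by
  haveI : LocallyOfFinitePresentation (c.j ≫ c.fbar) := by rw [c.fac]; infer_instance
  exact EtConsPush.isConstructible_Rpush_extZero c.j c.fbar hn F hF hFn q

end Groth.Agent.S8590

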