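import Groth.Statements.S8591
import Mathlib.RingTheory.Norm.Basic
import Mathlib.LinearAlgebra.Charpoly.ToMatrix
import Mathlib.LinearAlgebra.Matrix.Charpoly.Minpoly
import Mathlib.LinearAlgebra.Matrix.Charpoly.Coeff
import Mathlib.FieldTheory.IsAlgClosed.AlgebraicClosure
import Mathlib.RingTheory.Localization.FractionRing
import Mathlib.Tactic

set_option autoImplicit false
universe u
open CAlg

namespace Groth.Agent.S8591

open Polynomial Matrix

/-- the companion matrix of a monic polynomial -/
noncomputable def compM {R : Type*} [CommRing R] (f : R[X]) (n : ℕ) : Matrix (Fin n) (Fin n) R :=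
  Matrix.of fun i j => ((X : R[X]) ^ ((j : ℕ) + 1) %ₘ f).coeff i

theorem leftMulMatrix_root {R : Type*} [CommRing R] {f : R[X]} (hf : f.Monic) :
    Algebra.leftMulMatrix (AdjoinRoot.powerBasisAux' hf) (AdjoinRoot.root f) = compM f f.natDegree := by
  ext i j
  rw [Algebra.leftMulMatrix_eq_repr_mul, AdjoinRoot.powerBasisAux'_repr_apply_to_fun]
  have hb : AdjoinRoot.powerBasisAux' hf j = AdjoinRoot.root f ^ (j : ℕ) :=
    (AdjoinRoot.powerBasis' hf).basis_eq_pow j
  rw [hb, ← pow_succ', ← AdjoinRoot.mk_X, ← map_pow, AdjoinRoot.modByMonicHom_mk]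
  rfl

theorem norm_mk {R : Type*} [CommRing R] {f : R[X]} (hf : f.Monic) (P : R[X]) :
    Algebra.norm R (AdjoinRoot.mk f P) = (aeval (compM f f.natDegree) P).det := by
  rw [Algebra.norm_eq_matrix_det (AdjoinRoot.powerBasisAux' hf), ← leftMulMatrix_root hf,
    aeval_algHom_apply, AdjoinRoot.aeval_eq]

theorem charpoly_compM {R : Type*} [CommRing R] [Nontrivial R] {f : R[X]} (hf : f.Monic) :
    (compM f f.natDegree).charpoly = f := by
  refine (Polynomial.eq_of_monic_of_dvd_of_natDegree_le hf (Matrix.charpoly_monic _) ?_ ?_).symm.symm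
  · rw [← AdjoinRoot.mk_eq_zero, ← AdjoinRoot.aeval_eq]
    apply Algebra.leftMulMatrix_injective (AdjoinRoot.powerBasisAux' hf)
    rw [← aeval_algHom_apply, leftMulMatrix_root, map_zero, Matrix.aeval_self_charpoly]
  · rw [Matrix.charpoly_natDegree_eq_dim, Fintype.card_fin]

theorem det_aeval_eq_field {K : Type*} [Field K] [IsAlgClosed K] {ι κ : Type*} [Fintype ι] [DecidableEq ι]
    [Fintype κ] [DecidableEq κ] (A : Matrix ι ι K) (B : Matrix κ κ K) (h : A.charpoly = B.charpoly)
    (P : K[X]) : (aeval A P).det = (aeval B P).det := by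
  have hcard : Fintype.card ι = Fintype.card κ := by
    rw [← Matrix.charpoly_natDegree_eq_dim A, h, Matrix.charpoly_natDegree_eq_dim]
  induction (IsAlgClosed.splits P) using Submonoid.closure_induction with
  | mem x hx =>
    rcases hx with ⟨c, rfl⟩ | ⟨a, rfl⟩
    · simp [Algebra.algebraMap_eq_smul_one, Matrix.det_smul, hcard]
    · have hA : aeval A (X + C a) = -(Matrix.scalar ι (-a) - A) := by
        simp [Matrix.algebraMap_eq_diagonal, add_comm, sub_eq_add_neg]
      have hB : aeval B (X + C a) = -(Matrix.scalar κ (-a) - B) := by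
        simp [Matrix.algebraMap_eq_diagonal, add_comm, sub_eq_add_neg]
      rw [hA, hB, Matrix.det_neg, Matrix.det_neg, ← Matrix.eval_charpoly, ← Matrix.eval_charpoly, h, hcard]
  | one => simp
  | mul x y hx hy hx' hy' => simp [map_mul, Matrix.det_mul, hx', hy']

theorem det_aeval_map {R S : Type*} [CommRing R] [CommRing S] (φ : R →+* S) {ι : Type*} [Fintype ι]
    [DecidableEq ι] (A : Matrix ι ι R) (P : R[X]) :
    φ (aeval A P).det = (aeval (A.map φ) (P.map φ)).det := by
  rw [RingHom.map_det]
  refine congrArg Matrix.det (Polynomial.map_aeval_eq_aeval_map (φ := φ) (ψ := φ.mapMatrix) ?_ P A)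
  · ext1 r
    ext i j
    simp [Matrix.algebraMap_matrix_apply, apply_ite φ]

theorem det_aeval_eq {R : Type*} [CommRing R] [IsDomain R] {ι κ : Type*} [Fintype ι] [DecidableEq ι]
    [Fintype κ] [DecidableEq κ] (A : Matrix ι ι R) (B : Matrix κ κ R) (h : A.charpoly = B.charpoly)
    (P : R[X]) : (aeval A P).det = (aeval B P).det := by
  let φ : R →+* AlgebraicClosure (FractionRing R) :=
    (algebraMap (FractionRing R) _).comp (algebraMap R (FractionRing R))
  have hφ : Function.Injective φ :=
    (algebraMap (FractionRing R) (AlgebraicClosure (FractionRing R))).injective.comp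
      (IsFractionRing.injective R (FractionRing R))
  apply hφ
  rw [det_aeval_map, det_aeval_map]
  exact det_aeval_eq_field _ _ (by rw [Matrix.charpoly_map, Matrix.charpoly_map, h]) _

theorem compM_map {R S : Type*} [CommRing R] [CommRing S] (φ : R →+* S) {f : R[X]} (hf : f.Monic) (n : ℕ) :
    (compM f n).map φ = compM (f.map φ) n := by
  ext i j
  simp only [compM, Matrix.map_apply, Matrix.of_apply]
  rw [← Polynomial.coeff_map, Polynomial.map_modByMonic φ hf, Polynomial.map_pow, Polynomial.map_X]

theorem det_aeval_comp {R : Type*} [CommRing R] {ι : Type*} [Fintype ι] [DecidableEq ι]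
    (A : Matrix ι ι R) (P : R[X]) :
    (aeval A P).det = (aeval (compM A.charpoly (Fintype.card ι)) P).det := by
  let S := MvPolynomial ((ι × ι) ⊕ ℕ) ℤ
  let φ : S →+* R := MvPolynomial.eval₂Hom (Int.castRingHom R)
    (Sum.elim (fun ij => A ij.1 ij.2) fun i => P.coeff i)
  let A' : Matrix ι ι S := Matrix.of fun i j => MvPolynomial.X (Sum.inl (i, j))
  let P' : S[X] := ∑ i ∈ Finset.range (P.natDegree + 1),
    C (MvPolynomial.X (Sum.inr i) : S) * X ^ i
  have hφX : ∀ s, φ (MvPolynomial.X s) = Sum.elim (fun ij => A ij.1 ij.2) (fun i => P.coeff i) s :=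
    fun s => MvPolynomial.eval₂Hom_X' _ _ s
  have hA : A'.map φ = A := by ext i j; exact hφX _
  have hP : P'.map φ = P := by
    conv_rhs => rw [P.as_sum_range_C_mul_X_pow]
    simp only [P', Polynomial.map_sum, Polynomial.map_mul, Polynomial.map_C, Polynomial.map_pow,
      Polynomial.map_X, hφX, Sum.elim_inr]
  have key : (aeval A' P').det = (aeval (compM A'.charpoly (Fintype.card ι)) P').det := by
    refine det_aeval_eq _ _ ?_ _
    have := charpoly_compM (Matrix.charpoly_monic A')
    rw [Matrix.charpoly_natDegree_eq_dim] at this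
    exact this.symm
  have := congrArg φ key
  rw [det_aeval_map, det_aeval_map, hA, hP, compM_map _ (Matrix.charpoly_monic A'),
    ← Matrix.charpoly_map, hA] at this
  exact this

/-- Let k be a commutative ring, M a finite free k-module, u an endomorphism of M with characteristic
polynomial χ, and P a polynomial over k. Then the norm, from the k-algebra k[T]/(χ) (free of rank
the rank of M) down to k, of the class of P(T) equals det(P(u)). (The published statement writes the
quotient by det(u - T), which generates the same ideal as χ(T) = det(T - u).) -/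
theorem result (k : Type u) [CommRing k] (M : Type u) [AddCommGroup M] [Module k M]
    [Module.Free k M] [Module.Finite k M] (u : M →ₗ[k] M) (P : Polynomial k) :
    Algebra.norm k (AdjoinRoot.mk u.charpoly P) = LinearMap.det (Polynomial.aeval u P) := by
  classical
  rcases subsingleton_or_nontrivial k with hk | hk
  · exact Subsingleton.elim _ _
  let b := Module.Free.chooseBasis k M
  have h1 : u.charpoly = (LinearMap.toMatrix b b u).charpoly := (LinearMap.charpoly_toMatrix u b).symm
  have h2 : LinearMap.det (Polynomial.aeval u P) = (Polynomial.aeval (LinearMap.toMatrix b b u) P).det := by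
    rw [← LinearMap.det_toMatrix b]
    congr 1
    exact (Polynomial.aeval_algHom_apply (LinearMap.toMatrixAlgEquiv b) u P).symm
  rw [norm_mk u.charpoly_monic, h2, det_aeval_comp (LinearMap.toMatrix b b u), h1,
    Matrix.charpoly_natDegree_eq_dim]

end Groth.Agent.S8591
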