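import Groth.Statements.S8596
import Groth.Agent.TorBalance.LESFlip
import Groth.Agent.TorDev.Basic

set_option autoImplicit false
universe u
open CategoryTheory CategoryTheory.Limits
open CAlg Groth.Agent

namespace Groth.Agent.S8596

/-- Case of a complex reduced to a single module in degree 0: let A be a commutative Noetherian ring, M
an A-module (not necessarily finitely generated) and n ≥ 0. Then M has tor-dimension at most n —
Tor_i^A(N, M) = 0 for every A-module N and every i > n, the Tor being the left derived functors of N
⊗ - evaluated at M — if and only if Tor_i^A(k(x), M) = 0 for every prime ideal x of A, with residue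
field k(x), and every i > n. (The published statement gives the equivalence for bounded-above
complexes K and the derived tensor product K ⊗^L k(x); this is the case K = M[0].) -/
theorem result (A : Type u) [CommRing A] [IsNoetherianRing A]
    (M : ModuleCat.{u} A) (n : ℕ) :
    (∀ (N : ModuleCat.{u} A) (i : ℕ), n < i → IsZero (((Tor (ModuleCat.{u} A) i).obj N).obj M)) ↔
    (∀ (x : Ideal A) [x.IsPrime] (i : ℕ), n < i →
      IsZero (((Tor (ModuleCat.{u} A) i).obj (ModuleCat.of A x.ResidueField)).obj M)) := by
  classical
  let Q := projectiveResolution M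
  let F : ℕ → Type u := fun j => Q.complex.X j
  haveI : ∀ j, Module.Flat A (F j) := fun j => TorBalance.flat_X Q j
  let d : ∀ j, F (j + 1) →ₗ[A] F j := fun j => (Q.complex.d (j + 1) j).hom
  have hdd : ∀ j, d j ∘ₗ d (j + 1) = 0 := fun j => by
    show (Q.complex.d (j + 1) j).hom ∘ₗ (Q.complex.d (j + 1 + 1) (j + 1)).hom = 0
    rw [← ModuleCat.hom_comp, Q.complex.d_comp_d]
    rfl
  have key : ∀ (X : ModuleCat.{u} A) (j : ℕ),
      IsZero (((Tor (ModuleCat.{u} A) (j + 1)).obj X).obj M) ↔ TorDev.Ex F d X j := fun X j => by
    refine (show IsZero (((Tor (ModuleCat.{u} A) (j + 1)).flip.obj M).obj X) ↔ _ from ?_)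
    rw [((TorBalance.flipIso Q (j + 1)).app X).isZero_iff]
    show IsZero (((TorBalance.cxL Q.complex).obj X).homology (j + 1)) ↔ _
    rw [← HomologicalComplex.exactAt_iff_isZero_homology, HomologicalComplex.exactAt_iff' _ (j + 1 + 1) (j + 1) j (by simp) (by simp),
      CategoryTheory.ShortComplex.ShortExact.moduleCat_exact_iff_function_exact]
    rfl
  refine ⟨fun h x _ i hi => h _ i hi, fun h N i hi => ?_⟩
  obtain ⟨j, rfl⟩ : ∃ j, i = j + 1 := ⟨i - 1, by omega⟩
  rw [key]
  refine TorDev.ex_of_residueField hdd n (fun p k hk => ?_) N j (by omega)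
  exact (key (ModuleCat.of A p.asIdeal.ResidueField) k).1 (h p.asIdeal (k + 1) (by omega))

end Groth.Agent.S8596
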