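import Groth.Statements.S8597
import Groth.Agent.TorBalance.LESFlip
import Groth.Agent.TorDev.Basic
import Groth.Agent.FlatSES.Basic
-- import your own Groth.Agent.* helpers here

set_option autoImplicit false
universe u
open CategoryTheory CategoryTheory.Limits
open CAlg Groth.Agent
open scoped TensorProduct

namespace Groth.Agent.S8597

open MonoidalCategory

set_option maxHeartbeats 2000000
set_option synthInstance.maxHeartbeats 200000

variable {A : Type u} [CommRing A]

theorem homologyπ_eq_zero_iff (S : ShortComplex (ModuleCat.{u} A)) (c : S.cycles) :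
    S.homologyπ c = 0 ↔ ∃ y, S.f y = S.iCycles c := by
  have hex : (ShortComplex.mk S.toCycles S.homologyπ (S.toCycles_comp_homologyπ)).Exact :=
    ShortComplex.exact_of_g_is_cokernel _ S.homologyIsCokernel
  have hi : Function.Injective S.iCycles := (ModuleCat.mono_iff_injective _).1 inferInstance
  have ht : ∀ y, S.iCycles (S.toCycles y) = S.f y := fun y => by
    rw [← ConcreteCategory.comp_apply, S.toCycles_i]
  constructor
  · intro h
    obtain ⟨y, hy⟩ := (ShortComplex.moduleCat_exact_iff _).1 hex c h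
    exact ⟨y, by rw [← ht]; exact congrArg _ hy⟩
  · rintro ⟨y, hy⟩
    have : S.toCycles y = c := hi (by rw [ht, hy])
    rw [← this, ← ConcreteCategory.comp_apply, S.toCycles_comp_homologyπ]
    rfl

theorem homology_elements {S T : ShortComplex (ModuleCat.{u} A)} (φ : S ⟶ T) [IsIso (ShortComplex.homologyMap φ)] :
    (∀ x, S.g x = 0 → (∃ y, T.f y = φ.τ₂ x) → ∃ y, S.f y = x) ∧
      (∀ z, T.g z = 0 → ∃ x, S.g x = 0 ∧ ∃ y, T.f y = z - φ.τ₂ x) := by
  have hmk : ∀ (U : ShortComplex (ModuleCat.{u} A)) (x : U.X₂), U.g x = 0 → ∃ c : U.cycles, U.iCycles c = x := fun U x hx =>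
    ⟨U.moduleCatCyclesIso.inv (⟨x, LinearMap.mem_ker.2 hx⟩ : LinearMap.ker U.g.hom),
      congrArg (fun f : U.moduleCatLeftHomologyData.K ⟶ U.X₂ => f (⟨x, LinearMap.mem_ker.2 hx⟩ : LinearMap.ker U.g.hom)) U.moduleCatCyclesIso_inv_iCycles⟩
  have hnat : ∀ c, T.iCycles (ShortComplex.cyclesMap φ c) = φ.τ₂ (S.iCycles c) := fun c => by
    rw [← ConcreteCategory.comp_apply, ShortComplex.cyclesMap_i]; rfl
  have hπ : ∀ c, ShortComplex.homologyMap φ (S.homologyπ c) = T.homologyπ (ShortComplex.cyclesMap φ c) := fun c => by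
    rw [← ConcreteCategory.comp_apply, ShortComplex.homologyπ_naturality]; rfl
  have hbij := (ConcreteCategory.isIso_iff_bijective (ShortComplex.homologyMap φ)).1 inferInstance
  refine ⟨fun x hx hy => ?_, fun z hz => ?_⟩
  · obtain ⟨c, rfl⟩ := hmk S x hx
    refine (homologyπ_eq_zero_iff S c).1 (hbij.1 ?_)
    rw [map_zero, hπ, homologyπ_eq_zero_iff, hnat]
    exact hy
  · obtain ⟨c, rfl⟩ := hmk T z hz
    obtain ⟨h, hh⟩ := hbij.2 (T.homologyπ c)
    obtain ⟨c', rfl⟩ := (ModuleCat.epi_iff_surjective S.homologyπ).1 inferInstance h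
    refine ⟨S.iCycles c', by rw [← ConcreteCategory.comp_apply, S.iCycles_g]; rfl, ?_⟩
    rw [← hnat, ← map_sub, ← homologyπ_eq_zero_iff, map_sub, ← hπ, hh, sub_self]

section Abstract

variable {X N2 N1 N0 M1 M0 Z : Type u} [AddCommGroup X] [Module A X] [AddCommGroup N2] [Module A N2] [AddCommGroup N1] [Module A N1]
  [AddCommGroup N0] [Module A N0] [AddCommGroup M1] [Module A M1] [AddCommGroup M0] [Module A M0] [AddCommGroup Z] [Module A Z]

theorem split_tensor (w : X ⊗[A] (N1 × M0)) :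
    (LinearMap.inl A N1 M0).lTensor X ((LinearMap.fst A N1 M0).lTensor X w) +
      (LinearMap.inr A N1 M0).lTensor X ((LinearMap.snd A N1 M0).lTensor X w) = w := by
  rw [← LinearMap.lTensor_comp_apply, ← LinearMap.lTensor_comp_apply, ← LinearMap.add_apply, ← LinearMap.lTensor_add,
    show LinearMap.inl A N1 M0 ∘ₗ LinearMap.fst A N1 M0 + LinearMap.inr A N1 M0 ∘ₗ LinearMap.snd A N1 M0 = LinearMap.id from
      LinearMap.ext fun z => Prod.ext (add_zero _) (zero_add _), LinearMap.lTensor_id, LinearMap.id_apply]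

theorem cone_exact_zero (a : N2 →ₗ[A] N1) (f : M1 →ₗ[A] N1)
    (hs : ∀ n, ∃ c y, a.lTensor X y = n - f.lTensor X c) {g : (N1 × PUnit.{u + 1}) →ₗ[A] Z} (hg : ∀ v, g v = 0) :
    Function.Exact ((LinearMap.prod (a ∘ₗ LinearMap.fst A N2 M1 + f ∘ₗ LinearMap.snd A N2 M1)
      ((0 : M1 →ₗ[A] PUnit.{u + 1}) ∘ₗ LinearMap.snd A N2 M1)).lTensor X) (g.lTensor X) := by
  have hg0 : g = 0 := LinearMap.ext hg
  intro z
  simp only [hg0, LinearMap.lTensor_zero, LinearMap.zero_apply, true_iff]
  obtain ⟨c, y, hy⟩ := hs ((LinearMap.fst A N1 PUnit.{u + 1}).lTensor X z)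
  refine ⟨(LinearMap.inl A N2 M1).lTensor X y + (LinearMap.inr A N2 M1).lTensor X c, ?_⟩
  conv_rhs => rw [← split_tensor z]
  rw [show (LinearMap.snd A N1 PUnit.{u + 1}).lTensor X z = 0 from Subsingleton.elim _ _, map_zero, add_zero, map_add,
    ← LinearMap.lTensor_comp_apply, ← LinearMap.lTensor_comp_apply,
    show LinearMap.prod (a ∘ₗ LinearMap.fst A N2 M1 + f ∘ₗ LinearMap.snd A N2 M1) ((0 : M1 →ₗ[A] PUnit.{u + 1}) ∘ₗ LinearMap.snd A N2 M1) ∘ₗ
      LinearMap.inl A N2 M1 = LinearMap.inl A N1 PUnit.{u + 1} ∘ₗ a from LinearMap.ext fun x => Prod.ext (by simp) rfl,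
    show LinearMap.prod (a ∘ₗ LinearMap.fst A N2 M1 + f ∘ₗ LinearMap.snd A N2 M1) ((0 : M1 →ₗ[A] PUnit.{u + 1}) ∘ₗ LinearMap.snd A N2 M1) ∘ₗ
      LinearMap.inr A N2 M1 = LinearMap.inl A N1 PUnit.{u + 1} ∘ₗ f from LinearMap.ext fun x => Prod.ext (by simp) rfl,
    LinearMap.lTensor_comp_apply, LinearMap.lTensor_comp_apply, ← map_add, hy, sub_add_cancel]

theorem cone_exact (a : N2 →ₗ[A] N1) (b : N1 →ₗ[A] N0) (f1 : M1 →ₗ[A] N1) (f0 : M0 →ₗ[A] N0) (e : M1 →ₗ[A] M0)
    (g : M0 →ₗ[A] Z) (hba : b ∘ₗ a = 0) (hcomm : b ∘ₗ f1 = f0 ∘ₗ e) (hge : g ∘ₗ e = 0)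
    (hinj : ∀ m, g.lTensor X m = 0 → (∃ y, b.lTensor X y = f0.lTensor X m) → ∃ y, e.lTensor X y = m)
    (hsurj : ∀ z, b.lTensor X z = 0 → ∃ c, e.lTensor X c = 0 ∧ ∃ y, a.lTensor X y = z - f1.lTensor X c) :
    Function.Exact ((LinearMap.prod (a ∘ₗ LinearMap.fst A N2 M1 + f1 ∘ₗ LinearMap.snd A N2 M1) ((-e) ∘ₗ LinearMap.snd A N2 M1)).lTensor X)
      ((LinearMap.prod (b ∘ₗ LinearMap.fst A N1 M0 + f0 ∘ₗ LinearMap.snd A N1 M0) (g ∘ₗ LinearMap.snd A N1 M0)).lTensor X) := by
  set D1 := LinearMap.prod (a ∘ₗ LinearMap.fst A N2 M1 + f1 ∘ₗ LinearMap.snd A N2 M1) ((-e) ∘ₗ LinearMap.snd A N2 M1) with hD1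
  set D0 := LinearMap.prod (b ∘ₗ LinearMap.fst A N1 M0 + f0 ∘ₗ LinearMap.snd A N1 M0) (g ∘ₗ LinearMap.snd A N1 M0) with hD0
  intro z
  constructor
  · intro hz
    let n := (LinearMap.fst A N1 M0).lTensor X z
    let m := (LinearMap.snd A N1 M0).lTensor X z
    have h1 : b.lTensor X n + f0.lTensor X m = 0 := by
      have := congrArg ((LinearMap.fst A N0 Z).lTensor X) hz
      rw [map_zero, ← LinearMap.lTensor_comp_apply, hD0, LinearMap.fst_prod] at this
      rw [← this, LinearMap.lTensor_add, LinearMap.add_apply, LinearMap.lTensor_comp_apply, LinearMap.lTensor_comp_apply]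
    have h2 : g.lTensor X m = 0 := by
      have := congrArg ((LinearMap.snd A N0 Z).lTensor X) hz
      rw [map_zero, ← LinearMap.lTensor_comp_apply, hD0, LinearMap.snd_prod, LinearMap.lTensor_comp_apply] at this
      exact this
    obtain ⟨m', hm'⟩ := hinj m h2 ⟨-n, by rw [map_neg, ← eq_neg_of_add_eq_zero_right h1]⟩
    obtain ⟨c, hc, y, hy⟩ := hsurj (n + f1.lTensor X m') (by
      rw [map_add, ← LinearMap.lTensor_comp_apply X b f1, hcomm, LinearMap.lTensor_comp_apply, hm', h1])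
    refine ⟨(LinearMap.inl A N2 M1).lTensor X y + (LinearMap.inr A N2 M1).lTensor X (c - m'), ?_⟩
    have e1 : D1 ∘ₗ LinearMap.inl A N2 M1 = LinearMap.inl A N1 M0 ∘ₗ a := LinearMap.ext fun x => Prod.ext (by simp [hD1]) (by simp [hD1])
    have e2 : D1 ∘ₗ LinearMap.inr A N2 M1 = LinearMap.inl A N1 M0 ∘ₗ f1 + LinearMap.inr A N1 M0 ∘ₗ (-e) :=
      LinearMap.ext fun x => Prod.ext (by simp [hD1]) (by simp [hD1])
    conv_rhs => rw [← split_tensor z]
    rw [map_add, ← LinearMap.lTensor_comp_apply, ← LinearMap.lTensor_comp_apply, e1, e2, LinearMap.lTensor_add, LinearMap.add_apply,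
      LinearMap.lTensor_comp_apply, LinearMap.lTensor_comp_apply, LinearMap.lTensor_comp_apply, ← add_assoc, ← map_add, hy,
      LinearMap.lTensor_neg, LinearMap.neg_apply]
    congr 1
    · congr 1
      rw [map_sub]
      abel
    · congr 1
      rw [map_sub, hc, zero_sub, neg_neg, hm']
  · rintro ⟨w, rfl⟩
    rw [← LinearMap.lTensor_comp_apply, show D0 ∘ₗ D1 = 0 from ?_, LinearMap.lTensor_zero, LinearMap.zero_apply]
    refine LinearMap.ext fun x => Prod.ext ?_ ?_
    · have h3 := LinearMap.congr_fun hba x.1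
      have h4 := LinearMap.congr_fun hcomm x.2
      simp only [LinearMap.comp_apply, LinearMap.zero_apply] at h3 h4
      simp [hD0, hD1, h3, h4]
    · have h5 := LinearMap.congr_fun hge x.2
      simp only [LinearMap.comp_apply, LinearMap.zero_apply] at h5
      simp [hD0, hD1, h5]

end Abstract

section Cone

variable {M N : ModuleCat.{u} A} (QM : ProjectiveResolution M) (QN : ProjectiveResolution N) (φ : QM.complex ⟶ QN.complex)

/-- `QM` shifted up by one. -/
noncomputable def P : ℕ → ModuleCat.{u} A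
  | 0 => ModuleCat.of A PUnit.{u + 1}
  | k + 1 => QM.complex.X k

noncomputable def dP : ∀ k, P QM (k + 1) →ₗ[A] P QM k
  | 0 => 0
  | k + 1 => -(QM.complex.d (k + 1) k).hom

theorem flat_prod (X Y : Type u) [AddCommGroup X] [Module A X] [AddCommGroup Y] [Module A Y] [Module.Flat A X] [Module.Flat A Y] :
    Module.Flat A (X × Y) :=
  FlatSES.flat_middle (f := LinearMap.inl A X Y) (g := LinearMap.snd A X Y) LinearMap.inl_injective
    (by intro z; exact ⟨fun hz => ⟨z.1, Prod.ext rfl hz.symm⟩, fun ⟨a, ha⟩ => ha ▸ rfl⟩) LinearMap.snd_surjective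

/-- The augmented mapping cone. -/
noncomputable def F : ℕ → ModuleCat.{u} A
  | 0 => ModuleCat.of A PUnit.{u + 1}
  | j + 1 => ModuleCat.of A (QN.complex.X j × P QM j)

noncomputable def d : ∀ j, F QM QN (j + 1) →ₗ[A] F QM QN j
  | 0 => 0
  | j + 1 => LinearMap.prod ((QN.complex.d (j + 1) j).hom ∘ₗ LinearMap.fst A _ _ + (φ.f j).hom ∘ₗ LinearMap.snd A _ _)
      (dP QM j ∘ₗ LinearMap.snd A _ _)

theorem hdd : ∀ j, d QM QN φ j ∘ₗ d QM QN φ (j + 1) = 0
  | 0 => LinearMap.ext fun _ => rfl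
  | j + 1 => by
    have hn : ∀ x, (QN.complex.d (j + 1) j) ((QN.complex.d (j + 1 + 1) (j + 1)) x) = 0 := fun x => by
      exact congrArg (fun f => f.hom x) (QN.complex.d_comp_d (j + 1 + 1) (j + 1) j)
    have hc : ∀ x, (QN.complex.d (j + 1) j) ((φ.f (j + 1)) x) = (φ.f j) ((QM.complex.d (j + 1) j) x) := fun x => by
      exact congrArg (fun f => f.hom x) (φ.comm (j + 1) j)
    refine LinearMap.ext fun z => Prod.ext ?_ ?_
    · show (QN.complex.d (j + 1) j) ((QN.complex.d (j + 1 + 1) (j + 1)) z.1 + (φ.f (j + 1)) z.2) +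
          (φ.f j) (-(QM.complex.d (j + 1) j) z.2) = 0
      rw [map_add, hn, zero_add, map_neg]
      erw [hc]
      exact add_neg_cancel _
    · show dP QM j (-(QM.complex.d (j + 1) j) z.2) = 0
      cases j with
      | zero => rfl
      | succ k =>
        show -(QM.complex.d (k + 1) k) (-(QM.complex.d (k + 1 + 1) (k + 1)) z.2) = 0
        rw [map_neg, neg_neg]
        exact congrArg (fun f => f.hom z.2) (QM.complex.d_comp_d (k + 1 + 1) (k + 1) k)

theorem flat_P : ∀ k, Module.Flat A (P QM k)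
  | 0 => inferInstanceAs (Module.Flat A PUnit.{u + 1})
  | k + 1 => TorBalance.flat_X QM k

theorem flat_F : ∀ j, Module.Flat A (F QM QN j)
  | 0 => inferInstanceAs (Module.Flat A PUnit.{u + 1})
  | j + 1 => by
    haveI := TorBalance.flat_X QN j
    haveI := flat_P QM j
    exact flat_prod (QN.complex.X j) (P QM j)

theorem elements_of_quasiIso (X : ModuleCat.{u} A)
    (h : ∀ i, IsIso (HomologicalComplex.homologyMap
      ((((tensoringLeft (ModuleCat.{u} A)).obj X).mapHomologicalComplex _).map φ) i)) :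
    ∀ i, (∀ x : X ⊗[A] QM.complex.X i, (∀ l, l + 1 = i → (QM.complex.d i l).hom.lTensor X x = 0) →
      (∃ y, (QN.complex.d (i + 1) i).hom.lTensor X y = (φ.f i).hom.lTensor X x) →
        ∃ y, (QM.complex.d (i + 1) i).hom.lTensor X y = x) ∧
      (∀ z : X ⊗[A] QN.complex.X i, (∀ l, l + 1 = i → (QN.complex.d i l).hom.lTensor X z = 0) →
        ∃ x, (∀ l, l + 1 = i → (QM.complex.d i l).hom.lTensor X x = 0) ∧
          ∃ y, (QN.complex.d (i + 1) i).hom.lTensor X y = z - (φ.f i).hom.lTensor X x) := by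
  intro i
  have hq : QuasiIsoAt ((((tensoringLeft (ModuleCat.{u} A)).obj X).mapHomologicalComplex _).map φ) i :=
    (quasiIsoAt_iff_isIso_homologyMap _ _).2 (h i)
  rcases i with _ | k
  · rw [quasiIsoAt_iff' _ 1 0 0 (by simp) (by simp), ShortComplex.quasiIso_iff] at hq
    haveI := hq
    obtain ⟨h1, h2⟩ := homology_elements ((HomologicalComplex.shortComplexFunctor' (ModuleCat.{u} A) (ComplexShape.down ℕ) 1 0 0).map
      ((((tensoringLeft (ModuleCat.{u} A)).obj X).mapHomologicalComplex _).map φ))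
    have hz : ∀ (C : ChainComplex (ModuleCat.{u} A) ℕ) (x : X ⊗[A] C.X 0), (C.d 0 0).hom.lTensor X x = 0 := fun C x => by
      rw [C.shape 0 0 (by simp)]
      show (0 : C.X 0 →ₗ[A] C.X 0).lTensor X x = 0
      rw [LinearMap.lTensor_zero]; rfl
    refine ⟨fun x _ hy => h1 x (hz _ x) hy, fun z _ => ?_⟩
    obtain ⟨x, -, hy⟩ := h2 z (hz _ z)
    exact ⟨x, fun l hl => absurd hl (Nat.succ_ne_zero l), hy⟩
  · rw [quasiIsoAt_iff' _ (k + 1 + 1) (k + 1) k (by simp) (by simp), ShortComplex.quasiIso_iff] at hq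
    haveI := hq
    obtain ⟨h1, h2⟩ := homology_elements ((HomologicalComplex.shortComplexFunctor' (ModuleCat.{u} A) (ComplexShape.down ℕ) (k + 1 + 1) (k + 1) k).map
      ((((tensoringLeft (ModuleCat.{u} A)).obj X).mapHomologicalComplex _).map φ))
    refine ⟨fun x hx hy => h1 x (hx k rfl) hy, fun z hz => ?_⟩
    obtain ⟨x, hx, hy⟩ := h2 z (hz k rfl)
    exact ⟨x, fun l hl => by obtain rfl : l = k := Nat.succ_injective hl; exact hx, hy⟩

theorem ex_of_quasiIso (X : ModuleCat.{u} A)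
    (h : ∀ i, IsIso (HomologicalComplex.homologyMap
      ((((tensoringLeft (ModuleCat.{u} A)).obj X).mapHomologicalComplex _).map φ) i)) :
    ∀ j, TorDev.Ex (fun j => F QM QN j) (d QM QN φ) X j := by
  have hel := elements_of_quasiIso QM QN φ X h
  have hdn : ∀ k, (QN.complex.d (k + 1) k).hom ∘ₗ (QN.complex.d (k + 1 + 1) (k + 1)).hom = 0 := fun k => by
    rw [← ModuleCat.hom_comp, QN.complex.d_comp_d]; rfl
  intro j
  rcases j with _ | k
  · exact cone_exact_zero (X := X) (QN.complex.d 1 0).hom (φ.f 0).hom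
      (fun n => by obtain ⟨c, -, y, hy⟩ := (hel 0).2 n (fun l hl => absurd hl (Nat.succ_ne_zero l)); exact ⟨c, y, hy⟩)
      (fun v => rfl)
  · refine cone_exact (X := X) (QN.complex.d (k + 1 + 1) (k + 1)).hom (QN.complex.d (k + 1) k).hom (φ.f (k + 1)).hom (φ.f k).hom
      (QM.complex.d (k + 1) k).hom (dP QM k) (hdn k) ?_ ?_ ?_ ?_
    · rw [← ModuleCat.hom_comp, ← ModuleCat.hom_comp, φ.comm]
    · cases k with
      | zero => exact LinearMap.zero_comp _
      | succ l =>
        show (-(QM.complex.d (l + 1) l).hom) ∘ₗ (QM.complex.d (l + 1 + 1) (l + 1)).hom = 0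
        rw [LinearMap.neg_comp, ← ModuleCat.hom_comp, QM.complex.d_comp_d]
        exact neg_zero
    · intro m hm hy
      refine (hel k).1 m (fun l hl => ?_) hy
      subst hl
      have : (-(QM.complex.d (l + 1) l).hom).lTensor X m = 0 := hm
      rwa [LinearMap.lTensor_neg, LinearMap.neg_apply, neg_eq_zero] at this
    · intro z hz
      obtain ⟨c, hc, y, hy⟩ := (hel (k + 1)).2 z (fun l hl => by obtain rfl : l = k := Nat.succ_injective hl; exact hz)
      exact ⟨c, hc k rfl, y, hy⟩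

end Cone


/-- Case of modules placed in degree 0: let A be a commutative Noetherian ring and u : M -> N a
homomorphism of A-modules such that for every prime ideal x of A, with residue field k(x), and every
i ≥ 0, the induced map Tor_i^A(k(x), M) -> Tor_i^A(k(x), N) (left derived functors of k(x) ⊗ -) is
an isomorphism. Then u is an isomorphism. (The published statement is for a morphism of
bounded-above complexes and the derived tensor products with k(x); this is the case of two modules.) -/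
theorem result (A : Type u) [CommRing A] [IsNoetherianRing A]
    {M N : ModuleCat.{u} A} (u : M ⟶ N)
    (h : ∀ (x : Ideal A) [x.IsPrime] (i : ℕ),
      IsIso (((Tor (ModuleCat.{u} A) i).obj (ModuleCat.of A x.ResidueField)).map u)) :
    IsIso u := by
  let QM := projectiveResolution M
  let QN := projectiveResolution N
  let φ := ProjectiveResolution.lift u QM QN
  have comm : φ.f 0 ≫ QN.π.f 0 = QM.π.f 0 ≫ u := ProjectiveResolution.lift_commutes_zero u QM QN
  haveI : ∀ j, Module.Flat A (F QM QN j) := flat_F QM QN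
  have hEx : ∀ (p : PrimeSpectrum A) (j : ℕ), 0 ≤ j → TorDev.Ex (fun j => F QM QN j) (d QM QN φ) p.asIdeal.ResidueField j :=
    fun p j _ => ex_of_quasiIso QM QN φ (ModuleCat.of A p.asIdeal.ResidueField) (fun i => by
      haveI := h p.asIdeal i
      have hnat := ProjectiveResolution.isoLeftDerivedObj_hom_naturality u QM QN φ comm
        ((tensoringLeft (ModuleCat.{u} A)).obj (ModuleCat.of A p.asIdeal.ResidueField)) i
      have : IsIso ((QM.isoLeftDerivedObj ((tensoringLeft (ModuleCat.{u} A)).obj (ModuleCat.of A p.asIdeal.ResidueField)) i).hom ≫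
          HomologicalComplex.homologyMap ((((tensoringLeft (ModuleCat.{u} A)).obj (ModuleCat.of A p.asIdeal.ResidueField)).mapHomologicalComplex _).map φ) i) := by
        have hh : IsIso ((((tensoringLeft (ModuleCat.{u} A)).obj (ModuleCat.of A p.asIdeal.ResidueField)).leftDerived i).map u) := this
        have h5 : IsIso (((((tensoringLeft (ModuleCat.{u} A)).obj (ModuleCat.of A p.asIdeal.ResidueField)).leftDerived i).map u) ≫ (QN.isoLeftDerivedObj ((tensoringLeft (ModuleCat.{u} A)).obj (ModuleCat.of A p.asIdeal.ResidueField)) i).hom) := IsIso.comp_isIso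
        rw [hnat] at h5
        exact h5
      exact IsIso.of_isIso_comp_left (QM.isoLeftDerivedObj ((tensoringLeft (ModuleCat.{u} A)).obj (ModuleCat.of A p.asIdeal.ResidueField)) i).hom _) j
  have hA : ∀ j, Function.Exact (d QM QN φ (j + 1)) (d QM QN φ j) := fun j => by
    have := TorDev.ex_of_residueField (hdd QM QN φ) 0 hEx A j (Nat.zero_le j)
    exact (Function.Exact.iff_of_ladder_linearEquiv (e₁ := TensorProduct.lid A _) (e₂ := TensorProduct.lid A _) (e₃ := TensorProduct.lid A _)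
      (TensorProduct.ext' fun a x => by simp) (TensorProduct.ext' fun a x => by simp)).2 this
  have hsM : Function.Surjective (QM.π.f 0) := (ModuleCat.epi_iff_surjective _).1 inferInstance
  have hsN : Function.Surjective (QN.π.f 0) := (ModuleCat.epi_iff_surjective _).1 inferInstance
  have hu : ∀ a, u (QM.π.f 0 a) = QN.π.f 0 (φ.f 0 a) := fun a =>
    (congrArg (fun f => f.hom a) comm).symm
  rw [ConcreteCategory.isIso_iff_bijective]
  refine ⟨(injective_iff_map_eq_zero _).2 fun m hm => ?_, fun y => ?_⟩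
  · obtain ⟨a, rfl⟩ := hsM m
    rw [hu] at hm
    obtain ⟨b, hb⟩ := (ShortComplex.moduleCat_exact_iff _).1 QN.exact₀ (φ.f 0 a) hm
    obtain ⟨w, hw⟩ := (hA 1 ((b, -a) : QN.complex.X 1 × P QM 1)).1 (by
      refine Prod.ext ?_ rfl
      show (QN.complex.d 1 0) b + (φ.f 0) (-a) = 0
      rw [map_neg, show (QN.complex.d 1 0) b = (φ.f 0) a from hb, add_neg_cancel])
    have h2 : -(QM.complex.d 1 0) w.2 = -a := congrArg Prod.snd hw
    rw [← neg_injective h2]
    exact congrArg (fun f => f.hom w.2) QM.complex_d_comp_π_f_zero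
  · obtain ⟨n, rfl⟩ := hsN y
    obtain ⟨w, hw⟩ := (hA 0 ((n, PUnit.unit) : QN.complex.X 0 × P QM 0)).1 rfl
    have h1 : (QN.complex.d 1 0) w.1 + (φ.f 0) w.2 = n := congrArg Prod.fst hw
    refine ⟨QM.π.f 0 w.2, ?_⟩
    have h0 : QN.π.f 0 ((QN.complex.d 1 0) w.1) = 0 := congrArg (fun f => f.hom w.1) QN.complex_d_comp_π_f_zero
    refine (hu w.2).trans ?_
    rw [← h1, map_add]
    erw [h0]
    exact (zero_add _).symm

end Groth.Agent.S8597
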