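import Groth.Statements.S8598
import Groth.Agent.EtPushStalk.OpenImm
import Groth.Agent.EtStalk.Applications

set_option autoImplicit false
universe u
open CategoryTheory CategoryTheory.Limits AlgebraicGeometry Opposite
open EtDl

set_option backward.isDefEq.respectTransparency false

namespace Groth.Agent.S8598

/-- Let u : X -> Y be an etale, separated morphism of finite type that is surjective, and F an abelian
sheaf on Y_et. The sheaves F_n = (u_n)_! u_n^* F built from the iterated fibre powers of X over Y
form a left resolution of F; in particular (the part stated here) the augmentation u_! u^* F -> F,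
which is the counit of the adjunction between extension by zero u_! and restriction u^*, is an
epimorphism. (The continuity of V ↦ (V -> X -> Y) between the small etale sites is carried as an
instance hypothesis, the prelude's convention for extension by zero along an etale morphism.) -/
theorem result {X Y : Scheme.{u}} (u : X ⟶ Y) [Etale u] [IsSeparated u]
    [LocallyOfFiniteType u] [QuasiCompact u] [Surjective u] [EtShriek.JCont u] (F : EtCoh.Ab Y) :
    Epi ((EtShriek.extZeroAdj u).counit.app F) := by
  let η := (EtShriek.extZeroAdj u).counit.app F
  have : IsSplitEpi ((EtShriek.restrAlong u).map η) :=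
    ⟨⟨⟨(EtShriek.extZeroAdj u).unit.app _, (EtShriek.extZeroAdj u).right_triangle_components F⟩⟩⟩
  have h1 : Epi ((EtCoh.pull u).map η) :=
    ((MorphismProperty.epimorphisms _).arrow_mk_iso_iff
      (((Functor.mapArrowFunctor _ _).mapIso (Groth.Agent.EtPushStalk.restrPullIso u)).app (Arrow.mk η))).mp
      (inferInstanceAs (Epi ((EtShriek.restrAlong u).map η)))
  have key : Presheaf.IsLocallySurjective Y.smallEtaleTopology η.hom := by
    refine Groth.Agent.EtStalk.isLocallySurjective_of_covers _ (Groth.Agent.EtStalk.covers_of_surjective u) ?_
    rintro Ω _ _ ξ ⟨ξ', rfl⟩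
    have h2 : Epi ((EtCoh.stalk (ξ' ≫ u)).map η) :=
      ((MorphismProperty.epimorphisms _).arrow_mk_iso_iff
        (((Functor.mapArrowFunctor _ _).mapIso (Groth.Agent.EtStalk.stalkPullIso u ξ')).app (Arrow.mk η))).mpr
        ((AddCommGrpCat.epi_iff_surjective _).mpr ((Groth.Agent.EtStalk.epi_iff _).mp h1 Ω ξ'))
    exact (AddCommGrpCat.epi_iff_surjective _).mp h2
  have : Sheaf.IsLocallySurjective η := key
  exact inferInstanceAs (Epi η)

end Groth.Agent.S8598
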