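import Groth.Statements.S8604
import Groth.Agent.FrobFix.Basic
import Mathlib.FieldTheory.IsAlgClosed.Basic

set_option autoImplicit false
universe u
open CAlg

namespace Groth.Agent.S8604

/-- Over an algebraically closed field: let k be an algebraically closed field of characteristic p > 0,
V a finite-dimensional k-vector space and F : V -> V a p-linear endomorphism (additive with F(a·v) =
a^p·F(v)). Let V^F be the set of vectors fixed by F (an F_p-subspace), V_0 the k-span of V^F and V_n
the k-span of the vectors killed by some iterate of F (these already form an F-stable subspace on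
which F is nilpotent). Then V = V_0 ⊕ V_n, and V^F ⊗ k -> V_0 is bijective in the sense that any
finitely many F-fixed vectors linearly independent over Z/p (every vanishing integer combination has
all coefficients divisible by p) are linearly independent over k. (The published statement asserts
this decomposition, with V^F ⊗ k ≅ V_0, for every PERFECT field k; that is false when k is not
separably closed — for k = Z/3, V = k and F = multiplication by 2 there are no nonzero fixed vectors
although F is bijective — and the decomposition is stated here over an algebraically closed field,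
the case in which it holds.) -/
theorem result (p : ℕ) [Fact p.Prime] (k : Type u) [Field k]
    [IsAlgClosed k] [CharP k p] (V : Type u) [AddCommGroup V] [Module k V] [FiniteDimensional k V]
    (F : V →+ V) (hF : ∀ (a : k) (v : V), F (a • v) = a ^ p • F v) :
    IsCompl (Submodule.span k {v : V | F v = v})
        (Submodule.span k {v : V | ∃ m : ℕ, (⇑F)^[m] v = 0}) ∧
      ∀ (s : Finset V), (∀ v ∈ s, F v = v) →
        (∀ c : s → ℤ, (∑ v : s, c v • (v : V)) = 0 → ∀ v : s, (p : ℤ) ∣ c v) →
          LinearIndependent k (fun v : s => (v : V)) := by
  classical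
  obtain ⟨-, d, b, N, -, hli, hb, hN⟩ := Groth.Agent.FrobFix.main p F hF
  have hFm : ∀ (m : ℕ) (c : Fin d → k), (⇑F)^[m] (∑ i, c i • b i) = ∑ i, c i ^ p ^ m • b i := by
    intro m
    induction m with
    | zero => intro c; simp
    | succ m ih =>
      intro c
      rw [Function.iterate_succ_apply', ih, map_sum]
      refine Finset.sum_congr rfl fun i _ => ?_
      rw [hF, hb, ← pow_mul, ← pow_succ]
  have hp0 : ∀ m, p ^ m ≠ 0 := fun m => pow_ne_zero m (Fact.out : p.Prime).ne_zero
  have hsub : ∀ (m : ℕ) (x y : V), (⇑F)^[m] (x - y) = (⇑F)^[m] x - (⇑F)^[m] y := fun m x y =>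
    iterate_map_sub F m x y
  constructor
  · have h1 : Submodule.span k {v : V | F v = v} = Submodule.span k (Set.range b) := by
      refine le_antisymm (Submodule.span_le.2 fun v hv => ?_)
        (Submodule.span_mono (by rintro _ ⟨i, rfl⟩; exact hb i))
      have := hN v
      rwa [Function.iterate_fixed hv N] at this
    let W : Submodule k V :=
      { carrier := {v : V | ∃ m : ℕ, (⇑F)^[m] v = 0}
        zero_mem' := ⟨0, rfl⟩
        add_mem' := by
          rintro x y ⟨m, hm⟩ ⟨n, hn⟩
          refine ⟨m + n, ?_⟩
          rw [iterate_map_add, add_comm m n, Function.iterate_add_apply, hm, iterate_map_zero, zero_add,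
            add_comm n m, Function.iterate_add_apply, hn, iterate_map_zero]
        smul_mem' := by
          rintro c x ⟨m, hm⟩
          refine ⟨m, ?_⟩
          have : ∀ (n : ℕ) (a : k) (y : V), (⇑F)^[n] (a • y) = a ^ p ^ n • (⇑F)^[n] y := by
            intro n
            induction n with
            | zero => simp
            | succ n ih =>
              intro a y
              rw [Function.iterate_succ_apply', ih, hF, Function.iterate_succ_apply', ← pow_mul, ← pow_succ]
          rw [this, hm, smul_zero] }
    have h2 : Submodule.span k {v : V | ∃ m : ℕ, (⇑F)^[m] v = 0} = W := Submodule.span_eq W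
    rw [h1, h2]
    constructor
    · rw [Submodule.disjoint_def]
      rintro x hx ⟨m, hm⟩
      obtain ⟨c, rfl⟩ := (Submodule.mem_span_range_iff_exists_fun k).1 hx
      rw [hFm] at hm
      have hc : ∀ i, c i = 0 := fun i =>
        (pow_eq_zero_iff (hp0 m)).1 (Fintype.linearIndependent_iff.1 hli _ hm i)
      simp [hc]
    · rw [codisjoint_iff, Submodule.eq_top_iff']
      intro v
      obtain ⟨a, ha⟩ := (Submodule.mem_span_range_iff_exists_fun k).1 (hN v)
      choose c hc using fun i => IsAlgClosed.exists_pow_nat_eq (a i) (Nat.pos_of_ne_zero (hp0 N))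
      refine Submodule.mem_sup.2 ⟨∑ i, c i • b i,
        (Submodule.mem_span_range_iff_exists_fun k).2 ⟨c, rfl⟩, v - ∑ i, c i • b i, ⟨N, ?_⟩,
        add_sub_cancel _ _⟩
      rw [hsub, hFm, ← ha, sub_eq_zero]
      exact Finset.sum_congr rfl fun i _ => by rw [hc i]
  · intro s
    induction s using Finset.induction_on with
    | empty => intro _ _; exact linearIndependent_empty_type
    | insert v t hvt ih =>
      intro hfix hind
      have hfix' : ∀ x ∈ t, F x = x := fun x hx => hfix x (Finset.mem_insert_of_mem hx)
      have hsum : ∀ (f : V → ℤ), (∑ x : (insert v t : Finset V), f x • (x : V)) = f v • v + ∑ x ∈ t, f x • x := by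
        intro f
        rw [Finset.sum_coe_sort (insert v t) fun x => f x • x, Finset.sum_insert hvt]
      have ht : LinearIndependent k (fun x : t => (x : V)) := by
        refine ih hfix' fun c hc x => ?_
        let f : V → ℤ := fun y => if hy : y ∈ t then c ⟨y, hy⟩ else 0
        have h0 := hind (fun y => f y) (by
          rw [hsum f, show f v = 0 from dif_neg hvt, zero_smul, zero_add, ← hc,
            ← Finset.sum_coe_sort t]
          exact Finset.sum_congr rfl fun y _ => by rw [show f y = c y from dif_pos y.2])
          ⟨x, Finset.mem_insert_of_mem x.2⟩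
        simpa [f, x.2] using h0
      change LinearIndepOn k id ((insert v t : Finset V) : Set V)
      rw [Finset.coe_insert]
      refine LinearIndepOn.insert ht ?_
      rw [Set.image_id]
      intro hv
      obtain ⟨a, -, ha⟩ := Submodule.mem_span_finset.1 hv
      replace ha : ∑ x ∈ t, a x • x = v := ha
      have h1 : ∑ x : t, (a x ^ p - a x) • (x : V) = 0 := by
        simp only [sub_smul, Finset.sum_sub_distrib, sub_eq_zero]
        rw [Finset.sum_coe_sort t fun x => a x ^ p • x, Finset.sum_coe_sort t fun x => a x • x, ha]
        calc ∑ x ∈ t, a x ^ p • x = F (∑ x ∈ t, a x • x) := by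
              rw [map_sum]; exact Finset.sum_congr rfl fun x hx => by rw [hF, hfix' x hx]
          _ = v := by rw [ha]; exact hfix v (Finset.mem_insert_self v t)
      have hn : ∀ x ∈ t, ∃ n : ℕ, a x = (n : k) := fun x hx => by
        obtain ⟨n, hn⟩ := Groth.Agent.FrobFix.eq_natCast p
          (sub_eq_zero.1 (Fintype.linearIndependent_iff.1 ht _ h1 ⟨x, hx⟩))
        exact ⟨n, hn⟩
      choose! n hn using hn
      let f : V → ℤ := fun y => if y = v then -1 else (n y : ℤ)
      have h0 := hind (fun y => f y) (by
        rw [hsum f, show f v = -1 from if_pos rfl]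
        have : ∑ x ∈ t, f x • x = v := by
          conv_rhs => rw [← ha]
          refine Finset.sum_congr rfl fun x hx => ?_
          rw [show f x = (n x : ℤ) from if_neg (ne_of_mem_of_not_mem hx hvt), hn x hx, natCast_zsmul,
            Nat.cast_smul_eq_nsmul]
        rw [this, neg_one_zsmul, neg_add_cancel]) ⟨v, Finset.mem_insert_self v t⟩
      simp only [f, if_pos] at h0
      rw [dvd_neg] at h0
      exact (Fact.out : p.Prime).ne_one (Nat.dvd_one.1 (by exact_mod_cast h0))

end Groth.Agent.S8604
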