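import Groth.Statements.S8605
import Groth.Agent.EtPBC.TopShriek

set_option autoImplicit false
universe u
open CategoryTheory CategoryTheory.Limits AlgebraicGeometry Opposite
open EtDl

namespace Groth.Agent.S8605

/-- Let f : X -> S be a morphism of quasi-compact quasi-separated schemes with a compactification c (f =
j followed by the proper fbar), all of whose fibres have dimension at most d. Then the functor
R^{2d} f_!, computed through c as F ↦ R^{2d} fbar_* (j_! F), is right exact on torsion abelian
sheaves; stated here as: for every epimorphism φ : F -> G of torsion abelian sheaves on X_et, the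
map R^{2d} fbar_*(j_! φ) is an epimorphism. (The published statement also asserts that R^i f_! F
vanishes for i > 2d.) -/
theorem result {X S : Scheme.{u}} [CompactSpace ↥X] [QuasiSeparatedSpace ↥X]
    [CompactSpace ↥S] [QuasiSeparatedSpace ↥S]
    {f : X ⟶ S} (c : DEt.Compactification f) (d : ℕ)
    (hdim : ∀ s : S, topologicalKrullDim ↥(f.fiber s) ≤ d)
    {F G : EtCoh.Ab X} (hF : EtCoh.IsTorsion F) (hG : EtCoh.IsTorsion G) (φ : F ⟶ G) [Epi φ] :
    Epi ((EtCoh.Rpush c.fbar (2 * d)).map ((EtShriek.extZero c.j).map φ)) := by
  exact Groth.Agent.EtPBC.epi_top c d hdim hF φ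

end Groth.Agent.S8605
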