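import Groth.Statements.S8618
import Mathlib
import Groth.Agent.S8604

set_option autoImplicit false
universe u
open SGA4h
set_option linter.style.haveILetI false
set_option maxHeartbeats 1000000

namespace Groth.Agent.S8618

lemma li_of_indep {p : ℕ} {K M R ι : Type*} [Field K] [AddCommGroup M] [Module K M] (P : M → Prop)
    (hindep : ∀ s : Finset M, (∀ v ∈ s, P v) →
      (∀ c : s → ℤ, (∑ v : s, c v • (v : M)) = 0 → ∀ v : s, (p : ℤ) ∣ c v) →
        LinearIndependent K (fun v : s => (v : M)))
    [Ring R] [Nontrivial R] [CharP R p] [Module R M] (W : Submodule R M) (hP : ∀ w : W, P w)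
    [Fintype ι] (g : ι → W) (hg : LinearIndependent R g) :
    LinearIndependent K (fun i => (g i : M)) := by
  classical
  have hg' : LinearIndependent R (fun i => (g i : M)) := hg.map' W.subtype W.ker_subtype
  let e : ι → (Finset.univ.image fun i => (g i : M) : Finset M) :=
    fun i => ⟨g i, Finset.mem_image_of_mem _ (Finset.mem_univ i)⟩
  have he : Function.Bijective e :=
    ⟨fun a b hab => hg'.injective (congrArg (fun x : {x // x ∈ (Finset.univ.image fun i => (g i : M))} => (x : M)) hab), fun v => by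
      obtain ⟨i, -, hi⟩ := Finset.mem_image.1 v.2
      exact ⟨i, Subtype.ext hi⟩⟩
  refine (hindep (Finset.univ.image fun i => (g i : M)) ?_ ?_).comp e he.1
  · intro v hv
    obtain ⟨i, -, rfl⟩ := Finset.mem_image.1 hv
    exact hP _
  · intro c hc v
    obtain ⟨i, rfl⟩ := he.2 v
    rw [← CharP.intCast_eq_zero_iff R p]
    refine Fintype.linearIndependent_iff.1 hg' (fun j => (c (e j) : R)) ?_ i
    rw [← he.sum_comp (fun v => c v • (v : M))] at hc
    simpa only [Int.cast_smul_eq_zsmul] using hc

open TensorProduct in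
/-- Let k be a finite field with q = p^f elements, F₀ ⊂ k its prime field, K an algebraically closed
extension of k, V a finite-dimensional k-vector space and φ a p-linear endomorphism of V (φ(λx) =
λ^p φ(x)); let F = φ^f, a k-linear endomorphism, F_K its K-linear extension to K ⊗_k V and φ_K the
p-linear extension of φ (φ_K(μ ⊗ v) = μ^p ⊗ φ(v)). Then F_K preserves the F₀-subspace W = Ker(φ_K -
1) of K ⊗_k V, W is finite-dimensional over F₀, and the trace of F_K on W (an element of F₀) equals
the trace of F on V. -/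
theorem result {p : ℕ} [Fact p.Prime] (k : Type u) [Field k] [Fintype k]
    [CharP k p] (f : ℕ) (hq : Fintype.card k = p ^ f) (K : Type u) [Field K] [Algebra k K] [IsAlgClosed K]
    (V : Type u) [AddCommGroup V] [Module k V] [FiniteDimensional k V]
    (φ : V →ₛₗ[frobenius k p] V) (F : V →ₗ[k] V) (hF : ∀ x, F x = (⇑φ)^[f] x)
    (φK : K ⊗[k] V →+ K ⊗[k] V) (hφK : ∀ (μ : K) (v : V), φK (μ ⊗ₜ[k] v) = (μ ^ p) ⊗ₜ[k] φ v)
    (W : Submodule (↥(⊥ : Subfield k)) (K ⊗[k] V)) (hW : ∀ y, y ∈ W ↔ φK y = y) :
    (∀ y, φK y = y → φK (F.baseChange K y) = F.baseChange K y) ∧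
    Module.Finite (↥(⊥ : Subfield k)) ↥W ∧
    ∀ (G : ↥W →ₗ[↥(⊥ : Subfield k)] ↥W), (∀ y : ↥W, (↑(G y) : K ⊗[k] V) = F.baseChange K ↑y) →
      algebraMap k K (algebraMap (↥(⊥ : Subfield k)) k (LinearMap.trace (↥(⊥ : Subfield k)) ↥W G)) =
        algebraMap k K (LinearMap.trace k V F) := by
  classical
  have hp : p.Prime := Fact.out
  haveI : CharP K p := charP_of_injective_algebraMap (algebraMap k K).injective p
  have hφKs : ∀ (a : K) (y : K ⊗[k] V), φK (a • y) = a ^ p • φK y := by
    intro a y
    induction y using TensorProduct.induction_on with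
    | zero => simp
    | tmul μ v => rw [TensorProduct.smul_tmul', hφK, hφK, smul_eq_mul, mul_pow, TensorProduct.smul_tmul', smul_eq_mul]
    | add x y hx hy => rw [smul_add, map_add, map_add, hx, hy, smul_add]
  set FK := F.baseChange K with hFK
  have hcommφ : ∀ v, φ (F v) = F (φ v) := fun v => by
    rw [hF, hF, ← Function.iterate_succ_apply' (⇑φ), Function.iterate_succ_apply]
  have hcomm : ∀ y, φK (FK y) = FK (φK y) := by
    intro y
    induction y using TensorProduct.induction_on with
    | zero => simp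
    | tmul μ v => rw [hFK, LinearMap.baseChange_tmul, hφK, hφK, LinearMap.baseChange_tmul, hcommφ]
    | add x y hx hy => simp only [map_add, hx, hy]
  -- nilpotence of `FK` on vectors killed by an iterate of `φK`
  have hkill : ∀ (y : K ⊗[k] V) (m : ℕ), (⇑φK)^[m] y = 0 → (FK ^ m) y = 0 := by
    intro y m hy
    have hfpos : 1 ≤ f := by
      by_contra h
      rw [Nat.lt_one_iff.1 (not_le.1 h), pow_zero] at hq
      exact absurd hq (Fintype.one_lt_card (α := k)).ne'
    have hy' : (⇑φK)^[f * m] y = 0 := by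
      rw [show f * m = (f * m - m) + m by have := Nat.le_mul_of_pos_left m hfpos; omega,
        Function.iterate_add_apply, hy, iterate_map_zero]
    let Φ : K →ₐ[k] K :=
      { iterateFrobenius K p (f * m) with
        commutes' := fun c => by
          show (algebraMap k K c) ^ p ^ (f * m) = algebraMap k K c
          rw [← map_pow, pow_mul, ← hq, FiniteField.pow_card_pow] }
    have hΦinj : Function.Injective (LinearMap.rTensor V Φ.toLinearMap) :=
      Module.Flat.rTensor_preserves_injective_linearMap _ Φ.toRingHom.injective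
    have hit : ∀ (j : ℕ) (μ : K) (v : V), (⇑φK)^[j] (μ ⊗ₜ[k] v) = (μ ^ p ^ j) ⊗ₜ[k] ((⇑φ)^[j] v) := by
      intro j
      induction j with
      | zero => simp
      | succ j ih =>
        intro μ v
        rw [Function.iterate_succ_apply', ih, hφK, ← pow_mul, ← pow_succ, Function.iterate_succ_apply']
    have hFit : ∀ (v : V), (⇑φ)^[f * m] v = (⇑F)^[m] v := by
      intro v
      rw [Function.iterate_mul, show ((⇑φ)^[f]) = ⇑F from funext fun x => (hF x).symm]
    have hFKit : ∀ (μ : K) (v : V), (FK ^ m) (μ ⊗ₜ[k] v) = μ ⊗ₜ[k] ((⇑F)^[m] v) := by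
      intro μ v
      rw [Module.End.pow_apply]
      clear hy hy' hFit hit
      clear! Φ
      induction m generalizing v with
      | zero => simp
      | succ j ih =>
        rw [Function.iterate_succ_apply, Function.iterate_succ_apply, hFK, LinearMap.baseChange_tmul, ← hFK, ih]
    have key : ∀ z, (⇑φK)^[f * m] z = LinearMap.rTensor V Φ.toLinearMap ((FK ^ m) z) := by
      intro z
      induction z using TensorProduct.induction_on with
      | zero => simp [iterate_map_zero]
      | tmul μ v => rw [hit, hFKit, LinearMap.rTensor_tmul, hFit]; rfl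
      | add x y hx hy => rw [iterate_map_add, hx, hy, map_add, map_add]
    apply hΦinj
    rw [map_zero, ← key, hy']
  obtain ⟨hcompl, hindep⟩ := Groth.Agent.S8604.result p K (K ⊗[k] V) φK hφKs
  set V0 : Submodule K (K ⊗[k] V) := Submodule.span K {v | φK v = v} with hV0
  set Vn : Submodule K (K ⊗[k] V) := Submodule.span K {v | ∃ m : ℕ, (⇑φK)^[m] v = 0} with hVn
  have hfix : ∀ y, φK y = y → φK (FK y) = FK y := fun y hy => by rw [hcomm, hy]
  have hst0 : ∀ y ∈ V0, FK y ∈ V0 := by
    intro y hy
    have : V0 ≤ V0.comap FK := Submodule.span_le.2 fun z hz => Submodule.subset_span (hfix z hz)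
    exact this hy
  have hstn : ∀ y ∈ Vn, FK y ∈ Vn := by
    intro y hy
    have : Vn ≤ Vn.comap FK := by
      refine Submodule.span_le.2 fun z hz => Submodule.subset_span ?_
      obtain ⟨m, hm⟩ := hz
      refine ⟨m, ?_⟩
      have hc : Function.Commute (⇑φK) (⇑FK) := fun x => hcomm x
      rw [(hc.iterate_left m).eq z, hm, map_zero]
    exact this hy
  have hnil : IsNilpotent (FK.restrict hstn) := by
    refine ⟨Module.finrank K (K ⊗[k] V), LinearMap.ext fun y => Subtype.ext ?_⟩
    have hle : Vn ≤ LinearMap.ker (FK ^ Module.finrank K (K ⊗[k] V)) := by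
      refine Submodule.span_le.2 fun z hz => ?_
      obtain ⟨m, hm⟩ := hz
      exact Module.End.ker_pow_le_ker_pow_finrank FK m (hkill z m hm)
    rw [Module.End.pow_restrict _ hstn]
    exact hle y.2
  -- linear independence over `K` of `F₀`-independent fixed vectors
  haveI : CharP (↥(⊥ : Subfield k)) p :=
    RingHom.charP (Subfield.subtype (⊥ : Subfield k)) Subtype.val_injective p
  have hLI : ∀ {ι : Type u} [Fintype ι] (g : ι → ↥W), LinearIndependent (↥(⊥ : Subfield k)) g →
      LinearIndependent K (fun i => (g i : K ⊗[k] V)) :=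
    fun g hg => li_of_indep (fun v => φK v = v) hindep W (fun w => (hW _).1 w.2) g hg
  haveI hfree : Module.Free (↥(⊥ : Subfield k)) ↥W := @Module.Free.of_divisionRing (↥(⊥ : Subfield k)) ↥W _ _ _
  have hfin : Module.Finite (↥(⊥ : Subfield k)) ↥W := by
    refine Module.rank_lt_aleph0_iff.1 (lt_of_le_of_lt
      (rank_le (n := Module.finrank K (K ⊗[k] V)) fun s hs => ?_) (Cardinal.natCast_lt_aleph0))
    exact (Fintype.card_coe s).symm.trans_le (hLI (fun i : s => (i : ↥W)) hs).fintype_card_le_finrank
  refine ⟨hfix, hfin, fun G hG => ?_⟩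
  let b := Module.finBasis (↥(⊥ : Subfield k)) ↥W
  set r := Module.finrank (↥(⊥ : Subfield k)) ↥W
  have hbK : LinearIndependent K (fun i => ((b i : ↥W) : K ⊗[k] V)) :=
    li_of_indep (fun v => φK v = v) hindep W (fun w => (hW _).1 w.2) b b.linearIndependent
  have hsm : ∀ (a : ↥(⊥ : Subfield k)) (z : K ⊗[k] V),
      a • z = algebraMap k K (algebraMap (↥(⊥ : Subfield k)) k a) • z := fun a z => by
    rw [algebraMap_smul]; rfl
  have hspan : Submodule.span K (Set.range fun i => ((b i : ↥W) : K ⊗[k] V)) = V0 := by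
    refine le_antisymm (Submodule.span_mono ?_) (Submodule.span_le.2 fun z hz => ?_)
    · rintro _ ⟨i, rfl⟩; exact (hW _).1 (b i).2
    · have hz' : z ∈ W := (hW z).2 hz
      have := congrArg Subtype.val (b.sum_repr ⟨z, hz'⟩)
      rw [Submodule.coe_sum] at this
      rw [SetLike.mem_coe, ← show _ = z from this]
      refine Submodule.sum_mem _ fun i _ => ?_
      rw [Submodule.coe_smul, hsm]
      exact Submodule.smul_mem _ _ (Submodule.subset_span ⟨i, rfl⟩)
  let b0 : Module.Basis (Fin r) K ↥V0 := (Module.Basis.span hbK).map (LinearEquiv.ofEq _ _ hspan)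
  have hb0 : ∀ i, ((b0 i : ↥V0) : K ⊗[k] V) = ((b i : ↥W) : K ⊗[k] V) := fun i => by
    simp [b0, Module.Basis.span_apply]
  set ι := (algebraMap k K).comp (algebraMap (↥(⊥ : Subfield k)) k) with hι
  have hmat : LinearMap.toMatrix b0 b0 (FK.restrict hst0) = (LinearMap.toMatrix b b G).map ι := by
    ext i j
    rw [Matrix.map_apply, LinearMap.toMatrix_apply, LinearMap.toMatrix_apply]
    have hj : FK.restrict hst0 (b0 j) = ∑ l, ι (b.repr (G (b j)) l) • b0 l := by
      apply Subtype.ext
      rw [LinearMap.restrict_coe_apply, hb0, ← hG, Submodule.coe_sum]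
      conv_lhs => rw [← b.sum_repr (G (b j)), Submodule.coe_sum]
      refine Finset.sum_congr rfl fun l _ => ?_
      rw [Submodule.coe_smul, Submodule.coe_smul, hb0, hsm]; rfl
    rw [hj, Module.Basis.repr_sum_self]
  haveI : Module.Free K ↥V0 := Module.Free.of_basis b0
  haveI : Module.Free K ↥Vn := @Module.Free.of_divisionRing K ↥Vn _ _ _
  haveI : Module.Finite K ↥V0 := Module.Finite.of_basis b0
  have htr : LinearMap.trace K (K ⊗[k] V) FK =
      LinearMap.trace K ↥V0 (FK.restrict hst0) + LinearMap.trace K ↥Vn (FK.restrict hstn) := by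
    refine Eq.trans ?_ (LinearMap.trace_prodMap' (R := K) (M := ↥V0) (N := ↥Vn) (FK.restrict hst0) (FK.restrict hstn))
    refine Eq.trans ?_ (LinearMap.trace_conj' (R := K) (M := ↥V0 × ↥Vn) (N := K ⊗[k] V) _ (Submodule.prodEquivOfIsCompl V0 Vn hcompl))
    congr 1
    refine LinearMap.ext fun z => ?_
    obtain ⟨⟨a, c⟩, rfl⟩ := (Submodule.prodEquivOfIsCompl V0 Vn hcompl).surjective z
    rw [LinearEquiv.conj_apply, LinearMap.comp_apply, LinearMap.comp_apply,
      LinearEquiv.coe_coe, LinearEquiv.coe_coe, LinearEquiv.symm_apply_apply]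
    simp [LinearMap.restrict_coe_apply, map_add]
  rw [← LinearMap.trace_baseChange, ← hFK, htr,
    (LinearMap.isNilpotent_trace_of_isNilpotent (R := K) (M := ↥Vn) hnil).eq_zero, add_zero]
  refine Eq.trans ?_ (LinearMap.trace_eq_matrix_trace K b0 (FK.restrict hst0)).symm
  rw [hmat]
  refine Eq.trans (congrArg ι (LinearMap.trace_eq_matrix_trace _ b G)) ?_
  exact AddMonoidHom.map_trace ι.toAddMonoidHom _

end Groth.Agent.S8618
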