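import Groth.Statements.S8620
import Groth.Agent.HensLine.GeomMain

set_option autoImplicit false
universe u
open CategoryTheory CategoryTheory.Limits AlgebraicGeometry
open SGA4h

namespace Groth.Agent.S8620

open Polynomial in
/-- Let A be a strictly henselian local ring with maximal ideal m, P = (m, T) ⊂ A[T], R a henselization
of A[T]_P (so Spec R → Spec A is the strict localization of the affine line at the origin of the
closed fibre), t a point of Spec A (a prime ideal 𝔭) and Ω an algebraic closure of its residue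
field, X_t̄ = Spec R ×_{Spec A} Spec Ω the geometric fibre. Then every connected finite etale cover
Y → X_t̄ that is Galois (its automorphism group acts transitively on every geometric fibre) with
automorphism group of order prime to the residue characteristic of A is trivial: Y → X_t̄ is an
isomorphism. -/
theorem result
    (A : Type u) [CommRing A] [IsLocalRing A] (hA : EtCoh.IsStrictlyHenselianLocalRing A)
    (P : Ideal A[X]) [P.IsMaximal]
    (hP : P = (IsLocalRing.maximalIdeal A).map (Polynomial.C : A →+* A[X]) ⊔ Ideal.span {Polynomial.X})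
    (R : Type u) [CommRing R] [IsLocalRing R] [Algebra (Localization.AtPrime P) R]
    [IsLocalHom (algebraMap (Localization.AtPrime P) R)] [Hensel.IsHenselization (Localization.AtPrime P) R]
    (𝔭 : Ideal A) [𝔭.IsPrime] (Ω : Type u) [Field Ω] [Algebra 𝔭.ResidueField Ω]
    [IsAlgClosure 𝔭.ResidueField Ω]
    (Y : FEt.Cat (pullback
      (Spec.map (CommRingCat.ofHom ((algebraMap (Localization.AtPrime P) R).comp
        ((algebraMap A[X] (Localization.AtPrime P)).comp Polynomial.C))))
      (Spec.map (CommRingCat.ofHom ((algebraMap 𝔭.ResidueField Ω).comp (algebraMap A 𝔭.ResidueField))))))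
    [ConnectedSpace ↥Y.left]
    (hgal : ∀ (Ω' : Type u) [Field Ω'] [IsAlgClosed Ω'] (ξ : Spec (CommRingCat.of Ω') ⟶ pullback
      (Spec.map (CommRingCat.ofHom ((algebraMap (Localization.AtPrime P) R).comp
        ((algebraMap A[X] (Localization.AtPrime P)).comp Polynomial.C))))
      (Spec.map (CommRingCat.ofHom ((algebraMap 𝔭.ResidueField Ω).comp (algebraMap A 𝔭.ResidueField)))))
      (s s' : FEt.fiberObj ξ Y), ∃ σ : Aut Y, (FEt.fiber ξ).map σ.hom s = s')
    (hord : ∀ q : ℕ, q.Prime → q ∣ Nat.card (Aut Y) → (q : IsLocalRing.ResidueField A) ≠ 0) :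
    IsIso Y.hom := by
  obtain rfl : P = HensLine.origin A := hP
  haveI : HenselianLocalRing A := hA.1
  letI : Algebra A R := ((algebraMap (Localization.AtPrime (HensLine.origin A)) R).comp
    ((algebraMap A[X] (Localization.AtPrime (HensLine.origin A))).comp Polynomial.C)).toAlgebra
  letI : Algebra A Ω := ((algebraMap 𝔭.ResidueField Ω).comp (algebraMap A 𝔭.ResidueField)).toAlgebra
  haveI : IsScalarTower A 𝔭.ResidueField Ω := IsScalarTower.of_algebraMap_eq fun _ => rfl
  haveI : IsAlgClosed Ω := IsAlgClosure.isAlgClosed 𝔭.ResidueField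
  haveI : Algebra.IsAlgebraic 𝔭.ResidueField Ω := IsAlgClosure.isAlgebraic
  letI : Algebra (A ⧸ 𝔭) Ω :=
    ((algebraMap 𝔭.ResidueField Ω).comp (algebraMap (A ⧸ 𝔭) 𝔭.ResidueField)).toAlgebra
  haveI : IsScalarTower (A ⧸ 𝔭) 𝔭.ResidueField Ω := IsScalarTower.of_algebraMap_eq fun _ => rfl
  haveI : IsScalarTower A (A ⧸ 𝔭) Ω := IsScalarTower.of_algebraMap_eq fun a => by
    show _ = algebraMap 𝔭.ResidueField Ω (algebraMap (A ⧸ 𝔭) 𝔭.ResidueField (algebraMap A (A ⧸ 𝔭) a))
    rw [← IsScalarTower.algebraMap_apply A (A ⧸ 𝔭) 𝔭.ResidueField, ← IsScalarTower.algebraMap_apply A 𝔭.ResidueField Ω]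
  have halg : ∀ w : Ω, ∃ m : A, algebraMap A Ω m ≠ 0 ∧ IsIntegral A (m • w) := fun w => by
    obtain ⟨⟨q, hq⟩, hint⟩ := IsIntegral.exists_multiple_integral_of_isLocalization (nonZeroDivisors (A ⧸ 𝔭))
      w ((Algebra.IsAlgebraic.isAlgebraic (R := 𝔭.ResidueField) w).isIntegral)
    obtain ⟨m, rfl⟩ := Ideal.Quotient.mk_surjective q
    refine ⟨m, ?_, ?_⟩
    · rw [IsScalarTower.algebraMap_apply A (A ⧸ 𝔭) Ω, RingHom.algebraMap_toAlgebra, RingHom.comp_apply]
      exact (map_ne_zero_iff _ (algebraMap 𝔭.ResidueField Ω).injective).2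
        ((map_ne_zero_iff _ (IsFractionRing.injective (A ⧸ 𝔭) 𝔭.ResidueField)).2 (nonZeroDivisors.ne_zero hq))
    · have h2 : IsIntegral A ((Ideal.Quotient.mk 𝔭 m) • w) := isIntegral_trans (R := A) _ hint
      rw [Algebra.smul_def] at h2 ⊢
      rw [IsScalarTower.algebraMap_apply A (A ⧸ 𝔭) Ω]
      exact h2
  exact HensLine.isIso_of_galois_geomFibre A R (fun _ => rfl) Ω halg (pullbackSpecIso A R Ω).inv Y hgal hord

end Groth.Agent.S8620
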