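import Groth.Statements.S8621
import Groth.Agent.TauTriv.Scheme

set_option autoImplicit false
universe u
open CategoryTheory CategoryTheory.Limits AlgebraicGeometry
open SGA4h

namespace Groth.Agent.S8621

open Polynomial in
/-- Let A be a strictly henselian, normal, Noetherian local ring with maximal ideal m, P = (m, T) ⊂
A[T], R a henselization of A[T]_P, π : X = Spec R → Spec A the structure morphism and τ ∈ R the
image of T. Let U be an open subset of Spec A whose complement has codimension ≥ 2 (every prime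
outside U has height ≥ 2), V = π⁻¹(U), ι : Z = Spec R/(τ) → X the closed subscheme τ = 0 and V₀ =
ι⁻¹(V). If a finite etale cover W → V becomes trivial after restriction to V₀ (isomorphic over V₀ to
a finite disjoint union of copies of V₀), then W is trivial (isomorphic over V to a finite disjoint
union of copies of V). -/
theorem result
    (A : Type u) [CommRing A] [IsDomain A] [IsIntegrallyClosed A] [IsNoetherianRing A] [IsLocalRing A]
    (hA : EtCoh.IsStrictlyHenselianLocalRing A) (P : Ideal A[X]) [P.IsMaximal]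
    (hP : P = (IsLocalRing.maximalIdeal A).map (Polynomial.C : A →+* A[X]) ⊔ Ideal.span {Polynomial.X})
    (R : Type u) [CommRing R] [IsLocalRing R] [Algebra (Localization.AtPrime P) R]
    [IsLocalHom (algebraMap (Localization.AtPrime P) R)] [Hensel.IsHenselization (Localization.AtPrime P) R]
    (π : Spec (CommRingCat.of R) ⟶ Spec (CommRingCat.of A))
    (hπ : π = Spec.map (CommRingCat.ofHom ((algebraMap (Localization.AtPrime P) R).comp
        ((algebraMap A[X] (Localization.AtPrime P)).comp Polynomial.C))))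
    (τ : R) (hτ : τ = algebraMap (Localization.AtPrime P) R (algebraMap A[X] (Localization.AtPrime P) Polynomial.X))
    (U : (Spec (CommRingCat.of A)).Opens)
    (hU : ∀ p : PrimeSpectrum A, p ∉ U → (2 : WithBot ℕ∞) ≤ ringKrullDim (Localization.AtPrime p.asIdeal))
    (W : FEt.Cat (↑(π ⁻¹ᵁ U) : Scheme.{u}))
    (hW : ∃ (n : ℕ) (e : ((FEt.restrict ((Spec.map (CommRingCat.ofHom (Ideal.Quotient.mk (Ideal.span {τ})))).resLE
          (π ⁻¹ᵁ U) ((Spec.map (CommRingCat.ofHom (Ideal.Quotient.mk (Ideal.span {τ})))) ⁻¹ᵁ (π ⁻¹ᵁ U))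
          le_rfl)).obj W).left ≅
        ∐ fun _ : Fin n =>
          (↑((Spec.map (CommRingCat.ofHom (Ideal.Quotient.mk (Ideal.span {τ})))) ⁻¹ᵁ (π ⁻¹ᵁ U)) : Scheme.{u})),
        e.hom ≫ Sigma.desc (fun _ => 𝟙 _) =
          ((FEt.restrict ((Spec.map (CommRingCat.ofHom (Ideal.Quotient.mk (Ideal.span {τ})))).resLE
            (π ⁻¹ᵁ U) ((Spec.map (CommRingCat.ofHom (Ideal.Quotient.mk (Ideal.span {τ})))) ⁻¹ᵁ (π ⁻¹ᵁ U))
            le_rfl)).obj W).hom) :
    ∃ (n : ℕ) (e : W.left ≅ ∐ fun _ : Fin n => (↑(π ⁻¹ᵁ U) : Scheme.{u})),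
      e.hom ≫ Sigma.desc (fun _ => 𝟙 _) = W.hom := by
  exact Groth.Agent.TauTriv.exists_iso A hA P hP R π hπ τ hτ U hU W hW

end Groth.Agent.S8621
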