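import Groth.Statements.S8625
import Mathlib

set_option linter.style.haveILetI false

set_option autoImplicit false
universe u
open SGA4h

namespace Groth.Agent.S8625

/-- Let G be a group with an endomorphism F, and assume the Lang map g ↦ F(g)g⁻¹ is surjective (for
instance the geometric points of a connected algebraic group over F_q with its Frobenius, where the
surjectivity is the classical result of Lang; the other Lang map g ↦ g⁻¹F(g) is then surjective too,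
by g ↦ g⁻¹). Let G^F be the subgroup of fixed points of F. (i) If F(g)g⁻¹ is fixed by F then so is
g⁻¹F(g). (ii), (iii) There is a bijection of the set of conjugacy classes of G^F with itself
sending, for every g with F(g)g⁻¹ ∈ G^F, the class of F(g)g⁻¹ to the class of g⁻¹F(g) (in particular
the latter class depends only on the former). -/
theorem result {G : Type u} [Group G] (F : G →* G)
    (hL : Function.Surjective fun g : G => F g * g⁻¹) :
    (∀ g : G, F (F g * g⁻¹) = F g * g⁻¹ → F (g⁻¹ * F g) = g⁻¹ * F g) ∧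
    ∃ φ : ConjClasses ↥(F.eqLocus (MonoidHom.id G)) → ConjClasses ↥(F.eqLocus (MonoidHom.id G)),
      Function.Bijective φ ∧
      ∀ (g : G) (h : F (F g * g⁻¹) = F g * g⁻¹) (h' : F (g⁻¹ * F g) = g⁻¹ * F g),
        φ (ConjClasses.mk (⟨F g * g⁻¹, h⟩ : ↥(F.eqLocus (MonoidHom.id G)))) =
          ConjClasses.mk (⟨g⁻¹ * F g, h'⟩ : ↥(F.eqLocus (MonoidHom.id G))) := by
  set H := F.eqLocus (MonoidHom.id G)
  have h1 : ∀ g : G, F (F g * g⁻¹) = F g * g⁻¹ → F (g⁻¹ * F g) = g⁻¹ * F g := by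
    intro g h
    rw [map_mul, map_inv] at h
    rw [map_mul, map_inv, eq_mul_of_mul_inv_eq h]
    group
  have h1' : ∀ g : G, F (g⁻¹ * F g) = g⁻¹ * F g → F (F g * g⁻¹) = F g * g⁻¹ := by
    intro g h
    rw [map_mul, map_inv, inv_mul_eq_iff_eq_mul] at h
    rw [map_mul, map_inv, h]
    group
  refine ⟨h1, ?_⟩
  have hex : ∀ a : H, ∃ g : G, F g * g⁻¹ = a := fun a => hL a
  choose s hs using hex
  have hsf : ∀ a : H, F (F (s a) * (s a)⁻¹) = F (s a) * (s a)⁻¹ := fun a => by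
    rw [hs]; exact a.2
  let b : H → ConjClasses H := fun a => ConjClasses.mk ⟨(s a)⁻¹ * F (s a), h1 _ (hsf a)⟩
  have same : ∀ (g h : G) (hg : F (g⁻¹ * F g) = g⁻¹ * F g) (hh : F (h⁻¹ * F h) = h⁻¹ * F h),
      F g * g⁻¹ = F h * h⁻¹ →
      IsConj (⟨g⁻¹ * F g, hg⟩ : H) (⟨h⁻¹ * F h, hh⟩ : H) := by
    intro g h hg hh e
    have hF : F h = F g * g⁻¹ * h := by rw [e]; group
    have hz : F (h⁻¹ * g) = h⁻¹ * g := by rw [map_mul, map_inv, hF]; group
    refine isConj_iff.mpr ⟨⟨h⁻¹ * g, hz⟩, Subtype.ext ?_⟩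
    change h⁻¹ * g * (g⁻¹ * F g) * (h⁻¹ * g)⁻¹ = h⁻¹ * F h
    rw [hF]
    group
  have hb : ∀ a a' : H, IsConj a a' → b a = b a' := by
    intro a a' h
    obtain ⟨c, rfl⟩ := isConj_iff.mp h
    have hc : F (c : G) = c := c.2
    have hinv : ((c : G) * s a)⁻¹ * F ((c : G) * s a) = (s a)⁻¹ * F (s a) := by
      rw [map_mul, hc]; group
    have := same ((c : G) * s a) (s (c * a * c⁻¹)) (by rw [hinv]; exact h1 _ (hsf a))
      (h1 _ (hsf _)) (by
        rw [hs, map_mul, hc]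
        simp only [Subgroup.coe_mul, Subgroup.coe_inv, ← hs a]
        group)
    rw [ConjClasses.mk_eq_mk_iff_isConj]
    simpa only [hinv] using this
  let φ : ConjClasses H → ConjClasses H := Quotient.lift b hb
  have hφ : ∀ (g : G) (h : F (F g * g⁻¹) = F g * g⁻¹) (h' : F (g⁻¹ * F g) = g⁻¹ * F g),
      φ (ConjClasses.mk (⟨F g * g⁻¹, h⟩ : H)) = ConjClasses.mk (⟨g⁻¹ * F g, h'⟩ : H) :=
    fun g h h' => ConjClasses.mk_eq_mk_iff_isConj.mpr (same _ g (h1 _ (hsf _)) h' (hs ⟨_, h⟩))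
  refine ⟨φ, ⟨?_, ?_⟩, hφ⟩
  · intro A A'
    obtain ⟨a, rfl⟩ := ConjClasses.mk_surjective A
    obtain ⟨a', rfl⟩ := ConjClasses.mk_surjective A'
    intro e
    obtain ⟨c, hc⟩ := isConj_iff.mp (ConjClasses.mk_eq_mk_iff_isConj.mp (e : b a = b a'))
    have hc' : (c : G) * ((s a)⁻¹ * F (s a)) * (c : G)⁻¹ = (s a')⁻¹ * F (s a') :=
      congrArg Subtype.val hc
    have hF : F (s a') = s a' * ((c : G) * ((s a)⁻¹ * F (s a)) * (c : G)⁻¹) := by rw [hc']; group
    have hcF : F (c : G) = c := c.2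
    have hz : F (s a' * c * (s a)⁻¹) = s a' * c * (s a)⁻¹ := by
      rw [map_mul, map_mul, map_inv, hcF, hF]; group
    refine ConjClasses.mk_eq_mk_iff_isConj.mpr (isConj_iff.mpr ⟨⟨_, hz⟩, Subtype.ext ?_⟩)
    simp only [Subgroup.coe_mul, Subgroup.coe_inv, ← hs a, ← hs a', hF]
    group
  · intro B
    obtain ⟨c, rfl⟩ := ConjClasses.mk_surjective B
    obtain ⟨g, hg⟩ := hL (c⁻¹ : H)
    have h' : F ((g⁻¹)⁻¹ * F g⁻¹) = (g⁻¹)⁻¹ * F g⁻¹ := by
      have : (g⁻¹)⁻¹ * F g⁻¹ = (c : G) := by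
        rw [inv_inv, map_inv]
        simpa using congrArg (·⁻¹) hg
      rw [this]; exact c.2
    refine ⟨ConjClasses.mk ⟨_, h1' _ h'⟩, (hφ _ (h1' _ h') h').trans (congrArg _ (Subtype.ext ?_))⟩
    change (g⁻¹)⁻¹ * F g⁻¹ = (c : G)
    rw [inv_inv, map_inv]
    simpa using congrArg (·⁻¹) hg

end Groth.Agent.S8625
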