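import Groth.Agent.EtAcycX.PointPush
import Groth.Prelude.Def_SGA4h
import Groth.Prelude.Def_EtRestW
import Mathlib.AlgebraicGeometry.Morphisms.QuasiSeparated
import Mathlib.Data.ZMod.Basic

set_option backward.isDefEq.respectTransparency false

set_option autoImplicit false
universe u
open CategoryTheory CategoryTheory.Limits AlgebraicGeometry
open SGA4h

namespace Groth.Agent.S8627

/-- Let f : X → S be a locally acyclic morphism of quasi-compact quasi-separated schemes
(vanishing-cycle varieties have the ℤ/n-cohomology of a point for n prime to the residue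
characteristics), n a natural number invertible on S, and ε : t = Spec Ω → S a geometric point (Ω
separably closed), with cartesian square X_t = X ×_S t, ε' : X_t → X, f_t : X_t → t. Then the base
change map f⁻¹ ε_* (ℤ/n) → ε'_* f_t⁻¹(ℤ/n) (= ε'_* ℤ/n) is an isomorphism and R^q ε'_* (ℤ/n) = 0 for
every q > 0. (The published statement takes the geometric point t with an algebraically closed
field; this row allows any separably closed field Ω.) -/
theorem result {X S : Scheme.{u}}
    [CompactSpace ↥X] [QuasiSeparatedSpace ↥X] [CompactSpace ↥S] [QuasiSeparatedSpace ↥S]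
    (f : X ⟶ S) (hf : EtRest.IsLocallyAcyclic f) (n : ℕ) (hn : IsUnit (n : Γ(S, ⊤)))
    {Ω : Type u} [Field Ω] [IsSepClosed Ω] (t : Spec (CommRingCat.of Ω) ⟶ S) :
    IsIso (EtCoh.baseChange0 t f (pullback.fst f t) (pullback.snd f t) (pullback.condition).symm
      (EtCoh.const (Spec (CommRingCat.of Ω)) (ZMod n))) ∧
    ∀ q : ℕ, 0 < q →
      IsZero ((EtCoh.Rpush (pullback.fst f t) q).obj (EtCoh.const (pullback f t) (ZMod n))) := by
  haveI : QuasiSeparated t := QuasiSeparated.of_comp t (terminal.from S)
  haveI : QuasiCompact t := QuasiCompact.of_comp t (terminal.from S)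
  have hn0 : 0 < n := Nat.pos_of_ne_zero fun h0 => by
    subst h0
    have h2 := hn.map (t.appTop ≫ (Scheme.ΓSpecIso (CommRingCat.of Ω)).hom).hom
    rw [Nat.cast_zero, map_zero] at h2
    exact not_isUnit_zero h2
  have hnx : ∀ x : X, (n : X.residueField x) ≠ 0 := fun x h0 => by
    have h1 := hn.map (f.appTop ≫ X.presheaf.germ ⊤ x trivial ≫ X.residue x).hom
    rw [map_natCast] at h1
    exact h1.ne_zero h0
  haveI := EtCohDesc.pull_preservesFiniteLimits (pullback.snd f t)
  have H := Groth.Agent.EtAcycX.isIso_bcQ_geomPt f hf hn0 hnx t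
  refine ⟨?_, fun q hq => ?_⟩
  · haveI := H 0
    exact Groth.Agent.EtBCQ.isIso_baseChange0_of_bcQ t f (pullback.fst f t) (pullback.snd f t) pullback.condition.symm _
  · obtain ⟨q, rfl⟩ : ∃ k, q = k + 1 := ⟨q - 1, by omega⟩
    haveI := H (q + 1)
    exact (((EtCoh.pull f).map_isZero (Groth.Agent.EtAcycX.isZero_rpush_field Ω t _ q)).of_iso
      (asIso (EtBC.bcQ t f (pullback.fst f t) (pullback.snd f t) pullback.condition.symm (q + 1)
        (EtCoh.const (Spec (CommRingCat.of Ω)) (ZMod n)))).symm).of_iso
      ((EtCoh.Rpush (pullback.fst f t) (q + 1)).mapIso (Groth.Agent.EtCons.pullConstM (pullback.snd f t) (ZMod n)).symm)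

end Groth.Agent.S8627
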