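import Groth.Statements.S8629
import Groth.Agent.S3480
import Groth.Agent.EtAcycX.EtRestLA
import Groth.Agent.EtCons.ExtZeroConst
-- import your own Groth.Agent.* helpers here

set_option autoImplicit false
set_option backward.isDefEq.respectTransparency false
set_option backward.isDefEq.respectTransparency.types false
universe u
open CategoryTheory CategoryTheory.Limits AlgebraicGeometry
open SGA4h

namespace Groth.Agent.S8629

/-- Let S be a Noetherian scheme, f : X → S a proper and locally acyclic morphism (for instance proper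
and smooth) and n a natural number invertible on S. Then every higher direct image R^q f_* (ℤ/n) is
a finite locally constant (locally constant constructible) sheaf on S. (The published statement has
no Noetherian hypothesis on S; the cospecialisation assertion is not included.) -/
theorem result {X S : Scheme.{u}}
    [IsNoetherian S] (f : X ⟶ S) [IsProper f] (hf : EtRest.IsLocallyAcyclic f)
    (n : ℕ) (hn : IsUnit (n : Γ(S, ⊤))) (q : ℕ) :
    EtCoh.IsFiniteLocallyConstant ((EtCoh.Rpush f q).obj (EtCoh.const X (ZMod n))) := by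
  have hx : ∀ x : X, (n : X.residueField x) ≠ 0 := fun x h0 => by
    have h1 := hn.map (f.appTop ≫ X.presheaf.germ ⊤ x trivial ≫ X.residue x).hom
    rw [map_natCast] at h1
    exact h1.ne_zero h0
  rcases Nat.eq_zero_or_pos n with h0 | hn0
  · refine (Groth.Agent.EtFLC.isFLC_iff _).2 fun s => ?_
    subst h0
    have h1 := hn.map (S.presheaf.germ ⊤ s trivial ≫ S.residue s).hom
    rw [map_natCast, Nat.cast_zero] at h1
    exact absurd h1 not_isUnit_zero
  haveI : LocallyOfFinitePresentation f := Groth.Agent.InfLift.lfp_of_lft f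
  haveI : NeZero n := ⟨hn0.ne'⟩
  have hne : ∀ x : X, ∃ m : ℕ, 1 < m ∧ (m : X.residueField x) ≠ 0 := fun x => by
    by_cases h2 : ((2 : ℕ) : X.residueField x) = 0
    · refine ⟨3, by norm_num, fun h3 => ?_⟩
      push_cast at h2 h3
      exact one_ne_zero (show (1 : X.residueField x) = 0 by linear_combination h3 - h2)
    · exact ⟨2, by norm_num, h2⟩
  exact Groth.Agent.S3480.result f {ℓ | ℓ.Prime ∧ ℓ ∣ n} q
    (Groth.Agent.EtAcycX.isLocAcyclicN_of_fibres f (Groth.Agent.EtAcycX.onStrict_of_isLocallyAcyclic hf
      (fun ℓ hℓ hp x h => hx x (by obtain ⟨k, rfl⟩ := hℓ.2; rw [Nat.cast_mul, h, zero_mul])) hne q))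
    _ (Groth.Agent.EtAcycX.isLTorsion_const_zmod hn0) (Groth.Agent.EtCons.isFLC_const (ZMod n)) q le_rfl

end Groth.Agent.S8629

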