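import Groth.Statements.S8630
import Mathlib

set_option autoImplicit false
open Zeta

namespace Groth.Agent.S8630

/-- Fatou's lemma: let P, Q ∈ ℚ[T] be coprime with constant coefficient 1, and suppose the power series
P/Q has integer coefficients, i.e. P = Q·Z in ℚ⟦T⟧ for a power series Z with coefficients in ℤ. Then
P and Q have integer coefficients. -/
theorem result (P Q : Polynomial ℚ)
    (hPQ : IsCoprime P Q) (hP : P.coeff 0 = 1) (hQ : Q.coeff 0 = 1) (Z : PowerSeries ℤ)
    (hZ : (P : PowerSeries ℚ) = (Q : PowerSeries ℚ) * PowerSeries.map (Int.castRingHom ℚ) Z) :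
    (∃ P₀ : Polynomial ℤ, P₀.map (Int.castRingHom ℚ) = P) ∧
      ∃ Q₀ : Polynomial ℤ, Q₀.map (Int.castRingHom ℚ) = Q := by
  open Polynomial in
  classical
  let f := Int.castRingHom ℚ
  have hf : Function.Injective f := Int.cast_injective
  have scale : ∀ R : ℚ[X], ∃ (R₁ : ℤ[X]) (c : ℤ), c ≠ 0 ∧ R₁.map f = (c : ℚ[X]) * R := fun R => by
    obtain ⟨b, hb⟩ := IsLocalization.integerNormalization_map_to_map (nonZeroDivisors ℤ) R
    refine ⟨IsLocalization.integerNormalization (nonZeroDivisors ℤ) R, (b : ℤ), nonZeroDivisors.ne_zero b.2, ?_⟩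
    rw [show f = algebraMap ℤ ℚ from rfl, hb]
    simp [zsmul_eq_mul]
  obtain ⟨Q₂, c₂, hc₂, hQ₂⟩ := scale Q
  have hQ0 : Q ≠ 0 := fun h => by rw [h] at hQ; simp at hQ
  have hQ₂0 : Q₂ ≠ 0 := fun h => by
    rw [h, Polynomial.map_zero] at hQ₂
    exact mul_ne_zero (by exact_mod_cast hc₂) hQ0 hQ₂.symm
  set Q₁ := Q₂.primPart with hQ₁def
  have hprim : Q₁.IsPrimitive := Polynomial.isPrimitive_primPart Q₂
  set c : ℤ := Q₁.coeff 0
  have hQ₁ : Q₁.map f = (c : ℚ[X]) * Q := by
    have h1 : (Q₂.content : ℚ[X]) * Q₁.map f = (c₂ : ℚ[X]) * Q := by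
      rw [← hQ₂]
      conv_rhs => rw [Q₂.eq_C_content_mul_primPart, Polynomial.map_mul, Polynomial.map_C]
      simp [f, hQ₁def]
    have h2 : (Q₂.content : ℚ) * (c : ℚ) = (c₂ : ℚ) := by
      have := congrArg (fun R : ℚ[X] => R.coeff 0) h1
      simpa [Polynomial.coeff_intCast_mul, hQ, f, c] using this
    have h3 : (Q₂.content : ℚ[X]) ≠ 0 := by exact_mod_cast fun h => hQ₂0 (Polynomial.content_eq_zero_iff.1 h)
    refine mul_left_cancel₀ h3 ?_
    rw [h1, ← mul_assoc, show ((c₂ : ℤ) : ℚ[X]) = (Q₂.content : ℚ[X]) * (c : ℚ[X]) by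
      rw [← Int.cast_mul]; exact congrArg Int.cast (by exact_mod_cast h2.symm)]
  obtain ⟨a, b, hab⟩ := hPQ
  obtain ⟨a₁, ca, hca, ha⟩ := scale a
  obtain ⟨b₁, cb, hcb, hb⟩ := scale b
  let φ : PowerSeries ℤ →+* PowerSeries ℚ := PowerSeries.map f
  have hφ : Function.Injective φ := PowerSeries.map_injective _ hf
  have hφp : ∀ R : ℤ[X], φ (R : PowerSeries ℤ) = ((R.map f : ℚ[X]) : PowerSeries ℚ) := fun R =>
    (Polynomial.polynomial_map_coe).symm
  have hc : c ≠ 0 := fun h => by
    have := hQ₁; rw [h, Int.cast_zero, zero_mul, Polynomial.map_eq_zero_iff hf] at this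
    exact hprim.ne_zero this
  have hm : (Q₁ : PowerSeries ℤ) * ((cb : PowerSeries ℤ) * (a₁ : PowerSeries ℤ) * Z + (ca : PowerSeries ℤ) * (b₁ : PowerSeries ℤ)) = ((c * ca * cb : ℤ) : PowerSeries ℤ) := by
    apply hφ
    rw [map_mul, map_add, map_mul, map_mul, map_mul, map_intCast, map_intCast, map_intCast, hφp, hφp, hφp, hQ₁, ha, hb]
    have e := congrArg (fun R : ℚ[X] => (R : PowerSeries ℚ)) hab
    simp only [Polynomial.coe_add, Polynomial.coe_mul, Polynomial.coe_one, hZ] at e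
    have hcast : ∀ n : ℤ, (((n : ℚ[X])) : PowerSeries ℚ) = (n : PowerSeries ℚ) := fun n =>
      map_intCast (Polynomial.coeToPowerSeries.ringHom (R := ℚ)) n
    simp only [Polynomial.coe_mul, hcast, φ, f]
    push_cast
    linear_combination ((c : PowerSeries ℚ) * ca * cb) * e
  have hunit : ∀ (N : ℕ) (m : ℤ) (G : PowerSeries ℤ), m.natAbs = N → m ≠ 0 → (Q₁ : PowerSeries ℤ) * G = (m : PowerSeries ℤ) → IsUnit c := by
    intro N
    induction N using Nat.strong_induction_on with
    | _ N ih =>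
      intro m G hN hm0 hG
      by_cases hN1 : m.natAbs = 1
      · have h0 : c * PowerSeries.constantCoeff G = m := by
          simpa [c] using congrArg (PowerSeries.constantCoeff (R := ℤ)) hG
        exact isUnit_of_mul_isUnit_left (h0 ▸ Int.isUnit_iff_natAbs_eq.2 hN1)
      · obtain ⟨q, hq, hqm⟩ := Nat.exists_prime_and_dvd hN1
        haveI : Fact q.Prime := ⟨hq⟩
        have hqm' : (q : ℤ) ∣ m := Int.natCast_dvd.2 hqm
        obtain ⟨m', rfl⟩ := hqm'
        let ψ : PowerSeries ℤ →+* PowerSeries (ZMod q) := PowerSeries.map (Int.castRingHom (ZMod q))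
        have h0 : ψ (Q₁ : PowerSeries ℤ) * ψ G = 0 := by rw [← map_mul, hG, map_intCast, ← map_intCast (PowerSeries.C (R := ZMod q))]; simp
        have hQ1q : ψ (Q₁ : PowerSeries ℤ) ≠ 0 := fun h => by
          have hdvd : Polynomial.C (q : ℤ) ∣ Q₁ := Polynomial.C_dvd_iff_dvd_coeff _ _ |>.2 fun i => by
            have := congrArg (PowerSeries.coeff i) h
            simpa [ψ, ZMod.intCast_zmod_eq_zero_iff_dvd] using this
          exact (Nat.prime_iff_prime_int.1 hq).not_unit (hprim _ hdvd)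
        have hG0 := (mul_eq_zero.1 h0).resolve_left hQ1q
        have hdiv : ∀ i, (q : ℤ) ∣ PowerSeries.coeff i G := fun i => by
          have := congrArg (PowerSeries.coeff i) hG0
          simpa [ψ, ZMod.intCast_zmod_eq_zero_iff_dvd] using this
        choose g hg using hdiv
        have hG' : G = (q : PowerSeries ℤ) * PowerSeries.mk g := by
          ext i
          rw [← map_natCast (PowerSeries.C (R := ℤ)), PowerSeries.coeff_C_mul, PowerSeries.coeff_mk]
          exact hg i
        have hm' : m' ≠ 0 := fun h => hm0 (by rw [h, mul_zero])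
        refine ih m'.natAbs ?_ m' (PowerSeries.mk g) rfl hm' ?_
        · rw [← hN, Int.natAbs_mul, Int.natAbs_natCast]
          exact lt_mul_of_one_lt_left (Int.natAbs_pos.2 hm') hq.one_lt
        · refine mul_left_cancel₀ (show (q : PowerSeries ℤ) ≠ 0 by
            rw [← map_natCast (PowerSeries.C (R := ℤ))]
            exact fun h => hq.ne_zero (by exact_mod_cast (PowerSeries.C_injective (h.trans (map_zero _).symm)))) ?_
          rw [hG'] at hG
          push_cast at hG
          linear_combination hG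
  have hcu := hunit _ _ _ rfl (mul_ne_zero (mul_ne_zero hc hca) hcb) hm
  have hQint : ∃ Q₀ : ℤ[X], Q₀.map f = Q := by
    refine ⟨Polynomial.C c * Q₁, ?_⟩
    rw [Polynomial.map_mul, hQ₁, Polynomial.map_C]
    rcases Int.isUnit_iff.1 hcu with h | h <;> simp [h, f]
  obtain ⟨Q₀, hQ₀⟩ := hQint
  refine ⟨?_, Q₀, hQ₀⟩
  have hco : ∀ i, ∃ z : ℤ, (z : ℚ) = P.coeff i := fun i => ⟨PowerSeries.coeff i ((Q₀ : PowerSeries ℤ) * Z), by
    have := congrArg (PowerSeries.coeff (R := ℚ) i) hZ
    rw [Polynomial.coeff_coe] at this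
    rw [this, ← hQ₀, ← hφp]
    erw [← map_mul, PowerSeries.coeff_map]
    rfl⟩
  have hl : P ∈ Polynomial.lifts f := (Polynomial.lifts_iff_coeff_lifts P).2 fun i => hco i
  obtain ⟨P₀, hP₀⟩ := (Polynomial.mem_lifts P).1 hl
  exact ⟨P₀, hP₀⟩

end Groth.Agent.S8630
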