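import Groth.Statements.S8640
import Groth.Agent.ConeCoh.Basic

set_option autoImplicit false
set_option backward.isDefEq.respectTransparency false
set_option backward.isDefEq.respectTransparency.types false
universe u
open CategoryTheory CategoryTheory.Limits AlgebraicGeometry Opposite
open EtAcyc

namespace Groth.Agent.S8640

/-- Part (1): let k be a field, f ∈ k[x_0, …, x_n] a homogeneous polynomial, Z = Spec k[x_0, …, x_n]/(f)
the affine cone defined by f = 0, and i₀ : Spec k ⟶ Z its vertex, i.e. the k-point of Z lying over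
the origin of affine (n+1)-space. For every natural number r invertible in k and every i, the
restriction map H^i(Z_et, Z/r) ⟶ H^i((Spec k)_et, i₀^{-1}(Z/r)) is bijective. (Pullback on
cohomology is the shared prelude's, with exactness of i₀^{-1} carried as an instance hypothesis; it
always holds.) -/
theorem result (k : Type u) [Field k] (n d : ℕ)
    (f : MvPolynomial (Fin (n + 1)) k) (hf : f.IsHomogeneous d) (r : ℕ) (hr : (r : k) ≠ 0)
    (i₀ : Spec (CommRingCat.of k) ⟶ Spec (CommRingCat.of (MvPolynomial (Fin (n + 1)) k ⧸ Ideal.span {f})))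
    (hi₀ : i₀ ≫ Spec.map (CommRingCat.ofHom (Ideal.Quotient.mk (Ideal.span {f}))) =
      Spec.map (CommRingCat.ofHom (MvPolynomial.eval (fun _ : Fin (n + 1) => (0 : k)))))
    [PreservesFiniteLimits (EtCoh.pull i₀)] (i : ℕ) :
    Function.Bijective (EtCore.Hpull i₀
      (EtCoh.const (Spec (CommRingCat.of (MvPolynomial (Fin (n + 1)) k ⧸ Ideal.span {f}))) (ZMod r)) i) := by
  obtain ⟨e, rfl⟩ := Spec.map_surjective i₀
  have he : e.hom.comp (Ideal.Quotient.mk (Ideal.span {f})) = MvPolynomial.eval fun _ => (0 : k) := by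
    rw [← Spec.map_comp] at hi₀
    exact congrArg CommRingCat.Hom.hom (Spec.map_injective hi₀)
  have hC : ∀ c, e.hom (Ideal.Quotient.mk _ (MvPolynomial.C c)) = c := fun c =>
    (RingHom.congr_fun he _).trans (MvPolynomial.eval_C c)
  obtain ⟨h, h₁, h₀⟩ := ConeCoh.exists_contraction k (Ideal.span {f}) {f} rfl
    (fun p hp => ⟨d, Set.mem_singleton_iff.1 hp ▸ hf⟩) e.hom hC
    (fun j => (RingHom.congr_fun he _).trans (MvPolynomial.eval_X j))
  refine ConeCoh.bijective_Hpull_contractible (ε := e.hom) (algebraMap k _)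
    (RingHom.ext fun c => hC c) h h₁ h₀ r ?_ i
  rw [← map_natCast (algebraMap k _)]
  exact (isUnit_iff_ne_zero.2 hr).map _

end Groth.Agent.S8640
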