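import Groth.Statements.S8653
import Groth.Agent.KoszulLib.SchImm
import Groth.Agent.KoszulLib.Descent

set_option autoImplicit false
universe u
open CategoryTheory CategoryTheory.Limits AlgebraicGeometry
open RegImm

namespace Groth.Agent.S8653

/-- Being a Koszul-regular immersion is local for the faithfully flat quasi-compact topology. Let i : Y
⟶ X be an immersion, g : X' ⟶ X flat, surjective and quasi-compact, and i' : Y' ⟶ X' the base change
of i along g (a cartesian square). If i' is a Koszul-regular immersion, then so is i. -/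
theorem result {X Y X' Y' : Scheme.{u}} (i : Y ⟶ X) [IsImmersion i]
    (g : X' ⟶ X) [Flat g] [Surjective g] [QuasiCompact g]
    (i' : Y' ⟶ X') (g' : Y' ⟶ Y) (hsq : IsPullback g' i' i g)
    (hi' : RegImm.IsRegularImmersion .koszul i') : RegImm.IsRegularImmersion .koszul i := by
  refine ⟨inferInstance, fun z => ?_⟩
  obtain ⟨U, hz, hc⟩ := KoszulLib.exists_closed_nhd i z
  haveI : CompactSpace (g ⁻¹ᵁ U.1).toScheme :=
    isCompact_iff_compactSpace.mp (QuasiCompact.isCompact_preimage (f := g) _ U.1.isOpen U.2.isCompact)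
  let 𝒰 := (g ⁻¹ᵁ U.1).toScheme.affineCover.finiteSubcover
  let T := ∐ 𝒰.X
  let p : T ⟶ (g ⁻¹ᵁ U.1).toScheme := Sigma.desc 𝒰.f
  haveI : ∀ j, IsAffine (𝒰.X j) := fun j => inferInstanceAs (IsAffine ((g ⁻¹ᵁ U.1).toScheme.affineCover.finiteSubcover.X j))
  haveI : IsAffine T := inferInstance
  haveI : Flat p := IsZariskiLocalAtSource.sigmaDesc fun j => inferInstance
  have hps : ∀ x : (g ⁻¹ᵁ U.1).toScheme, ∃ t : T, p t = x := fun x => by
    obtain ⟨j, y, rfl⟩ := 𝒰.exists_eq x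
    exact ⟨Sigma.ι 𝒰.X j y, by rw [← Scheme.Hom.comp_apply]; simp [p]⟩
  let q : T ⟶ X' := p ≫ (g ⁻¹ᵁ U.1).ι
  let h : T ⟶ X := q ≫ g
  haveI : Flat q := inferInstance
  haveI : Flat h := inferInstance
  have e : (⊤ : T.Opens) ≤ h ⁻¹ᵁ U.1 := fun t _ => (p t).2
  have hT := IsPullback.of_hasPullback i' q
  have hreg := KoszulLib.isRegularImmersion_flat_baseChange hT hi'
  let W : T.affineOpens := ⟨⊤, isAffineOpen_top T⟩
  obtain ⟨hcl, hker⟩ := KoszulLib.ker_app_of_isPullback (hT.paste_horiz hsq) U hc W e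
  letI : Algebra Γ(X, U.1) Γ(T, W.1) := (h.appLE U.1 W.1 e).hom.toAlgebra
  haveI : Module.Flat Γ(X, U.1) Γ(T, W.1) := HasRingHomProperty.appLE @Flat h inferInstance U W e
  haveI : Module.FaithfullyFlat Γ(X, U.1) Γ(T, W.1) := by
    refine Module.FaithfullyFlat.of_comap_surjective fun P => ?_
    have hxU : U.2.fromSpec P ∈ U.1 := by
      show U.2.fromSpec P ∈ ((U.1 : X.Opens) : Set X)
      rw [← U.2.range_fromSpec]
      exact ⟨P, rfl⟩
    obtain ⟨x', hx'⟩ := g.surjective (U.2.fromSpec P)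
    obtain ⟨t, ht⟩ := hps ⟨x', show g x' ∈ U.1 from hx' ▸ hxU⟩
    refine ⟨W.2.primeIdealOf ⟨t, trivial⟩, PrimeSpectrum.ext ?_⟩
    refine (KoszulLib.comap_primeIdealOf h U W e t trivial).trans ?_
    congr 1
    apply U.2.fromSpec.isOpenEmbedding.injective
    rw [IsAffineOpen.fromSpec_primeIdealOf]
    show g ((g ⁻¹ᵁ U.1).ι (p t)) = _
    rw [ht]
    exact hx'
  refine (KoszulLib.isRegularImmersionAt_iff i U hc z hz).mpr
    (KoszulLib.kAt_of_faithfullyFlat (B := Γ(T, W.1)) (fun Q => ?_) (U.2.primeIdealOf ⟨i z, hz⟩))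
  have := KoszulLib.kAt_ker_of_regular _ hreg W hcl Q
  rw [hker] at this
  exact this

end Groth.Agent.S8653
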