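import Groth.Statements.S8662
import Groth.Agent.S8661
import Groth.Agent.S8656
import Groth.Agent.S8653
import Groth.Agent.KoszulLib.Iff

set_option autoImplicit false
universe u
open CategoryTheory CategoryTheory.Limits AlgebraicGeometry
open Synt

namespace Groth.Agent.S8662

open Groth.Agent in
/-- Isomorphisms are Koszul-regular immersions. -/
theorem isRegularImmersion_of_isIso {Z X : Scheme.{u}} (i : Z ⟶ X) [IsIso i] :
    RegImm.IsRegularImmersion .koszul i := by
  refine ⟨inferInstance, fun z => ?_⟩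
  obtain ⟨U, hU, hz, -⟩ := exists_isAffineOpen_mem_and_subset (X := X) (x := i z) (U := ⊤) trivial
  refine ⟨⟨U, hU⟩, hz, inferInstance, [], ?_, ?_⟩
  · show LCI.IsKoszulRegularSeq Γ(X, U) []
    have h := (KoszulLib.isKoszulRegularSeq_iff_acyclic (f := (Fin.elim0 : Fin 0 → Γ(X, U)))).2 (KoszulLib.acyclic_nil _)
    simpa using h
  · rw [Ideal.ofList_nil]
    exact (RingHom.injective_iff_ker_eq_bot _).1 (ConcreteCategory.bijective_of_isIso (i.app U)).1

open Groth.Agent in
/-- Open immersions are Koszul. -/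
theorem isKoszulAt_of_isOpenImmersion {U X : Scheme.{u}} (j : U ⟶ X) [IsOpenImmersion j] (x : U) :
    Synt.IsKoszulAt j x :=
  ⟨⊤, U, (⊤ : U.Opens).ι, j, trivial, inferInstance,
    @isRegularImmersion_of_isIso _ _ _ (inferInstanceAs (IsIso U.topIso.hom)), inferInstance, rfl⟩

/-- Let f : X ⟶ Y be a morphism, g : Y' ⟶ Y flat, surjective and quasi-compact, and f' : X' ⟶ Y' the
base change of f along g (a cartesian square). If f' is a local complete intersection morphism in
the factorisation sense (around each point, locally of finite type and factoring as a Koszul-regular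
immersion followed by a smooth morphism), then so is f. -/
theorem result {X Y X' Y' : Scheme.{u}} (f : X ⟶ Y) (g : Y' ⟶ Y) [Flat g] [Surjective g] [QuasiCompact g]
    (f' : X' ⟶ Y') (g' : X' ⟶ X) (hsq : IsPullback g' f' f g)
    (hf' : ∀ x' : X', Synt.IsKoszulAt f' x') : ∀ x : X, Synt.IsKoszulAt f x := by
  choose W P₀ i₀ π₀ hW hlft using hf'
  have hf' : ∀ x' : X', Synt.IsKoszulAt f' x' := fun x' =>
    ⟨W x', P₀ x', i₀ x', π₀ x', hW x', hlft x'⟩
  haveI : LocallyOfFiniteType f' :=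
    IsZariskiLocalAtSource.of_iSup_eq_top W (eq_top_iff.2 fun x' _ => TopologicalSpace.Opens.mem_iSup.2 ⟨x', hW x'⟩)
      fun x' => (hlft x').1
  haveI : LocallyOfFiniteType f :=
    MorphismProperty.of_isPullback_of_descendsAlong (Q := @Surjective ⊓ @Flat ⊓ @QuasiCompact) hsq.flip
      ⟨⟨inferInstance, inferInstance⟩, inferInstance⟩ ‹_›
  intro x
  obtain ⟨V, hV, hxV, -⟩ := exists_isAffineOpen_mem_and_subset (X := Y) (x := f x) (U := ⊤) trivial
  obtain ⟨U, hU, hxU, hUV⟩ := exists_isAffineOpen_mem_and_subset (X := X) (x := x) (U := f ⁻¹ᵁ V) hxV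
  letI : Algebra Γ(Y, V) Γ(X, U) := (f.appLE V U hUV).hom.toAlgebra
  haveI : Algebra.FiniteType Γ(Y, V) Γ(X, U) := f.finiteType_appLE hV hU hUV
  obtain ⟨n, φ, hφ⟩ := Algebra.FiniteType.iff_quotient_mvPolynomial''.1 ‹Algebra.FiniteType Γ(Y, V) Γ(X, U)›
  let Pk : Scheme.{u} := Spec (CommRingCat.of (MvPolynomial (Fin n) Γ(Y, V)))
  let c : Pk ⟶ Spec Γ(Y, V) := Spec.map (CommRingCat.ofHom (algebraMap Γ(Y, V) (MvPolynomial (Fin n) Γ(Y, V))))
  let π : Pk ⟶ Y := c ≫ hV.fromSpec
  let i : (U : Scheme.{u}) ⟶ Pk := hU.isoSpec.hom ≫ Spec.map (CommRingCat.ofHom φ.toRingHom)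
  haveI : Smooth c := (HasRingHomProperty.Spec_iff (P := @Smooth)).2
    (RingHom.smooth_algebraMap.2
      (⟨inferInstance, inferInstance⟩ : Algebra.Smooth Γ(Y, V) (MvPolynomial (Fin n) Γ(Y, V))))
  haveI : Smooth π := inferInstance
  haveI : IsClosedImmersion (Spec.map (CommRingCat.ofHom φ.toRingHom)) := IsClosedImmersion.spec_of_surjective _ hφ
  haveI : IsImmersion i := inferInstance
  have hfac : i ≫ π = U.ι ≫ f := by
    simp only [i, π, c, Category.assoc]
    rw [← Spec.map_comp_assoc, show CommRingCat.ofHom (algebraMap Γ(Y, V) (MvPolynomial (Fin n) Γ(Y, V))) ≫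
      CommRingCat.ofHom φ.toRingHom = f.appLE V U hUV from CommRingCat.hom_ext φ.comp_algebraMap,
      IsAffineOpen.SpecMap_appLE_fromSpec f hV hU hUV, IsAffineOpen.isoSpec_hom_fromSpec_assoc]
  refine ⟨U, Pk, i, π, hxU, inferInstance, ?_, inferInstance, hfac⟩
  let U' : X'.Opens := g' ⁻¹ᵁ U
  have hU' : IsPullback (g' ∣_ U) (U'.ι ≫ f') (U.ι ≫ f) g := (isPullback_morphismRestrict g' U).paste_vert hsq
  let i' : (U' : Scheme.{u}) ⟶ Limits.pullback π g := Limits.pullback.lift (g' ∣_ U ≫ i) (U'.ι ≫ f') (by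
    rw [Category.assoc, hfac]; exact hU'.w)
  have hi'1 : i' ≫ Limits.pullback.fst π g = g' ∣_ U ≫ i := Limits.pullback.lift_fst _ _ _
  have hi'2 : i' ≫ Limits.pullback.snd π g = U'.ι ≫ f' := Limits.pullback.lift_snd _ _ _
  have hsqi : IsPullback (g' ∣_ U) i' i (Limits.pullback.fst π g) := by
    refine IsPullback.of_bot ?_ hi'1.symm (IsPullback.of_hasPullback π g)
    rw [hi'2, hfac]
    exact hU'
  haveI : IsImmersion i' := MorphismProperty.of_isPullback hsqi ‹IsImmersion i›
  have hk : ∀ u, Synt.IsKoszulAt (U'.ι ≫ f') u :=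
    Groth.Agent.S8661.result U'.ι f' (fun u => isKoszulAt_of_isOpenImmersion _ u) hf'
  have hreg : RegImm.IsRegularImmersion .koszul i' :=
    Groth.Agent.S8656.result _ hk (Limits.pullback.snd π g) i' hi'2
  exact Groth.Agent.S8653.result i (Limits.pullback.fst π g) i' (g' ∣_ U) hsqi hreg

end Groth.Agent.S8662
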