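import Groth.Statements.S8666
import Mathlib.RingTheory.PicardGroup
import Mathlib.RingTheory.Localization.AtPrime.Basic

set_option autoImplicit false
universe u
open CAlg

namespace Groth.Agent.S8666

/-- Let A be a Noetherian ring, M an invertible A-module and p_1, …, p_k finitely many primes of A
(points of Spec A). Then there is a single element s ∈ M whose image generates M_{p_i} as an
A_{p_i}-module for every i, i.e. s is a basis of the stalk of M at each of the given points. -/
theorem result (A : Type u) [CommRing A] [IsNoetherianRing A]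
    (M : Type u) [AddCommGroup M] [Module A M] [Module.Invertible A M] (ι : Type) [Finite ι] (p : ι → PrimeSpectrum A) :
    ∃ s : M, ∀ i : ι, Submodule.span (Localization.AtPrime (p i).asIdeal)
      {LocalizedModule.mkLinearMap (p i).asIdeal.primeCompl M s} = ⊤ := by
  classical
  haveI := Fintype.ofFinite ι
  have hloc : ∀ P : PrimeSpectrum A, ∃ φ : M →ₗ[A] Localization.AtPrime P.asIdeal,
      (∃ m, IsUnit (φ m)) ∧ ∀ s, IsUnit (φ s) → Submodule.span (Localization.AtPrime P.asIdeal)
        {LocalizedModule.mkLinearMap P.asIdeal.primeCompl M s} = ⊤ := fun P => by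
    let T := Localization.AtPrime P.asIdeal
    haveI : Module.Free T (LocalizedModule P.asIdeal.primeCompl M) := inferInstance
    obtain ⟨e⟩ := (Module.Invertible.free_iff_linearEquiv (R := T) (M := LocalizedModule P.asIdeal.primeCompl M)).mp inferInstance
    refine ⟨(e.toLinearMap.restrictScalars A).comp (LocalizedModule.mkLinearMap P.asIdeal.primeCompl M), ?_, fun s hs => ?_⟩
    · obtain ⟨⟨m, t⟩, hm⟩ := IsLocalizedModule.surj P.asIdeal.primeCompl
        (LocalizedModule.mkLinearMap P.asIdeal.primeCompl M) (e.symm 1)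
      refine ⟨m, ?_⟩
      show IsUnit (e (LocalizedModule.mkLinearMap P.asIdeal.primeCompl M m))
      rw [← hm, Submonoid.smul_def, ← algebraMap_smul T (t : A), map_smul, e.apply_symm_apply, smul_eq_mul, mul_one]
      exact IsLocalization.map_units T t
    · rw [eq_top_iff]
      intro y _
      obtain ⟨u, hu⟩ := hs
      refine Submodule.mem_span_singleton.mpr ⟨e y * ↑u⁻¹, e.injective ?_⟩
      rw [map_smul, show e (LocalizedModule.mkLinearMap P.asIdeal.primeCompl M s) = u from hu.symm, smul_eq_mul,
        mul_assoc, Units.inv_mul, mul_one]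
  choose φ hφ hspan using hloc
  suffices ∀ F : Finset (PrimeSpectrum A), ∃ s : M, ∀ P ∈ F, IsUnit (φ P s) by
    obtain ⟨s, hs⟩ := this (Finset.univ.image p)
    exact ⟨s, fun i => hspan _ s (hs _ (Finset.mem_image_of_mem p (Finset.mem_univ i)))⟩
  intro F
  induction F using Finset.strongInduction with
  | H F ih =>
    rcases F.eq_empty_or_nonempty with rfl | hne
    · exact ⟨0, by simp⟩
    obtain ⟨P, hP, hmin⟩ : ∃ P ∈ F, ∀ Q ∈ F, Q ≤ P → Q = P := by
      obtain ⟨P, hP⟩ := F.exists_minimal hne
      exact ⟨P, hP.1, fun Q hQ hle => le_antisymm hle (hP.2 hQ hle)⟩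
    obtain ⟨s, hs⟩ := ih (F.erase P) (Finset.erase_ssubset hP)
    by_cases hsP : IsUnit (φ P s)
    · exact ⟨s, fun Q hQ => by
        by_cases h : Q = P
        · exact h ▸ hsP
        · exact hs Q (Finset.mem_erase.mpr ⟨h, hQ⟩)⟩
    have hex : ∀ Q : (F.erase P : Finset _), ∃ a, a ∈ Q.1.asIdeal ∧ a ∉ P.asIdeal := fun Q => by
      by_contra hcon
      push Not at hcon
      exact (Finset.mem_erase.mp Q.2).1 (hmin Q.1 (Finset.mem_erase.mp Q.2).2 hcon)
    choose a haQ haP using hex
    obtain ⟨m, hm⟩ := hφ P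
    refine ⟨s + (∏ Q, a Q) • m, fun Q hQ => ?_⟩
    rw [map_add, map_smul, Algebra.smul_def]
    by_cases h : Q = P
    · subst h
      have hu : IsUnit (algebraMap A (Localization.AtPrime Q.asIdeal) (∏ R, a R) * φ Q m) :=
        (IsLocalization.map_units (M := Q.asIdeal.primeCompl) _ ⟨∏ R, a R, fun hm => by
          obtain ⟨R, -, hR⟩ := Ideal.IsPrime.prod_mem_iff.1 hm
          exact haP R hR⟩).mul hm
      by_contra hc
      have h1 := (IsLocalRing.mem_maximalIdeal _).mpr hsP
      have h2 := (IsLocalRing.mem_maximalIdeal _).mpr (show ¬ IsUnit _ from hc)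
      have h3 := sub_mem h2 h1
      rw [add_sub_cancel_left] at h3
      exact (IsLocalRing.mem_maximalIdeal _).mp h3 hu
    · have hu := hs Q (Finset.mem_erase.mpr ⟨h, hQ⟩)
      by_contra hc
      have h2 := (IsLocalRing.mem_maximalIdeal _).mpr (show ¬ IsUnit _ from hc)
      have h1 : algebraMap A (Localization.AtPrime Q.asIdeal) (∏ R, a R) * φ Q m ∈
          IsLocalRing.maximalIdeal (Localization.AtPrime Q.asIdeal) := by
        refine Ideal.mul_mem_right _ _ ?_
        rw [← Localization.AtPrime.map_eq_maximalIdeal]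
        refine Ideal.mem_map_of_mem _ ?_
        exact Ideal.mem_of_dvd _ (Finset.dvd_prod_of_mem a (Finset.mem_univ (⟨Q, Finset.mem_erase.mpr ⟨h, hQ⟩⟩ : (F.erase P : Finset _)))) (haQ ⟨Q, Finset.mem_erase.mpr ⟨h, hQ⟩⟩)
      have h3 := sub_mem h2 h1
      rw [add_sub_cancel_right] at h3
      exact (IsLocalRing.mem_maximalIdeal _).mp h3 hu

end Groth.Agent.S8666
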