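import Groth.Statements.S8673
import Groth.Agent.K0ResLF.Nil
-- import your own Groth.Agent.* helpers here

set_option autoImplicit false
universe v u
open CategoryTheory CategoryTheory.Limits AlgebraicGeometry
attribute [local instance] HasDerivedCategory.standard
open scoped TensorProduct
open KRR

namespace Groth.Agent.S8673

/-- Let X be a connected quasi-compact scheme with an ample invertible O_X-module, (K, P, φ) a model of
the λ-ring K(X) of finite locally free modules (augmentation ε = rank), and A a commutative ring.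
Then y ∈ A ⊗_ℤ K(X) is invertible if and only if (id ⊗ ε)(y) ∈ A ⊗_ℤ ℤ is invertible; in particular
the class of a nowhere-zero bundle is invertible in K(X) ⊗ ℚ. (The published statement allows X
disconnected, with ε valued in H^0(X, ℤ); this row takes X connected, as the model requires.) -/
theorem result (X : Scheme.{u}) [ConnectedSpace ↥X] (L : X.Modules) (hL : CohB1.IsAmple L)
    (K : Type v) [CommRing K] [LambdaRing.LambdaOps K] (P : LambdaRing.PosStructure K) (φ : SGA6.Kvb X →+ K) (hK : KRR.IsModel X K P φ)
    (A : Type v) [CommRing A] (y : A ⊗[ℤ] K) :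
    IsUnit y ↔ IsUnit (Algebra.TensorProduct.map (AlgHom.id ℤ A) P.aug.toIntAlgHom y) := by
  refine ⟨fun h => h.map _, fun h => ?_⟩
  let s : A ⊗[ℤ] ℤ →ₐ[A] A ⊗[ℤ] K := Algebra.TensorProduct.map (AlgHom.id A A) (Int.castRingHom K).toIntAlgHom
  let π := Algebra.TensorProduct.map (AlgHom.id ℤ A) P.aug.toIntAlgHom
  have key : ∀ y : A ⊗[ℤ] K, IsNilpotent (y - s (π y)) := fun y => by
    induction y using TensorProduct.induction_on with
    | zero => simp
    | tmul a k =>
      have : a ⊗ₜ[ℤ] k - s (π (a ⊗ₜ[ℤ] k)) = a ⊗ₜ[ℤ] (k - ((P.aug k : ℤ) : K)) := by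
        rw [TensorProduct.tmul_sub]; rfl
      rw [this]
      obtain ⟨m, hm⟩ := K0ResLF.isNilpotent_of_aug_eq_zero hK hL (x := k - ((P.aug k : ℤ) : K)) (by simp)
      exact ⟨m, by rw [Algebra.TensorProduct.tmul_pow, hm, TensorProduct.tmul_zero]⟩
    | add y z hy hz =>
      rw [map_add, map_add, add_sub_add_comm]
      exact (Commute.all _ _).isNilpotent_add hy hz
  have h1 : IsUnit (s (π y)) := h.map s
  rw [← sub_add_cancel y (s (π y))]
  exact (key y).isUnit_add_right_of_commute h1 (Commute.all _ _)

end Groth.Agent.S8673
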