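import Groth.Statements.S8674
import Groth.Agent.TMul.AmpleBasis
import Groth.Agent.TMul.GlobGen
-- import your own Groth.Agent.* helpers here

set_option autoImplicit false
universe v u
open CategoryTheory CategoryTheory.Limits AlgebraicGeometry
attribute [local instance] HasDerivedCategory.standard
open KRR

namespace Groth.Agent.S8674

/-- Let X be a Noetherian scheme with an ample invertible O_X-module L, E an invertible O_X-module and
x_1, …, x_k finitely many points of X. Then there is an integer n such that for every k ≥ 1 there is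
a global section s : O_X ⟶ E ⊗ L^{⊗ kn} which is a basis of E ⊗ L^{⊗ kn} at every x_i (each x_i lies
in the largest open over which s is an isomorphism). -/
theorem result (X : Scheme.{u}) [IsNoetherian X] (L : X.Modules) (hL : CohB1.IsAmple L)
    (E : X.Modules) (hE : PicF.IsInvertible E) (ι : Type) [Finite ι] (x : ι → ↥X) :
    ∃ n : ℕ, ∀ k : ℕ, 1 ≤ k → ∃ s : Coh.structureModule X ⟶ CohB1.tensorMod E (CohB1.tensorPow L (k * n)),
      ∀ i : ι, x i ∈ CohB1.genLocus (CohB1.tensorMod E (CohB1.tensorPow L (k * n))) s := by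
  classical
  haveI : E.IsQuasicoherent := TMul.isQCoh_of_isInvertible hE
  have hFT : CohB1.IsFT E := TMul.isFT_of_isInvertible hE
  obtain ⟨n₀, hgen⟩ := TMul.exists_forall_genOn hL (F := E) hFT
  -- the points which specialise to no other one
  let Z : Set X := Set.range x
  have hZ : Z.Finite := Set.finite_range x
  let Z₀ : Set X := {z ∈ Z | ∀ w ∈ Z, z ⤳ w → w = z}
  have hmax : ∀ z ∈ Z, ∃ w ∈ Z₀, z ⤳ w := by
    intro z hz
    obtain ⟨w, ⟨hw, hzw⟩, hwmin⟩ := (hZ.subset (Set.sep_subset Z fun w => z ⤳ w)).exists_minimalFor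
      (fun w => closure {w}) _ ⟨z, hz, specializes_rfl⟩
    refine ⟨w, ⟨hw, fun v hv hwv => ?_⟩, hzw⟩
    exact (hwv.antisymm (specializes_iff_closure_subset.mpr
      (hwmin ⟨hv, hzw.trans hwv⟩ (specializes_iff_closure_subset.mp hwv)))).eq.symm
  haveI : Finite Z₀ := (hZ.subset (Set.sep_subset Z _)).to_subtype
  haveI := Fintype.ofFinite Z₀
  -- sections separating them
  have key : ∀ z : Z₀, ∃ (n : ℕ) (t : Coh.structureModule X ⟶ CohB1.tensorPow L (n + 1)),
      (z : X) ∈ CohB1.genLocus _ t ∧ ∀ w : Z₀, w ≠ z → (w : X) ∉ CohB1.genLocus _ t := by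
    intro z
    let V : X.Opens := ⟨(⋃ w : {w : Z₀ // w ≠ z}, closure {(w.1 : X)})ᶜ,
      (isClosed_iUnion_of_finite fun _ => isClosed_closure).isOpen_compl⟩
    have hzV : (z : X) ∈ V := fun h => by
      obtain ⟨w, hw⟩ := Set.mem_iUnion.mp h
      exact w.2 (Subtype.ext (w.1.2.2 z z.2.1 (specializes_iff_mem_closure.mpr hw)).symm)
    obtain ⟨n, t, h1, h2, -⟩ := TMul.exists_mem_le hL hzV
    exact ⟨n, t, h1, fun w hw h => (h2 h) (Set.mem_iUnion.mpr ⟨⟨w, hw⟩, subset_closure rfl⟩)⟩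
  choose a t hzt hw using key
  obtain ⟨N, hN⟩ : ∃ N, N + 1 = ∏ z, (a z + 1) :=
    ⟨_, Nat.sub_add_cancel (Finset.prod_pos fun z _ => Nat.succ_pos _)⟩
  choose t' ht' using fun z =>
    TMul.exists_genLocus_pow hL.1 (N := N) (hN ▸ Finset.dvd_prod_of_mem _ (Finset.mem_univ z)) (t z)
  refine ⟨n₀ + (N + 1), fun k hk => ?_⟩
  obtain ⟨m, hm⟩ : ∃ m, k * (n₀ + (N + 1)) = m + (N + 1) :=
    ⟨_, (Nat.sub_add_cancel ((Nat.le_add_left _ n₀).trans (Nat.le_mul_of_pos_left _ hk))).symm⟩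
  have hm0 : n₀ ≤ m := by nlinarith
  let M := CohB1.tensorMod E (CohB1.tensorPow L m)
  have hM : PicF.IsInvertible M := TMul.isInvertible_tensorMod hE (TMul.isInvertible_tensorPow hL.1 m)
  have hP : PicF.IsInvertible (CohB1.tensorPow L (N + 1)) := TMul.isInvertible_tensorPow hL.1 (N + 1)
  have hsec : ∀ z : Z₀, ∃ u : Coh.structureModule X ⟶ M, (z : X) ∈ CohB1.genLocus M u := fun z => by
    obtain ⟨D, hD, hzD, hg⟩ := hgen m hm0 (z : X)
    exact TMul.exists_mem_genLocus_of_genOn hM hD hg hzD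
  choose u hu using hsec
  obtain ⟨e⟩ := TMul.nonempty_powAddIso (L := L) m (N + 1)
  let φ : CohB1.tensorMod M (CohB1.tensorPow L (N + 1)) ≅
      CohB1.tensorMod E (CohB1.tensorPow L (k * (n₀ + (N + 1)))) :=
    TMul.assocIso _ _ _ ≪≫ PicGrp.tensorModIso (Iso.refl E)
      (e ≪≫ eqToIso (congrArg (CohB1.tensorPow L) hm.symm))
  let σ : Z₀ → (Coh.structureModule X ⟶ CohB1.tensorMod E (CohB1.tensorPow L (k * (n₀ + (N + 1))))) :=
    fun z => SecTwist.tmulHom (u z) (t' z) ≫ φ.hom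
  have hσ : ∀ z, CohB1.genLocus _ (σ z) = CohB1.genLocus _ (u z) ⊓ CohB1.genLocus _ (t' z) := fun z =>
    (TMul.genLocus_comp _ φ.hom).trans (TMul.genLocus_tmulHom hM hP (u z) (t' z))
  refine ⟨∑ z, σ z, fun i => ?_⟩
  obtain ⟨w, hw₀, hiw⟩ := hmax (x i) ⟨i, rfl⟩
  refine hiw.mem_open (CohB1.genLocus _ _).2 ?_
  refine TMul.mem_genLocus_sum σ (TMul.isInvertible_tensorMod hE (TMul.isInvertible_tensorPow hL.1 _))
    (j := ⟨w, hw₀⟩) ?_ fun z hz => ?_
  · rw [hσ, ht']; exact ⟨hu ⟨w, hw₀⟩, hzt ⟨w, hw₀⟩⟩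
  · rw [hσ, ht']; exact fun h => hw z ⟨w, hw₀⟩ (Ne.symm hz) h.2

end Groth.Agent.S8674
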