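import Groth.Statements.S8678
import Groth.Agent.Lambda.Gamma

set_option autoImplicit false
universe u
open Finset
open LambdaRing

namespace Groth.Agent.S8678

open LambdaRing Groth.Agent.Lambda

/-- As the identity it proves in the pre-λ-ring K(Y') of the exceptional divisor: let K be a pre-λ-ring
(λ^0 = 1, λ^1 = id, additive formula) with λ^k(1) = 0 for all k ≥ 2, let d ≥ 2, and let F, L, N' ∈ K
satisfy λ^j(L) = 0 for j ≥ 2 (L is the class of an invertible module), λ^i(N') = 0 for i ≥ d − 1 (N'
is the class of a bundle of rank d − 2) and F + L = N' + 2 (for the blowing up of a regular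
immersion of codimension d: on the exceptional divisor the pulled-back conormal class is F + L, and
N = N' + 2). Then 1 − L divides λ_{−1}(F) = Σ_{i<d} (−1)^i λ^i(F). (The published proof uses only
additivity of λ_t and λ_t(1) = 1 + t, the hypotheses taken here.) -/
theorem result (K : Type u) [CommRing K] [LambdaRing.LambdaOps K]
    (h1 : ∀ k : ℕ, 2 ≤ k → LambdaRing.LambdaOps.lam k (1 : K) = 0) (d : ℕ) (hd : 2 ≤ d) (F L N' : K)
    (hL : ∀ j : ℕ, 2 ≤ j → LambdaRing.LambdaOps.lam j L = 0) (hN' : ∀ i : ℕ, d - 1 ≤ i → LambdaRing.LambdaOps.lam i N' = 0)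
    (hrel : F + L = N' + 2) :
    (1 - L) ∣ ∑ i ∈ range d, (-1 : K) ^ i * LambdaRing.LambdaOps.lam i F := by
  rw [← Ideal.mem_span_singleton, ← Ideal.Quotient.eq_zero_iff_mem]
  set φ := Ideal.Quotient.mk (Ideal.span ({1 - L} : Set K))
  have hL' : φ L = 1 := by
    rw [← map_one φ, eq_comm, Ideal.Quotient.eq]
    exact Ideal.subset_span rfl
  have h2 : lamSeries (2 : K) = (1 + PowerSeries.X) ^ 2 := by exact_mod_cast lamSeries_natCast h1 2
  have key := congrArg (PowerSeries.map φ) (congrArg lamSeries hrel)
  rw [lamSeries_add, lamSeries_add, h2, lamSeries_line h1 hL] at key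
  simp only [map_mul, map_add, map_pow, map_one, PowerSeries.map_X, PowerSeries.map_C, hL',
    one_mul, pow_two] at key
  have hu : IsUnit (1 + PowerSeries.X : PowerSeries (K ⧸ Ideal.span ({1 - L} : Set K))) :=
    PowerSeries.isUnit_iff_constantCoeff.mpr (by simp)
  rw [← mul_assoc, hu.mul_left_inj] at key
  have hser : PowerSeries.map φ (lamSeries F) = PowerSeries.map φ (lamSeries (N' + 1)) := by
    rw [key, lamSeries_add, lamSeries_line h1 h1, map_mul, map_one]
    simp
  have hc : ∀ i, φ (LambdaOps.lam i F) = φ (LambdaOps.lam i (N' + 1)) := fun i => by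
    have := congrArg (PowerSeries.coeff i) hser
    simpa [lamSeries] using this
  obtain ⟨d, rfl⟩ := Nat.exists_eq_add_of_le' (le_trans one_le_two hd)
  rw [map_sum, Finset.sum_congr rfl fun i _ => show φ ((-1) ^ i * LambdaOps.lam i F) =
    φ ((-1) ^ i * LambdaOps.lam i (N' + 1)) by rw [map_mul, map_mul, hc], ← map_sum,
    alternating_sum_lam h1, hN' d (by omega), mul_zero, map_zero]

end Groth.Agent.S8678
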