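import Groth.Statements.S8693
import Groth.Agent.K0ResLF.Nil
-- import your own Groth.Agent.* helpers here

set_option autoImplicit false
universe v u
open CategoryTheory CategoryTheory.Limits AlgebraicGeometry
attribute [local instance] HasDerivedCategory.standard
open KRR

namespace Groth.Agent.S8693

/-- Let X be a connected quasi-compact scheme with an ample invertible O_X-module L, (K, P, φ) a model
of the λ-ring K(X) of finite locally free modules with its positive structure (augmentation ε =
rank), and E_1, …, E_k finite locally free O_X-modules. Let R ⊆ K(X) be the subring generated by the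
elements λ^j[E_i] for all i and j, which is the sub-λ-ring generated by the classes [E_i]. Then the
ideal R ∩ Ker ε of R is nilpotent: there is n such that every product of n elements of R of
augmentation zero vanishes; and R is finitely generated as an abelian group. (The published
statement allows X disconnected, with R a module of finite type over R ∩ H^0(X, ℤ), and also asserts
that the λ-ring filtration of R is discrete; this row takes X connected, as the model requires, and
states the nilpotency and the finite generation over the integers.) -/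
theorem result (X : Scheme.{u}) [ConnectedSpace ↥X] (L : X.Modules) (hL : CohB1.IsAmple L)
    (K : Type v) [CommRing K] [LambdaRing.LambdaOps K] (P : LambdaRing.PosStructure K) (φ : SGA6.Kvb X →+ K)
    (hK : KRR.IsModel X K P φ)
    (k : ℕ) (E : Fin k → X.Modules) (hE : ∀ i : Fin k, FlatMod.IsFinLocFree (E i)) :
    (∃ n : ℕ, ∀ f : Fin n → K,
      (∀ t : Fin n, f t ∈ Subring.closure {y : K | ∃ (i : Fin k) (j : ℕ), y = LambdaRing.LambdaOps.lam j (φ (KRR.cl X (E i)))} ∧ P.aug (f t) = 0) →
        ∏ t, f t = 0) ∧
    (Subring.closure {y : K | ∃ (i : Fin k) (j : ℕ), y = LambdaRing.LambdaOps.lam j (φ (KRR.cl X (E i)))}).toAddSubgroup.FG := by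
  classical
  set T : Set K := {y : K | ∃ (i : Fin k) (j : ℕ), y = LambdaRing.LambdaOps.lam j (φ (KRR.cl X (E i)))} with hT
  set R := Subring.closure T
  have lam0 : ∀ j : ℕ, 1 ≤ j → LambdaRing.LambdaOps.lam j (0 : K) = 0 := by
    intro j
    induction j using Nat.strong_induction_on with
    | _ j ih =>
      intro hj
      obtain ⟨i, rfl⟩ : ∃ i, j = i + 1 := ⟨j - 1, by omega⟩
      have e := LambdaRing.LambdaOps.lam_add (i + 1) (0 : K) 0
      rw [add_zero, Finset.sum_range_succ, Finset.sum_range_succ', Nat.sub_self,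
        LambdaRing.LambdaOps.lam_zero, one_mul, mul_one, Nat.sub_zero,
        Finset.sum_eq_zero fun l hl => ?_, zero_add] at e
      · exact left_eq_add.1 e
      · rw [ih (l + 1) (by simp at hl; omega) (by omega), zero_mul]
  let d := fun i => SGA6Ext.rank (E i)
  have hfin : T.Finite := by
    refine ((Set.finite_range fun p : Σ i : Fin k, Fin (d i + 1) =>
      LambdaRing.LambdaOps.lam p.2.1 (φ (KRR.cl X (E p.1)))).insert 0).subset ?_
    rintro y ⟨i, j, rfl⟩
    by_cases hj : j ≤ d i
    · exact Or.inr ⟨⟨i, ⟨j, by omega⟩⟩, rfl⟩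
    refine Or.inl ?_
    rcases Nat.eq_zero_or_pos (d i) with h0 | h0
    · have hz : IsZero (E i) := SGA6Ext.isZero_of_rank_zero (h0 ▸ SGA6Ext.isRank (hE i))
      rw [show KRR.cl X (E i) = 0 from K0Dev.cl_zero hz, map_zero]
      exact lam0 j (by omega)
    · refine P.lam_eq_zero _ ((hK.mem_pos_iff _).2 ⟨_, _, h0, SGA6Ext.isRank (hE i), rfl⟩) j ?_
      rw [hK.aug_cl _ _ (SGA6Ext.isRank (hE i))]
      exact_mod_cast Nat.lt_of_not_le hj
  have hint : ∀ y : K, IsIntegral ℤ y := fun y => by
    obtain ⟨N, hN⟩ := K0ResLF.isNilpotent_of_aug_eq_zero hK hL (x := y - ((P.aug y : ℤ) : K)) (by simp)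
    exact ⟨(Polynomial.X - Polynomial.C (P.aug y)) ^ N, (Polynomial.monic_X_sub_C _).pow N, by
      rw [Polynomial.eval₂_pow, Polynomial.eval₂_sub, Polynomial.eval₂_X, Polynomial.eval₂_C]; exact hN⟩
  have hfg : R.toAddSubgroup.FG := by
    have h1 := fg_adjoin_of_finite hfin (fun y _ => hint y)
    have e : (Algebra.adjoin ℤ T).toSubmodule.toAddSubgroup = R.toAddSubgroup := by
      ext z
      show z ∈ Algebra.adjoin ℤ T ↔ z ∈ R
      rw [Algebra.adjoin_int]; rfl
    rw [← e, ← Submodule.fg_iff_addSubgroup_fg]
    exact h1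
  refine ⟨?_, hfg⟩
  haveI : AddGroup.FG R := (AddGroup.fg_iff_addSubgroup_fg _).2 hfg
  haveI : Module.Finite ℤ R := Module.Finite.iff_addGroup_fg.2 inferInstance
  haveI : IsNoetherianRing R := isNoetherianRing_iff.2 (isNoetherian_of_tower ℤ inferInstance)
  obtain ⟨n, hn⟩ := IsNoetherianRing.isNilpotent_nilradical R
  refine ⟨n, fun f hf => ?_⟩
  have hmem : ∀ t, (⟨f t, (hf t).1⟩ : R) ∈ nilradical R := fun t => by
    obtain ⟨N, hN⟩ := K0ResLF.isNilpotent_of_aug_eq_zero hK hL (hf t).2
    exact ⟨N, Subtype.ext (by simpa using hN)⟩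
  have h2 : ∏ t, (⟨f t, (hf t).1⟩ : R) ∈ ∏ _t : Fin n, nilradical R :=
    Ideal.prod_mem_prod fun t _ => hmem t
  rw [Finset.prod_const, Finset.card_univ, Fintype.card_fin, hn, Ideal.zero_eq_bot, Ideal.mem_bot] at h2
  simpa using congrArg Subtype.val h2

end Groth.Agent.S8693
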