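import Groth.Statements.S8694
import Groth.Agent.K0ResLF.SelfInt
-- import your own Groth.Agent.* helpers here

set_option autoImplicit false
universe v w u
open CategoryTheory CategoryTheory.Limits AlgebraicGeometry
attribute [local instance] HasDerivedCategory.standard
open KRR

set_option linter.style.haveILetI false
namespace Groth.Agent.S8694

/-- Let X be a connected quasi-compact scheme with an ample invertible O_X-module L, and i : Y ⟶ X a
Koszul-regular closed immersion (ideal locally generated by a sequence whose Koszul complex is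
acyclic in nonzero degrees) with Y connected, whose conormal sheaf N is finite locally free. Let
(K_Y, P_Y, φ_Y) and (K_X, P_X, φ_X) be models of the λ-rings K(Y) and K(X) of finite locally free
modules with their positive structures, and i_K : K(Y) → K(X) the push-forward (on the class of a
finite locally free F it is the alternating sum of the terms of any finite locally free resolution
of i_*F). Put λ_{−1}(N) = Σ_{p ≤ rank N} (−1)^p λ^p[N]. Then i_K(x · y · λ_{−1}(N)) = i_K(x) ·
i_K(y) for all x, y ∈ K(Y). (The published statement allows X and Y disconnected; this row takes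
them connected, as the models require.) -/
theorem result {X Y : Scheme.{u}} [ConnectedSpace ↥X] [ConnectedSpace ↥Y]
    (L : X.Modules) (hL : CohB1.IsAmple L)
    (i : Y ⟶ X) [IsClosedImmersion i] (hi : RegImm.IsRegularImmersion .koszul i)
    (hN : FlatMod.IsFinLocFree (Omega.conormal i))
    (KY : Type v) [CommRing KY] [LambdaRing.LambdaOps KY] (PY : LambdaRing.PosStructure KY) (φY : SGA6.Kvb Y →+ KY)
    (hKY : KRR.IsModel Y KY PY φY)
    (KX : Type w) [CommRing KX] [LambdaRing.LambdaOps KX] (PX : LambdaRing.PosStructure KX) (φX : SGA6.Kvb X →+ KX)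
    (hKX : KRR.IsModel X KX PX φX)
    (g : KY →+ KX) (hg : KRR.IsPushCl i φY φX g) (x y : KY) :
    g (x * y * KRR.lamAlt PY (φY (KRR.cl Y (Omega.conormal i)))) = g x * g y := by
  haveI : CompactSpace ↥X := hL.2.1
  have hK := K0ResLF.isKoszul_of_isRegularImmersion hi
  have hR := ResDesc.hasResolutionProperty_of_isAmple L hL
  let lam := KRR.lamAlt PY (φY (KRR.cl Y (Omega.conormal i)))
  have main : ∀ F G : Y.Modules, FlatMod.IsFinLocFree F → FlatMod.IsFinLocFree G →
      g (φY (KRR.cl Y F) * φY (KRR.cl Y G) * lam) = g (φY (KRR.cl Y F)) * g (φY (KRR.cl Y G)) := by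
    intro F G hF hG
    obtain ⟨n, L₁, π, hL₁⟩ := K0ResLF.hasLFRes_push_koszul hR hK hF
    have hresG := K0ResLF.hasLFRes_push_koszul hR hK hG
    rw [mul_right_comm, show φY (KRR.cl Y F) * lam = _ from
      (K0ResLF.self_intersection hK hN hKY hF hL₁).symm, hg F hF n L₁ π hL₁, Finset.sum_mul, Finset.sum_mul, map_sum]
    refine Finset.sum_congr rfl fun k _ => ?_
    rw [smul_mul_assoc, smul_mul_assoc, map_zsmul, mul_comm _ (φY (KRR.cl Y G)),
      K0ResLF.push_mul_cl hKX.map_mul hKY.map_mul hg hG hresG (hL₁.finLocFree k), mul_comm (φX (KRR.cl X (L₁.X k)))]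
  have h1 : ∀ F : Y.Modules, FlatMod.IsFinLocFree F → ∀ z, g (φY (KRR.cl Y F) * z * lam) = g (φY (KRR.cl Y F)) * g z :=
    fun F hF => DFunLike.congr_fun (K0ResLF.model_hom_ext hKY.bijective
      (a := g.comp ((AddMonoidHom.mulRight lam).comp (AddMonoidHom.mulLeft (φY (KRR.cl Y F)))))
      (b := (AddMonoidHom.mulLeft (g (φY (KRR.cl Y F)))).comp g) fun G hG => main F G hF hG)
  exact DFunLike.congr_fun (K0ResLF.model_hom_ext hKY.bijective
    (a := g.comp ((AddMonoidHom.mulRight lam).comp (AddMonoidHom.mulRight y)))
    (b := (AddMonoidHom.mulRight (g y)).comp g) fun F hF => h1 F hF y) x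

end Groth.Agent.S8694
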